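import Groth.Statements.S3033
import Groth.Agent.GrpFieldLib.HomogDim

set_option autoImplicit false
universe u
open CategoryTheory MonoidalCategory CartesianMonoidalCategory MonObj GrpObj AlgebraicGeometry TensorProduct
open SGA3

namespace Groth.Agent.S3033

/-- Let A be a local artinian ring and G a group scheme locally of finite type over A acting on a
nonempty A-scheme X locally of finite type, such that the morphism G ×_A X → X ×_A X, (g, x) ↦ (g·x,
x), is surjective. Then all connected components of X have the same dimension. The published
statement also asserts that the connected components are irreducible; that is not asserted here (it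
is stated separately). -/
theorem result (A : Type u) [CommRing A] [IsArtinianRing A] [IsLocalRing A]
    (G X : Over (Spec (CommRingCat.of A))) [GrpObj G] [LocallyOfFiniteType G.hom] [LocallyOfFiniteType X.hom] [Nonempty X.left]
    (a : AlgGrp.Action G X) (hΦ : Surjective (lift a.act (snd G X)).left) (x y : X.left) :
    topologicalKrullDim ↥(connectedComponent x) = topologicalKrullDim ↥(connectedComponent y) := by
  let ρ := CommRingCat.ofHom (IsLocalRing.residue A)
  let f := Spec.map ρ
  haveI : IsClosedImmersion f := IsClosedImmersion.spec_of_surjective _ IsLocalRing.residue_surjective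
  haveI : Subsingleton ↥(Spec (CommRingCat.of A)) := ⟨fun p q => by
    have h : ∀ p : PrimeSpectrum A, p = IsLocalRing.closedPoint A := fun p => PrimeSpectrum.ext
      (IsLocalRing.eq_maximalIdeal (IsArtinianRing.isMaximal_of_isPrime p.asIdeal))
    rw [h p, h q]⟩
  haveI : Surjective f := ⟨fun p => ⟨IsLocalRing.closedPoint (IsLocalRing.ResidueField A), Subsingleton.elim _ _⟩⟩
  let G₀ := (Over.pullback f).obj G
  let X₀ := (Over.pullback f).obj X
  letI : GrpObj ((Over.pullback f).obj G) := CategoryTheory.Functor.grpObjObj
  haveI : LocallyOfFiniteType G₀.hom := inferInstanceAs (LocallyOfFiniteType (Limits.pullback.snd G.hom f))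
  haveI : LocallyOfFiniteType X₀.hom := inferInstanceAs (LocallyOfFiniteType (Limits.pullback.snd X.hom f))
  haveI : IsLocallyNoetherian X₀.left := LocallyOfFiniteType.isLocallyNoetherian X₀.hom
  let p : X₀.left ⟶ X.left := Limits.pullback.fst X.hom f
  haveI : IsClosedImmersion p := inferInstanceAs (IsClosedImmersion (Limits.pullback.fst X.hom f))
  haveI : Surjective p := inferInstanceAs (Surjective (Limits.pullback.fst X.hom f))
  let e : ↥X₀.left ≃ₜ ↥X.left := p.isClosedEmbedding.isEmbedding.toHomeomorphOfSurjective p.surjective
  have hcc : ∀ z, topologicalKrullDim ↥(connectedComponent z) = topologicalKrullDim ↥(connectedComponent (e z)) := fun z =>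
    ((e.image (connectedComponent z)).trans (Homeomorph.setCongr (show e '' connectedComponent z = connectedComponent (e z) from by simpa [connectedComponentIn_univ] using e.image_connectedComponentIn (Set.mem_univ z)))).isHomeomorph.topologicalKrullDim_eq
  obtain ⟨x₀, rfl⟩ := e.surjective x
  obtain ⟨y₀, rfl⟩ := e.surjective y
  rw [← hcc, ← hcc]
  exact Groth.Agent.GrpFieldLib.topologicalKrullDim_connectedComponent_eq
    (Groth.Agent.GrpFieldLib.bcAction f a) (Groth.Agent.GrpFieldLib.surjective_bcAction f a hΦ) x₀ y₀

end Groth.Agent.S3033
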