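import Groth.Statements.S2928
import Groth.Agent.ExtShX.PnLocal

set_option autoImplicit false
set_option backward.isDefEq.respectTransparency false
set_option backward.isDefEq.respectTransparency.types false
universe u
open CategoryTheory AlgebraicGeometry
open ProjDual

namespace Groth.Agent.S2928

/-- (i)⇔(ii): Let k be a field, X = P^r_k, F a coherent O_X-module and n ≥ 0. Then H^i(X, F(−m)) = 0 for
all i ≤ n and all sufficiently large m if and only if at every closed point x of X the stalk F_x has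
depth greater than n over O_{X,x}. -/
theorem result (k : Type u) [Field k] (r : ℕ) (F : (CohB1.ProjSpace r k).Modules) (hF : Coh.IsCoh F) (n : ℕ) : (∃ m₀ : ℤ, ∀ m : ℤ, m₀ ≤ m → ∀ i : ℕ, i ≤ n → Subsingleton (Coh.HH (CohB1.ProjSpace r k) (Twist.twistBy _ F (-m)) i)) ↔ ∀ x : (CohB1.ProjSpace r k), IsClosed ({x} : Set (CohB1.ProjSpace r k)) → (n : ℕ∞) < LocCoh.depth ((CohB1.ProjSpace r k).presheaf.stalk x) (F.presheaf.stalk x) := by
  classical
  haveI := ExtShX.isLocallyNoetherian_pn (k := k) (r := r)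
  have key : ∀ x : (CohB1.ProjSpace r k),
      ((n : ℕ∞) < LocCoh.depth ((CohB1.ProjSpace r k).presheaf.stalk x) (F.presheaf.stalk x) ↔
        ∀ i, i ≤ n → Subsingleton (LocCoh.H (IsLocalRing.maximalIdeal ((CohB1.ProjSpace r k).presheaf.stalk x)) i (F.presheaf.stalk x))) := fun x => by
    haveI : Module.Finite ((CohB1.ProjSpace r k).presheaf.stalk x) (F.presheaf.stalk x) :=
      QCoh.finite_stalk_of_isFT hF.1 hF.2 x
    rw [← ENat.add_one_le_iff (ENat.natCast_ne_top n), ← Nat.cast_one, ← Nat.cast_add]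
    refine (LC.le_idealDepth_iff_H (IsLocalRing.maximalIdeal _) (F.presheaf.stalk x) (n + 1)).trans ?_
    exact ⟨fun h i hi => h i (Nat.lt_succ_of_le hi), fun h i hi => h i (Nat.le_of_lt_succ hi)⟩
  constructor
  · rintro ⟨m₀, hm⟩ x hx
    exact (key x).2 fun i hi => (ExtShX.twist_vanishing_iff_H hF i).1 ⟨m₀, fun m hm' => hm m hm' i hi⟩ x hx
  · intro h
    choose m hm using fun i : Fin (n + 1) =>
      (ExtShX.twist_vanishing_iff_H hF (i : ℕ)).2 fun x hx => (key x).1 (h x hx) i (Nat.le_of_lt_succ i.2)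
    refine ⟨Finset.univ.sup' Finset.univ_nonempty m, fun j hj i hi => ?_⟩
    exact hm ⟨i, Nat.lt_succ_of_le hi⟩ j ((Finset.le_sup' m (Finset.mem_univ _)).trans hj)

end Groth.Agent.S2928
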