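import Groth.Statements.S14199
import Groth.Agent.ASBunLib.IndexMain
import Groth.Agent.ASBunLib.IndexArith
import Groth.Agent.ParaFX.TrivDesc
-- import your own Groth.Agent.* helpers here

set_option autoImplicit false
set_option backward.isDefEq.respectTransparency false
set_option backward.isDefEq.respectTransparency.types false
set_option linter.style.haveILetI false
set_option maxHeartbeats 1000000
universe u
open CategoryTheory CategoryTheory.Limits AlgebraicGeometry
open ASBun

namespace Groth.Agent.S14199
open Groth.Agent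

/-- Let A be a central simple algebra of degree n ≥ 1 over a field k (of dimension n² over k), X a
proper k-scheme which is the Severi–Brauer scheme of A (for every commutative k-algebra R its
R-points over k are, naturally in R, the left ideals of R ⊗_k A with projective quotient of rank n²
− n), K an algebraic closure of k and e a K-isomorphism X_K ≅ P^{n−1}_K, along which O_e(j) denotes
the pullback of the twisting sheaf O(j); let p be the period of A (the least p ≥ 1 for which the
p-fold tensor power of A is a full matrix algebra over k), a an integer, and W an indecomposable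
finite locally free O_X-module (nonzero, and in any decomposition as a direct sum one summand is
zero) with W_K ≅ O_e(ap)^{⊕r}, r ≥ 1. Then W is an invertible O_X-module and r = 1: the
indecomposable module of type O(ap) is the descent of O(ap) to X. -/
theorem result (k : Type u) [Field k] (A : Type u) [Ring A] [Algebra k A]
    [Algebra.IsCentral k A] [IsSimpleRing A] (n : ℕ) (hn : 0 < n)
    (hA : Module.finrank k A = n * n) {X : Scheme.{u}} (f : X ⟶ Spec (CommRingCat.of k))
    [IsProper f] (hX : BrSev.IsSBOf k A (n * n - n) f)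
    (K : Type u) [Field K] [Algebra k K] [IsAlgClosure k K] (e : BrSev.Splitting f K (n - 1))
    (p : ℕ) (hp : CSAGal.IsPeriod k A p) (a : ℤ)
    (W : X.Modules) (hW : FlatMod.IsFinLocFree W)
    (hWi : (¬ IsZero W ∧ ∀ M₁ M₂ : X.Modules, Nonempty (W ≅ M₁ ⊞ M₂) → IsZero M₁ ∨ IsZero M₂))
    (r : ℕ) (hr : 0 < r) (hWt : BrSev.IsTwPow e (a * (p : ℤ)) r W) :
    PicF.IsInvertible W ∧ r = 1 := by
  obtain ⟨m, rfl⟩ : ∃ m, n = m + 1 := ⟨n - 1, by omega⟩
  letI : X.Over (Spec (CommRingCat.of k)) := ⟨f⟩
  haveI : IsProper (X ↘ Spec (CommRingCat.of k)) := ‹IsProper f›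
  haveI : Module.Finite k A := Module.finite_of_finrank_pos (by rw [hA]; positivity)
  have hI := Groth.Agent.ASBunLib.isIndex_tpow_of_ind hA hX (e : BrSev.Splitting f K m) (a * (p : ℤ)) hW hWi hr hWt
  obtain ⟨_, _, _⟩ := Groth.Agent.CSALib.centralSimple_pow k A (a * (p : ℤ)).natAbs
  have hs : Groth.Agent.CSALib.Similar k (CSAGal.tpow k A (a * (p : ℤ)).natAbs) k :=
    (Groth.Agent.CSALib.isPeriod_iff hp _).2 ⟨a.natAbs, by rw [Int.natAbs_mul, Int.natAbs_natCast, mul_comm]⟩
  obtain rfl : r = 1 := Groth.Agent.CSALib.isIndex_unique hI (Groth.Agent.ASBunLib.isIndex_one_of_split hs)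
  refine ⟨?_, rfl⟩
  obtain ⟨eW⟩ := hWt
  letI : (BrSev.bc f K).Over (Spec (CommRingCat.of K)) := ⟨BrSev.bcTo f K⟩
  haveI : IsProper ((BrSev.bc f K) ↘ Spec (CommRingCat.of K)) :=
    inferInstanceAs (IsProper (Limits.pullback.snd f (Spec.map (CommRingCat.ofHom (algebraMap k K)))))
  obtain ⟨h1, h2⟩ := Groth.Agent.ASBunLib.flat_surjective_proj (k := k) (K := K) (X := X) (X' := BrSev.bc f K)
    (π := BrSev.proj f K) (show IsPullback (BrSev.proj f K) ((BrSev.bc f K) ↘ Spec (CommRingCat.of K))
      (X ↘ Spec (CommRingCat.of k)) (Spec.map (CommRingCat.ofHom (algebraMap k K))) from IsPullback.of_hasPullback _ _)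
  haveI := h1
  haveI := h2
  haveI : QuasiCompact (BrSev.proj f K) :=
    MorphismProperty.pullback_fst _ _ (inferInstance : QuasiCompact (Spec.map (CommRingCat.ofHom (algebraMap k K))))
  exact Groth.Agent.ParaFX.isInvertible_of_pullback (BrSev.proj f K) (Groth.Agent.QCoh.isQCoh_of_isFinLocFree hW)
    (Groth.Agent.H23.PicMul.isInvertible_of_iso
      (eW ≪≫ (Groth.Agent.ASBunLib.nonempty_powM_one _).some).symm (Groth.Agent.ASBunLib.isInvertible_twist e _))

end Groth.Agent.S14199
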