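import Groth.Statements.S9349
import Groth.Agent.QCoh.FlatOver
import Groth.Agent.QCoh.Qcqs

set_option autoImplicit false
set_option backward.isDefEq.respectTransparency false
set_option backward.isDefEq.respectTransparency.types false
universe u
open FlatMod

namespace Groth.Agent.S9349

open AlgebraicGeometry CategoryTheory in
/-- Let f : X → Y be an affine morphism of S-schemes, with q : Y → S, and F a quasi-coherent O_X-module.
Flatness of F over S (along f ≫ q) is equivalent to flatness of f_*F over S (along q). -/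
theorem result {X Y S : Scheme.{u}} (f : X ⟶ Y) [IsAffineHom f] (q : Y ⟶ S)
    (F : X.Modules) (hF : Coh.IsQCoh F) :
    FlatMod.IsFlatOver (f ≫ q) F ↔ FlatMod.IsFlatOver q ((Coh.push f).obj F) := by
  have hP : Coh.IsQCoh ((Coh.push f).obj F) := QCoh.isQCoh_pushforward f hF
  have key : ∀ (U : Y.Opens) (hU : IsAffineOpen U) (V : S.Opens) (hV : IsAffineOpen V) (hle : U ≤ q ⁻¹ᵁ V),
      (∀ x ∈ f ⁻¹ᵁ U, FlatMod.IsFlatOverAt (f ≫ q) F x) ↔
        ∀ y ∈ U, FlatMod.IsFlatOverAt q ((Coh.push f).obj F) y := by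
    intro U hU V hV hle
    have hle' : f ⁻¹ᵁ U ≤ (f ≫ q) ⁻¹ᵁ V := fun x hx => hle hx
    rw [← QCoh.flat_appLE_iff (f ≫ q) hF (hU.preimage f) hV hle', ← QCoh.flat_appLE_iff q hP hU hV hle]
    letI m1 : Module Γ(S, V) Γ(F, f ⁻¹ᵁ U) := Module.compHom _ ((f ≫ q).appLE V (f ⁻¹ᵁ U) hle').hom
    letI m2 : Module Γ(S, V) Γ((Coh.push f).obj F, U) := Module.compHom _ (q.appLE V U hle).hom
    let e : Γ((Coh.push f).obj F, U) ≃ₗ[Γ(S, V)] Γ(F, f ⁻¹ᵁ U) :=
      { AddEquiv.refl _ with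
        map_smul' := fun a (m : Γ(F, f ⁻¹ᵁ U)) => by
          show (f.app U (q.appLE V U hle a)) • m = ((f ≫ q).appLE V (f ⁻¹ᵁ U) hle' a) • m
          rw [← Scheme.Hom.appLE_comp_appLE f q V U (f ⁻¹ᵁ U) hle le_rfl, Scheme.Hom.appLE_eq_app]
          rfl }
    exact ⟨fun _ => Module.Flat.of_linearEquiv e, fun _ => Module.Flat.of_linearEquiv e.symm⟩
  constructor
  · intro h y
    obtain ⟨_, ⟨V, hV, rfl⟩, hyV, -⟩ :=
      S.isBasis_affineOpens.exists_subset_of_mem_open (Set.mem_univ (q y)) isOpen_univ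
    obtain ⟨_, ⟨U, hU, rfl⟩, hyU, hle⟩ :=
      Y.isBasis_affineOpens.exists_subset_of_mem_open (show y ∈ q ⁻¹ᵁ V from hyV) (q ⁻¹ᵁ V).2
    exact (key U hU V hV hle).1 (fun x _ => h x) y hyU
  · intro h x
    obtain ⟨_, ⟨V, hV, rfl⟩, hyV, -⟩ :=
      S.isBasis_affineOpens.exists_subset_of_mem_open (Set.mem_univ (q (f x))) isOpen_univ
    obtain ⟨_, ⟨U, hU, rfl⟩, hyU, hle⟩ :=
      Y.isBasis_affineOpens.exists_subset_of_mem_open (show f x ∈ q ⁻¹ᵁ V from hyV) (q ⁻¹ᵁ V).2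
    exact (key U hU V hV hle).2 (fun y _ => h y) x hyU

end Groth.Agent.S9349
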