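import Groth.Statements.S1025
import Groth.Agent.CohPullLib.ModelFibre
import Groth.Agent.FlatCxLib.Rank

set_option autoImplicit false
universe u
open CategoryTheory AlgebraicGeometry
open Perf

namespace Groth.Agent.S1025

/-- Let f : X ⟶ S be proper and of finite presentation and F an O_X-module of finite presentation which
is flat over S. For each i the function s ↦ dim_{κ(s)} Hⁱ(X_s, F_s) (cohomology of the pullback of F
to the scheme-theoretic fibre) is upper semicontinuous: for every n the set of points where it is <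
n is open. -/
theorem result {X S : Scheme.{u}} (f : X ⟶ S) [IsProper f] [LocallyOfFinitePresentation f]
    (F : X.Modules) (hF : CohB1.IsFP F) (hflat : FlatMod.IsFlatOver f F) (i n : ℕ) :
    IsOpen {s : S | PerfAux.betti f F s i < n} := by
  classical
  have hq : Coh.IsQCoh F := Groth.Agent.QCoh.isQCoh_of_isFP hF
  have hfun : ∀ s, PerfAux.betti f F s i = CohIII.fiberRank f F i s := fun _ => rfl
  rw [isOpen_iff_mem_nhds]
  intro s hs
  obtain ⟨V, hV, hsV, -⟩ := exists_isAffineOpen_mem_and_subset (x := s) (U := (⊤ : S.Opens)) trivial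
  obtain ⟨P, hP⟩ := Groth.Agent.CohPullLib.exists_isModel hq hF hflat hV
  have hfp : ∀ j, Module.FinitePresentation Γ(S, V) (P.X j) := fun j =>
    haveI := hP.1 j
    haveI := hP.2.1 j
    Module.finitePresentation_of_projective _ _
  have husc := Groth.Agent.FlatCxLib.upperSemicontinuous_dRank P hfp (fun j => hP.flat j) (-(i : ℤ))
  have hopen : IsOpen {x : PrimeSpectrum Γ(S, V) | CohIII.dRank P (-(i : ℤ)) x < n} :=
    husc.isOpen_preimage n
  have hV' : IsOpen {v : V | CohIII.dRank P (-(i : ℤ)) (hV.primeIdealOf v) < n} :=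
    hopen.preimage hV.isoSpec.hom.continuous
  have himg := V.2.isOpenMap_subtype_val _ hV'
  refine Filter.mem_of_superset (himg.mem_nhds ⟨⟨s, hsV⟩, ?_, rfl⟩) ?_
  · show CohIII.dRank P (-(i : ℤ)) (hV.primeIdealOf ⟨s, hsV⟩) < n
    rw [← hP.fiberRank_eq hq i hsV, ← hfun]
    exact hs
  · rintro _ ⟨v, hv, rfl⟩
    show PerfAux.betti f F v.1 i < n
    rw [hfun, hP.fiberRank_eq hq i v.2]
    exact hv

end Groth.Agent.S1025
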