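import Groth.Statements.S13863
import Groth.Agent.ASCoverLib.Basic

set_option autoImplicit false
universe u
open ASCover

namespace Groth.Agent.S13863

/-- For k an algebraically closed field of characteristic p > 0, n ≥ 1 an integer prime to p, and u ∈
k[[t]] the power series with constant term 1 and u^n · (1 + t^n) = 1, the substitution σ(t) = t·u is
a k-automorphism of k((t)) of order p and, for an integer a, σ acts on the fractional ideal I =
t^a·k[[t]]; transported to B = k[[t]] along h ↦ t^a·h this action is h ↦ u^a · h(t·u). For an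
integer i with a − n ≤ i ≤ a − 1 the element σ(t^i) − t^i lies in I, so t^i defines a class in
H^1(⟨σ⟩, I); the classes with p ∤ i form a basis of this H^1, and when p divides i the class
vanishes, i.e. σ(t^i) − t^i = σ(w) − w for some w ∈ I. (The published statement of this vanishing is
printed with the condition p ∤ i, which contradicts the basis assertion of the same lemma; its proof
treats p | i, and this row states that case.) In transported form, with m = a − i ∈ [1, n] and c ∈
k[[t]] defined by t^m · c = u^i − 1: there is h ∈ k[[t]] with u^a · h(t·u) − h = c. -/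
theorem result {k : Type u} [Field k] [IsAlgClosed k] (p : ℕ)
    [Fact p.Prime] [CharP k p] (n : ℕ) (hn : 0 < n) (hpn : ¬ p ∣ n)
    (u : PowerSeries k) (hu1 : PowerSeries.constantCoeff u = 1)
    (hun : u ^ n * (1 + PowerSeries.X ^ n) = 1) (hu : IsUnit u) (a : ℤ) (m : ℕ)
    (hm1 : 1 ≤ m) (hmn : m ≤ n) (hdvd : (p : ℤ) ∣ a - m) (c : PowerSeries k)
    (hc : PowerSeries.X ^ m * c = ((hu.unit ^ (a - m) : (PowerSeries k)ˣ) : PowerSeries k) - 1) :
    ∃ h : PowerSeries k,
      ((hu.unit ^ a : (PowerSeries k)ˣ) : PowerSeries k) * PowerSeries.subst (PowerSeries.X * u) h - h = c := by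
  obtain ⟨j, hj⟩ := hdvd
  obtain ⟨W, hW, γ, hγ⟩ := ASCoverLib.exists_invariant_unit p hn hpn hu1 hun
  obtain ⟨δ, hδ, -⟩ := ASCoverLib.zpow_sub_one hn hγ j
  have hinv := ASCoverLib.units_zpow_invariant p hu hW j
  rw [← hj] at hinv
  set g := (PowerSeries.X : PowerSeries k) ^ (n - m) * δ with hg
  have hg' : ((W ^ j : (PowerSeries k)ˣ) : PowerSeries k) = 1 + PowerSeries.X ^ m * g := by
    rw [hg, ← mul_assoc, ← pow_add, Nat.add_sub_cancel' hmn, ← hδ]; ring
  rw [hg', map_add, map_one, ASCoverLib.sig_X_pow_mul] at hinv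
  have ha : ((hu.unit ^ a : (PowerSeries k)ˣ) : PowerSeries k)
      = ((hu.unit ^ (a - m) : (PowerSeries k)ˣ) : PowerSeries k) * u ^ m := by
    rw [show a = (a - m) + (m : ℕ) by ring, zpow_add, zpow_natCast, Units.val_mul, Units.val_pow_eq_pow_val,
      IsUnit.unit_spec]
    ring_nf
  refine ⟨-g, mul_left_cancel₀ (pow_ne_zero m PowerSeries.X_ne_zero) ?_⟩
  rw [← ASCoverLib.sig_apply, map_neg, ha]
  linear_combination -hinv - hc

end Groth.Agent.S13863
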