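import Groth.Statements.S13864
import Groth.Agent.ASCoverLib.Basic

set_option autoImplicit false
universe u
open ASCover

namespace Groth.Agent.S13864

/-- Let k be an algebraically closed field of characteristic p > 0, n ≥ 1 an integer prime to p, u ∈
k[[t]] the power series with constant term 1 and u^n · (1 + t^n) = 1 (so σ(t) = t·u is a
k-automorphism of k((t)) of order p), and a an integer; σ acts on I = t^a·k[[t]], and transported to
B = k[[t]] along h ↦ t^a·h the action is h ↦ u^a · h(t·u). For 1 ≤ m ≤ n let c_m ∈ B be determined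
by t^m · c_m = u^(a−m) − 1; this is the cocycle value σ(t^i) − t^i ∈ I of the element t^i, i = a −
m, divided by t^a. The published lemma says that the classes of the t^i with a − n ≤ i ≤ a − 1 and p
∤ i form a basis of H^1(⟨σ⟩, I); this row states their linear independence: if Σ λ_m c_m, summed
over 1 ≤ m ≤ n with p ∤ a − m, equals u^a · h(t·u) − h for some h ∈ B, then every such λ_m is 0.
(Together with the dimension of this H^1, namely n − ⌊(a−1)/p⌋ + ⌊(a−1−n)/p⌋, this gives the basis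
statement.) -/
theorem result {k : Type u} [Field k] [IsAlgClosed k] (p : ℕ)
    [Fact p.Prime] [CharP k p] (n : ℕ) (hn : 0 < n) (hpn : ¬ p ∣ n)
    (u : PowerSeries k) (hu1 : PowerSeries.constantCoeff u = 1)
    (hun : u ^ n * (1 + PowerSeries.X ^ n) = 1) (hu : IsUnit u) (a : ℤ)
    (c : ℕ → PowerSeries k)
    (hc : ∀ m : ℕ, 1 ≤ m → m ≤ n →
      PowerSeries.X ^ m * c m = ((hu.unit ^ (a - m) : (PowerSeries k)ˣ) : PowerSeries k) - 1)
    (coef : ℕ → k) (h : PowerSeries k)
    (hh : ((hu.unit ^ a : (PowerSeries k)ˣ) : PowerSeries k) * PowerSeries.subst (PowerSeries.X * u) h - h =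
      ∑ m ∈ (Finset.Icc 1 n).filter (fun m : ℕ => ¬ (p : ℤ) ∣ a - (m : ℤ)), coef m • c m) :
    ∀ m ∈ (Finset.Icc 1 n).filter (fun m : ℕ => ¬ (p : ℤ) ∣ a - (m : ℤ)), coef m = 0 := by
  classical
  set T := (Finset.Icc 1 n).filter (fun m : ℕ => ¬ (p : ℤ) ∣ a - (m : ℤ)) with hT
  by_contra hcon
  push Not at hcon
  obtain ⟨m₁, hm₁, hne₁⟩ := hcon
  have hne : (T.filter fun m => coef m ≠ 0).Nonempty := ⟨m₁, Finset.mem_filter.mpr ⟨hm₁, hne₁⟩⟩
  obtain ⟨m₀, hm₀, hmax⟩ := Finset.exists_max_image _ (fun m : ℕ => m) hne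
  rw [Finset.mem_filter] at hm₀
  obtain ⟨hmT, hc0⟩ := hm₀
  have hmem : ∀ m ∈ T, 1 ≤ m ∧ m ≤ n ∧ ¬ (p : ℤ) ∣ a - (m : ℤ) := fun m hm => by
    simp only [hT, Finset.mem_filter, Finset.mem_Icc] at hm
    exact ⟨hm.1.1, hm.1.2, hm.2⟩
  set G := ∑ m ∈ T, coef m • (PowerSeries.X : PowerSeries k) ^ (n - m) - PowerSeries.X ^ n * h with hG
  set H := ∑ m ∈ T, coef m • (PowerSeries.X : PowerSeries k) ^ (m₀ - m) - PowerSeries.X ^ m₀ * h with hH
  have hGH : PowerSeries.X ^ (n - m₀) * H = G := by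
    have := (hmem m₀ hmT).2.1
    rw [hG, hH, mul_sub, Finset.mul_sum, ← mul_assoc, ← pow_add, Nat.sub_add_cancel this]
    refine congrArg (· - _) (Finset.sum_congr rfl fun m hm => ?_)
    by_cases hc : coef m = 0
    · simp [hc]
    · have := hmax m (Finset.mem_filter.mpr ⟨hm, hc⟩)
      rw [mul_smul_comm, ← pow_add]
      congr 2
      omega
  have hH0 : PowerSeries.constantCoeff H ≠ 0 := by
    have h1 : PowerSeries.constantCoeff H = coef m₀ := by
      rw [hH, map_sub, map_sum, map_mul, map_pow, PowerSeries.constantCoeff_X,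
        zero_pow (Nat.one_le_iff_ne_zero.mp (hmem m₀ hmT).1), zero_mul, sub_zero, Finset.sum_eq_single m₀]
      · simp [PowerSeries.smul_eq_C_mul]
      · intro m hm hmne
        by_cases hc : coef m = 0
        · simp [hc]
        · have := hmax m (Finset.mem_filter.mpr ⟨hm, hc⟩)
          simp [PowerSeries.smul_eq_C_mul, zero_pow (show m₀ - m ≠ 0 by omega)]
      · exact fun h' => absurd hmT h'
    rw [h1]; exact hc0
  have hab : ∀ j : ℕ, ((hu.unit ^ (a - n) : (PowerSeries k)ˣ) : PowerSeries k) * u ^ j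
      = ((hu.unit ^ (a - n + j) : (PowerSeries k)ˣ) : PowerSeries k) := fun j => by
    rw [zpow_add, zpow_natCast, Units.val_mul, Units.val_pow_eq_pow_val, IsUnit.unit_spec]
  have hinv : ((hu.unit ^ (a - n) : (PowerSeries k)ˣ) : PowerSeries k) * ASCoverLib.sig u G = G := by
    have hterm : ∀ m ∈ T, ((hu.unit ^ (a - n) : (PowerSeries k)ˣ) : PowerSeries k)
          * ASCoverLib.sig u (coef m • (PowerSeries.X : PowerSeries k) ^ (n - m))
        = coef m • PowerSeries.X ^ (n - m) + PowerSeries.X ^ n * (coef m • c m) := fun m hm => by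
      obtain ⟨h1, h2, -⟩ := hmem m hm
      rw [map_smul, map_pow, ASCoverLib.sig_X, mul_pow, mul_smul_comm, mul_left_comm, hab,
        show a - n + ((n - m : ℕ) : ℤ) = a - m by omega, mul_smul_comm, ← smul_add]
      congr 1
      rw [show ((hu.unit ^ (a - m) : (PowerSeries k)ˣ) : PowerSeries k) = 1 + PowerSeries.X ^ m * c m by
        rw [hc m h1 h2]; ring, mul_add, mul_one, ← mul_assoc, ← pow_add, Nat.sub_add_cancel h2]
    rw [hG, map_sub, map_sum, ASCoverLib.sig_X_pow_mul, mul_sub, Finset.mul_sum, Finset.sum_congr rfl hterm,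
      Finset.sum_add_distrib, ← Finset.mul_sum, ← hh, ← ASCoverLib.sig_apply]
    have hn' := hab n
    rw [sub_add_cancel] at hn'
    linear_combination -(PowerSeries.X ^ n * ASCoverLib.sig u h) * hn'
  have hd := ASCoverLib.dvd_order_of_invariant p hn hpn hu1 hun hu (a - n) hH0 (by rw [hGH]; exact hinv)
  refine (hmem m₀ hmT).2.2 ?_
  have := (hmem m₀ hmT).2.1
  rwa [show a - n + ((n - m₀ : ℕ) : ℤ) = a - m₀ by omega] at hd

end Groth.Agent.S13864
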