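import Groth.Statements.S19948
import Groth.Agent.ThetaLib.IsotropicLift

set_option autoImplicit false
set_option backward.isDefEq.respectTransparency false
set_option backward.isDefEq.respectTransparency.types false
set_option maxHeartbeats 1000000
set_option linter.style.haveILetI false
universe u
open CategoryTheory MonoidalCategory CartesianMonoidalCategory MonObj GrpObj AlgebraicGeometry
open ThetaGrp

namespace Groth.Agent.S19948

/-- Let k be an algebraically closed field, f : X → Y an isogeny of abelian varieties over k (X, Y
proper, geometrically integral, commutative k-group schemes; f a finite surjective homomorphism), i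
: N → X the kernel of f (a homomorphism forming a cartesian square with the unit section of Y), L an
invertible O_X-module and i_K : K → X a closed immersion exhibiting K as K(L), the maximal closed
subscheme of X over which the Mumford bundle m^*L ⊗ p_1^*L⁻¹ ⊗ p_2^*L⁻¹, restricted to X ×_k K, is
the inverse image of an invertible module on K, with its universal property. Then L is the inverse
image of an invertible O_Y-module (there is an invertible M on Y with f^*M ≅ L) if and only if the
kernel of f lies inside K(L) as a subgroup scheme and the commutator pairing e_L is trivial on it: i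
factors through i_K, and for every k-scheme T any two points (x₁, φ₁), (x₂, φ₂) of G(L)(T) whose
translations are by points of N commute. (Algebraic closedness is used for the converse; over other
fields an isotropic kernel descends in general only after a finite extension of k.) -/
theorem result (k : Type u) [Field k] [IsAlgClosed k]
    (A : Over (Spec (CommRingCat.of k))) [GrpObj A] [IsCommMonObj A] [IsProper A.hom] [GeometricallyIntegral A.hom]
    (B : Over (Spec (CommRingCat.of k))) [GrpObj B] [IsCommMonObj B] [IsProper B.hom] [GeometricallyIntegral B.hom]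
    (f : A ⟶ B) [IsMonHom f] [IsFinite f.left] (hf : Surjective f.left)
    (N : Over (Spec (CommRingCat.of k))) [GrpObj N] (i : N ⟶ A) [IsMonHom i] (hN : AlgGrp.IsKernel i f)
    (L : A.left.Modules) (hL : PicF.IsInvertible L)
    (K : Over (Spec (CommRingCat.of k))) (iK : K ⟶ A) (hK : ThetaGrp.IsKL A L iK) :
    (∃ M : B.left.Modules, PicF.IsInvertible M ∧ Nonempty ((Scheme.Modules.pullback f.left).obj M ≅ L)) ↔
      ((∃ y : N ⟶ K, y ≫ iK = i) ∧ ThetaGrp.IsIsotropic L i) := by
  haveI := hf
  obtain ⟨hfl, hfp⟩ := ThetaLib.flat_lfp f
  haveI := hfl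
  haveI := hfp
  have hA := ThetaLib.gammaSnd_of_abelian A
  haveI : IsFinite N.hom := by
    have h : CategoryTheory.IsPullback i.left (toUnit N).left f.left η[B].left := hN.map (Over.forget _)
    have h' : IsFinite (toUnit N).left := MorphismProperty.of_isPullback (P := @IsFinite) h inferInstance
    rwa [Over.toUnit_left] at h'
  haveI : Mono i := ⟨fun a b h => ThetaLib.mono_of_kernel hN h⟩
  constructor
  · rintro ⟨M, hM, ⟨φ⟩⟩
    let β : ∀ {T : Over (Spec (CommRingCat.of k))}, (T ⟶ N) → ThetaGrp.thetaPts A L T :=
      fun n => ThetaLib.tr φ _ (ThetaLib.kerPt (M := M) hN n)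
    have hβ : ∀ {T : Over (Spec (CommRingCat.of k))} (n : T ⟶ N), ThetaLib.pt (β n) = n ≫ i := fun n =>
      (ThetaLib.pt_tr φ _).trans (ThetaLib.pt_kerPt hN n)
    refine ⟨?_, fun T x y β₁ β₂ h₁ h₂ => ?_⟩
    · exact (hK.univ N i).1 (ThetaLib.mumford_of_overPt hL (β (𝟙 N))
        (ThetaLib.isOverPt_iff.2 ((hβ _).trans (Category.id_comp i))))
    · rw [← commutatorElement_eq_one_iff_mul_comm,
        ThetaLib.comm_congr₂ hL hA ((ThetaLib.isOverPt_iff.1 h₁).trans (hβ x).symm)
          ((ThetaLib.isOverPt_iff.1 h₂).trans (hβ y).symm), commutatorElement_eq_one_iff_mul_comm]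
      show ThetaLib.tr φ _ _ * ThetaLib.tr φ _ _ = ThetaLib.tr φ _ _ * ThetaLib.tr φ _ _
      rw [← map_mul, ← map_mul, ← ThetaLib.kerPt_mul, ← ThetaLib.kerPt_mul,
        (cancel_mono i).1 (show (x * y) ≫ i = (y * x) ≫ i by rw [MonObj.mul_comp, MonObj.mul_comp, mul_comm])]
  · rintro ⟨⟨y, hy⟩, hiso⟩
    obtain ⟨D⟩ := ThetaLib.exists_kerLift hL hA ((hK.univ N i).2 ⟨y, hy⟩) hiso
    exact ThetaLib.exists_descent_of_lift D hN hL

end Groth.Agent.S19948
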