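import Groth.Statements.S19771
import Groth.Agent.S12002
import Groth.Agent.H23.KLBasic
import Groth.Agent.Lib.AVDual
import Groth.Agent.AmpleX.Comp
import Groth.Agent.AmpleX.RelAffine

set_option autoImplicit false
set_option backward.isDefEq.respectTransparency false
set_option backward.isDefEq.respectTransparency.types false
set_option maxHeartbeats 1000000
set_option linter.style.haveILetI false
universe u
open CategoryTheory MonoidalCategory CartesianMonoidalCategory MonObj GrpObj AlgebraicGeometry
open AbSch

namespace Groth.Agent.S19771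

open Groth.Agent
open scoped Groth.Agent.H23.PicMul

/-- The transpose of a morphism to a base change. -/
noncomputable def dn {S S' : Scheme.{u}} {b : S' ⟶ S} {T : Over S'} {X : Over S}
    (a : T ⟶ (Over.pullback b).obj X) : Over.mk (T.hom ≫ b) ⟶ X :=
  Over.homMk (a.left ≫ Limits.pullback.fst X.hom b) (by
    rw [Category.assoc, Limits.pullback.condition, ← Category.assoc]
    show (a.left ≫ ((Over.pullback b).obj X).hom) ≫ b = _
    rw [Over.w a]
    rfl)

/-- The transposition respects products. -/
theorem dn_mul {S S' : Scheme.{u}} {b : S' ⟶ S} {T : Over S'} {X : Over S} [GrpObj X]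
    (α β : T ⟶ Red.bc b X) : dn (α * β) = dn α * dn β := by
  let un : T ⟶ (Over.pullback b).obj (Over.mk (T.hom ≫ b)) :=
    Over.homMk (Limits.pullback.lift (𝟙 _) T.hom (Category.id_comp _)) (Limits.pullback.lift_snd _ _ _)
  have hud : ∀ a : T ⟶ Red.bc b X, un ≫ (Over.pullback b).map (dn a) = a := fun a => by
    refine Over.OverMorphism.ext (Limits.pullback.hom_ext ?_ ((Over.w _).trans (Over.w a).symm))
    show (Limits.pullback.lift _ _ _ ≫ Limits.pullback.lift _ _ _) ≫ Limits.pullback.fst _ _ = _
    rw [Category.assoc, Limits.pullback.lift_fst, Limits.pullback.lift_fst_assoc]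
    exact Category.id_comp _
  have hdu : ∀ m : Over.mk (T.hom ≫ b) ⟶ X, dn (un ≫ (Over.pullback b).map m) = m := fun m => by
    refine Over.OverMorphism.ext ?_
    show (Limits.pullback.lift _ _ _ ≫ Limits.pullback.lift _ _ _) ≫ Limits.pullback.fst _ _ = _
    rw [Category.assoc, Limits.pullback.lift_fst, Limits.pullback.lift_fst_assoc]
    exact Category.id_comp _
  conv_lhs => rw [← hud α, ← hud β, ← MonObj.comp_mul, ← CategoryTheory.Functor.map_mul, hdu]


/-- Let S be a scheme, A an abelian scheme over S (an S-group scheme whose structure morphism is proper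
and smooth with geometrically connected fibres), L an O_A-module that is ample relative to A → S
(the structure morphism is quasi-compact and L restricted to the preimage of every affine open of S
is ample; in particular L is invertible), and i : K → A a closed immersion of S-schemes exhibiting K
as K(L): the maximal closed subscheme over which the Mumford bundle m^*L ⊗ p_1^*L⁻¹ ⊗ p_2^*L⁻¹ on A
×_S A, restricted to A ×_S K, is the inverse image of an invertible module on K, with its universal
property for S-morphisms T → A. Then K is finite over S. -/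
theorem result {S : Scheme.{u}} (A : Over S)
    [GrpObj A] [IsProper A.hom] [Smooth A.hom] [GeometricallyConnected A.hom] (L : A.left.Modules)
    (hL : RelAmple.IsRelAmple A.hom L)
    (K : Over S) (i : K ⟶ A) (hK : ThetaGrp.IsKL A L i) :
    IsFinite K.hom := by
  haveI : IsClosedImmersion i.left := hK.closed
  haveI : IsProper (i.left ≫ A.hom) := inferInstance
  haveI : IsProper K.hom := by rw [← Over.w i]; infer_instance
  rw [IsFinite.iff_isProper_and_locallyQuasiFinite]
  refine ⟨inferInstance, .of_finite_preimage_singleton K.hom fun s => ?_⟩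
  let Ω := AlgebraicClosure (S.residueField s)
  obtain ⟨V, hV, hsV, -⟩ := exists_isAffineOpen_mem_and_subset (x := s) (U := ⊤) trivial
  haveI : IsAffine (V : Scheme.{u}) := hV
  let ps : Spec (CommRingCat.of Ω) ⟶ S :=
    Spec.map (CommRingCat.ofHom (algebraMap (S.residueField s) Ω)) ≫ S.fromSpecResidueField s
  have hps : ∀ x, ps x = s := fun x => S.fromSpecResidueField_apply s _
  let g : Spec (CommRingCat.of Ω) ⟶ (V : Scheme.{u}) :=
    IsOpenImmersion.lift V.ι ps (by rintro _ ⟨x, rfl⟩; rw [hps, Scheme.Opens.range_ι]; exact hsV)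
  have hg : g ≫ V.ι = ps := IsOpenImmersion.lift_fac _ _ _
  let A' : Over (Spec (CommRingCat.of Ω)) := Red.bc ps A
  haveI : IsProper A'.hom := inferInstanceAs (IsProper (Limits.pullback.snd A.hom ps))
  haveI : Smooth A'.hom := inferInstanceAs (Smooth (Limits.pullback.snd A.hom ps))
  haveI : GeometricallyConnected A'.hom := inferInstanceAs (GeometricallyConnected (Limits.pullback.snd A.hom ps))
  haveI : GeometricallyIntegral A'.hom := AVDual.geometricallyIntegral_of_smooth A'
  let fA : A'.left ⟶ A.left := Limits.pullback.fst A.hom ps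
  have hamp : CohB1.IsAmple ((Scheme.Modules.pullback fA).obj L) := by
    let W := A.hom ⁻¹ᵁ V
    let h : A'.left ⟶ (W : Scheme.{u}) := IsOpenImmersion.lift W.ι fA (by
      rintro _ ⟨x, rfl⟩
      rw [Scheme.Opens.range_ι]
      show A.hom (fA x) ∈ V
      rw [← Scheme.Hom.comp_apply, Limits.pullback.condition, Scheme.Hom.comp_apply, hps]
      exact hsV)
    have hh : h ≫ W.ι = fA := IsOpenImmersion.lift_fac _ _ _
    have hsq : IsPullback h A'.hom (A.hom ∣_ V) g := by
      refine IsPullback.of_right ?_ ?_ (isPullback_morphismRestrict A.hom V).flip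
      · rw [hh, hg]
        exact IsPullback.of_hasPullback A.hom ps
      · rw [← cancel_mono V.ι, Category.assoc, morphismRestrict_ι, reassoc_of% hh, Category.assoc, hg]
        exact Limits.pullback.condition
    haveI : IsAffineHom h := MorphismProperty.of_isPullback hsq.flip (inferInstance : IsAffineHom g)
    have hqa : Mor2.IsQuasiAffine h := ⟨inferInstance, fun U hU => by
      haveI : IsAffine ((h ⁻¹ᵁ U : A'.left.Opens) : Scheme.{u}) := hU.preimage h
      infer_instance⟩
    haveI : QuasiCompact A.hom := hL.1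
    have h1 := AmpleX.isRelAmple_pullback_quasiAffine (A.hom ∣_ V) h hqa
      ((AmpleX.isRelAmple_iff_isAmple _ _).2 (hL.2 ⟨V, hV⟩))
    haveI : QuasiCompact (h ≫ A.hom ∣_ V) := h1.1
    refine AmpleX.isAmple_of_iso ?_ ((AmpleX.isRelAmple_iff_isAmple (h ≫ A.hom ∣_ V) _).1 h1)
    exact (Scheme.Modules.pullback h).mapIso ((Scheme.Modules.restrictFunctorIsoPullback W.ι).app L) ≪≫
      (Scheme.Modules.pullbackComp h W.ι).app L ≪≫ eqToIso (by rw [hh])
  let T : Over S := Over.mk ps
  let cv : (T ⟶ K) → (𝟙_ (Over (Spec (CommRingCat.of Ω))) ⟶ A') := fun y =>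
    Over.homMk (Limits.pullback.lift (y ≫ i).left (𝟙 _) (by rw [Category.id_comp]; exact Over.w (y ≫ i)))
      (Limits.pullback.lift_snd _ _ _)
  haveI : Mono i := Over.mono_of_mono_left i
  have hcv : Function.Injective cv := fun y y' e => by
    rw [← cancel_mono i]
    have e1 := congrArg (fun m => (CommaMorphism.left m) ≫ Limits.pullback.fst A.hom ps) e
    simp only [cv, Over.homMk_left, Limits.pullback.lift_fst] at e1
    exact Over.OverMorphism.ext e1
  haveI : Finite (T ⟶ K) := by
    haveI := (Groth.Agent.S12002.result Ω A' _ hamp).to_subtype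
    refine Finite.of_injective (fun y => (⟨cv y, ?_⟩ : {a : 𝟙_ (Over (Spec (CommRingCat.of Ω))) ⟶ A' |
      Nonempty ((Scheme.Modules.pullback ((𝟙 A' * (toUnit A' ≫ a))).left).obj
        ((Scheme.Modules.pullback fA).obj L) ≅ (Scheme.Modules.pullback fA).obj L)}))
      fun y y' e => hcv (congrArg Subtype.val e)
    obtain ⟨c, hc, he⟩ := (H23.KLBasic.mumford_iff (AmpleX.isInvertible_of_isRelAmple hL) (y ≫ i)).1 ((hK.univ T (y ≫ i)).2 ⟨y, rfl⟩)
    obtain ⟨M, hM, hMi⟩ := hc
    haveI : Subsingleton T.left := inferInstanceAs (Subsingleton (Spec (CommRingCat.of Ω)))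
    haveI : Nonempty T.left := inferInstanceAs (Nonempty (Spec (CommRingCat.of Ω)))
    have hc1 : c = 1 := by rw [← hM]; exact H23.KLBasic.trivial_of_subsingleton hMi
    rw [H23.KLBasic.Eq, hc1, H23.PicMul.pullCl_one, _root_.mul_one] at he
    let x := cv y
    let ι' : Over.mk (A'.hom ≫ ps) ⟶ A ⊗ T := Over.homMk (𝟙 _) (by
      rw [Category.id_comp]
      exact (Limits.pullback.condition (f := A.hom) (g := ps)))
    have h1 : (dn (𝟙 A') : Over.mk (A'.hom ≫ ps) ⟶ A) = ι' ≫ fst A T :=
      Over.OverMorphism.ext ((Category.id_comp _).trans (Category.id_comp _).symm)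
    have h2 : (dn (toUnit A' ≫ x) : Over.mk (A'.hom ≫ ps) ⟶ A) = ι' ≫ snd A T ≫ y ≫ i := by
      refine Over.OverMorphism.ext ?_
      show (A'.hom ≫ Limits.pullback.lift (y ≫ i).left (𝟙 _) _) ≫ Limits.pullback.fst _ _ = 𝟙 _ ≫ Limits.pullback.snd A.hom ps ≫ _
      rw [Category.assoc, Limits.pullback.lift_fst, Category.id_comp]
      rfl
    have h3 : (𝟙 A' * (toUnit A' ≫ x)).left ≫ fA = (ThetaGrp.transl A (y ≫ i) ≫ fst A T).left := by
      have h4 := congrArg CommaMorphism.left (dn_mul (b := ps) (𝟙 A') (toUnit A' ≫ x))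
      rw [h1, h2, ← MonObj.comp_mul, ← ThetaGrp.transl_fst] at h4
      exact h4.trans (Category.id_comp _)
    refine ⟨(Scheme.Modules.pullbackComp _ fA).app L ≪≫ eqToIso (by rw [h3]) ≪≫ ?_⟩
    exact ((PicGrp.cl_eq_cl_iff _ _).1 he).some
  let p := Limits.pullback.snd K.hom ps
  haveI : LocallyOfFiniteType p := inferInstance
  haveI : Finite {q : Spec (CommRingCat.of Ω) ⟶ Limits.pullback K.hom ps // q ≫ p = 𝟙 _} := by
    refine Finite.of_injective (fun q => (Over.homMk (q.1 ≫ Limits.pullback.fst K.hom ps) (by
      show _ = ps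
      rw [Category.assoc, Limits.pullback.condition, reassoc_of% q.2]) : T ⟶ K)) fun q q' e => Subtype.ext
      (Limits.pullback.hom_ext (congrArg CommaMorphism.left e) (q.2.trans q'.2.symm))
  haveI : Finite (closedPoints ↥(Limits.pullback K.hom ps)) := Finite.of_equiv _ (pointEquivClosedPoint p)
  haveI : JacobsonSpace ↥(Limits.pullback K.hom ps) := LocallyOfFiniteType.jacobsonSpace p
  haveI : Finite ↥(Limits.pullback K.hom ps) := by
    have hfin : (closedPoints ↥(Limits.pullback K.hom ps)).Finite := Set.toFinite _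
    have hcl : IsClosed (closedPoints ↥(Limits.pullback K.hom ps)) := by
      rw [← Set.biUnion_of_singleton (closedPoints ↥(Limits.pullback K.hom ps))]
      exact hfin.isClosed_biUnion fun x hx => hx
    rw [← Set.finite_univ_iff, ← closure_closedPoints, hcl.closure_eq]
    exact hfin
  refine (Set.finite_range (Limits.pullback.fst K.hom ps)).subset fun x hx => ?_
  obtain ⟨z, hz, -⟩ := Scheme.Pullback.exists_preimage_pullback (f := K.hom) (g := ps) x
    (IsLocalRing.closedPoint Ω) (hx.trans (hps _).symm)
  exact ⟨z, hz⟩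

end Groth.Agent.S19771
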