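import Groth.Statements.S4278
import Groth.Agent.EulerConst.Pullback

set_option autoImplicit false
set_option backward.isDefEq.respectTransparency false
set_option backward.isDefEq.respectTransparency.types false
set_option maxHeartbeats 1000000
set_option linter.style.haveILetI false
universe u
open CategoryTheory CategoryTheory.Limits AlgebraicGeometry
open Pic13

namespace Groth.Agent.S4278

open Groth.Agent Groth.Agent.H23 Groth.Agent.H23.PicMul
open scoped Groth.Agent.H23.PicMul

/-- Let k be an algebraically closed field, X a proper k-scheme and L an invertible O_X-module which is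
τ-equivalent to zero. Then L is numerically equivalent to zero: its restriction to every integral
closed curve Y ⊆ X has degree χ(L|_Y) - χ(O_Y) = 0. -/
theorem result (k : Type u) [Field k] [IsAlgClosed k] (X : Scheme.{u}) [X.Over (Spec (CommRingCat.of k))]
    [IsProper (X ↘ Spec (CommRingCat.of k))]
    (L : X.Modules) (hL : PicF.IsInvertible L) (hτ : Pic13.IsTauEquivZero k X L) : Pic13.IsNumEquivZero k X L := by
  intro Y i hi hY hdim
  letI : Y.Over (Spec (CommRingCat.of k)) := ⟨i ≫ (X ↘ Spec (CommRingCat.of k))⟩
  haveI : IsProper (Y ↘ Spec (CommRingCat.of k)) := inferInstanceAs (IsProper (i ≫ (X ↘ Spec (CommRingCat.of k))))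
  haveI : IsNoetherian Y := CurveCohLib.isNoetherian_of_proper (k := k) (X := Y)
  have hO : Coh.IsCoh (Coh.structureModule Y) := QCoh.isCoh_structureModule'
  have h := EulerConst.eulerCharLE_tensor_of_tau k 1 hdim.le
    (PicClLib.isInvertible_pullback i hL)
    (EulerConst.isTauEquivZero_pullback k i rfl hτ) hO
  show FGA.eulerCharLE k Y ((Scheme.Modules.pullback i).obj L) 1 - FGA.eulerCharLE k Y (Coh.structureModule Y) 1 = 0
  rw [sub_eq_zero, ← h]
  refine EulerConst.eulerCharLE_congr k ?_ 1
  rw [H23.PicMul.cl_tensor, ← H23.PicMul.one_def, one_mul]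

end Groth.Agent.S4278
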