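import Groth.Statements.S1985
import Groth.Agent.H1EssEt.NagataFinite
import Groth.Agent.CompleteNagata.Complete
import Mathlib.RingTheory.Nilpotent.GeometricallyReduced
import Mathlib.RingTheory.Unramified.Field
import Mathlib.RingTheory.Finiteness.Descent
import Mathlib.RingTheory.Flat.TorsionFree
import Mathlib.RingTheory.Flat.FaithfullyFlat.Algebra

set_option autoImplicit false
universe u
open EtAlg
open scoped TensorProduct

namespace Groth.Agent.S1985

theorem isGeometricallyReduced_of_isSeparable (K L : Type u) [Field K] [Field L] [Algebra K L]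
    [Algebra.IsSeparable K L] : Algebra.IsGeometricallyReduced K L := by
  refine Algebra.IsGeometricallyReduced.of_forall_fg fun S hS => ?_
  haveI : Algebra.IsIntegral K S := Algebra.IsIntegral.of_injective S.val Subtype.val_injective
  letI : Field S := (isField_of_isIntegral_of_isField' (Field.toIsField K)).toField
  haveI : Algebra.FiniteType K S := (Subalgebra.fg_iff_finiteType S).1 hS
  haveI : Module.Finite K S := Algebra.IsIntegral.finite
  haveI : Algebra.IsSeparable K S := Algebra.IsSeparable.of_algHom K L S.val
  haveI : Algebra.FormallyUnramified K S := Algebra.FormallyUnramified.of_isSeparable K S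
  rw [Algebra.isGeometricallyReduced_field_iff]
  exact Algebra.FormallyUnramified.isReduced_of_field (AlgebraicClosure K) (AlgebraicClosure K ⊗[K] S)

theorem isN2_main (A B K L : Type u) [CommRing A] [IsDomain A] [IsDiscreteValuationRing A]
    [CommRing B] [IsDomain B] [IsDiscreteValuationRing B] [Algebra A B] [IsLocalHom (algebraMap A B)]
    (hinj : Function.Injective (algebraMap A B))
    [Field K] [Field L] [Algebra A K] [IsFractionRing A K] [Algebra B L] [IsFractionRing B L]
    [Algebra K L] [Algebra A L] [IsScalarTower A K L] [IsScalarTower A B L] [Algebra.IsSeparable K L]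
    (hB : CAlg.IsNagata B) : CAlg.IsN2 A := by
  intro K' _ _ _ _ hfin
  letI : Algebra K K' := ((algebraMap (FractionRing A) K').comp
    (FractionRing.algEquiv A K).symm.toRingEquiv.toRingHom).toAlgebra
  haveI : IsScalarTower A K K' := IsScalarTower.of_algebraMap_eq fun a => by
    show _ = algebraMap (FractionRing A) K' ((FractionRing.algEquiv A K).symm (algebraMap A K a))
    rw [AlgEquiv.commutes, ← IsScalarTower.algebraMap_apply]
  haveI : Module.Finite K K' := by
    refine Module.Finite.of_surjective (⟨⟨id, fun _ _ => rfl⟩, ?_⟩ :
      K' →ₛₗ[((FractionRing.algEquiv A K).toRingEquiv.toRingHom)] K') Function.surjective_id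
    intro c x
    show c • x = FractionRing.algEquiv A K c • x
    rw [Algebra.smul_def, Algebra.smul_def]
    show _ = algebraMap (FractionRing A) K' ((FractionRing.algEquiv A K).symm (FractionRing.algEquiv A K c)) * x
    rw [AlgEquiv.symm_apply_apply]
  haveI := isGeometricallyReduced_of_isSeparable K L
  haveI : IsReduced (K' ⊗[K] L) := inferInstance
  let F := L ⊗[K] K'
  haveI : IsReduced F := isReduced_of_injective (Algebra.TensorProduct.comm K L K')
    (Algebra.TensorProduct.comm K L K').injective
  haveI : SMulCommClass K B L := ⟨fun c b l => by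
    simp only [Algebra.smul_def]; ring⟩
  haveI : SMulCommClass K A L := ⟨fun c b l => by
    simp only [Algebra.smul_def]; ring⟩
  haveI : IsScalarTower B L F := inferInstance
  haveI : IsScalarTower A B F := IsScalarTower.of_algebraMap_eq fun a => by
    show algebraMap A L a ⊗ₜ[K] (1 : K') = algebraMap B L (algebraMap A B a) ⊗ₜ[K] (1 : K')
    rw [← IsScalarTower.algebraMap_apply]
  haveI : Module.Finite L F := inferInstance
  haveI : IsArtinianRing F := IsArtinianRing.of_finite L F
  letI : Algebra (FractionRing B) F :=
    ((algebraMap L F).comp (FractionRing.algEquiv B L).toRingEquiv.toRingHom).toAlgebra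
  haveI : IsScalarTower B (FractionRing B) F := IsScalarTower.of_algebraMap_eq fun b => by
    show _ = algebraMap L F (FractionRing.algEquiv B L (algebraMap B (FractionRing B) b))
    rw [AlgEquiv.commutes, ← IsScalarTower.algebraMap_apply]
  haveI : Module.Finite (FractionRing B) F := by
    refine Module.Finite.of_surjective (⟨⟨id, fun _ _ => rfl⟩, ?_⟩ :
      F →ₛₗ[((FractionRing.algEquiv B L).symm.toRingEquiv.toRingHom)] F) Function.surjective_id
    intro c x
    show c • x = (FractionRing.algEquiv B L).symm c • x
    rw [Algebra.smul_def, Algebra.smul_def]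
    show _ = algebraMap L F ((FractionRing.algEquiv B L) ((FractionRing.algEquiv B L).symm c)) * x
    rw [AlgEquiv.apply_symm_apply]
  haveI hfinB : Module.Finite B (integralClosure B F) := H1EssEt.finite_integralClosure B hB F
  haveI : Module.Flat A B := by
    rw [Module.Flat.flat_iff_torsion_eq_bot_of_isBezout, ← Submodule.isTorsionFree_iff_torsion_eq_bot]
    exact Module.IsTorsionFree.of_smul_eq_zero fun a b h => by
      rw [Algebra.smul_def, mul_eq_zero] at h
      exact h.imp_left fun h => hinj (h.trans (map_zero _).symm)
  haveI : Module.FaithfullyFlat A B := Module.FaithfullyFlat.of_flat_of_isLocalHom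
  let A' := integralClosure A K'
  let r : K' →ₐ[A] F := (Algebra.TensorProduct.includeRight : K' →ₐ[K] F).restrictScalars A
  let ψ : B ⊗[A] A' →ₐ[B] F := Algebra.TensorProduct.lift (Algebra.ofId B F) (r.comp A'.val) fun _ _ => Commute.all _ _
  let t : B ⊗[A] A' →ₐ[B] integralClosure B F := ψ.codRestrict _ fun z => by
    induction z using TensorProduct.induction_on with
    | zero => rw [map_zero]; exact zero_mem _
    | tmul b a =>
      rw [Algebra.TensorProduct.lift_tmul]
      exact mul_mem (Subalgebra.algebraMap_mem _ b) ((a.2.map r).tower_top)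
    | add u v hu hv => rw [map_add]; exact add_mem hu hv
  haveI : IsNoetherianRing B := hB.1
  haveI : Module.Flat K K' := inferInstance
  haveI : Module.Flat A K := IsLocalization.flat K (nonZeroDivisors A)
  haveI : Module.Flat A K' := Module.Flat.trans A K K'
  haveI : TensorProduct.CompatibleSMul A K L K' :=
    IsLocalization.tensorProduct_compatibleSMul (nonZeroDivisors A) K L K'
  have hψ : Function.Injective ψ := by
    let φ : B ⊗[A] A' →ₗ[A] L ⊗[A] K' :=
      ((IsScalarTower.toAlgHom A B L).toLinearMap.rTensor K').comp (A'.val.toLinearMap.lTensor B)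
    have hφ : Function.Injective φ :=
      (Module.Flat.rTensor_preserves_injective_linearMap _ (IsFractionRing.injective B L)).comp
        (Module.Flat.lTensor_preserves_injective_linearMap _ Subtype.val_injective)
    let E := (TensorProduct.equivOfCompatibleSMul A K A L K').symm
    have key : ∀ z, ψ z = E (φ z) := fun z => by
      induction z using TensorProduct.induction_on with
      | zero => rw [map_zero, map_zero, map_zero]
      | tmul b a =>
        rw [Algebra.TensorProduct.lift_tmul]
        show algebraMap B L b ⊗ₜ[K] (1 : K') * ((1 : L) ⊗ₜ[K] (a : K')) = algebraMap B L b ⊗ₜ[K] (a : K')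
        rw [Algebra.TensorProduct.tmul_mul_tmul, mul_one, one_mul]
      | add u v hu hv => rw [map_add, map_add, map_add, hu, hv]
    intro x y hxy
    rw [key, key] at hxy
    exact hφ (E.injective hxy)
  haveI : IsNoetherian B (integralClosure B F) := isNoetherian_of_isNoetherianRing_of_finite B _
  haveI : Module.Finite B (B ⊗[A] A') := Module.Finite.of_injective t.toLinearMap
    fun x y h => hψ (congrArg Subtype.val h)
  exact Module.Finite.of_finite_tensorProduct_of_faithfullyFlat B

/-- Let A -> B be an extension of discrete valuation rings whose extension of fraction fields L/K is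
separable. If B is a Nagata ring then so is A. -/
theorem result (A B K L : Type u) [CommRing A] [IsDomain A] [IsDiscreteValuationRing A]
    [CommRing B] [IsDomain B] [IsDiscreteValuationRing B] [Algebra A B] [IsLocalHom (algebraMap A B)]
    (hinj : Function.Injective (algebraMap A B))
    [Field K] [Field L] [Algebra A K] [IsFractionRing A K] [Algebra B L] [IsFractionRing B L]
    [Algebra K L] [Algebra A L] [IsScalarTower A K L] [IsScalarTower A B L] [Algebra.IsSeparable K L] (hB : CAlg.IsNagata B) :
    CAlg.IsNagata A := by
  have hN2 : CAlg.IsN2 A := isN2_main A B K L hinj hB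
  refine ⟨inferInstance, fun p hp => ?_⟩
  by_cases h : p = ⊥
  · subst h
    exact CompleteNagata.isN2_of_finite (Ideal.Quotient.mk ⊥)
      (fun a b hab => by rwa [Ideal.Quotient.eq, Submodule.mem_bot, sub_eq_zero] at hab)
      (RingHom.Finite.of_surjective _ Ideal.Quotient.mk_surjective) hN2
  · haveI : p.IsMaximal := hp.isMaximal h
    letI : Field (A ⧸ p) := Ideal.Quotient.field p
    exact CompleteNagata.isN2_field (A ⧸ p)

end Groth.Agent.S1985
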