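import Groth.Statements.S17351
import Groth.Agent.IdealSub.OfMono
import Groth.Agent.RefX2.Class
import Groth.Agent.RefX2.DimTwo
import Groth.Agent.RefX2.FreeLocus
import Groth.Agent.RefX2.Normality
import Groth.Agent.RefX2.Inv
import Groth.Agent.RefX2.IsoPush
import Groth.Agent.ExtShX.FundStalk
import Groth.Agent.QCoh.DevissageP
import Groth.Agent.KZ.CohClass
import Groth.Agent.SmoothReg.Scheme
import Groth.Agent.GrpSchLib.SmoothRegular
import Groth.Agent.CurveCohLib.SmoothCurve
import Groth.Agent.CurveCohLib.Proper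
import Groth.Agent.Lib.CurveDeg

set_option autoImplicit false
set_option linter.style.haveILetI false
set_option linter.unusedSectionVars false
set_option backward.isDefEq.respectTransparency false
set_option backward.isDefEq.respectTransparency.types false
set_option maxHeartbeats 800000
-- import your own Groth.Agent.* helpers here

set_option autoImplicit false
universe u
open CategoryTheory CategoryTheory.Limits AlgebraicGeometry
open AdjLin

namespace Groth.Agent.S17351

open CategoryTheory CategoryTheory.Limits AlgebraicGeometry TopologicalSpace Opposite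
open RefHull (stalkMapₗ)
open Groth.Agent.RefX2 Groth.Agent.ExtShX.Fund

variable {X : Scheme.{u}}

theorem isClosed_of_mem [JacobsonSpace X] {Z : Set X} (hc : IsClosed Z) (hf : Z.Finite) {y : X} (hy : y ∈ Z) :
    IsClosed ({y} : Set X) := by
  have h1 : closure ({y} : Set X) ⊆ Z := hc.closure_subset_iff.2 (by simpa using hy)
  have hfin : (closure ({y} : Set X) ∩ closedPoints X).Finite := (hf.subset h1).inter_of_left _
  have hcl : IsClosed (closure ({y} : Set X) ∩ closedPoints X) := by
    rw [← Set.biUnion_of_singleton (closure ({y} : Set X) ∩ closedPoints X)]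
    exact hfin.isClosed_biUnion fun z hz => mem_closedPoints_iff.1 hz.2
  have h2 : closure (closure ({y} : Set X) ∩ closedPoints X) = closure ({y} : Set X) :=
    closure_inter_closedPoints isClosed_closure
  rw [hcl.closure_eq] at h2
  exact mem_closedPoints_iff.1 (h2.symm.subset (subset_closure (Set.mem_singleton y))).2

theorem surjective_idealModι (I : X.IdealSheafData) {y : X} (hy : y ∉ (I.support : Set X)) :
    Function.Surjective (stalkMapₗ (ClSub.idealModι I) y) := by
  obtain ⟨U, hU, hyU, -⟩ := exists_isAffineOpen_mem_and_subset (X := X) (U := ⊤) (x := y) trivial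
  obtain ⟨f, hf, hfy⟩ : ∃ f ∈ I.ideal ⟨U, hU⟩, y ∈ X.basicOpen f := by
    by_contra h
    push Not at h
    refine hy ((I.coe_support_inter ⟨U, hU⟩).ge ⟨?_, hyU⟩).1
    rw [Scheme.mem_zeroLocus_iff]
    exact fun f hf => h f hf
  obtain ⟨k, hk⟩ := OmegaLib.exists_of_mem I ⟨U, hU⟩ f hf
  obtain ⟨u, hu⟩ := (X.mem_basicOpen _ _ hyU).1 hfy
  intro v
  obtain ⟨c, rfl⟩ := (RefX.unitStalk y).surjective v
  refine ⟨(c * ↑u⁻¹) • (ClSub.idealMod I).presheaf.germ U y hyU k, ?_⟩
  rw [map_smul, RefHull.stalkMapₗ_germ]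
  have h1 : (Coh.structureModule X).presheaf.germ U y hyU ((ClSub.idealModι I).app U k) =
      RefX.unitStalk y (X.presheaf.germ U y hyU f) := by
    rw [← hk, ← IdealSub.idealModι_app']
    exact (HomShX.unitStalk_germ hyU _).symm
  rw [h1, ← map_smul, smul_eq_mul, ← hu, mul_assoc, Units.inv_mul, mul_one]

variable {M F : X.Modules} [IsIntegral X]

theorem tf_middle (hM : TF M) {I : X.Modules} (hI : TF I) (a : M ⟶ F) (b : F ⟶ I) (w : a ≫ b = 0)
    (hex : (ShortComplex.mk a b w).ShortExact) : TF F := fun x => by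
  refine (injective_iff_map_eq_zero _).2 fun v hv => ?_
  have h1 : toGen I x (stalkMapₗ b x v) = 0 := by rw [← stalkMap_toGen, hv, map_zero]
  obtain ⟨m, rfl⟩ := stalk_exact_elem hex.exact x v (hI x (h1.trans (map_zero _).symm))
  have hv' : toGen F x (stalkMapₗ a x m) = 0 := hv
  rw [← stalkMap_toGen] at hv'
  haveI : Mono a := hex.mono_f
  have h2 := stalk_injective_of_mono a _ (hv'.trans (map_zero _).symm)
  rw [hM x (h2.trans (map_zero _).symm), map_zero]

theorem tf_idealMod [IsLocallyNoetherian X] (I : X.IdealSheafData) : TF (ClSub.idealMod I) := by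
  haveI : Mono (ClSub.idealModι I) := inferInstanceAs (Mono (kernel.ι _))
  exact (tf_of_isRef1 isRef1_unit).of_injective (ClSub.idealModι I) fun x => stalk_injective_of_mono _ x

theorem stalk_id_apply {G : X.Modules} (x : X) (v : G.presheaf.stalk x) : stalkMapₗ (𝟙 G) x v = v := by
  rw [HomShX.stalkMapₗ_id]
  rfl

/-- A morphism of torsion free modules into a Hartogs module which is injective at the generic point and
surjective in codimension one is an isomorphism. -/
theorem isIso_of_hart {G H : X.Modules} (hG : Hart G) (hH : TF H) (θ : G ⟶ H)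
    (hi : Function.Injective (stalkMapₗ θ (genericPoint X)))
    (hs₀ : Function.Surjective (stalkMapₗ θ (genericPoint X)))
    (hs : ∀ y : X, Order.coheight y = 1 → Function.Surjective (stalkMapₗ θ y)) : IsIso θ := by
  let e := LinearEquiv.ofBijective (stalkMapₗ θ (genericPoint X)) ⟨hi, hs₀⟩
  obtain ⟨σ, hσ⟩ := hG.exists_hom (G := H) e.symm.toLinearMap fun y hy v hv => by
    obtain ⟨u, hu⟩ := hv
    obtain ⟨p, rfl⟩ := hs y hy u
    rw [← hu, ← stalkMap_toGen]
    exact ⟨p, (e.symm_apply_apply _).symm⟩
  refine ⟨σ, hG.1.hom_ext (LinearMap.ext fun v => ?_), hH.hom_ext (LinearMap.ext fun v => ?_)⟩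
  · rw [HomShX.stalkMapₗ_comp, LinearMap.comp_apply, hσ, stalk_id_apply]
    exact e.symm_apply_apply v
  · rw [HomShX.stalkMapₗ_comp, LinearMap.comp_apply, hσ, stalk_id_apply]
    exact e.apply_symm_apply v


/-- Let k be an algebraically closed field of characteristic zero and X a smooth projective surface over
k (irreducible, proper, smooth of dimension 2, with an ample invertible module); let M be an
invertible O_X-module, Z ⊆ X a closed subscheme whose underlying set is finite, with quasi-coherent
ideal I_Z regarded as an O_X-module, and let 0 → M → F → I_Z → 0 be a short exact sequence of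
O_X-modules (an extension of L ⊗ I_Z by O_X in the source, here tensored with M = L⁻¹). Then F is
not finite locally free if and only if there exist an ideal sheaf I' strictly containing I_Z (a
proper closed subscheme Z' of Z, the empty one allowed), a short exact sequence 0 → M → F' → I' → 0
and a morphism g : F → F' which is compatible with the two maps from M and, on the quotients, with
the inclusion I_Z → I' (the unique map commuting with the inclusions into O_X); in other words the
extension class of F is the pull-back of an extension of I' by M. -/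
theorem result (k : Type u) [Field k] [IsAlgClosed k] [CharZero k]
    (X : Scheme.{u}) [X.Over (Spec (CommRingCat.of k))] [IsProper (X ↘ (Spec (CommRingCat.of k)))]
    [Smooth (X ↘ (Spec (CommRingCat.of k)))] [IrreducibleSpace X] (hdim : topologicalKrullDim X = 2)
    (H : X.Modules) (hH : CohB1.IsAmple H)
    (M : X.Modules) (hM : PicF.IsInvertible M)
    (IZ : X.IdealSheafData) (hZ : (IZ.support : Set X).Finite)
    (F : X.Modules) (a : M ⟶ F) (b : F ⟶ ClSub.idealMod IZ) (w : a ≫ b = 0)
    (hex : (ShortComplex.mk a b w).ShortExact) :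
    ¬ FlatMod.IsFinLocFree F ↔
      ∃ (I' : X.IdealSheafData) (F' : X.Modules) (a' : M ⟶ F') (b' : F' ⟶ ClSub.idealMod I') (w' : a' ≫ b' = 0)
        (φ : ClSub.idealMod IZ ⟶ ClSub.idealMod I') (g : F ⟶ F'),
        IZ < I' ∧ (ShortComplex.mk a' b' w').ShortExact ∧ φ ≫ ClSub.idealModι I' = ClSub.idealModι IZ ∧
          a ≫ g = a' ∧ g ≫ b' = b ≫ φ := by
  haveI : IsNoetherian X := CurveCohLib.isNoetherian_of_proper (k := k) (X := X)
  haveI : JacobsonSpace X := LocallyOfFiniteType.jacobsonSpace (X ↘ (Spec (CommRingCat.of k)))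
  haveI : IsIntegral X := CurveCohLib.isIntegral_of_smooth_connected (X ↘ (Spec (CommRingCat.of k)))
  have hreg : ∀ x : X, IsRegularLocalRing (X.presheaf.stalk x) :=
    GrpSchLib.isRegularLocalRing_stalk_of_smooth (X ↘ (Spec (CommRingCat.of k)))
  have hX := isNormalScheme_of_regular hreg
  have hdimc : ∀ z : X, IsClosed ({z} : Set X) → ringKrullDim (X.presheaf.stalk z) = 2 := fun z hz =>
    (SmoothReg.ringKrullDim_stalk_closedPoint (X ↘ (Spec (CommRingCat.of k))) hz).trans hdim
  have hdim2 : ∀ x : X, ringKrullDim (X.presheaf.stalk x) ≤ 2 := fun x => by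
    obtain ⟨z, hz, hzc⟩ := IsClosed.exists_closed_singleton (isClosed_closure (s := ({x} : Set X)))
      (Set.singleton_nonempty x).closure
    refine le_trans ?_ (hdimc z hzc).le
    rw [ringKrullDim_stalk_eq_coheight, ringKrullDim_stalk_eq_coheight, WithBot.coe_le_coe]
    exact Order.coheight_anti (specializes_iff_mem_closure.2 hz)
  have hclosed : ∀ y : X, Order.coheight y = 1 → y ∉ (IZ.support : Set X) := fun y hy hyZ => by
    have h2 := hdimc y (isClosed_of_mem IZ.support.isClosed hZ hyZ)
    rw [(dim_eq_one_iff y).2 hy] at h2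
    exact absurd h2 (by decide)
  have hgenZ : genericPoint X ∉ (IZ.support : Set X) := fun h => by
    have h2 := hdimc _ (isClosed_of_mem IZ.support.isClosed hZ h)
    rw [ringKrullDim_stalk_eq_coheight, coheight_genericPoint] at h2
    exact absurd h2 (by decide)
  have hMf : FlatMod.IsFinLocFree M := fun x =>
    let ⟨W, hx, he⟩ := InvEnd.isFinLocFreeOfRank_one hM x; ⟨W, 1, hx, he⟩
  have hMc : Coh.IsCoh M := CurveDeg.isCoh_of_isFinLocFree hMf
  have hIc : Coh.IsCoh (ClSub.idealMod IZ) :=
    QCoh.isCoh_kernel QCoh.isCoh_structureModule' (QCoh.isCoh_push_structure IZ.subschemeι) _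
  have hFc : Coh.IsCoh F := KZ.isCoh_X₂ hex hMc hIc
  have hMtf : TF M := tf_of_isInvertible hM
  have hFtf : TF F := tf_middle hMtf (tf_idealMod IZ) a b w hex
  have hHartFlf : ∀ G : X.Modules, Coh.IsCoh G → FlatMod.IsFinLocFree G → Hart G := fun G hG hf =>
    hart_of_isReflexive hX hG ((RefX.isReflexive_iff hG).2 fun x => by
      haveI := QCoh.free_stalk_of_isFinLocFree hf x
      haveI := finite_stalk hG x
      exact (inferInstance : Module.IsReflexive (X.presheaf.stalk x) (G.presheaf.stalk x)))
  have hO : Hart (Coh.structureModule X) := hart_of_isReflexive hX RefX.isCoh_unit isRef1_unit.2.1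
  haveI : Mono a := hex.mono_f
  haveI : Epi b := hex.epi_g
  haveI : Mono (ClSub.idealModι IZ) := inferInstanceAs (Mono (kernel.ι _))
  constructor
  · intro hnf
    let F' := RefHull.ddual F
    let g : F ⟶ F' := RefHull.bidualMap F
    have hF'c : Coh.IsCoh F' := isCoh_ddual hFc
    have hF'H : Hart F' := hart_ddual hX hFc
    have hF'f : FlatMod.IsFinLocFree F' := QCoh.isFinLocFree_iff.2 ⟨QCoh.isCoh_iff_isFP.1 hF'c, fun x => by
      haveI := hreg x
      haveI := finite_stalk hF'c x
      haveI : Module.IsReflexive (X.presheaf.stalk x) (F'.presheaf.stalk x) :=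
        (RefX.isReflexive_iff hF'c).1 (isReflexive_ddual hFc) x
      exact free_of_isReflexive_of_dim_le_two (X.presheaf.stalk x) (hdim2 x) _⟩
    have hgb0 : Function.Bijective (stalkMapₗ g (genericPoint X)) := bidual_bijective_generic hFc
    let eη := LinearEquiv.ofBijective (stalkMapₗ g (genericPoint X)) hgb0
    have hgi : ∀ (y : X), Function.Injective (stalkMapₗ g y) := fun y p q e =>
      hFtf y (hgb0.1 (((stalkMap_toGen g y p).trans (congrArg _ e)).trans (stalkMap_toGen g y q).symm))
    obtain ⟨c, hc⟩ := hO.exists_hom (G := F')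
      ((stalkMapₗ (b ≫ ClSub.idealModι IZ) (genericPoint X)).comp eη.symm.toLinearMap)
      fun y hy v hv => by
        obtain ⟨m, hm⟩ := hv
        obtain ⟨p, rfl⟩ := bidual_surjective_codim_one hX hFc hy m
        rw [← hm, ← stalkMap_toGen, LinearMap.comp_apply,
          show eη.symm.toLinearMap (stalkMapₗ g (genericPoint X) (toGen F y p)) = toGen F y p from
            eη.symm_apply_apply _]
        exact mapsTo_lat _ y ⟨p, rfl⟩
    have hgc : g ≫ c = b ≫ ClSub.idealModι IZ := hO.1.hom_ext (LinearMap.ext fun v => by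
      rw [HomShX.stalkMapₗ_comp, LinearMap.comp_apply, hc, LinearMap.comp_apply]
      exact congrArg _ (eη.symm_apply_apply v))
    have hJc : Coh.IsQCoh (Limits.image c) := (QCoh.isQCoh_iff_iso (Abelian.imageIsoImage c)).1
      (QCoh.isQCoh_kernel QCoh.isQCoh_structureModule
        (QCoh.isQCoh_cokernel (QCoh.isCoh_iff.1 hF'c).1 QCoh.isQCoh_structureModule c) _)
    obtain ⟨I', e, he⟩ := IdealSub.exists_iso_idealMod hJc (Limits.image.ι c)
    haveI : Mono (ClSub.idealModι I') := inferInstanceAs (Mono (kernel.ι _))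
    let b' : F' ⟶ ClSub.idealMod I' := factorThruImage c ≫ e.hom
    haveI : Epi b' := epi_comp _ _
    have hb' : b' ≫ ClSub.idealModι I' = c := by rw [Category.assoc, he, Limits.image.fac]
    have w' : (a ≫ g) ≫ b' = 0 := by
      rw [← cancel_mono (ClSub.idealModι I'), Category.assoc, hb', Category.assoc, hgc, reassoc_of% w, zero_comp,
        zero_comp]
    let θ : M ⟶ kernel b' := kernel.lift b' (a ≫ g) w'
    have hθ : θ ≫ kernel.ι b' = a ≫ g := kernel.lift_ι _ _ _
    have hθi : ∀ x, Function.Injective (stalkMapₗ θ x) := fun x p q h => stalk_injective_of_mono a x (hgi x (by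
      have := congrArg (stalkMapₗ (kernel.ι b') x) h
      rwa [← stalkMapₗ_comp_apply, ← stalkMapₗ_comp_apply, hθ, stalkMapₗ_comp_apply, stalkMapₗ_comp_apply] at this))
    have hθs : ∀ x, Function.Surjective (stalkMapₗ g x) → Function.Surjective (stalkMapₗ θ x) := fun x hsx v => by
      obtain ⟨p, hp⟩ := hsx (stalkMapₗ (kernel.ι b') x v)
      have h0 : stalkMapₗ b x p = 0 := stalk_injective_of_mono (ClSub.idealModι IZ) x (by
        rw [map_zero, ← stalkMapₗ_comp_apply, ← hgc, stalkMapₗ_comp_apply, hp, ← stalkMapₗ_comp_apply,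
          show kernel.ι b' ≫ c = 0 from (congrArg _ hb').symm.trans ((kernel.condition_assoc b' _).trans zero_comp), HomShX.stalkMapₗ_zero,
          LinearMap.zero_apply])
      obtain ⟨m, hm⟩ := stalk_exact_elem hex.exact x p h0
      refine ⟨m, stalk_injective_of_mono (kernel.ι b') x ?_⟩
      rw [← stalkMapₗ_comp_apply, hθ, stalkMapₗ_comp_apply, show stalkMapₗ a x m = p from hm, hp]
    haveI : IsIso θ := isIso_of_hart (hHartFlf M hMc hMf)
      (hF'H.1.of_injective (kernel.ι b') fun x => stalk_injective_of_mono _ x) θ (hθi _) (hθs _ hgb0.2)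
      fun y hy => hθs y (bidual_surjective_codim_one hX hFc hy)
    have hS' : (ShortComplex.mk (a ≫ g) b' w').ShortExact := by
      let T := ShortComplex.mk (kernel.ι b') b' (kernel.condition b')
      let iso : ShortComplex.mk (a ≫ g) b' w' ≅ T := ShortComplex.isoMk (asIso θ) (Iso.refl _) (Iso.refl _)
        (by simp [T, hθ]) (by simp [T])
      exact ShortComplex.shortExact_of_iso iso.symm ⟨ShortComplex.exact_kernel b'⟩
    let φ : ClSub.idealMod IZ ⟶ ClSub.idealMod I' := hex.exact.desc (g ≫ b') (by rw [← Category.assoc]; exact w')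
    have hφ₀ : b ≫ φ = g ≫ b' := hex.exact.g_desc _ _
    have hφ : φ ≫ ClSub.idealModι I' = ClSub.idealModι IZ := by
      rw [← cancel_epi b, reassoc_of% hφ₀, hb', hgc]
    refine ⟨I', F', a ≫ g, b', w', φ, g, lt_of_le_of_ne (IdealSub.le_of_comp φ hφ) fun heq => hnf ?_, hS', hφ, rfl,
      hφ₀.symm⟩
    subst heq
    have hφ1 : φ = 𝟙 _ := by rw [← cancel_mono (ClSub.idealModι IZ), hφ, Category.id_comp]
    let Φ : ShortComplex.mk a b w ⟶ ShortComplex.mk (a ≫ g) b' w' :=
      { τ₁ := 𝟙 M, τ₂ := g, τ₃ := 𝟙 _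
        comm₁₂ := Category.id_comp _
        comm₂₃ := by show g ≫ b' = b ≫ 𝟙 _; rw [← hφ₀, hφ1] }
    haveI : IsIso Φ.τ₁ := inferInstanceAs (IsIso (𝟙 M))
    haveI : IsIso Φ.τ₃ := inferInstanceAs (IsIso (𝟙 (ClSub.idealMod IZ)))
    haveI : IsIso g := ShortComplex.isIso₂_of_shortExact_of_isIso₁₃ Φ hex hS'
    intro x
    obtain ⟨U, r, hx, ⟨e'⟩⟩ := hF'f x
    exact ⟨U, r, hx, ⟨(Scheme.Modules.restrictFunctor U.ι).mapIso (asIso g) ≪≫ e'⟩⟩
  · rintro ⟨I', F', a', b', w', φ, g, hlt, hS', hφ, hag, hgb⟩ hflf
    haveI : Mono a' := hS'.mono_f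
    haveI : Epi b' := hS'.epi_g
    haveI : Mono (φ ≫ ClSub.idealModι I') := hφ.symm ▸ inferInstance
    haveI : Mono φ := mono_of_mono φ (ClSub.idealModι I')
    let Φ : ShortComplex.mk a b w ⟶ ShortComplex.mk a' b' w' :=
      { τ₁ := 𝟙 M, τ₂ := g, τ₃ := φ
        comm₁₂ := by show 𝟙 M ≫ a' = a ≫ g; rw [Category.id_comp, hag]
        comm₂₃ := hgb }
    haveI : Mono (ShortComplex.mk a b w).f := ‹Mono a›
    haveI : Mono (ShortComplex.mk a' b' w').f := ‹Mono a'›
    haveI : Mono Φ.τ₁ := inferInstanceAs (Mono (𝟙 M))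
    haveI : Mono Φ.τ₃ := ‹Mono φ›
    haveI : Mono g := ShortComplex.mono_τ₂_of_exact_of_mono Φ hex.exact
    have hF'tf : TF F' := tf_middle hMtf (tf_idealMod I') a' b' w' hS'
    haveI : Mono (ClSub.idealModι I') := inferInstanceAs (Mono (kernel.ι _))
    have hgs : ∀ x : X, x ∉ (IZ.support : Set X) → Function.Surjective (stalkMapₗ g x) := fun x hx v => by
      obtain ⟨i, hi⟩ := surjective_idealModι IZ hx (stalkMapₗ (ClSub.idealModι I') x (stalkMapₗ b' x v))
      rw [← hφ, stalkMapₗ_comp_apply] at hi
      obtain ⟨p, rfl⟩ : ∃ p, stalkMapₗ b x p = i := by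
        haveI : PreservesFiniteColimits (DerSch.stalkFunctor X x) := inferInstance
        exact (ModuleCat.epi_iff_surjective _).1 (inferInstance : Epi ((DerSch.stalkFunctor X x).map b)) i
      have h0 : stalkMapₗ b' x (v - stalkMapₗ g x p) = 0 := by
        rw [map_sub, ← stalkMapₗ_comp_apply g b', hgb, stalkMapₗ_comp_apply, sub_eq_zero]
        exact (stalk_injective_of_mono (ClSub.idealModι I') x hi).symm
      obtain ⟨m, hm⟩ := stalk_exact_elem hS'.exact x _ h0
      refine ⟨p + stalkMapₗ a x m, ?_⟩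
      rw [map_add, ← stalkMapₗ_comp_apply a g, hag, show stalkMapₗ a' x m = _ from hm, add_sub_cancel]
    haveI : IsIso g := isIso_of_hart (hHartFlf F hFc hflf) hF'tf g (stalk_injective_of_mono g _) (hgs _ hgenZ)
      fun y hy => hgs y (hclosed y hy)
    haveI : Epi (b ≫ φ) := hgb ▸ epi_comp g b'
    haveI : Epi φ := epi_of_epi b φ
    haveI : IsIso φ := isIso_of_mono_of_epi φ
    exact hlt.not_ge (IdealSub.le_of_epi φ hφ)

end Groth.Agent.S17351
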