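import Groth.Statements.S17082


set_option autoImplicit false
set_option backward.isDefEq.respectTransparency false
set_option backward.isDefEq.respectTransparency.types false
universe u
open CategoryTheory CategoryTheory.Limits AlgebraicGeometry
open MorSch

namespace Groth.Agent.S17082

open Scheme in
lemma ker_ext_iso {A B : Scheme.{u}} (J : B.IdealSheafData) (q : A ⟶ B) [IsOpenImmersion q]
    (h : (J.support : Set B) ⊆ Set.range q) :
    ∃ e : (J.comap q).subscheme ≅ J.subscheme, e.hom ≫ J.subschemeι = (J.comap q).subschemeι ≫ q := by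
  have hr : Set.range J.subschemeι ⊆ Set.range q := by rwa [IdealSheafData.range_subschemeι]
  haveI : IsIso (pullback.snd q J.subschemeι) := by
    haveI : Epi (pullback.snd q J.subschemeι).base := by
      rw [TopCat.epi_iff_surjective]
      intro z
      have hz := hr ⟨z, rfl⟩
      have : z ∈ Set.range (pullback.snd q J.subschemeι) := by
        rw [IsOpenImmersion.range_pullbackSnd]
        exact hz
      exact this
    exact IsOpenImmersion.isIso _
  refine ⟨J.comapIso q ≪≫ asIso (pullback.snd q J.subschemeι), ?_⟩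
  rw [Iso.trans_hom, asIso_hom, Category.assoc, ← pullback.condition, ← Category.assoc,
    IdealSheafData.comapIso_hom_fst]

lemma eq_ker_of_comap {A B : Scheme.{u}} (J : B.IdealSheafData) (q : A ⟶ B) [IsOpenImmersion q]
    (W : A.IdealSheafData) (hs : (J.support : Set B) ⊆ Set.range q) (h : J.comap q = W) :
    J = (W.subschemeι ≫ q).ker := by
  subst h
  obtain ⟨e, he⟩ := ker_ext_iso J q hs
  rw [← he, Scheme.Hom.ker_comp_of_isIso, Scheme.IdealSheafData.ker_subschemeι]

lemma comap_sq {A B C D E : Scheme.{u}} (I : A.IdealSheafData) (a : B ⟶ A) (b : C ⟶ B) (c : D ⟶ C)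
    (d : E ⟶ A) (e : D ⟶ E) (h : c ≫ b ≫ a = e ≫ d) :
    ((I.comap a).comap b).comap c = (I.comap d).comap e := by
  rw [← Scheme.IdealSheafData.comap_comp, ← Scheme.IdealSheafData.comap_comp,
    ← Scheme.IdealSheafData.comap_comp, Category.assoc, h]

lemma hilbPull_eq {X S : Scheme.{u}} (f : X ⟶ S) {T T' : Over S} (g : T' ⟶ T)
    (I : (PicF.XT f T).IdealSheafData) : FGA.hilbPull f g I = I.comap (PicF.XTmap f g) := by
  rw [FGA.hilbPull, ← pullbackSymmetry_hom_comp_fst, Scheme.Hom.ker_comp_of_isIso]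
  rfl

lemma isPullback_XTmap {X S : Scheme.{u}} (f : X ⟶ S) {T T' : Over S} (g : T' ⟶ T) :
    IsPullback (PicF.XTmap f g) (PicF.XTproj f T') (PicF.XTproj f T) g.left := by
  have h1 : PicF.XTmap f g = pullback.lift (pullback.fst f T'.hom) (pullback.snd f T'.hom ≫ g.left)
      (by rw [Category.assoc, Over.w g, pullback.condition]) := by
    apply pullback.hom_ext <;> simp [PicF.XTmap]
  rw [h1]
  refine IsPullback.of_right (h₁₂ := pullback.fst f T.hom) (h₂₂ := T.hom) ?_ (pullback.lift_snd _ _ _)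
    (IsPullback.of_hasPullback f T.hom)
  rw [pullback.lift_fst]
  simpa [Over.w g] using IsPullback.of_hasPullback f T'.hom

noncomputable def qT {X U S : Scheme.{u}} (f : X ⟶ S) (j : U ⟶ X) (T : Over S) :
    PicF.XT (j ≫ f) T ⟶ PicF.XT f T :=
  pullback.map (j ≫ f) T.hom f T.hom j (𝟙 T.left) (𝟙 S) (by simp) (by simp)

lemma isPullback_qT {X U S : Scheme.{u}} (f : X ⟶ S) (j : U ⟶ X) (T : Over S) :
    IsPullback (qT f j T) (pullback.fst (j ≫ f) T.hom) (pullback.fst f T.hom) j := by
  have h : qT f j T = pullback.lift (pullback.fst (j ≫ f) T.hom ≫ j) (pullback.snd (j ≫ f) T.hom)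
      (by rw [Category.assoc, pullback.condition]) := by
    apply pullback.hom_ext <;> simp [qT]
  rw [h]
  refine IsPullback.of_right (h₁₂ := pullback.snd f T.hom) (h₂₂ := f) ?_ (pullback.lift_fst _ _ _)
    (IsPullback.of_hasPullback f T.hom).flip
  rw [pullback.lift_snd]
  exact (IsPullback.of_hasPullback (j ≫ f) T.hom).flip

instance {X U S : Scheme.{u}} (f : X ⟶ S) (j : U ⟶ X) [IsOpenImmersion j] (T : Over S) :
    IsOpenImmersion (qT f j T) :=
  MorphismProperty.of_isPullback (isPullback_qT f j T).flip inferInstance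

lemma mem_range_qT {X U S : Scheme.{u}} (f : X ⟶ S) (j : U ⟶ X) (T : Over S) (p : PicF.XT f T) :
    p ∈ Set.range (qT f j T) ↔ pullback.fst f T.hom p ∈ Set.range j := by
  constructor
  · rintro ⟨z, rfl⟩
    refine ⟨pullback.fst (j ≫ f) T.hom z, ?_⟩
    have := congrArg (fun m => m z) (isPullback_qT f j T).w
    simpa using this.symm
  · rintro ⟨u, hu⟩
    obtain ⟨z, hz, -⟩ := Scheme.exists_preimage_of_isPullback (isPullback_qT f j T) p u hu.symm
    exact ⟨z, hz⟩

/-- Let f : X → S be a separated morphism, j : U → X an open immersion, and (H, Z) a pair representing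
the Hilbert functor of X over S on locally Noetherian S-schemes (H locally Noetherian over S; Z ⊆ X
×_S H closed, proper and flat over H; every closed subscheme of X ×_S T proper and flat over a
locally Noetherian S-scheme T is the pullback of Z along a unique S-morphism T → H). Then there are
an open subset H₀ of H and a closed subscheme Z₀ ⊆ U ×_S H₀, proper and flat over H₀, such that Z₀
is the pullback of Z along the morphism U ×_S H₀ → X ×_S H induced by j and the inclusion of H₀, and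
(H₀, Z₀) represents the Hilbert functor of U over S. So the Hilbert scheme of U over S exists and is
an open subscheme of that of X. (Published for X projective and flat over a Noetherian S in the
representable case; this row assumes only X separated over S and takes the Hilbert scheme of X as
given.) -/
theorem result
    {X U S : Scheme.{u}} (f : X ⟶ S) [IsSeparated f] (j : U ⟶ X) [IsOpenImmersion j]
    (H : Over S) (Z : FGA.HilbSet f H) (hH : FGA.HilbRepresentedBy f H Z) :
    ∃ (H₀ : H.left.Opens) (Z₀ : FGA.HilbSet (j ≫ f) (Over.mk (H₀.ι ≫ H.hom))),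
      Z₀.1 = Z.1.comap (pullback.map (j ≫ f) (H₀.ι ≫ H.hom) f H.hom j H₀.ι (𝟙 S)
        (Category.comp_id _) (Category.comp_id _)) ∧
      FGA.HilbRepresentedBy (j ≫ f) (Over.mk (H₀.ι ≫ H.hom)) Z₀ := by
  obtain ⟨hHn, hrep⟩ := hH
  haveI := hHn
  haveI := Z.2.1
  haveI := Z.2.2
  let C : Set Z.1.subscheme := Z.1.subschemeι ⁻¹' (Set.range (qT f j H))ᶜ
  have hC : IsClosed C :=
    ((qT f j H).isOpenEmbedding.isOpen_range.isClosed_compl).preimage Z.1.subschemeι.continuous
  let H₀ : H.left.Opens := ⟨((Z.1.subschemeι ≫ PicF.XTproj f H) '' C)ᶜ,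
    ((Z.1.subschemeι ≫ PicF.XTproj f H).isClosedMap C hC).isOpen_compl⟩
  let incl : Over.mk (H₀.ι ≫ H.hom) ⟶ H := Over.homMk H₀.ι rfl
  haveI : Mono incl := (Over.forget S).mono_of_mono_map (show Mono H₀.ι from inferInstance)
  -- points of `Z` over `H₀` lie in `U`
  have hA : ∀ {T : Over S} (g : T ⟶ H), Set.range g.left ⊆ (H₀ : Set H.left) →
      ((Z.1.comap (PicF.XTmap f g)).support : Set (PicF.XT f T)) ⊆ Set.range (qT f j T) := by
    intro T g hg p hp
    rw [Scheme.IdealSheafData.support_comap, TopologicalSpace.Closeds.coe_preimage,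
      Set.mem_preimage] at hp
    rw [← Scheme.IdealSheafData.range_subschemeι] at hp
    obtain ⟨z, hz⟩ := hp
    rw [mem_range_qT]
    have h1 : pullback.fst f H.hom (PicF.XTmap f g p) = pullback.fst f T.hom p := by
      rw [← Scheme.Hom.comp_apply]
      simp [PicF.XTmap]
    rw [← h1, ← mem_range_qT]
    by_contra hn
    refine hg ⟨PicF.XTproj f T p, rfl⟩ ⟨z, ?_, ?_⟩
    · simpa [C, hz] using hn
    · have := congrArg (fun m => m p) (isPullback_XTmap f g).w
      simpa [hz] using this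
  -- the universal family over `H₀`
  let Z₁ : (PicF.XT f (Over.mk (H₀.ι ≫ H.hom))).IdealSheafData := Z.1.comap (PicF.XTmap f incl)
  have hZ₁ : (Z₁.support : Set (PicF.XT f (Over.mk (H₀.ι ≫ H.hom)))) ⊆ Set.range (qT f j (Over.mk (H₀.ι ≫ H.hom))) :=
    hA incl (by
      rintro _ ⟨t, rfl⟩
      exact t.2)
  have hm : pullback.map (j ≫ f) (H₀.ι ≫ H.hom) f H.hom j H₀.ι (𝟙 S) (Category.comp_id _)
      (Category.comp_id _) = qT f j (Over.mk (H₀.ι ≫ H.hom)) ≫ PicF.XTmap f incl := by
    apply pullback.hom_ext <;> simp [qT, PicF.XTmap, incl]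
  obtain ⟨e₁, he₁⟩ := ker_ext_iso Z₁ _ hZ₁
  have hsq : IsPullback ((Z.1.comapIso (PicF.XTmap f incl)).hom ≫ pullback.snd _ _)
      (Z₁.subschemeι ≫ PicF.XTproj f (Over.mk (H₀.ι ≫ H.hom)))
      (Z.1.subschemeι ≫ PicF.XTproj f H) incl.left := by
    refine IsPullback.paste_vert ?_ (isPullback_XTmap f incl)
    refine ((IsPullback.of_hasPullback (PicF.XTmap f incl) Z.1.subschemeι).flip).of_iso
      (Z.1.comapIso (PicF.XTmap f incl)).symm (Iso.refl _) (Iso.refl _) (Iso.refl _) ?_ ?_ (by simp) (by simp)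
    · simp [Z₁, -Scheme.IdealSheafData.comapIso_hom_snd]
    · simp [Z₁, -Scheme.IdealSheafData.comapIso_hom_snd]
  have hP₁ : IsProper (Z₁.subschemeι ≫ PicF.XTproj f (Over.mk (H₀.ι ≫ H.hom))) :=
    MorphismProperty.of_isPullback hsq inferInstance
  have hF₁ : Flat (Z₁.subschemeι ≫ PicF.XTproj f (Over.mk (H₀.ι ≫ H.hom))) :=
    MorphismProperty.of_isPullback hsq inferInstance
  have hproj : ∀ T : Over S, qT f j T ≫ PicF.XTproj f T = PicF.XTproj (j ≫ f) T := by
    intro T; simp [qT]
  have he₁' : (Z₁.comap (qT f j (Over.mk (H₀.ι ≫ H.hom)))).subschemeι ≫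
      PicF.XTproj (j ≫ f) (Over.mk (H₀.ι ≫ H.hom)) =
        e₁.hom ≫ Z₁.subschemeι ≫ PicF.XTproj f (Over.mk (H₀.ι ≫ H.hom)) := by
    rw [← hproj, ← Category.assoc, ← he₁, Category.assoc]
  let Z₀ : FGA.HilbSet (j ≫ f) (Over.mk (H₀.ι ≫ H.hom)) :=
    ⟨Z₁.comap (qT f j _), by
      rw [he₁']
      exact ⟨inferInstance, inferInstance⟩⟩
  refine ⟨H₀, Z₀, ?_, ?_, ?_⟩
  · rw [hm, Scheme.IdealSheafData.comap_comp]
  · exact inferInstanceAs (IsLocallyNoetherian (H₀ : Scheme.{u}))
  intro T _ W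
  haveI := W.2.1
  haveI := W.2.2
  let i := W.1.subschemeι ≫ qT f j T
  have hi : i ≫ PicF.XTproj f T = W.1.subschemeι ≫ PicF.XTproj (j ≫ f) T := by
    simp only [i, Category.assoc, hproj]
  haveI : IsProper (i ≫ PicF.XTproj f T) := by rw [hi]; infer_instance
  haveI : Flat (i ≫ PicF.XTproj f T) := by rw [hi]; infer_instance
  haveI : IsProper i := IsProper.of_comp i (PicF.XTproj f T)
  haveI : IsClosedImmersion i :=
    IsClosedImmersion.of_isPreimmersion i (i.isClosedMap.isClosed_range)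
  let Y' : FGA.HilbSet f T := ⟨i.ker, by
    have h : i.ker.subschemeι = inv i.toImage ≫ i := by
      rw [eq_comm, IsIso.inv_comp_eq]
      exact (Scheme.Hom.toImage_imageι i).symm
    rw [h, Category.assoc]
    exact ⟨inferInstance, inferInstance⟩⟩
  have hWq : Y'.1.comap (qT f j T) = W.1 := by
    have hp : IsPullback W.1.subschemeι (𝟙 _) (qT f j T) i :=
      IsPullback.of_vert_isIso_mono ⟨by simp [i]⟩
    rw [← Scheme.IdealSheafData.ker_fst_of_isClosedImmersion,
      ← Scheme.Hom.ker_comp_of_isIso hp.isoPullback.hom, hp.isoPullback_hom_fst,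
      Scheme.IdealSheafData.ker_subschemeι]
  have hY' : (Y'.1.support : Set _) ⊆ Set.range (qT f j T) := by
    rw [Scheme.Hom.support_ker, i.isClosedMap.isClosed_range.closure_eq]
    rintro _ ⟨w, rfl⟩
    exact ⟨W.1.subschemeι w, rfl⟩
  have hcomm : ∀ (g₀ : T ⟶ Over.mk (H₀.ι ≫ H.hom)),
      FGA.hilbPull (j ≫ f) g₀ Z₀.1 = (Z.1.comap (PicF.XTmap f (g₀ ≫ incl))).comap (qT f j T) := by
    intro g₀
    have e : PicF.XTmap (j ≫ f) g₀ ≫ qT f j (Over.mk (H₀.ι ≫ H.hom)) ≫ PicF.XTmap f incl =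
        qT f j T ≫ PicF.XTmap f (g₀ ≫ incl) := by
      apply pullback.hom_ext <;> simp [qT, PicF.XTmap]
    exact (hilbPull_eq (j ≫ f) g₀ Z₀.1).trans (comap_sq Z.1 (PicF.XTmap f incl)
      (qT f j (Over.mk (H₀.ι ≫ H.hom))) (PicF.XTmap (j ≫ f) g₀) (PicF.XTmap f (g₀ ≫ incl))
      (qT f j T) e)
  obtain ⟨g, hg, hguniq⟩ := hrep T Y'
  simp only [hilbPull_eq] at hg hguniq
  have hrange : Set.range g.left ⊆ (H₀ : Set H.left) := by
    rintro _ ⟨t, rfl⟩ ⟨z, hzC, hzt⟩
    apply hzC
    rw [mem_range_qT]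
    obtain ⟨p, hp1, -⟩ := Scheme.exists_preimage_of_isPullback (isPullback_XTmap f g)
      (Z.1.subschemeι z) t (by simpa using hzt)
    have hp : p ∈ ((Z.1.comap (PicF.XTmap f g)).support : Set _) := by
      rw [Scheme.IdealSheafData.support_comap, TopologicalSpace.Closeds.coe_preimage,
        Set.mem_preimage, ← Scheme.IdealSheafData.range_subschemeι]
      exact ⟨z, hp1.symm⟩
    rw [hg] at hp
    have := (mem_range_qT f j T p).1 (hY' hp)
    rw [← hp1, ← Scheme.Hom.comp_apply]
    simpa [PicF.XTmap] using this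
  let g₀ : T ⟶ Over.mk (H₀.ι ≫ H.hom) :=
    Over.homMk (IsOpenImmersion.lift H₀.ι g.left (by simpa using hrange)) (by
      change IsOpenImmersion.lift H₀.ι _ _ ≫ H₀.ι ≫ H.hom = _
      rw [← Category.assoc, IsOpenImmersion.lift_fac]
      exact Over.w g)
  have hg₀ : g₀ ≫ incl = g := by
    ext : 1
    exact IsOpenImmersion.lift_fac _ _ _
  refine ⟨g₀, ?_, ?_⟩
  · change FGA.hilbPull (j ≫ f) g₀ Z₀.1 = W.1
    rw [hcomm, hg₀, hg, hWq]
  · intro k hk
    change FGA.hilbPull (j ≫ f) k Z₀.1 = W.1 at hk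
    rw [hcomm] at hk
    have hs := hA (k ≫ incl) (by
      rintro _ ⟨t, rfl⟩
      exact (k.left t).2)
    have hk' : Z.1.comap (PicF.XTmap f (k ≫ incl)) = Y'.1 :=
      eq_ker_of_comap _ (qT f j T) W.1 hs hk
    apply (cancel_mono incl).1
    rw [hg₀]
    exact hguniq _ hk'

end Groth.Agent.S17082
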