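import Groth.Statements.S1676
import Groth.Agent.RegImmLib.RelQuasi
import Groth.Agent.S8656
import Groth.Agent.CurvLocusLib.LocP

set_option autoImplicit false
set_option backward.isDefEq.respectTransparency false
set_option backward.isDefEq.respectTransparency.types false
universe u
open CategoryTheory CategoryTheory.Limits AlgebraicGeometry TopologicalSpace
open SDiv

namespace Groth.Agent.S1676

/-- For a section that is a closed immersion, e.g. when f is separated: let f : X ⟶ S be a smooth
morphism and σ : S ⟶ X a section of f which is a closed immersion. Then σ is a regular closed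
immersion. -/
theorem result {X S : Scheme.{u}} (f : X ⟶ S) [Smooth f] (σ : S ⟶ X)
    (hσ : σ ≫ f = 𝟙 S) [IsClosedImmersion σ] : Mor2.IsRegularClosedImmersion σ := by
  haveI : Flat (σ ≫ f) := by rw [hσ]; infer_instance
  have hk := Groth.Agent.S8656.result (𝟙 S) (fun x => Groth.Agent.CurvLocusLib.isKoszulAt_of_smooth (𝟙 S) x) f σ hσ
  refine (Groth.Agent.RegImmLib.regClosed_iff σ).2 ⟨inferInstance, inferInstance, fun z => ?_⟩
  refine (Groth.Agent.RegImmLib.regular_of_relQuasi f σ z ?_).1
  obtain ⟨U, hz, hc, rs, hrs, hker⟩ := hk.2 z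
  exact ⟨U, hz, hc, rs, Groth.Agent.KRegLib.quasi_of_seq .koszul rs hrs, hker⟩

end Groth.Agent.S1676
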