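import Groth.Statements.S1522
import Groth.Agent.CurveCohLib.Nonspecial
import Groth.Agent.CurveCohLib.Clifford
import Groth.Agent.Lib.CurveDeg

set_option autoImplicit false
universe u
open CategoryTheory CategoryTheory.Limits AlgebraicGeometry
open Variety

namespace Groth.Agent.S1522

/-- On a proper curve over an algebraically closed field with g the dimension of H^1 of the structure
sheaf, every invertible module of degree at least 2g - 1 has H^1 equal to zero. -/
theorem result (k : Type u) [Field k] [IsAlgClosed k] (X : Scheme.{u}) [X.Over (Spec (CommRingCat.of k))]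
    [IsIntegral X] [IsProper (X ↘ (Spec (CommRingCat.of k)))] (hdim : topologicalKrullDim X = 1)
    (L : X.Modules) (hL : PicF.IsInvertible L)
    (hdeg : 2 * (Curv2.genus k X : ℤ) - 1 ≤ Curv2.deg k X L 1) :
    Subsingleton (Coh.HH X L 1) := by
  haveI := Groth.Agent.CurveCohLib.isNoetherian_of_proper (k := k) (X := X)
  have hO := Groth.Agent.CurveCohLib.Clifford.finrank_h0_structure (X := X) k
  have hLc := Groth.Agent.CurveDeg.isCoh_of_isInvertible hL
  refine Groth.Agent.CurveCohLib.Nonspecial.h1_of_euler k hdim hLc (fun φ hφ =>
    Groth.Agent.CurveCohLib.Nonspecial.section_of_sub k hLc hL (𝟙 L) φ hφ) ?_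
  have h := Groth.Agent.CurveCohLib.Nonspecial.euler_structure k hdim hO
  unfold Curv2.deg at hdeg
  push_cast at hdeg
  linarith

end Groth.Agent.S1522
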