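import Groth.Statements.S1523
import Groth.Agent.CurveDrop.Basic
import Groth.Agent.S1522

set_option autoImplicit false
set_option backward.isDefEq.respectTransparency false
set_option backward.isDefEq.respectTransparency.types false
set_option linter.style.haveILetI false
universe u
open CategoryTheory CategoryTheory.Limits AlgebraicGeometry
open Variety

namespace Groth.Agent.S1523
open Groth.Agent

/-- On a proper curve over an algebraically closed field there is an invertible module whose H^0 is
one-dimensional and whose H^1 vanishes, and an invertible module whose H^0 and H^1 both vanish. -/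
theorem result (k : Type u) [Field k] [IsAlgClosed k] (X : Scheme.{u}) [X.Over (Spec (CommRingCat.of k))]
    [IsIntegral X] [IsProper (X ↘ (Spec (CommRingCat.of k)))] (hdim : topologicalKrullDim X = 1) :
    (∃ L : X.Modules, PicF.IsInvertible L ∧ Module.finrank k (Coh.HH X L 0) = 1 ∧ Subsingleton (Coh.HH X L 1)) ∧
    (∃ N : X.Modules, PicF.IsInvertible N ∧ Subsingleton (Coh.HH X N 0) ∧ Subsingleton (Coh.HH X N 1)) := by
  haveI := CurveCohLib.isNoetherian_of_proper (k := k) (X := X)
  obtain ⟨L, hL, hd⟩ := CurveDrop.exists_deg k hdim (2 * Curv2.genus k X)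
  have h1 : Subsingleton (Coh.HH X L 1) := S1522.result k X hdim L hL (by rw [hd]; push_cast; linarith)
  have hO := CurveCohLib.Clifford.finrank_h0_structure (X := X) k
  have hχ := CurveRR.euler_eq_h0_sub_h1 k hdim.le (CurveDeg.isCoh_of_isInvertible hL).1
  have hχO := CurveCohLib.Nonspecial.euler_structure k hdim hO
  rw [Module.finrank_zero_of_subsingleton (M := Coh.HH X L 1)] at hχ
  unfold Curv2.deg at hd
  push_cast at hd hχ
  have key : ∀ (j : ℕ) (M : X.Modules), PicF.IsInvertible M → Subsingleton (Coh.HH X M 1) →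
      ∀ n, Module.finrank k (Coh.HH X M 0) = n + j →
      ∃ N : X.Modules, PicF.IsInvertible N ∧ Module.finrank k (Coh.HH X N 0) = n ∧ Subsingleton (Coh.HH X N 1) := by
    intro j
    induction j with
    | zero => intro M hM hM1 n hn; exact ⟨M, hM, hn, hM1⟩
    | succ j ih =>
      intro M hM hM1 n hn
      obtain ⟨N, hN, hN0, hN1⟩ := CurveDrop.exists_drop k hdim hM hM1 (n := n + j) hn
      exact ih N hN hN1 n hN0
  have hpos : 1 ≤ Module.finrank k (Coh.HH X L 0) := by omega
  constructor
  · obtain ⟨N, hN, hN0, hN1⟩ := key (Module.finrank k (Coh.HH X L 0) - 1) L hL h1 1 (by omega)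
    exact ⟨N, hN, hN0, hN1⟩
  · obtain ⟨N, hN, hN0, hN1⟩ := key (Module.finrank k (Coh.HH X L 0)) L hL h1 0 (by omega)
    haveI := CurveCohLib.finite_HH (k := k) (CurveDeg.isCoh_of_isInvertible hN) 0
    exact ⟨N, hN, Module.finrank_zero_iff.1 hN0, hN1⟩

end Groth.Agent.S1523
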