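import Groth.Statements.S10389
import Groth.Agent.AlgSpDec.MonoFibreFinite
import Groth.Agent.AlgSpLib.Points

set_option autoImplicit false
universe u
open CategoryTheory CategoryTheory.Limits AlgebraicGeometry Topology TopologicalSpace
open AlgSp

namespace Groth.Agent.S10389

/-- Let W = X ×_Y Z be a fibre product of algebraic spaces over a scheme S with projections p, q, and
let x ∈ |X|, z ∈ |Z| lie over the same point y ∈ |Y|. If y is represented by a monomorphism Spec k ⟶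
Y from the spectrum of a field and g : Z ⟶ Y is quasi-finite at z, then the set of points of |W|
mapping to x and to z is finite. (Special case: Y decent and g etale.) -/
theorem result {S : Scheme.{u}} {X Y Z W : AlgSp.Space S} (f : X ⟶ Y)
    (g : Z ⟶ Y) (p : W ⟶ X) (q : W ⟶ Z) (hW : IsPullback p.hom q.hom f.hom g.hom) (x : AlgSp.Points X.obj)
    (z : AlgSp.Points Z.obj) (hxz : AlgSp.Points.map f.hom x = AlgSp.Points.map g.hom z)
    (hy : ∃ r : AlgSp.FieldPt Y.obj, AlgSp.Points.mk r = AlgSp.Points.map g.hom z ∧ Mono r.toHom)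
    (hg : AlgSp.HasAtMor (fun U _ h u => ∃ W : U.Opens, u ∈ W ∧ LocallyQuasiFinite (W.ι ≫ h) ∧ LocallyOfFiniteType (W.ι ≫ h)) g.hom z) :
    {w : AlgSp.Points W.obj | AlgSp.Points.map p.hom w = x ∧ AlgSp.Points.map q.hom w = z}.Finite := by
  obtain ⟨r, hry, hm⟩ := hy
  obtain ⟨U, V, a, b, h, u, ha, hb, hw, hz, hQ⟩ := hg
  obtain ⟨U₁, c, -, hcs⟩ := X.property.atlas
  obtain ⟨u₁, hu₁⟩ := AlgSpLib.surjective_ofPt hcs x
  have hr : AlgSp.Representable r.toHom := Y.property.representable_from_yon _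
  let φ₂ : (AlgSp.yon S).obj U ⟶ Y.obj := (AlgSp.yon S).map h ≫ b
  have hφ₂ : AlgSp.Representable φ₂ := Y.property.representable_from_yon _
  let φ₁ : (AlgSp.yon S).obj U₁ ⟶ Y.obj := c ≫ f.hom
  let R := hφ₂.pullback φ₁
  let s : R ⟶ U₁ := hφ₂.snd φ₁
  let t : R ⟶ U := hφ₂.fst' φ₁
  have hR : IsPullback ((AlgSp.yon S).map t) ((AlgSp.yon S).map s) φ₂ φ₁ := hφ₂.isPullback' φ₁
  have hfin := AlgSpDec.finite_fibre_of_mono_point r hr φ₁ hb h hR u₁ u
    (by rw [hry, ← AlgSp.Points.map_ofPt, hu₁, hxz])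
    (by rw [hry, ← hz, AlgSp.Points.map_ofPt, hw])
    hQ
  let m : (AlgSp.yon S).obj R ⟶ W.obj := hW.lift ((AlgSp.yon S).map s ≫ c) ((AlgSp.yon S).map t ≫ a) (by
    rw [Category.assoc, Category.assoc, hw]; exact hR.w.symm)
  refine (hfin.image (AlgSp.Points.ofPt m)).subset ?_
  rintro w ⟨hwx, hwz⟩
  have sq₁ := IsPullback.of_hasPullback c p.hom
  obtain ⟨z₁, hz₁, hz₁'⟩ := AlgSpLib.exists_point_of_isPullback sq₁
    (x := AlgSp.Points.ofScheme U₁ u₁) (y := w) (by
      rw [hwx, AlgSp.Points.map_ofPt, Category.id_comp, hu₁])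
  have sq₂ := IsPullback.of_hasPullback (pullback.snd c p.hom ≫ q.hom) a
  obtain ⟨z₂, hz₂, hz₂'⟩ := AlgSpLib.exists_point_of_isPullback sq₂
    (x := z₁) (y := AlgSp.Points.ofScheme U u) (by
      rw [AlgSp.Points.map_comp, hz₁', hwz, AlgSp.Points.map_ofPt, Category.id_comp, hz])
  let A₁ := pullback.fst (pullback.snd c p.hom ≫ q.hom) a ≫ pullback.fst c p.hom
  let A₂ := pullback.snd (pullback.snd c p.hom ≫ q.hom) a
  have hA : A₂ ≫ φ₂ = A₁ ≫ φ₁ := by
    change A₂ ≫ (AlgSp.yon S).map h ≫ b = A₁ ≫ c ≫ f.hom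
    rw [← hw, ← pullback.condition_assoc, Category.assoc, Category.assoc, pullback.condition_assoc (f := c), hW.w]
  let L := hR.lift A₂ A₁ hA
  obtain ⟨r₀, hr₀⟩ := (AlgSp.Points.schemeHomeo R).surjective (AlgSp.Points.map L z₂)
  refine ⟨r₀, ⟨?_, ?_⟩, ?_⟩
  · refine (AlgSp.Points.schemeHomeo U₁).injective ?_
    change AlgSp.Points.ofPt (𝟙 _) (s.left r₀) = AlgSp.Points.ofScheme U₁ u₁
    rw [← AlgSpLib.ofPt_comp, Category.comp_id, ← Category.id_comp ((AlgSp.yon S).map s), ← AlgSp.Points.map_ofPt,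
      show AlgSp.Points.ofPt (𝟙 _) r₀ = _ from hr₀, ← AlgSp.Points.map_comp, hR.lift_snd, AlgSp.Points.map_comp, hz₂, hz₁]
  · refine (AlgSp.Points.schemeHomeo U).injective ?_
    change AlgSp.Points.ofPt (𝟙 _) (t.left r₀) = AlgSp.Points.ofScheme U u
    rw [← AlgSpLib.ofPt_comp, Category.comp_id, ← Category.id_comp ((AlgSp.yon S).map t), ← AlgSp.Points.map_ofPt,
      show AlgSp.Points.ofPt (𝟙 _) r₀ = _ from hr₀, ← AlgSp.Points.map_comp, hR.lift_fst, hz₂']
  · rw [← Category.id_comp m, ← AlgSp.Points.map_ofPt, show AlgSp.Points.ofPt (𝟙 _) r₀ = _ from hr₀,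
      ← AlgSp.Points.map_comp, ← hz₁', ← hz₂, ← AlgSp.Points.map_comp]
    have e : L ≫ m = pullback.fst (pullback.snd c p.hom ≫ q.hom) a ≫ pullback.snd c p.hom := by
      refine hW.hom_ext ?_ ?_
      · rw [Category.assoc, Category.assoc, hW.lift_fst, ← Category.assoc, hR.lift_snd, Category.assoc,
          pullback.condition]
      · rw [Category.assoc, Category.assoc, hW.lift_snd, ← Category.assoc, hR.lift_fst, pullback.condition]
    rw [e]

end Groth.Agent.S10389
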