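import Groth.Statements.S10408
import Groth.Agent.AlgSpLib.Points
import Groth.Agent.AlgSpDec.FreeQuotSep
import Groth.Agent.AlgSpLib.Rep

set_option autoImplicit false
universe u
open CategoryTheory CategoryTheory.Limits AlgebraicGeometry Topology TopologicalSpace
open AlgSp

namespace Groth.Agent.S10408

/-- (4) ⇒ (2): let S be a scheme and X an algebraic space over S. Suppose x ∈ |X| is a point represented
by a monomorphism Spec k ⟶ X, where k is a field. Then for every etale φ : U ⟶ X with U a scheme and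
all u, u' ∈ U over x, the map |U ×_X U| → |U| ×_{|X|} |U| has finite fibre over the point (u, u'). -/
theorem result {S : Scheme.{u}} (X : AlgSp.Space S) (x : AlgSp.Points X.obj)
    (hx : ∃ p : AlgSp.FieldPt X.obj, AlgSp.Points.mk p = x ∧ Mono p.toHom) {U : Over S}
    (φ : (AlgSp.yon S).obj U ⟶ X.obj) (hφ : AlgSp.RepWith @Etale φ) (u u' : ↥U.left)
    (hu : AlgSp.Points.ofPt φ u = x) (hu' : AlgSp.Points.ofPt φ u' = x) :
    ∀ (R : Over S) (s t : R ⟶ U), IsPullback ((AlgSp.yon S).map t) ((AlgSp.yon S).map s) φ φ →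
          {r : ↥R.left | s.left r = u ∧ t.left r = u'}.Finite := by
  intro R s t hR
  obtain ⟨p, rfl, hp⟩ := hx
  have hpr : AlgSp.Representable p.toHom := X.property.representable_from_yon _
  have hφs : Mono p.toHom := hp
  let sqV := hpr.isPullback' φ
  let v₁ := hpr.fst' φ
  let v₂ := hpr.snd φ
  have : Etale v₁.left := hφ.property _ _ _ sqV.flip
  have : Mono v₂ := (AlgSp.yon S).mono_of_mono_map (PullbackCone.mono_snd_of_is_pullback_of_mono sqV.isLimit)
  have : Mono v₂.left := inferInstanceAs (Mono ((Over.forget S).map v₂))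
  have hinj : Function.Injective v₂.left := AlgSpDec.FreeAction.injective_of_mono v₂.left
  let cp : ↥(Spec (CommRingCat.of p.K)) := IsLocalRing.closedPoint p.K
  obtain ⟨v, -, hv⟩ := AlgSpLib.exists_ofPt_of_eq (u := cp) (v := u) sqV
    (by rw [AlgSp.Points.ofPt_toHom]; exact hu.symm)
  obtain ⟨v', -, hv'⟩ := AlgSpLib.exists_ofPt_of_eq (u := cp) (v := u') sqV
    (by rw [AlgSp.Points.ofPt_toHom]; exact hu'.symm)
  obtain ⟨A, hA, hvA, -⟩ := exists_isAffineOpen_mem_and_subset (U := (⊤ : (hpr.pullback φ).left.Opens)) (x := v) trivial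
  obtain ⟨B, hB, hvB, -⟩ := exists_isAffineOpen_mem_and_subset (U := (⊤ : (hpr.pullback φ).left.Opens)) (x := v') trivial
  have : IsAffine A.toScheme := hA
  have : IsAffine B.toScheme := hB
  have : IsAffine p.pt.left := inferInstanceAs (IsAffine (Spec (CommRingCat.of p.K)))
  let W₀ := pullback (A.ι ≫ v₁.left) (B.ι ≫ v₁.left)
  let c : W₀ ⟶ p.pt.left := pullback.fst _ _ ≫ A.ι ≫ v₁.left
  have : Etale (A.ι ≫ v₁.left) := inferInstance
  have : Etale (B.ι ≫ v₁.left) := inferInstance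
  have : Etale c := inferInstance
  have : IsAffine W₀ := inferInstance
  have hqc : QuasiCompact c := inferInstance
  have hfin : (Set.univ : Set ↥W₀).Finite :=
    (c.finite_preimage_singleton cp).subset fun _ _ => Subsingleton.elim (α := ↥(Spec (CommRingCat.of p.K))) _ _
  let W : Over S := Over.mk (pullback.fst (A.ι ≫ v₁.left) (B.ι ≫ v₁.left) ≫ A.ι ≫ (hpr.pullback φ).hom)
  let iA : W ⟶ hpr.pullback φ := CategoryTheory.Over.homMk (pullback.fst _ _ ≫ A.ι) (Category.assoc _ _ _)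
  let iB : W ⟶ hpr.pullback φ := CategoryTheory.Over.homMk (pullback.snd _ _ ≫ B.ι) (by
    change (pullback.snd _ _ ≫ B.ι) ≫ _ = _
    rw [← CategoryTheory.Over.w v₁]
    simp only [Category.assoc]
    have := pullback.condition_assoc (f := A.ι ≫ v₁.left) (g := B.ι ≫ v₁.left) p.pt.hom
    simp only [Category.assoc] at this
    rw [← this]
    change _ = pullback.fst _ _ ≫ A.ι ≫ _
    rw [CategoryTheory.Over.w])
  have hAB : iA ≫ v₁ = iB ≫ v₁ := Over.OverMorphism.ext (by
    change (pullback.fst _ _ ≫ A.ι) ≫ v₁.left = (pullback.snd _ _ ≫ B.ι) ≫ v₁.left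
    rw [Category.assoc, Category.assoc]
    exact pullback.condition)
  have wW : (AlgSp.yon S).map (iB ≫ v₂) ≫ φ = (AlgSp.yon S).map (iA ≫ v₂) ≫ φ := by
    rw [Functor.map_comp, Functor.map_comp, Category.assoc, Category.assoc, ← sqV.w, ← Category.assoc,
      ← Functor.map_comp, ← Category.assoc, ← Functor.map_comp, hAB]
  obtain ⟨m, hm⟩ := (AlgSp.yon S).map_surjective (hR.lift _ _ wW)
  have hmt : m ≫ t = iB ≫ v₂ := (AlgSp.yon S).map_injective (by rw [Functor.map_comp, hm, hR.lift_fst])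
  have hms : m ≫ s = iA ≫ v₂ := (AlgSp.yon S).map_injective (by rw [Functor.map_comp, hm, hR.lift_snd])
  refine (hfin.image m.left).subset ?_
  rintro r ⟨hrs, hrt⟩
  let g : (AlgSp.yon S).obj R ⟶ X.obj := (AlgSp.yon S).map s ≫ φ
  let w₁ := hpr.fst' g
  let w₂ := hpr.snd g
  have sqW := hpr.isPullback' g
  obtain ⟨w, -, hw⟩ := AlgSpLib.exists_ofPt_of_eq (u := cp) (v := r) sqW
    (by rw [AlgSp.Points.ofPt_toHom, AlgSpLib.ofPt_comp, hrs]; exact hu.symm)
  have ea : (AlgSp.yon S).map w₁ ≫ p.toHom = (AlgSp.yon S).map (w₂ ≫ s) ≫ φ := by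
    rw [sqW.w, Functor.map_comp, Category.assoc]
  have eb : (AlgSp.yon S).map w₁ ≫ p.toHom = (AlgSp.yon S).map (w₂ ≫ t) ≫ φ := by
    rw [sqW.w, Functor.map_comp, Category.assoc, hR.w]
  obtain ⟨a, ha⟩ := (AlgSp.yon S).map_surjective (sqV.lift _ _ ea)
  obtain ⟨b, hb⟩ := (AlgSp.yon S).map_surjective (sqV.lift _ _ eb)
  have ha₁ : a ≫ v₁ = w₁ := (AlgSp.yon S).map_injective (by rw [Functor.map_comp, ha]; exact sqV.lift_fst _ _ _)
  have hb₁ : b ≫ v₁ = w₁ := (AlgSp.yon S).map_injective (by rw [Functor.map_comp, hb]; exact sqV.lift_fst _ _ _)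
  have ha₂ : a ≫ v₂ = w₂ ≫ s := (AlgSp.yon S).map_injective (by rw [Functor.map_comp, ha]; exact sqV.lift_snd _ _ _)
  have hb₂ : b ≫ v₂ = w₂ ≫ t := (AlgSp.yon S).map_injective (by rw [Functor.map_comp, hb]; exact sqV.lift_snd _ _ _)
  have hwA : a.left w ∈ A := by
    have : a.left w = v := hinj (by
      rw [hv, ← Scheme.Hom.comp_apply, ← Over.comp_left, ha₂, Over.comp_left, Scheme.Hom.comp_apply, hw, hrs])
    exact this ▸ hvA
  have hwB : b.left w ∈ B := by
    have : b.left w = v' := hinj (by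
      rw [hv', ← Scheme.Hom.comp_apply, ← Over.comp_left, hb₂, Over.comp_left, Scheme.Hom.comp_apply, hw, hrt])
    exact this ▸ hvB
  let O := (a.left ⁻¹ᵁ A) ⊓ (b.left ⁻¹ᵁ B)
  let lA : O.toScheme ⟶ A.toScheme := IsOpenImmersion.lift A.ι (O.ι ≫ a.left) (by
    rw [Scheme.Opens.range_ι]; rintro _ ⟨o, rfl⟩; exact o.2.1)
  let lB : O.toScheme ⟶ B.toScheme := IsOpenImmersion.lift B.ι (O.ι ≫ b.left) (by
    rw [Scheme.Opens.range_ι]; rintro _ ⟨o, rfl⟩; exact o.2.2)
  let O' : Over S := Over.mk (O.ι ≫ (hpr.pullback g).hom)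
  let jO : O' ⟶ hpr.pullback g := CategoryTheory.Over.homMk O.ι rfl
  let l₀ : O.toScheme ⟶ W₀ := pullback.lift lA lB (by
    simp only [lA, lB, IsOpenImmersion.lift_fac_assoc, Category.assoc, ← Over.comp_left, ha₁, hb₁])
  let l : O' ⟶ W := CategoryTheory.Over.homMk l₀ (by
    change l₀ ≫ pullback.fst _ _ ≫ A.ι ≫ _ = O.ι ≫ _
    simp only [l₀, pullback.lift_fst_assoc, lA, IsOpenImmersion.lift_fac_assoc, Category.assoc, CategoryTheory.Over.w])
  have hlA : l ≫ iA = jO ≫ a := Over.OverMorphism.ext (by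
    change l₀ ≫ pullback.fst _ _ ≫ A.ι = O.ι ≫ a.left
    simp only [l₀, pullback.lift_fst_assoc, lA, IsOpenImmersion.lift_fac])
  have hlB : l ≫ iB = jO ≫ b := Over.OverMorphism.ext (by
    change l₀ ≫ pullback.snd _ _ ≫ B.ι = O.ι ≫ b.left
    simp only [l₀, pullback.lift_snd_assoc, lB, IsOpenImmersion.lift_fac])
  have key : l ≫ m = jO ≫ w₂ := (AlgSp.yon S).map_injective (hR.hom_ext
    (by rw [← Functor.map_comp, ← Functor.map_comp, Category.assoc, hmt, reassoc_of% hlB, hb₂, Category.assoc])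
    (by rw [← Functor.map_comp, ← Functor.map_comp, Category.assoc, hms, reassoc_of% hlA, ha₂, Category.assoc]))
  refine ⟨l.left ⟨w, hwA, hwB⟩, Set.mem_univ _, ?_⟩
  have := congrArg (fun f : O' ⟶ R => f.left ⟨w, hwA, hwB⟩) key
  exact this.trans hw

end Groth.Agent.S10408
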