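import Groth.Statements.S10705
import Groth.Agent.AlgSpDec.FlatReflect
import Groth.Agent.IsoNatLib.TrivLocus
-- import your own Groth.Agent.* helpers here

set_option autoImplicit false
universe u
open CategoryTheory CategoryTheory.Limits AlgebraicGeometry
open AlgSp

namespace Groth.Agent.S10705

set_option backward.isDefEq.respectTransparency false
set_option backward.isDefEq.respectTransparency.types false
open Groth.Agent.AlgSpLib Groth.Agent.AlgSpPts Groth.Agent.AlgSpDec

theorem mem_range_snd_iff {S : Scheme.{u}} {F G : Sp S} {i : F ⟶ G} {T : Over S} (hi : Representable i)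
    (φ : (yon S).obj T ⟶ G) (v : ↥T.left) :
    v ∈ Set.range (hi.snd φ).left ↔ Points.ofPt φ v ∈ Set.range (Points.map i) := by
  constructor
  · rintro ⟨w, rfl⟩
    exact ⟨Points.ofPt (hi.fst φ) w, by rw [Points.map_ofPt, hi.w, ofPt_comp]⟩
  · rintro ⟨z, hz⟩
    rw [Points.ofPt_eq_map_ofScheme] at hz
    obtain ⟨p, -, hp⟩ := exists_point_of_isPullback (hi.isPullback φ) hz
    refine ⟨Points.toScheme _ p, ?_⟩
    have := congrArg (Points.toScheme T) hp
    rw [Points.toScheme_ofScheme] at this
    rw [← this]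
    conv_rhs => rw [← Points.ofScheme_toScheme _ p, Points.map_ofPt, Category.id_comp]
    exact (Points.toScheme_ofPt _ _).symm

theorem isIso_snd_of_isPullback {S : Scheme.{u}} {X₁ X₂ Q Q₁ T P : Sp S} {a : X₁ ⟶ X₂} {q : Q ⟶ X₂}
    {b : Q₁ ⟶ X₁} {a' : Q₁ ⟶ Q} (sq : IsPullback b a' a q) [IsIso a'] {g : T ⟶ X₂} (k : T ⟶ Q)
    (hk : k ≫ q = g) {fst : P ⟶ X₁} {snd : P ⟶ T} (hP : IsPullback fst snd a g) : IsIso snd := by
  have w : (k ≫ inv a' ≫ b) ≫ a = 𝟙 T ≫ g := by
    rw [Category.assoc, Category.assoc, sq.w, IsIso.inv_hom_id_assoc, hk, Category.id_comp]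
  refine ⟨hP.lift _ _ w, hP.hom_ext ?_ (by simp), by simp⟩
  have hm : fst ≫ a = (snd ≫ k) ≫ q := by rw [hP.w, Category.assoc, hk]
  have e : sq.lift fst (snd ≫ k) hm = snd ≫ k ≫ inv a' := by
    rw [← cancel_mono a', IsPullback.lift_snd]
    simp
  conv_rhs => rw [Category.id_comp, ← sq.lift_fst fst (snd ≫ k) hm, e]
  simp

theorem isIso_pullback_snd_yon {S : Scheme.{u}} {X₁ X₂ Q Q₁ : Sp S} {a : X₁ ⟶ X₂} {q : Q ⟶ X₂}
    {b : Q₁ ⟶ X₁} {a' : Q₁ ⟶ Q} (sq : IsPullback b a' a q) [IsIso a'] {T V : Sp S} {g : T ⟶ X₂} (h : V ⟶ T)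
    (k : V ⟶ Q) (hk : k ≫ q = h ≫ g) : IsIso (pullback.snd (pullback.snd a g) h) :=
  isIso_snd_of_isPullback sq k hk ((IsPullback.of_hasPullback (pullback.snd a g) h).paste_horiz
    (IsPullback.of_hasPullback a g))

/-- Let `f : Y → X` be a quasi-compact quasi-separated morphism of algebraic spaces over `S`, `i : Z →
X` a closed immersion of finite presentation such that `f⁻¹Z → Z` is an isomorphism and `f` is flat
at every point of `|f⁻¹Z|`, and let `U ⊂ X` be the open subspace complementary to `Z`. Let `a : X₁ →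
X₂` be a morphism of algebraic spaces over `X`. If the base change of `a` to `U` and the base change
of `a` to `Y` are isomorphisms, then `a` is an isomorphism: the formal glueing functor reflects
isomorphisms. -/
theorem result {S : Scheme.{u}} {X Y Z FZ U : AlgSp.Space S} (f : Y ⟶ X)
    (hqc : AlgSp.IsQuasiCompactMor f.hom) (hqs : AlgSp.IsQuasiSeparatedMor f.hom) (i : Z ⟶ X)
    (hi : AlgSp.RepWith @IsClosedImmersion i.hom) (hifp : AlgSp.LocP @LocallyOfFinitePresentation i.hom)
    (iY : FZ ⟶ Y) (fZ : FZ ⟶ Z) (hFZ : IsPullback iY.hom fZ.hom f.hom i.hom) [IsIso fZ]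
    (hflat : ∀ y ∈ Set.range (AlgSp.Points.map iY.hom), AlgSp.IsFlatAtMor f.hom y) (j : U ⟶ X)
    (hj : AlgSp.RepWith @IsOpenImmersion j.hom)
    (hU : Set.range (AlgSp.Points.map j.hom) = (Set.range (AlgSp.Points.map i.hom))ᶜ)
    {X₁ X₂ QU QU₁ QY QY₁ : AlgSp.Space S} (p₂ : X₂ ⟶ X) (a : X₁ ⟶ X₂)
    (qU : QU ⟶ X₂) (rU : QU ⟶ U) (hQU : IsPullback qU.hom rU.hom p₂.hom j.hom) (aU : QU₁ ⟶ QU)
    (bU : QU₁ ⟶ X₁) (hQU₁ : IsPullback bU.hom aU.hom a.hom qU.hom) [IsIso aU] (qY : QY ⟶ X₂) (rY : QY ⟶ Y)
    (hQY : IsPullback qY.hom rY.hom p₂.hom f.hom) (aY : QY₁ ⟶ QY) (bY : QY₁ ⟶ X₁)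
    (hQY₁ : IsPullback bY.hom aY.hom a.hom qY.hom) [IsIso aY] : IsIso a := by
  have : IsIso aU.hom := inferInstanceAs (IsIso ((ObjectProperty.ι _).map aU))
  have : IsIso aY.hom := inferInstanceAs (IsIso ((ObjectProperty.ι _).map aY))
  have : IsIso fZ.hom := inferInstanceAs (IsIso ((ObjectProperty.ι _).map fZ))
  have hir : RepWith @LocallyOfFinitePresentation i.hom := repWith_of_locP X.property hi.rep hifp
  obtain ⟨B, b, hb, hbs⟩ := X.property.atlas
  obtain ⟨V, e, h, he, hes, heh⟩ := exists_chart_over Y.property X.property f.hom b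
  have key : ∀ {T : Over S} [IsAffine T.left] (g : (yon S).obj T ⟶ X₂.obj), IsIso (pullback.snd a.hom g) := by
    intro T _ g
    let gX : (yon S).obj T ⟶ X.obj := g ≫ p₂.hom
    -- the open piece
    let TU : Over S := hj.rep.pullback gX
    let jT : TU ⟶ T := hj.rep.snd gX
    have : IsOpenImmersion jT.left := hj.property_snd gX
    have : IsClosedImmersion (hi.rep.snd gX).left := hi.property_snd gX
    have : LocallyOfFinitePresentation (hi.rep.snd gX).left := hir.2 gX _ _ (hi.rep.isPullback gX)
    have hrange : Set.range jT.left = (Set.range (hi.rep.snd gX).left)ᶜ := Set.ext fun v => by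
      rw [Set.mem_compl_iff, mem_range_snd_iff hj.rep, mem_range_snd_iff hi.rep, hU]
      rfl
    have : CompactSpace ↥TU.left := by
      have h1 : IsCompact (Set.range jT.left) := by
        rw [hrange, ← Set.image_univ]
        exact IsoNatLib.isCompact_of_isConstructible
          (((hi.rep.snd gX).left.isConstructible_image Topology.IsConstructible.univ).compl)
      exact ⟨jT.left.isOpenEmbedding.isEmbedding.isCompact_iff.2 (by rwa [Set.image_univ])⟩
    have hUiso : IsIso (pullback.snd (pullback.snd a.hom g) ((yon S).map jT)) :=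
      isIso_pullback_snd_yon hQU₁ _ (hQU.lift ((yon S).map jT ≫ g) (hj.rep.fst gX)
        (by rw [Category.assoc]; exact (hj.rep.w gX).symm)) (IsPullback.lift_fst ..)
    -- the piece over `Y`
    have hTY : IsQuasiCompactSp (pullback f.hom gX) :=
      hqc (IsAlgSpace.yon_obj T) (isQuasiCompactSp_yon T) gX _ _ (IsPullback.of_hasPullback f.hom gX)
    obtain ⟨VY, c, hVY, -, hcs⟩ := AlgSpDec.exists_affine_atlas hTY
    have : IsAffine VY.left := hVY
    let qV : VY ⟶ T := (yon S).preimage (c ≫ pullback.snd f.hom gX)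
    have hqV : (yon S).map qV = c ≫ pullback.snd f.hom gX := (yon S).map_preimage _
    have hYiso : IsIso (pullback.snd (pullback.snd a.hom g) ((yon S).map qV)) :=
      isIso_pullback_snd_yon hQY₁ _ (hQY.lift ((yon S).map qV ≫ g) (c ≫ pullback.fst f.hom gX)
        (by rw [hqV, Category.assoc, Category.assoc, Category.assoc, pullback.condition])) (IsPullback.lift_fst ..)
    -- points over the closed subspace
    have hmem : ∀ w : ↥T.left, w ∉ Set.range jT.left →
        ∃ y : Points Y.obj, y ∈ Set.range (Points.map iY.hom) ∧ Points.map f.hom y = Points.ofPt gX w := by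
      intro w hw
      rw [hrange, Set.mem_compl_iff, not_not, mem_range_snd_iff hi.rep] at hw
      obtain ⟨z, hz⟩ := hw
      refine ⟨Points.map iY.hom (Points.map (inv fZ.hom) z), ⟨_, rfl⟩, ?_⟩
      rw [← Points.map_comp, hFZ.w, Points.map_comp, ← Points.map_comp (inv fZ.hom), IsIso.inv_hom_id,
        Points.map_id, hz]
    have : ∀ k : Bool, CompactSpace ↥(bif k then TU else VY).left := Bool.rec
      (inferInstanceAs (CompactSpace ↥VY.left)) (inferInstanceAs (CompactSpace ↥TU.left))
    refine isIso_of_flat_points (isAlgSpace_pullback X₁.property (IsAlgSpace.yon_obj T) X₂.property a.hom g)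
      (pullback.snd a.hom g) (κ := Bool) (fun k => bif k then TU else VY)
      (q := fun k => match k with | true => jT | false => qV) ?_ ?_ ?_
    · intro w
      by_cases hw : w ∈ Set.range jT.left
      · exact ⟨true, hw⟩
      · obtain ⟨y, -, hy⟩ := hmem w hw
        rw [Points.ofPt_eq_map_ofScheme] at hy
        obtain ⟨x, -, hx⟩ := exists_point_of_isPullback (IsPullback.of_hasPullback f.hom gX) hy
        obtain ⟨v, rfl⟩ := surjective_ofPt hcs x
        refine ⟨false, v, ?_⟩
        rw [Points.map_ofPt, ← hqV] at hx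
        exact ((Points.toScheme_ofPt qV v).symm.trans (congrArg (Points.toScheme T) hx)).trans
          (Points.toScheme_ofScheme T w)
    · rintro (_ | _)
      · exact hYiso
      · exact hUiso
    · intro w
      by_cases hw : w ∈ Set.range jT.left
      · obtain ⟨w', hw'⟩ := hw
        exact ⟨TU, jT, w', hw', Flat.stalkMap _ _, hUiso⟩
      obtain ⟨y, hy, hyw⟩ := hmem w hw
      let TB : Over S := hb.rep.pullback gX
      let rB : TB ⟶ T := hb.rep.snd gX
      have : Etale rB.left := hb.property_snd gX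
      have : Surjective rB.left := hbs.2 gX _ _ (hb.rep.isPullback gX)
      obtain ⟨tB, htB⟩ := rB.left.surjective w
      let k : TB ⟶ B := hb.rep.fst' gX
      have hk : (yon S).map k ≫ b = (yon S).map rB ≫ gX := (hb.rep.isPullback' gX).w
      obtain ⟨z, hz₁, hz₂⟩ := exists_point_of_isPullback (IsPullback.of_hasPullback f.hom b)
        (x := y) (y := Points.ofScheme B (k.left tB)) (by
          rw [hyw, ← Points.ofPt_eq_map_ofScheme, ← ofPt_comp, hk, ofPt_comp, htB])
      obtain ⟨v, rfl⟩ := surjective_ofPt hes z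
      rw [Points.map_ofPt] at hz₁ hz₂
      rw [heh] at hz₂
      have hv : h.left v = k.left tB := ((Points.toScheme_ofPt h v).symm.trans
        (congrArg (Points.toScheme B) hz₂)).trans (Points.toScheme_ofScheme B _)
      have hfl : (h.left.stalkMap v).hom.Flat := hflat y hy (e ≫ pullback.fst f.hom b) b h v
        (repWith_comp he (repWith_fst f.hom hb)) hb
        (by rw [Category.assoc, pullback.condition, ← Category.assoc, heh]) hz₁
      obtain ⟨w', hw₁, hw₂⟩ := Scheme.Pullback.exists_preimage_pullback v tB hv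
      let W' : Over S := Over.mk (pullback.snd h.left k.left ≫ TB.hom)
      let π₀ : W' ⟶ TB := CategoryTheory.Over.homMk (pullback.snd h.left k.left) rfl
      let l : W' ⟶ V := CategoryTheory.Over.homMk (pullback.fst h.left k.left) (by
        show pullback.fst h.left k.left ≫ V.hom = pullback.snd h.left k.left ≫ TB.hom
        rw [← Over.w h, ← Over.w k, pullback.condition_assoc])
      have hlh : l ≫ h = π₀ ≫ k := Over.OverMorphism.ext pullback.condition
      refine ⟨W', π₀ ≫ rB, w', ?_, ?_, ?_⟩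
      · exact (congrArg rB.left hw₂).trans htB
      · show ((pullback.snd h.left k.left ≫ rB.left).stalkMap w').hom.Flat
        have h1 : ((pullback.snd h.left k.left).stalkMap w').hom.Flat :=
          Triage.CMBC.flat_stalk_of_isPullback (IsPullback.of_hasPullback h.left k.left) w' (by rw [hw₁]; exact hfl)
        rw [Scheme.Hom.stalkMap_comp]
        exact RingHom.Flat.comp (Flat.stalkMap _ _) h1
      · refine isIso_pullback_snd_yon hQY₁ _ (hQY.lift ((yon S).map (π₀ ≫ rB) ≫ g)
          ((yon S).map l ≫ e ≫ pullback.fst f.hom b) ?_) (IsPullback.lift_fst ..)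
        rw [Category.assoc, show g ≫ p₂.hom = gX from rfl, Functor.map_comp, Category.assoc, ← hk,
          Category.assoc, Category.assoc, pullback.condition, ← Category.assoc e, heh, ← Category.assoc,
          ← Category.assoc, ← Functor.map_comp, ← Functor.map_comp, hlh]
  -- conclusion
  have hloc : ∀ {T : Over S} (g : (yon S).obj T ⟶ X₂.obj) (i : T.left.affineCover.I₀),
      IsIso (pullback.snd a.hom ((yon S).map (CategoryTheory.Over.homMk
        (U := Over.mk (T.left.affineCover.f i ≫ T.hom)) (T.left.affineCover.f i) rfl) ≫ g)) := fun {T} g i =>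
    @key _ (inferInstanceAs (IsAffine (T.left.affineCover.X i))) _
  have : Mono a.hom := mono_of_yon_injective fun T g₁ g₂ hg => by
    refine AlgSpDec.hom_ext_of_openCover T.left.affineCover g₁ g₂ fun i => ?_
    let ι : Over.mk (T.left.affineCover.f i ≫ T.hom) ⟶ T :=
      CategoryTheory.Over.homMk (T.left.affineCover.f i) rfl
    have := hloc (g₁ ≫ a.hom) i
    have e₀ : pullback.lift (f := a.hom) (g := (yon S).map ι ≫ g₁ ≫ a.hom) ((yon S).map ι ≫ g₁) (𝟙 _) (by simp) =
        pullback.lift ((yon S).map ι ≫ g₂) (𝟙 _) (by simp [hg]) := by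
      rw [← cancel_mono (pullback.snd a.hom ((yon S).map ι ≫ g₁ ≫ a.hom)), pullback.lift_snd, pullback.lift_snd]
    simpa using congrArg (· ≫ pullback.fst _ _) e₀
  have : Sheaf.IsLocallySurjective a.hom := by
    refine ⟨fun {T} x => AlgSpDec.mem_J_of_openCover T.left.affineCover _ fun i => ?_⟩
    let t : (yon S).obj T ⟶ X₂.obj := (J S).uliftYonedaEquiv.symm x
    let ι : Over.mk (T.left.affineCover.f i ≫ T.hom) ⟶ T :=
      CategoryTheory.Over.homMk (T.left.affineCover.f i) rfl
    have := hloc t i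
    let l := inv (pullback.snd a.hom ((yon S).map ι ≫ t)) ≫ pullback.fst _ _
    have hl : l ≫ a.hom = (yon S).map ι ≫ t := by simp [l, pullback.condition]
    refine ⟨(J S).uliftYonedaEquiv l, ?_⟩
    have h1 := uliftYonedaEquiv_precomp ι t
    rw [Equiv.apply_symm_apply, ← hl, GrothendieckTopology.uliftYonedaEquiv_comp] at h1
    exact h1.symm
  have : IsIso ((ObjectProperty.ι _).map a) := isIso_of_mono_of_locallySurjective a.hom
  exact isIso_of_fully_faithful (ObjectProperty.ι _) a

end Groth.Agent.S10705
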