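import Groth.Statements.S10716
import Groth.Agent.S10705
import Groth.Agent.AlgSpDec.GlueDescGlobal
-- import your own Groth.Agent.* helpers here

set_option autoImplicit false
universe w v u
open CategoryTheory CategoryTheory.Limits AlgebraicGeometry
open AlgSp

namespace Groth.Agent.S10716

set_option backward.isDefEq.respectTransparency false
set_option backward.isDefEq.respectTransparency.types false

open Groth.Agent.AlgSpLib Groth.Agent.AlgSpPts Groth.Agent.AlgSpDec

section

variable {S : Scheme.{u}} {I : Type v} [Category.{w} I]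

/-- A map out of a colimit of schemes, over the base. -/
theorem exists_over_desc {D : I ⥤ Over S} (c : Cocone D) (h : IsColimit ((Over.forget S).mapCocone c))
    {V : Over S} (f : ∀ i, D.obj i ⟶ V) (hf : ∀ ⦃i j⦄ (φ : i ⟶ j), D.map φ ≫ f j = f i) :
    ∃ m : c.pt ⟶ V, ∀ i, c.ι.app i ≫ m = f i := by
  let co : Cocone (D ⋙ Over.forget S) :=
    Cocone.mk V.left
      { app := fun i => (f i).left
        naturality := fun i j φ => by
          show (D.map φ).left ≫ (f j).left = (f i).left ≫ 𝟙 _
          rw [← Over.comp_left, hf φ, Category.comp_id] }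
  have hfac : ∀ i, (c.ι.app i).left ≫ h.desc co = (f i).left := fun i => h.fac co i
  refine ⟨CategoryTheory.Over.homMk (h.desc co) (h.hom_ext fun i => ?_), fun i => Over.OverMorphism.ext (hfac i)⟩
  show (c.ι.app i).left ≫ h.desc co ≫ V.hom = (c.ι.app i).left ≫ c.pt.hom
  rw [← Category.assoc, hfac, Over.w (f i)]
  exact (Over.w (c.ι.app i)).symm

theorem over_ext {D : I ⥤ Over S} (c : Cocone D) (h : IsColimit ((Over.forget S).mapCocone c))
    {V : Over S} {m m' : c.pt ⟶ V} (e : ∀ i, c.ι.app i ≫ m = c.ι.app i ≫ m') : m = m' :=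
  Over.OverMorphism.ext (h.hom_ext fun i => congrArg Over.Hom.left (e i))

/-- Maps from a colimit of schemes into an algebraic space are determined by the restrictions. -/
theorem sp_ext {D : I ⥤ Over S} (c : Cocone D) (h : IsColimit ((Over.forget S).mapCocone c)) {X : Sp S}
    (hX : IsAlgSpace X) (a b : (yon S).obj c.pt ⟶ X)
    (e : ∀ i, (yon S).map (c.ι.app i) ≫ a = (yon S).map (c.ι.app i) ≫ b) : a = b := by
  let π := (isTerminalYon S).from X
  obtain ⟨hdr, -, -, -, hdm⟩ := diagonal_package hX (IsAlgSpace.yon_obj (Over.mk (𝟙 S))) π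
  let st : (yon S).obj c.pt ⟶ pullback π π := pullback.lift a b ((isTerminalYon S).hom_ext _ _)
  have : Mono (hdr.snd st).left := hdm.property_snd st
  have hfac : ∀ i, ∃ l : D.obj i ⟶ hdr.pullback st, l ≫ hdr.snd st = c.ι.app i := fun i => by
    refine ⟨hdr.lift ((yon S).map (c.ι.app i) ≫ a) (c.ι.app i) (pullback.hom_ext ?_ ?_), hdr.lift_snd _ _ _⟩
    · simp [st]
    · simp only [Category.assoc, pullback.diagonal_snd, Category.comp_id, st, pullback.lift_snd]; exact e i
  choose l hl using hfac
  obtain ⟨m, hm⟩ := exists_over_desc c h l fun i j φ => by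
    refine Over.OverMorphism.ext ((cancel_mono (hdr.snd st).left).1 ?_)
    rw [← Over.comp_left, ← Over.comp_left, Category.assoc, hl, hl]
    exact congrArg Over.Hom.left (c.w φ)
  have hm' : m ≫ hdr.snd st = 𝟙 _ := over_ext c h fun i => by
    rw [← Category.assoc, hm, hl]
    exact (Category.comp_id _).symm
  have h2 : (yon S).map m ≫ hdr.fst st ≫ pullback.diagonal π = st := by
    rw [hdr.w st, ← Category.assoc, ← Functor.map_comp, hm', CategoryTheory.Functor.map_id, Category.id_comp]
  have ha' := congrArg (· ≫ pullback.fst π π) h2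
  have hb' := congrArg (· ≫ pullback.snd π π) h2
  simp only [Category.assoc, pullback.diagonal_fst, pullback.diagonal_snd, Category.comp_id, st,
    pullback.lift_fst, pullback.lift_snd] at ha' hb'
  exact ha'.symm.trans hb'

/-- The pullback of a diagram along a morphism to the vertex of a cocone. -/
theorem exists_pullback_cocone (D : I ⥤ Over S) (c : Cocone D) {V : Over S} (b : V ⟶ c.pt) :
    ∃ (D' : I ⥤ Over S) (α : D' ⟶ D) (ι : D' ⟶ (Functor.const I).obj V),
      ∀ i, IsPullback (ι.app i) (α.app i) b (c.ι.app i) := by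
  refine ⟨{ obj := fun i => pullback b (c.ι.app i)
            map := fun {i j} φ => pullback.lift (pullback.fst _ _) (pullback.snd _ _ ≫ D.map φ)
              (by rw [Category.assoc, c.w φ]; exact pullback.condition)
            map_id := fun i => pullback.hom_ext (by simp) (by simp)
            map_comp := fun {i j k} φ ψ => pullback.hom_ext (by simp) (by simp) },
    { app := fun i => pullback.snd _ _, naturality := fun i j φ => pullback.lift_snd _ _ _ },
    { app := fun i => pullback.fst _ _, naturality := fun i j φ => by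
        show pullback.lift _ _ _ ≫ pullback.fst _ _ = pullback.fst _ _ ≫ 𝟙 _
        rw [pullback.lift_fst, Category.comp_id] },
    fun i => IsPullback.of_hasPullback _ _⟩

theorem isSeparated_snd {X : Sp S} {K T : Over S} [IsAffine K.left] {g : (yon S).obj K ⟶ X}
    (hg : RepWith @Etale g) (x : (yon S).obj T ⟶ X) : IsSeparated (hg.rep.snd x).left := by
  have : IsSeparated K.hom := inferInstance
  let fst' := (yon S).preimage (hg.rep.fst x)
  have hw : fst'.left ≫ K.hom = (hg.rep.snd x).left ≫ T.hom := (Over.w fst').trans (Over.w (hg.rep.snd x)).symm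
  have : Mono (pullback.lift fst'.left (hg.rep.snd x).left hw) := ⟨fun {W} a b hab => by
    have h1 : a ≫ fst'.left = b ≫ fst'.left := by simpa using congrArg (· ≫ pullback.fst _ _) hab
    have h2 : a ≫ (hg.rep.snd x).left = b ≫ (hg.rep.snd x).left := by simpa using congrArg (· ≫ pullback.snd _ _) hab
    let A : Over.mk (a ≫ (hg.rep.pullback x).hom) ⟶ hg.rep.pullback x := CategoryTheory.Over.homMk a rfl
    let B : Over.mk (a ≫ (hg.rep.pullback x).hom) ⟶ hg.rep.pullback x := CategoryTheory.Over.homMk b (by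
      show b ≫ (hg.rep.pullback x).hom = a ≫ (hg.rep.pullback x).hom
      rw [← Over.w (hg.rep.snd x), ← Category.assoc, ← Category.assoc, h2])
    have : (yon S).map A = (yon S).map B := by
      refine (hg.rep.isPullback x).hom_ext ?_ ?_
      · rw [← (yon S).map_preimage (hg.rep.fst x), ← Functor.map_comp, ← Functor.map_comp]
        exact congrArg _ (Over.OverMorphism.ext h1)
      · rw [← Functor.map_comp, ← Functor.map_comp]
        exact congrArg _ (Over.OverMorphism.ext h2)
    exact congrArg Over.Hom.left ((yon S).map_injective this)⟩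
  rw [← pullback.lift_snd (f := K.hom) (g := T.hom) fst'.left (hg.rep.snd x).left hw]
  infer_instance

variable {D : I ⥤ Over S} (c : Cocone D)
  (h₃ : ∀ (D' : I ⥤ Over S) (α : D' ⟶ D) (c' : Cocone D') (a : c'.pt ⟶ c.pt), Etale a.left →
      (∀ i, IsPullback (c'.ι.app i) (α.app i) a (c.ι.app i)) → Nonempty (IsColimit ((Over.forget S).mapCocone c')))
  (h₄ : ∀ (D' : I ⥤ Over S) (α : D' ⟶ D), NatTrans.Equifibered α → (∀ i, Etale (α.app i).left) →
      (∀ i, IsSeparated (α.app i).left) →
      ∃ (c' : Cocone D') (a : c'.pt ⟶ c.pt), Etale a.left ∧ ∀ i, IsPullback (c'.ι.app i) (α.app i) a (c.ι.app i))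
  {X : Sp S} (hX : IsAlgSpace X) (s : ∀ i, (yon S).obj (D.obj i) ⟶ X)
  (hs : ∀ ⦃i j⦄ (φ : i ⟶ j), (yon S).map (D.map φ) ≫ s j = s i)

include h₃ h₄ hs in
theorem exists_chart_desc {K : Over S} [IsAffine K.left] (g : (yon S).obj K ⟶ X) (hg : RepWith @Etale g) :
    ∃ (V : Over S) (a : V ⟶ c.pt) (t : (yon S).obj V ⟶ X), Etale a.left ∧
      (∀ i (T : Over S) (l : T ⟶ V) (d : T ⟶ D.obj i), l ≫ a = d ≫ c.ι.app i →
        (yon S).map l ≫ t = (yon S).map d ≫ s i) ∧
      ∀ i (y : ↥(D.obj i).left), y ∈ Set.range (hg.rep.snd (s i)).left → (c.ι.app i).left y ∈ Set.range a.left := by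
  let D' : I ⥤ Over S :=
    { obj := fun i => hg.rep.pullback (s i)
      map := fun {i j} φ => hg.rep.lift (hg.rep.fst (s i)) (hg.rep.snd (s i) ≫ D.map φ)
        (by rw [hg.rep.w, Functor.map_comp, Category.assoc, hs φ])
      map_id := fun i => (yon S).map_injective ((hg.rep.isPullback (s i)).hom_ext
        (by rw [hg.rep.lift_fst, CategoryTheory.Functor.map_id, Category.id_comp])
        (((yon S).map_comp _ _).symm.trans ((congrArg _ (by
          rw [hg.rep.lift_snd, D.map_id, Category.comp_id, Category.id_comp])).trans ((yon S).map_comp _ _))))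
      map_comp := fun {i j k} φ ψ => (yon S).map_injective ((hg.rep.isPullback (s k)).hom_ext
        (by rw [hg.rep.lift_fst, Functor.map_comp, Category.assoc, hg.rep.lift_fst, hg.rep.lift_fst])
        (((yon S).map_comp _ _).symm.trans ((congrArg _ ((hg.rep.lift_snd _ _ _).trans ((congrArg (_ ≫ ·) (D.map_comp φ ψ)).trans
          ((Category.assoc _ _ _).symm.trans ((congrArg (· ≫ D.map ψ) (hg.rep.lift_snd _ _ _).symm).trans
          ((Category.assoc _ _ _).trans ((congrArg (_ ≫ ·) (hg.rep.lift_snd _ _ _).symm).trans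
          (Category.assoc _ _ _).symm))))))).trans ((yon S).map_comp _ _)))) }
  let α : D' ⟶ D :=
    { app := fun i => hg.rep.snd (s i), naturality := fun i j φ => hg.rep.lift_snd _ _ _ }
  have hα : NatTrans.Equifibered α := fun {i j} φ => by
    refine IsPullback.of_map_of_faithful (yon S) ?_
    refine IsPullback.of_right ?_ (by rw [← Functor.map_comp, ← Functor.map_comp]; exact congrArg _ (hg.rep.lift_snd _ _ _))
      (hg.rep.isPullback (s j)).flip.flip
    rw [hg.rep.lift_fst, hs φ]
    exact hg.rep.isPullback (s i)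
  obtain ⟨c', a, hae, hap⟩ := h₄ D' α hα (fun i => hg.property_snd (s i)) (fun i => isSeparated_snd hg (s i))
  obtain ⟨hc'⟩ := h₃ D' α c' a hae hap
  obtain ⟨m, hm⟩ := exists_over_desc c' hc' (fun i => (yon S).preimage (hg.rep.fst (s i))) fun i j φ => by
    refine (yon S).map_injective ?_
    rw [Functor.map_comp, Functor.map_preimage, Functor.map_preimage]
    exact hg.rep.lift_fst _ _ _
  refine ⟨c'.pt, a, (yon S).map m ≫ g, hae, fun i T l d hld => ?_, fun i y hy => ?_⟩
  · obtain ⟨q, hq₁, hq₂⟩ := (hap i).exists_lift l d hld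
    rw [← hq₁, ← hq₂, ← Functor.map_comp_assoc, Category.assoc, hm, Functor.map_comp, Functor.map_comp,
      Category.assoc, Category.assoc, Functor.map_preimage, hg.rep.w]
  · obtain ⟨z, rfl⟩ := hy
    refine ⟨(c'.ι.app i).left z, ?_⟩
    exact congrArg (fun m : D'.obj i ⟶ c.pt => m.left z) (hap i).w

include h₃ h₄ hX hs in
theorem exists_sp_desc (h₂ : ∀ x : ↥c.pt.left, ∃ (i : I) (y : ↥(D.obj i).left), (c.ι.app i).left y = x) :
    ∃ z : (yon S).obj c.pt ⟶ X, ∀ i, (yon S).map (c.ι.app i) ≫ z = s i := by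
  obtain ⟨U₀, q₀, hq₀, hq₀s⟩ := hX.atlas
  let K : U₀.left.affineCover.I₀ → Over S := fun j => Over.mk (U₀.left.affineCover.f j ≫ U₀.hom)
  let k : ∀ j, K j ⟶ U₀ := fun j => CategoryTheory.Over.homMk (U₀.left.affineCover.f j) rfl
  have hge : ∀ j, RepWith @Etale ((yon S).map (k j) ≫ q₀) := fun j =>
    repWith_comp ((repWith_yon_map_iff _ _).2 (inferInstanceAs (Etale (U₀.left.affineCover.f j)))) hq₀
  choose V a t hae hcomp hrange using fun j => (
    have : IsAffine (K j).left := inferInstanceAs (IsAffine (U₀.left.affineCover.X j))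
    exists_chart_desc c h₃ h₄ s hs ((yon S).map (k j) ≫ q₀) (hge j))
  let ψ : sigmaOver V ⟶ c.pt := CategoryTheory.Over.homMk (Sigma.desc fun j => (a j).left) (by
    apply Sigma.hom_ext
    intro j
    show Sigma.ι _ j ≫ Sigma.desc _ ≫ c.pt.hom = Sigma.ι _ j ≫ Sigma.desc _
    rw [Sigma.ι_desc_assoc, Sigma.ι_desc, Over.w (a j)])
  have hψι : ∀ j, sigmaι V j ≫ ψ = a j := fun j => Over.OverMorphism.ext (Sigma.ι_desc _ _)
  have : Etale ψ.left := IsZariskiLocalAtSource.sigmaDesc fun j => hae j
  have : Surjective ψ.left := ⟨fun x => by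
    obtain ⟨i, y, rfl⟩ := h₂ x
    obtain ⟨v, hv⟩ := surjective_ofPt hq₀s (AlgSp.Points.ofPt (s i) y)
    obtain ⟨j, w, hw⟩ := U₀.left.affineCover.exists_eq v
    have hy : y ∈ Set.range ((hge j).rep.snd (s i)).left := by
      refine (Groth.Agent.S10705.mem_range_snd_iff (hge j).rep (s i) y).2 ⟨AlgSp.Points.ofScheme (K j) w, ?_⟩
      rw [← AlgSp.Points.ofPt_eq_map_ofScheme, ofPt_comp, show (k j).left w = v from hw, hv]
    obtain ⟨p, hp⟩ := hrange j i y hy
    exact ⟨(sigmaι V j).left p, by rw [← Scheme.Hom.comp_apply, ← Over.comp_left, hψι, hp]⟩⟩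
  obtain ⟨zP, hzP⟩ := exists_hom_sigma V t
  have hP : ∀ i (T : Over S) (l : T ⟶ sigmaOver V) (d : T ⟶ D.obj i), l ≫ ψ = d ≫ c.ι.app i →
      (yon S).map l ≫ zP = (yon S).map d ≫ s i := by
    intro i T l d hld
    let 𝒰 := (sigmaOpenCover fun j => (V j).left).pullback₁ l.left
    refine hom_ext_of_openCover 𝒰 _ _ fun j => ?_
    let e : Over.mk (𝒰.f j ≫ T.hom) ⟶ T := CategoryTheory.Over.homMk (𝒰.f j) rfl
    let e' : Over.mk (𝒰.f j ≫ T.hom) ⟶ V j := CategoryTheory.Over.homMk (pullback.snd _ _) (by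
      show pullback.snd _ _ ≫ (V j).hom = pullback.fst _ _ ≫ T.hom
      rw [← Over.w l, pullback.condition_assoc, ← Over.w (sigmaι V j)]
      rfl)
    have he : e' ≫ sigmaι V j = e ≫ l := Over.OverMorphism.ext pullback.condition.symm
    show (yon S).map e ≫ (yon S).map l ≫ zP = (yon S).map e ≫ (yon S).map d ≫ s i
    rw [← Functor.map_comp_assoc, ← he, Functor.map_comp, Category.assoc, hzP, ← Functor.map_comp_assoc]
    refine hcomp j i _ e' (e ≫ d) ?_
    rw [← hψι j, ← Category.assoc, he, Category.assoc, hld, Category.assoc]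
  let p₁ := pullback.fst ψ ψ
  let p₂ := pullback.snd ψ ψ
  have : Etale p₁.left :=
    MorphismProperty.of_isPullback ((IsPullback.of_hasPullback ψ ψ).map (Over.forget S)).flip ‹Etale ψ.left›
  have hb : Etale (p₁ ≫ ψ).left := by rw [Over.comp_left]; infer_instance
  obtain ⟨D'', α'', ι'', hpb⟩ := exists_pullback_cocone D c (p₁ ≫ ψ)
  obtain ⟨hc''⟩ := h₃ D'' α'' (Cocone.mk _ ι'') (p₁ ≫ ψ) hb hpb
  have key : (yon S).map p₁ ≫ zP = (yon S).map p₂ ≫ zP := by
    refine sp_ext (Cocone.mk _ ι'') hc'' hX _ _ fun i => ?_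
    rw [← Functor.map_comp_assoc, ← Functor.map_comp_assoc]
    have h1 : (ι''.app i ≫ p₁) ≫ ψ = α''.app i ≫ c.ι.app i := by rw [Category.assoc]; exact (hpb i).w
    have h2 : (ι''.app i ≫ p₂) ≫ ψ = α''.app i ≫ c.ι.app i := by
      rw [Category.assoc, ← pullback.condition]; exact (hpb i).w
    exact (hP i _ _ _ h1).trans (hP i _ _ _ h2).symm
  obtain ⟨z, hz⟩ := Groth.Agent.AlgSpLib.LimPresLfp.exists_desc_fppf ψ (fppf_of_etale ψ.left)
    (IsPullback.of_hasPullback ψ ψ) zP key
  refine ⟨z, fun i => ?_⟩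
  have hw := pullback.condition (f := ψ) (g := c.ι.app i)
  have : Etale (pullback.snd ψ (c.ι.app i)).left :=
    MorphismProperty.of_isPullback ((IsPullback.of_hasPullback ψ (c.ι.app i)).map (Over.forget S)) ‹Etale ψ.left›
  have : Surjective (pullback.snd ψ (c.ι.app i)).left :=
    MorphismProperty.of_isPullback ((IsPullback.of_hasPullback ψ (c.ι.app i)).map (Over.forget S)) ‹Surjective ψ.left›
  refine hom_ext_of_fppf _ (fppf_of_etale (pullback.snd ψ (c.ι.app i)).left) _ _ ?_
  rw [← Functor.map_comp_assoc, ← hw, Functor.map_comp, Category.assoc, hz]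
  exact hP i _ _ _ hw

end

/-- Let `D : I ⥤ Over S` be a diagram of schemes over `S` with a cocone `c` such that (1) `c` is a
colimit in the category of schemes, (2) the coprojections are jointly surjective, (3) for every
etale `U → c.pt` and every cocone of cartesian squares `U_i = D_i ×_{c.pt} U`, `U` is the colimit of
the `U_i` in the category of schemes, and (4) every equifibered system of separated etale morphisms
`U_i → D_i` (all transition squares cartesian) comes from some etale `U → c.pt` by base change. Then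
the image of `c` in algebraic spaces over `S` is a colimit there. -/
theorem result {S : Scheme.{u}} {I : Type v} [Category.{w} I] (D : I ⥤ Over S) (c : Cocone D)
    (h₁ : IsColimit ((Over.forget S).mapCocone c))
    (h₂ : ∀ x : ↥c.pt.left, ∃ (i : I) (y : ↥(D.obj i).left), (c.ι.app i).left y = x)
    (h₃ : ∀ (D' : I ⥤ Over S) (α : D' ⟶ D) (c' : Cocone D') (a : c'.pt ⟶ c.pt), Etale a.left →
      (∀ i, IsPullback (c'.ι.app i) (α.app i) a (c.ι.app i)) → Nonempty (IsColimit ((Over.forget S).mapCocone c')))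
    (h₄ : ∀ (D' : I ⥤ Over S) (α : D' ⟶ D), NatTrans.Equifibered α → (∀ i, Etale (α.app i).left) →
      (∀ i, IsSeparated (α.app i).left) →
      ∃ (c' : Cocone D') (a : c'.pt ⟶ c.pt), Etale a.left ∧ ∀ i, IsPullback (c'.ι.app i) (α.app i) a (c.ι.app i)) :
    Nonempty (IsColimit ((AlgSp.ofScheme S).mapCocone c)) := by
  exact ⟨
    { desc := fun s => ObjectProperty.homMk (exists_sp_desc c h₃ h₄ s.pt.property (fun i => (s.ι.app i).hom)
        (fun i j φ => congrArg (·.hom) (s.w φ)) h₂).choose
      fac := fun s i => ObjectProperty.hom_ext _ ((exists_sp_desc c h₃ h₄ s.pt.property (fun i => (s.ι.app i).hom)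
        (fun i j φ => congrArg (·.hom) (s.w φ)) h₂).choose_spec i)
      uniq := fun s m hm => ObjectProperty.hom_ext _ (sp_ext c h₁ s.pt.property _ _ fun i =>
        (congrArg (·.hom) (hm i)).trans ((exists_sp_desc c h₃ h₄ s.pt.property (fun i => (s.ι.app i).hom)
          (fun i j φ => congrArg (·.hom) (s.w φ)) h₂).choose_spec i).symm) }⟩

end Groth.Agent.S10716
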