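import Groth.Statements.S10699
import Groth.Agent.AlgSpDec.PushoutSpaces
-- import your own Groth.Agent.* helpers here

set_option autoImplicit false
universe u
open CategoryTheory CategoryTheory.Limits AlgebraicGeometry
open AlgSp

namespace Groth.Agent.S10699

set_option backward.isDefEq.respectTransparency false
set_option backward.isDefEq.respectTransparency.types false

/-- Let `t : X → X'` be a thickening of schemes over `S` and `a : X → Y` an affine morphism of schemes
over `S`, and let `Y'` be a pushout of `t` and `a` in the category of schemes over `S`. Then `Y'`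
remains a pushout when the square is viewed among algebraic spaces over `S`. -/
theorem result {S : Scheme.{u}} {X X' Y Y' : Over S} (t : X ⟶ X') (a : X ⟶ Y)
    (a' : X' ⟶ Y') (b : Y ⟶ Y') (ht : MoreMor.IsThickening t.left) [IsAffineHom a.left]
    (hpo : IsPushout t a a' b) :
    IsPushout ((AlgSp.ofScheme S).map t) ((AlgSp.ofScheme S).map a) ((AlgSp.ofScheme S).map a')
      ((AlgSp.ofScheme S).map b) := by
  have := ht.1
  have hsurj : Function.Surjective t.left := ht.2.surj
  refine Groth.Agent.AlgSpDec.isPushout_ofScheme t a a' b hpo (RingPO.chart_of_thickening hsurj) ?_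
  intro Z' X'' Y'' i' j' f g c _ _ _ _ _ _ hX hY
  have : Surjective i' := MorphismProperty.of_isPullback hX.flip ht.2
  exact RingPO.chart_of_thickening this.surj

end Groth.Agent.S10699
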