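import Groth.Statements.S1152
import Groth.Agent.RGLib.AmpleDescent
import Groth.Agent.AmpleX.BaseChange
import Groth.Agent.AlgSpLib.Descends2

set_option autoImplicit false
attribute [-instance] CategoryTheory.catToReflQuiver
set_option backward.isDefEq.respectTransparency false
set_option backward.isDefEq.respectTransparency.types false
open CategoryTheory CategoryTheory.Limits AlgebraicGeometry Opposite
universe u
open Desc
open Groth.Agent

namespace Groth.Agent.S1152

/-- Single quasi-compact flat surjective cover; the converse direction is base change: Let f : X ⟶ S be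
a morphism, L an invertible O_X-module, g : S' ⟶ S quasi-compact, flat and surjective, X' = X ×_S S'
with projections to X and S', and L' the pullback of L to X'. If L' is ample on X' relative to S',
then L is ample on X relative to S. -/
theorem result {X S S' : Scheme.{u}} (f : X ⟶ S) (L : X.Modules) (hL : PicF.IsInvertible L)
    (g : S' ⟶ S) [QuasiCompact g] [Flat g] [Surjective g]
    (h : RelAmple.IsRelAmple (pullback.snd f g) ((Scheme.Modules.pullback (pullback.fst f g)).obj L)) :
    RelAmple.IsRelAmple f L := by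
  haveI := h.1
  haveI : QuasiCompact f := MorphismProperty.of_isPullback_of_descendsAlong
    (P := @QuasiCompact) (Q := @Surjective ⊓ @Flat ⊓ @QuasiCompact)
    (IsPullback.of_hasPullback f g).flip ⟨⟨inferInstance, inferInstance⟩, inferInstance⟩ inferInstance
  refine ⟨inferInstance, fun V => ?_⟩
  haveI : IsAffine (V.1 : Scheme.{u}) := V.2
  obtain ⟨W, hWfin, hW⟩ := isCompact_iff_finite_and_eq_biUnion_affineOpens.mp
    (g.isCompact_preimage V.2.isCompact)
  haveI : Finite W := hWfin.to_subtype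
  haveI : ∀ j : W, IsAffine ((j.1.1 : S'.Opens) : Scheme.{u}) := fun j => j.1.2
  let c : (∐ fun j : W => ((j.1.1 : S'.Opens) : Scheme.{u})) ⟶ S' := Sigma.desc fun j : W => j.1.1.ι
  have hle : ∀ j : W, j.1.1 ≤ g ⁻¹ᵁ V.1 := fun j => hW ▸ le_iSup₂ (f := fun (U : S'.affineOpens) (_ : U ∈ W) => U.1) j.1 j.2
  let g'' : (∐ fun j : W => ((j.1.1 : S'.Opens) : Scheme.{u})) ⟶ V.1 :=
    Sigma.desc fun j : W => S'.homOfLE (hle j) ≫ (g ∣_ V.1)
  have hcg : g'' ≫ V.1.ι = c ≫ g := by
    apply Sigma.hom_ext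
    intro j
    simp [g'', c, morphismRestrict_ι]
  haveI : Flat c := IsZariskiLocalAtSource.sigmaDesc fun j => inferInstance
  haveI : Flat g'' := by
    haveI : Flat (g'' ≫ V.1.ι) := by rw [hcg]; infer_instance
    haveI : Flat (g ∣_ V.1) := IsZariskiLocalAtTarget.restrict (P := @Flat) inferInstance _
    exact IsZariskiLocalAtSource.sigmaDesc fun j => inferInstance
  haveI : Surjective g'' := ⟨fun v => by
    obtain ⟨s, hs⟩ := g.surjective v.1
    have hmem : s ∈ g ⁻¹ᵁ V.1 := show g s ∈ V.1 from hs ▸ v.2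
    rw [hW] at hmem
    simp only [TopologicalSpace.Opens.mem_iSup] at hmem
    obtain ⟨U, hU, hsU⟩ := hmem
    refine ⟨Sigma.ι (fun j : W => ((j.1.1 : S'.Opens) : Scheme.{u})) ⟨U, hU⟩ ⟨s, hsU⟩, V.1.ι.injective ?_⟩
    rw [← Scheme.Hom.comp_apply g'', hcg, ← Scheme.Hom.comp_apply]
    simp [c, hs]⟩
  have hL' := AmpleX.isRelAmple_baseChange (pullback.snd f g) c h
  haveI := hL'.1
  have h1 := (AmpleX.isRelAmple_iff_isAmple _ _).1 hL'
  haveI : QuasiCompact (f ∣_ V.1) := IsZariskiLocalAtTarget.restrict (P := @QuasiCompact) inferInstance _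
  refine Groth.Agent.RGLib.AmpleDescent.isAmple_of_isAmple_pullback (f ∣_ V.1) g''
    (AmpleX.isInvertible_restrict _ hL) ?_
  have sq1 : IsPullback (pullback.fst (pullback.snd f g) c ≫ pullback.fst f g)
      (pullback.snd (pullback.snd f g) c) f (c ≫ g) :=
    (IsPullback.of_hasPullback (pullback.snd f g) c).paste_horiz (IsPullback.of_hasPullback f g)
  have sq2 : IsPullback (pullback.fst (f ∣_ V.1) g'' ≫ (f ⁻¹ᵁ V.1).ι) (pullback.snd (f ∣_ V.1) g'')
      f (c ≫ g) := by
    rw [← hcg]
    exact (IsPullback.of_hasPullback (f ∣_ V.1) g'').paste_horiz (isPullback_morphismRestrict f V.1).flip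
  let E := sq2.isoIsPullback _ _ sq1
  have hE : E.hom ≫ pullback.fst (pullback.snd f g) c ≫ pullback.fst f g =
      pullback.fst (f ∣_ V.1) g'' ≫ (f ⁻¹ᵁ V.1).ι := IsPullback.isoIsPullback_hom_fst ..
  haveI : CompactSpace ↥(pullback (f ∣_ V.1) g'') := by
    haveI := h1.2.1
    exact E.hom.homeomorph.symm.compactSpace
  refine AmpleX.isAmple_of_iso ?_ (AmpleX.isAmple_pullback_of_isOpenImmersion E.hom h1.1 fun z => ?_)
  · exact (Scheme.Modules.pullback E.hom).mapIso ((Scheme.Modules.pullbackComp _ _).app L) ≪≫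
      (Scheme.Modules.pullbackComp E.hom _).app L ≪≫
      (Scheme.Modules.pullbackCongr hE).app L ≪≫
      ((Scheme.Modules.pullbackComp _ _).app L).symm ≪≫
      (Scheme.Modules.pullback _).mapIso ((Scheme.Modules.restrictFunctorIsoPullback (f ⁻¹ᵁ V.1).ι).app L).symm
  · obtain ⟨m, hm, s, hs, hs'⟩ := (AmpleX.isAmple_iff.1 h1).2.2 (E.hom z)
    exact ⟨m, hm, s, hs, by rw [Scheme.Hom.opensRange_of_isIso]; exact le_top, hs'⟩

end Groth.Agent.S1152
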