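import Groth.Statements.S17880
import Groth.Agent.AlgGlue.Models
import Groth.Agent.S9199

set_option backward.isDefEq.respectTransparency false

set_option autoImplicit false
universe u
open CategoryTheory AlgebraicGeometry
open Lim

namespace Groth.Agent.S17880

/-- Let f : Y → X be a morphism of schemes with X and Y quasi-compact and quasi-separated. Then f is the
composite of an affine morphism Y → Z and a morphism Z → X of finite presentation (locally of finite
presentation, quasi-compact and quasi-separated); if f is separated, Z → X can in addition be chosen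
separated. Both assertions are packaged in one existential. -/
theorem result {X Y : Scheme.{u}} (f : Y ⟶ X)
    [CompactSpace X] [QuasiSeparatedSpace X] [CompactSpace Y] [QuasiSeparatedSpace Y] :
    ∃ (Z : Scheme.{u}) (g : Y ⟶ Z) (h : Z ⟶ X), IsAffineHom g ∧ LocallyOfFinitePresentation h ∧
      QuasiCompact h ∧ QuasiSeparated h ∧ (IsSeparated f → IsSeparated h) ∧ g ≫ h = f := by
  obtain ⟨I, hI, hdir, hne, D, t, π, hw, hlim, hπ, hprops, haff, hπaff⟩ :=
    Groth.Agent.AlgGlue.exists_fp_system f
  by_cases hsep : IsSeparated f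
  · haveI : ∀ (i j : Iᵒᵖ) (a : i ⟶ j), IsAffineHom (D.map a) := fun i j a => haff a
    haveI : ∀ i, CompactSpace (D.obj i) := fun i => (hprops i).2.2.2.1
    haveI : ∀ i, QuasiSeparatedSpace (D.obj i) := fun i => (hprops i).2.2.2.2
    haveI := hsep
    let i₀ : Iᵒᵖ := Opposite.op hne.some
    haveI : IsSeparated (π i₀ ≫ t.app i₀) := by rw [hπ]; infer_instance
    obtain ⟨i₁, hi₁⟩ := Groth.Agent.S9199.result X D t _ hlim i₀
    exact ⟨D.obj i₁, π i₁, t.app i₁, hπaff i₁, (hprops i₁).1, (hprops i₁).2.1, (hprops i₁).2.2.1,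
      fun _ => hi₁ i₁ (𝟙 _), hπ i₁⟩
  · exact ⟨D.obj (Opposite.op hne.some), π _, t.app _, hπaff _, (hprops _).1, (hprops _).2.1,
      (hprops _).2.2.1, fun h => absurd h hsep, hπ _⟩

end Groth.Agent.S17880
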