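import Groth.Statements.S4466
import Groth.Agent.HilbPoly.PnTwist
import Groth.Agent.FlatMisc.DimConstr
import Groth.Agent.S0844
import Groth.Agent.S0843
import Groth.Agent.ComodLib.GradedAug

set_option autoImplicit false
set_option backward.isDefEq.respectTransparency false
set_option backward.isDefEq.respectTransparency.types false
universe u
open Coherent

namespace Groth.Agent.S4466

open AlgebraicGeometry CategoryTheory in
/-- Let k be a field, r > 0 and n any integer. Then the Euler characteristic of the twisting sheaf O(n)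
on projective r-space over k, namely the alternating sum of the dimensions of H^j(P^r_k, O(n)) for 0
≤ j ≤ r, equals the binomial coefficient C(n+r, r), understood as the binomial polynomial evaluated
at the integer n+r (so that it makes sense and is correct for negative n too). -/
theorem result (k : Type u) [Field k] (r : ℕ) (hr : 0 < r)
    (n : ℤ) :
    ((Finset.range (r + 1)).sum fun j => (-1 : ℤ) ^ j *
        (Module.finrank k (Coh.HH (CohB1.ProjSpace r k) (Twist.twistProjSpace r k n) j) : ℤ)) =
      Ring.choose (n + r) r := by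
  haveI : IsProper ((CohB1.ProjSpace r k) ↘ Spec (CommRingCat.of k)) := PnCoh.Chow.isProper_toSpec r k
  haveI : IsNoetherian (CohB1.ProjSpace r k) := CurveCohLib.isNoetherian_of_proper (k := k)
  have hL := HilbPoly.isAmple_twistProjSpace_one r k
  have hsum : ∀ z : ℤ, ((Finset.range (r + 1)).sum fun j => (-1 : ℤ) ^ j *
        (Module.finrank k (Coh.HH (CohB1.ProjSpace r k) (Twist.twistProjSpace r k z) j) : ℤ)) =
      Curv2.euler k (CohB1.ProjSpace r k) (Twist.twistProjSpace r k z) := fun z =>
    (CurveCohLib.euler_eq_sum (N := r + 1) fun i hi =>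
      S0844.result k r z i (fun h => by omega) (fun h => by omega)).symm
  -- the binomial polynomial
  set B : Polynomial ℚ := Polynomial.C ((r.factorial : ℚ)⁻¹) *
    (descPochhammer ℚ r).comp (Polynomial.X + Polynomial.C (r : ℚ)) with hB
  have hBz : ∀ z : ℤ, B.eval (z : ℚ) = ((Ring.choose (z + r) r : ℤ) : ℚ) := fun z => by
    rw [show ((Ring.choose (z + r) r : ℤ) : ℚ) = Ring.choose (((z + r : ℤ)) : ℚ) r from
        Ring.map_choose (Int.castRingHom ℚ) _ _, Ring.choose_eq_smul, smul_eq_mul, hB, Polynomial.eval_mul,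
      Polynomial.eval_C, Polynomial.eval_comp, Polynomial.eval_add, Polynomial.eval_X, Polynomial.eval_C,
      ← Polynomial.aeval_eq_smeval, ← descPochhammer_map (Int.castRingHom ℚ) r, Polynomial.eval_map,
      Polynomial.aeval_def]
    push_cast
    rfl
  let G := Twist.twistProjSpace r k 0
  have hG : Coh.IsCoh G := AmpleVan.isCoh_invertible (PnCoh.Finite.isInvertible_twist
    (𝒜 := CohB1.polyGrading r k) (PruferCoh.Xs r k) (PruferCoh.Xs_mem r k) (PruferCoh.iSup_Xs r k) 0)
  have hGz : ∀ z : ℤ, Curv2.euler k (CohB1.ProjSpace r k) (CohB1.tensorMod G (Twist.twistProjSpace r k z)) =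
      Curv2.euler k (CohB1.ProjSpace r k) (Twist.twistProjSpace r k z) := fun z => by
    obtain ⟨e⟩ := HilbPoly.nonempty_add r k 0 z
    exact (HilbPoly.additive_euler k).iso _ _ ⟨e ≪≫ eqToIso (by rw [zero_add])⟩
  haveI : IsProper (CohB1.ProjSpace.toSpec r k) := PnCoh.Chow.isProper_toSpec r k
  haveI : LocallyOfFinitePresentation (CohB1.ProjSpace.toSpec r k) := inferInstance
  obtain ⟨m, hm⟩ := FlatMisc.DimConstr.exists_dim_le (CohB1.ProjSpace.toSpec r k) (IsLocalRing.closedPoint k)
  haveI : Subsingleton (Spec (CommRingCat.of k)) := inferInstanceAs (Subsingleton (PrimeSpectrum k))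
  have hd : topologicalKrullDim ↥(CohB1.support G) ≤ (m : WithBot ℕ∞) :=
    (H23.TopDim.dim_le_dim_of_subset (fun x _ => Subsingleton.elim ((CohB1.ProjSpace.toSpec r k) x) _ :
      CohB1.support G ⊆ (CohB1.ProjSpace.toSpec r k) ⁻¹' {IsLocalRing.closedPoint k})).trans
      (((CohB1.ProjSpace.toSpec r k).fiberHomeo _).isHomeomorph.topologicalKrullDim_eq.ge.trans hm)
  obtain ⟨Q, hQ, -, -⟩ := HilbPoly.exists_hilb (k := k) hL.1 hG hd
  have hQz := fun z => HilbPoly.euler_twist_eq hG hd hQ z
  have hQB : Q = B := HilbPoly.poly_ext 0 fun j _ => by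
    rw [← Int.cast_natCast, ← hQz, hGz, ← hsum, hBz, Finset.sum_range_succ']
    have hz : ∀ i : ℕ, Module.finrank k (Coh.HH (CohB1.ProjSpace r k) (Twist.twistProjSpace r k j) (i + 1)) = 0 :=
      fun i => by
        haveI := S0844.result k r j (i + 1) (fun h => by omega) (fun h => by omega)
        exact Module.finrank_zero_of_subsingleton
    obtain ⟨φ⟩ := S0843.result k r j
    simp only [hz, φ.finrank_eq, (ComodLib.GradedAug.finrank_homogeneous (k := k) (r + 1) j).2, Nat.cast_zero, mul_zero,
      Finset.sum_const_zero, zero_add, pow_zero, one_mul]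
    rw [show ((j : ℤ) + r) = ((r + j : ℕ) : ℤ) by push_cast; ring, Ring.choose_natCast,
      show r + 1 + j - 1 = r + j by omega, Nat.choose_symm_add]
  have h := hQz n
  rw [hQB, hBz, hGz, ← hsum] at h
  exact_mod_cast h

end Groth.Agent.S4466
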