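import Groth.Statements.S2348
import Groth.Agent.S8851
import Groth.Agent.S1681
import Groth.Agent.S1682

set_option autoImplicit false
universe u
open CategoryTheory CategoryTheory.Limits AlgebraicGeometry
open EGA2

namespace Groth.Agent.S2348

set_option backward.isDefEq.respectTransparency.types false in
/-- For an ideal of O_Y: let Y be an integral scheme, I a nonzero quasi-coherent ideal sheaf and b : X →
Y a blowing up of Y in I (characterised by its universal property). Then X is integral, b sends the
generic point of X to that of Y and induces a bijection on their residue fields (b is birational).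
The printed statement also asserts that b is surjective; the proof does not show this and it fails
when I is not of finite type, so it is left out. -/
theorem result {X Y : Scheme.{u}} [IsIntegral Y] (I : Y.IdealSheafData) (hI : I ≠ ⊥)
    (b : X ⟶ Y) (hb : BlowUp.IsBlowUp b I) :
    ∃ (_ : IsIntegral X), ∃ hgen : b.base (genericPoint X) = genericPoint Y,
      Function.Bijective (b.residueFieldMap (genericPoint X)).hom := by
  haveI : IsReduced X := Groth.Agent.S8851.result I b hb
  have hη : genericPoint Y ∉ I.support := fun h => by
    refine hI (Scheme.IdealSheafData.support_eq_top_iff.1 ?_)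
    exact TopologicalSpace.Closeds.ext (Set.eq_univ_of_forall fun y =>
      (genericPoint_specializes y).mem_closed I.support.isClosed h)
  have hbij := Groth.Agent.S1681.result I b hb
  have hmaxY : ∀ x : Y, (∀ y : Y, y ⤳ x → y = x) → x = genericPoint Y := fun x hx =>
    (hx _ (genericPoint_specializes x)).symm
  have hmaxη : ∀ y : Y, y ⤳ genericPoint Y → y = genericPoint Y := fun y hy =>
    (Specializes.antisymm (genericPoint_specializes y) hy).symm.eq
  obtain ⟨x₀, hx₀, hbx₀⟩ := hbij.surjOn ⟨hmaxη, hη⟩
  have hcomp : ∀ Z ∈ irreducibleComponents (X : Type u), x₀ ∈ Z ∧ Z = closure {x₀} := by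
    intro Z hZ
    obtain ⟨ξ, hξ⟩ := QuasiSober.sober hZ.1 (isClosed_of_mem_irreducibleComponents Z hZ)
    have hmax : ∀ y : X, y ⤳ ξ → y = ξ := fun y hy => by
      have hle : Z ⊆ closure {y} := hξ.symm.subset.trans (specializes_iff_closure_subset.1 hy)
      have hyZ : y ∈ Z := hZ.2 isIrreducible_singleton.closure hle (subset_closure rfl)
      exact (Specializes.antisymm (hξ.specializes hyZ) hy).symm.eq
    have : ξ = x₀ := hbij.injOn hmax hx₀ ((hmaxY _ (hbij.mapsTo hmax).1).trans hbx₀.symm)
    subst this
    exact ⟨hξ.mem, hξ.symm⟩
  haveI : IrreducibleSpace X := by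
    have huniv : closure {x₀} = (Set.univ : Set X) := Set.eq_univ_of_forall fun y => by
      obtain ⟨Z, hZ, hyZ⟩ := exists_mem_irreducibleComponents_subset_of_isIrreducible {y}
        isIrreducible_singleton
      exact (hcomp Z hZ).2.subset (hyZ rfl)
    haveI : Nonempty X := ⟨x₀⟩
    exact { toPreirreducibleSpace := ⟨huniv ▸ isIrreducible_singleton.closure.2⟩, toNonempty := ‹_› }
  haveI : IsIntegral X := isIntegral_of_irreducibleSpace_of_isReduced X
  have hgen : b (genericPoint X) = genericPoint Y := by
    refine hmaxY _ (hbij.mapsTo (fun y hy => (Specializes.antisymm (genericPoint_specializes y) hy).symm.eq)).1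
  refine ⟨inferInstance, hgen, (b.residueFieldMap (genericPoint X)).hom.injective, fun z => ?_⟩
  have hiso := Groth.Agent.S1682.result I b hb
  haveI hoi : IsOpenImmersion (b ∣_ I.support.compl) := inferInstance
  have hmem : genericPoint X ∈ b ⁻¹ᵁ I.support.compl := by
    show b (genericPoint X) ∈ (I.support : Set Y)ᶜ
    rw [hgen]
    exact hη
  haveI : IsIso (b.stalkMap (genericPoint X)) :=
    ((MorphismProperty.isomorphisms _).arrow_mk_iso_iff
      (morphismRestrictStalkMap b I.support.compl ⟨_, hmem⟩)).1
        (inferInstanceAs (IsIso ((b ∣_ I.support.compl).toLRSHom.stalkMap (⟨genericPoint X, hmem⟩ : (b ⁻¹ᵁ I.support.compl).toScheme))))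
  obtain ⟨z', rfl⟩ := X.residue_surjective (genericPoint X) z
  obtain ⟨w, rfl⟩ := (ConcreteCategory.bijective_of_isIso (b.stalkMap (genericPoint X))).2 z'
  exact ⟨Y.residue _ w, congr($(Scheme.residue_residueFieldMap b (genericPoint X)).hom w)⟩

end Groth.Agent.S2348
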