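import Groth.Statements.S11449
import Groth.Agent.S12907
import Groth.Agent.CAlgOdd.AuslanderBuchsbaum
import Groth.Agent.RegLoc6.Serre
import Groth.Agent.LC.GorRows
import Groth.Agent.LC.GorHull
import Groth.Agent.Alg6.LocLoc

set_option autoImplicit false
universe u
open DefT

namespace Groth.Agent.S11449

set_option backward.isDefEq.respectTransparency false
set_option backward.isDefEq.respectTransparency.types false

/-- Let A be a regular local ring and I an ideal such that A/I is a Cohen–Macaulay local ring whose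
Krull dimension is dim A − 2. Then for some r there is an (r+1) × r matrix φ with entries in A such
that, writing f_i for (−1)^i times the determinant of φ with its i-th row removed (i = 0, …, r), the
elements f_0, …, f_r generate I, no family of fewer than r + 1 elements generates I, multiplication
by φ is an injective map A^r → A^{r+1}, and the image of that map is exactly the kernel of the map
A^{r+1} → A sending v to Σ_i v_i f_i; together with A → A/I this is a free resolution 0 → A^r →
A^{r+1} → A → A/I → 0. -/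
theorem result
    (A : Type u) [CommRing A] [IsRegularLocalRing A] (I : Ideal A)
    [LocCoh.IsCohenMacaulayLocalRing (A ⧸ I)]
    (hcodim : ringKrullDim (A ⧸ I) + 2 = ringKrullDim A) :
    ∃ (r : ℕ) (φ : Matrix (Fin (r + 1)) (Fin r) A),
      Ideal.span (Set.range (fun i : Fin (r + 1) => (-1 : A) ^ (i : ℕ) * (φ.submatrix i.succAbove id).det)) = I ∧
      I.spanFinrank = r + 1 ∧
      Function.Injective φ.mulVecLin ∧
      LinearMap.range φ.mulVecLin =
        LinearMap.ker (Fintype.linearCombination A (fun i : Fin (r + 1) => (-1 : A) ^ (i : ℕ) * (φ.submatrix i.succAbove id).det)) := by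
  classical
  haveI : IsLocalRing (A ⧸ I) := (inferInstance : LocCoh.IsCohenMacaulayLocalRing (A ⧸ I)).toIsLocalRing
  have hItop : I ≠ ⊤ := Ideal.Quotient.nontrivial_iff.mp inferInstance
  haveI := Groth.Agent.LC.gorenstein_of_isRegularLocalRing (R := A)
  haveI hCMR : LocCoh.IsCohenMacaulayLocalRing A := Groth.Agent.LC.isCohenMacaulayLocalRing_of_gorenstein
  obtain ⟨d, hd⟩ : ∃ d : ℕ, ringKrullDim A = d := ⟨_, ((isRegularLocalRing_iff A).1 ‹_›).symm⟩
  have hdR : LocCoh.depth A A = d := by
    have := hCMR.supportDim_eq_depth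
    rw [Module.supportDim_self_eq_ringKrullDim, hd] at this
    exact (WithBot.coe_inj.mp this).symm
  have hsd := (inferInstance : LocCoh.IsCohenMacaulayLocalRing (A ⧸ I)).supportDim_eq_depth
  rw [Module.supportDim_self_eq_ringKrullDim] at hsd
  have hdep : LocCoh.depth A (A ⧸ I) = LocCoh.depth (A ⧸ I) (A ⧸ I) :=
    Groth.Agent.Alg6.depth_eq_of_semilinear (Ideal.Quotient.mk I) Ideal.Quotient.mk_surjective (AddEquiv.refl _)
      fun r x => by
        obtain ⟨x, rfl⟩ := Ideal.Quotient.mk_surjective x
        exact map_mul (Ideal.Quotient.mk I) r x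
  obtain ⟨δ, hδ⟩ := Groth.Agent.LC.exists_depth_eq_nat (R := A) (M := A ⧸ I)
  rw [← hdep, hδ] at hsd
  have hδd : δ + 2 = d := by
    rw [hsd, hd] at hcodim
    have h' : (δ : ℕ∞) + 2 = (d : ℕ∞) := WithBot.coe_inj.1 (by rw [WithBot.coe_add]; exact hcodim)
    exact_mod_cast h'
  -- projective dimension two
  have hex : ∃ e, Groth.Agent.RegLoc6.PdLE A e (A ⧸ I) :=
    ⟨_, Groth.Agent.RegLoc6.pdLE_of_isRegularLocalRing A (A ⧸ I)⟩
  have hAB := Groth.Agent.CAlgOdd.AB.depth_add_eq (Nat.find hex) (A ⧸ I) (Nat.find_spec hex)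
    fun e' he' => Nat.find_min hex he'
  rw [hδ, hdR] at hAB
  have he2 : Nat.find hex = 2 := by
    have : δ + Nat.find hex = d := by exact_mod_cast hAB
    omega
  have hpdI : Groth.Agent.RegLoc6.PdLE A 1 I := by
    have h2 : Groth.Agent.RegLoc6.PdLE A 2 (A ⧸ I) := he2 ▸ Nat.find_spec hex
    exact Groth.Agent.RegLoc6.pdLE_of_equiv (LinearEquiv.ofEq _ _ (Submodule.ker_mkQ I))
      (Groth.Agent.RegLoc6.pdLE_ker (Submodule.mkQ I) (Submodule.mkQ_surjective I) h2
        (Groth.Agent.RegLoc6.pdLE_of_projective 1))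
  have hIbot : I ≠ ⊥ := by
    rintro rfl
    rw [ringKrullDim_eq_of_ringEquiv (RingEquiv.quotientBot A), hd] at hsd
    have : d = δ := by exact_mod_cast hsd
    omega
  -- a minimal presentation
  have hfg : Submodule.FG I := IsNoetherian.noetherian I
  haveI := hfg.finite_generators.to_subtype
  obtain ⟨n, hn, g, hg⟩ : ∃ n, Submodule.spanFinrank I = n ∧ ∃ g : Fin n → A, Ideal.span (Set.range g) = I := by
    let e : ↥(Submodule.generators I) ≃ Fin (Submodule.spanFinrank I) :=
      Finite.equivFinOfCardEq (by rw [Nat.card_coe_set_eq, hfg.generators_ncard])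
    refine ⟨_, rfl, Subtype.val ∘ e.symm, ?_⟩
    rw [Set.range_comp, e.symm.surjective.range_eq, Set.image_univ, Subtype.range_coe]
    exact Submodule.span_generators I
  let π := Fintype.linearCombination A g
  have hπ : LinearMap.range π = I := (Fintype.range_linearCombination A g).trans hg
  have hK : Module.Projective A (LinearMap.ker π) := by
    have h := Groth.Agent.RegLoc6.pdLE_ker π.rangeRestrict π.surjective_rangeRestrict
      (Groth.Agent.RegLoc6.pdLE_of_equiv (LinearEquiv.ofEq _ _ hπ.symm) hpdI)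
      (Groth.Agent.RegLoc6.pdLE_of_projective 0)
    exact Groth.Agent.RegLoc6.pdLE_zero_iff.1
      (Groth.Agent.RegLoc6.pdLE_of_equiv (LinearEquiv.ofEq _ _ (LinearMap.ker_rangeRestrict π)) h)
  haveI := hK
  haveI : Module.Free A (LinearMap.ker π) := Module.free_of_flat_of_isLocalRing
  let b := Module.finBasis A (LinearMap.ker π)
  obtain ⟨r, hr⟩ : ∃ r, Module.finrank A (LinearMap.ker π) = r := ⟨_, rfl⟩
  let L : (Fin r → A) →ₗ[A] (Fin n → A) :=
    (LinearMap.ker π).subtype.comp (b.reindex (finCongr hr)).equivFun.symm.toLinearMap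
  let Ψ : Matrix (Fin n) (Fin r) A := LinearMap.toMatrix' L
  have hΨL : Ψ.mulVecLin = L := by
    rw [← Matrix.toLin'_apply']
    exact Matrix.toLin'_toMatrix' L
  have hinj : Function.Injective L :=
    (LinearMap.ker π).injective_subtype.comp (b.reindex (finCongr hr)).equivFun.symm.injective
  have hrange : LinearMap.range L = LinearMap.ker π := by
    rw [LinearMap.range_comp_of_range_eq_top _ (LinearEquiv.range _), Submodule.range_subtype]
  obtain ⟨hnr, ⟨a, ha, hIa⟩, hdepth⟩ := Groth.Agent.S12907.result r n Ψ π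
    (by rw [hΨL]; exact LinearMap.ker_eq_bot.2 hinj) (by rw [hΨL, hrange]) (by rw [hπ]; exact hIbot)
  rw [hπ] at hIa
  subst hnr
  have hunit : IsUnit a := by
    by_contra hu
    have hle : I ≤ Ideal.span {a} := hIa ▸ Ideal.mul_le_left
    have h1 : ringKrullDim (A ⧸ Ideal.span {a}) ≤ ringKrullDim (A ⧸ I) :=
      ringKrullDim_le_of_surjective (Ideal.Quotient.factor hle) (Ideal.Quotient.factor_surjective hle)
    have h2 := ringKrullDim_le_ringKrullDim_quotient_add_encard {a} (by
      rw [IsLocalRing.ringJacobson_eq_maximalIdeal, Set.singleton_subset_iff]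
      exact (IsLocalRing.mem_maximalIdeal a).2 hu)
    rw [Set.encard_singleton] at h2
    have h3 := h2.trans (add_le_add h1 le_rfl)
    rw [hsd, hd] at h3
    have : d ≤ δ + 1 := by exact_mod_cast h3
    omega
  have hspan : Ideal.span (Set.range (Groth.Agent.McCoy.delta Ψ)) = I := by
    rw [← Groth.Agent.McCoy.minorIdeal_eq_span_delta, hIa, Ideal.span_singleton_eq_top.2 hunit, Ideal.top_mul]
  refine ⟨r, Ψ, hspan, hn, hΨL.symm ▸ hinj, le_antisymm ?_ ?_⟩
  · rintro v ⟨w, rfl⟩
    rw [LinearMap.mem_ker, Fintype.linearCombination_apply, Matrix.mulVecLin_apply]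
    simp only [smul_eq_mul]
    exact (Finset.sum_congr rfl fun i _ => mul_comm _ _).trans (Groth.Agent.McCoy.sum_delta_mulVec Ψ w)
  · intro v hv
    rw [LinearMap.mem_ker, Fintype.linearCombination_apply] at hv
    simp only [smul_eq_mul] at hv
    exact Groth.Agent.McCoy.mem_range_of_hasRegularPair Ψ (Groth.Agent.McCoy.hasRegularPair_of_idealDepth hdepth) v
      ((Finset.sum_congr rfl fun i _ => mul_comm _ _).trans hv)


end Groth.Agent.S11449
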