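import Groth.Statements.S11460
import Groth.Agent.S11449
import Groth.Agent.DefTCodim2.Spread
import Groth.Agent.RegNear.Basic
import Groth.Agent.LC.LiaisonLocal
import Groth.Agent.GrpSchLib.SmoothRegular

set_option autoImplicit false
universe u
open CategoryTheory AlgebraicGeometry
open DefT

namespace Groth.Agent.S11460

set_option backward.isDefEq.respectTransparency false
set_option backward.isDefEq.respectTransparency.types false

/-- Let X be smooth over a field k and Y ⊆ X a closed subscheme which is Cohen–Macaulay of codimension 2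
(all local rings of Y Cohen–Macaulay, and dim O_{X,y} = dim O_{Y,y} + 2 at every point y of Y). Then
each point of Y has an affine open neighbourhood U in X and an (r+1) × r matrix φ of functions on U
whose signed maximal minors f_i generate the ideal of Y ∩ U and give an exact sequence 0 → O(U)^r →
O(U)^{r+1} → O(U), hence a resolution of O_{Y ∩ U} on the affine U. -/
theorem result (k : Type u) [Field k]
    (X Y : Scheme.{u}) (f : X ⟶ Spec (CommRingCat.of k)) [Smooth f] (ι : Y ⟶ X) [IsClosedImmersion ι]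
    (hCM : ∀ y : Y, LocCoh.IsCohenMacaulayLocalRing (Y.presheaf.stalk y))
    (hcodim : ∀ y : Y, ringKrullDim (Y.presheaf.stalk y) + 2 = ringKrullDim (X.presheaf.stalk (ι.base y)))
    (y : Y) :
    ∃ U : X.affineOpens, ι.base y ∈ (U : X.Opens) ∧ ∃ (r : ℕ) (φ : Matrix (Fin (r + 1)) (Fin r) Γ(X, U)),
      (Ideal.span (Set.range (fun i : Fin (r + 1) => (-1 : Γ(X, U)) ^ (i : ℕ) * ((φ).submatrix i.succAbove id).det)) = ι.ker.ideal U ∧
        Function.Injective (φ).mulVecLin ∧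
        LinearMap.range (φ).mulVecLin = LinearMap.ker (Fintype.linearCombination Γ(X, U) (fun i : Fin (r + 1) => (-1 : Γ(X, U)) ^ (i : ℕ) * ((φ).submatrix i.succAbove id).det))) := by
  haveI : IsLocallyNoetherian X := LocallyOfFiniteType.isLocallyNoetherian f
  obtain ⟨U₀, hU₀, hxU, -⟩ := exists_isAffineOpen_mem_and_subset (X := X) (x := ι y) (U := ⊤) trivial
  haveI : IsNoetherianRing Γ(X, U₀) := IsLocallyNoetherian.component_noetherian ⟨U₀, hU₀⟩
  letI : Algebra Γ(X, U₀) (X.presheaf.stalk (ι y)) := (X.presheaf.germ U₀ (ι y) hxU).hom.toAlgebra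
  haveI := hU₀.isLocalization_stalk ⟨ι y, hxU⟩
  have hker : RingHom.ker (ι.stalkMap y).hom =
      (ι.ker.ideal ⟨U₀, hU₀⟩).map (algebraMap Γ(X, U₀) (X.presheaf.stalk (ι y))) := by
    rw [Groth.Agent.RegNear.ker_stalkMap ι y hU₀ hxU, Scheme.Hom.ker_apply]
    rfl
  let e := RingHom.quotientKerEquivOfSurjective (f := (ι.stalkMap y).hom) (ι.stalkMap_surjective y)
  haveI := hCM y
  haveI : IsLocalRing (X.presheaf.stalk (ι y) ⧸ RingHom.ker (ι.stalkMap y).hom) := e.symm.isLocalRing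
  haveI : LocCoh.IsCohenMacaulayLocalRing (X.presheaf.stalk (ι y) ⧸ RingHom.ker (ι.stalkMap y).hom) :=
    Groth.Agent.LC.Liaison.isCMLocal_of_ringEquiv e.symm
  haveI := Groth.Agent.GrpSchLib.isRegularLocalRing_stalk_of_smooth f (ι y)
  obtain ⟨r, φ, h₁, -, h₂, h₃⟩ := Groth.Agent.S11449.result (X.presheaf.stalk (ι y))
    (RingHom.ker (ι.stalkMap y).hom) (by rw [ringKrullDim_eq_of_ringEquiv e]; exact hcodim y)
  obtain ⟨g, hg, Ψ, hΨ⟩ := Groth.Agent.DefTCodim2.Spread.exists_spread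
    (hU₀.primeIdealOf ⟨ι y, hxU⟩).asIdeal (X.presheaf.stalk (ι y)) (ι.ker.ideal ⟨U₀, hU₀⟩) φ (h₁.trans hker) h₂ h₃
  have hmem : ι y ∈ X.basicOpen g := (X.mem_basicOpen g (ι y) hxU).2
    (IsLocalization.map_units (X.presheaf.stalk (ι y))
      (⟨g, hg⟩ : (hU₀.primeIdealOf ⟨ι y, hxU⟩).asIdeal.primeCompl))
  haveI : IsLocalization.Away g Γ(X, X.basicOpen g) := hU₀.isLocalization_basicOpen g
  obtain ⟨c₁, c₂, c₃⟩ := hΨ Γ(X, X.basicOpen g)
  refine ⟨X.affineBasicOpen (U := ⟨U₀, hU₀⟩) g, hmem, r, Ψ.map (algebraMap Γ(X, U₀) Γ(X, X.basicOpen g)), ?_, c₂, c₃⟩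
  exact c₁.trans (ι.ker.map_ideal_basicOpen ⟨U₀, hU₀⟩ g)


end Groth.Agent.S11460
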