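import Groth.Statements.S4678
import Groth.Agent.KFlatLib.Scheme.TensorStalk
import Groth.Agent.QCoh.PullStalk
import Groth.Agent.MorLib.FlatBC
import Groth.Agent.QCoh.Pullback

set_option autoImplicit false
open CategoryTheory AlgebraicGeometry
universe u
open FDesc
open scoped TensorProduct

namespace Groth.Agent.S4678

lemma flat_tensor_trans (A B : Type*) (M N : Type u) [CommRing A] [CommRing B] [Algebra A B]
    [AddCommGroup M] [AddCommGroup N] [Module B M] [Module B N] [Module A M] [Module A N]
    [IsScalarTower A B M] [IsScalarTower A B N] [Module.Flat B M] [Module.Flat A N] :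
    Module.Flat A (M ⊗[B] N) := by
  rw [Module.Flat.iff_lTensor_preserves_injective_linearMap]
  intro P Q _ _ _ _ φ hφ
  let φ' : N ⊗[A] P →ₗ[B] N ⊗[A] Q := TensorProduct.AlgebraTensorModule.lTensor B N φ
  have h1 : Function.Injective φ' := fun a b hab =>
    Module.Flat.lTensor_preserves_injective_linearMap φ hφ hab
  have h2 := Module.Flat.lTensor_preserves_injective_linearMap (M := M) φ' h1
  let eP := TensorProduct.AlgebraTensorModule.assoc A B B M N P
  let eQ := TensorProduct.AlgebraTensorModule.assoc A B B M N Q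
  have hc : ∀ t, eQ (LinearMap.lTensor (M ⊗[B] N) φ t) = LinearMap.lTensor M φ' (eP t) := by
    intro t
    induction t using TensorProduct.induction_on with
    | zero => simp
    | add a b ha hb => simp [ha, hb]
    | tmul mn p =>
      induction mn using TensorProduct.induction_on with
      | zero => simp
      | add a b ha hb => simp only [TensorProduct.add_tmul, map_add, ha, hb]
      | tmul m n => simp [eP, eQ, φ']
  intro a b hab
  apply eP.injective
  apply h2
  rw [← hc, ← hc, hab]

set_option backward.isDefEq.respectTransparency false in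
set_option backward.isDefEq.respectTransparency.types false in
open MonoidalCategory in
theorem exists_tensor_stalkEquiv {X S : Scheme.{u}} (f : X ⟶ S) (F : X.Modules) (G : S.Modules) (hG : Coh.IsQCoh G)
    (x : X) :
    letI : Algebra (S.presheaf.stalk (f x)) (X.presheaf.stalk x) := (f.stalkMap x).hom.toAlgebra
    letI : Module (S.presheaf.stalk (f x)) (F.presheaf.stalk x) := Module.compHom _ (f.stalkMap x).hom
    haveI : IsScalarTower (S.presheaf.stalk (f x)) (X.presheaf.stalk x) (F.presheaf.stalk x) :=
      IsScalarTower.of_algebraMap_smul fun _ _ => rfl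
    Nonempty ((CohB1.tensorMod F ((Scheme.Modules.pullback f).obj G)).presheaf.stalk x ≃ₗ[X.presheaf.stalk x]
      F.presheaf.stalk x ⊗[S.presheaf.stalk (f x)] G.presheaf.stalk (f x)) := by
  letI : Algebra (S.presheaf.stalk (f x)) (X.presheaf.stalk x) := (f.stalkMap x).hom.toAlgebra
  letI : Module (S.presheaf.stalk (f x)) (F.presheaf.stalk x) := Module.compHom _ (f.stalkMap x).hom
  haveI : IsScalarTower (S.presheaf.stalk (f x)) (X.presheaf.stalk x) (F.presheaf.stalk x) :=
    IsScalarTower.of_algebraMap_smul fun _ _ => rfl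
  obtain ⟨e⟩ := Groth.Agent.QCoh.nonempty_pullStalkEquiv f hG x
  let G' := (Scheme.Modules.pullback f).obj G
  haveI := Groth.Agent.KFlatLib.isIso_stalk_unitShP (x := x) (CohB1.toPMod F ⊗ CohB1.toPMod G')
  let T : (F.presheaf.stalk x : Type u) ⊗[X.presheaf.stalk x] (G'.presheaf.stalk x : Type u) →ₗ[X.presheaf.stalk x]
      (CohB1.tensorMod F G').presheaf.stalk x :=
    (((Groth.Agent.KFlatLib.stalkP x).map (Groth.Agent.KFlatLib.unitShP (CohB1.toPMod F ⊗ CohB1.toPMod G'))).hom).comp
      (Groth.Agent.KFlatLib.tensorStalkEquiv (CohB1.toPMod F) (CohB1.toPMod G')).toLinearMap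
  have hT : Function.Bijective T :=
    (ConcreteCategory.bijective_of_isIso
      ((Groth.Agent.KFlatLib.stalkP x).map (Groth.Agent.KFlatLib.unitShP (CohB1.toPMod F ⊗ CohB1.toPMod G')))).comp
      (Groth.Agent.KFlatLib.tensorStalkEquiv (CohB1.toPMod F) (CohB1.toPMod G')).bijective
  exact ⟨(LinearEquiv.ofBijective T hT).symm ≪≫ₗ
    TensorProduct.congr (LinearEquiv.refl _ _) e ≪≫ₗ
      TensorProduct.AlgebraTensorModule.cancelBaseChange (S.presheaf.stalk (f x)) (X.presheaf.stalk x)
        (X.presheaf.stalk x) (F.presheaf.stalk x) (G.presheaf.stalk (f x))⟩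

open CategoryTheory.Limits in
/-- Let f : X → Y, g : Y' → Y and h : Y' → Z be morphisms of schemes, X' = X ×_Y Y' with projections p :
X' → X and q : X' → Y', and x' a point of X'. Let F be a quasi-coherent O_X-module which is flat
over Y at p(x') and G' a quasi-coherent O_{Y'}-module which is flat over Z at q(x'). Then the
O_{X'}-module p^*F ⊗ q^*G' is flat over Z at x', for the structure morphism q followed by h. -/
theorem result {X Y Y' Z : Scheme.{u}} (f : X ⟶ Y) (g : Y' ⟶ Y) (h : Y' ⟶ Z)
    (F : X.Modules) (hF : Coh.IsQCoh F) (G' : Y'.Modules) (hG' : Coh.IsQCoh G') (x' : ↥(pullback f g))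
    (hFx : FlatMod.IsFlatOverAt f F (pullback.fst f g x')) (hGy : FlatMod.IsFlatOverAt h G' (pullback.snd f g x')) :
    FlatMod.IsFlatOverAt (pullback.snd f g ≫ h) (CohB1.tensorMod ((Scheme.Modules.pullback (pullback.fst f g)).obj F) ((Scheme.Modules.pullback (pullback.snd f g)).obj G')) x' := by
  let q := pullback.snd f g
  let F' := (Scheme.Modules.pullback (pullback.fst f g)).obj F
  let N := CohB1.tensorMod F' ((Scheme.Modules.pullback q).obj G')
  have hF' : FlatMod.IsFlatOverAt q F' x' :=
    Groth.Agent.MorLib.FlatBC.isFlatOverAt_baseChange f q (pullback.fst f g) g (IsPullback.of_hasPullback f g) F x' hFx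
  let B := Y'.presheaf.stalk (q x')
  let O' := (pullback f g).presheaf.stalk x'
  let A := Z.presheaf.stalk (h (q x'))
  letI : Algebra B O' := (q.stalkMap x').hom.toAlgebra
  letI : Algebra A B := (h.stalkMap (q x')).hom.toAlgebra
  letI : Algebra A O' := ((q ≫ h).stalkMap x').hom.toAlgebra
  haveI : IsScalarTower A B O' := IsScalarTower.of_algebraMap_eq fun a => by
    show (q ≫ h).stalkMap x' a = q.stalkMap x' (h.stalkMap (q x') a)
    rw [Scheme.Hom.stalkMap_comp]
    rfl
  letI : Module B (F'.presheaf.stalk x') := FlatMod.moduleStalkOver q F' x'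
  haveI : IsScalarTower B O' (F'.presheaf.stalk x') := IsScalarTower.of_algebraMap_smul fun _ _ => rfl
  letI : Module A (F'.presheaf.stalk x') := FlatMod.moduleStalkOver (q ≫ h) F' x'
  haveI : IsScalarTower A O' (F'.presheaf.stalk x') := IsScalarTower.of_algebraMap_smul fun _ _ => rfl
  haveI : IsScalarTower A B (F'.presheaf.stalk x') := IsScalarTower.to₁₂₄ A B O' _
  letI : Module A (G'.presheaf.stalk (q x')) := FlatMod.moduleStalkOver h G' (q x')
  haveI : IsScalarTower A B (G'.presheaf.stalk (q x')) := IsScalarTower.of_algebraMap_smul fun _ _ => rfl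
  letI : Module A (N.presheaf.stalk x') := FlatMod.moduleStalkOver (q ≫ h) N x'
  haveI : IsScalarTower A O' (N.presheaf.stalk x') := IsScalarTower.of_algebraMap_smul fun _ _ => rfl
  haveI : Module.Flat B (F'.presheaf.stalk x') := hF'
  haveI : Module.Flat A (G'.presheaf.stalk (q x')) := hGy
  obtain ⟨e⟩ := Groth.Agent.S4678.exists_tensor_stalkEquiv q F' G' hG' x'
  show Module.Flat A (N.presheaf.stalk x')
  have key : Module.Flat A (F'.presheaf.stalk x' ⊗[B] G'.presheaf.stalk (q x')) :=
    Groth.Agent.S4678.flat_tensor_trans A B _ _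
  exact Module.Flat.of_linearEquiv (e.restrictScalars A)

end Groth.Agent.S4678
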