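import Groth.Statements.S0042
import Groth.Agent.FibVanish.Basic
import Groth.Agent.NormX.StalkFibre
import Groth.Agent.S11319
import Groth.Agent.KFlatLib.Scheme.RpushQCoh

set_option autoImplicit false
set_option backward.isDefEq.respectTransparency false
set_option backward.isDefEq.respectTransparency.types false
set_option linter.style.haveILetI false
universe u
open Coherent

namespace Groth.Agent.S0042
open Groth.Agent

open AlgebraicGeometry CategoryTheory in
/-- Let Y be a locally Noetherian scheme, f : X → Y a proper morphism, and y a point of Y whose fibre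
X_y has dimension at most d. Then for every coherent 𝒪_X-module F and every p > d, the stalk of R^p
f_* F at y is zero. -/
theorem result {X Y : Scheme.{u}} (f : X ⟶ Y)
    [IsProper f] [IsLocallyNoetherian Y] (y : Y) (d : ℕ) (hd : topologicalKrullDim ↥(f.fiber y) ≤ d)
    (M : X.Modules) (hM : Coh.IsCoh M) (p : ℕ) (hp : d < p) :
    Limits.IsZero (TopCat.Presheaf.stalk ((Coh.RpushAb f p).obj (Coh.toAb M)).obj y) := by
  haveI : HasInjectiveResolutions X.Modules := KFlatLib.hasInjectiveResolutions_modules
  let X₁ := NormX.locX f y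
  let g := NormX.locι f y
  have hsq : IsPullback g (X₁ ↘ Spec (CommRingCat.of (Y.presheaf.stalk y))) f (Y.fromSpecStalk y) :=
    IsPullback.of_hasPullback f (Y.fromSpecStalk y)
  obtain ⟨e⟩ := S11319.result f M p
  obtain ⟨e₁⟩ := QCoh.nonempty_stalk_HH f hM.1 y p X₁ g hsq
  have hclosed : ∀ z : ↥(Spec (CommRingCat.of (Y.presheaf.stalk y))),
      IsClosed ({z} : Set ↥(Spec (CommRingCat.of (Y.presheaf.stalk y)))) →
      z = IsLocalRing.closedPoint (Y.presheaf.stalk y) := fun z hz =>
    PrimeSpectrum.ext (IsLocalRing.eq_maximalIdeal ((PrimeSpectrum.isClosed_singleton_iff_isMaximal z).1 hz))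
  have hvan : Subsingleton (Coh.HH X₁ ((Scheme.Modules.pullback g).obj M) p) := by
    refine FibVanish.subsingleton_HH_of_closedFibre (Y.presheaf.stalk y) (d := d) (fun z hz => ?_)
      (ZClosLib.isCoh_pullback g hM) hp
    obtain rfl := hclosed z hz
    have hg : Topology.IsInducing g := by
      haveI : IsPreimmersion g := MorphismProperty.pullback_fst f (Y.fromSpecStalk y) inferInstance
      exact g.isEmbedding.toIsInducing
    have hmem : ∀ w : X₁, (X₁ ↘ Spec (CommRingCat.of (Y.presheaf.stalk y))) w = IsLocalRing.closedPoint _ →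
        g w ∈ f ⁻¹' {y} := fun w hw => by
      show f (g w) = y
      rw [← Scheme.Hom.comp_apply, hsq.w, Scheme.Hom.comp_apply, hw]
      exact Scheme.fromSpecStalk_closedPoint
    let r : ↥((X₁ ↘ Spec (CommRingCat.of (Y.presheaf.stalk y))) ⁻¹' {IsLocalRing.closedPoint _}) → ↥(f ⁻¹' {y}) :=
      fun w => ⟨g w.1, hmem w.1 w.2⟩
    have hr : Topology.IsInducing r := by
      refine Topology.IsInducing.subtypeVal.of_comp_iff.1 ?_
      exact hg.comp Topology.IsInducing.subtypeVal
    refine (hr.topologicalKrullDim_le).trans (le_trans ?_ hd)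
    exact ((f.fiberHomeo y).symm.isInducing).topologicalKrullDim_le
  haveI : Subsingleton (((Coh.Rpush f p).obj M).presheaf.stalk y) := e₁.toEquiv.subsingleton
  have hz : Limits.IsZero ((TopCat.Presheaf.stalkFunctor AddCommGrpCat y).obj (Coh.toAb ((Coh.Rpush f p).obj M)).obj) :=
    @AddCommGrpCat.isZero_of_subsingleton _ this
  let F : Sheaf (Opens.grothendieckTopology Y) AddCommGrpCat.{u} ⥤ AddCommGrpCat.{u} :=
    sheafToPresheaf (Opens.grothendieckTopology Y) AddCommGrpCat.{u} ⋙
      TopCat.Presheaf.stalkFunctor AddCommGrpCat.{u} y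
  exact hz.of_iso (F.mapIso e).symm

end Groth.Agent.S0042
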