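import Groth.Statements.S9812
import Mathlib

set_option autoImplicit false
universe u
open CAlg2

namespace Groth.Agent.S9812

/-- At the level of the local ring: an integrally closed local domain is geometrically unibranch.
Consequently a normal scheme is geometrically unibranch. -/
theorem result (A : Type u) [CommRing A] [IsLocalRing A]
    [IsDomain A] [IsIntegrallyClosed A] : CAlg2.IsGeomUnibranch A := by
  have hnil : nilradical A = ⊥ := nilradical_eq_zero A
  let e : CAlg2.red A ≃+* A := (Ideal.quotEquivOfEq hnil).trans (RingEquiv.quotientBot A)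
  haveI : IsDomain (CAlg2.red A) := MulEquiv.isDomain A e.toMulEquiv
  haveI : IsIntegrallyClosed (CAlg2.red A) := IsIntegrallyClosed.of_equiv e.symm
  have hsurj : Function.Surjective (algebraMap (CAlg2.red A) (CAlg2.normRed A)) := fun x => by
    obtain ⟨y, hy⟩ := (IsIntegrallyClosed.isIntegral_iff (R := CAlg2.red A)
      (K := FractionRing (CAlg2.red A))).1 x.2
    exact ⟨y, Subtype.ext hy⟩
  haveI : IsLocalRing (CAlg2.red A) := IsLocalRing.of_surjective' _ Ideal.Quotient.mk_surjective
  refine ⟨⟨inferInstance, IsLocalRing.of_surjective' _ hsurj⟩, fun m' _ x => ⟨0, ?_⟩⟩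
  simp only [pow_zero, pow_one]
  obtain ⟨y, rfl⟩ := Ideal.Quotient.mk_surjective x
  obtain ⟨z, rfl⟩ := hsurj y
  obtain ⟨a, rfl⟩ := Ideal.Quotient.mk_surjective z
  exact ⟨a, rfl⟩

end Groth.Agent.S9812
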