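import Groth.Statements.S16758
import Groth.Agent.H23.SecUniv

set_option autoImplicit false
set_option backward.isDefEq.respectTransparency false
set_option backward.isDefEq.respectTransparency.types false
set_option maxHeartbeats 1000000
set_option linter.style.haveILetI false
universe u
open PicF

namespace Groth.Agent.S16758

open AlgebraicGeometry CategoryTheory CategoryTheory.Limits in
/-- (2) ⇔ (3): let f : X → Y be proper and flat with Y locally Noetherian. Then dim_{κ(y)} H⁰(X_y,
O_{X_y}) = 1 for every point y of Y if and only if for every morphism T → Y the base change f_T : X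
×_Y T → T induces isomorphisms O_T(U) → O_{X ×_Y T}(f_T⁻¹ U) on all opens U of T, i.e. O_T = (f_T)_*
O universally. (The published statement takes X and Y Noetherian; the argument is local on Y, so Y
is only assumed locally Noetherian here.) -/
theorem result {X Y : Scheme.{u}} (f : X ⟶ Y)
    [IsProper f] [Flat f] [IsLocallyNoetherian Y] :
    (∀ y : Y, Module.finrank (Y.residueField y) Γ(f.fiber y, ⊤) = 1) ↔
      ∀ (T : Scheme.{u}) (g : T ⟶ Y) (U : T.Opens), IsIso ((pullback.snd f g).app U) := by
  have key : ∀ y : Y, (Module.finrank (Y.residueField y) Γ(f.fiber y, ⊤) = 1) ↔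
      Function.Bijective (pullback.snd f (Y.fromSpecResidueField y)).appTop := by
    intro y
    have he : Function.Bijective (algebraMap (Y.residueField y) Γ(f.fiber y, ⊤)) ↔
        Function.Bijective (pullback.snd f (Y.fromSpecResidueField y)).appTop := by
      exact Function.Bijective.of_comp_iff (pullback.snd f (Y.fromSpecResidueField y)).appTop
        (ConcreteCategory.bijective_of_isIso (Scheme.ΓSpecIso (Y.residueField y)).inv)
    rw [← he]
    refine ⟨fun h => ?_, fun h => ?_⟩
    · haveI : Nontrivial Γ(f.fiber y, ⊤) := Module.nontrivial_of_finrank_eq_succ h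
      refine ⟨(algebraMap (Y.residueField y) Γ(f.fiber y, ⊤)).injective, fun s => ?_⟩
      obtain ⟨c, hc⟩ := exists_smul_eq_of_finrank_eq_one h (one_ne_zero (α := Γ(f.fiber y, ⊤))) s
      exact ⟨c, by rw [Algebra.algebraMap_eq_smul_one]; exact hc⟩
    · rw [← (LinearEquiv.ofBijective (Algebra.linearMap (Y.residueField y) Γ(f.fiber y, ⊤)) h).finrank_eq,
        Module.finrank_self]
  refine ⟨fun h T g U => H23.SecUniv.isIso_app_snd f (fun y => (key y).mp (h y)) T g U, fun h y => (key y).mpr ?_⟩
  exact (ConcreteCategory.isIso_iff_bijective _).mp (h _ (Y.fromSpecResidueField y) ⊤)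

end Groth.Agent.S16758
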