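import Groth.Statements.S7309
import Groth.Agent.Castelnuovo.Global
import Groth.Agent.S1297
import Groth.Agent.FlatMisc.SteinUC
import Groth.Agent.ZarConn.AppIso
import Groth.Agent.AlgSpDec.EtCompact
import Groth.Agent.ExistEasy.PP.Killed

set_option autoImplicit false
set_option backward.isDefEq.respectTransparency false
set_option backward.isDefEq.respectTransparency.types false
set_option maxHeartbeats 1000000
set_option linter.style.haveILetI false
universe u
open CategoryTheory CategoryTheory.Limits AlgebraicGeometry
open Resolve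

namespace Groth.Agent.S7309

/-- Let X be a Noetherian scheme, ι : E → X a closed immersion which is an exceptional curve of the
first kind, and f : X → Y a proper morphism to a Noetherian scheme which sends all of E to one point
y and whose restriction to the open complement of E is locally quasi-finite. Then E can be
contracted: there is a contraction b : X → X' of E through which f factors as b followed by a finite
morphism X' → Y, with O_{X'} → b_* O_X an isomorphism (so b is the first factor of the Stein
factorization of f). -/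
theorem result {E X Y : Scheme.{u}} [IsNoetherian X] [IsNoetherian Y]
    (ι : E ⟶ X) [IsClosedImmersion ι] (hE : Models.IsExcCurve ι) (f : X ⟶ Y) [IsProper f]
    (y : Y) (hy : Set.range ((ι ≫ f).base : E → Y) = {y})
    (hqf : LocallyQuasiFinite (Scheme.Opens.ι (X := X) ι.ker.support.compl ≫ f)) :
    ∃ (X' : Scheme.{u}) (b : X ⟶ X') (g : X' ⟶ Y), Models.IsContractionOf ι b ∧ b ≫ g = f ∧ IsFinite g ∧
      IsIso (ClSub.unitToPush b) := by
  haveI : IsFinite f.fromNormalization := Groth.Agent.S1297.result f
  let b := f.toNormalization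
  let g := f.fromNormalization
  haveI : IsLocallyNoetherian f.normalization := LocallyOfFiniteType.isLocallyNoetherian g
  haveI : CompactSpace f.normalization := QuasiCompact.compactSpace_of_compactSpace g
  haveI : IsNoetherian f.normalization := { __ := ‹IsLocallyNoetherian f.normalization›, __ := ‹CompactSpace f.normalization› }
  haveI : IsProper b := by
    haveI : IsProper (f.toNormalization ≫ f.fromNormalization) := by
      rw [f.toNormalization_fromNormalization]; infer_instance
    exact IsProper.of_comp f.toNormalization f.fromNormalization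
  have hbij : ∀ U : f.normalization.Opens, Function.Bijective (b.app U) := fun U =>
    haveI := FlatMisc.isIso_toNormalization_app f U
    ConcreteCategory.bijective_of_isIso _
  obtain ⟨hint, hNE, hdim⟩ := Castelnuovo.curve_facts ι hE
  haveI := hint
  let η := genericPoint E
  let y' : f.normalization := b (ι η)
  have hg : ∀ x, g (b x) = f x := fun x => by
    rw [← Scheme.Hom.comp_apply, f.toNormalization_fromNormalization]
  have himg : ∀ e : E, b (ι e) = y' := fun e => by
    refine (AlgSpDec.eq_of_specializes_of_isIntegralHom g ((genericPoint_specializes e).map (ι ≫ b).continuous) ?_).symm.trans ?_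
    · show g ((ι ≫ b) η) = g ((ι ≫ b) e)
      rw [Scheme.Hom.comp_apply, Scheme.Hom.comp_apply, hg, hg]
      exact (hy.le ⟨η, rfl⟩).trans (hy.le ⟨e, rfl⟩).symm
    · exact Scheme.Hom.comp_apply _ _ _
  have hy' : IsClosed ({y'} : Set f.normalization) := by
    have : ({y'} : Set f.normalization) = b '' Set.range ι := by
      refine Set.Subset.antisymm ?_ ?_
      · rintro _ rfl; exact ⟨ι η, ⟨η, rfl⟩, rfl⟩
      · rintro _ ⟨_, ⟨e, rfl⟩, rfl⟩; exact himg e
    rw [this]
    exact b.isClosedMap _ ι.isClosedEmbedding.isClosed_range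
  obtain ⟨V, hV, hVc⟩ := ZarConn.exists_open_isIso_no_isolated b hbij
  haveI := hV
  have hVinj : ∀ z z', b z ∈ V → b z = b z' → z = z' := by
    intro z z' hz h
    have hw : (⟨z, hz⟩ : (b ⁻¹ᵁ V).toScheme) = ⟨z', (h ▸ hz : b z' ∈ V)⟩ := by
      refine (b ∣_ V).homeomorph.injective (V.ι.isOpenEmbedding.injective ?_)
      show V.ι ((b ∣_ V) _) = V.ι ((b ∣_ V) _)
      rw [← Scheme.Hom.comp_apply, ← Scheme.Hom.comp_apply, morphismRestrict_ι, Scheme.Hom.comp_apply,
        Scheme.Hom.comp_apply]
      exact h
    exact congrArg Subtype.val hw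
  have hyV : y' ∉ V := by
    intro h
    obtain ⟨e, he⟩ : ∃ e : E, e ≠ η := by
      by_contra hall
      push Not at hall
      obtain ⟨-, k, hk, ek, -⟩ := id hE
      haveI : Subsingleton E := ⟨fun a c => (hall a).trans (hall c).symm⟩
      haveI : Subsingleton (TopologicalSpace.IrreducibleCloseds E) := ⟨fun s t => SetLike.coe_injective
        ((Subsingleton.eq_univ_of_nonempty s.isIrreducible.nonempty).trans (Subsingleton.eq_univ_of_nonempty t.isIrreducible.nonempty).symm)⟩
      have h0 : topologicalKrullDim E ≤ 0 := Order.krullDim_nonpos_of_subsingleton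
      rw [hdim] at h0
      exact absurd h0 (by decide)
    exact he (ι.isClosedEmbedding.injective (hVinj _ _ ((himg e).symm ▸ h) (himg e)))
  have hout : ∀ z : X, z ∉ Set.range ι → b z ∈ V := by
    intro z hz
    have hsupp : z ∈ ι.ker.support.compl := by
      show z ∈ (ι.ker.support : Set X)ᶜ
      rw [Scheme.Hom.support_ker, ι.isClosedEmbedding.isClosed_range.closure_eq]
      exact hz
    let O : X.Opens := ι.ker.support.compl
    haveI : LocallyQuasiFinite ((O.ι ≫ b) ≫ g) := by
      rw [Category.assoc, show b ≫ g = f from f.toNormalization_fromNormalization]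
      exact hqf
    haveI : LocallyQuasiFinite (O.ι ≫ b) := LocallyQuasiFinite.of_comp _ g
    have hqa : b.QuasiFiniteAt z :=
      Scheme.Hom.quasiFiniteAt_comp_iff_of_isOpenImmersion.1 ((O.ι ≫ b).quasiFiniteAt ⟨z, hsupp⟩)
    by_contra hzV
    exact hVc (b z) hzV (b.asFiber z) (Scheme.Hom.quasiFiniteAt_iff_isOpen_singleton_asFiber.1 hqa)
  have hfib : Set.range ι = b ⁻¹' {y'} := by
    refine Set.Subset.antisymm ?_ fun z hz => by_contra fun h => hyV ?_
    · rintro _ ⟨e, rfl⟩
      exact himg e
    · rw [← show b z = y' from hz]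
      exact hout z h
  have hiso : IsIso (b ∣_ ⟨{y'}ᶜ, hy'.isOpen_compl⟩) := by
    let O : f.normalization.Opens := ⟨{y'}ᶜ, hy'.isOpen_compl⟩
    suffices hOV : O ≤ V by
      exact ExistEasy.isIso_restrict_of_le b hOV
    intro x hx
    by_contra hxV
    let Cl : Set f.normalization := b '' Set.univ
    have hx' : x ∉ Cl := by
      rintro ⟨z, -, rfl⟩
      exact hxV (hout z fun hz => hx (hfib.le hz))
    let W : f.normalization.Opens := ⟨Clᶜ, (b.isClosedMap _ isClosed_univ).isOpen_compl⟩
    obtain ⟨A, hA, hxA, hle⟩ := exists_isAffineOpen_mem_and_subset (U := W) (x := x) hx'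
    have hempty : b ⁻¹ᵁ A = ⊥ := TopologicalSpace.Opens.ext (Set.eq_empty_iff_forall_notMem.2 fun z hz => hle hz ⟨z, trivial, rfl⟩)
    haveI : Subsingleton Γ(X, b ⁻¹ᵁ A) := by rw [hempty]; infer_instance
    haveI : Subsingleton Γ(f.normalization, A) := (hbij A).1.subsingleton
    have hA0 : A = ⊥ := by
      rw [← Scheme.basicOpen_of_isUnit f.normalization (U := A) (f := 1) isUnit_one, Subsingleton.elim (1 : Γ(f.normalization, A)) 0,
        Scheme.basicOpen_zero]
    rw [hA0] at hxA
    exact hxA
  refine ⟨f.normalization, b, g, Castelnuovo.isContractionOf_of_fibre ι b hE hbij y' hy' hfib hiso,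
    f.toNormalization_fromNormalization, inferInstance, ?_⟩
  exact Scheme.Modules.Hom.isIso_iff_isIso_app.2 fun U =>
    (ConcreteCategory.isIso_iff_bijective _).2 (hbij U)

end Groth.Agent.S7309
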