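import Groth.Statements.S10934
import Groth.Agent.S2928
import Groth.Agent.ExtShX.PnClosed
import Groth.Agent.ExtShX.StalkClosed
import Groth.Agent.FlatLoc6.NormFlat
import Groth.Agent.LC.ExtDim
import Groth.Agent.SchTop.Closed
import Groth.Agent.IntNum.Push

set_option autoImplicit false
set_option backward.isDefEq.respectTransparency false
set_option backward.isDefEq.respectTransparency.types false
universe u
open CategoryTheory CategoryTheory.Limits AlgebraicGeometry
open ProjDual

namespace Groth.Agent.S10934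

/-- (a)⇔(b): let k be a field, i : X → P^N_k a closed immersion with X of dimension n, and write F(−q) =
F ⊗ i^*O(−q). Then X is an equidimensional Cohen–Macaulay scheme of dimension n — the local ring of
X at every closed point is Cohen–Macaulay of Krull dimension n — if and only if for every finite
locally free O_X-module F (vector bundle) there is q₀ such that H^j(X, F(−q)) = 0 for all j < n and
all q ≥ q₀. -/
theorem result (k : Type u) [Field k] (N n : ℕ)
    {X : Scheme.{u}} (i : X ⟶ CohB1.ProjSpace N k) [IsClosedImmersion i] (hn : topologicalKrullDim ↥X = n) :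
    (∀ x : X, IsClosed ({x} : Set ↥X) →
        LocCoh.IsCohenMacaulayLocalRing (X.presheaf.stalk x) ∧ ringKrullDim (X.presheaf.stalk x) = n) ↔
      ∀ F : X.Modules, FlatMod.IsFinLocFree F → ∃ q₀ : ℕ, ∀ q : ℕ, q₀ ≤ q → ∀ j : ℕ, j < n →
        Subsingleton (Coh.HH X (CohB1.tensorMod F
          ((Scheme.Modules.pullback i).obj (Twist.twistProjSpace N k (-(q : ℤ))))) j) := by
  haveI := ExtShX.isLocallyNoetherian_pn (k := k) (r := N)
  haveI := ExtShX.compactSpace_pn (k := k) (r := N)
  haveI : IsLocallyNoetherian X := LocallyOfFiniteType.isLocallyNoetherian i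
  have hdim : ∀ x : X, ringKrullDim (X.presheaf.stalk x) ≤ (n : WithBot ℕ∞) := fun x =>
    (SchTop.ringKrullDim_stalk_le x).trans_eq hn
  have hne : ∀ x : X, ∀ a : ℕ∞, LocCoh.depth (X.presheaf.stalk x) (X.presheaf.stalk x) = a →
      (a : WithBot ℕ∞) ≤ ringKrullDim (X.presheaf.stalk x) := fun x a ha => by
    rw [← ha, ← Module.supportDim_self_eq_ringKrullDim]
    exact LC.depth_le_supportDim (R := X.presheaf.stalk x) (M := X.presheaf.stalk x)
  have hequi : ∀ x : X,
      (LocCoh.IsCohenMacaulayLocalRing (X.presheaf.stalk x) ∧ ringKrullDim (X.presheaf.stalk x) = n) ↔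
        (n : ℕ∞) ≤ LocCoh.depth (X.presheaf.stalk x) (X.presheaf.stalk x) := fun x => by
    constructor
    · rintro ⟨hcm, hd⟩
      have h := hcm.supportDim_eq_depth
      rw [Module.supportDim_self_eq_ringKrullDim, hd] at h
      exact (WithBot.coe_inj.1 h).le
    · intro h
      have h2 : ringKrullDim (X.presheaf.stalk x) =
          ((LocCoh.depth (X.presheaf.stalk x) (X.presheaf.stalk x) : ℕ∞) : WithBot ℕ∞) :=
        le_antisymm ((hdim x).trans (WithBot.coe_le_coe.2 h)) (hne x _ rfl)
      refine ⟨@LocCoh.IsCohenMacaulayLocalRing.mk _ _ inferInstance inferInstance ((Module.supportDim_self_eq_ringKrullDim _).trans h2), ?_⟩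
      exact le_antisymm (hdim x) (h2.symm ▸ WithBot.coe_le_coe.2 h)
  have hfp : ∀ {F : X.Modules}, FlatMod.IsFinLocFree F → CohB1.IsFP F := fun h => QCoh.isFP_of_isFinLocFree h
  have hcoh : ∀ {F : X.Modules}, FlatMod.IsFinLocFree F →
      Coh.IsCoh ((Scheme.Modules.pushforward i).obj F) := fun h =>
    S0019.result i _ ⟨QCoh.isQCoh_of_isFP (hfp h), QCoh.isFT_of_isFP (hfp h)⟩
  have hpush : ∀ (F : X.Modules) (x : X), LocCoh.depth ((CohB1.ProjSpace N k).presheaf.stalk (i.base x))
      (((Scheme.Modules.pushforward i).obj F).presheaf.stalk (i.base x)) =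
      LocCoh.depth (X.presheaf.stalk x) (F.presheaf.stalk x) := fun F x =>
    Alg6.depth_eq_of_semilinear (i.stalkMap x).hom (SurjectiveOnStalks.stalkMap_surjective i x)
      (ExtShX.stalkPushEquiv i F x) (ExtShX.stalkPushEquiv_smul i F x)
  have hfree : ∀ {F : X.Modules}, FlatMod.IsFinLocFree F → ∀ x : X,
      LocCoh.depth (X.presheaf.stalk x) (X.presheaf.stalk x) ≤
        LocCoh.depth (X.presheaf.stalk x) (F.presheaf.stalk x) := fun {F} h x => by
    haveI := QCoh.free_stalk_of_isFinLocFree h x
    haveI := QCoh.finite_stalk_of_isFT (QCoh.isQCoh_of_isFinLocFree h) (QCoh.isFT_of_isFP (hfp h)) x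
    let e := (Module.finBasis (X.presheaf.stalk x) (F.presheaf.stalk x)).equivFun
    rw [Hensel.depth_congr e]
    generalize Module.finrank (X.presheaf.stalk x) (F.presheaf.stalk x) = m
    match m with
    | 0 => rw [FlatLoc6.depth_top_of_subsingleton (Fin 0 → (X.presheaf.stalk x))]; exact le_top
    | m + 1 => exact (FlatLoc6.depth_pi (X.presheaf.stalk x) m).ge
  have hvan : ∀ {F : X.Modules}, FlatMod.IsFinLocFree F → ∀ (m : ℤ) (j : ℕ),
      (Subsingleton (Coh.HH X (CohB1.tensorMod F ((Scheme.Modules.pullback i).obj (Twist.twistProjSpace N k m))) j) ↔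
        Subsingleton (Coh.HH (CohB1.ProjSpace N k)
          (Twist.twistBy (CohB1.polyGrading N k) ((Scheme.Modules.pushforward i).obj F) m) j)) := by
    intro F hF m j
    letI : X.Over (Spec (CommRingCat.of k)) :=
      ⟨i ≫ (CohB1.ProjSpace N k ↘ Spec (CommRingCat.of k))⟩
    obtain ⟨t⟩ := IntNum.push_tensor i F (Twist.twistProjSpace N k m)
    have hq : Coh.IsQCoh (CohB1.tensorMod F ((Scheme.Modules.pullback i).obj (Twist.twistProjSpace N k m))) :=
      KFlatLib.isQCoh_tensor (QCoh.isQCoh_of_isFinLocFree hF)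
        (ProjUPX.isQCoh_of_isInvertible (PicClLib.isInvertible_pullback i (ExtShX.isInvertible_twistPn m)))
    obtain ⟨e⟩ := PnCoh.exists_linearEquiv_push k i rfl hq j
    exact e.toEquiv.subsingleton_congr.trans
      ⟨fun h => QCoh.subsingleton_HH_of_iso t j h, fun h => QCoh.subsingleton_HH_of_iso t.symm j h⟩
  constructor
  · intro h F hF
    rcases Nat.eq_zero_or_pos n with rfl | hn0
    · exact ⟨0, fun q _ j hj => absurd hj (Nat.not_lt_zero j)⟩
    have hd : ∀ y : (CohB1.ProjSpace N k), IsClosed ({y} : Set (CohB1.ProjSpace N k)) →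
        ((n - 1 : ℕ) : ℕ∞) < LocCoh.depth ((CohB1.ProjSpace N k).presheaf.stalk y)
          (((Scheme.Modules.pushforward i).obj F).presheaf.stalk y) := by
      intro y hy
      refine lt_of_lt_of_le (Nat.cast_lt.2 (Nat.sub_lt hn0 Nat.one_pos)) ?_
      by_cases hyX : y ∈ Set.range i.base
      · obtain ⟨x, rfl⟩ := hyX
        have hx : IsClosed ({x} : Set X) := by
          have := hy.preimage i.base.hom.continuous
          rwa [← Set.image_singleton, Set.preimage_image_eq _ i.isClosedEmbedding.injective] at this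
        exact (hpush F x).symm ▸ le_trans ((hequi x).1 (h x hx)) (hfree hF x)
      · have : Subsingleton (((Scheme.Modules.pushforward i).obj F).presheaf.stalk y) := by
          by_contra hs
          exact hyX ((QCoh.support_push_subset i (QCoh.isQCoh_of_isFinLocFree hF) hs))
        rw [FlatLoc6.depth_top_of_subsingleton]
        exact le_top
    obtain ⟨m₀, hm⟩ := (S2928.result k N _ (hcoh hF) (n - 1)).2 hd
    refine ⟨m₀.toNat, fun q hq j hj => (hvan hF _ j).2 (hm (q : ℤ) ?_ j (by omega))⟩
    exact le_trans (Int.self_le_toNat m₀) (by exact_mod_cast hq)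
  · intro h x hx
    refine (hequi x).2 ?_
    rcases Nat.eq_zero_or_pos n with rfl | hn0
    · exact_mod_cast bot_le
    have hO : FlatMod.IsFinLocFree (Coh.structureModule X) :=
      KZ.QuasiProj.flf_of_invertible InvX.isInvertible_structureModule
    obtain ⟨q₀, hq⟩ := h _ hO
    have hy : IsClosed ({i.base x} : Set (CohB1.ProjSpace N k)) := by
      rw [← Set.image_singleton]
      exact i.isClosedEmbedding.isClosedMap _ hx
    have hd := (S2928.result k N _ (hcoh hO) (n - 1)).1 ⟨(q₀ : ℤ), fun m hm j hj => by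
      lift m to ℕ using (le_trans (Int.natCast_nonneg _) hm) with q
      exact (hvan hO _ j).1 (hq q (by exact_mod_cast hm) j (by omega))⟩ (i.base x) hy
    rw [hpush (Coh.structureModule X) x,
      Hensel.depth_congr (RefX.unitStalk x).symm, ← ENat.add_one_le_iff (ENat.natCast_ne_top _)] at hd
    have e : ((n - 1 : ℕ) : ℕ∞) + 1 = (n : ℕ∞) := by exact_mod_cast Nat.sub_add_cancel hn0
    exact e ▸ hd

end Groth.Agent.S10934
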