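import Groth.Statements.S7325
import Groth.Agent.PointBlowUp.PicGlobal
import Groth.Agent.ContractUP.Main
-- import your own Groth.Agent.* helpers here

set_option autoImplicit false
set_option backward.isDefEq.respectTransparency false
set_option backward.isDefEq.respectTransparency.types false
set_option linter.style.haveILetI false
set_option maxHeartbeats 1000000
universe u
open CategoryTheory CategoryTheory.Limits AlgebraicGeometry
open Resolve

namespace Groth.Agent.S7325
open Groth.Agent

/-- Let X be a Noetherian scheme, ι : E → X a closed immersion which is an exceptional curve of the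
first kind, and b : X → X' a contraction of E. Then pullback along b is injective on isomorphism
classes of invertible modules, and an invertible O_X-module L is the pullback of some invertible
O_{X'}-module if and only if ι^* L ≅ O_E. (The published statement is a split short exact sequence 0
→ Pic(X') → Pic(X) → Z → 0 whose second map is the degree on E; this row states the injectivity of
the first map and the description of its image, and does not restate the degree map or the
splitting.) -/
theorem result {E X X' : Scheme.{u}} [IsNoetherian X] (ι : E ⟶ X) [IsClosedImmersion ι]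
    (hE : Models.IsExcCurve ι) (b : X ⟶ X') (hb : Models.IsContractionOf ι b) :
    (∀ L₁ L₂ : X'.Modules, PicF.IsInvertible L₁ → PicF.IsInvertible L₂ →
      Nonempty ((Scheme.Modules.pullback b).obj L₁ ≅ (Scheme.Modules.pullback b).obj L₂) → Nonempty (L₁ ≅ L₂)) ∧
    ∀ L : X.Modules, PicF.IsInvertible L →
      ((∃ L' : X'.Modules, PicF.IsInvertible L' ∧ Nonempty ((Scheme.Modules.pullback b).obj L' ≅ L)) ↔
        Nonempty ((Scheme.Modules.pullback ι).obj L ≅ Coh.structureModule E)) := by
  open scoped Groth.Agent.H23.PicMul in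
    obtain ⟨hN, hp, y, hy, hrange, hreg, hdim, hbl⟩ := hb
    haveI := hN
    haveI := hp
    haveI := hreg
    obtain ⟨-, k, hk, e, -⟩ := id hE
    haveI := P1Split.isIntegral k
    haveI : IsReduced (CohB1.ProjSpace 1 k : Scheme.{u}) := inferInstance
    haveI : IsReduced E := isReduced_of_isOpenImmersion e.inv
    have hι : ∀ t, b (ι t) = y := fun t => hrange.le ⟨t, rfl⟩
    have hfib := ContractUP.fibre_eq ι b y hy hdim hbl hι k e
    have hEr : Set.range ι.base = b.base ⁻¹' {y} :=
      Set.Subset.antisymm (by rintro _ ⟨t, rfl⟩; exact hι t) hfib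
    have hbij : ∀ U : X'.Opens, Function.Bijective (b.app U) := fun U =>
      (ConcreteCategory.isIso_iff_bijective _).1 (PointBlowUp.isIso_app_blowUp b y hy hdim hbl U)
    refine ⟨fun L₁ L₂ h₁ h₂ ⟨a⟩ => ?_, fun L hL => ⟨?_, fun ⟨w⟩ => ?_⟩⟩
    · obtain ⟨D, hD, eD⟩ := H23.PicInv.exists_inverse h₂
      have hD1 : PicF.cl L₂ * PicF.cl D = 1 := (PicGrp.cl_eq_cl_iff _ _).2 eD
      have ha : PicF.pullCl b (PicF.cl L₁) = PicF.pullCl b (PicF.cl L₂) := (PicGrp.cl_eq_cl_iff _ _).2 ⟨a⟩
      have ht : PicF.pullCl b (PicF.cl (CohB1.tensorMod L₁ D)) = 1 := by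
        rw [H23.PicMul.cl_tensor, H23.PicMul.pullCl_mul, ha, ← H23.PicMul.pullCl_mul, hD1, H23.PicMul.pullCl_one]
      have h' : PicF.cl L₁ * PicF.cl D = 1 := (H23.PicMul.cl_tensor _ _).symm.trans
        (H23.PicMul.cl_eq_iff.2 (PointBlowUp.triv_of_pullback b hbij
          (InvX.isInvertible_tensorMod h₁ hD) (H23.PicMul.cl_eq_iff.1 ht)))
      refine H23.PicMul.cl_eq_iff.1 ?_
      rw [← mul_one (PicF.cl L₁), ← hD1, mul_left_comm, h', mul_one]
    · rintro ⟨L', hL', ⟨a⟩⟩
      obtain ⟨l, hl⟩ := AlgSpDec.exists_factor_residueField (ι ≫ b) y hι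
      let P := (Scheme.Modules.pullback (X'.fromSpecResidueField y)).obj L'
      have hP : PicF.IsInvertible P := PicClLib.isInvertible_pullback _ hL'
      obtain ⟨U, hU, η, hη⟩ := InvX.exists_frame hP (IsLocalRing.closedPoint (X'.residueField y))
      obtain rfl : U = ⊤ := top_le_iff.1 fun z _ => by
        rw [show z = IsLocalRing.closedPoint (X'.residueField y) from Subsingleton.elim (α := PrimeSpectrum _) _ _]
        exact hU
      obtain ⟨t⟩ := H23.TrivBasic.triv_of_frame hη
      obtain ⟨u⟩ := PicClLib.nonempty_pullback_structureModule l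
      exact ⟨(Scheme.Modules.pullback ι).mapIso a.symm ≪≫ (Scheme.Modules.pullbackComp ι b).app L' ≪≫
        (Scheme.Modules.pullbackCongr hl.symm).app L' ≪≫
        ((Scheme.Modules.pullbackComp l (X'.fromSpecResidueField y)).app L').symm ≪≫
        (Scheme.Modules.pullback l).mapIso t ≪≫ u⟩
    · obtain ⟨hker, -⟩ := PointBlowUp.exc_of_range_eq b y hy hdim hbl ι hEr
      let J := BlowUp.exceptional b (Scheme.IdealSheafData.vanishingIdeal (⟨{y}, hy⟩ : TopologicalSpace.Closeds X'))
      have h1 : J.subschemeι.ker = ι.ker := by rw [Scheme.IdealSheafData.ker_subschemeι]; exact hker.symm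
      let t : J.subscheme ⟶ E := IsClosedImmersion.lift ι J.subschemeι h1.ge
      have ht : t ≫ ι = J.subschemeι := IsClosedImmersion.lift_fac _ _ _
      obtain ⟨u⟩ := PicClLib.nonempty_pullback_structureModule t
      exact PointBlowUp.exists_descend_of_exc b y hy hdim hbl hL ⟨(Scheme.Modules.pullbackCongr ht.symm).app L ≪≫
        ((Scheme.Modules.pullbackComp t ι).app L).symm ≪≫ (Scheme.Modules.pullback t).mapIso w ≪≫ u⟩

end Groth.Agent.S7325
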