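import Groth.Statements.S6578
import Groth.Agent.CurveExt.RegularSub
import Groth.Agent.InvX.GenEpi
import Groth.Agent.KFlatLib.Scheme.Sky
import Groth.Agent.S3572
import Groth.Agent.QCoh.TensorUnit
import Groth.Agent.KFlatLib.Perfect.Tensor

set_option autoImplicit false
set_option backward.isDefEq.respectTransparency false
set_option backward.isDefEq.respectTransparency.types false
set_option linter.style.haveILetI false
universe u
open CategoryTheory CategoryTheory.Limits AlgebraicGeometry
open Curves

namespace Groth.Agent.S6578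

open Groth.Agent

/-- An epimorphism from copies of the structure module gives generating sections. -/
theorem generatedBy_of_epi {X : Scheme.{u}} {L : X.Modules} {ι : Type} (p : (∐ fun _ : ι => Coh.structureModule X) ⟶ L)
    [Epi p] : ProjUP.GeneratedBy L fun i => InvX.one (Sigma.ι (fun _ : ι => Coh.structureModule X) i ≫ p) := by
  intro x
  let R := X.presheaf.stalk x
  let S : Submodule R (L.presheaf.stalk x) := Submodule.span R (Set.range fun i =>
    (L.presheaf.germ ⊤ x trivial).hom (InvX.one (Sigma.ι (fun _ : ι => Coh.structureModule X) i ≫ p)))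
  let N : ModuleCat.{u} R := ModuleCat.of R (L.presheaf.stalk x ⧸ S)
  let g : L ⟶ KFlatLib.skyObjM x N :=
    ⟨{ app := fun V => ModuleCat.ofHom (Y := KFlatLib.skyObj x N V)
        { toFun := fun a h => (S.mkQ ((L.presheaf.germ V.unop x h.down).hom a) : N)
          map_add' := fun a b => funext fun h => by
            show S.mkQ ((L.presheaf.germ V.unop x h.down).hom (a + b)) = _
            exact ((congrArg S.mkQ (map_add (L.presheaf.germ V.unop x h.down).hom a b)).trans
              (map_add S.mkQ _ _))
          map_smul' := fun r a => funext fun h => by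
            show S.mkQ ((L.presheaf.germ V.unop x h.down).hom (r • a)) =
              (X.presheaf.germ V.unop x h.down r) • (S.mkQ ((L.presheaf.germ V.unop x h.down).hom a) : N)
            exact ((congrArg S.mkQ (QCoh.germ_smul' L h.down r a)).trans
              (map_smul S.mkQ _ _)) }
       naturality := fun {V W} i => by
         ext a
         funext h
         exact congrArg S.mkQ (L.presheaf.germ_res_apply i.unop x h.down a) }⟩
  have hg0 : g = 0 := by
    rw [← cancel_epi p, Limits.comp_zero]
    refine Sigma.hom_ext _ _ fun i => ?_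
    rw [Limits.comp_zero, ← Category.assoc]
    refine QCoh.hom_ext_app fun V a => funext fun h => ?_
    show S.mkQ ((L.presheaf.germ V x h.down).hom
      ((Sigma.ι (fun _ : ι => Coh.structureModule X) i ≫ p).app V a)) = 0
    rw [Submodule.mkQ_apply, Submodule.Quotient.mk_eq_zero]
    rw [show (Sigma.ι (fun _ : ι => Coh.structureModule X) i ≫ p).app V a =
      (show Γ(X, V) from a) • AModX.res L (le_top : V ≤ ⊤)
        (InvX.one (Sigma.ι (fun _ : ι => Coh.structureModule X) i ≫ p)) from InvX.app_eq_smul _ _]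
    rw [QCoh.germ_smul' L h.down]
    refine Submodule.smul_mem _ _ ?_
    rw [show (L.presheaf.germ V x h.down).hom (AModX.res L (le_top : V ≤ ⊤)
        (InvX.one (Sigma.ι (fun _ : ι => Coh.structureModule X) i ≫ p))) =
      (L.presheaf.germ ⊤ x trivial).hom (InvX.one (Sigma.ι (fun _ : ι => Coh.structureModule X) i ≫ p))
      from L.presheaf.germ_res_apply (homOfLE le_top) x h.down _]
    exact Submodule.subset_span ⟨i, rfl⟩
  refine eq_top_iff.2 fun m _ => ?_
  obtain ⟨U, hxU, e, rfl⟩ := L.presheaf.exists_germ_eq (x := x) m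
  rw [← Submodule.Quotient.mk_eq_zero]
  have := congrArg (fun φ => (φ : L ⟶ KFlatLib.skyObjM x N).app U e) hg0
  exact congrFun this ⟨hxU⟩

/-- Let k be a field and X a proper curve over k all of whose local rings are regular (X integral,
proper, of dimension one), and let (L, V) be a g^r_d on X, given by an invertible module L of degree
d and an ordered basis s_0, …, s_r of V ⊆ Γ(X, L) (k-linearly independent global sections). Then
there exist a morphism φ : X → P^r_k = Proj k[T_0, …, T_r] over k and a map α : φ^*O(1) → L sending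
φ^*T_i to s_i for each i (so φ^*T_0, …, φ^*T_r go to a basis of V). -/
theorem result (k : Type u) [Field k] (X : Scheme.{u}) [X.Over (Spec (CommRingCat.of k))]
    [IsIntegral X] [IsProper (X ↘ (Spec (CommRingCat.of k)))] (hdim : topologicalKrullDim X = 1) (hreg : ∀ x : X, IsRegularLocalRing (X.presheaf.stalk x))
    (d r : ℕ) (L : X.Modules) (s : Fin (r + 1) → LinSer.Sect X L) (hL : LinSer.IsLinSer k X L d r s) :
    ∃ (φ : X ⟶ CohB1.ProjSpace r k) (α : (Scheme.Modules.pullback φ).obj (Twist.twistProjSpace r k 1) ⟶ L),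
      φ ≫ CohB1.ProjSpace.toSpec r k = X ↘ (Spec (CommRingCat.of k)) ∧
        ∀ i : Fin (r + 1), (α.val.app (Opposite.op ⊤)).hom (OmegaSh.pullSect φ (Twist.twistProjSpace r k 1) ⊤ (Twist.globalOf (CohB1.polyGrading r k) (⟨MvPolynomial.X i, MvPolynomial.isHomogeneous_X k i⟩ : (CohB1.polyGrading r k) 1))) = s i := by
  classical
  haveI := CurveCohLib.isNoetherian_of_proper (k := k) (X := X)
  obtain ⟨hLi, -, hind⟩ := hL
  let σ : Fin (r + 1) → (Coh.structureModule X ⟶ L) := fun i => InvX.ofSect (show Γ(L, ⊤) from s i)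
  let a : FlatMod.freeMod X (r + 1) ⟶ L := Sigma.desc σ
  have hσ : ∀ i, InvX.one (σ i) = s i := fun i => InvX.one_ofSect _
  have hF : FlatMod.IsFinLocFree (FlatMod.freeMod X (r + 1)) := Groth.Agent.KFlatLib.isFinLocFree_freeMod (r + 1)
  have hFc := CurveDeg.isCoh_of_isFinLocFree hF
  have hLc := CurveDeg.isCoh_of_isInvertible hLi
  let I := Abelian.image a
  have hI : Coh.IsCoh I := QCoh.isCoh_of_mono (Abelian.image.ι a) hLc
    (QCoh.isQCoh_kernel hLc.1 (QCoh.isQCoh_cokernel hFc.1 hLc.1 a) _)
  have hL1 := InvEnd.isFinLocFreeOfRank_one hLi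
  have hLf : FlatMod.IsFinLocFree L := fun y => let ⟨W, hy, he⟩ := hL1 y; ⟨W, 1, hy, he⟩
  have hIf := CurveExt.RegularSub.isFinLocFree_of_mono k hdim.le hreg (Abelian.image.ι a) hI hLf
  have hr : CurveBundle.rk I + CurveBundle.rk (cokernel (Abelian.image.ι a)) = CurveBundle.rk L :=
    (CurveSlope.rk_add_coh k (Abelian.image.ι a) (cokernel.π _) (cokernel.condition _)
      (CurveSlope.shortExact_cokernel_of_mono _) hLc).symm
  rw [CurveBundle.rk_eq hL1] at hr
  have ha : a ≠ 0 := fun h0 => by
    have hs0 : s 0 = 0 := by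
      rw [← hσ 0, show σ 0 = Sigma.ι (fun _ : Fin (r + 1) => Coh.structureModule X) 0 ≫ a from (Sigma.ι_desc σ 0).symm,
        h0, comp_zero]
      rfl
    have := hind (Pi.single 0 1) (by
      rw [Finset.sum_eq_single 0 (fun b _ hb => by rw [Pi.single_eq_of_ne hb, map_zero, zero_smul])
        (fun h => absurd (Finset.mem_univ _) h), hs0, smul_zero])
    simpa using congrFun this 0
  have hI0 : CurveBundle.rk I ≠ 0 := fun h0 => ha (by
    rw [← Abelian.image.fac a, (CurveBundle.isZero_of_rk_zero hIf h0).eq_of_tgt (Abelian.factorThruImage a) 0, zero_comp])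
  have hI1 : FlatMod.IsFinLocFreeOfRank 1 I := by
    have := CurveBundle.isFinLocFreeOfRank_rk hIf
    rwa [show CurveBundle.rk I = 1 by omega] at this
  have hIi : PicF.IsInvertible I := fun x =>
    let ⟨U, hx, ⟨e⟩⟩ := hI1 x; ⟨U, hx, ⟨e ≪≫ coproductUniqueIso _⟩⟩
  let π : (∐ fun _ : Fin (r + 1) => Coh.structureModule X) ⟶ I := Abelian.factorThruImage a
  haveI : Epi π := inferInstanceAs (Epi (Abelian.factorThruImage a))
  obtain ⟨φ, hφ, τ, hτ⟩ := S3572.result r (X ↘ Spec (CommRingCat.of k)) I hIi _ (generatedBy_of_epi π)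
  refine ⟨φ, τ.hom ≫ Abelian.image.ι a, hφ, fun i => ?_⟩
  refine Eq.trans (congrArg (fun t => (Abelian.image.ι a).app ⊤ t) (hτ i)) ?_
  show InvX.one ((Sigma.ι (fun _ : Fin (r + 1) => Coh.structureModule X) i ≫ π) ≫ Abelian.image.ι a) = s i
  rw [Category.assoc, Abelian.image.fac, Sigma.ι_desc, hσ]

end Groth.Agent.S6578
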