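import Groth.Statements.S7339
import Groth.Agent.PointBlowUp.ExcTwist
import Groth.Agent.PointBlowUp.Pic
import Groth.Agent.MdlInter.Euler
import Groth.Agent.QCoh.HHExact
import Groth.Agent.QCoh.AffineCohom
import Groth.Agent.QCoh.OpenSub
import Groth.Agent.IntSym.Cartier
import Groth.Agent.VolLib.UnifTools
import Groth.Agent.S8914
-- import your own Groth.Agent.* helpers here

set_option autoImplicit false
set_option backward.isDefEq.respectTransparency false
set_option backward.isDefEq.respectTransparency.types false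
set_option linter.style.haveILetI false
set_option maxHeartbeats 1000000
universe u
open CategoryTheory CategoryTheory.Limits AlgebraicGeometry
open Resolve

namespace Groth.Agent.S7339
open Groth.Agent

/-- Let X be a Noetherian scheme, ι : E → X a closed immersion which is an exceptional curve of the
first kind, with ideal sheaf I and M = O_X(E) an inverse of I for the tensor product, and L an
invertible O_X-module whose pullback to E ≅ P^1_k (for some field k and isomorphism e : P^1_k ≅ E)
is isomorphic to O(n). If H^1(X, L) = 0 and n ≥ 0, then H^1(X, L(iE)) = 0 for 0 ≤ i ≤ n + 1, where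
L(iE) = L ⊗ M^{⊗ i}. (The published statement also asserts, for n ≤ 0, that H^1(X, L) → H^1(X, L(E))
is injective; this row states only the vanishing for n ≥ 0.) -/
theorem result {E X : Scheme.{u}} [IsNoetherian X] (ι : E ⟶ X) [IsClosedImmersion ι]
    (hE : Models.IsExcCurve ι) (M : X.Modules) (hM : ClSub.IsInverseOf M (ClSub.idealMod ι.ker))
    (L : X.Modules) (hL : PicF.IsInvertible L)
    (k : Type u) [Field k] (e : CohB1.ProjSpace 1 k ≅ E) (n : ℕ)
    (hn : Nonempty ((Scheme.Modules.pullback (e.hom ≫ ι)).obj L ≅ Twist.twistProjSpace 1 k (n : ℤ)))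
    (h1 : Subsingleton (Coh.HH X L 1)) (i : ℕ) (hi : i ≤ n + 1) :
    Subsingleton (Coh.HH X (CohB1.tensorMod L (CohB1.tensorPow M i)) 1) := by
  open scoped Groth.Agent.H23.PicMul in
    let f : CohB1.ProjSpace 1 k ⟶ X := e.hom ≫ ι
    have hker : f.ker = ι.ker := Scheme.Hom.ker_comp_of_isIso e.hom ι
    have hI : PicF.IsInvertible (ClSub.idealMod ι.ker) := (S8914.result ι.ker).2 hE.1
    have hMI : PicF.cl M * PicF.cl (ClSub.idealMod ι.ker) = 1 := (PicGrp.cl_eq_cl_iff _ _).2 hM
    have hMinv : PicF.IsInvertible M := PointBlowUp.isInvertible_of_cl_mul hI hMI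
    have hB : ∀ j, PicF.IsInvertible (CohB1.tensorMod L (CohB1.tensorPow M j)) := fun j =>
      H23.PicMul.isInvertible_tensor hL (H23.PicMul.isInvertible_tensorPow hMinv j)
    have hfM : PicF.pullCl f (PicF.cl M) = PicF.cl (Twist.twistProjSpace 1 k (-1)) := by
      refine (PnPic.isUnit_cl_twist 1 k 1).mul_right_cancel ?_
      rw [PnPic.cl_twistProjSpace_add]
      conv_lhs => rw [← PointBlowUp.pullCl_exc ι hE e, ← H23.PicMul.pullCl_mul, hMI, H23.PicMul.pullCl_one]
      exact (PnPic.cl_twistProjSpace_zero 1 k).symm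
    have hfL : PicF.pullCl f (PicF.cl L) = PicF.cl (Twist.twistProjSpace 1 k (n : ℤ)) :=
      (PicGrp.cl_eq_cl_iff _ _).2 hn
    have hfB : ∀ j : ℕ, PicF.pullCl f (PicF.cl L * PicF.cl M ^ j) =
        PicF.cl (Twist.twistProjSpace 1 k ((n : ℤ) - j)) := by
      intro j
      induction j with
      | zero => rw [pow_zero, mul_one, hfL, Nat.cast_zero, sub_zero]
      | succ j ih =>
        rw [pow_succ, ← mul_assoc, H23.PicMul.pullCl_mul, ih, hfM, PnPic.cl_twistProjSpace_add]
        congr 2
        push_cast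
        ring
    induction i with
    | zero =>
      obtain ⟨a⟩ := H23.PicMul.cl_eq_iff.1 (show PicF.cl L = PicF.cl (CohB1.tensorMod L (CohB1.tensorPow M 0)) by
        rw [H23.PicMul.cl_tensor, H23.PicMul.cl_tensorPow, pow_zero, mul_one])
      exact QCoh.subsingleton_HH_of_iso a 1 h1
    | succ i ih =>
      let B := CohB1.tensorMod L (CohB1.tensorPow M (i + 1))
      obtain ⟨h, hses⟩ := VolLib.ses_tw (hB (i + 1)) (IntSym.shortExact_toSubscheme ι.ker)
      obtain ⟨a⟩ := H23.PicMul.cl_eq_iff.1 (show PicF.cl (CohB1.tensorMod L (CohB1.tensorPow M i)) =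
          PicF.cl (CohB1.tensorMod (ClSub.idealMod ι.ker) B) by
        simp only [B, H23.PicMul.cl_tensor, H23.PicMul.cl_tensorPow]
        rw [mul_left_comm (PicF.cl (ClSub.idealMod ι.ker)), pow_succ, mul_left_comm _ (PicF.cl M ^ i),
          mul_comm (PicF.cl (ClSub.idealMod ι.ker)), hMI, mul_one])
      obtain ⟨b⟩ := H23.PicMul.cl_eq_iff.1 (show PicF.cl (CohB1.tensorMod (Coh.structureModule X) B) = PicF.cl B by
        rw [H23.PicMul.cl_tensor, ← H23.PicMul.one_def, one_mul])
      haveI : IsClosedImmersion f := inferInstance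
      have hc : Nonempty ((Coh.push f).obj ((Scheme.Modules.pullback f).obj B) ≅
          CohB1.tensorMod (ClSub.quotMod f.ker) B) :=
        MdlInter.nonempty_push_pullback f B (CurveTensor.commIso (ClSub.quotMod f.ker) B)
      rw [hker] at hc
      obtain ⟨c⟩ := hc
      obtain ⟨d⟩ := H23.PicMul.cl_eq_iff.1 ((show PicF.cl ((Scheme.Modules.pullback f).obj B) =
          PicF.pullCl f (PicF.cl L * PicF.cl M ^ (i + 1)) by
        show PicF.pullCl f (PicF.cl B) = _
        rw [H23.PicMul.cl_tensor, H23.PicMul.cl_tensorPow]).trans (hfB (i + 1)))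
      have hP := P1Split.h1_T k ((n : ℤ) - (i + 1 : ℕ)) (by omega)
      obtain ⟨q⟩ := QCoh.HH_push_of_isAffineHom f
        (AmpleVan.isCoh_invertible (PicClLib.isInvertible_pullback f (hB (i + 1)))).1 1
      have h3 : Subsingleton (Coh.HH X (CohB1.tensorMod (ClSub.quotMod ι.ker) B) 1) := by
        haveI := QCoh.subsingleton_HH_of_iso d.symm 1 hP
        exact QCoh.subsingleton_HH_of_iso c 1 q.symm.toEquiv.subsingleton
      have hX1 : Subsingleton (Coh.HH X (CohB1.tensorMod (ClSub.idealMod ι.ker) B) 1) :=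
        QCoh.subsingleton_HH_of_iso a 1 (ih (by omega))
      exact QCoh.subsingleton_HH_of_iso b 1 (QCoh.subsingleton_HH_X₂ hses 1 hX1 h3)

end Groth.Agent.S7339
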