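import Groth.Statements.S0208
import Groth.Agent.FieldCd.BrauerCd
-- import your own Groth.Agent.* helpers here

set_option autoImplicit false
universe u
open CategoryTheory CategoryTheory.Limits AlgebraicGeometry
open Curves

namespace Groth.Agent.S0208

/-- Let K be a field such that every finite extension K' of K has trivial Brauer group: every
finite-dimensional central division algebra over K' is K' itself. Then for every torsion abelian
sheaf F on the small étale site of Spec K and every q ≥ 2, H^q(Spec K_ét, F) = 0. (This is the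
étale-site form of the corresponding vanishing of Galois cohomology of K.) -/
theorem result (K : Type u) [Field K]
    (hBr : ∀ (K' : Type u) [Field K'] [Algebra K K'] [FiniteDimensional K K']
      (D : Type u) [DivisionRing D] [Algebra K' D] [Algebra.IsCentral K' D] [FiniteDimensional K' D],
      Module.finrank K' D = 1)
    (F : EtCoh.Ab (Spec (CommRingCat.of K))) (hF : EtCoh.IsTorsion F) (q : ℕ) (hq : 2 ≤ q) :
    Subsingleton (EtCoh.H (Spec (CommRingCat.of K)) F q) := by
  refine subsingleton_of_forall_eq 0 fun x => ?_
  have hfin : IsOfFinAddOrder x := GalTorLib.isOfFinAddOrder K F q (by omega) x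
  by_contra hne
  obtain ⟨p, hp, hdvd⟩ := Nat.exists_prime_and_dvd
    (fun e => hne (AddMonoid.addOrderOf_eq_one_iff.1 e) : addOrderOf x ≠ 1)
  haveI := Fact.mk hp
  obtain ⟨c, hc⟩ := hdvd
  have hcd : GalTorLib.CdLE (Spec (CommRingCat.of K)) p 1 := FieldCd.cdLE_one_of_brauer hBr p
  have h0 : c • x = 0 := hcd F hF q (by omega) _ ⟨1, by rw [pow_one, ← mul_nsmul', ← hc, addOrderOf_nsmul_eq_zero]⟩
  have hpos := hfin.addOrderOf_pos
  have hle := Nat.le_of_dvd (Nat.pos_of_ne_zero fun e => by rw [hc, e, mul_zero] at hpos; exact lt_irrefl 0 hpos)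
    (addOrderOf_dvd_of_nsmul_eq_zero h0)
  rw [hc] at hle hpos
  have h2 : 2 ≤ p := hp.two_le
  nlinarith

end Groth.Agent.S0208
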