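import Groth.Statements.S8560
import Groth.Agent.EtTorLib.Exhaust
import Groth.Agent.EtTorLib.PushTors

set_option autoImplicit false
universe u
open CategoryTheory CategoryTheory.Limits AlgebraicGeometry Opposite
open EtAcyc

namespace Groth.Agent.S8560

/-- For the etale sites of schemes and a set of primes L: if f : X ⟶ Y is a quasi-compact and
quasi-separated morphism of schemes and F is an abelian L-torsion sheaf on the small etale site of X
(every section is, etale-locally around each point, killed by a positive integer all of whose prime
factors lie in L), then each higher direct image R^q f_* F is an L-torsion sheaf on Y. (The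
published statement, for topoi, asks only that the morphism be quasi-compact; this row also assumes
f quasi-separated: for the spectrum of a polynomial ring in countably many variables over a
separably closed field glued to a copy of itself along the complement of the origin, and the direct
sum of the skyscraper sheaves ℤ/pⁿ at the points where exactly the n-th variable is 1, the structure
morphism to the field is quasi-compact but H¹ contains a class of infinite order.) -/
theorem result {X Y : Scheme.{u}} (f : X ⟶ Y) [QuasiCompact f] [QuasiSeparated f]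
    [EtCoh.BCCont f] (L : Set ℕ) (F : EtCoh.Ab X) (hF : EtAcyc.IsLTorsion L F) (q : ℕ) :
    EtAcyc.IsLTorsion L ((EtCoh.Rpush f q).obj F) := by
  let M : Set ℕ := {m | EtAcyc.PrimesIn L m}
  have h1 : 1 ∈ M := ⟨Nat.one_pos, fun p hp h => absurd (Nat.dvd_one.1 h) hp.ne_one⟩
  have hmul : ∀ a ∈ M, ∀ b ∈ M, a * b ∈ M := fun a ha b hb =>
    ⟨Nat.mul_pos ha.1 hb.1, fun p hp h => ((Nat.Prime.dvd_mul hp).1 h).elim (ha.2 p hp) (hb.2 p hp)⟩
  haveI := EtTorLib.isFiltered_tidx.{u} h1 hmul
  obtain ⟨hc⟩ := EtTorLib.nonempty_isColimit_torsCocone F h1 hmul hF
  intro U s x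
  obtain ⟨W, g, hW, w, hw⟩ := EtTorLib.exists_affine_nhd U x
  obtain ⟨i, hi⟩ := EtTorLib.exists_stage_killed f q F hc W hW (((EtCoh.Rpush f q).obj F).obj.map g.op s)
  exact ⟨W, g, i.n, ⟨w, hw⟩, i.mem, hi⟩

end Groth.Agent.S8560
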