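import Groth.Statements.S3244
import Groth.Agent.S0108
import Groth.Prelude.Def_SixF3

set_option autoImplicit false
universe u
open CategoryTheory AlgebraicGeometry
open Dix

namespace Groth.Agent.S3244

/-- Kummer theory at finite level: let n > 0 be an integer invertible on the scheme X (nonzero in every
residue field). Then for every i ≥ 1 the image of H^i(X_ét, μ_n) → H^i(X_ét, G_m), induced by the
inclusion μ_n → G_m, is exactly the subgroup of elements of H^i(X_ét, G_m) killed by n; in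
particular H²(X_ét, μ_n) maps onto the n-torsion of the cohomological Brauer group H²(X_ét, G_m).
(The published statement gives exact sequences obtained as the colimit of these over the powers n =
ℓ^m of a prime ℓ.) -/
theorem result (X : Scheme.{u}) (n : ℕ) (hn : 0 < n) (hX : Dix.InvertibleOn X n) (i : ℕ) (hi : 1 ≤ i) : Set.range ⇑((EtCoh.HF X i).map (EtCoh.muι X n)) = {ξ : (EtCoh.HF X i).obj (EtCoh.Gm X) | n • ξ = 0} := by
  have hu : IsUnit (n : Γ(X, ⊤)) := X.toRingedSpace.isUnit_of_isUnit_germ ⊤ _ fun x hx => by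
    show IsUnit ((X.presheaf.germ ⊤ x hx).hom (n : Γ(X, ⊤)))
    rw [map_natCast]
    by_contra h
    have h1 : IsLocalRing.residue (X.presheaf.stalk x) (n : X.presheaf.stalk x) = 0 :=
      (IsLocalRing.residue_eq_zero_iff _).2 ((IsLocalRing.mem_maximalIdeal _).2 h)
    rw [map_natCast] at h1
    exact hX x h1
  have hE : Epi (EtCoh.powMap X n) := S0108.result X n hu
  have hz : ∀ ξ : EtCoh.H X (EtCoh.Gm X) i, Sheaf.H.map (0 : EtCoh.Gm X ⟶ EtCoh.Gm X) i ξ = 0 := fun ξ => by
    rw [Sheaf.H.map_apply, Abelian.Ext.mk₀_zero, Abelian.Ext.comp_zero]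
  have key : ∀ ξ : EtCoh.H X (EtCoh.Gm X) i, Sheaf.H.map (EtCoh.powMap X n) i ξ = n • ξ := fun ξ => by
    show Sheaf.H.map (n • 𝟙 (EtCoh.Gm X)) i ξ = n • ξ
    clear hn hX hu hE
    induction n with
    | zero => rw [zero_smul, zero_smul, hz]
    | succ m ih => rw [succ_nsmul, succ_nsmul, Sheaf.H.map_add_apply, ih, Sheaf.H.map_id_apply]
  ext ξ
  constructor
  · rintro ⟨y, rfl⟩
    show n • Sheaf.H.map (EtCoh.muι X n) i y = 0
    rw [← key, ← Sheaf.H.map_comp_apply, show EtCoh.muι X n ≫ EtCoh.powMap X n = 0 from Limits.kernel.condition _,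
      Sheaf.H.map_apply, Abelian.Ext.mk₀_zero, Abelian.Ext.comp_zero]
  · intro hξ
    obtain ⟨y, hy⟩ := Abelian.Ext.covariant_sequence_exact₂ _ (EtSix.kummerShortExact hE) ξ ((key ξ).trans hξ)
    exact ⟨y, hy⟩

end Groth.Agent.S3244
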