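import Groth.Statements.S3246
import Groth.Agent.GalTorLib.CohDim
import Groth.Agent.EtFound.Presentation
import Groth.Agent.S3244
-- import your own Groth.Agent.* helpers here

set_option autoImplicit false
universe u
open CategoryTheory AlgebraicGeometry
open Dix

namespace Groth.Agent.S3246

open CategoryTheory.Limits CategoryTheory.Abelian in
theorem torsion_succ' {X : Scheme.{u}} (p n : ℕ) (hp : p.Prime)
    (h : ∀ (G : EtCoh.Ab X) (m : ℕ), p ^ m • 𝟙 G = 0 → ∀ q, n < q → Subsingleton (EtCoh.H X G q))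
    (F : EtCoh.Ab X) (q : ℕ)
    (hq : n + 1 < q) (x : EtCoh.H X F q) (hx : ∃ m : ℕ, p ^ m • x = 0) : x = 0 := by
  obtain ⟨m, hm⟩ := hx
  obtain ⟨r, rfl⟩ : ∃ r, q = r + 1 := ⟨q - 1, by omega⟩
  let N := p ^ m
  have hN : 0 < N := pow_pos hp.pos m
  let φ : F ⟶ F := N • 𝟙 F
  let π := Limits.factorThruImage φ
  let i := Limits.image.ι φ
  have hK : N • 𝟙 (kernel φ) = 0 := by
    refine (cancel_mono (kernel.ι φ)).1 ?_
    rw [Preadditive.nsmul_comp, Category.id_comp, zero_comp]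
    exact (show N • kernel.ι φ = kernel.ι φ ≫ φ by rw [Preadditive.comp_nsmul, Category.comp_id]).trans (kernel.condition φ)
  have hC : N • 𝟙 (cokernel i) = 0 := by
    refine (cancel_epi (cokernel.π i)).1 ?_
    rw [Preadditive.comp_nsmul, Category.comp_id, comp_zero]
    have : φ ≫ cokernel.π i = 0 :=
      (congrArg (fun e => e ≫ cokernel.π i) (Limits.image.fac φ)).symm.trans
        ((Category.assoc _ _ _).trans ((congrArg (Limits.factorThruImage φ ≫ ·) (cokernel.condition i)).trans comp_zero))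
    exact (show N • cokernel.π i = φ ≫ cokernel.π i by rw [Preadditive.nsmul_comp, Category.id_comp]).trans this
  let S₁ : ShortComplex (EtCoh.Ab X) := ShortComplex.mk (kernel.ι φ) π
    ((cancel_mono i).1 (by rw [Category.assoc, Limits.image.fac, zero_comp, kernel.condition]))
  have hS₁ : S₁.ShortExact := by
    haveI : Epi S₁.g := inferInstanceAs (Epi (Limits.factorThruImage φ))
    haveI : Mono S₁.f := inferInstanceAs (Mono (kernel.ι φ))
    refine ShortComplex.ShortExact.mk' (S₁.exact_of_f_is_kernel ?_) inferInstance inferInstance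
    exact isKernelOfComp i φ (kernelIsKernel φ) S₁.zero (Limits.image.fac φ)
  let S₂ : ShortComplex (EtCoh.Ab X) := ShortComplex.mk i (cokernel.π i) (cokernel.condition i)
  have hS₂ : S₂.ShortExact := by
    haveI : Epi S₂.g := inferInstanceAs (Epi (cokernel.π i))
    haveI : Mono S₂.f := inferInstanceAs (Mono i)
    exact ShortComplex.ShortExact.mk' (S₂.exact_of_g_is_cokernel (cokernelIsCokernel i)) inferInstance inferInstance
  let y : EtCoh.H X S₁.X₃ (r + 1) := (Ext.comp x (Ext.mk₀ π) (add_zero (r + 1)))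
  have hy : y.comp (Ext.mk₀ i) (add_zero (r + 1)) = 0 := by
    rw [Ext.comp_assoc_of_third_deg_zero, Ext.mk₀_comp_mk₀, Limits.image.fac]
    exact (GalTorLib.HF_map_nsmul F (r + 1) N x).trans hm
  obtain ⟨z, hz⟩ := Ext.covariant_sequence_exact₁ _ hS₂ y hy (n₀ := r) rfl
  have hz0 : z = 0 := @Subsingleton.elim _ (h _ m hC r (by omega)) z 0
  have hy0 : y = 0 := by rw [← hz, hz0, Ext.zero_comp]
  obtain ⟨w, hw⟩ := Ext.covariant_sequence_exact₂ _ hS₁ x hy0
  have hw0 : w = 0 := @Subsingleton.elim _ (h _ m hK (r + 1) (by omega)) w 0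
  rw [← hw, hw0, Ext.zero_comp]

theorem primary_of_nsmul {X : Scheme.{u}} (ℓ m : ℕ) (G : EtCoh.Ab X) (h : ℓ ^ m • 𝟙 G = 0) :
    Dix.IsPrimaryTorsion ℓ G := fun U s x =>
  ⟨U, 𝟙 U, ⟨x, rfl⟩, m, by
    rw [op_id, CategoryTheory.Functor.map_id]
    exact (EtFound.killedBy_iff_nsmul _ _).2 h U _⟩

/-- Let X be a scheme, ℓ a prime and n an integer with cd_ℓ(X) ≤ n (étale cohomology of ℓ-primary
torsion sheaves vanishes above degree n). Then the ℓ-primary torsion of H^i(X_ét, G_m) is zero for i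
> n + 1; if moreover ℓ is invertible on X, it is zero for i > n. -/
theorem result (X : Scheme.{u}) (ℓ : ℕ) (hℓ : ℓ.Prime) (n : ℕ) (hcd : Dix.CohDimLEAt X ℓ n) : (∀ i : ℕ, n + 1 < i → ∀ ξ : EtCoh.H X (EtCoh.Gm X) i, (∃ k : ℕ, ℓ ^ k • ξ = 0) → ξ = 0) ∧ (Dix.InvertibleOn X ℓ → ∀ i : ℕ, n < i → ∀ ξ : EtCoh.H X (EtCoh.Gm X) i, (∃ k : ℕ, ℓ ^ k • ξ = 0) → ξ = 0) := by
  have hvan : ∀ (G : EtCoh.Ab X) (m : ℕ), ℓ ^ m • 𝟙 G = 0 → ∀ q, n < q → Subsingleton (EtCoh.H X G q) :=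
    fun G m hG q hq => hcd G (primary_of_nsmul ℓ m G hG) q hq
  refine ⟨fun i hi ξ hξ => torsion_succ' ℓ n hℓ hvan _ i hi ξ hξ, fun hinv i hi ξ hξ => ?_⟩
  obtain ⟨m, hm⟩ := hξ
  have hinv' : Dix.InvertibleOn X (ℓ ^ m) := fun x => by
    rw [Nat.cast_pow]
    exact pow_ne_zero m (hinv x)
  have h : ξ ∈ Set.range ⇑((EtCoh.HF X i).map (EtCoh.muι X (ℓ ^ m))) := by
    rw [Groth.Agent.S3244.result X (ℓ ^ m) (pow_pos hℓ.pos m) hinv' i (by omega)]
    exact hm
  obtain ⟨y, rfl⟩ := h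
  have hmu : ℓ ^ m • 𝟙 (EtCoh.mu X (ℓ ^ m)) = 0 := by
    haveI : Mono (EtCoh.muι X (ℓ ^ m)) :=
      inferInstanceAs (Mono (Limits.kernel.ι (EtCoh.powMap X (ℓ ^ m))))
    refine (cancel_mono (EtCoh.muι X (ℓ ^ m))).1 ?_
    rw [Preadditive.nsmul_comp, Category.id_comp, Limits.zero_comp]
    exact (show ℓ ^ m • EtCoh.muι X (ℓ ^ m) = EtCoh.muι X (ℓ ^ m) ≫ EtCoh.powMap X (ℓ ^ m) by
      rw [EtCoh.powMap, Preadditive.comp_nsmul, Category.comp_id]).trans (Limits.kernel.condition _)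
  haveI : Subsingleton ((EtCoh.HF X i).obj (EtCoh.mu X (ℓ ^ m))) := hvan _ m hmu i hi
  rw [Subsingleton.elim y 0, map_zero]
  rfl

end Groth.Agent.S3246
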