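import Groth.Statements.S5430
import Groth.Agent.MultConjLib.Rigidity
-- import your own Groth.Agent.* helpers here

set_option autoImplicit false
universe u
open CategoryTheory MonoidalCategory CartesianMonoidalCategory MonObj GrpObj AlgebraicGeometry CategoryTheory.Limits
open SGA3x

set_option backward.isDefEq.respectTransparency false

namespace Groth.Agent.S5430

/-- Let S be a scheme and E an S-group scheme which is an extension of an S-group scheme U with
connected fibres by an S-group H of multiplicative type and of finite type: p : E → U is a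
homomorphism which is surjective, flat and quasi-compact (U is the fpqc quotient E/H) and i : H → E
is its kernel. Then the extension is central: every point of H commutes with every point of E. -/
theorem result (S : Scheme.{u}) (E H U : Over S) [GrpObj E] [GrpObj H] [GrpObj U]
    (p : E ⟶ U) [IsMonHom p] [Surjective p.left] [Flat p.left] [QuasiCompact p.left]
    (i : H ⟶ E) [IsMonHom i] (hker : AlgGrp.IsKernel i p) (hH : SGA3x.IsMultTypeFT H)
    (hU : ∀ s : S, _root_.IsConnected (U.hom.base ⁻¹' {s})) :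
    ∀ (X : Over S) (h : X ⟶ H) (e : X ⟶ E), (h ≫ i) * e = e * (h ≫ i) := by
  haveI := hH
  have hex : ∀ (X : Over S) (e : X ⟶ E) (h : X ⟶ H), ∃ h' : X ⟶ H, h' ≫ i = e * (h ≫ i) * e⁻¹ := fun X e h => by
    have hw : (e * (h ≫ i) * e⁻¹) ≫ p = toUnit X ≫ η[U] := by
      rw [MonObj.mul_comp, MonObj.mul_comp, GrpObj.inv_comp, Category.assoc, hker.w, ← Category.assoc, comp_toUnit,
        ← Hom.one_def]
      group
    exact ⟨hker.lift _ (toUnit X) hw, hker.lift_fst _ _ _⟩
  obtain ⟨act, hact⟩ := hex (E ⊗ H) (fst E H) (snd E H)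
  have hmono : ∀ {X : Over S} (a b : X ⟶ H), a ≫ i = b ≫ i → a = b := fun a b h =>
    hker.hom_ext h (toUnit_unique _ _)
  have hpt : ∀ (T : Over S) (e : T ⟶ E) (h : T ⟶ H), (lift e h ≫ act) ≫ i = e * (h ≫ i) * e⁻¹ := fun T e h => by
    rw [Category.assoc, hact, MonObj.comp_mul, MonObj.comp_mul, GrpObj.comp_inv, lift_fst,
      ← Category.assoc, lift_snd]
  obtain ⟨V, hVc, hV1, hV2⟩ := MultConjLib.exists_clopen_trivAt hH act fun T y h h' =>
    hmono _ _ (by rw [MonObj.mul_comp, hpt, hpt, hpt, MonObj.mul_comp]; group)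
  have hone : ∀ (X : Over S) (w : X.left), (1 : X ⟶ E).left w ∈ V := fun X w => by
    refine hV2 X 1 w fun X' x' h' => hmono _ _ ?_
    rw [hpt, MonObj.comp_one]
    group
  have hsat : p.left ⁻¹' (p.left '' (V : Set E.left)) = V := by
    refine Set.Subset.antisymm ?_ (Set.subset_preimage_image _ _)
    rintro e₂ ⟨e₁, he₁, heq⟩
    obtain ⟨w, hw₁, hw₂⟩ := Scheme.Pullback.exists_preimage_pullback (f := p.left) (g := p.left) e₁ e₂ heq
    let P : Scheme.{u} := Limits.pullback p.left p.left
    let X : Over S := Over.mk (P.fromSpecResidueField w ≫ Limits.pullback.fst p.left p.left ≫ E.hom)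
    let a : X ⟶ E := Over.homMk (P.fromSpecResidueField w ≫ Limits.pullback.fst p.left p.left) (Category.assoc _ _ _)
    let b : X ⟶ E := Over.homMk (P.fromSpecResidueField w ≫ Limits.pullback.snd p.left p.left) (by
      show (_ ≫ _) ≫ E.hom = P.fromSpecResidueField w ≫ _ ≫ E.hom
      rw [← Over.w p, Category.assoc, Limits.pullback.condition_assoc])
    have hab : a ≫ p = b ≫ p := Over.OverMorphism.ext (by
      show (_ ≫ _) ≫ p.left = (_ ≫ _) ≫ p.left
      rw [Category.assoc, Category.assoc, Limits.pullback.condition])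
    have hc : (a⁻¹ * b) ≫ p = toUnit X ≫ η[U] := by
      rw [MonObj.mul_comp, GrpObj.inv_comp, hab, inv_mul_cancel, Hom.one_def]
    obtain ⟨c, hc⟩ : ∃ c : X ⟶ H, c ≫ i = a⁻¹ * b := ⟨hker.lift _ (toUnit X) hc, hker.lift_fst _ _ _⟩
    have haV : ∀ z, a.left z ∈ V := fun z => by
      show Limits.pullback.fst p.left p.left (P.fromSpecResidueField w z) ∈ V
      rw [Scheme.fromSpecResidueField_apply, hw₁]
      exact he₁
    have ha := hV1 X a haV
    have hb : MultConjLib.TrivAt act b := fun X' x' h' => hmono _ _ (by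
      have e1 := congrArg (· ≫ i) (ha X' x' h')
      simp only [hpt] at e1
      have e2 : x' ≫ b = (x' ≫ a) * (x' ≫ c ≫ i) := by
        rw [hc, MonObj.comp_mul, GrpObj.comp_inv, mul_inv_cancel_left]
      have e3 : (x' ≫ c ≫ i) * (h' ≫ i) = (h' ≫ i) * (x' ≫ c ≫ i) := by
        rw [← Category.assoc, ← MonObj.mul_comp, ← MonObj.mul_comp,
          MultConjLib.points_comm (MultConjLib.isLocDS_of_multTypeFT hH)]
      rw [hpt, e2]
      conv_rhs => rw [← e1]
      calc _ = (x' ≫ a) * ((x' ≫ c ≫ i) * (h' ≫ i) * (x' ≫ c ≫ i)⁻¹) * (x' ≫ a)⁻¹ := by group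
        _ = _ := by rw [e3]; group)
    have := hV2 X b (IsLocalRing.closedPoint _) hb
    show e₂ ∈ V
    rw [← hw₂]
    change Limits.pullback.snd p.left p.left (P.fromSpecResidueField w _) ∈ V at this
    rwa [Scheme.fromSpecResidueField_apply] at this
  have hquot := AlgebraicGeometry.Flat.isQuotientMap_of_surjective p.left
  have hW : IsClopen (p.left '' (V : Set E.left)) := by
    refine ⟨hquot.isClosed_preimage.mp ?_, hquot.isOpen_preimage.mp ?_⟩ <;> rw [hsat]
    exacts [hVc, V.isOpen]
  have huniv : ∀ e : E.left, e ∈ V := fun e => by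
    rw [← SetLike.mem_coe, ← hsat]
    refine (hU (E.hom e)).isPreconnected.subset_isClopen hW ⟨(η[U] : 𝟙_ (Over S) ⟶ U).left (E.hom e), ?_, ?_⟩ ?_
    · show U.hom ((η[U] : 𝟙_ (Over S) ⟶ U).left (E.hom e)) = E.hom e
      rw [← Scheme.Hom.comp_apply, Over.w]
      rfl
    · refine ⟨(1 : 𝟙_ (Over S) ⟶ E).left (E.hom e), hone _ _, ?_⟩
      show p.left ((1 : 𝟙_ (Over S) ⟶ E).left (E.hom e)) = _
      rw [← Scheme.Hom.comp_apply, ← Over.comp_left, MonObj.one_comp, Hom.one_def,
        toUnit_unique (toUnit _) (𝟙 _), Category.id_comp]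
    · show U.hom (p.left e) = E.hom e
      rw [← Scheme.Hom.comp_apply, Over.w]
  intro X h e
  have := congrArg (· ≫ i) ((hV1 X e fun z => huniv _) X (𝟙 X) h)
  simp only [hpt, Category.id_comp] at this
  exact (mul_inv_eq_iff_eq_mul.mp this).symm

end Groth.Agent.S5430
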