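import Groth.Statements.S5974
import Groth.Agent.Synt29.ConormalExact
import Groth.Agent.Synt29.ConormalSeq
import Mathlib

set_option backward.isDefEq.respectTransparency false
set_option backward.isDefEq.respectTransparency.types false
set_option linter.style.haveILetI false
set_option maxHeartbeats 1000000

set_option autoImplicit false
universe u
open CategoryTheory CategoryTheory.Limits AlgebraicGeometry TopologicalSpace Opposite
open Nrm16

namespace Groth.Agent.S5974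

open Groth.Agent.Synt29.ConormalStalk Groth.Agent.Synt29 OmegaStalk

section

variable {Z X : Scheme.{u}} (i : Z ⟶ X) [IsImmersion i] [QuasiCompact i]

/-- `z` is the class of the function germ `a`. -/
def Cls (x : Z) (z : St (Omega.conormal i) x) (a : X.presheaf.stalk (i x)) : Prop :=
  ∃ m, Rep i (i x) m a ∧ ((KFlatLib.stalkPullbackIso i x).app (I i)).hom z = unit1 i x m

omit [IsImmersion i] [QuasiCompact i] in
theorem cls_of_sect {x : Z} {U : X.Opens} (hx : x ∈ i ⁻¹ᵁ U) (k : Γ(ClSub.idealMod i.ker, U))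
    (a : X.presheaf.stalk (i x)) (ha : X.presheaf.germ U (i x) hx (OmegaSh.idealSect i.ker U k) = a) :
    Cls i x (gm _ hx (OmegaSh.conormalSect i U k)) a :=
  ⟨_, ⟨U, hx, k, rfl, ha⟩, stalkPullbackIso_gm i (I i) x hx k⟩

theorem cls_exists (x : Z) (z : St (Omega.conormal i) x) : ∃ a, Cls i x z a := by
  obtain ⟨U, hx, k, rfl⟩ := exists_conormalSect i x z
  exact ⟨_, cls_of_sect i hx k _ rfl⟩

omit [IsImmersion i] [QuasiCompact i] in
theorem cls_sect {x : Z} {z : St (Omega.conormal i) x} {a : X.presheaf.stalk (i x)} (h : Cls i x z a) :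
    ∃ (U : X.Opens) (hx : x ∈ i ⁻¹ᵁ U) (k : Γ(ClSub.idealMod i.ker, U)),
      gm _ hx (OmegaSh.conormalSect i U k) = z ∧ X.presheaf.germ U (i x) hx (OmegaSh.idealSect i.ker U k) = a := by
  obtain ⟨m, ⟨U, hx, k, hm, ha⟩, hz⟩ := h
  refine ⟨U, hx, k, (ConcreteCategory.bijective_of_isIso ((KFlatLib.stalkPullbackIso i x).app (I i)).hom).1 ?_, ha⟩
  rw [hz, ← hm]
  exact stalkPullbackIso_gm i (I i) x hx k

omit [IsImmersion i] in
theorem cls_mem {x : Z} {z : St (Omega.conormal i) x} {a : X.presheaf.stalk (i x)} (h : Cls i x z a) :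
    i.stalkMap x a = 0 := by
  obtain ⟨m, hm, -⟩ := h
  exact rep_mem i hm

theorem cls_exists_of_mem (x : Z) {a : X.presheaf.stalk (i x)} (ha : i.stalkMap x a = 0) :
    ∃ z, Cls i x z a := by
  obtain ⟨m, hm⟩ := exists_rep i ha
  refine ⟨((KFlatLib.stalkPullbackIso i x).app (I i)).inv (unit1 i x m), m, hm, ?_⟩
  exact ((KFlatLib.stalkPullbackIso i x).app (I i)).inv_hom_id_apply _

omit [IsImmersion i] [QuasiCompact i] in
theorem cls_inj {x : Z} {z z' : St (Omega.conormal i) x} {a : X.presheaf.stalk (i x)} (h : Cls i x z a)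
    (h' : Cls i x z' a) : z = z' := by
  obtain ⟨m, hm, hz⟩ := h
  obtain ⟨m', hm', hz'⟩ := h'
  refine (ConcreteCategory.bijective_of_isIso ((KFlatLib.stalkPullbackIso i x).app (I i)).hom).1 ?_
  rw [hz, hz', rep_inj i hm hm']

theorem cls_eq_zero {x : Z} {z : St (Omega.conormal i) x} {a : X.presheaf.stalk (i x)} (h : Cls i x z a)
    (ha : a ∈ RingHom.ker (i.stalkMap x).hom ^ 2) : z = 0 := by
  obtain ⟨U, hx, k, rfl, rfl⟩ := cls_sect i h
  exact conormalSect_eq_zero i hx k ha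

omit [QuasiCompact i] in
theorem cls_zero_mem_sq [QuasiCompact i] {x : Z} (hs : Function.Surjective (i.stalkMap x))
    {a : X.presheaf.stalk (i x)} (h : Cls i x 0 a) : a ∈ RingHom.ker (i.stalkMap x).hom ^ 2 := by
  obtain ⟨m, hm, hz⟩ := h
  exact ConormalSeq.mem_sq_of_unit1_eq_zero i hs hm (hz.symm.trans (map_zero _))

theorem cls_sub_zero {x : Z} {z : St (Omega.conormal i) x} {a c : X.presheaf.stalk (i x)} (h : Cls i x z a)
    (hc : Cls i x 0 c) : Cls i x z (a - c) := by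
  obtain ⟨m, hm, hz⟩ := h
  obtain ⟨m', hm', hz'⟩ := hc
  have h1 := rep_smul i hm' (-1)
  refine ⟨m + (-1 : X.presheaf.stalk (i x)) • m', ?_, ?_⟩
  · have := rep_add i hm h1
    rwa [neg_one_mul, ← sub_eq_add_neg] at this
  · have h0 : unit1 i x m' = 0 := hz'.symm.trans (map_zero _)
    have h2 : unit1 i x ((-1 : X.presheaf.stalk (i x)) • m') = 0 := by
      rw [unit1_smul, h0, smul_zero]
    refine hz.trans ?_
    exact ((map_add _ m _).trans ((congrArg (unit1 i x m + ·) h2).trans (add_zero _))).symm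

end

/-- the value of the first map on a class -/
theorem phi_gen {Y' Y X : Scheme.{u}} (f : Y ⟶ X) (j : Y' ⟶ Y) [QuasiCompact f] [IsImmersion (j ≫ f)] [QuasiCompact (j ≫ f)]
    (φ₁ : (Scheme.Modules.pullback j).obj (Omega.conormal f) ⟶ Omega.conormal (j ≫ f))
    (hφ₁ : OmegaSh.IsConormalMap (j ≫ f) f (𝟙 X) j φ₁) (U : X.Opens) (t : Γ(ClSub.idealMod f.ker, U))
    {x : Y'} (hx : x ∈ j ⁻¹ᵁ (f ⁻¹ᵁ U)) :
    ∃ s : Γ(ClSub.idealMod (j ≫ f).ker, U),
      OmegaSh.idealSect (j ≫ f).ker U s = OmegaSh.idealSect f.ker U t ∧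
      (DerSch.stalkFunctor Y' x).map φ₁
        (gm _ hx (OmegaSh.pullSect j (Omega.conormal f) (f ⁻¹ᵁ U) (OmegaSh.conormalSect f U t))) =
        gm _ (show x ∈ (j ≫ f) ⁻¹ᵁ U from hx) (OmegaSh.conormalSect (j ≫ f) U s) := by
  have h0 : (j ≫ f).app U (OmegaSh.idealSect f.ker U t) = 0 := by
    show j.app (f ⁻¹ᵁ U) (f.app U (OmegaSh.idealSect f.ker U t)) = 0
    rw [OmegaUniv.app_idealSect, map_zero]
  obtain ⟨s, hs⟩ := OmegaUniv.exists_idealSect_of_app_eq_zero (j ≫ f) _ _ h0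
  refine ⟨s, hs, ?_⟩
  refine (DerSch.stalkFunctor_map_germ x φ₁ _ _ _).trans ?_
  have h1 := hφ₁.2 U t s hs (j ⁻¹ᵁ f ⁻¹ᵁ U) le_rfl le_rfl
  have h2 := congrArg (gm (Omega.conormal (j ≫ f)) hx) h1
  erw [gm_res, gm_res] at h2
  exact h2

/-- Let f : Y ⟶ X and j : Y' ⟶ Y be quasi-compact immersions. Let φ₁ : j^* N_{Y/X} ⟶ N_{Y'/X} and φ₂ :
N_{Y'/X} ⟶ N_{Y'/Y} be the canonical maps of conormal sheaves (the first induced by the identity of
X, the second by f, on local sections of the ideals). Then φ₂ is an epimorphism and the image of φ₁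
is the kernel of φ₂: the sequence j^* N_{Y/X} ⟶ N_{Y'/X} ⟶ N_{Y'/Y} ⟶ 0 is exact. (The published
statement allows arbitrary immersions; this row assumes them quasi-compact, the case in which the
conormal sheaves used here are those of the immersions.) -/
theorem result {Y' Y X : Scheme.{u}} (f : Y ⟶ X) [IsImmersion f] [QuasiCompact f]
    (j : Y' ⟶ Y) [IsImmersion j] [QuasiCompact j]
    (φ₁ : (Scheme.Modules.pullback j).obj (Omega.conormal f) ⟶ Omega.conormal (j ≫ f))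
    (hφ₁ : OmegaSh.IsConormalMap (j ≫ f) f (𝟙 X) j φ₁)
    (φ₂ : (Scheme.Modules.pullback (𝟙 Y')).obj (Omega.conormal (j ≫ f)) ⟶ Omega.conormal j)
    (hφ₂ : OmegaSh.IsConormalMap j (j ≫ f) f (𝟙 Y') φ₂) :
    Epi φ₂ ∧
      imageSubobject φ₁ =
        kernelSubobject ((Scheme.Modules.pullbackId Y').inv.app (Omega.conormal (j ≫ f)) ≫ φ₂) := by
  classical
  open Groth.Agent.Synt29.ConormalStalk Groth.Agent.Synt29 OmegaStalk in
  let N := Omega.conormal (j ≫ f)
  let ε := (Scheme.Modules.pullbackId Y').inv.app N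
  have hε : ∀ (U : Y'.Opens) (x : Γ(N, U)), ε.app U x = OmegaSh.pullSect (𝟙 Y') N U x := by
    intro U x
    have h := unit_conjugateEquiv Adjunction.id (Scheme.Modules.pullbackPushforwardAdjunction (𝟙 Y'))
      (Scheme.Modules.pullbackId Y').hom N
    rw [Scheme.Modules.conjugateEquiv_pullbackId_hom] at h
    have h1 : x = ((Scheme.Modules.pullbackId Y').hom.app N).app U (OmegaSh.pullSect (𝟙 Y') N U x) :=
      congrArg (fun φ => Scheme.Modules.Hom.app φ U x) h
    refine (congrArg (((Scheme.Modules.pullbackId Y').inv.app N).app U) h1).trans ?_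
    exact congrArg (fun φ : (Scheme.Modules.pullback (𝟙 Y')).obj N ⟶ (Scheme.Modules.pullback (𝟙 Y')).obj N =>
      Scheme.Modules.Hom.app φ U (OmegaSh.pullSect (𝟙 Y') N U x))
      ((Scheme.Modules.pullbackId Y').hom_inv_id_app N)
  -- values on classes
  have h2 : ∀ (x : Y') (z : St N x) (a : X.presheaf.stalk ((j ≫ f) x)), Cls (j ≫ f) x z a →
      Cls j x ((DerSch.stalkFunctor Y' x).map (ε ≫ φ₂) z) (f.stalkMap (j x) a) := by
    intro x z a hz
    obtain ⟨U', hx, s', hzs, has⟩ := cls_sect (j ≫ f) hz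
    obtain ⟨s, hs, he⟩ := ConormalExact.psi_gen f j φ₂ hφ₂ U' s' (x := x) hx
    have hval : (DerSch.stalkFunctor Y' x).map (ε ≫ φ₂) z =
        gm _ (show x ∈ j ⁻¹ᵁ (f ⁻¹ᵁ U') from hx) (OmegaSh.conormalSect j (f ⁻¹ᵁ U') s) := by
      rw [Functor.map_comp, ModuleCat.comp_apply, ← hzs, ← he]
      refine congrArg ((DerSch.stalkFunctor Y' x).map φ₂) ?_
      refine (DerSch.stalkFunctor_map_germ x ε _ _ _).trans ?_
      exact congrArg (gm ((Scheme.Modules.pullback (𝟙 Y')).obj N) hx) (hε _ _)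
    rw [hval, ← has]
    refine cls_of_sect j (show x ∈ j ⁻¹ᵁ (f ⁻¹ᵁ U') from hx) s _ ?_
    rw [hs]
    exact (Scheme.Hom.germ_stalkMap_apply f U' (j x) hx _).symm
  have h1 : ∀ (x : Y') (c : X.presheaf.stalk (f (j x))), f.stalkMap (j x) c = 0 →
      ∃ w, Cls (j ≫ f) x ((DerSch.stalkFunctor Y' x).map φ₁ w) c := by
    intro x c hc
    obtain ⟨W, hW, -, t, ht, rfl⟩ := exists_killed f (x := j x) c hc ⊤ trivial
    obtain ⟨k, hk⟩ := OmegaUniv.exists_idealSect_of_app_eq_zero f W t ht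
    obtain ⟨s, hs, he⟩ := phi_gen f j φ₁ hφ₁ W k (x := x) hW
    refine ⟨_, he ▸ cls_of_sect (j ≫ f) (show x ∈ (j ≫ f) ⁻¹ᵁ W from hW) s _ ?_⟩
    rw [hs, hk]
    rfl
  have h12 : ∀ (x : Y') (w : St ((Scheme.Modules.pullback j).obj (Omega.conormal f)) x),
      ∃ c, f.stalkMap (j x) c = 0 ∧ Cls (j ≫ f) x ((DerSch.stalkFunctor Y' x).map φ₁ w) c := by
    intro x w
    obtain ⟨m, hm⟩ := ConormalExact.exists_unit j x (j.stalkMap_surjective x) _ w
    obtain ⟨U, hx, t, rfl⟩ := exists_conormalSect f (j x) m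
    have hw : w = gm _ (show x ∈ j ⁻¹ᵁ (f ⁻¹ᵁ U) from hx)
        (OmegaSh.pullSect j (Omega.conormal f) (f ⁻¹ᵁ U) (OmegaSh.conormalSect f U t)) :=
      (ConcreteCategory.bijective_of_isIso ((KFlatLib.stalkPullbackIso j x).app _).hom).1
        (hm.trans (stalkPullbackIso_gm j _ x (show x ∈ j ⁻¹ᵁ (f ⁻¹ᵁ U) from hx) _).symm)
    obtain ⟨s, hs, he⟩ := phi_gen f j φ₁ hφ₁ U t (x := x) hx
    refine ⟨X.presheaf.germ U (f (j x)) hx (OmegaSh.idealSect f.ker U t), ?_, ?_⟩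
    · rw [Scheme.Hom.germ_stalkMap_apply, OmegaUniv.app_idealSect, map_zero]
    · rw [hw, he]
      exact cls_of_sect (j ≫ f) (show x ∈ (j ≫ f) ⁻¹ᵁ U from hx) s _ (by rw [hs]; rfl)
  have hlift : ∀ (x : Y') (a : Y.presheaf.stalk (j x)), j.stalkMap x a = 0 →
      ∃ b, (j ≫ f).stalkMap x b = 0 ∧ f.stalkMap (j x) b = a := by
    intro x a ha
    obtain ⟨b, rfl⟩ := f.stalkMap_surjective (j x) a
    exact ⟨b, by rw [Scheme.Hom.stalkMap_comp]; exact ha, rfl⟩
  have hw0 : φ₁ ≫ (ε ≫ φ₂) = 0 := by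
    refine ConormalExact.hom_ext_stalk _ _ fun x w => ?_
    rw [Functor.map_zero, Functor.map_comp, ModuleCat.comp_apply]
    obtain ⟨c, hc0, hc⟩ := h12 x w
    have h := h2 x _ c hc
    rw [hc0] at h
    exact cls_eq_zero j h (zero_mem _)
  refine ⟨?_, ?_⟩
  · rw [epi_iff_stalk]
    intro x z
    obtain ⟨a, hza⟩ := cls_exists j x z
    obtain ⟨b, hb0, hb⟩ := hlift x a (cls_mem j hza)
    obtain ⟨z', hz'⟩ := cls_exists_of_mem (j ≫ f) x hb0
    refine ⟨(DerSch.stalkFunctor Y' x).map ε z', ?_⟩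
    have h := h2 x z' b hz'
    rw [Functor.map_comp, ModuleCat.comp_apply, hb] at h
    exact cls_inj j h hza
  · refine (ShortComplex.mk φ₁ (ε ≫ φ₂) hw0).exact_iff_image_eq_kernel.mp ?_
    rw [Groth.Agent.KFlatLib.exact_iff_stalk]
    intro x
    rw [ShortComplex.moduleCat_exact_iff]
    intro z hz
    obtain ⟨b, hzb⟩ := cls_exists (j ≫ f) x z
    have h := h2 x z b hzb
    have hz' : (DerSch.stalkFunctor Y' x).map (ε ≫ φ₂) z = 0 := hz
    rw [hz'] at h
    have hsq := cls_zero_mem_sq j (j.stalkMap_surjective x) h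
    have hmap : RingHom.ker (j.stalkMap x).hom = (RingHom.ker ((j ≫ f).stalkMap x).hom).map (f.stalkMap (j x)).hom := by
      rw [Scheme.Hom.stalkMap_comp, CommRingCat.hom_comp, ← RingHom.comap_ker]
      exact (Ideal.map_comap_of_surjective _ (f.stalkMap_surjective (j x)) _).symm
    rw [hmap, ← Ideal.map_pow] at hsq
    obtain ⟨c, hc, hcb⟩ := (Ideal.mem_map_iff_of_surjective _ (f.stalkMap_surjective (j x))).mp hsq
    let b' : X.presheaf.stalk (f (j x)) := b
    let c' : X.presheaf.stalk (f (j x)) := c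
    obtain ⟨w, hw⟩ := h1 x (b' - c') (by rw [map_sub, sub_eq_zero]; exact hcb.symm)
    obtain ⟨zc, hzc⟩ := cls_exists_of_mem (j ≫ f) x (RingHom.mem_ker.mp (Ideal.pow_le_self two_ne_zero hc))
    have hzc0 : zc = 0 := cls_eq_zero (j ≫ f) hzc hc
    refine ⟨w, cls_inj (j ≫ f) hw ?_⟩
    subst hzc0
    exact cls_sub_zero (j ≫ f) hzb hzc

end Groth.Agent.S5974
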