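import Groth.Statements.S8679
import Groth.Agent.S5974
import Groth.Agent.KRegLib.Kinds
import Groth.Agent.RegImmLib.FlatKinds
import Groth.Agent.RegNear.Basic
import Mathlib
-- import your own Groth.Agent.* helpers here

set_option autoImplicit false
universe u
open CategoryTheory CategoryTheory.Limits AlgebraicGeometry
open RegImm
set_option backward.isDefEq.respectTransparency false
set_option backward.isDefEq.respectTransparency.types false
set_option linter.style.haveILetI false
set_option maxHeartbeats 1000000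

namespace Groth.Agent.S8679

open Groth.Agent.Synt29 Groth.Agent.Synt29.OmegaStalk Groth.Agent.Synt29.ConormalStalk
open Groth.Agent.S5974 (Cls cls_of_sect cls_exists cls_sect cls_mem cls_exists_of_mem cls_inj cls_zero_mem_sq phi_gen)

/-- Elements of the smaller ideal lying in the square of the bigger one, when the quotient is generated by an
`H_1`-regular sequence. -/
theorem mem_mul_of_mem_sq {A B : Type u} [CommRing A] [CommRing B] (π : A →+* B) (hπ : Function.Surjective π)
    {n : ℕ} (b : Fin n → B) (hb : CAlgX.IsH1Regular b) (K : Ideal A) (hK : K = (Ideal.span (Set.range b)).comap π)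
    {a : A} (ha : a ∈ RingHom.ker π) (ha2 : a ∈ K ^ 2) : a ∈ K * RingHom.ker π := by
  classical
  choose g hg using fun k => hπ (b k)
  let G : Ideal A := Ideal.span (Set.range g)
  have hKI : K = RingHom.ker π ⊔ G := by
    have hG : G.map π = Ideal.span (Set.range b) := by
      rw [Ideal.map_span, ← Set.range_comp, show (⇑π ∘ g) = b from funext hg]
    rw [hK, ← hG, Ideal.comap_map_of_surjective' π hπ, sup_comm]
  have hgK : ∀ k, g k ∈ K := fun k => hKI ▸ Ideal.mem_sup_right (Ideal.subset_span ⟨k, rfl⟩)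
  rw [sq] at ha2
  nth_rw 2 [hKI] at ha2
  rw [Ideal.mul_sup] at ha2
  obtain ⟨u, hu, v, hv, rfl⟩ := Submodule.mem_sup.1 ha2
  refine add_mem hu ?_
  have hv0 : π v = 0 := by
    have h1 : π u = 0 := RingHom.mem_ker.1 (Ideal.mul_le_right hu)
    have h2 := RingHom.mem_ker.1 ha
    rwa [map_add, h1, zero_add] at h2
  obtain ⟨c, hc⟩ : ∃ c : Fin n → K, ∑ k, (c k : A) * g k = v := by
    refine Submodule.mul_induction_on hv (fun m hm t ht => ?_) fun x y hx hy => ?_
    · obtain ⟨d, rfl⟩ := (Submodule.mem_span_range_iff_exists_fun A).1 ht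
      refine ⟨fun k => ⟨m * d k, K.mul_mem_right _ hm⟩, ?_⟩
      rw [Finset.mul_sum]
      exact Finset.sum_congr rfl fun k _ => by rw [smul_eq_mul, mul_assoc]
    · obtain ⟨c, rfl⟩ := hx
      obtain ⟨c', rfl⟩ := hy
      exact ⟨c + c', by simp [add_mul, Finset.sum_add_distrib]⟩
  have hrel : ∑ k, π (c k : A) * b k = 0 := by
    rw [← hv0, ← hc, map_sum]
    exact Finset.sum_congr rfl fun k _ => by rw [map_mul, hg]
  have hmem := hb _ hrel
  have key : ∀ w ∈ Submodule.span B {v : Fin n → B | ∃ i j : Fin n, v = Pi.single i (b j) - Pi.single j (b i)},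
      ∃ T : Fin n → A, (∀ k, π (T k) = w k) ∧ (∀ k, T k ∈ K) ∧ ∑ k, T k * g k = 0 := fun w hw => by
    refine Submodule.span_induction (p := fun w _ => ∃ T : Fin n → A,
      (∀ k, π (T k) = w k) ∧ (∀ k, T k ∈ K) ∧ ∑ k, T k * g k = 0) ?_ ?_ ?_ ?_ hw
    · rintro _ ⟨i, j, rfl⟩
      refine ⟨Pi.single i (g j) - Pi.single j (g i), fun k => ?_, fun k => ?_, ?_⟩
      · simp [Pi.single_apply, apply_ite π, hg]
      · simp only [Pi.sub_apply, Pi.single_apply]
        exact sub_mem (by split_ifs; exacts [hgK j, zero_mem _]) (by split_ifs; exacts [hgK i, zero_mem _])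
      · simp only [Pi.sub_apply, sub_mul, Finset.sum_sub_distrib]
        rw [Finset.sum_eq_single i (by simp +contextual) (by simp),
          Finset.sum_eq_single j (by simp +contextual) (by simp), Pi.single_eq_same, Pi.single_eq_same,
          mul_comm, sub_self]
    · exact ⟨0, fun k => map_zero π, fun k => zero_mem _, by simp⟩
    · rintro w w' - - ⟨T, h1, h2, h3⟩ ⟨T', h1', h2', h3'⟩
      exact ⟨T + T', fun k => by simp [h1, h1'], fun k => add_mem (h2 k) (h2' k),
        by simp [add_mul, Finset.sum_add_distrib, h3, h3']⟩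
    · rintro s w - ⟨T, h1, h2, h3⟩
      obtain ⟨r, rfl⟩ := hπ s
      exact ⟨r • T, fun k => by simp [h1], fun k => K.mul_mem_left r (h2 k),
        by simp [mul_assoc, ← Finset.mul_sum, h3]⟩
  obtain ⟨T, hT, -, hT0⟩ := key _ hmem
  have : v = ∑ k, g k * ((c k : A) - T k) := by
    simp only [mul_sub, Finset.sum_sub_distrib]
    rw [← hc]
    simp only [mul_comm (g _)]
    rw [hT0, sub_zero]
  rw [this]
  exact Ideal.sum_mem _ fun k _ => Ideal.mul_mem_mul (hgK k) (by rw [RingHom.mem_ker, map_sub, hT, sub_self])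


/-- Let i : Y ⟶ X and j : Z ⟶ Y be Koszul-regular closed immersions and let φ₁ : j^* N_{Y/X} ⟶ N_{Z/X},
φ₂ : N_{Z/X} ⟶ N_{Z/Y} be the canonical maps between conormal sheaves (pinned by their values on
classes of local sections of the ideals). Then the composite is zero and 0 → j^* N_{Y/X} → N_{Z/X} →
N_{Z/Y} → 0 is short exact. (The published statement allows arbitrary immersions; this row takes
closed immersions.) -/
theorem result {X Y Z : Scheme.{u}}
    (i : Y ⟶ X) [IsClosedImmersion i] (j : Z ⟶ Y) [IsClosedImmersion j]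
    (hi : RegImm.IsRegularImmersion .koszul i) (hj : RegImm.IsRegularImmersion .koszul j)
    (φ₁ : (Scheme.Modules.pullback j).obj (Omega.conormal i) ⟶ Omega.conormal (j ≫ i))
    (hφ₁ : OmegaSh.IsConormalMap (j ≫ i) i (𝟙 X) j φ₁)
    (φ₂ : (Scheme.Modules.pullback (𝟙 Z)).obj (Omega.conormal (j ≫ i)) ⟶ Omega.conormal j)
    (hφ₂ : OmegaSh.IsConormalMap j (j ≫ i) i (𝟙 Z) φ₂) :
    ∃ w : φ₁ ≫ ((Scheme.Modules.pullbackId Z).inv.app (Omega.conormal (j ≫ i)) ≫ φ₂) = 0,
      (ShortComplex.mk φ₁ ((Scheme.Modules.pullbackId Z).inv.app (Omega.conormal (j ≫ i)) ≫ φ₂) w).ShortExact := by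
  classical
  obtain ⟨hepi, him⟩ := S5974.result i j φ₁ hφ₁ φ₂ hφ₂
  have hw : φ₁ ≫ ((Scheme.Modules.pullbackId Z).inv.app (Omega.conormal (j ≫ i)) ≫ φ₂) = 0 := by
    rw [← imageSubobject_arrow_comp φ₁, Category.assoc]
    have h0 : (imageSubobject φ₁).arrow ≫
        ((Scheme.Modules.pullbackId Z).inv.app (Omega.conormal (j ≫ i)) ≫ φ₂) = 0 := by
      rw [him]
      exact kernelSubobject_arrow_comp _
    rw [h0, comp_zero]
  haveI : Mono φ₁ := by
    rw [mono_iff_stalk]
    intro z
    refine (injective_iff_map_eq_zero _).mpr fun w hw0 => ?_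
    obtain ⟨m, hm⟩ := ConormalExact.exists_unit j z (j.stalkMap_surjective z) _ w
    obtain ⟨U, hx, t, rfl⟩ := exists_conormalSect i (j z) m
    have hw' : w = gm _ (show z ∈ j ⁻¹ᵁ (i ⁻¹ᵁ U) from hx)
        (OmegaSh.pullSect j (Omega.conormal i) (i ⁻¹ᵁ U) (OmegaSh.conormalSect i U t)) :=
      (ConcreteCategory.bijective_of_isIso ((KFlatLib.stalkPullbackIso j z).app _).hom).1
        (hm.trans (stalkPullbackIso_gm j _ z (show z ∈ j ⁻¹ᵁ (i ⁻¹ᵁ U) from hx) _).symm)
    obtain ⟨s, hs, he⟩ := phi_gen i j φ₁ hφ₁ U t (x := z) hx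
    let a : X.presheaf.stalk (i (j z)) := X.presheaf.germ U (i (j z)) hx (OmegaSh.idealSect i.ker U t)
    have hza : Cls i (j z) (gm _ hx (OmegaSh.conormalSect i U t)) a := cls_of_sect i hx t a rfl
    have hsq : a ∈ RingHom.ker ((j ≫ i).stalkMap z).hom ^ 2 := by
      refine cls_zero_mem_sq (j ≫ i) ((j ≫ i).stalkMap_surjective z) ?_
      rw [← hw0, hw', he]
      exact cls_of_sect (j ≫ i) (show z ∈ (j ≫ i) ⁻¹ᵁ U from hx) s _ (by rw [hs]; rfl)
    -- the equations of `Z` in `Y` near `z`
    obtain ⟨V, hzV, -, rs, hrs, hker⟩ := hj.2 z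
    letI : Algebra Γ(Y, V.1) (Y.presheaf.stalk (j z)) := Y.presheaf.algebra_section_stalk ⟨j z, hzV⟩
    haveI := V.2.isLocalization_stalk ⟨j z, hzV⟩
    haveI : Module.Flat Γ(Y, V.1) (Y.presheaf.stalk (j z)) :=
      IsLocalization.flat _ (V.2.primeIdealOf ⟨j z, hzV⟩).asIdeal.primeCompl
    let b : Fin rs.length → Y.presheaf.stalk (j z) := fun k => algebraMap Γ(Y, V.1) _ (rs.get k)
    have hb : CAlgX.IsH1Regular b :=
      RegImmLib.isH1Regular_flat_map _ (KRegLib.h1_of_koszul rs hrs)
    have hspan : RingHom.ker (j.stalkMap z).hom = Ideal.span (Set.range b) := by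
      rw [RegNear.ker_stalkMap j z V.2 hzV, hker, Ideal.map_ofList]
      refine congrArg Ideal.span (Set.ext fun y => ?_)
      refine List.mem_map.trans ⟨?_, ?_⟩
      · rintro ⟨r, hr, rfl⟩
        obtain ⟨k, rfl⟩ := List.mem_iff_get.1 hr
        exact ⟨k, rfl⟩
      · rintro ⟨k, rfl⟩
        exact ⟨_, rs.get_mem k, rfl⟩
    have hK : RingHom.ker ((j ≫ i).stalkMap z).hom = (Ideal.span (Set.range b)).comap (i.stalkMap (j z)).hom := by
      rw [← hspan, Scheme.Hom.stalkMap_comp, CommRingCat.hom_comp, ← RingHom.comap_ker]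
    have hmul := mem_mul_of_mem_sq (i.stalkMap (j z)).hom (i.stalkMap_surjective (j z)) b hb _ hK
      (a := a) (RingHom.mem_ker.2 (cls_mem i hza)) hsq
    -- the class of `a` dies after pullback
    let un : St (Omega.conormal i) (j z) →
        (ModuleCat.extendScalars (j.stalkMap z).hom).obj (St (Omega.conormal i) (j z)) := fun v =>
      ((ModuleCat.extendRestrictScalarsAdj (j.stalkMap z).hom).unit.app (St (Omega.conormal i) (j z))).hom v
    let Kj : Ideal (X.presheaf.stalk (i (j z))) := RingHom.ker ((j ≫ i).stalkMap z).hom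
    suffices h : ∀ c ∈ Kj * RingHom.ker (i.stalkMap (j z)).hom,
        ∃ v, Cls i (j z) v c ∧ un v = 0 by
      obtain ⟨v, hv, hv0⟩ := h a hmul
      rw [cls_inj i hza hv] at hm
      exact (ConcreteCategory.bijective_of_isIso ((KFlatLib.stalkPullbackIso j z).app _).hom).1
        ((hm.trans hv0).trans (map_zero _).symm)
    intro c hc
    refine Submodule.mul_induction_on hc (fun k hk e he' => ?_) fun x y hx hy => ?_
    · obtain ⟨v, m, hm', hv⟩ := cls_exists_of_mem i (j z) (RingHom.mem_ker.1 he')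
      refine ⟨i.stalkMap (j z) k • v, ⟨k • m, rep_smul i hm' k, ?_⟩, ?_⟩
      · rw [map_smul, hv, unit1_smul]
      · refine (map_smul ((ModuleCat.extendRestrictScalarsAdj (j.stalkMap z).hom).unit.app
          (St (Omega.conormal i) (j z))).hom (i.stalkMap (j z) k) v).trans ?_
        have hk0 : j.stalkMap z (i.stalkMap (j z) k) = 0 := by
          have := RingHom.mem_ker.1 hk
          rwa [Scheme.Hom.stalkMap_comp] at this
        show j.stalkMap z (i.stalkMap (j z) k) • un v = 0
        rw [hk0, zero_smul]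
    · obtain ⟨v, ⟨m, hm₁, hv⟩, hv0⟩ := hx
      obtain ⟨v', ⟨m', hm₂, hv'⟩, hv0'⟩ := hy
      refine ⟨v + v', ⟨m + m', rep_add i hm₁ hm₂, ?_⟩, ?_⟩
      · rw [map_add, hv, hv']
        exact (map_add _ m m').symm
      · exact (map_add _ v v').trans ((congrArg₂ (· + ·) hv0 hv0').trans (add_zero _))
  haveI : Epi ((Scheme.Modules.pullbackId Z).inv.app (Omega.conormal (j ≫ i)) ≫ φ₂) := by
    haveI := hepi
    infer_instance
  refine ⟨hw, ?_⟩
  exact { exact := (ShortComplex.mk φ₁ _ hw).exact_iff_image_eq_kernel.mpr him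
          mono_f := ‹Mono φ₁›
          epi_g := ‹_› }

end Groth.Agent.S8679
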