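import Groth.Statements.S9273
import Mathlib.RingTheory.Flat.Equalizer
import Mathlib.LinearAlgebra.TensorProduct.Pi

set_option autoImplicit false
universe u
open CAlgX

namespace Groth.Agent.S9273

/-- Let A → B and A → A' be ring maps and B' = A' ⊗_A B. If f_1, ..., f_r is an H_1-regular sequence in
B with B/(f_1, ..., f_r) flat over A, then the images of the f_i in B' form an H_1-regular sequence. -/
theorem result (A B A' : Type u) [CommRing A] [CommRing B]
    [CommRing A'] [Algebra A B] [Algebra A A'] (r : ℕ) (f : Fin r → B)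
    (hflat : Module.Flat A (B ⧸ Ideal.span (Set.range f))) (hq : CAlgX.IsH1Regular f) :
    CAlgX.IsH1Regular (fun i => ((1 : A') ⊗ₜ[A] f i : TensorProduct A A' B)) := by
  classical
  intro a ha
  let T : Submodule B (Fin r → B) :=
    Submodule.span B {v : Fin r → B | ∃ i j : Fin r, v = Pi.single i (f j) - Pi.single j (f i)}
  let L : (Fin r → B) →ₗ[B] B := Fintype.linearCombination B f
  have hL : ∀ v, L v = ∑ i, v i * f i := fun v => by simp [L, Fintype.linearCombination_apply]
  have hrange : LinearMap.range L = Ideal.span (Set.range f) := Fintype.range_linearCombination B f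
  let LA : (Fin r → B) →ₗ[A] B := L.restrictScalars A
  let TA : T →ₗ[A] (Fin r → B) := T.subtype.restrictScalars A
  let J : Submodule A B := (Ideal.span (Set.range f)).restrictScalars A
  let L' : (Fin r → B) →ₗ[A] J := LA.codRestrict J fun v => by
    show L v ∈ Ideal.span (Set.range f)
    rw [← hrange]; exact LinearMap.mem_range_self L v
  have hL's : Function.Surjective L' := by
    intro ⟨y, hy⟩
    change y ∈ Ideal.span (Set.range f) at hy
    rw [← hrange] at hy
    obtain ⟨v, hv⟩ := hy
    exact ⟨v, Subtype.ext hv⟩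
  have hex : Function.Exact TA L' := by
    intro v
    refine ⟨fun h => ?_, ?_⟩
    · have h1 : L v = 0 := congrArg Subtype.val h
      rw [hL] at h1
      exact ⟨⟨v, hq v h1⟩, rfl⟩
    · rintro ⟨⟨w, hw⟩, rfl⟩
      apply Subtype.ext
      show L w = 0
      rw [← LinearMap.mem_ker]
      refine Submodule.span_le.2 ?_ hw
      rintro _ ⟨i, j, rfl⟩
      simp only [SetLike.mem_coe, LinearMap.mem_ker, map_sub]
      simp [L, Fintype.linearCombination_apply_single, mul_comm]
  let q : B →ₗ[A] B ⧸ Ideal.span (Set.range f) := (Ideal.Quotient.mkₐ A (Ideal.span (Set.range f))).toLinearMap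
  have hJex : Function.Exact J.subtype q := by
    intro y
    show Ideal.Quotient.mk _ y = 0 ↔ _
    rw [Ideal.Quotient.eq_zero_iff_mem]
    exact ⟨fun h => ⟨⟨y, h⟩, rfl⟩, by rintro ⟨z, rfl⟩; exact z.2⟩
  have hinj : Function.Injective (J.subtype.lTensor A') :=
    LinearMap.lTensor_injective_of_exact_of_flat q Ideal.Quotient.mk_surjective _ Subtype.val_injective hJex A'
  let e := TensorProduct.piRight A A A' (fun _ : Fin r => B)
  obtain ⟨z, rfl⟩ := e.surjective a
  have e1 : ∀ w : TensorProduct A A' (Fin r → B),
      LA.lTensor A' w = ∑ i, e w i * ((1 : A') ⊗ₜ[A] f i) := by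
    intro w
    induction w using TensorProduct.induction_on with
    | zero => simp
    | tmul c v => simp [e, LA, hL, TensorProduct.tmul_sum]
    | add x y hx hy => simp only [map_add, hx, hy, Pi.add_apply, add_mul, Finset.sum_add_distrib]
  have hz : LA.lTensor A' z = 0 := (e1 z).trans ha
  have hz' : L'.lTensor A' z = 0 := by
    apply hinj
    rw [map_zero, ← LinearMap.comp_apply, ← LinearMap.lTensor_comp]
    exact hz
  obtain ⟨t, rfl⟩ := (lTensor_exact A' hex hL's z).1 hz'
  clear hz hz' ha
  induction t using TensorProduct.induction_on with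
  | zero => rw [map_zero, map_zero]; exact zero_mem _
  | add x y hx hy => rw [map_add, map_add]; exact add_mem hx hy
  | tmul c w =>
    obtain ⟨w, hw⟩ := w
    have : e (TA.lTensor A' (c ⊗ₜ[A] ⟨w, hw⟩)) = fun i => (c ⊗ₜ[A] (1 : B)) * ((1 : A') ⊗ₜ[A] w i) := by
      funext i; simp [e, TA]
    rw [this]
    clear this
    induction hw using Submodule.span_induction with
    | mem v hv =>
      obtain ⟨i, j, rfl⟩ := hv
      have : (fun k => (c ⊗ₜ[A] (1 : B)) * ((1 : A') ⊗ₜ[A] (Pi.single i (f j) - Pi.single j (f i) : Fin r → B) k)) =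
          (c ⊗ₜ[A] (1 : B)) • (Pi.single i ((1 : A') ⊗ₜ[A] f j) - Pi.single j ((1 : A') ⊗ₜ[A] f i) :
            Fin r → TensorProduct A A' B) := by
        funext k
        simp only [Pi.smul_apply, Pi.sub_apply, smul_eq_mul, TensorProduct.tmul_sub]
        congr 2 <;> (simp only [Pi.single_apply]; split <;> simp)
      rw [this]
      exact Submodule.smul_mem _ _ (Submodule.subset_span ⟨i, j, rfl⟩)
    | zero =>
      convert Submodule.zero_mem _ using 1
      funext i; simp
    | add x y _ _ hx hy =>
      convert add_mem hx hy using 1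
      funext i; simp [TensorProduct.tmul_add, mul_add]
    | smul s x _ hx =>
      convert Submodule.smul_mem _ ((1 : A') ⊗ₜ[A] s) hx using 1
      funext i
      simp [mul_comm]

end Groth.Agent.S9273
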