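import Groth.Statements.S9350
import Groth.Agent.QCoh.PullStalk

set_option autoImplicit false
set_option backward.isDefEq.respectTransparency false
set_option backward.isDefEq.respectTransparency.types false
universe u
open FlatMod

namespace Groth.Agent.S9350

open AlgebraicGeometry CategoryTheory in
/-- Let h : X → Y be a morphism of S-schemes, q : Y → S, G a quasi-coherent O_Y-module and x ∈ X with h
flat at x. Flatness of G over S at h x is equivalent to flatness of h^*G over S at x. -/
theorem result {X Y S : Scheme.{u}} (h : X ⟶ Y) (q : Y ⟶ S)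
    (G : Y.Modules) (hG : Coh.IsQCoh G) (x : X) (hflat : (h.stalkMap x).hom.Flat) :
    FlatMod.IsFlatOverAt q G (h.base x) ↔ FlatMod.IsFlatOverAt (h ≫ q) ((Scheme.Modules.pullback h).obj G) x := by
  let y := h.base x
  let A := S.presheaf.stalk (q.base y)
  let K := Y.presheaf.stalk y
  let L := X.presheaf.stalk x
  let N := (Scheme.Modules.pullback h).obj G
  letI aKL : Algebra K L := (h.stalkMap x).hom.toAlgebra
  haveI : IsLocalHom (algebraMap K L) := inferInstanceAs (IsLocalHom (h.stalkMap x).hom)
  haveI : Module.Flat K L := hflat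
  haveI : Module.FaithfullyFlat K L := Module.FaithfullyFlat.of_flat_of_isLocalHom
  letI aAK : Algebra A K := (q.stalkMap y).hom.toAlgebra
  letI aAL : Algebra A L := ((h ≫ q).stalkMap x).hom.toAlgebra
  haveI : IsScalarTower A K L := IsScalarTower.of_algebraMap_eq fun a => by
    show (h ≫ q).stalkMap x a = h.stalkMap x (q.stalkMap y a)
    rw [Scheme.Hom.stalkMap_comp]
    rfl
  letI mG : Module A (G.presheaf.stalk y) := FlatMod.moduleStalkOver q G y
  haveI : IsScalarTower A K (G.presheaf.stalk y) := IsScalarTower.of_algebraMap_smul fun _ _ => rfl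
  letI mN : Module A (N.presheaf.stalk x) := FlatMod.moduleStalkOver (h ≫ q) N x
  haveI : IsScalarTower A L (N.presheaf.stalk x) := IsScalarTower.of_algebraMap_smul fun _ _ => rfl
  obtain ⟨e⟩ := QCoh.nonempty_pullStalkEquiv h hG x
  show Module.Flat A (G.presheaf.stalk y) ↔ Module.Flat A (N.presheaf.stalk x)
  rw [← QCoh.flat_tensor_faithfullyFlat_iff (A := A) (K := K) (L := L) (N := G.presheaf.stalk y)]
  exact ⟨fun _ => Module.Flat.of_linearEquiv (e.restrictScalars A), fun _ => Module.Flat.of_linearEquiv (e.restrictScalars A).symm⟩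

end Groth.Agent.S9350
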