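import Groth.Statements.S9374
import Groth.Agent.H1CMDim.Nhd
set_option backward.isDefEq.respectTransparency false
set_option backward.isDefEq.respectTransparency.types false
set_option maxHeartbeats 1000000

set_option autoImplicit false
universe u
open FibDim

namespace Groth.Agent.S9374

open AlgebraicGeometry CategoryTheory in
/-- Let f : X → S be flat, locally of finite presentation, with Cohen–Macaulay fibres. Then x ↦
dim_x(X_{f x}) is locally constant on X. (The published statement also decomposes X into the open
and closed pieces X_d = {dim_x(X_{f x}) = d} and says f has relative dimension d on X_d; this row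
asserts only the local constancy.) -/
theorem result {X S : Scheme.{u}} (f : X ⟶ S) [Flat f]
    [LocallyOfFinitePresentation f] (hcm : ∀ x : X, MoreMor.IsCMAt f x) :
    IsLocallyConstant (fun x : ↑X => FlatMor.fibreDimAt f x) := by
  rw [IsLocallyConstant.iff_exists_open]
  intro x
  obtain ⟨e, U, hxU, -, hrd⟩ := H1CMDim.exists_nhd_rd f x (hcm x)
  have key : ∀ z ∈ U, FlatMor.fibreDimAt f z = ((e : ℕ∞) : WithBot ℕ∞) := fun z hz => by
    obtain ⟨w, hwz, -, hmax, he⟩ := FibDim.exists_fibMax_generization f z
    rw [he, hrd w (hwz.mem_open U.isOpen hz) hmax]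
  exact ⟨U, U.isOpen, hxU, fun z hz => (key z hz).trans (key x hxU).symm⟩

end Groth.Agent.S9374
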