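import Groth.Statements.S14108
import Groth.Agent.Triage.CMMor
import Mathlib.AlgebraicGeometry.Morphisms.Flat

set_option autoImplicit false
set_option backward.isDefEq.respectTransparency false
universe u
open CategoryTheory CategoryTheory.Limits AlgebraicGeometry Opposite TopologicalSpace
open CInt

namespace Groth.Agent.S14108

open IsLocalRing TensorProduct in
/-- For a flat local homomorphism with Cohen-Macaulay closed fibre, the dimension of the fibre is at most
the depth of the source. -/
theorem ringKrullDim_fibre_le_depth (A B : Type u) [CommRing A] [CommRing B] [IsNoetherianRing A]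
    [IsNoetherianRing B] [IsLocalRing A] [IsLocalRing B] [Algebra A B] [IsLocalHom (algebraMap A B)]
    [Module.Flat A B] (h : LocCoh.IsCohenMacaulayLocalRing (B ⧸ (maximalIdeal A).map (algebraMap A B))) :
    ringKrullDim (B ⧸ (maximalIdeal A).map (algebraMap A B)) ≤ ((LocCoh.depth B B : ℕ∞) : WithBot ℕ∞) := by
  have h1 := FlatLoc6.depth_tensor (A := A) (B := B) (N := B) A
  rw [Hensel.depth_congr (AlgebraTensorModule.rid A B B)] at h1
  have heq : (EGA4.mB A B • ⊤ : Submodule B B) = EGA4.mB A B := by
    rw [Ideal.smul_eq_mul, Ideal.mul_top]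
  let e : EGA4.FibMod A B B ≃ₗ[EGA4.FibRing A B] EGA4.FibRing A B :=
    (Submodule.quotEquivOfEq _ _ heq).extendScalarsOfSurjective Ideal.Quotient.mk_surjective
  rw [Hensel.depth_congr e] at h1
  have h2 := h.supportDim_eq_depth
  rw [Module.supportDim_self_eq_ringKrullDim] at h2
  rw [h2]
  refine WithBot.coe_le_coe.2 ?_
  rw [h1]
  exact le_add_self

/-- Let f : X → S be a Cohen–Macaulay morphism of locally Noetherian schemes (flat, every local ring of
every fibre Cohen–Macaulay) and Y a closed subset of X whose codimension relative to f (the infimum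
over y ∈ Y of the Krull dimension of the local ring at y of the fibre of f through y) equals its
codimension in X (the infimum over y ∈ Y of the Krull dimension of O_{X,y}). Then the depth of O_X
along Y, the infimum over y ∈ Y of the depth of O_{X,y}, equals the codimension of Y in X. -/
theorem result {X S : Scheme.{u}} [IsLocallyNoetherian X]
    [IsLocallyNoetherian S] (f : X ⟶ S) [Flat f]
    (hCM : ∀ x : ↥X, LocCoh.IsCohenMacaulayLocalRing ↑(CInt.fiberStalk f x))
    (Y : Set ↥X) (hY : IsClosed Y)
    (hcodim : (⨅ y : Y, ringKrullDim ↑(CInt.fiberStalk f y.1)) = ⨅ y : Y, ringKrullDim ↑(X.presheaf.stalk y.1)) :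
    (⨅ y : Y, ((LocCoh.depth ↑(X.presheaf.stalk y.1) ↑(X.presheaf.stalk y.1) : ℕ∞) : WithBot ℕ∞)) =
      ⨅ y : Y, ringKrullDim ↑(X.presheaf.stalk y.1) := by
  refine le_antisymm (iInf_mono fun y => ?_) ?_
  · exact (LC.depth_le_supportDim (R := X.presheaf.stalk y.1) (X.presheaf.stalk y.1)).trans_eq
      (Module.supportDim_self_eq_ringKrullDim _)
  · refine hcodim.symm.trans_le (iInf_mono fun y => ?_)
    obtain ⟨e⟩ := Triage.CMMor.exists_equiv_fibre_stalk f y.1
    refine (ringKrullDim_eq_of_ringEquiv e.symm).trans_le ?_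
    letI : Algebra (S.presheaf.stalk (f y.1)) (X.presheaf.stalk y.1) := (f.stalkMap y.1).hom.toAlgebra
    haveI : Module.Flat (S.presheaf.stalk (f y.1)) (X.presheaf.stalk y.1) := Flat.stalkMap f y.1
    haveI : IsLocalHom (algebraMap (S.presheaf.stalk (f y.1)) (X.presheaf.stalk y.1)) :=
      inferInstanceAs (IsLocalHom (f.stalkMap y.1).hom)
    exact ringKrullDim_fibre_le_depth _ _ (Triage.CMMor.isCM_of_equiv e.symm (hCM y.1))

end Groth.Agent.S14108
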