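import Groth.Statements.S14104
import Groth.Agent.S14108

set_option autoImplicit false
set_option backward.isDefEq.respectTransparency false
set_option backward.isDefEq.respectTransparency.types false
universe u
open CategoryTheory CategoryTheory.Limits AlgebraicGeometry Opposite TopologicalSpace
open CInt

namespace Groth.Agent.S14104

/-- Let f : X → S be a flat morphism of locally Noetherian schemes, Y a closed subset of X and d a
natural number. If for every point y of Y the local ring at y of the fibre of f through y has depth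
at least d (the depth of O_{X_s} along Y_s is at least d for every s), then for every y ∈ Y the
local ring O_{X,y} has depth at least d (the depth of O_X along Y is at least d). -/
theorem result {X S : Scheme.{u}} [IsLocallyNoetherian X] [IsLocallyNoetherian S]
    (f : X ⟶ S) [Flat f] (Y : Set ↥X) (hY : IsClosed Y) (d : ℕ)
    (h : ∀ y : ↥X, y ∈ Y → (d : ℕ∞) ≤ LocCoh.depth ↑(CInt.fiberStalk f y) ↑(CInt.fiberStalk f y)) :
    ∀ y : ↥X, y ∈ Y → (d : ℕ∞) ≤ LocCoh.depth ↑(X.presheaf.stalk y) ↑(X.presheaf.stalk y) := by
  intro y hy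
  obtain ⟨e⟩ := Groth.Agent.Triage.CMMor.exists_equiv_fibre_stalk f y
  letI : Algebra (S.presheaf.stalk (f y)) (X.presheaf.stalk y) := (f.stalkMap y).hom.toAlgebra
  haveI : Module.Flat (S.presheaf.stalk (f y)) (X.presheaf.stalk y) := Flat.stalkMap f y
  haveI : IsLocalHom (algebraMap (S.presheaf.stalk (f y)) (X.presheaf.stalk y)) :=
    inferInstanceAs (IsLocalHom (f.stalkMap y).hom)
  let A := S.presheaf.stalk (f y)
  let B := X.presheaf.stalk y
  have h1 := Groth.Agent.FlatLoc6.depth_tensor (A := A) (B := B) (N := B) A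
  rw [Groth.Agent.Hensel.depth_congr (TensorProduct.AlgebraTensorModule.rid A B B)] at h1
  have heq : (EGA4.mB A B • ⊤ : Submodule B B) = EGA4.mB A B := by
    rw [Ideal.smul_eq_mul, Ideal.mul_top]
  let e' : EGA4.FibMod A B B ≃ₗ[EGA4.FibRing A B] EGA4.FibRing A B :=
    (Submodule.quotEquivOfEq _ _ heq).extendScalarsOfSurjective Ideal.Quotient.mk_surjective
  rw [Groth.Agent.Hensel.depth_congr e'] at h1
  have h2 : LocCoh.depth (EGA4.FibRing A B) (EGA4.FibRing A B) =
      LocCoh.depth ↑(CInt.fiberStalk f y) ↑(CInt.fiberStalk f y) :=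
    Groth.Agent.Alg6.depth_eq_of_semilinear e.toRingHom e.surjective e.toAddEquiv (fun r x => map_mul e r x)
  rw [h1, h2]
  exact (h y hy).trans le_add_self

end Groth.Agent.S14104
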