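import Groth.Statements.S1575
import Groth.Agent.ZClosLib.ClosedDepth

set_option autoImplicit false
set_option backward.isDefEq.respectTransparency false
set_option backward.isDefEq.respectTransparency.types false
universe u
open CategoryTheory CategoryTheory.Limits AlgebraicGeometry
open Divisors

namespace Groth.Agent.S1575

/-- Let X be locally Noetherian, F coherent, and U open such that at every point outside U the stalk of
F has depth at least two over the local ring. Then F → j_*(F|_U) is an isomorphism: for every open
V, restriction of sections Γ(V, F) → Γ(V ∩ U, F) is a bijection. -/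
theorem result (X : Scheme.{u}) [IsLocallyNoetherian X]
    (F : X.Modules) (hF : Coh.IsCoh F) (U : X.Opens)
    (hdepth : ∀ x : X, x ∉ U → 2 ≤ LocCoh.depth (X.presheaf.stalk x) (F.presheaf.stalk x)) (V : X.Opens) :
    Function.Bijective (F.val.presheaf.map (homOfLE (inf_le_left : V ⊓ U ≤ V)).op) := by
  let Z : Set X := (U : Set X)ᶜ
  have hZ : StableUnderSpecialization Z := U.2.isClosed_compl.stableUnderSpecialization
  have hcl : ZClos.IsZClosed Z F := Groth.Agent.ZClosLib.isIso_of_stalkMap_bijective (ZClos.rhoApp Z F) fun x =>
    (Groth.Agent.ZClosLib.isZClosedAt_iff_depth hF hZ x).2 fun x' _ hx' => hdepth x' hx'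
  let T : ZClos.Cl Z := ⟨⟨Z, U.2.isClosed_compl⟩, le_refl _⟩
  haveI := Groth.Agent.ZClosLib.isZClosed_iff_forall_isIso.1 hcl T
  have hb := (Groth.Agent.ZClosLib.unit_app_bijective_iff T.U F V).1
    (Groth.Agent.ZClosLib.app_bijective_of_isIso (ZClos.toDiagram Z F T) V)
  have hTU : T.U = U := TopologicalSpace.Opens.ext (compl_compl _)
  have key : ∀ U' : X.Opens, U' = U →
      Function.Bijective (Groth.Agent.ZClosLib.res F (inf_le_left : V ⊓ U' ≤ V)) →
      Function.Bijective (Groth.Agent.ZClosLib.res F (inf_le_left : V ⊓ U ≤ V)) := by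
    rintro _ rfl h
    exact h
  exact key _ hTU hb

end Groth.Agent.S1575
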