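import Groth.Statements.S1641
import Groth.Agent.IntNum.Points
import Groth.Agent.Lib.CurvePsi
import Groth.Agent.ParShLib.ResStalk
import Groth.Agent.Lib.CurveDeg

set_option autoImplicit false
universe u
open CategoryTheory CategoryTheory.Limits AlgebraicGeometry
open Variety

namespace Groth.Agent.S1641

/-- Let X be proper of dimension at most one over k and E finite locally free of rank n. Then deg E is
the sum, over the irreducible components C of X of dimension one with their reduced induced
structure, of m_C · deg(E|_C), where m_C is the length of the local ring of X at the generic point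
of C. -/
theorem result (k : Type u) [Field k] (X : Scheme.{u}) [X.Over (Spec (CommRingCat.of k))] [IsProper (X ↘ (Spec (CommRingCat.of k)))] [IsNoetherian X] (hdim : topologicalKrullDim X ≤ 1)
    (n : ℕ) (E : X.Modules) (hE : FlatMod.IsFinLocFreeOfRank n E) :
    Curv2.deg k X E n = ∑ᶠ Z : irreducibleComponents (X : Type u),
      (if topologicalKrullDim (Z.1 : Set X) = 1 then
        ((Module.length (X.presheaf.stalk Z.2.1.genericPoint) (X.presheaf.stalk Z.2.1.genericPoint)).toNat : ℤ) *
          @Curv2.deg k _ (X.irreducibleComponentIdeal Z.1 Z.2).radical.subscheme ⟨(X.irreducibleComponentIdeal Z.1 Z.2).radical.subschemeι ≫ (X ↘ (Spec (CommRingCat.of k)))⟩ ((Scheme.Modules.pullback (X.irreducibleComponentIdeal Z.1 Z.2).radical.subschemeι).obj E) n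
      else 0) := by
  classical
  have hcomm : ∀ A : X.Modules, Curv2.euler k X ((DCoh.tensorBi.obj E).obj A) =
      Curv2.euler k X (CohB1.tensorMod A E) := fun A =>
    Groth.Agent.Euler.euler_congr k (Groth.Agent.CurveTensor.commIso E A)
  let ψ := Groth.Agent.CurvePsi.eulerPsi k hE
  have hψ : ∀ A : X.Modules, ψ.toFun A =
      Curv2.euler k X (CohB1.tensorMod A E) - n * Curv2.euler k X A := fun A => by rw [← hcomm]; rfl
  have hO : Coh.IsCoh (Coh.structureModule X) := Groth.Agent.QCoh.isCoh_structureModule'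
  have hd : topologicalKrullDim ↥(CohB1.support (Coh.structureModule X)) ≤ ((1 : ℕ) : WithBot ℕ∞) :=
    le_trans (Groth.Agent.H23.TopDim.dim_le_dim_of_subset (Set.subset_univ _))
      (le_of_eq_of_le (IsHomeomorph.topologicalKrullDim_eq (Homeomorph.Set.univ X) (Homeomorph.Set.univ X).isHomeomorph)
        (by exact_mod_cast hdim))
  obtain ⟨S, hS, h0, hmem⟩ := Groth.Agent.IntNum.leading (⊥ : AddSubgroup ℤ) ψ.toFun 1 ψ.congr
    (fun T hT a b c => ψ.add T.f T.g T.zero hT a b c)
    (fun M hM hlt => AddSubgroup.mem_bot.2 (ψ.zero hM fun x hx => Groth.Agent.IntNum.isClosed_of_dim_lt_one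
      (Groth.Agent.QCoh.isClosed_support_of_isFT hM.1 hM.2) (by exact_mod_cast hlt) hx)) hO hd
  rw [AddSubgroup.mem_bot, sub_eq_zero] at hmem
  have hl : ψ.toFun (Coh.structureModule X) = Curv2.deg k X E n := by
    rw [hψ, Groth.Agent.Euler.euler_congr k (show CohB1.tensorMod (Coh.structureModule X) E ≅ E from
      Groth.Agent.CurveTensor.structureTensorIso E)]
    rfl
  let g : X → ℤ := fun ξ => (Groth.Agent.IntNum.lenAt (Coh.structureModule X) ξ : ℤ) *
    ψ.toFun (ClSub.quotMod (Groth.Agent.IntNum.ptIdeal ξ))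
  have hcomp : ∀ ξ : X, topologicalKrullDim ↥(closure ({ξ} : Set X)) = ((1 : ℕ) : WithBot ℕ∞) →
      closure ({ξ} : Set X) ∈ irreducibleComponents X := fun ξ hξ => by
    refine ⟨isIrreducible_singleton.closure, fun T hT hle => ?_⟩
    obtain ⟨η, hη⟩ := QuasiSober.sober hT.closure isClosed_closure
    have : η = ξ := Groth.Agent.IntNum.eq_of_specializes_topPts isClosed_univ
      (le_of_eq_of_le (IsHomeomorph.topologicalKrullDim_eq (Homeomorph.Set.univ X) (Homeomorph.Set.univ X).isHomeomorph)
        (by exact_mod_cast hdim) : topologicalKrullDim ↥(Set.univ : Set X) ≤ ((1 : ℕ) : WithBot ℕ∞))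
      ⟨trivial, hξ⟩ trivial (hη.specializes (subset_closure (hle (subset_closure rfl))))
    subst this
    exact fun x hx => hη.def.symm ▸ subset_closure hx
  rw [← hl, hmem]
  refine Eq.trans (Eq.trans (Finset.sum_congr rfl fun ξ _ => by rw [nsmul_eq_mul])
    (Groth.Agent.IntNum.finsum_topPts (M := Coh.structureModule X) g hS h0
      fun ξ hξ => by simp only [g, hξ, Nat.cast_zero, zero_mul]).symm) ?_
  rw [Groth.Agent.IntNum.finsum_components _ fun ξ hξ => hcomp ξ (by by_contra h; exact hξ (if_neg h))]
  refine finsum_congr fun Z => ?_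
  have hcl : closure ({Z.2.1.genericPoint} : Set X) = Z.1 :=
    Z.2.1.closure_genericPoint (isClosed_of_mem_irreducibleComponents Z.1 Z.2)
  rw [hcl, Nat.cast_one]
  split_ifs with hc
  · have hI : Groth.Agent.IntNum.ptIdeal Z.2.1.genericPoint = (X.irreducibleComponentIdeal Z.1 Z.2).radical := by
      rw [← Scheme.IdealSheafData.vanishingIdeal_support]
      have hsupp : ((X.irreducibleComponentIdeal Z.1 Z.2).support : Set X) = Z.1 := rfl
      unfold Groth.Agent.IntNum.ptIdeal
      congr 1
      exact TopologicalSpace.Closeds.ext (hcl.trans hsupp.symm)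
    rw [← hI]
    simp only [g]
    rw [hψ]
    letI : (Groth.Agent.IntNum.ptIdeal Z.2.1.genericPoint).subscheme.Over (Spec (CommRingCat.of k)) :=
      ⟨(Groth.Agent.IntNum.ptIdeal Z.2.1.genericPoint).subschemeι ≫ (X ↘ Spec (CommRingCat.of k))⟩
    rw [Groth.Agent.IntNum.deg_pullback_closed k
      (Groth.Agent.IntNum.ptIdeal Z.2.1.genericPoint).subschemeι rfl
      (Groth.Agent.CurveDeg.isCoh_of_isFinLocFree (fun y => let ⟨W, hy, he⟩ := hE y; ⟨W, n, hy, he⟩)).1 n]
    unfold Groth.Agent.IntNum.lenAt
    rw [Groth.Agent.H23.ClosedPushLen.length_structureModule]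
  · rfl

end Groth.Agent.S1641
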