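import Groth.Statements.S7640
import Groth.Agent.IntNum.Push
import Groth.Agent.IntNum.PushRank
import Groth.Agent.Lib.CurveTensor
import Groth.Agent.KFlatLib.Scheme.ProjLocFree
import Groth.Agent.S0219
import Groth.Agent.Lib.CurveDeg

set_option autoImplicit false
universe u
open CategoryTheory CategoryTheory.Limits AlgebraicGeometry
open Variety

namespace Groth.Agent.S7640

/-- Let k be a field, let X and Y be proper curves over k (integral, proper over k, of dimension one)
and let f : X → Y be a morphism over k that is not constant, i.e. sends the generic point of X to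
that of Y. For a finite locally free module E of rank n on Y, the degree of f^*E is deg(X/Y) ·
deg(E), where deg(X/Y) is the degree of the function field of X over that of Y. -/
theorem result (k : Type u) [Field k] (X Y : Scheme.{u})
    [X.Over (Spec (CommRingCat.of k))] [Y.Over (Spec (CommRingCat.of k))] [IsIntegral X] [IsIntegral Y]
    [IsProper (X ↘ (Spec (CommRingCat.of k)))] [IsProper (Y ↘ (Spec (CommRingCat.of k)))]
    (hX : topologicalKrullDim X = 1) (hY : topologicalKrullDim Y = 1)
    (f : X ⟶ Y) (hf : f ≫ (Y ↘ (Spec (CommRingCat.of k))) = X ↘ (Spec (CommRingCat.of k)))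
    (hξ : f.base (genericPoint X) = genericPoint Y)
    (n : ℕ) (E : Y.Modules) (hE : FlatMod.IsFinLocFreeOfRank n E) :
    Curv2.deg k X ((Scheme.Modules.pullback f).obj E) n =
      (f.residueDegree (genericPoint X) : ℤ) * Curv2.deg k Y E n := by
  haveI := Groth.Agent.CurveCohLib.isNoetherian_of_proper (k := k) (X := X)
  haveI := Groth.Agent.CurveCohLib.isNoetherian_of_proper (k := k) (X := Y)
  have hEf : FlatMod.IsFinLocFree E := fun y => let ⟨W, hy, he⟩ := hE y; ⟨W, n, hy, he⟩
  have hηc : ¬ IsClosed ({genericPoint Y} : Set Y) := fun h => by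
    haveI : Subsingleton Y := Set.subsingleton_univ_iff.1 (by
      rw [← genericPoint_closure (α := Y), h.closure_eq]; exact Set.subsingleton_singleton)
    have := topologicalKrullDim_zero_of_discreteTopology Y
    rw [hY] at this
    exact absurd this (by decide)
  haveI : IsFinite f := by
    refine Groth.Agent.S0219.result k X Y _ _ f hf hX.le fun Z hZ _ => ?_
    have hZu : Z = Set.univ := by
      rw [irreducibleComponents_eq_singleton, Set.mem_singleton_iff] at hZ
      exact hZ
    subst hZu
    haveI : IsProper (f ≫ (Y ↘ Spec (CommRingCat.of k))) := hf ▸ inferInstance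
    haveI : IsProper f := IsProper.of_comp f (Y ↘ Spec (CommRingCat.of k))
    by_contra hnt
    rw [Set.not_nontrivial_iff] at hnt
    refine hηc ?_
    have : f.base '' Set.univ = {genericPoint Y} :=
      hnt.eq_singleton_of_mem ⟨genericPoint X, trivial, hξ⟩
    exact this ▸ f.isClosedMap _ isClosed_univ
  have hone : ∀ z, f.base z = genericPoint Y → z = genericPoint X := fun z hz => by
    refine Groth.Agent.CurveCohLib.eq_genericPoint_of_not_isClosed hX fun hc => hηc ?_
    rw [← hz, ← Set.image_singleton]
    exact f.isClosedMap _ hc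
  have hp : Coh.IsQCoh ((Scheme.Modules.pullback f).obj E) :=
    Groth.Agent.QCoh.isQCoh_pullback f (Groth.Agent.CurveDeg.isCoh_of_isFinLocFree hEf).1
  have hF : Coh.IsCoh ((Coh.push f).obj (Coh.structureModule X)) :=
    Groth.Agent.QCoh.isCoh_pushforward_finite f Groth.Agent.QCoh.isCoh_structureModule'
  obtain ⟨p⟩ : Nonempty ((DCoh.tensorBi.obj E).obj ((Coh.push f).obj (Coh.structureModule X)) ≅
      (Coh.push f).obj ((Scheme.Modules.pullback f).obj E)) := by
    obtain ⟨p⟩ := Groth.Agent.KFlatLib.nonempty_rpush_tensor_finLocFree f (Coh.structureModule X) E hEf 0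
    exact ⟨(DCoh.tensorBi.obj E).mapIso ((Coh.push f).rightDerivedZeroIsoSelf.app (Coh.structureModule X)).symm ≪≫ p ≪≫
      (Coh.push f).rightDerivedZeroIsoSelf.app _ ≪≫ (Coh.push f).mapIso
        (Groth.Agent.CurveTensor.commIso ((Scheme.Modules.pullback f).obj E) (Coh.structureModule X) ≪≫
          Groth.Agent.CurveTensor.structureTensorIso ((Scheme.Modules.pullback f).obj E))⟩
  have hr := Groth.Agent.IntNum.rk_push_structure f f.isClosedMap hξ hone
  have ht := Groth.Agent.CurveTensor.euler_tensor k hY hE hF
  rw [hr, Groth.Agent.CurveCohLib.euler_congr (k := k) p, Groth.Agent.IntNum.euler_push k f hf hp,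
    Groth.Agent.IntNum.euler_push k f hf Groth.Agent.QCoh.isCoh_structureModule'.1] at ht
  show Curv2.euler k X _ - n * Curv2.euler k X _ = _
  rw [ht]
  ring

end Groth.Agent.S7640
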