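import Groth.Statements.S12243
import Groth.Agent.FlatDevPad.BaseChange

set_option autoImplicit false
attribute [-instance] CategoryTheory.catToReflQuiver
set_option backward.isDefEq.respectTransparency false
set_option backward.isDefEq.respectTransparency.types false
set_option maxHeartbeats 1000000
universe u
open FlatMor

namespace Groth.Agent.S12243
open TensorProduct

open TensorProduct in
/-- All schemes are affine; the base-changed complete dévissage is asserted to exist with its pieces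
pinned as base changes. Let R → S be of finite type, N a finite S-module, p a prime of R and 𝒟 a
complete dévissage of N/S/R over p in the prelude's algebraic form (rings A_i, smooth R-algebras B_i
with pB_i prime and geometrically irreducible fibres, finite A_i-modules M_i with N ≅ M_0, maps α_i
from finite free B_i-modules, bijective on the fibre at pB_i, whose cokernels are the next modules,
the last one surjective; steps indexed by i below the length). Let R → R' be a ring map, p' a prime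
of R' over p, S' the base change of S and N' = N ⊗_S S'. Then N'/S'/R' has a complete dévissage 𝒟'
over p' of the same length and the same ranks whose pieces are base changes of those of 𝒟: for the
steps i below the length there are algebra structures making A'_i and B'_i the base changes of A_i
and B_i along R → R', compatibly with B_i → A_i, with B_i → A_{i+1}, with S → A_0 and with S' →
A'_0, and A_i-linear base-change maps M_i → M'_i (M'_i ≅ M_i ⊗_{A_i} A'_i) carrying N ≅ M_0 to N' ≅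
M'_0 and the image of α_i onto a generating set of the image of α'_i. (The published statement
base-changes all the data functorially; here the identifications of cokernels inside 𝒟' are not
required to be the base-changed ones.) -/
theorem result
    (R S : Type u) [CommRing R] [CommRing S] [Algebra R S] [Algebra.FiniteType R S]
    (N : Type u) [AddCommGroup N] [Module S N] [Module.Finite S N]
    (p : Ideal R) [p.IsPrime] (𝒟 : FlatCA.CompleteDevissage R S N p)
    (R' : Type u) [CommRing R'] [Algebra R R'] (p' : Ideal R') [p'.IsPrime] [p'.LiesOver p]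
    (S' : Type u) [CommRing S'] [Algebra R' S'] [Algebra R S'] [Algebra S S'] [IsScalarTower R R' S']
    [IsScalarTower R S S'] [Algebra.IsPushout R R' S S']
    (N' : Type u) [AddCommGroup N'] [Module S' N'] [Module S N'] [IsScalarTower S S' N']
    (f : N →ₗ[S] N') (hf : IsBaseChange S' f) :
    ∃ (𝒟' : FlatCA.CompleteDevissage R' S' N' p')
      (aA : ∀ i : Fin 𝒟.n, Algebra (𝒟.A i) (𝒟'.A i)) (rA : ∀ i : Fin 𝒟.n, Algebra R (𝒟'.A i))
      (_t1 : ∀ i : Fin 𝒟.n, IsScalarTower R (R') (𝒟'.A i)) (_t2 : ∀ i : Fin 𝒟.n, IsScalarTower R (𝒟.A i) (𝒟'.A i))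
      (aB : ∀ i : Fin 𝒟.n, Algebra (𝒟.B i) (𝒟'.B i)) (rB : ∀ i : Fin 𝒟.n, Algebra R (𝒟'.B i))
      (_t3 : ∀ i : Fin 𝒟.n, IsScalarTower R (R') (𝒟'.B i)) (_t4 : ∀ i : Fin 𝒟.n, IsScalarTower R (𝒟.B i) (𝒟'.B i))
      (bA : ∀ i : Fin 𝒟.n, Algebra (𝒟.B i) (𝒟'.A i)) (_t5 : ∀ i : Fin 𝒟.n, IsScalarTower (𝒟.B i) (𝒟.A i) (𝒟'.A i))
      (_t6 : ∀ i : Fin 𝒟.n, IsScalarTower (𝒟.B i) (𝒟'.B i) (𝒟'.A i))
      (bA' : ∀ i : Fin 𝒟.n, Algebra (𝒟.B i) (𝒟'.A (i + 1)))
      (_t7 : ∀ i : Fin 𝒟.n, IsScalarTower (𝒟.B i) (𝒟'.B i) (𝒟'.A (i + 1)))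
      (sA : Algebra S (𝒟'.A 0)) (_t8 : IsScalarTower S (S') (𝒟'.A 0))
      (mA : ∀ i : Fin 𝒟.n, Module (𝒟.A i) (𝒟'.M i)) (_t9 : ∀ i : Fin 𝒟.n, IsScalarTower (𝒟.A i) (𝒟'.A i) (𝒟'.M i))
      (gM : ∀ i : Fin 𝒟.n, 𝒟.M i →ₗ[𝒟.A i] 𝒟'.M i),
      𝒟'.n = 𝒟.n ∧ 𝒟'.r = 𝒟.r ∧
      (letI := aA ⟨0, 𝒟.pos⟩; IsScalarTower S (𝒟.A 0) (𝒟'.A 0)) ∧
      (∀ x : N, 𝒟'.isoN (f x) = gM ⟨0, 𝒟.pos⟩ (𝒟.isoN x)) ∧
      (∀ (i : Fin 𝒟.n) (h : (i : ℕ) + 1 < 𝒟.n),
        letI := aA ⟨i + 1, h⟩; IsScalarTower (𝒟.B i) (𝒟.A (i + 1)) (𝒟'.A (i + 1))) ∧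
      ∀ i : Fin 𝒟.n,
        Algebra.IsPushout R R' (𝒟.A i) (𝒟'.A i) ∧ Algebra.IsPushout R R' (𝒟.B i) (𝒟'.B i) ∧
        IsBaseChange (𝒟'.A i) (gM i) ∧
        LinearMap.range (𝒟'.α i) =
          Submodule.span (𝒟'.B i) ((gM i) '' (LinearMap.range (𝒟.α i) : Set (𝒟.M i))) := by
  classical
  let d := Groth.Agent.FlatDevPad.bcData 𝒟 R' p' S' N' f hf
  letI rightA : ∀ i : Fin 𝒟.n, Algebra (𝒟.A i) (TensorProduct R R' (𝒟.A i)) := fun i => Algebra.TensorProduct.rightAlgebra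
  letI rightB : ∀ i : Fin 𝒟.n, Algebra (𝒟.B i) (TensorProduct R R' (𝒟.B i)) := fun i => Algebra.TensorProduct.rightAlgebra
  let fA : ∀ i : Fin 𝒟.n, 𝒟.A i →+* d.toDev.A i := fun i =>
    (d.eA i).symm.toRingEquiv.toRingHom.comp (algebraMap (𝒟.A i) (TensorProduct R R' (𝒟.A i)))
  let fB : ∀ i : Fin 𝒟.n, 𝒟.B i →+* d.toDev.B i := fun i =>
    (d.eB i).symm.toRingEquiv.toRingHom.comp (algebraMap (𝒟.B i) (TensorProduct R R' (𝒟.B i)))
  letI aA : ∀ i : Fin 𝒟.n, Algebra (𝒟.A i) (d.toDev.A i) := fun i => (fA i).toAlgebra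
  letI rA : ∀ i : Fin 𝒟.n, Algebra R (d.toDev.A i) := fun i => ((algebraMap R' (d.toDev.A i)).comp (algebraMap R R')).toAlgebra
  letI aB : ∀ i : Fin 𝒟.n, Algebra (𝒟.B i) (d.toDev.B i) := fun i => (fB i).toAlgebra
  letI rB : ∀ i : Fin 𝒟.n, Algebra R (d.toDev.B i) := fun i => ((algebraMap R' (d.toDev.B i)).comp (algebraMap R R')).toAlgebra
  letI bA : ∀ i : Fin 𝒟.n, Algebra (𝒟.B i) (d.toDev.A i) := fun i => ((algebraMap (d.toDev.B i) (d.toDev.A i)).comp (algebraMap (𝒟.B i) (d.toDev.B i))).toAlgebra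
  letI bA' : ∀ i : Fin 𝒟.n, Algebra (𝒟.B i) (d.toDev.A (i + 1)) := fun i => ((algebraMap (d.toDev.B i) (d.toDev.A (i + 1))).comp (algebraMap (𝒟.B i) (d.toDev.B i))).toAlgebra
  letI sA : Algebra S (d.toDev.A 0) := ((algebraMap S' (d.toDev.A 0)).comp (algebraMap S S')).toAlgebra
  letI mA : ∀ i : Fin 𝒟.n, Module (𝒟.A i) (d.toDev.M i) := fun i => Module.compHom _ (fA i)
  have t1 : ∀ i : Fin 𝒟.n, IsScalarTower R R' (d.toDev.A i) := fun i => IsScalarTower.of_algebraMap_eq fun _ => rfl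
  have t3 : ∀ i : Fin 𝒟.n, IsScalarTower R R' (d.toDev.B i) := fun i => IsScalarTower.of_algebraMap_eq fun _ => rfl
  have t2 : ∀ i : Fin 𝒟.n, IsScalarTower R (𝒟.A i) (d.toDev.A i) := fun i => IsScalarTower.of_algebraMap_eq fun r => by
    show algebraMap R' (d.PA i) (algebraMap R R' r) = (d.eA i).symm (algebraMap (𝒟.A i) (TensorProduct R R' (𝒟.A i)) (algebraMap R (𝒟.A i) r))
    rw [← IsScalarTower.algebraMap_apply R (𝒟.A i) (TensorProduct R R' (𝒟.A i)),
      IsScalarTower.algebraMap_apply R R' (TensorProduct R R' (𝒟.A i))]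
    exact ((d.eA i).symm.commutes (algebraMap R R' r)).symm
  have t4 : ∀ i : Fin 𝒟.n, IsScalarTower R (𝒟.B i) (d.toDev.B i) := fun i => IsScalarTower.of_algebraMap_eq fun r => by
    show algebraMap R' (d.PB i) (algebraMap R R' r) = (d.eB i).symm (algebraMap (𝒟.B i) (TensorProduct R R' (𝒟.B i)) (algebraMap R (𝒟.B i) r))
    rw [← IsScalarTower.algebraMap_apply R (𝒟.B i) (TensorProduct R R' (𝒟.B i)),
      IsScalarTower.algebraMap_apply R R' (TensorProduct R R' (𝒟.B i))]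
    exact ((d.eB i).symm.commutes (algebraMap R R' r)).symm
  have t5 : ∀ i : Fin 𝒟.n, IsScalarTower (𝒟.B i) (𝒟.A i) (d.toDev.A i) := fun i => IsScalarTower.of_algebraMap_eq fun b => by
    show d.pba i ((d.eB i).symm ((1 : R') ⊗ₜ[R] b)) = (d.eA i).symm ((1 : R') ⊗ₜ[R] algebraMap (𝒟.B i) (𝒟.A i) b)
    apply (d.eA i).injective
    rw [d.pba_eq, AlgEquiv.apply_symm_apply, AlgEquiv.apply_symm_apply]
    exact Groth.Agent.FlatDevPad.bcba_algebraMap 𝒟 R' i b
  have t6 : ∀ i : Fin 𝒟.n, IsScalarTower (𝒟.B i) (d.toDev.B i) (d.toDev.A i) := fun i => IsScalarTower.of_algebraMap_eq fun _ => rfl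
  have t7 : ∀ i : Fin 𝒟.n, IsScalarTower (𝒟.B i) (d.toDev.B i) (d.toDev.A (i + 1)) := fun i => IsScalarTower.of_algebraMap_eq fun _ => rfl
  have t8 : IsScalarTower S S' (d.toDev.A 0) := IsScalarTower.of_algebraMap_eq fun _ => rfl
  have t9 : ∀ i : Fin 𝒟.n, IsScalarTower (𝒟.A i) (d.toDev.A i) (d.toDev.M i) := fun i => IsScalarTower.of_algebraMap_smul fun _ _ => rfl
  letI modA : ∀ i : Fin 𝒟.n, Module (d.A i) (Groth.Agent.FlatDevPad.bcM 𝒟 R' i) := fun i =>
    inferInstanceAs (Module (Groth.Agent.FlatDevPad.bcA 𝒟 R' i) (Groth.Agent.FlatDevPad.bcM 𝒟 R' i))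
  let gM : ∀ i : Fin 𝒟.n, 𝒟.M i →ₗ[𝒟.A i] d.toDev.M i := fun i =>
    { toFun := fun m _ => Groth.Agent.FlatDevPad.bcl 𝒟 R' i m
      map_add' := fun m m' => funext fun _ => map_add (Groth.Agent.FlatDevPad.bcl 𝒟 R' i) m m'
      map_smul' := fun a m => funext fun _ => by
        show Groth.Agent.FlatDevPad.bcl 𝒟 R' i (a • m) =
          (d.eA i) ((d.eA i).symm ((1 : R') ⊗ₜ[R] a)) • Groth.Agent.FlatDevPad.bcl 𝒟 R' i m
        rw [AlgEquiv.apply_symm_apply, map_smul]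
        exact (IsScalarTower.algebraMap_smul (TensorProduct R R' (𝒟.A i)) a _).symm }
  refine ⟨d.toDev, aA, rA, t1, t2, aB, rB, t3, t4, bA, t5, t6, bA', t7, sA, t8, mA, t9, gM, rfl, rfl, ?_, ?_, ?_, ?_⟩
  · letI := aA ⟨0, 𝒟.pos⟩
    exact IsScalarTower.of_algebraMap_eq fun s => by
      show d.psa (algebraMap S S' s) = (d.eA ⟨0, 𝒟.pos⟩).symm ((1 : R') ⊗ₜ[R] algebraMap S (𝒟.A 0) s)
      apply (d.eA ⟨0, 𝒟.pos⟩).injective
      rw [AlgEquiv.apply_symm_apply]
      exact Groth.Agent.FlatDevPad.bcsa_algebraMap 𝒟 R' S' s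
  · exact fun x => funext fun _ => (Classical.choose_spec (Groth.Agent.FlatDevPad.exists_isoN 𝒟 R' S' N' f hf)).2.2 x
  · intro i h
    letI := aA ⟨i + 1, h⟩
    exact IsScalarTower.of_algebraMap_eq fun b => by
      show d.pba' i ((d.eB i).symm ((1 : R') ⊗ₜ[R] b)) = (d.eA ⟨i + 1, h⟩).symm ((1 : R') ⊗ₜ[R] algebraMap (𝒟.B i) (𝒟.A (i + 1)) b)
      apply (d.eA ⟨i + 1, h⟩).injective
      rw [AlgEquiv.apply_symm_apply, d.pba'_eq i h]
      show Groth.Agent.FlatDevPad.bcba' 𝒟 R' i h (d.eB i ((d.eB i).symm ((1 : R') ⊗ₜ[R] b))) = _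
      rw [AlgEquiv.apply_symm_apply]
      exact (Algebra.TensorProduct.map_tmul _ _ _ _).trans rfl
  intro i
  refine ⟨?_, ?_, ?_, ?_⟩
  · exact Algebra.IsPushout.of_equiv (h := (inferInstance : Algebra.IsPushout R R' (𝒟.A i) (TensorProduct R R' (𝒟.A i))))
      (d.eA i).symm (RingHom.ext fun _ => rfl)
  · exact Algebra.IsPushout.of_equiv (h := (inferInstance : Algebra.IsPushout R R' (𝒟.B i) (TensorProduct R R' (𝒟.B i))))
      (d.eB i).symm (RingHom.ext fun _ => rfl)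
  · -- the padded module is the base change
    let E : TensorProduct R R' (𝒟.A i) ≃ₗ[𝒟.A i] d.toDev.A i :=
      { (d.eA i).symm.toRingEquiv.toAddEquiv with
        map_smul' := fun a x => by
          rw [Algebra.smul_def]
          exact map_mul (d.eA i).symm (algebraMap (𝒟.A i) (TensorProduct R R' (𝒟.A i)) a) x }
    let T := (gM i).liftBaseChange (d.toDev.A i)
    have key : ∀ z, T (TensorProduct.map E.toLinearMap LinearMap.id z) ⟨i.2⟩ = z := fun z => by
      induction z using TensorProduct.induction_on with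
      | zero => rw [map_zero, map_zero]; rfl
      | tmul a m =>
        rw [TensorProduct.map_tmul, LinearMap.liftBaseChange_tmul]
        show (d.eA i) ((d.eA i).symm a) • Groth.Agent.FlatDevPad.bcl 𝒟 R' i m = _
        rw [AlgEquiv.apply_symm_apply]
        show a • ((1 : TensorProduct R R' (𝒟.A i)) ⊗ₜ[𝒟.A i] m) = a ⊗ₜ[𝒟.A i] m
        rw [TensorProduct.smul_tmul', smul_eq_mul, mul_one]
      | add x y hx hy =>
        rw [map_add, map_add]
        exact congrArg₂ (· + ·) hx hy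
    have hm : Function.Surjective (TensorProduct.map E.toLinearMap (LinearMap.id : 𝒟.M i →ₗ[𝒟.A i] 𝒟.M i)) :=
      TensorProduct.map_surjective E.surjective fun y => ⟨y, rfl⟩
    have hT : Function.Bijective T := by
      refine ⟨fun x y hxy => ?_, fun w => ⟨TensorProduct.map E.toLinearMap LinearMap.id (w ⟨i.2⟩), funext fun _ => key _⟩⟩
      obtain ⟨x, rfl⟩ := hm x
      obtain ⟨y, rfl⟩ := hm y
      rw [← key x, ← key y, hxy]
    exact IsBaseChange.of_equiv (LinearEquiv.ofBijective T hT) fun m => by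
      show T (1 ⊗ₜ m) = gM i m
      rw [LinearMap.liftBaseChange_tmul, one_smul]
  · letI : Module (Groth.Agent.FlatDevPad.bcB 𝒟 R' i) (Groth.Agent.FlatDevPad.bcM 𝒟 R' i) :=
      Module.compHom _ (Groth.Agent.FlatDevPad.bcba 𝒟 R' i).toRingHom
    letI : Module (d.B i) (Groth.Agent.FlatDevPad.bcM 𝒟 R' i) :=
      Module.compHom _ (Groth.Agent.FlatDevPad.bcba 𝒟 R' i).toRingHom
    letI : Module (d.PB i) (d.toDev.M i) := (inferInstance : Module (d.toDev.B i) (d.toDev.M i))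
    haveI : RingHomSurjective (d.eB i).symm.toRingEquiv.toRingHom := ⟨(d.eB i).symm.surjective⟩
    let j : Groth.Agent.FlatDevPad.bcM 𝒟 R' i →ₛₗ[(d.eB i).symm.toRingEquiv.toRingHom] d.toDev.M i :=
      { toFun := fun x _ => x, map_add' := fun _ _ => rfl,
        map_smul' := fun b x => funext fun _ =>
          (congrArg (fun z => Groth.Agent.FlatDevPad.bcba 𝒟 R' i z • x) ((d.eB i).apply_symm_apply b)).symm }
    have e1 : ⇑(gM i) '' (LinearMap.range (𝒟.α i) : Set (𝒟.M i)) =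
        j '' (⇑(Groth.Agent.FlatDevPad.bcl 𝒟 R' i) '' (LinearMap.range (𝒟.α i) : Set (𝒟.M i))) := by
      rw [Set.image_image]
      rfl
    rw [e1, ← Submodule.map_span]
    ext x
    constructor
    · rintro ⟨v, rfl⟩
      exact ⟨_, (Groth.Agent.FlatDevPad.range_bcα 𝒟 R' i _).1 ⟨fun k => (v k).1 ⟨i.2⟩, rfl⟩, funext fun _ => rfl⟩
    · rintro ⟨z, hz, rfl⟩
      obtain ⟨v, hv⟩ := (Groth.Agent.FlatDevPad.range_bcα 𝒟 R' i z).2 hz
      exact ⟨fun k => (fun _ => v k, 0), funext fun _ => hv⟩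

end Groth.Agent.S12243
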