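import Groth.Statements.S1204
import Groth.Agent.RGLib.GeomBasis

set_option autoImplicit false
universe u
open FlatMor TensorProduct

namespace Groth.Agent.S1204

open TensorProduct IsLocalRing in
/-- Let R be a local ring and S a finitely presented flat R-algebra with geometrically integral fibres,
so that 𝔭 = 𝔪_R S is a prime of S; let q be a prime of S over 𝔪_R and N a finite S-module. Then
there is an S-linear map α from a finite free module S^r to N inducing a bijection after base change
to κ(𝔭); and for any such α the following are equivalent: N_q is flat over R; α is universally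
injective over R and the cokernel of α is flat over R at q; α is injective and the cokernel is flat
at q; α localized at 𝔭 is bijective and the cokernel is flat at q; α localized at q is injective and
the cokernel is flat at q. -/
theorem result {R S : Type u} [CommRing R] [IsLocalRing R] [CommRing S] [Algebra R S] [Algebra.FinitePresentation R S] [Module.Flat R S]
    (hgi : FlatCA.GeomIntegralFibres R S) [((maximalIdeal R).map (algebraMap R S)).IsPrime]
    (q : Ideal S) [q.IsPrime] [q.LiesOver (maximalIdeal R)]
    (N : Type u) [AddCommGroup N] [Module S N] [Module R N] [IsScalarTower R S N] [Module.Finite S N] :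
    (∃ (r : ℕ) (α : (Fin r → S) →ₗ[S] N), Function.Bijective (α.baseChange ((maximalIdeal R).map (algebraMap R S)).ResidueField)) ∧
    ∀ (r : ℕ) (α : (Fin r → S) →ₗ[S] N), Function.Bijective (α.baseChange ((maximalIdeal R).map (algebraMap R S)).ResidueField) →
      [FlatCA.FlatAt R q N,
       FlatCA.UnivInj R (α.restrictScalars R) ∧ FlatCA.FlatAt R q (N ⧸ LinearMap.range α),
       Function.Injective α ∧ FlatCA.FlatAt R q (N ⧸ LinearMap.range α),
       Function.Bijective (LocalizedModule.map ((maximalIdeal R).map (algebraMap R S)).primeCompl α) ∧ FlatCA.FlatAt R q (N ⧸ LinearMap.range α),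
       Function.Injective (LocalizedModule.map q.primeCompl α) ∧ FlatCA.FlatAt R q (N ⧸ LinearMap.range α)].TFAE := by

  refine ⟨Groth.Agent.RGLib.exists_basis_lift _, fun r α hα => ?_⟩
  let pp := (maximalIdeal R).map (algebraMap R S)
  have hppq : pp ≤ q := Ideal.map_le_iff_le_comap.2 fun a ha => by
    exact (SetLike.ext_iff.1 (Ideal.over_def q (maximalIdeal R)) a).1 ha
  have hunit : ∀ w ∈ Algebra.algebraMapSubmonoid S (maximalIdeal R).primeCompl, IsUnit w := by
    rintro _ ⟨a, ha, rfl⟩
    exact (IsLocalRing.notMem_maximalIdeal.1 ha).map _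
  have hui : FlatCA.FlatAt R q N → ∀ (Q : Type u) [AddCommGroup Q] [Module R Q] (z : (Fin r → S) ⊗[R] Q),
      TensorProduct.AlgebraTensorModule.rTensor R Q α z = 0 → z = 0 := fun hN Q _ _ z hz => by
    obtain ⟨w, hw, hwz⟩ := Groth.Agent.RGLib.exists_kill_of_flatAt hgi (maximalIdeal R) q hppq hN r α hα.1 Q z hz
    exact (hunit w hw).smul_eq_zero.1 hwz
  tfae_have 1 → 2 := fun hN => by
    refine ⟨fun Q _ _ => ?_, Groth.Agent.RGLib.flat_coker_of_kill q r α hN fun Q _ _ z hz =>
      ⟨1, one_mem _, by rw [one_smul]; exact hui hN Q z hz⟩⟩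
    rw [LinearMap.lTensor_inj_iff_rTensor_inj, injective_iff_map_eq_zero]
    exact fun z hz => hui hN Q z hz
  tfae_have 2 → 3 := fun ⟨h, hC⟩ => by
    refine ⟨?_, hC⟩
    rw [injective_iff_map_eq_zero]
    intro x hx
    have h1 := (LinearMap.lTensor_inj_iff_rTensor_inj _ _).1 (h R) (a₁ := x ⊗ₜ[R] (1 : R)) (a₂ := 0) (by
      rw [map_zero, LinearMap.rTensor_tmul, LinearMap.coe_restrictScalars, hx, TensorProduct.zero_tmul])
    have := congrArg (TensorProduct.rid R (Fin r → S)) h1
    rwa [TensorProduct.rid_tmul, one_smul, map_zero] at this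
  tfae_have 3 → 4 := fun ⟨h, hC⟩ =>
    ⟨Groth.Agent.RGLib.bijective_map_of_kill pp r α hα.2 fun x hx =>
      ⟨1, one_mem _, by rw [one_smul]; exact h (hx.trans (map_zero α).symm)⟩, hC⟩
  tfae_have 4 → 5 := fun ⟨h, hC⟩ => by
    refine ⟨Groth.Agent.RGLib.map_injective_of_kill _ _ fun x hx => ?_, hC⟩
    obtain ⟨w, hw, hwx⟩ := Groth.Agent.RGLib.exists_kill_of_injective_prime hgi (maximalIdeal R) r α h.1 x hx
    exact ⟨1, one_mem _, by rw [one_smul]; exact (hunit w hw).smul_eq_zero.1 hwx⟩
  tfae_have 5 → 1 := fun ⟨h, hC⟩ => Groth.Agent.RGLib.flat_of_injective q r α h hC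
  tfae_finish

end Groth.Agent.S1204
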