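import Groth.Statements.S1205
import Groth.Agent.RGLib.GeomBasis
import Groth.Agent.FlatModel.Open

set_option autoImplicit false
universe u
open FlatMor TensorProduct

namespace Groth.Agent.S1205

open TensorProduct in
/-- Let S be a finitely presented flat R-algebra with geometrically integral fibres, q a prime of S over
the prime 𝔯 of R, so that 𝔭 = 𝔯S is a prime of S, and N a finitely presented S-module. Then there is
an S-linear map α from a finite free module S^r to N inducing a bijection after base change to κ(𝔭);
and for any such α the following are equivalent: N_q is flat over R; for some f ∈ R outside 𝔯 the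
localization α_f is universally injective over R and for some g ∈ S outside q the localization of
the cokernel at g is flat over R; α localized at (the image of) 𝔯 is universally injective over R
and the cokernel is flat over R at q; α localized at 𝔯 is injective and the cokernel is flat at q; α
localized at 𝔭 is bijective and the cokernel is flat at q; α localized at q is injective and the
cokernel is flat at q. (Universal injectivity over R_f or R_𝔯 of a map of modules over these
localizations is the same as over R, which is how it is written.) -/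
theorem result {R S : Type u} [CommRing R] [CommRing S] [Algebra R S] [Algebra.FinitePresentation R S] [Module.Flat R S]
    (hgi : FlatCA.GeomIntegralFibres R S) (rr : Ideal R) [rr.IsPrime] [(rr.map (algebraMap R S)).IsPrime]
    (q : Ideal S) [q.IsPrime] [q.LiesOver rr]
    (N : Type u) [AddCommGroup N] [Module S N] [Module R N] [IsScalarTower R S N] [Module.FinitePresentation S N] :
    (∃ (r : ℕ) (α : (Fin r → S) →ₗ[S] N), Function.Bijective (α.baseChange (rr.map (algebraMap R S)).ResidueField)) ∧
    ∀ (r : ℕ) (α : (Fin r → S) →ₗ[S] N), Function.Bijective (α.baseChange (rr.map (algebraMap R S)).ResidueField) →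
      [FlatCA.FlatAt R q N,
       (∃ f : R, f ∉ rr ∧ FlatCA.UnivInj R ((LocalizedModule.map (Submonoid.powers (algebraMap R S f)) α).restrictScalars R)) ∧
         (∃ g : S, g ∉ q ∧ Module.Flat R (LocalizedModule (Submonoid.powers g) (N ⧸ LinearMap.range α))),
       FlatCA.UnivInj R ((LocalizedModule.map (Algebra.algebraMapSubmonoid S rr.primeCompl) α).restrictScalars R) ∧ FlatCA.FlatAt R q (N ⧸ LinearMap.range α),
       Function.Injective (LocalizedModule.map (Algebra.algebraMapSubmonoid S rr.primeCompl) α) ∧ FlatCA.FlatAt R q (N ⧸ LinearMap.range α),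
       Function.Bijective (LocalizedModule.map (rr.map (algebraMap R S)).primeCompl α) ∧ FlatCA.FlatAt R q (N ⧸ LinearMap.range α),
       Function.Injective (LocalizedModule.map q.primeCompl α) ∧ FlatCA.FlatAt R q (N ⧸ LinearMap.range α)].TFAE := by
  classical
  refine ⟨Groth.Agent.RGLib.exists_basis_lift _, fun r α hα => ?_⟩
  let pp := rr.map (algebraMap R S)
  let W := Algebra.algebraMapSubmonoid S rr.primeCompl
  have hqrr : ∀ a, a ∈ rr ↔ algebraMap R S a ∈ q := fun a => by
    rw [Ideal.over_def q rr]
    rfl
  have hppq : pp ≤ q := Ideal.map_le_iff_le_comap.2 fun a ha => (hqrr a).1 ha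
  have hWq : W ≤ q.primeCompl := by
    rintro _ ⟨a, ha, rfl⟩ h
    exact ha ((hqrr a).2 h)
  obtain ⟨-, hover⟩ := Groth.Agent.RGLib.isPrime_map_and_comap hgi rr
  have hWpp : W ≤ pp.primeCompl := by
    rintro _ ⟨a, ha, rfl⟩ h
    exact ha ((SetLike.ext_iff.1 hover a).1 h)
  have hinj1 : ∀ (U : Submonoid S), FlatCA.UnivInj R ((LocalizedModule.map U α).restrictScalars R) →
      Function.Injective (LocalizedModule.map U α) := fun U h => by
    rw [injective_iff_map_eq_zero]
    intro x hx
    have h1 := (LinearMap.lTensor_inj_iff_rTensor_inj _ _).1 (h R) (a₁ := x ⊗ₜ[R] (1 : R)) (a₂ := 0) (by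
      rw [map_zero, LinearMap.rTensor_tmul, LinearMap.coe_restrictScalars, hx, TensorProduct.zero_tmul])
    have := congrArg (TensorProduct.rid R (LocalizedModule U (Fin r → S))) h1
    rwa [TensorProduct.rid_tmul, one_smul, map_zero] at this
  have hkillU : ∀ (U : Submonoid S), Function.Injective (LocalizedModule.map U α) → ∀ x, α x = 0 → ∃ w ∈ U, w • x = 0 := by
    intro U h x hx
    have h0 : LocalizedModule.mkLinearMap U (Fin r → S) x = 0 := h (by
      rw [LocalizedModule.mkLinearMap_apply, LocalizedModule.map_mk, hx, map_zero, LocalizedModule.zero_mk])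
    obtain ⟨⟨d, hd⟩, hd0⟩ := (IsLocalizedModule.eq_zero_iff U (LocalizedModule.mkLinearMap U (Fin r → S))).1 h0
    exact ⟨d, hd, hd0⟩
  tfae_have 1 → 2 := fun hN => by
    haveI : Module.FinitePresentation S (N ⧸ LinearMap.range α) :=
      Module.finitePresentation_of_surjective _ (LinearMap.range α).mkQ_surjective (by
        rw [Submodule.ker_mkQ, LinearMap.range_eq_map]
        exact Module.Finite.fg_top.map _)
    have hker := Groth.Agent.RGLib.exists_kill_of_flatAt hgi rr q hppq hN r α hα.1
    have hC := Groth.Agent.RGLib.flat_coker_of_kill q r α hN fun Q _ _ z hz => by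
      obtain ⟨w, hw, hwz⟩ := hker Q z hz
      exact ⟨w, hWq hw, hwz⟩
    obtain ⟨g, hg, hgflat⟩ := Groth.Agent.FlatModel.exists_flat_nhd (R := R) _ q hC
    have hbij : Function.Bijective (LocalizedModule.map pp.primeCompl α) :=
      Groth.Agent.RGLib.bijective_map_of_kill pp r α hα.2 fun x hx => by
        obtain ⟨w, hw, hwx⟩ := hker R (x ⊗ₜ[R] (1 : R)) (by
          show α x ⊗ₜ[R] (1 : R) = 0
          rw [hx, TensorProduct.zero_tmul])
        refine ⟨w, hWpp hw, ?_⟩
        have := congrArg (TensorProduct.rid R (Fin r → S)) hwx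
        rwa [TensorProduct.smul_tmul', TensorProduct.rid_tmul, one_smul, map_zero] at this
    obtain ⟨h, hh, hb⟩ := Module.FinitePresentation.exists_notMem_bijective α pp
      (LocalizedModule.mkLinearMap pp.primeCompl (Fin r → S)) (LocalizedModule.mkLinearMap pp.primeCompl N) hbij
    -- an open set of the base in the image of `D(h)`
    have hopen := PrimeSpectrum.isOpenMap_comap_of_hasGoingDown_of_finitePresentation (R := R) (S := S)
      _ (PrimeSpectrum.basicOpen h).2
    have hmem : (⟨rr, inferInstance⟩ : PrimeSpectrum R) ∈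
        PrimeSpectrum.comap (algebraMap R S) '' (PrimeSpectrum.basicOpen h : Set (PrimeSpectrum S)) :=
      ⟨⟨pp, inferInstance⟩, hh, PrimeSpectrum.ext hover⟩
    obtain ⟨_, ⟨f, rfl⟩, hfr, hsub⟩ :=
      PrimeSpectrum.isTopologicalBasis_basic_opens.exists_subset_of_mem_open hmem hopen
    refine ⟨⟨f, hfr, fun Q _ _ => ?_⟩, g, hg, hgflat _ (Submonoid.mem_powers g)⟩
    refine Groth.Agent.RGLib.lTensor_map_injective_of_kill _ α Q fun z hz => ?_
    -- `z` dies on `D(h)`
    let lM := TensorProduct.AlgebraTensorModule.rTensor R Q (LocalizedModule.mkLinearMap (Submonoid.powers h) (Fin r → S))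
    let F : LocalizedModule (Submonoid.powers h) (Fin r → S) →ₗ[S] LocalizedModule (Submonoid.powers h) N :=
      (LocalizedModule.map (Submonoid.powers h) α).restrictScalars S
    let e := LinearEquiv.ofBijective F hb
    have h0 : lM z = 0 := by
      refine (e.restrictScalars R).rTensor Q |>.injective ?_
      rw [map_zero]
      have hsq : (e.restrictScalars R).rTensor Q (lM z) = TensorProduct.AlgebraTensorModule.rTensor R Q
          (LocalizedModule.mkLinearMap (Submonoid.powers h) N) (TensorProduct.AlgebraTensorModule.rTensor R Q α z) := by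
        clear hz
        induction z using TensorProduct.induction_on with
        | zero => simp only [map_zero]
        | add a b ha hb => simp only [map_add, ha, hb]
        | tmul a b =>
          show F (LocalizedModule.mkLinearMap _ _ a) ⊗ₜ[R] b = LocalizedModule.mkLinearMap _ _ (α a) ⊗ₜ[R] b
          exact congrArg (· ⊗ₜ[R] b) (LocalizedModule.map_mk _ _ _ _)
      rw [hsq, hz, map_zero]
    obtain ⟨⟨d, hd⟩, hdz⟩ := (IsLocalizedModule.eq_zero_iff (Submonoid.powers h) lM).1 h0
    refine Groth.Agent.RGLib.exists_kill_of_kill hgi (Submonoid.powers h) _ (fun q' hq' hdis c hc hmem' => ?_) r Q z d hd hdz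
    haveI := hq'
    have hf : f ∉ q'.comap (algebraMap R S) := fun hf => Set.disjoint_left.1 hdis (Submonoid.mem_powers _) hf
    obtain ⟨q'', hq'', he⟩ := hsub (show (⟨q'.comap (algebraMap R S), Ideal.IsPrime.comap _⟩ : PrimeSpectrum R) ∈
      (PrimeSpectrum.basicOpen f : Set (PrimeSpectrum R)) from hf)
    obtain ⟨k, rfl⟩ := hc
    refine hq'' (q''.isPrime.mem_of_pow_mem k ((Ideal.map_le_iff_le_comap.2 ?_) hmem'))
    exact fun a ha => ((SetLike.ext_iff.1 (congrArg PrimeSpectrum.asIdeal he) a).2 ha)
  tfae_have 2 → 3 := fun ⟨⟨f, hf, hUI⟩, g, hg, hgflat⟩ => by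
    refine ⟨fun Q _ _ => Groth.Agent.RGLib.lTensor_map_injective_of_kill _ α Q fun z hz => ?_, ?_⟩
    · let U := Submonoid.powers (algebraMap R S f)
      let F : LocalizedModule U (Fin r → S) →ₗ[S] LocalizedModule U N := (LocalizedModule.map U α).restrictScalars S
      let lM := TensorProduct.AlgebraTensorModule.rTensor R Q (LocalizedModule.mkLinearMap U (Fin r → S))
      have h0 : lM z = 0 := by
        refine (LinearMap.lTensor_inj_iff_rTensor_inj _ _).1 (hUI Q) ?_
        rw [map_zero]
        have hsq : ((LocalizedModule.map U α).restrictScalars R).rTensor Q (lM z) = TensorProduct.AlgebraTensorModule.rTensor R Q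
            (LocalizedModule.mkLinearMap U N) (TensorProduct.AlgebraTensorModule.rTensor R Q α z) := by
          clear hz
          induction z using TensorProduct.induction_on with
          | zero => simp only [map_zero]
          | add a b ha hb => simp only [map_add, ha, hb]
          | tmul a b =>
            show F (LocalizedModule.mkLinearMap _ _ a) ⊗ₜ[R] b = LocalizedModule.mkLinearMap _ _ (α a) ⊗ₜ[R] b
            exact congrArg (· ⊗ₜ[R] b) (LocalizedModule.map_mk _ _ _ _)
        rw [hsq, hz, map_zero]
      obtain ⟨⟨d, hd⟩, hdz⟩ := (IsLocalizedModule.eq_zero_iff U lM).1 h0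
      exact ⟨d, (Submonoid.powers_le.2 (Algebra.mem_algebraMapSubmonoid_of_mem (⟨f, hf⟩ : rr.primeCompl))) hd, hdz⟩
    · haveI := hgflat
      exact Groth.Agent.RGLib.flat_localized_of_le (Submonoid.powers g) q.primeCompl (Submonoid.powers_le.2 hg)
  tfae_have 3 → 4 := fun ⟨h, hC⟩ => ⟨hinj1 _ h, hC⟩
  tfae_have 4 → 5 := fun ⟨h, hC⟩ =>
    ⟨Groth.Agent.RGLib.bijective_map_of_kill pp r α hα.2 fun x hx => by
      obtain ⟨w, hw, hwx⟩ := hkillU _ h x hx
      exact ⟨w, hWpp hw, hwx⟩, hC⟩
  tfae_have 5 → 6 := fun ⟨h, hC⟩ =>
    ⟨Groth.Agent.RGLib.map_injective_of_kill _ _ fun x hx => by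
      obtain ⟨w, hw, hwx⟩ := Groth.Agent.RGLib.exists_kill_of_injective_prime hgi rr r α h.1 x hx
      exact ⟨w, hWq hw, hwx⟩, hC⟩
  tfae_have 6 → 1 := fun ⟨h, hC⟩ => Groth.Agent.RGLib.flat_of_injective q r α h hC
  tfae_finish

end Groth.Agent.S1205
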