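import Groth.Statements.S0406
import Groth.Agent.RGLib.Harvest

set_option autoImplicit false
universe u
open FlatMor

namespace Groth.Agent.S0406

/-- Raynaud–Gruson, algebra case: a flat finite type algebra over a domain is finitely presented. -/
theorem result {R S : Type u} [CommRing R] [IsDomain R] [CommRing S] [Algebra R S] [Algebra.FiniteType R S] [Module.Flat R S] :
    Algebra.FinitePresentation R S := by
  obtain ⟨n, f, hf, h⟩ := Groth.Agent.RGLib.finitePresentation_of_flat (S := S)
    (Groth.Agent.RGLib.weakAss_finite_of_isDomain R) S
  let P := MvPolynomial (Fin n) R
  letI : Module P S := Module.compHom S f.toRingHom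
  haveI : Module.FinitePresentation P S := h
  let l : P →ₗ[P] S :=
    { toFun := f
      map_add' := map_add f
      map_smul' := fun x y => map_mul f x y }
  have hk : (RingHom.ker f.toRingHom).FG := by
    have := Module.FinitePresentation.fg_ker l hf
    rwa [show LinearMap.ker l = RingHom.ker f.toRingHom from Submodule.ext fun x => Iff.rfl] at this
  exact Algebra.FinitePresentation.of_surjective hf hk

end Groth.Agent.S0406
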