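import Groth.Statements.S1172
import Groth.Agent.RelCurve.Sum
import Groth.Agent.ModPairLib.Quot
-- import your own Groth.Agent.* helpers here

set_option autoImplicit false
open CategoryTheory CategoryTheory.Limits AlgebraicGeometry
universe u
open HilbD

namespace Groth.Agent.S1172

/-- Let f : X ⟶ S be smooth of relative dimension 1 and let D₁ ⊆ D₂ be closed subschemes of X (ideal
sheaves I₂ ≤ I₁) which are finite locally free over S of degrees d₁ and d₂. Then there is a closed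
subscheme D (ideal sheaf I), finite locally free over S of degree d₂ - d₁, with D₂ = D₁ + D, i.e. I₂
= I₁I. -/
theorem result {X S : Scheme.{u}} (f : X ⟶ S) [SmoothOfRelativeDimension 1 f]
    (I₁ I₂ : X.IdealSheafData) (hle : I₂ ≤ I₁) (d₁ d₂ : ℕ) (h₁ : Mor2.IsFinLocFreeOfDeg d₁ (I₁.subschemeι ≫ f))
    (h₂ : Mor2.IsFinLocFreeOfDeg d₂ (I₂.subschemeι ≫ f)) :
    ∃ I : X.IdealSheafData, Mor2.IsFinLocFreeOfDeg (d₂ - d₁) (I.subschemeι ≫ f) ∧ I₂ = I₁ * I := by
  have c₁ := RelCurve.cartier_of_finLocFree f h₁.1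
  have c₂ := RelCurve.cartier_of_finLocFree f h₂.1
  set J := ModPairLib.colon I₂ I₁ (ModPairLib.isLocPrincipal_of_isEffCartier c₁)
  have hmul : J * I₁ = I₂ := ModPairLib.colon_mul c₁ hle
  have cJ : BlowUp.IsEffCartierIdeal J := ModPairLib.isEffCartier_of_mul c₁ (hmul.symm ▸ c₂)
  have hflat : Flat (J.subschemeι ≫ f) :=
    FlatX.flat_cancel f c₁ cJ h₁.1.2.1 h₂.1.2.1 ((mul_comm I₁ J).trans hmul)
  have hleJ : I₂ ≤ J := hmul ▸ RelCurve.mul_le_left J I₁
  haveI : IsClosedImmersion (Scheme.IdealSheafData.inclusion hleJ) := by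
    haveI : IsClosedImmersion (Scheme.IdealSheafData.inclusion hleJ ≫ I₂.subschemeι) := by
      rw [Scheme.IdealSheafData.inclusion_subschemeι]; infer_instance
    exact IsClosedImmersion.of_comp _ I₂.subschemeι
  have hfin : IsFinite (J.subschemeι ≫ f) := by
    haveI := h₂.1.1
    rw [← Scheme.IdealSheafData.inclusion_subschemeι hleJ, Category.assoc]
    infer_instance
  have hJ : Mor2.IsFinLocFree (J.subschemeι ≫ f) :=
    ⟨hfin, hflat, (RelCurve.lqf_lfp_of_cartier f cJ hflat).2⟩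
  refine ⟨J, ⟨hJ, fun y => ?_⟩, ((mul_comm I₁ J).trans hmul).symm⟩
  have hy := (RelCurve.add_pointwise f hJ h₁.1).2 y
  have h2 : ((J * I₁).subschemeι ≫ f).finrank y = d₂ := hmul.symm ▸ h₂.2 y
  have := h₁.2 y
  omega

end Groth.Agent.S1172
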