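import Groth.Statements.S1766
import Groth.Agent.PerfGen7.BrownDQCoh

set_option autoImplicit false
universe u
open CategoryTheory AlgebraicGeometry
attribute [local instance] HasDerivedCategory.standard
open Dual

namespace Groth.Agent.S1766

/-- Let f : X → Y be a morphism between schemes which are quasi-compact and quasi-separated. Assume the
total derived direct image Rf_* on D(O_X) exists and maps complexes with quasi-coherent cohomology
sheaves to such complexes (both are theorems). Then the induced functor Rf_* : D_QCoh(O_X) →
D_QCoh(O_Y) is a left adjoint, i.e. it has a right adjoint (the twisted inverse image). -/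
theorem result (X Y : Scheme.{u}) [CompactSpace X] [QuasiSeparatedSpace X] [CompactSpace Y] [QuasiSeparatedSpace Y] (f : X ⟶ Y) [DCoh.HasRpush f] (h : ∀ K : DCoh.D X, DCoh.IsQCohD K → DCoh.IsQCohD ((DCoh.Rpush f).obj K)) : (ObjectProperty.lift DCoh.IsQCohD (ObjectProperty.ι DCoh.IsQCohD ⋙ DCoh.Rpush f) (fun K => h K.obj K.property)).IsLeftAdjoint := by
  refine Groth.Agent.PerfGen7.Brown.isLeftAdjoint_of_rep _ fun N => ?_
  obtain ⟨L, x, hL, hb⟩ := Groth.Agent.PerfGen7.exists_rep_rpush f N.obj
  refine ⟨⟨L, hL⟩, ObjectProperty.homMk x, fun A => ?_⟩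
  refine (Function.Bijective.of_comp_iff' ((ObjectProperty.fullyFaithfulι _).homEquiv).bijective _).1 ?_
  exact (hb A.obj A.property).comp ((ObjectProperty.fullyFaithfulι _).homEquiv).bijective

end Groth.Agent.S1766
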