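import Groth.Statements.S0362
import Mathlib

set_option autoImplicit false
universe u v
open CategoryTheory
open Dual

namespace Groth.Agent.S0362


open IsLocalRing

variable {A : Type u} [CommRing A]

/-- A linear map as a morphism of modules of finite length. -/
def mkHom {M N : Dual.FinLen A} (f : M.obj →ₗ[A] N.obj) : M ⟶ N :=
  CategoryTheory.ObjectProperty.homMk (ModuleCat.ofHom f)

lemma hom_ext' {M N : Dual.FinLen A} {f g : M ⟶ N}
    (h : ∀ x, f.hom.hom x = g.hom.hom x) : f = g := by
  ext x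
  exact h x

lemma smul_eq_zero_iff_hom (M : Dual.FinLen A) (a : A) :
    a • 𝟙 M = 0 ↔ ∀ x : M.obj, a • x = 0 :=
  ⟨fun h x => congrArg (fun f : M ⟶ M => f.hom.hom x) h, fun h => hom_ext' h⟩

lemma ann_iff {B : Type u} [CommRing B] (F : Dual.FinLen B ⥤ Dual.FinLen B) [F.Faithful]
    [F.Additive] [F.Linear B] (M : Dual.FinLen B) (a : B) :
    (∀ x : (F.obj M).obj, a • x = 0) ↔ ∀ x : M.obj, a • x = 0 := by
  rw [← smul_eq_zero_iff_hom, ← smul_eq_zero_iff_hom, ← F.map_id, ← F.map_smul,
    F.map_eq_zero_iff]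

lemma surjective_of_epi {M N : Dual.FinLen A} (f : M ⟶ N) [CategoryTheory.Epi f] :
    Function.Surjective f.hom.hom := by
  have : IsFiniteLength A N.obj := N.property
  rw [← LinearMap.range_eq_top]
  have hQ : IsFiniteLength A (N.obj ⧸ LinearMap.range f.hom.hom) := by
    rw [isFiniteLength_iff_isNoetherian_isArtinian] at this ⊢
    obtain ⟨_, _⟩ := this
    exact ⟨inferInstance, inferInstance⟩
  let Q : Dual.FinLen A := ⟨ModuleCat.of A (N.obj ⧸ LinearMap.range f.hom.hom), hQ⟩
  have h : mkHom (N := Q) (LinearMap.range f.hom.hom).mkQ = 0 := by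
    rw [← CategoryTheory.cancel_epi f, CategoryTheory.Limits.comp_zero]
    exact hom_ext' fun x => (Submodule.Quotient.mk_eq_zero _).2 ⟨x, rfl⟩
  rw [eq_top_iff]
  rintro y -
  exact (Submodule.Quotient.mk_eq_zero _).1 (congrArg (fun g : N ⟶ Q => g.hom.hom y) h)

variable (A) [IsLocalRing A] [IsNoetherianRing A]

lemma isFiniteLength_quot (n : ℕ) : IsFiniteLength A (A ⧸ maximalIdeal A ^ n) := by
  induction n with
  | zero =>
    have : Subsingleton (A ⧸ maximalIdeal A ^ 0) :=
      Submodule.Quotient.subsingleton_iff.2 (by simp)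
    exact IsFiniteLength.of_subsingleton
  | succ n ih =>
    let p : (A ⧸ maximalIdeal A ^ (n + 1)) →ₗ[A] A ⧸ maximalIdeal A ^ n :=
      Submodule.mapQ _ _ LinearMap.id (Ideal.pow_le_pow_right (Nat.le_succ n))
    have hker : IsFiniteLength A (LinearMap.ker p) := by
      have htor : Module.IsTorsionBySet A (LinearMap.ker p) (maximalIdeal A : Set A) := by
        rintro ⟨x, hx⟩ ⟨a, ha⟩
        obtain ⟨r, rfl⟩ := Submodule.Quotient.mk_surjective _ x
        have hr : r ∈ maximalIdeal A ^ n := (Submodule.Quotient.mk_eq_zero _).1 hx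
        refine Subtype.ext ((Submodule.Quotient.mk_eq_zero _).2 ?_)
        rw [pow_succ']
        exact Ideal.mul_mem_mul ha hr
      letI : Field (A ⧸ maximalIdeal A) := Ideal.Quotient.field _
      letI := htor.module
      have : IsScalarTower A (A ⧸ maximalIdeal A) (LinearMap.ker p) := htor.isScalarTower
      have : Module.Finite (A ⧸ maximalIdeal A) (LinearMap.ker p) :=
        Module.Finite.of_restrictScalars_finite A _ _
      rw [isFiniteLength_iff_isNoetherian_isArtinian]
      refine ⟨inferInstance, ?_⟩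
      exact isArtinian_of_surjective_algebraMap (R := A ⧸ maximalIdeal A) Ideal.Quotient.mk_surjective
    rw [isFiniteLength_iff_isNoetherian_isArtinian] at ih hker ⊢
    obtain ⟨_, _⟩ := ih
    obtain ⟨_, _⟩ := hker
    exact ⟨inferInstance, isArtinian_of_range_eq_ker (LinearMap.ker p).subtype p (Submodule.range_subtype _)⟩

/-- `A ⧸ 𝔪 ^ (n + 1)`. -/
noncomputable def An (n : ℕ) : Dual.FinLen A :=
  ⟨ModuleCat.of A (A ⧸ maximalIdeal A ^ (n + 1)), isFiniteLength_quot A (n + 1)⟩

variable {A}

lemma exists_pow (M : Dual.FinLen A) :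
    ∃ n, ∀ a ∈ maximalIdeal A ^ (n + 1), ∀ x : M.obj, a • x = 0 := by
  have := M.property
  rw [isFiniteLength_iff_isNoetherian_isArtinian] at this
  obtain ⟨_, _⟩ := this
  obtain ⟨n, hn⟩ := IsArtinian.monotone_stabilizes (R := A) (M := M.obj)
    ⟨fun k => OrderDual.toDual ((maximalIdeal A ^ k) • (⊤ : Submodule A M.obj)),
      fun k l hkl => Submodule.smul_mono_left (Ideal.pow_le_pow_right hkl)⟩
  have h0 : (maximalIdeal A ^ n) • (⊤ : Submodule A M.obj) = ⊥ := by
    refine Submodule.eq_bot_of_le_smul_of_le_jacobson_bot (maximalIdeal A) _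
      (IsNoetherian.noetherian _) ?_ (IsLocalRing.jacobson_eq_maximalIdeal ⊥ bot_ne_top).ge
    rw [← Submodule.mul_smul, ← pow_succ']
    exact (hn (n + 1) (Nat.le_succ n)).ge
  refine ⟨n, fun a ha x => ?_⟩
  have := Submodule.smul_mem_smul (Ideal.pow_le_pow_right (Nat.le_succ n) ha)
    (Submodule.mem_top (x := x))
  rwa [h0, Submodule.mem_bot] at this

/-- The morphism `A ⧸ 𝔪 ^ (n + 1) ⟶ M` attached to an element. -/
noncomputable def ev {n : ℕ} {M : Dual.FinLen A}
    (h : ∀ a ∈ maximalIdeal A ^ (n + 1), ∀ x : M.obj, a • x = 0) (x : M.obj) : An A n ⟶ M :=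
  mkHom (M := An A n) (Submodule.liftQ _ (LinearMap.toSpanSingleton A M.obj x) (fun a ha => h a ha x))

lemma ev_one {n : ℕ} {M : Dual.FinLen A}
    (h : ∀ a ∈ maximalIdeal A ^ (n + 1), ∀ x : M.obj, a • x = 0) (x : M.obj) :
    (ev h x).hom.hom (Submodule.Quotient.mk 1) = x :=
  (Submodule.liftQ_apply _ _ (1 : A)).trans (one_smul A x)

lemma hom_An_ext {n : ℕ} {M : Dual.FinLen A} {f g : An A n ⟶ M}
    (h : f.hom.hom (Submodule.Quotient.mk 1) = g.hom.hom (Submodule.Quotient.mk 1)) : f = g := by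
  refine hom_ext' fun y => ?_
  obtain ⟨a, rfl⟩ := Submodule.Quotient.mk_surjective _ y
  have : (Submodule.Quotient.mk a : A ⧸ maximalIdeal A ^ (n + 1)) = a • Submodule.Quotient.mk 1 :=
    (congrArg Submodule.Quotient.mk (mul_one a).symm).trans (Submodule.Quotient.mk_smul _ a (1 : A))
  change f.hom.hom (Submodule.Quotient.mk a : A ⧸ maximalIdeal A ^ (n + 1)) = g.hom.hom _
  rw [this]
  exact ((f.hom.hom.map_smul a _).trans (congrArg (a • ·) h)).trans (g.hom.hom.map_smul a _).symm

variable (F : Dual.FinLen A ≌ Dual.FinLen A) [F.functor.Additive] [F.functor.Linear A]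

lemma kills_F {n : ℕ} {M : Dual.FinLen A}
    (h : ∀ a ∈ maximalIdeal A ^ (n + 1), ∀ x : M.obj, a • x = 0) :
    ∀ a ∈ maximalIdeal A ^ (n + 1), ∀ x : (F.functor.obj M).obj, a • x = 0 :=
  fun a ha => (ann_iff F.functor M a).2 (h a ha)

lemma kills_An (n : ℕ) : ∀ a ∈ maximalIdeal A ^ (n + 1), ∀ x : (An A n).obj, a • x = 0 := by
  intro a ha x
  obtain ⟨r, rfl⟩ := Submodule.Quotient.mk_surjective _ x
  exact (Submodule.Quotient.mk_eq_zero _).2 (Ideal.mul_mem_right _ _ ha)

lemma exists_generator (n : ℕ) :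
    ∃ g : (F.functor.obj (An A n)).obj, ∀ y, ∃ a : A, a • g = y := by
  classical
  let M := (F.functor.obj (An A n)).obj
  have hfl := (F.functor.obj (An A n)).property
  have hnoe : IsNoetherian A M := (isFiniteLength_iff_isNoetherian_isArtinian.1 hfl).1
  let P : Submodule A M := maximalIdeal A • ⊤
  have hQ : IsFiniteLength A (M ⧸ P) := by
    rw [isFiniteLength_iff_isNoetherian_isArtinian] at hfl ⊢
    obtain ⟨_, _⟩ := hfl
    exact ⟨inferInstance, inferInstance⟩
  let Q : Dual.FinLen A := ⟨ModuleCat.of A (M ⧸ P), hQ⟩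
  let π : F.functor.obj (An A n) ⟶ Q := mkHom (N := Q) P.mkQ
  have : CategoryTheory.Epi π := CategoryTheory.Functor.epi_of_epi_map
    (CategoryTheory.ObjectProperty.ι _) ((ModuleCat.epi_iff_surjective _).2 P.mkQ_surjective)
  let Q' := F.inverse.obj Q
  let π' : An A n ⟶ Q' := F.unitIso.hom.app _ ≫ F.inverse.map π
  have : CategoryTheory.IsIso (F.unitIso.hom.app (An A n)) := (F.unitIso.app (An A n)).isIso_hom
  have hπe : CategoryTheory.Epi (F.inverse.map π) := inferInstance
  have : CategoryTheory.Epi π' :=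
    @CategoryTheory.epi_comp _ _ _ _ _ _ (@CategoryTheory.IsIso.epi_of_iso _ _ _ _ _ this) _ hπe
  have hπ' := surjective_of_epi π'
  have hcyc : ∀ f : Q' ⟶ Q', ∃ a : A, f = a • 𝟙 Q' := by
    intro f
    obtain ⟨y, hy⟩ := hπ' (f.hom.hom (π'.hom.hom (Submodule.Quotient.mk 1)))
    obtain ⟨a, rfl⟩ := Submodule.Quotient.mk_surjective _ y
    refine ⟨a, (CategoryTheory.cancel_epi π').1 (hom_An_ext ?_)⟩
    change f.hom.hom (π'.hom.hom _) = a • π'.hom.hom _
    rw [← hy, ← LinearMap.map_smul]
    exact congrArg π'.hom.hom ((congrArg Submodule.Quotient.mk (mul_one a).symm).trans (Submodule.Quotient.mk_smul _ a (1 : A)))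
  have hscal : ∀ f : Q ⟶ Q, ∃ a : A, f = a • 𝟙 Q := by
    intro f
    let e := F.counitIso.app Q
    obtain ⟨u, hu⟩ := F.functor.map_surjective (e.hom ≫ f ≫ e.inv)
    obtain ⟨a, rfl⟩ := hcyc u
    refine ⟨a, ?_⟩
    rw [F.functor.map_smul, F.functor.map_id] at hu
    rw [← CategoryTheory.cancel_epi e.hom, ← CategoryTheory.cancel_mono e.inv, Category.assoc, ← hu]
    simp [Q']
  have htor : Module.IsTorsionBySet A (M ⧸ P) (maximalIdeal A : Set A) := by
    rintro x ⟨a, ha⟩
    obtain ⟨y, rfl⟩ := Submodule.Quotient.mk_surjective _ x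
    exact (Submodule.Quotient.mk_eq_zero _).2 (Submodule.smul_mem_smul ha Submodule.mem_top)
  letI : Field (A ⧸ maximalIdeal A) := Ideal.Quotient.field _
  letI := htor.module
  have : IsScalarTower A (A ⧸ maximalIdeal A) (M ⧸ P) := htor.isScalarTower
  obtain ⟨g, hg⟩ : ∃ g : M, ∀ y : M ⧸ P, ∃ a : A, a • Submodule.Quotient.mk g = y := by
    rcases subsingleton_or_nontrivial (M ⧸ P) with h | h
    · exact ⟨0, fun y => ⟨0, Subsingleton.elim _ _⟩⟩
    obtain ⟨x, hx⟩ := exists_ne (0 : M ⧸ P)
    obtain ⟨g, rfl⟩ := Submodule.Quotient.mk_surjective _ x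
    obtain ⟨r, hr⟩ := LinearMap.exists_leftInverse_of_injective
      (LinearMap.toSpanSingleton (A ⧸ maximalIdeal A) (M ⧸ P) (Submodule.Quotient.mk g))
      (LinearMap.ker_toSpanSingleton (R := A ⧸ maximalIdeal A) hx)
    let f : Q ⟶ Q := mkHom (M := Q) (N := Q)
      (((LinearMap.toSpanSingleton (A ⧸ maximalIdeal A) (M ⧸ P) (Submodule.Quotient.mk g)).comp
        r).restrictScalars A)
    obtain ⟨a, ha⟩ := hscal f
    have happ : ∀ z : M ⧸ P, r z • (Submodule.Quotient.mk g : M ⧸ P) = a • z :=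
      fun z => congrArg (fun k : Q ⟶ Q => k.hom.hom z) ha
    refine ⟨g, fun y => ?_⟩
    have h1 := happ (Submodule.Quotient.mk g)
    have hr1 : r (Submodule.Quotient.mk g) = 1 := by
      simpa using LinearMap.congr_fun hr 1
    rw [hr1, one_smul] at h1
    have hau : IsUnit a := IsLocalRing.notMem_maximalIdeal.1 fun ham => hx (by
      rw [h1]; exact @htor (Submodule.Quotient.mk g) ⟨a, ham⟩)
    obtain ⟨u, hu⟩ := hau
    obtain ⟨b, hb⟩ := Ideal.Quotient.mk_surjective (r y)
    refine ⟨↑u⁻¹ * b, ?_⟩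
    have h2 := happ y
    rw [← hb] at h2
    change b • (Submodule.Quotient.mk g : M ⧸ P) = a • y at h2
    rw [mul_smul, h2, smul_smul, ← hu, Units.inv_mul, one_smul]
  refine ⟨g, fun y => ?_⟩
  have hsup : (⊤ : Submodule A M) ≤ Submodule.span A {g} ⊔ maximalIdeal A • ⊤ := by
    rintro z -
    obtain ⟨a, ha⟩ := hg (Submodule.Quotient.mk z)
    refine Submodule.mem_sup.2 ⟨a • g, Submodule.smul_mem _ _ (Submodule.mem_span_singleton_self g),
      z - a • g, ?_, by abel⟩
    rw [← Submodule.Quotient.mk_eq_zero P, Submodule.Quotient.mk_sub, Submodule.Quotient.mk_smul,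
      ha, sub_self]
  have := Submodule.le_of_le_smul_of_le_jacobson_bot (IsNoetherian.noetherian _)
    (IsLocalRing.jacobson_eq_maximalIdeal ⊥ bot_ne_top).ge hsup
  exact Submodule.mem_span_singleton.1 (this (Submodule.mem_top (x := y)))

/-- The projection `A ⧸ 𝔪 ^ (n + 2) ⟶ A ⧸ 𝔪 ^ (n + 1)`. -/
noncomputable def tr (n : ℕ) : An A (n + 1) ⟶ An A n :=
  ev (fun a ha => kills_An n a (Ideal.pow_le_pow_right (Nat.le_succ _) ha)) (Submodule.Quotient.mk 1)

instance (n : ℕ) : CategoryTheory.Epi (tr (A := A) n) :=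
  CategoryTheory.Functor.epi_of_epi_map (CategoryTheory.ObjectProperty.ι _)
    ((ModuleCat.epi_iff_surjective _).2 fun y => by
      obtain ⟨r, rfl⟩ := Submodule.Quotient.mk_surjective _ y
      exact ⟨Submodule.Quotient.mk r, (Submodule.liftQ_apply _ _ r).trans
        ((Submodule.Quotient.mk_smul _ r (1 : A)).symm.trans (by rw [smul_eq_mul, mul_one]))⟩)

lemma exists_gens : ∃ g : ∀ n, (F.functor.obj (An A n)).obj,
    (∀ n y, ∃ a : A, a • g n = y) ∧ ∀ n, (F.functor.map (tr n)).hom.hom (g (n + 1)) = g n := by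
  classical
  have hne : ∀ (n : ℕ) (g : (F.functor.obj (An A n)).obj), (∀ y, ∃ a : A, a • g = y) →
      ∀ a : A, a • g = g → IsUnit a := by
    intro n g hg a ha
    by_contra h
    have hu : IsUnit (1 - a) := (IsLocalRing.isUnit_or_isUnit_one_sub_self a).resolve_left h
    have h0 : g = 0 := hu.smul_eq_zero.1 (by rw [sub_smul, one_smul, ha, sub_self])
    have h1 : ∀ y : (F.functor.obj (An A n)).obj, (1 : A) • y = 0 := fun y => by
      obtain ⟨b, rfl⟩ := hg y
      rw [h0, smul_zero, smul_zero]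
    have h2 := (ann_iff F.functor (An A n) 1).1 h1 (Submodule.Quotient.mk 1)
    rw [one_smul] at h2
    have := (Submodule.Quotient.mk_eq_zero _).1 h2
    exact (maximalIdeal.isMaximal A).ne_top ((Ideal.eq_top_iff_one _).2
      (Ideal.pow_le_self (by omega) this))
  have step : ∀ n (g : {g : (F.functor.obj (An A n)).obj // ∀ y, ∃ a : A, a • g = y}),
      ∃ g' : {g : (F.functor.obj (An A (n + 1))).obj // ∀ y, ∃ a : A, a • g = y},
        (F.functor.map (tr n)).hom.hom g'.1 = g.1 := by
    rintro n ⟨g, hg⟩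
    obtain ⟨g', hg'⟩ := exists_generator F (n + 1)
    obtain ⟨x, hx⟩ := surjective_of_epi (F.functor.map (tr n)) g
    obtain ⟨a, rfl⟩ := hg' x
    obtain ⟨b, hb⟩ := hg ((F.functor.map (tr n)).hom.hom g')
    have hu : IsUnit (a * b) := hne n g hg _ (by rw [mul_smul, hb, ← hx, LinearMap.map_smul])
    obtain ⟨u, hu⟩ := isUnit_of_mul_isUnit_left hu
    refine ⟨⟨(a • g' : (F.functor.obj (An A (n + 1))).obj), fun y => ?_⟩, hx⟩
    obtain ⟨c, rfl⟩ := hg' y
    exact ⟨c * ↑u⁻¹, by rw [mul_smul, ← hu, smul_smul (↑u⁻¹ : A), Units.inv_mul, one_smul]⟩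
  choose s hs using step
  let g : ∀ n, {g : (F.functor.obj (An A n)).obj // ∀ y, ∃ a : A, a • g = y} := fun n =>
    Nat.rec ⟨(exists_generator F 0).choose, (exists_generator F 0).choose_spec⟩ s n
  exact ⟨fun n => (g n).1, fun n => (g n).2, fun n => hs n (g n)⟩


/-- Over a Noetherian local ring A, an additive A-linear equivalence from the category of finite length
A-modules to itself is naturally isomorphic to the identity. -/
theorem result (A : Type u) [CommRing A] [IsLocalRing A] [IsNoetherianRing A] (F : Dual.FinLen A ≌ Dual.FinLen A) [F.functor.Additive] [F.functor.Linear A] : Nonempty (F.functor ≅ 𝟭 (Dual.FinLen A)) := by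
  classical
  obtain ⟨g, hgen, hcomp⟩ := exists_gens F
  choose N hN using exists_pow (A := A)
  let η₀ : ∀ (M : Dual.FinLen A) (n : ℕ)
      (_ : ∀ a ∈ IsLocalRing.maximalIdeal A ^ (n + 1), ∀ x : M.obj, a • x = 0),
      M.obj → (F.functor.obj M).obj := fun M n h x => (F.functor.map (ev h x)).hom.hom (g n)
  have hind : ∀ (M : Dual.FinLen A) (n m : ℕ), n ≤ m → ∀ hn hm x, η₀ M m hm x = η₀ M n hn x := by
    intro M n m hnm
    induction m, hnm using Nat.le_induction with
    | base => exact fun _ _ _ => rfl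
    | succ m hnm ih =>
      intro hn hm x
      have hm' : ∀ a ∈ IsLocalRing.maximalIdeal A ^ (m + 1), ∀ x : M.obj, a • x = 0 :=
        fun a ha => hn a (Ideal.pow_le_pow_right (by omega) ha)
      have he : ev hm x = tr m ≫ ev hm' x := hom_An_ext (by
        rw [ev_one]
        exact ((congrArg (ev hm' x).hom.hom (ev_one (fun a ha => kills_An m a (Ideal.pow_le_pow_right (Nat.le_succ _) ha)) _)).trans (ev_one _ _)).symm)
      rw [← ih hn hm' x]
      change (F.functor.map (ev hm x)).hom.hom (g (m + 1)) = _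
      rw [he, F.functor.map_comp]
      exact congrArg (F.functor.map (ev hm' x)).hom.hom (hcomp m)
  have hagree : ∀ (M : Dual.FinLen A) n m hn hm x, η₀ M m hm x = η₀ M n hn x := fun M n m hn hm x => by
    rcases le_total n m with h | h
    · exact hind M n m h hn hm x
    · exact (hind M m n h hm hn x).symm
  have hadd : ∀ (M : Dual.FinLen A) n hn x y,
      η₀ M n hn (x + y) = η₀ M n hn x + η₀ M n hn y := fun M n hn x y => by
    have he : ev hn (x + y) = ev hn x + ev hn y := hom_An_ext (by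
      rw [ev_one]
      exact ((congrArg₂ (· + ·) (ev_one hn x) (ev_one hn y))).symm)
    change (F.functor.map (ev hn (x + y))).hom.hom (g n) = _
    rw [he, F.functor.map_add]
    rfl
  have hsmul : ∀ (M : Dual.FinLen A) n hn (a : A) x,
      η₀ M n hn (a • x) = a • η₀ M n hn x := fun M n hn a x => by
    have he : ev hn (a • x) = a • ev hn x := hom_An_ext (by
      rw [ev_one]
      exact (congrArg (a • ·) (ev_one hn x)).symm)
    change (F.functor.map (ev hn (a • x))).hom.hom (g n) = _
    rw [he, F.functor.map_smul]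
    rfl
  have hbij : ∀ (M : Dual.FinLen A) n hn, Function.Bijective (η₀ M n hn) := by
    intro M n hn
    refine ⟨fun x y h => ?_, fun z => ?_⟩
    · have : F.functor.map (ev hn x) = F.functor.map (ev hn y) := hom_ext' fun w => by
        obtain ⟨a, rfl⟩ := hgen n w
        rw [LinearMap.map_smul, LinearMap.map_smul]
        exact congrArg (a • ·) h
      have h' := congrArg (fun f : An A n ⟶ M => f.hom.hom (Submodule.Quotient.mk 1))
        (F.functor.map_injective this)
      simpa only [ev_one] using h'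
    · let ψ : A →ₗ[A] (F.functor.obj (An A n)).obj := LinearMap.toSpanSingleton A _ (g n)
      have hψ : Function.Surjective ψ := fun y => hgen n y
      have hker : LinearMap.ker ψ ≤ LinearMap.ker (LinearMap.toSpanSingleton A _ z) := by
        intro a ha
        have h1 : ∀ y : (F.functor.obj (An A n)).obj, a • y = 0 := fun y => by
          obtain ⟨b, rfl⟩ := hgen n y
          rw [smul_comm, show a • g n = 0 from ha, smul_zero]
        have h2 := (ann_iff F.functor (An A n) a).1 h1 (Submodule.Quotient.mk 1)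
        refine (kills_F F hn) a ?_ z
        have := (Submodule.Quotient.mk_eq_zero _).1 ((Submodule.Quotient.mk_smul _ a (1 : A)).trans h2)
        simpa using this
      let e := ψ.quotKerEquivOfSurjective hψ
      let φ : F.functor.obj (An A n) ⟶ F.functor.obj M := mkHom
        ((Submodule.liftQ _ (LinearMap.toSpanSingleton A _ z) hker).comp e.symm.toLinearMap)
      obtain ⟨f, hf⟩ := F.functor.map_surjective φ
      refine ⟨f.hom.hom (Submodule.Quotient.mk 1), ?_⟩
      have he : ev hn (f.hom.hom (Submodule.Quotient.mk 1)) = f := hom_An_ext (ev_one _ _)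
      change (F.functor.map (ev hn (f.hom.hom (Submodule.Quotient.mk 1)))).hom.hom (g n) = z
      rw [he, hf]
      have h1 : e.symm (g n) = Submodule.Quotient.mk 1 := by
        rw [LinearEquiv.symm_apply_eq]
        exact (one_smul A (g n)).symm
      exact (congrArg (Submodule.liftQ _ (LinearMap.toSpanSingleton A _ z) hker) h1).trans
        ((Submodule.liftQ_apply _ _ (1 : A)).trans (one_smul A z))
  let E : ∀ M : Dual.FinLen A, M.obj ≃ₗ[A] (F.functor.obj M).obj := fun M =>
    LinearEquiv.ofBijective { toFun := η₀ M (N M) (hN M)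
                              map_add' := hadd M _ (hN M)
                              map_smul' := hsmul M _ (hN M) } (hbij M _ (hN M))
  refine ⟨(NatIso.ofComponents (fun M => ObjectProperty.isoMk _ (E M).toModuleIso)
    fun {M M'} f => hom_ext' fun x => ?_).symm⟩
  change η₀ M' (N M') (hN M') (f.hom.hom x) =
    (F.functor.map f).hom.hom (η₀ M (N M) (hN M) x)
  have hn : ∀ (L : Dual.FinLen A), N L ≤ max (N M) (N M') →
      ∀ a ∈ IsLocalRing.maximalIdeal A ^ (max (N M) (N M') + 1), ∀ x : L.obj, a • x = 0 :=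
    fun L h a ha => hN L a (Ideal.pow_le_pow_right (by omega) ha)
  rw [hagree M' _ _ (hn M' (le_max_right _ _)) (hN M'),
    hagree M _ _ (hn M (le_max_left _ _)) (hN M)]
  have he : ev (hn M' (le_max_right _ _)) (f.hom.hom x) = ev (hn M (le_max_left _ _)) x ≫ f :=
    hom_An_ext (by
      rw [ev_one]
      exact (congrArg f.hom.hom (ev_one _ _)).symm)
  change (F.functor.map (ev (hn M' (le_max_right _ _)) (f.hom.hom x))).hom.hom _ = _
  rw [he, F.functor.map_comp]
  rfl

end Groth.Agent.S0362
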