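import Groth.Statements.S0369
import Groth.Agent.PerfGen7.DualizingS2

set_option autoImplicit false
universe u v
open CategoryTheory
attribute [local instance] HasDerivedCategory.standard
open Dual

namespace Groth.Agent.S0369

/-- For a Noetherian local ring of dimension d with normalized dualizing complex ω, the module ω_A =
H^{−d}(ω) has support equal to the union of those irreducible components of Spec A whose dimension
is d, and satisfies Serre's condition (S_2). -/
theorem result (A : Type u) [CommRing A] [IsLocalRing A] [IsNoetherianRing A] (ω : Dual.D A) (hω : Dual.IsDualizing A ω) (hn : Dual.IsNormalized A ω) (d : ℕ) (hd : ringKrullDim A = d) : Module.support A (Dual.HD A ω (-(d : ℤ))) = {p : PrimeSpectrum A | ∃ q ∈ minimalPrimes A, q ≤ p.asIdeal ∧ ringKrullDim (A ⧸ q) = d} ∧ LocCoh.HasSk 2 A (Dual.HD A ω (-(d : ℤ))) := by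
  obtain ⟨n, hn', -, hmono, hle, hdim⟩ := Groth.Agent.KFlatLib.exists_normalized_degree hω hn
  obtain ⟨a, b, -, _, _⟩ := Groth.Agent.KFlatLib.exists_bounds_of_isDualizing hω
  obtain ⟨eW⟩ := Groth.Agent.KFlatLib.exists_homRingLEquiv ω (-(d : ℤ))
  have hlb : ∀ p : PrimeSpectrum A, -(d : ℤ) ≤ n p := fun p => by
    obtain ⟨e, he, he'⟩ := hdim p
    have : e ≤ d := by
      have h1 := ringKrullDim_quotient_le p.asIdeal
      rw [he, hd] at h1
      exact_mod_cast h1
    omega
  have hsupp : ∀ p : PrimeSpectrum A, p ∈ Module.support A (Dual.HD A ω (-(d : ℤ))) →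
      ∃ h : ℕ, ringKrullDim (Localization.AtPrime p.asIdeal) = h ∧ -(d : ℤ) = n p - h ∧
        ∃ ω' : Dual.D (Localization.AtPrime p.asIdeal), Dual.IsDualizing (Localization.AtPrime p.asIdeal) ω' ∧
          Dual.IsNormalized (Localization.AtPrime p.asIdeal) ω' ∧
          Nonempty ((Dual.inD (Localization.AtPrime p.asIdeal) (Localization.AtPrime p.asIdeal) ⟶ ω'⟦-(h : ℤ)⟧) ≃ₗ[Localization.AtPrime p.asIdeal]
            LocalizedModule p.asIdeal.primeCompl (Dual.HD A ω (-(d : ℤ)))) := by
    intro p hp
    obtain ⟨ω', h1, h2, h3⟩ := Groth.Agent.PerfGen7.LocalizeDual.exists_local hω hn' p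
    haveI : IsNoetherianRing (Localization.AtPrime p.asIdeal) :=
      IsLocalization.isNoetherianRing p.asIdeal.primeCompl _ inferInstance
    obtain ⟨h, hh⟩ := Groth.Agent.PerfGen7.LocalizeDual.exists_supportDim_eq (B := Localization.AtPrime p.asIdeal) (Localization.AtPrime p.asIdeal)
    obtain ⟨c⟩ := h3 A (-(d : ℤ) - n p)
    rw [show n p + (-(d : ℤ) - n p) = -(d : ℤ) by omega] at c
    let c1 := (Linear.homCongr (Localization.AtPrime p.asIdeal)
      ((DerivedCategory.singleFunctor (ModuleCat.{u} (Localization.AtPrime p.asIdeal)) 0).mapIso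
        (Groth.Agent.LC.selfLoc p.asIdeal.primeCompl).toModuleIso)
      (Iso.refl (ω'⟦-(d : ℤ) - n p⟧))).symm.trans c
    let c2 : LocalizedModule p.asIdeal.primeCompl (Dual.inD A A ⟶ ω⟦-(d : ℤ)⟧) ≃ₗ[Localization.AtPrime p.asIdeal]
        LocalizedModule p.asIdeal.primeCompl (Dual.HD A ω (-(d : ℤ))) :=
      LinearEquiv.ofBijective (LocalizedModule.map p.asIdeal.primeCompl eW.toLinearMap)
        ⟨LocalizedModule.map_injective _ _ eW.injective, LocalizedModule.map_surjective _ _ eW.surjective⟩
    have hnt : Nontrivial (LocalizedModule p.asIdeal.primeCompl (Dual.HD A ω (-(d : ℤ)))) := Module.mem_support_iff.1 hp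
    haveI : Nontrivial (Dual.inD (Localization.AtPrime p.asIdeal) (Localization.AtPrime p.asIdeal) ⟶ ω'⟦-(d : ℤ) - n p⟧) :=
      (c1.trans c2).toEquiv.nontrivial
    have hge := ((Groth.Agent.KFlatLib.ext_amplitude_and_support h1 h2 (Localization.AtPrime p.asIdeal) h hh (-(d : ℤ) - n p)).1 inferInstance).1
    rw [Module.supportDim_self_eq_ringKrullDim] at hh
    have hle2 : (h : ℤ) ≤ n p + d := by
      obtain ⟨s, hs, hlen⟩ := Order.exists_series_of_le_height p (n := h) (by
        have h4 : ringKrullDim (Localization.AtPrime p.asIdeal) = ((Order.height p : ℕ∞) : WithBot ℕ∞) := by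
          rw [IsLocalization.AtPrime.ringKrullDim_eq_height p.asIdeal (Localization.AtPrime p.asIdeal), PrimeSpectrum.height_eq_orderHeight]
        rw [hh] at h4
        exact_mod_cast h4.le)
      have h5 : ∀ k : ℕ, ∀ hk : k < s.length + 1, n (s 0) + k ≤ n (s ⟨k, hk⟩) := by
        intro k
        induction k with
        | zero => intro hk; simp
        | succ k ih =>
          intro hk
          have h6 := ih (by omega)
          have h7 := hmono (s.step ⟨k, by omega⟩)
          simp only [Fin.castSucc_mk, Fin.succ_mk] at h7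
          push_cast
          omega
      have h8 := h5 s.length (by omega)
      have h9 : n (s ⟨s.length, by omega⟩) = n p := congrArg n hs
      have := hlb (s 0)
      omega
    refine ⟨h, hh, by omega, ω', h1, h2, ⟨?_⟩⟩
    rw [show (-(h : ℤ)) = -(d : ℤ) - n p by omega]
    exact c1.trans c2
  refine ⟨?_, ?_⟩
  · ext p
    constructor
    · intro hp
      obtain ⟨h, hh, heq, -⟩ := hsupp p hp
      obtain ⟨s, hs, hlen⟩ := Order.exists_series_of_le_height p (n := h) (by
        have h4 : ringKrullDim (Localization.AtPrime p.asIdeal) = ((Order.height p : ℕ∞) : WithBot ℕ∞) := by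
          rw [IsLocalization.AtPrime.ringKrullDim_eq_height p.asIdeal (Localization.AtPrime p.asIdeal), PrimeSpectrum.height_eq_orderHeight]
        rw [hh] at h4
        exact_mod_cast h4.le)
      obtain ⟨q, hq, hqs⟩ := Ideal.exists_minimalPrimes_le (J := (s 0).asIdeal) (I := (⊥ : Ideal A)) bot_le
      refine ⟨q, hq, hqs.trans (hs ▸ s.monotone (Fin.le_last 0) : (s 0).asIdeal ≤ p.asIdeal), ?_⟩
      haveI := hq.1.1
      let Q : PrimeSpectrum A := ⟨q, hq.1.1⟩
      obtain ⟨e, he, he'⟩ := hdim Q
      have h5 : ∀ k : ℕ, ∀ hk : k < s.length + 1, n (s 0) + k ≤ n (s ⟨k, hk⟩) := by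
        intro k
        induction k with
        | zero => intro hk; simp
        | succ k ih =>
          intro hk
          have h6 := ih (by omega)
          have h7 := hmono (s.step ⟨k, by omega⟩)
          simp only [Fin.castSucc_mk, Fin.succ_mk] at h7
          push_cast
          omega
      have h8 := h5 s.length (by omega)
      have h9 : n (s ⟨s.length, by omega⟩) = n p := congrArg n hs
      have h10 : n Q ≤ n (s 0) := hmono.monotone hqs
      have := hlb Q
      rw [show (e : WithBot ℕ∞) = (d : WithBot ℕ∞) by rw [show e = d by omega]] at he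
      exact he
    · rintro ⟨q, hq, hqp, hqd⟩
      haveI := hq.1.1
      have hnt := (Groth.Agent.KFlatLib.nontrivial_localized_hd_iff hω hn q hq d hqd (-(d : ℤ))).2 rfl
      exact Module.mem_support_mono (p := (⟨q, hq.1.1⟩ : PrimeSpectrum A)) hqp (Module.mem_support_iff.2 hnt)
  · intro p hp
    let P : PrimeSpectrum A := ⟨p, hp⟩
    rcases subsingleton_or_nontrivial (LocalizedModule p.primeCompl (Dual.HD A ω (-(d : ℤ)))) with hs | hs
    · rw [Module.supportDim_eq_bot_of_subsingleton]
      exact (min_le_right _ _).trans bot_le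
    · obtain ⟨h, hh, -, ω', h1, h2, ⟨c⟩⟩ := hsupp P (Module.mem_support_iff.2 hs)
      haveI : IsNoetherianRing (Localization.AtPrime p) := IsLocalization.isNoetherianRing p.primeCompl _ inferInstance
      obtain ⟨rs, hrs, hmem, hlen⟩ := Groth.Agent.PerfGen7.DualizingS2.exists_regular_seq h1 h2 hh
      have hle : Module.supportDim (Localization.AtPrime p) (LocalizedModule p.primeCompl (Dual.HD A ω (-(d : ℤ)))) ≤ h :=
        (Module.supportDim_le_ringKrullDim _ _).trans_eq hh
      have hdep : ((min 2 h : ℕ) : ℕ∞) ≤ LocCoh.depth (Localization.AtPrime p) (LocalizedModule p.primeCompl (Dual.HD A ω (-(d : ℤ)))) := by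
        unfold LocCoh.depth LocCoh.idealDepth
        split_ifs with htop
        · exact le_top
        · rw [← hlen]
          exact le_iSup₂ (f := fun (l : List (Localization.AtPrime p)) _ => (l.length : ℕ∞)) rs
            ⟨(LinearEquiv.isWeaklyRegular_congr c rs).1 hrs, hmem⟩
      have h3 : min ((2 : ℕ) : WithBot ℕ∞) (Module.supportDim (Localization.AtPrime p) (LocalizedModule p.primeCompl (Dual.HD A ω (-(d : ℤ))))) ≤ ((min 2 h : ℕ) : WithBot ℕ∞) := by
        rw [Nat.mono_cast.map_min]
        exact min_le_min le_rfl hle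
      exact le_trans h3 (WithBot.coe_le_coe.2 hdep)

end Groth.Agent.S0369
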