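import Mathlib

/-!
Regular functions of a proper birational modification of a scheme with reduced special fibre.
-/

set_option autoImplicit false
set_option backward.isDefEq.respectTransparency false
set_option backward.isDefEq.respectTransparency.types false
set_option linter.style.haveILetI false

universe u

open AlgebraicGeometry CategoryTheory CategoryTheory.Limits TopologicalSpace Opposite
open scoped TensorProduct

namespace Groth.Agent.DvrPushIso

variable {R : Type u} [CommRing R] [IsDomain R] [IsDiscreteValuationRing R] {X : Scheme.{u}}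
  (f : X ⟶ Spec (CommRingCat.of R))

/-- The structure map on sections. -/
noncomputable def str (O : X.Opens) : R →+* Γ(X, O) :=
  ((Scheme.ΓSpecIso (CommRingCat.of R)).inv ≫ f.appLE ⊤ O le_top).hom

theorem str_res {O O' : X.Opens} (i : O' ⟶ O) (r : R) :
    X.presheaf.map i.op (str f O r) = str f O' r := by
  show (((Scheme.ΓSpecIso (CommRingCat.of R)).inv ≫ f.appLE ⊤ O le_top) ≫ X.presheaf.map i.op).hom r = _
  rw [Category.assoc, Scheme.Hom.appLE_map]
  rfl

/-- On a flat scheme a section vanishing where a nonzero constant is invertible is zero. -/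
theorem eq_zero_of_res_eq_zero [Flat f] {ϖ : R} (hϖ : ϖ ≠ 0) {O : X.Opens} (c : Γ(X, O))
    (h : X.presheaf.map (homOfLE (inf_le_left : O ⊓ X.basicOpen (str f ⊤ ϖ) ≤ O)).op c = 0) : c = 0 := by
  refine X.sheaf.eq_of_locally_eq' (fun W : {W : X.Opens // IsAffineOpen W ∧ W ≤ O} => W.1) O
    (fun W => homOfLE W.2.2) (fun x hx => ?_) c 0 fun W => ?_
  · obtain ⟨W, hW, hxW, hWO⟩ := exists_isAffineOpen_mem_and_subset (U := O) hx
    exact Opens.mem_iSup.2 ⟨⟨W, hW, hWO⟩, hxW⟩
  obtain ⟨W, hW, hWO⟩ := W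
  show X.presheaf.map (homOfLE hWO).op c = X.presheaf.map (homOfLE hWO).op 0
  rw [map_zero]
  letI := (str f W).toAlgebra
  haveI : Module.Flat R Γ(X, W) :=
    RingHom.Flat.comp (RingHom.Flat.of_bijective (ConcreteCategory.bijective_of_isIso (Scheme.ΓSpecIso (CommRingCat.of R)).inv))
      (f.flat_appLE (isAffineOpen_top _) hW le_top)
  set c' := X.presheaf.map (homOfLE hWO).op c with hc'
  haveI := hW.isLocalization_basicOpen (str f W ϖ)
  have h0 : algebraMap Γ(X, W) Γ(X, X.basicOpen (str f W ϖ)) c' = 0 := by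
    have hle : X.basicOpen (str f W ϖ) ≤ O ⊓ X.basicOpen (str f ⊤ ϖ) := by
      rw [← str_res f (homOfLE le_top : W ⟶ ⊤), Scheme.basicOpen_res]
      exact inf_le_inf_right _ hWO
    have h2 := congrArg (X.presheaf.map (homOfLE hle).op) h
    rw [map_zero, ← CommRingCat.comp_apply, ← Functor.map_comp] at h2
    show X.presheaf.map (homOfLE (X.basicOpen_le (str f W ϖ))).op c' = 0
    rw [hc', ← CommRingCat.comp_apply, ← Functor.map_comp]
    exact h2
  obtain ⟨⟨_, n, rfl⟩, hn⟩ := (IsLocalization.map_eq_zero_iff (Submonoid.powers (str f W ϖ)) _ c').1 h0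
  have hreg : IsSMulRegular Γ(X, W) (ϖ ^ n) :=
    Module.IsTorsionFree.isSMulRegular (isRegular_of_ne_zero (pow_ne_zero n hϖ))
  refine hreg (show ϖ ^ n • c' = ϖ ^ n • 0 from ?_)
  rw [smul_zero, Algebra.smul_def, map_pow]
  exact hn

/-- A uniformiser generates a radical ideal in the sections over an affine open when the special fibre is reduced. -/
theorem mem_span_of_pow_mem {ϖ : R} (hϖ : Irreducible ϖ)
    [AlgebraicGeometry.IsReduced (f.fiber (IsLocalRing.closedPoint R))] {V : X.Opens} (hV : IsAffineOpen V)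
    {a : Γ(X, V)} {m : ℕ} (ha : str f V ϖ ∣ a ^ m) : str f V ϖ ∣ a := by
  letI := (str f V).toAlgebra
  have hm : IsLocalRing.maximalIdeal R = Ideal.span {ϖ} := hϖ.maximalIdeal_eq
  let g := Spec.map (CommRingCat.ofHom (algebraMap R Γ(X, V)))
  have hg : g = hV.fromSpec ≫ f := by
    rw [← (isAffineOpen_top (Spec (CommRingCat.of R))).SpecMap_appLE_fromSpec f hV le_top,
      IsAffineOpen.fromSpec_top, Scheme.isoSpec_Spec_inv, ← Spec.map_comp]
    rfl
  let P : PrimeSpectrum R := IsLocalRing.closedPoint R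
  haveI hred : _root_.IsReduced ((IsLocalRing.maximalIdeal R).Fiber Γ(X, V)) := by
    change _root_.IsReduced (P.asIdeal.Fiber Γ(X, V))
    let Φ : g.fiber P ⟶ f.fiber P :=
      pullback.map g ((Spec (CommRingCat.of R)).fromSpecResidueField P) f
        ((Spec (CommRingCat.of R)).fromSpecResidueField P)
        hV.fromSpec (𝟙 _) (𝟙 _) (by rw [Category.comp_id]; exact hg) (by simp)
    haveI : IsOpenImmersion Φ := Scheme.pullback_map_isOpenImmersion _ _ _ _ _ _ _ _ _
    haveI : AlgebraicGeometry.IsReduced (f.fiber P) := ‹_›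
    haveI : AlgebraicGeometry.IsReduced (g.fiber P) := isReduced_of_isOpenImmersion Φ
    haveI : AlgebraicGeometry.IsReduced (Spec (CommRingCat.of (P.asIdeal.Fiber Γ(X, V)))) := by
      haveI : IsOpenImmersion (Spec.fiberToSpecResidueFieldIso R Γ(X, V) P).inv.left := inferInstance
      exact @isReduced_of_isOpenImmersion _ _ (Spec.fiberToSpecResidueFieldIso R Γ(X, V) P).inv.left _
        (show AlgebraicGeometry.IsReduced (g.fiber P) from inferInstance)
    exact (affine_isReduced_iff (CommRingCat.of (P.asIdeal.Fiber Γ(X, V)))).mp inferInstance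
  obtain ⟨c, hc⟩ := ha
  have hz : (Algebra.TensorProduct.includeRight :
      Γ(X, V) →ₐ[R] (IsLocalRing.maximalIdeal R).Fiber Γ(X, V)) (str f V ϖ) = 0 := by
    rw [show str f V ϖ = algebraMap R Γ(X, V) ϖ from rfl, AlgHom.commutes,
      IsScalarTower.algebraMap_apply R (IsLocalRing.maximalIdeal R).ResidueField, Ideal.algebraMap_residueField_eq_zero.2
        (hm ▸ Ideal.mem_span_singleton_self ϖ), map_zero]
  have h0 : (1 : (IsLocalRing.maximalIdeal R).ResidueField) ⊗ₜ[R] a = 0 := by
    refine IsReduced.eq_zero (R := (IsLocalRing.maximalIdeal R).Fiber Γ(X, V))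
      ((Algebra.TensorProduct.includeRight : Γ(X, V) →ₐ[R] (IsLocalRing.maximalIdeal R).Fiber Γ(X, V)) a) ⟨m, ?_⟩
    rw [← map_pow, hc, map_mul, hz, zero_mul]
  let e : (R ⧸ IsLocalRing.maximalIdeal R) ≃ₐ[R] (IsLocalRing.maximalIdeal R).ResidueField :=
    AlgEquiv.ofBijective (IsScalarTower.toAlgHom R (R ⧸ IsLocalRing.maximalIdeal R) _)
      (IsLocalRing.maximalIdeal R).bijective_algebraMap_quotient_residueField
  have h1 : (1 : R ⧸ IsLocalRing.maximalIdeal R) ⊗ₜ[R] a = 0 := by
    apply (TensorProduct.congr e.toLinearEquiv (LinearEquiv.refl R Γ(X, V))).injective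
    rw [TensorProduct.congr_tmul, map_zero]
    simpa using h0
  have h2 := congrArg (TensorProduct.quotTensorEquivQuotSMul Γ(X, V) (IsLocalRing.maximalIdeal R)) h1
  rw [map_zero, ← map_one (Ideal.Quotient.mk _), TensorProduct.quotTensorEquivQuotSMul_mk_tmul, one_smul,
    Submodule.Quotient.mk_eq_zero, hm, Submodule.ideal_span_singleton_smul] at h2
  obtain ⟨d, -, hd⟩ := h2
  exact ⟨d, by rw [← hd]; exact Algebra.smul_def ϖ d⟩

variable {f} {Y : Scheme.{u}} {π : Y ⟶ X}

theorem app_str (h : Y ⟶ Spec (CommRingCat.of R)) (hπ : π ≫ f = h) (O : X.Opens) (r : R) :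
    π.app O (str f O r) = str h (π ⁻¹ᵁ O) r := by
  subst hπ
  show (((Scheme.ΓSpecIso (CommRingCat.of R)).inv ≫ f.appLE ⊤ O le_top) ≫ π.app O).hom r = _
  rw [Category.assoc, Scheme.Hom.app_eq_appLE, Scheme.Hom.appLE_comp_appLE]
  rfl

/-- The theorem: over the affine opens, and globally by gluing. -/
theorem isIso_app [Flat f] [Flat (π ≫ f)] [UniversallyClosed π]
    [AlgebraicGeometry.IsReduced (f.fiber (IsLocalRing.closedPoint R))] {ϖ : R} (hϖ : Irreducible ϖ)
    (hgen : ∀ O : X.Opens, O ≤ X.basicOpen (str f ⊤ ϖ) → IsIso (π.app O)) (V : X.Opens) : IsIso (π.app V) := by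
  have hnat : ∀ {O O' : X.Opens} (i : O' ⟶ O) (a : Γ(X, O)),
      Y.presheaf.map ((Opens.map π.base).map i).op (π.app O a) = π.app O' (X.presheaf.map i.op a) := by
    intro O O' i a
    rw [← CommRingCat.comp_apply, ← CommRingCat.comp_apply, Scheme.Hom.naturality]
    rfl
  have hinj : ∀ O : X.Opens, Function.Injective (π.app O) := fun O a a' h => by
    rw [← sub_eq_zero]
    refine eq_zero_of_res_eq_zero f hϖ.ne_zero _ ?_
    haveI := hgen (O ⊓ X.basicOpen (str f ⊤ ϖ)) inf_le_right
    refine (ConcreteCategory.bijective_of_isIso (π.app (O ⊓ X.basicOpen (str f ⊤ ϖ)))).1 ?_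
    rw [← hnat, map_sub, h, sub_self, map_zero, map_zero]
  have haff : ∀ W : X.Opens, IsAffineOpen W → Function.Surjective (π.app W) := by
    intro W hW
    set E := W ⊓ X.basicOpen (str f ⊤ ϖ)
    have hE : E = X.basicOpen (str f W ϖ) := by
      rw [← str_res f (homOfLE le_top : W ⟶ ⊤) ϖ, Scheme.basicOpen_res]
    have hint : (π.app W).hom.IsIntegral := by
      haveI : IsAffine W := hW
      have h := isIntegral_appTop_of_universallyClosed (π ∣_ W)
      rw [morphismRestrict_appTop] at h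
      have key : (π.app (W.ι ''ᵁ ⊤)).hom.IsIntegral := by
        rw [← Category.comp_id (π.app (W.ι ''ᵁ ⊤)),
          ← IsIso.hom_inv_id (Y.presheaf.map (eqToHom (image_morphismRestrict_preimage π W ⊤)).op),
          ← Category.assoc, CommRingCat.hom_comp]
        exact RingHom.IsIntegral.trans _ _ h (RingHom.isIntegral_of_surjective _
          (ConcreteCategory.bijective_of_isIso _).2)
      rwa [Scheme.Opens.ι_image_top] at key
    have hle : π ⁻¹ᵁ W ⊓ Y.basicOpen (str (π ≫ f) ⊤ ϖ) ≤ π ⁻¹ᵁ E := by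
      have e1 : π ⁻¹ᵁ X.basicOpen (str f ⊤ ϖ) = Y.basicOpen (str (π ≫ f) ⊤ ϖ) := by
        rw [Scheme.preimage_basicOpen, app_str (π ≫ f) rfl]
        rfl
      intro y hy
      rw [← e1] at hy
      exact hy
    have hzero : ∀ c : Γ(Y, π ⁻¹ᵁ W),
        Y.presheaf.map ((Opens.map π.base).map (homOfLE (inf_le_left : E ≤ W))).op c = 0 → c = 0 := fun c hc => by
      refine eq_zero_of_res_eq_zero (π ≫ f) hϖ.ne_zero c ?_
      have h2 := congrArg (Y.presheaf.map (homOfLE hle).op) hc
      rw [map_zero, ← CommRingCat.comp_apply, ← Functor.map_comp] at h2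
      exact h2
    have hcancel : ∀ c : Γ(Y, π ⁻¹ᵁ W), π.app W (str f W ϖ) * c = 0 → c = 0 := fun c hc => by
      refine eq_zero_of_res_eq_zero (π ≫ f) hϖ.ne_zero c ?_
      set r := Y.presheaf.map (homOfLE (inf_le_left : π ⁻¹ᵁ W ⊓ Y.basicOpen (str (π ≫ f) ⊤ ϖ) ≤ π ⁻¹ᵁ W)).op
      have hu : IsUnit (r (π.app W (str f W ϖ))) := by
        rw [app_str (π ≫ f) rfl, str_res]
        have h1 := (Y.toLocallyRingedSpace.toRingedSpace.isUnit_res_basicOpen (str (π ≫ f) ⊤ ϖ)).map
          (Y.presheaf.map (homOfLE (inf_le_right :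
            π ⁻¹ᵁ W ⊓ Y.basicOpen (str (π ≫ f) ⊤ ϖ) ≤ Y.basicOpen (str (π ≫ f) ⊤ ϖ))).op).hom
        convert h1 using 1
        exact ((congrArg _ (str_res (π ≫ f) _ ϖ)).trans (str_res (π ≫ f) _ ϖ)).symm
      refine hu.mul_right_eq_zero.1 ?_
      rw [← map_mul, hc, map_zero]
    have hstep : ∀ b' a, π.app W a = π.app W (str f W ϖ) * b' → ∃ c, π.app W c = b' := by
      intro b' a ha
      obtain ⟨p, hp, hpb⟩ := hint b'
      have h1 := Polynomial.scaleRoots_eval₂_eq_zero (π.app W).hom (r := b') (s := str f W ϖ) hpb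
      rw [← ha, Polynomial.eval₂_at_apply] at h1
      have h2 : Polynomial.eval a (p.scaleRoots (str f W ϖ)) = 0 :=
        hinj W (h1.trans (map_zero (π.app W).hom).symm)
      let q := Ideal.Quotient.mk (Ideal.span {str f W ϖ})
      have h3 : (p.scaleRoots (str f W ϖ)).map q = Polynomial.X ^ p.natDegree := by
        ext i
        rw [Polynomial.coeff_map, Polynomial.coeff_scaleRoots, map_mul, map_pow,
          Ideal.Quotient.eq_zero_iff_mem.2 (Ideal.mem_span_singleton_self (str f W ϖ)), Polynomial.coeff_X_pow]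
        rcases lt_trichotomy i p.natDegree with hi | hi | hi
        · rw [zero_pow (Nat.sub_ne_zero_of_lt hi), mul_zero, if_neg hi.ne]
        · subst hi
          rw [Nat.sub_self, pow_zero, mul_one, hp.coeff_natDegree, map_one, if_pos rfl]
        · rw [Polynomial.coeff_eq_zero_of_natDegree_lt hi, map_zero, zero_mul, if_neg hi.ne']
      have h4 : str f W ϖ ∣ a ^ p.natDegree := by
        rw [← Ideal.mem_span_singleton, ← Ideal.Quotient.eq_zero_iff_mem, map_pow]
        have h5 := congrArg q h2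
        rw [map_zero, ← Polynomial.eval₂_at_apply, ← Polynomial.eval_map, h3, Polynomial.eval_pow,
          Polynomial.eval_X] at h5
        exact h5
      obtain ⟨c, rfl⟩ := mem_span_of_pow_mem f hϖ hW h4
      refine ⟨c, sub_eq_zero.1 (hcancel _ ?_)⟩
      rw [mul_sub, ← map_mul, ha, sub_self]
    have hdesc : ∀ (n : ℕ) (b : Γ(Y, π ⁻¹ᵁ W)), (∃ a, π.app W a = π.app W (str f W ϖ) ^ n * b) →
        ∃ c, π.app W c = b := by
      intro n
      induction n with
      | zero =>
        rintro b ⟨a, ha⟩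
        exact ⟨a, by rw [ha, pow_zero, one_mul]⟩
      | succ n ih =>
        rintro b ⟨a, ha⟩
        exact ih b (hstep _ a (by rw [ha, pow_succ', mul_assoc]))
    intro b
    haveI := hgen E inf_le_right
    obtain ⟨a₀, ha₀⟩ := (ConcreteCategory.bijective_of_isIso (π.app E)).2
      (Y.presheaf.map ((Opens.map π.base).map (homOfLE (inf_le_left : E ≤ W))).op b)
    haveI : IsLocalization.Away (str f W ϖ) Γ(X, X.basicOpen (str f W ϖ)) := hW.isLocalization_basicOpen _
    obtain ⟨⟨a, ⟨_, n, rfl⟩⟩, han⟩ := IsLocalization.surj (Submonoid.powers (str f W ϖ))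
      (X.presheaf.map (homOfLE hE.ge).op a₀)
    refine hdesc n b ⟨a, sub_eq_zero.1 (hzero _ ?_)⟩
    have han' := congrArg (X.presheaf.map (homOfLE hE.le).op) han
    rw [map_mul] at han'
    simp only [RingHom.algebraMap_toAlgebra, ← CommRingCat.comp_apply, ← Functor.map_comp] at han'
    rw [map_sub, sub_eq_zero, map_mul, ← map_pow, hnat, hnat, ← ha₀, ← map_mul]
    refine congrArg (π.app E) ?_
    have han'' : X.presheaf.map (homOfLE (inf_le_left : E ≤ W)).op a =
        X.presheaf.map (homOfLE (inf_le_left : E ≤ W)).op (str f W ϖ ^ n) * a₀ := by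
      rw [mul_comm]
      refine han'.symm.trans ?_
      congr 1
      exact ConcreteCategory.congr_hom (X.presheaf.map_id _) a₀
    exact han''
  refine (ConcreteCategory.isIso_iff_bijective _).2 ⟨hinj V, fun b => ?_⟩
  let ι := {W : X.Opens // IsAffineOpen W ∧ W ≤ V}
  let U : ι → X.Opens := fun W => W.1
  let iUV : ∀ W : ι, U W ⟶ V := fun W => homOfLE W.2.2
  choose c hc using fun W : ι => haff W.1 W.2.1 (Y.presheaf.map ((Opens.map π.base).map (iUV W)).op b)
  have hcov : V ≤ iSup U := fun x hx => by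
    obtain ⟨W, hW, hxW, hWO⟩ := exists_isAffineOpen_mem_and_subset (U := V) hx
    exact Opens.mem_iSup.2 ⟨⟨W, hW, hWO⟩, hxW⟩
  have hcomp : TopCat.Presheaf.IsCompatible X.presheaf U c := fun W W' => by
    refine hinj _ ?_
    rw [← hnat, ← hnat, hc, hc, ← CommRingCat.comp_apply, ← CommRingCat.comp_apply, ← Functor.map_comp,
      ← Functor.map_comp]
    rfl
  obtain ⟨a, ha, -⟩ := X.sheaf.existsUnique_gluing' U V iUV hcov c hcomp
  refine ⟨a, Y.sheaf.eq_of_locally_eq' (fun W : ι => π ⁻¹ᵁ U W) (π ⁻¹ᵁ V)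
    (fun W => (Opens.map π.base).map (iUV W)) (fun y hy => ?_) _ _ fun W => ?_⟩
  · obtain ⟨W, hW⟩ := Opens.mem_iSup.1 (hcov hy)
    exact Opens.mem_iSup.2 ⟨W, hW⟩
  · show Y.presheaf.map _ (π.app V a) = Y.presheaf.map _ b
    rw [hnat, ← hc W]
    exact congrArg _ (ha W)

end Groth.Agent.DvrPushIso
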