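import Groth.Statements.S2147
import Groth.Agent.AlgGlue.ClosedInFP
import Groth.Agent.AlgGlue.ProperSub
import Groth.Agent.AlgGlue.ImageSystem
import Groth.Agent.MorLib.ProperFT
import Groth.Agent.S0591

set_option backward.isDefEq.respectTransparency false

set_option autoImplicit false
set_option linter.style.haveILetI false
set_option backward.isDefEq.respectTransparency false
set_option backward.isDefEq.respectTransparency.types false
universe u
open CategoryTheory AlgebraicGeometry
open Lim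

namespace Groth.Agent.S2147

/-- Let `f : X → S` be proper with `S` quasi-compact and quasi-separated. Then `f` is a limit of proper
morphisms `f_i : X_i → S_i` with `S_i` of finite type over `ℤ`: there are cofiltered diagrams of
schemes `X_i`, `S_i` with affine transition morphisms, a natural transformation with proper
components, and limit cones identified with `X` and `S` compatibly with `f`. -/
theorem result {X S : Scheme.{u}} (f : X ⟶ S) [IsProper f] [CompactSpace S]
    [QuasiSeparatedSpace S] :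
    ∃ (I : Type u) (_ : SmallCategory I) (_ : IsCofiltered I) (DX DS : I ⥤ Scheme.{u}) (φ : DX ⟶ DS)
      (cX : Limits.Cone DX) (cS : Limits.Cone DS) (_ : Limits.IsLimit cX) (_ : Limits.IsLimit cS)
      (eX : cX.pt ≅ X) (eS : cS.pt ≅ S),
      (∀ (i j : I) (a : i ⟶ j), IsAffineHom (DX.map a) ∧ IsAffineHom (DS.map a)) ∧
      (∀ i, IsProper (φ.app i) ∧ CompactSpace (DS.obj i) ∧
        LocallyOfFiniteType (Limits.IsTerminal.from specULiftZIsTerminal (DS.obj i))) ∧
      (∀ i, cX.π.app i ≫ φ.app i = eX.hom ≫ f ≫ eS.inv ≫ cS.π.app i) := by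
  haveI : CompactSpace X := QuasiCompact.compactSpace_of_compactSpace f
  haveI : QuasiSeparatedSpace X := quasiSeparatedSpace_of_quasiSeparated f
  -- a closed immersion into a proper morphism of finite presentation
  obtain ⟨Y, g, j, hj, hjg, hg, hgqc, hgqs, hYc, hYqs, hsep⟩ :=
    Groth.Agent.AlgGlue.exists_closedImmersion_fp f
  haveI : IsSeparated g := hsep inferInstance
  haveI : UniversallyClosed (j.ker.subschemeι ≫ g) := by
    have e : j.ker.subschemeι ≫ g = inv j.toImage ≫ f := by
      rw [IsIso.eq_inv_comp, ← hjg, ← Category.assoc]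
      exact congrArg (· ≫ g) j.toImage_imageι
    rw [e]; infer_instance
  obtain ⟨K₀, hK₀⟩ := Groth.Agent.AlgGlue.exists_isProper_sub g j.ker
  let X₀ : Scheme.{u} := K₀.1.subscheme
  let f₀ : X₀ ⟶ S := K₀.1.subschemeι ≫ g
  haveI : IsProper f₀ := hK₀ K₀ le_rfl
  haveI : LocallyOfFinitePresentation f₀ :=
    haveI := Groth.Agent.MorLib.IdealFG.lfp_subschemeι K₀.2.2
    inferInstanceAs (LocallyOfFinitePresentation (K₀.1.subschemeι ≫ g))
  let j₀ : X ⟶ X₀ := j.toImage ≫ Scheme.IdealSheafData.inclusion K₀.2.1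
  haveI : IsClosedImmersion j₀ :=
    inferInstanceAs (IsClosedImmersion (j.toImage ≫ Scheme.IdealSheafData.inclusion K₀.2.1))
  have hj₀ : j₀ ≫ f₀ = f := by
    show (j.toImage ≫ Scheme.IdealSheafData.inclusion K₀.2.1) ≫ K₀.1.subschemeι ≫ g = f
    rw [Category.assoc, Scheme.IdealSheafData.inclusion_subschemeι_assoc, ← hjg, ← Category.assoc]
    exact congrArg (· ≫ g) j.toImage_imageι
  -- descend it
  obtain ⟨M⟩ := Groth.Agent.AlgGlue.nonempty_model S
  haveI : ∀ i k (a : i ⟶ k), IsAffineHom (M.D.map a) := fun i k a => M.affine a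
  obtain ⟨i, Xi, fi, q, hfp, hqc, hqs, hq⟩ := Groth.Agent.S0591.result M.D M.cone M.isLimit X₀ f₀
  haveI : LocallyOfFinitePresentation fi := hfp
  haveI : QuasiCompact fi := hqc
  haveI : QuasiSeparated fi := hqs
  have hsnd : IsProper (Limits.pullback.snd fi (M.cone.π.app i)) :=
    Groth.Agent.MorLib.Desc.of_two @IsProper hq (IsPullback.of_hasPullback _ _) ‹IsProper f₀›
  obtain ⟨i₁, φ, hφ⟩ := Groth.Agent.MorLib.Desc.descend M.D M.cone M.isLimit i (P := @IsProper)
    Groth.Agent.MorLib.Ultra.core_isProper fi inferInstance hsnd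
  let Xj : Scheme.{u} := Limits.pullback fi (M.D.map φ)
  let xi : Xj ⟶ M.D.obj i₁ := Limits.pullback.snd fi (M.D.map φ)
  haveI : IsProper xi := hφ
  let qj : X₀ ⟶ Xj := Limits.pullback.lift q (f₀ ≫ M.cone.π.app i₁) (by
    rw [Category.assoc, M.cone.w]; exact hq.w)
  have hX₀ : IsPullback qj f₀ xi (M.cone.π.app i₁) := by
    refine IsPullback.of_right ?_ (Limits.pullback.lift_snd _ _ _) (IsPullback.of_hasPullback fi (M.D.map φ))
    rw [Limits.pullback.lift_fst, M.cone.w]
    exact hq
  let E := Groth.Agent.MorLib.BC.diag M.D xi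
  let cE := Groth.Agent.MorLib.BC.cone (c := M.cone) M.D xi hX₀
  let hcE : Limits.IsLimit cE := Groth.Agent.MorLib.BC.isLimitCone (c := M.cone) M.D xi hX₀ M.isLimit
  haveI : ∀ {a b : Over i₁} (h : a ⟶ b), IsAffineHom (E.map h) := fun h =>
    Groth.Agent.MorLib.BC.isAffineHom_map M.D xi h
  haveI : CompactSpace Xj := QuasiCompact.compactSpace_of_compactSpace xi
  haveI : ∀ k, CompactSpace (E.obj k) := fun k => Groth.Agent.MorLib.BC.compactSpace_obj M.D xi k
  let j' : X ⟶ cE.pt := j₀
  haveI : IsClosedImmersion j' := ‹IsClosedImmersion j₀›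
  obtain ⟨hZ⟩ := Groth.Agent.AlgGlue.ImageSystem.nonempty_isLimit (j := j') hcE
  let DX := Groth.Agent.AlgGlue.ImageSystem.diag cE j'
  let DS : Over i₁ ⥤ Scheme.{u} := Over.forget i₁ ⋙ M.D
  let τ : DX ⟶ DS :=
    { app := fun k => (Groth.Agent.AlgGlue.ImageSystem.ideal cE j' k).subschemeι ≫
        Limits.pullback.snd xi (M.D.map k.hom)
      naturality := fun k l h => by
        show Groth.Agent.AlgGlue.ImageSystem.map cE j' h ≫ _ ≫ _ = (_ ≫ _) ≫ M.D.map h.left
        rw [Groth.Agent.AlgGlue.ImageSystem.map_ι_assoc, Category.assoc]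
        exact congrArg (_ ≫ ·) (Groth.Agent.MorLib.BC.map_snd M.D xi h) }
  let cS : Limits.Cone DS := M.cone.whisker (Over.forget i₁)
  let hcS : Limits.IsLimit cS := (Functor.Initial.isLimitWhiskerEquiv (Over.forget i₁) M.cone).symm M.isLimit
  refine ⟨Over i₁, inferInstance, inferInstance, DX, DS, τ,
    Groth.Agent.AlgGlue.ImageSystem.cone cE j', cS, hZ, hcS, Iso.refl _, Iso.refl _,
    fun a b h => ⟨inferInstanceAs (IsAffineHom (DX.map h)), M.affine h.left⟩,
    fun k => ⟨?_, M.ftz k.left⟩, fun k => ?_⟩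
  · haveI : IsProper (Limits.pullback.snd xi (M.D.map k.hom)) :=
      MorphismProperty.pullback_snd (P := @IsProper) _ _ inferInstance
    show IsProper ((Groth.Agent.AlgGlue.ImageSystem.ideal cE j' k).subschemeι ≫ _)
    infer_instance
  · show Groth.Agent.AlgGlue.ImageSystem.proj cE j' k ≫ _ ≫ Limits.pullback.snd xi (M.D.map k.hom) =
      𝟙 _ ≫ f ≫ 𝟙 _ ≫ M.π k.left
    rw [Groth.Agent.AlgGlue.ImageSystem.proj_ι_assoc, Category.id_comp, Category.id_comp]
    show j₀ ≫ Groth.Agent.MorLib.BC.proj (c := M.cone) M.D xi hX₀ k ≫ _ = _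
    rw [Groth.Agent.MorLib.BC.proj_snd, ← Category.assoc, hj₀]
    rfl

end Groth.Agent.S2147
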