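import Groth.Statements.S14389
import Groth.Agent.EtBCFib.PushCongr

set_option autoImplicit false
open CategoryTheory CategoryTheory.Limits AlgebraicGeometry Opposite
universe u
open EtLim

namespace Groth.Agent.S14389

/-- For small étale sites of schemes: let g' ≫ f = f' ≫ g be a commutative square of schemes with f : X
→ Y, g : Y' → Y, f' : X' → Y', g' : X' → X, and let F be an abelian sheaf on the small étale site of
X. For every q and every class ζ in H^q(Y_ét, f_*F), the pullback along g' of the image of ζ under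
the canonical map H^q(Y, f_*F) → H^q(X, F) (pull back along f, then apply the counit f⁻¹f_*F → F)
equals the image of g^*ζ ∈ H^q(Y', g⁻¹f_*F) under the map induced by the base-change morphism
g⁻¹f_*F → f'_*g'⁻¹F followed by the canonical map H^q(Y', f'_*g'⁻¹F) → H^q(X', g'⁻¹F). (The
published statement is for a commutative square of topoi with a chosen isomorphism f_*g'_* ≅
g_*f'_*; this row is the square of étale topoi of schemes. Exactness of pullback of abelian sheaves,
which always holds, is carried as instance hypotheses.) -/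
theorem result {X Y X' Y' : Scheme.{u}} (f : X ⟶ Y)
    (g : Y' ⟶ Y) (f' : X' ⟶ Y') (g' : X' ⟶ X) (w : g' ≫ f = f' ≫ g) (F : EtCoh.Ab X) (q : ℕ)
    [PreservesFiniteLimits (EtCoh.pull f)] [PreservesFiniteLimits (EtCoh.pull g)]
    [PreservesFiniteLimits (EtCoh.pull f')] [PreservesFiniteLimits (EtCoh.pull g')]
    (ζ : EtCoh.H Y ((EtCoh.push f).obj F) q) :
    EtCore.Hpull g' F q (EtLim.HofPush f F q ζ) =
      EtLim.HofPush f' ((EtCoh.pull g').obj F) q
        (((EtCoh.HF Y' q).map (EtCoh.baseChange0 f g f' g' w F)).hom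
          (EtCore.Hpull g ((EtCoh.push f).obj F) q ζ)) := by
  have hid : ∀ {A B : Scheme.{u}} (u' : A ⟶ B) [PreservesFiniteLimits (EtCoh.pull u')] (H : EtCoh.Ab B) (e),
      EtLim.HpullThen u' H (𝟙 ((EtCoh.pull u').obj H)) q e = EtCore.Hpull u' H q e := fun u' _ H e => by
    show (EtCoh.HF _ q).map (𝟙 _) (EtCore.Hpull u' H q e) = _
    rw [CategoryTheory.Functor.map_id]
    rfl
  haveI := EtContLib.pfl (g' ≫ f)
  let ε : (EtCoh.pull f).obj ((EtCoh.push f).obj F) ⟶ F := (EtCoh.pullPushAdj f).counit.app F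
  let ε' : (EtCoh.pull f').obj ((EtCoh.push f').obj ((EtCoh.pull g').obj F)) ⟶ (EtCoh.pull g').obj F :=
    (EtCoh.pullPushAdj f').counit.app ((EtCoh.pull g').obj F)
  let b := EtCoh.baseChange0 f g f' g' w F
  have hl : EtCore.Hpull g' F q (EtLim.HofPush f F q ζ) =
      EtLim.HpullThen (g' ≫ f) _ (EtContLib.comp2 g' f (g' ≫ f) rfl ε (𝟙 _)) q ζ := by
    rw [← hid g' F]
    exact EtContLib.HpullThen_comp g' f (g' ≫ f) rfl ε (𝟙 _) q ζ
  have hr : EtLim.HofPush f' ((EtCoh.pull g').obj F) q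
      (((EtCoh.HF Y' q).map b).hom (EtCore.Hpull g ((EtCoh.push f).obj F) q ζ)) =
      EtLim.HpullThen (g' ≫ f) _ (EtContLib.comp2 f' g (g' ≫ f) w.symm (𝟙 _) ((EtCoh.pull f').map b ≫ ε')) q ζ := by
    refine (EtContLib.HpullThen_map_source f' b ε' q _).symm.trans ?_
    rw [← hid g ((EtCoh.push f).obj F)]
    exact EtContLib.HpullThen_comp f' g (g' ≫ f) w.symm (𝟙 _) ((EtCoh.pull f').map b ≫ ε') q ζ
  refine hl.trans (Eq.trans ?_ hr.symm)
  refine congrArg (fun a => EtLim.HpullThen (g' ≫ f) _ a q ζ) ?_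
  apply ((EtCoh.pullPushAdj (g' ≫ f)).homEquiv _ _).injective
  rw [EtBCFib.homEquiv_comp2' f' g (g' ≫ f) w.symm, EtContLib.homEquiv_comp2]
  have e1 : (EtCoh.pullPushAdj f).homEquiv _ _ ε = 𝟙 ((EtCoh.push f).obj F) := by
    simp [ε, Adjunction.homEquiv_unit]
  have e2 : (EtCoh.pullPushAdj f').homEquiv _ _ ((EtCoh.pull f').map b ≫ ε') = b := by
    rw [Adjunction.homEquiv_naturality_left]
    simp [ε', Adjunction.homEquiv_unit]
  have e3 : (EtCoh.pullPushAdj g).homEquiv _ _ (𝟙 _) ≫ (EtCoh.push g).map b =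
      (EtCoh.push f).map ((EtCoh.pullPushAdj g').unit.app F) ≫ (EtCoh.pushComp f g').hom.app _ ≫
        (EtCoh.pushCongr w).hom.app _ ≫ (EtCoh.pushComp g f').inv.app _ := by
    rw [← Adjunction.homEquiv_naturality_right, Category.id_comp]
    exact Equiv.apply_symm_apply _ _
  have e4 : (EtCoh.pullPushAdj g').homEquiv _ _ (𝟙 ((EtCoh.pull g').obj F)) = (EtCoh.pullPushAdj g').unit.app F := by
    simp [Adjunction.homEquiv_unit]
  rw [e1, e2, reassoc_of% e3, e4, Category.id_comp, Iso.inv_hom_id_app_assoc]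
  erw [← EtBCFib.pushCongr_app_comp_symm w, Category.comp_id]

end Groth.Agent.S14389
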