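import Groth.Statements.S8536
import Groth.Agent.EtMVLib.HpullApply
import Groth.Agent.EtTorLib.Sections

set_option autoImplicit false
universe u
open CategoryTheory CategoryTheory.Limits AlgebraicGeometry Opposite
open EtAcyc

namespace Groth.Agent.S8536

open CategoryTheory.Abelian
set_option backward.isDefEq.respectTransparency.types false

section
universe w v u' v' u''
variable {C : Type u'} [Category.{v} C] [Abelian C] [HasExt.{w} C] {D : Type u''} [Category.{v'} D] [Abelian D]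
  [HasExt.{w} D] (P : C ⥤ D) [P.Additive] [PreservesFiniteLimits P] [PreservesFiniteColimits P]

theorem map_comp_mk₀ {A B B' : C} {A' : D} (c : A' ⟶ P.obj A) {q : ℕ} (e : Ext A B q) (v : B ⟶ B') :
    (Ext.mk₀ c).comp ((e.comp (Ext.mk₀ v) (add_zero q)).mapExactFunctor P) (zero_add q) =
      ((Ext.mk₀ c).comp (e.mapExactFunctor P) (zero_add q)).comp (Ext.mk₀ (P.map v)) (add_zero q) := by
  rw [Ext.mapExactFunctor_comp, Ext.mapExactFunctor_mk₀, Ext.comp_assoc_of_third_deg_zero]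

theorem map_comp_extClass {A : C} {A' : D} (c : A' ⟶ P.obj A) {S : ShortComplex C} (hS : S.ShortExact) {q : ℕ}
    (e : Ext A S.X₃ q) :
    (Ext.mk₀ c).comp ((e.comp hS.extClass rfl).mapExactFunctor P) (zero_add (q + 1)) =
      ((Ext.mk₀ c).comp (e.mapExactFunctor P) (zero_add q)).comp (hS.map_of_exact P).extClass rfl := by
  rw [Ext.mapExactFunctor_comp, Ext.mapExactFunctor_extClass P hS]
  exact (Ext.comp_assoc _ _ _ (zero_add q) rfl (by omega)).symm
end

/-- Let h : Y → X be a morphism of quasi-compact quasi-separated schemes, L a set of primes and n a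
natural number, and suppose that for every abelian L-torsion sheaf on X the pullback map on etale
cohomology along h is bijective in degrees ≤ n and injective in degree n + 1. Let u : F → G be a
monomorphism of abelian L-torsion sheaves on X and ξ a class in H^{n+1}(Y, h⁻¹F) whose image in
H^{n+1}(Y, h⁻¹G) comes from H^{n+1}(X, G). Then ξ comes from H^{n+1}(X, F). -/
theorem result {X Y : Scheme.{u}} [CompactSpace X] [QuasiSeparatedSpace X]
    [CompactSpace Y] [QuasiSeparatedSpace Y] (h : Y ⟶ X) (L : Set ℕ) (n : ℕ) (hc : EtAcyc.CompN h L n)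
    [PreservesFiniteLimits (EtCoh.pull h)] {F G : EtCoh.Ab X} (u : F ⟶ G) [Mono u]
    (hF : EtAcyc.IsLTorsion L F) (hG : EtAcyc.IsLTorsion L G)
    (ξ : EtCoh.H Y ((EtCoh.pull h).obj F) (n + 1))
    (hξ : (EtCoh.HF Y (n + 1)).map ((EtCoh.pull h).map u) ξ ∈ Set.range (EtCore.Hpull h G (n + 1))) :
    ξ ∈ Set.range (EtCore.Hpull h F (n + 1)) := by
  let S := ShortComplex.mk u (cokernel.π u) (cokernel.condition u)
  have hS : S.ShortExact := { exact := ShortComplex.exact_of_g_is_cokernel _ (cokernelIsCokernel u) }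
  let P := EtCoh.pull h
  have hP : (S.map P).ShortExact := hS.map_of_exact P
  have hQ : EtAcyc.IsLTorsion L S.X₃ := fun U s x => by
    obtain ⟨V, g, v, ⟨t, ht⟩, hv⟩ := (EtFound.mem_topology_iff _).1
      (((Sheaf.isLocallySurjective_iff_epi' AddCommGrpCat.{u + 1} S.g).2 hS.epi_g).imageSieve_mem (U := U) s) x
    obtain ⟨W, a, m, ⟨w, hw⟩, hm, hms⟩ := hG V t v
    refine ⟨W, a ≫ g, m, ⟨w, ?_⟩, hm, ?_⟩
    · rw [← hv, ← hw]
      exact Scheme.Hom.comp_apply _ _ _
    · rw [op_comp, Functor.map_comp_apply, ← ht]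
      refine (map_nsmul (S.X₃.obj.map a.op).hom m _).symm.trans ?_
      refine (congrArg (S.X₃.obj.map a.op) (map_nsmul (S.g.hom.app (op V)).hom m t).symm).trans ?_
      refine (NatTrans.naturality_apply S.g.hom a.op (m • t)).symm.trans ?_
      exact (congrArg (S.g.hom.app (op W)) ((map_nsmul (G.obj.map a.op).hom m t).trans hms)).trans (map_zero _)
  have hmap : ∀ {A B : EtCoh.Ab X} (v : A ⟶ B) (q : ℕ) (e : EtCoh.H X A q),
      EtCore.Hpull h B q (e.comp (Ext.mk₀ v) (add_zero q)) =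
        (EtCore.Hpull h A q e).comp (Ext.mk₀ (P.map v)) (add_zero q) := fun v q e =>
    map_comp_mk₀ P (EtCore.pullConst h ℤ).inv e v
  have hδ : ∀ (e : EtCoh.H X S.X₃ n),
      EtCore.Hpull h S.X₁ (n + 1) (e.comp hS.extClass rfl) =
        (EtCore.Hpull h S.X₃ n e).comp hP.extClass rfl := fun e =>
    map_comp_extClass P (EtCore.pullConst h ℤ).inv hS e
  obtain ⟨γ, hγ⟩ := hξ
  have hγ' : EtCore.Hpull h G (n + 1) γ =
      (ξ : Ext _ _ (n + 1)).comp (Ext.mk₀ (P.map u)) (add_zero (n + 1)) := hγ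
  have hQ0 : (γ : Ext _ _ (n + 1)).comp (Ext.mk₀ S.g) (add_zero (n + 1)) = 0 := by
    refine (hc S.X₃ hQ).2 ?_
    rw [map_zero, hmap, hγ', Ext.comp_assoc_of_third_deg_zero, Ext.mk₀_comp_mk₀, ← P.map_comp,
      S.zero, P.map_zero, Ext.mk₀_zero, Ext.comp_zero]
  obtain ⟨δ, hδ'⟩ := Ext.covariant_sequence_exact₂ _ hS γ hQ0
  have hker : (ξ - EtCore.Hpull h F (n + 1) δ : Ext _ _ (n + 1)).comp (Ext.mk₀ (S.map P).f) (add_zero (n + 1)) = 0 := by
    rw [sub_eq_add_neg, Ext.add_comp, Ext.neg_comp, ← sub_eq_add_neg, sub_eq_zero]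
    refine hγ'.symm.trans ?_
    exact (congrArg (EtCore.Hpull h G (n + 1)) hδ').symm.trans (hmap u (n + 1) δ)
  obtain ⟨q, hq⟩ := Ext.covariant_sequence_exact₁ _ hP _ hker (rfl : n + 1 = n + 1)
  obtain ⟨q₀, hq₀⟩ := ((hc S.X₃ hQ).1 n le_rfl).2 q
  refine ⟨δ + (q₀ : Ext _ _ n).comp hS.extClass rfl, ?_⟩
  rw [map_add, hδ, hq₀]
  exact (congrArg (EtCore.Hpull h F (n + 1) δ + ·) hq).trans (add_sub_cancel _ _)

end Groth.Agent.S8536
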