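import Groth.Statements.S1477
import Groth.Agent.AlgGlue.ZMT
import Groth.Agent.AlgGlue.FiniteModels
import Groth.Agent.S12442

set_option backward.isDefEq.respectTransparency false

set_option autoImplicit false
set_option linter.style.haveILetI false
universe u
open FlatMor

namespace Groth.Agent.S1477

namespace Aux

open AlgebraicGeometry CategoryTheory

open CategoryTheory.Limits TopologicalSpace Opposite
open Scheme (IdealSheafData)
open Groth.Agent.MorLib.IdealFG

set_option backward.isDefEq.respectTransparency.types false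

theorem ker_app_fg {R A : Type u} [CommRing R] [CommRing A] (φ : R →+* A) (hφ : φ.FinitePresentation)
    (hsurj : Function.Surjective φ) : (RingHom.ker φ).FG := by
  algebraize [φ]
  exact Algebra.FinitePresentation.ker_fG_of_surjective (Algebra.ofId R A) hsurj

/-- The ideal of a closed subscheme is finitely generated where it restricts to a scheme of finite
presentation. -/
theorem ideal_fg {X T Y S : Scheme.{u}} (i : X ⟶ T) [IsOpenImmersion i] (j : T ⟶ Y)
    [IsClosedImmersion j] (g : Y ⟶ S) [LocallyOfFiniteType g]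
    [LocallyOfFinitePresentation ((i ≫ j) ≫ g)] (W : Y.affineOpens)
    (hW : j ⁻¹ᵁ W.1 ≤ i.opensRange) : (j.ker.ideal W).FG := by
  haveI : LocallyOfFinitePresentation (i ≫ j) :=
    Groth.Agent.S12442.locallyOfFinitePresentation_of_comp (i ≫ j) g
  have hTW : IsAffineOpen (j ⁻¹ᵁ W.1) := W.2.preimage j
  have hXW : IsAffineOpen (i ⁻¹ᵁ j ⁻¹ᵁ W.1) := hTW.preimage_of_isOpenImmersion i hW
  have h := LocallyOfFinitePresentation.finitePresentation_appLE (f := i ≫ j) W.2 hXW
    (le_of_eq rfl)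
  rw [show (i ≫ j).appLE W.1 (i ⁻¹ᵁ j ⁻¹ᵁ W.1) (le_of_eq rfl) = j.app W.1 ≫ i.app (j ⁻¹ᵁ W.1) by
    rw [← Scheme.Hom.comp_app, Scheme.Hom.app_eq_appLE]; rfl] at h
  haveI : IsIso (i.app (j ⁻¹ᵁ W.1)) := i.isIso_app _ hW
  replace h : (j.app W.1).hom.FinitePresentation := (RingHom.finitePresentation_respectsIso.cancel_right_isIso (j.app W.1) (i.app (j ⁻¹ᵁ W.1))).mp h
  rw [Scheme.Hom.ker_apply]
  exact ker_app_fg _ h (j.app_surjective W.1 W.2)

theorem le_ideal_of_cover {Y : Scheme.{u}} (I K : Y.IdealSheafData) {ι : Type*} (W : ι → Y.affineOpens)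
    (h : ∀ k, I.ideal (W k) ≤ K.ideal (W k)) (V : Y.affineOpens)
    (hV : ∀ y ∈ V.1, ∃ k, y ∈ (W k).1) : I.ideal V ≤ K.ideal V := by
  intro s hs
  let t : Set Γ(Y, V.1) := {r | ∃ k, Y.basicOpen r ≤ (W k).1}
  have ht : Ideal.span t = ⊤ := by
    rw [← V.2.self_le_iSup_basicOpen_iff]
    intro y hy
    obtain ⟨k, hk⟩ := hV y hy
    obtain ⟨r, r', e, hyr⟩ := exists_basicOpen_le_affine_inter V.2 (W k).2 y ⟨hy, hk⟩
    exact Opens.mem_iSup.mpr ⟨⟨r, k, e.le.trans (Y.basicOpen_le r')⟩, hyr⟩
  refine Submodule.mem_of_span_eq_top_of_smul_pow_mem _ t ht s ?_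
  rintro ⟨r, k, hrk⟩
  let D : Y.affineOpens := ⟨Y.basicOpen r, V.2.basicOpen r⟩
  have hD : I.ideal D ≤ K.ideal D := by
    rw [← I.map_ideal (U := D) (V := W k) hrk, ← K.map_ideal (U := D) (V := W k) hrk]
    exact Ideal.map_mono (h k)
  haveI := V.2.isLocalization_basicOpen r
  have hsD : algebraMap Γ(Y, V.1) Γ(Y, Y.basicOpen r) s ∈ (K.ideal V).map
      (algebraMap Γ(Y, V.1) Γ(Y, Y.basicOpen r)) := by
    have h1 := hD ((I.map_ideal (U := D) (V := V) (Y.basicOpen_le r)).le (Ideal.mem_map_of_mem _ hs))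
    exact (K.map_ideal (U := D) (V := V) (Y.basicOpen_le r)).ge h1
  obtain ⟨m, ⟨n, rfl⟩, hn⟩ :=
    (IsLocalization.algebraMap_mem_map_algebraMap_iff (Submonoid.powers r) _ _ s).1 hsD
  exact ⟨n, hn⟩

theorem eqToHom_subschemeι {Y : Scheme.{u}} {I K : Y.IdealSheafData} (h : I = K) :
    eqToHom (congrArg IdealSheafData.subscheme h) ≫ K.subschemeι = I.subschemeι := by
  subst h; simp

theorem factor {X S : Scheme.{u}} (f : X ⟶ S) [CompactSpace ↑S] [QuasiSeparatedSpace ↑S]
    [IsSeparated f] [QuasiCompact f] [LocallyQuasiFinite f] [LocallyOfFinitePresentation f] :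
    ∃ (T : Scheme.{u}) (j : X ⟶ T) (π : T ⟶ S), IsOpenImmersion j ∧ QuasiCompact j ∧ IsFinite π ∧
      LocallyOfFinitePresentation π ∧ j ≫ π = f := by
  obtain ⟨T, i, π, hi, -, hπ, hiπ⟩ := Groth.Agent.AlgGlue.exists_finite_factor f
  obtain ⟨Y, g, j, hj, hjg, hg, hgfp, hY, hYqs⟩ :=
    Groth.Agent.AlgGlue.exists_closedImmersion_finite_fp π
  haveI : CompactSpace X := QuasiCompact.compactSpace_of_compactSpace f
  have hfac : (i ≫ j) ≫ g = f := by rw [Category.assoc, hjg, hiπ]
  haveI : LocallyOfFinitePresentation ((i ≫ j) ≫ g) := by rw [hfac]; infer_instance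
  -- finitely many affine opens of `Y` cutting out `X` in `T`
  have hpt : ∀ x : X, ∃ W : Y.affineOpens, j (i x) ∈ W.1 ∧ j ⁻¹ᵁ W.1 ≤ i.opensRange := by
    intro x
    obtain ⟨O, hO, hOi⟩ := j.isClosedEmbedding.isInducing.isOpen_iff.1 i.opensRange.2
    obtain ⟨_, ⟨W, hW, rfl⟩, hxW, hWO⟩ := Y.isBasis_affineOpens.exists_subset_of_mem_open
      (show j (i x) ∈ O from hOi.ge ⟨x, rfl⟩) hO
    exact ⟨⟨W, hW⟩, hxW, fun t ht => hOi.le (hWO ht)⟩
  choose W hxW hWi using hpt
  obtain ⟨F, hF⟩ := isCompact_univ.elim_finite_subcover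
    (fun x : X => (i ⁻¹' (j ⁻¹' ((W x).1 : Set Y))))
    (fun x => ((W x).1.2.preimage j.continuous).preimage i.continuous)
    fun x _ => Set.mem_iUnion.2 ⟨x, hxW x⟩
  let U : Y.Opens := ⨆ x ∈ F, (W x).1
  have hpre : j ⁻¹ᵁ U = i.opensRange := by
    refine le_antisymm ?_ ?_
    · simp only [U, Scheme.Hom.preimage_iSup]
      exact iSup₂_le fun x _ => hWi x
    · rintro _ ⟨y, rfl⟩
      obtain ⟨x, hx, hy⟩ := Set.mem_iUnion₂.1 (hF (Set.mem_univ y))
      show j (i y) ∈ U
      simp only [U, Opens.mem_iSup]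
      exact ⟨x, hx, hy⟩
  let I := j.ker
  have hfg : ∀ x : X, (I.ideal (W x)).FG := fun x => ideal_fg i j g (W x) (hWi x)
  choose Kx hKxle hKxfg hKx using fun x => exists_fg_le I (W x) _ (hfg x) le_rfl
  classical
  let K : Sub I := ⟨F.sup Kx, Finset.sup_le fun x _ => hKxle x,
    Finset.sup_induction isFG_bot (fun _ h _ h' => isFG_sup h h') fun x _ => hKxfg x⟩
  have hKU : K.1.comap U.ι = I.comap U.ι := by
    refine le_antisymm (IdealSheafData.comap_mono _ K.2.1) ?_
    refine comap_le_of_forall fun V hV => ?_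
    intro s hs
    -- locally the ideals agree
    have hloc : ∀ x ∈ F, I.ideal (W x) ≤ K.1.ideal (W x) := fun x hx =>
      (hKx x).trans ((Finset.le_sup (f := Kx) hx : Kx x ≤ K.1) (W x))
    exact le_ideal_of_cover I K.1 (fun x : F => W x.1) (fun x => hloc x.1 x.2) V
      (by intro y hy
          have := hV hy
          simp only [U, Opens.mem_iSup] at this
          obtain ⟨x, hx, hxy⟩ := this
          exact ⟨⟨x, hx⟩, hxy⟩) hs
  haveI := lfp_subschemeι K.2.2
  let l : T ⟶ K.1.subscheme :=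
    IsClosedImmersion.lift K.1.subschemeι j (by rw [K.1.ker_subschemeι]; exact K.2.1)
  have hl : l ≫ K.1.subschemeι = j := IsClosedImmersion.lift_fac _ _ _
  -- both subschemes agree over `U`
  let eI : pullback U.ι I.subschemeι ≅ pullback U.ι K.1.subschemeι :=
    (I.comapIso U.ι).symm ≪≫ eqToIso (by rw [hKU]) ≪≫ K.1.comapIso U.ι
  have heI : eI.hom ≫ pullback.fst U.ι K.1.subschemeι = pullback.fst U.ι I.subschemeι := by
    simp only [eI, Iso.trans_hom, Iso.symm_hom, eqToIso.hom, Category.assoc,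
      IdealSheafData.comapIso_hom_fst]
    rw [eqToHom_subschemeι hKU.symm, IdealSheafData.comapIso_inv_subschemeι]
  -- `X` is the inverse image of `U` in `T`
  let a : X ⟶ pullback U.ι I.subschemeι :=
    pullback.lift (IsOpenImmersion.lift U.ι (i ≫ j) (by
      rintro _ ⟨x, rfl⟩
      rw [Scheme.Opens.range_ι]
      exact hpre.ge ⟨x, rfl⟩)) (i ≫ j.toImage)
      (by rw [IsOpenImmersion.lift_fac, Category.assoc]; exact congrArg (i ≫ ·) j.toImage_imageι.symm)
  haveI : IsOpenImmersion (a ≫ pullback.snd U.ι I.subschemeι) := by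
    rw [pullback.lift_snd]; infer_instance
  haveI : IsOpenImmersion a := IsOpenImmersion.of_comp a (pullback.snd U.ι I.subschemeι)
  have hli : i ≫ l = a ≫ eI.hom ≫ pullback.snd U.ι K.1.subschemeι := by
    rw [← cancel_mono K.1.subschemeι, Category.assoc, hl, Category.assoc, Category.assoc,
      ← pullback.condition, reassoc_of% heI, pullback.condition, pullback.lift_snd_assoc,
      Category.assoc]
    exact congrArg (i ≫ ·) j.toImage_imageι.symm
  haveI : IsOpenImmersion (i ≫ l) := by rw [hli]; infer_instance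
  haveI : QuasiSeparatedSpace K.1.subscheme :=
    quasiSeparatedSpace_of_quasiSeparated K.1.subschemeι
  exact ⟨K.1.subscheme, i ≫ l, K.1.subschemeι ≫ g, inferInstance, inferInstance, inferInstance,
    inferInstance, by rw [Category.assoc, reassoc_of% hl, hjg, hiπ]⟩

end Aux

open AlgebraicGeometry CategoryTheory Limits in
/-- Let S be quasi-compact and quasi-separated and f : X → S separated, quasi-compact, locally
quasi-finite and locally of finite presentation. Then f factors as a quasi-compact open immersion X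
→ T followed by a morphism T → S which is finite and of finite presentation. -/
theorem result {X S : Scheme.{u}} (f : X ⟶ S) [CompactSpace ↑S] [QuasiSeparatedSpace ↑S]
    [IsSeparated f] [QuasiCompact f] [LocallyQuasiFinite f] [LocallyOfFinitePresentation f] :
    ∃ (T : Scheme.{u}) (j : X ⟶ T) (π : T ⟶ S), IsOpenImmersion j ∧ QuasiCompact j ∧ IsFinite π ∧ LocallyOfFinitePresentation π ∧ j ≫ π = f := by
  open CategoryTheory.Limits TopologicalSpace Opposite in
  exact Aux.factor f

end Groth.Agent.S1477
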