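import Groth.Statements.S0156
import Groth.Agent.EtPBCq.ProperBC
import Groth.Agent.EtContLib.StalkPush

set_option autoImplicit false
universe u
open CategoryTheory CategoryTheory.Limits AlgebraicGeometry Opposite
open EtPBC

set_option backward.isDefEq.respectTransparency false
set_option backward.isDefEq.respectTransparency.types false
set_option maxHeartbeats 1000000

namespace Groth.Agent.S0156

/-- (1): f : X -> Y proper, ybar : Spec Ω -> Y a geometric point, F a torsion abelian sheaf on X_et: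
(R^n f_* F)_ybar is isomorphic to H^n(X_ybar, F|X_ybar) with X_ybar = X x_Y Spec Ω. The source
identifies them via the base change map; we state existence of an isomorphism (weaker). -/
theorem result {X Y : Scheme.{u}} (f : X ⟶ Y) [IsProper f] [EtCoh.BCCont f]
    {Ω : Type u} [Field Ω] [IsSepClosed Ω] (ξ : Spec (CommRingCat.of Ω) ⟶ Y)
    [EtCoh.BCCont (pullback.fst f ξ)] (F : EtCoh.Ab X) (hF : EtCoh.IsTorsion F) (n : ℕ) :
    Nonempty ((EtCoh.stalk ξ).obj ((EtCoh.Rpush f n).obj F) ≅
      AddCommGrpCat.of (EtCoh.H (pullback f ξ) ((EtCoh.pull (pullback.fst f ξ)).obj F) n)) := by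
  obtain ⟨y, τ, hτ⟩ := Groth.Agent.EtPBC0.exists_fac_strictHenz ξ
  let R := Hensel.StrictHenz (Y.presheaf.stalk y)
  haveI : IsSepClosed (IsLocalRing.ResidueField R) :=
    (Hensel.isSepClosure_residueField_strictHenz (Y.presheaf.stalk y)).sep_closed
  let hR := Hens2.specOf Y y R
  let l := Spec.map (CommRingCat.ofHom τ)
  let cpt := Spec.map (CommRingCat.ofHom (IsLocalRing.residue R))
  have c := IsPullback.of_hasPullback f hR
  have hl : (l ≫ cpt) ≫ hR = ξ := (Category.assoc _ _ _).trans hτ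
  let m : pullback f ξ ⟶ pullback f hR := c.lift (pullback.fst f ξ) (pullback.snd f ξ ≫ l ≫ cpt)
    (pullback.condition.trans ((whisker_eq _ hl.symm).trans (Category.assoc _ _ _).symm))
  have hm : IsPullback m (pullback.snd f ξ) (pullback.snd f hR) (l ≫ cpt) :=
    IsPullback.of_right (by rw [c.lift_fst, hl]; exact IsPullback.of_hasPullback f ξ) (c.lift_snd _ _ _) c
  haveI := Groth.Agent.EtFound.pull_preservesFiniteLimits m
  have hb : Groth.Agent.EtPBCq.BCInv (pullback.snd f hR) (l ≫ cpt) := by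
    haveI : IsProper (pullback.snd (pullback.snd f hR) cpt) := MorphismProperty.pullback_snd _ _ inferInstance
    exact Groth.Agent.EtPBCq.bcInv_comp _ cpt l
      (fun P₀ i b₀ c₀ _ G hG q => Groth.Agent.EtPBCq.bijective_Hpull_residue R _ i b₀ c₀ G hG q)
      (Groth.Agent.EtPBCq.bcInv_sepClosed _ l)
  have hbij := Groth.Agent.EtAcycBC.bijective_HpullVia_of_Hpull m (pullback.fst f hR) (pullback.fst f ξ)
    (c.lift_fst _ _ _) F n (hb _ m _ hm _ (Groth.Agent.GalTorLib.isTorsion_pull _ F hF) n)
  obtain ⟨e⟩ := Groth.Agent.EtContLib.nonempty_stalk_Rpush f y R n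
  subst hτ
  exact ⟨((asIso ((Groth.Agent.EtFound.stalkExtIso AddCommGrpCat.{u + 1} (Hens2.geomPt Y y R) l).hom.app
    ((EtCoh.Rpush f n).obj F))).symm ≪≫ e.app F) ≪≫ AddEquiv.toAddCommGrpIso (AddEquiv.ofBijective _ hbij)⟩

end Groth.Agent.S0156
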