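import Groth.Statements.S0125
import Groth.Agent.EtTorLib.Exhaust
import Groth.Agent.EtTorLib.PushTors

set_option autoImplicit false
universe u
open CategoryTheory CategoryTheory.Limits AlgebraicGeometry Opposite
open EtPBC

namespace Groth.Agent.S0125

/-- Part (1): for f : X -> Y quasi-compact and quasi-separated and F a torsion abelian sheaf on X_et,
each R^n f_* F is a torsion abelian sheaf on Y_et. -/
theorem result {X Y : Scheme.{u}} (f : X ⟶ Y) [QuasiCompact f] [QuasiSeparated f]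
    [EtCoh.BCCont f] (F : EtCoh.Ab X) (hF : EtCoh.IsTorsion F) (n : ℕ) :
    EtCoh.IsTorsion ((EtCoh.Rpush f n).obj F) := by
  haveI := EtTorLib.isFiltered_tidx.{u} (M := {n : ℕ | 0 < n}) Nat.one_pos EtTorLib.pos_mul
  obtain ⟨hc⟩ := EtTorLib.nonempty_isColimit_torsCocone (M := {n : ℕ | 0 < n}) F Nat.one_pos EtTorLib.pos_mul (EtTorLib.isTorsion_cond hF)
  intro U s x
  obtain ⟨W, g, hW, w, hw⟩ := EtTorLib.exists_affine_nhd U x
  obtain ⟨i, hi⟩ := EtTorLib.exists_stage_killed f n F hc W hW (((EtCoh.Rpush f n).obj F).obj.map g.op s)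
  exact ⟨W, g, ⟨w, hw⟩, isOfFinAddOrder_iff_nsmul_eq_zero.2 ⟨i.n, i.mem, hi⟩⟩

end Groth.Agent.S0125
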