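import Groth.Statements.S10732
import Groth.Agent.EtQC.Serre.Main
import Groth.Agent.EtQC.Serre.Closed
import Groth.Agent.EtQC.FTExt
import Groth.Agent.AlgSpLib.CartierRegular

set_option autoImplicit false
universe u
open CategoryTheory CategoryTheory.Limits AlgebraicGeometry Opposite
open AlgSp

namespace Groth.Agent.S10732

set_option backward.isDefEq.respectTransparency false
set_option backward.isDefEq.respectTransparency.types false

open Groth.Agent.EtQC

/-- Let X be a quasi-compact algebraic space, quasi-separated over a quasi-separated base scheme S, such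
that H^1(X, M) = 0 for every quasi-coherent O_X-module M on the small etale site of X. Then X is an
affine scheme: there is an affine scheme T over S with h_T ≅ X. (Quasi-separatedness is taken
relative to S together with S quasi-separated, which gives the absolute notion of the published
statement.) -/
theorem result {S : Scheme.{u}} [QuasiSeparatedSpace ↥S]
    (X : AlgSp.Space S) (hqc : AlgSp.IsQuasiCompactSp X.obj) (hqs : AlgSp.IsQuasiSeparatedSp X.obj)
    (h1 : ∀ M : AlgSp.ModEt X.obj, M.IsQuasicoherent → Subsingleton (AlgSp.HModEt X.obj M 1)) :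
    ∃ T : Over S, IsAffine T.left ∧ Nonempty ((AlgSp.yon S).obj T ≅ X.obj) := by
  obtain ⟨U, φ, hU, he, hs⟩ := AlgSpLib.CartierRegular.exists_affine_atlas X.property hqc
  let V : EtOver X.obj := EtOver.mk φ he
  haveI : IsAffine V.obj.left.left := hU
  have hH : ∀ K : ModEt X.obj, BCAll K → Subsingleton (HModEt X.obj K 1) := fun K hK => h1 K hK.isQuasicoherent
  refine Serre.exists_iso_affine X.property hqs (V := V) hs hH fun M hM hglob s => ?_
  obtain ⟨G, hG, hFT, hsG⟩ := exists_ft_sub hM X.property hqc hqs (fun _ : Fin 1 => V) (fun _ => hU) (fun _ => s)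
  obtain ⟨t, ht⟩ := (Set.ext_iff.1 (G.range_ι V hU) s).2 (hsG 0)
  have hfin : ∀ E : EtOver X.obj, IsAffine E.obj.left.left → Module.Finite (Fn E) (sectModEt G.mod E) :=
    fun E hE => haveI := hE; hFT.finite hG E
  have hz : ∀ m ∈ Serre.globSub V G.mod, m = 0 := fun m hm => app_injective G.ι V
    ((hglob _ (Serre.app_mem_globSub V G.ι hm)).trans (map_zero _).symm)
  rw [← ht, Serre.eq_zero_of_finite hqc hqs X.property (V := V) hs hH hG hfin hz t, map_zero]

end Groth.Agent.S10732
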