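import Groth.Statements.S10046
import Groth.Agent.EtQC.Chev.Gen
import Groth.Agent.AlgSpDec.LimScheme
-- import your own Groth.Agent.* helpers here

set_option autoImplicit false
universe u
open CategoryTheory CategoryTheory.Limits AlgebraicGeometry
open AlgSp

namespace Groth.Agent.S10046

set_option backward.isDefEq.respectTransparency false
set_option backward.isDefEq.respectTransparency.types false
open Groth.Agent.EtQC Groth.Agent.AlgSpLib Groth.Agent.AlgSpPts Groth.Agent.AlgSpDec

/-- Let `f : X ⟶ Y`, a morphism of algebraic spaces over `S`, be integral and induce a bijection on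
points. Then `X` is representable by a scheme over `S` exactly when `Y` is. -/
theorem result (S : Scheme.{u}) {X Y : AlgSp.Space S} (f : X ⟶ Y)
    (hint : AlgSp.IsIntegralMor f.hom) (hbij : Function.Bijective (AlgSp.Points.map f.hom)) :
    X.obj.obj.IsRepresentable ↔ Y.obj.obj.IsRepresentable := by
  have hr : RepWith @IsIntegralHom f.hom := AlgSpDec.isIntegralMor_iff_repWith.1 hint
  constructor
  · intro hX
    obtain ⟨T, ⟨r⟩⟩ := hX.has_representation
    let e := AlgSp.isoOfRepresentableBy r
    let g : (AlgSp.yon S).obj T ⟶ Y.obj := e.hom ≫ f.hom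
    have hg : RepWith @IsIntegralHom g :=
      repWith_comp (repWith_mono (fun _ _ k (_ : IsIso k) => (inferInstance : IsIntegralHom k)) _
        (repWith_of_isIso (MorphismProperty.isomorphisms Scheme.{u}) e.hom)) hr
    have hgu : RepWith @UniversallyClosed g :=
      repWith_mono (fun _ _ k (_ : IsIntegralHom k) => (inferInstance : UniversallyClosed k)) _ hg
    have hebij : Function.Bijective (Points.map e.hom) :=
      Function.bijective_iff_has_inverse.2 ⟨Points.map e.inv,
        fun x => by rw [← Points.map_comp, e.hom_inv_id, Points.map_id],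
        fun x => by rw [← Points.map_comp, e.inv_hom_id, Points.map_id]⟩
    have hgb : Function.Bijective (Points.map g) := by
      have h := hbij.comp hebij
      rwa [show Points.map f.hom ∘ Points.map e.hom = Points.map g from funext fun x => (Points.map_comp _ _ x).symm] at h
    have hgs : RepWith @Surjective g := (repWith_surjective_iff hg.rep).2 hgb.2
    choose O hO htO using fun t : ↥T.left =>
      (exists_isAffineOpen_mem_and_subset (U := (⊤ : T.left.Opens)) (x := t) trivial)
    have hW : ∀ t, IsOpen (Points.map g '' (Points.ofScheme T '' (O t : Set ↥T.left))) := fun t => by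
      rw [← isClosed_compl_iff, ← Set.image_compl_eq hgb]
      exact AlgSpPts.isClosedMap_map hgu _
        (((Points.schemeHomeo T).isOpenMap _ (O t).isOpen).isClosed_compl)
    choose Y' j hY' hj hrange using fun t => exists_open_subspace Y.property (hW t)
    let W := fun t => (hj t).rep.pullback g
    let q : ∀ t, W t ⟶ T := fun t => (hj t).rep.snd g
    have sq : ∀ t, IsPullback ((hj t).rep.fst g) ((AlgSp.yon S).map (q t)) (j t) g := fun t =>
      (hj t).rep.isPullback g
    have hWa : ∀ t, IsAffine (W t).left := fun t => by
      haveI : IsOpenImmersion (q t).left := (hj t).2 _ _ _ (sq t)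
      have he : (q t).left.opensRange = O t := by
        refine TopologicalSpace.Opens.ext (Set.ext fun x => ?_)
        constructor
        · rintro ⟨w, rfl⟩
          have h1 : Points.map g (Points.ofScheme T ((q t).left w)) ∈ Points.map g '' (Points.ofScheme T '' (O t : Set ↥T.left)) := by
            rw [← hrange t]
            refine ⟨Points.ofPt ((hj t).rep.fst g) w, ?_⟩
            rw [AlgSpPts.map_ofPt_fst (sq t), Points.map_ofPt, Category.id_comp]
          obtain ⟨_, ⟨y, hy, rfl⟩, hyx⟩ := h1
          have : y = (q t).left w := (Points.schemeEquiv T).injective (hgb.1 hyx)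
          exact this ▸ hy
        · intro hx
          obtain ⟨z, hz⟩ := (hrange t).symm.subset ⟨_, ⟨x, hx, rfl⟩, rfl⟩
          have h2 : Points.map (j t) z = Points.ofPt g x := by
            rw [hz, Points.map_ofPt, Category.id_comp]
          obtain ⟨v, -, hv⟩ := AlgSpPts.exists_lift (sq t) h2
          exact ⟨v, hv⟩
      haveI : IsAffine (O t).toScheme := hO t
      exact IsAffine.of_isIso (IsOpenImmersion.isoOfRangeEq (q t).left (O t).ι (by
        rw [Scheme.Opens.range_ι, ← he]; rfl)).hom
    have hR : ∀ t, ∃ R : Over S, IsAffine R.left ∧ Nonempty ((AlgSp.yon S).obj R ≅ Y' t) := fun t => by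
      haveI := hWa t
      exact Chev.exists_iso_of_univClosed ⟨Y' t, hY' t⟩ ((hj t).rep.fst g) (repWith_of_isPullback (sq t).flip hgu)
        (repWith_of_isPullback (sq t).flip hgs)
    choose R hR eR using hR
    obtain ⟨Q, ⟨eQ⟩, -⟩ := exists_iso_of_open_cover R (fun t => (eR t).some.hom ≫ j t)
      (fun t => repWith_comp (repWith_of_isIso _ _) (hj t)) (fun y => by
        obtain ⟨x, rfl⟩ := hgb.2 y
        obtain ⟨u, rfl⟩ := (Points.schemeEquiv T).surjective x
        obtain ⟨z, hz⟩ := (hrange u).symm.subset ⟨_, ⟨u, (htO u).1, rfl⟩, rfl⟩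
        obtain ⟨w, hw⟩ := (Points.schemeEquiv (R u)).surjective (Points.map (eR u).some.inv z)
        refine ⟨u, w, ?_⟩
        rw [Points.ofPt_eq_map_ofScheme, show Points.ofScheme (R u) w = Points.map (eR u).some.inv z from hw,
          ← Points.map_comp, Iso.inv_hom_id_assoc, hz]
        rfl)
    exact AlgSpDec.isRepresentable_of_iso eQ
  · intro hY
    obtain ⟨T, ⟨r⟩⟩ := hY.has_representation
    let e := AlgSp.isoOfRepresentableBy r
    have sq := hr.rep.isPullback e.hom
    haveI : IsIso (hr.rep.fst e.hom) := sq.isIso_fst_of_isIso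
    exact AlgSpDec.isRepresentable_of_iso (asIso (hr.rep.fst e.hom))

end Groth.Agent.S10046
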