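import Groth.Statements.S5159
import Groth.Agent.PerfGen7.KoszulExt
import Groth.Agent.S5150
import Groth.Agent.CAlgGlobalDim.RegSeq
import Groth.Agent.LC.ExtBridge
import Mathlib

set_option autoImplicit false
universe u
open CategoryTheory Opposite
open Dual

namespace Groth.Agent.S5159


open IsLocalRing

variable {A : Type u} [CommRing A]

/-- Ext is invariant under isomorphisms in the first variable. -/
noncomputable def extCongr {X X' : ModuleCat.{u} A} (e : X ≅ X') (Y : ModuleCat.{u} A) (i : ℕ) :
    Abelian.Ext X' Y i ≃ₗ[A] Abelian.Ext X Y i :=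
  LinearEquiv.ofLinear (Abelian.Ext.precompOfLinear (Abelian.Ext.mk₀ e.hom) A Y (zero_add i))
    (Abelian.Ext.precompOfLinear (Abelian.Ext.mk₀ e.inv) A Y (zero_add i))
    (LinearMap.ext fun x => by simp) (LinearMap.ext fun x => by simp)

variable [IsRegularLocalRing A]

/-- The property to be proved. -/
def Good (n : ℕ) (X : ModuleCat.{u} A) : Prop :=
  (∀ i : ℕ, i ≠ n → Subsingleton (Abelian.Ext X (ModuleCat.of A A) i)) ∧
    Module.length A (Abelian.Ext X (ModuleCat.of A A) n) = Module.length A X

lemma good_residue (n : ℕ) (hn : ringKrullDim A = n) :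
    Good n (ModuleCat.of A (A ⧸ maximalIdeal A)) := by
  classical
  have hk : (maximalIdeal A).spanFinrank = n := Groth.Agent.CAlgGlobalDim.spanFinrank_eq_of_dim A n hn
  have hfg := (maximalIdeal A).fg_of_isNoetherianRing
  let rs : List A := (Submodule.FG.finite_generators hfg).toFinset.toList
  have hlen : rs.length = n := by
    rw [Finset.length_toList, ← Set.ncard_eq_toFinset_card _ (Submodule.FG.finite_generators hfg),
      Submodule.FG.generators_ncard hfg, hk]
  have hspan : Ideal.ofList rs = maximalIdeal A := by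
    conv_rhs => rw [← (maximalIdeal A).span_generators]
    exact congrArg Ideal.span (Set.ext fun z => by simp [rs])
  have hreg := Groth.Agent.CAlgGlobalDim.isWeaklyRegular_of_generators n A rs hlen hspan hk.ge
  obtain ⟨hhigh, ⟨e⟩⟩ := Groth.Agent.PerfGen7.KoszulExt.ext_top rs hreg (ModuleCat.of A A)
  rw [hlen] at hhigh e
  let c : ModuleCat.of A (A ⧸ maximalIdeal A) ≅ ModuleCat.of A (A ⧸ Ideal.ofList rs) :=
    (Submodule.quotEquivOfEq _ _ hspan.symm).toModuleIso
  refine ⟨fun i hi => ?_, ?_⟩
  · rcases Nat.lt_or_gt_of_ne hi with h | h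
    · refine Groth.Agent.S5150.result A (maximalIdeal A) A _ rs hreg
        (fun r hr => hspan ▸ Ideal.subset_span hr) 1 ?_ i (hlen ▸ h)
      refine (Submodule.eq_bot_iff _).2 fun x hx => ?_
      refine Submodule.smul_induction_on hx (fun a ha m _ => ?_) ?_
      · obtain ⟨r, rfl⟩ := Submodule.Quotient.mk_surjective _ m
        rw [pow_one] at ha
        exact (Submodule.Quotient.mk_eq_zero _).2 (Ideal.mul_mem_right r _ ha)
      · intro a b ha hb; rw [ha, hb, add_zero]
    · have := hhigh i h
      exact (extCongr c _ i).symm.toEquiv.subsingleton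
  · rw [((extCongr c _ n).symm.trans (e.trans (Submodule.quotEquivOfEq _ (maximalIdeal A)
      (by rw [hspan, smul_eq_mul, Ideal.mul_top])))).length_eq]

lemma good_of_finiteLength (n : ℕ) (hn : ringKrullDim A = n) (M : Type u) [AddCommGroup M] [Module A M]
    (hM : IsFiniteLength A M) : Good n (ModuleCat.of A M) := by
  induction hM with
  | @of_subsingleton M _ _ _ =>
    have hz : ∀ i, Subsingleton (Abelian.Ext (ModuleCat.of A M) (ModuleCat.of A A) i) := fun i =>
      subsingleton_of_forall_eq 0 fun x => by
        rw [← Abelian.Ext.mk₀_id_comp x,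
          (ModuleCat.isZero_of_subsingleton (ModuleCat.of A M)).eq_of_src (𝟙 _) 0,
          Abelian.Ext.mk₀_zero, Abelian.Ext.zero_comp]
    have := hz n
    exact ⟨fun i _ => hz i, by rw [Module.length_eq_zero, Module.length_eq_zero]⟩
  | @of_simple_quotient M _ _ N _ _ ih =>
    obtain ⟨hN, hlN⟩ := ih
    obtain ⟨I, hI, ⟨e⟩⟩ := isSimpleModule_iff_quot_maximal.1 (inferInstance : IsSimpleModule A (M ⧸ N))
    obtain rfl : I = maximalIdeal A := eq_maximalIdeal hI
    obtain ⟨hQ, hlQ⟩ := good_residue (A := A) n hn
    let S := ShortComplex.mk (ModuleCat.ofHom N.subtype) (ModuleCat.ofHom N.mkQ)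
      (by ext x; exact (Submodule.Quotient.mk_eq_zero N).2 x.2)
    have hS : S.ShortExact :=
      { mono_f := (ModuleCat.mono_iff_injective _).2 Subtype.val_injective
        epi_g := (ModuleCat.epi_iff_surjective _).2 N.mkQ_surjective
        exact := (ShortComplex.moduleCat_exact_iff _).2 fun x hx =>
          ⟨⟨x, (Submodule.Quotient.mk_eq_zero N).1 hx⟩, rfl⟩ }
    have c := extCongr (X := ModuleCat.of A (M ⧸ N)) e.toModuleIso (ModuleCat.of A A)
    have hQ' : ∀ i ≠ n, Subsingleton (Abelian.Ext S.X₃ (ModuleCat.of A A) i) := fun i hi => by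
      have := hQ i hi
      exact (c i).symm.toEquiv.subsingleton
    refine ⟨fun i hi => ?_, ?_⟩
    · have := hQ' i hi
      have := hN i hi
      refine subsingleton_of_forall_eq 0 fun x => ?_
      obtain ⟨y, hy⟩ := Abelian.Ext.contravariant_sequence_exact₂ hS _ x
        (Subsingleton.elim (α := Abelian.Ext (ModuleCat.of A N) (ModuleCat.of A A) i) _ _)
      rw [← hy, Subsingleton.elim y 0, Abelian.Ext.comp_zero]
    · let g := Abelian.Ext.precompOfLinear (Abelian.Ext.mk₀ S.g) A (ModuleCat.of A A) (zero_add n)
      let f := Abelian.Ext.precompOfLinear (Abelian.Ext.mk₀ S.f) A (ModuleCat.of A A) (zero_add n)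
      have hg : Function.Injective g := (injective_iff_map_eq_zero g).2 fun x hx => by
        rcases n.eq_zero_or_pos with h0 | h0
        · subst h0
          have := hS.epi_g
          exact Abelian.Ext.precomp_mk₀_injective_of_epi _ S.g (hx.trans (map_zero _).symm)
        · obtain ⟨y, rfl⟩ := Abelian.Ext.contravariant_sequence_exact₃ hS _ x hx (n₀ := n - 1) (by omega)
          have := hN (n - 1) (by omega)
          rw [Subsingleton.elim (α := Abelian.Ext (ModuleCat.of A N) (ModuleCat.of A A) (n - 1)) y 0,
            Abelian.Ext.comp_zero]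
      have hf : Function.Surjective f := fun y => by
        have := hQ' (n + 1) (by omega)
        exact Abelian.Ext.contravariant_sequence_exact₁ hS _ y (show 1 + n = n + 1 by omega)
          (Subsingleton.elim _ _)
      have hgf : Function.Exact g f := fun x => by
        refine ⟨fun hx => Abelian.Ext.contravariant_sequence_exact₂ hS _ x hx, ?_⟩
        rintro ⟨y, rfl⟩
        show (Abelian.Ext.mk₀ S.f).comp ((Abelian.Ext.mk₀ S.g).comp y (zero_add n)) (zero_add n) = 0
        rw [Abelian.Ext.mk₀_comp_mk₀_assoc, S.zero, Abelian.Ext.mk₀_zero, Abelian.Ext.zero_comp]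
      refine (Module.length_eq_add_of_exact g f hg hf hgf).trans ?_
      rw [Module.length_eq_add_of_exact N.subtype N.mkQ Subtype.val_injective N.mkQ_surjective
        (LinearMap.exact_subtype_mkQ N), add_comm]
      exact congrArg₂ (· + ·) hlN ((c n).length_eq.symm.trans (hlQ.trans e.length_eq.symm))


/-- Let A be a regular local ring of dimension n and M an A-module of finite length. Then Ext^i_A(M, A)
= 0 for i ≠ n and length Ext^n_A(M, A) = length M (the functor Ext^n_A(−, A) is dualizing). -/
theorem result (A : Type u) [CommRing A] [IsRegularLocalRing A] (n : ℕ) (hn : ringKrullDim A = n) (M : Type u) [AddCommGroup M] [Module A M] (hM : IsFiniteLength A M) : (∀ i : ℕ, i ≠ n → Subsingleton (((Ext A (ModuleCat.{u} A) i).obj (op (ModuleCat.of A M))).obj (ModuleCat.of A A))) ∧ Module.length A (((Ext A (ModuleCat.{u} A) n).obj (op (ModuleCat.of A M))).obj (ModuleCat.of A A)) = Module.length A M := by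
  obtain ⟨h₁, h₂⟩ := good_of_finiteLength (A := A) n hn M hM
  have b := fun i => Groth.Agent.LC.ExtBridge.bridge
    (CategoryTheory.projectiveResolution (ModuleCat.of A M)) (ModuleCat.of A A) i
  refine ⟨fun i hi => ?_, (b n).length_eq.trans h₂⟩
  have := h₁ i hi
  exact (b i).toEquiv.subsingleton

end Groth.Agent.S5159
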