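import Groth.Statements.S16375
import Groth.Agent.KFlatLib.Scheme.ProjPerfect
import Groth.Agent.KFlatLib.Scheme.ProjFormula
import Groth.Agent.KFlatLib.Scheme.TensorAssoc
import Groth.Agent.KFlatLib.Scheme.RGammaPush
import Groth.Agent.KFlatLib.Scheme.PullTensorCx

set_option autoImplicit false
set_option backward.isDefEq.respectTransparency false
set_option backward.isDefEq.respectTransparency.types false
universe u
open CategoryTheory CategoryTheory.Limits AlgebraicGeometry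
attribute [local instance] HasDerivedCategory.standard
open FMK

namespace Groth.Agent.S16375

/-- Let k be an algebraically closed field, X and Y schemes over k with structure morphisms a and b, and
P a cochain complex of modules on the fibre product X ×_k Y (no condition on P, X or Y). Write Φ_P =
Rpr_{Y,*}(Lpr_X^*(−) ⊗^L P) : D(O_X) → D(O_Y) and Ψ_P = Rpr_{X,*}(Lpr_Y^*(−) ⊗^L P) : D(O_Y) →
D(O_X), the derived functors involved being assumed to exist. Let E be a cochain complex of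
O_X-modules and F a cochain complex of O_Y-modules whose images in the derived categories are
perfect. Then RΓ(X, Ψ_P(F) ⊗^L E) and RΓ(Y, Φ_P(E) ⊗^L F) are isomorphic objects of D(Ab) (existence
of an isomorphism only; the published statement records the resulting isomorphisms H^i(X, E ⊗ Ψ_P F)
≅ H^i(Y, Φ_P E ⊗ F) of hypercohomology groups for every i). -/
theorem result (k : Type u) [Field k] [IsAlgClosed k]
    (X Y : Scheme.{u}) (a : X ⟶ Spec (CommRingCat.of k)) (b : Y ⟶ Spec (CommRingCat.of k))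
    (P : CochainComplex (pullback a b).Modules ℤ)
    [DCoh.HasLpull (pullback.fst a b)] [DCoh.HasLpull (pullback.snd a b)] [DCoh.HasLTensorCx P]
    [DCoh.HasRpush (pullback.fst a b)] [DCoh.HasRpush (pullback.snd a b)]
    [DCoh.HasRΓ X] [DCoh.HasRΓ Y]
    (E : CochainComplex X.Modules ℤ) (hE : DCoh.IsPerfect (DCoh.toD X E)) [DCoh.HasLTensorCx E]
    (F : CochainComplex Y.Modules ℤ) (hF : DCoh.IsPerfect (DCoh.toD Y F)) [DCoh.HasLTensorCx F] :
    Nonempty ((DCoh.RΓ X).obj ((DCoh.LTensorCx E).obj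
        ((DCoh.Lpull (pullback.snd a b) ⋙ DCoh.LTensorCx P ⋙ DCoh.Rpush (pullback.fst a b)).obj (DCoh.toD Y F))) ≅
      (DCoh.RΓ Y).obj ((DCoh.LTensorCx F).obj ((FMK.phi a b P).obj (DCoh.toD X E)))) := by
  let p := pullback.fst a b
  let q := pullback.snd a b
  let T := DCoh.tensorCx (X := pullback a b)
  let Ek := (KFlatLib.kRes X).obj E
  let Fk := (KFlatLib.kRes Y).obj F
  let Pk := (KFlatLib.kRes (pullback a b)).obj P
  have hEk : DCoh.IsKFlat Ek := KFlatLib.isKFlat_kRes _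
  have hFk : DCoh.IsKFlat Fk := KFlatLib.isKFlat_kRes _
  have hPk : DCoh.IsKFlat Pk := KFlatLib.isKFlat_kRes _
  let eE : DCoh.toD X Ek ≅ DCoh.toD X E := (KFlatLib.resQIso X).app E
  let eF : DCoh.toD Y Fk ≅ DCoh.toD Y F := (KFlatLib.resQIso Y).app F
  let eP : DCoh.toD _ Pk ≅ DCoh.toD _ P := (KFlatLib.resQIso _).app P
  haveI := KFlatLib.hasLTensorCx Ek
  haveI := KFlatLib.hasLTensorCx Fk
  haveI := KFlatLib.hasLTensorCx Pk
  let E' := (KFlatLib.pullCx p).obj Ek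
  let F' := (KFlatLib.pullCx q).obj Fk
  have hE' : DCoh.IsKFlat E' := KFlatLib.isKFlat_pullback p hEk
  have hF' : DCoh.IsKFlat F' := KFlatLib.isKFlat_pullback q hFk
  haveI := KFlatLib.hasLTensorCx E'
  haveI := KFlatLib.hasLTensorCx F'
  obtain ⟨cE⟩ := KFlatLib.nonempty_LTensorCx_congr_D eE
  obtain ⟨cF⟩ := KFlatLib.nonempty_LTensorCx_congr_D eF
  obtain ⟨cP⟩ := KFlatLib.nonempty_LTensorCx_congr_D eP
  let A := (DCoh.LTensorCx P).obj ((DCoh.Lpull q).obj (DCoh.toD Y F))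
  let B := (DCoh.LTensorCx P).obj ((DCoh.Lpull p).obj (DCoh.toD X E))
  let eA : A ≅ DCoh.toD _ ((T.obj F').obj Pk) :=
    (DCoh.LTensorCx P).mapIso ((DCoh.Lpull q).mapIso eF.symm ≪≫ KFlatLib.lpullIso q hFk) ≪≫
      (cP.app _).symm ≪≫ KFlatLib.ltensorCxIso Pk hF'
  let eB : B ≅ DCoh.toD _ ((T.obj E').obj Pk) :=
    (DCoh.LTensorCx P).mapIso ((DCoh.Lpull p).mapIso eE.symm ≪≫ KFlatLib.lpullIso p hEk) ≪≫
      (cP.app _).symm ≪≫ KFlatLib.ltensorCxIso Pk hE'
  obtain ⟨π₁⟩ := KFlatLib.nonempty_projection_perfect p Ek hEk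
    (fun x => let ⟨V, hV, h⟩ := hE x; ⟨V, hV, fun G ⟨g⟩ => h G ⟨g ≪≫ eE⟩⟩) A
  obtain ⟨π₂⟩ := KFlatLib.nonempty_projection_perfect q Fk hFk
    (fun x => let ⟨V, hV, h⟩ := hF x; ⟨V, hV, fun G ⟨g⟩ => h G ⟨g ≪≫ eF⟩⟩) B
  haveI : DCoh.HasRΓ (pullback a b) := by
    haveI := TriCat.qh_isLeftAdjoint_of_exists_resolution (A := (pullback a b).Modules) KFlatLib.exists_kInjective_res
    let adjQ := Adjunction.ofIsLeftAdjoint (DerivedCategory.Qh (C := (pullback a b).Modules))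
    let W := HomotopyCategory.quasiIso (pullback a b).Modules (ComplexShape.up ℤ)
    have hd := TriCat.isRightDerivedFunctor_of_adjunction adjQ W (DCoh.gammaKh (pullback a b))
    exact Functor.HasRightDerivedFunctor.mk' (L := DerivedCategory.Qh)
      (DerivedCategory.Qh.rightAdjoint ⋙ DCoh.gammaKh (pullback a b))
      (Functor.whiskerRight adjQ.unit (DCoh.gammaKh (pullback a b))) (W := W)
  obtain ⟨γ₁⟩ := KFlatLib.nonempty_rpush_RΓ_iso p
  obtain ⟨γ₂⟩ := KFlatLib.nonempty_rpush_RΓ_iso q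
  let σ : ∀ M N : CochainComplex (pullback a b).Modules ℤ, (T.obj M).obj N ≅ (T.obj N).obj M := fun M N =>
    (KFlatLib.symmIso (T := DCoh.tensorBi) (KFlatLib.tensorBiFlipIso _) N).app M
  let eC : (T.obj ((T.obj F').obj Pk)).obj E' ≅ (T.obj ((T.obj E').obj Pk)).obj F' :=
    KFlatLib.tensorCxAssocIso F' Pk E' ≪≫ (T.obj F').mapIso (σ Pk E') ≪≫ σ F' _
  let eZ : (DCoh.LTensorCx E').obj A ≅ (DCoh.LTensorCx F').obj B :=
    (DCoh.LTensorCx E').mapIso eA ≪≫ KFlatLib.ltensorCxIso E' (KFlatLib.isKFlat_tensorCx hF' hPk) ≪≫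
      DerivedCategory.Q.mapIso eC ≪≫ (KFlatLib.ltensorCxIso F' (KFlatLib.isKFlat_tensorCx hE' hPk)).symm ≪≫
      (DCoh.LTensorCx F').mapIso eB.symm
  exact ⟨(DCoh.RΓ X).mapIso ((cE.app _).symm ≪≫ π₁) ≪≫ γ₁.app _ ≪≫ (DCoh.RΓ _).mapIso eZ ≪≫
    (γ₂.app _).symm ≪≫ (DCoh.RΓ Y).mapIso (π₂.symm ≪≫ cF.app _)⟩

end Groth.Agent.S16375
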