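import Groth.Statements.S2079
import Groth.Agent.AlgGlue.ClosedInFP
import Groth.Agent.AlgGlue.ProperSub

set_option backward.isDefEq.respectTransparency false

set_option autoImplicit false
universe u
open CategoryTheory AlgebraicGeometry
open Lim

namespace Groth.Agent.S2079

/-- Let `f : X → S` be proper with `S` quasi-compact and quasi-separated. Then `X` is the limit of a
cofiltered diagram of `S`-schemes which are proper and of finite presentation over `S`, with all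
transition morphisms and all projections `X → X_i` closed immersions. -/
theorem result {X S : Scheme.{u}} (f : X ⟶ S) [IsProper f] [CompactSpace S]
    [QuasiSeparatedSpace S] :
    ∃ (I : Type u) (_ : SmallCategory I) (_ : IsCofiltered I) (D : I ⥤ Over S) (c : Limits.Cone D)
      (_ : Limits.IsLimit c) (e : c.pt ≅ Over.mk f),
      (∀ (i j : I) (a : i ⟶ j), IsClosedImmersion (D.map a).left) ∧
      (∀ i, IsClosedImmersion (c.π.app i).left ∧ IsProper (D.obj i).hom ∧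
        LocallyOfFinitePresentation (D.obj i).hom) := by
  haveI : CompactSpace X := QuasiCompact.compactSpace_of_compactSpace f
  haveI : QuasiSeparatedSpace X := quasiSeparatedSpace_of_quasiSeparated f
  obtain ⟨Y, g, j, hj, hjg, hg, hgqc, hgqs, hYc, hYqs, hsep⟩ :=
    Groth.Agent.AlgGlue.exists_closedImmersion_fp f
  haveI : IsSeparated g := hsep inferInstance
  haveI : UniversallyClosed (j.ker.subschemeι ≫ g) := by
    have e : j.ker.subschemeι ≫ g = inv j.toImage ≫ f := by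
      rw [IsIso.eq_inv_comp, ← hjg, ← Category.assoc]
      exact congrArg (· ≫ g) j.toImage_imageι
    rw [e]; infer_instance
  obtain ⟨K₀, hK₀⟩ := Groth.Agent.AlgGlue.exists_isProper_sub g j.ker
  let c₀ := Groth.Agent.MorLib.IdealFG.subCone g j.ker
  let hc₀ : Limits.IsLimit c₀ := Groth.Agent.MorLib.IdealFG.isLimitSubCone g j.ker
  let e : c₀.pt ≅ Over.mk f := Over.isoMk (asIso j.toImage).symm (by
    show inv j.toImage ≫ f = j.ker.subschemeι ≫ g
    rw [IsIso.inv_comp_eq, ← hjg, ← Category.assoc]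
    exact congrArg (· ≫ g) j.toImage_imageι.symm)
  let J : Type u := {K : Groth.Agent.MorLib.IdealFG.Sub j.ker // K₀ ≤ K}
  haveI : Nonempty J := ⟨⟨K₀, le_rfl⟩⟩
  haveI : IsDirectedOrder J := ⟨fun A B =>
    ⟨⟨⟨A.1.1 ⊔ B.1.1, sup_le A.1.2.1 B.1.2.1, Groth.Agent.MorLib.IdealFG.isFG_sup A.1.2.2 B.1.2.2⟩,
      A.2.trans (le_sup_left : A.1.1 ≤ A.1.1 ⊔ B.1.1)⟩,
      (le_sup_left : A.1.1 ≤ A.1.1 ⊔ B.1.1), (le_sup_right : B.1.1 ≤ A.1.1 ⊔ B.1.1)⟩⟩
  haveI : IsDirectedOrder (Groth.Agent.MorLib.IdealFG.Sub j.ker) := ⟨fun A B =>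
    ⟨⟨A.1 ⊔ B.1, sup_le A.2.1 B.2.1, Groth.Agent.MorLib.IdealFG.isFG_sup A.2.2 B.2.2⟩,
      (le_sup_left : A.1 ≤ A.1 ⊔ B.1), (le_sup_right : B.1 ≤ A.1 ⊔ B.1)⟩⟩
  haveI : Nonempty (Groth.Agent.MorLib.IdealFG.Sub j.ker) := ⟨K₀⟩
  let P : J ⥤ Groth.Agent.MorLib.IdealFG.Sub j.ker :=
    (Subtype.mono_coe (fun K : Groth.Agent.MorLib.IdealFG.Sub j.ker => K₀ ≤ K)).functor
  haveI : P.Final := Functor.final_of_exists_of_isFiltered P
    (fun d => by
      obtain ⟨m, hd, hm⟩ := exists_ge_ge d K₀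
      exact ⟨⟨m, hm⟩, ⟨homOfLE hd⟩⟩)
    (fun {d c} s s' => ⟨c, 𝟙 c, Subsingleton.elim _ _⟩)
  refine ⟨Jᵒᵖ, inferInstance, inferInstance, P.op ⋙ Groth.Agent.MorLib.IdealFG.subDiagram g j.ker,
    c₀.whisker P.op, (Functor.Initial.isLimitWhiskerEquiv P.op c₀).symm hc₀, e,
    fun a b m => Groth.Agent.MorLib.IdealFG.isClosedImmersion_map g j.ker (P.op.map m),
    fun i => ⟨?_, hK₀ i.unop.1 i.unop.2,
      (Groth.Agent.AlgGlue.subDiagram_props g j.ker (P.op.obj i)).1⟩⟩
  show IsClosedImmersion (Scheme.IdealSheafData.inclusion (P.op.obj i).unop.2.1)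
  infer_instance

end Groth.Agent.S2079
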