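import Groth.Statements.S18879
import Groth.Agent.DimFormula.Scheme
import Groth.Agent.FibDim.Minimal

set_option autoImplicit false
universe u
open CategoryTheory AlgebraicGeometry
open Resolve

namespace Groth.Agent.S18879

/-- Let f : Y ⟶ X be a morphism locally of finite type between Noetherian separated schemes which is
birational: it maps the maximal points of Y bijectively onto the maximal points of X, and over every
maximal point of X its fibre is one point with the same residue field. Then for every point y of Y,
the Krull dimension of the local ring of Y at y is at most the Krull dimension of the local ring of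
X at f y (the codimension of a point does not increase along f). -/
theorem result {X Y : Scheme.{u}} (f : Y ⟶ X)
    [IsNoetherian X] [X.IsSeparated] [IsNoetherian Y] [Y.IsSeparated] [LocallyOfFiniteType f]
    (hf : RadPt.IsBirational f) (y : Y) :
    ringKrullDim (Y.presheaf.stalk y) ≤ ringKrullDim (X.presheaf.stalk (f.base y)) := by
  obtain ⟨η, hηy, hmax, hcd⟩ := Groth.Agent.DimFormula.exists_maximal_cd_eq_codim y
  have hgen : η ∈ genericPoints Y := by
    refine ⟨isIrreducible_singleton.closure, fun W hW hle => ?_⟩
    have hg := hW.isGenericPoint_genericPoint_closure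
    have hz : hW.genericPoint = η := hmax _ (hg.specializes (subset_closure (hle (subset_closure rfl))))
    intro w hw
    exact (hz ▸ hg.def) ▸ subset_closure hw
  have hη' := hf.1.1 hgen
  have hbij := (hf.2 _ hη').2 η rfl
  have hrd : Groth.Agent.FibDim.rd f η = 0 := by
    have h := Groth.Agent.FibDim.rd_eq_rdeg f η
    letI := (f.residueFieldMap η).hom.toAlgebra
    haveI : Algebra.IsAlgebraic (X.residueField (f η)) (Y.residueField η) := ⟨fun z => by
      obtain ⟨c, rfl⟩ := hbij.2 z
      exact isAlgebraic_algebraMap c⟩
    have h0 : Groth.Agent.VarDim.rdeg f η = 0 := trdeg_eq_zero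
    rw [h0] at h
    exact_mod_cast h
  have h1 := (Groth.Agent.DimFormula.cd_formula f hηy).1
  have h2 := Groth.Agent.DimFormula.cd_le_codim (hηy.map f.continuous)
  rw [Groth.Agent.DimFormula.ringKrullDim_stalk, Groth.Agent.DimFormula.ringKrullDim_stalk]
  have h3 : Groth.Agent.DimFormula.codim y ≤ Groth.Agent.DimFormula.codim (f y) := by omega
  exact_mod_cast h3

end Groth.Agent.S18879
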