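import Groth.Statements.S5022
import Groth.Agent.SmoothRank.Ring
import Groth.Agent.S2156
import Groth.Agent.Synt29.SmoothDim
import Groth.Agent.Synt29.OmegaAffine
import Groth.Agent.QCoh.LocFree

set_option autoImplicit false
universe u
open CategoryTheory CategoryTheory.Limits AlgebraicGeometry TopologicalSpace
open Unram17

set_option backward.isDefEq.respectTransparency false
set_option backward.defeqAttrib.useBackward true

namespace Groth.Agent.S5022

/-- Let f : X ⟶ Y be locally of finite presentation, (Ω', d) a sheaf of differentials of X over Y (d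
universal) and x a point of X. Then f is smooth at x if and only if the stalk map at x is flat and
there are an open neighbourhood U of x and an integer n with Ω' free of rank n on U and n equal to
the local dimension at x of the fibre of f through x. -/
theorem result {X Y : Scheme.{u}} (f : X ⟶ Y)
    [LocallyOfFinitePresentation f] (Ω' : X.Modules) (d : OmegaSh.Der f Ω') (hd : OmegaSh.IsUniversal d) (x : ↥X) :
    x ∈ f.smoothLocus ↔
      (f.stalkMap x).hom.Flat ∧
        ∃ (U : X.Opens) (n : ℕ), x ∈ U ∧ Nonempty (Ω'.restrict U.ι ≅ FlatMod.freeMod (↑U) n) ∧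
          FlatMor.fibreDimAt f x = (n : WithBot ℕ∞) := by
  constructor
  · intro hx
    have hflat : (f.stalkMap x).hom.Flat := Groth.Agent.S2156.flat_of_mem f x hx
    refine ⟨hflat, ?_⟩
    obtain ⟨U, hU, V, hV, e, hxV, hsm⟩ := exists_smooth_of_formallySmooth_stalk f x hx
    letI := (f.appLE U V e).hom.toAlgebra
    haveI : Algebra.Smooth Γ(Y, U) Γ(X, V) := hsm
    haveI : Algebra.IsSmoothAt Γ(Y, U) (hV.primeIdealOf ⟨x, hxV⟩).asIdeal :=
      (formallySmooth_stalkMap_iff U hU V hV e hxV).mp hx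
    obtain ⟨r, hrx, hr⟩ := Algebra.IsSmoothAt.exists_notMem_isStandardSmooth Γ(Y, U)
      (hV.primeIdealOf ⟨x, hxV⟩).asIdeal
    let V' := X.basicOpen r
    have e' : V' ≤ f ⁻¹ᵁ U := (X.basicOpen_le r).trans e
    have hxV' : x ∈ V' := by
      rwa [← PrimeSpectrum.mem_basicOpen, IsAffineOpen.primeIdealOf,
        ← hV.fromSpec_preimage_basicOpen, Scheme.Hom.mem_preimage, ← Scheme.Hom.comp_apply,
        IsAffineOpen.isoSpec_hom, IsAffineOpen.toSpecΓ_fromSpec] at hrx
    have hstd : (f.appLE U V' e').hom.IsStandardSmooth := by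
      have := hV.isLocalization_basicOpen r
      rw [← RingHom.isStandardSmooth_algebraMap] at hr
      let eA := IsLocalization.algEquiv (.powers r) (Localization (Submonoid.powers r)) Γ(X, X.basicOpen r)
      have key : eA.toRingEquiv.toRingHom.comp (algebraMap Γ(Y, U) (Localization (Submonoid.powers r))) =
          (f.appLE U V' e').hom := by
        refine RingHom.ext fun a => ?_
        show eA (algebraMap Γ(Y, U) (Localization (Submonoid.powers r)) a) = _
        rw [IsScalarTower.algebraMap_apply Γ(Y, U) Γ(X, V) (Localization (Submonoid.powers r)), AlgEquiv.commutes]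
        show (f.appLE U V e ≫ X.presheaf.map (homOfLE (X.basicOpen_le r)).op).hom a = _
        rw [Scheme.Hom.appLE_map]
      rw [← key]
      exact RingHom.isStandardSmooth_respectsIso.1 _ eA.toRingEquiv hr
    have hV' : IsAffineOpen V' := hV.basicOpen r
    let _ := (f.appLE U V' e').hom.toAlgebra
    have : Algebra.IsStandardSmooth Γ(Y, U) Γ(X, V') := hstd
    obtain ⟨ι, σ, hι, hσ, ⟨P⟩⟩ := this.out
    have h : RingHom.IsStandardSmoothOfRelativeDimension P.dimension (f.appLE U V' e').hom :=
      ⟨ι, σ, ‹_›, ‹_›, P, rfl⟩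
    haveI := Groth.Agent.Synt29.SmoothDim.smoothOfRelativeDimension_chart f hU hV' e' h
    refine ⟨V', P.dimension, hxV', ?_, Groth.Agent.Synt29.SmoothDim.fibreDimAt_eq_of_nhd f V' _ hxV'⟩
    have : Algebra.IsStandardSmoothOfRelativeDimension P.dimension Γ(Y, U) Γ(X, V') := h
    have : Nontrivial Γ(X, V') := by
      refine ⟨⟨0, 1, fun h => ?_⟩⟩
      have h1 := congrArg (X.presheaf.germ V' x hxV') h
      rw [map_zero, map_one] at h1
      exact zero_ne_one h1
    have hr' : Module.finrank Γ(X, V') Ω[Γ(X, V')⁄Γ(Y, U)] = P.dimension := by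
      have := Algebra.IsStandardSmoothOfRelativeDimension.rank_kaehlerDifferential (R := Γ(Y, U)) (S := Γ(X, V')) P.dimension
      simp [Module.finrank, this]
    let b := (Module.finBasisOfFinrankEq Γ(X, V') Ω[Γ(X, V')⁄Γ(Y, U)] hr').reindex Equiv.ulift.symm
    obtain ⟨l⟩ := Groth.Agent.Synt29.OmegaStalk.exists_linearEquiv_sections hd hV' hU e'
    exact Groth.Agent.QCoh.exists_free_restrict
      (Groth.Agent.Synt29.OmegaStalk.isQCoh_of_isUniversal hd) hV' (l.trans b.repr)
  · rintro ⟨hflat, U₀, n, hxU₀, ⟨iso⟩, hdim⟩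
    obtain ⟨W, hW, hxW, -⟩ := exists_isAffineOpen_mem_and_subset (x := f x) (U := (⊤ : Y.Opens)) trivial
    obtain ⟨V, hV, hxV, hVle⟩ := exists_isAffineOpen_mem_and_subset (x := x) (U := U₀ ⊓ f ⁻¹ᵁ W) ⟨hxU₀, hxW⟩
    have hVU₀ : V ≤ U₀ := fun z hz => (hVle hz).1
    have e : V ≤ f ⁻¹ᵁ W := fun z hz => (hVle hz).2
    letI := (f.appLE W V e).hom.toAlgebra
    haveI : Algebra.FinitePresentation Γ(Y, W) Γ(X, V) := f.finitePresentation_appLE hW hV e
    let q := hV.primeIdealOf ⟨x, hxV⟩
    have hq : hV.fromSpec q = x := hV.fromSpec_primeIdealOf ⟨x, hxV⟩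
    let φ : Spec Γ(X, V) ⟶ Spec Γ(Y, W) := Spec.map (CommRingCat.ofHom (algebraMap Γ(Y, W) Γ(X, V)))
    have hcomm : φ ≫ hW.fromSpec = hV.fromSpec ≫ f := hW.SpecMap_appLE_fromSpec f hV e
    haveI : LocallyOfFinitePresentation φ :=
      HasRingHomProperty.Spec_iff.2 (RingHom.finitePresentation_algebraMap.2 inferInstance)
    haveI : LocallyOfFiniteType φ := inferInstance
    have hflat' : (φ.stalkMap q).hom.Flat := by
      have h0 : ((hV.fromSpec ≫ f).stalkMap q).hom.Flat := by
        rw [Scheme.Hom.stalkMap_comp]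
        refine (RingHom.Flat.respectsIso.cancel_right_isIso _ _).mpr ?_
        rw [hq]; exact hflat
      rw [← hcomm, Scheme.Hom.stalkMap_comp] at h0
      exact (RingHom.Flat.respectsIso.cancel_left_isIso _ _).mp h0
    have hdim' : FlatMor.fibreDimAt φ q = (n : WithBot ℕ∞) := by
      rw [← hdim, ← Groth.Agent.FibDim.fibreDimAt_comp_mono φ hW.fromSpec q, hcomm,
        Groth.Agent.FibDim.fibreDimAt_openImmersion_comp hV.fromSpec f q, hq]
    obtain ⟨l⟩ := Groth.Agent.Synt29.OmegaStalk.exists_linearEquiv_sections hd hV hW e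
    obtain ⟨l'⟩ := Groth.Agent.QCoh.free_sections hV hVU₀ iso
    let b := Module.Basis.ofRepr (l.symm.trans l')
    let T := Localization.AtPrime q.asIdeal
    let v : Fin n → Ω[T⁄Γ(Y, W)] := fun i =>
      KaehlerDifferential.map Γ(Y, W) Γ(Y, W) Γ(X, V) T (b ⟨i⟩)
    have hsm := Groth.Agent.SmoothRank.isSmoothAt_of_flat_of_rank Γ(Y, W) Γ(X, V) q n hflat' hdim' v (by
      refine top_le_iff.1 ((KaehlerDifferential.span_range_derivation Γ(Y, W) T).ge.trans (Submodule.span_le.2 ?_))
      rintro _ ⟨z, rfl⟩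
      obtain ⟨⟨c, s⟩, hz⟩ := IsLocalization.surj q.asIdeal.primeCompl z
      let N := Submodule.span T (Set.range v)
      have hall : ∀ c, KaehlerDifferential.D Γ(Y, W) T (algebraMap Γ(X, V) T c) ∈ N := fun c => by
        rw [← KaehlerDifferential.map_D Γ(Y, W) Γ(Y, W) Γ(X, V) T]
        have h1 := Submodule.apply_mem_span_image_of_mem_span
          (KaehlerDifferential.map Γ(Y, W) Γ(Y, W) Γ(X, V) T)
          (show KaehlerDifferential.D Γ(Y, W) Γ(X, V) c ∈ Submodule.span Γ(X, V) (Set.range b) from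
            b.span_eq.symm ▸ Submodule.mem_top)
        refine Submodule.span_mono ?_ (Submodule.span_le_restrictScalars Γ(X, V) T _ h1)
        rintro _ ⟨_, ⟨⟨i⟩, rfl⟩, rfl⟩
        exact ⟨i, rfl⟩
      have h1 : z • KaehlerDifferential.D Γ(Y, W) T (algebraMap Γ(X, V) T s) +
          algebraMap Γ(X, V) T s • KaehlerDifferential.D Γ(Y, W) T z ∈ N := by
        rw [← Derivation.leibniz, hz]
        exact hall c
      exact (Submodule.smul_mem_iff_of_isUnit N (IsLocalization.map_units T s)).1
        ((N.add_mem_iff_right (N.smul_mem z (hall s))).1 h1))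
    show (f.stalkMap x).hom.FormallySmooth
    exact (formallySmooth_stalkMap_iff W hW V hV e hxV).mpr hsm

end Groth.Agent.S5022
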