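import Groth.Statements.S1197
import Groth.Agent.CAlgOdd.FreeComplUI
import Groth.Agent.S0550
import Groth.Agent.S6338
import Groth.Agent.S6347

set_option autoImplicit false
universe u
open FlatMor

namespace Groth.Agent.S1197

/-- Over a Noetherian ring R which is I-adically complete, the I-adic completion of a free module on an
arbitrary index set is a flat and Mittag-Leffler R-module. (Flatness alone, without completeness of
R, is stated separately.) -/
theorem result (R : Type u) [CommRing R] [IsNoetherianRing R] (I : Ideal R) [IsAdicComplete I R] (α : Type u) :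
    Module.Flat R (AdicCompletion I (α →₀ R)) ∧ CAlg.IsMittagLeffler R (AdicCompletion I (α →₀ R)) := by
  refine ⟨Groth.Agent.S0550.result R I α, ?_⟩
  let e : (α → AdicCompletion I R) ≃ₗ[R] (α → R) :=
    LinearEquiv.piCongrRight fun _ => (AdicCompletion.ofLinearEquiv I R).symm
  let f := LinearMap.pi fun a : α => AdicCompletion.map I (Finsupp.lapply a : (α →₀ R) →ₗ[R] R)
  refine Groth.Agent.S6338.result R (e.toLinearMap ∘ₗ (f.restrictScalars R)) ?_ (Groth.Agent.S6347.result R α).2
  intro Q _ _
  rw [LinearMap.rTensor_comp]
  exact (e.rTensor Q).injective.comp (Groth.Agent.CAlgOdd.FreeComplUI.universallyInjective I α Q)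

end Groth.Agent.S1197
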