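import Groth.Statements.S1198
import Groth.Agent.RGLib.CompletionFree
import Groth.Agent.S1197
import Groth.Agent.S6338

set_option autoImplicit false
universe u
open FlatMor

namespace Groth.Agent.S1198

/-- Let R be a Noetherian ring complete with respect to an ideal I and M a flat R-module whose reduction
M/IM is projective over R/I. Then M's I-adic completion is a flat and Mittag-Leffler R-module. -/
theorem result (R : Type u) [CommRing R] [IsNoetherianRing R] (I : Ideal R) [IsAdicComplete I R]
    (M : Type u) [AddCommGroup M] [Module R M] [Module.Flat R M]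
    [Module.Projective (R ⧸ I) (M ⧸ (I • ⊤ : Submodule R M))] :
    Module.Flat R (AdicCompletion I M) ∧ CAlg.IsMittagLeffler R (AdicCompletion I M) := by
  obtain ⟨κ, s, r, hrs⟩ := Groth.Agent.RGLib.exists_completion_retract (I := I) M
  obtain ⟨hflat, hML⟩ := Groth.Agent.S1197.result R I κ
  refine ⟨Module.Flat.of_retract s r hrs, Groth.Agent.S6338.result R s (fun Q _ _ => ?_) hML⟩
  refine Function.LeftInverse.injective (g := r.rTensor Q) fun x => ?_
  rw [← LinearMap.comp_apply, ← LinearMap.rTensor_comp, hrs, LinearMap.rTensor_id, LinearMap.id_apply]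

end Groth.Agent.S1198
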