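import Groth.Statements.S1245
import Groth.Agent.FlatPure.Contract

set_option autoImplicit false
attribute [-instance] CategoryTheory.catToReflQuiver
set_option backward.isDefEq.respectTransparency false
set_option backward.isDefEq.respectTransparency.types false
universe u
open FlatMor

namespace Groth.Agent.S1245

attribute [local instance] Algebra.TensorProduct.rightAlgebra

/-- Ring form, X = Spec B affine, base change rings affine: let B be a finite type A-algebra, N a finite
B-module and p a prime of A. If there is an impurity of N above p, then there is one whose base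
change A → A' is of finite presentation and whose point t is a closed point of the fibre of Spec A'
over p (the extension of t to the fibre ring is maximal). -/
theorem result {A B : Type u} [CommRing A] [CommRing B] [Algebra A B] [Algebra.FiniteType A B]
    (N : Type u) [AddCommGroup N] [Module B N] [Module.Finite B N] (p : Ideal A) [p.IsPrime]
    (h : FlatCA.HasImpurity A B N p (fun _ _ _ _ => True)) :
    FlatCA.HasImpurity A B N p (fun A' _ _ t => Algebra.FinitePresentation A A' ∧ (FlatCA.fiberIdeal p t).IsMaximal) := by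
  classical
  obtain ⟨A', B', N', _, _, _, _, _, _, _, _, _, _, _, _, _, _, f, t', t, _, _, P, _, himp, -⟩ := h
  obtain ⟨a, ha, l, hl, hP⟩ := Groth.Agent.FlatPure.exists_witness himp
  obtain ⟨-, -, hle, htp, -⟩ := id himp
  haveI := htp
  let A'' := MvPolynomial (Option (Fin l.length)) A
  let φ : A'' →ₐ[A] A' := MvPolynomial.aeval fun o => o.elim a fun k => (l.get k).1
  letI : Algebra A'' A' := φ.toRingHom.toAlgebra
  haveI : IsScalarTower A A'' A' := IsScalarTower.of_algebraMap_eq fun x => (φ.commutes x).symm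
  let a'' : A'' := MvPolynomial.X none
  have ha'' : algebraMap A'' A' a'' = a := MvPolynomial.aeval_X _ _
  have hl'' : ∀ x ∈ l, x.1 ∈ Set.range (algebraMap A'' A') := fun x hx => by
    obtain ⟨k, rfl⟩ := List.mem_iff_get.1 hx
    exact ⟨MvPolynomial.X (some k), MvPolynomial.aeval_X _ _⟩
  let t₂ : Ideal A'' := t.comap (algebraMap A'' A')
  haveI : t₂.IsPrime := Ideal.IsPrime.comap _
  haveI : t.LiesOver t₂ := ⟨rfl⟩
  haveI : t₂.LiesOver p := Ideal.LiesOver.tower_bot t t₂ p
  have hat : a'' ∉ t₂ := fun hm => ha (ha'' ▸ Ideal.mem_comap.1 hm)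
  let A₃ := Localization.Away a''
  haveI : Algebra.FinitePresentation A'' A₃ := IsLocalization.Away.finitePresentation a''
  haveI : Algebra.FinitePresentation A A₃ := Algebra.FinitePresentation.trans A A'' A₃
  have hdt : Disjoint (Submonoid.powers a'' : Set A'') (t₂ : Set A'') := by
    rw [Set.disjoint_left]
    rintro _ ⟨k, rfl⟩ hk
    exact hat (Ideal.IsPrime.mem_of_pow_mem ‹_› k hk)
  let w₃ : Ideal A₃ := t₂.map (algebraMap A'' A₃)
  haveI : w₃.IsPrime :=
    IsLocalization.isPrime_of_isPrime_disjoint (Submonoid.powers a'') A₃ t₂ ‹_› hdt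
  have hw₃c : w₃.comap (algebraMap A'' A₃) = t₂ :=
    IsLocalization.under_map_of_isPrime_disjoint (Submonoid.powers a'') A₃ ‹_› hdt
  haveI : w₃.LiesOver t₂ := ⟨hw₃c.symm⟩
  haveI : w₃.LiesOver p := Ideal.LiesOver.trans w₃ t₂ p
  have hne : FlatCA.fiberIdeal p w₃ ≠ ⊤ := fun htop => by
    have hc := Groth.Agent.FlatPure.comap_fiberIdeal p w₃
    rw [htop, Ideal.comap_top] at hc
    exact Ideal.IsPrime.ne_top ‹w₃.IsPrime› hc.symm
  obtain ⟨M, hM, hle₃⟩ := Ideal.exists_le_maximal _ hne
  haveI := hM.isPrime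
  let s : Ideal A₃ := M.comap (algebraMap A₃ (p.Fiber A₃))
  haveI : s.IsPrime := Ideal.IsPrime.comap _
  haveI : s.LiesOver p := ⟨(Groth.Agent.RGLib.comap_comap_fiber p M).symm⟩
  have hw₃s : w₃ ≤ s := by
    rw [← Groth.Agent.FlatPure.comap_fiberIdeal p w₃]
    exact Ideal.comap_mono hle₃
  let w₂ : Ideal A'' := s.comap (algebraMap A'' A₃)
  haveI : w₂.IsPrime := Ideal.IsPrime.comap _
  haveI : s.LiesOver w₂ := ⟨rfl⟩
  haveI : w₂.LiesOver p := Ideal.LiesOver.tower_bot s w₂ p
  have haw : a'' ∉ w₂ := fun hm => Ideal.IsPrime.ne_top ‹s.IsPrime›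
    (Ideal.eq_top_of_isUnit_mem _ (Ideal.mem_comap.1 hm) (IsLocalization.Away.algebraMap_isUnit a''))
  have hw : t.comap (algebraMap A'' A') ≤ w₂ := hw₃c.ge.trans (Ideal.comap_mono hw₃s)
  obtain ⟨B'', N'', _, _, _, _, _, _, _, _, _, _, _, _, f'', P'', _, himp''⟩ :=
    Groth.Agent.FlatPure.impurity_contract himp a l hl hP A'' a'' ha'' hl'' w₂ hw haw
  have hds : Disjoint (Submonoid.powers a'' : Set A'') (t'.comap (algebraMap A'' A') : Set A'') := by
    rw [Set.disjoint_left]
    rintro _ ⟨k, rfl⟩ hk
    exact hat (Ideal.IsPrime.mem_of_pow_mem ‹_› k (Ideal.comap_mono hle hk))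
  let s' : Ideal A₃ := (t'.comap (algebraMap A'' A')).map (algebraMap A'' A₃)
  haveI : (t'.comap (algebraMap A'' A')).IsPrime := Ideal.IsPrime.comap _
  haveI : s'.IsPrime :=
    IsLocalization.isPrime_of_isPrime_disjoint (Submonoid.powers a'') A₃ _ ‹_› hds
  haveI : s'.LiesOver (t'.comap (algebraMap A'' A')) :=
    ⟨(IsLocalization.under_map_of_isPrime_disjoint (Submonoid.powers a'') A₃ ‹_› hds).symm⟩
  obtain ⟨B₃, N₃, _, _, _, _, _, _, _, _, _, _, _, _, f₃, P₃, _, himp₃⟩ :=
    Groth.Agent.FlatPure.impurity_up himp'' A₃ s' s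
      ((Ideal.map_mono (Ideal.comap_mono hle)).trans hw₃s)
  refine ⟨A₃, B₃, N₃, inferInstance, inferInstance, inferInstance, inferInstance, inferInstance, inferInstance,
    inferInstance, inferInstance, inferInstance, inferInstance, inferInstance, inferInstance, inferInstance,
    inferInstance, f₃, s', s, inferInstance, inferInstance, P₃, inferInstance, himp₃, inferInstance, ?_⟩
  rw [Groth.Agent.RGLib.fiberIdeal_comap p M]
  exact hM

end Groth.Agent.S1245
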