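import Groth.Statements.S9005


set_option autoImplicit false
universe u
open FlatMor
open scoped TensorProduct nonZeroDivisors

namespace Groth.Agent.S9005

attribute [local instance] Algebra.TensorProduct.rightAlgebra

/-- Coordinates argument: a nonzero element `x` of `κ(t') ⊗ M`, `M` projective, cannot satisfy
`s • x ∈ t·(endomorphisms)x` for `s ∉ t ⊇ t'`. -/
lemma coord_mem {R M : Type u} [CommRing R] [AddCommGroup M] [Module R M] [Module.Projective R M]
    (t' t : Ideal R) [t'.IsPrime] [t.IsPrime] (h : t' ≤ t) (s : R) (hs : s ∉ t) (x y : M)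
    (hy : y ∈ t • Submodule.span R {z | ∃ g : M →ₗ[R] M, g x = z})
    (hxy : ∀ φ : M →ₗ[R] R, φ (s • x - y) ∈ t') :
    ∀ φ : M →ₗ[R] R, φ x ∈ t' := by
  classical
  obtain ⟨σ, hσ⟩ := Module.projective_def'.1 (inferInstance : Module.Projective R M)
  have hexp : Finsupp.linearCombination R (id : M → M) (σ x) = x := LinearMap.congr_fun hσ x
  let c : Ideal R := Ideal.span ((σ x).support.image (σ x) : Set R)
  have hcfg : c.FG := ⟨(σ x).support.image (σ x), rfl⟩
  have hall : ∀ φ : M →ₗ[R] R, φ x ∈ c := by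
    intro φ
    rw [← hexp, Finsupp.linearCombination_apply, Finsupp.sum, map_sum]
    refine Ideal.sum_mem _ fun m hm => ?_
    rw [map_smul, smul_eq_mul]
    exact Ideal.mul_mem_right _ _ (Ideal.subset_span (Finset.mem_image_of_mem _ hm))
  have hty : ∀ φ : M →ₗ[R] R, φ y ∈ t * c := by
    intro φ
    refine Submodule.smul_induction_on hy ?_ (fun a b ha hb => by rw [map_add]; exact Ideal.add_mem _ ha hb)
    intro r hr z hz
    rw [map_smul, smul_eq_mul]
    refine Ideal.mul_mem_mul hr ?_
    induction hz using Submodule.span_induction with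
    | mem z hz => obtain ⟨g, rfl⟩ := hz; exact hall (φ ∘ₗ g)
    | zero => simp
    | add a b _ _ ha hb => rw [map_add]; exact Ideal.add_mem _ ha hb
    | smul a b _ hb => rw [map_smul, smul_eq_mul]; exact Ideal.mul_mem_left _ _ hb
  -- pass to the local ring at `t`, modulo `t'`
  let L := Localization.AtPrime t
  let T : Ideal L := t'.map (algebraMap R L)
  have hTm : T ≤ IsLocalRing.maximalIdeal L := by
    rw [← Localization.AtPrime.map_eq_maximalIdeal]
    exact Ideal.map_mono h
  let ψ : R →+* L ⧸ T := (Ideal.Quotient.mk T).comp (algebraMap R L)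
  have hsu : IsUnit (ψ s) := (IsLocalization.map_units L (⟨s, hs⟩ : t.primeCompl)).map (Ideal.Quotient.mk T)
  have hle : c.map ψ ≤ t.map ψ * c.map ψ := by
    rw [Ideal.map_span, Ideal.span_le]
    rintro _ ⟨a, ha, rfl⟩
    obtain ⟨m, hm, rfl⟩ := Finset.mem_image.1 (Finset.mem_coe.1 ha)
    let φ : M →ₗ[R] R := Finsupp.lapply m ∘ₗ σ
    have h1 : ψ s * ψ (σ x m) = ψ (φ y) := by
      rw [← map_mul]
      refine (Ideal.Quotient.eq (I := T)).2 ?_
      rw [← map_sub]
      refine Ideal.mem_map_of_mem _ ?_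
      have := hxy φ
      simpa [φ] using this
    rw [SetLike.mem_coe, ← hsu.unit.inv_mul_cancel_left (ψ (σ x m))]
    refine Ideal.mul_mem_left _ _ ?_
    rw [hsu.unit_spec, h1, ← Ideal.map_span, ← Ideal.map_mul]
    exact Ideal.mem_map_of_mem _ (hty φ)
  haveI : Nontrivial (L ⧸ T) := Ideal.Quotient.nontrivial_iff.2
    (ne_top_of_le_ne_top (IsLocalRing.maximalIdeal.isMaximal L).ne_top hTm)
  haveI : IsLocalRing (L ⧸ T) :=
    IsLocalRing.of_surjective' (Ideal.Quotient.mk T) Ideal.Quotient.mk_surjective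
  have hbot : c.map ψ = ⊥ := by
    refine Submodule.eq_bot_of_le_smul_of_le_jacobson_bot (t.map ψ) _ (hcfg.map _) hle ?_
    rw [IsLocalRing.jacobson_eq_maximalIdeal ⊥ bot_ne_top]
    refine IsLocalRing.le_maximalIdeal ?_
    rw [show t.map ψ = (IsLocalRing.maximalIdeal L).map (Ideal.Quotient.mk T) by
      rw [← Localization.AtPrime.map_eq_maximalIdeal, Ideal.map_map]]
    intro htop
    have := congrArg (Ideal.comap (Ideal.Quotient.mk T)) htop
    rw [Ideal.comap_map_of_surjective _ Ideal.Quotient.mk_surjective, Ideal.comap_top,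
      ← RingHom.ker_eq_comap_bot, Ideal.mk_ker, sup_eq_left.2 hTm] at this
    exact (IsLocalRing.maximalIdeal.isMaximal L).ne_top this
  intro φ
  have h0 : algebraMap R L (φ x) ∈ T := by
    rw [← Ideal.Quotient.eq_zero_iff_mem]
    have := Ideal.mem_map_of_mem ψ (hall φ)
    rw [hbot] at this
    simpa [ψ] using this
  obtain ⟨⟨a, u⟩, hau⟩ := (IsLocalization.mem_map_algebraMap_iff t.primeCompl L).1 h0
  rw [← map_mul] at hau
  obtain ⟨v, hv⟩ := (IsLocalization.eq_iff_exists t.primeCompl L).1 hau
  have hmem : (v : R) * (φ x * u) ∈ t' := hv ▸ t'.mul_mem_left _ a.2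
  rcases Ideal.IsPrime.mem_or_mem inferInstance hmem with h1 | h1
  · exact absurd (h h1) v.2
  rcases Ideal.IsPrime.mem_or_mem inferInstance h1 with h1 | h1
  · exact h1
  · exact absurd (h h1) u.2

/-- For an affine finite type morphism Spec B → Spec A: a finite B-module which is projective as an
A-module is universally pure over Spec A. (The published statement allows any base scheme S and asks
the direct image to be locally projective; over an affine base a projective module gives such a
direct image, so this row is that case.) -/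
theorem result {A B : Type u} [CommRing A] [CommRing B] [Algebra A B] [Algebra.FiniteType A B] (N : Type u) [AddCommGroup N] [Module B N] [Module A N] [IsScalarTower A B N] [Module.Finite B N] [Module.Projective A N] : FlatCA.IsUnivPure A B N := by
  intro p _ A' B' N' _ _ _ _ _ _ _ _ _ _ _ _ _ _ f t' t _ _ P _ himp
  obtain ⟨hpo, hbc, htt, -, -, hass, hno⟩ := himp
  classical
  haveI := hpo.symm
  -- `N'` is projective over `A'`
  haveI : Module.Projective A' N' :=
    .of_equiv ((Algebra.IsPushout.cancelBaseChange A A' B B' N).symm.trans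
      (hbc.equiv.restrictScalars A'))
  -- an element of `A' ∖ t` in `P + tB'`
  obtain ⟨s, hst, hs⟩ : ∃ s ∉ t, algebraMap A' B' s ∈ P ⊔ t.map (algebraMap A' B') := by
    by_contra hcon
    push Not at hcon
    obtain ⟨Q, hQ, hle, hdisj⟩ := Ideal.exists_le_prime_disjoint (P ⊔ t.map (algebraMap A' B'))
      (Algebra.algebraMapSubmonoid B' t.primeCompl) (by
        rw [Set.disjoint_left]
        rintro _ hx ⟨a, ha, rfl⟩
        exact hcon a ha hx)
    refine hno Q (le_sup_left.trans hle) ⟨le_antisymm ?_ ?_⟩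
    · exact Ideal.map_le_iff_le_comap.1 (le_sup_right.trans hle)
    · intro a ha
      by_contra hat
      exact Set.disjoint_left.1 hdisj ha ⟨a, hat, rfl⟩
  obtain ⟨q, hq, a, ha, hqa⟩ := Submodule.mem_sup.1 hs
  obtain ⟨hPp, z, hz⟩ :=
    (show IsAssociatedPrime (FlatCA.fiberIdeal t' P) ((t'.Fiber B') ⊗[B'] N') from hass)
  have hz0 : z ≠ 0 := by
    rintro rfl
    apply hPp.ne_top
    rw [hz, eq_top_iff]
    intro r _
    exact ⟨1, Submodule.mem_colon_singleton.2 (by simp)⟩
  -- a power of `q` kills `z`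
  have hqz : algebraMap B' (t'.Fiber B') q ∈ FlatCA.fiberIdeal t' P := Ideal.mem_map_of_mem _ hq
  rw [hz, Ideal.mem_radical_iff] at hqz
  obtain ⟨n, hn⟩ := hqz
  rw [Submodule.mem_colon_singleton, Submodule.mem_bot, ← map_pow] at hn
  -- comparison with `κ(t') ⊗ N'`
  let e : (t'.Fiber B') ⊗[B'] N' ≃ₗ[t'.ResidueField] t'.ResidueField ⊗[A'] N' :=
    Algebra.IsPushout.cancelBaseChange A' t'.ResidueField B' (t'.Fiber B') N'
  have he1 : ∀ m : N', e (((1 : t'.Fiber B') ⊗ₜ[B'] m)) = 1 ⊗ₜ m := fun m =>
    Algebra.IsPushout.cancelBaseChange_tmul A' t'.ResidueField B' (t'.Fiber B') N' m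
  obtain ⟨u, x, hu, hux⟩ : ∃ (u : A') (x : N'), u ∉ t' ∧
      algebraMap A' t'.ResidueField u • z = ((1 : t'.Fiber B') ⊗ₜ[B'] x) := by
    suffices H : ∀ w : t'.ResidueField ⊗[A'] N', ∃ (u : A') (x : N'), u ∉ t' ∧
        algebraMap A' t'.ResidueField u • w = 1 ⊗ₜ x by
      obtain ⟨u, x, hu, hux⟩ := H (e z)
      exact ⟨u, x, hu, e.injective (by rw [map_smul, hux, he1])⟩
    intro w
    induction w with
    | zero => exact ⟨1, 0, t'.ne_top_iff_one.1 (Ideal.IsPrime.ne_top inferInstance), by simp⟩
    | tmul k m =>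
      obtain ⟨b, u, hu, hk⟩ : ∃ b u : A', u ∉ t' ∧
          algebraMap A' t'.ResidueField u * k = algebraMap A' t'.ResidueField b := by
        obtain ⟨b, u, hu, rfl⟩ := IsFractionRing.div_surjective (A' ⧸ t') k
        obtain ⟨b, rfl⟩ := Ideal.Quotient.mk_surjective b
        obtain ⟨u, rfl⟩ := Ideal.Quotient.mk_surjective u
        have hu' : u ∉ t' := fun h => nonZeroDivisors.ne_zero hu (Ideal.Quotient.eq_zero_iff_mem.2 h)
        refine ⟨b, u, hu', ?_⟩
        rw [← Ideal.Quotient.algebraMap_eq, ← IsScalarTower.algebraMap_apply,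
          ← IsScalarTower.algebraMap_apply]
        refine mul_div_cancel₀ _ ?_
        simpa [Ideal.algebraMap_residueField_eq_zero] using hu'
      refine ⟨u, b • m, hu, ?_⟩
      rw [TensorProduct.smul_tmul', smul_eq_mul, hk, Algebra.algebraMap_eq_smul_one,
        TensorProduct.smul_tmul]
    | add w₁ w₂ h₁ h₂ =>
      obtain ⟨u₁, x₁, hu₁, h₁⟩ := h₁
      obtain ⟨u₂, x₂, hu₂, h₂⟩ := h₂
      refine ⟨u₁ * u₂, u₂ • x₁ + u₁ • x₂, Ideal.IsPrime.mul_notMem inferInstance hu₁ hu₂, ?_⟩
      rw [smul_add, TensorProduct.tmul_add, TensorProduct.tmul_smul, TensorProduct.tmul_smul, ← h₁, ← h₂,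
        ← algebraMap_smul t'.ResidueField u₂, ← algebraMap_smul t'.ResidueField u₁, smul_smul,
        smul_smul, map_mul, mul_comm (algebraMap A' t'.ResidueField u₂)]
  have hx : ((1 : t'.Fiber B') ⊗ₜ[B'] x) ≠ 0 := by
    rw [← hux]
    exact smul_ne_zero (by simpa [Ideal.algebraMap_residueField_eq_zero] using hu) hz0
  -- `q ^ n` kills the image of `x`
  have hqx : ((1 : t'.Fiber B') ⊗ₜ[B'] (q ^ n • x)) = 0 := by
    rw [TensorProduct.tmul_smul, ← hux, ← algebraMap_smul (t'.Fiber B') (q ^ n),
      ← algebraMap_smul (t'.Fiber B') (algebraMap A' t'.ResidueField u), smul_comm, hn, smul_zero]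
  have hqn : ∀ φ : N' →ₗ[A'] A', φ (q ^ n • x) ∈ t' := by
    intro φ
    have h := congrArg (φ.lTensor t'.ResidueField) ((he1 _).symm.trans (congrArg e hqx))
    rw [map_zero, map_zero, LinearMap.lTensor_tmul] at h
    have h' := congrArg (TensorProduct.rid A' t'.ResidueField) h
    rw [map_zero, TensorProduct.rid_tmul, ← Algebra.algebraMap_eq_smul_one,
      Ideal.algebraMap_residueField_eq_zero] at h'
    exact h'
  -- the power of `s` differs from it by an element of `tB'`
  have hd : algebraMap A' B' (s ^ n) - q ^ n ∈ t.map (algebraMap A' B') := by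
    rw [map_pow, ← hqa, ← Ideal.Quotient.eq, map_pow, map_pow, map_add,
      Ideal.Quotient.eq_zero_iff_mem.2 ha, add_zero]
  have key := coord_mem (M := N') t' t htt (s ^ n) (fun h => hst (Ideal.IsPrime.mem_of_pow_mem inferInstance n h))
    x ((algebraMap A' B' (s ^ n) - q ^ n) • x) ?_ ?_
  · refine hx (e.injective ?_)
    rw [map_zero, he1]
    obtain ⟨σ, hσ⟩ := Module.projective_def'.1 (inferInstance : Module.Projective A' N')
    have hexp : Finsupp.linearCombination A' (id : N' → N') (σ x) = x := LinearMap.congr_fun hσ x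
    rw [← hexp, Finsupp.linearCombination_apply, Finsupp.sum, TensorProduct.tmul_sum]
    refine Finset.sum_eq_zero fun m _ => ?_
    have hm : σ x m ∈ t' := key (Finsupp.lapply m ∘ₗ σ)
    rw [← TensorProduct.smul_tmul, ← Algebra.algebraMap_eq_smul_one,
      Ideal.algebraMap_residueField_eq_zero.2 hm, TensorProduct.zero_tmul]
  · have h2 : ∀ d ∈ t.map (algebraMap A' B'), d • x ∈
        t • Submodule.span A' {w | ∃ g : N' →ₗ[A'] N', g x = w} := by
      intro d hd
      induction hd using Submodule.span_induction with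
      | mem d hd =>
        obtain ⟨r, hr, rfl⟩ := hd
        rw [algebraMap_smul]
        exact Submodule.smul_mem_smul hr (Submodule.subset_span ⟨LinearMap.id, rfl⟩)
      | zero => rw [zero_smul]; exact zero_mem _
      | add d₁ d₂ _ _ h₁ h₂ => rw [add_smul]; exact add_mem h₁ h₂
      | smul b d _ h =>
        rw [smul_eq_mul, mul_smul]
        refine Submodule.smul_induction_on h ?_ (fun a₁ a₂ h₁ h₂ => by rw [smul_add]; exact add_mem h₁ h₂)
        intro r hr w hw
        rw [smul_comm]
        refine Submodule.smul_mem_smul hr ?_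
        induction hw using Submodule.span_induction with
        | mem w hw =>
          obtain ⟨g, rfl⟩ := hw
          exact Submodule.subset_span ⟨(LinearMap.lsmul B' N' b).restrictScalars A' ∘ₗ g, rfl⟩
        | zero => rw [smul_zero]; exact zero_mem _
        | add w₁ w₂ _ _ h₁ h₂ => rw [smul_add]; exact add_mem h₁ h₂
        | smul c w _ h => rw [smul_comm]; exact Submodule.smul_mem _ _ h
    exact h2 _ hd
  · intro φ
    rw [sub_smul, algebraMap_smul, sub_sub_cancel]
    exact hqn φ

end Groth.Agent.S9005
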