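import Groth.Statements.S1057
import Groth.Agent.PerfGen7.RelLpull
import Groth.Agent.PerfGen7.RelComp
import Groth.Agent.PerfGen7.RelFlatZero

set_option autoImplicit false
universe u
open CategoryTheory CategoryTheory.Limits AlgebraicGeometry Opposite
attribute [local instance] HasDerivedCategory.standard
open Perf

namespace Groth.Agent.S1057

/-- For a covering by a single flat, surjective, quasi-compact morphism f : X' ⟶ X: assuming Lf^*
exists, an object E of D(O_X) with quasi-coherent cohomology sheaves is m-pseudo-coherent if and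
only if Lf^*E is m-pseudo-coherent. -/
theorem result {X' X : Scheme.{u}} (f : X' ⟶ X) [Flat f] [Surjective f] [QuasiCompact f] [DCoh.HasLpull f] (E : DCoh.D X) (hE : DCoh.IsQCohD E) (m : ℤ) :
    DCoh.IsPseudoCoherentD m E ↔ DCoh.IsPseudoCoherentD m ((DCoh.Lpull f).obj E) := by
  have hsq : IsPullback f (𝟙 X') (𝟙 X) f := IsPullback.of_id_snd
  have h1 : ∀ (Z : Scheme.{u}) (K : DCoh.D Z), DerSch.IsPseudoCoherentRel (𝟙 Z) m K ↔
      DCoh.IsPseudoCoherentD m K := fun Z K => by
    rw [Groth.Agent.KFlatLib.isPseudoCoherentD_iff]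
    exact Groth.Agent.PerfGen7.rel_iff_abs (𝟙 Z) (fun k => Groth.Agent.PerfGen7.isNPseudoCoherent_of_flat (𝟙 Z) k) K
  rw [← h1, ← h1]
  exact ⟨Groth.Agent.PerfGen7.rel_lpull hsq hE, Groth.Agent.PerfGen7.rel_of_lpull hsq hE⟩

end Groth.Agent.S1057
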