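import Groth.Statements.S1274
import Groth.Agent.ZRLim.Extend
-- import your own Groth.Agent.* helpers here

set_option autoImplicit false
universe u
open FlatMor

namespace Groth.Agent.S1274

open AlgebraicGeometry CategoryTheory Limits in
/-- Let φ : X → S be proper with S quasi-compact and quasi-separated, and U ⊆ S a quasi-compact open
over which φ is an isomorphism. Then there is a U-admissible blow-up b : S' → S which dominates X,
i.e. b factors as S' → X → S. -/
theorem result {X S : Scheme.{u}} [CompactSpace S] [QuasiSeparatedSpace S]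
    (φ : X ⟶ S) [IsProper φ] (U : S.Opens) (hU : IsCompact (U : Set S)) [IsIso (φ ∣_ U)] :
    ∃ (𝓘 : S.IdealSheafData) (S' : Scheme.{u}) (b : S' ⟶ S), BlowUp.IsBlowUp b 𝓘 ∧ BlowUp.IsAdmissibleFor U 𝓘 ∧
      ∃ h : S' ⟶ X, h ≫ φ = b := by
  haveI : Nonempty (Groth.Agent.ZRLim.Adm U) := Groth.Agent.ZRLim.Adm.nonempty hU
  let f : X ⟶ ((⊤ : S.Opens) : Scheme.{u}) := φ ≫ S.topIso.inv
  let s : (U : Scheme.{u}) ⟶ X := inv (φ ∣_ U) ≫ (φ ⁻¹ᵁ U).ι
  have hf : f ≫ (⊤ : S.Opens).ι = φ := by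
    simp only [f, Category.assoc, ← Scheme.topIso_hom, Iso.inv_hom_id, Category.comp_id]
  have hs : s ≫ f = S.homOfLE (le_top : U ≤ ⊤) := by
    rw [← cancel_mono (⊤ : S.Opens).ι, Category.assoc, hf, Scheme.homOfLE_ι, Category.assoc,
      IsIso.inv_comp_eq, morphismRestrict_ι]
  have hW : IsCompact ((⊤ : S.Opens) : Set S) := isCompact_univ
  obtain ⟨K, h, hE⟩ := Groth.Agent.ZRLim.exists_extension (f := f) (s := s) hW hs
  refine ⟨K.1, K.obj, K.π, K.isBlowUp, K.isAdmissible,
    K.obj.topIso.inv ≫ h, ?_⟩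
  have := hE.comp_eq
  rw [hf] at this
  refine (Category.assoc _ _ _).trans ((congrArg (fun m => K.obj.topIso.inv ≫ m) this).trans ?_)
  exact K.obj.topIso.inv_hom_id_assoc K.π

end Groth.Agent.S1274
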