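import Groth.Statements.S8981
import Groth.Agent.EtDescX.OverFin
import Groth.Agent.EtDescX.HRefine
import Groth.Agent.S8979

set_option autoImplicit false
universe w u
open HTop

namespace Groth.Agent.S8981

set_option backward.isDefEq.respectTransparency false
set_option backward.isDefEq.respectTransparency.types false

open CategoryTheory CategoryTheory.Limits AlgebraicGeometry Groth.Agent.EtDescX


open CategoryTheory CategoryTheory.Limits AlgebraicGeometry in
/-- A presheaf of sets on schemes over S is a sheaf for the big h site of S if and only if it is a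
Zariski sheaf and satisfies the sheaf condition for every single proper surjective morphism of
finite presentation V → U of S-schemes with U affine. (The published statement gives the criterion
with arbitrary U and then says that, for a Zariski sheaf, affine U suffice; this row states the
combined criterion.) -/
theorem result (S : Scheme.{u}) (F : (Over S)ᵒᵖ ⥤ Type w) : Presieve.IsSheaf (HTop.Jh S) F ↔ (Presieve.IsSheaf (Scheme.zariskiTopology.over S) F ∧ ∀ (U V : Over S) (f : V ⟶ U), IsAffine U.left → IsProper f.left → Surjective f.left → LocallyOfFinitePresentation f.left → Presieve.IsSheafFor F (Presieve.singleton f)) := by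
  refine ⟨fun h => ?_, fun ⟨hz, hp⟩ => ?_⟩
  · have hh : HTop.IsHSheafOver S F := fun X R hR =>
      isSheafFor_of_mem_finOver R (le_finOver_of_isSheaf h _ (Precoverage.generate_mem_toGrothendieck hR))
    refine ⟨isSheaf_zariski_over hh, fun U V f _ _ _ _ => isSheafFor_of_mem_finOver _ ?_⟩
    have := hCover_mem_finOver hh (PreZeroHypercover.singleton.{0} f.left) (Groth.Agent.S8979.result f.left)
    rw [Presieve.map_singleton]
    simpa [PreZeroHypercover.sieve₀, Sieve.ofArrows] using this
  · refine isSheaf_over_of_le ((Precoverage.toGrothendieck_le_iff_le_toPrecoverage).mpr fun X R hR => ?_)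
    obtain ⟨E, hE, rfl⟩ := PreZeroHypercoverFamily.mem_precoverage_iff.mp hR
    have hzar : Scheme.zariskiTopology ≤ finOver F := le_finOver_of_isSheaf hz
    refine HTopCov.sieve₀_mem_of_refines hzar E fun W => ?_
    obtain ⟨G, hG, hr⟩ := hE.2 W
    haveI := hG.isAffine
    obtain ⟨P, q, n, O, hq1, hq2, hq3, -, hO, hj⟩ := exists_proper_affine_refine W.1.ι E hE.1 G hG hr
    refine ⟨⟨Fin n, fun j => (O j).toScheme, fun j => (O j).ι ≫ q⟩, ?_, fun j => ?_⟩
    · refine (finOver F).transitive (singleton_mem_finOver hz q fun U V g r r' _ hpb => ?_) _ ?_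
      · haveI : IsProper r.left := MorphismProperty.of_isPullback hpb.flip hq1
        haveI : Surjective r.left := MorphismProperty.of_isPullback hpb.flip hq2
        haveI : LocallyOfFinitePresentation r.left := MorphismProperty.of_isPullback hpb.flip hq3
        exact hp U V r inferInstance inferInstance inferInstance inferInstance
      · rintro Z _ ⟨_, a, _, ⟨⟨⟩⟩, rfl⟩
        rw [Sieve.pullback_comp]
        refine (finOver F).pullback_stable a ?_
        refine (finOver F).superset_covering ((Sieve.generate_le_iff _ _).mpr <| Presieve.ofArrows_le_iff.mpr fun j => ?_)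
          (hzar _ (Scheme.openCoverOfIsOpenCover P O (TopologicalSpace.IsOpenCover.mk hO)).mem_grothendieckTopology)
        exact ⟨(O j).toScheme, 𝟙 _, (O j).ι ≫ q, ⟨j⟩, Category.id_comp _⟩
    · obtain ⟨i, h, e⟩ := hj j
      exact ⟨i, h, e.trans (Category.assoc _ _ _).symm⟩

end Groth.Agent.S8981
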