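import Groth.Statements.S3006
import Groth.Agent.MultConjLib.Torus
import Groth.Agent.MultConjLib.SubTransporter
import Groth.Agent.GrpFieldLib.JetTransporter
import Groth.Agent.GrpSchLib.RankOneNonComm
-- import your own Groth.Agent.* helpers here

set_option autoImplicit false
universe u
open CategoryTheory MonoidalCategory CartesianMonoidalCategory MonObj GrpObj AlgebraicGeometry
open Red

namespace Groth.Agent.S3006

/-- Let S be a scheme, G an S-group scheme smooth and of finite presentation over S, and q : Q → G a
closed subgroup scheme which is a torus. Then the centralizer and the normalizer of Q in G exist as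
closed subgroup schemes of G (characterized on points as in `Red.IsCentralizerOf` /
`Red.IsNormalizerOf`) and are smooth over S. -/
theorem result (S : Scheme.{u}) (G Q : Over S) [GrpObj G] [GrpObj Q] [Smooth G.hom] [LocallyOfFinitePresentation G.hom] [QuasiCompact G.hom] [QuasiSeparated G.hom] (q : Q ⟶ G) [IsMonHom q] (hq : IsClosedImmersion q.left) (hQ : Red.IsTorus Q) : (∃ (Z : Over S) (_ : GrpObj Z) (z : Z ⟶ G), Red.IsCentralizerOf q z ∧ IsClosedImmersion z.left ∧ Smooth Z.hom) ∧ ∃ (N : Over S) (_ : GrpObj N) (n : N ⟶ G), Red.IsNormalizerOf q n ∧ IsClosedImmersion n.left ∧ Smooth N.hom := by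
  haveI := MultConjLib.smooth_of_isTorus hQ
  haveI : Mono q.left := inferInstance
  haveI : Mono q := (Over.forget S).mono_of_mono_map (inferInstanceAs (Mono q.left))
  have hD := MultConjLib.isLocDS_of_multTypeFT (GrpSchLib.RankOne.isMultTypeFT_of_isTorus hQ)
  have hconn := MultConjLib.neutralSet_eq_univ_of_isTorus hQ
  refine ⟨?_, ?_⟩
  · obtain ⟨Z, _, z, hz, hzc, hzf⟩ := GrpFieldLib.Jet.exists_centralizer q hconn
    haveI : Mono z.left := inferInstance
    refine ⟨Z, _, z, hz, hzc, (Groth.Agent.S1488.result Z.hom).mpr ⟨?_, ?_⟩⟩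
    · rw [← Over.w z]; infer_instance
    · exact MultConjLib.isFormallySmoothHom_transporter hD ‹_› q q z fun X g => (hz.2.2 X g).trans
        (forall₃_congr fun X' x h => mul_inv_eq_iff_eq_mul.symm)
  · obtain ⟨N, _, n, hn, hnc, hnf⟩ := GrpFieldLib.Jet.exists_normalizer q hconn
    haveI : Mono n.left := inferInstance
    refine ⟨N, _, n, hn, hnc, (Groth.Agent.S1488.result N.hom).mpr ⟨?_, ?_⟩⟩
    · rw [← Over.w n]; infer_instance
    · exact MultConjLib.isFormallySmoothHom_sub_transporter hD hD ‹_› q q n fun X g => (hn.2.2 X g).trans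
        (forall₂_congr fun X' x => forall_and)

end Groth.Agent.S3006
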