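import Groth.Statements.S8416
import Groth.Agent.MultConjLib.FixedScheme
-- import your own Groth.Agent.* helpers here

set_option autoImplicit false
universe u
open CategoryTheory MonoidalCategory CartesianMonoidalCategory MonObj GrpObj AlgebraicGeometry
open SGA3x

namespace Groth.Agent.S8416

/-- Let G be an S-group scheme of multiplicative type and of finite type acting on an S-scheme X which
is smooth, separated and of finite presentation over S, and suppose that the functor of fixed points
X^G (T-points x of X with g · x_{T′} = x_{T′} for every T′ → T and every T′-point g of G) is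
represented by a closed subscheme F of X. Then F is smooth over S. (The published statement, for
groups admitting a composition series of which groups of multiplicative type are one case, also
asserts that X^G is represented by a closed subscheme of X of finite presentation over S; this row
takes the representing closed subscheme as given and states its smoothness.) -/
theorem result (S : Scheme.{u}) (G : Over S) [GrpObj G]
    (hG : SGA3x.IsMultTypeFT G) (X : Over S) [Smooth X.hom] [QuasiCompact X.hom] [IsSeparated X.hom]
    (a : AlgGrp.Action G X) (F : Scheme.{u}) (f : F ⟶ X.left) (hf : IsClosedImmersion f)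
    (hF : ∀ (T : Over S) (x : T ⟶ X), (∃ y : T.left ⟶ F, y ≫ f = x.left) ↔
        ∀ (T' : Over S) (t : T' ⟶ T) (g : T' ⟶ G), lift g (t ≫ x) ≫ a.act = t ≫ x) :
    Smooth (f ≫ X.hom) := by
  obtain ⟨Z, c, hc, hsm, hpts⟩ := MultConjLib.exists_fixed_smooth hG a
  let F' : Over S := Over.mk (f ≫ X.hom)
  let f' : F' ⟶ X := Over.homMk f rfl
  obtain ⟨φ, hφ⟩ := (hpts F' f').mpr ((hF F' f').mp ⟨𝟙 F, Category.id_comp _⟩)
  obtain ⟨ψ, hψ⟩ := (hF Z c).mpr ((hpts Z c).mp ⟨𝟙 Z, Category.id_comp _⟩)
  have hφ' : φ.left ≫ c.left = f := congrArg CommaMorphism.left hφ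
  haveI : IsIso φ.left := ⟨ψ,
    by rw [← cancel_mono f, Category.assoc, hψ, hφ', Category.id_comp],
    by rw [← cancel_mono c.left, Category.assoc, hφ', hψ, Category.id_comp]⟩
  rw [show f ≫ X.hom = φ.left ≫ Z.hom by rw [← hφ', Category.assoc, Over.w c]]
  infer_instance

end Groth.Agent.S8416
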