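import Groth.Statements.S5272
import Groth.Agent.MultConjLib.Exists

set_option backward.isDefEq.respectTransparency false

set_option autoImplicit false
open CategoryTheory MonoidalCategory CartesianMonoidalCategory MonObj GrpObj AlgebraicGeometry
universe u
open SGA3x

namespace Groth.Agent.S5272

/-- Let S = Spec R be affine, J an ideal of R with J² = 0 and S₀ = Spec (R/J); let H be an S-group of
multiplicative type (fpqc-locally on S isomorphic, as a group, to diagonalisable groups D(M), M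
allowed to vary and taken in Type 0), G an arbitrary S-group, and u, v : H ⟶ G two homomorphisms
whose restrictions to S₀ agree (h ≫ u = h ≫ v for every point h of H defined over an S₀-scheme).
Then there is an S-point g of G whose restriction to S₀ is the unit and such that v = int(g) ∘ u:
for every point h of H, v(h) = g u(h) g⁻¹. -/
theorem result {R : Type u} [CommRing R] (J : Ideal R) (hJ : J ^ 2 = ⊥)
    (H G : Over (Spec (CommRingCat.of R))) [GrpObj H] [GrpObj G]
    (hH : TwC.Locally (Spec (CommRingCat.of R)) TwC.Topology.fpqc (fun S' f => ∃ (M : Type) (_ : AddCommGroup M), Nonempty (Grp.mk (Red.bc f H) ≅ Grp.mk (Red.DS S' M))))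
    (u v : H ⟶ G) [IsMonHom u] [IsMonHom v]
    (h0 : ∀ (X : Over (Spec (CommRingCat.of R))) (p : X ⟶ (Over.mk (Spec.map (CommRingCat.ofHom (Ideal.Quotient.mk J))) : Over (Spec (CommRingCat.of R)))) (h : X ⟶ H), h ≫ u = h ≫ v) :
    ∃ g : 𝟙_ (Over (Spec (CommRingCat.of R))) ⟶ G, toUnit (Over.mk (Spec.map (CommRingCat.ofHom (Ideal.Quotient.mk J))) : Over (Spec (CommRingCat.of R))) ≫ g = 1 ∧
      ∀ (X : Over (Spec (CommRingCat.of R))) (h : X ⟶ H), h ≫ v = (toUnit X ≫ g) * (h ≫ u) * (toUnit X ≫ g)⁻¹ := by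
  obtain ⟨A, _, _, x, hx, -, hiso, j, hj⟩ := MultConjLib.exists_univ_int hH (𝟙 (Spec (CommRingCat.of R)))
  haveI := hiso
  let β : Spec (CommRingCat.of R) ⟶ Spec (CommRingCat.of R) := 𝟙 _
  let T₀ := GrpSchLib.DiagActionRigid.sp β R
  have hT₀ : T₀.hom = 𝟙 _ := by
    show Spec.map (CommRingCat.ofHom (algebraMap R R)) ≫ 𝟙 _ = 𝟙 _
    rw [Category.comp_id]
    exact Spec.map_id _
  let ι₀ : 𝟙_ (Over (Spec (CommRingCat.of R))) ⟶ T₀ := Over.homMk (𝟙 _) (by rw [hT₀]; exact Category.comp_id _)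
  have hsub : ∀ {X : Over (Spec (CommRingCat.of R))} (a b : X ⟶ T₀), a = b := fun a b => by
    refine Over.OverMorphism.ext ?_
    have ha := Over.w a
    have hb := Over.w b
    rw [hT₀] at ha hb
    exact ((Category.comp_id _).symm.trans ha).trans (hb.symm.trans (Category.comp_id _))
  obtain ⟨c, hc, hcv⟩ := MultConjLib.exists_conj hx hj (T := R) J hJ u v 1 (fun B _ i₁ i₂ hT hB q => by
    obtain rfl : i₁ = i₂ := Algebra.algebra_ext _ _ fun r => (@IsScalarTower.algebraMap_apply R R B _ _ _ _ i₂ i₁ hT r)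
    simp only [MonObj.comp_one, _root_.one_mul, inv_one, _root_.mul_one]
    have hle : J ≤ RingHom.ker (algebraMap R B) := fun z hz => by
      rw [RingHom.mem_ker, ← Ideal.mem_bot, ← hB]
      exact Ideal.mem_map_of_mem _ hz
    let φ : R ⧸ J →+* B := Ideal.Quotient.lift J (algebraMap R B) hle
    refine (h0 (GrpSchLib.DiagActionRigid.sp β B) (Over.homMk (Spec.map (CommRingCat.ofHom φ)) ?_) q).symm
    show Spec.map (CommRingCat.ofHom φ) ≫ Spec.map (CommRingCat.ofHom (Ideal.Quotient.mk J)) = Spec.map _ ≫ β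
    rw [← Spec.map_comp, ← CommRingCat.ofHom_comp, Ideal.Quotient.lift_comp_mk, Category.comp_id])
  refine ⟨ι₀ ≫ c, ?_, fun X h => ?_⟩
  · let k : (Over.mk (Spec.map (CommRingCat.ofHom (Ideal.Quotient.mk J))) : Over (Spec (CommRingCat.of R))) ⟶
        GrpSchLib.DiagActionRigid.sp β (R ⧸ J) := Over.homMk (𝟙 _) (by
      show 𝟙 _ ≫ Spec.map (CommRingCat.ofHom (algebraMap _ (R ⧸ J))) ≫ β = Spec.map _
      rw [Category.id_comp, Category.comp_id]
      rfl)
    have h := congrArg (k ≫ ·) hc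
    simp only [MonObj.comp_one, ← Category.assoc] at h
    rw [← Category.assoc, hsub (toUnit _ ≫ ι₀) (k ≫ GrpSchLib.DiagActionRigid.spm β (Ideal.Quotient.mkₐ _ J))]
    exact h
  · have hu := congrArg ((h ≫ inv x) ≫ ·) (hcv A x)
    simp only [MonObj.comp_mul, GrpObj.comp_inv, Category.assoc, IsIso.inv_hom_id_assoc] at hu
    rw [hu]
    simp only [← Category.assoc]
    rw [hsub ((h ≫ inv x) ≫ GrpSchLib.DiagActionRigid.spm β _) (toUnit X ≫ ι₀)]

end Groth.Agent.S5272
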