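import Groth.Statements.S5273
import Groth.Agent.MultConjLib.Lift
import Groth.Agent.S1488

set_option backward.isDefEq.respectTransparency false

set_option autoImplicit false
open CategoryTheory MonoidalCategory CartesianMonoidalCategory MonObj GrpObj AlgebraicGeometry
universe u
open SGA3x

namespace Groth.Agent.S5273

/-- Let S = Spec R be affine, J a nilpotent ideal of R and S₀ = Spec (R/J); let H be an S-group of
multiplicative type (fpqc-locally on S isomorphic, as a group, to diagonalisable groups D(M), M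
allowed to vary and taken in Type 0), G an S-group which is smooth over S, u, v : H ⟶ G two
homomorphisms, and g₀ an S₀-valued point of G such that v = int(g₀) ∘ u over S₀ (v(h) = g₀ u(h) g₀⁻¹
for every point h of H defined over an S₀-scheme). Then g₀ lifts to an S-point g of G with v =
int(g) ∘ u. -/
theorem result {R : Type u} [CommRing R] (J : Ideal R) (hJ : IsNilpotent J)
    (H G : Over (Spec (CommRingCat.of R))) [GrpObj H] [GrpObj G]
    (hH : TwC.Locally (Spec (CommRingCat.of R)) TwC.Topology.fpqc (fun S' f => ∃ (M : Type) (_ : AddCommGroup M), Nonempty (Grp.mk (Red.bc f H) ≅ Grp.mk (Red.DS S' M))))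
    (hG : Smooth G.hom) (u v : H ⟶ G) [IsMonHom u] [IsMonHom v]
    (g₀ : (Over.mk (Spec.map (CommRingCat.ofHom (Ideal.Quotient.mk J))) : Over (Spec (CommRingCat.of R))) ⟶ G)
    (h0 : ∀ (X : Over (Spec (CommRingCat.of R))) (p : X ⟶ (Over.mk (Spec.map (CommRingCat.ofHom (Ideal.Quotient.mk J))) : Over (Spec (CommRingCat.of R)))) (h : X ⟶ H), h ≫ v = (p ≫ g₀) * (h ≫ u) * (p ≫ g₀)⁻¹) :
    ∃ g : 𝟙_ (Over (Spec (CommRingCat.of R))) ⟶ G, toUnit (Over.mk (Spec.map (CommRingCat.ofHom (Ideal.Quotient.mk J))) : Over (Spec (CommRingCat.of R))) ≫ g = g₀ ∧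
      ∀ (X : Over (Spec (CommRingCat.of R))) (h : X ⟶ H), h ≫ v = (toUnit X ≫ g) * (h ≫ u) * (toUnit X ≫ g)⁻¹ := by
  obtain ⟨A, _, _, x, hx, -, hiso, j, hj⟩ := MultConjLib.exists_univ_int hH (𝟙 (Spec (CommRingCat.of R)))
  haveI := hiso
  let β : Spec (CommRingCat.of R) ⟶ Spec (CommRingCat.of R) := 𝟙 _
  let T₀ := GrpSchLib.DiagActionRigid.sp β R
  have hT₀ : T₀.hom = 𝟙 _ := by
    show Spec.map (CommRingCat.ofHom (algebraMap R R)) ≫ 𝟙 _ = 𝟙 _
    rw [Category.comp_id]
    exact Spec.map_id _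
  let ι₀ : 𝟙_ (Over (Spec (CommRingCat.of R))) ⟶ T₀ := Over.homMk (𝟙 _) (by rw [hT₀]; exact Category.comp_id _)
  have hsub : ∀ {X : Over (Spec (CommRingCat.of R))} (a b : X ⟶ T₀), a = b := fun a b => by
    refine Over.OverMorphism.ext ?_
    have ha := Over.w a
    have hb := Over.w b
    rw [hT₀] at ha hb
    exact ((Category.comp_id _).symm.trans ha).trans (hb.symm.trans (Category.comp_id _))
  let S₀ : Over (Spec (CommRingCat.of R)) := Over.mk (Spec.map (CommRingCat.ofHom (Ideal.Quotient.mk J)))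
  let k : S₀ ⟶ GrpSchLib.DiagActionRigid.sp β (R ⧸ J) := Over.homMk (𝟙 _) (by
    show 𝟙 _ ≫ Spec.map (CommRingCat.ofHom (algebraMap _ (R ⧸ J))) ≫ β = Spec.map _
    rw [Category.id_comp, Category.comp_id]
    rfl)
  let k' : GrpSchLib.DiagActionRigid.sp β (R ⧸ J) ⟶ S₀ := Over.homMk (𝟙 _) (by
    show 𝟙 _ ≫ Spec.map _ = Spec.map (CommRingCat.ofHom (algebraMap _ (R ⧸ J))) ≫ β
    rw [Category.id_comp, Category.comp_id]
    rfl)
  obtain ⟨c, hc, hcv⟩ := MultConjLib.exists_lift_nilpotent hx hj (u := u) (v := v) ((Groth.Agent.S1488.result G.hom).mp hG).2 J hJ (k' ≫ g₀)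
    (fun B _ _ _ _ q => by
      rw [← Category.assoc]
      exact h0 _ _ q)
  refine ⟨ι₀ ≫ c, ?_, fun X h => ?_⟩
  · have h := congrArg (k ≫ ·) hc
    simp only [← Category.assoc] at h
    rw [show k ≫ k' = 𝟙 _ from Over.OverMorphism.ext (Category.id_comp _), Category.id_comp] at h
    rw [← Category.assoc, hsub (toUnit _ ≫ ι₀) (k ≫ GrpSchLib.DiagActionRigid.spm β (Ideal.Quotient.mkₐ _ J))]
    exact h
  · have hu := congrArg ((h ≫ inv x) ≫ ·) (hcv A x)
    simp only [MonObj.comp_mul, GrpObj.comp_inv, Category.assoc, IsIso.inv_hom_id_assoc] at hu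
    rw [hu]
    simp only [← Category.assoc]
    rw [hsub ((h ≫ inv x) ≫ GrpSchLib.DiagActionRigid.spm β _) (toUnit X ≫ ι₀)]

end Groth.Agent.S5273
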