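import Groth.Statements.S16611
import Groth.Agent.TorusBilin.Lattice
import Groth.Agent.MultConjLib.Torus
import Groth.Agent.GrpSchLib.HomFibre
import Groth.Agent.FlatMisc.Fibrewise

set_option autoImplicit false
open CategoryTheory MonoidalCategory CartesianMonoidalCategory MonObj GrpObj AlgebraicGeometry
universe u
open SGA3x

namespace Groth.Agent.S16611

/-- Over an arbitrary scheme S, a monomorphism f : T ⟶ T' of S-tori with the same rank function (at
every point of S the geometric fibres of T and T' are split tori of the same rank) is an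
isomorphism. -/
theorem result {S : Scheme.{u}} {T T' : Over S} [GrpObj T] [GrpObj T']
    (hT : Red.IsTorus T) (hT' : Red.IsTorus T') (f : T ⟶ T') [IsMonHom f] [Mono f]
    (hrk : ∀ s : ↥S, ∃ r : ℕ, Red.IsSplitTorusWith (Fin r → ℤ) (Red.geomFibre s T) ∧
      Red.IsSplitTorusWith (Fin r → ℤ) (Red.geomFibre s T')) : IsIso f := by
  haveI : Smooth T.hom := MultConjLib.smooth_of_isTorus hT
  haveI : Smooth T'.hom := MultConjLib.smooth_of_isTorus hT'
  have hfib : ∀ s : S, IsIso ((Over.pullback (S.fromSpecResidueField s)).map f).left := by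
    intro s
    obtain ⟨r, ⟨e⟩, ⟨e'⟩⟩ := hrk s
    obtain ⟨d⟩ := GrpSchLib.AffineHopf.nonempty_DS_iso (AlgebraicClosure (S.residueField s)) (Fin r → ℤ)
    let E := e ≪≫ d.symm
    let E' := e' ≪≫ d.symm
    haveI := E.inv.hom.isMonHom_hom
    haveI := E'.hom.hom.isMonHom_hom
    haveI : IsIso E.inv.hom.hom := ((Grp.forget _).mapIso E).isIso_inv
    haveI : IsIso E'.hom.hom.hom := ((Grp.forget _).mapIso E').isIso_hom
    let fg : Red.geomFibre s T ⟶ Red.geomFibre s T' := (Over.pullback (Red.geomPt s)).map f
    haveI : Mono fg := inferInstanceAs (Mono ((Over.pullback (Red.geomPt s)).map f))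
    haveI : IsMonHom fg := inferInstanceAs (IsMonHom ((Over.pullback (Red.geomPt s)).map f))
    let g : TorusBilin.Tor (AlgebraicClosure (S.residueField s)) r ⟶ TorusBilin.Tor (AlgebraicClosure (S.residueField s)) r :=
      E.inv.hom.hom ≫ fg ≫ E'.hom.hom.hom
    haveI : Mono fg := ‹_›
    haveI : Mono g := inferInstanceAs (Mono (E.inv.hom.hom ≫ fg ≫ E'.hom.hom.hom))
    haveI : IsMonHom g := inferInstanceAs (IsMonHom (E.inv.hom.hom ≫ fg ≫ E'.hom.hom.hom))
    have hg := TorusBilin.isIso_of_mono g
    have hfg : IsIso fg := by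
      haveI : IsIso (E.inv.hom.hom ≫ fg ≫ E'.hom.hom.hom) := hg
      haveI : IsIso (fg ≫ E'.hom.hom.hom) := IsIso.of_isIso_comp_left E.inv.hom.hom _
      exact IsIso.of_isIso_comp_right fg E'.hom.hom.hom
    let a := Spec.map (CommRingCat.ofHom (algebraMap (S.residueField s) (AlgebraicClosure (S.residueField s))))
    let F := Over.pullback (S.fromSpecResidueField s)
    haveI hcomp : IsIso ((F ⋙ Over.pullback a).map f) :=
      (NatIso.isIso_map_iff (Over.pullbackComp a (S.fromSpecResidueField s)) f).mp hfg
    haveI : IsIso ((Over.pullback a).map (F.map f)).left :=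
      inferInstanceAs (IsIso ((Over.forget _).map ((F ⋙ Over.pullback a).map f)))
    have hq : (@Surjective ⊓ @Flat ⊓ @QuasiCompact : MorphismProperty Scheme.{u}) (Limits.pullback.fst (F.obj T').hom a) := by
      haveI : Flat a := GrpSchLib.flat_spec_map_field _
      haveI : Surjective a := GrpSchLib.surjective_spec_map_field _
      exact ⟨⟨MorphismProperty.pullback_fst _ _ ‹_›, MorphismProperty.pullback_fst _ _ ‹_›⟩,
        MorphismProperty.pullback_fst _ _ inferInstance⟩
    exact MorphismProperty.of_isPullback_of_descendsAlong (P := MorphismProperty.isomorphisms Scheme.{u})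
      (GrpSchLib.HomFibre.map_isPullback (F.map f) a).flip hq
      (inferInstanceAs (IsIso ((Over.pullback a).map (F.map f)).left))
  have hsnd : ∀ s : S, IsIso (Limits.pullback.snd f.left (T'.hom.fiberι s)) := fun s => by
    have h := GrpSchLib.HomFibre.map_isPullback f (S.fromSpecResidueField s)
    haveI := hfib s
    show IsIso (Limits.pullback.snd f.left (Limits.pullback.fst T'.hom (S.fromSpecResidueField s)))
    rw [← h.isoPullback_inv_snd]
    exact IsIso.comp_isIso
  haveI : LocallyOfFinitePresentation (f.left ≫ T'.hom) := by rw [Over.w f]; infer_instance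
  haveI : Flat (f.left ≫ T'.hom) := by rw [Over.w f]; infer_instance
  haveI : IsOpenImmersion f.left := FlatMisc.isOpenImmersion_of_fibres T'.hom f.left fun s => by
    haveI := hsnd s
    exact IsOpenImmersion.of_isIso _
  haveI : Surjective f.left := ⟨fun y => by
    obtain ⟨t, ht⟩ : ∃ t, T'.hom y = t := ⟨_, rfl⟩
    obtain ⟨z, rfl⟩ := FlatMisc.mem_range_fiberι T'.hom t y ht
    haveI := hsnd t
    obtain ⟨w, rfl⟩ := (Limits.pullback.snd f.left (T'.hom.fiberι t)).homeomorph.surjective z
    exact ⟨Limits.pullback.fst f.left _ w, by rw [← Scheme.Hom.comp_apply, Limits.pullback.condition]; rfl⟩⟩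
  haveI : IsIso f.left := (isIso_iff_isOpenImmersion_and_surjective _).mpr ⟨inferInstance, inferInstance⟩
  haveI : IsIso ((Over.forget _).map f) := ‹IsIso f.left›
  exact isIso_of_reflects_iso f (Over.forget _)

end Groth.Agent.S16611
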