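import Groth.Statements.S4147
import Groth.Agent.GModLib.TorusImage
import Groth.Agent.GModLib.TorusImageGeneral
import Groth.Agent.GModLib.TorusBC
import Groth.Agent.AlgSpPts.Sep

set_option autoImplicit false
universe u
open CategoryTheory MonoidalCategory CartesianMonoidalCategory MonObj GrpObj AlgebraicGeometry CategoryTheory.Limits
open SGA3x

set_option backward.isDefEq.respectTransparency false
set_option backward.isDefEq.respectTransparency.types false

namespace Groth.Agent.S4147

/-- Let G and G' be S-group schemes, smooth, separated and of finite type over S, G acquiring a maximal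
torus after an fpqc covering base change, and u : G → G' a homomorphism which is surjective on every
geometric fibre. Then for every maximal torus i : T → G there is a maximal torus i' : T' → G' of G'
and a surjective flat homomorphism v : T → T' with v ≫ i' = i ≫ u (T' is the image u(T)). -/
theorem result (S : Scheme.{u}) (G G' : Over S) [GrpObj G] [GrpObj G']
    [Smooth G.hom] [IsSeparated G.hom] [QuasiCompact G.hom] [Smooth G'.hom] [IsSeparated G'.hom] [QuasiCompact G'.hom]
    (hG : SGA3x.HasMaxTorusFpqcLocally G) (u : G ⟶ G') [IsMonHom u]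
    (hu : ∀ s : S, Surjective ((Over.pullback (Red.geomPt s)).map u).left)
    (T : Over S) [GrpObj T] (i : T ⟶ G) (hT : Red.IsMaximalTorus i) :
    ∃ (T' : Over S) (_ : GrpObj T') (i' : T' ⟶ G') (v : T ⟶ T'), Red.IsMaximalTorus i' ∧ IsMonHom v ∧
      v ≫ i' = i ≫ u ∧ Surjective v.left ∧ Flat v.left := by
    obtain ⟨hi, himono, hTt, hTmax⟩ := id hT
    haveI := hi; haveI := himono
    haveI : IsAffineHom T.hom :=
      MultConjLib.isAffineHom_of_locDS (MultConjLib.isLocDS_of_multTypeFT (GrpSchLib.RankOne.isMultTypeFT_of_isTorus hTt))
    obtain ⟨T', iT', m, v, hT', hm, hmm, hv, hvm, hvs, hvf⟩ := GModLib.TorusImage.exists_torus_image hTt (i ≫ u)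
    haveI := hm; haveI := hmm; haveI := hv
    refine ⟨T', iT', m, v, ⟨hm, hmm, hT', fun s R _ j _ _ f hR hf => ?_⟩, hv, hvm, hvs, hvf⟩
    let σ := Red.geomPt s
    haveI : Smooth (Red.geomFibre s G).hom := inferInstanceAs (Smooth (Limits.pullback.snd G.hom σ))
    haveI : Smooth (Red.geomFibre s G').hom := inferInstanceAs (Smooth (Limits.pullback.snd G'.hom σ))
    haveI : QuasiCompact (Red.geomFibre s G).hom := inferInstanceAs (QuasiCompact (Limits.pullback.snd G.hom σ))
    haveI : QuasiCompact (Red.geomFibre s G').hom := inferInstanceAs (QuasiCompact (Limits.pullback.snd G'.hom σ))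
    haveI := hu s
    have hA : AGF.IsMaxTorus ((Over.pullback σ).map i) :=
      ⟨inferInstance, inferInstance, GModLib.isTorus_bc σ hTt, fun T₁ _ j₁ _ _ f₁ h₁ hf₁ => hTmax s T₁ j₁ f₁ h₁ hf₁⟩
    haveI : Surjective ((Over.pullback σ).map v ≫ f).left := GModLib.surjective_into_torus
      ((Over.pullback σ).map u) ((Over.pullback σ).map i) hA hR j ((Over.pullback σ).map v ≫ f)
      (by rw [Category.assoc, hf, ← Functor.map_comp, hvm, Functor.map_comp])
    haveI : Surjective f.left := by
      haveI : Surjective (((Over.pullback σ).map v).left ≫ f.left) := by rw [← Over.comp_left]; infer_instance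
      exact Surjective.of_comp ((Over.pullback σ).map v).left f.left
    haveI : IsMonHom (f ≫ j) := hf.symm ▸ (inferInstance : IsMonHom ((Over.pullback σ).map m))
    haveI : IsMonHom f := GModLib.isMonHom_of_comp f j
    haveI : Mono (f ≫ j) := hf.symm ▸ (inferInstance : Mono ((Over.pullback σ).map m))
    haveI : Mono f := mono_of_mono f j
    haveI : Mono f.left := Over.mono_left_of_mono f
    obtain ⟨r1, r2, r3, -, r5⟩ := GModLib.TorusBasic.torus_props hR
    obtain ⟨q1, q2, q3, -, q5⟩ := GModLib.TorusBasic.torus_props (GModLib.isTorus_bc σ hT')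
    haveI := r1; haveI := r2; haveI := r5; haveI := q1; haveI := q5
    haveI : IsReduced R.left := GrpSchLib.isReduced_of_smooth_field R.hom
    haveI : QuasiCompact f.left := by
      haveI : QuasiCompact (f.left ≫ R.hom) := by rw [Over.w f]; infer_instance
      exact QuasiCompact.of_comp f.left R.hom
    haveI : Flat f.left := GrpSchLib.flat_of_surjective_hom f
    haveI : LocallyOfFinitePresentation f.left := by
      haveI : LocallyOfFinitePresentation (f.left ≫ R.hom) := by rw [Over.w f]; infer_instance
      exact AlgSpPts.locallyOfFinitePresentation_of_comp f.left R.hom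
    haveI : IsOpenImmersion f.left := IsOpenImmersion.of_flat_of_mono f.left
    haveI : Epi f.left.base := (TopCat.epi_iff_surjective _).mpr f.left.surjective
    haveI : IsIso ((Over.forget _).map f) := IsOpenImmersion.isIso f.left
    exact isIso_of_reflects_iso f (Over.forget _)

end Groth.Agent.S4147
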