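import Groth.Statements.S5247
import Groth.Agent.MultConjLib.Transporter
import Groth.Agent.GrpSchLib.MonoSubgroup


set_option autoImplicit false
open CategoryTheory MonoidalCategory CartesianMonoidalCategory MonObj GrpObj AlgebraicGeometry
universe u
open SGA3x

namespace Groth.Agent.S5247

/-- Let H be an S-group of multiplicative type and of finite type, G an S-group smooth and affine over S
and u : H ⟶ G a homomorphism of S-groups. Then the centralizer of u (the subfunctor of G of points g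
with int(g) ∘ u = u after every base change) is representable by a closed subgroup scheme of G which
is smooth over S. -/
theorem result {S : Scheme.{u}} (H G : Over S) [GrpObj H] [GrpObj G]
    (hH : SGA3x.IsMultTypeFT H) (hG : Smooth G.hom) (hGa : IsAffineHom G.hom) (u : H ⟶ G) [IsMonHom u] :
    ∃ (Z : Over S) (_ : GrpObj Z) (j : Z ⟶ G), Red.IsCentralizerOf u j ∧ IsClosedImmersion j.left ∧ Smooth Z.hom := by
  haveI := hGa
  obtain ⟨Z, c, hc, hsm, hpts⟩ := MultConjLib.exists_transporter_smooth hH hG inferInstance u u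
  haveI : Mono c.left := inferInstance
  haveI : Mono c := ⟨fun a b hab => Over.OverMorphism.ext ((cancel_mono c.left).mp (congrArg CommaMorphism.left hab))⟩
  have hpts' : ∀ (X : Over S) (g : X ⟶ G), (∃ t : X ⟶ Z, t ≫ c = g) ↔
      ∀ (X' : Over S) (x : X' ⟶ X) (h : X' ⟶ H), (x ≫ g) * (h ≫ u) = (h ≫ u) * (x ≫ g) := fun X g =>
    (hpts X g).trans (forall₃_congr fun X' x h => mul_inv_eq_iff_eq_mul)
  have hmem : ∀ {X X' : Over S} (z : X ⟶ Z) (x : X' ⟶ X) (h : X' ⟶ H),
      Commute (x ≫ z ≫ c) (h ≫ u) := fun z x h => (hpts' _ _).mp ⟨z, rfl⟩ _ x h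
  obtain ⟨η', hη⟩ := (hpts' _ η[G]).mpr fun X' x h => by
    rw [show x ≫ η[G] = 1 from (congrArg (· ≫ η[G]) (toUnit_unique x (toUnit X'))).trans rfl]
    rw [_root_.one_mul, _root_.mul_one]
  obtain ⟨μ', hμ⟩ := (hpts' _ ((fst Z Z ≫ c) * (snd Z Z ≫ c))).mpr fun X' x h => by
    rw [MonObj.comp_mul]
    exact (Commute.mul_left (by simpa using hmem (fst Z Z) x h) (by simpa using hmem (snd Z Z) x h))
  obtain ⟨ι', hι⟩ := (hpts' _ c⁻¹).mpr fun X' x h => by
    rw [GrpObj.comp_inv]
    exact Commute.inv_left (by simpa using hmem (𝟙 Z) x h)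
  obtain ⟨str, hstr⟩ := GrpSchLib.exists_grpObj_of_mono c η' hη μ' hμ ι' hι
  exact ⟨Z, str, c, ⟨hstr, inferInstance, hpts'⟩, hc, hsm⟩

end Groth.Agent.S5247
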