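import Groth.Statements.S19598
import Groth.Agent.MultConjLib.ClosedSub
import Mathlib.AlgebraicGeometry.Morphisms.Flat
-- import your own Groth.Agent.* helpers here

set_option autoImplicit false
open CategoryTheory MonoidalCategory CartesianMonoidalCategory MonObj GrpObj AlgebraicGeometry
universe u
open SGA3x

set_option backward.isDefEq.respectTransparency false

namespace Groth.Agent.S19598

/-- Let H' be a group scheme of multiplicative type (of finite type) over a scheme S, and H a closed
subgroup scheme of H' which is flat and locally of finite presentation over S. Then H is of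
multiplicative type (of finite type). Multiplicative type is taken in the fpqc-local sense on both
sides. -/
theorem result {S : Scheme.{u}} (H H' : Over S) [GrpObj H] [GrpObj H']
    (hH' : SGA3x.IsMultTypeFT H') (i : H ⟶ H') [IsMonHom i] (hi : IsClosedImmersion i.left)
    (hHfl : Flat H.hom) (hHfp : LocallyOfFinitePresentation H.hom) :
    SGA3x.IsMultTypeFT H := by
  haveI := hi
  haveI := hHfl
  haveI := hHfp
  refine MultConjLib.isMultTypeFT_of_local fun s => ?_
  obtain ⟨U, hU, hsU, -⟩ := exists_isAffineOpen_mem_and_subset (show s ∈ (⊤ : S.Opens) from trivial)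
  let β : Spec (CommRingCat.of Γ(S, U)) ⟶ S := hU.fromSpec
  let i' := (Over.pullback β).map i
  haveI : IsClosedImmersion i'.left := by
    refine MorphismProperty.of_isPullback (P := @IsClosedImmersion) (g := i.left) (f := Limits.pullback.fst H'.hom β)
      (f' := Limits.pullback.fst H.hom β) ?_ hi
    refine (IsPullback.of_bot ?_ (Limits.pullback.lift_fst _ _ _).symm (IsPullback.of_hasPullback H'.hom β))
    rw [Over.w i, show i'.left ≫ Limits.pullback.snd H'.hom β = Limits.pullback.snd H.hom β from Over.w i']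
    exact IsPullback.of_hasPullback H.hom β
  haveI : Flat (Red.bc β H).hom := inferInstanceAs (Flat (Limits.pullback.snd H.hom β))
  haveI : LocallyOfFinitePresentation (Red.bc β H).hom :=
    inferInstanceAs (LocallyOfFinitePresentation (Limits.pullback.snd H.hom β))
  have hA := MultConjLib.isMultTypeFT_closedSub (Red.bc β H) (Red.bc β H')
    (GrpSchLib.MultTypeBC.isMultTypeFT_bc β hH') i'
  refine ⟨U, hsU, ?_⟩
  have hb := GrpSchLib.MultTypeBC.isMultTypeFT_bc hU.isoSpec.hom hA
  obtain ⟨S', f, h₁, h₂, h₃, h₄⟩ := hb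
  refine ⟨S', f, h₁, h₂, h₃, fun s' => ?_⟩
  obtain ⟨O, hO, M, iM, hM, ⟨e⟩⟩ := h₄ s'
  obtain ⟨e₁⟩ := GrpSchLib.MultTypeBC.bc_bc hU.isoSpec.hom β H
  obtain ⟨e₂⟩ := GrpSchLib.MultTypeBC.bc_congr (show hU.isoSpec.hom ≫ β = U.ι by
    rw [← Iso.eq_inv_comp]; exact hU.isoSpec_inv_ι.symm) H
  obtain ⟨e₃⟩ := GrpSchLib.MultTypeBC.bc_iso (O.ι ≫ f) (e₁ ≪≫ e₂)
  exact ⟨O, hO, M, iM, hM, ⟨e₃.symm ≪≫ e⟩⟩

end Groth.Agent.S19598
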