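import Groth.Statements.S5366
import Groth.Agent.GrpFieldLib.SVFamily
-- import your own Groth.Agent.* helpers here

set_option autoImplicit false
set_option backward.isDefEq.respectTransparency false
set_option maxHeartbeats 1000000
set_option linter.style.haveILetI false
universe u
open CategoryTheory CategoryTheory.Limits MonoidalCategory CartesianMonoidalCategory MonObj GrpObj AlgebraicGeometry
open SGA3

namespace Groth.Agent.S5366

/-- (i) ⟺ (iii): let G be a smooth group scheme of finite type over a field k, Ω an algebraically closed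
extension field of k and n a natural number. Then G is solvable of class n (the n-th term of the
derived series of the group G(T) is trivial for every k-scheme T) if and only if the n-th term of
the derived series of the group of Ω-points G(Ω) is trivial; and G is nilpotent of class n (the n-th
term of the lower central series of G(T) is trivial for every T) if and only if the n-th term of the
lower central series of G(Ω) is trivial. -/
theorem result (k : Type u) [Field k] (G : Over (Spec (CommRingCat.of k))) [GrpObj G]
    [Smooth G.hom] [QuasiCompact G.hom] (Ω : Type u) [Field Ω] [Algebra k Ω] [IsAlgClosed Ω] (n : ℕ) :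
    ((∀ T : Over (Spec (CommRingCat.of k)), derivedSeries (T ⟶ G) n = ⊥) ↔ derivedSeries ((Over.mk (Spec.map (CommRingCat.ofHom (algebraMap k Ω))) : Over (Spec (CommRingCat.of k))) ⟶ G) n = ⊥) ∧
    ((∀ T : Over (Spec (CommRingCat.of k)), Subgroup.lowerCentralSeries (⊤ : Subgroup (T ⟶ G)) n = ⊥) ↔ Subgroup.lowerCentralSeries (⊤ : Subgroup (((Over.mk (Spec.map (CommRingCat.ofHom (algebraMap k Ω))) : Over (Spec (CommRingCat.of k))) ⟶ G))) n = ⊥) := by

  haveI hsep : IsSeparated G.hom := Groth.Agent.GrpSchLib.CharZeroPts.isSeparated_grp _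
  let g : Spec (CommRingCat.of Ω) ⟶ Spec (CommRingCat.of k) := Spec.map (CommRingCat.ofHom (algebraMap k Ω))
  have hs : g (IsLocalRing.closedPoint Ω) = g (IsLocalRing.closedPoint Ω) := rfl
  have key : ∀ {W : Over (Spec (CommRingCat.of k))} (w : W ⟶ G), Smooth W.hom →
      (∀ f : (Over.mk g : Over (Spec (CommRingCat.of k))) ⟶ W, f ≫ w = 1) → w = 1 := by
    intro W w hW h
    haveI := hW
    haveI : IsReduced W.left := Groth.Agent.GrpSchLib.isReduced_of_smooth_field W.hom
    refine Groth.Agent.GrpFieldLib.SolvBound.eq_one_of_range w fun t => ?_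
    refine Groth.Agent.GrpFieldLib.SolvBound.mem_vanishSet_of_rational g hs w ?_ t (Subsingleton.elim _ _)
    intro f
    let e : (Over.map g).obj (𝟙_ (Over (Spec (CommRingCat.of Ω)))) ≅ Over.mk g :=
      Over.isoMk (Iso.refl _) (by simp)
    rw [← e.hom_inv_id_assoc f, Category.assoc, h, MonObj.comp_one]
  refine ⟨⟨fun h => h _, fun h T => ?_⟩, ⟨fun h => h _, fun h T => ?_⟩⟩
  · rw [Groth.Agent.GrpFieldLib.SolvBound.derivedSeries_eq_bot_iff] at h ⊢
    intro f
    rw [key _ (Groth.Agent.GrpFieldLib.SolvBound.word_property G (P := @Smooth) inferInstance n).1 h,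
      MonObj.comp_one]
  · rw [Groth.Agent.GrpFieldLib.SolvBound.lowerCentralSeries_eq_bot_iff] at h ⊢
    intro f
    rw [key _ (Groth.Agent.GrpFieldLib.SolvBound.word_property G (P := @Smooth) inferInstance n).2 h,
      MonObj.comp_one]


end Groth.Agent.S5366
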