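import Groth.Statements.S11193
import Groth.Agent.GModLib.TranslatesFamily

set_option autoImplicit false
universe u
open CategoryTheory MonoidalCategory CartesianMonoidalCategory MonObj GrpObj AlgebraicGeometry
open scoped TensorProduct
open AGF

namespace Groth.Agent.S11193

open GrpSchLib.Kunneth GModLib

set_option backward.isDefEq.respectTransparency false
set_option backward.isDefEq.respectTransparency.types false

variable {k : Type u} [Field k]

/-- Functions on an open and closed subscheme extend by zero. -/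
theorem exists_extend {G H : Over (Spec (CommRingCat.of k))} [IsAffine G.left] (i : H ⟶ G)
    [IsClosedImmersion i.left] [IsOpenImmersion i.left] (s : Fn H) :
    ∃ f : Fn G, ev i f = s ∧
      ∀ x : VecGrp.pt k k ⟶ G, x.left (IsLocalRing.closedPoint k) ∉ Set.range i.left → pullFn x f = 0 := by
  obtain ⟨f₀, hf₀⟩ := i.left.app_surjective ⊤ (isAffineOpen_top _) s
  let Ui : G.left.Opens := i.left.opensRange
  let Wi : G.left.Opens := ⟨(Set.range i.left)ᶜ, i.left.isClosedEmbedding.isClosed_range.isOpen_compl⟩
  let U : Bool → G.left.Opens := fun b => if b then Ui else Wi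
  let sf : ∀ b, Γ(G.left, U b) := fun b =>
    if b then G.left.presheaf.map (homOfLE le_top).op f₀ else 0
  have hcov : (⊤ : G.left.Opens) ≤ iSup U := fun x _ => by
    rw [TopologicalSpace.Opens.mem_iSup]
    by_cases hx : x ∈ Set.range i.left
    · exact ⟨true, hx⟩
    · exact ⟨false, hx⟩
  have hdisj : Ui ⊓ Wi = ⊥ := TopologicalSpace.Opens.ext (Set.inter_compl_self _)
  haveI hsub : ∀ Z : G.left.Opens, Z ≤ Ui ⊓ Wi → Subsingleton Γ(G.left, Z) := fun Z hZ => by
    obtain rfl : Z = ⊥ := le_bot_iff.mp (hdisj ▸ hZ)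
    exact CommRingCat.subsingleton_of_isTerminal G.left.sheaf.isTerminalOfEmpty
  obtain ⟨f, hf, -⟩ := G.left.sheaf.existsUnique_gluing' U ⊤ (fun b => homOfLE le_top) hcov sf (fun b b' => by
    cases b <;> cases b'
    · rfl
    · exact (hsub _ (le_of_eq (inf_comm _ _))).elim _ _
    · exact (hsub _ le_rfl).elim _ _
    · rfl)
  refine ⟨f, ?_, fun x hx => ?_⟩
  · have hU : (⊤ : H.left.Opens) ≤ i.left ⁻¹ᵁ Ui := fun z _ => ⟨z, rfl⟩
    have key : ∀ g : Fn G, ev i g = i.left.appLE Ui ⊤ hU (G.left.presheaf.map (homOfLE le_top).op g) := fun g => by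
      rw [← CommRingCat.comp_apply, Scheme.Hom.map_appLE, ev_apply, Scheme.Hom.appTop, Scheme.Hom.app_eq_appLE]
      rfl
    exact ((key f).trans ((congrArg _ (hf true)).trans (key f₀).symm)).trans hf₀
  · have hb : ¬ x.left (IsLocalRing.closedPoint k) ∈ G.left.basicOpen f := by
      intro hmem
      have h1 : x.left (IsLocalRing.closedPoint k) ∈ G.left.basicOpen (G.left.presheaf.map (homOfLE le_top : Wi ⟶ ⊤).op f) := by
        rw [Scheme.basicOpen_res]
        exact ⟨hx, hmem⟩
      rw [show G.left.presheaf.map (homOfLE le_top : Wi ⟶ ⊤).op f = (0 : Γ(G.left, Wi)) from hf false,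
        Scheme.basicOpen_zero] at h1
      exact h1
    by_contra hne
    refine hb ?_
    show IsLocalRing.closedPoint k ∈ x.left ⁻¹ᵁ G.left.basicOpen f
    rw [Scheme.preimage_basicOpen, Scheme.basicOpen_of_isUnit]
    · trivial
    · have hu : IsUnit (pullFn x f) := isUnit_iff_ne_zero.mpr hne
      rw [pullFn_apply] at hu
      exact (MulEquiv.isUnit_map (Scheme.ΓSpecIso (CommRingCat.of k)).commRingCatIsoToRingEquiv).mp hu

/-- Copies of one matrix representation. -/
theorem exists_copies {G : Over (Spec (CommRingCat.of k))} [GrpObj G] {n : ℕ}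
    (N : Matrix (Fin n) (Fin n) (Fn G)) (hN : IsRepMatrix N) (d : ℕ) :
    ∃ (m : ℕ) (e : Fin n × Fin d ≃ Fin m) (M : Matrix (Fin m) (Fin m) (Fn G)), IsRepMatrix M ∧
      ∀ a l b l', M (e (a, l)) (e (b, l')) = if l = l' then N a b else 0 := by
  classical
  let e := Fintype.equivFin (Fin n × Fin d)
  refine ⟨_, e, Matrix.reindex e e (Matrix.blockDiagonal fun _ => N), ⟨fun T g h => ?_, fun T => ?_⟩, fun a l b l' => ?_⟩
  · simp only [Matrix.reindex_apply, ← Matrix.submatrix_map, Matrix.submatrix_mul_equiv,
      Matrix.blockDiagonal_map _ _ (map_zero (ev (g * h))), Matrix.blockDiagonal_map _ _ (map_zero (ev g)),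
      Matrix.blockDiagonal_map _ _ (map_zero (ev h)), ← Matrix.blockDiagonal_mul]
    congr 2
    funext _
    exact hN.mul T g h
  · simp only [Matrix.reindex_apply, ← Matrix.submatrix_map,
      Matrix.blockDiagonal_map _ _ (map_zero (ev (1 : T ⟶ G)))]
    rw [show (fun _ : Fin d => N.map (ev (1 : T ⟶ G))) = 1 from funext fun _ => hN.one T,
      Matrix.blockDiagonal_one, Matrix.submatrix_one_equiv]
  · simp [Matrix.blockDiagonal_apply]

/-- The action of a matrix module on a constant vector. -/
theorem endHom_const {G : Over (Spec (CommRingCat.of k))} [GrpObj G] {n : ℕ} {M : Matrix (Fin n) (Fin n) (Fn G)}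
    (hM : IsRepMatrix M) (v : Fin n → k) (B : Type u) [CommRing B] [Algebra k B] (g : VecGrp.pt k B ⟶ G) :
    hM.gmod.ρ B g ((1 : B) ⊗ₜ[k] v) = ∑ p, (∑ q, pullFn g (M p q) * algebraMap k B (v q)) • stdB k n B p := by
  show endHom hM B g ((1 : B) ⊗ₜ[k] v) = _
  have hv : (1 : B) ⊗ₜ[k] v = ∑ j, algebraMap k B (v j) • stdB k n B j := by
    conv_lhs => rw [← (Pi.basisFun k (Fin n)).sum_repr v]
    simp [TensorProduct.tmul_sum, Algebra.TensorProduct.basis_apply, TensorProduct.tmul_smul, algebraMap_smul]
  rw [hv, map_sum]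
  simp only [map_smul, endHom_basis, Finset.smul_sum, Finset.sum_smul]
  rw [Finset.sum_comm]
  refine Finset.sum_congr rfl fun i _ => Finset.sum_congr rfl fun j _ => ?_
  rw [smul_smul, _root_.mul_comm]

/-- Let k be an algebraically closed field, G a linear algebraic group over k (an affine smooth group
scheme over k) and H a closed subgroup of G (a smooth closed subgroup scheme, i : H → G), with H of
finite index in G (equivalently, H is also open in G). Then each finite-dimensional rational
H-module occurs as an H-submodule of some rational G-module of finite dimension. -/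
theorem result (k : Type u) [Field k] [IsAlgClosed k]
    (G : Over (Spec (CommRingCat.of k))) [GrpObj G] [IsAffine G.left] [Smooth G.hom]
    (H : Over (Spec (CommRingCat.of k))) [GrpObj H] [Smooth H.hom] (i : H ⟶ G) [IsMonHom i]
    [IsClosedImmersion i.left] [IsOpenImmersion i.left]
    (V : Type u) [AddCommGroup V] [Module k V] [Module.Finite k V] (σ : VecGrp.GMod H V) :
    σ.ExtendsAlong i := by
  classical
  haveI : IsAffineHom G.hom := inferInstance
  haveI : IsReduced G.left := GrpSchLib.isReduced_of_smooth_field G.hom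
  haveI : IsReduced H.left := GrpSchLib.isReduced_of_smooth_field H.hom
  let d := Module.finrank k V
  let bV := Module.finBasis k V
  let bB : ∀ (B : Type u) [CommRing B] [Algebra k B], Module.Basis (Fin d) B (B ⊗[k] V) := fun B _ _ =>
    Algebra.TensorProduct.basis B bV
  have hco : ∀ {B B' : Type u} [CommRing B] [Algebra k B] [CommRing B'] [Algebra k B'] (φ : B →ₐ[k] B') (l : Fin d)
      (x : B ⊗[k] V), φ ((bB B).coord l x) = (bB B').coord l (VecGrp.Wmap φ x) := by
    intro B B' _ _ _ _ φ l x
    induction x using TensorProduct.induction_on with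
    | zero => simp
    | tmul r y => simp [bB, Algebra.TensorProduct.basis_repr_tmul]
    | add x y hx hy => simp only [map_add, hx, hy]
  choose S hS using fun l j => exists_fn (G := H) (fun B _ _ h => (bB B).coord l (σ.ρ B h (bB B j)))
    (fun φ h => by
      rw [hco, σ.naturality]
      simp [bB, Algebra.TensorProduct.basis_apply])
  have hact : ∀ (B : Type u) [CommRing B] [Algebra k B] (h : VecGrp.pt k B ⟶ H) (j : Fin d),
      σ.ρ B h (bB B j) = ∑ m, pullFn h (S m j) • bB B m := fun B _ _ h j => by
    conv_lhs => rw [← (bB B).sum_repr (σ.ρ B h (bB B j))]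
    exact Finset.sum_congr rfl fun m _ => congrArg (· • bB B m) (hS m j B h)
  have hmul : ∀ (g h : VecGrp.pt k k ⟶ H) (l j), pullFn (g * h) (S l j) = ∑ m, pullFn g (S l m) * pullFn h (S m j) := by
    intro g h l j
    rw [← hS l j k (g * h), map_mul, LinearEquiv.mul_apply, hact k h j]
    simp only [map_sum, map_smul, smul_eq_mul]
    exact Finset.sum_congr rfl fun m _ => by rw [hS l m k g, _root_.mul_comm]
  have hone : ∀ l j, pullFn (1 : VecGrp.pt k k ⟶ H) (S l j) = if l = j then 1 else 0 := fun l j => by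
    rw [← hS l j k 1, map_one]
    show (bB k).coord l (bB k j) = _
    simp [Module.Basis.coord_apply, Finsupp.single_apply, eq_comm]
  choose F hF hF0 using fun p : Fin d × Fin d => exists_extend i (S p.1 p.2)
  have hrange : ∀ z : VecGrp.pt k k ⟶ H, (z ≫ i).left (IsLocalRing.closedPoint k) ∈ Set.range i.left :=
    fun z => ⟨_, rfl⟩
  have hfac : ∀ x : VecGrp.pt k k ⟶ G, x.left (IsLocalRing.closedPoint k) ∈ Set.range i.left →
      ∃ y : VecGrp.pt k k ⟶ H, y ≫ i = x := by
    intro x hx
    have hr : Set.range x.left ⊆ Set.range i.left := by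
      rintro _ ⟨p, rfl⟩
      rwa [Subsingleton.elim (α := PrimeSpectrum k) p (IsLocalRing.closedPoint k)]
    exact ⟨Over.homMk (IsOpenImmersion.lift i.left x.left hr) (by
      rw [← Over.w i, ← Category.assoc, IsOpenImmersion.lift_fac, Over.w x]),
      Over.OverMorphism.ext (IsOpenImmersion.lift_fac _ _ _)⟩
  have key : ∀ (x : VecGrp.pt k k ⟶ G) (h : VecGrp.pt k k ⟶ H) (l j),
      pullFn (x * (h ≫ i)) (F (l, j)) = ∑ m, pullFn x (F (l, m)) * pullFn h (S m j) := by
    intro x h l j
    by_cases hx : x.left (IsLocalRing.closedPoint k) ∈ Set.range i.left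
    · obtain ⟨y, rfl⟩ := hfac x hx
      rw [← MonObj.mul_comp, ← pullFn_ev, hF, hmul]
      exact Finset.sum_congr rfl fun m _ => by rw [← pullFn_ev, hF]
    · rw [hF0 _ _ fun hx' => hx ?_, Finset.sum_eq_zero fun m _ => by rw [hF0 _ x hx, MulZeroClass.zero_mul]]
      obtain ⟨z, hz⟩ := hfac _ hx'
      rw [← mul_inv_cancel_right x (h ≫ i), ← hz, ← GrpObj.inv_comp, ← MonObj.mul_comp]
      exact hrange _
  obtain ⟨n, N, w, c, hN, hw, hc, hE⟩ := exists_matrix_family (G := G) F
  have key2 : ∀ l j a, ∑ b, algebraMap k _ (c (l, j) b) * ev i (N a b) =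
      ∑ m, algebraMap k _ (c (l, m) a) * S m j := by
    intro l j a
    refine eq_of_forall_point fun h => ?_
    simp only [map_sum, map_mul, AlgHom.commutes, Algebra.algebraMap_self, RingHom.id_apply, pullFn_ev]
    have h0 : ∑ a, ((∑ b, c (l, j) b * pullFn (h ≫ i) (N a b)) - ∑ m, c (l, m) a * pullFn h (S m j)) • w a = 0 := by
      refine eq_of_forall_point fun x => ?_
      have e1 := key x h l j
      have e2 : ∀ b, pullFn (x * (h ≫ i)) (w b) = ∑ a, pullFn x (w a) * pullFn (h ≫ i) (N a b) := fun b => by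
        have := congrArg (fun z => (Scheme.ΓSpecIso (CommRingCat.of k)).hom z) (hE _ x (h ≫ i) b)
        simp only [map_sum, map_mul] at this
        exact this
      rw [← hc (l, j)] at e1
      simp only [map_sum, map_smul, e2, smul_eq_mul, ← hc (l, _)] at e1
      simp only [map_sum, map_smul, smul_eq_mul, map_zero, sub_mul, Finset.sum_sub_distrib, Finset.sum_mul,
        Finset.mul_sum, sub_eq_zero] at e1 ⊢
      rw [Finset.sum_comm] at e1
      refine Eq.trans (Eq.trans ?_ (e1.trans Finset.sum_comm)) ?_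
      · exact Finset.sum_congr rfl fun a _ => Finset.sum_congr rfl fun b _ => by ring
      · exact Finset.sum_congr rfl fun a _ => Finset.sum_congr rfl fun m _ => by ring
    exact sub_eq_zero.1 (Fintype.linearIndependent_iff.1 hw _ h0 a)
  obtain ⟨q, e, M, hM, hMe⟩ := exists_copies N hN d
  let φ : V →ₗ[k] (Fin q → k) := bV.constr k fun j p => c ((e.symm p).2, j) (e.symm p).1
  refine ⟨Fin q → k, inferInstance, inferInstance, inferInstance, hM.gmod, φ, ?_, fun B _ _ h x => ?_⟩
  · rw [injective_iff_map_eq_zero]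
    intro v hv
    refine bV.repr.injective (Finsupp.ext fun l => ?_)
    have hl : ∀ a, ∑ j, bV.repr v j * c (l, j) a = 0 := fun a => by
      have := congrFun hv (e (a, l))
      rw [show φ v = _ from bV.constr_apply_fintype k _ v] at this
      simpa using this
    have h1 : ∑ j, bV.repr v j • F (l, j) = 0 := by
      simp only [← hc, Finset.smul_sum, smul_smul]
      rw [Finset.sum_comm]
      refine Finset.sum_eq_zero fun a _ => ?_
      rw [← Finset.sum_smul, hl, zero_smul]
    have h2 := congrArg (pullFn (1 : VecGrp.pt k k ⟶ G)) h1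
    rw [← MonObj.one_comp i] at h2
    simp only [map_sum, map_smul, map_zero, ← pullFn_ev, hF, hone, smul_eq_mul, mul_ite, _root_.mul_one,
      MulZeroClass.mul_zero, Finset.sum_ite_eq, Finset.mem_univ, if_true] at h2
    simpa using h2
  · suffices hb : φ.baseChange B ∘ₗ (σ.ρ B h).toLinearMap =
        (hM.gmod.ρ B (h ≫ i)).toLinearMap ∘ₗ φ.baseChange B from congr($hb x)
    refine (bB B).ext fun j => ?_
    have hφ : ∀ m, φ.baseChange B (bB B m) =
        ∑ p, algebraMap k B (c ((e.symm p).2, m) (e.symm p).1) • stdB k q B p := fun m => by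
      rw [show bB B m = (1 : B) ⊗ₜ[k] bV m from Algebra.TensorProduct.basis_apply _ _, LinearMap.baseChange_tmul,
        show φ (bV m) = _ from bV.constr_basis k _ m]
      conv_lhs => rw [← (Pi.basisFun k (Fin q)).sum_repr (fun p => c ((e.symm p).2, m) (e.symm p).1)]
      simp [TensorProduct.tmul_sum, Algebra.TensorProduct.basis_apply, TensorProduct.tmul_smul, algebraMap_smul]
    show φ.baseChange B (σ.ρ B h (bB B j)) = hM.gmod.ρ B (h ≫ i) (φ.baseChange B (bB B j))
    rw [show φ.baseChange B (bB B j) = (1 : B) ⊗ₜ[k] φ (bV j) by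
      rw [show bB B j = (1 : B) ⊗ₜ[k] bV j from Algebra.TensorProduct.basis_apply _ _, LinearMap.baseChange_tmul],
      endHom_const, hact, map_sum]
    simp only [map_smul, hφ, Finset.smul_sum, smul_smul]
    rw [Finset.sum_comm]
    refine Finset.sum_congr rfl fun p _ => ?_
    rw [← Finset.sum_smul]
    congr 1
    obtain ⟨⟨a, l⟩, rfl⟩ := e.surjective p
    rw [← e.sum_comp, Fintype.sum_prod_type]
    simp only [show φ (bV j) = _ from bV.constr_basis k _ j, Equiv.symm_apply_apply, hMe, apply_ite (pullFn (h ≫ i)),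
      map_zero, ite_mul, MulZeroClass.zero_mul, Finset.sum_ite_eq, Finset.mem_univ, if_true]
    have k2 := congrArg (pullFn h) (key2 l j a)
    simp only [map_sum, map_mul, AlgHom.commutes, pullFn_ev] at k2
    refine Eq.trans (Finset.sum_congr rfl fun m _ => _root_.mul_comm _ _) (k2.symm.trans ?_)
    exact Finset.sum_congr rfl fun b _ => _root_.mul_comm _ _

end Groth.Agent.S11193
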