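import Groth.Statements.S2209
import Groth.Agent.DvrModel.Connected

set_option autoImplicit false
set_option backward.isDefEq.respectTransparency false
set_option backward.isDefEq.respectTransparency.types false
set_option maxHeartbeats 1000000
set_option linter.style.haveILetI false
universe u
open CategoryTheory AlgebraicGeometry
open Models

namespace Groth.Agent.S2209

/-- Let R be a discrete valuation ring with fraction field K, C a smooth proper curve over K whose ring
of global functions is K (the map K -> H^0(C, O_C) is an isomorphism), and X a regular proper model
of C over R. Then the special fibre of X is connected. -/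
theorem result (R : Type u) [CommRing R] [IsDomain R]
    [IsDiscreteValuationRing R] (C X : Scheme.{u})
    (f : C ⟶ Spec (CommRingCat.of (FractionRing R))) (p : X ⟶ Spec (CommRingCat.of R))
    (hC : Curve.IsSmoothProperCurve (FractionRing R) C f) (hH0 : IsIso f.appTop)
    (hX : Models.IsRegularProperModel R X p C f) :
    ConnectedSpace ↥(Models.specialFibre R X p) := by
  obtain ⟨⟨hflat, -, -, g, hg⟩, hproper, hreg⟩ := hX
  haveI := hflat; haveI := hproper
  haveI := DvrModel.geometricallyConnected_of_model f p hreg g hg
    (ConcreteCategory.bijective_of_isIso f.appTop)
  exact GeometricallyConnected.geometrically_connectedSpace (f := p)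
    (Spec.map (CommRingCat.ofHom (algebraMap R (IsLocalRing.ResidueField R)))) _ _
    (IsPullback.of_hasPullback p _)

end Groth.Agent.S2209
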