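import Groth.Statements.S10882
import Groth.Agent.S2082
import Groth.Agent.DimFormula.Fibre
import Groth.Agent.FibFlat.Stalk
import Groth.Agent.VarDim.IrredFibres


set_option autoImplicit false
set_option linter.style.haveILetI false
attribute [-instance] CategoryTheory.catToReflQuiver
universe u
open CategoryTheory AlgebraicGeometry
open FlatMor

namespace Groth.Agent.S10882

open Groth.Agent

/-- On a scheme of finite type over a field all of whose components have dimension `e`, the residue
degree and the dimension of the local ring at every point add up to `e`. -/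
theorem deg_add_dim (k : Type u) [Field k] {X : Scheme.{u}} (p : X ⟶ Spec (CommRingCat.of k)) [LocallyOfFiniteType p]
    (e : ℕ) (h : ∀ Z ∈ irreducibleComponents (X : Type u), topologicalKrullDim Z = e) (x : X) :
    ∃ b : ℕ, ringKrullDim (X.presheaf.stalk x) = b ∧ VarDim.deg p x + b = e := by
  obtain ⟨b, hb, ⟨η, hηx, hη⟩, hmax⟩ := VarDim.exists_deg_add_stalk p x
  refine ⟨b, hb, ?_⟩
  have hηmax : ∀ y, y ⤳ η → y = η := fun y hy =>
    VarDim.eq_of_specializes_of_deg_le p hy (hη ▸ hmax y (hy.trans hηx))
  have h1 := h _ (VarDim.closure_mem_irreducibleComponents hηmax)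
  rw [VarDim.topologicalKrullDim_closure_singleton p η, hη] at h1
  exact_mod_cast h1


/-- Let X and Y be schemes locally of finite type over a field k and f : X → Y a k-morphism, with Y
regular (all local rings regular), X Cohen–Macaulay (all local rings Cohen–Macaulay), X
equidimensional of dimension e, Y equidimensional of dimension d ≤ e, and all fibres of f
equidimensional of dimension e − d (every irreducible component of every fibre has dimension e − d).
Then f is flat. -/
theorem result (k : Type u) [Field k] {X Y : Scheme.{u}}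
    (q : Y ⟶ Spec (CommRingCat.of k)) [LocallyOfFiniteType q] (f : X ⟶ Y) [LocallyOfFiniteType (f ≫ q)]
    (hY : ∀ y : Y, IsRegularLocalRing (Y.presheaf.stalk y))
    (hX : ∀ x : X, LocCoh.IsCohenMacaulayLocalRing (X.presheaf.stalk x))
    (e d : ℕ) (hde : d ≤ e)
    (hXe : ∀ Z ∈ irreducibleComponents (X : Type u), topologicalKrullDim Z = e)
    (hYd : ∀ Z ∈ irreducibleComponents (Y : Type u), topologicalKrullDim Z = d)
    (hfib : ∀ y : Y, ∀ Z ∈ irreducibleComponents (f.base ⁻¹' {y}), topologicalKrullDim Z = (e - d : ℕ)) :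
    Flat f := by
  haveI : LocallyOfFiniteType f := locallyOfFiniteType_of_comp f q
  haveI : IsLocallyNoetherian Y := LocallyOfFiniteType.isLocallyNoetherian q
  refine Flat.of_stalkMap _ fun x => ?_
  haveI := hY (f x)
  haveI := hX x
  algebraize [(f.stalkMap x).hom]
  haveI : IsLocalHom (algebraMap (Y.presheaf.stalk (f x)) (X.presheaf.stalk x)) :=
    inferInstanceAs <| IsLocalHom (f.stalkMap x).hom
  refine S2082.result ?_
  obtain ⟨bx, hbx, hx⟩ := deg_add_dim k (f ≫ q) e hXe x
  obtain ⟨bY, hbY, hy⟩ := deg_add_dim k q d hYd (f x)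
  obtain ⟨bz, hbz, hz⟩ := deg_add_dim (Y.residueField (f x)) (f.fiberToSpecResidueField (f x)) (e - d) (fun C hC => by
    let h := f.fiberHomeo (f x)
    have hne : (C ∩ Set.range h.symm).Nonempty := by
      rw [h.symm.surjective.range_eq, Set.inter_univ]; exact hC.1.1
    have h1 := hfib (f x) _ (preimage_mem_irreducibleComponents hC h.symm.isOpenEmbedding hne)
    rw [← h1]
    exact IsHomeomorph.topologicalKrullDim_eq _
      (h.symm.sets (s := h.symm ⁻¹' C) (t := C) rfl).symm.isHomeomorph) (f.asFiber x)
  have hdeg : VarDim.deg (f ≫ q) x = VarDim.deg q (f x) + VarDim.deg (k := Y.residueField (f x)) (f.fiberToSpecResidueField (f x)) (f.asFiber x) := by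
    rw [VarDim.deg_comp_eq, VarDim.deg_fiber]
    simp only [Scheme.Hom.fiberι_asFiber]
  have hF := DimFormula.ringKrullDim_stalk_fibre f x
  have hquot : ringKrullDim (X.presheaf.stalk x ⧸ (IsLocalRing.maximalIdeal (Y.presheaf.stalk (f x))).map
      (algebraMap (Y.presheaf.stalk (f x)) (X.presheaf.stalk x))) = (bz : WithBot ℕ∞) := by
    rw [← hbz]
    have hs := FibFlat.ker_sm_fiberι f (f x) (f.asFiber x) x (f.fiberι_asFiber x)
    rw [FibFlat.sm_self f x] at hs
    exact ringKrullDim_eq_of_ringEquiv ((Ideal.quotEquivOfEq hs.symm).trans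
      (RingHom.quotientKerEquivOfSurjective (FibFlat.surjective_sm (f := f.fiberι (f x)) (f.asFiber x) x (f.fiberι_asFiber x))))
  rw [hbx, hbY, hquot]
  have : bx = bY + bz := by omega
  exact_mod_cast congrArg (fun n : ℕ => (n : WithBot ℕ∞)) this

end Groth.Agent.S10882
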