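import Groth.Statements.S0356
import Groth.Agent.H1LCZ.AffineIso
import Groth.Agent.SiteBase.OpenRestr
import Groth.Agent.S6031

set_option autoImplicit false
universe u v
open CategoryTheory AlgebraicGeometry
open LocCoh

namespace Groth.Agent.S0356

/-- Let R be a Noetherian ring, I an ideal, M an R-module and U = Spec R ∖ V(I) the punctured open. For
every p ≥ 1, the cohomology group H^p(U, M̃|_U) of the restriction to U of the quasi-coherent sheaf
associated with M is isomorphic to the local cohomology H^(p+1)_I(M). (The published statement also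
gives a four-term exact sequence in low degrees, which is not stated here; here R is Noetherian.) -/
theorem result (R : Type u) [CommRing R] [IsNoetherianRing R] (I : Ideal R) (M : Type u) [AddCommGroup M] [Module R M] (p : ℕ) (hp : 1 ≤ p) : Nonempty (Coh.HH (↑(LocCoh.puncturedOpen R I)) ((AlgebraicGeometry.tilde (R := CommRingCat.of R) (ModuleCat.of R M)).restrict (LocCoh.puncturedOpen R I).ι) p ≃+ LocCoh.H I (p + 1) M) := by
  let U := LocCoh.puncturedOpen R I
  let N : ModuleCat.{u} (CommRingCat.of R) := ModuleCat.of R M
  haveI : IsNoetherianRing (CommRingCat.of R) := inferInstanceAs (IsNoetherianRing R)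
  have hd := (Groth.Agent.S6031.result (Spec (CommRingCat.of R)) (tilde N) (inferInstance : Coh.IsQCoh (tilde N)) U).2 p hp
  obtain ⟨e₁⟩ := Groth.Agent.SiteBase.nonempty_HU_addEquiv_H_restr (X := (Spec (CommRingCat.of R)).carrier) U
    (Coh.toAb (tilde N)) p
  obtain ⟨e₃⟩ := Groth.Agent.H1LCZ.nonempty_HT_addEquiv (R := CommRingCat.of R) I U rfl (p + 1) N
  exact ⟨e₁.symm.trans ((AddEquiv.ofBijective _ hd).trans e₃)⟩

end Groth.Agent.S0356
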