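import Groth.Statements.S15900
import Groth.Agent.QCoh.Localize
import Groth.Agent.QCoh.Sections
import Groth.Prelude.Def_FlatMod2

set_option autoImplicit false
set_option linter.style.haveILetI false
set_option backward.isDefEq.respectTransparency false
set_option backward.isDefEq.respectTransparency.types false
universe u
open CategoryTheory AlgebraicGeometry Opposite
open KoszSh

namespace Groth.Agent.S15900

section

open Groth.Agent.QCoh TopologicalSpace Opposite

variable {X : Scheme.{u}} {M P : X.Modules}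

/-- A morphism on sections over an open, as a linear map. -/
noncomputable def appLin (φ : M ⟶ P) (U : X.Opens) : Γ(M, U) →ₗ[Γ(X, U)] Γ(P, U) where
  toFun z := φ.app U z
  map_add' := map_add _
  map_smul' r z := Scheme.Modules.Hom.app_smul _ r z

/-- Linear maps out of a module of sections presented as an exterior power. -/
lemma eq_of_eqOn_gen {R N Q : Type u} [CommRing R] [AddCommGroup N] [Module R N] [AddCommGroup Q] [Module R Q]
    {W : Type u} [AddCommGroup W] [Module R W] {p : ℕ} (ε : W ≃ₗ[R] ↥(⋀[R]^p N)) (a b : W →ₗ[R] Q)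
    (h : ∀ e, a (ε.symm (exteriorPower.ιMulti R p e)) = b (ε.symm (exteriorPower.ιMulti R p e))) (x : W) :
    a x = b x := by
  have : a.comp ε.symm.toLinearMap = b.comp ε.symm.toLinearMap := by
    refine exteriorPower.linearMap_ext ?_
    ext e
    exact h e
  have := LinearMap.congr_fun this (ε x)
  simpa using this

/-- Morphisms agreeing on affine opens are equal. -/
lemma hom_ext_affineOpens {φ ψ : M ⟶ P} (h : ∀ (U : X.affineOpens) x, φ.app U.1 x = ψ.app U.1 x) : φ = ψ := by
  refine Scheme.Modules.hom_ext _ _ fun U => ?_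
  ext x
  refine sub_eq_zero.1 (eq_zero_of_locally U _ fun p hp => ?_)
  obtain ⟨_, ⟨V, hV, rfl⟩, hpV, hle⟩ :=
    X.isBasis_affineOpens.exists_subset_of_mem_open (show p ∈ U from hp) U.2
  refine ⟨V, homOfLE hle, hpV, ?_⟩
  rw [map_sub, ← map_app_comm, ← map_app_comm]
  exact sub_eq_zero.2 (h ⟨V, hV⟩ _)

/-- A morphism from compatible linear maps on affine opens. -/
lemma exists_hom_affine (l : ∀ U : X.affineOpens, Γ(M, U.1) →ₗ[Γ(X, U.1)] Γ(P, U.1))
    (hl : ∀ (U V : X.affineOpens) (h : V.1 ≤ U.1) (x : Γ(M, U.1)),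
      l V (M.presheaf.map (homOfLE h).op x) = P.presheaf.map (homOfLE h).op (l U x)) :
    ∃ u : M ⟶ P, ∀ (U : X.affineOpens) x, u.app U.1 x = l U x := by
  let ι : X.affineOpens → X.Opens := Subtype.val
  have hι : Opens.IsBasis (Set.range ι) := by
    have : Set.range ι = X.affineOpens := Subtype.range_val
    rw [this]; exact X.isBasis_affineOpens
  let α : (inducedFunctor ι).op ⋙ M.presheaf ⟶ (inducedFunctor ι).op ⋙ P.presheaf :=
    { app := fun W => AddCommGrpCat.ofHom (l W.unop).toAddMonoidHom
      naturality := fun W W' i => AddCommGrpCat.ext fun s => hl W.unop W'.unop i.unop.hom.le s }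
  let θ : M.presheaf ⟶ P.presheaf :=
    TopCat.Sheaf.restrictHomEquivHom M.presheaf (⟨P.presheaf, P.isSheaf⟩ : TopCat.Sheaf Ab X) hι α
  have hθ : ∀ (W : X.affineOpens) (s : Γ(M, W.1)), θ.app (op W.1) s = l W s := fun W s =>
    congrArg (fun q => q s) (TopCat.Sheaf.extend_hom_app M.presheaf
      (⟨P.presheaf, P.isSheaf⟩ : TopCat.Sheaf Ab X) hι α W)
  have hlin : ∀ (U : X.Opens) (r : Γ(X, U)) (s : Γ(M, U)),
      θ.app (op U) (r • s) = r • θ.app (op U) s := by
    intro U r s
    rw [← sub_eq_zero]
    refine eq_zero_of_locally U _ fun p hp => ?_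
    obtain ⟨_, ⟨V, hV, rfl⟩, hpV, hle₀⟩ :=
      X.isBasis_affineOpens.exists_subset_of_mem_open (show p ∈ U from hp) U.2
    have hle : V ≤ U := hle₀
    refine ⟨V, homOfLE hle, hpV, ?_⟩
    have n1 : ∀ z : Γ(M, U), θ.app (op V) (M.presheaf.map (homOfLE hle).op z) =
        P.presheaf.map (homOfLE hle).op (θ.app (op U) z) := fun z =>
      congrArg (fun q => q z) (θ.naturality (homOfLE hle).op)
    rw [map_sub, map_smul', ← n1, ← n1, map_smul', hθ ⟨V, hV⟩, hθ ⟨V, hV⟩, map_smul, sub_self]
  exact ⟨⟨PresheafOfModules.homMk θ fun U r s => hlin U.unop r s⟩, fun U x => hθ U x⟩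

variable {E F : X.Modules} {s : E ⟶ Coh.structureModule X} {t : F ⟶ Coh.structureModule X}

/-- The exterior powers of a morphism commute with restriction. -/
lemma natural_loc (f : E ⟶ F) (C : KoszSh.Cx E s) (D : KoszSh.Cx F t) (p : ℕ) (U V : X.affineOpens)
    (h : V.1 ≤ U.1) (x : Γ(C.K.X p, U.1)) :
    ((D.loc p V).symm.toLinearMap.comp (exteriorPower.map p (appLin f V.1))).comp (C.loc p V).toLinearMap
        ((C.K.X p).presheaf.map (homOfLE h).op x) =
      (D.K.X p).presheaf.map (homOfLE h).op
        (((D.loc p U).symm.toLinearMap.comp (exteriorPower.map p (appLin f U.1))).comp (C.loc p U).toLinearMap x) := by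
  letI : Module Γ(X, U.1) Γ(D.K.X p, V.1) := Module.compHom _ (X.presheaf.map (homOfLE h).op).hom
  let lV := ((D.loc p V).symm.toLinearMap.comp (exteriorPower.map p (appLin f V.1))).comp (C.loc p V).toLinearMap
  let lU := ((D.loc p U).symm.toLinearMap.comp (exteriorPower.map p (appLin f U.1))).comp (C.loc p U).toLinearMap
  let a : Γ(C.K.X p, U.1) →ₗ[Γ(X, U.1)] Γ(D.K.X p, V.1) :=
    { toFun := fun z => lV ((C.K.X p).presheaf.map (homOfLE h).op z)
      map_add' := fun z w => by rw [map_add, map_add]
      map_smul' := fun r z => by rw [map_smul', map_smul]; rfl }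
  let b : Γ(C.K.X p, U.1) →ₗ[Γ(X, U.1)] Γ(D.K.X p, V.1) :=
    { toFun := fun z => (D.K.X p).presheaf.map (homOfLE h).op (lU z)
      map_add' := fun z w => by rw [map_add, map_add]
      map_smul' := fun r z => by rw [map_smul, map_smul']; rfl }
  refine eq_of_eqOn_gen (C.loc p U) a b (fun e => ?_) x
  show lV ((C.K.X p).presheaf.map (homOfLE h).op ((C.loc p U).symm _)) =
    (D.K.X p).presheaf.map (homOfLE h).op (lU ((C.loc p U).symm _))
  simp only [lU, lV, LinearMap.comp_apply, LinearEquiv.coe_coe, LinearEquiv.apply_symm_apply,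
    exteriorPower.map_apply_ιMulti]
  have e₁ := C.loc_res p U V h e
  have e₂ := D.loc_res p U V h (⇑(appLin f U.1) ∘ e)
  change (C.K.X p).presheaf.map (homOfLE h).op _ = _ at e₁
  change (D.K.X p).presheaf.map (homOfLE h).op _ = _ at e₂
  rw [e₁, e₂, LinearEquiv.apply_symm_apply, exteriorPower.map_apply_ιMulti]
  congr 2
  funext j
  exact map_app_comm f (homOfLE h) (e j)

end

/-- Let X be a scheme, E and F finite locally free O_X-modules with cosections s : E → O_X and t : F →
O_X, and let f : E → F be a morphism of O_X-modules with t ∘ f = s. Then for every Koszul complex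
K(E, s) of s and every Koszul complex K(F, t) of t there is a unique morphism of chain complexes of
O_X-modules K(E, s) → K(F, t) whose degree-p component sends, on sections over every affine open U,
the decomposable section e_1 ∧ … ∧ e_p to f(e_1) ∧ … ∧ f(e_p), for all e_1, …, e_p in E(U) and all p
≥ 0 (the p-th exterior power of f, read through the affine-local identifications of the terms with
exterior powers of sections). (The published statement is for arbitrary O_X-modules with a map to
O_X; this row takes E and F locally free of finite rank, the case the surrounding text works in.) -/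
theorem result {X : Scheme.{u}} (E F : X.Modules)
    (hE : FlatMod.IsFinLocFree E) (hF : FlatMod.IsFinLocFree F)
    (s : E ⟶ Coh.structureModule X) (t : F ⟶ Coh.structureModule X) (f : E ⟶ F) (hf : f ≫ t = s)
    (C : KoszSh.Cx E s) (D : KoszSh.Cx F t) :
    ∃! φ : C.K ⟶ D.K, ∀ (p : ℕ) (U : X.affineOpens) (e : Fin p → Γ(E, U.1)),
      (φ.f p).app U.1 ((C.loc p U).symm (exteriorPower.ιMulti _ p e)) =
        (D.loc p U).symm (exteriorPower.ιMulti _ p (fun j => f.app U.1 (e j))) := by
  have hform : ∀ (U : X.Opens) (e : Γ(E, U)), KoszSh.secForm t U (f.app U e) = KoszSh.secForm s U e := by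
    intro U e
    rw [← hf]; rfl
  choose φ₀ hφ₀ using fun p => exists_hom_affine (M := C.K.X p) (P := D.K.X p)
    (fun U => ((D.loc p U).symm.toLinearMap.comp
      (exteriorPower.map p (appLin f U.1))).comp (C.loc p U).toLinearMap)
    (fun U V h x => natural_loc f C D p U V h x)
  have key : ∀ (p : ℕ) (U : X.affineOpens) (e : Fin p → Γ(E, U.1)),
      (φ₀ p).app U.1 ((C.loc p U).symm (exteriorPower.ιMulti _ p e)) =
        (D.loc p U).symm (exteriorPower.ιMulti _ p (fun j => f.app U.1 (e j))) := by
    intro p U e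
    rw [hφ₀]
    show (D.loc p U).symm (exteriorPower.map p (appLin f U.1) (C.loc p U ((C.loc p U).symm _))) = _
    rw [LinearEquiv.apply_symm_apply, exteriorPower.map_apply_ιMulti]
    rfl
  refine ⟨{ f := φ₀, comm' := fun i j hij => ?_ }, key, fun ψ hψ => ?_⟩
  · obtain rfl : i = j + 1 := by simpa using hij.symm
    refine hom_ext_affineOpens fun U x => ?_
    show (D.K.d (j + 1) j).app U.1 ((φ₀ (j + 1)).app U.1 x) = (φ₀ j).app U.1 ((C.K.d (j + 1) j).app U.1 x)
    refine eq_of_eqOn_gen (C.loc (j + 1) U) (appLin (φ₀ (j + 1) ≫ D.K.d (j + 1) j) U.1)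
      (appLin (C.K.d (j + 1) j ≫ φ₀ j) U.1) (fun e => ?_) x
    show (D.K.d (j + 1) j).app U.1 ((φ₀ (j + 1)).app U.1 ((C.loc (j + 1) U).symm _)) =
      (φ₀ j).app U.1 ((C.K.d (j + 1) j).app U.1 ((C.loc (j + 1) U).symm _))
    rw [key, D.rule, C.rule]
    show (D.loc j U).symm _ = appLin (φ₀ j) U.1 _
    simp only [KoszSh.dGen, map_sum, map_smul]
    refine Finset.sum_congr rfl fun i _ => ?_
    rw [hform]
    exact congrArg (fun z => ((-1 : Γ(X, U.1)) ^ (i : ℕ) * KoszSh.secForm s U.1 (e i)) • z) (key j U _).symm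
  · refine HomologicalComplex.hom_ext _ _ fun p => hom_ext_affineOpens fun U x => ?_
    refine eq_of_eqOn_gen (C.loc p U) (appLin (ψ.f p) U.1) (appLin (φ₀ p) U.1) (fun e => ?_) x
    exact (hψ p U e).trans (key p U e).symm

end Groth.Agent.S15900
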