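import Groth.Statements.S15899
import Mathlib
import Groth.Agent.H1KoszExt.Basic
import Groth.Agent.RelTildeX.SheafCrit
import Groth.Agent.FittX.Sheaf

set_option autoImplicit false
set_option linter.style.haveILetI false
set_option backward.isDefEq.respectTransparency false
set_option backward.isDefEq.respectTransparency.types false
universe u
open CategoryTheory AlgebraicGeometry Opposite
open KoszSh

namespace Groth.Agent.S15899

section

open Groth.Agent.QCoh

/-- A basis over an affine open restricts to a basis over a basic open. -/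
lemma exists_basis_basicOpen {X : Scheme.{u}} {E : X.Modules} (s : E ⟶ Coh.structureModule X)
    (hE : Coh.IsQCoh E) (U : X.affineOpens) {n : ℕ} (f : Γ(X, U.1))
    (b : Module.Basis (Fin n) Γ(X, U.1) Γ(E, U.1)) :
    ∃ b' : Module.Basis (Fin n) Γ(X, X.basicOpen f) Γ(E, X.basicOpen f),
      ∀ k, KoszSh.secForm s (X.basicOpen f) (b' k) =
        X.presheaf.map (homOfLE (X.basicOpen_le f)).op (KoszSh.secForm s U.1 (b k)) := by
  letI := basicModule f E
  haveI : IsScalarTower Γ(X, U.1) Γ(X, X.basicOpen f) Γ(E, X.basicOpen f) :=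
    IsScalarTower.of_algebraMap_smul fun _ _ => rfl
  have hbc := Groth.Agent.FittX.isBaseChange_basicRes hE U.2 f
  refine ⟨(b.baseChange Γ(X, X.basicOpen f)).map hbc.equiv, fun k => ?_⟩
  rw [Module.Basis.map_apply, Module.Basis.baseChange_apply, IsBaseChange.equiv_tmul, one_smul]
  show OmegaSh.fnSect X _ (s.app (X.basicOpen f) (E.presheaf.map (homOfLE (X.basicOpen_le f)).op (b k))) = _
  rw [map_app_comm]
  rfl

/-- The differential of a Koszul complex is the contraction. -/
lemma d_loc {X : Scheme.{u}} {E : X.Modules} {s : E ⟶ Coh.structureModule X} (C : KoszSh.Cx E s)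
    (q : ℕ) (V : X.affineOpens) (y : Γ(C.K.X (q + 1), V.1)) :
    H1KoszExt.d (KoszSh.secForm s V.1) (C.loc (q + 1) V y).1 =
      (C.loc q V ((C.K.d (q + 1) q).app V.1 y)).1 := by
  let D : Γ(C.K.X (q + 1), V.1) →ₗ[Γ(X, V.1)] Γ(C.K.X q, V.1) :=
    { toFun := fun z => (C.K.d (q + 1) q).app V.1 z
      map_add' := map_add _
      map_smul' := fun r z => Scheme.Modules.Hom.app_smul _ r z }
  let L : ↥(⋀[Γ(X, V.1)]^(q + 1) Γ(E, V.1)) →ₗ[Γ(X, V.1)] ExteriorAlgebra Γ(X, V.1) Γ(E, V.1) :=
    (H1KoszExt.d (KoszSh.secForm s V.1)).comp (⋀[Γ(X, V.1)]^(q + 1) Γ(E, V.1)).subtype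
  let R : ↥(⋀[Γ(X, V.1)]^(q + 1) Γ(E, V.1)) →ₗ[Γ(X, V.1)] ExteriorAlgebra Γ(X, V.1) Γ(E, V.1) :=
    (⋀[Γ(X, V.1)]^q Γ(E, V.1)).subtype.comp
      ((C.loc q V).toLinearMap.comp (D.comp (C.loc (q + 1) V).symm.toLinearMap))
  have h : L = R := by
    refine exteriorPower.linearMap_ext ?_
    ext e
    show H1KoszExt.d _ (ExteriorAlgebra.ιMulti Γ(X, V.1) (q + 1) e) = _
    rw [H1KoszExt.d_ιMulti]
    show _ = (C.loc q V ((C.K.d (q + 1) q).app V.1
      ((C.loc (q + 1) V).symm (exteriorPower.ιMulti _ (q + 1) e)))).1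
    rw [C.rule, LinearEquiv.apply_symm_apply]
  have := LinearMap.congr_fun h (C.loc (q + 1) V y)
  show L (C.loc (q + 1) V y) = _
  rw [this]
  show (C.loc q V ((C.K.d (q + 1) q).app V.1 ((C.loc (q + 1) V).symm (C.loc (q + 1) V y)))).1 = _
  rw [LinearEquiv.symm_apply_apply]

end

/-- Let X be a scheme, E a finite locally free O_X-module of rank n and s : E → O_X a regular section,
meaning that around every point of X there is an affine open U and a basis e_1, …, e_n of E(U) over
Γ(X, U) such that s(e_1), …, s(e_n) is a weakly regular sequence in Γ(X, U) (each a non-zero-divisor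
modulo the previous ones). Then for every Koszul complex K(E, s) of the cosection s (terms the
exterior powers of E, differential contracting with s) and every q ≥ 1, the q-th homology sheaf of
K(E, s) vanishes. Since the homology sheaf in degree 0 is O_X / s(E) for every such complex, this
says that K(E, s) resolves the structure sheaf of the zero scheme of s by finite locally free
modules. (The published definition asks that the image ideal of s be locally generated by a regular
sequence and by rank-many sections; the local bases mapping to regular sequences used here are how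
the published argument reads that condition.) -/
theorem result {X : Scheme.{u}} (n : ℕ) (E : X.Modules)
    (hE : FlatMod.IsFinLocFreeOfRank n E) (s : E ⟶ Coh.structureModule X)
    (hs : ∀ x : X, ∃ U : X.affineOpens, x ∈ U.1 ∧
      ∃ b : Module.Basis (Fin n) Γ(X, U.1) Γ(E, U.1),
        RingTheory.Sequence.IsWeaklyRegular Γ(X, U.1) (List.ofFn fun k => KoszSh.secForm s U.1 (b k)))
    (C : KoszSh.Cx E s) (q : ℕ) (hq : 1 ≤ q) :
    Limits.IsZero (C.K.homology q) := by
  obtain ⟨p, rfl⟩ : ∃ p, q = p + 1 := ⟨q - 1, by omega⟩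
  refine (C.K.exactAt_iff_isZero_homology (p + 1)).1 ?_
  rw [HomologicalComplex.exactAt_iff' C.K (p + 2) (p + 1) p (by simp) (by simp)]
  refine Groth.Agent.RelTildeX.exact_of_locally _ fun U t ht x hxU => ?_
  obtain ⟨U₁, hxU₁, b, hb⟩ := hs x
  obtain ⟨f, hfle, hxf⟩ := U₁.2.exists_basicOpen_le (V := U ⊓ U₁.1) ⟨x, ⟨hxU, hxU₁⟩⟩ hxU₁
  have hV : IsAffineOpen (X.basicOpen f) := U₁.2.basicOpen f
  let V : X.affineOpens := ⟨X.basicOpen f, hV⟩
  have i : (V.1 : X.Opens) ≤ U := hfle.trans inf_le_left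
  obtain ⟨b', hb'⟩ := exists_basis_basicOpen s (Groth.Agent.QCoh.isQCoh_of_isFinLocFree
    (fun y => let ⟨W, hW, e⟩ := hE y; ⟨W, n, hW, e⟩)) U₁ f b
  have hreg : RingTheory.Sequence.IsWeaklyRegular Γ(X, V.1)
      (List.ofFn fun k => KoszSh.secForm s V.1 (b' k)) := by
    letI : Algebra Γ(X, U₁.1) Γ(X, V.1) := (X.presheaf.map (homOfLE (X.basicOpen_le f)).op).hom.toAlgebra
    haveI := U₁.2.isLocalization_basicOpen f
    haveI : Module.Flat Γ(X, U₁.1) Γ(X, V.1) := IsLocalization.flat _ (Submonoid.powers f)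
    have h := hb.of_flat (S := Γ(X, V.1))
    rw [List.map_ofFn] at h
    convert h using 2
    funext k
    exact hb' k
  let t' : Γ(C.K.X (p + 1), V.1) := (C.K.X (p + 1)).presheaf.map (homOfLE i).op t
  have ht' : (C.K.d (p + 1) p).app V.1 t' = 0 := by
    have h0 : (C.K.d (p + 1) p).app U t = 0 := ht
    show (C.K.d (p + 1) p).app V.1 ((C.K.X (p + 1)).presheaf.map (homOfLE i).op t) = 0
    rw [Groth.Agent.QCoh.map_app_comm, h0, map_zero]
  have key : ∀ (q : ℕ) (y : Γ(C.K.X (q + 1), V.1)),
      Groth.Agent.H1KoszExt.d (KoszSh.secForm s V.1) (C.loc (q + 1) V y).1 =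
        (C.loc q V ((C.K.d (q + 1) q).app V.1 y)).1 := fun q y => d_loc C q V y
  obtain ⟨η, hη, hηd⟩ := Groth.Agent.H1KoszExt.exact_exteriorPower b' (KoszSh.secForm s V.1) hreg p
    (C.loc (p + 1) V t').1 (C.loc (p + 1) V t').2 (by
      rw [key p t', ht', map_zero]; rfl)
  refine ⟨V.1, i, hxf, (C.loc (p + 2) V).symm ⟨η, hη⟩, ?_⟩
  show (C.K.d (p + 2) (p + 1)).app V.1 _ = t'
  refine (C.loc (p + 1) V).injective (Subtype.ext ?_)
  rw [← key (p + 1), LinearEquiv.apply_symm_apply]
  exact hηd

end Groth.Agent.S15899
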