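import Groth.Statements.S1812
import Groth.Agent.RGammaD.Colim

set_option autoImplicit false
universe u
open CategoryTheory
attribute [local instance] HasDerivedCategory.standard
open LocCoh

namespace Groth.Agent.S1812

set_option backward.isDefEq.respectTransparency false
set_option linter.style.haveILetI false


/-- Let A be a ring, I a finitely generated ideal and K an object of D(A); assume the total right
derived functor RΓ_I of the I-power torsion functor exists. Then for every q the A-module
H^q(RΓ_I(K)) is isomorphic to the direct limit over n of the A-modules of maps A/I^n → K[q] in D(A). -/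
theorem result (A : Type u) [CommRing A] (I : Ideal A) (hI : I.FG) [DRing.HasRgammaI I] (K : Dual.D A) (q : ℤ) : Nonempty (Dual.HD A ((DRing.RgammaI I).obj K) q ≃ₗ[A] Dual2.HDI A I K q) := by
  obtain ⟨J, hJ, -, ⟨eJ⟩⟩ := Groth.Agent.H9Misc.DRingRHomCompl.exists_resolution K
  obtain ⟨e, -⟩ := Groth.Agent.RGammaD.exists_iso_gam I J
  obtain ⟨h⟩ := Groth.Agent.RGammaD.nonempty_homology_gam I (J⟦q⟧) K q
    ((shiftFunctor (Dual.D A) q).mapIso eJ ≪≫ ((DerivedCategory.Q.commShiftIso q).app J).symm)
  let H := HomologicalComplex.homologyFunctor (ModuleCat.{u} A) (ComplexShape.up ℤ)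
  let G := Groth.Agent.RGammaD.gam I
  let i1 : (DerivedCategory.homologyFunctor (ModuleCat.{u} A) q).obj ((DRing.RgammaI I).obj K) ≅ (G.obj J).homology q :=
    (DerivedCategory.homologyFunctor (ModuleCat.{u} A) q).mapIso ((DRing.RgammaI I).mapIso eJ ≪≫ e.symm) ≪≫
      (DerivedCategory.homologyFunctorFactors (ModuleCat.{u} A) q).app (G.obj J)
  let i2 : (H 0).obj (G.obj (J⟦q⟧)) ≅ (G.obj J).homology q :=
    (H 0).mapIso ((G.commShiftIso q).app J) ≪≫ ((H 0).shiftIso q 0 q (by omega)).app (G.obj J)
  exact ⟨(i1 ≪≫ i2.symm).toLinearEquiv.trans h⟩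

end Groth.Agent.S1812
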