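import Groth.Statements.S1816
import Groth.Agent.RGammaD.Complete

set_option autoImplicit false
universe u
open CategoryTheory
attribute [local instance] HasDerivedCategory.standard
open LocCoh

namespace Groth.Agent.S1816

set_option backward.isDefEq.respectTransparency false
set_option linter.style.haveILetI false


/-- First statement, for a Noetherian ring (where RΓ with support in V(I) is RΓ_I). Let A be a
Noetherian ring, I and J ideals, and assume the total right derived functors RΓ_I, RΓ_J and RΓ_{I+J}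
exist. Then for every K in D(A), RΓ_J(RΓ_I(K)) is isomorphic to RΓ_{I+J}(K). -/
theorem result (A : Type u) [CommRing A] [IsNoetherianRing A] (I J : Ideal A) [DRing.HasRgammaI I] [DRing.HasRgammaI J] [DRing.HasRgammaI (I ⊔ J)] (K : Dual.D A) : Nonempty ((DRing.RgammaI J).obj ((DRing.RgammaI I).obj K) ≅ (DRing.RgammaI (I ⊔ J)).obj K) := by
  let Y := (DRing.RgammaI I).obj K
  let X := (DRing.RgammaI J).obj Y
  have hI := Groth.Agent.RGammaD.torsD_RgammaI_of_torsD J (Groth.Agent.RGammaD.torsD_RgammaI I K)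
  have hJ := Groth.Agent.RGammaD.torsD_RgammaI J Y
  have hX : Groth.Agent.RGammaD.TorsD (I ⊔ J) X := fun i x => by
    obtain ⟨m, hm⟩ := hI i x
    obtain ⟨n, hn⟩ := hJ i x
    refine ⟨m + n, fun c hc => ?_⟩
    obtain ⟨p, hp, q, hq, rfl⟩ := Submodule.mem_sup.1 (Ideal.sup_pow_add_le_pow_sup_pow hc)
    rw [add_smul, hm p hp, hn q hq, add_zero]
  refine ⟨(Groth.Agent.RGammaD.exists_iso_of_universal (I ⊔ J) hX
    ((DRing.RgammaIε J).app Y ≫ (DRing.RgammaIε I).app K) fun T hT => ?_).choose⟩
  have hTI : Groth.Agent.RGammaD.TorsD I T := fun i x =>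
    let ⟨n, hn⟩ := hT i x
    ⟨n, fun c hc => hn c (Ideal.pow_right_mono le_sup_left n hc)⟩
  have hTJ : Groth.Agent.RGammaD.TorsD J T := fun i x =>
    let ⟨n, hn⟩ := hT i x
    ⟨n, fun c hc => hn c (Ideal.pow_right_mono le_sup_right n hc)⟩
  exact Eq.mp (congrArg Function.Bijective (funext fun φ => Category.assoc _ _ _))
    ((Groth.Agent.RGammaD.bijective_comp_ε I hTI K).comp (Groth.Agent.RGammaD.bijective_comp_ε J hTJ Y))

end Groth.Agent.S1816
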