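import Groth.Statements.S4551
import Groth.Agent.H1Fields.GeomRedExt
import Groth.Agent.H1Nagata.CoefD
import Groth.Agent.CplFib6.DerivTower

set_option autoImplicit false
universe u
open EGA41

namespace Groth.Agent.S4551

/-- For every field k (any characteristic) the field of fractions k((T_1, …, T_r)) of the power series
ring k[[T_1, …, T_r]] is a separable extension of k, i.e. it is geometrically reduced over k. -/
theorem result (k : Type u) [Field k] (r : ℕ) :
    Algebra.IsGeometricallyReduced k (FractionRing (MvPowerSeries (Fin r) k)) := by
  refine H1Fields.geomRed_of_extends_self fun D => ?_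
  obtain ⟨D', hD'⟩ := CplFib6.exists_derivation_localization (T := MvPowerSeries (Fin r) k)
    (S := FractionRing (MvPowerSeries (Fin r) k)) (nonZeroDivisors _) (H1Nagata.coefD D)
  refine ⟨D', fun a => ?_⟩
  rw [IsScalarTower.algebraMap_apply k (MvPowerSeries (Fin r) k) (FractionRing (MvPowerSeries (Fin r) k)), hD',
    IsScalarTower.algebraMap_apply k (MvPowerSeries (Fin r) k) (FractionRing (MvPowerSeries (Fin r) k))]
  exact congrArg _ (H1Nagata.coefD_C D a)

end Groth.Agent.S4551
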