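import Groth.Statements.S6023
import Groth.Agent.H1LCZ.Shift

set_option autoImplicit false
universe u
open CategoryTheory CategoryTheory.Limits TopologicalSpace
open LocCohZ

namespace Groth.Agent.S6023

/-- Let F be a flasque abelian sheaf on a topological space X. Then H^i_Z(V, F) = 0 for every locally
closed subset Z = V − W (W ⊆ V opens of X) and every i > 0, and ℋ^i_Z(F) = 0 for every closed subset
Z = X − U and every i > 0. (The sheaf assertion is stated for closed Z only.) -/
theorem result {X : TopCat.{u}} (F : CohTop.Ab X) [TopCat.Sheaf.IsFlasque F] :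
    (∀ (W V : Opens X) (h : W ≤ V) (i : ℕ), 0 < i → Subsingleton (LocCohZ.HZ F i h)) ∧
      ∀ (U : Opens X) (i : ℕ), 0 < i → IsZero ((LocCohZ.HZsh U i).obj F) := by
  have key : ∀ (W V : Opens X) (h : W ≤ V) (i : ℕ), 0 < i → Subsingleton (LocCohZ.HZ F i h) := by
    intro W V h i hi
    obtain ⟨j, rfl⟩ := Nat.exists_eq_succ_of_ne_zero hi.ne'
    refine (Groth.Agent.H1LCZ.subsingleton_succ_iff F h j).2 ⟨?_, ?_⟩
    · intro x
      cases j with
      | zero =>
        obtain ⟨φ, rfl⟩ := (Abelian.Ext.mk₀_bijective _ _).2 x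
        obtain ⟨t, ht⟩ := (AddCommGrpCat.epi_iff_surjective _).1
          ((inferInstance : TopCat.Sheaf.IsFlasque F).epi (homOfLE h).op) (CohFree.evalGen (Opens.grothendieckTopology X) W F φ)
        refine ⟨Abelian.Ext.mk₀ (CohFree.ofSect (Opens.grothendieckTopology X) V F t), ?_⟩
        show (Abelian.Ext.mk₀ (CohCx.freeSheafMap (Opens.grothendieckTopology X) (homOfLE h))).comp
          (Abelian.Ext.mk₀ _) (zero_add 0) = _
        rw [Abelian.Ext.mk₀_comp_mk₀]
        congr 1
        apply (CohFree.homEquivSect (Opens.grothendieckTopology X) W F).injective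
        rw [CohFree.homEquivSect_apply, CohFree.homEquivSect_apply, CohFree.evalGen_freeSheafMap_comp,
          CohFree.evalGen_ofSect]
        exact ht
      | succ j =>
        haveI := Groth.Agent.SiteBase.subsingleton_HU_of_isFlasque F W j
        exact ⟨0, Subsingleton.elim _ _⟩
    · haveI := Groth.Agent.SiteBase.subsingleton_HU_of_isFlasque F V j
      exact fun a b _ => Subsingleton.elim a b
  exact ⟨key, fun U i hi => Groth.Agent.H1LCZ.isZero_HZsh U F i fun V => key _ V inf_le_left i hi⟩

end Groth.Agent.S6023
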