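import Groth.Statements.S5975
import Mathlib.AlgebraicGeometry.Modules.Sheaf

set_option autoImplicit false
universe u
open CategoryTheory CategoryTheory.Limits AlgebraicGeometry TopologicalSpace Opposite
open Nrm16

namespace Groth.Agent.S5975

/-- Let f : X ⟶ Y and g : Y ⟶ Z be morphisms of schemes. Let (Ω_{Y/Z}, d), (Ω_{X/Z}, d') and (Ω_{X/Y},
d'') be sheaves of differentials (universal derivations) and let c₁ : f^*Ω_{Y/Z} ⟶ Ω_{X/Z} and c₂ :
Ω_{X/Z} ⟶ Ω_{X/Y} be the canonical maps compatible with the derivations. Then c₂ is an epimorphism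
and the image of c₁ is the kernel of c₂: the sequence f^*Ω_{Y/Z} ⟶ Ω_{X/Z} ⟶ Ω_{X/Y} ⟶ 0 is exact. -/
theorem result {X Y Z : Scheme.{u}} (f : X ⟶ Y) (g : Y ⟶ Z)
    (ΩY : Y.Modules) (dY : OmegaSh.Der g ΩY) (hY : OmegaSh.IsUniversal dY)
    (ΩX : X.Modules) (dX : OmegaSh.Der (f ≫ g) ΩX) (hX : OmegaSh.IsUniversal dX)
    (ΩXY : X.Modules) (dXY : OmegaSh.Der f ΩXY) (hXY : OmegaSh.IsUniversal dXY)
    (c₁ : (Scheme.Modules.pullback f).obj ΩY ⟶ ΩX) (hc₁ : OmegaSh.IsDiffCompat f dY dX c₁)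
    (c₂ : (Scheme.Modules.pullback (𝟙 X)).obj ΩX ⟶ ΩXY) (hc₂ : OmegaSh.IsDiffCompat (𝟙 X) dX dXY c₂) :
    Epi c₂ ∧
      imageSubobject c₁ = kernelSubobject ((Scheme.Modules.pullbackId X).inv.app ΩX ≫ c₂) := by
  let c₂' : ΩX ⟶ ΩXY := (Scheme.Modules.pullbackId X).inv.app ΩX ≫ c₂
  have hU : ∀ (U : X.Opens) (x : Γ(ΩX, U)),
      ((Scheme.Modules.pullbackId X).inv.app ΩX).app U x = OmegaSh.pullSect (𝟙 X) ΩX U x := by
    intro U x
    have h := unit_conjugateEquiv Adjunction.id (Scheme.Modules.pullbackPushforwardAdjunction (𝟙 X))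
      (Scheme.Modules.pullbackId X).hom ΩX
    rw [Scheme.Modules.conjugateEquiv_pullbackId_hom] at h
    have h1 : x = ((Scheme.Modules.pullbackId X).hom.app ΩX).app U (OmegaSh.pullSect (𝟙 X) ΩX U x) :=
      congrArg (fun φ => Scheme.Modules.Hom.app φ U x) h
    refine (congrArg (((Scheme.Modules.pullbackId X).inv.app ΩX).app U) h1).trans ?_
    exact congrArg (fun φ : (Scheme.Modules.pullback (𝟙 X)).obj ΩX ⟶ (Scheme.Modules.pullback (𝟙 X)).obj ΩX =>
      Scheme.Modules.Hom.app φ U (OmegaSh.pullSect (𝟙 X) ΩX U x))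
      ((Scheme.Modules.pullbackId X).hom_inv_id_app ΩX)
  have hd2 : ∀ (U : X.Opens) (s : Γ(X, U)), c₂'.app U (dX.app U s) = dXY.app U s := fun U s =>
    (congrArg (c₂.app U) (hU U (dX.app U s))).trans (hc₂ U s)
  have hf0 : ∀ {T : X.Modules} (D : OmegaSh.Der f T) (V : Y.Opens) (a : Γ(Y, V)),
      D.app (f ⁻¹ᵁ V) (f.app V a) = 0 := fun D V a => D.d_app (X := op V) a
  have w : c₁ ≫ c₂' = 0 := by
    refine ((Scheme.Modules.pullbackPushforwardAdjunction f).homEquiv _ _).injective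
      ((hY _ (dY.postcomp ((Scheme.Modules.pullbackPushforwardAdjunction f).homEquiv _ _ 0).val)).unique ?_ rfl)
    ext V s
    rw [Adjunction.homEquiv_unit, Adjunction.homEquiv_unit]
    show c₂'.app (f ⁻¹ᵁ V.unop) (c₁.app (f ⁻¹ᵁ V.unop) (OmegaSh.pullSect f ΩY V.unop (dY.app V.unop s))) = (0 : Γ(ΩXY, f ⁻¹ᵁ V.unop))
    rw [hc₁ V.unop s, hd2]
    exact hf0 dXY V.unop s
  have hdesc : ∀ {T : X.Modules} (ψ : ΩX ⟶ T), c₁ ≫ ψ = 0 → ∃ α : ΩXY ⟶ T, c₂' ≫ α = ψ := by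
    intro T ψ hψ
    let D : OmegaSh.Der f T :=
      { d := (dX.postcomp ψ.val).d
        d_mul := (dX.postcomp ψ.val).d_mul
        d_map := (dX.postcomp ψ.val).d_map
        d_app := fun {V} a => by
          show ψ.app (f ⁻¹ᵁ V.unop) (dX.app (f ⁻¹ᵁ V.unop) (f.app V.unop a)) = 0
          rw [← hc₁ V.unop a]
          exact congrArg (fun φ : (Scheme.Modules.pullback f).obj ΩY ⟶ T =>
            Scheme.Modules.Hom.app φ (f ⁻¹ᵁ V.unop) (OmegaSh.pullSect f ΩY V.unop (dY.app V.unop a))) hψ }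
    obtain ⟨α, hα, -⟩ := hXY T D
    refine ⟨α, (hX T (dX.postcomp ψ.val)).unique ?_ rfl⟩
    ext U s
    exact (congrArg (α.app U.unop) (hd2 U.unop s)).trans (PresheafOfModules.Derivation.congr_d hα s)
  haveI : Epi c₂' := by
    constructor
    intro T a b hab
    refine (hXY T (dXY.postcomp b.val)).unique ?_ rfl
    ext U s
    exact (congrArg (a.app U.unop) (hd2 U.unop s).symm).trans
      ((congrArg (fun φ : ΩX ⟶ T => φ.app U.unop (dX.app U.unop s)) hab).trans (congrArg (b.app U.unop) (hd2 U.unop s)))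
  refine ⟨?_, ?_⟩
  · have : c₂ = (Scheme.Modules.pullbackId X).hom.app ΩX ≫ c₂' := by
      simp only [c₂', Iso.hom_inv_id_app_assoc]
    rw [this]
    infer_instance
  · refine (ShortComplex.mk c₁ c₂' w).exact_iff_image_eq_kernel.mp
      (ShortComplex.exact_of_g_is_cokernel _ (CokernelCofork.IsColimit.ofπ c₂' w
        (fun g hg => (hdesc g hg).choose) (fun g hg => (hdesc g hg).choose_spec)
        (fun g hg m hm => (cancel_epi c₂').1 (hm.trans (hdesc g hg).choose_spec.symm))))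

end Groth.Agent.S5975
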