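import Groth.Statements.S7150
import Groth.Agent.EGA41Lib.FieldFS

set_option autoImplicit false
universe u
open EtAlg

namespace Groth.Agent.S7150
open IsLocalRing

/-- Suppose p is a prime with p·1 = 0 in the local ring A and some power of the maximal ideal of A is
zero. Then the residue map A → κ_A has a section σ : κ_A → A that is a ring map. If moreover A → A'
is a local homomorphism to another local ring whose maximal ideal has a vanishing power, and the
residue field extension κ_{A'}/κ_A is separable (possibly transcendental, i.e. geometrically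
reduced), then for any such σ there is a section σ' : κ_{A'} → A' compatible with σ. -/
theorem result (p : ℕ) (hp : p.Prime) (A : Type u) [CommRing A]
    [IsLocalRing A] [CharP A p] (hnil : ∃ n : ℕ, IsLocalRing.maximalIdeal A ^ n = ⊥) :
    (∃ σ : IsLocalRing.ResidueField A →+* A, (IsLocalRing.residue A).comp σ = RingHom.id _) ∧
    ∀ (A' : Type u) [CommRing A'] [IsLocalRing A'] [Algebra A A'] [IsLocalHom (algebraMap A A')],
      (∃ n : ℕ, IsLocalRing.maximalIdeal A' ^ n = ⊥) →
      Algebra.IsGeometricallyReduced (IsLocalRing.ResidueField A) (IsLocalRing.ResidueField A') →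
      ∀ σ : IsLocalRing.ResidueField A →+* A, (IsLocalRing.residue A).comp σ = RingHom.id _ →
        ∃ σ' : IsLocalRing.ResidueField A' →+* A', (IsLocalRing.residue A').comp σ' = RingHom.id _ ∧
          σ'.comp (IsLocalRing.ResidueField.map (algebraMap A A')) = (algebraMap A A').comp σ := by
  haveI : Fact p.Prime := ⟨hp⟩
  refine ⟨?_, ?_⟩
  · letI : Algebra (ZMod p) A := ZMod.algebra A p
    haveI := CoeffField.formallySmooth_of_perfectField (ZMod p) (ResidueField A)
    haveI : Algebra.FormallySmooth (ZMod p) (A ⧸ maximalIdeal A) := ‹Algebra.FormallySmooth (ZMod p) (ResidueField A)›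
    obtain ⟨σ, hσ⟩ := Algebra.FormallySmooth.exists_lift (maximalIdeal A) (by
      obtain ⟨n, hn⟩ := hnil; exact ⟨n, hn⟩) (AlgHom.id (ZMod p) (A ⧸ maximalIdeal A))
    exact ⟨σ.toRingHom, RingHom.ext fun c => AlgHom.congr_fun hσ c⟩
  · intro A' _ _ _ _ hnil' hgr σ hσ
    haveI := hgr
    haveI := EGA41Lib.FieldFS.formallySmooth_of_isGeometricallyReduced (ResidueField A) (ResidueField A')
    letI : Algebra (ResidueField A) A' := ((algebraMap A A').comp σ).toAlgebra
    let g : ResidueField A' →ₐ[ResidueField A] A' ⧸ maximalIdeal A' :=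
      AlgHom.mk (RingHom.id (ResidueField A')) (fun c => by
        show algebraMap (ResidueField A) (ResidueField A') c = residue A' (algebraMap A A' (σ c))
        rw [← ResidueField.algebraMap_residue, show residue A (σ c) = c from congr($hσ c)])
    obtain ⟨σ', hσ'⟩ := Algebra.FormallySmooth.exists_lift (maximalIdeal A') (by
      obtain ⟨n, hn⟩ := hnil'; exact ⟨n, hn⟩) g
    refine ⟨σ'.toRingHom, RingHom.ext fun c => AlgHom.congr_fun hσ' c, RingHom.ext fun c => ?_⟩
    exact σ'.commutes c

end Groth.Agent.S7150
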