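import Groth.Statements.S7390
import Groth.Agent.InvX.GenLocus

set_option autoImplicit false
universe u
open CategoryTheory AlgebraicGeometry
open Mor

namespace Groth.Agent.S7390

/-- Let `X` be a scheme such that every point lies in some affine open `X_s`, the locus where a global
section `s` generates an invertible `O_X`-module `L` (both depending on the point). Then the
diagonal of `X` is an affine morphism. -/
theorem result (X : Scheme.{u})
    (h : ∀ x : X, ∃ (L : X.Modules) (s : Coh.structureModule X ⟶ L), PicF.IsInvertible L ∧
      x ∈ CohB1.genLocus L s ∧ IsAffineOpen (CohB1.genLocus L s)) :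
    IsAffineHom (Limits.pullback.diagonal (Limits.terminal.from X)) := by
  choose L s hL hx haff using h
  refine isAffineHom_diagonal_iff.mpr fun _ _ V _ W _ hV hW => ?_
  haveI : IsAffineHom V.ι := by
    refine isAffineHom_of_forall_exists_isAffineOpen _ fun x => ?_
    haveI := Groth.Agent.InvX.isAffineHom_genLocus_ι (hL x) (s x)
    refine ⟨CohB1.genLocus (L x) (s x), hx x, haff x, ?_⟩
    have h1 := (hV.preimage (CohB1.genLocus (L x) (s x)).ι).image_of_isOpenImmersion
      (CohB1.genLocus (L x) (s x)).ι
    rw [Scheme.Hom.image_preimage_eq_opensRange_inf, Scheme.Opens.opensRange_ι] at h1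
    apply (V.ι.isAffineOpen_iff_of_isOpenImmersion).mp
    rw [Scheme.Hom.image_preimage_eq_opensRange_inf, Scheme.Opens.opensRange_ι, inf_comm]
    exact h1
  have h2 := (hW.preimage V.ι).image_of_isOpenImmersion V.ι
  rwa [Scheme.Hom.image_preimage_eq_opensRange_inf, Scheme.Opens.opensRange_ι] at h2

end Groth.Agent.S7390
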