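import Groth.Statements.S4270
import Groth.Agent.AmpleFam7.Main
import Groth.Agent.S7390

set_option autoImplicit false
universe u
open CategoryTheory CategoryTheory.Limits AlgebraicGeometry
attribute [local instance] HasDerivedCategory.standard
open KSix

namespace Groth.Agent.S4270

/-- A scheme admitting an ample family of invertible modules has the resolution property: every
quasi-coherent module of finite type is a quotient of a finite locally free module. -/
theorem result (X : Scheme.{u}) (hX : MoreMor.HasAmpleFamily X) :
    PerfAux.HasResolutionProperty X := by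
  intro M hM hft
  obtain ⟨hc, h⟩ := hX
  choose L n s hinv hn hx haff using h
  haveI := hc
  haveI hd : IsAffineHom (Limits.pullback.diagonal (Limits.terminal.from X)) := S7390.result X fun x =>
    ⟨_, s x, InvX.isInvertible_tensorPow (hinv x) _, hx x, haff x⟩
  haveI : QuasiSeparated (Limits.terminal.from X) := (quasiSeparated_iff _).2 inferInstance
  haveI : QuasiSeparatedSpace X := quasiSeparatedSpace_of_quasiSeparated (Limits.terminal.from X)
  have hfam : KSix.IsAmpleFamily L := ⟨hc, inferInstance, hinv, fun x => by
    obtain ⟨m, hm⟩ := Nat.exists_eq_add_of_le' (hn x)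
    have key : ∀ k, k = n x → ∃ t : Coh.structureModule X ⟶ CohB1.tensorPow (L x) k,
        x ∈ CohB1.genLocus _ t ∧ IsAffineOpen (CohB1.genLocus _ t) := by
      rintro k rfl
      exact ⟨s x, hx x, haff x⟩
    obtain ⟨t, ht⟩ := key (m + 1) hm.symm
    exact ⟨x, m, t, ht⟩⟩
  obtain ⟨E, π, -, hE, hπ⟩ := AmpleFam7.exists_epi hfam M hM hft
  exact ⟨E, π, hE, hπ⟩

end Groth.Agent.S4270
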