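import Groth.Statements.S7388
import Groth.Agent.RGLib.ProjAvoid

set_option autoImplicit false
universe u
open CategoryTheory AlgebraicGeometry
open Mor

namespace Groth.Agent.S7388

/-- Let `X` be a scheme admitting an immersion into `Proj S` for some graded ring `S`. Then any finite
set of points of `X` is contained in an affine open of `X`. -/
theorem result {R A : Type u} [CommRing R] [CommRing A] [Algebra R A]
    (𝒜 : ℕ → Submodule R A) [GradedAlgebra 𝒜] {X : Scheme.{u}} (ι : X ⟶ Proj 𝒜) [IsImmersion ι]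
    (E : Set X) (hE : E.Finite) :
    ∃ U : X.Opens, IsAffineOpen U ∧ E ⊆ U := by
  obtain ⟨f, d, hd, hf, hfs, hfW⟩ := Groth.Agent.RGLib.exists_homogeneous_basicOpen_of_finset 𝒜
    ι.coborderRange (hE.image ι).toFinset (fun y hy => by
      obtain ⟨x, -, rfl⟩ := (hE.image ι).mem_toFinset.1 hy
      exact subset_coborder ⟨x, rfl⟩)
  refine ⟨ι ⁻¹ᵁ Proj.basicOpen 𝒜 f, ?_, fun x hx => hfs _ ((hE.image ι).mem_toFinset.2 ⟨x, hx, rfl⟩)⟩
  rw [← ι.liftCoborder_ι, Scheme.Hom.comp_preimage]
  exact ((Proj.isAffineOpen_basicOpen 𝒜 f hf hd).preimage_of_isOpenImmersion ι.coborderRange.ι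
    (by rwa [Scheme.Opens.opensRange_ι])).preimage ι.liftCoborder

end Groth.Agent.S7388
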