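import Groth.Statements.S14340
import Groth.Agent.CurveNondeg.Basic
import Groth.Agent.CurveExt.CliffordEq
import Groth.Agent.CurveBC.Etale
import Groth.Agent.P1Split.Basic
import Groth.Agent.H23.PicMul
import Groth.Agent.NakaiMo.Main

set_option autoImplicit false
universe u
open CategoryTheory CategoryTheory.Limits AlgebraicGeometry
open Curves Groth.Agent.H23.PicMul
set_option linter.style.haveILetI false
set_option backward.isDefEq.respectTransparency false
set_option backward.isDefEq.respectTransparency.types false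
set_option maxHeartbeats 800000
set_option linter.unusedVariables false

namespace Groth.Agent.S14340

/-- Rank of a finite flat cover read on an affine chart. -/
theorem coverDeg_eq {X Y : Scheme.{u}} [IsIntegral X] [IsIntegral Y] (f : X ⟶ Y) [IsFinite f] [Flat f]
    [LocallyOfFinitePresentation f] {d : ℕ} (hd : ∀ y, Scheme.Hom.finrank f y = d) : CurveBC.coverDeg f = d := by
  obtain ⟨U, hU, hy, ⟨l⟩⟩ := H23.CoverPush.crit_of_isFinLocFreeOfRank_push f
    (CurveBC.isFinLocFreeOfRank_push f) (genericPoint Y)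
  letI := H23.CoverPush.alg f U
  obtain ⟨p, hp⟩ : genericPoint Y ∈ Set.range hU.fromSpec := by rw [hU.range_fromSpec]; exact hy
  haveI : Module.Free Γ(Y, U) Γ(X, f ⁻¹ᵁ U) := Module.Free.of_equiv l.symm
  haveI : Module.Finite Γ(Y, U) Γ(X, f ⁻¹ᵁ U) := Module.Finite.equiv l.symm
  haveI : Module.Flat Γ(Y, U) Γ(X, f ⁻¹ᵁ U) := inferInstance
  haveI : Nonempty U := ⟨⟨_, hy⟩⟩
  have h := Scheme.Hom.finrank_of_isPullback _ _ _ _ (H23.CoverPush.isPullback_fromSpec f hU).flip p
  rw [hd, show f.app U = CommRingCat.ofHom (algebraMap Γ(Y, U) Γ(X, f ⁻¹ᵁ U)) from rfl,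
    Scheme.Hom.finrank_SpecMap_algebraMap, Module.rankAtStalk_eq_finrank_of_free] at h
  rw [← h]
  simp [l.finrank_eq]


/-- Let k be a field and C a smooth proper geometrically connected curve over k (of dimension one) of
genus g = dim_k H^1(C, O_C) ≥ 2 which is hyperelliptic: there is a morphism f : C → P^1_k over k,
finite and flat of constant rank 2; let L = f^*O(1) be its g^1_2. Then for every r with 0 ≤ r ≤ g −
1 the k-vector space H^0(C, L^{⊗r}) has dimension r + 1. (The published statement asserts that the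
pullback of sections H^0(P^1_k, O(r)) → H^0(C, L^{⊗r}) is an isomorphism and takes C projective;
this row states the equivalent dimension count, that map being injective for the dominant f with
source of dimension r + 1, and takes C proper, which for curves over a field is the same.) -/
theorem result (k : Type u) [Field k] (C : Scheme.{u}) [C.Over (Spec (CommRingCat.of k))] [IsProper (C ↘ Spec (CommRingCat.of k))] [Smooth (C ↘ Spec (CommRingCat.of k))] [GeometricallyConnected (C ↘ Spec (CommRingCat.of k))] (hC : topologicalKrullDim C = 1) (g : ℕ) (hg2 : 2 ≤ g) (hg : Curv2.genus k C = g) (f : C ⟶ CohB1.ProjSpace 1 k) (hf : f ≫ CohB1.ProjSpace.toSpec 1 k = C ↘ Spec (CommRingCat.of k)) [IsFinite f] [Flat f] (hrk : ∀ y : ↥(CohB1.ProjSpace 1 k), Scheme.Hom.finrank f y = 2) (r : ℕ) (hr : r + 1 ≤ g) : Module.finrank k (Coh.HH C (CohB1.tensorPow ((Scheme.Modules.pullback f).obj (Twist.twistProjSpace 1 k 1)) r) 0) = r + 1 := by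
  have h0 : Module.finrank k (Coh.HH C (Coh.structureModule C) 0) = 1 :=
    CurveBC.finrank_h0_of_geometricallyConnected k C
  haveI := CurveBC.isIntegral_of_h0 k C h0
  haveI := CurveCohLib.isNoetherian_of_proper (k := k) (X := C)
  haveI := CurveCohLib.isNoetherian_of_proper (k := k) (X := CohB1.ProjSpace 1 k)
  let T := Twist.twistProjSpace 1 k 1
  let L := (Scheme.Modules.pullback f).obj T
  have hT : PicF.IsInvertible T := P1Split.isInvertible_T k 1
  have hL : PicF.IsInvertible L := PicClLib.isInvertible_pullback f hT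
  have hd : Curv2.deg k C L 1 = 2 := by
    refine (CurveBC.deg_pullback k f (P1Split.dim_eq k) hf hT).trans ?_
    rw [P1Split.deg_T, coverDeg_eq f hrk]
    norm_num
  have hL2 : 2 ≤ Module.finrank k (Coh.HH C L 0) := by
    refine le_of_eq_of_le (P1Split.h0_T_nat k 1).symm
      (CurveNondeg.finrank_le_of_pullElt k f hf hT fun s hs he => ?_)
    haveI := InvEnd.mono_of_ne_zero CurveDeg.isInvertible_structureModule hT _ (CurveEmbed.ofSect_ne_zero hs)
    obtain ⟨W, hW, hfr⟩ := InvX.mem_genLocus (NakaiMo.genericPoint_mem_genLocus hT (InvX.ofSect s))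
    rw [InvX.one_ofSect] at hfr
    have hf' := InvX.isFrame_pullElt f hfr
    have hz : InvX.pullElt f (AModX.res T (le_top : W ≤ ⊤) s) = 0 :=
      (InvX.res_pullElt f (le_top : W ≤ ⊤) s).symm.trans ((congrArg _ he).trans (map_zero _))
    rw [hz] at hf'
    obtain ⟨x, hx⟩ : ∃ x : C, f x ∈ W := by
      haveI : Surjective f := Scheme.Hom.one_le_finrank_iff_surjective f |>.1 fun y => by simp [hrk]
      obtain ⟨x, hx⟩ := f.surjective (genericPoint (CohB1.ProjSpace 1 k))
      exact ⟨x, hx.symm ▸ hW⟩
    haveI : Nonempty (f ⁻¹ᵁ W : C.Opens) := ⟨⟨x, hx⟩⟩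
    exact one_ne_zero (α := Γ(C, f ⁻¹ᵁ W)) (hf'.coord_unique le_rfl (by simp))
  -- over an algebraic closure
  let π := Curv2.bcFst k C (AlgebraicClosure k)
  obtain ⟨_, _, _, hd', _, _⟩ := CurveBC.bar_facts k C hC h0
  haveI := quasiSeparatedSpace_of_quasiSeparated (C ↘ Spec (CommRingCat.of k))
  haveI := QuasiCompact.compactSpace_of_compactSpace (C ↘ Spec (CommRingCat.of k))
  have hpb := CurveBC.isPullback_bar k C
  let M := (Scheme.Modules.pullback π).obj L
  have hM : PicF.IsInvertible M := PicClLib.isInvertible_pullback π hL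
  have hLr : PicF.IsInvertible (CohB1.tensorPow L r) := isInvertible_tensorPow hL r
  have hMr : PicF.IsInvertible (CohB1.tensorPow M r) := isInvertible_tensorPow hM r
  obtain ⟨e⟩ : Nonempty ((Scheme.Modules.pullback π).obj (CohB1.tensorPow L r) ≅ CohB1.tensorPow M r) := by
    refine cl_eq_iff.1 ?_
    show PicF.pullCl π (PicF.cl (CohB1.tensorPow L r)) = _
    rw [cl_tensorPow, cl_tensorPow, pullCl_pow]
    rfl
  have hM2 : Module.finrank (AlgebraicClosure k) (Coh.HH (Curv2.bc k C (AlgebraicClosure k)) M 0) = Module.finrank k (Coh.HH C L 0) :=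
    CurveBC.finrank_hh k (AlgebraicClosure k) π hpb L (ProjUPX.isQCoh_of_isInvertible hL) 0
  have hdM : Curv2.deg (AlgebraicClosure k) (Curv2.bc k C (AlgebraicClosure k)) M 1 = 2 :=
    (CurveBC.deg_eq k (AlgebraicClosure k) π hpb L (ProjUPX.isQCoh_of_isInvertible hL) 1).trans hd
  have hgen : Curv2.genus (AlgebraicClosure k) (Curv2.bc k C (AlgebraicClosure k)) = g := (CurveBC.genus_eq k (AlgebraicClosure k) π hpb).trans hg
  have hlow := CurveExt.Cliff.le_h0_tensorPow (AlgebraicClosure k) hd' hM (hM2 ▸ hL2) r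
  have hdeg := CurveCohLib.Clifford.deg_eq (AlgebraicClosure k) hd' hMr
  rw [CurveExt.Cliff.deg_tensorPow (AlgebraicClosure k) hd' hM, hdM, hgen] at hdeg
  have h1 : 0 < Module.finrank (AlgebraicClosure k) (Coh.HH (Curv2.bc k C (AlgebraicClosure k)) (CohB1.tensorPow M r) 1) := by omega
  have hclif := CurveCohLib.Clifford.h0_add_h1_le (AlgebraicClosure k) hd' hMr
    (Module.nontrivial_of_finrank_pos (R := (AlgebraicClosure k)) (by omega)) (Module.nontrivial_of_finrank_pos (R := (AlgebraicClosure k)) h1)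
  rw [hgen] at hclif
  have hbc := CurveBC.finrank_hh k (AlgebraicClosure k) π hpb (CohB1.tensorPow L r) (ProjUPX.isQCoh_of_isInvertible hLr) 0
  rw [(CurveCohLib.hhEquiv (k := (AlgebraicClosure k)) e 0).finrank_eq] at hbc
  change Module.finrank k (Coh.HH C (CohB1.tensorPow L r) 0) = r + 1
  omega

end Groth.Agent.S14340
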