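import Groth.Statements.S15400
import Groth.Agent.ZPic.Natural

set_option autoImplicit false
universe u
open CategoryTheory CategoryTheory.Limits AlgebraicGeometry
open PicGrp
set_option backward.isDefEq.respectTransparency false
set_option backward.isDefEq.respectTransparency.types false

namespace Groth.Agent.S15400

/-- Let X' be a scheme and I a quasi-coherent ideal of O_{X'} with I² = 0, cutting out the closed
subscheme X with inclusion i (so X ⊆ X' is a first-order thickening). Assume the Picard group laws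
on X' and X and that pullback of invertible classes along i is multiplicative. Then there exist
group homomorphisms ε : H⁰(X', I) → Γ(X', O_{X'})ˣ, δ₀ : Γ(X, O_X)ˣ → H¹(X', I), α : H¹(X', I) →
Pic(X') and δ₁ : Pic(X) → H²(X', I) (the cohomology groups of the O_{X'}-module I, computed on X',
which has the same underlying space as X, and written multiplicatively) such that the sequence 0 →
H⁰(X', I) → Γ(X', O_{X'})ˣ → Γ(X, O_X)ˣ → H¹(X', I) → Pic(X') → Pic(X) → H²(X', I), whose second map
is restriction of units and whose fifth map is pullback along i, is exact. (Only the existence of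
the four connecting homomorphisms is asserted; they are not identified with the maps f ↦ 1 + f and
the boundary maps of the units sequence.) -/
theorem result (X' : Scheme.{u}) (I : X'.IdealSheafData) (hI : I * I = ⊥)
    [PicGrp.Law X'] [PicGrp.Law I.subscheme] (hi : PicGrp.PullMul I.subschemeι) :
    ∃ (ε : Multiplicative (Coh.HH X' (ClSub.idealMod I) 0) →* (Γ(X', ⊤))ˣ)
      (δ₀ : (Γ(I.subscheme, ⊤))ˣ →* Multiplicative (Coh.HH X' (ClSub.idealMod I) 1))
      (α : Multiplicative (Coh.HH X' (ClSub.idealMod I) 1) →* PicLoc.PicSet X')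
      (δ₁ : PicLoc.PicSet I.subscheme →* Multiplicative (Coh.HH X' (ClSub.idealMod I) 2)),
      Function.Injective ε ∧
      (Units.map I.subschemeι.appTop.hom.toMonoidHom).ker = ε.range ∧
      δ₀.ker = (Units.map I.subschemeι.appTop.hom.toMonoidHom).range ∧
      α.ker = δ₀.range ∧
      (PicGrp.pullHom I.subschemeι hi).ker = α.range ∧
      δ₁.ker = (PicGrp.pullHom I.subschemeι hi).range := by
  have h2 : I ^ 2 = ⊥ := (pow_two I).trans hI
  haveI : Surjective I.subschemeι := ⟨LineLift.surjective_ι h2⟩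
  have hS := UnitsSeq.shortExact_expHom h2
  obtain ⟨e, e₀, he⟩ := ZPic.exists_pic_equivs (i := I.subschemeι) hi
  let hT : IsTerminal (⊤ : X'.Opens) := isTerminalTop
  let J := Coh.toAb (ClSub.idealMod I)
  let q₀ : Coh.HH X' (ClSub.idealMod I) 0 ≃+ J.obj.obj (Opposite.op (⊤ : X'.Opens)) := Sheaf.H.equiv₀ J hT
  let expT : J.obj.obj (Opposite.op (⊤ : X'.Opens)) →+ Additive (Γ(X', ⊤))ˣ :=
    ((UnitsSeq.expHom h2).hom.app (Opposite.op (⊤ : X'.Opens))).hom
  let g₁ : Coh.HH X' (ClSub.idealMod I) 1 →+ CohTop.H (UnitsSh.unitsAb X') 1 :=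
    Sheaf.H.map (UnitsSeq.expHom h2) 1
  let d₁ : CohTop.H ((CohTop.push I.subschemeι.base).obj (UnitsSh.unitsAb I.subscheme)) 1 →+
      Coh.HH X' (ClSub.idealMod I) 2 := hS.extClass.postcomp _ (rfl : 1 + 1 = 2)
  let d₀ : Additive (Γ(I.subscheme, ⊤))ˣ →+ Coh.HH X' (ClSub.idealMod I) 1 := ZPic.bd hS
  let ε := AddMonoidHom.toMultiplicativeLeft (expT.comp q₀.toAddMonoidHom)
  let δ₀ := AddMonoidHom.toMultiplicativeRight d₀
  let α := AddMonoidHom.toMultiplicativeLeft (e.symm.toAddMonoidHom.comp g₁)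
  let δ₁ := AddMonoidHom.toMultiplicativeRight (d₁.comp e₀.toAddMonoidHom)
  refine ⟨ε, δ₀, α, δ₁, ?_, ?_, ?_, ?_, ?_, ?_⟩
  · intro a b hab
    have h1 : expT (q₀ a.toAdd) = expT (q₀ b.toAdd) := congrArg Additive.ofMul hab
    haveI : Mono (UnitsSeq.expHom h2) := hS.mono_f
    exact Multiplicative.toAdd.injective (q₀.injective
      (BigSiteLib.FppfDesc.app_injective_of_mono (UnitsSeq.expHom h2) (⊤ : X'.Opens) h1))
  · ext v
    constructor
    · intro hv
      have hv' : I.subschemeι.app ⊤ (v : Γ(X', ⊤)) = 1 := congrArg Units.val hv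
      obtain ⟨f, hf⟩ := OmegaLib.exists_idealSect_eq I ⊤ ((v : Γ(X', ⊤)) - 1) (by
        rw [map_sub, hv', map_one, sub_self])
      refine ⟨Multiplicative.ofAdd (q₀.symm f), ?_⟩
      show Additive.toMul (expT (q₀ (q₀.symm f))) = v
      rw [AddEquiv.apply_symm_apply]
      exact Units.ext ((congrArg (1 + ·) hf).trans (add_sub_cancel 1 (v : Γ(X', ⊤))))
    · rintro ⟨x, rfl⟩
      exact congrArg (fun φ : J ⟶ _ => Additive.toMul (φ.hom.app (Opposite.op (⊤ : X'.Opens)) (q₀ x.toAdd) :
        Additive (Γ(I.subscheme, ⊤))ˣ)) (UnitsSeq.expHom_comap h2)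
  · ext u
    constructor
    · intro hu
      obtain ⟨m, hm⟩ := (ZPic.mem_ker_bd hS (Additive.ofMul u)).1 (congrArg Multiplicative.toAdd hu)
      exact ⟨UnitsSh.unitOfSect m, congrArg Additive.toMul hm⟩
    · rintro ⟨v, rfl⟩
      exact congrArg Multiplicative.ofAdd
        ((ZPic.mem_ker_bd hS _).2 ⟨UnitsSh.sectOfUnit v, rfl⟩)
  · ext x
    constructor
    · intro hx
      have hx' : g₁ x.toAdd = 0 := by
        have h1 : e.symm (g₁ x.toAdd) = 0 := congrArg Additive.ofMul hx
        exact e.symm.injective (h1.trans (map_zero e.symm).symm)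
      obtain ⟨z, hz⟩ := ZPic.exists_bd_eq hS x.toAdd hx'
      exact ⟨Additive.toMul z, congrArg Multiplicative.ofAdd hz⟩
    · rintro ⟨u, rfl⟩
      show Additive.toMul (e.symm (g₁ (d₀ (Additive.ofMul u)))) = 1
      rw [show g₁ (d₀ (Additive.ofMul u)) = 0 from ZPic.map_bd hS _, map_zero]
      rfl
  · ext c
    have key : (c ∈ (PicGrp.pullHom I.subschemeι hi).ker) ↔
        Sheaf.H.map (UnitsSh.comap I.subschemeι) 1 (e (Additive.ofMul c)) = 0 := by
      rw [← he, MonoidHom.mem_ker]
      refine ⟨fun h => by rw [h]; exact map_zero e₀, fun h => ?_⟩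
      exact Additive.ofMul.injective (e₀.injective (h.trans (map_zero e₀).symm))
    rw [key]
    constructor
    · intro h
      obtain ⟨y, hy⟩ := Abelian.Ext.covariant_sequence_exact₂ _ hS (e (Additive.ofMul c)) h
      refine ⟨Multiplicative.ofAdd y, ?_⟩
      show Additive.toMul (e.symm (g₁ y)) = c
      rw [show g₁ y = e (Additive.ofMul c) from hy, AddEquiv.symm_apply_apply]
      rfl
    · rintro ⟨y, rfl⟩
      show Sheaf.H.map _ 1 (e (e.symm (g₁ y.toAdd))) = 0
      rw [AddEquiv.apply_symm_apply]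
      show Sheaf.H.map _ 1 (Sheaf.H.map _ 1 _) = 0
      rw [← Sheaf.H.map_comp_apply, UnitsSeq.expHom_comap, Sheaf.H.map_apply, Abelian.Ext.mk₀_zero,
        Abelian.Ext.comp_zero]
  · ext c
    constructor
    · intro hc
      obtain ⟨y, hy⟩ := Abelian.Ext.covariant_sequence_exact₃ _ hS (e₀ (Additive.ofMul c)) (rfl : 1 + 1 = 2)
        (congrArg Multiplicative.toAdd hc)
      refine ⟨Additive.toMul (e.symm y), Additive.ofMul.injective (e₀.injective ?_)⟩
      rw [he, ofMul_toMul, AddEquiv.apply_symm_apply]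
      exact hy
    · rintro ⟨d, rfl⟩
      show Multiplicative.ofAdd (d₁ (e₀ (Additive.ofMul (PicGrp.pullHom I.subschemeι hi d)))) = 1
      rw [he]
      refine (congrArg Multiplicative.ofAdd ?_).trans rfl
      show (Sheaf.H.map _ 1 _).comp hS.extClass (rfl : 1 + 1 = 2) = 0
      rw [Sheaf.H.map_apply, Abelian.Ext.comp_assoc_of_second_deg_zero, hS.comp_extClass, Abelian.Ext.comp_zero]

end Groth.Agent.S15400
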