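import Groth.Statements.S13478
import Groth.Agent.GaExt.LocalSplit
import Groth.Agent.GaExt.HomShH1
import Groth.Agent.GaExt.Split
import Groth.Agent.BiextSplit.Class
import Mathlib.RingTheory.Finiteness.ModuleFinitePresentation
-- import your own Groth.Agent.* helpers here

set_option autoImplicit false
universe u
open GaDual

namespace Groth.Agent.S13478

open CategoryTheory CategoryTheory.Limits in
/-- The first derived functor vanishes at an object when the image of the projection of an injective copresentation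
is an epimorphism. -/
theorem isZero_R1_of_epi {A A' : Type*} [Category A] [Abelian A] [EnoughInjectives A] [Category A'] [Abelian A']
    (F : A ⥤ A') [F.Additive] [PreservesFiniteLimits F] {X I Z : A} {f : X ⟶ I} {g : I ⟶ Z} {w : f ≫ g = 0}
    [Injective I] (hS : (ShortComplex.mk f g w).ShortExact) [Epi (F.map g)] :
    IsZero ((F.rightDerived 1).obj X) := by
  obtain ⟨e⟩ := Groth.Agent.QCoh.nonempty_R1_iso F hS (F.isZero_rightDerived_obj_injective_succ 0 _)
  exact (isZero_cokernel_of_epi _).of_iso e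

open CategoryTheory CategoryTheory.Limits in
theorem shortExact_ι {A : Type*} [Category A] [Abelian A] [EnoughInjectives A] (G : A) :
    (ShortComplex.mk (Injective.ι G) (cokernel.π (Injective.ι G)) (cokernel.condition _)).ShortExact :=
  { exact := ShortComplex.exact_of_g_is_cokernel _ (cokernelIsCokernel _) }

open CategoryTheory CategoryTheory.Limits Opposite in
open Groth.Agent in
/-- The first derived functor of an internal Hom vanishes when morphisms into a cokernel lift locally. -/
theorem isZero_R1 {C : Type (u + 1)} [Category.{u} C] (J : GrothendieckTopology C)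
    [HasSheafify J AddCommGrpCat.{u + 1}] [EnoughInjectives (Sheaf J AddCommGrpCat.{u + 1})]
    [J.HasSheafCompose (forget AddCommGrpCat.{u + 1})]
    [Balanced (Sheaf J AddCommGrpCat.{u + 1})]
    (Q G : Sheaf J AddCommGrpCat.{u + 1})
    (H : ∀ (T : C) (c : Q.over T ⟶ (cokernel (Injective.ι G)).over T),
      Presheaf.imageSieve (HomSh.homShMap J (𝟙 Q) (cokernel.π (Injective.ι G))).hom (U := T) c ∈ J T) :
    IsZero (((HomSh.homShFunctor J Q).rightDerived 1).obj G) := by
  haveI := BiextSplit.preservesFiniteLimits_homShFunctor (J := J) Q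
  have hS : (ShortComplex.mk (Injective.ι G) (cokernel.π (Injective.ι G)) (cokernel.condition _)).ShortExact :=
    { exact := ShortComplex.exact_of_g_is_cokernel _ (cokernelIsCokernel _) }
  haveI hls : Sheaf.IsLocallySurjective (HomSh.homShMap J (𝟙 Q) (cokernel.π (Injective.ι G))) :=
    ⟨fun {T} c => H T c⟩
  haveI : Epi (HomSh.homShMap J (𝟙 Q) (cokernel.π (Injective.ι G))) :=
    (Sheaf.isLocallySurjective_iff_epi' AddCommGrpCat.{u + 1} _).1 hls
  haveI : Epi ((HomSh.homShFunctor J Q).map (cokernel.π (Injective.ι G))) := this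
  exact isZero_R1_of_epi (HomSh.homShFunctor J Q) hS

open CategoryTheory AlgebraicGeometry Opposite in
open Groth.Agent.GaExt in
/-- An additive family gives a morphism of the restricted sheaves. -/
noncomputable def toHom {X : Scheme.{u}} {P : Over X} [GrpObj P] [IsCommMonObj P] {F : Fp X} {T W : Over X}
    (δ : AddData P F T) (a : W ⟶ T) : (CGrpSh.pts Scheme.fppfPrecoverage P).over W ⟶ F.over W :=
  ⟨{ app := fun Y => @AddCommGrpCat.ofHom ((CGrpSh.pts Scheme.fppfPrecoverage P).obj.obj (op Y.unop.left))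
        (F.obj.obj (op Y.unop.left)) ((CGrpSh.pts Scheme.fppfPrecoverage P).obj.obj (op Y.unop.left)).str
        (F.obj.obj (op Y.unop.left)).str (show (CGrpSh.pts Scheme.fppfPrecoverage P).obj.obj (op Y.unop.left) →+
        F.obj.obj (op Y.unop.left) from
      AddMonoidHom.mk' (fun x => δ.val (Y.unop.hom ≫ a) x.down.toMul) (fun x x' => δ.add _ _ _))
     naturality := fun Y Y' k => AddCommGrpCat.ext fun x => by
      show δ.val _ (k.unop.left ≫ x.down.toMul) = Adeq2Lib.AffVan.rA F k.unop.left (δ.val _ _)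
      rw [δ.res, ← Category.assoc, Over.w k.unop]
      rfl }⟩

open CategoryTheory AlgebraicGeometry CategoryTheory.Limits Opposite TensorProduct in
open Groth.Agent.GaExt Groth.Agent.Adeq2Lib Groth.Agent.Adeq2Lib.AffVan in
/-- A finite free nonzero algebra gives an fppf covering. -/
theorem mem_rootExt {X : Scheme.{u}} {A : Type u} [CommRing A] [Nontrivial A] (c : Spec (CommRingCat.of A) ⟶ X)
    (e : RootExt A) :
    Sieve.ofArrows (fun _ : PUnit.{u + 1} => Ch c e.B) (fun _ => chBase c e.B) ∈
      QuotSh.J Scheme.fppfPrecoverage X (Over.mk c) := by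
  show Sieve.overEquiv _ _ ∈ Scheme.fppfPrecoverage.toGrothendieck (Over.mk c).left
  rw [Sieve.overEquiv_ofArrows]
  refine Precoverage.generate_mem_toGrothendieck (J := Scheme.precoverage (Pfppf : MorphismProperty Scheme.{u})) ?_
  rw [Scheme.ofArrows_mem_precoverage_iff]
  haveI : Module.FinitePresentation A e.B := Module.finitePresentation_of_projective A e.B
  refine ⟨fun x => ?_, fun _ => ⟨?_, ?_⟩⟩
  · obtain ⟨z, hz⟩ := PrimeSpectrum.comap_surjective_of_faithfullyFlat (A := A) (B := e.B) x
    exact ⟨PUnit.unit, z, hz⟩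
  · show Flat (Spec.map (CommRingCat.ofHom (algebraMap A e.B)))
    rw [HasRingHomProperty.Spec_iff (P := @Flat), CommRingCat.hom_ofHom, RingHom.flat_algebraMap_iff]
    infer_instance
  · show LocallyOfFinitePresentation (Spec.map (CommRingCat.ofHom (algebraMap A e.B)))
    rw [HasRingHomProperty.Spec_iff (P := @LocallyOfFinitePresentation), CommRingCat.hom_ofHom,
      RingHom.finitePresentation_algebraMap]
    exact Algebra.FinitePresentation.of_finitePresentation A e.B

open CategoryTheory AlgebraicGeometry CategoryTheory.Limits Opposite in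
open Groth.Agent.GaExt Groth.Agent.Adeq2Lib Groth.Agent.Adeq2Lib.AffVan in
/-- A morphism into the quotient lifts locally. -/
theorem imageSieve_mem' (S : Scheme.{u}) (p : ℕ) [Fact p.Prime] (hp : (p : Γ(S, ⊤)) = 0)
    {I Z : Fp S} (jι : CGrpSh2.Gm Scheme.fppfPrecoverage S ⟶ I) (π : I ⟶ Z) (w : jι ≫ π = 0)
    (hS : (ShortComplex.mk jι π w).ShortExact) {T : Over S}
    (c : (CGrpSh2.Ga Scheme.fppfPrecoverage S).over T ⟶ Z.over T) :
    Presheaf.imageSieve (HomSh.homShMap (QuotSh.J Scheme.fppfPrecoverage S)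
      (𝟙 (CGrpSh2.Ga Scheme.fppfPrecoverage S)) π).hom (U := T) c ∈ QuotSh.J Scheme.fppfPrecoverage S T := by
  let E : GmExt Z := ⟨I, jι, π, w, hS⟩
  let d : AddData (Red.Ga S) Z T :=
    { val := fun {W} a x => c.hom.app (op (Over.mk a)) (ptSec x)
      res := fun {W W'} m a x => (NatTrans.naturality_apply c.hom
        (Over.homMk m rfl : Over.mk (m ≫ a) ⟶ Over.mk a).op (ptSec x)).symm
      add := fun {W} a x x' => map_add (c.hom.app (op (Over.mk a))).hom (ptSec x) (ptSec x') }
  let U : T.left.affineOpens → Over S := fun V => Over.mk (V.2.fromSpec ≫ T.hom)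
  let g : ∀ V, U V ⟶ T := fun V => Over.homMk V.2.fromSpec rfl
  have hU : Sieve.ofArrows U g ∈ QuotSh.J Scheme.fppfPrecoverage S T := by
    show Sieve.overEquiv _ _ ∈ Scheme.fppfPrecoverage.toGrothendieck T.left
    rw [Sieve.overEquiv_ofArrows]
    refine Precoverage.generate_mem_toGrothendieck (J := Scheme.precoverage (Pfppf : MorphismProperty Scheme.{u})) ?_
    rw [Scheme.ofArrows_mem_precoverage_iff]
    refine ⟨fun x => ?_, fun V => by
      haveI := V.2.isOpenImmersion_fromSpec
      exact ⟨show Flat V.2.fromSpec from inferInstance,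
        show LocallyOfFinitePresentation V.2.fromSpec from inferInstance⟩⟩
    obtain ⟨V, hV, hxV, -⟩ := exists_isAffineOpen_mem_and_subset (x := x) (U := ⊤) trivial
    refine ⟨⟨V, hV⟩, ?_⟩
    have : x ∈ (V : Set T.left) := hxV
    rw [← hV.range_fromSpec] at this
    exact this
  refine GrothendieckTopology.transitive _ hU _ ?_
  rintro W b hb
  rw [Sieve.mem_ofArrows_iff] at hb
  obtain ⟨V, a, rfl⟩ := hb
  rw [Sieve.pullback_comp]
  refine (QuotSh.J Scheme.fppfPrecoverage S).pullback_stable a ?_
  -- the affine piece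
  let A := Γ(T.left, V.1)
  let c₀ : Spec A ⟶ S := V.2.fromSpec ≫ T.hom
  rcases subsingleton_or_nontrivial A with hA | hA
  · refine (QuotSh.J Scheme.fppfPrecoverage S).superset_covering ?_ ((QuotSh.J Scheme.fppfPrecoverage S).top_mem _)
    rintro W' a' -
    refine ⟨(0 : (CGrpSh2.Ga Scheme.fppfPrecoverage S).over W' ⟶ I.over W'), ?_⟩
    refine Sheaf.hom_ext (NatTrans.ext (funext fun Y => AddCommGrpCat.ext fun x => ?_))
    have hE : IsEmpty (Spec A) := inferInstanceAs (IsEmpty (PrimeSpectrum A))
    haveI : IsEmpty Y.unop.left.left :=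
      ⟨fun z => hE.false ((Y.unop.hom ≫ a').left z : Spec A)⟩
    exact eq_of_isEmpty (W := Y.unop.left) Z _ _
  have hpA : (p : A) = 0 := by
    have h := congrArg (T.hom.appLE ⊤ V.1 le_top).hom hp
    rwa [map_natCast, map_zero] at h
  haveI : CharP A p := (CharP.charP_iff_prime_eq_zero (Fact.out : p.Prime)).2 hpA
  let d₀ : AddData (Red.Ga S) Z (Over.mk c₀) := d.restrict (g V)
  obtain ⟨e₁, y, hy⟩ := exists_universal_lift (A := (A : Type u)) p E d₀
  haveI := e₁.charP (p := p)
  let c₁ : Spec (CommRingCat.of e₁.B) ⟶ S := (Ch (A := (A : Type u)) c₀ e₁.B).hom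
  let d₁ : AddData (Red.Ga S) Z (Over.mk c₁) := d₀.restrict (chBase (A := (A : Type u)) c₀ e₁.B)
  obtain ⟨e₂, δ, hδ⟩ := exists_additive_lift (c := c₁) E d₁ p (y := y) hy
  refine GrothendieckTopology.transitive _ (mem_rootExt (A := (A : Type u)) c₀ e₁) _ ?_
  rintro W' b' hb'
  rw [Sieve.mem_ofArrows_iff] at hb'
  obtain ⟨-, a₁, rfl⟩ := hb'
  rw [Sieve.pullback_comp]
  refine (QuotSh.J Scheme.fppfPrecoverage S).pullback_stable a₁ ?_
  refine (QuotSh.J Scheme.fppfPrecoverage S).superset_covering ?_ (mem_rootExt c₁ e₂)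
  rintro W'' b'' hb''
  rw [Sieve.mem_ofArrows_iff] at hb''
  obtain ⟨-, a₂, rfl⟩ := hb''
  refine ⟨(toHom δ a₂ : (CGrpSh2.Ga Scheme.fppfPrecoverage S).over W'' ⟶ I.over W''), ?_⟩
  refine Sheaf.hom_ext (NatTrans.ext (funext fun Y => AddCommGrpCat.ext fun x => ?_))
  refine (hδ (Y.unop.hom ≫ a₂) x.down.toMul).trans ?_
  show c.hom.app (op (Over.mk (((_ ≫ _) ≫ _) ≫ g V))) x = c.hom.app (op (Over.mk _)) x
  exact Groth.Agent.GaExt.app_congr c (by simp only [Category.assoc]; try rfl) x

open CategoryTheory AlgebraicGeometry CategoryTheory.Limits in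
open Groth.Agent in
/-- For a scheme S over the prime field with p elements (p = 0 in the global sections of S), the fppf
sheaf 𝓔xt^1_S(G_a, G_m), the first Ext sheaf of the additive group with values in the multiplicative
group on the big fppf site of S, vanishes. (This fails for schemes over the rationals.) -/
theorem result (S : Scheme.{u}) (p : ℕ) [Fact p.Prime]
    (hp : (p : Γ(S, ⊤)) = 0) :
    IsZero ((HomSh.extSh (QuotSh.J Scheme.fppfPrecoverage S) (CGrpSh2.Ga Scheme.fppfPrecoverage S) 1).obj (CGrpSh2.Gm Scheme.fppfPrecoverage S)) := by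
  rw [HomSh.extSh_def]
  refine isZero_R1 (QuotSh.J Scheme.fppfPrecoverage S) (CGrpSh2.Ga Scheme.fppfPrecoverage S)
    (CGrpSh2.Gm Scheme.fppfPrecoverage S) ?_
  intro T c
  exact imageSieve_mem' S p hp (Injective.ι (CGrpSh2.Gm Scheme.fppfPrecoverage S))
    (cokernel.π (Injective.ι (CGrpSh2.Gm Scheme.fppfPrecoverage S))) (cokernel.condition _)
    (shortExact_ι (CGrpSh2.Gm Scheme.fppfPrecoverage S)) c

end Groth.Agent.S13478
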