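import Groth.Statements.S10667
import Groth.Agent.AlgSpDec.KoszulWhere
import Groth.Agent.AlgSpLib.FlatAt
import Groth.Agent.AlgSpLib.EtLocalInst
import Groth.Agent.KRegLib.FpqcDescent
import Groth.Agent.KRegLib.BaseChange

set_option autoImplicit false
universe u
open CategoryTheory CategoryTheory.Limits AlgebraicGeometry
open AlgSp

namespace Groth.Agent.S10667

set_option backward.isDefEq.respectTransparency false
set_option backward.isDefEq.respectTransparency.types false

/-- The property of being a local complete intersection morphism of algebraic spaces over S is fpqc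
local on the base: for an fpqc covering of an algebraic space Y by algebraic spaces Y_i and pullback
squares X_i = X ×_Y Y_i, a morphism f : X ⟶ Y is a local complete intersection morphism if and only
if every base change X_i ⟶ Y_i is. -/
theorem result {S : Scheme.{u}} : AlgSp.IsLocalOnBase (AlgSp.IsFpqcCover (S := S)) AlgSp.IsLCIMor := by
  intro ι Y Yi g hY hYi hg X f hX Xi p q hXi sq
  obtain ⟨V, b, hb, hb'⟩ := hY.atlas
  obtain ⟨U, e, h, he, hes, hh⟩ := Groth.Agent.AlgSpLib.exists_chart_over hX hY f b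
  have ha : AlgSp.RepWith @Etale (e ≫ pullback.fst f b) :=
    Groth.Agent.AlgSpLib.repWith_comp he (Groth.Agent.AlgSpLib.repWith_fst f hb)
  have has : AlgSp.RepWith @Surjective (e ≫ pullback.fst f b) :=
    Groth.Agent.AlgSpLib.repWith_comp hes (Groth.Agent.AlgSpLib.repWith_fst f hb')
  have hw : (e ≫ pullback.fst f b) ≫ f = (AlgSp.yon S).map h ≫ b := by
    rw [Category.assoc, pullback.condition, ← Category.assoc, hh]
  choose A eA cA heA heAs hcA using fun i => Groth.Agent.AlgSpLib.exists_chart_over (hYi i) hY (g i) b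
  have hAe : ∀ i, AlgSp.RepWith @Etale (eA i ≫ pullback.fst (g i) b) := fun i =>
    Groth.Agent.AlgSpLib.repWith_comp (heA i) (Groth.Agent.AlgSpLib.repWith_fst (g i) hb)
  have hAs : ∀ i, AlgSp.RepWith @Surjective (eA i ≫ pullback.fst (g i) b) := fun i =>
    Groth.Agent.AlgSpLib.repWith_comp (heAs i) (Groth.Agent.AlgSpLib.repWith_fst (g i) hb')
  have hAw : ∀ i, (eA i ≫ pullback.fst (g i) b) ≫ g i = (AlgSp.yon S).map (cA i) ≫ b := fun i => by
    rw [Category.assoc, pullback.condition, ← Category.assoc, hcA i]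
  have hflat : ∀ i, Flat (cA i).left := fun i => hg.1 i _ b (cA i) (hAe i) hb (hAw i)
  choose U' cU h' a' sU ha' has' hw' hac using fun i =>
    Groth.Agent.AlgSpLib.exists_chart_baseChange (sq i) (hAw i) hh he hes (hAe i) (hAs i)
  constructor
  · intro hf i
    rw [Groth.Agent.AlgSpDec.KoszulWhere.isLCIMor_iff]
    intro x'
    obtain ⟨u', rfl⟩ := Groth.Agent.AlgSpLib.surjective_ofPt (has' i) x'
    refine (Groth.Agent.AlgSpDec.KoszulWhere.mem_kosz_iff (ha' i) (hAe i) (hw' i) u').2 ?_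
    haveI : Flat ((Over.forget S).map (cA i)) := hflat i
    exact (KRegLib.forall_isKoszulAt_iff _).2 (KRegLib.isLCI'_of_isPullback ((sU i).map (Over.forget S))
      ((KRegLib.forall_isKoszulAt_iff h.left).1 (hf _ b h ha hb hw))) u'
  · intro hp
    rw [Groth.Agent.AlgSpDec.KoszulWhere.isLCIMor_iff]
    intro x
    obtain ⟨u, rfl⟩ := Groth.Agent.AlgSpLib.surjective_ofPt has x
    refine (Groth.Agent.AlgSpDec.KoszulWhere.mem_kosz_iff ha hb hw u).2 ?_
    suffices key : KRegLib.IsLCI' h.left from (KRegLib.forall_isKoszulAt_iff h.left).2 key u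
    rw [IsZariskiLocalAtTarget.iff_of_iSup_eq_top (P := KRegLib.IsLCI'.{u}) _ (iSup_affineOpens_eq_top V.left)]
    intro Z
    let ιZ : (Over.mk (Z.1.ι ≫ V.hom) : Over S) ⟶ V := Over.homMk Z.1.ι rfl
    obtain ⟨m, W, c, hW, -, hsurj, hl⟩ := hg.2 (Over.mk (Z.1.ι ≫ V.hom)) Z.2 ((AlgSp.yon S).map ιZ ≫ b)
    choose i l hl using hl
    -- finitely many affine opens of the charts of the covering spaces cover `Z`
    have hfin : ∀ j, ∃ t : Finset {O : (A (i j)).left.Opens // IsAffineOpen O ∧ O ≤ (cA (i j)).left ⁻¹ᵁ Z.1},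
        ∀ w : (W j).left, ∃ O ∈ t, ∃ z ∈ O.1, (cA (i j)).left z = (c j ≫ ιZ).left w := by
      intro j
      let μ : (AlgSp.yon S).obj (W j) ⟶ pullback (g (i j)) b := pullback.lift (l j)
        ((AlgSp.yon S).map (c j ≫ ιZ)) (by rw [hl, Functor.map_comp, Category.assoc])
      let π := (heA (i j)).rep.snd μ
      let σ := (heA (i j)).rep.fst' μ
      have hπ : Etale π.left := (heA (i j)).property_snd μ
      have hπs : Surjective π.left := (heAs (i j)).property _ _ _ ((heA (i j)).rep.isPullback μ)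
      have hσ : σ ≫ cA (i j) = π ≫ c j ≫ ιZ := (AlgSp.yon S).map_injective (by
        rw [Functor.map_comp, ← hcA, ← Category.assoc, ((heA (i j)).rep.isPullback' μ).w, Category.assoc,
          pullback.lift_snd, ← Functor.map_comp])
      have hσ' : ∀ y, (cA (i j)).left (σ.left y) = (c j ≫ ιZ).left (π.left y) := fun y =>
        congrArg (fun φ : ((heA (i j)).rep.pullback μ).left ⟶ V.left => φ y) (congrArg CommaMorphism.left hσ)
      haveI := hW j
      obtain ⟨t, ht⟩ := (isCompact_univ (X := (W j).left)).elim_finite_subcover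
        (fun O : {O : (A (i j)).left.Opens // IsAffineOpen O ∧ O ≤ (cA (i j)).left ⁻¹ᵁ Z.1} =>
          π.left '' (σ.left ⁻¹' (O.1 : Set (A (i j)).left)))
        (fun O => π.left.isOpenMap _ (O.1.isOpen.preimage σ.left.continuous)) (by
          intro w _
          obtain ⟨y, rfl⟩ := hπs.surj w
          have hy : σ.left y ∈ (cA (i j)).left ⁻¹ᵁ Z.1 := by
            show (cA (i j)).left (σ.left y) ∈ Z.1
            rw [hσ']
            exact ((c j).left (π.left y)).2
          obtain ⟨O, hO, hyO, hle⟩ := exists_isAffineOpen_mem_and_subset hy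
          exact Set.mem_iUnion.2 ⟨⟨O, hO, hle⟩, y, hyO, rfl⟩)
      refine ⟨t, fun w => ?_⟩
      obtain ⟨O, hO, y, hy, rfl⟩ := Set.mem_iUnion₂.1 (ht (Set.mem_univ w))
      exact ⟨O, hO, σ.left y, hy, hσ' y⟩
    choose t ht using hfin
    let K := Σ j, ↥(t j)
    let T : K → Scheme.{u} := fun k => (k.2.1.1 : (A (i k.1)).left.Opens)
    let r : ∀ k : K, T k ⟶ Z.1 := fun k => (cA (i k.1)).left.resLE Z.1 k.2.1.1 k.2.1.2.2
    have hr : ∀ k, r k ≫ Z.1.ι = k.2.1.1.ι ≫ (cA (i k.1)).left := fun k => Scheme.Hom.resLE_comp_ι _ _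
    let C : (∐ T) ⟶ Z.1 := Sigma.desc r
    haveI : Surjective C := ⟨fun z => by
      obtain ⟨j, w, hwz⟩ := hsurj z
      obtain ⟨O, hO, y, hy, hyw⟩ := ht j w
      refine ⟨Sigma.ι T ⟨j, O, hO⟩ ⟨y, hy⟩, Subtype.ext ?_⟩
      show Z.1.ι (C (Sigma.ι T ⟨j, O, hO⟩ ⟨y, hy⟩)) = Z.1.ι z
      rw [← Scheme.Hom.comp_apply C, ← Scheme.Hom.comp_apply (Sigma.ι T _), ← Category.assoc, Sigma.ι_desc, hr]
      show (cA (i j)).left y = _
      rw [hyw, ← hwz]
      rfl⟩
    haveI : Flat C := by
      rw [IsZariskiLocalAtSource.iff_of_openCover (P := @Flat) (sigmaOpenCover _)]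
      intro k
      rw [sigmaOpenCover_f, Sigma.ι_desc]
      haveI := hflat (i k.1)
      exact inferInstanceAs (Flat ((cA (i k.1)).left.resLE Z.1 k.2.1.1 k.2.1.2.2))
    haveI : ∀ k, IsAffine (T k) := fun k => k.2.1.2.1
    haveI : IsAffine (Z.1 : Scheme.{u}) := Z.2
    refine KRegLib.isLCI'_of_fpqc (IsPullback.of_hasPullback (h.left ∣_ Z.1) C) ?_
    rw [IsZariskiLocalAtTarget.iff_of_openCover (P := KRegLib.IsLCI'.{u}) (sigmaOpenCover _)]
    intro k
    have s1 := ((IsPullback.of_hasPullback (pullback.snd (h.left ∣_ Z.1) C)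
        ((sigmaOpenCover T).f k)).paste_horiz
      (IsPullback.of_hasPullback (h.left ∣_ Z.1) C)).paste_horiz (isPullback_morphismRestrict h.left Z.1).flip
    rw [show (sigmaOpenCover T).f k ≫ C = r k by rw [sigmaOpenCover_f, Sigma.ι_desc], hr k] at s1
    have s2 : IsPullback (cU (i k.1)).left (h' (i k.1)).left h.left (cA (i k.1)).left :=
      (sU (i k.1)).map (Over.forget S)
    have s3 := (IsPullback.of_hasPullback (h' (i k.1)).left k.2.1.1.ι).paste_horiz s2
    have hl1 : KRegLib.IsLCI' (h' (i k.1)).left := (KRegLib.forall_isKoszulAt_iff _).1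
      (hp (i k.1) _ _ _ (ha' (i k.1)) (hAe (i k.1)) (hw' (i k.1)))
    have hl2 : KRegLib.IsLCI' (pullback.snd (h' (i k.1)).left k.2.1.1.ι) :=
      KRegLib.isLCI'_of_isPullback (IsPullback.of_hasPullback _ _) hl1
    rw [Scheme.Cover.pullbackHom]
    rw [← s1.isoIsPullback_hom_snd _ _ s3]
    exact (MorphismProperty.cancel_left_of_respectsIso KRegLib.IsLCI' _ _).2 hl2

end Groth.Agent.S10667
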