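import Groth.Statements.S1694
import Groth.Agent.BlowSep.Compose
import Groth.Agent.BlowUpX.Basic
-- import your own Groth.Agent.* helpers here

set_option autoImplicit false
universe u
open CategoryTheory CategoryTheory.Limits AlgebraicGeometry TopologicalSpace
open SDiv

namespace Groth.Agent.S1694

open Groth.Agent AlgebraicGeometry.Scheme

/-- Let X be a quasi-compact quasi-separated scheme, 𝓘 a quasi-coherent ideal sheaf of finite type, b :
X' ⟶ X a blowing-up along 𝓘, 𝓙 a quasi-coherent ideal sheaf of finite type on X' and b' : X'' ⟶ X' a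
blowing-up along 𝓙. Then there is a quasi-coherent ideal sheaf 𝓚 of finite type on X whose support
is the union of the support of 𝓘 and the image under b of the support of 𝓙, such that b' ≫ b is a
blowing-up of X along 𝓚. -/
theorem result (X : Scheme.{u}) [CompactSpace ↥X] [QuasiSeparatedSpace ↥X] {X' X'' : Scheme.{u}}
    (𝓘 : X.IdealSheafData) (h𝓘 : BlowUp.IsFiniteTypeIdeal 𝓘) (b : X' ⟶ X) (hb : BlowUp.IsBlowUp b 𝓘)
    (𝓙 : X'.IdealSheafData) (h𝓙 : BlowUp.IsFiniteTypeIdeal 𝓙) (b' : X'' ⟶ X') (hb' : BlowUp.IsBlowUp b' 𝓙) :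
    ∃ 𝓚 : X.IdealSheafData, BlowUp.IsFiniteTypeIdeal 𝓚 ∧
      (𝓚.support : Set ↥X) = (𝓘.support : Set ↥X) ∪ (fun x' => b x') '' (𝓙.support : Set ↥X') ∧
      BlowUp.IsBlowUp (b' ≫ b) 𝓚 := by
  obtain ⟨N, K, hK, hKb⟩ := BlowSep.Compose.exists_comap_eq_mul_pow b 𝓘 𝓙 h𝓘 hb h𝓙
  have hKI : BlowUp.IsFiniteTypeIdeal (K * 𝓘) := fun U => by
    rw [IdealSheafData.ideal_mul, Pi.mul_apply]
    exact (hK U).mul (h𝓘 U)
  have hpow : ∀ {Y : Scheme.{u}} (A : Y.IdealSheafData), BlowUp.IsEffCartierIdeal A →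
      BlowUp.IsEffCartierIdeal (A ^ N) := by
    intro Y A hA
    clear hKb
    induction N with
    | zero => rw [pow_zero, IdealSheafData.one_eq_top]; exact BlowUpX.isEffCartier_top
    | succ n ih => rw [pow_succ]; exact ModPairLib.isEffCartier_mul ih hA
  have hmem : ∀ x' : X', (b x' ∈ (K.support : Set X) ↔ x' ∈ (𝓙.support : Set X') ∨
        x' ∈ ((𝓘.comap b ^ N).support : Set X')) := by
    intro x'
    have : x' ∈ ((K.comap b).support : Set X') ↔ b x' ∈ (K.support : Set X) := by
      rw [IdealSheafData.support_comap]; rfl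
    rw [← this, hKb, IdealSheafData.support_mul]
    rfl
  refine ⟨K * 𝓘, hKI, Set.ext fun x => ?_, ?_, fun Y g hg => ?_⟩
  · rw [IdealSheafData.support_mul]
    show x ∈ (K.support : Set X) ∨ x ∈ (𝓘.support : Set X) ↔ _
    constructor
    · intro h
      by_cases hxI : x ∈ (𝓘.support : Set X)
      · exact Or.inl hxI
      refine Or.inr ?_
      have hxK := h.resolve_right hxI
      haveI := BlowUpX.isIso_restrict hb
      let y := (inv (b ∣_ 𝓘.support.compl)) ⟨x, hxI⟩
      have hy : b y.1 = x := by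
        have e : (inv (b ∣_ 𝓘.support.compl) ≫ b ∣_ 𝓘.support.compl) ⟨x, hxI⟩ = ⟨x, hxI⟩ := by
          rw [IsIso.inv_hom_id]; rfl
        have e2 : ((b ∣_ 𝓘.support.compl) y).1 = x := congrArg Subtype.val e
        rw [← e2]
        exact (congrArg (fun f => f y) (morphismRestrict_ι b 𝓘.support.compl)).symm
      refine ⟨y.1, ((hmem y.1).1 (hy.symm ▸ hxK)).resolve_right fun hp => hxI ?_, hy⟩
      rw [← hy]
      cases N with
      | zero => rw [pow_zero, IdealSheafData.one_eq_top, IdealSheafData.support_top] at hp; exact hp.elim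
      | succ n =>
        rw [IdealSheafData.support_pow _ _ n.succ_ne_zero, IdealSheafData.support_comap] at hp
        exact hp
    · rintro (h | ⟨x', hx', rfl⟩)
      · exact Or.inr h
      · exact Or.inl ((hmem x').2 (Or.inl hx'))
  · rw [IdealSheafData.comap_comp, ModPairLib.ideal_comap_mul K 𝓘 b, hKb,
      ModPairLib.ideal_comap_mul, ModPairLib.ideal_comap_mul]
    have := ModPairLib.isEffCartier_comap_blowUp hb' hb.1
    refine ModPairLib.isEffCartier_mul (ModPairLib.isEffCartier_mul hb'.1 ?_) this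
    rw [FComplLib.comap_pow]
    exact hpow _ this
  · rw [ModPairLib.ideal_comap_mul] at hg
    have hI : BlowUp.IsEffCartierIdeal (𝓘.comap g) :=
      BlowUpX.isEffCartier_left_of_mul (mul_comm (K.comap g) (𝓘.comap g) ▸ hg)
    have hK' := BlowUpX.isEffCartier_left_of_mul hg
    obtain ⟨h, hh, hu⟩ := hb.2 Y g hI
    try dsimp only at hh
    rw [← hh, IdealSheafData.comap_comp, hKb, ModPairLib.ideal_comap_mul] at hK'
    obtain ⟨h', hh', hu'⟩ := hb'.2 Y h (BlowUpX.isEffCartier_left_of_mul hK')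
    try dsimp only at hh'
    refine ⟨h', by simp [reassoc_of% hh', hh], fun h'' hh'' => hu' h'' (hu (h'' ≫ b') ?_)⟩
    try dsimp only at hh'' ⊢
    rw [Category.assoc, hh'']

end Groth.Agent.S1694
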