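import Groth.Statements.S3320
import Groth.Agent.MdlInter.Conn
import Groth.Agent.S2171

set_option autoImplicit false
set_option backward.isDefEq.respectTransparency false
set_option backward.isDefEq.respectTransparency.types false
set_option maxHeartbeats 1000000
set_option linter.style.haveILetI false
universe u
open CategoryTheory CategoryTheory.Limits AlgebraicGeometry
open Models

namespace Groth.Agent.S3320

/-- In the following situation (R a discrete valuation ring, C a smooth proper curve over its fraction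
field with H^0(C, O_C) = K, X a regular proper model, Γ_1, …, Γ_n the irreducible components of the
closed fibre with multiplicities m_i, L_j ⊗ I(Γ_j) ≅ O_X), for every integer vector a one has
Σ_{i,j} a_i a_j (Γ_i · Γ_j) ≤ 0, with equality if and only if a is a rational multiple of (m_1, …,
m_n). -/
theorem result (R : Type u) [CommRing R] [IsDomain R] [IsDiscreteValuationRing R]
    (C X : Scheme.{u}) (f : C ⟶ Spec (CommRingCat.of (FractionRing R))) (p : X ⟶ Spec (CommRingCat.of R))
    (hC : Curve.IsSmoothProperCurve (FractionRing R) C f) (hH0 : IsIso f.appTop)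
    (hX : Models.IsRegularProperModel R X p C f)
    {n : ℕ} (Γ : Fin n → ArSurf.VertComp R (Over.mk p)) (hΓ : Models.IsComponentList R (Over.mk p) Γ)
    (L : Fin n → X.Modules) (hL : ∀ i, ClSub.IsInverseOf (L i) (ClSub.idealMod (Γ i).ι.ker)) (a : Fin n → ℤ) :
    (∑ q : Fin n × Fin n, a q.1 * a q.2 * ArSurf.inter R (Over.mk p) (L q.2) (Γ q.1)) ≤ 0 ∧
      ((∑ q : Fin n × Fin n, a q.1 * a q.2 * ArSurf.inter R (Over.mk p) (L q.2) (Γ q.1)) = 0 ↔
        ∃ c : ℚ, ∀ i, (a i : ℚ) = c * (Models.mult R (Over.mk p) (Γ i) : ℚ)) := by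
  haveI := hX.2.1
  have S := MdlInter.setting_of_model hX hΓ
  classical
  let A : Matrix (Fin n) (Fin n) ℝ := Matrix.of fun i j => (ArSurf.inter R (Over.mk p) (L j) (Γ i) : ℝ)
  let m : Fin n → ℝ := fun i => (Models.mult R (Over.mk p) (Γ i) : ℝ)
  have hm : ∀ i, 0 < m i := fun i => Nat.cast_pos.2 (S.mult_pos i)
  have hAm : A.mulVec m = 0 := by
    funext i
    have h := congrArg (fun z : ℤ => (z : ℝ)) (S.sum_mult_inter L hL i)
    simp only [Int.cast_sum, Int.cast_mul, Int.cast_natCast, Int.cast_zero] at h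
    simp only [Matrix.mulVec, dotProduct, A, m, Matrix.of_apply, Pi.zero_apply]
    rw [← h]
    exact Finset.sum_congr rfl fun j _ => mul_comm _ _
  have key := Groth.Agent.S2171.result A m
    (by ext i j; simp [A, Matrix.transpose_apply, Matrix.of_apply, S.inter_comm L hL i j])
    (fun i j h => by simpa [A] using (Int.cast_nonneg (R := ℝ) (S.inter_nonneg L hL h))) hm hAm
    (fun I hI hI' => by
      obtain ⟨i, hi, j, hj, h⟩ := MdlInter.exists_meeting hH0 hX hΓ L hL I hI hI'
      exact ⟨i, hi, j, hj, by simpa [A] using h⟩)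
    (fun i => (a i : ℝ))
  have hq : dotProduct (fun i => (a i : ℝ)) (A.mulVec fun i => (a i : ℝ)) =
      ((∑ q : Fin n × Fin n, a q.1 * a q.2 * ArSurf.inter R (Over.mk p) (L q.2) (Γ q.1) : ℤ) : ℝ) := by
    rw [Fintype.sum_prod_type]
    push_cast
    simp only [dotProduct, Matrix.mulVec, Finset.mul_sum, A, Matrix.of_apply]
    exact Finset.sum_congr rfl fun i _ => Finset.sum_congr rfl fun j _ => by ring
  rw [hq] at key
  refine ⟨by exact_mod_cast key.1, ⟨fun h => ?_, fun ⟨c, hc⟩ => ?_⟩⟩
  · obtain ⟨q, hq'⟩ := key.2.1 (by rw [h]; simp)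
    rcases Nat.eq_zero_or_pos n with hn | hn
    · exact ⟨0, fun i => absurd i.2 (by omega)⟩
    refine ⟨(a ⟨0, hn⟩ : ℚ) / (Models.mult R (Over.mk p) (Γ ⟨0, hn⟩) : ℚ), fun i => ?_⟩
    have h0 := congrFun hq' ⟨0, hn⟩
    have hi := congrFun hq' i
    simp only [Pi.smul_apply, smul_eq_mul, m] at h0 hi
    apply Rat.cast_injective (α := ℝ)
    push_cast
    rw [hi, h0, mul_div_assoc, div_self (hm ⟨0, hn⟩).ne', mul_one]
  · have h := key.2.2 ⟨(c : ℝ), funext fun i => ?_⟩
    · exact_mod_cast h
    · have := congrArg (fun z : ℚ => (z : ℝ)) (hc i)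
      push_cast at this
      simpa [m] using this

end Groth.Agent.S3320
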