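import Groth.Statements.S18828
import Groth.Agent.LocalCrit.Flatness
import Groth.Agent.S5336
import Mathlib.AlgebraicGeometry.Morphisms.FlatMono
import Mathlib.RingTheory.Artinian.Instances

set_option autoImplicit false
universe u
open CategoryTheory MonoidalCategory CartesianMonoidalCategory MonObj AlgebraicGeometry
open AlgGrp

namespace Groth.Agent.S18828

/-- A local homomorphism bijective modulo all powers of the maximal ideals is flat. -/
theorem flat_of_bijective_mod_pow {A B : Type u} [CommRing A] [CommRing B] [IsLocalRing A] [IsLocalRing B]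
    [IsNoetherianRing A] [IsNoetherianRing B] (φ : A →+* B)
    (h : ∀ n : ℕ, Function.Surjective ((Ideal.Quotient.mk (IsLocalRing.maximalIdeal B ^ (n + 1))).comp φ) ∧
      ∀ a : A, φ a ∈ IsLocalRing.maximalIdeal B ^ (n + 1) ↔ a ∈ IsLocalRing.maximalIdeal A ^ (n + 1)) :
    φ.Flat := by
  algebraize [φ]
  let mA := IsLocalRing.maximalIdeal A
  let mB := IsLocalRing.maximalIdeal B
  have hmem : ∀ a : A, φ a ∈ mB ↔ a ∈ mA := fun a => by
    have h0 := (h 0).2 a
    rwa [Nat.zero_add, pow_one, pow_one] at h0
  have hle : mA.map φ ≤ mB := Ideal.map_le_iff_le_comap.2 fun a ha => (hmem a).2 ha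
  have hgen : mA.map φ = mB := by
    refine le_antisymm hle ?_
    refine Submodule.le_of_le_smul_of_le_jacobson_bot (IsNoetherian.noetherian mB)
      (IsLocalRing.maximalIdeal_le_jacobson _) (fun x hx => ?_)
    obtain ⟨a, ha⟩ := (h 1).1 (Ideal.Quotient.mk _ x)
    rw [RingHom.comp_apply, Ideal.Quotient.mk_eq_mk_iff_sub_mem, pow_succ, pow_one] at ha
    have haA : a ∈ mA := (hmem a).1 (by
      have := mB.sub_mem hx (Ideal.neg_mem_iff mB |>.2 (Ideal.mul_le_left ha))
      simpa using this)
    refine Submodule.mem_sup.2 ⟨φ a, Ideal.mem_map_of_mem _ haA, x - φ a, ?_, by ring⟩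
    rw [Ideal.smul_eq_mul]
    have := neg_mem ha
    simpa using this
  refine LocalCrit.flat_of_forall_quotient_pow (B := B) mA (hgen.le.trans (IsLocalRing.maximalIdeal_le_jacobson _)) fun n => ?_
  intro N N' _ _ _ _ g hN hN' hg
  rcases n with _ | n
  · have : Subsingleton N := ⟨fun x y => by
      have hx := @hN x ⟨1, by simp⟩
      have hy := @hN y ⟨1, by simp⟩
      rw [one_smul] at hx hy
      rw [hx, hy]⟩
    exact Function.injective_of_subsingleton _
  let P : Ideal A := mA ^ (n + 1)
  let Q : Ideal B := mB ^ (n + 1)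
  let ψ : A →+* B ⧸ Q := (Ideal.Quotient.mk Q).comp φ
  have hker : RingHom.ker ψ = P := by
    ext a
    rw [RingHom.mem_ker, RingHom.comp_apply, Ideal.Quotient.eq_zero_iff_mem]
    exact (h n).2 a
  let e : A ⧸ P ≃+* B ⧸ Q := (Ideal.quotEquivOfEq hker.symm).trans (RingHom.quotientKerEquivOfSurjective (h n).1)
  let ρ : B →+* A ⧸ P := e.symm.toRingHom.comp (Ideal.Quotient.mk Q)
  have hρ : ∀ a : A, ρ (φ a) = Ideal.Quotient.mk P a := fun a => by
    refine (RingEquiv.symm_apply_eq e).2 ?_
    rfl
  have hdec : ∀ b : B, ∃ a : A, b - φ a ∈ P.map φ := fun b => by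
    obtain ⟨a, ha⟩ := (h n).1 (Ideal.Quotient.mk _ b)
    refine ⟨a, ?_⟩
    rw [RingHom.comp_apply, eq_comm, Ideal.Quotient.mk_eq_mk_iff_sub_mem] at ha
    show b - φ a ∈ Ideal.map φ (mA ^ (n + 1))
    rw [Ideal.map_pow, hgen]
    exact ha
  -- every tensor is `x ⊗ 1`
  have hone : ∀ t : TensorProduct A N B, ∃ x : N, t = TensorProduct.tmul A x (1 : B) := by
    have hkill : ∀ (y : N) (c : B), c ∈ P.map φ → TensorProduct.tmul A y c = 0 := by
      intro y c hc
      induction hc using Submodule.span_induction with
      | mem c hc =>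
        obtain ⟨a, ha, rfl⟩ := hc
        have ea : (φ a : B) = a • (1 : B) := (Algebra.smul_def a (1 : B)).trans (mul_one _) |>.symm
        rw [ea, ← TensorProduct.smul_tmul, @hN y ⟨a, ha⟩, TensorProduct.zero_tmul]
      | zero => exact TensorProduct.tmul_zero _ _
      | add _ _ _ _ h1 h2 => rw [TensorProduct.tmul_add, h1, h2, add_zero]
      | smul r c _ h1 =>
        have := congrArg ((Algebra.lsmul A A B r).lTensor N) h1
        rw [LinearMap.lTensor_tmul, map_zero] at this
        exact this
    intro t
    induction t using TensorProduct.induction_on with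
    | zero => exact ⟨0, (TensorProduct.zero_tmul _ _).symm⟩
    | tmul y b =>
      obtain ⟨a, ha⟩ := hdec b
      refine ⟨a • y, ?_⟩
      have h1 := hkill y _ ha
      rw [TensorProduct.tmul_sub, sub_eq_zero] at h1
      rw [h1, TensorProduct.smul_tmul]
      congr 1
      exact ((Algebra.smul_def a (1 : B)).trans (mul_one _)).symm
    | add t t' h1 h2 =>
      obtain ⟨x, rfl⟩ := h1
      obtain ⟨y, rfl⟩ := h2
      exact ⟨x + y, (TensorProduct.add_tmul _ _ _).symm⟩
  -- and `x` is determined by it
  letI : Module (A ⧸ P) N' := hN'.module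
  have hsm : ∀ (a : A) (y : N'), Ideal.Quotient.mk P a • y = a • y := fun a y => rfl
  let L : TensorProduct A N' B →ₗ[A] N' := TensorProduct.lift
    (LinearMap.mk₂ A (fun y b => ρ b • y) (fun _ _ _ => smul_add _ _ _)
      (fun a y b => by
        obtain ⟨r, hr⟩ := Ideal.Quotient.mk_surjective (ρ b)
        rw [← hr, hsm, hsm, smul_comm])
      (fun y b b' => by rw [map_add, add_smul])
      (fun a y b => by
        obtain ⟨r, hr⟩ := Ideal.Quotient.mk_surjective (ρ b)
        rw [Algebra.smul_def, map_mul, show ρ (algebraMap A B a) = Ideal.Quotient.mk P a from hρ a,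
          ← hr, mul_smul, hsm, hsm]))
  rw [← LinearMap.ker_eq_bot, eq_bot_iff]
  intro t ht
  obtain ⟨x, rfl⟩ := hone t
  rw [LinearMap.mem_ker, LinearMap.rTensor_tmul] at ht
  have h1 : (ρ (1 : B)) • g x = 0 := by
    have := congrArg L ht
    rw [map_zero] at this
    exact this
  rw [map_one, one_smul] at h1
  rw [hg (h1.trans (map_zero g).symm), TensorProduct.zero_tmul]
  exact Submodule.zero_mem _


/-- Let k be a field and f : H → G a homomorphism of locally algebraic groups over k (group k-schemes
locally of finite type). Write e_H for the unit point of H (the image under the unit section of the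
point pt of the base Spec k) and φ : O_{G,f(e_H)} → O_{H,e_H} for the induced local homomorphism of
local rings. Assume (1) φ induces an isomorphism of completed local rings, stated here as: for every
n, φ followed by reduction modulo the (n+1)-st power of the maximal ideal of O_{H,e_H} is
surjective, and an element of O_{G,f(e_H)} maps into that power exactly when it lies in the (n+1)-st
power of the maximal ideal of O_{G,f(e_H)}; and (2) f is a monomorphism of schemes. Then f is an
open immersion. -/
theorem result (k : Type u) [Field k]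
    (H G : Over (Spec (CommRingCat.of k))) [GrpObj H] [GrpObj G]
    [LocallyOfFiniteType H.hom] [LocallyOfFiniteType G.hom] (f : H ⟶ G) [IsMonHom f] [Mono f.left]
    (pt : ↥(𝟙_ (Over (Spec (CommRingCat.of k)))).left)
    (h : ∀ n : ℕ,
      Function.Surjective ((Ideal.Quotient.mk (IsLocalRing.maximalIdeal
          ↑(H.left.presheaf.stalk (η[H].left.base pt)) ^ (n + 1))).comp
        (f.left.stalkMap (η[H].left.base pt)).hom) ∧
      ∀ a : ↑(G.left.presheaf.stalk (f.left.base (η[H].left.base pt))),
        (f.left.stalkMap (η[H].left.base pt)).hom a ∈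
            IsLocalRing.maximalIdeal ↑(H.left.presheaf.stalk (η[H].left.base pt)) ^ (n + 1) ↔
          a ∈ IsLocalRing.maximalIdeal ↑(G.left.presheaf.stalk (f.left.base (η[H].left.base pt))) ^ (n + 1)) :
    IsOpenImmersion f.left := by
  haveI : IsLocallyNoetherian H.left := LocallyOfFiniteType.isLocallyNoetherian H.hom
  haveI : IsLocallyNoetherian G.left := LocallyOfFiniteType.isLocallyNoetherian G.hom
  haveI : IsArtinianRing k := inferInstance
  haveI : IsLocallyNoetherian (Spec (CommRingCat.of k)) := inferInstance
  haveI : Flat H.hom := inferInstance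
  haveI : LocallyOfFiniteType f.left := by
    haveI : LocallyOfFiniteType (f.left ≫ G.hom) := by rw [Over.w]; infer_instance
    exact locallyOfFiniteType_of_comp f.left G.hom
  haveI : Flat f.left := Groth.Agent.S5336.result k H G f
    ⟨η[H].left.base pt, flat_of_bijective_mod_pow _ h⟩
  haveI : LocallyOfFinitePresentation f.left := inferInstance
  exact IsOpenImmersion.of_flat_of_mono f.left

end Groth.Agent.S18828
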