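import Groth.Statements.S8395
import Groth.Agent.GrpSchLib.PowEtale
-- import your own Groth.Agent.* helpers here

set_option autoImplicit false
universe u
open CategoryTheory MonoidalCategory CartesianMonoidalCategory MonObj GrpObj AlgebraicGeometry
open SGA3x

set_option backward.isDefEq.respectTransparency false

namespace Groth.Agent.S8395

/-- Let k be a field, G a k-group scheme locally of finite type, n an integer invertible in k, and u : G
→ G the n-th power morphism. Then u is etale at every point of G lying in the centre of G; here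
stated at a k-rational point g of G which is central (commutes with all points of G): u is etale on
some open neighbourhood of g. (The published statement is for any point of the centre; its proof
reduces to rational points by extending the base field.) -/
theorem result (k : Type u) [Field k]
    (G : Over (Spec (CommRingCat.of k))) [GrpObj G] [LocallyOfFiniteType G.hom] (n : ℕ) (hn : (n : k) ≠ 0)
    (g : 𝟙_ (Over (Spec (CommRingCat.of k))) ⟶ G)
    (hg : ∀ (X : Over (Spec (CommRingCat.of k))) (x : X ⟶ G), (toUnit X ≫ g) * x = x * (toUnit X ≫ g)) :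
    ∃ U : G.left.Opens, Set.range g.left.base ⊆ (U : Set ↥G.left) ∧
      Etale (U.ι ≫ ((𝟙 G : G ⟶ G) ^ n).left) := by
  obtain ⟨U, hU, hE⟩ := GrpSchLib.PowEtale.loc_etale (X := G) n hn
  have hpt : ∀ (X : Over (Spec (CommRingCat.of k))) (a : 𝟙_ (Over (Spec (CommRingCat.of k))) ⟶ G) (x : X ⟶ G),
      x ≫ ((toUnit G ≫ a) * 𝟙 G) = (toUnit X ≫ a) * x := fun X a x => by
    rw [MonObj.comp_mul, Category.comp_id, ← Category.assoc, comp_toUnit]
  let τ : ∀ _ : 𝟙_ (Over (Spec (CommRingCat.of k))) ⟶ G, G ≅ G := fun a =>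
    { hom := (toUnit G ≫ a) * 𝟙 G
      inv := (toUnit G ≫ a⁻¹) * 𝟙 G
      hom_inv_id := by rw [hpt, GrpObj.comp_inv, inv_mul_cancel_left]
      inv_hom_id := by rw [hpt, GrpObj.comp_inv, mul_inv_cancel_left] }
  have hcomm : (τ g).hom ≫ ((𝟙 G : G ⟶ G) ^ n) = ((𝟙 G : G ⟶ G) ^ n) ≫ (τ (g ^ n)).hom := by
    rw [show (τ (g ^ n)).hom = (toUnit G ≫ g ^ n) * 𝟙 G from rfl, hpt, MonObj.comp_pow, MonObj.comp_pow,
      Category.comp_id]
    exact Commute.mul_pow (hg G (𝟙 G)) n
  haveI : IsIso (τ g).inv.left := ((Over.forget _).mapIso (τ g)).isIso_inv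
  haveI : IsIso (τ (g ^ n)).hom.left := ((Over.forget _).mapIso (τ (g ^ n))).isIso_hom
  let V : G.left.Opens := (τ g).inv.left ⁻¹ᵁ U
  refine ⟨V, ?_, ?_⟩
  · rintro _ ⟨p, rfl⟩
    show (τ g).inv.left (g.left p) ∈ U
    rw [← Scheme.Hom.comp_apply, ← Over.comp_left, show g ≫ (τ g).inv = η[G] by
      rw [show (τ g).inv = (toUnit G ≫ g⁻¹) * 𝟙 G from rfl, hpt, toUnit_unique (toUnit _) (𝟙 _), Category.id_comp,
        inv_mul_cancel, Hom.one_def, toUnit_unique (toUnit _) (𝟙 _), Category.id_comp]]
    rwa [show p = IsLocalRing.closedPoint k from Subsingleton.elim (α := PrimeSpectrum k) _ _]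
  · haveI := hE
    have hrw : V.ι ≫ ((𝟙 G : G ⟶ G) ^ n).left =
        ((τ g).inv.left ∣_ U) ≫ (U.ι ≫ ((𝟙 G : G ⟶ G) ^ n).left) ≫ (τ (g ^ n)).hom.left := by
      rw [← Category.assoc ((τ g).inv.left ∣_ U), ← Category.assoc ((τ g).inv.left ∣_ U) U.ι, morphismRestrict_ι,
        Category.assoc, Category.assoc, ← Over.comp_left, ← Over.comp_left, ← hcomm, Iso.inv_hom_id_assoc]
    rw [hrw]
    infer_instance

end Groth.Agent.S8395
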