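import Groth.Statements.S17388
import Groth.Agent.ZRLim.Birational
import Groth.Agent.ModPairLib.Quot
-- import your own Groth.Agent.* helpers here

set_option autoImplicit false
set_option linter.style.haveILetI false
set_option backward.isDefEq.respectTransparency false
set_option backward.isDefEq.respectTransparency.types false
universe u
open FlatMor

namespace Groth.Agent.S17388

open Groth.Agent AlgebraicGeometry CategoryTheory Limits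
open Scheme (IdealSheafData)

variable {X Y : Scheme.{u}} (π : X ⟶ Y) (U₁ : Y.Opens) [IsIso (π ∣_ U₁)] (U : X.Opens)

/-- The image of a part of the open over which `π` is an isomorphism. -/
noncomputable def img : Y.Opens := U₁.ι ''ᵁ (ZRLim.Bir.sec' π ⁻¹ᵁ U)

theorem preimage_img (hU : U ≤ π ⁻¹ᵁ U₁) : π ⁻¹ᵁ img π U₁ U = U := by
  have key : ∀ x (h : π x ∈ U₁), ZRLim.Bir.sec' π ⟨π x, h⟩ = x := fun x h => by
    have e : (π ∣_ U₁) ⟨x, h⟩ = ⟨π x, h⟩ := ZRLim.restrict_eq _ _ ⟨x, h⟩ _ rfl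
    rw [← e, ZRLim.Bir.sec', ← Scheme.Hom.comp_apply, IsIso.hom_inv_id_assoc]
    rfl
  refine TopologicalSpace.Opens.ext (Set.ext fun x => ⟨?_, fun hx => ?_⟩)
  · rintro ⟨u, hu, hux⟩
    have h : π x ∈ U₁ := hux ▸ u.2
    have e : u = ⟨π x, h⟩ := Subtype.ext hux
    rw [← key x h, ← e]
    exact hu
  · exact ⟨⟨π x, hU hx⟩, show ZRLim.Bir.sec' π ⟨π x, hU hx⟩ ∈ U by rw [key x (hU hx)]; exact hx, rfl⟩

theorem coe_img (hU : U ≤ π ⁻¹ᵁ U₁) : (img π U₁ U : Set Y) = (fun x => π x) '' (U : Set X) := by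
  refine Set.ext fun y => ⟨?_, ?_⟩
  · rintro ⟨u, hu, rfl⟩
    refine ⟨ZRLim.Bir.sec' π u, hu, ?_⟩
    show π (ZRLim.Bir.sec' π u) = _
    rw [← Scheme.Hom.comp_apply, ZRLim.Bir.sec'_f]
    rfl
  · rintro ⟨x, hx, rfl⟩
    exact (preimage_img π U₁ U hU).ge hx

theorem isCompact_img (hU : U ≤ π ⁻¹ᵁ U₁) (hUc : IsCompact (U : Set X)) :
    IsCompact (img π U₁ U : Set Y) := by
  rw [coe_img π U₁ U hU]
  exact hUc.image π.continuous

theorem isIso_img : IsIso (π ∣_ img π U₁ U) := by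
  have h : IsIso ((π ∣_ U₁) ∣_ (ZRLim.Bir.sec' π ⁻¹ᵁ U)) := inferInstance
  exact ((MorphismProperty.isomorphisms Scheme).arrow_mk_iso_iff
    (morphismRestrictRestrict π U₁ (ZRLim.Bir.sec' π ⁻¹ᵁ U))).1 h

/-- On one side: the blow-up of `X` at the first ideal, and a further blow-up matching the second. -/
theorem exists_side [CompactSpace X] [CompactSpace Y] [QuasiSeparatedSpace Y] [IsSeparated π]
    (V : Y.Opens) [IsIso (π ∣_ V)] (K : ZRLim.Adm V)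
    (hK : ∀ y, ZRLim.Bir.q π K y ∈ ZRLim.Bir.good' π K)
    (hV : π ⁻¹ᵁ V = U) (I : X.IdealSheafData)
    (hI : BlowUp.IsFiniteTypeIdeal I) (hIU : ∀ w ∈ U, w ∉ (I.support : Set X)) :
    ∃ P : ZRLim.Adm V, IsOpenImmersion (ZRLim.Bir.q π P) ∧
      ∀ {T : Scheme.{u}} (g : T ⟶ X),
        BlowUp.IsEffCartierIdeal ((P.1.comap π).comap g) ↔
          BlowUp.IsEffCartierIdeal ((K.1.comap π).comap g) ∧ BlowUp.IsEffCartierIdeal (I.comap g) := by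
  haveI : Nonempty (ZRLim.Adm V) := ⟨K⟩
  obtain ⟨P, n, hKP, hP⟩ := ZRLim.Bir.exists_dom (f := π) K hK I hI fun w hw => hIU w (hV ▸ hw)
  refine ⟨P, ZRLim.Bir.isOpenImmersion_q P (ZRLim.Bir.good'_mono hKP hK), fun {T} g => ⟨fun h => ?_, ?_⟩⟩
  · obtain ⟨k, hk, -⟩ := (ZRLim.Bir.pull π P).isBlowUp.2 T g h
    have hkK : BlowUp.IsEffCartierIdeal ((K.1.comap π).comap g) := by
      haveI : IsSchemeTheoreticallyDominant
          (k ⁻¹ᵁ ModPair.interior ((P.1.comap π).comap (ZRLim.Bir.pull π P).π)).ι := by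
        have e : k ⁻¹ᵁ ModPair.interior ((P.1.comap π).comap (ZRLim.Bir.pull π P).π) =
            ModPair.interior ((P.1.comap π).comap g) := by
          refine TopologicalSpace.Opens.ext (Set.ext fun w => ?_)
          show k w ∉ (((P.1.comap π).comap (ZRLim.Bir.pull π P).π).support : Set _) ↔
            w ∉ (((P.1.comap π).comap g).support : Set T)
          rw [← hk, IdealSheafData.comap_comp, IdealSheafData.support_comap
            ((P.1.comap π).comap (ZRLim.Bir.pull π P).π) k]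
          rfl
        rw [e]
        exact ModPairLib.isSchemeTheoreticallyDominant_interior h
      have hint : ModPair.interior ((K.1.comap π).comap (ZRLim.Bir.pull π P).π) =
          ModPair.interior ((P.1.comap π).comap (ZRLim.Bir.pull π P).π) := by
        refine Eq.trans ?_ ((ZRLim.Bir.pull π P).preimage_eq ((P.1.comap π).comap (ZRLim.Bir.pull π P).π) rfl)
        refine TopologicalSpace.Opens.ext (Set.ext fun w => ?_)
        show w ∉ (((K.1.comap π).comap (ZRLim.Bir.pull π P).π).support : Set _) ↔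
          π ((ZRLim.Bir.pull π P).π w) ∈ (V : Set Y)
        rw [IdealSheafData.support_comap, IdealSheafData.support_comap]
        show π ((ZRLim.Bir.pull π P).π w) ∉ (K.1.support : Set Y) ↔ _
        rw [K.2.2, Set.notMem_compl_iff]
      haveI : IsSchemeTheoreticallyDominant
          (k ⁻¹ᵁ ModPair.interior ((K.1.comap π).comap (ZRLim.Bir.pull π P).π)).ι := by
        rw [hint]; infer_instance
      have hKc : BlowUp.IsEffCartierIdeal ((K.1.comap π).comap (ZRLim.Bir.pull π P).π) :=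
        ZRLim.Bir.pull_mono π hKP
      have := (ModPairLib.comap_preimage_dense _ hKc k).2
      show BlowUp.IsEffCartierIdeal ((K.1.comap π).comap g)
      rw [← hk, IdealSheafData.comap_comp]
      exact this
    refine ⟨hkK, ?_⟩
    obtain ⟨l, hl, -⟩ := (ZRLim.Bir.pull π K).isBlowUp.2 T g hkK
    rw [← hl, IdealSheafData.comap_comp, hP, ModPairLib.ideal_comap_mul, ← IdealSheafData.comap_comp,
      hl] at h
    exact BlowUpX.isEffCartier_left_of_mul h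
  · rintro ⟨h1, h2⟩
    obtain ⟨l, hl, -⟩ := (ZRLim.Bir.pull π K).isBlowUp.2 T g h1
    rw [← hl, IdealSheafData.comap_comp, hP, ModPairLib.ideal_comap_mul, ← ZRLim.Bir.comap_pow_eq,
      ← IdealSheafData.comap_comp, ← IdealSheafData.comap_comp, hl]
    refine ModPairLib.isEffCartier_mul h2 ?_
    clear hP
    induction n with
    | zero => rw [pow_zero, IdealSheafData.one_eq_top]; exact BlowUpLib.isEffCartier_top T
    | succ n ih => rw [pow_succ]; exact ModPairLib.isEffCartier_mul ih h1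

open AlgebraicGeometry CategoryTheory Limits in
/-- Let X, Y₁, Y₂ be quasi-compact quasi-separated schemes and π_i : X → Y_i (i = 1, 2) separated
morphisms of finite type which are birational: U_i ⊆ Y_i is a quasi-compact dense open subscheme
over which π_i restricts to an isomorphism and whose preimage is dense in X. Let U = π₁⁻¹(U₁) ∩
π₂⁻¹(U₂), a dense quasi-compact open of X mapping isomorphically onto dense opens of Y₁ and Y₂. Then
there are blowing ups b : X̃ → X, c₁ : Ỹ₁ → Y₁, c₂ : Ỹ₂ → Y₂ in quasi-coherent ideals of finite type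
whose supports are disjoint from U, π₁(U) and π₂(U) respectively, and open immersions j_i : X̃ → Ỹ_i
with j_i ≫ c_i = b ≫ π_i. -/
theorem result
    {X Y₁ Y₂ : Scheme.{u}} [CompactSpace X] [QuasiSeparatedSpace X]
    [CompactSpace Y₁] [QuasiSeparatedSpace Y₁] [CompactSpace Y₂] [QuasiSeparatedSpace Y₂]
    (π₁ : X ⟶ Y₁) (π₂ : X ⟶ Y₂)
    [IsSeparated π₁] [QuasiCompact π₁] [LocallyOfFiniteType π₁]
    [IsSeparated π₂] [QuasiCompact π₂] [LocallyOfFiniteType π₂]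
    (U₁ : Y₁.Opens) (U₂ : Y₂.Opens) (hU₁ : IsCompact (U₁ : Set Y₁)) (hU₂ : IsCompact (U₂ : Set Y₂))
    (hd₁ : Dense (U₁ : Set Y₁)) (hd₂ : Dense (U₂ : Set Y₂)) [IsIso (π₁ ∣_ U₁)] [IsIso (π₂ ∣_ U₂)]
    (hd₁' : Dense ((π₁ ⁻¹ᵁ U₁ : X.Opens) : Set X)) (hd₂' : Dense ((π₂ ⁻¹ᵁ U₂ : X.Opens) : Set X)) :
    ∃ (𝓘 : X.IdealSheafData) (𝓙₁ : Y₁.IdealSheafData) (𝓙₂ : Y₂.IdealSheafData)
      (Xt Yt₁ Yt₂ : Scheme.{u}) (b : Xt ⟶ X) (c₁ : Yt₁ ⟶ Y₁) (c₂ : Yt₂ ⟶ Y₂) (j₁ : Xt ⟶ Yt₁) (j₂ : Xt ⟶ Yt₂),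
      BlowUp.IsBlowUp b 𝓘 ∧ BlowUp.IsAdmissibleFor (π₁ ⁻¹ᵁ U₁ ⊓ π₂ ⁻¹ᵁ U₂) 𝓘 ∧
      BlowUp.IsBlowUp c₁ 𝓙₁ ∧ BlowUp.IsFiniteTypeIdeal 𝓙₁ ∧
        Disjoint (𝓙₁.support : Set Y₁) ((fun x => π₁ x) '' ((π₁ ⁻¹ᵁ U₁ ⊓ π₂ ⁻¹ᵁ U₂ : X.Opens) : Set X)) ∧
      BlowUp.IsBlowUp c₂ 𝓙₂ ∧ BlowUp.IsFiniteTypeIdeal 𝓙₂ ∧
        Disjoint (𝓙₂.support : Set Y₂) ((fun x => π₂ x) '' ((π₁ ⁻¹ᵁ U₁ ⊓ π₂ ⁻¹ᵁ U₂ : X.Opens) : Set X)) ∧
      IsOpenImmersion j₁ ∧ IsOpenImmersion j₂ ∧ j₁ ≫ c₁ = b ≫ π₁ ∧ j₂ ≫ c₂ = b ≫ π₂ := by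
  haveI : IsSeparated π₁ := inferInstance
  let U : X.Opens := π₁ ⁻¹ᵁ U₁ ⊓ π₂ ⁻¹ᵁ U₂
  have hUc : IsCompact (U : Set X) :=
    QuasiSeparatedSpace.inter_isCompact _ _ (π₁ ⁻¹ᵁ U₁).2 (π₁.isCompact_preimage hU₁) (π₂ ⁻¹ᵁ U₂).2
      (π₂.isCompact_preimage hU₂)
  let V₁ := img π₁ U₁ U
  let V₂ := img π₂ U₂ U
  haveI := isIso_img π₁ U₁ U
  haveI := isIso_img π₂ U₂ U
  have hV₁ : π₁ ⁻¹ᵁ V₁ = U := preimage_img π₁ U₁ U inf_le_left
  have hV₂ : π₂ ⁻¹ᵁ V₂ = U := preimage_img π₂ U₂ U inf_le_right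
  have hV₁c : IsCompact (V₁ : Set Y₁) := isCompact_img π₁ U₁ U inf_le_left hUc
  have hV₂c : IsCompact (V₂ : Set Y₂) := isCompact_img π₂ U₂ U inf_le_right hUc
  obtain ⟨K₁, hK₁⟩ := ZRLim.Bir.exists_all_good π₁ hV₁c
  obtain ⟨K₂, hK₂⟩ := ZRLim.Bir.exists_all_good π₂ hV₂c
  have hnot : ∀ {Y : Scheme.{u}} (π : X ⟶ Y) {V : Y.Opens} (K : ZRLim.Adm V), π ⁻¹ᵁ V = U →
      ∀ w ∈ U, w ∉ ((K.1.comap π).support : Set X) := fun {Y} π {V} K hV w hw hw' => by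
    rw [IdealSheafData.support_comap] at hw'
    have h : π w ∈ (K.1.support : Set Y) := hw'
    rw [K.2.2] at h
    exact h (hV.ge hw)
  obtain ⟨P₁, hP₁, hc₁⟩ := exists_side π₁ U V₁ K₁ hK₁ hV₁ (K₂.1.comap π₂)
    (MorLib.IdealFG.isFG_comap K₂.2.1 π₂) (hnot π₂ K₂ hV₂)
  obtain ⟨P₂, hP₂, hc₂⟩ := exists_side π₂ U V₂ K₂ hK₂ hV₂ (K₁.1.comap π₁)
    (MorLib.IdealFG.isFG_comap K₁.2.1 π₁) (hnot π₁ K₁ hV₁)
  let A := ZRLim.Bir.pull π₁ P₁
  let B := ZRLim.Bir.pull π₂ P₂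
  obtain ⟨e, he, -⟩ := B.isBlowUp.2 A.obj A.π ((hc₂ A.π).2 ((hc₁ A.π).1 A.isBlowUp.1).symm)
  obtain ⟨e', he', -⟩ := A.isBlowUp.2 B.obj B.π ((hc₁ B.π).2 ((hc₂ B.π).1 B.isBlowUp.1).symm)
  change e ≫ B.π = A.π at he
  change e' ≫ A.π = B.π at he'
  haveI : IsIso e := ⟨e',
    BlowUpLib.isBlowUp_hom_ext A.isBlowUp (by rw [Category.assoc, he', he, Category.id_comp])
      (by rw [Category.id_comp]; exact A.isBlowUp.1),
    BlowUpLib.isBlowUp_hom_ext B.isBlowUp (by rw [Category.assoc, he, he', Category.id_comp])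
      (by rw [Category.id_comp]; exact B.isBlowUp.1)⟩
  have hdisj : ∀ {Y : Scheme.{u}} (π : X ⟶ Y) {V : Y.Opens} (K : ZRLim.Adm V),
      (V : Set Y) = (fun x => π x) '' (U : Set X) →
      Disjoint (K.1.support : Set Y) ((fun x => π x) '' (U : Set X)) := fun {Y} π {V} K hV => by
    rw [← hV, K.2.2]
    exact disjoint_compl_left
  refine ⟨(P₁.1.comap π₁), P₁.1, P₂.1, A.obj, P₁.obj, P₂.obj, A.π, P₁.π, P₂.π, ZRLim.Bir.q π₁ P₁,
    e ≫ ZRLim.Bir.q π₂ P₂, A.isBlowUp, ⟨A.2.1, ?_⟩, P₁.isBlowUp, P₁.2.1,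
    hdisj π₁ P₁ (coe_img π₁ U₁ U inf_le_left), P₂.isBlowUp, P₂.2.1,
    hdisj π₂ P₂ (coe_img π₂ U₂ U inf_le_right), hP₁, inferInstance, ZRLim.Bir.q_π π₁ P₁, ?_⟩
  · exact Set.disjoint_right.2 fun w hw => hnot π₁ P₁ hV₁ w hw
  · rw [Category.assoc, ZRLim.Bir.q_π, reassoc_of% he]

end Groth.Agent.S17388
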