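import Groth.Statements.S1279
import Groth.Agent.BlowSep.Basic
import Groth.Agent.BlowUpLib.Glue
import Groth.Agent.NisCov7.Basic

set_option autoImplicit false
universe u
open FlatMor

namespace Groth.Agent.S1279

open AlgebraicGeometry CategoryTheory Limits Topology in
/-- Let X be a quasi-compact and quasi-separated scheme, U ⊆ X a quasi-compact open, and T₁, T₂ ⊆ U
disjoint subsets which are closed and constructible in U. Then there is a U-admissible blow-up b :
X' → X such that the closures in X' of the preimages of T₁ and T₂ are disjoint. (Part (1), about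
strict transforms of closed subschemes, is not stated.) -/
theorem result {X : Scheme.{u}} [CompactSpace X] [QuasiSeparatedSpace X]
    (U : X.Opens) (hU : IsCompact (U : Set X)) (T₁ T₂ : Set U)
    (h₁ : IsClosed T₁) (h₂ : IsClosed T₂) (c₁ : IsConstructible T₁) (c₂ : IsConstructible T₂) (hd : Disjoint T₁ T₂) :
    ∃ (𝓘 : X.IdealSheafData) (X' : Scheme.{u}) (b : X' ⟶ X), BlowUp.IsBlowUp b 𝓘 ∧ BlowUp.IsAdmissibleFor U 𝓘 ∧
      Disjoint (closure (b.base ⁻¹' (Subtype.val '' T₁))) (closure (b.base ⁻¹' (Subtype.val '' T₂))) := by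
  let O : X.Opens := U.ι ''ᵁ ⟨T₁ᶜ, h₁.isOpen_compl⟩
  let O' : X.Opens := U.ι ''ᵁ ⟨T₂ᶜ, h₂.isOpen_compl⟩
  haveI : CompactSpace U := isCompact_iff_compactSpace.1 hU
  haveI : QuasiSeparatedSpace U :=
    QuasiSeparatedSpace.of_isOpenEmbedding U.2.isOpenEmbedding_subtypeVal
  have hc : ∀ T : Set U, IsConstructible T → IsClosed T → IsCompact Tᶜ := fun T hT hT' =>
    NisCov7.isCompact_of_isConstructible (X := (U : Scheme.{u})) hT.compl
  have hO : IsCompact ((O : Set X)) := by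
    have := (hc T₁ c₁ h₁).image U.ι.continuous
    exact this
  have hO' : IsCompact ((O' : Set X)) := by
    have := (hc T₂ c₂ h₂).image U.ι.continuous
    exact this
  obtain ⟨I₁, hI₁, hS₁⟩ := BlowSep.exists_ft_support_eq (X := X) (O : Set X)ᶜ O.2.isClosed_compl
    (by rwa [compl_compl])
  obtain ⟨I₂, hI₂, hS₂⟩ := BlowSep.exists_ft_support_eq (X := X) (O' : Set X)ᶜ O'.2.isClosed_compl
    (by rwa [compl_compl])
  have m₁ : ∀ u : U, u.1 ∈ (I₁.support : Set X) ↔ u ∈ T₁ := fun u => by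
    rw [hS₁, Set.mem_compl_iff]
    refine ⟨fun h => by_contra fun hu => h ⟨u, hu, rfl⟩, fun hu => ?_⟩
    rintro ⟨v, hv, hvu⟩
    exact hv (Subtype.ext hvu ▸ hu)
  have m₂ : ∀ u : U, u.1 ∈ (I₂.support : Set X) ↔ u ∈ T₂ := fun u => by
    rw [hS₂, Set.mem_compl_iff]
    refine ⟨fun h => by_contra fun hu => h ⟨u, hu, rfl⟩, fun hu => ?_⟩
    rintro ⟨v, hv, hvu⟩
    exact hv (Subtype.ext hvu ▸ hu)
  obtain ⟨X', b, hb⟩ := BlowUpLib.exists_blowUp (C := I₁ ⊔ I₂)
  have hdisj : Disjoint ((I₁ ⊔ I₂).support : Set X) (U : Set X) := Set.disjoint_left.2 fun x hx hxU => by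
    rw [Scheme.IdealSheafData.support_sup] at hx
    exact Set.disjoint_left.1 hd ((m₁ ⟨x, hxU⟩).1 hx.1) ((m₂ ⟨x, hxU⟩).1 hx.2)
  refine ⟨_, X', b, hb, ⟨BlowSep.isFiniteTypeIdeal_sup hI₁ hI₂, hdisj⟩, Set.disjoint_left.2 fun y h1 h2 => ?_⟩
  have hE : BlowUp.IsEffCartierIdeal (I₁.comap b ⊔ I₂.comap b) := by
    rw [← Scheme.IdealSheafData.comap_sup]; exact hb.1
  obtain ⟨W, hyW, hW⟩ := BlowSep.exists_eq_of_sup_isEffCartier _ _ hE y
  have key : ∀ (I : X.IdealSheafData) (T : Set U),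
      (∀ u : U, u.1 ∈ (I.support : Set X) ↔ u ∈ T) → y ∈ closure (b.base ⁻¹' (Subtype.val '' T)) →
      (I.comap b).ideal W = (I₁.comap b ⊔ I₂.comap b).ideal W → False := by
    intro I T hm hy hW
    obtain ⟨w, hwW, u, hu, huw⟩ := mem_closure_iff.1 hy _ W.1.isOpen hyW
    have h := (BlowSep.support_congr hW hwW).1 (by
      rw [Scheme.IdealSheafData.support_comap]
      show b w ∈ (I.support : Set X)
      exact huw ▸ (hm u).2 hu)
    rw [← Scheme.IdealSheafData.comap_sup, Scheme.IdealSheafData.support_comap] at h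
    exact Set.disjoint_left.1 hdisj (show b w ∈ ((I₁ ⊔ I₂).support : Set X) from h) (huw ▸ u.2 : b w ∈ U)
  rcases hW with hW | hW
  · exact key I₁ T₁ m₁ h1 hW
  · exact key I₂ T₂ m₂ h2 hW

end Groth.Agent.S1279
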