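import Groth.Statements.S8857
import Groth.Agent.BlowSep.Extend
import Groth.Agent.BlowUpLib.Glue

set_option autoImplicit false
universe u
open CategoryTheory CategoryTheory.Limits AlgebraicGeometry TopologicalSpace
open SDiv

namespace Groth.Agent.S8857

/-- Let X be a quasi-compact and quasi-separated scheme, U, V ⊆ X quasi-compact open subschemes and 𝓘 a
quasi-coherent ideal sheaf on V which is of finite type with support disjoint from U ∩ V (a blowing
up of V in 𝓘 is a (U ∩ V)-admissible blow-up). Then there is a quasi-coherent ideal sheaf 𝓙 on X, of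
finite type with support disjoint from U, whose restriction to V is 𝓘; and every blowing up of X in
𝓙 restricts over V to a blowing up of V in 𝓘 (the U-admissible blow-up of X extends the given one of
V). -/
theorem result (X : Scheme.{u}) [CompactSpace ↥X] [QuasiSeparatedSpace ↥X]
    (U V : X.Opens) (hU : IsCompact (U : Set ↥X)) (hV : IsCompact (V : Set ↥X))
    (𝓘 : (V : Scheme.{u}).IdealSheafData) (h𝓘 : BlowUp.IsAdmissibleFor (V.ι ⁻¹ᵁ U) 𝓘) :
    ∃ 𝓙 : X.IdealSheafData, BlowUp.IsAdmissibleFor U 𝓙 ∧ 𝓙.comap V.ι = 𝓘 ∧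
      ∀ (X' : Scheme.{u}) (c : X' ⟶ X), BlowUp.IsBlowUp c 𝓙 → BlowUp.IsBlowUp (c ∣_ V) 𝓘 := by
  haveI : CompactSpace ↥(V : Scheme.{u}) := isCompact_iff_compactSpace.1 hV
  haveI : QuasiCompact V.ι := quasiCompact_of_compactSpace V.ι
  let J := 𝓘.map V.ι
  have hJV : J.comap V.ι = 𝓘 := MorLib.IdealFG.comap_map_self V.ι 𝓘
  have hdis : Disjoint (J.support : Set X) (U : Set X) := by
    rw [Scheme.IdealSheafData.support_map, TopologicalSpace.Closeds.coe_closure]
    refine Disjoint.closure_left (Set.disjoint_left.2 ?_) U.2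
    rintro _ ⟨a, ha, rfl⟩ haU
    exact Set.disjoint_left.1 h𝓘.2 ha haU
  have hfgU : ∀ W : X.affineOpens, W.1 ≤ U → J.ideal W = ⊤ := fun W hW =>
    BlowSep.ideal_eq_top fun x hx hxJ => Set.disjoint_left.1 hdis hxJ (hW hx)
  have hfg : MorLib.IdealFG.FGOn J (U ⊔ V) := by
    intro W hW
    refine MorLib.IdealFG.fg_of_cover J W fun x hx => ?_
    rcases Opens.mem_sup.1 (hW hx) with hxU | hxV
    · obtain ⟨O, hO, hxO, hOU⟩ := exists_isAffineOpen_mem_and_subset (U := U) hxU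
      exact ⟨⟨O, hO⟩, hxO, by rw [hfgU ⟨O, hO⟩ hOU]; exact ⟨{1}, by simp⟩⟩
    · obtain ⟨O, hO, hxO, hOV⟩ := exists_isAffineOpen_mem_and_subset (U := V) hxV
      refine ⟨⟨O, hO⟩, hxO, ?_⟩
      have hO' : IsAffineOpen (V.ι ⁻¹ᵁ O) := by
        rw [← Scheme.Hom.isAffineOpen_iff_of_isOpenImmersion V.ι,
          Scheme.Hom.image_preimage_eq_opensRange_inf, Scheme.Opens.opensRange_ι, inf_eq_right.mpr (show O ≤ V from hOV)]
        exact hO
      have h1 := h𝓘.1 ⟨_, hO'⟩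
      rw [← hJV, Scheme.IdealSheafData.ideal_comap_of_isOpenImmersion] at h1
      have h2 := h1.map (V.ι.appIso (V.ι ⁻¹ᵁ O)).inv.hom
      have hsurj : Function.Surjective (V.ι.appIso (V.ι ⁻¹ᵁ O)).inv.hom :=
        (V.ι.appIso (V.ι ⁻¹ᵁ O)).commRingCatIsoToRingEquiv.symm.surjective
      rw [Ideal.map_comap_of_surjective _ hsurj] at h2
      exact MorLib.IdealFG.fg_congr (U := ⟨_, hO'.image_of_isOpenImmersion V.ι⟩) (U' := ⟨O, hO⟩)
        (by show V.ι ''ᵁ V.ι ⁻¹ᵁ O = O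
            rw [Scheme.Hom.image_preimage_eq_opensRange_inf, Scheme.Opens.opensRange_ι,
              inf_eq_right.mpr (show O ≤ V from hOV)]) h2
  obtain ⟨I, hIJ, hIfg, hI⟩ := BlowSep.exists_ft_eq_on J (U ⊔ V) (hU.union hV) hfg
  have hIV : I.comap V.ι = 𝓘 := by
    rw [← X.homOfLE_ι (le_sup_right : V ≤ U ⊔ V), Scheme.IdealSheafData.comap_comp, hI,
      ← Scheme.IdealSheafData.comap_comp, X.homOfLE_ι, hJV]
  refine ⟨I, ⟨hIfg, Set.disjoint_left.2 fun x hxI hxU => ?_⟩, hIV, fun X' c hc => ?_⟩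
  · obtain ⟨O, hO, hxO, hOU⟩ := exists_isAffineOpen_mem_and_subset (U := U) hxU
    have h1 : I.ideal ⟨O, hO⟩ = ⊤ := by
      rw [MorLib.IdealFG.eq_of_comap_eq hI (U := ⟨O, hO⟩) (le_trans hOU le_sup_left), hfgU ⟨O, hO⟩ hOU]
    refine (BlowSep.mem_support_iff_notMem I (U := ⟨O, hO⟩) hxO).1 hxI 1 ?_ ?_
    · rw [h1]; trivial
    · rw [Scheme.basicOpen_of_isUnit _ isUnit_one]; exact hxO
  · rw [← hIV]
    exact BlowUpLib.isBlowUp_of_isPullback (isPullback_morphismRestrict c V) hc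

end Groth.Agent.S8857
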