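import Groth.Statements.S9708
import Groth.Agent.S4418
import Groth.Agent.S2331
import Groth.Agent.S12416

set_option autoImplicit false
universe u
open CategoryTheory CategoryTheory.Limits AlgebraicGeometry
open Mor

namespace Groth.Agent.S9708

/-- Let S be quasi-compact and quasi-separated and let f : X ⟶ Y and g : Y ⟶ S be projective. Then f ≫ g
is projective. Here projective means that the source is isomorphic over the target to the relative
Proj of a quasi-coherent graded algebra generated by its finite-type degree-one part; the published
definition uses closed subschemes of P(E) with E of finite type, an equivalent condition. -/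
theorem result {X Y S : Scheme.{u}} [CompactSpace ↥S] [QuasiSeparatedSpace ↥S]
    (f : X ⟶ Y) (g : Y ⟶ S) (hf : RelProj.IsProjective f) (hg : RelProj.IsProjective g) :
    RelProj.IsProjective (f ≫ g) := by
  obtain ⟨⟨_, _, L, hL⟩, _⟩ := Groth.Agent.S4418.result f hf
  obtain ⟨⟨_, _, K, hK⟩, _⟩ := Groth.Agent.S4418.result g hg
  obtain ⟨n, -, hn⟩ := Groth.Agent.S2331.result f g L K hL hK
  exact Groth.Agent.S12416.result (f ≫ g) ⟨inferInstance, inferInstance, _, hn n le_rfl⟩

end Groth.Agent.S9708
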