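import Groth.Statements.S1281
import Groth.Agent.NagataLib.Birat2
-- import your own Groth.Agent.* helpers here

set_option autoImplicit false
set_option linter.style.haveILetI false
set_option backward.isDefEq.respectTransparency false
set_option backward.isDefEq.respectTransparency.types false
universe u
open FlatMor

namespace Groth.Agent.S1281

open AlgebraicGeometry CategoryTheory Limits in
/-- An open immersion lifts through a morphism which is an isomorphism over its image. -/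
theorem exists_lift {U X X' : Scheme.{u}} (j : U ⟶ X) [IsOpenImmersion j] (b : X' ⟶ X)
    [IsIso (b ∣_ j.opensRange)] : ∃ u : U ⟶ X', u ≫ b = j :=
  ⟨j.isoOpensRange.hom ≫ inv (b ∣_ j.opensRange) ≫ (b ⁻¹ᵁ j.opensRange).ι, by
    rw [Category.assoc, Category.assoc, ← morphismRestrict_ι, IsIso.inv_hom_id_assoc,
      Scheme.Hom.isoOpensRange_hom_ι]⟩

open AlgebraicGeometry CategoryTheory Limits in
/-- Let S be quasi-compact and quasi-separated and let j₁ : U → X₁, j₂ : U → X₂ be open immersions over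
S, with U, X₁, X₂ separated and of finite type over S. Then there are a scheme X separated and of
finite type over S, blow-ups b_i : X_i' → X_i in finite type quasi-coherent ideals with support
disjoint from the image of U, open immersions X_i' → X over S, and lifts U → X_i' of j_i, such that
the two composites U → X_i' → X agree. -/
theorem result {U X₁ X₂ S : Scheme.{u}} [CompactSpace S] [QuasiSeparatedSpace S]
    (gU : U ⟶ S) (g₁ : X₁ ⟶ S) (g₂ : X₂ ⟶ S)
    [IsSeparated gU] [LocallyOfFiniteType gU] [QuasiCompact gU]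
    [IsSeparated g₁] [LocallyOfFiniteType g₁] [QuasiCompact g₁]
    [IsSeparated g₂] [LocallyOfFiniteType g₂] [QuasiCompact g₂]
    (j₁ : U ⟶ X₁) (j₂ : U ⟶ X₂) [IsOpenImmersion j₁] [IsOpenImmersion j₂] (hj₁ : j₁ ≫ g₁ = gU) (hj₂ : j₂ ≫ g₂ = gU) :
    ∃ (X : Scheme.{u}) (q : X ⟶ S) (_ : IsSeparated q) (_ : LocallyOfFiniteType q) (_ : QuasiCompact q)
      (𝓘₁ : X₁.IdealSheafData) (𝓘₂ : X₂.IdealSheafData) (X₁' X₂' : Scheme.{u}) (b₁ : X₁' ⟶ X₁) (b₂ : X₂' ⟶ X₂)
      (o₁ : X₁' ⟶ X) (o₂ : X₂' ⟶ X) (u₁ : U ⟶ X₁') (u₂ : U ⟶ X₂'),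
      BlowUp.IsBlowUp b₁ 𝓘₁ ∧ BlowUp.IsAdmissibleFor j₁.opensRange 𝓘₁ ∧
      BlowUp.IsBlowUp b₂ 𝓘₂ ∧ BlowUp.IsAdmissibleFor j₂.opensRange 𝓘₂ ∧
      IsOpenImmersion o₁ ∧ IsOpenImmersion o₂ ∧ o₁ ≫ q = b₁ ≫ g₁ ∧ o₂ ≫ q = b₂ ≫ g₂ ∧
      u₁ ≫ b₁ = j₁ ∧ u₂ ≫ b₂ = j₂ ∧ u₁ ≫ o₁ = u₂ ≫ o₂ := by
  haveI : CompactSpace X₁ := QuasiCompact.compactSpace_of_compactSpace g₁
  haveI : CompactSpace X₂ := QuasiCompact.compactSpace_of_compactSpace g₂
  haveI : QuasiSeparatedSpace X₁ := quasiSeparatedSpace_of_quasiSeparated g₁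
  haveI : QuasiSeparatedSpace X₂ := quasiSeparatedSpace_of_quasiSeparated g₂
  haveI : CompactSpace U := QuasiCompact.compactSpace_of_compactSpace gU
  haveI : QuasiCompact j₁ := quasiCompact_of_compactSpace j₁
  haveI : QuasiCompact j₂ := quasiCompact_of_compactSpace j₂
  let t : U ⟶ pullback g₁ g₂ := pullback.lift j₁ j₂ (hj₁.trans hj₂.symm)
  have ht₁ : t ≫ pullback.fst g₁ g₂ = j₁ := pullback.lift_fst _ _ _
  have ht₂ : t ≫ pullback.snd g₁ g₂ = j₂ := pullback.lift_snd _ _ _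
  haveI : QuasiCompact t := by
    haveI : QuasiCompact (t ≫ pullback.fst g₁ g₂) := by rw [ht₁]; infer_instance
    exact QuasiCompact.of_comp t (pullback.fst g₁ g₂)
  obtain ⟨h, h₁⟩ := Groth.Agent.NagataLib.closure_graph (pullback.fst g₁ g₂) j₁ t ht₁
  obtain ⟨-, h₂⟩ := Groth.Agent.NagataLib.closure_graph (pullback.snd g₁ g₂) j₂ t ht₂
  haveI := h
  haveI := h₁
  haveI := h₂
  let φ₁ : t.image ⟶ X₁ := t.imageι ≫ pullback.fst g₁ g₂
  let φ₂ : t.image ⟶ X₂ := t.imageι ≫ pullback.snd g₁ g₂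
  haveI : CompactSpace t.image := QuasiCompact.compactSpace_of_compactSpace φ₁
  have hc₁ : IsCompact (j₁.opensRange : Set X₁) := isCompact_range j₁.continuous
  have hc₂ : IsCompact (j₂.opensRange : Set X₂) := isCompact_range j₂.continuous
  have hpre : ∀ {Y : Scheme.{u}} (φ : t.image ⟶ Y) (j : U ⟶ Y) [IsOpenImmersion j]
      [IsIso (φ ∣_ j.opensRange)], t.toImage ≫ φ = j → φ ⁻¹ᵁ j.opensRange = t.toImage.opensRange := by
    intro Y φ j _ _ e
    refine TopologicalSpace.Opens.ext (Set.ext fun x => ⟨fun hx => ?_, ?_⟩)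
    · obtain ⟨u, hu⟩ := hx
      have hu' : φ (t.toImage u) = φ x := by rw [← Scheme.Hom.comp_apply, e]; exact hu
      have hi : Function.Injective (φ ∣_ j.opensRange) :=
        (asIso (φ ∣_ j.opensRange)).schemeIsoToHomeo.injective
      have h' : t.toImage u ∈ φ ⁻¹ᵁ j.opensRange := ⟨u, hu.trans hu'.symm⟩
      have := hi (a₁ := ⟨t.toImage u, h'⟩) (a₂ := ⟨x, ⟨u, hu⟩⟩)
        (Groth.Agent.ZRLim.restrict_eq φ j.opensRange ⟨t.toImage u, h'⟩
          ((φ ∣_ j.opensRange) ⟨x, ⟨u, hu⟩⟩) (hu'.trans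
          (congrArg (fun m => m (⟨x, ⟨u, hu⟩⟩ : φ ⁻¹ᵁ j.opensRange))
            (morphismRestrict_ι φ j.opensRange)).symm))
      exact ⟨u, congrArg Subtype.val this⟩
    · rintro ⟨u, rfl⟩
      exact ⟨u, by rw [← Scheme.Hom.comp_apply, e]⟩
  have e₁ : t.toImage ≫ φ₁ = j₁ := by simp only [φ₁, Scheme.Hom.toImage_imageι_assoc, ht₁]
  have e₂ : t.toImage ≫ φ₂ = j₂ := by simp only [φ₂, Scheme.Hom.toImage_imageι_assoc, ht₂]
  obtain ⟨I, A', b, P₁, P₂, o₁, o₂, hb, hbI, hbp, ho₁, ho₂, w₁, w₂⟩ :=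
    Groth.Agent.NagataLib.exists_two_openImmersions φ₁ φ₂ j₁.opensRange j₂.opensRange hc₁ hc₂
      t.toImage.opensRange (hpre φ₁ j₁ e₁) (hpre φ₂ j₂ e₂)
  haveI := ho₁
  haveI := ho₂
  haveI := hbp
  have w : o₁ ≫ (P₁.π ≫ g₁) = o₂ ≫ (P₂.π ≫ g₂) := by
    rw [reassoc_of% w₁, reassoc_of% w₂]
    simp only [φ₁, φ₂, Category.assoc, pullback.condition]
  let L := pullback.lift (f := P₁.π ≫ g₁) (g := P₂.π ≫ g₂) o₁ o₂ w
  let μ : pullback (P₁.π ≫ g₁) (P₂.π ≫ g₂) ⟶ pullback g₁ g₂ :=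
    pullback.map _ _ _ _ P₁.π P₂.π (𝟙 S) (by simp) (by simp)
  haveI : IsSeparated μ := by
    haveI : IsSeparated (μ ≫ pullback.fst g₁ g₂) := by rw [pullback.lift_fst]; infer_instance
    exact IsSeparated.of_comp μ (pullback.fst g₁ g₂)
  have hL : L ≫ μ = b ≫ t.imageι := by
    apply pullback.hom_ext
    · simp only [L, μ, φ₁, Category.assoc, pullback.lift_fst, pullback.lift_fst_assoc] at w₁ ⊢
      exact w₁
    · simp only [L, μ, φ₂, Category.assoc, pullback.lift_snd, pullback.lift_snd_assoc] at w₂ ⊢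
      exact w₂
  haveI : IsProper L := by
    haveI : IsProper (L ≫ μ) := by rw [hL]; infer_instance
    exact IsProper.of_comp L μ
  let q := Groth.Agent.NagataLib.glueDesc (a := o₁) (b := o₂) w
  haveI : IsSeparated q := Groth.Agent.NagataLib.isSeparated_glue w L.isClosedMap.isClosed_range
  haveI : LocallyOfFiniteType q := Groth.Agent.NagataLib.locallyOfFiniteType_glue w
  haveI : CompactSpace (Groth.Agent.NagataLib.glue o₁ o₂) :=
    Groth.Agent.NagataLib.compactSpace_glue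
  haveI : QuasiCompact q := quasiCompact_of_compactSpace q
  haveI : IsIso (b ∣_ t.toImage.opensRange) :=
    Groth.Agent.NagataLib.isIso_restrict_of_disjoint hb _ hbI.2
  obtain ⟨u, hu⟩ := exists_lift t.toImage b
  refine ⟨_, q, inferInstance, inferInstance, inferInstance, P₁.1, P₂.1, P₁.obj, P₂.obj, P₁.π, P₂.π,
    pushout.inl o₁ o₂, pushout.inr o₁ o₂, u ≫ o₁, u ≫ o₂, P₁.isBlowUp, P₁.isAdmissible, P₂.isBlowUp,
    P₂.isAdmissible, inferInstance, inferInstance, Groth.Agent.NagataLib.inl_glueDesc w,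
    Groth.Agent.NagataLib.inr_glueDesc w, ?_, ?_, ?_⟩
  · rw [Category.assoc, w₁, reassoc_of% hu, e₁]
  · rw [Category.assoc, w₂, reassoc_of% hu, e₂]
  · rw [Category.assoc, Category.assoc, pushout.condition]

end Groth.Agent.S1281
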