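import Groth.Statements.S18366
import Mathlib
import Groth.Agent.GrpSchLib.SepPoints
import Groth.Agent.GeomField.Reduced
import Groth.Agent.EGA41Lib.FieldFS
-- import your own Groth.Agent.* helpers here

set_option autoImplicit false
universe u
open CategoryTheory CategoryTheory.Limits AlgebraicGeometry
open Variety

namespace Groth.Agent.S18366

/-- Let k be a separably closed field and X a non-empty k-scheme of finite type which is geometrically
reduced. Then X has a k-rational point, i.e. the structure morphism admits a section. (Non-emptiness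
is part of the hypotheses: the empty scheme is geometrically reduced of finite type and has no
point. The published statement does not assume X non-empty; this row does, since the empty scheme
has no rational point.) -/
theorem result (k : Type u) [Field k] [IsSepClosed k]
    {X : Scheme.{u}} (f : X ⟶ Spec (CommRingCat.of k)) [LocallyOfFiniteType f] [QuasiCompact f] [GeometricallyReduced f]
    [Nonempty X] :
    ∃ s : Spec (CommRingCat.of k) ⟶ X, s ≫ f = 𝟙 (Spec (CommRingCat.of k)) := by
  letI : X.Over (Spec (CommRingCat.of k)) := ⟨f⟩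
  haveI : IsLocallyNoetherian X := LocallyOfFiniteType.isLocallyNoetherian f
  haveI : LocallyOfFinitePresentation f := inferInstance
  obtain ⟨x0⟩ := ‹Nonempty X›
  obtain ⟨U, hU, hxU, -⟩ := exists_isAffineOpen_mem_and_subset (U := (⊤ : X.Opens)) (x := x0) trivial
  haveI : Nonempty U := ⟨⟨x0, hxU⟩⟩
  haveI : Nontrivial Γ(X, U) :=
    PrimeSpectrum.nonempty_iff_nontrivial.mp ⟨hU.primeIdealOf ⟨x0, hxU⟩⟩
  obtain ⟨P, hP⟩ : ∃ P, P ∈ minimalPrimes Γ(X, U) := by
    obtain ⟨P, hP, -⟩ := Ideal.exists_minimalPrimes_le (I := (⊥ : Ideal Γ(X, U)))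
      (J := (hU.primeIdealOf ⟨x0, hxU⟩).asIdeal) bot_le
    exact ⟨P, hP⟩
  haveI : P.IsPrime := hP.1.1
  let x : X := hU.fromSpec ⟨P, inferInstance⟩
  have hx : x ∈ U := by
    have h : x ∈ Set.range hU.fromSpec := Set.mem_range_self _
    rwa [hU.range_fromSpec] at h
  letI := Curv2.stalkAlgebra k X x
  haveI hgr : Algebra.IsGeometricallyReduced k (X.presheaf.stalk x) :=
    (Groth.Agent.GeomField.isGeomReducedAt_iff x).1
      ((Groth.Agent.GeomField.geometricallyReduced_iff (k := k) (X := X)).1 ‹GeometricallyReduced f› x)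
  haveI : _root_.IsReduced (X.presheaf.stalk x) := Algebra.isReduced_of_isGeometricallyReduced k
  letI aU : Algebra Γ(X, U) (X.presheaf.stalk x) := TopCat.Presheaf.algebra_section_stalk X.presheaf ⟨x, hx⟩
  have hxP : hU.primeIdealOf ⟨x, hx⟩ = ⟨P, inferInstance⟩ :=
    hU.fromSpec.isOpenEmbedding.injective (hU.fromSpec_primeIdealOf ⟨x, hx⟩)
  haveI : IsLocalization.AtPrime (X.presheaf.stalk x) P := by
    have := hU.isLocalization_stalk ⟨x, hx⟩
    rwa [hxP] at this
  haveI : Ring.KrullDimLE 0 (X.presheaf.stalk x) :=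
    Ring.KrullDimLE.of_isLocalization P hP (X.presheaf.stalk x)
  letI : Field (X.presheaf.stalk x) := (Ring.KrullDimLE.isField_of_isReduced (R := X.presheaf.stalk x)).toField
  have hfs : Algebra.FormallySmooth k (X.presheaf.stalk x) :=
    Groth.Agent.EGA41Lib.FieldFS.formallySmooth_of_isGeometricallyReduced k _
  have hmem : x ∈ f.smoothLocus := by
    rw [Scheme.Hom.mem_smoothLocus]
    let e : k →+* (Spec (CommRingCat.of k)).presheaf.stalk (f x) :=
      ((Spec (CommRingCat.of k)).presheaf.germ ⊤ (f x) trivial).hom.comp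
        (Scheme.ΓSpecIso (CommRingCat.of k)).inv.hom
    have he : Function.Bijective e :=
      ((IsLocalization.atUnits k ((f x).asIdeal.primeCompl) (S := (Spec.structureSheaf k).presheaf.stalk (f x))
        (fun r hr => isUnit_iff_ne_zero.2 fun h0 => hr (h0 ▸ zero_mem _)))).bijective
    letI : Algebra k ((Spec (CommRingCat.of k)).presheaf.stalk (f x)) := e.toAlgebra
    letI : Algebra ((Spec (CommRingCat.of k)).presheaf.stalk (f x)) (X.presheaf.stalk x) := (f.stalkMap x).hom.toAlgebra
    haveI : IsScalarTower k ((Spec (CommRingCat.of k)).presheaf.stalk (f x)) (X.presheaf.stalk x) :=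
      IsScalarTower.of_algebraMap_eq fun r => by
        show _ = f.stalkMap x ((Spec (CommRingCat.of k)).presheaf.germ ⊤ (f x) trivial _)
        rw [Scheme.Hom.germ_stalkMap_apply]
        rfl
    let E : k ≃ₐ[k] (Spec (CommRingCat.of k)).presheaf.stalk (f x) :=
      AlgEquiv.ofBijective (Algebra.ofId k _) he
    haveI : Algebra.FormallyEtale k ((Spec (CommRingCat.of k)).presheaf.stalk (f x)) :=
      Algebra.FormallyEtale.of_equiv E
    exact Algebra.FormallySmooth.iff_restrictScalars.1 hfs
  have hsm : Smooth (f.smoothLocus.ι ≫ f) := by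
    rw [← Scheme.Hom.smoothLocus_eq_top_iff, ← Scheme.Hom.preimage_smoothLocus_eq]
    exact eq_top_iff.2 fun y _ => y.2
  obtain ⟨s, hs, -⟩ := Groth.Agent.GrpSchLib.exists_point_of_smooth (f.smoothLocus.ι ≫ f) ⊤
    (x := ⟨x, hmem⟩) trivial
  exact ⟨s ≫ f.smoothLocus.ι, by rw [Category.assoc]; exact hs⟩

end Groth.Agent.S18366
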