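import Groth.Statements.S16428
import Groth.Agent.H1FibInj.General
import Groth.Agent.H1CMDim.FibReg
import Groth.Agent.Synt29.SmoothProps

set_option autoImplicit false
universe u
open CategoryTheory CategoryTheory.Limits AlgebraicGeometry TopologicalSpace
open RhoSh

namespace Groth.Agent.S16428

set_option backward.isDefEq.respectTransparency false
set_option backward.isDefEq.respectTransparency.types false
set_option maxHeartbeats 1000000

open TensorProduct

/-- regularity of the fibre local rings of a smooth algebra, any base -/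
theorem regular_fibLocRing {A B : Type u} [CommRing A] [CommRing B] [Algebra A B] [Algebra.Smooth A B]
    (q : Ideal B) [q.IsPrime] : IsRegularLocalRing (EGA4.FibLocRing A B q) := by
  obtain ⟨Q, hQ⟩ := FlatLoc6.exists_fiber_prime (q.comap (algebraMap A B)) q rfl
  have key : ∀ (q' : Ideal B) [q'.IsPrime],
      Q.asIdeal.comap Algebra.TensorProduct.includeRight = q' →
        IsRegularLocalRing (EGA4.FibLocRing A B q') := by
    intro q' _ h
    subst h
    obtain ⟨e⟩ := FlatLoc6.exists_fibLocEquiv (q.comap (algebraMap A B)) Q.asIdeal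
    have : IsRegularRing ((q.comap (algebraMap A B)).Fiber B) :=
      GeomReg.isRegularRing_of_smooth (q.comap (algebraMap A B)).ResidueField _
    exact IsRegularLocalRing.of_ringEquiv (R := Localization.AtPrime Q.asIdeal) e
  exact key q hQ

/-- a prime of the fibre below `q`, minimal in the fibre, such that anything outside it is
injective on the fibre local ring at `q` -/
theorem exists_fibGeneric {A B : Type u} [CommRing A] [CommRing B] [Algebra A B] [Algebra.Smooth A B]
    (q : PrimeSpectrum B) :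
    ∃ q0 : PrimeSpectrum B,
      PrimeSpectrum.comap (algebraMap A B) q0 = PrimeSpectrum.comap (algebraMap A B) q ∧
      (∀ r : PrimeSpectrum B, r ≤ q0 →
        PrimeSpectrum.comap (algebraMap A B) r = PrimeSpectrum.comap (algebraMap A B) q0 → r = q0) ∧
      ∀ c : B, c ∉ q0.asIdeal → H1FibInj.FibInj A (LinearMap.lsmul B B c) q := by
  have := regular_fibLocRing (A := A) q.asIdeal
  have := RegLoc6.isDomain_of_isRegularLocalRing (EGA4.FibLocRing A B q.asIdeal)
  obtain ⟨ψ, hψ⟩ := H1CMDim.exists_orderIso_fibLocRing (A := A) q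
  let P0 : PrimeSpectrum (EGA4.FibLocRing A B q.asIdeal) := ⟨⊥, Ideal.isPrime_bot⟩
  refine ⟨(ψ P0).1.1, (ψ P0).1.2, fun r hr hc => ?_, fun c hc => ?_⟩
  · have hrq : r ≤ q := hr.trans (ψ P0).2
    obtain ⟨P, hP⟩ := ψ.surjective ⟨⟨r, hc.trans (ψ P0).1.2⟩, hrq⟩
    refine le_antisymm hr ?_
    have : (ψ P0).1.1.asIdeal ≤ (ψ P).1.1.asIdeal := by
      rw [hψ, hψ]; exact Ideal.comap_mono bot_le
    rw [hP] at this
    exact this
  · have hne : algebraMap B (EGA4.FibLocRing A B q.asIdeal) c ≠ 0 := fun h => hc (by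
      rw [hψ]; exact Ideal.mem_comap.2 ((Submodule.mem_bot _).2 h))
    unfold H1FibInj.FibInj
    rw [injective_iff_map_eq_zero]
    intro z hz
    apply (TensorProduct.rid B (EGA4.FibLocRing A B q.asIdeal)).injective
    rw [map_zero]
    have h : (LinearMap.lsmul B B c).lTensor (EGA4.FibLocRing A B q.asIdeal) z = c • z := by
      clear hz
      induction z using TensorProduct.induction_on with
      | zero => simp
      | tmul a b =>
        show a ⊗ₜ[B] (c • b) = c • (a ⊗ₜ[B] b)
        rw [TensorProduct.tmul_smul]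
      | add a b ha hb => rw [map_add, ha, hb, smul_add]
    rw [h] at hz
    have h2 := congrArg (TensorProduct.rid B (EGA4.FibLocRing A B q.asIdeal)) hz
    simp only [map_smul, map_zero] at h2
    exact (mul_eq_zero.1 ((Algebra.smul_def c _).symm.trans h2)).resolve_left hne

/-- stalk without proper generalization has dimension zero -/
theorem ringKrullDim_stalk_le_zero {T : Scheme.{u}} (w : T) (h : ∀ z : T, z ⤳ w → z = w) :
    ringKrullDim (T.presheaf.stalk w) ≤ 0 := by
  have : Subsingleton (PrimeSpectrum (T.presheaf.stalk w)) := ⟨fun P Q => by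
    have hz : ∀ R, T.fromSpecStalk w R = w := fun R => h _ (by
      have := Set.mem_range_self (f := T.fromSpecStalk w) R
      rwa [Scheme.range_fromSpecStalk] at this)
    exact (T.fromSpecStalk w).isEmbedding.injective ((hz P).trans (hz Q).symm)⟩
  exact Order.krullDim_nonpos_of_subsingleton

theorem germ_eq_zero_iff {X : Scheme.{u}} {W : X.Opens} (hW : IsAffineOpen W) (y : W) (s : Γ(X, W)) :
    X.presheaf.germ W y.1 y.2 s = 0 ↔ ∃ c ∉ (hW.primeIdealOf y).asIdeal, c * s = 0 := by
  letI := X.presheaf.algebra_section_stalk y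
  haveI := hW.isLocalization_stalk y
  refine (IsLocalization.map_eq_zero_iff (hW.primeIdealOf y).asIdeal.primeCompl (X.presheaf.stalk y.1) s).trans ?_
  exact ⟨fun ⟨c, hc⟩ => ⟨c.1, c.2, hc⟩, fun ⟨c, hc, h⟩ => ⟨⟨c, hc⟩, h⟩⟩

theorem isSchematicallyDense_of_smooth {P S : Scheme.{u}} (p : P ⟶ S) [Smooth p] (U : P.Opens)
    (hU : ∀ x : P, x ∉ U → (1 : WithBot ℕ∞) ≤ ringKrullDim ↑(CInt.fiberStalk p x)) :
    CInt.IsSchematicallyDense U := by
  intro V
  rw [injective_iff_map_eq_zero]
  intro s hs
  refine TopCat.Presheaf.section_ext P.sheaf _ _ _ fun z hz => ?_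
  show P.presheaf.germ V z hz s = P.presheaf.germ V z hz 0
  rw [map_zero]
  obtain ⟨_, ⟨S0, hS, rfl⟩, hzS, -⟩ :=
    S.isBasis_affineOpens.exists_subset_of_mem_open (Set.mem_univ (p z)) isOpen_univ
  obtain ⟨_, ⟨W, hW, rfl⟩, hzW, hWV⟩ := P.isBasis_affineOpens.exists_subset_of_mem_open
    (u := ((V ⊓ p ⁻¹ᵁ S0 : P.Opens) : Set P)) ⟨hz, hzS⟩ (V ⊓ p ⁻¹ᵁ S0).isOpen
  have hWV' : W ≤ V := le_trans hWV inf_le_left
  have hWS : W ≤ p ⁻¹ᵁ S0 := le_trans hWV inf_le_right
  rw [← P.presheaf.germ_res_apply (homOfLE hWV') z hzW s]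
  set t := P.presheaf.map (homOfLE hWV').op s with htdef
  have htU : ∀ y (hy : y ∈ W), y ∈ U → P.presheaf.germ W y hy t = 0 := fun y hy hyU => by
    rw [htdef, P.presheaf.germ_res_apply,
      ← P.presheaf.germ_res_apply (homOfLE (inf_le_left : V ⊓ U ≤ V)) y ⟨hWV' hy, hyU⟩ s, hs, map_zero]
  letI : Algebra Γ(S, S0) Γ(P, W) := (p.appLE S0 W hWS).hom.toAlgebra
  haveI : Algebra.Smooth Γ(S, S0) Γ(P, W) :=
    HasRingHomProperty.appLE @Smooth p inferInstance ⟨S0, hS⟩ ⟨W, hW⟩ hWS
  let q := hW.primeIdealOf ⟨z, hzW⟩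
  obtain ⟨q0, hq0, hmin, hinj⟩ := exists_fibGeneric (A := Γ(S, S0)) q
  have hy0W : hW.fromSpec q0 ∈ W := by
    rw [← SetLike.mem_coe, ← hW.range_fromSpec]
    exact Set.mem_range_self q0
  have hcomp : ∀ r, p (hW.fromSpec r) =
      hS.fromSpec (PrimeSpectrum.comap (algebraMap Γ(S, S0) Γ(P, W)) r) := fun r => by
    have := hS.SpecMap_appLE_fromSpec p hW hWS
    exact (congrArg (fun g : Spec Γ(P, W) ⟶ S => g r) this).symm
  have hgen : ∀ y, y ⤳ hW.fromSpec q0 → p y = p (hW.fromSpec q0) → y = hW.fromSpec q0 := by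
    intro y hy he
    obtain ⟨r, rfl⟩ : y ∈ Set.range hW.fromSpec := by
      rw [hW.range_fromSpec]; exact hy.mem_open W.isOpen hy0W
    have hle : @LE.le (PrimeSpectrum Γ(P, W)) _ r q0 := (PrimeSpectrum.le_iff_specializes _ _).2
      (hW.fromSpec.isEmbedding.isInducing.specializes_iff.1 hy)
    rw [hmin r hle (hS.fromSpec.isOpenEmbedding.injective (by rw [← hcomp, ← hcomp, he]))]
  have hy0 : hW.fromSpec q0 ∈ U := by
    by_contra hn
    have h0 : ringKrullDim ↑(CInt.fiberStalk p (hW.fromSpec q0)) ≤ 0 := by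
      refine ringKrullDim_stalk_le_zero _ fun w hw => ?_
      apply (p.fiberι _).isEmbedding.injective
      rw [Scheme.Hom.fiberι_asFiber]
      refine hgen _ ?_ ?_
      · have := hw.map (p.fiberι _).continuous
        rwa [Scheme.Hom.fiberι_asFiber] at this
      · have := Set.mem_range_self (f := p.fiberι (p (hW.fromSpec q0))) w
        rw [Scheme.Hom.range_fiberι] at this
        exact this
    exact absurd ((hU _ hn).trans h0) (by norm_num)
  obtain ⟨c, hc, hct⟩ := (germ_eq_zero_iff hW ⟨hW.fromSpec q0, hy0W⟩ t).1 (htU _ hy0W hy0)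
  have hpr : hW.primeIdealOf ⟨hW.fromSpec q0, hy0W⟩ = q0 :=
    hW.fromSpec.isOpenEmbedding.injective (hW.fromSpec_primeIdealOf _)
  rw [hpr] at hc
  have hconcl := H1FibInj.concl_of_flat (A := Γ(S, S0)) (LinearMap.lsmul Γ(P, W) Γ(P, W) c) q (hinj c hc)
  have h1 : (1 : Localization.AtPrime q.asIdeal) ⊗ₜ[Γ(P, W)] t = 0 := hconcl.1 (by
    show (1 : Localization.AtPrime q.asIdeal) ⊗ₜ[Γ(P, W)] (c • t) = _
    rw [map_zero, smul_eq_mul, hct, TensorProduct.tmul_zero])
  have h2 := congrArg (TensorProduct.rid Γ(P, W) (Localization.AtPrime q.asIdeal)) h1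
  rw [TensorProduct.rid_tmul, map_zero, Algebra.smul_def, mul_one,
    IsLocalization.map_eq_zero_iff q.asIdeal.primeCompl] at h2
  obtain ⟨d, hd⟩ := h2
  exact (germ_eq_zero_iff hW ⟨z, hzW⟩ t).2 ⟨d.1, d.2, hd⟩



/-- Let X be a smooth, proper, geometrically irreducible scheme over a field k admitting an ample
invertible sheaf, S a k-scheme, and U a big open subset of X ×_k S, i.e. at every point outside U
the local ring of the fibre over S has Krull dimension at least 2. Then U is schematically dense in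
X ×_k S: restriction of functions from any open V to V ∩ U is injective. -/
theorem result
    (k : Type u) [Field k] (X S : Scheme.{u})
    (a : X ⟶ Spec (CommRingCat.of k)) (b : S ⟶ Spec (CommRingCat.of k))
    [Smooth a] [IsProper a] [GeometricallyIrreducible a]
    (hproj : ∃ H : X.Modules, CohB1.IsAmple H)
    (U : (pullback a b).Opens)
    (hU : ∀ x : ↥(pullback a b), x ∉ U →
      (2 : WithBot ℕ∞) ≤ ringKrullDim ↑(CInt.fiberStalk (pullback.snd a b) x)) :
    CInt.IsSchematicallyDense U := by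
  refine isSchematicallyDense_of_smooth (pullback.snd a b) U fun x hx => le_trans ?_ (hU x hx)
  norm_num

end Groth.Agent.S16428
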