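import Groth.Statements.S6333
import Groth.Agent.H1MilFib.Bound
import Mathlib

set_option autoImplicit false
universe u
open Fields

namespace Groth.Agent.S6333

/-- For a finitely generated field extension K/k, the algebraic closure of k inside K is a finite
extension of k. -/
theorem result {k K : Type u} [Field k] [Field K] [Algebra k K]
    (hfg : (⊤ : IntermediateField k K).FG) :
    FiniteDimensional k (algebraicClosure k K) := by
  classical
  haveI : Algebra.EssFiniteType k K := IntermediateField.fg_top_iff.1 hfg
  obtain ⟨t, ht, htf⟩ : ∃ t : Set K, IsTranscendenceBasis k ((↑) : t → K) ∧ t.Finite := by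
    obtain ⟨s, hs⟩ := IntermediateField.exists_finset_maximalFor_isTranscendenceBasis_separableClosure k K
    exact ⟨s, hs.1, s.finite_toSet⟩
  haveI : Finite t := htf.to_subtype
  let L := IntermediateField.adjoin k (Set.range ((↑) : t → K))
  haveI : Algebra.IsAlgebraic L K := ht.isAlgebraic_field
  haveI : Algebra.EssFiniteType L K := Algebra.EssFiniteType.of_comp k L K
  haveI : Module.Finite L K := Algebra.finite_of_essFiniteType_of_isAlgebraic
  refine Groth.Agent.H1MilFib.finiteDimensional_algebraicClosure_of_bounded (Module.finrank L K) fun F hF => ?_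
  -- `t` stays algebraically independent over `F`
  haveI : Algebra.IsAlgebraic k F := Algebra.IsAlgebraic.of_finite k F
  haveI : Algebra.IsAlgebraic (Algebra.adjoin k (Set.range ((↑) : t → K))) K := ht.isAlgebraic
  haveI : Algebra.IsAlgebraic (Algebra.adjoin F (Set.range ((↑) : t → K))) K := by
    refine ⟨fun a => ?_⟩
    let ι := Algebra.adjoin k (Set.range ((↑) : t → K))
    let ι' := Algebra.adjoin F (Set.range ((↑) : t → K))
    have hle : ι ≤ ι'.restrictScalars k := Algebra.adjoin_le Algebra.subset_adjoin
    let φ : ι →+* ι' :=
      { toFun := fun x => ⟨x.1, hle x.2⟩, map_one' := rfl, map_mul' := fun _ _ => rfl, map_zero' := rfl,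
        map_add' := fun _ _ => rfl }
    obtain ⟨P, hP0, hP⟩ := (ht.isAlgebraic).isAlgebraic a
    refine ⟨P.map φ, (Polynomial.map_ne_zero_iff (f := φ) fun x y h => Subtype.ext (congrArg (fun z : ι' => (z : K)) h)).2 hP0, ?_⟩
    rw [Polynomial.aeval_def, Polynomial.eval₂_map]
    exact hP
  have hF0 : Algebra.trdeg k F = 0 := trdeg_eq_zero
  have hind : AlgebraicIndependent F ((↑) : t → K) := by
    refine (Algebra.IsAlgebraic.isTranscendenceBasis_of_le_trdeg_of_finite F ((↑) : t → K) (le_of_eq ?_)).1
    rw [ht.cardinalMk_eq_trdeg, ← trdeg_add_eq k F (A := K), hF0, zero_add]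
  let b := Module.finBasis k F
  have hli : LinearIndependent (Algebra.adjoin k (Set.range ((↑) : t → K))) fun i => (b i : K) := by
    rw [Fintype.linearIndependent_iff]
    intro g hg
    choose f hf using fun i => (show ((g i : K) ∈
        (MvPolynomial.aeval ((↑) : t → K) : MvPolynomial t k →ₐ[k] K).range) by
      rw [← Algebra.adjoin_range_eq_range_aeval]; exact (g i).2)
    have hQ : MvPolynomial.aeval ((↑) : t → K)
        (∑ i, b i • MvPolynomial.map (algebraMap k F) (f i)) = 0 := by
      rw [map_sum]
      refine Eq.trans (Finset.sum_congr rfl fun i _ => ?_) hg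
      rw [map_smul, MvPolynomial.aeval_map_algebraMap]
      simp only [Algebra.smul_def]
      rw [show MvPolynomial.aeval ((↑) : t → K) (f i) = (g i : K) from hf i, mul_comm]
      rfl
    have h0 : (∑ i, b i • MvPolynomial.map (algebraMap k F) (f i)) = 0 := hind (hQ.trans (map_zero _).symm)
    intro i
    have hfi : f i = 0 := MvPolynomial.ext _ _ fun m => by
      have h1 := congrArg (MvPolynomial.coeff m) h0
      simp only [MvPolynomial.coeff_sum, MvPolynomial.coeff_smul, MvPolynomial.coeff_map, MvPolynomial.coeff_zero,
        smul_eq_mul] at h1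
      refine Fintype.linearIndependent_iff.1 b.linearIndependent (fun j => MvPolynomial.coeff m (f j)) ?_ i
      refine Eq.trans (Finset.sum_congr rfl fun j _ => ?_) h1
      rw [Algebra.smul_def, mul_comm]
    refine Subtype.ext ((hf i).symm.trans ?_)
    rw [hfi, map_zero]
    rfl
  open scoped IntermediateField.algebraAdjoinAdjoin in
  simpa using (LinearIndependent.localization (IntermediateField.adjoin k (Set.range ((↑) : t → K)))
    (nonZeroDivisors (Algebra.adjoin k (Set.range ((↑) : t → K)))) hli).fintype_card_le_finrank

end Groth.Agent.S6333
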