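import Groth.Statements.S6235
import Groth.Agent.PerfGen7.RelPCBasic
import Groth.Agent.KZ.ClosedDev
import Groth.Agent.QCoh.Pullback

set_option autoImplicit false
universe u
open CategoryTheory CategoryTheory.Limits AlgebraicGeometry
attribute [local instance] HasDerivedCategory.standard
open KSix

namespace Groth.Agent.S6235

/-- Let f : X ⟶ Y be a morphism of schemes and E an object of D(O_X) which is pseudo-coherent relative
to f (chart form, every degree; in particular f is locally of finite type). Then the cohomology
sheaves of E are quasi-coherent. -/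
theorem result {X Y : Scheme.{u}} (f : X ⟶ Y) (E : DCoh.D X)
    (hE : DerSch.IsPseudoCoherentRelAll f E) : DCoh.IsQCohD E := by
  intro j
  choose U R i hxU hU hi hpc using fun x : X => Groth.Agent.PerfGen7.exists_chart (hE (j - 1)) x
  refine Groth.Agent.QCoh.isQCoh_of_isOpenCover U
    (top_le_iff.1 fun x _ => TopologicalSpace.Opens.mem_iSup.2 ⟨x, hxU x⟩) fun x => ?_
  haveI := hi x
  let G := DerivedCategory.Q.objPreimage E
  have hq : Coh.IsQCoh ((Scheme.Modules.pushforward (i x)).obj
      ((Scheme.Modules.restrictFunctor (U x).ι).obj (DCoh.HD E j))) :=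
    Groth.Agent.KFlatLib.isQCoh_of_iso
      (Groth.Agent.PerfGen7.pushRestrictHDIso (i x) G (Groth.Agent.KFlatLib.repIso E) j)
      (Groth.Agent.KFlatLib.isQCoh_HD_of_pseudoCoherent (hpc x G ⟨Groth.Agent.KFlatLib.repIso E⟩) j
        (by omega))
  haveI := Groth.Agent.KZ.ClosedDev.isIso_counit (i x) hq
  exact Groth.Agent.KFlatLib.isQCoh_of_iso
    (asIso ((Scheme.Modules.pullbackPushforwardAdjunction (i x)).counit.app
      ((Scheme.Modules.restrictFunctor (U x).ι).obj (DCoh.HD E j))))
    (Groth.Agent.QCoh.isQCoh_pullback (i x) hq)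

end Groth.Agent.S6235
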