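import Groth.Statements.S6204
import Groth.Agent.PerfGen7.RelLocal

set_option autoImplicit false
universe u
open CategoryTheory CategoryTheory.Limits AlgebraicGeometry
attribute [local instance] HasDerivedCategory.standard
open KSix

namespace Groth.Agent.S6204

open CategoryTheory.Pretriangulated in
/-- Let f : X ⟶ Y be locally of finite type, n an integer, and E ⟶ F ⟶ G ⟶ E⟦1⟧ a distinguished triangle
of D(O_X); all pseudo-coherence is relative to f, in chart form. If E is (n+1)-pseudo-coherent and F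
is n-pseudo-coherent then G is n-pseudo-coherent; if E and G are n-pseudo-coherent then so is F; if
F is n-pseudo-coherent and G is (n-1)-pseudo-coherent then E is n-pseudo-coherent. -/
theorem result {X Y : Scheme.{u}} (f : X ⟶ Y) [LocallyOfFiniteType f] (n : ℤ)
    (T : Triangle (DCoh.D X)) (hT : T ∈ distinguishedTriangles) :
    (DerSch.IsPseudoCoherentRel f (n + 1) T.obj₁ → DerSch.IsPseudoCoherentRel f n T.obj₂ →
        DerSch.IsPseudoCoherentRel f n T.obj₃) ∧
      (DerSch.IsPseudoCoherentRel f n T.obj₁ → DerSch.IsPseudoCoherentRel f n T.obj₃ →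
        DerSch.IsPseudoCoherentRel f n T.obj₂) ∧
      (DerSch.IsPseudoCoherentRel f n T.obj₂ → DerSch.IsPseudoCoherentRel f (n - 1) T.obj₃ →
        DerSch.IsPseudoCoherentRel f n T.obj₁) := by
  have main : ∀ (m₁ m₂ m₃ : ℤ) (A B C : DCoh.D X),
      (∀ {U : Scheme.{u}} {Z : Scheme.{u}} (i : U ⟶ Z) [IsClosedImmersion i] (j : U ⟶ X) [IsOpenImmersion j],
        Groth.Agent.KFlatLib.LocPC m₁ ((Groth.Agent.PerfGen7.pushD i).obj ((Groth.Agent.KFlatLib.rho j).obj A)) →
        Groth.Agent.KFlatLib.LocPC m₂ ((Groth.Agent.PerfGen7.pushD i).obj ((Groth.Agent.KFlatLib.rho j).obj B)) →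
        Groth.Agent.KFlatLib.LocPC m₃ ((Groth.Agent.PerfGen7.pushD i).obj ((Groth.Agent.KFlatLib.rho j).obj C))) →
      DerSch.IsPseudoCoherentRel f m₁ A → DerSch.IsPseudoCoherentRel f m₂ B →
      DerSch.IsPseudoCoherentRel f m₃ C := by
    intro m₁ m₂ m₃ A B C key hA hB
    refine Groth.Agent.PerfGen7.isPseudoCoherentRel_iff.2 fun x => ?_
    obtain ⟨U, V, hxU, hU, hV, h, n', φ, hφ, hp⟩ := Groth.Agent.PerfGen7.isPseudoCoherentRel_iff.1 hA x
    have hp' := (Groth.Agent.PerfGen7.chartPC_iff hU φ hφ.1).1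
      (Groth.Agent.PerfGen7.chartPC_of_rel hB hU hV h φ hφ)
    exact ⟨U, V, hxU, hU, hV, h, n', φ, hφ, fun hi =>
      haveI := hi
      key (Groth.Agent.PerfGen7.imm U φ) U.ι (hp hi) (hp' hi)⟩
  refine ⟨main _ _ _ _ _ _ fun i _ j _ => ?_, main _ _ _ _ _ _ fun i _ j _ => ?_,
    main _ _ _ _ _ _ fun i _ j _ => ?_⟩
  · exact (Groth.Agent.KFlatLib.locPC_two_of_three n _ ((Groth.Agent.PerfGen7.pushD i).map_distinguished _
      ((Groth.Agent.KFlatLib.rho j).map_distinguished T hT))).1
  · exact (Groth.Agent.KFlatLib.locPC_two_of_three n _ ((Groth.Agent.PerfGen7.pushD i).map_distinguished _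
      ((Groth.Agent.KFlatLib.rho j).map_distinguished T hT))).2.1
  · have h := (Groth.Agent.KFlatLib.locPC_two_of_three (n - 1) _ ((Groth.Agent.PerfGen7.pushD i).map_distinguished _
      ((Groth.Agent.KFlatLib.rho j).map_distinguished T hT))).2.2
    rw [sub_add_cancel] at h
    exact h

end Groth.Agent.S6204
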