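import Groth.Statements.S0251
import Groth.Agent.Pi1PS.Purity

set_option autoImplicit false
attribute [-instance] CategoryTheory.catToReflQuiver
set_option backward.isDefEq.respectTransparency false
universe u
open Pi1

namespace Groth.Agent.S0251

open AlgebraicGeometry CategoryTheory CategoryTheory.Limits in
/-- If A is a Noetherian local ring of depth at least 2 and d is at least 1, then purity holds for the
local ring of formal power series in d variables over A. -/
theorem result (A : Type u) [CommRing A] [IsNoetherianRing A] [IsLocalRing A] (hA : (2 : ℕ∞) ≤ LocCoh.depth A A)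
    (d : ℕ) (hd : 1 ≤ d) : FEt.PurityHolds (MvPowerSeries (Fin d) A) := by
  obtain ⟨e, rfl⟩ : ∃ e, d = e + 1 := ⟨d - 1, by omega⟩
  have hd' := Groth.Agent.Pi1PS.IsTower.le_depth (k := 2) (by exact_mod_cast hA) (Groth.Agent.Pi1PS.isTower_mvPowerSeries A e)
  refine Groth.Agent.Pi1Alg.purityHolds_of_ringEquiv (MvPowerSeries.finSuccEquiv A e).toRingEquiv.symm
    (Groth.Agent.Pi1PS.purityHolds_powerSeries (le_trans ?_ hd'))
  exact_mod_cast Nat.le_add_right 2 e

end Groth.Agent.S0251
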