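import Groth.Statements.S1711
import Groth.Agent.H1Falt.Annih

set_option autoImplicit false
universe u
open CategoryTheory
attribute [local instance] HasDerivedCategory.standard
open LocCoh

namespace Groth.Agent.S1711

/-- Let A be a Noetherian ring admitting a dualizing complex, T ⊆ T' subsets of Spec A stable under
specialization, s ≥ 0 and M a finite A-module. Then some ideal J with V(J) ⊆ T' kills H^i_T(M) for
all i ≤ s if and only if for every prime p outside T' and every q in T containing p, the depth of
M_p over A_p plus the Krull dimension of the interval of primes between p and q is greater than s. -/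
theorem result (A : Type u) [CommRing A] [IsNoetherianRing A] (hA : ∃ ω : Dual.D A, Dual.IsDualizing A ω) (T T' : Set (PrimeSpectrum A)) (hT : StableUnderSpecialization T) (hT' : StableUnderSpecialization T') (hTT' : T ⊆ T') (s : ℕ) (M : Type u) [AddCommGroup M] [Module A M] [Module.Finite A M] : (∃ J : Ideal A, PrimeSpectrum.zeroLocus (J : Set A) ⊆ T' ∧ ∀ i : ℕ, i ≤ s → ∀ a ∈ J, ∀ x : Dual2.HT T i M, a • x = 0) ↔ (∀ p q : PrimeSpectrum A, p ∉ T' → q ∈ T → p ≤ q → (s : WithBot ℕ∞) < ((LocCoh.depth (Localization.AtPrime p.asIdeal) (LocalizedModule p.asIdeal.primeCompl M) : ℕ∞) : WithBot ℕ∞) + Order.krullDim (Set.Icc p q)) := by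
  letI := HasDerivedCategory.standard (ModuleCat.{u} A)
  obtain ⟨ω, hω⟩ := hA
  obtain ⟨L, hb, hinj, hL, ⟨e⟩⟩ := Groth.Agent.H1Falt.exists_model (Dual.inD A M) 0
    (fun j hj => Groth.Agent.H1Falt.inD_subsingleton M j hj.ne)
  haveI := hL
  have hd := fun i : ℕ => (Groth.Agent.H1Falt.htSystem T M i).transfer L e
  refine Iff.trans ?_ (Groth.Agent.H1Falt.exists_killed_iff M hω hT hT' hb hinj e)
  refine exists_congr fun J => and_congr_right fun _ => ?_
  constructor
  · intro h i hi r hr
    by_cases h0 : i < 0
    · intro z _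
      haveI := Groth.Agent.H1Falt.gamT_subsingleton (T := T) (hb i h0)
      rw [Subsingleton.elim (r • z) 0]
      exact zero_mem _
    · obtain ⟨k, rfl⟩ := Int.eq_ofNat_of_zero_le (not_lt.1 h0)
      exact ((hd k).2 r).1 (h k (by omega) r hr)
  · exact fun h i hi r hr => ((hd i).2 r).2 (h i (by omega) r hr)

end Groth.Agent.S1711
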