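import Groth.Statements.S1715
import Groth.Agent.PerfGen7.LocalizeDual

set_option autoImplicit false
universe u
open CategoryTheory
attribute [local instance] HasDerivedCategory.standard
open LocCoh

namespace Groth.Agent.S1715

/-- For an affine scheme: let A be a Noetherian ring with a dualizing complex and M a finite A-module
satisfying Serre's condition (S_k). Then there are only finitely many primes p such that M_p has
depth exactly k while its support has dimension greater than k. (The source states this for coherent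
modules on a Noetherian scheme with a dualizing complex.) -/
theorem result (A : Type u) [CommRing A] [IsNoetherianRing A] (hA : ∃ ω : Dual.D A, Dual.IsDualizing A ω) (M : Type u) [AddCommGroup M] [Module A M] [Module.Finite A M] (k : ℕ) (hM : LocCoh.HasSk k A M) : Set.Finite {p : PrimeSpectrum A | LocCoh.depth (Localization.AtPrime p.asIdeal) (LocalizedModule p.asIdeal.primeCompl M) = k ∧ (k : WithBot ℕ∞) < Module.supportDim (Localization.AtPrime p.asIdeal) (LocalizedModule p.asIdeal.primeCompl M)} := by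
  letI := HasDerivedCategory.standard (ModuleCat.{u} A)
  classical
  obtain ⟨ω, hω⟩ := hA
  obtain ⟨n, hn, -, hmono, -⟩ := Groth.Agent.KFlatLib.exists_extDegree hω
  obtain ⟨a, b, hab⟩ := hω.finite_injective_dimension
  obtain ⟨a', b', -, _, _⟩ := Groth.Agent.KFlatLib.exists_bounds_of_isDualizing hω
  haveI hfin : ∀ j : ℤ, Module.Finite A (Dual.inD A M ⟶ ω⟦j⟧) := fun j =>
    Groth.Agent.KFlatLib.finite_hom_module ω a' hω.finite_cohomology M j
  have key : ∀ p : PrimeSpectrum A, ∀ j : ℤ, p ∈ Module.support A (Dual.inD A M ⟶ ω⟦j⟧) →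
      ∃ δ d : ℕ, LocCoh.depth (Localization.AtPrime p.asIdeal) (LocalizedModule p.asIdeal.primeCompl M) = δ ∧
        Module.supportDim (Localization.AtPrime p.asIdeal) (LocalizedModule p.asIdeal.primeCompl M) = d ∧
        (δ : ℤ) ≤ n p - j ∧ n p - j ≤ d := by
    intro p j hp
    haveI : Nontrivial (LocalizedModule p.asIdeal.primeCompl M) :=
      Module.mem_support_iff.1 (Groth.Agent.KFlatLib.support_hom_subset M _ hp)
    haveI : Module.Finite (Localization.AtPrime p.asIdeal) (LocalizedModule p.asIdeal.primeCompl M) :=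
      Module.Finite.of_isLocalizedModule p.asIdeal.primeCompl (LocalizedModule.mkLinearMap p.asIdeal.primeCompl M)
    obtain ⟨ω', h1, h2, h3⟩ := Groth.Agent.PerfGen7.LocalizeDual.exists_local hω hn p
    obtain ⟨δ, hδ⟩ := Groth.Agent.KFlatLib.exists_depth_eq (A := Localization.AtPrime p.asIdeal)
      (LocalizedModule p.asIdeal.primeCompl M)
    obtain ⟨d, hd⟩ := Groth.Agent.PerfGen7.LocalizeDual.exists_supportDim_eq
      (B := Localization.AtPrime p.asIdeal) (LocalizedModule p.asIdeal.primeCompl M)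
    obtain ⟨hlow, -⟩ := (Groth.Agent.KFlatLib.depth_eq_iff_ext h1 h2 _ δ).1 hδ
    obtain ⟨c⟩ := h3 M (j - n p)
    rw [show n p + (j - n p) = j by omega] at c
    have h5 := c.toEquiv.nontrivial_congr.2 (Module.mem_support_iff.1 hp)
    obtain ⟨h6, h7⟩ := (Groth.Agent.KFlatLib.ext_amplitude_and_support h1 h2 _ d hd (j - n p)).1 h5
    refine ⟨δ, d, hδ, hd, ?_, by omega⟩
    by_contra hc
    obtain ⟨e, he⟩ : ∃ e : ℕ, j - n p = -(e : ℤ) := ⟨(n p - j).toNat, by omega⟩
    rw [he] at h5
    exact not_subsingleton _ (hlow e (by omega))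
  let B : ℤ → ℤ → Ideal A := fun j j' =>
    Module.annihilator A (Dual.inD A M ⟶ ω⟦j⟧) ⊔ Module.annihilator A (Dual.inD A M ⟶ ω⟦j'⟧)
  refine Set.Finite.subset (((Finset.Icc a b ×ˢ Finset.Icc a b).finite_toSet).biUnion fun x _ =>
    ((B x.1 x.2).finite_minimalPrimes_of_isNoetherianRing.preimage
      (Set.injOn_of_injective fun p q h => PrimeSpectrum.ext h) :
        Set.Finite ((fun p : PrimeSpectrum A => p.asIdeal) ⁻¹' (B x.1 x.2).minimalPrimes))) ?_
  intro p hp
  obtain ⟨hk, hdim⟩ := hp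
  haveI : Nontrivial (LocalizedModule p.asIdeal.primeCompl M) := by
    refine (subsingleton_or_nontrivial _).resolve_left fun hsub => ?_
    rw [LocCoh.depth, LocCoh.idealDepth, if_pos (Subsingleton.elim _ _)] at hk
    exact absurd hk (ENat.top_ne_natCast k)
  haveI : Module.Finite (Localization.AtPrime p.asIdeal) (LocalizedModule p.asIdeal.primeCompl M) :=
    Module.Finite.of_isLocalizedModule p.asIdeal.primeCompl (LocalizedModule.mkLinearMap p.asIdeal.primeCompl M)
  obtain ⟨ω', h1, h2, h3⟩ := Groth.Agent.PerfGen7.LocalizeDual.exists_local hω hn p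
  obtain ⟨d, hd⟩ := Groth.Agent.PerfGen7.LocalizeDual.exists_supportDim_eq
    (B := Localization.AtPrime p.asIdeal) (LocalizedModule p.asIdeal.primeCompl M)
  rw [hd] at hdim
  have hkd : k < d := by exact_mod_cast hdim
  have mem : ∀ e : ℕ, Nontrivial (Dual.inD (Localization.AtPrime p.asIdeal) (LocalizedModule p.asIdeal.primeCompl M) ⟶ ω'⟦-(e : ℤ)⟧) →
      p ∈ Module.support A (Dual.inD A M ⟶ ω⟦n p - (e : ℤ)⟧) := fun e he => by
    obtain ⟨c⟩ := h3 M (-(e : ℤ))
    rw [show n p + -(e : ℤ) = n p - e from (sub_eq_add_neg _ _).symm] at c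
    exact Module.mem_support_iff.2 (c.toEquiv.nontrivial_congr.1 he)
  have hj := mem k ((Groth.Agent.KFlatLib.depth_eq_iff_ext h1 h2 _ k).1 hk).2
  have hj' := mem d (Groth.Agent.KFlatLib.nontrivial_ext_neg_supportDim h1 h2 _ d hd)
  have hrange : ∀ j : ℤ, p ∈ Module.support A (Dual.inD A M ⟶ ω⟦j⟧) → j ∈ Finset.Icc a b := fun j hj => by
    rw [Finset.mem_Icc]
    by_contra hout
    haveI := hab M j (by omega)
    exact Module.mem_support_iff'.1 hj |>.elim fun x hx => hx 1 p.asIdeal.primeCompl.one_mem (Subsingleton.elim _ _)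
  refine Set.mem_iUnion₂.2 ⟨(n p - k, n p - d), Finset.mem_product.2 ⟨hrange _ hj, hrange _ hj'⟩, ?_⟩
  have hle : ∀ j : ℤ, ∀ r : PrimeSpectrum A, r ∈ Module.support A (Dual.inD A M ⟶ ω⟦j⟧) ↔
      Module.annihilator A (Dual.inD A M ⟶ ω⟦j⟧) ≤ r.asIdeal := fun j r => Module.mem_support_iff_of_finite
  refine ⟨⟨p.2, sup_le ((hle _ p).1 hj) ((hle _ p).1 hj')⟩, fun r hr hrp => ?_⟩
  by_contra hne
  let R : PrimeSpectrum A := ⟨r, hr.1⟩
  have hlt : R < p := lt_of_le_not_ge hrp hne
  have := hmono hlt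
  obtain ⟨δ, e, hδ, he, h4, h5⟩ := key R (n p - k) ((hle _ R).2 (le_sup_left.trans hr.2))
  obtain ⟨δ', e', -, he', -, h6⟩ := key R (n p - d) ((hle _ R).2 (le_sup_right.trans hr.2))
  have hee : e' = e := by
    have h := he'.symm.trans he
    exact_mod_cast h
  haveI : R.asIdeal.IsPrime := R.2
  have hsk := hM R.asIdeal
  rw [he, hδ] at hsk
  have h7 : k ≤ δ ∨ e ≤ δ := by
    rcases min_le_iff.1 hsk with h | h
    · exact Or.inl (by exact_mod_cast h)
    · exact Or.inr (by exact_mod_cast h)
  omega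

end Groth.Agent.S1715
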