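import Groth.Statements.S6487
import Groth.Agent.JacSepPts.Points

set_option autoImplicit false
set_option backward.isDefEq.respectTransparency false
set_option backward.isDefEq.respectTransparency.types false
set_option maxHeartbeats 1000000
set_option linter.style.haveILetI false
universe u
open CategoryTheory CategoryTheory.Limits AlgebraicGeometry
open PicF

namespace Groth.Agent.S6487

open Groth.Agent Groth.Agent.H23

/-- Let k be a separably closed field, X a smooth projective curve over k, K/k a field extension and L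
an invertible sheaf on X_K. Then there is an invertible sheaf L_0 on X with dim_K H^0(X_K, L ⊗
L_0|_{X_K}) = 1 and H^1(X_K, L ⊗ L_0|_{X_K}) = 0. The base change X_K is given as any pullback
square over Spec K → Spec k with its K-structure; L_0|_{X_K} is the pullback module and ⊗ is
CohB1.tensorMod; proper replaces projective (equivalent for curves over a field). -/
theorem result (k : Type u) [Field k] [IsSepClosed k] (X : Scheme.{u}) [X.Over (Spec (CommRingCat.of k))] (hX : Curve.IsSmoothProperCurve k X (X ↘ Spec (CommRingCat.of k))) (K : Type u) [Field K] [Algebra k K] (XK : Scheme.{u}) [XK.Over (Spec (CommRingCat.of K))] (g : XK ⟶ X) (hpb : IsPullback g (XK ↘ Spec (CommRingCat.of K)) (X ↘ Spec (CommRingCat.of k)) (Spec.map (CommRingCat.ofHom (algebraMap k K)))) (L : XK.Modules) (hL : PicF.IsInvertible L) : ∃ L₀ : X.Modules, PicF.IsInvertible L₀ ∧ Module.finrank K (Coh.HH XK (CohB1.tensorMod L ((Scheme.Modules.pullback g).obj L₀)) 0) = 1 ∧ Subsingleton (Coh.HH XK (CohB1.tensorMod L ((Scheme.Modules.pullback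 g).obj L₀)) 1) := by
  obtain ⟨hP, hS, hI, hdim⟩ := hX
  haveI := hP; haveI := hS; haveI := hI
  have hO := JacSepPts.finrank_h0_of_isSepClosed k (X := X)
  haveI := CurveBC.isProper k K g hpb
  haveI := CurveBC.smooth k K g hpb
  haveI := CurveBC.isIntegral k K g hpb hO
  have hdimK := CurveBC.topologicalKrullDim_eq k K g hpb hdim
  haveI := CurveCohLib.isNoetherian_of_proper (k := K) (X := XK)
  obtain ⟨p₀, hp₀, -⟩ := GrpSchLib.exists_point_of_smooth (X ↘ Spec (CommRingCat.of k)) ⊤ (x := genericPoint X) trivial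
  have hI₀ := JacSepPts.isInvertible_ker_section k hdim hp₀
  obtain ⟨D, hD, ⟨eD⟩⟩ := H23.PicInv.exists_inverse hI₀
  obtain ⟨q, hq, -, hsur, ⟨eq'⟩⟩ := JacSepPts.exists_point_over k hpb hdim hdimK hp₀
  have hDK : Curv2.deg K XK ((Scheme.Modules.pullback g).obj D) 1 = 1 := by
    obtain ⟨e₁⟩ := PicClLib.nonempty_pullback_structureModule g
    obtain ⟨e₂⟩ := PicMul.pull g (ClSub.idealMod p₀.ker) D
    have h := CurveRR.deg_congr K (e₂.symm ≪≫ (Scheme.Modules.pullback g).mapIso eD ≪≫ e₁) 1
    rw [CurveDeg.deg_structureModule] at h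
    have h3 := (CurveRR.deg_tensor K hdimK (PicClLib.isInvertible_pullback g hI₀) (PicClLib.isInvertible_pullback g hD)).symm.trans h
    rw [CurveRR.deg_congr K eq' 1, JacSepPts.deg_rat K hq hsur] at h3
    linarith
  have hdeg : ∀ N : ℕ, ∃ L₀ : X.Modules, PicF.IsInvertible L₀ ∧
      Curv2.deg K XK (CohB1.tensorMod L ((Scheme.Modules.pullback g).obj L₀)) 1 = Curv2.deg K XK L 1 + N := by
    intro N
    induction N with
    | zero =>
      obtain ⟨e₁⟩ := PicClLib.nonempty_pullback_structureModule g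
      refine ⟨_, CurveDeg.isInvertible_structureModule, ?_⟩
      refine (CurveRR.deg_tensor K hdimK hL (PicClLib.isInvertible_pullback g CurveDeg.isInvertible_structureModule)).trans ?_
      rw [CurveRR.deg_congr K e₁ 1, CurveDeg.deg_structureModule, Nat.cast_zero]
    | succ N ih =>
      obtain ⟨L₀, hL₀, hd⟩ := ih
      obtain ⟨e₂⟩ := PicMul.pull g L₀ D
      have hL₀' := PicClLib.isInvertible_pullback g hL₀
      have hD' := PicClLib.isInvertible_pullback g hD
      refine ⟨_, InvX.isInvertible_tensorMod hL₀ hD, ?_⟩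
      refine (CurveRR.deg_tensor K hdimK hL (PicClLib.isInvertible_pullback g (InvX.isInvertible_tensorMod hL₀ hD))).trans ?_
      have h4 := (CurveRR.deg_congr K e₂ 1).trans (CurveRR.deg_tensor K hdimK hL₀' hD')
      rw [hDK] at h4
      replace hd := (CurveRR.deg_tensor K hdimK hL hL₀').symm.trans hd
      push_cast
      linarith
  let χ := Curv2.euler K XK (Coh.structureModule XK)
  obtain ⟨L₁, hL₁, hd₁⟩ := hdeg ((Curv2.genus K XK : ℤ) + 1 - χ - Curv2.deg K XK L 1).toNat
  have hM := InvX.isInvertible_tensorMod hL (PicClLib.isInvertible_pullback g hL₁)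
  have hge : (Curv2.genus K XK : ℤ) + 1 - χ ≤
      Curv2.deg K XK (CohB1.tensorMod L ((Scheme.Modules.pullback g).obj L₁)) 1 := by
    rw [hd₁]
    have := Int.self_le_toNat ((Curv2.genus K XK : ℤ) + 1 - χ - Curv2.deg K XK L 1)
    omega
  haveI h1 := CurveDuality.subsingleton_HH_one_of_deg_ge K hdimK hM hge
  obtain ⟨n, hn⟩ : ∃ n, Module.finrank K (Coh.HH XK (CohB1.tensorMod L ((Scheme.Modules.pullback g).obj L₁)) 0) = n + 1 := by
    have hχ := CurveRR.euler_eq_h0_sub_h1 K hdimK.le (CurveDeg.isCoh_of_isInvertible hM).1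
    rw [Module.finrank_zero_of_subsingleton (M := Coh.HH XK (CohB1.tensorMod L ((Scheme.Modules.pullback g).obj L₁)) 1)] at hχ
    refine Nat.exists_eq_succ_of_ne_zero fun h0 => ?_
    rw [h0] at hχ
    unfold Curv2.deg at hge
    push_cast at hge hχ
    omega
  obtain ⟨σ, -, hR, hR0, hR1⟩ := JacSepPts.exists_sections_drop k hpb hdim hdimK n _ hM h1 hn
  let R := FGA.tensorList (List.ofFn fun t => ClSub.idealMod (σ t).ker)
  obtain ⟨e₂⟩ := PicMul.pull g L₁ R
  obtain ⟨a⟩ := PicMul.assoc L ((Scheme.Modules.pullback g).obj L₁) ((Scheme.Modules.pullback g).obj R)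
  let ε : CohB1.tensorMod L ((Scheme.Modules.pullback g).obj (CohB1.tensorMod L₁ R)) ≅
      CohB1.tensorMod (CohB1.tensorMod L ((Scheme.Modules.pullback g).obj L₁)) ((Scheme.Modules.pullback g).obj R) :=
    (DCoh.tensorBi.obj L).mapIso e₂ ≪≫ a.symm
  exact ⟨_, InvX.isInvertible_tensorMod hL₁ hR, ((CurveCohLib.hhEquiv (k := K) ε 0).finrank_eq).trans hR0,
    (CurveCohLib.hhEquiv (k := K) ε 1).toEquiv.subsingleton⟩


end Groth.Agent.S6487
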