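import Groth.Statements.S1668
import Groth.Agent.GeomNormalInsep.Scheme

set_option autoImplicit false
universe u
open CategoryTheory CategoryTheory.Limits AlgebraicGeometry
open Variety

set_option backward.isDefEq.respectTransparency false
set_option backward.isDefEq.respectTransparency.types false
attribute [local instance] Curv2.stalkAlgebra

namespace Groth.Agent.S1668

/-- Let X be a scheme over k such that X_{k'} is a normal scheme (all local rings integrally closed
domains) for every finite purely inseparable extension k' of k. Then X_K is a normal scheme for
every field extension K of k. -/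
theorem result (k : Type u) [Field k] (X : Scheme.{u}) [X.Over (Spec (CommRingCat.of k))]
    (h : ∀ (k' : Type u) [Field k'] [Algebra k k'] [FiniteDimensional k k'] [IsPurelyInseparable k k'],
      Pi1.IsNormalScheme (Curv2.bc k X k'))
    (K : Type u) [Field K] [Algebra k K] : Pi1.IsNormalScheme (Curv2.bc k X K) := by
  refine Groth.Agent.GeomNormalInsep.isNormalScheme_bc K fun x => ?_
  exact Groth.Agent.GeomNormalInsep.isNormalRing_tensor_of_insep k ↥(X.presheaf.stalk x)
    (fun k' _ _ hf hi => by
      haveI := hf; haveI := hi
      exact Groth.Agent.GeomNormalInsep.isNormalRing_of_norAt_stalk x k' (fun x' _ => h k' x')) K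

end Groth.Agent.S1668
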