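import Groth.Statements.S16754
import Groth.Agent.CurveBC.Main
import Groth.Agent.H23.MaxAbelian
-- import your own Groth.Agent.* helpers here

set_option autoImplicit false
set_option backward.isDefEq.respectTransparency false
set_option backward.isDefEq.respectTransparency.types false
set_option linter.style.haveILetI false
set_option maxHeartbeats 1000000
universe u
open CurvSt

namespace Groth.Agent.S16754
open Groth.Agent

open CategoryTheory CategoryTheory.Limits AlgebraicGeometry in
/-- Let k be a field and X a scheme which is proper and smooth over k and of dimension one. Then the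
following are equivalent: dim_k H^0(X, O_X) = 1 (the ground field is the ring of global functions);
X is geometrically connected over k; X is geometrically integral over k. (The remaining conditions
of the source concern membership in an open substack of the stack of curves and are not stated.) -/
theorem result (k : Type u) [Field k]
    (X : Scheme.{u}) [X.Over (Spec (CommRingCat.of k))] [IsProper (X ↘ Spec (CommRingCat.of k))]
    [Smooth (X ↘ Spec (CommRingCat.of k))] (hdim : topologicalKrullDim ↥X = 1) :
    (Module.finrank k (Coh.HH X (Coh.structureModule X) 0) = 1 ↔ GeometricallyConnected (X ↘ Spec (CommRingCat.of k))) ∧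
      (GeometricallyConnected (X ↘ Spec (CommRingCat.of k)) ↔ GeometricallyIntegral (X ↘ Spec (CommRingCat.of k))) := by
  haveI : ObjectProperty.IsClosedUnderIsomorphisms (AlgebraicGeometry.IsIntegral : Scheme.{u} → Prop) :=
    ⟨fun e h => haveI := h; H23.MaxAbelian.isIntegral_of_iso e.symm⟩
  have key : Module.finrank k (Coh.HH X (Coh.structureModule X) 0) = 1 →
      GeometricallyIntegral (X ↘ Spec (CommRingCat.of k)) := fun h0 => by
    refine ⟨geometrically_iff_of_commRing_of_isClosedUnderIsomorphisms.mpr fun K _ _ => ?_⟩
    letI : (pullback (X ↘ Spec (CommRingCat.of k)) (Spec.map (CommRingCat.ofHom (algebraMap k K)))).Over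
        (Spec (CommRingCat.of K)) := ⟨pullback.snd _ _⟩
    exact CurveBC.isIntegral k K (pullback.fst _ _) (IsPullback.of_hasPullback _ _) h0
  have key2 : GeometricallyIntegral (X ↘ Spec (CommRingCat.of k)) →
      GeometricallyConnected (X ↘ Spec (CommRingCat.of k)) := fun hi => by
    refine ⟨geometrically_iff_of_commRing_of_isClosedUnderIsomorphisms.mpr fun K _ _ => ?_⟩
    haveI : IsIntegral (pullback (X ↘ Spec (CommRingCat.of k)) (Spec.map (CommRingCat.ofHom (algebraMap k K)))) :=
      pullback_of_geometrically hi.geometrically_isIntegral _ _
    infer_instance
  have key3 : GeometricallyConnected (X ↘ Spec (CommRingCat.of k)) →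
      Module.finrank k (Coh.HH X (Coh.structureModule X) 0) = 1 := fun _ =>
    CurveBC.finrank_h0_of_geometricallyConnected k X
  exact ⟨⟨fun h => key2 (key h), key3⟩, ⟨fun h => key (key3 h), key2⟩⟩

end Groth.Agent.S16754
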