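import Groth.Statements.S19657
import Groth.Agent.H1ProperGen.Basic
import Groth.Agent.GeomNear.ProperFlat
import Groth.Agent.GrpSchLib.SmoothReduced

set_option autoImplicit false
universe u
open AlgebraicGeometry CategoryTheory CategoryTheory.Limits Topology
open EGA43

namespace Groth.Agent.S19657

/-- The implication from the weakest fibrewise condition to the global one. Let S be a locally
Noetherian scheme and f : X → S a surjective, flat, separated morphism, locally of finite
presentation and quasi-compact, whose fibres are all smooth and proper over the residue fields and
whose fibres over the maximal points of S (points without proper generization) are geometrically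
connected. Then f is proper and smooth with geometrically connected fibres. (The text states the
criterion over an arbitrary base, appealing to a limit argument it does not carry out, and without
the words separated and surjective, which its proof uses through the properness criterion it invokes
and which are both needed: an abelian variety over the fraction field of a discrete valuation ring,
viewed over the ring, is flat of finite presentation with smooth proper fibres, the closed one
empty, and is not proper; and two copies of the projective line over a discrete valuation ring glued
along their generic fibres form a flat, surjective, finitely presented scheme over the ring with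
smooth proper fibres and geometrically connected generic fibre which is neither separated nor
proper.) -/
theorem result
    {X S : Scheme.{u}} [IsLocallyNoetherian S] (f : X ⟶ S)
    [Surjective f] [Flat f] [IsSeparated f] [LocallyOfFinitePresentation f] [QuasiCompact f]
    (hsm : ∀ s : S, Smooth (f.fiberToSpecResidueField s))
    (hpr : ∀ s : S, IsProper (f.fiberToSpecResidueField s))
    (hgen : ∀ η : S, (∀ η' : S, η' ⤳ η → η' = η) → GeometricallyConnected (f.fiberToSpecResidueField η)) :
    IsProper f ∧ Smooth f ∧ GeometricallyConnected f := by
  have hloc : ∀ s : S, ∃ U : S.Opens, s ∈ U ∧ IsProper (f ∣_ U) := fun s =>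
    H1ProperGen.exists_isProper_restrict f s (hpr s) (f.surjective s) fun η hη _ => hgen η hη
  choose U hU hUp using hloc
  haveI : IsProper f := by
    refine IsZariskiLocalAtTarget.of_iSup_eq_top (P := @IsProper) U ?_ hUp
    rw [eq_top_iff]
    intro z _
    exact TopologicalSpace.Opens.mem_iSup.2 ⟨z, hU z⟩
  haveI : Smooth f := Smooth.of_smooth_fiberToSpecResidueField f hsm
  haveI : GeometricallyReduced f := by
    rw [GeometricallyReduced.eq_geometrically]
    refine geometrically_iff_forall_fiberToSpecResidueField.mpr fun s => ?_
    haveI := hsm s
    exact (@GrpSchLib.geometricallyReduced_of_smooth (S.residueField s) _ (f.fiber s) (f.fiberToSpecResidueField s) (hsm s)).geometrically_isReduced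
  refine ⟨inferInstance, inferInstance, ?_⟩
  rw [RGLib.ApproxCount.geometricallyConnected_iff]
  intro y
  obtain ⟨η, hη, hηy⟩ := H1ProperGen.exists_genericPoint_specializes y
  have h1 : MoreMor.nGeomConnComp f η = 1 := by
    haveI := hgen η fun η' hη' => H1ProperGen.eq_of_specializes_maximal hη hη'
    have h2 := (RGLib.ApproxCount.geometricallyConnected_iff (f.fiberToSpecResidueField η)).1 inferInstance
      (IsLocalRing.closedPoint _)
    rwa [(Triage.GeomCount.nGeom_baseChange f (f.fiberToSpecResidueField η) (f.fiberι η) (S.fromSpecResidueField η)
      (IsPullback.of_hasPullback _ _) _).2, Scheme.fromSpecResidueField_apply] at h2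
  rw [← h1]
  exact (hηy.mem_open ((GeomNear.isLocallyConstant_nGeomConnComp f).isOpen_fiber (MoreMor.nGeomConnComp f y)) rfl).symm

end Groth.Agent.S19657
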