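import Groth.Statements.S1623
import Groth.Agent.PointBlowUp.Transfer

set_option autoImplicit false
set_option backward.isDefEq.respectTransparency false
set_option backward.isDefEq.respectTransparency.types false
set_option linter.style.haveILetI false
universe u
open CategoryTheory CategoryTheory.Limits AlgebraicGeometry
open Resolve

namespace Groth.Agent.S1623
open Groth.Agent

/-- Let A be a regular local ring of dimension two and b : X → Spec A a blowing up in the maximal ideal.
For every quasi-coherent O_X-module F and every p ≥ 2, H^p(X, F) = 0. -/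
theorem result (A : Type u) [CommRing A] [IsRegularLocalRing A] (hA : ringKrullDim A = 2)
    (X : Scheme.{u}) (b : X ⟶ Spec (CommRingCat.of A)) (hb : BlowUp.IsBlowUp b (Curv2.idealSheaf A (IsLocalRing.maximalIdeal A)))
    (F : X.Modules) (hF : Coh.IsQCoh F) (p : ℕ) (hp : 2 ≤ p) : Subsingleton (Coh.HH X F p) := by
  obtain ⟨hp', -, -, hfib, h1⟩ := PointBlowUp.main A hA b hb
  letI : X.Over (Spec (CommRingCat.of A)) := ⟨b⟩
  haveI : IsProper (X ↘ Spec (CommRingCat.of A)) := hp'
  exact FibVanish.subsingleton_HH_qcoh (A := A) hfib hF (by omega)

end Groth.Agent.S1623
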