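import Groth.Statements.S14518
import Groth.Agent.CurveCohLib.HopfBilinear
import Groth.Agent.CurveCohLib.Hopf
import Groth.Agent.AmpleVan.Mul
import Groth.Agent.TorLib.Basic
import Groth.Agent.QCoh.LocFree
import Groth.Agent.CurveCohLib.Pencil
import Groth.Agent.Lib.CurveDeg
import Groth.Agent.KFlatLib.Perfect.Tensor

set_option autoImplicit false
set_option backward.isDefEq.respectTransparency false
set_option backward.isDefEq.respectTransparency.types false
universe u
open CategoryTheory CategoryTheory.Limits AlgebraicGeometry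
open Variety

namespace Groth.Agent.S14518

open Groth.Agent

variable {X : Scheme.{u}}

open MonoidalCategory TensorProduct in
/-- Global sections of finite locally free modules on an integral scheme have no zero divisors. -/
theorem tmul_eq_zero [IsIntegral X] {E F : X.Modules} (hE : FlatMod.IsFinLocFree E) (hF : FlatMod.IsFinLocFree F)
    (σ : Γ(E, ⊤)) (τ : Γ(F, ⊤)) (h : InvX.tmul σ τ = 0) : σ = 0 ∨ τ = 0 := by
  let η := genericPoint X
  let P := CohB1.toPMod E
  let Q := CohB1.toPMod F
  have tf : ∀ {M : X.Modules}, FlatMod.IsFinLocFree M → TorSh.IsTorsionFree M := fun hM y => by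
    haveI := QCoh.free_stalk_of_isFinLocFree hM y
    infer_instance
  have key : (KFlatLib.tensorStalkEquiv P Q)
      (KFlatLib.germP P ⊤ (trivial : η ∈ (⊤ : X.Opens)) σ ⊗ₜ[X.presheaf.stalk η]
        KFlatLib.germP Q ⊤ (trivial : η ∈ (⊤ : X.Opens)) τ) = 0 := by
    apply (ConcreteCategory.bijective_of_isIso ((KFlatLib.stalkP η).map (KFlatLib.unitShP (P ⊗ Q)))).1
    refine (((congrArg ((KFlatLib.stalkP η).map (KFlatLib.unitShP (P ⊗ Q))).hom (KFlatLib.ofTensor_germ ⊤ _ _ _)).trans
      (KFlatLib.stalkModMap_germ _ ⊤ _ _)).trans ?_).trans (map_zero _).symm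
    exact (congrArg (KFlatLib.germP _ ⊤ (trivial : η ∈ (⊤ : X.Opens))) h).trans (map_zero _)
  rw [map_eq_zero_iff _ (LinearEquiv.injective _)] at key
  haveI : Module.Free (X.presheaf.stalk η) (KFlatLib.stalkMod η P) := QCoh.free_stalk_of_isFinLocFree hE η
  haveI : Module.Free (X.presheaf.stalk η) (KFlatLib.stalkMod η Q) := QCoh.free_stalk_of_isFinLocFree hF η
  let bP := Module.Free.chooseBasis (X.presheaf.stalk η) (KFlatLib.stalkMod η P)
  let bQ := Module.Free.chooseBasis (X.presheaf.stalk η) (KFlatLib.stalkMod η Q)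
  by_contra hne
  push Not at hne
  have hs : KFlatLib.germP P ⊤ (trivial : η ∈ (⊤ : X.Opens)) σ ≠ 0 := fun h0 =>
    hne.1 (TorLib.eq_zero_of_germ_genericPoint (QCoh.isQCoh_of_isFinLocFree hE) (tf hE) _ σ h0)
  have ht : KFlatLib.germP Q ⊤ (trivial : η ∈ (⊤ : X.Opens)) τ ≠ 0 := fun h0 =>
    hne.2 (TorLib.eq_zero_of_germ_genericPoint (QCoh.isQCoh_of_isFinLocFree hF) (tf hF) _ τ h0)
  obtain ⟨i, hi⟩ : ∃ i, bP.repr (KFlatLib.germP P ⊤ (trivial : η ∈ (⊤ : X.Opens)) σ) i ≠ 0 := by
    by_contra hc; push Not at hc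
    exact hs (bP.repr.injective (by rw [map_zero]; exact Finsupp.ext hc))
  obtain ⟨j, hj⟩ : ∃ j, bQ.repr (KFlatLib.germP Q ⊤ (trivial : η ∈ (⊤ : X.Opens)) τ) j ≠ 0 := by
    by_contra hc; push Not at hc
    exact ht (bQ.repr.injective (by rw [map_zero]; exact Finsupp.ext hc))
  have h2 := congrArg (fun z => (bP.tensorProduct bQ).repr z (i, j)) key
  simp only [Module.Basis.tensorProduct_repr_tmul_apply, map_zero, Finsupp.zero_apply, smul_eq_mul] at h2
  exact mul_ne_zero hj hi h2

/-- Let k be an algebraically closed field, X an irreducible variety over k, taken here complete (X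
integral and proper over k, so that spaces of global sections are finite-dimensional), and E_1, E_2
vector bundles (finite locally free O_X-modules) on X with H^0(X, E_1) ≠ 0 and H^0(X, E_2) ≠ 0. Then
dim_k H^0(X, E_1 ⊗ E_2) ≥ dim_k H^0(X, E_1) + dim_k H^0(X, E_2) − 1. (The published statement allows
any irreducible variety; for non-complete X the spaces of sections may be infinite-dimensional and
the inequality carries no content, so X is taken complete here.) -/
theorem result (k : Type u) [Field k] [IsAlgClosed k]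
    (X : Scheme.{u}) [X.Over (Spec (CommRingCat.of k))] [IsIntegral X] [IsProper (X ↘ (Spec (CommRingCat.of k)))]
    (E₁ E₂ : X.Modules) (h₁ : FlatMod.IsFinLocFree E₁) (h₂ : FlatMod.IsFinLocFree E₂)
    [Nontrivial (Coh.HH X E₁ 0)] [Nontrivial (Coh.HH X E₂ 0)] :
    Module.finrank k (Coh.HH X E₁ 0) + Module.finrank k (Coh.HH X E₂ 0) ≤
      Module.finrank k (Coh.HH X (CohB1.tensorMod E₁ E₂) 0) + 1 := by
  classical
  let e := fun M : X.Modules => Sheaf.H.equiv₀ (Coh.toAb M) isTerminalTop
  let T := CohB1.tensorMod E₁ E₂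
  let c := fun a : k => (show Γ(X, ⊤) from Coh.resTop X (Opposite.op ⊤) (Coh.toGlobal (X ↘ Spec (CommRingCat.of k)) a))
  have hsm : ∀ (M : X.Modules) (a : k) (s : Coh.HH X M 0), (e M (a • s) : Γ(M, ⊤)) = c a • (show Γ(M, ⊤) from e M s) :=
    fun M a s => CurveCohLib.h0Equiv_smul M a s
  let b := fun (s : Coh.HH X E₁ 0) (t : Coh.HH X E₂ 0) =>
    ((e T).symm (InvX.tmul (show Γ(E₁, ⊤) from e E₁ s) (show Γ(E₂, ⊤) from e E₂ t)) : Coh.HH X T 0)
  let B : Coh.HH X E₁ 0 →ₗ[k] Coh.HH X E₂ 0 →ₗ[k] Coh.HH X T 0 := LinearMap.mk₂ k b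
    (fun s s' t => (e T).injective (by
      simp only [b, map_add, AddEquiv.apply_symm_apply]
      exact AmpleVan.tmul_add_left _ _ _))
    (fun a s t => (e T).injective (by
      rw [hsm]
      simp only [b, AddEquiv.apply_symm_apply]
      rw [hsm]
      exact InvX.tmul_smul_left _ _ _))
    (fun s t t' => (e T).injective (by
      simp only [b, map_add, AddEquiv.apply_symm_apply]
      exact CurveCohLib.Pencil.tmul_add_right _ _ _))
    (fun a s t => (e T).injective (by
      rw [hsm]
      simp only [b, AddEquiv.apply_symm_apply]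
      rw [hsm]
      exact InvX.tmul_smul_right _ _ _))
  haveI := CurveCohLib.isNoetherian_of_proper (k := k) (X := X)
  have hco : ∀ {M : X.Modules}, FlatMod.IsFinLocFree M → Coh.IsCoh M := fun hM => CurveDeg.isCoh_of_isFinLocFree hM
  haveI := CurveCohLib.finite_HH (k := k) (hco h₁) 0
  haveI := CurveCohLib.finite_HH (k := k) (hco h₂) 0
  haveI : FiniteDimensional k (Coh.HH X (CohB1.tensorMod E₁ E₂) 0) :=
    CurveCohLib.finite_HH (k := k) (hco (KFlatLib.isFinLocFree_tensor h₁ h₂)) 0
  refine CurveCohLib.HopfBilinear.finrank_add_le B fun s t hst => ?_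
  have h0 : InvX.tmul (show Γ(E₁, ⊤) from e E₁ s) (show Γ(E₂, ⊤) from e E₂ t) = 0 := by
    have := congrArg (e T) (show b s t = 0 from hst)
    rw [map_zero] at this
    simpa [b] using this
  exact (tmul_eq_zero h₁ h₂ _ _ h0).imp (fun h => (e E₁).injective (h.trans (map_zero _).symm))
    (fun h => (e E₂).injective (h.trans (map_zero _).symm))

end Groth.Agent.S14518
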