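import Groth.Statements.S6587
import Mathlib.CategoryTheory.Triangulated.Triangulated

set_option autoImplicit false
universe v u
open CategoryTheory CategoryTheory.Limits Opposite
open CohDer

namespace Groth.Agent.S6587

open CategoryTheory.Pretriangulated in
/-- Let D be a triangulated category and let X_n → Y_n → Z_n → X_n⟦1⟧ be an inverse system of
distinguished triangles of D indexed by ℕ (levelwise maps f, g, h of inverse systems, each level
distinguished). If the inverse system (Z_n) is pro-zero, then the levelwise map f : (X_n) → (Y_n) is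
a pro-isomorphism. -/
theorem result {D : Type u} [Category.{v} D] [Preadditive D] [HasZeroObject D] [HasShift D ℤ]
    [∀ n : ℤ, (shiftFunctor D n).Additive] [Pretriangulated D] [IsTriangulated D]
    (X Y Z : ARSys.PS D) (f : X ⟶ Y) (g : Y ⟶ Z) (h : Z ⟶ X ⋙ shiftFunctor D (1 : ℤ))
    (hT : ∀ n : ℕ, Triangle.mk (f.app (op n)) (g.app (op n)) (h.app (op n)) ∈ distinguishedTriangles)
    (hZ : DerCA.IsProZero Z) :
    DerCA.IsProIso f := by
  intro n
  obtain ⟨m, hnm, hm⟩ := hZ n
  obtain ⟨p, hmp, hp⟩ := hZ m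
  have trc : ∀ (W : ARSys.PS D), ARSys.tr W (hnm.trans hmp) = ARSys.tr W hmp ≫ ARSys.tr W hnm := by
    intro W
    exact (congrArg W.map (Subsingleton.elim _ _)).trans (W.map_comp _ _)
  have nat : ∀ {W W' : ARSys.PS D} (φ : W ⟶ W') {i j : ℕ} (hij : i ≤ j),
      ARSys.tr W hij ≫ φ.app (op i) = φ.app (op j) ≫ ARSys.tr W' hij := fun φ _ _ hij =>
    φ.naturality _
  have hc0 : ARSys.tr Y hnm ≫ g.app (op n) = 0 := by rw [nat, hm, comp_zero]
  obtain ⟨c, hc⟩ := Triangle.coyoneda_exact₂ _ (hT n) (ARSys.tr Y hnm) hc0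
  let c' : Y.obj (op m) ⟶ X.obj (op n) := c
  have hc' : ARSys.tr Y hnm = c' ≫ f.app (op n) := hc
  let F : D ⥤ D := shiftFunctor D (1 : ℤ)
  let d : X.obj (op m) ⟶ X.obj (op n) := f.app (op m) ≫ c' - ARSys.tr X hnm
  have hd : d ≫ f.app (op n) = 0 := by
    simp only [d, Preadditive.sub_comp, Category.assoc, ← hc']
    rw [nat, sub_self]
  obtain ⟨e, he⟩ := Triangle.coyoneda_exact₁ _ (hT n) (F.map d)
    (show F.map d ≫ F.map (f.app (op n)) = 0 by rw [← F.map_comp, hd, F.map_zero])
  let e' : F.obj (X.obj (op m)) ⟶ Z.obj (op n) := e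
  have he' : F.map d = e' ≫ h.app (op n) := he
  have hv : h.app (op p) ≫ (F.map (ARSys.tr X hmp) ≫ e') = 0 := by
    have := nat h hmp
    rw [hp, zero_comp] at this
    exact (Category.assoc _ _ _).symm.trans ((congrArg (· ≫ e') this.symm).trans zero_comp)
  obtain ⟨w₁, hw₁⟩ := Triangle.yoneda_exact₂ _
    (rot_of_distTriang _ (rot_of_distTriang _ (hT p))) (F.map (ARSys.tr X hmp) ≫ e') hv
  let w₁' : F.obj (Y.obj (op p)) ⟶ Z.obj (op n) := w₁
  have hw₁' : F.map (ARSys.tr X hmp) ≫ e' = (-F.map (f.app (op p))) ≫ w₁' := hw₁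
  let w : Y.obj (op p) ⟶ X.obj (op n) := F.preimage (w₁' ≫ h.app (op n))
  have hwf : w ≫ f.app (op n) = 0 := by
    apply F.map_injective
    rw [F.map_comp, F.map_preimage, F.map_zero, Category.assoc]
    exact (congrArg (w₁' ≫ ·) (comp_distTriang_mor_zero₃₁ _ (hT n))).trans comp_zero
  have hfw : ARSys.tr X hmp ≫ d = -(f.app (op p) ≫ w) := by
    apply F.map_injective
    rw [F.map_comp, he', F.map_neg, F.map_comp, F.map_preimage, ← Category.assoc, hw₁']
    simp
  refine ⟨p, hnm.trans hmp, ARSys.tr Y hmp ≫ c' + w, ?_, ?_⟩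
  · rw [trc, Preadditive.comp_add, ← Category.assoc (f.app (op p)), ← nat f hmp]
    simp only [Category.assoc]
    have : f.app (op m) ≫ c' = d + ARSys.tr X hnm := by simp [d]
    rw [this, Preadditive.comp_add, hfw]
    abel
  · rw [trc, hc', Preadditive.add_comp, hwf, add_zero, Category.assoc]

end Groth.Agent.S6587
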