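import Groth.Statements.S4463
import Groth.Agent.ZarConn.Basic
import Groth.Agent.S1297
import Groth.Agent.FlatMisc.SteinUC

set_option autoImplicit false
universe u
open Coherent

namespace Groth.Agent.S4463

open AlgebraicGeometry CategoryTheory in
/-- Stein factorisation. Let Y be locally Noetherian and f : X → Y proper, and let X → Y' → Y be its
Stein factorisation, Y' being the spectrum of the O_Y-algebra f_* O_X (realised here as the relative
normalization of Y in X, which is that spectrum because f_* O_X is integral over O_Y for f
universally closed). Then for every point y of Y the fibre of Y' → Y at y is finite, the map X_y →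
Y'_y induced on fibres is surjective, and two points of X_y have the same image if and only if they
lie in the same connected component of X_y: the connected components of X_y are in bijection with
the points of Y'_y. -/
theorem result {X Y : Scheme.{u}} (f : X ⟶ Y) [IsProper f]
    [IsLocallyNoetherian Y] (y : Y) :
    Finite ↥(f.fromNormalization.fiber y) ∧
    Function.Surjective (CohIII.fiberMapOver f.toNormalization f f.fromNormalization
        f.toNormalization_fromNormalization y).base ∧
    ∀ x x' : ↥(f.fiber y),
      (CohIII.fiberMapOver f.toNormalization f f.fromNormalization f.toNormalization_fromNormalization y).base x =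
        (CohIII.fiberMapOver f.toNormalization f f.fromNormalization f.toNormalization_fromNormalization y).base x' ↔
      connectedComponent x = connectedComponent x' := by
  haveI : IsFinite f.fromNormalization := S1297.result f
  haveI : IsLocallyNoetherian f.normalization := LocallyOfFiniteType.isLocallyNoetherian f.fromNormalization
  haveI : IsProper (f.toNormalization ≫ f.fromNormalization) := by rw [f.toNormalization_fromNormalization]; infer_instance
  haveI : IsProper f.toNormalization := IsProper.of_comp f.toNormalization f.fromNormalization
  haveI := ZarConn.geometricallyConnected f.toNormalization (FlatMisc.isIso_toNormalization_app f)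
  set Φ := CohIII.fiberMapOver f.toNormalization f f.fromNormalization f.toNormalization_fromNormalization y
  have hΦ : ∀ x, f.fromNormalization.fiberι y (Φ x) = f.toNormalization (f.fiberι y x) := fun x => by
    rw [← Scheme.Hom.comp_apply, ← Scheme.Hom.comp_apply]
    exact congrArg (fun t : f.fiber y ⟶ f.normalization => t.base x) (Limits.pullback.lift_fst _ _ _)
  have hinj := (f.fromNormalization.fiberι y).isEmbedding.injective
  haveI : DiscreteTopology ↥(f.fromNormalization ⁻¹' {y}) :=
    (f.fromNormalization.isDiscrete_preimage_singleton y).to_subtype
  haveI : Finite ↥(f.fromNormalization ⁻¹' {y}) := (f.fromNormalization.finite_preimage_singleton y).to_subtype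
  haveI : DiscreteTopology ↥(f.fromNormalization.fiber y) :=
    (f.fromNormalization.fiberHomeo y).symm.discreteTopology
  refine ⟨Finite.of_equiv _ (f.fromNormalization.fiberHomeo y).toEquiv.symm, fun z => ?_, fun x x' => ⟨fun hxx => ?_, fun hxx => ?_⟩⟩
  · obtain ⟨a, ha⟩ := f.toNormalization.surjective (f.fromNormalization.fiberι y z)
    have hay : f a = y := by
      have h1 : f.fromNormalization (f.fromNormalization.fiberι y z) = y :=
        (f.fromNormalization.range_fiberι y).le ⟨z, rfl⟩
      rw [← ha, ← Scheme.Hom.comp_apply, f.toNormalization_fromNormalization] at h1
      exact h1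
    obtain ⟨b, rfl⟩ := (f.range_fiberι y).ge (show a ∈ f ⁻¹' {y} from hay)
    exact ⟨b, hinj ((hΦ b).trans ha)⟩
  · let T : Set ↥(f.fiber y) := f.fiberι y ⁻¹' (f.toNormalization ⁻¹' {f.toNormalization (f.fiberι y x)})
    have hT : _root_.IsPreconnected T := by
      refine (f.fiberι y).isEmbedding.toIsInducing.isPreconnected_image.1 ?_
      rw [Set.image_preimage_eq_of_subset]
      · exact (f.toNormalization.isConnected_preimage_singleton _).isPreconnected
      · intro a ha
        refine (f.range_fiberι y).ge (show f a = y from ?_)
        have h1 : f (f.fiberι y x) = y := (f.range_fiberι y).le ⟨x, rfl⟩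
        conv_lhs => rw [← f.toNormalization_fromNormalization, Scheme.Hom.comp_apply, show f.toNormalization a = f.toNormalization (f.fiberι y x) from ha, ← Scheme.Hom.comp_apply, f.toNormalization_fromNormalization, h1]
    have hx' : x' ∈ T := by
      show f.toNormalization (f.fiberι y x') = f.toNormalization (f.fiberι y x)
      rw [← hΦ, ← hΦ]
      exact congrArg _ hxx.symm
    exact connectedComponent_eq (hT.subset_connectedComponent (show x ∈ T from rfl) hx')
  · have h1 := Φ.continuous.image_connectedComponent_eq_singleton x
    have h2 : Φ x' ∈ Φ '' connectedComponent x := ⟨x', hxx ▸ mem_connectedComponent, rfl⟩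
    rw [h1] at h2
    exact h2.symm

end Groth.Agent.S4463
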