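import Groth.Statements.S10954
import Groth.Agent.QCoh.SerreEpi

set_option autoImplicit false
set_option backward.isDefEq.respectTransparency false
set_option backward.isDefEq.respectTransparency.types false
universe u
open Coherent
open Groth.Agent

namespace Groth.Agent.S10954

open AlgebraicGeometry CategoryTheory CategoryTheory.Limits Opposite in
/-- Let X be a quasi-compact scheme such that, for every short exact sequence 0 → F' → F → F'' → 0 of
quasi-coherent O_X-modules whose first term F' admits a monomorphism into a finite direct sum of
copies of O_X, taking global sections gives a surjection F(X) → F''(X). Then X is affine. (The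
published statement is an equivalence of three conditions on a quasi-compact scheme; this row states
the implication from exactness of global sections on such sequences to affineness.) -/
theorem result (X : Scheme.{u}) [CompactSpace X]
    (h : ∀ (S : ShortComplex X.Modules) (n : ℕ)
      (j : S.X₁ ⟶ ∏ᶜ (fun _ : Fin n => Coh.structureModule X)),
      S.ShortExact → Mono j → Coh.IsQCoh S.X₁ → Coh.IsQCoh S.X₂ → Coh.IsQCoh S.X₃ →
        Function.Surjective (S.g.val.app (op ⊤)).hom) :
    IsAffine X := by
  have key : ∀ {A B : X.Modules} (a : A ⟶ B) (i : A ⟶ Coh.structureModule X), Mono a → Mono i →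
      Coh.IsQCoh A → Coh.IsQCoh B → Function.Surjective ((cokernel.π a).app ⊤) := by
    intro A B a i _ _ hA hB
    haveI : Mono (Pi.lift (fun _ : Fin 1 => i)) :=
      mono_of_mono_fac (Pi.lift_π (fun _ : Fin 1 => i) 0)
    exact h (ShortComplex.mk a (cokernel.π a) (cokernel.condition a)) 1 (Pi.lift fun _ => i)
      { exact := ShortComplex.exact_of_g_is_cokernel _ (cokernelIsCokernel a) } inferInstance hA hB
      (QCoh.isQCoh_cokernel hA hB a)
  refine QCoh.SerreEpi.isAffine_of_vanSurj_compact ⟨fun Z => ?_, fun Z' Z hle => ?_⟩
  · exact key _ (QCoh.vanIdeal Z).ι inferInstance inferInstance (QCoh.isQCoh_vanIdeal Z) QCoh.isQCoh_structureModule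
  · exact key _ (QCoh.vanIdeal Z').ι inferInstance inferInstance (QCoh.isQCoh_vanIdeal Z') (QCoh.isQCoh_vanIdeal Z)

end Groth.Agent.S10954
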