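import Groth.Statements.S4420
import Groth.Agent.SymX.HEmbed
import Groth.Agent.ProjX.HProj

set_option autoImplicit false
set_option backward.isDefEq.respectTransparency false
set_option backward.isDefEq.respectTransparency.types false
universe u
open CategoryTheory CategoryTheory.Limits AlgebraicGeometry
open EGA2

namespace Groth.Agent.S4420

/-- Let Y be a quasi-compact separated scheme possessing an ample invertible O_Y-module and f : X → Y a
morphism. Then f is projective if and only if there are r ≥ 0 and a closed immersion of X into
projective r-space over Y compatible with the projections (f is H-projective). -/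
theorem result {X Y : Scheme.{u}} [CompactSpace Y] [Y.IsSeparated]
    (hY : ∃ M : Y.Modules, CohB1.IsAmple M) (f : X ⟶ Y) :
    RelProj.IsProjective f ↔ RelProj.IsHProjective f := by
  obtain ⟨M, hM⟩ := hY
  refine ⟨fun hf => ?_, ProjX.isProjective_of_isHProjective⟩
  obtain ⟨E, A, j, hE, hft, hj, hjp⟩ := SymX.exists_bundle_of_isProjective hf
  haveI := hj
  obtain ⟨r, i, hi, hif⟩ := SymX.exists_immersion_projSpaceOver hM A hE hft j
  haveI := ProjX.isProper_of_isProjective hf
  haveI : IsProper (CohB1.ProjSpace.toSpec r (ULift.{u} ℤ)) := PnCoh.Chow.isProper_toSpec r _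
  haveI : IsProper (CohB1.ProjSpaceOver.toBase r Y) := MorphismProperty.pullback_snd _ _ inferInstance
  haveI : IsProper (i ≫ CohB1.ProjSpaceOver.toBase r Y) := (hif.trans hjp) ▸ inferInstance
  haveI : IsProper i := IsProper.of_comp i (CohB1.ProjSpaceOver.toBase r Y)
  haveI := hi
  exact ⟨r, i, IsClosedImmersion.of_isPreimmersion i i.isClosedMap.isClosed_range, hif.trans hjp⟩

end Groth.Agent.S4420
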