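import Groth.Statements.S16774
import Groth.Agent.GModLib.TorusOpenSelfCent

set_option autoImplicit false
open CategoryTheory MonoidalCategory CartesianMonoidalCategory MonObj GrpObj AlgebraicGeometry
universe u
open Red

set_option backward.isDefEq.respectTransparency false
set_option backward.isDefEq.respectTransparency.types false

namespace Groth.Agent.S16774

/-- Let G be a smooth affine group scheme with connected fibres over a scheme S, T ⊆ G a subtorus with
centralizer Z = Z_G(T) ⊇ T, and s ∈ S a point at which the geometric fibre of G is reductive and the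
geometric fibre of T is a maximal torus. Then over some open neighbourhood U of s the inclusion T →
Z_G(T) is an isomorphism and T is a maximal torus of G. (The published statement allows disconnected
fibres and concerns identity components; here the fibres of G are connected.) -/
theorem result {S : Scheme.{u}} {G T Z : Over S} [GrpObj G] [GrpObj T] [GrpObj Z]
    (hG : Smooth G.hom) (hGa : IsAffineHom G.hom) (hconn : ∀ s : S, _root_.IsConnected (G.hom.base ⁻¹' {s}))
    (i : T ⟶ G) [IsMonHom i] [Mono i] (hT : Red.IsTorus T) (z : Z ⟶ G) (hz : Red.IsCentralizerOf i z)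
    (f : T ⟶ Z) (hf : f ≫ z = i) (s : S)
    (hs : Red.IsReductiveOver (AlgebraicClosure (S.residueField s)) (Red.geomFibre s G))
    (hTs : Red.IsMaximalTorus ((Over.pullback (Red.geomPt s)).map i)) :
    ∃ U : S.Opens, s ∈ U ∧ IsIso ((Over.pullback U.ι).map f) ∧ Red.IsMaximalTorus ((Over.pullback U.ι).map i) := by
    haveI := hG; haveI := hGa
    haveI : QuasiCompact G.hom := inferInstance
    haveI : QuasiSeparated G.hom := inferInstance
    obtain ⟨Z₀, _, z₀, hz₀, hz₀c, hz₀s⟩ := Groth.Agent.S5247.result T G (GrpSchLib.RankOne.isMultTypeFT_of_isTorus hT) hG hGa i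
    haveI := hz.1; haveI := hz.2.1; haveI := hz₀.2.1
    obtain ⟨a, ha⟩ := (hz₀.2.2 Z z).mpr ((hz.2.2 Z z).mp ⟨𝟙 Z, Category.id_comp z⟩)
    obtain ⟨b, hb⟩ := (hz.2.2 Z₀ z₀).mpr ((hz₀.2.2 Z₀ z₀).mp ⟨𝟙 Z₀, Category.id_comp z₀⟩)
    haveI : IsIso a := ⟨b, by rw [← cancel_mono z, Category.assoc, hb, ha, Category.id_comp],
      by rw [← cancel_mono z₀, Category.assoc, ha, hb, Category.id_comp]⟩
    haveI : IsIso a.left := inferInstanceAs (IsIso ((Over.forget _).map a))
    haveI := hz₀s
    haveI : Smooth Z.hom := by rw [← Over.w a]; infer_instance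
    haveI : Smooth T.hom := MultConjLib.smooth_of_isTorus hT
    haveI : IsMonHom (f ≫ z) := hf ▸ inferInstance
    haveI : IsMonHom f :=
      { one_hom := by rw [← cancel_mono z, Category.assoc, IsMonHom.one_hom (f ≫ z), IsMonHom.one_hom z]
        mul_hom := by
          rw [← cancel_mono z, Category.assoc, IsMonHom.mul_hom (f ≫ z), Category.assoc, IsMonHom.mul_hom z,
            ← Category.assoc (_ ⊗ₘ _), MonoidalCategory.tensorHom_comp_tensorHom] }
    haveI : Mono (f ≫ z) := hf ▸ inferInstance
    haveI : Mono f := mono_of_mono f z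
    have hZc : ∀ t : S, ConnectedSpace (Red.bc (Red.geomPt t) Z).left := fun t => by
      haveI : Smooth (Red.bc (Red.geomPt t) G).hom := inferInstanceAs (Smooth (Limits.pullback.snd G.hom (Red.geomPt t)))
      haveI : QuasiCompact (Red.bc (Red.geomPt t) G).hom :=
        inferInstanceAs (QuasiCompact (Limits.pullback.snd G.hom (Red.geomPt t)))
      haveI := GModLib.connectedSpace_geomFibre hconn t
      exact (GModLib.centralizer_smooth_connected_nonaffine ((Over.pullback (Red.geomPt t)).map i)
        (GModLib.isTorus_bc (Red.geomPt t) hT) ((Over.pullback (Red.geomPt t)).map z)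
        (GModLib.BC.isCentralizerOf_bc (Red.geomPt t) hz)).2
    haveI : IsAffine (Red.geomFibre s G).left := hs.1
    haveI : IsAffine ((Over.pullback (Red.geomPt s)).obj G).left := hs.1
    haveI : Smooth ((Over.pullback (Red.geomPt s)).obj G).hom := hs.2.1
    haveI : ConnectedSpace ((Over.pullback (Red.geomPt s)).obj G).left := hs.2.2.1
    have hself := GModLib.isCentralizerOf_self_of_reductive _ (GModLib.isMaxTorus_of_isMaximalTorus hTs) hs
    have hzs := GModLib.BC.isCentralizerOf_bc (Red.geomPt s) hz
    haveI := hzs.2.1; haveI := hself.2.1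
    haveI hfs : IsIso ((Over.pullback (Red.geomPt s)).map f) := by
      obtain ⟨r, hr⟩ := (hself.2.2 _ ((Over.pullback (Red.geomPt s)).map z)).mpr
        ((hzs.2.2 _ ((Over.pullback (Red.geomPt s)).map z)).mp ⟨𝟙 _, Category.id_comp _⟩)
      exact ⟨r, by rw [← cancel_mono ((Over.pullback (Red.geomPt s)).map i), Category.assoc, hr, ← Functor.map_comp, hf,
          Category.id_comp],
        by rw [← cancel_mono ((Over.pullback (Red.geomPt s)).map z), Category.assoc, ← Functor.map_comp, hf, hr,
          Category.id_comp]⟩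
    obtain ⟨U, hsU, hU⟩ := GModLib.exists_open_isIso_fibres f hZc (Red.geomPt s)
    haveI hiso := GModLib.isIso_map_opens f U hU
    refine ⟨U, ?_, hiso, ?_⟩
    · exact (Scheme.fromSpecResidueField_apply s _) ▸ hsU
    · have hzU := GModLib.BC.isCentralizerOf_bc U.ι hz
      haveI : IsMonHom (Iso.refl (Red.bc U.ι G)).hom := inferInstanceAs (IsMonHom (𝟙 _))
      exact GModLib.isMaximalTorus_of_isCentralizerOf_self' ((Over.pullback U.ι).map i) (GModLib.isTorus_bc U.ι hT)
        (GModLib.isCentralizerOf_of_iso (i' := (Over.pullback U.ι).map i) (c' := (Over.pullback U.ι).map i)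
          (Iso.refl _) (asIso ((Over.pullback U.ι).map f)) (Iso.refl _)
          (by simp) (by simp [← Functor.map_comp, hf]) hzU)

end Groth.Agent.S16774
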