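import Groth.Statements.S14545
import Groth.Agent.GrpSchLib.BundleQuot
import Groth.Agent.GrpSchLib.HomFlat
import Groth.Agent.GrpSchLib.Cartier
import Groth.Agent.GrpSchLib.SmoothReduced
import Groth.Agent.GrpSchLib.AffToProper
import Groth.Agent.S3278

set_option autoImplicit false
universe u
open CategoryTheory MonoidalCategory CartesianMonoidalCategory MonObj GrpObj AlgebraicGeometry
open PrincBund

namespace Groth.Agent.S14545

open GrpSchLib.BundleQuot

theorem isKernel_of_isQuotient {S : Scheme.{u}} {N G Q : Over S} [GrpObj N] [GrpObj G] [GrpObj Q] (i : N ⟶ G)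
    [IsMonHom i] [Mono i] (q : G ⟶ Q) [IsMonHom q] (h : RedSub.IsQuotient i q) : AlgGrp.IsKernel i q := by
  have h1 : i ≫ q = 1 := by
    have := mul_comp_proj h.2.2.2 (1 : N ⟶ G) (𝟙 N)
    rwa [_root_.one_mul, Category.id_comp, MonObj.one_comp] at this
  have hl : ∀ s : Limits.PullbackCone q η[Q], ∃ t : s.pt ⟶ N, t ≫ i = s.fst := fun s => by
    obtain ⟨t, ht⟩ := exists_eq_mul h.2.2.2 (g₁ := (1 : s.pt ⟶ G)) (g₂ := s.fst) (by
      rw [MonObj.one_comp, s.condition, toUnit_unique s.snd (toUnit _)]; rfl)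
    exact ⟨t, by rw [← ht, _root_.one_mul]⟩
  choose t ht using hl
  refine ⟨⟨h1⟩, ⟨Limits.PullbackCone.IsLimit.mk _ (fun s => t s) ht (fun s => toUnit_unique _ _) fun s m hm _ => ?_⟩⟩
  rw [← cancel_mono i, ht, hm]

/-- Let k be a field of characteristic 0 and G an affine group scheme of finite type over k; let G' be a
closed subgroup of G and G₀ a closed normal subgroup of G with quotient q₁ : G → G₁ (so G₁ = G/G₀),
let G₀' = G₀ ∩ G' and let G₁' be the image of G' in G₁, a closed subgroup of G₁ through which G' →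
G₁ factors by a surjective morphism. Suppose that the quotients G₀/G₀' and G₁/G₁' (fppf quotient
sheaves represented by schemes) are affine. Then every scheme Q representing the quotient G/G' is
affine. -/
theorem result (k : Type u) [Field k] [CharZero k]
    (G : Over (Spec (CommRingCat.of k))) [GrpObj G] [IsAffine G.left] [LocallyOfFiniteType G.hom]
    (G' : Over (Spec (CommRingCat.of k))) [GrpObj G'] (i' : G' ⟶ G) [IsMonHom i'] (hi' : IsClosedImmersion i'.left)
    (G₀ : Over (Spec (CommRingCat.of k))) [GrpObj G₀] (i₀ : G₀ ⟶ G) [IsMonHom i₀] (hi₀ : IsClosedImmersion i₀.left)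
    (hn : AlgGrp.IsNormalHom i₀)
    (G₁ : Over (Spec (CommRingCat.of k))) [GrpObj G₁] (q₁ : G ⟶ G₁) [IsMonHom q₁] (hq₁ : RedSub.IsQuotient i₀ q₁)
    (G₀' : Over (Spec (CommRingCat.of k))) [GrpObj G₀'] (j : G₀' ⟶ G₀) [IsMonHom j] (j' : G₀' ⟶ G')
    (hj : IsPullback j j' i₀ i')
    (G₁' : Over (Spec (CommRingCat.of k))) [GrpObj G₁'] (i₁' : G₁' ⟶ G₁) [IsMonHom i₁'] (hi₁' : IsClosedImmersion i₁'.left)
    (p : G' ⟶ G₁') (hp : p ≫ i₁' = i' ≫ q₁) (hps : Surjective p.left)
    (Qa : Over (Spec (CommRingCat.of k))) (qa : G₀ ⟶ Qa) (hqa : RedSub.IsQuotient j qa) (ha : IsAffine Qa.left)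
    (Qb : Over (Spec (CommRingCat.of k))) (qb : G₁ ⟶ Qb) (hqb : RedSub.IsQuotient i₁' qb) (hb : IsAffine Qb.left)
    (Q : Over (Spec (CommRingCat.of k))) (q : G ⟶ Q) (hq : RedSub.IsQuotient i' q) :
    IsAffine Q.left := by
  haveI := hi'
  haveI := hi₀
  haveI := hi₁'
  haveI := ha
  haveI := hb
  haveI : Mono i₀.left := inferInstance
  haveI : Mono i₀ := Over.mono_of_mono_left i₀
  have hker := isKernel_of_isQuotient i₀ q₁ hq₁
  haveI := hq₁.1
  haveI := hq₁.2.1
  haveI := hq₁.2.2.1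
  haveI : IsAffineHom G.hom := inferInstance
  haveI : IsAffine G₀.left := isAffine_of_isAffineHom i₀.left
  haveI : IsAffine G'.left := isAffine_of_isAffineHom i'.left
  haveI : LocallyOfFiniteType G'.hom := by rw [← Over.w i']; infer_instance
  obtain ⟨Q₁, _, r, _, hQ₁, hQ₁ft, _, _, hr⟩ := S3278.result k G G₀ i₀ hn
  haveI := hQ₁
  haveI := hQ₁ft
  haveI : LocallyOfFiniteType (r.left ≫ Q₁.hom) := by rw [Over.w r]; infer_instance
  haveI : LocallyOfFiniteType r.left := locallyOfFiniteType_of_comp r.left Q₁.hom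
  haveI : IsLocallyNoetherian Q₁.left := LocallyOfFiniteType.isLocallyNoetherian Q₁.hom
  have hlq := hasLocSec_fppf q₁
  have hlr := hasLocSec_fppf r
  have hsame : ∀ {X Y : Over (Spec (CommRingCat.of k))} [GrpObj X] [GrpObj Y] (f : G ⟶ X) (g : G ⟶ Y) [IsMonHom f]
      [IsMonHom g], AlgGrp.IsKernel i₀ f → AlgGrp.IsKernel i₀ g →
      ∀ (T : Over (Spec (CommRingCat.of k))) (a a' : T ⟶ G), a ≫ f = a' ≫ f → a ≫ g = a' ≫ g := by
    intro X Y _ _ f g _ _ hf hg T a a' h
    have h1 : (a * a'⁻¹) ≫ f = toUnit T ≫ η[X] := by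
      rw [MonObj.mul_comp, GrpObj.inv_comp, h, mul_inv_cancel]; rfl
    have h2 : (hf.lift _ _ h1 ≫ i₀) ≫ g = 1 := by
      rw [Category.assoc, hg.w, ← Category.assoc, toUnit_unique (hf.lift _ _ h1 ≫ toUnit G₀) (toUnit T)]; rfl
    rw [hf.lift_fst, MonObj.mul_comp, GrpObj.inv_comp, mul_inv_eq_one] at h2
    exact h2
  obtain ⟨u, hu, -⟩ := hlq.existsUnique_desc r (hsame q₁ r hker hr)
  obtain ⟨v, hv, -⟩ := hlr.existsUnique_desc q₁ (hsame r q₁ hr hker)
  have e1 : u ≫ v = 𝟙 _ := hlq.hom_ext (by rw [← Category.assoc, hu, hv, Category.comp_id])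
  have e2 : v ≫ u = 𝟙 _ := hlr.hom_ext (by rw [← Category.assoc, hv, hu, Category.comp_id])
  haveI : IsIso u.left := ⟨v.left, by rw [← Over.comp_left, e1]; rfl, by rw [← Over.comp_left, e2]; rfl⟩
  haveI : IsAffine G₁.left := IsAffine.of_isIso u.left
  haveI : LocallyOfFiniteType G₁.hom := by rw [← Over.w u]; infer_instance
  haveI : IsAffine G₁'.left := isAffine_of_isAffineHom i₁'.left
  haveI : LocallyOfFiniteType G₁'.hom := by rw [← Over.w i₁']; infer_instance
  haveI : Mono i₁'.left := inferInstance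
  haveI : Mono i₁' := Over.mono_of_mono_left i₁'
  haveI : IsMonHom p := by
    refine ⟨?_, ?_⟩
    · rw [← cancel_mono i₁', Category.assoc, hp, IsMonHom.one_hom i₁', ← Category.assoc, IsMonHom.one_hom i',
        IsMonHom.one_hom q₁]
    · rw [← cancel_mono i₁', Category.assoc, hp, Category.assoc, IsMonHom.mul_hom i₁', IsMonHom.mul_hom_assoc i',
        IsMonHom.mul_hom q₁, MonoidalCategory.tensorHom_comp_tensorHom_assoc, MonoidalCategory.tensorHom_comp_tensorHom_assoc,
        hp]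
  haveI : Smooth G₁'.hom := GrpSchLib.smooth_of_charZero G₁'
  haveI : IsReduced G₁'.left := GrpSchLib.isReduced_of_smooth_field G₁'.hom
  haveI : QuasiCompact p.left := inferInstance
  haveI : Flat p.left := GrpSchLib.flat_of_surjective_hom p
  haveI : LocallyOfFiniteType (p.left ≫ G₁'.hom) := by rw [Over.w p]; infer_instance
  haveI : LocallyOfFiniteType p.left := locallyOfFiniteType_of_comp p.left G₁'.hom
  haveI : IsLocallyNoetherian G₁'.left := LocallyOfFiniteType.isLocallyNoetherian G₁'.hom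
  exact GrpSchLib.BundleQuot.isAffine i' i₀ q₁ ⟨hq₁.2.1, hq₁.1, hq₁.2.2.1⟩ hker p
    ⟨inferInstance, inferInstance, inferInstance⟩ i₁' hp j j' hj q ⟨hq.2.1, hq.1, hq.2.2.1⟩ hq.2.2.2
    qb ⟨hqb.2.1, hqb.1, hqb.2.2.1⟩ hqb.2.2.2 qa ⟨hqa.2.1, hqa.1, hqa.2.2.1⟩ hqa.2.2.2

end Groth.Agent.S14545
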