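import Groth.Statements.S1530
import Groth.Agent.IntNum.CurveAmple

set_option autoImplicit false
universe u
open CategoryTheory CategoryTheory.Limits AlgebraicGeometry
open Variety

namespace Groth.Agent.S1530

/-- On a proper curve over a field, an invertible module is ample if and only if its degree is positive. -/
theorem result (k : Type u) [Field k] (X : Scheme.{u}) [X.Over (Spec (CommRingCat.of k))]
    [IsIntegral X] [IsProper (X ↘ (Spec (CommRingCat.of k)))] (hdim : topologicalKrullDim X = 1)
    (L : X.Modules) (hL : PicF.IsInvertible L) :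
    CohB1.IsAmple L ↔ 0 < Curv2.deg k X L 1 := by
  haveI := Groth.Agent.CurveCohLib.isNoetherian_of_proper (k := k) (X := X)
  have hcongr : ∀ (Z : Scheme.{u}) (i : Z ⟶ X) [IsClosedImmersion i] [IsIntegral Z],
      topologicalKrullDim Z = 1 →
      @Curv2.deg k _ Z ⟨i ≫ (X ↘ Spec (CommRingCat.of k))⟩ ((Scheme.Modules.pullback i).obj L) 1 =
        Curv2.deg k X L 1 := by
    intro Z i _ _ hZ
    have hr : Set.range i = Set.range (𝟙 X : X ⟶ X) := by
      rw [show Set.range (𝟙 X : X ⟶ X) = Set.univ from Set.eq_univ_of_forall fun x => ⟨x, rfl⟩]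
      by_contra hne
      have hlt := Groth.Agent.H23.TopDim.dim_lt_of_ssubset (X := X) (by rw [hdim]; decide)
        i.isClosedEmbedding.isClosed_range hne
      rw [← IsHomeomorph.topologicalKrullDim_eq _ i.isClosedEmbedding.isEmbedding.toHomeomorph.isHomeomorph,
        hZ, hdim] at hlt
      exact lt_irrefl _ hlt
    letI I1 : Z.Over (Spec (CommRingCat.of k)) := ⟨i ≫ (X ↘ Spec (CommRingCat.of k))⟩
    rw [Groth.Agent.IntNum.deg_pullback_congr k i (𝟙 X) hr hL]
    rw [@Groth.Agent.IntNum.deg_pullback_closed X X k _ ⟨𝟙 X ≫ (X ↘ Spec (CommRingCat.of k))⟩ _ (𝟙 X) _ rfl _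
      (Groth.Agent.CurveDeg.isCoh_of_isInvertible hL).1 1]
    let e : (Coh.push (𝟙 X)).obj (Coh.structureModule X) ≅ Coh.structureModule X :=
      (Scheme.Modules.pushforwardId X).app _
    rw [Groth.Agent.CurveCohLib.euler_congr (k := k) (PicGrp.tensorModIso e (Iso.refl L) ≪≫
      Groth.Agent.CurveTensor.structureTensorIso L), Groth.Agent.CurveCohLib.euler_congr (k := k) e]
    rfl
  constructor
  · intro h
    rw [← hcongr X (𝟙 X) hdim]
    exact Groth.Agent.IntNum.deg_pos_of_isAmple k (𝟙 X) hdim h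
  · intro h
    exact Groth.Agent.IntNum.isAmple_of_deg_pos k hdim.le hL fun Z i _ _ hZ => by rw [hcongr Z i hZ]; exact h

end Groth.Agent.S1530
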