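import Groth.Statements.S1009
import Groth.Agent.QCoh.SerreFT
import Groth.Agent.H23.Frame
import Groth.Agent.QCoh.VanIdeal
import Groth.Agent.AModX.FiniteType
import Groth.Agent.QCoh.LocFree

set_option autoImplicit false
universe u
open CategoryTheory CategoryTheory.Limits AlgebraicGeometry
attribute [local instance] HasDerivedCategory.standard
open Perf

namespace Groth.Agent.S1009

open TopologicalSpace Opposite

theorem SubMod_mem {X : Scheme.{u}} {M : X.Modules} (N : QCoh.SubMod M) (G : X.Opens) (t : Γ(N.toModules, G)) :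
    N.ι.app G t ∈ N.mem G := N.ι_app_mem G t

/-- Let the scheme X be quasi-compact and quasi-separated with the resolution property (every
finite-type quasi-coherent O_X-module is a quotient of a finite locally free one). Then X has affine
diagonal: the intersection of any two affine opens of X is affine. -/
theorem result (X : Scheme.{u}) [CompactSpace ↥X] [QuasiSeparatedSpace ↥X] (hX : PerfAux.HasResolutionProperty X)
    (U V : X.Opens) (hU : IsAffineOpen U) (hV : IsAffineOpen V) : IsAffineOpen (U ⊓ V) := by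
  have hone : (show Γ(Coh.structureModule X, U) from (1 : Γ(X, U))) ∈ (QCoh.vanIdeal ((U : Set X)ᶜ)).mem U :=
    fun z hz hzb => hz (X.basicOpen_le _ hzb)
  obtain ⟨e₁, he₁⟩ := (QCoh.vanIdeal ((U : Set X)ᶜ)).exists_app_eq hone
  obtain ⟨A, j, _, hA, hAt, hj⟩ := QCoh.SerreFT.exists_ft_containing (QCoh.isQCoh_vanIdeal ((U : Set X)ᶜ))
    (fun _ : PUnit.{u+1} => U) (fun _ => hU) (fun _ => e₁)
  obtain ⟨w, hw⟩ := hj ⟨⟩
  obtain ⟨E, π, hE, hπ⟩ := hX A hA hAt
  haveI := hπ
  obtain ⟨σ, hσ⟩ := QCoh.app_surjective_of_epi (QCoh.isQCoh_of_isFinLocFree hE) hA π hU w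
  let b : E ⟶ Coh.structureModule X := π ≫ j ≫ (QCoh.vanIdeal ((U : Set X)ᶜ)).ι
  have hσb : b.app U σ = (show Γ(Coh.structureModule X, U) from (1 : Γ(X, U))) := by
    show (QCoh.vanIdeal ((U : Set X)ᶜ)).ι.app U (j.app U (π.app U σ)) = _
    rw [hσ, hw]
    exact he₁
  have hbU : ∀ (G : X.Opens) (t : Γ(E, G)), X.basicOpen (QCoh.toFn (b.app G t)) ≤ U := fun G t z hz => by
    by_contra hzU
    exact SubMod_mem (QCoh.vanIdeal ((U : Set X)ᶜ)) G (j.app G (π.app G t)) z hzU hz
  choose O n hO hn using hE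
  have hbas : ∀ x : V, ∃ h : Γ(X, V), X.basicOpen h ≤ O x.1 ∧ x.1 ∈ X.basicOpen h := fun x =>
    hV.exists_basicOpen_le ⟨x.1, hO x.1⟩ x.2
  choose h hhO hhx using hbas
  have key : ∀ x : V, IsAffineOpen (U ⊓ X.basicOpen (h x)) := fun x => by
    obtain ⟨s, hs⟩ := H23.Frame.exists_frame (hn x.1).some
    let G := X.basicOpen (h x)
    let t : Fin (n x.1) → Γ(E, G) := fun i => E.presheaf.map (homOfLE (hhO x)).op (s i)
    let f : Fin (n x.1) → Γ(X, G) := fun i => QCoh.toFn (b.app G (t i))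
    let fW : Fin (n x.1) → Γ(X, U ⊓ G) := fun i => X.presheaf.map (homOfLE (inf_le_right : U ⊓ G ≤ G)).op (f i)
    refine isAffineOpen_of_isAffineOpen_basicOpen _ (Set.range fW) ?_ ?_
    · obtain ⟨c, hc⟩ := (hs (U ⊓ G) (inf_le_right.trans (hhO x))).2
        (E.presheaf.map (homOfLE (inf_le_left : U ⊓ G ≤ U)).op σ)
      rw [Ideal.eq_top_iff_one]
      have nat : ∀ {W W' : X.Opens} (le : W ≤ W') (m : Γ(E, W')),
          QCoh.toFn (b.app W (E.presheaf.map (homOfLE le).op m)) =
            X.presheaf.map (homOfLE le).op (QCoh.toFn (b.app W' m)) := fun le m =>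
        ConcreteCategory.congr_hom (b.mapPresheaf.naturality (homOfLE le).op) m
      have hone' : QCoh.toFn (b.app (U ⊓ G) (H23.Frame.comb E s (U ⊓ G) (inf_le_right.trans (hhO x)) c)) =
          (1 : Γ(X, U ⊓ G)) :=
        ((congrArg (fun m => QCoh.toFn (b.app (U ⊓ G) m)) hc).trans (nat inf_le_left σ)).trans
          ((congrArg (fun m => X.presheaf.map (homOfLE (inf_le_left : U ⊓ G ≤ U)).op (QCoh.toFn m)) hσb).trans (map_one _))
      suffices hm : QCoh.toFn (b.app (U ⊓ G) (H23.Frame.comb E s (U ⊓ G) (inf_le_right.trans (hhO x)) c)) ∈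
          Ideal.span (Set.range fW) from hone' ▸ hm
      simp only [H23.Frame.comb, map_sum]
      refine Ideal.sum_mem _ fun i _ => ?_
      rw [Scheme.Modules.Hom.app_smul]
      refine Ideal.mul_mem_left _ (c i) (Ideal.subset_span ⟨i, ?_⟩)
      show X.presheaf.map (homOfLE (inf_le_right : U ⊓ G ≤ G)).op (QCoh.toFn (b.app G (t i))) = _
      rw [← nat inf_le_right]
      show b.app (U ⊓ G) (E.presheaf.map _ (E.presheaf.map _ (s i))) = _
      refine congrArg (fun m => b.app (U ⊓ G) m) ?_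
      show (E.presheaf.map _ ≫ E.presheaf.map _) (s i) = _
      rw [← E.presheaf.map_comp]
      rfl
    · rintro _ ⟨i, rfl⟩
      show IsAffineOpen (X.basicOpen (X.presheaf.map (homOfLE (inf_le_right : U ⊓ G ≤ G)).op (f i)))
      rw [Scheme.basicOpen_res]
      rw [inf_eq_right.mpr (le_inf (hbU G (t i)) (X.basicOpen_le _))]
      exact (hV.basicOpen (h x)).basicOpen _
  let hW : V → Γ(X, U ⊓ V) := fun x => X.presheaf.map (homOfLE (inf_le_right : U ⊓ V ≤ V)).op (h x)
  refine isAffineOpen_of_isAffineOpen_basicOpen _ (Set.range hW) ?_ ?_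
  · have hspan : Ideal.span (Set.range h) = ⊤ := (hV.iSup_basicOpen_eq_self_iff).mp
      (le_antisymm (iSup_le fun f => X.basicOpen_le f.1) fun z hz =>
        Opens.mem_iSup.mpr ⟨⟨h ⟨z, hz⟩, ⟨z, hz⟩, rfl⟩, hhx ⟨z, hz⟩⟩)
    have h2 := congrArg (Ideal.map (X.presheaf.map (homOfLE (inf_le_right : U ⊓ V ≤ V)).op).hom) hspan
    rw [Ideal.map_span, Ideal.map_top, ← Set.range_comp] at h2
    exact h2
  · rintro _ ⟨x, rfl⟩
    show IsAffineOpen (X.basicOpen (X.presheaf.map (homOfLE (inf_le_right : U ⊓ V ≤ V)).op (h x)))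
    rw [Scheme.basicOpen_res, inf_assoc, inf_eq_right.mpr (X.basicOpen_le (h x))]
    exact key x

end Groth.Agent.S1009
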