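import Groth.Statements.S8458
import Groth.Agent.RootChartLib.Points
import Groth.Agent.RootChartLib.Commutator
import Groth.Agent.RootChartLib.RootFun

set_option autoImplicit false
universe u
open CategoryTheory MonoidalCategory CartesianMonoidalCategory MonObj GrpObj AlgebraicGeometry CategoryTheory.Limits
open Red

set_option backward.isDefEq.respectTransparency false
set_option backward.isDefEq.respectTransparency.types false

namespace Groth.Agent.S8458

/-- Let G be a split reductive S-group with splitting D (root homomorphisms u_c : 𝔾_a ⟶ G for all roots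
c) and let a, b be two roots with a + b ≠ 0 such that a + b is not a root. Then u_a(x) u_b(y) =
u_b(y) u_a(x) for all points x, y of 𝔾_a with values in any S-scheme. -/
theorem result (S : Scheme.{u}) (G : Over S) [GrpObj G] (D : Red.SplitRed G)
    (a b : D.idx) (h0 : D.P.root a + D.P.root b ≠ 0) (hab : D.P.root a + D.P.root b ∉ Set.range D.P.root)
    (X : Over S) (x y : X ⟶ Red.Ga S) :
    (x ≫ D.u a) * (y ≫ D.u b) = (y ≫ D.u b) * (x ≫ D.u a) := by
    classical
    obtain ⟨f, hf, hfa, hfb⟩ := Groth.Agent.RootChartLib.exists_regular_pos D.P h0 hab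
    refine Groth.Agent.RootChartLib.eq_of_rd D _ _ fun C _ j => ?_
    haveI := Groth.Agent.RootChartLib.smooth_model D (Groth.Agent.RootChartLib.base (X := X) j) (Groth.Agent.RootChartLib.model D (Groth.Agent.RootChartLib.base (X := X) j)).iso
    obtain ⟨e, he, hrange⟩ := Groth.Agent.RootChartLib.exists_enum fun r => 0 < f (D.P.root r)
    rw [Groth.Agent.RootChartLib.rd_mul, Groth.Agent.RootChartLib.rd_mul, Groth.Agent.RootChartLib.rd_u,
      Groth.Agent.RootChartLib.rd_u]
    exact (Groth.Agent.RootChartLib.cht D j).commute f (Groth.Agent.RootChartLib.geomFibres D _ _) e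
      (fun i => (hrange _).mp ⟨i, rfl⟩) he (fun r hr => (hrange r).mpr hr) hfa hfb
      (fun r i k hi hk => Groth.Agent.RootChartLib.no_comb_root D.P h0 hab _ r i k rfl hi hk) _ _

end Groth.Agent.S8458
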