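import Groth.Statements.S0048
import Groth.Agent.KZ.PerfCoh
import Groth.Agent.KFlatLib.Scheme.QCohD

set_option autoImplicit false
universe u
open Coherent
open CategoryTheory CategoryTheory.Limits

namespace Groth.Agent.S0048

open AlgebraicGeometry in
/-- Let U ⊆ X be open and T ⊆ U a subset closed in X. If F is a coherent (quasi-coherent of finite type,
i.e. `Coh.IsCoh`) module on U with support contained in T, then its direct image along U ↪ X is
again coherent in the same sense. (The published statement is for coherent modules in the usual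
sense; here both hypothesis and conclusion use the notion `Coh.IsCoh`.) -/
theorem result (X : Scheme.{u}) (U : X.Opens) (T : Set X)
    (hT : IsClosed T) (hTU : T ⊆ (U : Set X)) (F : (↑U : Scheme.{u}).Modules) (hF : Coh.IsCoh F)
    (hs : ∀ x : ↥U, x ∈ CohB1.support F → (x : X) ∈ T) : Coh.IsCoh ((Coh.push U.ι).obj F) := by
    classical
    refine Groth.Agent.KZ.isCoh_of_local fun x => ?_
    by_cases hx : x ∈ (U : Set X)
    · refine ⟨_, U.ι, inferInstance, ?_, ?_⟩
      · rw [Scheme.Opens.range_ι]; exact hx
      · exact Groth.Agent.KZ.isClosedUnderIsomorphisms_isCoh.of_iso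
          ((asIso (Scheme.Modules.restrictAdjunction U.ι).counit).app F).symm hF
    · let W : X.Opens := ⟨Tᶜ, hT.isOpen_compl⟩
      refine ⟨_, W.ι, inferInstance, ?_, ?_⟩
      · rw [Scheme.Opens.range_ι]; exact fun h => hx (hTU h)
      · have hsec : ∀ O : W.toScheme.Opens, ∀ s : Γ(((Coh.push U.ι).obj F).restrict W.ι, O), s = 0 := by
          intro O s
          show (s : Γ(F, U.ι ⁻¹ᵁ (W.ι ''ᵁ O))) = 0
          refine Groth.Agent.QCoh.eq_zero_of_locally (M := F) (U.ι ⁻¹ᵁ (W.ι ''ᵁ O)) s fun p hp => ?_
          have hp' : p ∉ CohB1.support F := fun h => by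
            obtain ⟨q, -, hq⟩ := hp
            exact q.2 (show q.1 ∈ T from (show q.1 = U.ι p from hq).symm ▸ hs p h)
          obtain ⟨V, hpV, i, j, e⟩ := F.presheaf.germ_eq p hp hp s 0 ((not_not.1 hp').elim _ _)
          exact ⟨V, i, hpV, e.trans (map_zero _)⟩
        have hz : IsZero (((Coh.push U.ι).obj F).restrict W.ι) := by
          rw [IsZero.iff_id_eq_zero]
          refine Scheme.Modules.hom_ext _ _ fun O => ?_
          ext s
          exact (hsec O s).trans (hsec O _).symm
        refine Groth.Agent.QCoh.isCoh_iff.2 ⟨Groth.Agent.KFlatLib.isQCoh_of_isZero hz, fun O => ?_⟩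
        haveI : Subsingleton Γ(((Coh.push U.ι).obj F).restrict W.ι, O.1) := ⟨fun a b => (hsec _ a).trans (hsec _ b).symm⟩
        infer_instance

end Groth.Agent.S0048
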