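import Groth.Statements.S0062
import Groth.Agent.NormX.StalkFibre
import Groth.Agent.KFlatLib.Scheme.ProjLocFree

set_option autoImplicit false
universe u
open Coherent

namespace Groth.Agent.S0062

open AlgebraicGeometry CategoryTheory in
/-- Let f : X → Y be proper with Y Noetherian, L invertible on X, F coherent on X, and y a point such
that the pullback of L to the fibre X_y is ample. Then there is d₀ such that for all d ≥ d₀ and p >
0 the stalk at y of R^p f_*(F ⊗ L^{⊗d}) vanishes. (The surjectivity assertion on global sections of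
the fibre is not stated.) -/
theorem result {X Y : Scheme.{u}} (f : X ⟶ Y) [IsProper f]
    [IsNoetherian Y] (L : X.Modules) (hL : PicF.IsInvertible L) (M : X.Modules) (hM : Coh.IsCoh M) (y : Y)
    (hy : CohB1.IsAmple ((Scheme.Modules.pullback (f.fiberι y)).obj L)) :
    ∃ d₀ : ℕ, ∀ d : ℕ, d₀ ≤ d → ∀ p : ℕ, 0 < p →
      Limits.IsZero (TopCat.Presheaf.stalk
        ((Coh.RpushAb f p).obj (Coh.toAb (CohB1.tensorMod M (CohB1.tensorPow L d)))).obj y) := by
  obtain ⟨d₀, hd⟩ := Groth.Agent.NormX.exists_vanishing_loc f y hL hM hy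
  refine ⟨d₀, fun d hdd p hp => ?_⟩
  obtain ⟨q, rfl⟩ := Nat.exists_eq_add_of_le' hp
  have hN : Coh.IsQCoh (CohB1.tensorMod M (CohB1.tensorPow L d)) :=
    Groth.Agent.NormX.isQCoh_twist hM.1 hL d
  obtain ⟨E⟩ := Groth.Agent.QCoh.nonempty_stalk_HH f hN y (q + 1) (Groth.Agent.NormX.locX f y)
    (Groth.Agent.NormX.locι f y) (IsPullback.of_hasPullback f (Y.fromSpecStalk y))
  obtain ⟨e⟩ := Groth.Agent.QCoh.nonempty_RpushAb_iso f (CohB1.tensorMod M (CohB1.tensorPow L d)) q
  obtain ⟨e'⟩ := Groth.Agent.QCoh.nonempty_Rpush_iso f (CohB1.tensorMod M (CohB1.tensorPow L d)) q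
  haveI := hd d hdd q
  haveI : Subsingleton (((Coh.Rpush f (q + 1)).obj
      (CohB1.tensorMod M (CohB1.tensorPow L d))).presheaf.stalk y) := E.toEquiv.subsingleton
  exact (@AddCommGrpCat.isZero_of_subsingleton _ this).of_iso (((TopCat.Presheaf.stalkFunctor AddCommGrpCat y).mapIso
    ((sheafToPresheaf _ _).mapIso (e ≪≫ ((Groth.Agent.QCoh.toAbFunctor Y).mapIso e').symm))) :)

end Groth.Agent.S0062
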