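import Groth.Statements.S0095
import Groth.Agent.S0094
import Groth.Agent.GeomSep.Basic
import Mathlib

set_option autoImplicit false
open CategoryTheory CategoryTheory.Limits AlgebraicGeometry Opposite
universe u
open EtBase

namespace Groth.Agent.S0095

/-- For a scheme over a separably closed field k and a field extension K of k, global sections of an
abelian étale sheaf do not change under base change to K (the source proves this for sheaves of
sets; the abelian case is stated). -/
theorem result {k K : Type u} [Field k] [IsSepClosed k] [Field K] [Algebra k K]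
    {S : Scheme.{u}} (a : S ⟶ Spec (CommRingCat.of k))
    [EtCoh.BCCont (pullback.fst a (Spec.map (CommRingCat.ofHom (algebraMap k K))))]
    (F : EtCoh.Ab S) :
    Function.Bijective (((EtCoh.pullPushAdj
      (pullback.fst a (Spec.map (CommRingCat.ofHom (algebraMap k K))))).unit.app F).hom.app
        (op (EtCoh.top S))) := by
  let g := Spec.map (CommRingCat.ofHom (algebraMap k K))
  haveI : Flat g := inferInstance
  haveI : QuasiCompact g := inferInstance
  haveI : Flat (pullback.fst a g) := MorphismProperty.pullback_fst _ _ ‹Flat g›
  haveI : QuasiCompact (pullback.fst a g) := MorphismProperty.pullback_fst _ _ ‹QuasiCompact g›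
  refine Groth.Agent.S0094.result (pullback.fst a g) ?_ F
  intro Ω _ _ s
  obtain ⟨ψ, hψ⟩ := Spec.map_surjective (s ≫ a)
  letI : Algebra k Ω := ψ.hom.toAlgebra
  haveI : ConnectedSpace (PrimeSpectrum (TensorProduct k Ω K)) := Groth.Agent.GeomSep.connectedSpace_tensor Ω K
  let e : pullback (pullback.fst a g) s ≅ Spec (CommRingCat.of (TensorProduct k Ω K)) :=
    pullbackSymmetry _ _ ≪≫ pullbackRightPullbackFstIso a g s ≪≫ pullback.congrHom hψ.symm rfl ≪≫
      pullbackSpecIso k Ω K
  haveI : ConnectedSpace ↥(Spec (CommRingCat.of (TensorProduct k Ω K))) := ‹ConnectedSpace (PrimeSpectrum (TensorProduct k Ω K))›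
  exact e.inv.homeomorph.surjective.connectedSpace e.inv.homeomorph.continuous

end Groth.Agent.S0095
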