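import Groth.Statements.S0121
import Groth.Agent.EtPBCq.FieldStep
import Groth.Agent.GalTorLib.Basic
import Groth.Agent.EtTorLib.ClosedQuot

set_option autoImplicit false
universe u
open CategoryTheory CategoryTheory.Limits AlgebraicGeometry Opposite
open EtPBC

set_option backward.isDefEq.respectTransparency false
set_option backward.isDefEq.respectTransparency.types false
set_option maxHeartbeats 1000000

namespace Groth.Agent.S0121

/-- For a henselian pair (A, I) (Mathlib's HenselianRing A I) with i the closed immersion of Spec (A/I),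
and F a torsion abelian sheaf on Spec A, the map H^q(Spec A, F) -> H^q(Spec A, i_* i^* F) induced by
the unit F -> i_* i^* F is bijective for every q. The source states the target as H^q(Spec (A/I),
i^* F); the two agree because i_* is exact with vanishing higher direct images for a closed
immersion, so this is the same comparison phrased on Spec A. -/
theorem result (A : Type u) [CommRing A] (I : Ideal A) [HenselianRing A I]
    [EtCoh.BCCont (Spec.map (CommRingCat.ofHom (Ideal.Quotient.mk I)))]
    (F : EtCoh.Ab (Spec (CommRingCat.of A))) (hF : EtCoh.IsTorsion F) (q : ℕ) :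
    Function.Bijective
      (Sheaf.H.map ((EtCoh.pullPushAdj (Spec.map (CommRingCat.ofHom (Ideal.Quotient.mk I)))).unit.app F) q) := by
  let i := Spec.map (CommRingCat.ofHom (Ideal.Quotient.mk I))
  haveI : IsClosedImmersion i := IsClosedImmersion.spec_of_surjective _ Ideal.Quotient.mk_surjective
  let j := Groth.Agent.EtH1Lib.closedIncl I (𝟙 (Spec (CommRingCat.of A)))
  let e : Spec (CommRingCat.of (A ⧸ I)) ⟶ pullback (𝟙 (Spec (CommRingCat.of A))) i :=
    pullback.lift i (𝟙 _) (by simp)
  haveI : IsIso (pullback.snd (𝟙 (Spec (CommRingCat.of A))) i) := inferInstance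
  have he : e ≫ pullback.snd (𝟙 (Spec (CommRingCat.of A))) i = 𝟙 _ := pullback.lift_snd _ _ _
  haveI : IsIso e := IsIso.of_isIso_fac_right he
  haveI := Groth.Agent.EtFound.pull_preservesFiniteLimits i
  haveI := Groth.Agent.EtFound.pull_preservesFiniteLimits e
  haveI := Groth.Agent.EtFound.pull_preservesFiniteLimits j
  have hi : Function.Bijective (EtCore.Hpull i F q) :=
    Groth.Agent.EtPBCq.bijective_Hpull_comp e j i (pullback.lift_fst _ _ _)
      (Groth.Agent.EtPBC0.AcycComp.bijective_Hpull_of_isIso e _ q)
      (Groth.Agent.EtPBCq.bijective_Hpull_closed I _ F hF q)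
  have hP : Function.Bijective (EtLim.HofPush i ((EtCoh.pull i).obj F) q) :=
    Groth.Agent.BigSiteLib.hofPush_bijective i _
      (fun p hp => Groth.Agent.EtTorLib.isZero_Rpush_closedImmersion i _ p hp) q
  refine (Function.Bijective.of_comp_iff' hP _).1 ?_
  have e2 : ∀ α : EtCoh.H _ F q, EtLim.HofPush i ((EtCoh.pull i).obj F) q
      (Sheaf.H.map ((EtCoh.pullPushAdj i).unit.app F) q α) = EtCore.Hpull i F q α :=
    fun α => Groth.Agent.GalTorLib.hofPush_unit i F q α
  exact ⟨fun a b hab => hi.1 ((e2 a).symm.trans (hab.trans (e2 b))), fun c => (hi.2 c).imp fun a ha => (e2 a).trans ha⟩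

end Groth.Agent.S0121
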