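import Groth.Statements.S0124
import Groth.Agent.EtTorLib.Exhaust
import Groth.Agent.EtLC12.QcqsAcyclic

set_option autoImplicit false
universe u
open CategoryTheory CategoryTheory.Limits AlgebraicGeometry Opposite
open EtPBC

namespace Groth.Agent.S0124

/-- Part (1): if X is quasi-compact and quasi-separated and F is a torsion abelian sheaf on X_et, then
H^n(X_et, F) is a torsion abelian group for every n. -/
theorem result (X : Scheme.{u}) [CompactSpace X] [QuasiSeparatedSpace X]
    (F : EtCoh.Ab X) (hF : EtCoh.IsTorsion F) (n : ℕ) :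
    IsAddTorsion (EtCoh.H X F n) := by
  haveI := EtTorLib.isFiltered_tidx.{u} (M := {n : ℕ | 0 < n}) Nat.one_pos EtTorLib.pos_mul
  obtain ⟨hc⟩ := EtTorLib.nonempty_isColimit_torsCocone (M := {n : ℕ | 0 < n}) F Nat.one_pos EtTorLib.pos_mul (EtTorLib.isTorsion_cond hF)
  haveI := EtLC12.QcqsAcyclic.preservesColimitsOfShape_HF X n (EtTorLib.TIdx.{u} {n : ℕ | 0 < n})
  intro x
  obtain ⟨i, y, hy⟩ := Types.jointly_surjective _
    (isColimitOfPreserves (forget AddCommGrpCat.{u + 1}) (isColimitOfPreserves (EtCoh.HF X n) hc)) x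
  refine isOfFinAddOrder_iff_nsmul_eq_zero.2 ⟨i.n, i.mem, ?_⟩
  let φ := (EtCoh.HF X n).map ((EtTorLib.torsCocone F _).ι.app i)
  change φ.hom y = x at hy
  haveI : (EtCoh.HF X n).Additive := by unfold EtCoh.HF; infer_instance
  have h0 : i.n • y = 0 := congrArg (fun q => q.hom y) (EtTorLib.exists_killed_stage F (EtCoh.HF X n) i)
  refine (congrArg (i.n • ·) hy.symm).trans ?_
  refine (map_nsmul φ.hom i.n y).symm.trans ?_
  exact (congrArg φ.hom h0).trans (map_zero _)

end Groth.Agent.S0124
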