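import Groth.Statements.S0134
import Groth.Agent.EtTorLib.ColimConstr

set_option autoImplicit false
universe u
open CategoryTheory CategoryTheory.Limits AlgebraicGeometry Opposite
open EtPBC

namespace Groth.Agent.S0134

/-- (2): on a quasi-compact quasi-separated scheme X every torsion abelian sheaf on X_et is the colimit
of a filtered diagram of constructible abelian sheaves. -/
theorem result (X : Scheme.{u}) [CompactSpace X] [QuasiSeparatedSpace X]
    (F : EtCoh.Ab X) (hF : EtCoh.IsTorsion F) :
    ∃ (J : Type (u + 1)) (_ : SmallCategory J) (_ : IsFiltered J) (D : J ⥤ EtCoh.Ab X)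
      (c : Cocone D) (_ : IsColimit c), (∀ j, EtPBC.IsConstructible (D.obj j)) ∧ Nonempty (c.pt ≅ F) := by
  let P : EtCoh.Ab X → Prop := fun _ => True
  have hP : EtTorLib.Good P := ⟨fun _ _ => trivial, fun _ => trivial, fun _ _ => trivial, fun _ _ => trivial⟩
  obtain ⟨hc⟩ := EtTorLib.exists_isColimit hP hF fun U hU s n hn hs => by
    haveI : NeZero n := ⟨hn.ne'⟩
    obtain ⟨h, hh⟩ := EtTorLib.exists_hom_gen s hs
    haveI := hU
    exact ⟨_, h, EtTorLib.gen U n, S0133.result X U (ZMod n), trivial, hh⟩
  exact ⟨EtTorLib.Idx P F, inferInstance, EtTorLib.isFiltered_idx hP, EtTorLib.diagram P F, EtTorLib.cocone P F, hc,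
    fun j => j.p.isConstructible, ⟨Iso.refl _⟩⟩

end Groth.Agent.S0134
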