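import Groth.Statements.S0169
import Groth.Agent.EtTorLib.EtaleStrata
import Groth.Agent.EtFound.Strata

set_option autoImplicit false
universe u
open CategoryTheory CategoryTheory.Limits AlgebraicGeometry Opposite
open EtPBC

namespace Groth.Agent.S0169

/-- For j : U -> X an etale morphism of quasi-compact quasi-separated schemes there are finitely many
immersions T_i -> X with pairwise disjoint constructible images covering X such that U x_X T_i ->
T_i is finite (etale) for each i. -/
theorem result {U X : Scheme.{u}} [CompactSpace U] [QuasiSeparatedSpace U]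
    [CompactSpace X] [QuasiSeparatedSpace X] (j : U ⟶ X) [Etale j] :
    ∃ (n : ℕ) (T : Fin n → Scheme.{u}) (g : ∀ i, T i ⟶ X),
      (∀ i, IsImmersion (g i)) ∧ (∀ i, Topology.IsConstructible (Set.range (g i))) ∧
      Pairwise (fun i i' => Disjoint (Set.range (g i)) (Set.range (g i'))) ∧
      (⋃ i, Set.range (g i)) = Set.univ ∧ ∀ i, IsFinite (pullback.snd j (g i)) := by
  obtain ⟨r, E, hE, hu, hfin⟩ := EtTorLib.exists_cover_isFinite j
  obtain ⟨n, P, hlc, hc, hd, hPu, hPE⟩ := EtFound.exists_lc_partition E hE
  choose T g hg hgr using fun i => EtFound.exists_immersion_range (hlc i)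
  refine ⟨n, T, g, hg, fun i => (congrArg Topology.IsConstructible (hgr i)).mpr (hc i), fun i i' hii => ?_, ?_, fun i => ?_⟩
  · have h : Disjoint (P i) (P i') := hd hii
    rw [← hgr i, ← hgr i'] at h
    exact h
  · rw [← hPu]
    exact congrArg Set.iUnion (funext hgr)
  · rcases isEmpty_or_nonempty (T i) with he | ⟨⟨t₀⟩⟩
    · rcases (Nat.eq_zero_or_pos r) with h0 | h0
      · subst h0
        haveI : IsEmpty X := ⟨fun x => by
          obtain ⟨k, -⟩ := Set.mem_iUnion.1 (hu.ge (Set.mem_univ x))
          exact k.elim0⟩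
        haveI : IsEmpty (pullback j (g i) : Scheme.{u}) := ⟨fun p => isEmptyElim ((g i).base ((pullback.snd j (g i)).base p))⟩
        haveI : IsClosedImmersion (pullback.snd j (g i)) := inferInstance
        infer_instance
      · exact hfin ⟨0, h0⟩ (g i) fun t => isEmptyElim t
    · obtain ⟨k, hk⟩ := Set.mem_iUnion.1 (hu.ge (Set.mem_univ ((g i).base t₀)))
      refine hfin k (g i) fun t => ?_
      have ht : (g i).base t ∈ P i := hgr i ▸ ⟨t, rfl⟩
      rcases hPE i k with h | h
      · exact h ht
      · exact absurd hk (Set.disjoint_left.1 h (hgr i ▸ ⟨t₀, rfl⟩))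

end Groth.Agent.S0169
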