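import Groth.Statements.S0170
import Groth.Agent.QFDecomp.Ring

set_option autoImplicit false
universe u
open CategoryTheory CategoryTheory.Limits AlgebraicGeometry Opposite
open EtPBC

namespace Groth.Agent.S0170

/-- the affine case -/
theorem spec_case {A R : CommRingCat.{u}} (φ : A ⟶ R) [LocallyQuasiFinite (Spec.map φ)]
    [LocallyOfFinitePresentation (Spec.map φ)] :
    ∃ (X' : Scheme.{u}) (_ : IsAffine X') (a : X' ⟶ Spec A) (_ : Surjective a) (Z' : Scheme.{u})
      (c : Z' ⟶ pullback a (Spec.map φ)) (_ : IsClosedImmersion c) (_ : Surjective c),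
      IsFinite (c ≫ pullback.fst a (Spec.map φ)) ∧ Etale (c ≫ pullback.fst a (Spec.map φ)) := by
  algebraize [φ.hom]
  haveI : Algebra.QuasiFinite A R :=
    (HasRingHomProperty.Spec_iff (P := @LocallyQuasiFinite)).1 (inferInstance : LocallyQuasiFinite (Spec.map φ))
  haveI : Algebra.FinitePresentation A R :=
    (HasRingHomProperty.Spec_iff (P := @LocallyOfFinitePresentation)).1
      (inferInstance : LocallyOfFinitePresentation (Spec.map φ))
  obtain ⟨B, _, _, C, _, _, π, hfin, het, hπ, hnil, hB⟩ :=
    QFDecomp.exists_decomposition (A := (A : Type u)) (R := (R : Type u))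
  have hφ : Spec.map φ = Spec.map (CommRingCat.ofHom (algebraMap A R)) := rfl
  rw [hφ]
  let a : Spec (CommRingCat.of B) ⟶ Spec A := Spec.map (CommRingCat.ofHom (algebraMap A B))
  haveI : IsClosedImmersion (Spec.map (CommRingCat.ofHom π.toRingHom)) :=
    IsClosedImmersion.spec_of_surjective _ hπ
  haveI : Surjective (Spec.map (CommRingCat.ofHom π.toRingHom)) := ⟨hnil⟩
  let c : Spec (CommRingCat.of C) ⟶ pullback a (Spec.map (CommRingCat.ofHom (algebraMap A R))) :=
    Spec.map (CommRingCat.ofHom π.toRingHom) ≫ (pullbackSpecIso A B R).inv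
  have hc : c ≫ pullback.fst a (Spec.map (CommRingCat.ofHom (algebraMap A R))) =
      Spec.map (CommRingCat.ofHom (algebraMap B C)) := by
    rw [Category.assoc, pullbackSpecIso_inv_fst', ← Spec.map_comp, ← CommRingCat.ofHom_comp,
      show π.toRingHom.comp (algebraMap B _) = algebraMap B C from π.comp_algebraMap]
  refine ⟨Spec (CommRingCat.of B), inferInstance, a, ⟨hB⟩, Spec (CommRingCat.of C), c,
    inferInstance, inferInstance, ?_, ?_⟩
  · rw [hc, IsFinite.SpecMap_iff]
    exact RingHom.finite_algebraMap.2 hfin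
  · rw [hc, HasRingHomProperty.Spec_iff (P := @Etale)]
    exact RingHom.etale_algebraMap.2 het

/-- For f : Y -> X quasi-finite and of finite presentation with X and Y affine, one can find an affine
X' mapping onto X such that the base change Y' = X' x_X Y contains a closed subscheme Z' with the
same underlying space (a thickening) for which the composite Z' -> Y' -> X' is finite etale. -/
theorem result {Y X : Scheme.{u}} [IsAffine X] [IsAffine Y] (f : Y ⟶ X)
    [LocallyQuasiFinite f] [LocallyOfFinitePresentation f] :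
    ∃ (X' : Scheme.{u}) (_ : IsAffine X') (a : X' ⟶ X) (_ : Surjective a) (Z' : Scheme.{u})
      (c : Z' ⟶ pullback a f) (_ : IsClosedImmersion c) (_ : Surjective c),
      IsFinite (c ≫ pullback.fst a f) ∧ Etale (c ≫ pullback.fst a f) := by
  obtain ⟨φ, hφ⟩ : ∃ φ : Γ(X, ⊤) ⟶ Γ(Y, ⊤), Y.isoSpec.inv ≫ f ≫ X.isoSpec.hom = Spec.map φ :=
    ⟨f.appTop, by rw [← Scheme.isoSpec_hom_naturality f, Iso.inv_hom_id_assoc]⟩
  haveI : LocallyQuasiFinite (Spec.map φ) := by rw [← hφ]; infer_instance
  haveI : LocallyOfFinitePresentation (Spec.map φ) := by rw [← hφ]; infer_instance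
  obtain ⟨X', hX', a, ha, Z', c, hc1, hc2, hfin, het⟩ := spec_case φ
  let m : pullback a (Spec.map φ) ⟶ pullback (a ≫ X.isoSpec.inv) f :=
    pullback.map _ _ _ _ (𝟙 X') Y.isoSpec.inv X.isoSpec.inv (by rw [Category.id_comp])
      (by rw [← hφ]; simp)
  haveI : IsIso m := inferInstance
  have hm : m ≫ pullback.fst (a ≫ X.isoSpec.inv) f = pullback.fst a (Spec.map φ) := by
    exact (pullback.lift_fst _ _ _).trans (Category.comp_id _)
  refine ⟨X', hX', a ≫ X.isoSpec.inv, inferInstance, Z', c ≫ m, inferInstance, inferInstance, ?_, ?_⟩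
  · rwa [Category.assoc, hm]
  · rwa [Category.assoc, hm]

end Groth.Agent.S0170
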