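import Groth.Statements.S0175
import Groth.Agent.DepthSupp.Supp

set_option autoImplicit false
universe u
open CategoryTheory CategoryTheory.Limits AlgebraicGeometry Opposite
open EtPBC

set_option backward.isDefEq.respectTransparency false
set_option backward.isDefEq.respectTransparency.types false

namespace Groth.Agent.S0175

/-- Let i : Z → X be a closed immersion of schemes with open complement j : U → X, and I an injective
abelian sheaf on X_ét. Then the subsheaf H_Z(I) of sections supported on Z (the kernel of I → j_*
j^* I), viewed on Z_ét via i^*, is an injective abelian sheaf on Z_ét. -/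
theorem result {Z X U : Scheme.{u}} (i : Z ⟶ X) [IsClosedImmersion i]
    (j : U ⟶ X) [IsOpenImmersion j] (hZU : Set.range j = (Set.range i)ᶜ)
    [EtCoh.BCCont i] [EtCoh.BCCont j] (I : EtCoh.Ab X) [Injective I] :
    Injective ((EtCoh.pull i).obj (kernel ((EtCoh.pullPushAdj j).unit.app I))) := by
  let K := kernel ((EtCoh.pullPushAdj j).unit.app I)
  have hK : Injective K := DepthSupp.injective_secSupp j I
  have hk := Groth.Agent.EtFound.pull_preservesFiniteLimits j
  have hz : IsZero ((EtCoh.pull j).obj K) := by
    have h0 : (EtCoh.pull j).map (kernel.ι ((EtCoh.pullPushAdj j).unit.app I)) = 0 :=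
      (DepthSupp.comp_unitApp_eq_zero_iff j _).1 (kernel.condition _)
    exact IsZero.of_mono_eq_zero _ h0
  have hu : IsIso ((EtCoh.pullPushAdj i).unit.app K) := by
    refine (Groth.Agent.EtFound.isIso_iff_stalks _).2 fun Ω _ _ ξ => ?_
    by_cases h : ξ.base (default : Spec (CommRingCat.of Ω)) ∈ Set.range i.base
    · exact Groth.Agent.EtFound.isIso_stalk_unit_closed i K ξ h
    · have hj : ξ.base (default : Spec (CommRingCat.of Ω)) ∈ Set.range j.base := by
        show _ ∈ Set.range j
        rw [hZU]; exact h
      refine Groth.Agent.EtFound.isIso_stalk_of_lift j _ ξ hj fun k _ _ z => ?_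
      refine IsZero.isIso ?_ (Groth.Agent.EtFound.isZero_stalk_push_closed i _ (z ≫ j) ?_) _
      · refine IsZero.of_iso ?_ ((Groth.Agent.EtFound.sheafFiberPullIso (A := AddCommGrpCat.{u + 1}) j z).symm.app K)
        exact (EtCoh.stalk z).map_isZero hz
      · intro h'
        have : (z ≫ j).base (default : Spec (CommRingCat.of k)) ∈ Set.range j := ⟨_, rfl⟩
        rw [hZU] at this
        exact this h'
  have hc : IsIso (EtCoh.pullPushAdj i).counit := by
    have : ∀ G, IsIso ((EtCoh.pullPushAdj i).counit.app G) := fun G =>
      Groth.Agent.EtFound.counit_isIso (A := AddCommGrpCat.{u + 1}) i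
        (Groth.Agent.EtFound.liftable_of_isClosedImmersion i) G
    exact NatIso.isIso_of_isIso_app _
  have hI : Injective ((EtCoh.push i).obj ((EtCoh.pull i).obj K)) :=
    Injective.of_iso (asIso ((EtCoh.pullPushAdj i).unit.app K)) hK
  let ff := (EtCoh.pullPushAdj i).fullyFaithfulROfIsIsoCounit
  have hpm : (EtCoh.push i).PreservesMonomorphisms :=
    Functor.preservesMonomorphisms_of_isRightAdjoint _
  refine ⟨fun g f hf => ⟨ff.preimage (Injective.factorThru ((EtCoh.push i).map g) ((EtCoh.push i).map f)), ?_⟩⟩
  apply ff.map_injective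
  rw [Functor.map_comp, ff.map_preimage, Injective.comp_factorThru]

end Groth.Agent.S0175
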