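import Groth.Statements.S0202
import Groth.Agent.EtAICLib.RingVanish
-- import your own Groth.Agent.* helpers here

set_option autoImplicit false
set_option backward.isDefEq.respectTransparency false
set_option backward.isDefEq.respectTransparency.types false
set_option linter.style.haveILetI false
set_option maxHeartbeats 1000000
universe u
open CategoryTheory CategoryTheory.Limits AlgebraicGeometry
open Curves

namespace Groth.Agent.S0202
open Groth.Agent

/-- Over the spectrum of an absolutely integrally closed ring, constant sheaves with finite value group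
have no higher étale cohomology. Absolutely integrally closed is taken as: every monic of positive
degree has a root. -/
theorem result (R : Type u) [CommRing R] (hR : Curves.IsAIC R)
    (M : Type) [AddCommGroup M] [Finite M] (i : ℕ) (hi : 0 < i) :
    Subsingleton (EtCoh.H (Spec (CommRingCat.of R)) (EtCoh.const (Spec (CommRingCat.of R)) M) i) := by
  haveI := Groth.Agent.EtAICLib.subsingleton_H_quot_aic hR M i hi ⊤
  let X := Spec (CommRingCat.of R)
  haveI : IsIso (Groth.Agent.EtTorLib.toQuot (EtCoh.const X M) (⊤ : TopologicalSpace.Closeds X)) :=
    (Groth.Agent.EtFound.isIso_iff_stalks _).2 fun Ω _ _ ξ =>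
      Groth.Agent.EtTorLib.isIso_stalk_toQuot ξ trivial
  haveI : Subsingleton ((EtCoh.HF X i).obj (Groth.Agent.EtTorLib.quotSheaf (EtCoh.const X M) ⊤)) :=
    Groth.Agent.EtAICLib.subsingleton_H_quot_aic hR M i hi ⊤
  exact ((EtCoh.HF X i).mapIso
    (asIso (Groth.Agent.EtTorLib.toQuot (EtCoh.const X M) (⊤ : TopologicalSpace.Closeds X)))).addCommGroupIsoToAddEquiv.toEquiv.subsingleton

end Groth.Agent.S0202
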