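import Groth.Statements.S0207
import Groth.Agent.S0469
import Groth.Agent.S0110
import Groth.Agent.EtLC12.ArtinSchreier

set_option backward.isDefEq.respectTransparency false
set_option backward.isDefEq.respectTransparency.types false

set_option autoImplicit false
universe u
open CategoryTheory CategoryTheory.Limits AlgebraicGeometry
open Curves

namespace Groth.Agent.S0207

/-- On a quasi-compact quasi-separated scheme of dimension d on which the prime p is zero, étale
cohomology with Z/p coefficients vanishes from degree d+2 on. -/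
theorem result (p : ℕ) [Fact p.Prime] (S : Scheme.{u}) [CompactSpace S] [QuasiSeparatedSpace S]
    (hp : (p : Γ(S, ⊤)) = 0) (d : ℕ) (hd : topologicalKrullDim S = d) (q : ℕ) (hq : 2 + d ≤ q) :
    Subsingleton (EtCoh.H S (EtCoh.const S (ZMod p)) q) := by
  obtain ⟨n, rfl⟩ := Nat.exists_eq_add_of_le hq
  have hGa : ∀ m, d < m → Subsingleton (EtCoh.H S (EtCoh.Ga S) m) := fun m hm => by
    obtain ⟨e⟩ := Groth.Agent.S0110.result S m
    haveI : SpectralSpace ↥S := { }
    haveI := Groth.Agent.S0469.result (X := S.toPresheafedSpace.carrier) d hd.le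
      (Coh.toAb (Coh.structureModule S)) m hm
    exact e.toEquiv.subsingleton
  let T := Limits.kernel (Groth.Agent.EtLC12.ArtinSchreier.as p hp)
  have hK : Subsingleton (EtCoh.H S T (2 + d + n)) := by
    refine subsingleton_of_forall_eq 0 fun x => ?_
    obtain ⟨z, rfl⟩ := Abelian.Ext.covariant_sequence_exact₁ _
      (Groth.Agent.EtLC12.ArtinSchreier.shortExact_kernel p hp) x
      (@Subsingleton.elim _ (hGa (2 + d + n) (by omega)) _ _) (show (1 + d + n) + 1 = 2 + d + n by omega)
    rw [show z = 0 from @Subsingleton.elim _ (hGa (1 + d + n) (by omega)) _ _, Abelian.Ext.zero_comp]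
  haveI : Subsingleton ((EtCoh.HF S (2 + d + n)).obj T) := hK
  exact ((EtCoh.HF S (2 + d + n)).mapIso
    (asIso (Groth.Agent.EtLC12.ArtinSchreier.constToKer p hp))).addCommGroupIsoToAddEquiv.toEquiv.subsingleton

end Groth.Agent.S0207
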