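import Groth.Statements.S0232
import Groth.Agent.GGDesc.Semilocal
import Groth.Agent.H23.PicMul
import Groth.Agent.CurveCohLib.Skyscraper


set_option autoImplicit false
universe u
open CategoryTheory CategoryTheory.Limits AlgebraicGeometry
open Curves
set_option backward.isDefEq.respectTransparency false
set_option linter.style.haveILetI false

namespace Groth.Agent.S0232

/-- For a quasi-compact quasi-separated scheme X over a field k with finite-dimensional H^0(X, O_X), an
invertible module on X that becomes trivial after base change to a field extension k' is already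
trivial (injectivity of Pic(X) → Pic(X_{k'}), stated on classes without a group structure). The base
change is given as any pullback square. -/
theorem result (k : Type u) [Field k] (X : Scheme.{u}) [X.Over (Spec (CommRingCat.of k))]
    [CompactSpace X] [QuasiSeparatedSpace X]
    (hfin : Module.Finite k (Coh.HH X (Coh.structureModule X) 0))
    (k' : Type u) [Field k'] [Algebra k k'] (X' : Scheme.{u}) (g : X' ⟶ X) (q : X' ⟶ Spec (CommRingCat.of k'))
    (hpb : IsPullback g q (X ↘ Spec (CommRingCat.of k)) (Spec.map (CommRingCat.ofHom (algebraMap k k'))))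
    (L : X.Modules) (hL : PicF.IsInvertible L) (htriv : PicF.IsTrivialCl (PicF.pullCl g (PicF.cl L))) :
    PicF.IsTrivialCl (PicF.cl L) := by
  haveI : QuasiCompact (X ↘ Spec (CommRingCat.of k)) := (quasiCompact_iff_compactSpace _).2 inferInstance
  haveI : QuasiSeparated (X ↘ Spec (CommRingCat.of k)) :=
    (quasiSeparated_iff_quasiSeparatedSpace _).2 inferInstance
  haveI : Flat (Spec.map (CommRingCat.ofHom (algebraMap k k'))) :=
    (HasRingHomProperty.Spec_iff (P := @Flat)).2
      (RingHom.flat_algebraMap_iff.2 inferInstance)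
  haveI : Surjective (Spec.map (CommRingCat.ofHom (algebraMap k k'))) := ⟨fun x =>
    ⟨(default : PrimeSpectrum k'), Subsingleton.elim (α := PrimeSpectrum k) _ x⟩⟩
  let φ : k →+* Γ(X, ⊤) :=
    (show k →+* Γ(X, ⊤) from
      (Coh.resTop X (Opposite.op ⊤)).comp (Coh.toGlobal (X ↘ Spec (CommRingCat.of k))))
  letI : Algebra k Γ(X, ⊤) := φ.toAlgebra
  let e := CategoryTheory.Sheaf.H.equiv₀ (Coh.toAb (Coh.structureModule X)) Limits.isTerminalTop
  let Φ : Coh.HH X (Coh.structureModule X) 0 →ₗ[k] Γ(X, ⊤) :=
    { toFun := fun c => (show Γ(X, ⊤) from e c)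
      map_add' := fun a b => map_add e a b
      map_smul' := fun a c => Groth.Agent.CurveCohLib.h0Equiv_smul (Coh.structureModule X) a c }
  haveI : Module.Finite k Γ(X, ⊤) :=
    Module.Finite.of_surjective Φ fun r => ⟨e.symm r, e.apply_symm_apply r⟩
  haveI : IsArtinianRing Γ(X, ⊤) := IsArtinianRing.of_finite k Γ(X, ⊤)
  obtain ⟨es⟩ := (Groth.Agent.H23.PicMul.cl_eq_iff).1
    (show PicF.cl ((Scheme.Modules.pullback g).obj L) = PicF.cl (Coh.structureModule X') from htriv)
  obtain ⟨eL⟩ := Groth.Agent.GGDesc.nonempty_iso_of_trivial hpb hL es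
  exact Groth.Agent.H23.PicMul.cl_eq_iff.2 ⟨eL⟩

end Groth.Agent.S0232
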