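import Groth.Statements.S0255
import Groth.Agent.Pi1Ext.BranchPurity

set_option autoImplicit false
attribute [-instance] CategoryTheory.catToReflQuiver
set_option backward.isDefEq.respectTransparency false
universe u
open Pi1

namespace Groth.Agent.S0255

open AlgebraicGeometry CategoryTheory CategoryTheory.Limits in
/-- Let f be a morphism locally of finite type between locally Noetherian schemes and x a point with
image y, such that the local ring at x is a normal domain, the local ring at y is regular of the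
same dimension, this dimension is at least 1, f is quasi-finite at x, and f is unramified at every
point of dimension one specializing to x. Then f is etale on an open neighbourhood of x. -/
theorem result {X Y : Scheme.{u}} (f : X ⟶ Y) [LocallyOfFiniteType f] [IsLocallyNoetherian X]
    [IsLocallyNoetherian Y] (x : X)
    (hx : IsDomain (X.presheaf.stalk x) ∧ IsIntegrallyClosed (X.presheaf.stalk x))
    (hy : IsRegularLocalRing (Y.presheaf.stalk (f.base x)))
    (hq : f.QuasiFiniteAt x)
    (hdim : ringKrullDim (X.presheaf.stalk x) = ringKrullDim (Y.presheaf.stalk (f.base x)))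
    (hdim1 : (1 : WithBot ℕ∞) ≤ ringKrullDim (X.presheaf.stalk x))
    (hunr : ∀ x' : X, x' ⤳ x → ringKrullDim (X.presheaf.stalk x') = 1 →
      (f.stalkMap x').hom.FormallyUnramified) :
    ∃ U : X.Opens, x ∈ U ∧ Etale (U.ι ≫ f) := by
  obtain ⟨U, hU, hyU, -⟩ := exists_isAffineOpen_mem_and_subset (x := f x) (U := (⊤ : Y.Opens)) trivial
  obtain ⟨V, hV, hxV, e⟩ := exists_isAffineOpen_mem_and_subset (x := x) (U := f ⁻¹ᵁ U) hyU
  have e : V ≤ f ⁻¹ᵁ U := e
  haveI : IsNoetherianRing Γ(Y, U) := IsLocallyNoetherian.component_noetherian ⟨U, hU⟩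
  have hft : (f.appLE U V e).hom.FiniteType := HasRingHomProperty.appLE @LocallyOfFiniteType f inferInstance ⟨U, hU⟩ ⟨V, hV⟩ e
  let q := hV.primeIdealOf ⟨x, hxV⟩
  have hqf : (f.appLE U V e).hom.QuasiFiniteAt q.asIdeal := hq.quasiFiniteAt hV hU e hxV
  algebraize [(f.appLE U V e).hom]
  haveI : Algebra.QuasiFiniteAt Γ(Y, U) q.asIdeal := hqf
  have hstalk : ∀ (z : X) (hz : z ∈ V),
      ringKrullDim (X.presheaf.stalk z) = ((hV.primeIdealOf ⟨z, hz⟩).asIdeal.height : WithBot ℕ∞) := fun z hz => by
    letI := X.presheaf.algebra_section_stalk ⟨z, hz⟩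
    haveI := hV.isLocalization_stalk ⟨z, hz⟩
    exact IsLocalization.AtPrime.ringKrullDim_eq_height (hV.primeIdealOf ⟨z, hz⟩).asIdeal _
  haveI : Algebra.FinitePresentation Γ(Y, U) Γ(X, V) := Algebra.FinitePresentation.of_finiteType.mp inferInstance
  have h1all : ∀ q₁ : PrimeSpectrum Γ(X, V), q₁.asIdeal ≤ q.asIdeal → q₁.asIdeal.height = 1 →
      q₁ ∉ Module.support Γ(X, V) Ω[Γ(X, V)⁄Γ(Y, U)] := fun q₁ hle h1 => by
    have hspec : hV.fromSpec q₁ ⤳ x := by
      rw [show x = hV.fromSpec q from (hV.fromSpec_primeIdealOf ⟨x, hxV⟩).symm]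
      exact ((PrimeSpectrum.le_iff_specializes q₁ q).1 hle).map hV.fromSpec.continuous
    have hz : hV.fromSpec q₁ ∈ V := by
      have : hV.fromSpec q₁ ∈ Set.range hV.fromSpec := ⟨q₁, rfl⟩
      rwa [hV.range_fromSpec] at this
    have hpr : hV.primeIdealOf ⟨hV.fromSpec q₁, hz⟩ = q₁ :=
      hV.fromSpec.isOpenEmbedding.injective (hV.fromSpec_primeIdealOf ⟨_, hz⟩)
    have hu := hunr _ hspec (by rw [hstalk _ hz, hpr, h1]; rfl)
    haveI := RingHom.toMorphismProperty_respectsIso_iff.1 RingHom.FormallyUnramified.respectsIso.{u}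
    have hu' := ((RingHom.toMorphismProperty RingHom.FormallyUnramified).arrow_mk_iso_iff
      (IsAffineOpen.arrowStalkMapIso f U hU V hV e hz)).1 hu
    let P := (hV.primeIdealOf ⟨hV.fromSpec q₁, hz⟩).asIdeal
    let p := (hU.primeIdealOf ⟨f (hV.fromSpec q₁), e hz⟩).asIdeal
    have hp : p = P.comap (f.appLE U V e).hom :=
      congr($(IsAffineOpen.comap_primeIdealOf_appLE U hU V hV e hz).1).symm
    have hcomp : ((Localization.localRingHom p P (f.appLE U V e).hom hp).comp
        (algebraMap Γ(Y, U) (Localization.AtPrime p))).FormallyUnramified :=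
      RingHom.FormallyUnramified.stableUnderComposition _ _
        (RingHom.formallyUnramified_algebraMap.2
          (Algebra.FormallyUnramified.of_isLocalization p.primeCompl)) hu'
    rw [show (Localization.localRingHom p P (f.appLE U V e).hom hp).comp
        (algebraMap Γ(Y, U) (Localization.AtPrime p)) = algebraMap Γ(Y, U) (Localization.AtPrime P) from
      RingHom.ext fun a => by
        rw [RingHom.comp_apply, Localization.localRingHom_to_map,
          IsScalarTower.algebraMap_apply Γ(Y, U) Γ(X, V) (Localization.AtPrime P)]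
        rfl, RingHom.formallyUnramified_algebraMap] at hcomp
    have hmem : hV.primeIdealOf ⟨hV.fromSpec q₁, hz⟩ ∈ Algebra.unramifiedLocus Γ(Y, U) Γ(X, V) := hcomp
    rw [hpr, Algebra.unramifiedLocus_eq_compl_support] at hmem
    exact hmem
  have hqp : q.asIdeal.under Γ(Y, U) = (hU.primeIdealOf ⟨f x, e hxV⟩).asIdeal :=
    congr($(IsAffineOpen.comap_primeIdealOf_appLE U hU V hV e hxV).1)
  letI := X.presheaf.algebra_section_stalk ⟨x, hxV⟩
  haveI := hV.isLocalization_stalk ⟨x, hxV⟩
  letI := Y.presheaf.algebra_section_stalk ⟨f x, e hxV⟩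
  haveI := hU.isLocalization_stalk ⟨f x, e hxV⟩
  let εY : Y.presheaf.stalk (f x) ≃+* Localization.AtPrime (hU.primeIdealOf ⟨f x, e hxV⟩).asIdeal :=
    (IsLocalization.algEquiv (hU.primeIdealOf ⟨f x, e hxV⟩).asIdeal.primeCompl
      (Y.presheaf.stalk (⟨f x, e hxV⟩ : U.1).1) _).toRingEquiv
  let εX : X.presheaf.stalk x ≃+* Localization.AtPrime q.asIdeal :=
    (IsLocalization.algEquiv q.asIdeal.primeCompl (X.presheaf.stalk (⟨x, hxV⟩ : V.1).1) _).toRingEquiv
  have het : q ∈ Algebra.etaleLocus Γ(Y, U) Γ(X, V) := by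
    refine Pi1Ext.BranchPurity.isEtaleAt_of_codim_one q ?_ ?_ ?_ ?_ h1all
    · rw! [hqp]
      haveI := hy
      exact IsRegularLocalRing.of_ringEquiv εY
    · haveI := hx.1
      haveI := hx.2
      exact ⟨εX.toMulEquiv.symm.isDomain, IsIntegrallyClosed.of_equiv εX⟩
    · have h := hdim
      rw [hstalk x hxV, ringKrullDim_eq_of_ringEquiv εY,
        IsLocalization.AtPrime.ringKrullDim_eq_height (hU.primeIdealOf ⟨f x, e hxV⟩).asIdeal] at h
      rw [hqp]
      exact WithBot.coe_injective h
    · have h := hdim1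
      rw [hstalk x hxV] at h
      exact WithBot.coe_le_coe.1 h
  obtain ⟨_, ⟨g, rfl⟩, hqg, hsub⟩ := PrimeSpectrum.isTopologicalBasis_basic_opens.exists_subset_of_mem_open
    het Algebra.isOpen_etaleLocus
  haveI := Algebra.basicOpen_subset_etaleLocus_iff_etale.1 hsub
  let j := Spec.map (CommRingCat.ofHom (algebraMap Γ(X, V) (Localization.Away g))) ≫ hV.fromSpec
  haveI : IsOpenImmersion (Spec.map (CommRingCat.ofHom (algebraMap Γ(X, V) (Localization.Away g)))) :=
    IsOpenImmersion.of_isLocalization g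
  refine ⟨j.opensRange, ?_, ?_⟩
  · obtain ⟨w, hw⟩ : q ∈ Set.range (PrimeSpectrum.comap (algebraMap Γ(X, V) (Localization.Away g))) := by
      rw [PrimeSpectrum.localization_away_comap_range (Localization.Away g) g]; exact hqg
    exact ⟨w, (congrArg hV.fromSpec hw).trans (hV.fromSpec_primeIdealOf ⟨x, hxV⟩)⟩
  · rw [← MorphismProperty.cancel_left_of_respectsIso (P := @Etale) j.isoOpensRange.hom,
      Scheme.Hom.isoOpensRange_hom_ι_assoc]
    have : j ≫ f = Spec.map (CommRingCat.ofHom (algebraMap Γ(Y, U) (Localization.Away g))) ≫ hU.fromSpec := by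
      rw [Category.assoc, ← hU.SpecMap_appLE_fromSpec f hV e, ← Spec.map_comp_assoc]
      rfl
    rw [this]
    haveI : Etale (Spec.map (CommRingCat.ofHom (algebraMap Γ(Y, U) (Localization.Away g)))) :=
      HasRingHomProperty.Spec_iff.2 (RingHom.etale_algebraMap.2 inferInstance)
    infer_instance

end Groth.Agent.S0255
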