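import Groth.Statements.S0257
import Groth.Agent.Pi1Ext.QFCodimOne

set_option autoImplicit false
attribute [-instance] CategoryTheory.catToReflQuiver
set_option backward.isDefEq.respectTransparency false
universe u
open Pi1

namespace Groth.Agent.S0257

open AlgebraicGeometry CategoryTheory CategoryTheory.Limits in
/-- Let f be flat and locally of finite type between locally Noetherian schemes, x a point of X which is
not a generic point of an irreducible component (its local ring has dimension at least 1), with f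
quasi-finite at x and unramified at all points of dimension one specializing to x. Then f is etale
on an open neighbourhood of x. -/
theorem result {X Y : Scheme.{u}} (f : X ⟶ Y) [LocallyOfFiniteType f] [Flat f] [IsLocallyNoetherian X]
    [IsLocallyNoetherian Y] (x : X) (hq : f.QuasiFiniteAt x)
    (hdim1 : (1 : WithBot ℕ∞) ≤ ringKrullDim (X.presheaf.stalk x))
    (hunr : ∀ x' : X, x' ⤳ x → ringKrullDim (X.presheaf.stalk x') = 1 →
      (f.stalkMap x').hom.FormallyUnramified) :
    ∃ U : X.Opens, x ∈ U ∧ Etale (U.ι ≫ f) := by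
  obtain ⟨U, hU, hyU, -⟩ := exists_isAffineOpen_mem_and_subset (x := f x) (U := (⊤ : Y.Opens)) trivial
  obtain ⟨V, hV, hxV, e⟩ := exists_isAffineOpen_mem_and_subset (x := x) (U := f ⁻¹ᵁ U) hyU
  have e : V ≤ f ⁻¹ᵁ U := e
  haveI : IsNoetherianRing Γ(Y, U) := IsLocallyNoetherian.component_noetherian ⟨U, hU⟩
  have hft : (f.appLE U V e).hom.FiniteType := HasRingHomProperty.appLE @LocallyOfFiniteType f inferInstance ⟨U, hU⟩ ⟨V, hV⟩ e
  have hfl : (f.appLE U V e).hom.Flat := f.flat_appLE hU hV e
  let q := hV.primeIdealOf ⟨x, hxV⟩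
  have hqf : (f.appLE U V e).hom.QuasiFiniteAt q.asIdeal := hq.quasiFiniteAt hV hU e hxV
  algebraize [(f.appLE U V e).hom]
  haveI : Algebra.QuasiFiniteAt Γ(Y, U) q.asIdeal := hqf
  have hstalk : ∀ (z : X) (hz : z ∈ V),
      ringKrullDim (X.presheaf.stalk z) = ((hV.primeIdealOf ⟨z, hz⟩).asIdeal.height : WithBot ℕ∞) := fun z hz => by
    letI := X.presheaf.algebra_section_stalk ⟨z, hz⟩
    haveI := hV.isLocalization_stalk ⟨z, hz⟩
    exact IsLocalization.AtPrime.ringKrullDim_eq_height (hV.primeIdealOf ⟨z, hz⟩).asIdeal _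
  have hnot : q ∉ Module.support Γ(X, V) Ω[Γ(X, V)⁄Γ(Y, U)] := by
    refine Pi1Ext.QFCodimOne.notMem_support_of_codim_one q (fun q₁ hle h1 => ?_) ?_
    · have hspec : hV.fromSpec q₁ ⤳ x := by
        rw [show x = hV.fromSpec q from (hV.fromSpec_primeIdealOf ⟨x, hxV⟩).symm]
        exact ((PrimeSpectrum.le_iff_specializes q₁ q).1 hle).map hV.fromSpec.continuous
      have hz : hV.fromSpec q₁ ∈ V := by
        have : hV.fromSpec q₁ ∈ Set.range hV.fromSpec := ⟨q₁, rfl⟩
        rwa [hV.range_fromSpec] at this
      have hpr : hV.primeIdealOf ⟨hV.fromSpec q₁, hz⟩ = q₁ :=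
        hV.fromSpec.isOpenEmbedding.injective (hV.fromSpec_primeIdealOf ⟨_, hz⟩)
      have hu := hunr _ hspec (by rw [hstalk _ hz, hpr, h1]; rfl)
      haveI := RingHom.toMorphismProperty_respectsIso_iff.1 RingHom.FormallyUnramified.respectsIso.{u}
      have hu' := ((RingHom.toMorphismProperty RingHom.FormallyUnramified).arrow_mk_iso_iff
        (IsAffineOpen.arrowStalkMapIso f U hU V hV e hz)).1 hu
      let P := (hV.primeIdealOf ⟨hV.fromSpec q₁, hz⟩).asIdeal
      let p := (hU.primeIdealOf ⟨f (hV.fromSpec q₁), e hz⟩).asIdeal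
      have hp : p = P.comap (f.appLE U V e).hom :=
        congr($(IsAffineOpen.comap_primeIdealOf_appLE U hU V hV e hz).1).symm
      have hcomp : ((Localization.localRingHom p P (f.appLE U V e).hom hp).comp
          (algebraMap Γ(Y, U) (Localization.AtPrime p))).FormallyUnramified :=
        RingHom.FormallyUnramified.stableUnderComposition _ _
          (RingHom.formallyUnramified_algebraMap.2
            (Algebra.FormallyUnramified.of_isLocalization p.primeCompl)) hu'
      rw [show (Localization.localRingHom p P (f.appLE U V e).hom hp).comp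
          (algebraMap Γ(Y, U) (Localization.AtPrime p)) = algebraMap Γ(Y, U) (Localization.AtPrime P) from
        RingHom.ext fun a => by
          rw [RingHom.comp_apply, Localization.localRingHom_to_map,
            IsScalarTower.algebraMap_apply Γ(Y, U) Γ(X, V) (Localization.AtPrime P)]
          rfl, RingHom.formallyUnramified_algebraMap] at hcomp
      have hmem : hV.primeIdealOf ⟨hV.fromSpec q₁, hz⟩ ∈ Algebra.unramifiedLocus Γ(Y, U) Γ(X, V) := hcomp
      rw [hpr, Algebra.unramifiedLocus_eq_compl_support] at hmem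
      exact hmem
    · have := hstalk x hxV
      rw [this] at hdim1
      exact WithBot.coe_le_coe.1 hdim1
  haveI : Algebra.FinitePresentation Γ(Y, U) Γ(X, V) := Algebra.FinitePresentation.of_finiteType.mp inferInstance
  haveI : Algebra.IsUnramifiedAt Γ(Y, U) q.asIdeal := by
    have : q ∈ Algebra.unramifiedLocus Γ(Y, U) Γ(X, V) := by
      rw [Algebra.unramifiedLocus_eq_compl_support]; exact hnot
    exact this
  have het : q ∈ Algebra.etaleLocus Γ(Y, U) Γ(X, V) := Algebra.IsEtaleAt.of_isUnramifiedAt_of_flat q.asIdeal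
  obtain ⟨_, ⟨g, rfl⟩, hqg, hsub⟩ := PrimeSpectrum.isTopologicalBasis_basic_opens.exists_subset_of_mem_open
    het Algebra.isOpen_etaleLocus
  haveI := Algebra.basicOpen_subset_etaleLocus_iff_etale.1 hsub
  let j := Spec.map (CommRingCat.ofHom (algebraMap Γ(X, V) (Localization.Away g))) ≫ hV.fromSpec
  haveI : IsOpenImmersion (Spec.map (CommRingCat.ofHom (algebraMap Γ(X, V) (Localization.Away g)))) :=
    IsOpenImmersion.of_isLocalization g
  refine ⟨j.opensRange, ?_, ?_⟩
  · obtain ⟨w, hw⟩ : q ∈ Set.range (PrimeSpectrum.comap (algebraMap Γ(X, V) (Localization.Away g))) := by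
      rw [PrimeSpectrum.localization_away_comap_range (Localization.Away g) g]; exact hqg
    exact ⟨w, (congrArg hV.fromSpec hw).trans (hV.fromSpec_primeIdealOf ⟨x, hxV⟩)⟩
  · rw [← MorphismProperty.cancel_left_of_respectsIso (P := @Etale) j.isoOpensRange.hom,
      Scheme.Hom.isoOpensRange_hom_ι_assoc]
    have : j ≫ f = Spec.map (CommRingCat.ofHom (algebraMap Γ(Y, U) (Localization.Away g))) ≫ hU.fromSpec := by
      rw [Category.assoc, ← hU.SpecMap_appLE_fromSpec f hV e, ← Spec.map_comp_assoc]
      rfl
    rw [this]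
    haveI : Etale (Spec.map (CommRingCat.ofHom (algebraMap Γ(Y, U) (Localization.Away g)))) :=
      HasRingHomProperty.Spec_iff.2 (RingHom.etale_algebraMap.2 inferInstance)
    infer_instance

end Groth.Agent.S0257
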