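import Groth.Statements.S0288
import Groth.Agent.S2755
import Groth.Agent.NormalUnib.Basic

set_option autoImplicit false
universe u
open Pi1

namespace Groth.Agent.S0288

open AlgebraicGeometry CategoryTheory CategoryTheory.Limits in
/-- Let X be a normal integral scheme with function field K, L a finite field extension of K and Y -> X
the normalization of X in Spec L. If Y -> X is unramified (formally unramified and locally of finite
type), then it is etale, and finite. -/
theorem result {X : Scheme.{u}} [IsIntegral X] (hX : Pi1.IsNormalScheme X) (L : Type u) [Field L]
    [Algebra X.functionField L] [FiniteDimensional X.functionField L]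
    [QuasiCompact (Spec.map (CommRingCat.ofHom (algebraMap X.functionField L)) ≫ X.fromSpecStalk (genericPoint X))]
    [QuasiSeparated (Spec.map (CommRingCat.ofHom (algebraMap X.functionField L)) ≫ X.fromSpecStalk (genericPoint X))]
    [FormallyUnramified (Spec.map (CommRingCat.ofHom (algebraMap X.functionField L)) ≫ X.fromSpecStalk (genericPoint X)).fromNormalization]
    [LocallyOfFiniteType (Spec.map (CommRingCat.ofHom (algebraMap X.functionField L)) ≫ X.fromSpecStalk (genericPoint X)).fromNormalization] :
    Etale (Spec.map (CommRingCat.ofHom (algebraMap X.functionField L)) ≫ X.fromSpecStalk (genericPoint X)).fromNormalization ∧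
    IsFinite (Spec.map (CommRingCat.ofHom (algebraMap X.functionField L)) ≫ X.fromSpecStalk (genericPoint X)).fromNormalization := by
  set g := Spec.map (CommRingCat.ofHom (algebraMap X.functionField L)) ≫ X.fromSpecStalk (genericPoint X)
  have hfin : IsFinite g.fromNormalization :=
    (IsFinite.iff_isIntegralHom_and_locallyOfFiniteType _).mpr ⟨inferInstance, inferInstance⟩
  refine ⟨(Groth.Agent.S2755.result g.fromNormalization (fun y => ?_) ⟨g.toNormalization default, ?_⟩).1, hfin⟩
  · haveI := (hX y).1
    haveI := (hX y).2
    exact Groth.Agent.NormalUnib.isGeomUnibranch_of_normal _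
  · rw [← Scheme.Hom.comp_apply, Scheme.Hom.toNormalization_fromNormalization]
    change X.fromSpecStalk (genericPoint X) _ = _
    haveI : Subsingleton ↥(Spec X.functionField) :=
      inferInstanceAs (Subsingleton (PrimeSpectrum X.functionField))
    exact (congrArg (X.fromSpecStalk (genericPoint X)) (Subsingleton.elim _ (IsLocalRing.closedPoint X.functionField))).trans Scheme.fromSpecStalk_closedPoint

end Groth.Agent.S0288
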