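import Groth.Statements.S0359
import Groth.Agent.LC.AdjDepth
import Mathlib.RingTheory.Ideal.AssociatedPrime.Localization

set_option autoImplicit false
universe u v
open LocCoh

namespace Groth.Agent.S0359

theorem semicont {R : Type u} [CommRing R] [IsNoetherianRing R] (e : ℕ) :
    ∀ (M : Type u) [AddCommGroup M] [Module R M] [Module.Finite R M] (p : Ideal R) [p.IsPrime],
    (e : ℕ∞) ≤ LocCoh.depth (Localization.AtPrime p) (LocalizedModule p.primeCompl M) →
    ∃ f : R, f ∉ p ∧
      (∀ (q : Ideal R) [q.IsPrime], p ≤ q → f ∉ q →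
        (e : ℕ∞) ≤ LocCoh.depth (Localization.AtPrime q) (LocalizedModule q.primeCompl M)) ∧
      {q : PrimeSpectrum R | p ≤ q.asIdeal ∧ f ∉ q.asIdeal ∧
        LocCoh.depth (Localization.AtPrime q.asIdeal) (LocalizedModule q.asIdeal.primeCompl M) = e}.Finite := by
  induction e with
  | zero =>
    intro M _ _ _ p _ _
    refine ⟨1, (Ideal.ne_top_iff_one p).mp (Ideal.IsPrime.ne_top ‹_›), fun q _ _ _ => by simp, ?_⟩
    refine ((associatedPrimes.finite R M).preimage
      (fun _ _ _ _ h => PrimeSpectrum.ext h) : (PrimeSpectrum.asIdeal ⁻¹' associatedPrimes R M).Finite).subset ?_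
    rintro q ⟨-, -, hq⟩
    by_contra hass
    have := (Groth.Agent.Alg6.one_le_depth_atPrime_iff q.asIdeal).mpr hass
    rw [hq] at this
    exact absurd this (by simp)
  | succ e ih =>
    intro M _ _ _ p _ he
    have hpass : p ∉ associatedPrimes R M := (Groth.Agent.Alg6.one_le_depth_atPrime_iff p).mp
      (le_trans (by exact_mod_cast Nat.le_add_left 1 e) he)
    obtain ⟨f₁, hf₁, x, hxp, hx⟩ := exists_regular M p hpass
    let T := DRing.torsionSub (Ideal.span {f₁}) M
    have hnle : ∀ q : Ideal R, f₁ ∉ q → ¬ Ideal.span {f₁} ≤ q := fun q hq h =>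
      hq (h (Ideal.mem_span_singleton_self f₁))
    have key : ∀ (q : Ideal R) [q.IsPrime], x ∈ q → f₁ ∉ q →
        LocCoh.depth (Localization.AtPrime q) (LocalizedModule q.primeCompl (QuotSMulTop x (M ⧸ T))) + 1 =
          LocCoh.depth (Localization.AtPrime q) (LocalizedModule q.primeCompl M) := fun q _ hxq hq =>
      (LC.depth_localized_quot_add_one (M ⧸ T) q hxq hx).trans
        (LC.depth_localized_torsionQuot M _ q (hnle q hq))
    obtain ⟨f, hf, hge, hfin⟩ := ih (QuotSMulTop x (M ⧸ T)) p (by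
      rw [← key p hxp hf₁, Nat.cast_add, Nat.cast_one] at he
      exact (WithTop.add_le_add_iff_right ENat.one_ne_top).mp he)
    refine ⟨f₁ * f, fun h => ((Ideal.IsPrime.mem_or_mem ‹_› h).elim hf₁ hf), fun q _ hpq hq => ?_, ?_⟩
    · rw [← key q (hpq hxp) (fun h => hq (q.mul_mem_right f h)), Nat.cast_add, Nat.cast_one]
      exact add_le_add (hge q hpq fun h => hq (q.mul_mem_left f₁ h)) le_rfl
    · refine hfin.subset ?_
      rintro q ⟨hpq, hq, heq⟩
      refine ⟨hpq, fun h => hq (q.asIdeal.mul_mem_left f₁ h), ?_⟩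
      rw [← key q.asIdeal (hpq hxp) (fun h => hq (q.asIdeal.mul_mem_right f h)), Nat.cast_add,
        Nat.cast_one] at heq
      exact (WithTop.add_right_inj ENat.one_ne_top).mp heq
where
  exists_regular {R : Type u} [CommRing R] [IsNoetherianRing R] (M : Type u) [AddCommGroup M] [Module R M]
      [Module.Finite R M] (p : Ideal R) [p.IsPrime] (hp : p ∉ associatedPrimes R M) :
      ∃ f ∉ p, ∃ x ∈ p, IsSMulRegular (M ⧸ DRing.torsionSub (Ideal.span {f}) M) x := by
    classical
    let s := (associatedPrimes.finite R M).toFinset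
    obtain ⟨x, hxp, hx⟩ : ∃ x ∈ p, ∀ P ∈ s, P ≤ p → x ∉ P := by
      have h : ¬ (p : Set R) ⊆ ⋃ P ∈ ((s.filter (· ≤ p) : Finset (Ideal R)) : Set (Ideal R)), (P : Set R) := by
        intro hsub
        obtain ⟨P, hP, hle⟩ := (Ideal.subset_union_prime ⊥ ⊥ fun P hP _ _ =>
          (AssociatedPrimes.mem_iff.mp ((associatedPrimes.finite R M).mem_toFinset.mp
            (Finset.mem_filter.mp hP).1)).isPrime).mp hsub
        rw [Finset.mem_filter] at hP
        exact hp (le_antisymm hP.2 hle ▸ (associatedPrimes.finite R M).mem_toFinset.mp hP.1)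
      obtain ⟨x, hxp, hx⟩ := Set.not_subset.mp h
      exact ⟨x, hxp, fun P hP hle hxP => hx (Set.mem_biUnion (Finset.mem_filter.mpr ⟨hP, hle⟩) hxP)⟩
    have hex : ∀ P ∈ s, ∃ a : R, a ∉ p ∧ (¬ P ≤ p → a ∈ P) := fun P _ => by
      by_cases h : P ≤ p
      · exact ⟨1, (Ideal.ne_top_iff_one p).mp (Ideal.IsPrime.ne_top ‹_›), fun h' => absurd h h'⟩
      · obtain ⟨a, ha, ha'⟩ := SetLike.not_le_iff_exists.mp h
        exact ⟨a, ha', fun _ => ha⟩
    choose! a ha ha' using hex
    refine ⟨∏ P ∈ s, a P, fun h => ?_, x, hxp, ?_⟩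
    · obtain ⟨P, hP, hmem⟩ := (‹p.IsPrime›.prod_mem_iff).mp h
      exact ha P hP hmem
    rw [isSMulRegular_iff_right_eq_zero_of_smul]
    intro m hm
    obtain ⟨m, rfl⟩ := Submodule.mkQ_surjective _ m
    rw [← map_smul, Submodule.mkQ_apply, Submodule.Quotient.mk_eq_zero] at hm
    rw [Submodule.mkQ_apply, Submodule.Quotient.mk_eq_zero]
    obtain ⟨n, hn⟩ := hm
    let y := (∏ P ∈ s, a P) ^ n • m
    have hxy : x • y = 0 := by
      rw [smul_comm]
      exact hn _ (Ideal.pow_mem_pow (Ideal.mem_span_singleton_self _) n)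
    obtain ⟨l, hl⟩ : (∏ P ∈ s, a P) ∈ (Submodule.span R {y}).annihilator.radical := by
      rw [← Ideal.sInf_minimalPrimes, Submodule.mem_sInf]
      intro Q hQ
      have hQA : Q ∈ associatedPrimes R M :=
        associatedPrimes.subset_of_injective (Submodule.injective_subtype (Submodule.span R {y}))
          (Module.associatedPrimes.minimalPrimes_annihilator_subset_associatedPrimes R _ hQ)
      have hQs : Q ∈ s := (associatedPrimes.finite R M).mem_toFinset.mpr hQA
      haveI := (AssociatedPrimes.mem_iff.mp hQA).isPrime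
      refine (Ideal.IsPrime.prod_mem_iff (p := Q)).mpr ⟨Q, hQs, ha' Q hQs fun hle => ?_⟩
      exact hx Q hQs hle (hQ.1.2 ((Submodule.mem_annihilator_span_singleton y x).mpr hxy))
    refine ⟨l + n, fun b hb => ?_⟩
    rw [Ideal.span_singleton_pow, Ideal.mem_span_singleton'] at hb
    obtain ⟨c, rfl⟩ := hb
    rw [mul_smul, pow_add, mul_smul]
    exact (congrArg (c • ·) ((Submodule.mem_annihilator_span_singleton y _).mp hl)).trans (smul_zero c)

/-- For a finite module M over a Noetherian ring and a prime p with depth(M_p) = e finite, there is a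
basic open neighbourhood of p in V(p) on which the depth of the localizations of M is at least e,
and it exceeds e at all but finitely many of those primes. -/
theorem result (R : Type u) [CommRing R] [IsNoetherianRing R] (M : Type u) [AddCommGroup M] [Module R M] [Module.Finite R M] (p : Ideal R) [p.IsPrime] (e : ℕ) (he : LocCoh.depth (Localization.AtPrime p) (LocalizedModule p.primeCompl M) = e) : ∃ f : R, f ∉ p ∧ (∀ (q : Ideal R) [q.IsPrime], p ≤ q → f ∉ q → (e : ℕ∞) ≤ LocCoh.depth (Localization.AtPrime q) (LocalizedModule q.primeCompl M)) ∧ {q : PrimeSpectrum R | p ≤ q.asIdeal ∧ f ∉ q.asIdeal ∧ LocCoh.depth (Localization.AtPrime q.asIdeal) (LocalizedModule q.asIdeal.primeCompl M) = e}.Finite := by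
  exact semicont e M p he.ge

end Groth.Agent.S0359
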