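import Groth.Statements.S0361
import Groth.Agent.H1TorUnif.Main

set_option autoImplicit false
universe u v
open CategoryTheory
open LocCoh

namespace Groth.Agent.S0361

/-- For an ideal I of a Noetherian ring generated by at most t elements there are N, c ≥ 0 such that for
every module M and every n ≥ N the map Tor_{t+1}(M, R/I^n) → Tor_{t+1}(M, R/I^{n−c}) is zero. -/
theorem result (R : Type u) [CommRing R] [IsNoetherianRing R] (I : Ideal R) (t : ℕ) (s : Finset R) (hs : I = Ideal.span (s : Set R)) (ht : s.card ≤ t) : ∃ N c : ℕ, ∀ (M : Type u) [AddCommGroup M] [Module R M], ∀ n : ℕ, N ≤ n → (((Tor (ModuleCat.{u} R) (t + 1)).obj (ModuleCat.of R M)).map (ModuleCat.ofHom (Submodule.mapQ (I ^ n) (I ^ (n - c)) LinearMap.id (Ideal.pow_le_pow_right (Nat.sub_le n c))))) = 0 := by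
  classical
  let e := s.equivFin
  let a : Fin t → R := fun i => if hi : (i : ℕ) < s.card then (e.symm ⟨i, hi⟩ : R) else 0
  let P := MvPolynomial (Fin t) R
  letI : Algebra P R := (MvPolynomial.aeval a : P →ₐ[R] R).toRingHom.toAlgebra
  have hsurj : Function.Surjective (algebraMap P R) := fun r => ⟨MvPolynomial.C r, MvPolynomial.aeval_C a r⟩
  haveI : Module.Finite P R := Module.Finite.of_surjective (Algebra.linearMap P R) hsurj
  have hI : (MvPolynomial.idealOfVars (Fin t) R).map (algebraMap P R) = I := by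
    rw [MvPolynomial.idealOfVars, Ideal.map_span, hs]
    refine le_antisymm (Ideal.span_le.2 ?_) (Ideal.span_le.2 ?_)
    · rintro x ⟨y, ⟨i, rfl⟩, rfl⟩
      show MvPolynomial.aeval a (MvPolynomial.X i) ∈ _
      rw [MvPolynomial.aeval_X]
      by_cases hi : (i : ℕ) < s.card
      · simp only [a, dif_pos hi]
        exact Ideal.subset_span (e.symm ⟨i, hi⟩).2
      · simp only [a, dif_neg hi]
        exact zero_mem _
    · intro x hx
      have hlt : (e ⟨x, hx⟩ : ℕ) < s.card := (e ⟨x, hx⟩).2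
      refine Ideal.subset_span ⟨MvPolynomial.X ⟨e ⟨x, hx⟩, lt_of_lt_of_le hlt ht⟩, ⟨_, rfl⟩, ?_⟩
      show MvPolynomial.aeval a (MvPolynomial.X _) = x
      rw [MvPolynomial.aeval_X]
      simp only [a, dif_pos hlt, Fin.eta, Equiv.symm_apply_apply]
  obtain ⟨c, hc⟩ := H1TorUnif.exists_hmap_factor_zero (A := R) (MvPolynomial.idealOfVars (Fin t) R) t
    (fun n => H1TorUnif.pdLE_quotient_pow R t n) I hI
  refine ⟨c, c, fun M _ _ n hn => ?_⟩
  refine H1TorAR.tor_obj_map_eq_zero _ _ _ ?_
  have hle : I ^ n ≤ I ^ (n - c) := Ideal.pow_le_pow_right (Nat.sub_le n c)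
  show H1TorAR.hmap _ (ModuleCat.ofHom (Submodule.factor hle)) (t + 1) = 0
  obtain ⟨k, rfl⟩ : ∃ k, n = k + c := ⟨n - c, by omega⟩
  revert hle
  rw [Nat.add_sub_cancel]
  exact fun hle => hc k hle _

end Groth.Agent.S0361
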