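import Groth.Statements.S0363
import Groth.Agent.H1GorTor.Basic
import Groth.Agent.LC.GorHull
import Groth.Agent.LC.Matlis
import Groth.Agent.CAlgOdd.FiniteResolution

set_option autoImplicit false
universe u v
open CategoryTheory
open Goren

namespace Groth.Agent.S0363

/-- Over a Gorenstein local ring of dimension d with E an injective hull of the residue field κ,
Tor_i(E, κ) vanishes for i ≠ d and Tor_d(E, κ) is isomorphic to κ. -/
theorem result (A : Type u) [CommRing A] [LocCoh.IsGorensteinLocalRing A] (d : ℕ) (hd : ringKrullDim A = d) (E : Type u) [AddCommGroup E] [Module A E] (f : IsLocalRing.ResidueField A →ₗ[A] E) (hf : InjHull.IsInjectiveHull f) : (∀ i : ℕ, i ≠ d → Limits.IsZero (((Tor (ModuleCat.{u} A) i).obj (ModuleCat.of A E)).obj (ModuleCat.of A (IsLocalRing.ResidueField A)))) ∧ Nonempty ((((Tor (ModuleCat.{u} A) d).obj (ModuleCat.of A E)).obj (ModuleCat.of A (IsLocalRing.ResidueField A))) ≅ ModuleCat.of A (IsLocalRing.ResidueField A)) := by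
  open Groth.Agent.LC in
  obtain ⟨d', hd', hδ, -⟩ := gorenstein_basic (R := A)
  obtain rfl : d = d' := by rw [hd] at hd'; exact_mod_cast hd'
  let H : ModuleCat.{u} A := (localCohomology (IsLocalRing.maximalIdeal A) d).obj (ModuleCat.of A A)
  obtain ⟨g, hg⟩ := isInjectiveHull_H_gorenstein (R := A) hd
  obtain ⟨e, -⟩ := hull_unique hf hg
  obtain ⟨P, hP⟩ := Groth.Agent.CAlgOdd.FiniteResolution.exists_projectiveResolution A (IsLocalRing.ResidueField A)
  have key := fun n => H1GorTor.val_tor (IsLocalRing.maximalIdeal A) d (subsingleton_H_low_of_depth hδ.ge)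
    (fun N _ => subsingleton_H_succ_of_ringKrullDim _ hd.le N)
    (IsLocalRing.ResidueField A) isPowerTorsion_residueField P hP n
  let eT : ∀ n, ((Tor (ModuleCat.{u} A) n).obj (ModuleCat.of A E)).obj (ModuleCat.of A (IsLocalRing.ResidueField A)) ≅
      ((Tor (ModuleCat.{u} A) n).obj H).obj (ModuleCat.of A (IsLocalRing.ResidueField A)) := fun n =>
    ((Tor (ModuleCat.{u} A) n).mapIso (X := ModuleCat.of A E) (Y := H) e.toModuleIso).app _
  refine ⟨fun i hi => ?_, ?_⟩
  · haveI := (key i).2 hi
    exact (ModuleCat.isZero_iff_subsingleton.2 inferInstance : Limits.IsZero _).of_iso (eT i)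
  · obtain ⟨k⟩ := (key d).1 rfl
    exact ⟨eT d ≪≫ k.toModuleIso⟩

end Groth.Agent.S0363
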