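import Groth.Statements.S0370
import Groth.Agent.PerfGen7.LocalizeDual

set_option autoImplicit false
universe u v
open CategoryTheory
attribute [local instance] HasDerivedCategory.standard
open Dual

namespace Groth.Agent.S0370

/-- A Noetherian ring admitting a finite module which, placed in degree 0, is a dualizing complex, is
Cohen–Macaulay. -/
theorem result (A : Type u) [CommRing A] [IsNoetherianRing A] (W : Type u) [AddCommGroup W] [Module A W] [Module.Finite A W] (h : Dual.IsDualizing A (Dual.inD A W)) : LocCoh.IsCohenMacaulayRing A := by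
  obtain ⟨n, hn, -, -, -⟩ := Groth.Agent.KFlatLib.exists_extDegree h
  refine { isCohenMacaulayLocalRing_localization := fun p hp => ?_ }
  let q : PrimeSpectrum A := ⟨p, hp⟩
  haveI : Nontrivial (LocalizedModule q.asIdeal.primeCompl A) :=
    (Groth.Agent.LC.selfLoc q.asIdeal.primeCompl).toEquiv.nontrivial
  refine (Groth.Agent.PerfGen7.LocalizeDual.isCM_localRing_iff q).2
    ((Groth.Agent.PerfGen7.LocalizeDual.isCM_localized_iff h hn A q).2 fun i j hi hj => ?_)
  have key : ∀ i : ℤ, Nontrivial (LocalizedModule q.asIdeal.primeCompl (Dual.inD A A ⟶ (Dual.inD A W)⟦i⟧)) → i = 0 := by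
    intro i hi
    by_contra hne
    obtain ⟨e⟩ := Groth.Agent.KFlatLib.exists_homRingLEquiv (Dual.inD A W) i
    have h0 : Subsingleton (Dual.HD A (Dual.inD A W) i) := ModuleCat.subsingleton_of_isZero (by
      rcases lt_or_gt_of_ne hne with h' | h'
      · exact DerivedCategory.isZero_of_isGE _ 0 i h'
      · exact DerivedCategory.isZero_of_isLE _ 0 i h')
    haveI := e.toEquiv.subsingleton
    exact not_subsingleton (LocalizedModule q.asIdeal.primeCompl (Dual.inD A A ⟶ (Dual.inD A W)⟦i⟧))
      (LocalizedModule.subsingleton_iff.2 fun f => ⟨1, one_mem _, Subsingleton.elim _ _⟩)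
  exact (key i hi).trans (key j hj).symm

end Groth.Agent.S0370
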