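import Groth.Statements.S1716
import Groth.Agent.PerfGen7.LocalizeDual

set_option autoImplicit false
universe u
open CategoryTheory
attribute [local instance] HasDerivedCategory.standard
open Dual

namespace Groth.Agent.S1716

/-- Let A be a Noetherian ring with a dualizing complex and M a finite A-module. The set U of primes p
at which M_p is zero or a Cohen–Macaulay module is open in Spec A, and the primes of the support of
M at which M_p is Cohen–Macaulay are dense in the support of M. (The zero module is counted as
Cohen–Macaulay here.) -/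
theorem result (A : Type u) [CommRing A] [IsNoetherianRing A] (hA : ∃ ω : Dual.D A, Dual.IsDualizing A ω) (M : Type u) [AddCommGroup M] [Module A M] [Module.Finite A M] : IsOpen {p : PrimeSpectrum A | Subsingleton (LocalizedModule p.asIdeal.primeCompl M) ∨ LocCoh.IsCohenMacaulayModule (Localization.AtPrime p.asIdeal) (LocalizedModule p.asIdeal.primeCompl M)} ∧ Module.support A M ⊆ closure ({p : PrimeSpectrum A | LocCoh.IsCohenMacaulayModule (Localization.AtPrime p.asIdeal) (LocalizedModule p.asIdeal.primeCompl M)} ∩ Module.support A M) := by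
  obtain ⟨ω, hω⟩ := hA
  obtain ⟨n, hn, -, -, -⟩ := Groth.Agent.KFlatLib.exists_extDegree hω
  refine ⟨?_, ?_⟩
  · have heq : {p : PrimeSpectrum A | Subsingleton (LocalizedModule p.asIdeal.primeCompl M) ∨ LocCoh.IsCohenMacaulayModule (Localization.AtPrime p.asIdeal) (LocalizedModule p.asIdeal.primeCompl M)} =
        (Module.support A M)ᶜ ∪ {q : PrimeSpectrum A | ∀ i j : ℤ,
          Nontrivial (LocalizedModule q.asIdeal.primeCompl (Dual.inD A M ⟶ ω⟦i⟧)) →
            Nontrivial (LocalizedModule q.asIdeal.primeCompl (Dual.inD A M ⟶ ω⟦j⟧)) → i = j} := by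
      ext q
      simp only [Set.mem_ofPred_eq, Set.mem_union, Set.mem_compl_iff]
      by_cases hq : q ∈ Module.support A M
      · haveI := Module.mem_support_iff.1 hq
        exact (or_iff_right (not_subsingleton _)).trans
          ((Groth.Agent.PerfGen7.LocalizeDual.isCM_localized_iff hω hn M q).trans (or_iff_right (not_not.2 hq)).symm)
      · exact iff_of_true (Or.inl (not_nontrivial_iff_subsingleton.1 fun h => hq (Module.mem_support_iff.2 h))) (Or.inl hq)
    rw [heq]
    exact (Module.isClosed_support.isOpen_compl).union
      (Groth.Agent.PerfGen7.LocalizeDual.isOpen_unique hω M)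
  · intro p hp
    rw [Module.support_eq_zeroLocus] at hp
    obtain ⟨q, hq, hqp⟩ := Ideal.exists_minimalPrimes_le (J := p.asIdeal) hp
    let Q : PrimeSpectrum A := ⟨q, hq.1.1⟩
    have hqs : Q ∈ Module.support A M := by
      rw [Module.support_eq_zeroLocus]; exact hq.1.2
    have hmin : ∀ r ∈ Module.support A M, r ≤ Q → r = Q := by
      intro r hr hrq
      rw [Module.support_eq_zeroLocus] at hr
      exact PrimeSpectrum.ext (le_antisymm hrq (hq.2 (show r.asIdeal.IsPrime ∧ Module.annihilator A M ≤ r.asIdeal from ⟨r.isPrime, hr⟩) hrq))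
    have hcm := Groth.Agent.PerfGen7.LocalizeDual.isCM_of_minimal M Q hqs hmin
    refine closure_mono (s := {Q}) (Set.singleton_subset_iff.2 (Set.mem_inter hcm hqs)) ?_
    exact ((PrimeSpectrum.le_iff_specializes _ _).1 (show Q ≤ p from hqp)).mem_closure

end Groth.Agent.S1716
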