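import Groth.Statements.S0372
import Groth.Agent.PerfGen7.LocalizeDual
import Groth.Agent.S1716

set_option autoImplicit false
universe u v
open CategoryTheory
attribute [local instance] HasDerivedCategory.standard
open Dual

namespace Groth.Agent.S0372

/-- If a Noetherian ring has a dualizing complex then the set of primes at which the localization is
Cohen–Macaulay is open and dense in the prime spectrum. -/
theorem result (A : Type u) [CommRing A] [IsNoetherianRing A] (ω : Dual.D A) (hω : Dual.IsDualizing A ω) : IsOpen {p : PrimeSpectrum A | LocCoh.IsCohenMacaulayLocalRing (Localization.AtPrime p.asIdeal)} ∧ Dense {p : PrimeSpectrum A | LocCoh.IsCohenMacaulayLocalRing (Localization.AtPrime p.asIdeal)} := by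
  obtain ⟨h1, h2⟩ := Groth.Agent.S1716.result A ⟨ω, hω⟩ A
  constructor
  · convert h1 using 1
    ext p
    haveI : Nontrivial (LocalizedModule p.asIdeal.primeCompl A) :=
      (Groth.Agent.LC.selfLoc p.asIdeal.primeCompl).toEquiv.nontrivial
    simp only [Set.mem_ofPred_eq, Groth.Agent.PerfGen7.LocalizeDual.isCM_localRing_iff p]
    exact (or_iff_right (not_subsingleton _)).symm
  · intro p
    have hp : p ∈ Module.support A A := by
      rw [Module.mem_support_iff]
      exact (Groth.Agent.LC.selfLoc p.asIdeal.primeCompl).toEquiv.nontrivial
    exact closure_mono (fun q hq => (Groth.Agent.PerfGen7.LocalizeDual.isCM_localRing_iff q).2 hq.1) (h2 hp)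

end Groth.Agent.S0372
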