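import Groth.Statements.S0374
import Groth.Agent.PerfGen7.LocalDualityRows
import Groth.Agent.PerfGen7.DoubleDual

set_option autoImplicit false
universe u v
open CategoryTheory
attribute [local instance] HasDerivedCategory.standard
open Dual

namespace Groth.Agent.S0374

/-- Grothendieck local duality, complete case: let A be a complete Noetherian local ring with maximal
ideal 𝔪, ω a normalized dualizing complex, and E an injective hull of the residue field. Then for
every finite A-module M and every i ≥ 0 the A-module of morphisms M → ω[−i] in D(A) is isomorphic to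
the E-dual Hom_A(H^i_𝔪(M), E) of the i-th local cohomology of M. (The published statement is for any
Noetherian local ring, with an 𝔪-adic completion on the left-hand side; for complete A and finite M
that completion changes nothing, and it is stated here for complete A.) -/
theorem result (A : Type u) [CommRing A] [IsLocalRing A] [IsNoetherianRing A] [IsAdicComplete (IsLocalRing.maximalIdeal A) A] (ω : Dual.D A) (hω : Dual.IsDualizing A ω) (hn : Dual.IsNormalized A ω) (E : Type u) [AddCommGroup E] [Module A E] (f : IsLocalRing.ResidueField A →ₗ[A] E) (hf : InjHull.IsInjectiveHull f) (M : Type u) [AddCommGroup M] [Module A M] [Module.Finite A M] (i : ℕ) : Nonempty ((Dual.inD A M ⟶ ω⟦(-(i : ℤ))⟧) ≃ₗ[A] (LocCoh.H (IsLocalRing.maximalIdeal A) i M →ₗ[A] E)) := by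
  obtain ⟨a, b, -, _, _⟩ := Groth.Agent.KFlatLib.exists_bounds_of_isDualizing hω
  haveI := Groth.Agent.KFlatLib.finite_hom_module ω a hω.finite_cohomology M (-(i : ℤ))
  obtain ⟨m, P, ⟨c⟩⟩ := Groth.Agent.PerfGen7.DoubleDual.exists_small (R := A) (Dual.inD A M ⟶ ω⟦(-(i : ℤ))⟧)
  obtain ⟨e⟩ := Groth.Agent.PerfGen7.LocalDualityD.exists_localCohomology_equiv hω hn hf (ModuleCat.of A M) i
  let e' := LinearEquiv.congrLeft E A (e.trans (LinearEquiv.congrLeft E A c))
  exact ⟨c.trans ((LinearEquiv.ofBijective _ (Groth.Agent.LC.applyₗ_bijective_of_finite hf ((Fin m → A) ⧸ P))).trans e'.symm)⟩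

end Groth.Agent.S0374
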