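import Groth.Statements.S0375
import Groth.Agent.PerfGen7.DualFinLen

set_option autoImplicit false
universe u v
open CategoryTheory
attribute [local instance] HasDerivedCategory.standard
open Dual

namespace Groth.Agent.S0375

/-- Over a Noetherian local ring of dimension 0, a normalized dualizing complex is isomorphic in D(A) to
an injective hull of the residue field placed in degree 0. -/
theorem result (A : Type u) [CommRing A] [IsLocalRing A] [IsNoetherianRing A] (h0 : ringKrullDim A = 0) (ω : Dual.D A) (hω : Dual.IsDualizing A ω) (hn : Dual.IsNormalized A ω) (E : Type u) [AddCommGroup E] [Module A E] (f : IsLocalRing.ResidueField A →ₗ[A] E) (hf : InjHull.IsInjectiveHull f) : Nonempty (ω ≅ Dual.inD A E) := by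
  haveI := Groth.Agent.KFlatLib.hasLTen A
  have hA : IsFiniteLength A A := by
    haveI : Ring.KrullDimLE 0 A := Ring.krullDimLE_iff.2 h0.le
    haveI : IsArtinianRing A := IsNoetherianRing.isArtinianRing_of_krullDimLE_zero
    rw [isFiniteLength_iff_isNoetherian_isArtinian]
    exact ⟨inferInstance, inferInstance⟩
  have hz : ∀ i : ℤ, i ≠ 0 → Subsingleton (Dual.HD A ω i) := fun i hi => by
    obtain ⟨e⟩ := Groth.Agent.KFlatLib.exists_homRingLEquiv ω i
    have := Groth.Agent.PerfGen7.DualFinLen.subsingleton_hom_finiteLength hn A hA i hi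
    exact e.toEquiv.symm.subsingleton
  obtain ⟨e0⟩ := Groth.Agent.KFlatLib.exists_homRingLEquiv ω 0
  obtain ⟨e1⟩ := Groth.Agent.PerfGen7.DualFinLen.exists_matlis hω hn E f hf A hA
  let eH : Dual.HD A ω 0 ≃ₗ[A] E :=
    (e0.symm.trans (CategoryTheory.Linear.homCongr A (CategoryTheory.Iso.refl _)
      ((CategoryTheory.shiftFunctorZero (Dual.D A) ℤ).app ω))).trans
      (e1.trans (LinearMap.ringLmapEquivSelf A A E))
  haveI : ω.IsGE 0 := (DerivedCategory.isGE_iff ω 0).2 fun i hi =>
    (ModuleCat.isZero_of_iff_subsingleton).2 (hz i (by omega))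
  haveI : ω.IsLE 0 := (DerivedCategory.isLE_iff ω 0).2 fun i hi =>
    (ModuleCat.isZero_of_iff_subsingleton).2 (hz i (by omega))
  obtain ⟨M, ⟨e⟩⟩ := DerivedCategory.exists_iso_singleFunctor_obj_of_isGE_of_isLE ω 0
  have eM : (DerivedCategory.homologyFunctor (ModuleCat.{u} A) 0).obj ω ≅ M :=
    (DerivedCategory.homologyFunctor (ModuleCat.{u} A) 0).mapIso e ≪≫
      (DerivedCategory.singleFunctorCompHomologyFunctorIso (ModuleCat.{u} A) 0).app M
  exact ⟨e ≪≫ (DerivedCategory.singleFunctor (ModuleCat.{u} A) 0).mapIso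
    (eM.symm ≪≫ (show _ ≅ ModuleCat.of A E from eH.toModuleIso))⟩

end Groth.Agent.S0375
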