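import Groth.Statements.S0405
import Groth.Agent.RGLib.Harvest

set_option autoImplicit false
universe u
open FlatMor

namespace Groth.Agent.S0405

/-- Raynaud–Gruson: over a domain R, a finite module over a finite type R-algebra S that is flat over R
is finitely presented as an S-module. -/
theorem result {R S M : Type u} [CommRing R] [IsDomain R] [CommRing S] [Algebra R S] [Algebra.FiniteType R S]
    [AddCommGroup M] [Module S M] [Module R M] [IsScalarTower R S M] [Module.Finite S M] [Module.Flat R M] :
    Module.FinitePresentation S M := by
  obtain ⟨n, f, hf, h⟩ := Groth.Agent.RGLib.finitePresentation_of_flat (S := S)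
    (Groth.Agent.RGLib.weakAss_finite_of_isDomain R) M
  let P := MvPolynomial (Fin n) R
  letI : Algebra P S := f.toRingHom.toAlgebra
  letI : Module P M := Module.compHom M f.toRingHom
  haveI : IsScalarTower P S M := IsScalarTower.of_algebraMap_smul fun _ _ => rfl
  haveI : Module.FinitePresentation P M := h
  exact Groth.Agent.RGLib.finitePresentation_of_surjective_algebraMap (P := P) hf

end Groth.Agent.S0405
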