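import Groth.Statements.S0413
import Mathlib
import Groth.Agent.SmCartier.Slice

set_option autoImplicit false
attribute [-instance] CategoryTheory.catToReflQuiver
set_option linter.style.haveILetI false
set_option backward.isDefEq.respectTransparency false
universe u
open FlatMor

namespace Groth.Agent.S0413

open AlgebraicGeometry CategoryTheory Limits in
/-- For a smooth morphism and a point that is closed in its fibre with separable residue field
extension, there is a locally closed subscheme through the point which is étale over the base and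
meets the fibre only in that point. -/
theorem result {X S : Scheme.{u}} (f : X ⟶ S) [Smooth f] (x : X)
    (hcl : IsClosed ({f.asFiber x} : Set ↑(f.fiber (f x))))
    (hsep : @Algebra.IsSeparable (S.residueField (f x)) (X.residueField x) _ _ (f.residueFieldMap x).hom.toAlgebra) :
    ∃ (Z : Scheme.{u}) (i : Z ⟶ X) (z : Z), IsImmersion i ∧ Etale (i ≫ f) ∧ i z = x ∧
      ∀ z' : ↑Z, f (i z') = f x → z' = z := by
  classical
  obtain ⟨V, hV, hxV, -⟩ := exists_isAffineOpen_mem_and_subset (X := S) (x := f x) (U := ⊤) trivial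
  obtain ⟨U, hU, hxU, hUV⟩ := exists_isAffineOpen_mem_and_subset (X := X) (x := x) (U := f ⁻¹ᵁ V) hxV
  have e : U ≤ f ⁻¹ᵁ V := hUV
  have hsm := HasRingHomProperty.appLE (P := @Smooth) f inferInstance ⟨V, hV⟩ ⟨U, hU⟩ e
  algebraize [(f.appLE V U e).hom]
  haveI : Algebra.Smooth Γ(S, V) Γ(X, U) := hsm
  let xq : Spec Γ(X, U) := hU.primeIdealOf ⟨x, hxU⟩
  let sp : Spec Γ(S, V) := hV.primeIdealOf ⟨f x, hxV⟩
  have hx : hU.fromSpec xq = x := hU.fromSpec_primeIdealOf ⟨x, hxU⟩
  have hs : hV.fromSpec sp = f x := hV.fromSpec_primeIdealOf ⟨f x, hxV⟩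
  have hsq : Spec.map (f.appLE V U e) ≫ hV.fromSpec = hU.fromSpec ≫ f := IsAffineOpen.SpecMap_appLE_fromSpec f hV hU e
  have hover : ∀ (Q : Spec Γ(X, U)), f (hU.fromSpec Q) = f x ↔ Spec.map (f.appLE V U e) Q = sp := fun Q => by
    rw [← hV.fromSpec.isOpenEmbedding.injective.eq_iff, hs, ← Scheme.Hom.comp_apply, ← Scheme.Hom.comp_apply, hsq]
  let p := sp.asIdeal
  let q := xq.asIdeal
  have hpq : p = q.comap (algebraMap Γ(S, V) Γ(X, U)) :=
    (congrArg PrimeSpectrum.asIdeal ((hover xq).1 (by rw [hx]))).symm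
  have hmax : ∀ q' : Ideal Γ(X, U), q'.IsPrime → q'.comap (algebraMap Γ(S, V) Γ(X, U)) = p → q ≤ q' → q' = q := by
    intro q' hq' hq'p hle
    let Q : Spec Γ(X, U) := ⟨q', hq'⟩
    have h1 : f (hU.fromSpec Q) = f x := (hover Q).2 (PrimeSpectrum.ext hq'p)
    have h2 : x ⤳ hU.fromSpec Q := by
      rw [← hx]
      exact ((PrimeSpectrum.le_iff_specializes xq Q).1 hle).map hU.fromSpec.continuous
    obtain ⟨w, hw⟩ : hU.fromSpec Q ∈ Set.range (f.fiberι (f x)) := by
      rw [Scheme.Hom.range_fiberι]; exact h1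
    have h3 : f.asFiber x ⤳ w := by
      refine (f.fiberι (f x)).isEmbedding.specializes_iff.1 ?_
      rw [Scheme.Hom.fiberι_asFiber, hw]; exact h2
    have h4 : w = f.asFiber x := Set.mem_singleton_iff.1 (hcl.closure_subset (specializes_iff_mem_closure.1 h3))
    have h5 : hU.fromSpec Q = x := by rw [← hw, h4, Scheme.Hom.fiberι_asFiber]
    exact congrArg PrimeSpectrum.asIdeal (hU.fromSpec.isOpenEmbedding.injective (h5.trans hx.symm))
  letI := TopCat.Presheaf.algebra_section_stalk X.presheaf (⟨x, hxU⟩ : U)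
  haveI : IsLocalization.AtPrime (X.presheaf.stalk x) q := hU.isLocalization_stalk ⟨x, hxU⟩
  letI := TopCat.Presheaf.algebra_section_stalk S.presheaf (⟨f x, hxV⟩ : V)
  haveI : IsLocalization.AtPrime (S.presheaf.stalk (f x)) p := hV.isLocalization_stalk ⟨f x, hxV⟩
  let eq := IsLocalization.algEquiv q.primeCompl (Localization.AtPrime q) (X.presheaf.stalk x)
  let ep := IsLocalization.algEquiv p.primeCompl (Localization.AtPrime p) (S.presheaf.stalk (f x))
  let eqk : q.ResidueField ≃+* X.residueField x := IsLocalRing.ResidueField.mapEquiv eq.toRingEquiv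
  let epk : p.ResidueField ≃+* S.residueField (f x) := IsLocalRing.ResidueField.mapEquiv ep.toRingEquiv
  have hsep' : letI := (Ideal.ResidueField.map p q (algebraMap Γ(S, V) Γ(X, U)) hpq).toAlgebra
      Algebra.IsSeparable p.ResidueField q.ResidueField := by
    letI := (Ideal.ResidueField.map p q (algebraMap Γ(S, V) Γ(X, U)) hpq).toAlgebra
    letI := (f.residueFieldMap x).hom.toAlgebra
    refine Algebra.IsSeparable.of_equiv_equiv epk.symm eqk.symm ?_
    apply RingHom.ext
    intro z
    obtain ⟨z, rfl⟩ := epk.surjective z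
    simp only [RingHom.comp_apply, RingEquiv.toRingHom_eq_coe, RingHom.coe_coe, RingEquiv.symm_apply_apply]
    refine eqk.injective ?_
    rw [RingEquiv.apply_symm_apply]
    refine RingHom.congr_fun (Ideal.ResidueField.ringHom_ext
      (f := eqk.toRingHom.comp (Ideal.ResidueField.map p q (algebraMap Γ(S, V) Γ(X, U)) hpq))
      (g := (f.residueFieldMap x).hom.comp epk.toRingHom) ?_) z
    ext r
    simp only [RingHom.comp_apply, RingEquiv.toRingHom_eq_coe, RingHom.coe_coe, Ideal.ResidueField.map_algebraMap]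
    show IsLocalRing.residue (X.presheaf.stalk x) (eq (algebraMap Γ(X, U) (Localization.AtPrime q) (algebraMap Γ(S, V) Γ(X, U) r))) =
      IsLocalRing.residue (X.presheaf.stalk x) ((f.stalkMap x) (ep (algebraMap Γ(S, V) (Localization.AtPrime p) r)))
    rw [AlgEquiv.commutes, AlgEquiv.commutes]
    show IsLocalRing.residue (X.presheaf.stalk x) (X.presheaf.germ U x hxU ((f.appLE V U e) r)) =
      IsLocalRing.residue (X.presheaf.stalk x) ((f.stalkMap x) (S.presheaf.germ V (f x) hxV r))
    rw [Scheme.Hom.germ_stalkMap_apply]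
    simp only [Scheme.Hom.appLE]
    rw [CommRingCat.comp_apply, TopCat.Presheaf.germ_res_apply]
  haveI : Algebra.EssFiniteType Γ(X, U) (Localization.AtPrime q) := Algebra.EssFiniteType.of_isLocalization _ q.primeCompl
  haveI : Algebra.EssFiniteType Γ(S, V) (Localization.AtPrime q) := Algebra.EssFiniteType.comp _ Γ(X, U) _
  obtain ⟨n, hn⟩ := Groth.Agent.SmCartier.GenLE.exists_of_finite Γ(S, V) (Localization.AtPrime q)
  obtain ⟨T, _, _, ψ, himm, het, Q, hQ, huniq⟩ :=
    Groth.Agent.SmCartier.exists_slice p n Γ(X, U) q hpq hmax hsep' hn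
  have hcomp : Spec.map (CommRingCat.ofHom ψ.toRingHom) ≫ hU.fromSpec ≫ f =
      Spec.map (CommRingCat.ofHom (algebraMap Γ(S, V) T)) ≫ hV.fromSpec := by
    rw [← hsq, ← Spec.map_comp_assoc]
    congr 2
    ext r
    exact ψ.commutes r
  refine ⟨Spec (CommRingCat.of T), Spec.map (CommRingCat.ofHom ψ.toRingHom) ≫ hU.fromSpec, Q, inferInstance, ?_, ?_, ?_⟩
  · rw [Category.assoc, hcomp]
    haveI : Etale (Spec.map (CommRingCat.ofHom (algebraMap Γ(S, V) T))) :=
      (HasRingHomProperty.Spec_iff (P := @Etale)).2 (RingHom.etale_algebraMap.2 het)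
    infer_instance
  · rw [Scheme.Hom.comp_apply, show Spec.map (CommRingCat.ofHom ψ.toRingHom) Q = xq from PrimeSpectrum.ext hQ]
    exact hx
  · intro z' hz'
    rw [← Scheme.Hom.comp_apply, Category.assoc, hcomp, Scheme.Hom.comp_apply, ← hs] at hz'
    exact huniq z' (congrArg PrimeSpectrum.asIdeal (hV.fromSpec.isOpenEmbedding.injective hz'))

end Groth.Agent.S0413
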