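import Groth.Statements.S0422
import Groth.Agent.RGLib.FibreCrit

set_option autoImplicit false
universe u
open FlatMor TensorProduct

namespace Groth.Agent.S0422

open TensorProduct in
/-- Fibrewise criterion of flatness modulo a locally nilpotent ideal: let R → S be of finite type, S' an
S-algebra which is of finite presentation over R, I an ideal of R all of whose elements are
nilpotent, and M a finitely presented S'-module which is flat over R and such that M/IM is flat over
S/IS. Then M is flat over S. (The published statement also asserts flatness over R of suitable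
localizations of S; that part is not stated here.) -/
theorem result {R S S' M : Type u} [CommRing R] [CommRing S] [CommRing S'] [Algebra R S] [Algebra S S'] [Algebra R S'] [IsScalarTower R S S']
    [Algebra.FiniteType R S] [Algebra.FinitePresentation R S'] (I : Ideal R) (hI : ∀ a ∈ I, IsNilpotent a)
    [AddCommGroup M] [Module S' M] [Module S M] [Module R M] [IsScalarTower S S' M] [IsScalarTower R S M]
    [Module.FinitePresentation S' M] [Module.Flat R M]
    (h : Module.Flat (S ⧸ I.map (algebraMap R S)) ((S ⧸ I.map (algebraMap R S)) ⊗[S] M)) : Module.Flat S M := by
  haveI : Algebra.FinitePresentation S S' := Algebra.FinitePresentation.of_restrict_scalars_finitePresentation R S S'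
  obtain ⟨n, φ, hφ, hker⟩ := Algebra.FinitePresentation.out (R := S) (A := S')
  let P := MvPolynomial (Fin n) S
  letI : Algebra P S' := φ.toRingHom.toAlgebra
  letI : Module P M := Module.compHom M φ.toRingHom
  haveI : IsScalarTower P S' M := ⟨fun x s m => mul_smul (φ x) s m⟩
  haveI : IsScalarTower S P M := ⟨fun r x m => by
    show φ (r • x) • m = r • φ x • m
    rw [map_smul, smul_assoc]⟩
  haveI : Module.FinitePresentation P S' :=
    Module.finitePresentation_of_surjective (Algebra.linearMap P S') hφ hker
  haveI : Module.FinitePresentation P M := Module.FinitePresentation.trans _ M S'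
  obtain ⟨k, π, hπ⟩ := Module.Finite.exists_fin' P M
  haveI : Module.Finite P (LinearMap.ker π) := Module.Finite.iff_fg.2 (Module.FinitePresentation.fg_ker π hπ)
  haveI : Module.Flat S (Fin k → P) := Module.Flat.trans S P (Fin k → P)
  refine Groth.Agent.RGLib.flat_of_fibre_flat I π hπ (fun q hq => ?_) h
  rw [Ideal.map_le_iff_le_comap]
  intro a ha
  obtain ⟨m, hm⟩ := hI a ha
  refine hq.mem_of_pow_mem m ?_
  rw [← map_pow, hm, map_zero]
  exact zero_mem _

end Groth.Agent.S0422
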