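import Groth.Statements.S0429
import Groth.Agent.RGLib.Harvest
import Mathlib.AlgebraicGeometry.Morphisms.FinitePresentation
import Mathlib.AlgebraicGeometry.Morphisms.Flat
import Mathlib.AlgebraicGeometry.Properties

set_option autoImplicit false
universe u
open FlatMor

namespace Groth.Agent.S0429

open AlgebraicGeometry CategoryTheory Limits in
/-- A flat morphism locally of finite type to an integral scheme is locally of finite presentation. -/
theorem result {X S : Scheme.{u}} (f : X ⟶ S) [IsIntegral S] [Flat f] [LocallyOfFiniteType f] : LocallyOfFinitePresentation f := by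
  rw [HasRingHomProperty.eq_affineLocally (P := @LocallyOfFinitePresentation), affineLocally_iff_affineOpens_le]
  intro U V e
  have h1 : (f.appLE U V e).hom.FiniteType := HasRingHomProperty.appLE @LocallyOfFiniteType f inferInstance U V e
  have h2 : (f.appLE U V e).hom.Flat := HasRingHomProperty.appLE @Flat f inferInstance U V e
  let φ := (f.appLE U V e).hom
  letI := φ.toAlgebra
  haveI : Algebra.FiniteType Γ(S, U.1) Γ(X, V.1) := h1
  haveI : Module.Flat Γ(S, U.1) Γ(X, V.1) := h2
  have hA : (FlatCA.weakAss Γ(S, U.1) Γ(S, U.1)).Finite := by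
    by_cases hne : Nonempty U.1
    · exact Groth.Agent.RGLib.weakAss_finite_of_isDomain _
    · haveI : Subsingleton Γ(S, U.1) := CommRingCat.subsingleton_of_isTerminal
        ((U.1.not_nonempty_iff_eq_bot.1 (by rwa [← Set.nonempty_coe_sort])) ▸ TopCat.Sheaf.isTerminalOfEmpty S.sheaf)
      exact Set.toFinite _
  obtain ⟨n, g, hg, h⟩ := Groth.Agent.RGLib.finitePresentation_of_flat (S := Γ(X, V.1)) hA Γ(X, V.1)
  let P := MvPolynomial (Fin n) Γ(S, U.1)
  letI : Module P Γ(X, V.1) := Module.compHom Γ(X, V.1) g.toRingHom
  haveI : Module.FinitePresentation P Γ(X, V.1) := h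
  let l : P →ₗ[P] Γ(X, V.1) :=
    { toFun := g
      map_add' := map_add g
      map_smul' := fun x y => map_mul g x y }
  have hk : (RingHom.ker g.toRingHom).FG := by
    have := Module.FinitePresentation.fg_ker l hg
    rwa [show LinearMap.ker l = RingHom.ker g.toRingHom from Submodule.ext fun x => Iff.rfl] at this
  show Algebra.FinitePresentation Γ(S, U.1) Γ(X, V.1)
  exact Algebra.FinitePresentation.of_surjective hg hk

end Groth.Agent.S0429
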