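import Groth.Statements.S0442
import Groth.Agent.DevExist.Scheme

set_option autoImplicit false
attribute [-instance] CategoryTheory.catToReflQuiver
set_option backward.isDefEq.respectTransparency false
universe u
open FlatMor

namespace Groth.Agent.S0442

open AlgebraicGeometry CategoryTheory Limits in
/-- Local structure of a morphism locally of finite type: let f : X → S be locally of finite type, x a
point of X, and n the local dimension at x of its fibre. Then there are an étale morphism g : X' → X
with a point x' mapping to x such that the residue field map κ(x) → κ(x') is surjective (trivial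
residue field extension), a morphism h : Y → S smooth of relative dimension n, and a finite morphism
π : X' → Y with f ∘ g = h ∘ π, such that x' is the only point of X' mapping to π(x'). The published
statement also makes the residue field of π(x') purely transcendental over that of the image of x in
S; that is not stated here. -/
theorem result {X S : Scheme.{u}} (f : X ⟶ S) [LocallyOfFiniteType f] (x : X) (n : ℕ) (hn : FlatMor.fibreDimAt f x = n) :
    ∃ (X' Y : Scheme.{u}) (g : X' ⟶ X) (π : X' ⟶ Y) (h : Y ⟶ S) (x' : X'), g ≫ f = π ≫ h ∧ Etale g ∧ g x' = x ∧
      Function.Surjective (g.residueFieldMap x') ∧ IsFinite π ∧ SmoothOfRelativeDimension n h ∧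
      ∀ z : ↑X', π z = π x' → z = x' := by
  obtain ⟨S', Y', X', e, h, π, g, s', x', -, -, -, he, hg, hcomm, hsm, -, hπ, -, hu⟩ :=
    Groth.Agent.DevExist.exists_local_structure f x n hn
  haveI := hsm
  haveI := he.etale
  refine ⟨X', Y', g, π, h ≫ e, x', hcomm, hg.etale, hg.base_eq, hg.residue_bijective.2, hπ, ?_, hu⟩
  exact (Nat.add_zero n) ▸ (inferInstance : SmoothOfRelativeDimension (n + 0) (h ≫ e))

end Groth.Agent.S0442
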