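import Groth.Statements.S0447
import Groth.Agent.ProjLocalFree.Flat

set_option autoImplicit false
attribute [-instance] CategoryTheory.catToReflQuiver
set_option backward.isDefEq.respectTransparency false
universe u
open FlatMor

namespace Groth.Agent.S0447

open AlgebraicGeometry CategoryTheory Limits in
/-- For a flat morphism of finite presentation between affine schemes whose fibres are geometrically
integral, the coordinate ring of the source is a projective module over that of the target. -/
theorem result {X S : Scheme.{u}} (f : X ⟶ S) [IsAffine X] [IsAffine S] [Flat f] [LocallyOfFinitePresentation f] [GeometricallyIntegral f] :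
    @Module.Projective Γ(S, ⊤) _ Γ(X, ⊤) _ (f.appTop).hom.toAlgebra.toModule := by
  open AlgebraicGeometry CategoryTheory Limits in
  letI : Algebra Γ(S, ⊤) Γ(X, ⊤) := (f.appTop).hom.toAlgebra
  haveI : Module.Flat Γ(S, ⊤) Γ(X, ⊤) := HasRingHomProperty.appTop @Flat f inferInstance
  haveI : Algebra.FinitePresentation Γ(S, ⊤) Γ(X, ⊤) :=
    HasRingHomProperty.appTop @LocallyOfFinitePresentation f inferInstance
  have h : FlatCA.GeomIntegralFibres Γ(S, ⊤) Γ(X, ⊤) :=
    (MorphismProperty.arrow_mk_iso_iff @GeometricallyIntegral (arrowIsoSpecΓOfIsAffine f)).1 ‹_›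
  exact Groth.Agent.ProjLocalFree.projective_of_geomIntegral h

end Groth.Agent.S0447
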