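import Groth.Statements.S0451
import Groth.Agent.RGLib.Dense
import Mathlib.AlgebraicGeometry.Morphisms.FinitePresentation
import Mathlib.AlgebraicGeometry.Morphisms.Flat
import Mathlib.AlgebraicGeometry.Morphisms.SchemeTheoreticallyDominant

set_option autoImplicit false
universe u
open FlatMor

namespace Groth.Agent.S0451

open AlgebraicGeometry CategoryTheory Limits in
/-- A flat morphism locally of finite type which is locally of finite presentation over a quasi-compact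
scheme-theoretically dense open of the target is locally of finite presentation. -/
theorem result {X S : Scheme.{u}} (f : X ⟶ S) [LocallyOfFiniteType f] [Flat f] (U : S.Opens)
    [QuasiCompact U.ι] [IsSchemeTheoreticallyDominant U.ι] [LocallyOfFinitePresentation (f ∣_ U)] : LocallyOfFinitePresentation f := by
  classical
  rw [HasRingHomProperty.eq_affineLocally (P := @LocallyOfFinitePresentation), affineLocally_iff_affineOpens_le]
  intro U' V e
  let φ := (f.appLE U'.1 V.1 e).hom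
  letI := φ.toAlgebra
  haveI : Algebra.FiniteType Γ(S, U'.1) Γ(X, V.1) :=
    (HasRingHomProperty.appLE @LocallyOfFiniteType f inferInstance U' V e : (f.appLE U'.1 V.1 e).hom.FiniteType)
  haveI : Module.Flat Γ(S, U'.1) Γ(X, V.1) :=
    (HasRingHomProperty.appLE @Flat f inferInstance U' V e : (f.appLE U'.1 V.1 e).hom.Flat)
  -- the trace of `U` is a finite union of basic opens
  have hK : IsCompact (((U.ι ''ᵁ (U.ι ⁻¹ᵁ U'.1) : S.Opens)) : Set S) :=
    (U.ι.isCompact_preimage U'.2.isCompact).image U.ι.continuous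
  have hx : ∀ x : (U.ι ''ᵁ (U.ι ⁻¹ᵁ U'.1) : S.Opens), ∃ g : Γ(S, U'.1), S.basicOpen g ≤ U ∧ x.1 ∈ S.basicOpen g := by
    rintro ⟨_, ⟨y, hy, rfl⟩⟩
    exact U'.2.exists_basicOpen_le ⟨_, y.2⟩ hy
  choose g hgU hgx using hx
  obtain ⟨T, hT⟩ := hK.elim_finite_subcover (fun x => (S.basicOpen (g x) : Set S)) (fun x => (S.basicOpen (g x)).2)
    (fun x hx => Set.mem_iUnion.2 ⟨⟨x, hx⟩, hgx ⟨x, hx⟩⟩)
  show Algebra.FinitePresentation Γ(S, U'.1) Γ(X, V.1)
  refine Groth.Agent.RGLib.algebra_finitePresentation_of_flat_of_dense (A := Γ(S, U'.1)) (B := Γ(X, V.1))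
    (fun i : (T : Set _) => g i.1) (fun x hx => ?_) (fun i => ?_)
  · refine U.ι.app_injective U'.1 ?_
    rw [map_zero, Scheme.Opens.ι_app]
    have hle : (U.ι ''ᵁ (U.ι ⁻¹ᵁ U'.1) : S.Opens) ≤ U'.1 := by
      rintro z ⟨y, hy, rfl⟩
      exact hy
    have key : S.presheaf.map (homOfLE hle).op x = 0 := by
      refine S.IsSheaf.section_ext fun z hz => ?_
      obtain ⟨i, hi⟩ := Set.mem_iUnion.1 (hT hz)
      obtain ⟨hiT, hzi⟩ := Set.mem_iUnion.1 hi
      have hb : S.basicOpen (g i) ≤ U'.1 := S.basicOpen_le _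
      have hb' : S.basicOpen (g i) ≤ (U.ι ''ᵁ (U.ι ⁻¹ᵁ U'.1) : S.Opens) := fun w hw =>
        ⟨⟨w, hgU i hw⟩, hb hw, rfl⟩
      refine ⟨S.basicOpen (g i), hb', hzi, ?_⟩
      haveI := U'.2.isLocalization_basicOpen (g i)
      obtain ⟨k, hk⟩ := hx ⟨i, hiT⟩
      have h0 : algebraMap Γ(S, U'.1) Γ(S, S.basicOpen (g i)) x = 0 :=
        (IsLocalization.map_eq_zero_iff (Submonoid.powers (g i)) _ x).2 ⟨⟨_, k, rfl⟩, hk⟩
      rw [map_zero, ← CommRingCat.comp_apply, ← Functor.map_comp]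
      exact h0
    exact key
  · let D := S.basicOpen (g i.1)
    let t : Γ(X, V.1) := φ (g i.1)
    have hDU : D ≤ U := hgU i.1
    have hVD : X.basicOpen t ≤ f ⁻¹ᵁ D := by
      show X.basicOpen (f.appLE U'.1 V.1 e (g i.1)) ≤ _
      rw [Scheme.basicOpen_appLE]
      exact inf_le_right
    haveI := U'.2.isLocalization_basicOpen (g i.1)
    haveI : IsLocalization.Away (algebraMap Γ(S, U'.1) Γ(X, V.1) (g i.1)) Γ(X, X.basicOpen t) :=
      V.2.isLocalization_basicOpen t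
    have h1 : (f.appLE D (X.basicOpen t) hVD).hom.FinitePresentation := by
      have hD : U.ι ''ᵁ (U.ι ⁻¹ᵁ D) = D := by
        rw [Scheme.Hom.image_preimage_eq_opensRange_inf, Scheme.Opens.opensRange_ι]
        exact inf_eq_right.2 hDU
      have hV : (f ⁻¹ᵁ U).ι ''ᵁ ((f ⁻¹ᵁ U).ι ⁻¹ᵁ X.basicOpen t) = X.basicOpen t := by
        rw [Scheme.Hom.image_preimage_eq_opensRange_inf, Scheme.Opens.opensRange_ι]
        exact inf_eq_right.2 (hVD.trans (Scheme.Hom.preimage_mono _ hDU))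
      have e' : (f ⁻¹ᵁ U).ι ⁻¹ᵁ X.basicOpen t ≤ (f ∣_ U) ⁻¹ᵁ (U.ι ⁻¹ᵁ D) := fun y hy => by
        show U.ι ((f ∣_ U) y) ∈ D
        rw [← Scheme.Hom.comp_apply, morphismRestrict_ι, Scheme.Hom.comp_apply]
        exact hVD hy
      have hDa : IsAffineOpen (U.ι ⁻¹ᵁ D) := U.ι.isAffineOpen_iff_of_isOpenImmersion.1 (by rw [hD]; exact U'.2.basicOpen _)
      have hVa : IsAffineOpen ((f ⁻¹ᵁ U).ι ⁻¹ᵁ X.basicOpen t) :=
        (f ⁻¹ᵁ U).ι.isAffineOpen_iff_of_isOpenImmersion.1 (by rw [hV]; exact V.2.basicOpen _)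
      have h := HasRingHomProperty.appLE @LocallyOfFinitePresentation (f ∣_ U) inferInstance ⟨_, hDa⟩ ⟨_, hVa⟩ e'
      rw [morphismRestrict_appLE] at h
      have hgen : ∀ (D₁ : S.Opens) (V₁ : X.Opens) (e₁ : V₁ ≤ f ⁻¹ᵁ D₁), D₁ = D → V₁ = X.basicOpen t →
          (f.appLE D₁ V₁ e₁).hom.FinitePresentation → (f.appLE D (X.basicOpen t) hVD).hom.FinitePresentation := by
        intro D₁ V₁ e₁ hD₁ hV₁ h₁
        subst hD₁ hV₁
        exact h₁
      exact hgen _ _ _ hD hV h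
    have h2 : (algebraMap Γ(S, U'.1) Γ(S, D)).FinitePresentation :=
      RingHom.finitePresentation_algebraMap.2 (IsLocalization.Away.finitePresentation (g i.1))
    have hcomm : (f.appLE D (X.basicOpen t) hVD).hom.comp (algebraMap Γ(S, U'.1) Γ(S, D)) =
        (algebraMap Γ(X, V.1) Γ(X, X.basicOpen t)).comp φ := by
      show (S.presheaf.map (homOfLE (S.basicOpen_le (g i.1))).op ≫ f.appLE D (X.basicOpen t) hVD).hom =
        (f.appLE U'.1 V.1 e ≫ X.presheaf.map (homOfLE (X.basicOpen_le t)).op).hom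
      rw [Scheme.Hom.map_appLE, Scheme.Hom.appLE_map]
    have h3 := h1.comp h2
    rw [hcomm] at h3
    letI : Algebra Γ(S, U'.1) Γ(X, X.basicOpen t) := ((algebraMap Γ(X, V.1) Γ(X, X.basicOpen t)).comp φ).toAlgebra
    haveI : IsScalarTower Γ(S, U'.1) Γ(X, V.1) Γ(X, X.basicOpen t) := IsScalarTower.of_algebraMap_eq fun _ => rfl
    haveI : Algebra.FinitePresentation Γ(S, U'.1) Γ(X, X.basicOpen t) := h3
    exact Algebra.FinitePresentation.equiv
      (((IsLocalization.algEquiv (Submonoid.powers (algebraMap Γ(S, U'.1) Γ(X, V.1) (g i.1))) Γ(X, X.basicOpen t)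
        (Localization.Away (algebraMap Γ(S, U'.1) Γ(X, V.1) (g i.1)))).restrictScalars Γ(S, U'.1)))

end Groth.Agent.S0451
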