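import Groth.Statements.S0449
import Groth.Agent.S0451
import Mathlib.AlgebraicGeometry.Morphisms.SchemeTheoreticallyDominant
import Mathlib.AlgebraicGeometry.Morphisms.FlatMono
import Mathlib.AlgebraicGeometry.Morphisms.ClosedImmersion

set_option autoImplicit false
universe u
open FlatMor

namespace Groth.Agent.S0449

open AlgebraicGeometry CategoryTheory Limits in
/-- A separated, flat morphism locally of finite type that is an isomorphism over a quasi-compact,
scheme-theoretically dense open of the target is an open immersion. -/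
theorem result {X S : Scheme.{u}} (f : X ⟶ S) [IsSeparated f] [LocallyOfFiniteType f] [Flat f] (U : S.Opens)
    [QuasiCompact U.ι] [IsSchemeTheoreticallyDominant U.ι] [IsIso (f ∣_ U)] : IsOpenImmersion f := by
  haveI : LocallyOfFinitePresentation f := Groth.Agent.S0451.result f U
  let g : pullback f f ⟶ S := pullback.fst f f ≫ f
  have hpb := isPullback_morphismRestrict g U
  haveI : IsSchemeTheoreticallyDominant (g ⁻¹ᵁ U).ι :=
    IsSchemeTheoreticallyDominant.of_isPullback hpb
  have hsnd : pullback.snd f f ≫ f = g := pullback.condition.symm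
  -- both projections agree over `U`
  have key : ∀ a b : ((g ⁻¹ᵁ U : (pullback f f).Opens) : Scheme.{u}) ⟶ X,
      a ≫ f = (g ⁻¹ᵁ U).ι ≫ g → b ≫ f = (g ⁻¹ᵁ U).ι ≫ g → a = b := by
    intro a b ha hb
    have hin : ∀ c : ((g ⁻¹ᵁ U : (pullback f f).Opens) : Scheme.{u}) ⟶ X, c ≫ f = (g ⁻¹ᵁ U).ι ≫ g →
        Set.range c ⊆ Set.range (f ⁻¹ᵁ U).ι := by
      rintro c hc _ ⟨z, rfl⟩
      rw [Scheme.Opens.range_ι]
      show f (c z) ∈ U
      rw [← Scheme.Hom.comp_apply, hc]
      exact z.2
    rw [← IsOpenImmersion.lift_fac (f ⁻¹ᵁ U).ι a (hin a ha), ← IsOpenImmersion.lift_fac (f ⁻¹ᵁ U).ι b (hin b hb)]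
    congr 1
    rw [← cancel_mono (f ∣_ U), ← cancel_mono U.ι, Category.assoc, Category.assoc, morphismRestrict_ι,
      IsOpenImmersion.lift_fac_assoc, IsOpenImmersion.lift_fac_assoc, ha, hb]
  have hfac : ((g ⁻¹ᵁ U).ι ≫ pullback.fst f f) ≫ pullback.diagonal f = (g ⁻¹ᵁ U).ι := by
    apply pullback.hom_ext
    · rw [Category.assoc, pullback.diagonal_fst, Category.comp_id]
    · rw [Category.assoc, pullback.diagonal_snd, Category.comp_id]
      exact key _ _ (Category.assoc _ _ _) (by rw [Category.assoc, hsnd])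
  haveI : IsClosedImmersion (pullback.diagonal f) := inferInstance
  haveI : IsIso (pullback.diagonal f) := IsClosedImmersion.isIso_iff_ker_eq_bot.mpr <| le_bot_iff.mp <| by
    rw [← (g ⁻¹ᵁ U).ι.ker_eq_bot]
    calc (pullback.diagonal f).ker ≤ (((g ⁻¹ᵁ U).ι ≫ pullback.fst f f) ≫ pullback.diagonal f).ker :=
        Scheme.Hom.le_ker_comp _ _
      _ = (g ⁻¹ᵁ U).ι.ker := by rw [hfac]
  haveI : Mono f := (pullback.isIso_diagonal_iff f).mp inferInstance
  exact IsOpenImmersion.of_flat_of_mono f

end Groth.Agent.S0449
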