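import Groth.Statements.S0471
import Groth.Agent.SoftTop.Soft

set_option autoImplicit false
universe u
open CategoryTheory
open CohTop Opposite TopologicalSpace

namespace Groth.Agent.S0471

/-- If X is profinite (compact, Hausdorff, totally disconnected), then H^(p+1)(X, F) = 0 for every
abelian sheaf F. -/
theorem result {X : TopCat.{u}} [CompactSpace X] [T2Space X] [TotallyDisconnectedSpace X]
    (F : CohTop.Ab X) (p : ℕ) : Subsingleton (CohTop.H F (p + 1)) := by
  refine SoftTop.subsingleton_H_of_isSoft F (fun A hA U hAU s => ?_) p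
  haveI : CompactSpace A := isCompact_iff_compactSpace.mp hA.isCompact
  obtain ⟨C, hC, hAC, hCU⟩ := exists_clopen_of_closed_subset_open hA U.isOpen hAU
  let C₁ : Opens X := ⟨C, hC.isOpen⟩
  let C₂ : Opens X := ⟨Cᶜ, hC.compl.isOpen⟩
  obtain ⟨S, hS, -⟩ := SoftTop.glue₂ F (F.obj.map (homOfLE (show C₁ ≤ U from hCU)).op s)
    (0 : F.obj.obj (op C₂)) (fun x h₁ h₂ => absurd h₁ h₂)
  refine ⟨F.obj.map (homOfLE (show (⊤ : Opens X) ≤ C₁ ⊔ C₂ from fun x _ => (em (x ∈ C)).elim Or.inl Or.inr)).op S,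
    fun z hz => ?_⟩
  rw [TopCat.Presheaf.germ_res_apply, hS z (hAC hz), TopCat.Presheaf.germ_res_apply]

end Groth.Agent.S0471
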