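import Groth.Statements.S0645
import Groth.Agent.EtPBCq.FieldStep
import Groth.Agent.EtPBCq.InjAcyclic
import Groth.Agent.PnCoh.Chow.Proper

set_option autoImplicit false
open CategoryTheory CategoryTheory.Limits AlgebraicGeometry Opposite
universe u
open EtCore

set_option backward.isDefEq.respectTransparency false
set_option backward.isDefEq.respectTransparency.types false
set_option maxHeartbeats 1000000

namespace Groth.Agent.S0645

/-- Let A be a henselian local ring, X the projective line over A, X_0 its closed fibre (base change to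
the residue field) and ℓ a prime. Let I be an abelian sheaf on the small etale site of X killed by ℓ
which is injective in the full subcategory of sheaves killed by ℓ (an injective sheaf of
Z/ℓ-modules). Then the pullback of I to X_0 has vanishing etale cohomology in positive degrees. -/
theorem result (A : Type u) [CommRing A] [HenselianLocalRing A]
    (ℓ : ℕ) [Fact ℓ.Prime] (I : EtCoh.Ab (CohB1.ProjSpace 1 A)) (hI : EtCoh.KilledBy ℓ I)
    (hinj : Injective (ObjectProperty.FullSubcategory.mk (P := fun F : EtCoh.Ab (CohB1.ProjSpace 1 A) => EtCoh.KilledBy ℓ F) I hI))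
    (q : ℕ) (hq : 1 ≤ q) :
    Subsingleton (EtCoh.H (pullback (CohB1.ProjSpace.toSpec 1 A) (Spec.map (CommRingCat.ofHom (IsLocalRing.residue A))))
      ((EtCoh.pull (pullback.fst (CohB1.ProjSpace.toSpec 1 A)
        (Spec.map (CommRingCat.ofHom (IsLocalRing.residue A))))).obj I) q) := by
  haveI : IsProper (CohB1.ProjSpace.toSpec 1 A) := Groth.Agent.PnCoh.Chow.isProper_toSpec 1 A
  haveI : HenselianRing A (IsLocalRing.maximalIdeal A) :=
    (Groth.Agent.Hensel.henselianRing_maximalIdeal_iff A).mpr inferInstance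
  obtain ⟨⟨J, _, ι, _⟩⟩ := EnoughInjectives.presentation I
  have hℓ : 0 < ℓ := (Fact.out : ℓ.Prime).pos
  have hzero : ℓ • 𝟙 I = 0 := (Groth.Agent.EtFound.killedBy_iff_nsmul ℓ I).1 hI
  let j : I ⟶ kernel (ℓ • 𝟙 J) := kernel.lift _ ι (by
    rw [Preadditive.comp_nsmul, Category.comp_id, ← Category.id_comp ι, ← Preadditive.nsmul_comp, hzero, zero_comp])
  haveI : Mono (j ≫ kernel.ι (ℓ • 𝟙 J)) := by rw [kernel.lift_ι]; infer_instance
  haveI : Mono j := mono_of_mono j (kernel.ι (ℓ • 𝟙 J))
  have hK : EtCoh.KilledBy ℓ (kernel (ℓ • 𝟙 J)) := (Groth.Agent.EtFound.killedBy_iff_nsmul ℓ _).2 (by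
    rw [← cancel_mono (kernel.ι (ℓ • 𝟙 J)), zero_comp, Preadditive.nsmul_comp, Category.id_comp]
    have := kernel.condition (ℓ • 𝟙 J)
    rwa [Preadditive.comp_nsmul, Category.comp_id] at this)
  let P := fun F : EtCoh.Ab (CohB1.ProjSpace 1 A) => EtCoh.KilledBy ℓ F
  let jP : (ObjectProperty.FullSubcategory.mk (P := P) I hI) ⟶ (ObjectProperty.FullSubcategory.mk (P := P) _ hK) :=
    ObjectProperty.homMk j
  haveI : Mono jP := (ObjectProperty.ι P).mono_of_mono_map (show Mono j from inferInstance)
  obtain ⟨b, hb⟩ := hinj.factors (𝟙 _) jP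
  have hb' : j ≫ b.hom = 𝟙 I := congrArg InducedCategory.Hom.hom hb
  obtain ⟨p, rfl⟩ := Nat.exists_eq_add_of_le hq
  rw [add_comm 1 p]
  have hz := Groth.Agent.EtPBCq.isZero_closedH_kernel (IsLocalRing.maximalIdeal A) (CohB1.ProjSpace.toSpec 1 A) hℓ J p
  let H := Groth.Agent.EtPBCq.closedH (IsLocalRing.maximalIdeal A) (CohB1.ProjSpace.toSpec 1 A) (p + 1)
  exact AddCommGrpCat.subsingleton_of_isZero (show IsZero (H.obj I) by
    rw [IsZero.iff_id_eq_zero, ← CategoryTheory.Functor.map_id, ← hb', Functor.map_comp, hz.eq_of_tgt (H.map j) 0, zero_comp])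

end Groth.Agent.S0645
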