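import Groth.Statements.S0668
import Groth.Agent.EtLamFin.Main
-- import your own Groth.Agent.* helpers here

set_option autoImplicit false
open CategoryTheory CategoryTheory.Limits AlgebraicGeometry Opposite
universe u
open EtCore

set_option linter.style.haveILetI false
set_option backward.isDefEq.respectTransparency false
set_option backward.isDefEq.respectTransparency.types false

namespace Groth.Agent.S0668

/-- Let Λ be a Noetherian ring, k an algebraically closed field, X separated and of finite type over k
with dimension at most 1, and L a constructible etale sheaf of Λ-modules on X whose underlying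
abelian sheaf is torsion of orders invertible in k. Then for every q the Λ-module H^q(X, L) is
finitely generated. (Sheaves of Λ-modules are modelled as abelian sheaves with a Λ-action by
endomorphisms; H^q carries the induced module structure.) -/
theorem result (Λ : Type) [CommRing Λ] [IsNoetherianRing Λ]
    (k : Type u) [Field k] [IsAlgClosed k] (X : Scheme.{u})
    (f : X ⟶ Spec (CommRingCat.of k)) [IsSeparated f] [LocallyOfFiniteType f] [QuasiCompact f]
    (hdim : topologicalKrullDim X ≤ 1) (L : EtLam.Sheaf Λ X) (hL : EtLam.IsConstructible L)
    (hLt : EtCoh.IsTorsion L.carrier) (hLp : EtPBC.IsTorsionInvertibleOn (Spec (CommRingCat.of k)) L.carrier) (q : ℕ) :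
    Module.Finite Λ (EtCoh.H X L.carrier q) := by
  haveI : IsLocallyNoetherian X := LocallyOfFiniteType.isLocallyNoetherian f
  haveI : CompactSpace X := QuasiCompact.compactSpace_of_compactSpace f
  haveI : AlgebraicGeometry.IsNoetherian X := {}
  obtain ⟨n, hn0, hnk, hn⟩ := Groth.Agent.EtLamFin.exists_killed_invertible k
    (Groth.Agent.EtLamFin.exists_killed L hL hLt) hLp
  exact Groth.Agent.EtLamFin.finite_lam k f hdim L (Groth.Agent.EtLamFin.isConstructible_toMod L hL) hn0
    (Or.inl hnk) hn q

end Groth.Agent.S0668
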