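import Groth.Statements.S0684
import Groth.Agent.ShriekLib.LqfExact

set_option autoImplicit false
open CategoryTheory CategoryTheory.Limits AlgebraicGeometry Opposite
universe u
open EtShriek

namespace Groth.Agent.S0684

/-- For f : X -> Y separated and locally quasi-finite, the functor f_! on abelian etale sheaves is exact
(preserves finite limits and finite colimits). -/
theorem result {X Y : Scheme.{u}} (f : X ⟶ Y) [IsSeparated f]
    [LocallyOfFiniteType f] [LocallyQuasiFinite f] :
    PreservesFiniteLimits (EtShriek.lowerShriek f) ∧
      PreservesFiniteColimits (EtShriek.lowerShriek f) := by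
  have := ShriekLib.shriekSh_preservesFiniteLimits f
  have := ShriekLib.shriekSh_preservesFiniteColimits f
  exact ⟨preservesFiniteLimits_of_natIso (ShriekLib.shriekShIso f),
    preservesFiniteColimits_of_natIso (ShriekLib.shriekShIso f)⟩

end Groth.Agent.S0684
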