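import Groth.Statements.S0691
import Groth.Agent.EtPBCq.ShriekPush
import Groth.Agent.S0685

set_option autoImplicit false
open CategoryTheory CategoryTheory.Limits AlgebraicGeometry Opposite
universe u
open EtShriek

set_option backward.isDefEq.respectTransparency false
set_option backward.isDefEq.respectTransparency.types false
set_option maxHeartbeats 1000000

namespace Groth.Agent.S0691

/-- Let f : X → Y and g : X → Z be morphisms which are separated, locally of finite type and locally
quasi-finite, and h : Y → Z a proper morphism with g = h ∘ f. Then for every torsion abelian sheaf F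
on X_ét the direct image with proper support g_!F is isomorphic to h_*(f_!F), and R^q h_*(f_!F) = 0
for every q > 0. (This is the case of a single torsion sheaf placed in degree 0, read on cohomology
sheaves, of a published statement about complexes; only the existence of an isomorphism is asserted,
where the published one is canonical.) -/
theorem result {X Y Z : Scheme.{u}} (f : X ⟶ Y) (h : Y ⟶ Z) (g : X ⟶ Z)
    (w : g = f ≫ h) [IsSeparated f] [LocallyOfFiniteType f] [LocallyQuasiFinite f] [IsSeparated g] [LocallyOfFiniteType g] [LocallyQuasiFinite g]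
    [IsProper h] (F : EtCoh.Ab X) (hF : EtCoh.IsTorsion F) :
    Nonempty ((EtShriek.lowerShriek g).obj F ≅ (EtCoh.push h).obj ((EtShriek.lowerShriek f).obj F)) ∧
      ∀ q : ℕ, 0 < q → IsZero ((EtCoh.Rpush h q).obj ((EtShriek.lowerShriek f).obj F)) := by
  haveI := fun G => ShriekLib.isIso_shriekShι_of_isProper h G
  subst w
  obtain ⟨e⟩ := Groth.Agent.S0685.result f h
  let eh : EtShriek.lowerShriek h ≅ EtCoh.push h :=
    (ShriekLib.shriekShIso h).symm ≪≫ NatIso.ofComponents (fun G => @asIso _ _ _ _ ((ShriekLib.shriekShι h).app G) (this G))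
      (fun a => (ShriekLib.shriekShι h).naturality a)
  refine ⟨⟨(e ≪≫ Functor.isoWhiskerLeft _ eh).app F⟩, fun q hq => ?_⟩
  obtain ⟨n, rfl⟩ := Nat.exists_eq_add_of_le hq
  rw [Nat.add_comm]
  exact (Groth.Agent.EtPBCq.isZero_Rpush_shriekSh f h (f ≫ h) rfl hF n).of_iso
    ((EtCoh.Rpush h (n + 1)).mapIso ((ShriekLib.shriekShIso f).app F).symm)

end Groth.Agent.S0691
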