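import Groth.Statements.S0770
import Groth.Agent.EtPBCq.Amplitude
import Groth.Agent.EtPBCq.ShriekCd
import Groth.Agent.EtPBCq.RpushSingle

set_option autoImplicit false
set_option linter.style.haveILetI false
open CategoryTheory CategoryTheory.Limits AlgebraicGeometry Opposite
universe u
attribute [local instance] HasDerivedCategory.standard
open EtRest

set_option backward.isDefEq.respectTransparency false
set_option backward.isDefEq.respectTransparency.types false
set_option maxHeartbeats 1000000

namespace Groth.Agent.S0770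

/-- Let f : X -> Y be separated of finite type with X, Y quasi-compact quasi-separated and c a
compactification. There is an integer N such that for every bounded below E in D(X_et) with torsion
cohomology sheaves whose cohomology sheaves vanish outside [a, b], the cohomology sheaves of Rf_! E
(computed through c) vanish outside [a, b + N]. (The left exactness of j_! and the existence of the
unbounded derived direct image along the compactification are assumed as hypotheses.) -/
theorem result {X Y : Scheme.{u}} [CompactSpace ↥X] [QuasiSeparatedSpace ↥X] [CompactSpace ↥Y] [QuasiSeparatedSpace ↥Y]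
    (f : X ⟶ Y) [IsSeparated f] [LocallyOfFiniteType f] [QuasiCompact f] (c : DEt.Compactification f)
    [PreservesFiniteLimits (EtShriek.extZero c.j)] [DCoh.HasRpushEt c.Xbar c.fbar] :
    ∃ N : ℕ, ∀ (E : DCoh.DEt X), (∀ n : ℤ, EtCoh.IsTorsion (DCoh.HDEt E n)) → ∀ a b : ℤ,
      (∀ i : ℤ, i < a ∨ b < i → IsZero (DCoh.HDEt E i)) →
        ∀ i : ℤ, i < a ∨ b + N < i → IsZero (DCoh.HDEt ((DEt.Rshriek c).obj E) i) := by
  obtain ⟨d, hd⟩ := Groth.Agent.EtPBCq.exists_forall_fiber_dim_le f
  haveI : IsOpenImmersion c.j := c.isOpenImmersion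
  haveI : IsProper c.fbar := c.isProper
  obtain ⟨G, _, _, ⟨e⟩⟩ := Groth.Agent.EtPBCq.exists_triangulated_iso c.j c.fbar
  refine ⟨2 * d, fun E hE a b hab i hi => ?_⟩
  let P : ObjectProperty (EtCoh.Ab X) := fun F => EtCoh.IsTorsion F
  haveI : P.IsClosedUnderIsomorphisms := ⟨fun {F F'} g h => Groth.Agent.CurveCd.isTorsion_of_mono g.inv h⟩
  refine IsZero.of_iso ?_ ((DerivedCategory.homologyFunctor (EtCoh.Ab Y) i).mapIso (e.app E).symm)
  refine Groth.Agent.EtPBCq.isZero_homology_obj_of_amplitude G P
    (fun Z hZ => Groth.Agent.GalTorLib.isTorsion_of_nsmul_id Z 1 one_pos (hZ.eq_of_src _ _)) (2 * d) ?_ (b - a).toNat E a b (by omega)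
    ((DerivedCategory.isGE_iff E a).2 fun j hj => hab j (Or.inl hj))
    ((DerivedCategory.isLE_iff E b).2 fun j hj => hab j (Or.inr hj)) hE i hi
  intro F hF n hn
  refine IsZero.of_iso ?_ ((DerivedCategory.homologyFunctor (EtCoh.Ab Y) n).mapIso (e.app _ ≪≫
    (DCoh.RpushEt c.Xbar c.fbar).mapIso (((EtShriek.extZero c.j).mapDerivedCategorySingleFunctor 0).app F)))
  rcases hn with hn | hn
  · exact Groth.Agent.EtPBCq.isZero_HDEt_RpushEt_single c.fbar _ hn
  · obtain ⟨q, rfl⟩ : ∃ q : ℕ, n = (q : ℤ) := ⟨n.toNat, by omega⟩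
    obtain ⟨e₁⟩ := Groth.Agent.EtPBCq.nonempty_HDEt_RpushEt_single c.fbar ((EtShriek.extZero c.j).obj F) q
    exact (Groth.Agent.EtPBCq.isZero_Rpush_extZero c.j c.fbar d (by rw [c.fac]; exact hd) F hF q (by omega)).of_iso e₁

end Groth.Agent.S0770
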