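import Groth.Statements.S0772
import Groth.Agent.EtPBCq.RpushSingle
import Groth.Agent.EtPBCq.ShriekPush
import Groth.Agent.S0686

set_option autoImplicit false
open CategoryTheory CategoryTheory.Limits AlgebraicGeometry Opposite
universe u
attribute [local instance] HasDerivedCategory.standard
open EtRest

set_option backward.isDefEq.respectTransparency false
set_option backward.isDefEq.respectTransparency.types false
set_option maxHeartbeats 1000000

attribute [local instance] HasDerivedCategory.standard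

namespace Groth.Agent.S0772

/-- On a torsion abelian sheaf F in degree 0: let f : X -> Y be quasi-finite and separated with X, Y
quasi-compact quasi-separated and c a compactification. Then the degree-0 cohomology sheaf of Rf_! F
(computed through c) is isomorphic to f_! F (sections with proper support) and the other cohomology
sheaves vanish. (The left exactness of j_! and the existence of the unbounded derived direct image
along the compactification are assumed as hypotheses.) -/
theorem result {X Y : Scheme.{u}} [CompactSpace ↥X] [QuasiSeparatedSpace ↥X] [CompactSpace ↥Y] [QuasiSeparatedSpace ↥Y]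
    (f : X ⟶ Y) [IsSeparated f] [LocallyOfFiniteType f] [LocallyQuasiFinite f] [QuasiCompact f] (c : DEt.Compactification f)
    [PreservesFiniteLimits (EtShriek.extZero c.j)] [DCoh.HasRpushEt c.Xbar c.fbar]
    (F : EtCoh.Ab X) (hF : EtCoh.IsTorsion F) :
    Nonempty (DCoh.HDEt ((DEt.Rshriek c).obj ((DerivedCategory.singleFunctor (EtCoh.Ab X) 0).obj F)) 0 ≅
      (EtShriek.lowerShriek f).obj F) ∧
    ∀ n : ℤ, n ≠ 0 → IsZero (DCoh.HDEt ((DEt.Rshriek c).obj ((DerivedCategory.singleFunctor (EtCoh.Ab X) 0).obj F)) n) := by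
  obtain ⟨e⟩ := ShriekLib.nonempty_extZero_iso_lowerShriek c.j
  let e' : (EtShriek.extZero c.j).obj F ≅ (ShriekLib.shriekSh c.j).obj F :=
    (e ≪≫ (ShriekLib.shriekShIso c.j).symm).app F
  haveI : LocallyQuasiFinite (c.j ≫ c.fbar) := by rw [c.fac]; infer_instance
  let eK := (DCoh.RpushEt c.Xbar c.fbar).mapIso (((EtShriek.extZero c.j).mapDerivedCategorySingleFunctor 0).app F)
  let eH := fun n : ℤ => (DerivedCategory.homologyFunctor (EtCoh.Ab Y) n).mapIso eK
  obtain ⟨e₂⟩ := Groth.Agent.S0686.result c.j c.fbar f c.fac.symm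
  refine ⟨?_, fun n hn => ?_⟩
  · obtain ⟨e₁⟩ := Groth.Agent.EtPBCq.nonempty_HDEt_RpushEt_single c.fbar ((EtShriek.extZero c.j).obj F) 0
    exact ⟨eH 0 ≪≫ e₁ ≪≫ (EtCoh.push c.fbar).rightDerivedZeroIsoSelf.app _ ≪≫ (e₂.app F).symm⟩
  · refine IsZero.of_iso ?_ (eH n)
    rcases lt_or_gt_of_ne hn with h | h
    · exact Groth.Agent.EtPBCq.isZero_HDEt_RpushEt_single c.fbar _ h
    · obtain ⟨q, rfl⟩ : ∃ q : ℕ, n = ((q + 1 : ℕ) : ℤ) := ⟨(n - 1).toNat, by omega⟩
      obtain ⟨e₁⟩ := Groth.Agent.EtPBCq.nonempty_HDEt_RpushEt_single c.fbar ((EtShriek.extZero c.j).obj F) (q + 1)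
      exact ((Groth.Agent.EtPBCq.isZero_Rpush_shriekSh c.j c.fbar (c.j ≫ c.fbar) rfl hF q).of_iso
        ((EtCoh.Rpush c.fbar (q + 1)).mapIso e')).of_iso e₁

end Groth.Agent.S0772
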