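import Groth.Statements.S0777
import Groth.Agent.ProEtLib.DCLambda
import Groth.Agent.ProEtLib.DCGen
-- import your own Groth.Agent.* helpers here

set_option autoImplicit false
open CategoryTheory CategoryTheory.Limits AlgebraicGeometry Opposite
universe u
open ProEtDC

set_option backward.isDefEq.respectTransparency false

namespace Groth.Agent.S0777

open Groth.Agent.ProEtLib Groth.Agent.ProEtLib.DC

variable {Λ : Type (u + 1)} [CommRing Λ] {X : Scheme.{u}}

/-- A map hitting generating sections is an epimorphism. -/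
lemma epi_of_generators {P Q : EtModW.ModP Λ X} (Φ : P ⟶ Q) {t : ℕ}
    (σ : Fin t → P.obj.obj (op (ProEtS.topP X))) (q : Fin t → Q.obj.obj (op (ProEtS.topP X)))
    (hσ : ∀ i, (Φ.hom.app (op (ProEtS.topP X))).hom (σ i) = q i)
    (hq : ∀ {Y : X.ProEt} (x : Q.obj.obj (op Y)), ∃ S ∈ Scheme.ProEt.topology X Y,
      ∀ {Z : X.ProEt} (g : Z ⟶ Y), S g →
        (Q.obj.map g.op).hom x ∈ Submodule.span Λ (Set.range fun i => (Q.obj.map (toTop Z).op).hom (q i))) :
    Epi Φ := by
  refine (Sheaf.isLocallySurjective_iff_epi' (φ := Φ)).1 ⟨fun {Y} x => ?_⟩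
  obtain ⟨S, hS, h⟩ := hq x
  refine GrothendieckTopology.superset_covering _ (fun Z g hg => ?_) hS
  have : (Q.obj.map g.op).hom x ∈ LinearMap.range (Φ.hom.app (op Z)).hom := by
    refine (Submodule.span_le.2 ?_) (h g hg)
    rintro _ ⟨i, rfl⟩
    refine ⟨(P.obj.map (toTop Z).op).hom (σ i), ?_⟩
    show _ = (Q.obj.map (toTop Z).op).hom (q i)
    rw [← hσ i]
    exact ConcreteCategory.congr_hom (Φ.hom.naturality (toTop Z).op) (σ i)
  exact this

/-- Direct sums of copies of a derived complete sheaf are derived complete. -/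
lemma isDCSheaf_biproduct {I : Ideal Λ} {M : EtModW.ModP Λ X} (hM : ProEtDC.IsDCSheaf Λ I M) (t : ℕ) :
    ProEtDC.IsDCSheaf Λ I (⨁ fun _ : Fin t => M) :=
  (isDCSheaf_iff I _).2 fun f hf U hU =>
    tbm_of_isLimit (isLimitOfPreserves (ev (Λ := Λ) U) (biproduct.isLimit fun _ : Fin t => M))
      fun _ => (isDCSheaf_iff I _).1 hM f hf U hU


/-- Let X be an affine scheme whose ring of functions is w-contractible (a weakly contractible affine),
L a Noetherian ring (value universe), I an ideal generated by a_1, ..., a_r, and F a sheaf of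
L-modules on X_proet which is derived complete with respect to I and such that F/IF (the cokernel of
F^r -> F, (s_k) |-> sum a_k s_k) is a locally constant sheaf of finite presentation. Then for some t
there is an epimorphism (L^)^t -> F from a finite direct sum of copies of the completed constant
sheaf. -/
theorem result (X : Scheme.{u}) [IsAffine X]
    (hX : EtPBC.IsWContractible ↥(Γ(X, ⊤))) (Λ : Type (u + 1)) [CommRing Λ] [IsNoetherianRing Λ]
    {r : ℕ} (a : Fin r → Λ) (F : EtModW.ModP Λ X)
    (hF : ProEtDC.IsDCSheaf Λ (Ideal.span (Set.range a)) F)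
    (hq : EtModW.IsFPLocConstP Λ (cokernel (ProEtDC.gensMap Λ a F))) :
    ∃ (t : ℕ) (φ : (⨁ fun _ : Fin t => ProEtDC.lambdaHat Λ X (Ideal.span (Set.range a))) ⟶ F), Epi φ := by
  classical
  let I := Ideal.span (Set.range a)
  have htop : Criterion (ProEtS.topP X) :=
    have : IsAffine (ProEtS.topP X).left := inferInstanceAs (IsAffine X)
    criterion_of_wContractible (U := ProEtS.topP X) hX
  have hwc := isWC_of_criterion htop
  let π := cokernel.π (ProEtDC.gensMap Λ a F)
  obtain ⟨t, q, hgen⟩ := exists_global_generators htop hq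
  choose s hs using fun i => epi_app_surjective hwc π (q i)
  let P₀ : (X.ProEt)ᵒᵖ ⥤ ModuleCat.{u + 1} Λ := (Functor.const _).obj (ModuleCat.of Λ Λ)
  let η : P₀ ⟶ sheafify (Scheme.ProEt.topology X) P₀ := toSheafify (Scheme.ProEt.topology X) P₀
  let one := (η.app (op (ProEtS.topP X))).hom (1 : Λ)
  have hext : ∀ i, ∃ σ : (cst Λ X).obj (ModuleCat.of Λ Λ) ⟶ F,
      (σ.hom.app (op (ProEtS.topP X))).hom one = s i := fun i => by
    let ν : P₀ ⟶ F.obj :=
      { app := fun U => ModuleCat.ofHom (LinearMap.toSpanSingleton Λ _ ((F.obj.map (toTop U.unop).op).hom (s i)))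
        naturality := fun U V g => ModuleCat.hom_ext (LinearMap.ext_ring (by
          show (1 : Λ) • (F.obj.map (toTop V.unop).op).hom (s i) =
            (F.obj.map g).hom ((1 : Λ) • (F.obj.map (toTop U.unop).op).hom (s i))
          rw [one_smul, one_smul, ← ConcreteCategory.comp_apply, ← F.obj.map_comp,
            isTerminalTop.hom_ext (toTop V.unop) (g.unop ≫ toTop U.unop)]
          rfl)) }
    refine ⟨⟨sheafifyLift _ ν F.property⟩, ?_⟩
    refine (ConcreteCategory.congr_hom (congrArg (fun m : P₀ ⟶ F.obj => m.app (op (ProEtS.topP X)))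
      (toSheafify_sheafifyLift _ ν F.property)) (1 : Λ)).trans ?_
    show (1 : Λ) • (F.obj.map (toTop (ProEtS.topP X)).op).hom (s i) = s i
    rw [one_smul, isTerminalTop.hom_ext (toTop (ProEtS.topP X)) (𝟙 _), op_id, F.obj.map_id]
    rfl
  choose σ hσ using hext
  choose ψ c₀ hc₀ using fun i => exists_extend a hF (σ i)
  let φ : (⨁ fun _ : Fin t => ProEtDC.lambdaHat Λ X I) ⟶ F := biproduct.desc ψ
  refine ⟨t, φ, ?_⟩
  have hφπ : Epi (φ ≫ π) := by
    refine epi_of_generators _ (fun i => ((c₀ i ≫ biproduct.ι (fun _ : Fin t => ProEtDC.lambdaHat Λ X I) i).hom.app (op (ProEtS.topP X))).hom one) q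
      (fun i => ?_) hgen
    rw [← hs i, ← hσ i]
    show ((ev (ProEtS.topP X)).map (c₀ i ≫ biproduct.ι (fun _ : Fin t => ProEtDC.lambdaHat Λ X I) i) ≫ (ev (ProEtS.topP X)).map (φ ≫ π)).hom one =
      ((ev (ProEtS.topP X)).map (σ i) ≫ (ev (ProEtS.topP X)).map π).hom one
    rw [← Functor.map_comp, ← Functor.map_comp, Category.assoc, biproduct.ι_desc_assoc, ← Category.assoc, hc₀]
  have hC : ProEtDC.IsDCSheaf Λ I (cokernel φ) :=
    ((weakSerre Λ I).1 _ _ φ (isDCSheaf_biproduct (isDCSheaf_lambdaHat X I) t) hF).2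
  have h0 : ProEtDC.ModGensIsZero Λ a (cokernel φ) := by
    show Epi (ProEtDC.gensMap Λ a (cokernel φ))
    refine Preadditive.epi_of_cokernel_zero (f := ProEtDC.gensMap Λ a (cokernel φ)) ?_
    have hkill : ProEtDC.gensMap Λ a F ≫ cokernel.π φ ≫ cokernel.π (ProEtDC.gensMap Λ a (cokernel φ)) = 0 := by
      have : ProEtDC.gensMap Λ a F ≫ cokernel.π φ =
          biproduct.map (fun _ => cokernel.π φ) ≫ ProEtDC.gensMap Λ a (cokernel φ) := by
        refine biproduct.hom_ext' _ _ fun k => ?_
        simp only [ProEtDC.gensMap, biproduct.ι_desc_assoc, biproduct.ι_map_assoc, biproduct.ι_desc]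
        refine Sheaf.hom_ext (NatTrans.ext (funext fun U => ModuleCat.hom_ext (LinearMap.ext fun x => ?_)))
        exact map_smul ((cokernel.π φ).hom.app U).hom (a k) x
      rw [← Category.assoc, this, Category.assoc, cokernel.condition, comp_zero]
    have h1 : (φ ≫ π) ≫ cokernel.desc _ _ hkill = 0 := by
      rw [Category.assoc, cokernel.π_desc, ← Category.assoc, cokernel.condition, zero_comp]
    have h2 : cokernel.desc _ _ hkill = 0 := by
      rw [← cancel_epi (φ ≫ π), h1, comp_zero]
    have h3 : cokernel.π φ ≫ cokernel.π (ProEtDC.gensMap Λ a (cokernel φ)) = 0 :=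
      (cokernel.π_desc _ _ hkill).symm.trans (by rw [h2, comp_zero])
    exact (cancel_epi (cokernel.π φ)).1 (h3.trans comp_zero.symm)
  exact Preadditive.epi_of_cokernel_zero ((isZero_of_mod_eq_zero a _ hC h0).eq_of_tgt _ _)

end Groth.Agent.S0777
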