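import Groth.Statements.S0813
import Groth.Agent.PunctAlg.Descent
import Groth.Agent.S5810

set_option autoImplicit false
universe u
open Formal2

namespace Groth.Agent.S0813

open Groth.Agent

open CategoryTheory AlgebraicGeometry in
/-- Let (A, 𝔪) be a Noetherian local ring of depth at least 2, A^ its 𝔪-adic completion, U the punctured
spectrum of A and U^ its preimage in Spec A^ (the punctured spectrum of A^). Then an invertible
O_U-module whose pullback to U^ is trivial is trivial. -/
theorem result (A : Type u) [CommRing A] [IsNoetherianRing A]
    [IsLocalRing A] (hdepth : (2 : ℕ∞) ≤ LocCoh.depth A A) :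
    Formal2.PicPullbackInjective
      (Spec.map (CommRingCat.ofHom (algebraMap A (AdicCompletion (IsLocalRing.maximalIdeal A) A))) ∣_
        FEt.puncturedSpec A) := by
  intro L hL hiso
  let m := IsLocalRing.maximalIdeal A
  let B := AdicCompletion m A
  haveI : IsNoetherianRing B := LC.Canon.isNoetherianRing_completion (R := A)
  haveI : IsLocalHom (algebraMap A B) := AdicCompletion.algebraMap_isLocalHom_of_fg (IsNoetherian.noetherian _)
  have hmax : m.map (algebraMap A B) = IsLocalRing.maximalIdeal B :=
    (AdicCompletion.maximalIdeal_eq_map (R := A)).symm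
  refine PunctAlg.picPullbackInjective_of_flat (algebraMap A B) ?_ ?_ ?_ L hL hiso
  · exact RingHom.flat_algebraMap_iff.2 inferInstance
  · intro q hq hqm h
    exact hqm ((IsLocalRing.maximalIdeal.isMaximal B).eq_of_le hq.ne_top
      (hmax ▸ Ideal.map_le_iff_le_comap.2 h.ge)).symm
  · exact le_of_le_of_eq hdepth (S5810.result A A).symm

end Groth.Agent.S0813
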