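import Groth.Statements.S0816
import Groth.Agent.HomExtendX.Zorn
import Groth.Agent.KZ.Localization

set_option backward.isDefEq.respectTransparency false
set_option backward.isDefEq.respectTransparency.types false

set_option autoImplicit false
universe u
open Coherent

namespace Groth.Agent.S0816

open CategoryTheory AlgebraicGeometry CategoryTheory.Limits in
/-- Let X be locally Noetherian, F and G coherent O_X-modules, U ⊆ X open and φ : F|_U → G|_U a map of
O_U-modules. Then there are a coherent submodule F' ⊆ F whose inclusion is an isomorphism over U and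
a map φ' : F' → G whose restriction to U is φ (composed with that isomorphism). -/
theorem result (X : Scheme.{u}) [IsLocallyNoetherian X] (F G : X.Modules)
    (hF : Coh.IsCoh F) (hG : Coh.IsCoh G) (U : X.Opens)
    (φ : (Scheme.Modules.restrictFunctor U.ι).obj F ⟶ (Scheme.Modules.restrictFunctor U.ι).obj G) :
    ∃ (F' : X.Modules) (ι : F' ⟶ F) (φ' : F' ⟶ G), Mono ι ∧ Coh.IsCoh F' ∧
      IsIso ((Scheme.Modules.restrictFunctor U.ι).map ι) ∧
      (Scheme.Modules.restrictFunctor U.ι).map φ' = (Scheme.Modules.restrictFunctor U.ι).map ι ≫ φ := by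
  let R := Scheme.Modules.restrictFunctor U.ι
  let q : F ⊞ G ⟶ F := Limits.biprod.fst
  let i : R.obj F ⟶ (F ⊞ G).restrict U.ι := R.map Limits.biprod.inl + φ ≫ R.map Limits.biprod.inr
  haveI : PreservesFiniteLimits R := inferInstance
  have hi₁ : i ≫ R.map q = 𝟙 _ := by
    simp only [i, q, Preadditive.add_comp, Category.assoc]
    erw [← R.map_comp, ← R.map_comp]
    rw [Limits.biprod.inl_fst, Limits.biprod.inr_fst, R.map_id, Functor.map_zero, Limits.comp_zero, add_zero]
  have hi₂ : i ≫ R.map Limits.biprod.snd = φ := by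
    simp only [i, Preadditive.add_comp, Category.assoc]
    erw [← R.map_comp, ← R.map_comp]
    rw [Limits.biprod.inl_snd, Limits.biprod.inr_snd, R.map_id, Functor.map_zero, Category.comp_id, zero_add]
  haveI : IsSplitMono i := IsSplitMono.mk' ⟨R.map q, hi₁⟩
  have hFG : Coh.IsCoh (F ⊞ G) := Bounded.isCoh_biprod' hF hG
  have hFU : Coh.IsCoh (R.obj F) := KZ.Localization.isCoh_restrict U.ι hF
  have fst_secAmb : ∀ (O : (U : Scheme.{u}).Opens) (g : Γ(R.obj F, O)),
      q.app (U.ι ''ᵁ O) (QCoh.secAmb i O g) = (F.restrictAppIso U.ι O).hom g := fun O g => by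
    have h := congrArg (fun w : R.obj F ⟶ R.obj F => w.app O g) hi₁
    exact congrArg (F.restrictAppIso U.ι O).hom h
  have hsep₀ : HomExtendX.Sep q (QCoh.extSub i) U := fun O hO s hs hqs => by
    obtain ⟨g, hg⟩ := (QCoh.mem_extSub_iff i s).1 hs
    have he : U.ι ''ᵁ (U.ι ⁻¹ᵁ O) = O := by
      rw [U.ι.image_preimage_eq_opensRange_inf, Scheme.Opens.opensRange_ι, inf_eq_right.2 hO]
    have h0 : q.app _ (QCoh.secAmb i _ g) = 0 := by
      rw [hg]
      exact (QCoh.map_app_comm q _ s).trans ((congrArg _ hqs).trans (map_zero _))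
    rw [fst_secAmb] at h0
    have hg0 : g = 0 := (F.restrictAppIso U.ι (U.ι ⁻¹ᵁ O)).addCommGroupIsoToAddEquiv.injective (h0.trans (map_zero _).symm)
    rw [hg0, QCoh.secAmb, map_zero, map_zero] at hg
    have h1 := congrArg (QCoh.rs (F ⊞ G) he.ge) hg.symm
    rwa [QCoh.rs_rs, QCoh.rs_self, QCoh.rs, map_zero] at h1
  obtain ⟨N, hft, hsep, hag⟩ := HomExtendX.exists_sep_top q hFG hF.1
    (QCoh.ftOn_extSub i hFU.1 hFU.2) hsep₀
  have hmono : Mono (N.ι ≫ q) := QCoh.mono_of_app_injective _ fun O => by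
    intro a b hab
    apply N.ι_app_injective
    refine sub_eq_zero.1 (hsep O le_top _ (sub_mem (N.ι_app_mem _ a) (N.ι_app_mem _ b)) ?_)
    rw [map_sub, sub_eq_zero]
    exact hab
  have key : ∀ (O : (U : Scheme.{u}).Opens) (t : Γ(N.toModules, U.ι ''ᵁ O)), ∃ g : Γ(R.obj F, O),
      QCoh.secAmb i O g = N.ι.app _ t := fun O t => by
    obtain ⟨g, hg⟩ := (QCoh.mem_extSub_iff i _).1 (hag _ (U.ι_image_le O) ▸ N.ι_app_mem _ t)
    refine ⟨QCoh.rs _ (U.ι.preimage_image_eq O).ge g, ?_⟩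
    rw [← QCoh.secAmb_map, hg, QCoh.rs_rs, QCoh.rs_self]
  haveI hiso : IsIso (R.map (N.ι ≫ q)) := by
    rw [Scheme.Modules.Hom.isIso_iff_isIso_app]
    intro O
    rw [ConcreteCategory.isIso_iff_bijective]
    refine ⟨fun a b hab => ?_, fun y => ?_⟩
    · have hinj : Function.Injective ((N.ι ≫ q).app (U.ι ''ᵁ O)) := by
        intro a b hab
        apply N.ι_app_injective
        refine sub_eq_zero.1 (hsep _ le_top _ (sub_mem (N.ι_app_mem _ a) (N.ι_app_mem _ b)) ?_)
        rw [map_sub, sub_eq_zero]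
        exact hab
      exact hinj hab
    · obtain ⟨t, ht⟩ : ∃ t, N.ι.app (U.ι ''ᵁ O) t = QCoh.secAmb i O y := by
        refine N.exists_app_eq ?_
        rw [hag _ (U.ι_image_le O)]
        refine (QCoh.mem_extSub_iff i _).2 ⟨QCoh.rs _ (U.ι.preimage_image_eq O).le y, ?_⟩
        rw [← QCoh.secAmb_map]
      refine ⟨t, ?_⟩
      exact (congrArg (q.app (U.ι ''ᵁ O)) ht).trans (fst_secAmb O y)
  refine ⟨N.toModules, N.ι ≫ q, N.ι ≫ Limits.biprod.snd, hmono,
    ⟨QCoh.isQCoh_of_ftOn hFG.1 hft, QCoh.isFT_of_ftOn hFG.1 hft⟩, hiso, ?_⟩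
  ext O t
  obtain ⟨g, hg⟩ := key O t
  have h1 := congrArg (fun w : R.obj F ⟶ R.obj G => w.app O g) hi₂
  have h2 := congrArg (fun w : R.obj F ⟶ R.obj F => w.app O g) hi₁
  show (Limits.biprod.snd : F ⊞ G ⟶ G).app _ (N.ι.app _ t) = φ.app O (q.app _ (N.ι.app _ t))
  refine (congrArg ((Limits.biprod.snd : F ⊞ G ⟶ G).app _) hg.symm).trans
    (h1.trans (congrArg (φ.app O) (h2.symm.trans ?_)))
  exact congrArg (q.app _) hg

end Groth.Agent.S0816
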