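import Groth.Statements.S0820
import Groth.Agent.ConsPropLib.Noetherian
import Groth.Agent.H23.SpClosed
import Groth.Agent.QCoh.Stalk

set_option autoImplicit false
set_option backward.isDefEq.respectTransparency false
set_option backward.isDefEq.respectTransparency.types false
universe u
open Coherent

namespace Groth.Agent.S0820

open CategoryTheory AlgebraicGeometry in
/-- Let f : Y → X be finite and surjective with X locally Noetherian, and let i : Z → X be a closed
immersion from an integral scheme, ξ the image of the generic point of Z. Then some coherent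
O_Y-module F has f_* F supported exactly on i(Z), with the stalk of f_* F at ξ killed by every
element of 𝔪_{X,ξ}, the maximal ideal of O_{X,ξ}. -/
theorem result {Y X : Scheme.{u}} (f : Y ⟶ X) [IsFinite f]
    [Surjective f] [IsLocallyNoetherian X] (Z : Scheme.{u}) (i : Z ⟶ X) [IsClosedImmersion i] [IsIntegral Z] :
    ∃ F : Y.Modules, Coh.IsCoh F ∧ CohB1.support ((Coh.push f).obj F) = Set.range ⇑i ∧
      ∀ a ∈ IsLocalRing.maximalIdeal (X.presheaf.stalk (i (genericPoint Z))),
        ∀ m : ↑(((Coh.push f).obj F).presheaf.stalk (i (genericPoint Z))), a • m = 0 := by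
  haveI : IsLocallyNoetherian Y := LocallyOfFiniteType.isLocallyNoetherian f
  obtain ⟨y, hy⟩ := f.surjective (i (genericPoint Z))
  obtain ⟨W, j, _, _, hjr, hjη⟩ := ConsPropLib.exists_integral_closure y
  let η := genericPoint W
  have hη : (j ≫ f) η = i (genericPoint Z) := by rw [Scheme.Hom.comp_apply, hjη, hy]
  have hrange : Set.range (j ≫ f) = Set.range i := by
    rw [show ⇑(j ≫ f) = ⇑f ∘ ⇑j from funext fun w => Scheme.Hom.comp_apply j f w, Set.range_comp, hjr]
    rw [← f.isClosedMap.closure_image_eq_of_continuous f.continuous, Set.image_singleton, hy,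
      ← i.isClosedEmbedding.isClosed_range.closure_eq, ← Set.image_univ,
      ← (genericPoint_spec Z).def, ← Set.image_singleton]
    exact (closure_image_closure i.continuous).symm
  let F := (Coh.push j).obj (Coh.structureModule W)
  let G := (Coh.push f).obj F
  have hloc : ∀ (x : X) (V : X.Opens) (hx : x ∈ V), Subsingleton Γ(W, (j ≫ f) ⁻¹ᵁ V) →
      ∀ t : Γ(G, V), G.presheaf.germ V x hx t = 0 := fun x V hx h t => by
    rw [show t = 0 from @Subsingleton.elim _ h _ _, map_zero]
  refine ⟨F, H23.SpClosed.isCoh_push j, Set.Subset.antisymm (fun x hx => ?_) (fun x hx => ?_), fun a ha m => ?_⟩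
  · by_contra hc
    refine hx (subsingleton_of_forall_eq 0 fun m => ?_)
    obtain ⟨V, hxV, t, rfl⟩ := TopCat.Presheaf.exists_germ_eq G.presheaf m
    let V' : X.Opens := V ⊓ ⟨(Set.range i)ᶜ, i.isClosedEmbedding.isClosed_range.isOpen_compl⟩
    rw [← TopCat.Presheaf.germ_res_apply G.presheaf (homOfLE (inf_le_left : V' ≤ V)) x ⟨hxV, hc⟩]
    refine hloc x V' ⟨hxV, hc⟩ ?_ _
    rw [show (j ≫ f) ⁻¹ᵁ V' = ⊥ from bot_unique fun w hw => hw.2 (hrange.subset ⟨w, rfl⟩)]
    infer_instance
  · show ¬ Subsingleton _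
    intro hsub
    have hmem : ∀ V : X.Opens, x ∈ V → η ∈ (j ≫ f) ⁻¹ᵁ V := fun V hV => by
      obtain ⟨z, rfl⟩ := hx
      show (j ≫ f) η ∈ V
      rw [hη]
      exact ((genericPoint_specializes z).map i.continuous).mem_open V.2 hV
    obtain ⟨V', hxV', e, e', hee⟩ := TopCat.Presheaf.germ_eq G.presheaf x (show x ∈ (⊤ : X.Opens) from trivial)
      (show x ∈ (⊤ : X.Opens) from trivial) (show Γ(G, ⊤) from (1 : Γ(W, (j ≫ f) ⁻¹ᵁ ⊤))) 0 (@Subsingleton.elim _ hsub _ _)
    haveI : Nontrivial Γ(W, (j ≫ f) ⁻¹ᵁ V') := (W.presheaf.germ _ η (hmem V' hxV')).hom.domain_nontrivial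
    refine one_ne_zero (α := Γ(W, (j ≫ f) ⁻¹ᵁ V')) ?_
    rw [← map_one (W.presheaf.map ((TopologicalSpace.Opens.map (j ≫ f).base).map e).op).hom]
    exact hee.trans (map_zero _)
  · obtain ⟨V, hξV, b, rfl⟩ := TopCat.Presheaf.exists_germ_eq X.presheaf a
    obtain ⟨V₀, hξ₀, t, rfl⟩ := TopCat.Presheaf.exists_germ_eq G.presheaf m
    let V' := V ⊓ V₀
    have hmem : η ∈ (j ≫ f) ⁻¹ᵁ V' := by show (j ≫ f) η ∈ V'; rw [hη]; exact ⟨hξV, hξ₀⟩
    rw [← TopCat.Presheaf.germ_res_apply G.presheaf (homOfLE (inf_le_right : V' ≤ V₀)) _ ⟨hξV, hξ₀⟩,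
      ← TopCat.Presheaf.germ_res_apply X.presheaf (homOfLE (inf_le_left : V' ≤ V)) _ ⟨hξV, hξ₀⟩]
    let b' := X.presheaf.map (homOfLE (inf_le_left : V' ≤ V)).op b
    have hb : (j ≫ f).app V' b' = 0 := by
      refine germ_injective_of_isIntegral W η hmem ?_
      rw [map_zero]
      by_contra hne
      have h1 : (j ≫ f) η ∈ V' := hmem
      have hu : IsUnit (W.presheaf.germ _ η hmem ((j ≫ f).app V' b')) :=
        (isUnit_iff_ne_zero (G₀ := W.functionField)).2 hne
      rw [← Scheme.Hom.germ_stalkMap_apply] at hu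
      have h2 := isUnit_of_map_unit ((j ≫ f).stalkMap η).hom _ hu
      rw [← TopCat.Presheaf.germ_res_apply X.presheaf (homOfLE (inf_le_left : V' ≤ V)) _ ⟨hξV, hξ₀⟩] at ha
      have key : ∀ (p : X) (hp : p = i (genericPoint Z)) (h : p ∈ V'),
          IsUnit (X.presheaf.germ V' p h b') → IsUnit (X.presheaf.germ V' _ ⟨hξV, hξ₀⟩ b') := by
        intro p hp h hh; subst hp; exact hh
      exact ((IsLocalRing.mem_maximalIdeal _).1 ha) (key _ hη h1 h2)
    erw [← QCoh.germ_smul' G (show i (genericPoint Z) ∈ V' from ⟨hξV, hξ₀⟩) b']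
    rw [show b' • (G.presheaf.map (homOfLE (inf_le_right : V' ≤ V₀)).op t : Γ(G, V')) = 0 from ?_]
    · exact map_zero _
    · show ((j ≫ f).app V' b') * _ = 0
      rw [hb, zero_mul]

end Groth.Agent.S0820
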