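import Groth.Statements.S0822
import Groth.Agent.GradExt.FreeMod
import Groth.Agent.LC.Finiteness

set_option autoImplicit false
universe u
open Formal2

namespace Groth.Agent.S0822

open CategoryTheory AlgebraicGeometry Opposite in
/-- In the form of its final sentence (A complete). Let A be a Noetherian ring, 𝔞 an ideal, f ∈ 𝔞 a
nonzerodivisor with A f-adically complete, and suppose H^1_𝔞(A/fA) and H^2_𝔞(A/fA) are finite
A-modules. Let U = Spec A ∖ V(𝔞) and let (F_n) be a coherent formal module on U for the ideal (f)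
(indices shifted by one) with each F_n finite locally free over O_U/f^nO_U. Then (F_n) is isomorphic
to the system (F/f^nF) of a coherent O_U-module F. -/
theorem result (A : Type u) [CommRing A] [IsNoetherianRing A]
    (𝔞 : Ideal A) (f : A) (hf : f ∈ 𝔞) (hnzd : f ∈ nonZeroDivisors A) [IsAdicComplete (Ideal.span {f}) A]
    (h₁ : Module.Finite A (LocCoh.H 𝔞 1 (A ⧸ Ideal.span {f})))
    (h₂ : Module.Finite A (LocCoh.H 𝔞 2 (A ⧸ Ideal.span {f})))
    (G : ℕᵒᵖ ⥤ (↑(LocCoh.puncturedOpen A 𝔞) : Scheme.{u}).Modules) (hG : Formal.IsCohFormal (Ideal.span {f}) G)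
    (hfree : ∀ n : ℕ, Formal2.IsFinLocFreeMod (Ideal.span {f}) (n + 1) (G.obj (op n))) :
    ∃ F : (↑(LocCoh.puncturedOpen A 𝔞) : Scheme.{u}).Modules, Coh.IsCoh F ∧
      Nonempty (Formal.completion (Ideal.span {f}) F ≅ G) := by
  refine Groth.Agent.GradExt.exists_completion_iso_of_isFinLocFreeMod 𝔞 (Ideal.span {f}) (fun i hi => ?_) ?_ G hG hfree
  · interval_cases i
    · exact Groth.Agent.LC.finite_H0 𝔞 (A ⧸ Ideal.span {f})
    · exact h₁
    · exact h₂
  · intro n
    let Q := ↥(Ideal.span {f} ^ (n + 1)) ⧸ (Ideal.span {f} • (⊤ : Submodule A ↥(Ideal.span {f} ^ (n + 1))))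
    let g : Q := Submodule.Quotient.mk ⟨f ^ (n + 1), Ideal.pow_mem_pow (Ideal.mem_span_singleton_self f) _⟩
    haveI : Module.Free (A ⧸ Ideal.span {f}) Q := Module.Free.of_equiv (LinearEquiv.ofBijective
      (LinearMap.toSpanSingleton (A ⧸ Ideal.span {f}) Q g) ⟨(injective_iff_map_eq_zero _).2 fun c hc => ?_, fun v => ?_⟩)
    exact Module.Projective.of_free
    · obtain ⟨c, rfl⟩ := Ideal.Quotient.mk_surjective c
      have h : (c • f ^ (n + 1) : A) ∈ Ideal.span {f} * Ideal.span {f} ^ (n + 1) :=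
        (Groth.Agent.GradExt.mem_smul_top_iff _ _ _).1 ((Submodule.Quotient.mk_eq_zero _).1 hc)
      rw [← pow_succ', Ideal.span_singleton_pow, Ideal.mem_span_singleton'] at h
      obtain ⟨d, hd⟩ := h
      rw [smul_eq_mul, pow_succ' f (n + 1), ← mul_assoc] at hd
      exact Ideal.Quotient.eq_zero_iff_mem.2 (Ideal.mem_span_singleton'.2
        ⟨d, (mul_cancel_right_mem_nonZeroDivisors (pow_mem hnzd (n + 1))).1 hd⟩)
    · obtain ⟨⟨v, hv⟩, rfl⟩ := Submodule.Quotient.mk_surjective _ v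
      have hv' := hv
      rw [Ideal.span_singleton_pow, Ideal.mem_span_singleton'] at hv'
      obtain ⟨c, rfl⟩ := hv'
      exact ⟨Ideal.Quotient.mk _ c, rfl⟩

end Groth.Agent.S0822
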