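import Groth.Statements.S0825
import Groth.Agent.H1CdOne.Lift
import Mathlib

set_option autoImplicit false
universe u
open scoped BigOperators
open LocCoh

namespace Groth.Agent.S0825

/-- Let A be a Noetherian ring and I the ideal generated by f_1, …, f_r, with cohomological dimension
exactly 1. Then there are c ≥ 1 and A-linear maps φ_j : I^c → A such that x = Σ_j f_j φ_j(x) for
every x ∈ I^c. -/
theorem result (A : Type u) [CommRing A] [IsNoetherianRing A] (r : ℕ) (f : Fin r → A)
    (h₁ : LocCoh.CdLE A (Ideal.span (Set.range f)) 1) (h₀ : ¬ LocCoh.CdLE A (Ideal.span (Set.range f)) 0) :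
    ∃ (c : ℕ) (φ : Fin r → (↥(Ideal.span (Set.range f) ^ (c + 1)) →ₗ[A] A)),
      ∀ x : ↥(Ideal.span (Set.range f) ^ (c + 1)), (x : A) = ∑ j, f j * φ j x := by
  classical
  let I := Ideal.span (Set.range f)
  let L : (Fin r → A) →ₗ[A] A := Fintype.linearCombination A f
  have hL : LinearMap.range L = I := by
    rw [show I = Submodule.span A (Set.range f) from rfl]
    exact Fintype.range_linearCombination A f
  have hmem : ∀ v, L v ∈ I ^ 1 := fun v => by
    rw [pow_one, ← hL]
    exact LinearMap.mem_range_self L v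
  obtain ⟨c, ψ, hψ⟩ := Groth.Agent.H1CdOne.exists_lift I h₁ (L.codRestrict (I ^ 1) hmem) (fun x => by
    have h2 : (x : A) ∈ I := (pow_one I).le x.2
    have hx : (x : A) ∈ LinearMap.range L := hL.ge h2
    obtain ⟨v, hv⟩ := hx
    exact ⟨v, Subtype.ext hv⟩)
  refine ⟨c, fun j => (LinearMap.proj j).comp ψ, fun x => ?_⟩
  refine (hψ x).symm.trans ?_
  show L (ψ x) = _
  rw [Fintype.linearCombination_apply]
  exact Finset.sum_congr rfl fun j _ => by rw [smul_eq_mul, mul_comm]; rfl

end Groth.Agent.S0825
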