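import Groth.Statements.S0828
import Groth.Agent.VBPnX.ExtZCoh
import Groth.Agent.InvFam.Open
import Groth.Agent.LC.PdRegular
import Groth.Agent.FlatLoc6.NormFlat
import Groth.Agent.QCoh.LocFree

set_option autoImplicit false
set_option backward.isDefEq.respectTransparency false
set_option backward.isDefEq.respectTransparency.types false
universe u
open Coherent

namespace Groth.Agent.S0828

open CategoryTheory AlgebraicGeometry in
/-- Let X be a regular scheme (locally Noetherian with regular local rings) and F a coherent O_X-module.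
Then F has support all of X and Cohen–Macaulay stalks if and only if F is finite locally free of
positive rank near every point. -/
theorem result (X : Scheme.{u}) [IsLocallyNoetherian X]
    (hreg : ∀ x : X, IsRegularLocalRing (X.presheaf.stalk x)) (F : X.Modules) (hF : Coh.IsCoh F) :
    (CohB1.support F = Set.univ ∧
        ∀ x : X, LocCoh.IsCohenMacaulayModule (X.presheaf.stalk x) ↑(F.presheaf.stalk x)) ↔
      ∀ x : X, ∃ (U : X.Opens) (n : ℕ), x ∈ U ∧ 0 < n ∧
        Nonempty (F.restrict U.ι ≅ FlatMod.freeMod (↑U) n) := by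
  have hfp := Groth.Agent.KZ.LFRes.isFP_of_isCoh hF
  haveI := hF.2
  have hfin : ∀ x : X, Module.Finite (X.presheaf.stalk x) ↑(F.presheaf.stalk x) := fun x =>
    Groth.Agent.FDescent.finite_stalk F x
  have hring : ∀ x : X, LocCoh.IsCohenMacaulayLocalRing (X.presheaf.stalk x) := fun x => by
    haveI := hreg x
    haveI := Groth.Agent.LC.gorenstein_of_isRegularLocalRing (R := X.presheaf.stalk x)
    exact Groth.Agent.LC.isCohenMacaulayLocalRing_of_gorenstein
  constructor
  · rintro ⟨hsupp, hCM⟩ x
    haveI := hfin x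
    haveI := hreg x
    haveI := Groth.Agent.RegLoc6.isDomain_of_isRegularLocalRing (X.presheaf.stalk x)
    obtain ⟨W, hW, hxW, -⟩ := exists_isAffineOpen_mem_and_subset (x := x) (U := (⊤ : X.Opens)) trivial
    haveI : Module.Finite Γ(X, W) Γ(F, W) := Groth.Agent.QCoh.finite_sections hF hW
    letI := Groth.Agent.QCoh.stalkAlg (X := X) hxW
    letI := Groth.Agent.QCoh.stalkModule F hxW
    haveI := Groth.Agent.QCoh.isScalarTower_stalk F hxW
    haveI := Groth.Agent.QCoh.isLocalization_stalk' hW hxW
    haveI := Groth.Agent.QCoh.isLocalizedModule_germLin hF.1 hW hxW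
    have hsA : Module.support Γ(X, W) Γ(F, W) = Set.univ := Set.eq_univ_of_forall fun p => by
      obtain ⟨z, hz, hzp⟩ := Groth.Agent.DepthAlongLib.exists_point_of_prime hW p.asIdeal
      have hzp' : hW.primeIdealOf ⟨z, hz⟩ = p := PrimeSpectrum.ext hzp
      exact hzp' ▸ (Groth.Agent.VBPnX.ExtZCoh.mem_support_iff' hW hF hz).2 (hsupp.ge (Set.mem_univ z))
    have hann : Module.annihilator (X.presheaf.stalk x) ↑(F.presheaf.stalk x) = ⊥ := by
      refine eq_bot_iff.2 fun a ha => (Submodule.mem_bot _).2 ?_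
      obtain ⟨b, s, rfl⟩ := IsLocalization.exists_mk'_eq (hW.primeIdealOf ⟨x, hxW⟩).asIdeal.primeCompl a
      obtain ⟨G, hG⟩ := (Module.Finite.fg_top (R := Γ(X, W)) (M := Γ(F, W)))
      have hz : ∀ m : Γ(F, W), ∃ t : (hW.primeIdealOf ⟨x, hxW⟩).asIdeal.primeCompl, ((t : Γ(X, W)) * b) • m = 0 := by
        intro m
        have h0 : b • Groth.Agent.QCoh.germLin F hxW m = 0 := by
          rw [← algebraMap_smul (X.presheaf.stalk x) b, ← IsLocalization.mk'_spec (X.presheaf.stalk x) b s,
            mul_comm, mul_smul, Module.mem_annihilator.1 ha, smul_zero]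
        rw [← map_smul] at h0
        obtain ⟨t, ht⟩ := (IsLocalizedModule.eq_zero_iff (hW.primeIdealOf ⟨x, hxW⟩).asIdeal.primeCompl _).1 h0
        exact ⟨t, by rw [mul_smul]; exact ht⟩
      choose t ht using hz
      have hmem : (↑(∏ z ∈ G, t z) : Γ(X, W)) * b ∈ Module.annihilator Γ(X, W) Γ(F, W) := by
        rw [← Submodule.annihilator_top, ← hG, Submodule.mem_annihilator_span]
        intro z
        obtain ⟨c, hc⟩ := Finset.dvd_prod_of_mem (fun w => (t w : Γ(X, W))) z.2
        rw [Submonoid.coe_finsetProd, hc, mul_comm _ c, mul_assoc, mul_smul, ht, smul_zero]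
      have hnil : IsNilpotent ((↑(∏ z ∈ G, t z) : Γ(X, W)) * b) := by
        rw [nilpotent_iff_mem_prime]
        intro J hJ
        have := hsA.ge (Set.mem_univ ⟨J, hJ⟩)
        rw [Module.support_eq_zeroLocus] at this
        exact this hmem
      have h1 := (hnil.map (algebraMap Γ(X, W) (X.presheaf.stalk x))).eq_zero
      rw [map_mul] at h1
      rw [IsLocalization.mk'_eq_mul_mk'_one,
        (IsLocalization.map_units (X.presheaf.stalk x) (∏ z ∈ G, t z)).mul_right_eq_zero.1 h1, zero_mul]
    have hdim : Module.supportDim (X.presheaf.stalk x) ↑(F.presheaf.stalk x) = ringKrullDim (X.presheaf.stalk x) := by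
      rw [Module.supportDim_eq_ringKrullDim_quotient_annihilator, hann]
      exact ringKrullDim_eq_of_ringEquiv (RingEquiv.quotientBot _)
    have hd0 := ((isRegularLocalRing_iff (X.presheaf.stalk x)).1 ‹_›).symm
    have hdepth : ((IsLocalRing.maximalIdeal (X.presheaf.stalk x)).spanFinrank : ℕ∞) ≤
        LocCoh.depth (X.presheaf.stalk x) ↑(F.presheaf.stalk x) + ((0 : ℕ) : ℕ∞) := by
      have h := hCM x
      unfold LocCoh.IsCohenMacaulayModule at h
      rw [hdim, hd0] at h
      rw [Nat.cast_zero, add_zero]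
      exact le_of_eq (WithBot.coe_inj.1 h)
    haveI : Module.Projective (X.presheaf.stalk x) ↑(F.presheaf.stalk x) :=
      Groth.Agent.RegLoc6.pdLE_zero_iff.1 (Groth.Agent.LC.pdLE_of_le_depth _ _ hd0 _ 0 hdepth)
    haveI : Module.Free (X.presheaf.stalk x) ↑(F.presheaf.stalk x) := Module.free_of_flat_of_isLocalRing
    obtain ⟨U, n, hxU, ⟨e⟩⟩ := Groth.Agent.QCoh.exists_free_nhd_of_free_stalk hfp x
    refine ⟨U, n, hxU, Nat.pos_of_ne_zero fun hn => ?_, ⟨e⟩⟩
    have h1 := Groth.Agent.InvFam.finrank_stalk_of_restrict_iso F hF.1 hxU e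
    rw [hn] at h1
    exact hsupp.ge (Set.mem_univ x) ((Module.finrank_eq_zero_iff_of_free (X.presheaf.stalk x) _).1 h1)
  · intro h
    have hlf : FlatMod.IsFinLocFree F := fun x => by
      obtain ⟨U, n, hx, -, he⟩ := h x
      exact ⟨U, n, hx, he⟩
    have key : ∀ x : X, ∃ k : ℕ, Nonempty (↑(F.presheaf.stalk x) ≃ₗ[X.presheaf.stalk x] (Fin (k + 1) → X.presheaf.stalk x)) := by
      intro x
      haveI := hfin x
      haveI := Groth.Agent.QCoh.free_stalk_of_isFinLocFree hlf x
      obtain ⟨U, n, hx, hn, ⟨e⟩⟩ := h x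
      have h1 := Groth.Agent.InvFam.finrank_stalk_of_restrict_iso F hF.1 hx e
      exact ⟨n - 1, ⟨((Module.finBasis _ _).reindex (finCongr (by omega))).equivFun⟩⟩
    refine ⟨Set.eq_univ_of_forall fun x hsub => ?_, fun x => ?_⟩
    · obtain ⟨k, ⟨e⟩⟩ := key x
      haveI := hsub
      haveI : Subsingleton (Fin (k + 1) → X.presheaf.stalk x) := e.symm.toEquiv.subsingleton
      exact one_ne_zero (congrFun (Subsingleton.elim (fun _ : Fin (k + 1) => (1 : X.presheaf.stalk x)) 0) 0)
    · obtain ⟨k, ⟨e⟩⟩ := key x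
      haveI := hreg x
      show Module.supportDim (X.presheaf.stalk x) ↑(F.presheaf.stalk x) = _
      rw [Module.supportDim_eq_of_equiv e, Groth.Agent.Hensel.depth_congr e, Groth.Agent.FlatLoc6.depth_pi _ k,
        Module.supportDim_eq_ringKrullDim_quotient_annihilator]
      have hann : Module.annihilator (X.presheaf.stalk x) (Fin (k + 1) → X.presheaf.stalk x) = ⊥ :=
        Module.annihilator_eq_bot.2 inferInstance
      rw [hann]
      refine (ringKrullDim_eq_of_ringEquiv (RingEquiv.quotientBot _)).trans ?_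
      rw [← Module.supportDim_self_eq_ringKrullDim]
      exact (hring x).supportDim_eq_depth

end Groth.Agent.S0828
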