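import Groth.Statements.S0841
import Groth.Agent.PunctModSys.Basic

set_option backward.isDefEq.respectTransparency false
set_option backward.isDefEq.respectTransparency.types false
set_option linter.style.haveILetI false
set_option maxHeartbeats 800000

set_option autoImplicit false
universe u
open Formal2

namespace Groth.Agent.S0841

section Aux

open AlgebraicGeometry CategoryTheory CategoryTheory.Limits
open Groth.Agent.PunctModSys Groth.Agent.PunctAlg

variable {A : Type u} [CommRing A] [IsNoetherianRing A] (𝔞 : Ideal A)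

variable (F : ℕᵒᵖ ⥤ ((LocCoh.puncturedOpen A 𝔞 : (Spec (CommRingCat.of A)).Opens) : Scheme.{u}).Modules)

/-- A model of the `n`-th term. -/
abbrev Mdl (n : ℕ) := {M : Submodule A ((secF (LocCoh.puncturedOpen A 𝔞)).obj (F.obj (Opposite.op n))) // IsModel 𝔞 M}

/-- Sections of the transition map. -/
noncomputable abbrev tr (n : ℕ) : (secF (LocCoh.puncturedOpen A 𝔞)).obj (F.obj (Opposite.op (n + 1))) →ₗ[A] (secF (LocCoh.puncturedOpen A 𝔞)).obj (F.obj (Opposite.op n)) :=
  ((secF (LocCoh.puncturedOpen A 𝔞)).map (F.map (homOfLE (Nat.le_succ n)).op)).hom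

theorem exists_step (hc : ∀ n, Coh.IsCoh (F.obj (Opposite.op n))) (n : ℕ) (M : Mdl 𝔞 F n) :
    ∃ M' : Mdl 𝔞 F (n + 1), M'.1 ≤ M.1.comap (tr 𝔞 F n) := by
  obtain ⟨M', hle, hM'⟩ := exists_model 𝔞 (hc (n + 1)) (M.1.comap (tr 𝔞 F n)) fun y => by
    obtain ⟨m, hm⟩ := M.2.coker 𝔞 (tr 𝔞 F n y)
    exact ⟨m, fun b hb => by rw [Submodule.mem_comap, map_smul]; exact hm b hb⟩
  exact ⟨⟨M', hM'⟩, hle⟩

/-- A compatible family of models. -/
noncomputable def mdl (hc : ∀ n, Coh.IsCoh (F.obj (Opposite.op n))) : ∀ n, Mdl 𝔞 F n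
  | 0 => ⟨_, (exists_model 𝔞 (hc 0) ⊤ fun _ => ⟨0, fun _ _ => trivial⟩).choose_spec.2⟩
  | n + 1 => (exists_step 𝔞 F hc n (mdl hc n)).choose

theorem mdl_le (hc : ∀ n, Coh.IsCoh (F.obj (Opposite.op n))) (n : ℕ) :
    (mdl 𝔞 F hc (n + 1)).1 ≤ (mdl 𝔞 F hc n).1.comap (tr 𝔞 F n) :=
  (exists_step 𝔞 F hc n (mdl 𝔞 F hc n)).choose_spec

end Aux

open CategoryTheory AlgebraicGeometry CategoryTheory.Limits Opposite Groth.Agent.PunctModSys Groth.Agent.PunctAlg in
/-- Let A be a Noetherian ring, I ⊆ 𝔞 ideals of A and U = Spec A ∖ V(𝔞). For every coherent formal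
module (F_n) for I on U there are finite A-modules M_n with I^(n+1) M_n = 0 and A-linear maps
M_{n+1} → M_n for which each induced map M_{n+1}/I^(n+1)M_{n+1} → M_n has 𝔞-power-torsion kernel and
cokernel (every element is killed by some power of 𝔞), together with an isomorphism between (F_n)
and the inverse system of restrictions to U of the quasi-coherent modules M̃_n on Spec A. Indexing:
position n here corresponds to index n + 1 of the published statement, so that M_n is killed by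
I^(n+1). Only this direction (every coherent formal module arises in this manner) is stated; the
converse, that every such system of modules yields a coherent formal module, is not stated here. -/
theorem result (A : Type u) [CommRing A] [IsNoetherianRing A]
    (I 𝔞 : Ideal A) (hI : I ≤ 𝔞) (F : ℕᵒᵖ ⥤ (↑(LocCoh.puncturedOpen A 𝔞) : Scheme.{u}).Modules)
    (hF : Formal.IsCohFormal I F) :
    ∃ (M : ℕ → Type u) (_ : ∀ n, AddCommGroup (M n)) (_ : ∀ n, Module A (M n)) (g : ∀ n, M (n + 1) →ₗ[A] M n),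
      (∀ n, Module.Finite A (M n)) ∧ (∀ n, I ^ (n + 1) • (⊤ : Submodule A (M n)) = ⊥) ∧
      (∀ n (x : M (n + 1)), g n x = 0 → ∃ m : ℕ, ∀ a ∈ 𝔞 ^ m, a • x ∈ I ^ (n + 1) • (⊤ : Submodule A (M (n + 1)))) ∧
      (∀ n (y : M n), ∃ m : ℕ, ∀ a ∈ 𝔞 ^ m, a • y ∈ LinearMap.range (g n)) ∧
      Nonempty (F ≅ Functor.ofOpSequence
        (X := fun n => (Scheme.Modules.restrictFunctor (LocCoh.puncturedOpen A 𝔞).ι).obj (Formal2.tmod A (M n)))
        (fun n => (Scheme.Modules.restrictFunctor (LocCoh.puncturedOpen A 𝔞).ι).map (Formal2.tmodMap A (g n)))) := by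
  classical
  obtain ⟨hc, hk, htr⟩ := hF
  let U := LocCoh.puncturedOpen A 𝔞
  let ρ := fun n : ℕ => F.map (homOfLE (Nat.le_succ n)).op
  let M := fun n => (mdl 𝔞 F hc n).1
  let g : ∀ n, M (n + 1) →ₗ[A] M n := fun n =>
    LinearMap.codRestrict (M n) ((tr 𝔞 F n).comp (M (n + 1)).subtype) fun x => mdl_le 𝔞 F hc n x.2
  let α := fun n => (mdl 𝔞 F hc n).2.2.choose
  have hα : ∀ n (x : M n), sh 𝔞 (α n).hom x = x.1 := fun n => (mdl 𝔞 F hc n).2.2.choose_spec
  let Φg := fun n => (Groth.Agent.H1Punct.Φ U).map (ModuleCat.ofHom (g n))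
  have hsq : ∀ n, Φg n ≫ (α n).hom = (α (n + 1)).hom ≫ ρ n := fun n =>
    Groth.Agent.PunctModSys.hom_ext 𝔞 fun x => by
      rw [sh_map, sh_comp, hα, hα]
      rfl
  have hkill : ∀ n, I ^ (n + 1) • (⊤ : Submodule A (M n)) = ⊥ := fun n => by
    rw [eq_bot_iff, Submodule.smul_le]
    intro b hb x _
    rw [Submodule.mem_bot]
    apply Subtype.ext
    show b • x.1 = 0
    rw [← Groth.Agent.PunctAlg.secF_smul, hk n b hb, Functor.map_zero]
    rfl
  refine ⟨fun n => M n, fun n => inferInstance, fun n => inferInstance, g,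
    fun n => Module.Finite.iff_fg.2 (mdl 𝔞 F hc n).2.1, hkill, fun n x hx => ?_, fun n y => ?_, ?_⟩
  · -- torsion modulo `I ^ (n + 1)`
    let J : Submodule A (M (n + 1)) := I ^ (n + 1) • ⊤
    let π : ModuleCat.of A (M (n + 1)) ⟶ ModuleCat.of A (M (n + 1) ⧸ J) := ModuleCat.ofHom J.mkQ
    let gb : ModuleCat.of A (M (n + 1) ⧸ J) ⟶ ModuleCat.of A (M n) :=
      ModuleCat.ofHom (J.liftQ (g n) (Submodule.smul_le.2 fun b hb z _ => by
        rw [LinearMap.mem_ker, map_smul, ← Submodule.mem_bot A, ← hkill n]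
        exact Submodule.smul_mem_smul hb trivial))
    haveI : Epi π := (ModuleCat.epi_iff_surjective _).2 (Submodule.mkQ_surjective J)
    let Φπ := (Groth.Agent.H1Punct.Φ U).map π
    obtain ⟨h0, hiso⟩ := htr n
    let w := (α (n + 1)).inv ≫ Φπ
    have hw : Formal.smulFamily (I ^ (n + 1)) (F.obj (Opposite.op (n + 1))) ≫ w = 0 := by
      refine Sigma.hom_ext _ _ fun b => ?_
      rw [Formal.smulFamily, Sigma.ι_desc_assoc, comp_zero, ← cancel_epi (α (n + 1)).hom, comp_zero]
      refine Groth.Agent.PunctModSys.hom_ext 𝔞 fun z => ?_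
      rw [sh_comp, hα, sh_apply, Functor.map_zero, Functor.map_comp]
      show (secF U).map w ((secF U).map (Formal.smulMod A _ b.1) z.1) = 0
      rw [Groth.Agent.PunctAlg.secF_smul, map_smul]
      have h1 : (secF U).map w z.1 = eSec 𝔞 (ModuleCat.of A (M (n + 1) ⧸ J)) (π z) := by
        rw [← hα (n + 1) z, ← sh_comp, Iso.hom_inv_id_assoc, ← Category.comp_id Φπ, sh_map, sh_apply,
          CategoryTheory.Functor.map_id]
        rfl
      rw [h1, ← map_smul, ← map_smul, show π (b.1 • z) = 0 from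
        (Submodule.Quotient.mk_eq_zero J).2 (Submodule.smul_mem_smul b.2 trivial), map_zero]
    let d := cokernel.desc (Formal.smulFamily (I ^ (n + 1)) (F.obj (Opposite.op (n + 1)))) (ρ n) h0
    haveI : IsIso d := hiso
    let back := inv d ≫ cokernel.desc _ w hw
    have hback : Φg n ≫ (α n).hom ≫ back = Φπ := by
      rw [reassoc_of% (hsq n), show ρ n = cokernel.π _ ≫ d from (cokernel.π_desc _ _ _).symm]
      simp only [back, Category.assoc, IsIso.hom_inv_id_assoc, cokernel.π_desc, w, Iso.hom_inv_id_assoc]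
    have hgb : Φπ ≫ (Groth.Agent.H1Punct.Φ U).map gb = Φg n := by
      rw [← Functor.map_comp]
      rfl
    have hid : (Groth.Agent.H1Punct.Φ U).map gb ≫ (α n).hom ≫ back = 𝟙 _ := by
      exact (cancel_epi Φπ).1 (((Category.assoc _ _ _).symm.trans (congrArg (· ≫ (α n).hom ≫ back) hgb)).trans
        (hback.trans (Category.comp_id _).symm))
    have hz : eSec 𝔞 (ModuleCat.of A (M (n + 1) ⧸ J)) (π x) = 0 := by
      have h1 : sh 𝔞 ((Groth.Agent.H1Punct.Φ U).map gb ≫ (α n).hom ≫ back) (π x) =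
          sh 𝔞 (𝟙 _) (π x) := by rw [hid]
      rw [sh_map, show gb (π x) = g n x from rfl, hx, map_zero, sh_apply, CategoryTheory.Functor.map_id] at h1
      exact h1.symm
    obtain ⟨m, hm⟩ := torsion_of_eSec 𝔞 _ hz
    refine ⟨m, fun b hb => ?_⟩
    rw [← Submodule.Quotient.mk_eq_zero J]
    exact hm b hb
  · -- cokernel
    have hepi : Epi (ρ n) := by
      obtain ⟨h0, hiso⟩ := htr n
      rw [show ρ n = cokernel.π _ ≫ cokernel.desc _ (ρ n) h0 from (cokernel.π_desc _ _ _).symm]
      exact @epi_comp _ _ _ _ _ (cokernel.π _) inferInstance _ (@IsIso.epi_of_iso _ _ _ _ _ hiso)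
    haveI : Epi (Φg n) := by
      rw [show Φg n = ((α (n + 1)).hom ≫ ρ n) ≫ (α n).inv from by rw [← hsq, Category.assoc, Iso.hom_inv_id, Category.comp_id]]
      infer_instance
    let G : ModuleCat.of A (M (n + 1)) ⟶ ModuleCat.of A (M n) := ModuleCat.ofHom (g n)
    have hzero : IsZero (Groth.Agent.PunctAlg.PhiU 𝔞 (cokernel G)) :=
      (isZero_cokernel_of_epi (Φg n)).of_iso (PreservesCokernel.iso (Groth.Agent.H1Punct.Φ U) G)
    obtain ⟨m, hm⟩ := torsion_of_isZero 𝔞 hzero (cokernel.π G y)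
    refine ⟨m, fun b hb => ?_⟩
    have h1 := hm b hb
    rw [← map_smul] at h1
    exact (ShortComplex.moduleCat_exact_iff _).1 (ShortComplex.exact_cokernel G) _ h1
  · refine ⟨(NatIso.ofComponents (fun k => α k.unop) ?_).symm⟩
    suffices h : ∀ n, (Functor.ofOpSequence
        (X := fun n => (Scheme.Modules.restrictFunctor U.ι).obj (Formal2.tmod A (M n)))
        (fun n => (Scheme.Modules.restrictFunctor U.ι).map (Formal2.tmodMap A (g n)))).map
          (homOfLE (Nat.le_add_right n 1)).op ≫ (α n).hom = (α (n + 1)).hom ≫ F.map (homOfLE (Nat.le_add_right n 1)).op by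
      intro i j f
      exact (NatTrans.ofOpSequence (F := Functor.ofOpSequence (X := fun n => (Scheme.Modules.restrictFunctor U.ι).obj (Formal2.tmod A (M n))) (fun n => (Scheme.Modules.restrictFunctor U.ι).map (Formal2.tmodMap A (g n)))) (G := F) (fun n => (α n).hom) h).naturality f
    intro n
    rw [Functor.ofOpSequence_map_homOfLE_succ]
    exact hsq n

end Groth.Agent.S0841
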