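import Groth.Statements.S0854
import Groth.Agent.SiteBase.DerivedPrecomp
import Groth.Agent.SiteBase.DerivedComp
import Groth.Agent.SiteBase.ExtByZero
import Groth.Agent.SiteBase.Rpush
import Groth.Agent.H1LCZ.Derived
import Groth.Agent.QCoh.RpushAbGod

set_option autoImplicit false
universe u
open CategoryTheory
open CohTop

namespace Groth.Agent.S0854
set_option backward.isDefEq.respectTransparency false
set_option backward.isDefEq.respectTransparency.types false
set_option linter.style.haveILetI false
set_option maxHeartbeats 800000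
open CategoryTheory.Limits TopologicalSpace

open TopologicalSpace in
/-- For abelian sheaves, one degree at a time: for a continuous map f : X -> Y, an abelian sheaf F on X,
an open V of Y and g : f^{-1}(V) -> V the restriction of f, the restriction of R^p f_* F to V is
isomorphic to R^p g_* (F|_{f^{-1} V}). -/
theorem result {X Y : TopCat.{u}} (f : X ⟶ Y) (F : CohTop.Ab X)
    (V : Opens Y) (p : ℕ) :
    Nonempty (CohTop.restr ((CohTop.Rpush f p).obj F) V ≅
      (CohTop.Rpush (TopCat.ofHom ⟨(V : Set Y).restrictPreimage f, f.hom.continuous.restrictPreimage⟩ :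
          TopCat.of ((Opens.map f).obj V) ⟶ TopCat.of V) p).obj
        (CohTop.restr F ((Opens.map f).obj V))) := by
  haveI := ExtByZero.preservesFiniteLimits_ext0 ((Opens.map f).obj V)
  haveI : (CohTop.restrFunctor ((Opens.map f).obj V)).PreservesInjectiveObjects :=
    ⟨fun {I} hI => (ExtByZero.adj _).map_injective I hI⟩
  let g : TopCat.of ((Opens.map f).obj V) ⟶ TopCat.of V :=
    TopCat.ofHom ⟨(V : Set Y).restrictPreimage f, f.hom.continuous.restrictPreimage⟩
  haveI : (CohTop.push f).Additive := { }
  haveI : (CohTop.push g).Additive := { }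
  haveI : (CohTop.restrFunctor ((Opens.map f).obj V) ⋙ CohTop.push g).Additive := inferInstance
  haveI : (CohTop.push f ⋙ CohTop.restrFunctor V).Additive := inferInstance
  haveI := QCoh.Ab.push_preservesFiniteLimits g
  haveI := QCoh.Ab.push_preservesFiniteLimits f
  let a : Opens (TopCat.of V) ⥤ Opens X := V.isOpenEmbedding.isOpenMap.functor ⋙ Opens.map f
  let b : Opens (TopCat.of V) ⥤ Opens X :=
    Opens.map g ⋙ ((Opens.map f).obj V).isOpenEmbedding.isOpenMap.functor
  have hab : ∀ W, a.obj W = b.obj W := fun W => by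
    refine Opens.ext (Set.ext fun x => ⟨?_, ?_⟩)
    · rintro ⟨y, hy, hxy⟩
      have hxV : f x ∈ V := by
        have h : (y : ↥V).1 ∈ V := y.2
        rwa [show (y : ↥V).1 = f x from hxy] at h
      refine ⟨⟨x, hxV⟩, ?_, rfl⟩
      show g ⟨x, hxV⟩ ∈ W
      have : g ⟨x, hxV⟩ = y := Subtype.ext hxy.symm
      rw [this]
      exact hy
    · rintro ⟨y, hy, rfl⟩
      exact ⟨g y, hy, rfl⟩
  let eab : a ≅ b := NatIso.ofComponents (fun W => eqToIso (hab W)) fun _ => Subsingleton.elim _ _
  let e : CohTop.push f ⋙ CohTop.restrFunctor V ≅ CohTop.restrFunctor ((Opens.map f).obj V) ⋙ CohTop.push g :=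
    NatIso.ofComponents
      (fun F => (fullyFaithfulSheafToPresheaf _ _).preimageIso (Functor.isoWhiskerRight (NatIso.op eab.symm) F.obj))
      (fun {F G} φ => (fullyFaithfulSheafToPresheaf _ _).map_injective (by
        simp only [Functor.map_comp, Functor.FullyFaithful.preimageIso_hom, Functor.FullyFaithful.map_preimage]
        ext W : 2
        exact (φ.hom.naturality (eab.symm.hom.app W.unop).op).symm))
  exact ⟨((SiteBase.rightDerivedCompIso (CohTop.push f) (CohTop.restrFunctor V) p).symm ≪≫
    SiteBase.rightDerivedCongr e p ≪≫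
    SiteBase.rightDerivedPrecompIso (CohTop.restrFunctor ((Opens.map f).obj V)) (CohTop.push g) p).app F⟩

end Groth.Agent.S0854
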