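import Groth.Statements.S0862
import Groth.Agent.ToposFinLib.CovColim

set_option autoImplicit false
universe u
open CategoryTheory
open CohSite

namespace Groth.Agent.S0862
set_option backward.isDefEq.respectTransparency false
set_option linter.style.haveILetI false

open Opposite CategoryTheory.Limits in
/-- Let C be a site with fibre products, B a class of objects and Cov a class of finite covering
families such that (1) for a family in Cov over U, U and all iterated fibre products of its members
lie in B, and (2) every covering sieve of a member of B contains a family from Cov. Then for every U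
in B, every p and every filtered diagram of abelian sheaves, colim_i H^p(U, F_i) -> H^p(U, colim_i
F_i) is an isomorphism (phrased: H^p(U, -) preserves the colimit). -/
theorem result {C : Type u} [SmallCategory C] [HasPullbacks C]
    (J : GrothendieckTopology C) (B : Set C) (Cov : ∀ (U : C) (ι : Type u), (ι → Over U) → Prop)
    (h1 : ∀ (U : C) (ι : Type u) (Y : ι → Over U), Cov U ι Y → Finite ι ∧ U ∈ B ∧
      Sieve.ofArrows (fun i => (Y i).left) (fun i => (Y i).hom) ∈ J U ∧
      ∀ (p : ℕ) (a : Fin (p + 1) → ι), (∏ᶜ fun k => Y (a k)).left ∈ B)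
    (h2 : ∀ U ∈ B, ∀ T ∈ J U, ∃ (ι : Type u) (Y : ι → Over U), Cov U ι Y ∧ ∀ i, T.arrows (Y i).hom)
    (U : C) (hU : U ∈ B) (p : ℕ) (I : Type u) [SmallCategory I] [IsFiltered I]
    (F : I ⥤ Sheaf J AddCommGrpCat.{u}) :
    PreservesColimit F ((Sheaf.cohomologyPresheafFunctor J p).flip.obj (op U)) := by
  let S : Groth.Agent.CovColim.CovSys J := ⟨B, Cov, h1, h2⟩
  haveI hp : PreservesColimit F ((Abelian.extFunctor.{u} p).obj (Opposite.op (CohCx.freeSheaf J U))) :=
    (Groth.Agent.CovColim.comm_cov S p (V := U) hU F).preservesColimit
  exact preservesColimit_of_natIso F (NatIso.ofComponents (fun G => Iso.refl _) (fun {G G'} g => by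
    ext x
    rfl) : (Abelian.extFunctor.{u} p).obj (Opposite.op (CohCx.freeSheaf J U)) ≅
      (Sheaf.cohomologyPresheafFunctor.{u} J p).flip.obj (op U))

end Groth.Agent.S0862
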