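import Groth.Statements.S0873
import Groth.Agent.DerSeq.SheafPointwise
import Groth.Agent.SiteBase.Top
import Mathlib.Topology.Sheaves.SheafCondition.UniqueGluing

set_option autoImplicit false
universe u
open CategoryTheory
open CohTop

namespace Groth.Agent.S0873

set_option backward.isDefEq.respectTransparency false
set_option backward.isDefEq.respectTransparency.types false

open TopologicalSpace Opposite in
lemma sect_ext {X : TopCat.{u}} (I : CohTop.Ab X) {O P Q : Opens X} (i₁ : P ⟶ O) (i₂ : Q ⟶ O)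
    (hc : O ≤ P ⊔ Q) (s t : I.obj.obj (op O)) (h₁ : I.obj.map i₁.op s = I.obj.map i₁.op t)
    (h₂ : I.obj.map i₂.op s = I.obj.map i₂.op t) : s = t :=
  TopCat.Sheaf.eq_of_locally_eq₂ (F := I) i₁ i₂ hc s t h₁ h₂

open TopologicalSpace Opposite in
lemma sect_glue {X : TopCat.{u}} (I : CohTop.Ab X) {O P Q R : Opens X} (i₁ : P ⟶ O) (i₂ : Q ⟶ O)
    (hc : O ≤ P ⊔ Q) (j₁ : R ⟶ P) (j₂ : R ⟶ Q) (hR : P ⊓ Q ≤ R) (a : I.obj.obj (op P))
    (b : I.obj.obj (op Q)) (h : I.obj.map j₁.op a = I.obj.map j₂.op b) :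
    ∃ s, I.obj.map i₁.op s = a ∧ I.obj.map i₂.op s = b := by
  let U : ULift.{u} Bool → Opens X := fun t => match t with | ⟨true⟩ => P | ⟨false⟩ => Q
  let sf : ∀ t, ToType (I.obj.obj (op (U t))) := fun t => match t with | ⟨true⟩ => a | ⟨false⟩ => b
  have key : ∀ (T : Opens X) (k₁ : T ⟶ P) (k₂ : T ⟶ Q), I.obj.map k₁.op a = I.obj.map k₂.op b := by
    intro T k₁ k₂
    let k : T ⟶ R := homOfLE ((le_inf k₁.le k₂.le).trans hR)
    rw [show k₁ = k ≫ j₁ from Subsingleton.elim _ _, show k₂ = k ≫ j₂ from Subsingleton.elim _ _,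
      op_comp, op_comp, I.obj.map_comp, I.obj.map_comp]
    exact congrArg (I.obj.map k.op) h
  have hcov : O ≤ iSup U := hc.trans (sup_le (le_iSup U ⟨true⟩) (le_iSup U ⟨false⟩))
  obtain ⟨s, hs, -⟩ := TopCat.Sheaf.existsUnique_gluing' (F := I) U O
    (fun t => match t with | ⟨true⟩ => i₁ | ⟨false⟩ => i₂) hcov sf (by
      rintro ⟨_ | _⟩ ⟨_ | _⟩
      · rfl
      · exact (key _ _ _).symm
      · exact key _ _ _
      · rfl)
  exact ⟨s, hs ⟨true⟩, hs ⟨false⟩⟩

open TopologicalSpace CategoryTheory.Limits in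
/-- Let f : X -> Y be continuous, X = U ∪ V an open covering, and a, b, c the restrictions of f to U, V,
U ∩ V. For an abelian sheaf F there are connecting maps making the long sequence 0 -> f_* F ->
a_*(F|_U) ⊕ b_*(F|_V) -> c_*(F|_{U ∩ V}) -> R^1 f_* F -> R^1 a_*(F|_U) ⊕ R^1 b_*(F|_V) -> ... exact,
where the unnamed maps are induced (sum, resp. difference) by restriction of sections and R^n
a_*(F|_U) denotes the n-th right derived functor of F ↦ a_*(F|_U) (and similarly for b, c).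
Functoriality in F is not asserted. -/
theorem result {X Y : TopCat.{u}} (f : X ⟶ Y) (U V : Opens X) (hUV : U ⊔ V = ⊤)
    (F : CohTop.Ab X) :
    ∃ δ : ∀ n : ℕ, (CohCx.RpushOn f (U ⊓ V) n).obj F ⟶ (CohTop.Rpush f (n + 1)).obj F,
      Mono (biprod.lift ((NatTrans.rightDerived (CohCx.pushToRestrPush f U) 0).app F)
        ((NatTrans.rightDerived (CohCx.pushToRestrPush f V) 0).app F)) ∧
      ∀ n : ℕ,
        (ComposableArrows.mk₂
          (biprod.lift ((NatTrans.rightDerived (CohCx.pushToRestrPush f U) n).app F)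
            ((NatTrans.rightDerived (CohCx.pushToRestrPush f V) n).app F))
          (biprod.desc
            ((NatTrans.rightDerived (CohCx.restrPushToRestrPush f (inf_le_left : U ⊓ V ≤ U)) n).app F)
            (-((NatTrans.rightDerived (CohCx.restrPushToRestrPush f (inf_le_right : U ⊓ V ≤ V)) n).app F)))).Exact ∧
        (ComposableArrows.mk₂
          (biprod.desc
            ((NatTrans.rightDerived (CohCx.restrPushToRestrPush f (inf_le_left : U ⊓ V ≤ U)) n).app F)
            (-((NatTrans.rightDerived (CohCx.restrPushToRestrPush f (inf_le_right : U ⊓ V ≤ V)) n).app F)))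
          (δ n)).Exact ∧
        (ComposableArrows.mk₂ (δ n)
          (biprod.lift ((NatTrans.rightDerived (CohCx.pushToRestrPush f U) (n + 1)).app F)
            ((NatTrans.rightDerived (CohCx.pushToRestrPush f V) (n + 1)).app F))).Exact := by
  have key : ∀ (I : CohTop.Ab X), Injective I → Groth.Agent.DerSeq.ExactOn
      (CohCx.pushToRestrPush f U) (CohCx.pushToRestrPush f V)
      (CohCx.restrPushToRestrPush f (inf_le_left : U ⊓ V ≤ U))
      (CohCx.restrPushToRestrPush f (inf_le_right : U ⊓ V ≤ V)) I := by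
    intro I hI
    have := Groth.Agent.SiteBase.isFlasque_of_injective I
    refine Groth.Agent.DerSeq.shortExact_lift_desc _ _ _ _ ?_ ?_ ?_ ?_
    · ext : 2
      funext W
      change I.obj.map _ ≫ I.obj.map _ = I.obj.map _ ≫ I.obj.map _
      rw [← I.obj.map_comp, ← I.obj.map_comp]
      rfl
    · intro W y hy₁ hy₂
      refine sect_ext I (homOfLE ?_) (homOfLE ?_) ?_ y 0 (hy₁.trans (map_zero _).symm)
        (hy₂.trans (map_zero _).symm)
      · rintro _ ⟨x, hx, rfl⟩; exact hx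
      · rintro _ ⟨x, hx, rfl⟩; exact hx
      · intro x hx
        have : x ∈ U ⊔ V := hUV ▸ trivial
        rcases this with h | h
        · exact Or.inl ⟨⟨x, h⟩, hx, rfl⟩
        · exact Or.inr ⟨⟨x, h⟩, hx, rfl⟩
    · intro W a b hab
      refine sect_glue I (homOfLE ?_) (homOfLE ?_) ?_ (homOfLE ?_) (homOfLE ?_) ?_ a b hab
      · intro x hx
        have : x ∈ U ⊔ V := hUV ▸ trivial
        rcases this with h | h
        · exact Or.inl ⟨⟨x, h⟩, hx, rfl⟩
        · exact Or.inr ⟨⟨x, h⟩, hx, rfl⟩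
      · rintro _ ⟨x, hx, rfl⟩; exact ⟨⟨x.1, x.2.1⟩, hx, rfl⟩
      · rintro _ ⟨x, hx, rfl⟩; exact ⟨⟨x.1, x.2.2⟩, hx, rfl⟩
      · rintro _ ⟨⟨x, hx, rfl⟩, ⟨y, hy, hxy⟩⟩
        exact ⟨⟨x.1, ⟨x.2, (congrArg (fun z => z ∈ V) hxy).mp y.2⟩⟩, hx, rfl⟩
    · intro W
      exact (AddCommGrpCat.epi_iff_surjective _).1 (this.epi _)
  exact Groth.Agent.DerSeq.exists_long_exact key F

end Groth.Agent.S0873
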