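import Groth.Statements.S0884
import Groth.Agent.SpecGen.Fibre
import Groth.Agent.EtH0Lib.Spectral

set_option autoImplicit false
universe u
open CategoryTheory
open CohTop

namespace Groth.Agent.S0884

open TopologicalSpace in
/-- Let f : X -> Y be a spectral map of spectral spaces, y a point of Y, E ⊆ Y the set of points
specializing to y, and F an abelian sheaf on X. Then the stalk (R^p f_* F)_y is isomorphic to
H^p(f^{-1}(E), F|_{f^{-1}(E)}), the cohomology of the pullback of F to the subspace f^{-1}(E). -/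
theorem result {X Y : TopCat.{u}} [SpectralSpace X] [SpectralSpace Y]
    (f : X ⟶ Y) (hf : IsSpectralMap f) (y : Y) (F : CohTop.Ab X) (p : ℕ) :
    Nonempty (CohTop.stalk ((CohTop.Rpush f p).obj F) y ≃+
      CohTop.H ((CohTop.pull (TopCat.ofHom ⟨Subtype.val, continuous_subtype_val⟩ :
          TopCat.of {x : X | y ∈ closure {f x}} ⟶ X)).obj F) p) := by
  have hE : {x : X | y ∈ closure {f x}} = f ⁻¹' {w : Y | ∃ a ∈ ({y} : Set Y), w ⤳ a} := by
    ext x
    simp [specializes_iff_mem_closure]
  haveI : SpectralSpace ↥{x : X | y ∈ closure {f x}} :=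
    Groth.Agent.SpecLib.spectralSpace_of_cc (hE ▸
      (Groth.Agent.EtH0Lib.cc_generalizations_of_compact isCompact_singleton).preimage hf)
  obtain ⟨r⟩ := Groth.Agent.SpecGen.rpush_stalk f
    (TopCat.ofHom ⟨Subtype.val, continuous_subtype_val⟩ : TopCat.of {x : X | y ∈ closure {f x}} ⟶ X) y
    (fun z => specializes_iff_mem_closure.2 z.2) hf Topology.IsEmbedding.subtypeVal
    (fun x h => ⟨⟨x, specializes_iff_mem_closure.1 h⟩, rfl⟩) F p
  exact ⟨r.addCommGroupIsoToAddEquiv⟩

end Groth.Agent.S0884
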