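import Groth.Statements.S0900
import Groth.Agent.ProdQ7.Basic
import Groth.Agent.SiteCmpLib.Rlim
import Groth.Agent.H9Misc.GPDerived
import Mathlib.CategoryTheory.Triangulated.Adjunction

set_option autoImplicit false
universe v u
open CategoryTheory
open CohDer

namespace Groth.Agent.S0900

open CategoryTheory.Limits in
/-- Let F : A -> B be an additive functor between abelian categories with A Grothendieck abelian, B
having exact countable products (here: ℕ-indexed products exist and preserve epimorphisms) and F
commuting with ℕ-indexed products. Then the total right derived functor RF : D(A) -> D(B) (whose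
existence is assumed as an instance argument; it exists because A has enough K-injective complexes)
sends a derived limit of an inverse system (K_n) to a derived limit of (RF K_n). The relevant
countable products in the derived categories are assumed to exist. -/
theorem result {A : Type u} [Category.{v} A] [Abelian A] [IsGrothendieckAbelian.{v} A]
    [HasDerivedCategory.{v} A] {B : Type u} [Category.{v} B] [Abelian B] [HasDerivedCategory.{v} B]
    [HasProductsOfShape ℕ B] [(lim : (Discrete ℕ ⥤ B) ⥤ B).PreservesEpimorphisms]
    (F : A ⥤ B) [F.Additive] [PreservesLimitsOfShape (Discrete ℕ) F]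
    [(F.mapHomotopyCategory (ComplexShape.up ℤ) ⋙ DerivedCategory.Qh).HasRightDerivedFunctor
      (HomotopyCategory.quasiIso A (ComplexShape.up ℤ))]
    (K : ℕ → DerivedCategory A) (t : ∀ n, K (n + 1) ⟶ K n) (L : DerivedCategory A) [HasProduct K]
    [HasProduct fun n => ((F.mapHomotopyCategory (ComplexShape.up ℤ) ⋙ DerivedCategory.Qh).totalRightDerived
      DerivedCategory.Qh (HomotopyCategory.quasiIso A (ComplexShape.up ℤ))).obj (K n)]
    (hL : DCoh.IsRlim K t L) :
    DCoh.IsRlim
      (fun n => ((F.mapHomotopyCategory (ComplexShape.up ℤ) ⋙ DerivedCategory.Qh).totalRightDerived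
        DerivedCategory.Qh (HomotopyCategory.quasiIso A (ComplexShape.up ℤ))).obj (K n))
      (fun n => ((F.mapHomotopyCategory (ComplexShape.up ℤ) ⋙ DerivedCategory.Qh).totalRightDerived
        DerivedCategory.Qh (HomotopyCategory.quasiIso A (ComplexShape.up ℤ))).map (t n))
      (((F.mapHomotopyCategory (ComplexShape.up ℤ) ⋙ DerivedCategory.Qh).totalRightDerived
        DerivedCategory.Qh (HomotopyCategory.quasiIso A (ComplexShape.up ℤ))).obj L) := by
  have : HasExactLimitsOfShape (Discrete ℕ) B := hasExactLimitsOfShape_of_preservesEpi B (Discrete ℕ)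
  have hlA : HasLimitsOfShape (Discrete ℕ) A := inferInstance
  let W := HomotopyCategory.quasiIso A (ComplexShape.up ℤ)
  let FQ := F.mapHomotopyCategory (ComplexShape.up ℤ) ⋙ DerivedCategory.Qh
  have := Groth.Agent.H9Misc.GPDerived.qh_isLeftAdjoint A
  let adj := Adjunction.ofIsLeftAdjoint (DerivedCategory.Qh (C := A))
  letI := adj.rightAdjointCommShift ℤ
  haveI : adj.CommShift ℤ := adj.commShift_of_leftAdjoint ℤ
  haveI := adj.isTriangulated_rightAdjoint
  haveI := Groth.Agent.TriCat.isRightDerivedFunctor_of_adjunction adj W FQ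
  let RF := FQ.totalRightDerived DerivedCategory.Qh W
  let G := DerivedCategory.Qh.rightAdjoint ⋙ FQ
  let e : G ≅ RF := Functor.rightDerivedUnique G RF
    (Functor.whiskerRight adj.unit FQ : FQ ⟶ DerivedCategory.Qh ⋙ G)
    (FQ.totalRightDerivedUnit DerivedCategory.Qh W) W
  have hR : PreservesLimit (Discrete.functor K) (DerivedCategory.Qh (C := A)).rightAdjoint := inferInstance
  have hFQ : PreservesLimit (Discrete.functor K ⋙ (DerivedCategory.Qh (C := A)).rightAdjoint) FQ := by
    let Y := fun n => (DerivedCategory.Qh (C := A)).rightAdjoint.obj (K n)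
    have := Groth.Agent.ProdQ7.preservesLimit_mapHomotopyCategory F Y
    let Y' := fun n => (F.mapHomotopyCategory (ComplexShape.up ℤ)).obj (Y n)
    have := Groth.Agent.ProdQ7.preservesLimit_Qh Y'
    have e1 : Discrete.functor K ⋙ (DerivedCategory.Qh (C := A)).rightAdjoint ≅ Discrete.functor Y :=
      Discrete.natIso fun _ => Iso.refl _
    have : PreservesLimit (Discrete.functor Y ⋙ F.mapHomotopyCategory (ComplexShape.up ℤ)) (DerivedCategory.Qh (C := B)) :=
      preservesLimit_of_iso_diagram (K₁ := Discrete.functor Y') _ (Discrete.natIso fun _ => Iso.refl _)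
    have : PreservesLimit (Discrete.functor Y) FQ := comp_preservesLimit _ _
    exact preservesLimit_of_iso_diagram _ e1.symm
  have : PreservesLimit (Discrete.functor K) G := comp_preservesLimit _ _
  have : PreservesLimit (Discrete.functor K) RF := preservesLimit_of_natIso _ e
  obtain ⟨a, c, hc⟩ := hL
  have ea : Pi.lift (fun n => a ≫ Pi.π K n) = a := Pi.hom_ext _ _ fun n => Pi.lift_π _ _
  obtain ⟨c', hc'⟩ := Groth.Agent.SiteCmpLib.Rlim.isRlimVia_map RF G e K t L (fun n => a ≫ Pi.π K n)
    ⟨c, by rw [ea]; exact hc⟩
  exact ⟨_, c', hc'⟩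

end Groth.Agent.S0900
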