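import Groth.Statements.S0909
import Groth.Agent.DeligneLib.Points
import Mathlib.CategoryTheory.Sites.Coherent.RegularSheaves
import Mathlib.CategoryTheory.Sites.Coherent.RegularTopology
import Mathlib.CategoryTheory.Preadditive.Yoneda.Limits
import Mathlib.CategoryTheory.Abelian.Exact

set_option autoImplicit false
set_option backward.isDefEq.respectTransparency false
set_option linter.style.haveILetI false
universe u
open CategoryTheory
open CohDer

namespace Groth.Agent.S0909

open CategoryTheory.Limits Opposite

theorem isSheaf_preadditiveYoneda_obj {A : Type u} [SmallCategory A] [Abelian A] [Preregular A] (X : A) :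
    Presheaf.IsSheaf (regularTopology A) (preadditiveYoneda.obj X : Aᵒᵖ ⥤ AddCommGrpCat.{u}) :=
  (Presheaf.isSheaf_iff_isSheaf_forget (regularTopology A) _ (forget AddCommGrpCat)).2
    ((isSheaf_iff_isSheaf_of_type _ _).2 (regularTopology.isSheaf_yoneda_obj X))

theorem preservesFiniteLimits_preadditiveYoneda {A : Type u} [SmallCategory A] [Abelian A] :
    PreservesFiniteLimits (preadditiveYoneda : A ⥤ Aᵒᵖ ⥤ AddCommGrpCat.{u}) := by
  refine ⟨fun J _ _ => preservesLimitsOfShape_of_evaluation _ J fun k => ?_⟩
  exact inferInstanceAs (PreservesLimitsOfShape J (preadditiveCoyoneda.obj k))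

/-- Additive Yoneda as abelian sheaves. -/
noncomputable def yonedaSheaf (A : Type u) [SmallCategory A] [Abelian A] [Preregular A] :
    A ⥤ Sheaf (regularTopology A) AddCommGrpCat.{u} :=
  ObjectProperty.lift _ preadditiveYoneda (isSheaf_preadditiveYoneda_obj (A := A))

theorem epi_map {A : Type u} [SmallCategory A] [Abelian A] [Preregular A]
    {X Y : A} (p : X ⟶ Y) [Epi p] : Epi ((yonedaSheaf A).map p) := by
  haveI : Sheaf.IsLocallySurjective ((yonedaSheaf A).map p) := by
    refine ⟨fun {U} (y : U ⟶ Y) => ?_⟩
    rw [regularTopology.mem_sieves_iff_hasEffectiveEpi]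
    haveI : Epi (pullback.snd p y) := inferInstance
    haveI := IsRegularEpiCategory.regularEpiOfEpi (pullback.snd p y)
    refine ⟨pullback p y, pullback.snd p y, inferInstance, pullback.fst p y, ?_⟩
    exact pullback.condition
  exact Sheaf.epi_of_isLocallySurjective _

/-- Let A be a small abelian category, made into a site by declaring the single epimorphisms to be
coverings (Mathlib's regular topology; the regularity instance is assumed). Then the functor X ↦
h_X, viewed in abelian sheaves (here: additive Yoneda followed by sheafification, which does not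
change h_X since representables are sheaves), is fully faithful and exact, and the site has enough
points (a small conservative family of points, with fibre functors valued in Type u). -/
theorem result {A : Type u} [SmallCategory A] [Abelian A] [Preregular A] :
    (preadditiveYoneda ⋙ presheafToSheaf (regularTopology A) AddCommGrpCat.{u}).Full ∧
    (preadditiveYoneda ⋙ presheafToSheaf (regularTopology A) AddCommGrpCat.{u}).Faithful ∧
    PreservesFiniteLimits (preadditiveYoneda ⋙ presheafToSheaf (regularTopology A) AddCommGrpCat.{u}) ∧
    PreservesFiniteColimits (preadditiveYoneda ⋙ presheafToSheaf (regularTopology A) AddCommGrpCat.{u}) ∧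
    GrothendieckTopology.HasEnoughPoints.{u, u, u} (regularTopology A) := by
  let L : A ⥤ Sheaf (regularTopology A) AddCommGrpCat.{u} := yonedaSheaf A
  let iso : preadditiveYoneda ⋙ presheafToSheaf (regularTopology A) AddCommGrpCat.{u} ≅ L :=
    Functor.isoWhiskerLeft L (asIso (sheafificationAdjunction (regularTopology A) AddCommGrpCat.{u}).counit)
  haveI : L.Full := inferInstanceAs (ObjectProperty.lift _ _ _).Full
  haveI : L.Faithful := inferInstanceAs (ObjectProperty.lift _ _ _).Faithful
  haveI : PreservesFiniteLimits (preadditiveYoneda : A ⥤ Aᵒᵖ ⥤ AddCommGrpCat.{u}) := preservesFiniteLimits_preadditiveYoneda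
  haveI hlim : PreservesFiniteLimits L := by
    refine ⟨fun J _ _ => ?_⟩
    haveI : PreservesLimitsOfShape J (L ⋙ sheafToPresheaf _ _) :=
      inferInstanceAs (PreservesLimitsOfShape J (preadditiveYoneda : A ⥤ Aᵒᵖ ⥤ AddCommGrpCat.{u}))
    exact preservesLimitsOfShape_of_reflects_of_preserves L (sheafToPresheaf _ _)
  haveI : PreservesBinaryBiproducts L := preservesBinaryBiproducts_of_preservesBinaryProducts L
  haveI : L.Additive := Functor.additive_of_preservesBinaryBiproducts _
  haveI : L.PreservesEpimorphisms := ⟨fun {X Y} p hp => epi_map p⟩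
  haveI := Functor.preservesHomology_of_preservesEpis_and_kernels L
  haveI hcolim : PreservesFiniteColimits L := Functor.preservesFiniteColimits_of_preservesHomology L
  refine ⟨Functor.Full.of_iso iso.symm, Functor.Faithful.of_iso iso.symm,
    ⟨fun J _ _ => preservesLimitsOfShape_of_natIso iso.symm⟩,
    ⟨fun J _ _ => preservesColimitsOfShape_of_natIso iso.symm⟩, ?_⟩
  haveI : HasFiniteLimits A := inferInstance
  refine Groth.Agent.DeligneLib.hasEnoughPoints fun U S hS => ?_
  obtain ⟨Y, π, hπ, hSπ⟩ := (regularTopology.mem_sieves_iff_hasEffectiveEpi S).1 hS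
  exact ⟨1, fun _ => Y, fun _ => π, fun _ => hSπ,
    (regularTopology.mem_sieves_iff_hasEffectiveEpi _).2 ⟨Y, π, hπ, Sieve.ofArrows_mk (fun _ : Fin 1 => Y) (fun _ => π) 0⟩⟩

end Groth.Agent.S0909
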