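import Groth.Statements.S0930
import Groth.Agent.SiteBase.Top
import Groth.Agent.QCoh.RpushAbGod
import Groth.Agent.H9Misc.PlusComp

set_option autoImplicit false
universe u
open CategoryTheory
attribute [local instance] HasDerivedCategory.standard
open CohTop

namespace Groth.Agent.S0930
set_option backward.isDefEq.respectTransparency false
set_option backward.isDefEq.respectTransparency.types false
set_option linter.style.haveILetI false
set_option maxHeartbeats 800000
open CategoryTheory.Limits

/-- For continuous maps f : X -> Y and g : Y -> Z, the composite of the right derived functors Rf_* :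
D^+(X) -> D^+(Y) and Rg_* : D^+(Y) -> D^+(Z) is isomorphic to R(g ∘ f)_* (existence of an
isomorphism of functors between bounded below derived categories). -/
theorem result {X Y Z : TopCat.{u}} (f : X ⟶ Y) (g : Y ⟶ Z) :
    Nonempty ((CohTop.push f).rightDerivedFunctorPlus ⋙ (CohTop.push g).rightDerivedFunctorPlus ≅
      (CohTop.push (f ≫ g)).rightDerivedFunctorPlus) := by
  haveI : (CohTop.push f).Additive := { }
  haveI : (CohTop.push g).Additive := { }
  haveI : (CohTop.push (f ≫ g)).Additive := { }
  haveI := QCoh.Ab.push_preservesFiniteLimits g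
  have hFG : ∀ I : CohTop.Ab X, Injective I → IsIso ((CohTop.push g).rightDerivedFunctorPlusUnit.app
      ((HomotopyCategory.Plus.singleFunctor (CohTop.Ab Y) 0).obj ((CohTop.push f).obj I))) := fun I hI => by
    haveI := hI
    haveI : Injective ((CohTop.push f).obj I) := SiteBase.injective_push f I
    refine (TriCat.isIso_unit_single_iff (CohTop.push g) _).2 ⟨?_, fun i hi =>
      TriCat.isRightAcyclic_of_injective (F := CohTop.push g) ((CohTop.push f).obj I) i hi⟩
    infer_instance
  let c : (CohTop.push (f ≫ g)).mapHomotopyCategoryPlus ≅
      (CohTop.push f).mapHomotopyCategoryPlus ⋙ (CohTop.push g).mapHomotopyCategoryPlus :=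
    (Functor.mapHomotopyCategoryPlusCompIso (show CohTop.push f ⋙ CohTop.push g ≅ CohTop.push (f ≫ g) from Iso.refl _)).symm
  haveI := H9Misc.PlusComp.isRightDerived (CohTop.push f) (CohTop.push g) hFG c
  exact ⟨Functor.rightDerivedUnique _ _
    (Functor.whiskerRight c.hom DerivedCategory.Plus.Qh
        ≫ (Functor.associator _ _ _).hom
        ≫ Functor.whiskerLeft (CohTop.push f).mapHomotopyCategoryPlus (CohTop.push g).rightDerivedFunctorPlusUnit
        ≫ (Functor.associator _ _ _).inv
        ≫ Functor.whiskerRight (CohTop.push f).rightDerivedFunctorPlusUnit (CohTop.push g).rightDerivedFunctorPlus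
        ≫ (Functor.associator _ _ _).hom)
    (CohTop.push (f ≫ g)).rightDerivedFunctorPlusUnit (HomotopyCategory.Plus.quasiIso _)⟩

end Groth.Agent.S0930
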