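import Groth.Statements.S0936
import Groth.Agent.CompactGen.Bounded
import Groth.Agent.SiteBase.EH

set_option autoImplicit false
universe u
open CategoryTheory
open CohSite

namespace Groth.Agent.S0936
set_option backward.isDefEq.respectTransparency false
set_option linter.style.haveILetI false
open Groth.Agent

open Opposite CategoryTheory.Limits in
/-- Abelian sheaves, O = Z: let U be an object of a site such that each functor F ↦ H^p(U, F) on abelian
sheaves preserves direct sums. Then for every family (M_i) of objects of the derived category of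
abelian sheaves which is uniformly bounded below and whose direct sum exists, the canonical map ⊕_i
Hom(Z[h_U]^#, M_i) -> Hom(Z[h_U]^#, ⊕_i M_i) is bijective. -/
theorem result {C : Type u} [SmallCategory C] (J : GrothendieckTopology C)
    (U : C) [HasDerivedCategory.{u} (Sheaf J AddCommGrpCat.{u})]
    (h : ∀ (p : ℕ) (ι : Type u), PreservesColimitsOfShape (Discrete ι)
      ((Sheaf.cohomologyPresheafFunctor J p).flip.obj (op U)))
    {I : Type u} (M : I → DerivedCategory (Sheaf J AddCommGrpCat.{u})) [HasCoproduct M] (a : ℤ)
    (hM : ∀ i, (M i).IsGE a) :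
    Function.Bijective (CohDer.homSumToHomCoprod
      ((DerivedCategory.singleFunctor (Sheaf J AddCommGrpCat.{u}) 0).obj (CohCx.freeSheaf J U)) M) := by
  classical
  have hcH : ∀ (p : ℕ) (N : I → Sheaf J AddCommGrpCat.{u}),
      IsIso (sigmaComparison ((Sheaf.cohomologyPresheafFunctor J p).flip.obj (op U)) N) := fun p N => by
    haveI := h p I
    infer_instance
  let Q : Sheaf J AddCommGrpCat.{u} → Prop := fun F => ∀ p : ℕ, Subsingleton (SiteBase.EH F (p + 1) U)
  have hfin : ∀ (N : I → Sheaf J AddCommGrpCat.{u}) (g : CohCx.freeSheaf J U ⟶ ∐ N),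
      ∃ F : Finset I, g ≫ Groth.Agent.CompactGen.partProj N F = g := by
    intro N g
    let H := (Sheaf.cohomologyPresheafFunctor J 0).flip.obj (op U)
    let S : AddSubgroup ↑(∐ fun i => H.obj (N i)) :=
      { carrier := {x | ∃ F : Finset I, (Groth.Agent.CompactGen.partProj (fun i => H.obj (N i)) F).hom x = x}
        zero_mem' := ⟨∅, map_zero _⟩
        add_mem' := by
          rintro x y ⟨F, hF⟩ ⟨G, hG⟩
          have key : ∀ (A B : Finset I) (z), A ⊆ B →
              (Groth.Agent.CompactGen.partProj (fun i => H.obj (N i)) A).hom z = z →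
              (Groth.Agent.CompactGen.partProj (fun i => H.obj (N i)) B).hom z = z := fun A B z hAB hz => by
            rw [← hz]
            exact ConcreteCategory.congr_hom
              (Groth.Agent.CompactGen.partProj_comp (fun i => H.obj (N i)) hAB) z
          exact ⟨F ∪ G, by
            rw [map_add, key F _ x Finset.subset_union_left hF, key G _ y Finset.subset_union_right hG]⟩
        neg_mem' := by
          rintro x ⟨F, hF⟩
          exact ⟨F, by rw [map_neg, hF]⟩ }
    have hS : ∀ x, x ∈ S := fun x => by
      have hq : AddCommGrpCat.ofHom (QuotientAddGroup.mk' S) = 0 := by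
        refine Sigma.hom_ext _ _ fun i => ?_
        rw [comp_zero]
        ext y
        refine (QuotientAddGroup.eq_zero_iff _).2 ⟨{i}, ?_⟩
        exact ConcreteCategory.congr_hom
          (Groth.Agent.CompactGen.ι_partProj_mem (fun i => H.obj (N i)) (Finset.mem_singleton_self i)) y
      exact (QuotientAddGroup.eq_zero_iff x).1 (ConcreteCategory.congr_hom hq x)
    haveI := hcH 0 N
    let g' : ↑(H.obj (∐ N)) := Abelian.Ext.mk₀ g
    obtain ⟨F, hF⟩ := hS ((inv (sigmaComparison H N)).hom g')
    refine ⟨F, (Abelian.Ext.mk₀_bijective _ _).1 ?_⟩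
    haveI : H.PreservesZeroMorphisms := ⟨fun F G => by
      ext x
      show (show Abelian.Ext _ F 0 from x).comp (Abelian.Ext.mk₀ (0 : F ⟶ G)) (add_zero 0) = 0
      rw [Abelian.Ext.mk₀_zero, Abelian.Ext.comp_zero]⟩
    have h1 : (H.map (Groth.Agent.CompactGen.partProj N F)).hom g' = g' := by
      conv_lhs => rw [← show (sigmaComparison H N).hom ((inv (sigmaComparison H N)).hom g') = g' from
        ConcreteCategory.congr_hom (IsIso.inv_hom_id (sigmaComparison H N)) g']
      rw [← ConcreteCategory.comp_apply, Groth.Agent.CompactGen.sigmaComparison_partProj N H F,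
        ConcreteCategory.comp_apply, hF]
      exact ConcreteCategory.congr_hom (IsIso.inv_hom_id (sigmaComparison H N)) g'
    rw [← Abelian.Ext.mk₀_comp_mk₀]
    exact h1
  have hG : Groth.Agent.CompactGen.Setup (CohCx.freeSheaf J U) I :=
    { Q := Q
      iso := fun {F G} e hF p => by
        refine subsingleton_of_forall_eq 0 fun x => ?_
        have hx : x = ((x.comp (Abelian.Ext.mk₀ e.inv) (add_zero _)).comp (Abelian.Ext.mk₀ e.hom) (add_zero _)) := by
          rw [Abelian.Ext.comp_assoc_of_second_deg_zero, Abelian.Ext.mk₀_comp_mk₀, e.inv_hom_id,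
            Abelian.Ext.comp_mk₀_id]
        rw [hx, show x.comp (Abelian.Ext.mk₀ e.inv) (add_zero _) = 0 from (hF p).elim _ _, Abelian.Ext.zero_comp]
      inj := fun F _ p => Groth.Agent.SiteBase.subsingleton_EH_of_injective F U p
      sum := fun N _ p => by
        haveI := hcH (p + 1) N
        have hz : IsZero (∐ fun i => ((Sheaf.cohomologyPresheafFunctor J (p + 1)).flip.obj (op U)).obj (N i)) := by
          rw [IsZero.iff_id_eq_zero]
          refine Sigma.hom_ext _ _ fun i => ?_
          haveI : Subsingleton ↑(((Sheaf.cohomologyPresheafFunctor J (p + 1)).flip.obj (op U)).obj (N i)) :=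
            Groth.Agent.SiteBase.subsingleton_EH_of_injective (N i) U p
          ext y
          rw [Subsingleton.elim y 0, map_zero, map_zero]
        exact AddCommGrpCat.subsingleton_of_isZero
          (hz.of_iso (asIso (sigmaComparison ((Sheaf.cohomologyPresheafFunctor J (p + 1)).flip.obj (op U)) N)).symm)
      X₃ := fun {S} hS h1 h2 p => Groth.Agent.SiteBase.subsingleton_EH_X₃ hS U (p + 1) (h1 (p + 1)) (h2 p)
      lift := fun {S} hS h1 φ => by
        obtain ⟨s, hs⟩ := Groth.Agent.SiteBase.sections_surjective_of_EH_one hS U (h1 0)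
          (Groth.Agent.SiteBase.secEquiv J U _ φ)
        refine ⟨(Groth.Agent.SiteBase.secEquiv J U _).symm s, ?_⟩
        rw [Groth.Agent.SiteBase.secEquiv_symm_comp, hs, AddEquiv.symm_apply_apply]
      fix := hfin }
  exact Groth.Agent.CompactGen.bijective_singleFunctor hG M a hM

end Groth.Agent.S0936
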