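import Groth.Statements.S0946
import Groth.Agent.SoftTop.Nhd

set_option autoImplicit false
universe u
open CategoryTheory
open CohTop

namespace Groth.Agent.S0946

open TopologicalSpace Opposite CategoryTheory.Limits in
/-- Take a quasi-compact subset Z of a topological space X whose points are pairwise separated by
disjoint opens of X, and an abelian sheaf F on X. For every p the group H^p(Z, F|_Z) (cohomology of
the pullback of F to the subspace Z) is isomorphic to the colimit of the groups H^p(U, F) over the
open neighbourhoods U of Z (existence of an isomorphism with the colimit of the cohomology presheaf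
restricted to the opens containing Z). -/
theorem result {X : TopCat.{u}} (Z : Set X) (hZ : IsCompact Z)
    (hsep : ∀ x ∈ Z, ∀ y ∈ Z, x ≠ y → ∃ U V : Opens X, x ∈ U ∧ y ∈ V ∧ Disjoint U V)
    (F : CohTop.Ab X) (p : ℕ) :
    Nonempty ((colimit (ObjectProperty.ι (fun U : (Opens X)ᵒᵖ => Z ⊆ (U.unop : Set X)) ⋙
        (Sheaf.cohomologyPresheafFunctor (Opens.grothendieckTopology X) p).obj F) : AddCommGrpCat.{u}) ≃+
      CohTop.H ((CohTop.pull (TopCat.ofHom ⟨Subtype.val, continuous_subtype_val⟩ : TopCat.of Z ⟶ X)).obj F) p) := by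
  haveI : CompactSpace Z := isCompact_iff_compactSpace.mp hZ
  obtain ⟨e⟩ := SoftTop.colim_cohomology Z
    (TopCat.ofHom ⟨Subtype.val, continuous_subtype_val⟩ : TopCat.of Z ⟶ X) (fun w => w.2)
    Topology.IsEmbedding.subtypeVal (fun x hx => ⟨⟨x, hx⟩, rfl⟩)
    (fun a b h => by
      obtain ⟨U, V, hU, hV, hd⟩ := hsep a a.2 b b.2 (fun e => h (Subtype.ext e))
      refine ⟨U, V, U.isOpen, V.isOpen, hU, hV, ?_⟩
      rw [disjoint_iff] at hd
      rw [Set.disjoint_iff_inter_eq_empty]
      simpa using congrArg (SetLike.coe) hd) F p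
  exact ⟨e.addCommGroupIsoToAddEquiv⟩

end Groth.Agent.S0946
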