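import Groth.Statements.S0947
import Groth.Agent.SpecGen.Nhd
import Groth.Agent.EtH0Lib.Spectral

set_option autoImplicit false
universe u
open CategoryTheory
open CohTop

namespace Groth.Agent.S0947

open TopologicalSpace Opposite CategoryTheory.Limits in
/-- Let X be a spectral space, F an abelian sheaf on X, E ⊆ X a quasi-compact subset and W the set of
points of X specializing to some point of E. Then for every p the group H^p(W, F|_W) (cohomology of
the pullback of F to the subspace W) is isomorphic to the colimit of the groups H^p(U, F) over the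
quasi-compact open neighbourhoods U of E (existence of an isomorphism). -/
theorem result {X : TopCat.{u}} [SpectralSpace X] (E : Set X)
    (hE : IsCompact E) (F : CohTop.Ab X) (p : ℕ) :
    Nonempty ((colimit (ObjectProperty.ι (fun U : (Opens X)ᵒᵖ => E ⊆ (U.unop : Set X) ∧ IsCompact (U.unop : Set X)) ⋙
        (Sheaf.cohomologyPresheafFunctor (Opens.grothendieckTopology X) p).obj F) : AddCommGrpCat.{u}) ≃+
      CohTop.H ((CohTop.pull (TopCat.ofHom ⟨Subtype.val, continuous_subtype_val⟩ :
        TopCat.of {x : X | ∃ e ∈ E, e ∈ closure {x}} ⟶ X)).obj F) p) := by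
  have hW : {x : X | ∃ e ∈ E, e ∈ closure {x}} = {x : X | ∃ a ∈ E, x ⤳ a} := by
    ext x
    simp only [Set.mem_ofPred_eq, specializes_iff_mem_closure]
  haveI : SpectralSpace ↥{x : X | ∃ e ∈ E, e ∈ closure {x}} :=
    Groth.Agent.SpecLib.spectralSpace_of_cc (hW ▸ Groth.Agent.EtH0Lib.cc_generalizations_of_compact hE)
  obtain ⟨r⟩ := Groth.Agent.SpecGen.colim_cohomology E
    (TopCat.ofHom ⟨Subtype.val, continuous_subtype_val⟩ :
      TopCat.of {x : X | ∃ e ∈ E, e ∈ closure {x}} ⟶ X)
    (fun w => by
      obtain ⟨e, he, h⟩ := w.2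
      exact ⟨e, he, specializes_iff_mem_closure.2 h⟩)
    Topology.IsEmbedding.subtypeVal (fun x hx => ⟨⟨x, x, hx, subset_closure rfl⟩, rfl⟩) hE
    (fun x a h => by
      obtain ⟨e, he, h'⟩ := a.2
      exact ⟨⟨x, e, he, specializes_iff_mem_closure.1 (h.trans (specializes_iff_mem_closure.2 h'))⟩, rfl⟩)
    F p
  exact ⟨r.addCommGroupIsoToAddEquiv⟩

end Groth.Agent.S0947
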