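import Groth.Statements.S0983
import Mathlib.CategoryTheory.Triangulated.Triangulated

set_option autoImplicit false
universe v u
open CategoryTheory
open CohDer

namespace Groth.Agent.S0983

open CategoryTheory.Pretriangulated in
/-- In a triangulated category, a commutative square f ≫ v = u ≫ f' (with f : X ⟶ Y, f' : X' ⟶ Y', u : X
⟶ X', v : Y ⟶ Y') extends to a diagram with three distinguished rows (X, Y, Z), (X', Y', Z'), (X'',
Y'', Z'') and three distinguished columns (X, X', X''), (Y, Y', Y''), (Z, Z', Z''), in which all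
squares commute except the one formed by the third morphisms of the last row and last column, which
anticommutes; the fourth row and column are the shifts of the first ones. -/
theorem result {D : Type u} [Category.{v} D] [Preadditive D] [Limits.HasZeroObject D] [HasShift D ℤ]
    [∀ n : ℤ, (shiftFunctor D n).Additive] [Pretriangulated D] [IsTriangulated D]
    {X Y X' Y' : D} (f : X ⟶ Y) (f' : X' ⟶ Y') (u : X ⟶ X') (v : Y ⟶ Y') (comm : f ≫ v = u ≫ f') :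
    ∃ (Z Z' X'' Y'' Z'' : D) (g : Y ⟶ Z) (h : Z ⟶ (shiftFunctor D (1 : ℤ)).obj X)
      (g' : Y' ⟶ Z') (h' : Z' ⟶ (shiftFunctor D (1 : ℤ)).obj X')
      (f'' : X'' ⟶ Y'') (g'' : Y'' ⟶ Z'') (h'' : Z'' ⟶ (shiftFunctor D (1 : ℤ)).obj X'')
      (u' : X' ⟶ X'') (u'' : X'' ⟶ (shiftFunctor D (1 : ℤ)).obj X)
      (v' : Y' ⟶ Y'') (v'' : Y'' ⟶ (shiftFunctor D (1 : ℤ)).obj Y)
      (w : Z ⟶ Z') (w' : Z' ⟶ Z'') (w'' : Z'' ⟶ (shiftFunctor D (1 : ℤ)).obj Z),
      Triangle.mk f g h ∈ distinguishedTriangles ∧ Triangle.mk f' g' h' ∈ distinguishedTriangles ∧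
      Triangle.mk f'' g'' h'' ∈ distinguishedTriangles ∧
      Triangle.mk u u' u'' ∈ distinguishedTriangles ∧ Triangle.mk v v' v'' ∈ distinguishedTriangles ∧
      Triangle.mk w w' w'' ∈ distinguishedTriangles ∧
      g ≫ w = v ≫ g' ∧ h ≫ (shiftFunctor D (1 : ℤ)).map u = w ≫ h' ∧
      f' ≫ v' = u' ≫ f'' ∧ g' ≫ w' = v' ≫ g'' ∧ h' ≫ (shiftFunctor D (1 : ℤ)).map u' = w' ≫ h'' ∧
      f'' ≫ v'' = u'' ≫ (shiftFunctor D (1 : ℤ)).map f ∧ g'' ≫ w'' = v'' ≫ (shiftFunctor D (1 : ℤ)).map g ∧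
      h'' ≫ (shiftFunctor D (1 : ℤ)).map u'' = -(w'' ≫ (shiftFunctor D (1 : ℤ)).map h) := by
  obtain ⟨Z, g, h, hf⟩ := Pretriangulated.distinguished_cocone_triangle f
  obtain ⟨Z', g', h', hf'⟩ := Pretriangulated.distinguished_cocone_triangle f'
  obtain ⟨X'', u', u'', hu⟩ := Pretriangulated.distinguished_cocone_triangle u
  obtain ⟨Y'', v', v'', hv⟩ := Pretriangulated.distinguished_cocone_triangle v
  obtain ⟨W, dv, dw, hd⟩ := Pretriangulated.distinguished_cocone_triangle (f ≫ v)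
  let O₁ := Triangulated.someOctahedron rfl hf hv hd
  let O₂ := Triangulated.someOctahedron comm.symm hu hf' hd
  obtain ⟨Z'', w', w'', hw⟩ := Pretriangulated.distinguished_cocone_triangle (O₁.m₁ ≫ O₂.m₃)
  let O₃ := Triangulated.someOctahedron rfl O₁.mem
    (Pretriangulated.rot_of_distTriang _ O₂.mem) hw
  have c₄ : w'' ≫ (shiftFunctor D (1 : ℤ)).map O₁.m₁ =
      O₃.m₃ ≫ (-((shiftFunctor D (1 : ℤ)).map O₂.m₁)) := O₃.comm₄
  have c₃ : w' ≫ O₃.m₃ = h' ≫ (shiftFunctor D (1 : ℤ)).map u' := O₃.comm₃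
  refine ⟨Z, Z', X'', Y'', Z'', g, h, g', h', O₂.m₁ ≫ O₁.m₃, O₃.m₁, O₃.m₃, u', u'', v', v'',
    O₁.m₁ ≫ O₂.m₃, w', w'', hf, hf', ?_, hu, hv, hw, ?_, ?_, ?_, ?_, c₃.symm, ?_, O₃.comm₂, ?_⟩
  · refine (Pretriangulated.rotate_distinguished_triangle _).2
      (Pretriangulated.isomorphic_distinguished _ O₃.mem _ (Pretriangulated.Triangle.isoMk _ _
        (Iso.refl _) (Iso.refl _) (Iso.refl _) ?_ ?_ ?_))
    · exact (Category.comp_id _).trans (Category.id_comp _).symm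
    · exact (Category.comp_id _).trans (Category.id_comp _).symm
    · show (-((shiftFunctor D (1 : ℤ)).map (O₂.m₁ ≫ O₁.m₃))) ≫ (shiftFunctor D (1 : ℤ)).map (𝟙 _) =
        𝟙 _ ≫ ((-(shiftFunctor D (1 : ℤ)).map O₂.m₁) ≫ (shiftFunctor D (1 : ℤ)).map O₁.m₃)
      simp
  · rw [reassoc_of% O₁.comm₁, O₂.comm₃]
  · rw [Category.assoc, ← O₂.comm₄, reassoc_of% O₁.comm₂]
  · rw [reassoc_of% O₂.comm₁, O₁.comm₃]
  · calc g' ≫ w' = (dv ≫ O₂.m₃) ≫ w' := by rw [O₂.comm₃]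
      _ = dv ≫ (O₁.m₃ ≫ O₃.m₁) := by rw [Category.assoc]; exact congrArg (dv ≫ ·) O₃.comm₁.symm
      _ = v' ≫ O₃.m₁ := by rw [← Category.assoc, O₁.comm₃]
  · rw [Category.assoc, ← O₁.comm₄, reassoc_of% O₂.comm₂]
  · calc _ = O₃.m₃ ≫ (shiftFunctor D (1 : ℤ)).map (O₂.m₁ ≫ dw) := congrArg _ (congrArg _ O₂.comm₂.symm)
      _ = -((w'' ≫ (shiftFunctor D (1 : ℤ)).map O₁.m₁) ≫ (shiftFunctor D (1 : ℤ)).map dw) := by
          rw [c₄]
          erw [Preadditive.comp_neg, Preadditive.neg_comp, neg_neg, Category.assoc, Functor.map_comp]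
          rfl
      _ = _ := by
          rw [Category.assoc, ← Functor.map_comp, O₁.comm₂]

end Groth.Agent.S0983
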