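import Groth.Statements.S1001
import Groth.Agent.PerfGen7.RpushCohBound

set_option autoImplicit false
universe u
open CategoryTheory CategoryTheory.Limits AlgebraicGeometry
attribute [local instance] HasDerivedCategory.standard
open Perf

namespace Groth.Agent.S1001

/-- Let S be a Noetherian scheme, f : X ⟶ S locally of finite type, and E ∈ D(O_X) bounded with coherent
cohomology sheaves Hⁱ(E) whose supports are proper over S. Assuming Rf_* exists on the unbounded
derived category, Rf_*E is bounded with coherent cohomology sheaves. -/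
theorem result {X S : Scheme.{u}} [IsNoetherian S] (f : X ⟶ S) [LocallyOfFiniteType f]
    [DCoh.HasRpush f] (E : DCoh.D X) (a b : ℤ) [E.IsGE a] [E.IsLE b] (hE : DCoh.IsCohD E)
    (hsupp : ∀ i : ℤ, ClSub.IsProperOver f (CohB1.support (DCoh.HD E i))) :
    DCoh.IsCohD ((DCoh.Rpush f).obj E) ∧ ((DCoh.Rpush f).obj E).IsGE a ∧ ∃ b' : ℤ, ((DCoh.Rpush f).obj E).IsLE b' := by
  refine ⟨Groth.Agent.PerfGen7.isCohD_rpush_of_isGE f E a fun i => ⟨hE i, Or.inr (hsupp i)⟩,
    Groth.Agent.KFlatLib.isGE_rpush f E a,
    Groth.Agent.PerfGen7.exists_isLE_rpush_of_support f E (fun i => (hE i).1) b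
      (⋃ i ∈ Set.Icc a b, CohB1.support (DCoh.HD E i))
      ((Set.finite_Icc a b).isClosed_biUnion fun i _ => (hsupp i).1)
      ((Set.finite_Icc a b).isCompact_biUnion fun i _ =>
        Groth.Agent.PerfGen7.isCompact_of_isProperOver f (hsupp i)) fun i => ?_⟩
  by_cases hi : i ∈ Set.Icc a b
  · exact Set.subset_biUnion_of_mem (u := fun i => CohB1.support (DCoh.HD E i)) hi
  · rw [Groth.Agent.QCoh.support_eq_empty_of_isZero ?_ (hE i).1]
    · exact Set.empty_subset _
    rcases not_and_or.1 hi with h | h
    · exact DerivedCategory.isZero_of_isGE E a i (not_le.1 h)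
    · exact DerivedCategory.isZero_of_isLE E b i (not_le.1 h)

end Groth.Agent.S1001
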