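import Groth.Statements.S10010
import Groth.Agent.AlgSpDec.LimEventImm
import Groth.Agent.AlgSpDec.LimOpen
import Groth.Agent.AlgSpDec.PointsSpectral
import Groth.Agent.AlgSpDec.MonoRep
import Groth.Agent.AlgSpLib.LargestOpen

set_option autoImplicit false
universe u
open CategoryTheory CategoryTheory.Limits AlgebraicGeometry
open AlgSp

namespace Groth.Agent.S10010

set_option backward.isDefEq.respectTransparency false
set_option backward.isDefEq.respectTransparency.types false

open Opposite AlgSp Groth.Agent.AlgSpLib Groth.Agent.AlgSpPts Groth.Agent.AlgSpDec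

theorem exists_qc_open_nbhd {S : Scheme.{u}} {F : Sp S} (hF : IsAlgSpace F) {K : Set (Points F)} (hK : IsCompact K) :
    ∃ (V : Sp S) (j : V ⟶ F), IsAlgSpace V ∧ RepWith @IsOpenImmersion j ∧ IsQuasiCompactSp V ∧
      K ⊆ Set.range (Points.map j) := by
  choose U a u hU ha hu using fun x : Points F => exists_affine_chart_at hF x
  obtain ⟨s, hs⟩ := hK.elim_finite_subcover (fun x => Set.range (Points.ofPt (a x)))
    (fun x => (isOpenMap_ofPt (ha x)).isOpen_range) (fun x _ => Set.mem_iUnion.2 ⟨x, u x, hu x⟩)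
  have hO : IsOpen (⋃ x ∈ s, Set.range (Points.ofPt (a x))) :=
    isOpen_biUnion fun x _ => (isOpenMap_ofPt (ha x)).isOpen_range
  obtain ⟨V, j, hV, hj, hr⟩ := exists_open_subspace hF hO
  refine ⟨V, j, hV, hj, ?_, hr ▸ hs⟩
  haveI : CompactSpace (Points V) := by
    refine ⟨?_⟩
    rw [(isOpenEmbedding_map' hF hj).isEmbedding.isCompact_iff, Set.image_univ, hr]
    refine s.finite_toSet.isCompact_biUnion fun x _ => ?_
    haveI : IsAffine (U x).left := hU x
    exact isCompact_range (Points.continuous_ofPt (a x))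
  exact isQuasiCompactSp_of_compactSpace hV

theorem isPullback_of_comp_mono {C : Type*} [Category C] {P X Y Z W : C} {f : P ⟶ X} {g : P ⟶ Y} {h : X ⟶ Z}
    {k : Y ⟶ Z} (m : Z ⟶ W) [Mono m] (sq : IsPullback f g (h ≫ m) (k ≫ m)) : IsPullback f g h k :=
  ⟨⟨(cancel_mono m).1 (by rw [Category.assoc, Category.assoc, sq.w])⟩,
    ⟨PullbackCone.IsLimit.mk _ (fun s => sq.lift s.fst s.snd (by rw [reassoc_of% s.condition]))
      (fun s => sq.lift_fst _ _ _) (fun s => sq.lift_snd _ _ _)
      (fun s l h₁ h₂ => sq.hom_ext (by rw [sq.lift_fst]; exact h₁) (by rw [sq.lift_snd]; exact h₂))⟩⟩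

/-- Let `S` be a quasi-separated scheme, `B` an algebraic space over `S`, and `X` the limit, in fppf
sheaves, of a cofiltered system `(X_i)` of algebraic spaces over `B`, each quasi-separated over `S`,
whose transition maps are affine; let `y : Y ⟶ X` be an immersion from a quasi-compact algebraic
space `Y` whose structure map to `B` is locally of finite type. Then, for all `i` mapping to some
`i₀`, the composite `Y ⟶ X ⟶ X_i` is an immersion. (The published statement allows any base scheme
and uses absolute quasi-separatedness; this row assumes the base quasi-separated, over which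
quasi-separatedness relative to the base is the absolute notion.) -/
theorem result (S : Scheme.{u}) [QuasiSeparatedSpace S] {I : Type u} [SmallCategory I] [IsCofiltered I]
    (B : AlgSp.Space S) (D : I ⥤ AlgSp.Sp S) (hD : ∀ i, AlgSp.IsAlgSpace (D.obj i))
    (t : D ⟶ (Functor.const I).obj B.obj)
    (hDa : ∀ (i j : I) (φ : i ⟶ j), AlgSp.IsAffineMor (D.map φ))
    (c : Cone D) (hc : IsLimit c)
    (hqs : ∀ i, AlgSp.IsQuasiSeparatedSp (D.obj i))
    (Y : AlgSp.Space S) (hYqc : AlgSp.IsQuasiCompactSp Y.obj) (y : Y.obj ⟶ c.pt) (hy : AlgSp.RepWith @IsImmersion y) (i₁ : I)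
    (hYB : AlgSp.LocP @LocallyOfFiniteType (y ≫ c.π.app i₁ ≫ t.app i₁)) :
    ∃ i₀ : I, ∀ (i : I) (_ : i ⟶ i₀), AlgSp.RepWith @IsImmersion (y ≫ c.π.app i) := by
  haveI : CompactSpace (Points Y.obj) := compactSpace_points hYqc
  obtain ⟨V₁, jV, hV₁, hjV, hV₁qc, hK⟩ := exists_qc_open_nbhd (hD i₁)
    (isCompact_range (Points.continuous_map (y ≫ c.π.app i₁)))
  haveI := mono_of_openImm hjV
  obtain ⟨y₁, hy₁⟩ := exists_lift_openImmersion Y.property hV₁ (hD i₁) hjV _ hK
  obtain ⟨Z, a₀, hZ, ha₀, has₀⟩ := AlgSpDec.exists_affine_atlas hV₁qc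
  have : IsAffine Z.left := hZ
  obtain ⟨V, b₀, hb, hbs⟩ := B.property.atlas
  obtain ⟨V', bV, U, π, v, hV', hbV, hU, _, _, hπ⟩ := exists_affine_chart_lift hb hbs (a₀ ≫ jV ≫ t.app i₁)
  have : IsAffine V'.left := hV'
  have : IsAffine U.left := hU
  let a₁ := (yon S).map π ≫ a₀
  let a := a₁ ≫ jV
  have ha₁ : RepWith @Etale a₁ := repWith_comp ((repWith_yon_map_iff _ _).2 ‹_›) ha₀
  have has₁ : RepWith @Surjective a₁ := repWith_comp ((repWith_yon_map_iff _ _).2 ‹_›) has₀
  have ha : RepWith @Etale a := repWith_comp ha₁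
    (repWith_mono (fun _ _ g (_ : IsOpenImmersion g) => (inferInstance : Etale g)) _ hjV)
  have hat : a ≫ t.app i₁ = (yon S).map v ≫ bV := by simpa [a, a₁] using hπ
  obtain ⟨W, cW, hcW, p, fst, aW, bW, sqW, hwb, hA, hWA, sqj, hfst, hp⟩ := exists_limit_square' D hDa c hc i₁ a
  let T := hy.rep.pullback fst
  let q : T ⟶ cW.pt := hy.rep.snd fst
  have sy : IsPullback (hy.rep.fst fst) ((yon S).map q) y fst := hy.rep.isPullback fst
  have sT := sy.paste_vert sqW
  have hTft : LocallyOfFiniteType (q.left ≫ p.left ≫ v.left) :=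
    hYB (hy.rep.fst fst) bV (q ≫ p ≫ v) (repWith_of_isPullback sT.flip ha) hbV (by
      rw [← Category.assoc y, ← Category.assoc, sT.w, Category.assoc, hat, Functor.map_comp, Functor.map_comp,
        Category.assoc, Category.assoc, Category.assoc])
  have hUqc : IsQuasiCompactSp ((yon S).obj U) :=
    ⟨U, 𝟙 _, repWith_of_isIso _ _, repWith_of_isIso _ _, inferInstanceAs (CompactSpace ↥U.left)⟩
  have hTqc : IsQuasiCompactSp ((yon S).obj T) :=
    isQuasiCompactMor_of_qc_qs (IsAlgSpace.yon_obj U) (hD i₁) hUqc (hqs i₁) a Y.property hYqc _ _ _ sT.flip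
  haveI : CompactSpace (Points ((yon S).obj T)) := compactSpace_points hTqc
  haveI : CompactSpace ↥T.left := (Points.schemeHomeo T).symm.compactSpace
  have : ∀ j, IsAffine ((W ⋙ Over.forget S).obj j) := hWA
  have : IsAffine ((Over.forget S).mapCone cW).pt := hA
  have := IsCofiltered.isConnected (Over i₁)
  have : IsImmersion q.left := hy.property_snd fst
  have : ∀ j, LocallyOfFiniteType (q.left ≫ ((Over.forget S).mapCone cW).π.app j ≫ (bW j ≫ v).left) := fun j => by
    have : q.left ≫ ((Over.forget S).mapCone cW).π.app j ≫ (bW j ≫ v).left = q.left ≫ p.left ≫ v.left := by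
      rw [hp j]
      simp
    rw [this]
    exact hTft
  obtain ⟨j, hj⟩ := LimImm.exists_immersion_stage ((Over.forget S).mapCone cW)
    (isLimitOfPreserves (Over.forget S) hcW) q.left (fun j => (bW j ≫ v).left)
    (fun {j k} f => congrArg (fun e : W.obj j ⟶ V' => e.left) (show W.map f ≫ bW k ≫ v = bW j ≫ v by rw [← Category.assoc, hwb]))
  refine ⟨j.left, fun i φ => ?_⟩
  let k : Over i₁ := Over.mk (φ ≫ j.hom)
  let f : k ⟶ j := Over.homMk φ rfl
  have hk : IsImmersion (q ≫ cW.π.app k).left := hj k f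
  have sk : IsPullback fst ((yon S).map (cW.π.app k)) (c.π.app i) (aW k) := by
    refine IsPullback.of_bot ?_ (hfst k) (sqj k)
    rw [← Functor.map_comp, ← hp k, c.w]
    exact sqW
  have hsq := sy.paste_vert sk
  rw [← Functor.map_comp] at hsq
  -- restrict to the open subspace
  have sP := IsPullback.of_hasPullback (D.map k.hom) jV
  have hjP : RepWith @IsOpenImmersion (pullback.fst (D.map k.hom) jV) := repWith_of_isPullback sP.flip hjV
  haveI := mono_of_openImm hjP
  let a' := sP.lift (aW k) ((yon S).map (bW k) ≫ a₁) (by rw [(sqj k).w, Category.assoc])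
  have ha'₁ : a' ≫ pullback.fst (D.map k.hom) jV = aW k := sP.lift_fst _ _ _
  have sqa : IsPullback a' ((yon S).map (bW k)) (pullback.snd (D.map k.hom) jV) a₁ :=
    IsPullback.of_right (by rw [ha'₁]; exact sqj k) (sP.lift_snd _ _ _) sP
  let y' := sP.lift (y ≫ c.π.app i) y₁ (by rw [Category.assoc, c.w, hy₁])
  have hy' : y' ≫ pullback.fst (D.map k.hom) jV = y ≫ c.π.app i := sP.lift_fst _ _ _
  rw [← hy']
  refine repWith_comp (repWith_isImmersion_of_etale_cover (repWith_of_isPullback sqa.flip ha₁)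
    (repWith_of_isPullback sqa.flip has₁) (isPullback_of_comp_mono (f := hy.rep.fst fst) (pullback.fst (D.map k.hom) jV) ?_)
    ((repWith_yon_map_iff _ _).2 hk))
    (repWith_mono (fun _ _ g (_ : IsOpenImmersion g) => inferInstanceAs (IsImmersion g)) _ hjP)
  rw [hy', ha'₁]
  exact hsq

end Groth.Agent.S10010
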