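import Groth.Statements.S10024
import Groth.Agent.AlgSpLib.LimPresLfp.Crit

set_option autoImplicit false
universe u
open CategoryTheory CategoryTheory.Limits AlgebraicGeometry
open AlgSp

namespace Groth.Agent.S10024

/-- A morphism `f : X ⟶ Y` of algebraic spaces over `S` is locally of finite presentation if and only if
it is limit preserving as a transformation of functors (relatively limit preserving: every fibre
functor over a scheme turns directed limits of affine schemes into colimits). -/
theorem result (S : Scheme.{u}) {X Y : AlgSp.Space S} (f : X ⟶ Y) :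
    AlgSp.LocP @LocallyOfFinitePresentation f.hom ↔ AlgSp.IsRelLimitPreserving f.hom.hom := by
  refine ⟨fun h => (AlgSpPts.isRelLimitPreserving_iff _).2 (AlgSpLib.LimPresLfp.relLP X.property Y.property f.hom h),
    fun h => AlgSpLib.LimPresLfp.locP_lfp_of_lifts X.property Y.property f.hom ?_⟩
  have hR := (AlgSpPts.isRelLimitPreserving_iff _).1 h
  intro I _ _ D c hc hD hT x i y hxy
  obtain ⟨k, φ, z, hz₁, hz₂⟩ := hR.surj D c hc hD hT i ((AlgSp.J S).uliftYonedaEquiv y)
    ((AlgSp.J S).uliftYonedaEquiv x) (by
      rw [AlgSpLib.uliftYonedaEquiv_precomp, ← hxy]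
      exact (GrothendieckTopology.uliftYonedaEquiv_comp _ _ _).symm)
  refine ⟨k, φ, (AlgSp.J S).uliftYonedaEquiv.symm z, ?_, ?_⟩
  · apply (AlgSp.J S).uliftYonedaEquiv.injective
    rw [← AlgSpLib.uliftYonedaEquiv_precomp, Equiv.apply_symm_apply]
    exact hz₂
  · apply (AlgSp.J S).uliftYonedaEquiv.injective
    rw [GrothendieckTopology.uliftYonedaEquiv_comp, Equiv.apply_symm_apply, ← AlgSpLib.uliftYonedaEquiv_precomp]
    exact hz₁

end Groth.Agent.S10024
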