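import Groth.Statements.S10034
import Groth.Agent.AlgSpQMod.FiniteFp

set_option autoImplicit false
set_option maxHeartbeats 400000
universe u
open CategoryTheory CategoryTheory.Limits AlgebraicGeometry
open AlgSp

namespace Groth.Agent.S10034

/-- Let `Y` be an algebraic space, quasi-compact and quasi-separated over the scheme `S`, and `f : X ⟶
Y` a finite morphism from another algebraic space. Then `X` is the limit of a directed system of
algebraic spaces `X_i`, each finite and of finite presentation over `Y`, whose transition maps are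
closed immersions (limit in fppf sheaves, indexed by a nonempty directed preorder, compatible with
`f`). (The published statement allows any base scheme and uses absolute quasi-separatedness; this
row assumes the base quasi-separated, over which quasi-separatedness relative to the base is the
absolute notion.) -/
theorem result (S : Scheme.{u}) [QuasiSeparatedSpace S]
    {X Y : AlgSp.Space S} (f : X ⟶ Y) (hf : AlgSp.IsFiniteMor f.hom) (hYqc : AlgSp.IsQuasiCompactSp Y.obj) (hYqs : AlgSp.IsQuasiSeparatedSp Y.obj) :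
    ∃ (I : Type u) (_ : Preorder I) (_ : IsDirected I (fun a b => a ≤ b)) (_ : Nonempty I) (D : Iᵒᵖ ⥤ AlgSp.Sp S)
      (t : D ⟶ (Functor.const Iᵒᵖ).obj Y.obj) (c : Cone D) (_ : IsLimit c) (e : c.pt ≅ X.obj),
      (∀ i, AlgSp.IsAlgSpace (D.obj i)) ∧ (∀ (i j : Iᵒᵖ) (φ : i ⟶ j), AlgSp.RepWith @IsClosedImmersion (D.map φ)) ∧
      (∀ i, AlgSp.IsFiniteMor (t.app i) ∧ AlgSp.IsFinitePresentationMor (t.app i)) ∧ (∀ i, e.inv ≫ c.π.app i ≫ t.app i = f.hom) := by
  obtain ⟨W, g, i, hW, hgfin, hgfp, hic, hig⟩ :=
    AlgSpQMod.exists_finite_fp X.property Y.property hYqc hYqs hf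
  have hgr : AlgSp.RepWith @IsFinite g := AlgSpDec.isFiniteMor_iff_repWith.1 hgfin
  have hga : AlgSp.RepWith @IsAffineHom g :=
    AlgSpLib.repWith_mono (fun _ _ e (_ : IsFinite e) => (inferInstance : IsAffineHom e)) _ hgr
  obtain ⟨I, pre, hdir, hne, D, t, c, hc, e, hD, hcl, ht, he⟩ := AlgSpQMod.exists_closed_limit hW
    (AlgSpDec.isQuasiCompactSp_of_affine Y.property g hga hYqc)
    (AlgSpDec.isQuasiSeparatedSp_of_affine g hga hYqs) hic
  refine ⟨I, pre, hdir, hne, D, t ≫ (Functor.const _).map g, c, hc, e, hD, hcl, fun k => ⟨?_, ?_⟩, fun k => ?_⟩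
  · exact AlgSpDec.isFiniteMor_iff_repWith.2 (AlgSpLib.repWith_comp
      (AlgSpLib.repWith_mono (fun _ _ e (_ : IsClosedImmersion e) => (inferInstance : IsFinite e)) _ (ht k).1) hgr)
  · exact AlgSpQMod.isFinitePresentationMor_comp_affine (hD k) hW Y.property
      (AlgSpQMod.repWith_affine_of_closed (ht k).1) hga (ht k).2 hgfp
  · change e.inv ≫ c.π.app k ≫ t.app k ≫ g = f.hom
    rw [← hig, ← he k]
    simp only [Category.assoc]

end Groth.Agent.S10034
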