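import Groth.Statements.S10042
import Groth.Agent.S10010
import Groth.Agent.AlgSpDec.BddFibres
import Groth.Agent.AlgSpDec.ImmCover
import Mathlib.AlgebraicGeometry.AffineSpace

set_option autoImplicit false
universe u
open CategoryTheory CategoryTheory.Limits AlgebraicGeometry
open AlgSp

namespace Groth.Agent.S10042

set_option backward.isDefEq.respectTransparency false
set_option backward.isDefEq.respectTransparency.types false

open Opposite AlgSp Groth.Agent.AlgSpLib Groth.Agent.AlgSpPts Groth.Agent.AlgSpDec CommRingCat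
open scoped TensorProduct

/-- An immersion of a compact scheme into an affine scheme is detected by finitely many functions. -/
theorem exists_finset_immersion {T M V : Scheme.{u}} [IsAffine M] [IsAffine V] [CompactSpace T] (q : T ⟶ M)
    [IsImmersion q] (r : M ⟶ V) [LocallyOfFiniteType (q ≫ r)] :
    ∃ s : Finset Γ(M, ⊤), ∀ (N : Scheme.{u}) [IsAffine N] (m : T ⟶ N) (r' : N ⟶ V), m ≫ r' = q ≫ r →
      (∀ x ∈ s, ∃ y, m.appTop y = q.appTop x) → IsImmersion m := by
  classical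
  obtain ⟨O, C, hO, hC, hOC⟩ := IsImmersion.isLocallyClosed_range (f := q)
  have hcov : ∀ x : Set.range q, ∃ f : Γ(M, ⊤), x.1 ∈ M.basicOpen f ∧ (M.basicOpen f : Set M) ⊆ O := fun x => by
    obtain ⟨_, ⟨_, ⟨f, rfl⟩, rfl⟩, hx, hle⟩ := (isBasis_basicOpen M).exists_subset_of_mem_open
      ((hOC ▸ x.2 : x.1 ∈ O ∩ C).1) hO
    exact ⟨f, hx, hle⟩
  choose f hf hfO using hcov
  obtain ⟨t, ht⟩ := (isCompact_range q.continuous).elim_finite_subcover (fun x => (M.basicOpen (f x) : Set M))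
    (fun x => (M.basicOpen (f x)).2) (fun x hx => Set.mem_iUnion.2 ⟨⟨x, hx⟩, hf _⟩)
  -- over each basic open the source is affine with finitely generated ring
  have step : ∀ i : Set.range q, ∃ s : Finset Γ(M, ⊤), ∀ (N : Scheme.{u}) [IsAffine N] (m : T ⟶ N) (r' : N ⟶ V),
      m ≫ r' = q ≫ r → ∀ y, m.appTop y = q.appTop (f i) →
      (∀ x ∈ s, ∃ z, m.appTop z = q.appTop x) → IsClosedImmersion (m ∣_ N.basicOpen y) := by
    intro i
    let D : M.Opens := M.basicOpen (f i)
    have hD : IsAffineOpen D := (isAffineOpen_top M).basicOpen (f i)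
    haveI : IsAffine D := hD
    haveI : IsClosedImmersion (q ∣_ D) := by
      haveI : IsImmersion (q ∣_ D) := IsZariskiLocalAtTarget.restrict ‹_› _
      refine IsClosedImmersion.of_isPreimmersion _ ?_
      rw [morphismRestrict_base]
      refine (congrArg IsClosed ((Set.range_restrictPreimage _ q).trans ?_)).mpr
        (hC.preimage continuous_subtype_val)
      rw [hOC]
      exact Set.ext fun w => ⟨fun h => h.2, fun h => ⟨hfO i w.2, h⟩⟩
    obtain ⟨hDT, -⟩ := IsClosedImmersion.isAffine_surjective_of_isAffine (q ∣_ D)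
    have hD' : IsAffineOpen (q ⁻¹ᵁ D) := hDT
    let ρ : Γ(T, ⊤) ⟶ Γ(T, q ⁻¹ᵁ D) := T.presheaf.map (homOfLE le_top).op
    have hq : Function.Surjective (q.app D) := by
      obtain ⟨-, h⟩ := IsClosedImmersion.isAffine_surjective_of_isAffine (q ∣_ D)
      intro z
      obtain ⟨w, hw⟩ := h ((q ⁻¹ᵁ D).topIso.inv z)
      refine ⟨D.topIso.hom w, (q ⁻¹ᵁ D).topIso.commRingCatIsoToRingEquiv.symm.injective ?_⟩
      change (q ⁻¹ᵁ D).topIso.inv (q.app D (D.topIso.hom w)) = (q ⁻¹ᵁ D).topIso.inv z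
      rw [← hw]
      simp only [← CommRingCat.comp_apply, ← CommRingCat.hom_comp]
      congr 2
      simp [morphismRestrict_appTop, Scheme.Hom.app_eq_appLE]
    haveI : IsLocalization.Away (f i) Γ(M, D) := (isAffineOpen_top M).isLocalization_basicOpen (f i)
    let σ : Γ(M, ⊤) ⟶ Γ(M, D) := M.presheaf.map (homOfLE le_top).op
    have hσ : ∀ x, q.app D (σ x) = ρ (q.appTop x) := fun x => by
      simp only [σ, ρ, ← CommRingCat.comp_apply]
      congr 2
      simp [Scheme.Hom.appTop, Scheme.Hom.app_eq_appLE, Scheme.Hom.map_appLE, Scheme.Hom.appLE_map]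
    have hV : ((q ≫ r).appLE ⊤ (q ⁻¹ᵁ D) le_top).hom.FiniteType :=
      HasRingHomProperty.appLE @LocallyOfFiniteType (q ≫ r) ‹_› ⟨⊤, isAffineOpen_top V⟩ ⟨_, hD'⟩ le_top
    letI := ((q ≫ r).appLE ⊤ (q ⁻¹ᵁ D) le_top).hom.toAlgebra
    haveI : Algebra.FiniteType Γ(V, ⊤) Γ(T, q ⁻¹ᵁ D) := hV
    obtain ⟨G, hG⟩ := Algebra.FiniteType.out (R := Γ(V, ⊤)) (A := Γ(T, q ⁻¹ᵁ D))
    have hz : ∀ z ∈ G, ∃ (x : Γ(M, ⊤)) (n : ℕ), z * ρ (q.appTop (f i)) ^ n = ρ (q.appTop x) := fun z _ => by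
      obtain ⟨w, rfl⟩ := hq z
      obtain ⟨⟨x, _, n, rfl⟩, hx⟩ := IsLocalization.surj (Submonoid.powers (f i)) w
      refine ⟨x, n, ?_⟩
      rw [← hσ, ← hσ, ← map_pow, ← map_mul, ← map_pow]
      exact congrArg (q.app D) hx
    choose xz nz hxz using hz
    refine ⟨G.attach.image fun z => xz z.1 z.2, fun N _ m r' hm y hy hs => ?_⟩
    have he : m ⁻¹ᵁ N.basicOpen y = q ⁻¹ᵁ D := by
      rw [Scheme.preimage_basicOpen_top, Scheme.preimage_basicOpen_top, hy]
    haveI : IsAffine (N.basicOpen y) := (isAffineOpen_top N).basicOpen y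
    haveI : IsAffine (m ⁻¹ᵁ N.basicOpen y) := he ▸ hD'
    let ψ : Γ(N, N.basicOpen y) ⟶ Γ(T, q ⁻¹ᵁ D) := m.appLE (N.basicOpen y) (q ⁻¹ᵁ D) he.ge
    have hψ : ∀ x, ψ (N.presheaf.map (homOfLE le_top).op x) = ρ (m.appTop x) := fun x => by
      simp only [ψ, ρ, ← CommRingCat.comp_apply]
      congr 2
      simp [Scheme.Hom.appTop, Scheme.Hom.app_eq_appLE, Scheme.Hom.map_appLE, Scheme.Hom.appLE_map]
    have hsurj : Function.Surjective ψ := fun z => by
      have hmem : z ∈ Algebra.adjoin Γ(V, ⊤) (G : Set Γ(T, q ⁻¹ᵁ D)) := hG ▸ Algebra.mem_top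
      induction hmem using Algebra.adjoin_induction with
      | mem z hz =>
        obtain ⟨z', hz'⟩ := hs _ (Finset.mem_image.2 ⟨⟨z, hz⟩, Finset.mem_attach _ _, rfl⟩)
        haveI : IsLocalization.Away y Γ(N, N.basicOpen y) := (isAffineOpen_top N).isLocalization_basicOpen y
        obtain ⟨u, hu⟩ := (IsLocalization.Away.algebraMap_isUnit (S := Γ(N, N.basicOpen y)) y).pow (nz z hz)
        have hu' : (u : Γ(N, N.basicOpen y)) = N.presheaf.map (homOfLE le_top).op y ^ nz z hz := hu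
        refine ⟨(↑u⁻¹ : Γ(N, N.basicOpen y)) *
          N.presheaf.map (homOfLE (le_top : N.basicOpen y ≤ ⊤)).op z', ?_⟩
        refine (u.map ψ.hom.toMonoidHom).isUnit.mul_left_injective ?_
        show ψ ((↑u⁻¹ : Γ(N, N.basicOpen y)) * _) * ψ (u : Γ(N, N.basicOpen y)) = z * ψ (u : Γ(N, N.basicOpen y))
        rw [← map_mul, mul_comm, ← mul_assoc, Units.mul_inv, one_mul, hψ, hz', hu', map_pow, hψ, hy]
        exact (hxz z hz).symm
      | algebraMap v =>
        refine ⟨N.presheaf.map (homOfLE le_top).op (r'.appTop v), ?_⟩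
        rw [hψ]
        change _ = ((q ≫ r).appLE ⊤ (q ⁻¹ᵁ D) le_top) v
        simp only [ρ, ← CommRingCat.comp_apply]
        congr 2
        rw [← Scheme.Hom.comp_appTop, hm]
        simp [Scheme.Hom.appTop, Scheme.Hom.app_eq_appLE, Scheme.Hom.appLE_map]
      | add a b _ _ ha hb =>
        obtain ⟨a', rfl⟩ := ha
        obtain ⟨b', rfl⟩ := hb
        exact ⟨a' + b', map_add _ _ _⟩
      | mul a b _ _ ha hb =>
        obtain ⟨a', rfl⟩ := ha
        obtain ⟨b', rfl⟩ := hb
        exact ⟨a' * b', map_mul _ _ _⟩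
    refine IsClosedImmersion.of_surjective_of_isAffine _ fun z => ?_
    obtain ⟨w, hw⟩ := hsurj (T.presheaf.map (eqToHom he.symm).op ((m ⁻¹ᵁ N.basicOpen y).topIso.hom z))
    refine ⟨(N.basicOpen y).topIso.inv w, ?_⟩
    apply (m ⁻¹ᵁ N.basicOpen y).topIso.commRingCatIsoToRingEquiv.injective
    apply (ConcreteCategory.bijective_of_isIso (T.presheaf.map (eqToHom he.symm).op)).injective
    refine Eq.trans ?_ hw
    show T.presheaf.map _ ((m ⁻¹ᵁ N.basicOpen y).topIso.hom ((m ∣_ N.basicOpen y).appTop ((N.basicOpen y).topIso.inv w))) = _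
    simp only [← CommRingCat.comp_apply, ψ]
    congr 2
    simp [morphismRestrict_appTop, Scheme.Hom.app_eq_appLE]
  choose s hs using step
  refine ⟨(t.image f) ∪ t.biUnion s, fun N _ m r' hm hx => ?_⟩
  choose y hy using fun i : t => hx (f i.1) (Finset.mem_union_left _ (Finset.mem_image_of_mem f i.2))
  let A : N.Opens := ⨆ i : t, N.basicOpen (y i)
  have hpre : ∀ i : t, m ⁻¹ᵁ N.basicOpen (y i) = q ⁻¹ᵁ M.basicOpen (f i.1) := fun i => by
    rw [Scheme.preimage_basicOpen_top, Scheme.preimage_basicOpen_top, hy i]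
  have hr : Set.range m ⊆ Set.range A.ι := by
    rintro _ ⟨x, rfl⟩
    rw [Scheme.Opens.range_ι]
    obtain ⟨i, hi, hxi⟩ := Set.mem_iUnion₂.1 (ht ⟨x, rfl⟩)
    have hx' : x ∈ m ⁻¹ᵁ N.basicOpen (y ⟨i, hi⟩) := (hpre ⟨i, hi⟩).ge hxi
    exact TopologicalSpace.Opens.mem_iSup.2 ⟨⟨i, hi⟩, hx'⟩
  let m' := IsOpenImmersion.lift A.ι m hr
  have hm' : m' ≫ A.ι = m := IsOpenImmersion.lift_fac _ _ _
  suffices IsClosedImmersion m' by rw [← hm']; infer_instance
  refine (IsZariskiLocalAtTarget.iff_of_iSup_eq_top (P := @IsClosedImmersion)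
    (fun i : t => A.ι ⁻¹ᵁ N.basicOpen (y i)) ?_).2 fun i => ?_
  · refine top_le_iff.1 fun x _ => ?_
    obtain ⟨i, hi⟩ := TopologicalSpace.Opens.mem_iSup.1 x.2
    exact TopologicalSpace.Opens.mem_iSup.2 ⟨i, hi⟩
  · have h := hs i.1 N m r' hm (y i) (hy i) fun x hxs =>
      hx x (Finset.mem_union_right _ (Finset.mem_biUnion.2 ⟨i.1, i.2, hxs⟩))
    let n : ((A.ι ⁻¹ᵁ N.basicOpen (y i)) : Scheme.{u}) ⟶ (N.basicOpen (y i) : Scheme.{u}) :=
      IsOpenImmersion.lift (N.basicOpen (y i)).ι ((A.ι ⁻¹ᵁ N.basicOpen (y i)).ι ≫ A.ι) (by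
        rintro _ ⟨x, rfl⟩
        rw [Scheme.Opens.range_ι]
        exact x.2)
    have hn : IsIso n := by
      have : IsOpenImmersion (n ≫ (N.basicOpen (y i)).ι) := by rw [IsOpenImmersion.lift_fac]; infer_instance
      have : IsOpenImmersion n := IsOpenImmersion.of_comp n (N.basicOpen (y i)).ι
      refine (isIso_iff_isOpenImmersion_and_surjective n).2 ⟨this, ⟨fun z => ?_⟩⟩
      refine ⟨⟨⟨z.1, TopologicalSpace.Opens.mem_iSup.2 ⟨i, z.2⟩⟩, z.2⟩,
        (N.basicOpen (y i)).ι.isOpenEmbedding.injective ?_⟩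
      rw [← Scheme.Hom.comp_apply, IsOpenImmersion.lift_fac]
      rfl
    have e : (m' ∣_ (A.ι ⁻¹ᵁ N.basicOpen (y i))) ≫ n =
        (T.isoOfEq (by rw [← Scheme.Hom.comp_preimage, hm'])).hom ≫ (m ∣_ N.basicOpen (y i)) := by
      rw [← cancel_mono (N.basicOpen (y i)).ι, Category.assoc, IsOpenImmersion.lift_fac]
      simp [hm']
    rw [← MorphismProperty.cancel_right_of_respectsIso @IsClosedImmersion _ n, e]
    infer_instance


theorem exists_finset_closure {A B C : Type u} [CommRing A] [CommRing B] [CommRing C] (a : A →+* C) (b : B →+* C)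
    (z : A ⊗[ℤ] B) :
    ∃ G : Finset B, Algebra.TensorProduct.lift a.toIntAlgHom b.toIntAlgHom (fun _ _ => Commute.all _ _) z ∈
      Subring.closure (Set.range a ∪ b '' G) := by
  classical
  induction z using TensorProduct.induction_on with
  | zero => exact ⟨∅, by rw [map_zero]; exact zero_mem _⟩
  | tmul x y =>
    refine ⟨{y}, ?_⟩
    rw [Algebra.TensorProduct.lift_tmul]
    exact mul_mem (Subring.subset_closure (Or.inl ⟨x, rfl⟩)) (Subring.subset_closure (Or.inr ⟨y, by simp, rfl⟩))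
  | add x y hx hy =>
    obtain ⟨G, hG⟩ := hx
    obtain ⟨G', hG'⟩ := hy
    refine ⟨G ∪ G', ?_⟩
    rw [map_add]
    exact add_mem (Subring.closure_mono (Set.union_subset_union_right _ (Set.image_mono (by simp))) hG)
      (Subring.closure_mono (Set.union_subset_union_right _ (Set.image_mono (by simp))) hG')

/-- The affine form: finitely many functions on the affine scheme `U` cut out an immersion. -/
theorem exists_vector_immersion {T W U : Scheme.{u}} [IsAffine W] [IsAffine U] [CompactSpace T] (S : Scheme.{u})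
    (w : W ⟶ S) (u : U ⟶ S) (τ : T ⟶ W) (σ : T ⟶ U) (h : τ ≫ w = σ ≫ u) [LocallyOfFiniteType τ]
    [IsImmersion (pullback.lift τ σ h)] :
    ∃ (n : ℕ) (g : ULift.{u} (Fin n) → Γ(U, ⊤)),
      IsImmersion (AffineSpace.homOfVector τ (fun i => σ.appTop (g i))) := by
  classical
  let φ : Γ(W, ⊤) ⊗[ℤ] Γ(U, ⊤) →+* Γ(T, ⊤) := (Algebra.TensorProduct.lift τ.appTop.hom.toIntAlgHom
    σ.appTop.hom.toIntAlgHom (fun _ _ => Commute.all _ _)).toRingHom
  let M : Scheme.{u} := Spec (CommRingCat.of (Γ(W, ⊤) ⊗[ℤ] Γ(U, ⊤)))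
  let q : T ⟶ M := T.toSpecΓ ≫ Spec.map (CommRingCat.ofHom φ)
  let il : Γ(W, ⊤) →+* Γ(W, ⊤) ⊗[ℤ] Γ(U, ⊤) := Algebra.TensorProduct.includeLeftRingHom
  let ir : Γ(U, ⊤) →+* Γ(W, ⊤) ⊗[ℤ] Γ(U, ⊤) :=
    (Algebra.TensorProduct.includeRight : Γ(U, ⊤) →ₐ[ℤ] Γ(W, ⊤) ⊗[ℤ] Γ(U, ⊤)).toRingHom
  let e₁ : M ⟶ W := Spec.map (CommRingCat.ofHom il) ≫ W.isoSpec.inv
  let e₂ : M ⟶ U := Spec.map (CommRingCat.ofHom ir) ≫ U.isoSpec.inv
  have h₁ : q ≫ e₁ = τ := by
    have : CommRingCat.ofHom il ≫ CommRingCat.ofHom φ = τ.appTop := by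
      refine CommRingCat.hom_ext (RingHom.ext fun x => ?_)
      show φ (x ⊗ₜ 1) = τ.appTop x
      simp [φ]
    simp only [q, e₁, Category.assoc]
    rw [← Spec.map_comp_assoc, this, ← Scheme.toSpecΓ_naturality_assoc, Scheme.toSpecΓ_isoSpec_inv,
      Category.comp_id]
  have h₂ : q ≫ e₂ = σ := by
    have : CommRingCat.ofHom ir ≫ CommRingCat.ofHom φ = σ.appTop := by
      refine CommRingCat.hom_ext (RingHom.ext fun x => ?_)
      show φ (1 ⊗ₜ x) = σ.appTop x
      simp [φ]
    simp only [q, e₂, Category.assoc]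
    rw [← Spec.map_comp_assoc, this, ← Scheme.toSpecΓ_naturality_assoc, Scheme.toSpecΓ_isoSpec_inv,
      Category.comp_id]
  have hcd : e₁ ≫ w ≫ terminal.from S = e₂ ≫ u ≫ terminal.from S := terminal.hom_ext _ _
  have : IsImmersion (q ≫ pullback.lift e₁ e₂ hcd) := by
    have : q ≫ pullback.lift e₁ e₂ hcd = pullback.lift τ σ h ≫ pullback.mapDesc w u (terminal.from S) := by
      apply pullback.hom_ext <;> simp [h₁, h₂]
    rw [this]
    infer_instance
  haveI : IsImmersion q := IsImmersion.of_comp q (pullback.lift e₁ e₂ hcd)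
  haveI : LocallyOfFiniteType (q ≫ e₁) := by rw [h₁]; infer_instance
  obtain ⟨s, hs⟩ := exists_finset_immersion q e₁
  choose G hG using fun x : Γ(M, ⊤) => exists_finset_closure τ.appTop.hom σ.appTop.hom
    ((Scheme.ΓSpecIso (CommRingCat.of (Γ(W, ⊤) ⊗[ℤ] Γ(U, ⊤)))).hom x)
  let G₀ := s.biUnion G
  refine ⟨G₀.card, fun i => (G₀.equivFin.symm i.down).1, ?_⟩
  let m := AffineSpace.homOfVector τ (fun i : ULift.{u} (Fin G₀.card) => σ.appTop (G₀.equivFin.symm i.down).1)
  haveI : IsAffine 𝔸(ULift.{u} (Fin G₀.card); W) := inferInstance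
  refine hs _ m (𝔸(ULift.{u} (Fin G₀.card); W) ↘ W) (by rw [AffineSpace.homOfVector_over, h₁]) fun x hx => ?_
  have hq : q.appTop x = φ ((Scheme.ΓSpecIso (CommRingCat.of (Γ(W, ⊤) ⊗[ℤ] Γ(U, ⊤)))).hom x) := by
    have : q.appTop = (Scheme.ΓSpecIso _).hom ≫ CommRingCat.ofHom φ := by simp [q, M]
    rw [this]
    rfl
  rw [hq]
  refine (Subring.closure_le (t := m.appTop.hom.range)).2 ?_ (hG x)
  rintro y (⟨a, rfl⟩ | ⟨b, hb, rfl⟩)
  · refine ⟨(𝔸(ULift.{u} (Fin G₀.card); W) ↘ W).appTop a, ?_⟩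
    show ((𝔸(ULift.{u} (Fin G₀.card); W) ↘ W).appTop ≫ m.appTop) a = _
    rw [← Scheme.Hom.comp_appTop, AffineSpace.homOfVector_over]
  · refine ⟨AffineSpace.coord W ⟨G₀.equivFin ⟨b, Finset.mem_biUnion.2 ⟨x, hx, hb⟩⟩⟩, ?_⟩
    show m.appTop _ = _
    simp only [m, AffineSpace.homOfVector_appTop_coord, Equiv.symm_apply_apply]

/-- Immersions into affine space from a chart along which the graph is an immersion. -/
theorem exists_immersion_of_graph {S : Scheme.{u}} [QuasiSeparatedSpace S] (X : AlgSp.Space S)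
    (hqs : IsQuasiSeparatedSp X.obj) (U : Over S) [IsAffine U.left] (f : (yon S).obj U ⟶ X.obj)
    (hf : LocP @LocallyOfFiniteType f) {V₁ : Sp S} {jV : V₁ ⟶ X.obj}
    (hjV : RepWith @IsOpenImmersion jV) (f₁ : (yon S).obj U ⟶ V₁) (hf₁ : f₁ ≫ jV = f) (W₀ : Over S)
    [IsAffine W₀.left] (a₁ : (yon S).obj W₀ ⟶ V₁) (ha₁ : RepWith @Etale a₁) (has₁ : RepWith @Surjective a₁)
    (hgraph : ∀ (T : Over S) (pW : T ⟶ W₀) (pU : T ⟶ U),
      IsPullback ((yon S).map pW) ((yon S).map pU) (a₁ ≫ jV) f →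
      ∀ hw : pW.left ≫ W₀.hom = pU.left ≫ U.hom, IsImmersion (pullback.lift pW.left pU.left hw)) :
    ∃ (n : ℕ) (i : (yon S).obj U ⟶ X.obj ⨯ (yon S).obj (Over.mk (𝔸(ULift.{u} (Fin n); S) ↘ S))),
      i ≫ prod.fst = f ∧ RepWith @IsImmersion i := by
  haveI := mono_of_openImm hjV
  have hUqc : IsQuasiCompactSp ((yon S).obj U) :=
    ⟨U, 𝟙 _, repWith_of_isIso _ _, repWith_of_isIso _ _, inferInstanceAs (CompactSpace ↥U.left)⟩
  let a := a₁ ≫ jV
  have ha : RepWith @Etale a := repWith_comp ha₁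
    (repWith_mono (fun _ _ g (_ : IsOpenImmersion g) => (inferInstance : Etale g)) _ hjV)
  let T := ha.rep.pullback f
  let pW : T ⟶ W₀ := ha.rep.fst' f
  let pU : T ⟶ U := ha.rep.snd f
  have sqT : IsPullback ((yon S).map pW) ((yon S).map pU) a f := ha.rep.isPullback' f
  have hW₀qc : IsQuasiCompactSp ((yon S).obj W₀) :=
    ⟨W₀, 𝟙 _, repWith_of_isIso _ _, repWith_of_isIso _ _, inferInstanceAs (CompactSpace ↥W₀.left)⟩
  have hTqc : IsQuasiCompactSp ((yon S).obj T) :=
    isQuasiCompactMor_of_qc_qs (IsAlgSpace.yon_obj W₀) X.property hW₀qc hqs a (IsAlgSpace.yon_obj U) hUqc f _ _ sqT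
  haveI : CompactSpace (Points ((yon S).obj T)) := compactSpace_points hTqc
  haveI : CompactSpace ↥T.left := (Points.schemeHomeo T).symm.compactSpace
  haveI : LocallyOfFiniteType pW.left :=
    locP_of_isPullback sqT.flip (IsAlgSpace.yon_obj U) X.property (IsAlgSpace.yon_obj W₀) hf (𝟙 _) (𝟙 _) pW
      (repWith_id _ _) (repWith_id _ _) (by rw [Category.id_comp, Category.comp_id])
  have hw : pW.left ≫ W₀.hom = pU.left ≫ U.hom := by rw [Over.w, Over.w]
  -- the graph is an immersion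
  haveI : IsImmersion (pullback.lift pW.left pU.left hw) := hgraph T pW pU sqT hw
  obtain ⟨n, g, hg⟩ := exists_vector_immersion S W₀.hom U.hom pW.left pU.left hw
  let A : Over S := Over.mk (𝔸(ULift.{u} (Fin n); S) ↘ S)
  let uA : U ⟶ A := CategoryTheory.Over.homMk (AffineSpace.homOfVector U.hom g)
    (AffineSpace.homOfVector_over _ _)
  refine ⟨n, prod.lift f ((yon S).map uA), prod.lift_fst _ _, ?_⟩
  -- charts of the target
  let N : Over S := Over.mk ((𝔸(ULift.{u} (Fin n); W₀.left) ↘ W₀.left) ≫ W₀.hom)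
  let nW : N ⟶ W₀ := CategoryTheory.Over.homMk (𝔸(ULift.{u} (Fin n); W₀.left) ↘ W₀.left) rfl
  let nA : N ⟶ A := CategoryTheory.Over.homMk (AffineSpace.map _ W₀.hom) (AffineSpace.map_over _)
  let mN : T ⟶ N := CategoryTheory.Over.homMk
    (AffineSpace.homOfVector pW.left (fun i => pU.left.appTop (g i)))
    (by simp [N])
  have hm₁ : mN ≫ nW = pW := Over.OverMorphism.ext (AffineSpace.homOfVector_over _ _)
  have hm₂ : mN ≫ nA = pU ≫ uA := Over.OverMorphism.ext (by
    apply AffineSpace.hom_ext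
    · simp [mN, nA, uA]
    · intro i
      rw [Over.comp_left, Over.comp_left, Scheme.Hom.comp_appTop, Scheme.Hom.comp_appTop, CommRingCat.comp_apply,
        CommRingCat.comp_apply]
      show (AffineSpace.homOfVector pW.left (fun i => pU.left.appTop (g i))).appTop
          ((AffineSpace.map _ W₀.hom).appTop (AffineSpace.coord S i)) =
        pU.left.appTop ((AffineSpace.homOfVector U.hom g).appTop (AffineSpace.coord S i))
      rw [AffineSpace.map_appTop_coord, AffineSpace.homOfVector_appTop_coord, AffineSpace.homOfVector_appTop_coord])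
  have sqN := isPullback_yon_of_left nA nW (Over.mkIdTerminal.from A) (Over.mkIdTerminal.from W₀)
    (by simpa [nA, nW, A] using AffineSpace.isPullback_map W₀.hom)
  let a' : (yon S).obj N ⟶ V₁ ⨯ ((yon S).obj A) := prod.lift ((yon S).map nW ≫ a₁) ((yon S).map nA)
  have ha'₁ : a' ≫ prod.fst = (yon S).map nW ≫ a₁ := prod.lift_fst _ _
  have ha'₂ : a' ≫ prod.snd = (yon S).map nA := prod.lift_snd _ _
  have sqa : IsPullback a' ((yon S).map nW) prod.fst a₁ := by
    refine ⟨⟨prod.lift_fst _ _⟩, ⟨PullbackCone.IsLimit.mk _ (fun c => sqN.lift (c.fst ≫ prod.snd) c.snd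
      ((AlgSpPts.isTerminalYon S).hom_ext _ _)) (fun c => ?_) (fun c => sqN.lift_snd _ _ _)
      (fun c l h₁ h₂ => ?_)⟩⟩
    · apply prod.hom_ext
      · rw [Category.assoc, prod.lift_fst, sqN.lift_snd_assoc, c.condition]
      · rw [Category.assoc, prod.lift_snd, sqN.lift_fst]
    · refine sqN.hom_ext ?_ ?_
      · rw [sqN.lift_fst, ← h₁, Category.assoc, prod.lift_snd]
      · rw [sqN.lift_snd, h₂]
  have e : prod.lift f₁ ((yon S).map uA) ≫ prod.map jV (𝟙 ((yon S).obj A)) = prod.lift f ((yon S).map uA) := by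
    rw [prod.lift_map, hf₁, Category.comp_id]
  rw [← e]
  refine repWith_comp (repWith_isImmersion_of_etale_cover (fst := (yon S).map pU)
    (repWith_of_isPullback sqa.flip ha₁) (repWith_of_isPullback sqa.flip has₁) ?_ ((repWith_yon_map_iff _ mN).2 hg)) ?_
  · refine ⟨⟨?_⟩, ⟨PullbackCone.IsLimit.mk _ (fun c => sqT.lift (c.snd ≫ (yon S).map nW) c.fst ?_)
      (fun c => sqT.lift_snd _ _ _) (fun c => ?_) (fun c l h₁ h₂ => ?_)⟩⟩
    · apply prod.hom_ext
      · have := sqT.w
        rw [← hm₁, Functor.map_comp, Category.assoc, ← hf₁, ← Category.assoc ((yon S).map pU)] at this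
        simp only [Category.assoc, prod.lift_fst, ha'₁]
        exact (cancel_mono jV).1 (by simpa only [a, Category.assoc] using this.symm)
      · simp only [Category.assoc, prod.lift_snd, ha'₂, ← Functor.map_comp, hm₂]
    · have := congrArg (· ≫ prod.fst) c.condition
      simp only [Category.assoc, prod.lift_fst, ha'₁] at this
      simp only [a, Category.assoc, ← hf₁, reassoc_of% this]
    · refine sqN.hom_ext ?_ ?_
      · have := congrArg (· ≫ prod.snd) c.condition
        simp only [Category.assoc, prod.lift_snd, ha'₂] at this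
        rw [Category.assoc, ← Functor.map_comp, hm₂, Functor.map_comp, sqT.lift_snd_assoc, this]
      · rw [Category.assoc, ← Functor.map_comp, hm₁, sqT.lift_fst]
    · refine sqT.hom_ext ?_ ?_
      · rw [sqT.lift_fst, ← h₂, Category.assoc, ← Functor.map_comp, hm₁]
      · rw [sqT.lift_snd, h₁]
  · refine repWith_mono (fun _ _ g (_ : IsOpenImmersion g) => inferInstanceAs (IsImmersion g)) _
      (repWith_of_isPullback (show IsPullback prod.fst (prod.map jV (𝟙 ((yon S).obj A))) jV prod.fst from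
        ⟨⟨(prod.map_fst _ _).symm⟩, ⟨PullbackCone.IsLimit.mk _ (fun c => prod.lift c.fst (c.snd ≫ prod.snd))
          (fun c => prod.lift_fst _ _) (fun c => by
            rw [prod.lift_map, Category.comp_id]
            apply prod.hom_ext
            · rw [prod.lift_fst, c.condition]
            · rw [prod.lift_snd])
          (fun c l h₁ h₂ => by
            apply prod.hom_ext
            · rw [prod.lift_fst, h₁]
            · rw [prod.lift_snd, ← h₂, Category.assoc, prod.map_snd, Category.comp_id])⟩⟩) hjV)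


/-- Let `X` be a quasi-separated and locally separated algebraic space over `S`, `U` an affine scheme
over `S` and `f : U ⟶ X` locally of finite type. Then there are an `n` and an immersion `U ⟶ 𝐀^n_X =
X ×_S 𝐀^n_S` over `X`. (The published statement allows any base scheme and uses absolute
quasi-separatedness; this row assumes the base quasi-separated, over which quasi-separatedness
relative to the base is the absolute notion.) -/
theorem result (S : Scheme.{u}) [QuasiSeparatedSpace S]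
    (X : AlgSp.Space S) (hqs : AlgSp.IsQuasiSeparatedSp X.obj) (hls : AlgSp.IsLocallySeparatedSp X.obj)
    (U : Over S) (hU : IsAffine U.left) (f : (AlgSp.yon S).obj U ⟶ X.obj) (hf : AlgSp.LocP @LocallyOfFiniteType f) :
    ∃ (n : ℕ) (i : (AlgSp.yon S).obj U ⟶ X.obj ⨯ (AlgSp.yon S).obj (Over.mk (𝔸(ULift.{u} (Fin n); S) ↘ S))),
      i ≫ prod.fst = f ∧ AlgSp.RepWith @IsImmersion i := by
  haveI : IsAffine U.left := hU
  have hUqc : IsQuasiCompactSp ((yon S).obj U) :=
    ⟨U, 𝟙 _, repWith_of_isIso _ _, repWith_of_isIso _ _, inferInstanceAs (CompactSpace ↥U.left)⟩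
  haveI : CompactSpace (Points ((yon S).obj U)) := compactSpace_points hUqc
  obtain ⟨V₁, jV, hV₁, hjV, hV₁qc, hK⟩ := S10010.exists_qc_open_nbhd X.property
    (isCompact_range (Points.continuous_map f))
  obtain ⟨f₁, hf₁⟩ := exists_lift_openImmersion (IsAlgSpace.yon_obj U) hV₁ X.property hjV f hK
  obtain ⟨W₀, a₁, hW₀, ha₁, has₁⟩ := AlgSpDec.exists_affine_atlas hV₁qc
  haveI : IsAffine W₀.left := hW₀
  refine exists_immersion_of_graph X hqs U f hf hjV f₁ hf₁ W₀ a₁ ha₁ has₁ fun T pW pU sqT hw => ?_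
  let a := a₁ ≫ jV
  let P : Over S := Over.mk (pullback.fst W₀.hom U.hom ≫ W₀.hom)
  let r₁ : P ⟶ W₀ := CategoryTheory.Over.homMk (pullback.fst W₀.hom U.hom) rfl
  let r₂ : P ⟶ U := CategoryTheory.Over.homMk (pullback.snd W₀.hom U.hom) pullback.condition.symm
  let tP : T ⟶ P := CategoryTheory.Over.homMk (pullback.lift pW.left pU.left hw)
    (by simp [P])
  have ht₁ : tP ≫ r₁ = pW := Over.OverMorphism.ext (pullback.lift_fst _ _ _)
  have ht₂ : tP ≫ r₂ = pU := Over.OverMorphism.ext (pullback.lift_snd _ _ _)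
  have hPext : ∀ {Z : Sp S} (x y : Z ⟶ (yon S).obj P), x ≫ (yon S).map r₁ = y ≫ (yon S).map r₁ →
      x ≫ (yon S).map r₂ = y ≫ (yon S).map r₂ → x = y := fun x y h₁ h₂ =>
    (isPullback_yon_of_left r₁ r₂ (Over.mkIdTerminal.from W₀) (Over.mkIdTerminal.from U)
      (by simpa [r₁, r₂] using IsPullback.of_hasPullback W₀.hom U.hom)).hom_ext h₁ h₂
  have sqD : IsPullback ((yon S).map pW ≫ a) ((yon S).map tP) (Limits.diag X.obj)
      (prod.lift ((yon S).map r₁ ≫ a) ((yon S).map r₂ ≫ f)) := by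
    refine ⟨⟨?_⟩, ⟨PullbackCone.IsLimit.mk _ (fun c => sqT.lift (c.snd ≫ (yon S).map r₁) (c.snd ≫ (yon S).map r₂) ?_)
      (fun c => ?_) (fun c => ?_) (fun c l h₁ h₂ => ?_)⟩⟩
    · apply prod.hom_ext
      · simp only [Category.assoc, prod.lift_fst, Category.comp_id]
        rw [← Category.assoc ((yon S).map tP), ← Functor.map_comp, ht₁]
      · simp only [Category.assoc, prod.lift_snd, Category.comp_id]
        rw [← Category.assoc ((yon S).map tP), ← Functor.map_comp, ht₂, ← sqT.w]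
    · have h₁ := congrArg (· ≫ prod.fst) c.condition
      have h₂ := congrArg (· ≫ prod.snd) c.condition
      simp only [Category.assoc, prod.lift_fst, prod.lift_snd, Category.comp_id] at h₁ h₂
      rw [Category.assoc, Category.assoc, ← h₁, ← h₂]
    · have h₁ := congrArg (· ≫ prod.fst) c.condition
      simp only [Category.assoc, prod.lift_fst, Category.comp_id] at h₁
      rw [sqT.lift_fst_assoc, Category.assoc, ← h₁]
    · refine hPext _ _ ?_ ?_
      · rw [Category.assoc, ← Functor.map_comp, ht₁, sqT.lift_fst]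
      · rw [Category.assoc, ← Functor.map_comp, ht₂, sqT.lift_snd]
    · refine sqT.hom_ext ?_ ?_
      · rw [sqT.lift_fst, ← h₂, Category.assoc, ← Functor.map_comp, ht₁]
      · rw [sqT.lift_snd, ← h₂, Category.assoc, ← Functor.map_comp, ht₂]
  exact
    (repWith_yon_map_iff _ tP).1 (repWith_of_isPullback sqD hls)

end Groth.Agent.S10042
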