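import Groth.Statements.S10043
import Groth.Agent.EtQC.Chev.Gen
-- import your own Groth.Agent.* helpers here

set_option autoImplicit false
universe u
open CategoryTheory CategoryTheory.Limits AlgebraicGeometry
open AlgSp

namespace Groth.Agent.S10043

set_option backward.isDefEq.respectTransparency false
set_option backward.isDefEq.respectTransparency.types false
open Groth.Agent.EtQC

/-- Let `f : X ⟶ Y` be a finite and surjective morphism of algebraic spaces over `S` with `X` an affine
scheme. Then `Y` is an affine scheme. -/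
theorem result (S : Scheme.{u}) {X Y : AlgSp.Space S} (f : X ⟶ Y)
    (hfin : AlgSp.IsFiniteMor f.hom) (hsurj : AlgSp.IsSurjectiveMor f.hom) (hX : ∃ (T : Over S), IsAffine T.left ∧ Nonempty ((AlgSp.yon S).obj T ≅ X.obj)) :
    ∃ (T : Over S), IsAffine T.left ∧ Nonempty ((AlgSp.yon S).obj T ≅ Y.obj) := by
  obtain ⟨T, hT, ⟨e⟩⟩ := hX
  haveI := hT
  have hr := AlgSpDec.isFiniteMor_iff_repWith.1 hfin
  exact Chev.exists_iso_of_univClosed Y (e.hom ≫ f.hom)
    (AlgSpLib.repWith_comp (AlgSpLib.repWith_of_isIso _ _)
      (AlgSpLib.repWith_mono (fun _ _ g (_ : IsFinite g) => inferInstanceAs (UniversallyClosed g)) _ hr))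
    (AlgSpLib.repWith_comp (AlgSpLib.repWith_of_isIso _ _) ((AlgSpLib.repWith_surjective_iff hr.rep).2 hsurj))

end Groth.Agent.S10043
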