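import Groth.Statements.S10044
import Groth.Agent.EtQC.Chev.Gen
-- import your own Groth.Agent.* helpers here

set_option autoImplicit false
universe u
open CategoryTheory CategoryTheory.Limits AlgebraicGeometry
open AlgSp

namespace Groth.Agent.S10044

set_option backward.isDefEq.respectTransparency false
set_option backward.isDefEq.respectTransparency.types false
open Groth.Agent.EtQC

/-- Let `f : X ⟶ Y` be a surjective and universally closed morphism of algebraic spaces over `S` with
`X` an affine scheme. Then `Y` is an affine scheme. -/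
theorem result (S : Scheme.{u}) {X Y : AlgSp.Space S} (f : X ⟶ Y)
    (hsurj : AlgSp.IsSurjectiveMor f.hom) (huc : AlgSp.IsUnivClosedMor f.hom) (hX : ∃ (T : Over S), IsAffine T.left ∧ Nonempty ((AlgSp.yon S).obj T ≅ X.obj)) :
    ∃ (T : Over S), IsAffine T.left ∧ Nonempty ((AlgSp.yon S).obj T ≅ Y.obj) := by
  obtain ⟨T, hT, ⟨e⟩⟩ := hX
  haveI := hT
  have hr : AlgSp.Representable f.hom := by
    rw [← e.inv_hom_id_assoc f.hom]
    exact MorphismProperty.comp_mem ((AlgSp.yon S).relativelyRepresentable) _ _ (AlgSpLib.repWith_of_isIso @IsOpenImmersion e.inv).rep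
      (AlgSpLib.representable_from_yon' Y.property (e.hom ≫ f.hom))
  exact Chev.exists_iso_of_univClosed Y (e.hom ≫ f.hom)
    (AlgSpLib.repWith_comp (AlgSpLib.repWith_of_isIso _ _)
      (AlgSpDec.repWith_universallyClosed_of_univClosed hr huc))
    (AlgSpLib.repWith_comp (AlgSpLib.repWith_of_isIso _ _) ((AlgSpLib.repWith_surjective_iff hr).2 hsurj))

end Groth.Agent.S10044
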