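import Groth.Statements.S10050
import Groth.Agent.EtQC.Chev.Union
import Groth.Agent.AlgSpDec.RedInduced
import Groth.Agent.S10046
-- import your own Groth.Agent.* helpers here

set_option autoImplicit false
universe u
open CategoryTheory CategoryTheory.Limits AlgebraicGeometry
open AlgSp

namespace Groth.Agent.S10050

set_option backward.isDefEq.respectTransparency false
set_option backward.isDefEq.respectTransparency.types false
open Groth.Agent.EtQC Groth.Agent.AlgSpLib Groth.Agent.AlgSpPts Groth.Agent.AlgSpDec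

/-- Let `X` be an algebraic space, quasi-compact and quasi-separated over the scheme `S`, which is not a
scheme although every proper closed subspace of `X` is one. Then `X` is reduced and irreducible.
(The published statement allows any base scheme and uses absolute quasi-separatedness; this row
assumes the base quasi-separated, over which quasi-separatedness relative to the base is the
absolute notion.) -/
theorem result (S : Scheme.{u}) [QuasiSeparatedSpace S]
    (X : AlgSp.Space S) (hXqc : AlgSp.IsQuasiCompactSp X.obj) (hXqs : AlgSp.IsQuasiSeparatedSp X.obj) (hX : ¬ X.obj.obj.IsRepresentable)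
    (hmin : ∀ (Z : AlgSp.Space S) (i : Z ⟶ X), AlgSp.RepWith @IsClosedImmersion i.hom → ¬ IsIso i → Z.obj.obj.IsRepresentable) :
    AlgSp.IsReducedSp X.obj ∧ IrreducibleSpace (AlgSp.Points X.obj) := by
  have hsub : ∀ {C : Set (Points X.obj)} (Z : AlgSp.Space S) (j : Z.obj ⟶ X.obj),
      IsRedInduced C j → ¬ IsIso j → Z.obj.obj.IsRepresentable := fun Z j hj hn =>
    hmin Z (ObjectProperty.homMk j) hj.1 fun h => hn <| by
      haveI := h
      exact inferInstanceAs (IsIso ((ObjectProperty.ι _).map (ObjectProperty.homMk j : Z ⟶ X)))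
  have hred : AlgSp.IsReducedSp X.obj := by
    obtain ⟨Z, j, hj⟩ := exists_reduced_induced X.property (T := Set.univ) isClosed_univ
    by_cases hiso : IsIso j
    · obtain ⟨U, p, hp, hps, hU⟩ := hj.2.2
      exact ⟨U, p ≫ j, repWith_comp hp (repWith_of_isIso _ _), repWith_comp hps (repWith_of_isIso _ _), hU⟩
    · haveI := mono_of_closedImmersion hj.1
      exact absurd ((S10046.result S (X := Z) (Y := X) (ObjectProperty.homMk j)
        (AlgSpDec.isIntegralMor_iff_repWith.2
          (repWith_mono (fun _ _ k (_ : IsClosedImmersion k) => (inferInstance : IsIntegralHom k)) _ hj.1))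
        ⟨(AlgSpDec.injective_map_of_mono (f := j) :), fun x => (hj.2.1.symm.subset (Set.mem_univ x))⟩).1 (hsub Z j hj hiso)) hX
  have hne : Nonempty (Points X.obj) := by
    by_contra hne
    obtain ⟨Q, ⟨eQ⟩, -⟩ := exists_iso_of_open_cover (X := X.obj) (ι := PEmpty.{u + 1}) (fun i => i.elim)
      (fun i => i.elim) (fun i => i.elim) (fun x => absurd ⟨x⟩ hne)
    exact hX (AlgSpDec.isRepresentable_of_iso eQ)
  refine ⟨hred, ?_⟩
  by_contra hirr
  have hpre : ¬ IsPreirreducible (Set.univ : Set (Points X.obj)) := fun h => hirr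
    { toPreirreducibleSpace := ⟨h⟩, toNonempty := hne }
  rw [isPreirreducible_iff_isClosed_union_isClosed] at hpre
  push Not at hpre
  obtain ⟨z₀, z₁, h₀, h₁, hu, hn₀, hn₁⟩ := hpre
  have hpiece : ∀ z : Set (Points X.obj), IsClosed z → ¬ Set.univ ⊆ z → ∃ (T : Over S)
      (g : (yon S).obj T ⟶ X.obj), RepWith @IsClosedImmersion g ∧ ∀ x ∈ z, ∃ t, Points.ofPt g t = x := by
    intro z hz hzn
    obtain ⟨Z, j, hj⟩ := exists_reduced_induced X.property (T := z) hz
    have hniso : ¬ IsIso j := fun h => hzn fun x _ => by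
      rw [← hj.2.1]
      exact ⟨Points.map (inv j) x, by rw [← Points.map_comp, IsIso.inv_hom_id, Points.map_id]⟩
    let e := AlgSp.isoOfRepresentableBy (hsub Z j hj hniso).has_representation.choose_spec.some
    refine ⟨_, e.hom ≫ j, repWith_comp (repWith_of_isIso _ _) hj.1, fun x hx => ?_⟩
    obtain ⟨y, rfl⟩ := hj.2.1.symm.subset hx
    obtain ⟨t, ht⟩ := (Points.schemeEquiv _).surjective (Points.map e.inv y)
    refine ⟨t, ?_⟩
    rw [Points.ofPt_eq_map_ofScheme, show Points.ofScheme _ t = Points.map e.inv y from ht, ← Points.map_comp,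
      Iso.inv_hom_id_assoc]
  obtain ⟨T₀, g₀, hg₀, hr₀⟩ := hpiece z₀ h₀ hn₀
  obtain ⟨T₁, g₁, hg₁, hr₁⟩ := hpiece z₁ h₁ hn₁
  refine hX (Chev.Union.isRepresentable_of_two_closed X (T := ![T₀, T₁])
    (Fin.cons g₀ (Fin.cons g₁ finZeroElim) : ∀ i, (yon S).obj (![T₀, T₁] i) ⟶ X.obj)
    (Fin.forall_fin_two.2 ⟨hg₀, hg₁⟩) fun x => ?_)
  rcases hu (Set.mem_univ x) with hx | hx
  · obtain ⟨t, ht⟩ := hr₀ x hx
    exact ⟨0, t, ht⟩
  · obtain ⟨t, ht⟩ := hr₁ x hx
    exact ⟨1, t, ht⟩

end Groth.Agent.S10050
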