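import Groth.Statements.S10051
import Groth.Agent.EtQC.Chev.LocalBase
-- import your own Groth.Agent.* helpers here

set_option autoImplicit false
universe u
open CategoryTheory CategoryTheory.Limits AlgebraicGeometry
open AlgSp

namespace Groth.Agent.S10051

set_option backward.isDefEq.respectTransparency false
set_option backward.isDefEq.respectTransparency.types false
open Groth.Agent.EtQC Groth.Agent.AlgSpLib Groth.Agent.AlgSpPts Groth.Agent.AlgSpDec

/-- Let `X` be an algebraic space whose structure morphism to the scheme `S` is quasi-compact and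
quasi-separated. If for every `x ∈ |X|` with image `s ∈ S` the base change `X ×_S Spec(O_{S,s})` is
a scheme, then `X` is a scheme. -/
theorem result (S : Scheme.{u}) (X : AlgSp.Space S)
    (q : X.obj ⟶ (AlgSp.yon S).obj (Over.mk (𝟙 S))) (hqc : AlgSp.IsQuasiCompactMor q) (hqs : AlgSp.IsQuasiSeparatedMor q)
    (h : ∀ x : AlgSp.Points X.obj, ∀ (P : AlgSp.Sp S) (fst : P ⟶ X.obj)
      (snd : P ⟶ (AlgSp.yon S).obj (Over.mk (S.fromSpecStalk ((AlgSp.Points.schemeHomeo (Over.mk (𝟙 S))).symm (AlgSp.Points.map q x))))),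
      IsPullback fst snd q ((AlgSp.yon S).map (Over.homMk (S.fromSpecStalk _))) → P.obj.IsRepresentable) :
    X.obj.obj.IsRepresentable := by
  classical
  let g := specULiftZIsTerminal.{u}.from S
  let s : Points X.obj → ↥S := fun x => (Points.schemeHomeo (Over.mk (𝟙 S))).symm (Points.map q x)
  choose W hW using fun i : ↥(Set.range s) =>
    Chev.LocalBase.exists_nbhd_isRepresentable g X q hqc hqs i.1
      (by obtain ⟨y, hy⟩ := i.2; exact hy ▸ h y)
  let t := fun x => (Over.homMk (Pi1Ext.SpreadLim.toX S x.1 (W x)) :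
    (Chev.LocalBase.stages x.1).obj (W x) ⟶ Over.mk (𝟙 S))
  let e := fun x => AlgSp.isoOfRepresentableBy (hW x).has_representation.choose_spec.some
  have sq : ∀ x, IsPullback (pullback.fst q ((yon S).map (t x))) (pullback.snd q ((yon S).map (t x))) q
      ((yon S).map (t x)) := fun x => IsPullback.of_hasPullback _ _
  have hj : ∀ x, RepWith @IsOpenImmersion (pullback.fst q ((yon S).map (t x))) := fun x =>
    repWith_of_isPullback (sq x).flip ((repWith_yon_map_iff _ _).2
      (inferInstanceAs (IsOpenImmersion (Pi1Ext.SpreadLim.toX S x.1 (W x)))))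
  obtain ⟨Q, ⟨eQ⟩, -⟩ := exists_iso_of_open_cover _ (fun x => (e x).hom ≫ pullback.fst q ((yon S).map (t x)))
    (fun x => repWith_comp (repWith_of_isIso _ _) (hj x)) (fun y => by
      obtain ⟨x, hx⟩ : ∃ x : ↥(Set.range s), x.1 = s y := ⟨⟨s y, y, rfl⟩, rfl⟩
      obtain ⟨w, hw⟩ : x.1 ∈ Set.range (Pi1Ext.SpreadLim.toX S x.1 (W x)).base := by
        rw [Pi1Ext.SpreadLim.range_toX]; exact (W x).2.2
      have h1 : Points.map q y = Points.map ((yon S).map (t x)) (Points.ofScheme _ w) := by
        rw [show Points.map ((yon S).map (t x)) (Points.ofScheme _ w) = Points.schemeHomeo (Over.mk (𝟙 S)) ((t x).left w) from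
          Points.map_yon_map_apply (t x) w, show (t x).left w = s y from hw.trans hx]
        exact ((Points.schemeHomeo (Over.mk (𝟙 S))).apply_symm_apply _).symm
      obtain ⟨z, hz, -⟩ := exists_point_of_isPullback (sq x) h1
      obtain ⟨v, hv⟩ := (Points.schemeEquiv _).surjective (Points.map (e x).inv z)
      refine ⟨x, v, ?_⟩
      rw [Points.ofPt_eq_map_ofScheme, show Points.ofScheme _ v = Points.map (e x).inv z from hv,
        ← Points.map_comp, Iso.inv_hom_id_assoc, hz])
  exact AlgSpDec.isRepresentable_of_iso eQ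

end Groth.Agent.S10051
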