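import Groth.Statements.S10052
import Groth.Agent.EtQC.Chev.StageBase
-- import your own Groth.Agent.* helpers here

set_option autoImplicit false
universe u
open CategoryTheory CategoryTheory.Limits AlgebraicGeometry
open AlgSp

namespace Groth.Agent.S10052

set_option backward.isDefEq.respectTransparency false
set_option backward.isDefEq.respectTransparency.types false
open Groth.Agent.EtQC Groth.Agent.AlgSpLib Groth.Agent.AlgSpDec

section Quot

variable (A : CommRingCat.{u}) {ι : Type u} [Preorder ι] [IsDirectedOrder ι] [Nonempty ι] (f : ι →o Ideal A)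

/-- The quotients by a directed family of ideals. -/
def rings : ι ⥤ CommRingCat.{u} where
  obj i := CommRingCat.of (A ⧸ f i)
  map h := CommRingCat.ofHom (Ideal.Quotient.factor (f.monotone (leOfHom h)))
  map_id i := CommRingCat.hom_ext (Ideal.Quotient.ringHom_ext (RingHom.ext fun _ => rfl))
  map_comp h h' := CommRingCat.hom_ext (Ideal.Quotient.ringHom_ext (RingHom.ext fun _ => rfl))

/-- The quotient by the union. -/
def cocone : Cocone (rings A f) where
  pt := CommRingCat.of (A ⧸ ⨆ i, f i)
  ι :=
    { app := fun i => CommRingCat.ofHom (Ideal.Quotient.factor (le_iSup f i))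
      naturality := fun i j h => CommRingCat.hom_ext (Ideal.Quotient.ringHom_ext (RingHom.ext fun _ => rfl)) }

/-- It is the colimit. -/
noncomputable def isColimit : IsColimit (cocone A f) := by
  haveI : ReflectsColimit (rings A f) (forget CommRingCat.{u}) := reflectsColimit_of_reflectsIsomorphisms _ _
  refine isColimitOfReflects (forget CommRingCat.{u}) ?_
  refine Types.FilteredColimit.isColimitOf' _ _ (fun z => ?_) fun i a b h => ?_
  · obtain ⟨a, rfl⟩ := Ideal.Quotient.mk_surjective z
    exact ⟨Classical.arbitrary ι, Ideal.Quotient.mk _ a, rfl⟩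
  · obtain ⟨a, rfl⟩ := Ideal.Quotient.mk_surjective a
    obtain ⟨b, rfl⟩ := Ideal.Quotient.mk_surjective b
    obtain ⟨j, hj⟩ := (Submodule.mem_iSup_of_directed f f.monotone.directed_le).1 (Ideal.Quotient.eq.1 h)
    obtain ⟨k, hik, hjk⟩ := directed_of (· ≤ ·) i j
    exact ⟨k, homOfLE hik, Ideal.Quotient.eq.2 (f.monotone hjk hj)⟩

/-- The spectra of the quotients over `Spec A`. -/
noncomputable def stages : ιᵒᵖ ⥤ Over (Spec A) where
  obj i := Over.mk (Spec.map (CommRingCat.ofHom (Ideal.Quotient.mk (f i.unop))))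
  map h := Over.homMk (Spec.map ((rings A f).map h.unop)) (by
    dsimp [rings]
    rw [← Spec.map_comp]
    rfl)
  map_id i := Over.OverMorphism.ext (by
    show Spec.map ((rings A f).map (𝟙 i).unop) = 𝟙 _
    rw [unop_id, CategoryTheory.Functor.map_id, Spec.map_id])
  map_comp h h' := Over.OverMorphism.ext (by
    show Spec.map ((rings A f).map (h ≫ h').unop) = Spec.map _ ≫ Spec.map _
    rw [unop_comp, CategoryTheory.Functor.map_comp, Spec.map_comp])

/-- The cone. -/
noncomputable def stagesCone : Cone (stages A f) where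
  pt := Over.mk (Spec.map (CommRingCat.ofHom (Ideal.Quotient.mk (⨆ i, f i))))
  π :=
    { app := fun i => Over.homMk (Spec.map ((cocone A f).ι.app i.unop)) (by
        dsimp [cocone, stages]
        rw [← Spec.map_comp]
        rfl)
      naturality := fun i j h => Over.OverMorphism.ext (by
        refine (Category.id_comp _).trans ?_
        exact (congrArg Spec.map ((cocone A f).w h.unop).symm).trans (Spec.map_comp _ _)) }

/-- It is a limit. -/
noncomputable def isLimit : IsLimit (stagesCone A f) := by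
  have := IsCofiltered.isConnected ιᵒᵖ
  refine isLimitOfReflects (Over.forget (Spec A)) ?_
  exact (isLimitOfPreserves Scheme.Spec (isColimit A f).op)

end Quot

/-- Let `X` be an algebraic space over `Spec A` with quasi-compact and quasi-separated structure
morphism. If `X` is not a scheme, there is an ideal `I ⊂ A` such that `X_{A/I}` is not a scheme but
`X_{A/I'}` is a scheme for every ideal `I'` strictly containing `I`. -/
theorem result (A : CommRingCat.{u}) (X : AlgSp.Space (Spec A))
    (q : X.obj ⟶ (AlgSp.yon (Spec A)).obj (Over.mk (𝟙 (Spec A))))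
    (hqc : AlgSp.IsQuasiCompactMor q) (hqs : AlgSp.IsQuasiSeparatedMor q) (hX : ¬ X.obj.obj.IsRepresentable) :
    ∃ I : Ideal A,
      (∀ (P : AlgSp.Sp (Spec A)) (fst : P ⟶ X.obj)
        (snd : P ⟶ (AlgSp.yon (Spec A)).obj (Over.mk (Spec.map (CommRingCat.ofHom (Ideal.Quotient.mk I))))),
        IsPullback fst snd q ((AlgSp.yon (Spec A)).map (Over.homMk (Spec.map (CommRingCat.ofHom (Ideal.Quotient.mk I))))) →
          ¬ P.obj.IsRepresentable) ∧
      ∀ I' : Ideal A, I < I' →
        ∀ (P : AlgSp.Sp (Spec A)) (fst : P ⟶ X.obj)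
          (snd : P ⟶ (AlgSp.yon (Spec A)).obj (Over.mk (Spec.map (CommRingCat.ofHom (Ideal.Quotient.mk I'))))),
          IsPullback fst snd q ((AlgSp.yon (Spec A)).map (Over.homMk (Spec.map (CommRingCat.ofHom (Ideal.Quotient.mk I'))))) →
            P.obj.IsRepresentable := by
  classical
  let Pl : Ideal A → AlgSp.Sp (Spec A) := fun I =>
    pullback q ((yon (Spec A)).map (Over.mkIdTerminal.from (Over.mk (Spec.map (CommRingCat.ofHom (Ideal.Quotient.mk I))))))
  have heq : ∀ I : Ideal A, ((yon (Spec A)).map (Over.mkIdTerminal.from (Over.mk (Spec.map (CommRingCat.ofHom (Ideal.Quotient.mk I)))))) =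
      ((yon (Spec A)).map (Over.homMk (Spec.map (CommRingCat.ofHom (Ideal.Quotient.mk I))))) := fun I =>
    congrArg (yon (Spec A)).map (Over.mkIdTerminal.hom_ext _ _)
  have hiff : ∀ (I : Ideal A) (P : AlgSp.Sp (Spec A)) (fst : P ⟶ X.obj) (snd : P ⟶ (yon (Spec A)).obj (Over.mk (Spec.map (CommRingCat.ofHom (Ideal.Quotient.mk I))))),
      IsPullback fst snd q ((yon (Spec A)).map (Over.homMk (Spec.map (CommRingCat.ofHom (Ideal.Quotient.mk I))))) →
        (P.obj.IsRepresentable ↔ (Pl I).obj.IsRepresentable) := fun I P fst snd sq => by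
    let e : P ≅ Pl I := sq.isoIsPullback _ _ (by rw [← heq I]; exact IsPullback.of_hasPullback _ _)
    exact ⟨fun h => isRepresentable_of_iso (AlgSp.isoOfRepresentableBy h.has_representation.choose_spec.some ≪≫ e),
      fun h => isRepresentable_of_iso (AlgSp.isoOfRepresentableBy h.has_representation.choose_spec.some ≪≫ e.symm)⟩
  let B : Set (Ideal A) := {I | ¬ (Pl I).obj.IsRepresentable}
  have hbot : (⊥ : Ideal A) ∈ B := fun h => hX <| by
    haveI : IsIso (CommRingCat.ofHom (Ideal.Quotient.mk (⊥ : Ideal A))) :=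
      (ConcreteCategory.isIso_iff_bijective _).2 ((Ideal.Quotient.mk_bijective_iff_eq_bot (⊥ : Ideal A)).2 rfl)
    let φ : Over.mk (Spec.map (CommRingCat.ofHom (Ideal.Quotient.mk (⊥ : Ideal A)))) ≅ Over.mk (𝟙 (Spec A)) :=
      Over.isoMk (asIso (Spec.map (CommRingCat.ofHom (Ideal.Quotient.mk (⊥ : Ideal A))))) (Category.comp_id _)
    haveI : IsIso ((yon (Spec A)).map (Over.mkIdTerminal.from (Over.mk (Spec.map (CommRingCat.ofHom (Ideal.Quotient.mk (⊥ : Ideal A))))))) := by
      rw [Over.mkIdTerminal.hom_ext (Over.mkIdTerminal.from _) φ.hom]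
      infer_instance
    exact isRepresentable_of_iso
      (AlgSp.isoOfRepresentableBy h.has_representation.choose_spec.some ≪≫ asIso (pullback.fst q _))
  obtain ⟨I, -, hI⟩ := zorn_le_nonempty₀ B (fun c hcB hcc y hy => by
    haveI : Nonempty c := ⟨⟨y, hy⟩⟩
    haveI : IsDirectedOrder c := ⟨fun a b => by
      rcases hcc.total a.2 b.2 with h | h
      · exact ⟨b, h, le_refl b⟩
      · exact ⟨a, le_refl a, h⟩⟩
    let f : c →o Ideal A := ⟨Subtype.val, fun _ _ h => h⟩
    refine ⟨⨆ i, f i, fun hrep => ?_, fun z hz => le_iSup f ⟨z, hz⟩⟩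
    obtain ⟨i, hi⟩ := Chev.StageBase.exists_stage_isRepresentable X q hqc hqs (stages A f)
      (fun i => inferInstanceAs (IsAffine (Spec _))) (stagesCone A f) (isLimit A f) hrep
    exact hcB i.unop.2 hi) ⊥ hbot
  refine ⟨I, fun P fst snd sq h => hI.prop ((hiff I P fst snd sq).1 h), fun I' hlt P fst snd sq =>
    (hiff I' P fst snd sq).2 (by_contra fun h => ?_)⟩
  exact hlt.not_ge (hI.le_of_ge h hlt.le)

end Groth.Agent.S10052
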