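import Groth.Statements.S10072
import Groth.Agent.AlgSpDec.SepClosedAlg
import Groth.Agent.AlgSpDec.AffineCheck
import Groth.Agent.AlgSpDec.MonoRep
import Groth.Agent.AlgSpDec.LimDescent

set_option autoImplicit false
universe u
open CategoryTheory CategoryTheory.Limits AlgebraicGeometry
open AlgSp

namespace Groth.Agent.S10072

set_option backward.isDefEq.respectTransparency false
set_option backward.isDefEq.respectTransparency.types false

open Opposite Topology TopologicalSpace AlgSp Groth.Agent.AlgSpLib Groth.Agent.AlgSpPts Groth.Agent.AlgSpDec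

/-- Let `f : X ⟶ Y` be quasi-compact, `g : Z ⟶ Y` a morphism of algebraic spaces over `S`, `P = X ×_Y
Z`, `z ∈ |Z|` and `T ⊂ |P|` closed with `z` not in the image of `T`. Then there are an affine etale
neighbourhood `(V, v) ⟶ (Z, z)`, an affine scheme `Z'` with `b : Z' ⟶ Y` locally of finite
presentation and `a : V ⟶ Z'` over `Y`, and for every fibre product `P' = X ×_Y Z'` a closed `T' ⊂
|P'|` whose image in `|Z'|` misses `a(v)` and which contains the image of the inverse image of `T`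
in `|X ×_Y V|`. (The variant with `V` an open neighbourhood when `Z` is a scheme is not included.) -/
theorem result (S : Scheme.{u}) {X Y Z : AlgSp.Space S} (f : X ⟶ Y) (g : Z ⟶ Y)
    (hf : AlgSp.IsQuasiCompactMor f.hom)
    (P : AlgSp.Sp S) (p₁ : P ⟶ X.obj) (p₂ : P ⟶ Z.obj) (hP : IsPullback p₁ p₂ f.hom g.hom)
    (z : AlgSp.Points Z.obj) (T : Set (AlgSp.Points P)) (hT : IsClosed T) (hz : z ∉ AlgSp.Points.map p₂ '' T) :
    ∃ (V : Over S) (_ : IsAffine V.left) (e : (AlgSp.yon S).obj V ⟶ Z.obj) (_ : AlgSp.RepWith @Etale e) (v : ↥V.left)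
      (_ : AlgSp.Points.map e (AlgSp.Points.schemeEquiv V v) = z)
      (Z' : Over S) (_ : IsAffine Z'.left) (b : (AlgSp.yon S).obj Z' ⟶ Y.obj) (_ : AlgSp.LocP @LocallyOfFinitePresentation b)
      (a : V ⟶ Z') (_ : (AlgSp.yon S).map a ≫ b = e ≫ g.hom),
      ∀ (P' : AlgSp.Sp S) (q₁ : P' ⟶ X.obj) (q₂ : P' ⟶ (AlgSp.yon S).obj Z'), IsPullback q₁ q₂ f.hom b →
        ∃ T' : Set (AlgSp.Points P'), IsClosed T' ∧
          AlgSp.Points.schemeEquiv Z' (a.left v) ∉ AlgSp.Points.map q₂ '' T' ∧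
          ∀ (PV : AlgSp.Sp S) (r₁ : PV ⟶ X.obj) (r₂ : PV ⟶ (AlgSp.yon S).obj V), IsPullback r₁ r₂ f.hom (e ≫ g.hom) →
            ∀ (κ₁ : PV ⟶ P) (κ₂ : PV ⟶ P'), κ₁ ≫ p₁ = r₁ → κ₁ ≫ p₂ = r₂ ≫ e → κ₂ ≫ q₁ = r₁ → κ₂ ≫ q₂ = r₂ ≫ (AlgSp.yon S).map a →
              ∀ w : AlgSp.Points PV, AlgSp.Points.map κ₁ w ∈ T → AlgSp.Points.map κ₂ w ∈ T' := by
  obtain ⟨Z₀, a₀, z₀, hZ₀, ha₀, hz₀⟩ := exists_affine_chart_at Z.property z
  haveI : IsAffine Z₀.left := hZ₀
  obtain ⟨VY, bY, hbY, hbYs⟩ := Y.property.atlas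
  obtain ⟨W, bW, V, π, k, hW, hbW, hV, hπe, hπs, hπ⟩ := exists_affine_chart_lift hbY hbYs (a₀ ≫ g.hom)
  haveI : IsAffine W.left := hW
  haveI : IsAffine V.left := hV
  obtain ⟨v, hv⟩ := hπs.surj z₀
  let e := (yon S).map π ≫ a₀
  have he : RepWith @Etale e := repWith_comp ((repWith_yon_map_iff _ _).2 hπe) ha₀
  have hev : Points.map e (Points.schemeEquiv V v) = z := by
    rw [← hz₀, ← hv, Points.map_comp]
    exact map_map_ofScheme π a₀ v
  have hek : e ≫ g.hom = (yon S).map k ≫ bW := by simpa [e] using hπ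
  -- affine chart of the base change to `W`
  have sqW := IsPullback.of_hasPullback f.hom bW
  have hWqc : IsQuasiCompactSp ((yon S).obj W) :=
    ⟨W, 𝟙 _, repWith_of_isIso _ _, repWith_of_isIso _ _, inferInstanceAs (CompactSpace ↥W.left)⟩
  obtain ⟨U, uc, hU, hu, hus⟩ := AlgSpDec.exists_affine_atlas
    (hf (IsAlgSpace.yon_obj W) hWqc bW _ _ sqW)
  haveI : IsAffine U.left := hU
  obtain ⟨h, hh⟩ := (yon S).map_surjective (uc ≫ pullback.snd f.hom bW)
  -- the fibre product with `V`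
  obtain ⟨UVs, d₁, d₂, sqUV, sep⟩ := SepClosed.exists_vector h.left k.left v
  let UV : Over S := Over.mk (d₁ ≫ U.hom)
  let e₁ : UV ⟶ U := CategoryTheory.Over.homMk d₁ rfl
  let e₂ : UV ⟶ V := CategoryTheory.Over.homMk d₂ (by
    show d₂ ≫ V.hom = d₁ ≫ U.hom
    rw [← Over.w k, ← Over.w h, reassoc_of% sqUV.w])
  have sUV := isPullback_yon_of_left e₁ e₂ h k sqUV
  have sV := IsPullback.of_hasPullback f.hom (e ≫ g.hom)
  let PV₀ := pullback f.hom (e ≫ g.hom)
  let κ₁₀ : PV₀ ⟶ P := hP.lift (pullback.fst _ _) (pullback.snd _ _ ≫ e)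
    (sV.w.trans (Category.assoc _ _ _).symm)
  let ψ : (yon S).obj UV ⟶ PV₀ := sV.lift ((yon S).map e₁ ≫ uc ≫ pullback.fst f.hom bW) ((yon S).map e₂) (by
    rw [Category.assoc, Category.assoc, sqW.w, ← Category.assoc uc, ← hh, ← Category.assoc, sUV.w, hek,
      Category.assoc])
  let T₂ : Set ↥UV.left := (Points.ofPt (ψ ≫ κ₁₀)) ⁻¹' T
  have hT₂ : IsClosed T₂ := hT.preimage (Points.continuous_ofPt _)
  have hT₂v : ∀ t ∈ T₂, d₂ t ≠ v := fun t ht htv => by
    refine hz ⟨_, ht, ?_⟩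
    rw [Points.map_ofPt, Category.assoc, show κ₁₀ ≫ p₂ = pullback.snd _ _ ≫ e from hP.lift_snd _ _ _,
      sV.lift_snd_assoc, ofPt_comp, Points.ofPt_eq_map_ofScheme]
    rw [show e₂.left t = v from htv]
    exact hev
  obtain ⟨n, G, hG⟩ := sep T₂ hT₂ hT₂v
  let Z' : Over S := Over.mk ((𝔸(ULift.{u} (Fin n); W.left) ↘ W.left) ≫ W.hom)
  let nW : Z' ⟶ W := CategoryTheory.Over.homMk (𝔸(ULift.{u} (Fin n); W.left) ↘ W.left) rfl
  let a : V ⟶ Z' := CategoryTheory.Over.homMk (AffineSpace.homOfVector k.left G) (by simp [Z'])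
  have han : a ≫ nW = k := Over.OverMorphism.ext (AffineSpace.homOfVector_over _ _)
  haveI hZ'a : IsAffine Z'.left := inferInstanceAs (IsAffine 𝔸(ULift.{u} (Fin n); W.left))
  let b := (yon S).map nW ≫ bW
  have hb : LocP @LocallyOfFinitePresentation b := locP_of_repWith (repWith_comp ((repWith_yon_map_iff _ nW).2
    (inferInstanceAs (LocallyOfFinitePresentation (𝔸(ULift.{u} (Fin n); W.left) ↘ W.left))))
    (repWith_mono (fun _ _ g (_ : Etale g) => (inferInstance : LocallyOfFinitePresentation g)) _ hbW))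
  have hab : (yon S).map a ≫ b = e ≫ g.hom := by rw [hek, ← Functor.map_comp_assoc, han]
  refine ⟨V, hV, e, he, v, hev, Z', hZ'a, b, hb, a, hab, fun P' q₁ q₂ hP' => ?_⟩
  let κ₂₀ : PV₀ ⟶ P' := hP'.lift (pullback.fst _ _) (pullback.snd _ _ ≫ (yon S).map a)
    ((sV.w.trans (congrArg (pullback.snd f.hom (e ≫ g.hom) ≫ ·) hab.symm)).trans (Category.assoc _ _ _).symm)
  refine ⟨closure (Points.map κ₂₀ '' (Points.map κ₁₀ ⁻¹' T)), isClosed_closure, ?_, ?_⟩
  swap
  · intro PV r₁ r₂ hPV κ₁ κ₂ w₁ w₂ w₃ w₄ x hx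
    let φ : PV ⟶ PV₀ := sV.lift r₁ r₂ hPV.w
    have h₁ : κ₁ = φ ≫ κ₁₀ := hP.hom_ext (by rw [w₁, Category.assoc, hP.lift_fst, sV.lift_fst])
      (by rw [w₂, Category.assoc, hP.lift_snd, sV.lift_snd_assoc])
    have h₂ : κ₂ = φ ≫ κ₂₀ := hP'.hom_ext (by rw [w₃, Category.assoc, hP'.lift_fst, sV.lift_fst])
      (by rw [w₄, Category.assoc, hP'.lift_snd, sV.lift_snd_assoc])
    refine subset_closure ⟨Points.map φ x, ?_, by rw [h₂, Points.map_comp]⟩
    rw [Set.mem_preimage, ← Points.map_comp, ← h₁]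
    exact hx
  · rintro ⟨y, hy, hyv⟩
    -- chart of `P'`
    let U' : Over S := Over.mk (pullback.fst h.left nW.left ≫ U.hom)
    let g₁ : U' ⟶ U := CategoryTheory.Over.homMk (pullback.fst h.left nW.left) rfl
    let g₂ : U' ⟶ Z' := CategoryTheory.Over.homMk (pullback.snd h.left nW.left) (by
      show _ ≫ Z'.hom = _ ≫ U.hom
      rw [← Over.w nW, ← Over.w h, reassoc_of% (pullback.condition : pullback.fst h.left nW.left ≫ h.left = _)])
    have sU' := isPullback_yon_of_left g₁ g₂ h nW (IsPullback.of_hasPullback h.left nW.left)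
    let c : (yon S).obj U' ⟶ P' := hP'.lift ((yon S).map g₁ ≫ uc ≫ pullback.fst f.hom bW) ((yon S).map g₂) (by
      rw [Category.assoc, Category.assoc, sqW.w, ← Category.assoc uc, ← hh, ← Category.assoc, sU'.w,
        Category.assoc])
    let ρ : P' ⟶ pullback f.hom bW := sqW.lift q₁ (q₂ ≫ (yon S).map nW) (by rw [hP'.w, Category.assoc])
    have sρ : IsPullback ρ q₂ (pullback.snd f.hom bW) ((yon S).map nW) :=
      IsPullback.of_right (by rw [sqW.lift_fst]; exact hP') (sqW.lift_snd _ _ _) sqW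
    have hcρ : c ≫ ρ = (yon S).map g₁ ≫ uc := sqW.hom_ext
      (by rw [Category.assoc, sqW.lift_fst, hP'.lift_fst, Category.assoc])
      (by rw [Category.assoc, sqW.lift_snd, hP'.lift_snd_assoc, Category.assoc, ← hh, sU'.w])
    have sc : IsPullback ((yon S).map g₁) c uc ρ :=
      (IsPullback.of_bot (by rw [hP'.lift_snd, ← hh]; exact sU') hcρ.symm sρ :)
    have hc : RepWith @Etale c := repWith_of_isPullback sc hu
    have hcs : RepWith @Surjective c := repWith_of_isPullback sc hus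
    let m : UV ⟶ U' := CategoryTheory.Over.homMk (pullback.lift d₁ (d₂ ≫ a.left) (by
      rw [Category.assoc, sqUV.w]
      exact congrArg (d₂ ≫ ·) (congrArg (fun e => e.left) han).symm)) (by simp [U', UV])
    have hm₁ : m ≫ g₁ = e₁ := Over.OverMorphism.ext (pullback.lift_fst _ _ _)
    have hm₂ : m ≫ g₂ = e₂ ≫ a := Over.OverMorphism.ext (pullback.lift_snd _ _ _)
    have hψκ : ψ ≫ κ₂₀ = (yon S).map m ≫ c := hP'.hom_ext
      (by rw [Category.assoc, hP'.lift_fst, sV.lift_fst, Category.assoc, hP'.lift_fst, ← Functor.map_comp_assoc, hm₁])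
      (by rw [Category.assoc, hP'.lift_snd, sV.lift_snd_assoc, Category.assoc, hP'.lift_snd, ← Functor.map_comp,
        ← Functor.map_comp, hm₂])
    have sm : IsPullback ψ ((yon S).map m) κ₂₀ c := by
      refine IsPullback.of_right (h₁₂ := pullback.snd f.hom (e ≫ g.hom)) (h₂₂ := q₂) (v₁₃ := (yon S).map a) ?_ hψκ ?_
      · rw [sV.lift_snd, hP'.lift_snd]
        exact IsPullback.of_bot (h₂₁ := (yon S).map g₂) (v₂₁ := (yon S).map g₁) (h₃₁ := (yon S).map h)
          (v₂₂ := (yon S).map nW) (by rw [← Functor.map_comp, hm₁, ← Functor.map_comp, han]; exact sUV.flip)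
          (by rw [← Functor.map_comp, ← Functor.map_comp, hm₂]) sU'.flip
      · refine IsPullback.of_bot (h₂₁ := q₂) (v₂₁ := q₁) (h₃₁ := f.hom) (v₂₂ := b) ?_
          (hP'.lift_snd _ _ _).symm hP'.flip
        rw [hP'.lift_fst, hab]
        exact sV.flip
    obtain ⟨y', rfl⟩ := surjective_ofPt hcs y
    have hy' : y' ∈ closure (Points.ofPt c ⁻¹' (Points.map κ₂₀ '' (Points.map κ₁₀ ⁻¹' T))) :=
      (isOpenMap_ofPt hc).preimage_closure_subset_closure_preimage hy
    have hsub : Points.ofPt c ⁻¹' (Points.map κ₂₀ '' (Points.map κ₁₀ ⁻¹' T)) ⊆ m.left '' T₂ := by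
      rintro x ⟨w, hw, hwx⟩
      obtain ⟨t', ht₁, ht₂⟩ := exists_point_of_isPullback sm (x := w) (y := Points.ofScheme U' x)
        (hwx.trans (Points.ofPt_eq_map_ofScheme _ _))
      obtain ⟨t, rfl⟩ := (Points.schemeHomeo UV).surjective t'
      refine ⟨t, ?_, (Points.schemeHomeo U').injective ((Points.map_yon_map_apply m t).symm.trans ht₂)⟩
      show Points.ofPt (ψ ≫ κ₁₀) t ∈ T
      rw [Points.ofPt_eq_map_ofScheme, Points.map_comp]
      exact ht₁.symm ▸ hw
    refine hG U'.left g₁.left g₂.left m.left (congrArg (fun e => e.left) hm₁) (congrArg (fun e => e.left) hm₂)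
      y' (closure_mono hsub hy') ?_
    refine (Points.schemeHomeo Z').injective ((Eq.trans ?_ hyv))
    rw [Points.map_ofPt, hP'.lift_snd, Points.ofPt_eq_map_ofScheme]
    exact (Points.map_yon_map_apply g₂ y').symm

end Groth.Agent.S10072
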