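import Groth.Statements.S10076
import Groth.Agent.S10042
import Groth.Agent.AlgSpDec.BiratSp
import Groth.Agent.AlgSpPts.Descent
import Groth.Agent.AlgSpVal.DvrSep
import Groth.Agent.GrpQuotLib.DenseAffine
import Groth.Agent.FlatMisc.FiniteDense
import Groth.Agent.AlgSpDec.Basic

set_option autoImplicit false
universe u
open CategoryTheory CategoryTheory.Limits AlgebraicGeometry
open AlgSp

namespace Groth.Agent.S10076

set_option backward.isDefEq.respectTransparency false
set_option backward.isDefEq.respectTransparency.types false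

open TopologicalSpace Topology AlgSp Groth.Agent.AlgSpLib Groth.Agent.AlgSpPts Groth.Agent.AlgSpDec

/-- Let `X` be a Noetherian algebraic space over `S` (quasi-compact and quasi-separated over `S`,
locally Noetherian) and `f : Y ⟶ X` of finite presentation. Then there are a dense open subspace `V
⊂ Y`, an `n`, and an immersion `V ⟶ 𝐀^n_X = X ×_S 𝐀^n_S` over `X`. (The published statement allows
any base scheme and uses absolute quasi-separatedness; this row assumes the base quasi-separated,
over which quasi-separatedness relative to the base is the absolute notion.) -/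
theorem result (S : Scheme.{u}) [QuasiSeparatedSpace S]
    {Y X : AlgSp.Space S} (f : Y ⟶ X) (hf : AlgSp.IsFinitePresentationMor f.hom)
    (hXqc : AlgSp.IsQuasiCompactSp X.obj) (hXqs : AlgSp.IsQuasiSeparatedSp X.obj) (hXln : AlgSp.IsLocNoethSp X.obj) :
    ∃ (V : AlgSp.Space S) (j : V ⟶ Y) (n : ℕ)
      (i : V.obj ⟶ X.obj ⨯ (AlgSp.yon S).obj (Over.mk (𝔸(ULift.{u} (Fin n); S) ↘ S))),
      AlgSp.RepWith @IsOpenImmersion j.hom ∧ Dense (Set.range (AlgSp.Points.map j.hom)) ∧
      i ≫ prod.fst = j.hom ≫ f.hom ∧ AlgSp.RepWith @IsImmersion i := by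
  obtain ⟨hlfp, hfqc, hfqs⟩ := hf
  have hYqs : IsQuasiSeparatedSp Y.obj := (isQuasiSeparatedSp_iff_mor _).2
    ((isTerminalYon S).hom_ext (f.hom ≫ (isTerminalYon S).from X.obj) ((isTerminalYon S).from Y.obj) ▸
      isQuasiSeparatedMor_comp hfqs ((isQuasiSeparatedSp_iff_mor _).1 hXqs))
  have hYqc : IsQuasiCompactSp Y.obj :=
    hfqc X.property hXqc (𝟙 X.obj) (𝟙 Y.obj) f.hom (IsPullback.of_horiz_isIso ⟨by rw [Category.id_comp, Category.comp_id]⟩)
  have hflft : LocP @LocallyOfFiniteType f.hom :=
    locP_mono (fun _ _ g (_ : LocallyOfFinitePresentation g) => (inferInstance : LocallyOfFiniteType g)) hlfp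
  have hYN : IsLocNoethSp Y.obj := AlgSpVal.isLocNoethSp_of_lft Y.property X.property f.hom hflft hXln
  obtain ⟨W₁, b₁, hW₁, hb₁, hbs₁⟩ := AlgSpDec.exists_affine_atlas hYqc
  haveI : IsAffine W₁.left := hW₁
  haveI : IsLocallyNoetherian W₁.left := isLocallyNoetherian_chart hb₁ hYN
  haveI : IsNoetherian W₁.left := {}
  haveI : NoetherianSpace (Points Y.obj) :=
    noetherianSpace_of_surjective _ (Points.continuous_ofPt b₁) (surjective_ofPt hbs₁)
  obtain ⟨V₀, c, hc, hcd⟩ := BiratSp.exists_dense_scheme Y (isDecent_of_isQuasiSeparatedSp Y.property hYqs)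
  have hce : IsOpenEmbedding (Points.map c ∘ Points.schemeHomeo V₀) :=
    (isOpenEmbedding_map' Y.property hc).comp (Points.schemeHomeo V₀).isOpenEmbedding
  haveI : NoetherianSpace ↥V₀.left := hce.isInducing.noetherianSpace
  -- an affine atlas of the base, finite over a dense open
  obtain ⟨W₀, a₁, hW₀, ha₁, has₁⟩ := AlgSpDec.exists_affine_atlas hXqc
  haveI : IsAffine W₀.left := hW₀
  haveI hW₀s : IsSeparated W₀.hom := inferInstance
  have hasep := repWith_isSeparated_of_yon X.property a₁ hW₀s
  let f₀ := c ≫ f.hom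
  let T₀ := ha₁.rep.pullback f₀
  let p₀ : T₀ ⟶ V₀ := ha₁.rep.snd f₀
  haveI : Etale p₀.left := ha₁.property_snd f₀
  haveI : IsSeparated p₀.left := hasep.property _ _ _ (ha₁.rep.isPullback' f₀)
  have hW₀qc : IsQuasiCompactSp ((yon S).obj W₀) :=
    ⟨W₀, 𝟙 _, repWith_of_isIso _ _, repWith_of_isIso _ _, inferInstanceAs (CompactSpace ↥W₀.left)⟩
  haveI : CompactSpace ↥V₀.left := inferInstance
  haveI : QuasiCompact p₀.left := (AlgSpPts.repWith_quasiCompact ha₁.rep
    (isQuasiCompactMor_of_qc_qs (IsAlgSpace.yon_obj W₀) X.property hW₀qc hXqs a₁)).property _ _ _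
      (ha₁.rep.isPullback' f₀)
  obtain ⟨O, hOd, hOfin⟩ := FlatMisc.FiniteDense.exists_dense_isFinite p₀.left
  haveI : NoetherianSpace ↥(O : Scheme.{u}) := inferInstanceAs (NoetherianSpace (O : Set V₀.left))
  obtain ⟨A, hA, hAd⟩ := GrpQuotLib.exists_dense_affineOpen (O : Scheme.{u})
  let j₀ : (A : Scheme.{u}) ⟶ V₀.left := A.ι ≫ O.ι
  let U : Over S := Over.mk (j₀ ≫ V₀.hom)
  let jU : U ⟶ V₀ := CategoryTheory.Over.homMk j₀ rfl
  haveI : IsAffine U.left := hA
  have hjU : RepWith @IsOpenImmersion ((yon S).map jU ≫ c) :=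
    repWith_comp ((repWith_yon_map_iff _ jU).2 (inferInstanceAs (IsOpenImmersion j₀))) hc
  have hlft : LocP @LocallyOfFiniteType ((yon S).map jU ≫ c ≫ f.hom) := by
    rw [← Category.assoc]
    exact locP_comp (IsAlgSpace.yon_obj U) Y.property X.property
      (locP_of_repWith (repWith_mono (fun _ _ g (_ : IsOpenImmersion g) => (inferInstance : LocallyOfFiniteType g)) _ hjU)) hflft
  obtain ⟨n, i, hi₁, hi₂⟩ := S10042.exists_immersion_of_graph X hXqs U ((yon S).map jU ≫ c ≫ f.hom) hlft
    (V₁ := X.obj) (jV := 𝟙 _) (repWith_of_isIso _ _) ((yon S).map jU ≫ c ≫ f.hom) (Category.comp_id _) W₀ a₁ ha₁ has₁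
    fun T pW pU sqT hw => by
      rw [Category.comp_id] at sqT
      -- the restriction of the finite morphism
      obtain ⟨m, hm⟩ := (yon S).map_surjective ((ha₁.rep.isPullback' f₀).lift ((yon S).map pW)
        ((yon S).map (pU ≫ jU)) (by rw [sqT.w, Functor.map_comp, Category.assoc]))
      have sq₁ : IsPullback ((yon S).map m) ((yon S).map pU) ((yon S).map p₀) ((yon S).map jU) :=
        IsPullback.of_right (by rw [hm, IsPullback.lift_fst]; exact sqT)
          (by rw [hm, IsPullback.lift_snd, Functor.map_comp]) (ha₁.rep.isPullback' f₀)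
      have sq₂ : IsPullback m.left pU.left p₀.left j₀ :=
        (IsPullback.of_map (yon S) ((yon S).map_injective (by simpa only [Functor.map_comp] using sq₁.w)) sq₁).map
          (Over.forget S)
      have hpU : IsFinite pU.left := by
        have h1 : IsFinite (pullback.snd p₀.left O.ι) :=
          (MorphismProperty.arrow_mk_iso_iff @IsFinite (morphismRestrictOpensRange p₀.left O.ι)).1
            (by rw [Scheme.Opens.opensRange_ι]; exact hOfin)
        have h2 := (IsPullback.of_hasPullback (pullback.snd p₀.left O.ι) A.ι).paste_horiz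
          (IsPullback.of_hasPullback p₀.left O.ι)
        rw [← MorphismProperty.cancel_left_of_respectsIso @IsFinite (sq₂.isoPullback).inv,
          sq₂.isoPullback_inv_snd]
        rw [← MorphismProperty.cancel_left_of_respectsIso @IsFinite (h2.isoPullback).hom, h2.isoPullback_hom_snd]
        exact MorphismProperty.pullback_snd _ _ h1
      haveI : IsSeparated (pullback.snd W₀.hom U.hom) := inferInstance
      let tP := pullback.lift pW.left pU.left hw
      haveI : IsFinite (tP ≫ pullback.snd W₀.hom U.hom) := by rw [pullback.lift_snd]; exact hpU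
      haveI : IsFinite tP := IsFinite.of_comp tP (pullback.snd W₀.hom U.hom)
      have : Mono tP := ⟨fun {Z} x y hxy => by
        have h1 : x ≫ pW.left = y ≫ pW.left := by simpa [tP] using congrArg (· ≫ pullback.fst _ _) hxy
        have h2 : x ≫ pU.left = y ≫ pU.left := by simpa [tP] using congrArg (· ≫ pullback.snd _ _) hxy
        let Z' : Over S := Over.mk (x ≫ T.hom)
        let x' : Z' ⟶ T := CategoryTheory.Over.homMk x rfl
        let y' : Z' ⟶ T := CategoryTheory.Over.homMk y (by
          show y ≫ T.hom = x ≫ T.hom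
          rw [← Over.w pU, ← Category.assoc, ← h2, Category.assoc])
        have : x' = y' := (yon S).map_injective (sqT.hom_ext
          (by rw [← Functor.map_comp, ← Functor.map_comp]; exact congrArg _ (Over.OverMorphism.ext h1))
          (by rw [← Functor.map_comp, ← Functor.map_comp]; exact congrArg _ (Over.OverMorphism.ext h2)))
        exact congrArg (fun e : Z' ⟶ T => e.left) this⟩
      haveI : IsClosedImmersion tP := (IsClosedImmersion.iff_isFinite_and_mono tP).2 ⟨inferInstance, this⟩
      exact inferInstanceAs (IsImmersion tP)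
  refine ⟨⟨(yon S).obj U, IsAlgSpace.yon_obj U⟩, ObjectProperty.homMk ((yon S).map jU ≫ c), n, i, hjU, ?_,
    hi₁.trans (Category.assoc _ _ _).symm, hi₂⟩
  have hjd : DenseRange j₀ :=
    (show DenseRange O.ι by rw [DenseRange, Scheme.Opens.range_ι]; exact hOd).comp
      (show DenseRange A.ι by rw [DenseRange, Scheme.Opens.range_ι]; exact hAd) O.ι.continuous
  have hcd' : DenseRange (Points.map c ∘ Points.schemeHomeo V₀) := by
    refine hcd.mono ?_
    rintro _ ⟨x, rfl⟩
    exact ⟨x, (Points.ofPt_eq_map_ofScheme _ _).symm⟩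
  refine (hcd'.comp hjd hce.continuous).mono ?_
  rintro _ ⟨x, rfl⟩
  exact ⟨Points.schemeHomeo U x, by
    rw [show (ObjectProperty.homMk ((yon S).map jU ≫ c) : (⟨_, IsAlgSpace.yon_obj U⟩ : Space S) ⟶ Y).hom =
      (yon S).map jU ≫ c from rfl, Points.map_comp]
    exact congrArg _ (Points.map_yon_map_apply jU x)⟩

end Groth.Agent.S10076
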