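import Groth.Statements.S10079
import Groth.Agent.EtQC.FTUnion

set_option autoImplicit false
universe u
open CategoryTheory CategoryTheory.Limits AlgebraicGeometry Opposite
open AlgSp

namespace Groth.Agent.S10079

set_option backward.isDefEq.respectTransparency false
set_option backward.isDefEq.respectTransparency.types false

open Groth.Agent.EtQC

/-- Let `S` be a quasi-separated scheme, `X` an algebraic space over `S`, quasi-compact and
quasi-separated over `S`, and `M` a quasi-coherent `O_X`-module on the small etale site of `X`. Then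
the subobjects of `M` whose underlying module is quasi-coherent of finite type form a directed
(filtered, nonempty) partial order, and the cocone of their inclusion arrows exhibits `M` as the
colimit of these submodules. (The published statement allows any base scheme and uses absolute
quasi-separatedness; this row assumes the base quasi-separated, over which quasi-separatedness
relative to the base is the absolute notion.) -/
theorem result {S : Scheme.{u}} [QuasiSeparatedSpace ↥S]
    (X : AlgSp.Space S) (hqc : AlgSp.IsQuasiCompactSp X.obj) (hqs : AlgSp.IsQuasiSeparatedSp X.obj)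
    (M : AlgSp.ModEt X.obj) [M.IsQuasicoherent]
    (P : ObjectProperty (Subobject M))
    (hP : P = fun N => (Subobject.underlying.obj N).IsQuasicoherent ∧ (Subobject.underlying.obj N).IsFiniteType)
    (ι : P.ι ⋙ Subobject.underlying ⟶ (Functor.const P.FullSubcategory).obj M)
    (hι : ∀ N : P.FullSubcategory, ι.app N = N.obj.arrow) :
    IsFiltered P.FullSubcategory ∧ Nonempty (IsColimit (Cocone.mk M ι)) := by
  have hM : BCAll M := bcAll_of_isQuasicoherent M
  have hA := X.property
  have mk : ∀ G : AffSub M, BCAll G.mod → FT G.mod → P (Subobject.mk G.ι) := fun G hG hFT => by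
    let e := Subobject.underlyingIso G.ι
    have hq : (Subobject.underlying.obj (Subobject.mk G.ι)).IsQuasicoherent :=
      ObjectProperty.prop_of_iso (SheafOfModules.isQuasicoherent.{u + 1} (OEtRing X.obj)) e.symm hG.isQuasicoherent
    rw [hP]
    refine ⟨hq, isFiniteType_of_ft (@bcAll_of_isQuasicoherent _ _ _ hq) fun E hE => ?_⟩
    obtain ⟨n, V, g, hV, hc⟩ := hFT E hE
    refine ⟨n, V, g, fun i => ⟨(hV i).1, ?_⟩, hc⟩
    haveI := (hV i).2
    exact Module.Finite.of_surjective (app e.inv (V i)) fun y => ⟨app e.hom (V i) y, by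
      rw [← app_comp', e.hom_inv_id]
      rfl⟩
  have un : ∀ N : P.FullSubcategory, BCAll (Subobject.underlying.obj N.obj) ∧ FT (Subobject.underlying.obj N.obj) :=
    fun N => by
      obtain ⟨h1, h2⟩ := (congrFun hP N.obj).mp N.property
      exact ⟨@bcAll_of_isQuasicoherent _ _ _ h1, @ft_of_isFiniteType _ _ _ h1 h2⟩
  haveI : Nonempty P.FullSubcategory := by
    obtain ⟨G, hG, hFT, -⟩ := exists_ft_sub hM hA hqc hqs (m := 0) Fin.elim0 (fun i => i.elim0) (fun i => i.elim0)
    exact ⟨⟨_, mk G hG hFT⟩⟩
  haveI : Quiver.IsThin P.FullSubcategory := fun A B =>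
    ⟨fun f g => ObjectProperty.hom_ext _ (Subsingleton.elim _ _)⟩
  have hf : IsFiltered P.FullSubcategory :=
    { cocone_objs := fun A B => by
        obtain ⟨G, hG, hFT, ⟨ψ₁, e₁⟩, ψ₂, e₂⟩ := exists_common_ft hM hA hqc hqs A.obj.arrow B.obj.arrow
          (un A).1 (un B).1 (un A).2 (un B).2
        exact ⟨⟨_, mk G hG hFT⟩, ObjectProperty.homMk (homOfLE (Subobject.le_mk_of_comm ψ₁ e₁)),
          ObjectProperty.homMk (homOfLE (Subobject.le_mk_of_comm ψ₂ e₂)), trivial⟩
      cocone_maps := fun A B f g => ⟨B, 𝟙 B, Subsingleton.elim _ _⟩ }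
  refine ⟨hf, ?_⟩
  haveI : ∀ N, Mono (ι.app N) := fun N => by rw [hι]; infer_instance
  refine isColimit_of_union (P.ι ⋙ Subobject.underlying) ι fun W hW s => ?_
  obtain ⟨G, hG, hFT, hs⟩ := exists_ft_sub hM hA hqc hqs (fun _ : Fin 1 => W) (fun _ => hW) (fun _ => s)
  obtain ⟨t, ht⟩ := (Set.ext_iff.1 (G.range_ι W hW) s).2 (hs 0)
  refine ⟨⟨_, mk G hG hFT⟩, app (Subobject.underlyingIso G.ι).inv W t, ?_⟩
  rw [hι]
  refine (app_comp' (Subobject.underlyingIso G.ι).inv (Subobject.mk G.ι).arrow W t).symm.trans ?_
  rw [Subobject.underlyingIso_arrow]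
  exact ht

end Groth.Agent.S10079
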