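import Groth.Statements.S10080
import Groth.Agent.EtQC.FP.Colim
import Groth.Agent.EtQC.FTUnion

set_option autoImplicit false
universe u
open CategoryTheory CategoryTheory.Limits AlgebraicGeometry Opposite
open AlgSp

namespace Groth.Agent.S10080

set_option backward.isDefEq.respectTransparency false
set_option backward.isDefEq.respectTransparency.types false
set_option maxHeartbeats 800000

open Groth.Agent.EtQC

variable {S : Scheme.{u}} {X : Sp S} {K : ModEt X}

instance : PartialOrder (AffSub K) where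
  le G G' := ∀ W hW, G.P W hW ≤ G'.P W hW
  le_refl _ _ _ := le_rfl
  le_trans _ _ _ h h' W hW := (h W hW).trans (h' W hW)
  le_antisymm G G' h h' := by
    obtain ⟨P, _, _⟩ := G
    obtain ⟨P', _, _⟩ := G'
    obtain rfl : P = P' := funext fun W => funext fun hW => le_antisymm (h W hW) (h' W hW)
    rfl

theorem affSub_le (G G' : AffSub K) (h : ∀ W hW, G.P W hW ≤ G'.P W hW) : G ≤ G' := fun W hW => h W hW

theorem le_of_factor {G H : AffSub K} (ψ : G.mod ⟶ H.mod) (h : ψ ≫ H.ι = G.ι) : G ≤ H :=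
  affSub_le G H fun W hW s hs => by
    obtain ⟨t, ht⟩ := (Set.ext_iff.1 (G.range_ι W hW) s).2 hs
    have e : app H.ι W (app ψ W t) = s :=
      ((app_comp' ψ H.ι W t).symm.trans (congrArg (fun m : G.mod ⟶ K => app m W t) h)).trans ht
    exact e ▸ app_sub_mem H W hW (app ψ W t)

theorem comp_cokernel_eq_zero {C : Type*} [Category C] [Abelian C] {A A' K P : C} (i : A ⟶ K) (i' : A' ⟶ K)
    (k : K ⟶ P) (ψ : A ⟶ A') (h : ψ ≫ i' = i) : (i ≫ k) ≫ cokernel.π (i' ≫ k) = 0 := by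
  rw [← h, Category.assoc ψ, Category.assoc ψ, cokernel.condition, comp_zero]

theorem exists_map {G G' : AffSub K} (h : G ≤ G') : ∃ ψ : G.mod ⟶ G'.mod, ψ ≫ G'.ι = G.ι :=
  exists_factor G'.ι G.ι fun W hW s =>
    (Set.ext_iff.1 (G'.range_ι W hW) _).2 (h W hW (app_sub_mem G W hW s))

section Main

variable {P M : ModEt X} (φ : P ⟶ M) (κ : K ⟶ P) (hκ0 : κ ≫ φ = 0)
  (hκ : ∀ (W : EtOver X) (a : sectModEt P W), app φ W a = 0 → ∃ k, app κ W k = a)

theorem map_w {G G' : AffSub K} (h : G ≤ G') : (G.ι ≫ κ) ≫ cokernel.π (G'.ι ≫ κ) = 0 :=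
  (exists_map h).elim fun ψ hψ => comp_cokernel_eq_zero G.ι G'.ι κ ψ hψ

include hκ0 in
theorem ι_w (G : AffSub K) : (G.ι ≫ κ) ≫ φ = 0 :=
  (Category.assoc _ _ _).trans ((congrArg (G.ι ≫ ·) hκ0).trans comp_zero)

/-- The quotients by finite type submodules of the kernel. -/
noncomputable def quot (Z : AffSub K → Prop) : {G : AffSub K // Z G} ⥤ ModEt X where
  obj G := cokernel (G.1.ι ≫ κ)
  map {G G'} f := cokernel.desc _ (cokernel.π (G'.1.ι ≫ κ)) (map_w κ (show G.1 ≤ G'.1 from leOfHom f))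
  map_id _ := coequalizer.hom_ext (by simp)
  map_comp _ _ := coequalizer.hom_ext (by simp)

/-- The cocone of the quotients. -/
noncomputable def quotι (Z : AffSub K → Prop) : quot κ Z ⟶ (Functor.const _).obj M where
  app G := cokernel.desc _ φ (ι_w φ κ hκ0 G.1)
  naturality _ _ _ := coequalizer.hom_ext (by simp [quot])

theorem desc_app {A Q : ModEt X} (α : A ⟶ P) (ψ : P ⟶ Q) (h : α ≫ ψ = 0) (W : EtOver X) (a : sectModEt P W) :
    app (cokernel.desc α ψ h) W (app (cokernel.π α) W a) = app ψ W a :=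
  (app_comp' (cokernel.π α) (cokernel.desc α ψ h) W a).symm.trans (FPres.app_eq_of_eq (cokernel.π_desc α ψ h) W a)

theorem π_eq_zero (G : AffSub K) (hG : BCAll G.mod) (hP : BCAll P) (W : EtOver X) [hW : IsAffine W.obj.left.left]
    (k : sectModEt K W) (hk : k ∈ G.P W hW) : app (cokernel.π (G.ι ≫ κ)) W (app κ W k) = 0 := by
  obtain ⟨k', hk'⟩ := (Set.ext_iff.1 (G.range_ι W hW) k).2 hk
  exact (FPres.mem_range_iff (G.ι ≫ κ) hG hP W _).2 ⟨k', (app_comp' G.ι κ W k').trans (congrArg (app κ W) hk')⟩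

include hκ0 hκ in
theorem main [QuasiSeparatedSpace ↥S] (hA : IsAlgSpace X) (hqc : IsQuasiCompactSp X) (hqs : IsQuasiSeparatedSp X)
    (hP : BCAll P) (hPF : FPres.IsFP P) (hK : BCAll K)
    (hsurj : ∀ (W : EtOver X), IsAffine W.obj.left.left → Function.Surjective (app φ W)) :
    ∃ (J : Type (u + 1)) (_ : PartialOrder J) (_ : IsDirected J (· ≤ ·)) (_ : Nonempty J)
      (D : J ⥤ ModEt X) (ι : D ⟶ (Functor.const J).obj M),
      Nonempty (IsColimit (Cocone.mk M ι)) ∧ (∀ j, (D.obj j).IsFinitePresentation) ∧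
        ∀ (j j' : J) (h : j ⟶ j'), Epi (D.map h) := by
  let J := {G : AffSub K // BCAll G.mod ∧ FT G.mod}
  obtain ⟨G₀, hG₀, hG₀', -⟩ := exists_ft_sub hK hA hqc hqs (m := 0) Fin.elim0 (fun i => i.elim0) (fun i => i.elim0)
  haveI : Nonempty J := ⟨⟨G₀, hG₀, hG₀'⟩⟩
  have hup : ∀ G G' : AffSub K, BCAll G.mod → FT G.mod → BCAll G'.mod → FT G'.mod →
      ∃ G'' : J, G ≤ G''.1 ∧ G' ≤ G''.1 := fun G G' h h' k k' => by
    obtain ⟨H, hH, hH', ⟨ψ, hψ⟩, ψ', hψ'⟩ := exists_common_ft hK hA hqc hqs G.ι G'.ι h k h' k'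
    exact ⟨⟨H, hH, hH'⟩, le_of_factor ψ hψ, le_of_factor ψ' hψ'⟩
  haveI : IsDirected J (· ≤ ·) := ⟨fun a b => hup a.1 b.1 a.2.1 a.2.2 b.2.1 b.2.2⟩
  refine ⟨J, inferInstance, inferInstance, inferInstance, quot κ _, quotι φ κ hκ0 _,
    FPres.isColimit_of_affine (quot κ _) (quotι φ κ hκ0 _) (fun W hW s => ?_) (fun W hW G t ht => ?_),
    fun G => (FPres.IsFP.of_sect (bcAll_cokernel (G.1.ι ≫ κ) G.2.1 hP) fun E hE => ?_).fp, fun G G' f => ?_⟩
  · obtain ⟨a, ha⟩ := hsurj W hW s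
    exact ⟨⟨G₀, hG₀, hG₀'⟩, app (cokernel.π (G₀.ι ≫ κ)) W a, (desc_app _ φ (ι_w φ κ hκ0 G₀) W a).trans ha⟩
  · haveI := hW
    obtain ⟨a, rfl⟩ := FPres.app_cokernel_surjective (G.1.ι ≫ κ) G.2.1 hP W t
    obtain ⟨k, rfl⟩ := hκ W a ((desc_app _ φ (ι_w φ κ hκ0 G.1) W a).symm.trans ht)
    obtain ⟨H, hH, hH', hk⟩ := exists_ft_sub hK hA hqc hqs (fun _ : Fin 1 => W) (fun _ => hW) (fun _ => k)
    obtain ⟨G', hGG', hHG'⟩ := hup G.1 H G.2.1 G.2.2 hH hH'
    exact ⟨G', homOfLE hGG', (desc_app _ (cokernel.π (G'.1.ι ≫ κ)) (map_w κ hGG') W _).trans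
      (π_eq_zero κ G'.1 G'.2.1 hP W k (hHG' W hW (hk 0)))⟩
  · haveI := hE
    haveI := hPF.sect E
    haveI := G.2.2.finite G.2.1 E
    exact FPres.finitePresentation_cokernel (G.1.ι ≫ κ) G.2.1 hP E
  · exact epi_of_epi_fac (cokernel.π_desc (G.1.ι ≫ κ) (cokernel.π (G'.1.ι ≫ κ))
      (map_w κ (show G.1 ≤ G'.1 from leOfHom f)))

end Main

/-- Let `S` be a quasi-separated scheme, `X` an algebraic space over `S`, quasi-compact and
quasi-separated over `S`, and `M` a quasi-coherent `O_X`-module of finite type on the small etale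
site of `X`. Then `M` is the colimit of a system of `O_X`-modules of finite presentation, indexed by
a nonempty directed partial order, whose transition maps are all epimorphisms. (The published
statement allows any base scheme and uses absolute quasi-separatedness; this row assumes the base
quasi-separated, over which quasi-separatedness relative to the base is the absolute notion.) -/
theorem result {S : Scheme.{u}} [QuasiSeparatedSpace ↥S]
    (X : AlgSp.Space S) (hqc : AlgSp.IsQuasiCompactSp X.obj) (hqs : AlgSp.IsQuasiSeparatedSp X.obj)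
    (M : AlgSp.ModEt X.obj) [M.IsQuasicoherent] [M.IsFiniteType] :
    ∃ (J : Type (u + 1)) (_ : PartialOrder J) (_ : IsDirected J (· ≤ ·)) (_ : Nonempty J)
      (D : J ⥤ AlgSp.ModEt X.obj) (ι : D ⟶ (Functor.const J).obj M),
      Nonempty (IsColimit (Cocone.mk M ι)) ∧ (∀ j, (D.obj j).IsFinitePresentation) ∧
        ∀ (j j' : J) (h : j ⟶ j'), Epi (D.map h) := by
  classical
  have hM := bcAll_of_isQuasicoherent M
  have hMft := ft_of_isFiniteType M
  obtain ⟨C⟩ := exists_chain X.property hqc hqs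
  choose T hT using fun l : Fin C.n => (hMft.finite hM (C.W l)).fg_top
  obtain ⟨P, φ, hP, hPfp, hhit⟩ := FPres.hit X.property hqs C C.n le_rfl M hM fun l => (T l).toList
  have hPF : FPres.IsFP P := ⟨hP, FPres.isFinitePresentation_of_fpk C hP hPfp⟩
  have hsurj : ∀ (W : EtOver X.obj), IsAffine W.obj.left.left → Function.Surjective (app φ W) := fun W hW s => by
    haveI := hW
    refine (FPres.mem_range_iff φ hP hM W s).1 (FPres.eq_zero_of_pieces (bcAll_cokernel φ hP hM) C.W C.aff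
      (fun l z => ?_) W (fun x => ?_) _)
    · obtain ⟨w, rfl⟩ := FPres.app_cokernel_surjective φ hP hM (C.W l) z
      refine (FPres.mem_range_iff φ hP hM (C.W l) w).2 ?_
      refine (Submodule.span_le (p := LinearMap.range (app φ (C.W l)))).2 ?_
        (hT l ▸ Submodule.mem_top : w ∈ Submodule.span (Fn (C.W l)) (T l : Set _))
      intro t ht
      exact hhit l l.isLt t (Finset.mem_toList.2 ht)
    · obtain ⟨l, hl⟩ := C.surj (Glob.pt W x)
      obtain ⟨W', h, c, hW', hx⟩ := exists_lift_nbhd (U := C.W l) x hl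
      exact ⟨W', l, h, c, hW', hx⟩
  exact main φ (kernel.ι φ) (kernel.condition φ) (fun W a h => FPres.exists_kernel φ W a h) X.property hqc hqs hP hPF
    (bcAll_kernel φ hP hM) hsurj

end Groth.Agent.S10080
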