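import Groth.Statements.S10087
import Groth.Agent.EtQC.FTOpen

set_option autoImplicit false
universe u
open CategoryTheory CategoryTheory.Limits AlgebraicGeometry Opposite
open AlgSp

namespace Groth.Agent.S10087

set_option backward.isDefEq.respectTransparency false
set_option backward.isDefEq.respectTransparency.types false

open Groth.Agent.EtQC

/-- Let `S` be a quasi-separated scheme, `X` an algebraic space over `S`, quasi-compact and
quasi-separated over `S`, `j : U ⟶ X` a quasi-compact open subspace, `F` a quasi-coherent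
`O_X`-module on the small etale site of `X` and `G ⟶ j^*F` a quasi-coherent submodule of finite type
of the restriction of `F` to `U`. Then `G` is the restriction of a quasi-coherent submodule `G' ⟶ F`
of finite type: there is an isomorphism `j^*G' ≅ G` compatible with the two inclusions. (The
published statement allows any base scheme and uses absolute quasi-separatedness; this row assumes
the base quasi-separated, over which quasi-separatedness relative to the base is the absolute
notion.) -/
theorem result {S : Scheme.{u}} [QuasiSeparatedSpace ↥S] (X : AlgSp.Space S)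
    (hqc : AlgSp.IsQuasiCompactSp X.obj) (hqs : AlgSp.IsQuasiSeparatedSp X.obj)
    (U : AlgSp.Space S) (j : U ⟶ X) (hj : AlgSp.RepWith @IsOpenImmersion j.hom)
    (hU : AlgSp.IsQuasiCompactSp U.obj)
    [(SheafOfModules.pushforward.{u + 1} (AlgSp.bcRingHom hj.1)).IsRightAdjoint]
    (F : AlgSp.ModEt X.obj) [F.IsQuasicoherent]
    (G : AlgSp.ModEt U.obj) (g : G ⟶ (AlgSp.pullModEt hj.1).obj F) [Mono g]
    [G.IsQuasicoherent] [G.IsFiniteType] :
    ∃ (G' : AlgSp.ModEt X.obj) (g' : G' ⟶ F), Mono g' ∧ G'.IsQuasicoherent ∧ G'.IsFiniteType ∧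
      ∃ e : (AlgSp.pullModEt hj.1).obj G' ≅ G, e.hom ≫ g = (AlgSp.pullModEt hj.1).map g' := by
  have hf : IsEtaleMor j.hom := AlgSpLib.isEtaleMor_of_repWith
    (AlgSpLib.repWith_mono (fun _ _ e (_ : IsOpenImmersion e) => (inferInstance : Etale e)) _ hj)
  haveI := AlgSpDec.PostcompSite.isContinuous j.hom hf
  haveI : Mono j.hom := AlgSpDec.mono_of_openImm hj
  let η : OpenExt.restr hf ≅ pullModEt hj.1 :=
    (AlgSpDec.EtPullRestrict.modAdj hj.1 hf).leftAdjointUniq (pullPushAdjModEt hj.1)
  have hG := bcAll_of_isQuasicoherent G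
  obtain ⟨G', g', hm, hq, hft, e, he⟩ := OpenExt.exists_ext hj.1 hf X.property hqc hqs U.property hU
    (AlgSpDec.Neat.isQuasiSeparatedSp_of_openImm hj hqs) (bcAll_of_isQuasicoherent F) hG (ft_of_isFiniteType G)
    (g ≫ η.inv.app F)
  haveI := hq.isQuasicoherent
  refine ⟨G', g', hm, hq.isQuasicoherent, isFiniteType_of_ft hq hft, η.symm.app G' ≪≫ e, ?_⟩
  rw [← cancel_mono (η.inv.app F)]
  show ((η.inv.app G' ≫ e.hom) ≫ g) ≫ η.inv.app F = (pullModEt hj.1).map g' ≫ η.inv.app F
  rw [η.inv.naturality g', ← he]
  simp only [Category.assoc]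

end Groth.Agent.S10087
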