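import Groth.Statements.S10105
import Groth.Agent.AlgSpDec.FppfFamily
import Groth.Agent.AlgSpPts.Descent
import Groth.Agent.AlgStLib.FppfSite

set_option autoImplicit false
universe u
open CategoryTheory CategoryTheory.Limits AlgebraicGeometry
open AlgSp

namespace Groth.Agent.S10105

/-- Let `F` be an fppf sheaf of sets over `S` and `{S_i ⟶ S}` an fppf covering. If every `h_{S_i} × F`
is an algebraic space and the coproduct `∐ h_{S_i} × F` (in sheaves) is an algebraic space, then `F`
is an algebraic space: being an algebraic space is fppf local on the base. -/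
theorem result (S : Scheme.{u}) (F : AlgSp.Sp S) {ι : Type u} (Si : ι → Over S)
    (hfl : ∀ i, Flat (Si i).hom) (hfp : ∀ i, LocallyOfFinitePresentation (Si i).hom)
    (hsurj : ∀ x : ↥S, ∃ (i : ι) (y : ↥(Si i).left), (Si i).hom.base y = x)
    (halg : ∀ i, AlgSp.IsAlgSpace ((AlgSp.yon S).obj (Si i) ⨯ F))
    (c : Cofan (fun i => (AlgSp.yon S).obj (Si i) ⨯ F)) (hc : IsColimit c) (hcop : AlgSp.IsAlgSpace c.pt) :
    AlgSp.IsAlgSpace F := by
  clear hcop hc c
  let hT := AlgSpPts.isTerminalYon S
  let X : AlgSp.Sp S := (AlgSp.yon S).obj (CategoryTheory.Over.mk (𝟙 S))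
  let v : ∀ i, Si i ⟶ CategoryTheory.Over.mk (𝟙 S) := fun i =>
    CategoryTheory.Over.homMk (Si i).hom (Category.comp_id _)
  have hcov : AlgSp.IsFppfCover (fun i => (AlgSp.yon S).obj (Si i)) (fun i => (AlgSp.yon S).map (v i)) :=
    AlgStLib.isFppfCover_yon_map Si v hfl hfp (fun x => by
      obtain ⟨i, y, hy⟩ := hsurj x
      exact ⟨i, y, hy⟩)
  refine AlgSpDec.isAlgSpace_of_fppf_local (X := X) (IsAlgSpace.yon_obj _)
    (fun i => IsAlgSpace.yon_obj (Si i)) (fun i => (AlgSp.yon S).map (v i)) hcov (hT.from F) (fun i => ?_)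
  let g := (AlgSp.yon S).map (v i)
  let e : (AlgSp.yon S).obj (Si i) ⨯ F ≅ pullback (hT.from F) g :=
    { hom := pullback.lift prod.snd prod.fst (hT.hom_ext _ _)
      inv := prod.lift (pullback.snd _ _) (pullback.fst _ _)
      hom_inv_id := prod.hom_ext (by rw [Category.assoc, prod.lift_fst, pullback.lift_snd, Category.id_comp])
        (by rw [Category.assoc, prod.lift_snd, pullback.lift_fst, Category.id_comp])
      inv_hom_id := pullback.hom_ext (by rw [Category.assoc, pullback.lift_fst, prod.lift_snd, Category.id_comp])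
        (by rw [Category.assoc, pullback.lift_snd, prod.lift_fst, Category.id_comp]) }
  exact (halg i).of_iso e

end Groth.Agent.S10105
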