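import Groth.Statements.S1012
import Groth.Agent.CountPerf.Cell
import Groth.Agent.S1008

set_option autoImplicit false
set_option linter.style.haveILetI false
set_option backward.isDefEq.respectTransparency false
universe u
open CategoryTheory CategoryTheory.Limits AlgebraicGeometry
attribute [local instance] HasDerivedCategory.standard
open Opposite
open Perf

namespace Groth.Agent.S1012

/-- Let the scheme X be quasi-compact and quasi-separated, with O_X(U) countable for every affine open
U, and let K ∈ D(O_X) have quasi-coherent cohomology sheaves. Assuming countable direct sums exist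
in D(O_X) (they do), K is a homotopy colimit of a sequence of perfect objects if and only if every
cohomology sheaf Hⁱ(K) has countably many sections over every affine open. -/
theorem result (X : Scheme.{u}) [CompactSpace ↥X] [QuasiSeparatedSpace ↥X]
    (hX : ∀ U : X.Opens, IsAffineOpen U → Countable (X.presheaf.obj (op U)))
    [HasColimitsOfShape (Discrete ℕ) (DCoh.D X)]
    (K : DCoh.D X) (hK : DCoh.IsQCohD K) :
    (∃ (E : ℕ → DCoh.D X) (f : ∀ n, E n ⟶ E (n + 1)) (i : ∀ n, E n ⟶ K),
      (∀ n, DCoh.IsPerfect (E n)) ∧ DerLim.IsHocolim E f K i) ↔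
    ∀ (U : X.Opens), IsAffineOpen U → ∀ i : ℤ, Countable ((DCoh.HD K i).val.obj (op U)) := by
  constructor
  · rintro ⟨E, f, i, hE, hh⟩ U hU k
    have hEq : ∀ n, DCoh.IsQCohD (E n) := fun n => Groth.Agent.PerfSeq.isQCohD_of_perfect (hE n)
    let H := DerivedCategory.homologyFunctor X.Modules k
    haveI : PreservesColimitsOfShape (Discrete ℕ) H := ⟨fun {F} => by
      haveI : PreservesColimit (Discrete.functor (F.obj ∘ Discrete.mk)) H :=
        Groth.Agent.KFlatLib.preservesColimit_homology (F.obj ∘ Discrete.mk) k
      exact preservesColimit_of_iso_diagram H Discrete.natIsoFunctor.symm⟩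
    obtain ⟨e, he⟩ := Groth.Agent.TriCat.exists_colimit_iso H E f K i hh
    let F := Functor.ofSequence fun n => H.map (f n)
    refine Groth.Agent.CountPerf.countable_of_jointly_epi (ι := ℕ) hX (fun n => DCoh.HD (E n) k) (DCoh.HD K k)
      (fun n => H.map (i n)) (fun n => hEq n k) (hK k) U hU
      (fun n => Groth.Agent.CountPerf.countable_HD_of_isPerfect hX (hE n) (hEq n) U hU k) ?_
    intro Q q hq
    let R := Scheme.Modules.restrictFunctor hU.fromSpec
    haveI : PreservesColimitsOfShape ℕ (Scheme.Modules.pullback hU.fromSpec) :=
      (Scheme.Modules.pullbackPushforwardAdjunction hU.fromSpec).leftAdjoint_preservesColimits.preservesColimitsOfShape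
    haveI : PreservesColimitsOfShape ℕ R :=
      preservesColimitsOfShape_of_natIso (Scheme.Modules.restrictFunctorIsoPullback hU.fromSpec).symm
    apply (cancel_epi (R.map e.hom)).1
    rw [comp_zero]
    refine (isColimitOfPreserves R (colimit.isColimit F)).hom_ext fun n => ?_
    show R.map (colimit.ι F n) ≫ R.map e.hom ≫ q = R.map (colimit.ι F n) ≫ 0
    rw [comp_zero, ← Category.assoc, ← Functor.map_comp, he n]
    exact hq n
  · intro hc
    obtain ⟨G, hG, hgen⟩ := Groth.Agent.S1008.result X
    exact Groth.Agent.CountPerf.exists_hocolim_of_countable hX hG (fun E hE h => (hgen E hE).2 h) hK hc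

end Groth.Agent.S1012
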