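import Groth.Statements.S1013
import Groth.Agent.S1103
import Groth.Agent.S1011
import Groth.Agent.S7240
import Groth.Agent.TriCat.HocolimHomological
import Groth.Agent.TriCat.Hocolim
import Groth.Agent.KFlatLib.Perfect.DLocal
import Groth.Agent.KFlatLib.Scheme.RpushCoprodQCoh
import Groth.Agent.KFlatLib.Scheme.Exact
import Groth.Agent.PerfGen7.KoszulOrth
import Groth.Agent.PerfGen7.TruncHom

set_option autoImplicit false
set_option linter.style.haveILetI false
set_option backward.isDefEq.respectTransparency false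
universe u
open CategoryTheory CategoryTheory.Limits AlgebraicGeometry
attribute [local instance] HasDerivedCategory.standard
open Perf

namespace Groth.Agent.S1013

open Groth.Agent Groth.Agent.KFlatLib Pretriangulated

variable {X : Scheme.{u}}

/-- A step of the approximating sequence. -/
structure Step (K : DCoh.D X) (n : ℕ) where
  P : DCoh.D X
  α : P ⟶ K
  perf : DCoh.IsPerfect P
  iso : ∀ i : ℤ, -(n : ℤ) ≤ i → IsIso ((DerivedCategory.homologyFunctor X.Modules i).map α)

lemma exists_approx [CompactSpace X] [QuasiSeparatedSpace X] (K : DCoh.D X)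
    (hK : ∀ m : ℤ, DCoh.IsPseudoCoherentD m K) (hq : DCoh.IsQCohD K) (m : ℤ) :
    ∃ (P : DCoh.D X) (α : P ⟶ K), DCoh.IsPerfect P ∧ IsPcMap m α := by
  obtain ⟨r, hr⟩ := S1103.result X Set.univ isClosed_univ (by simp)
  obtain ⟨P, α, hP, -, h1, h2⟩ := hr m K hq (hK _) (fun _ _ => Set.subset_univ _)
  exact ⟨P, α, hP, h1, h2⟩

lemma isQCohD_of_perfect {P : DCoh.D X} (hP : DCoh.IsPerfect P) : DCoh.IsQCohD P := fun i =>
  (S7240.result (i - 1) P ((isPseudoCoherentD_iff _ _).2 (((isPerfect_iff P).1 hP).locPC _))).1 i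
    (by omega)

lemma exists_next [CompactSpace X] [QuasiSeparatedSpace X] (K : DCoh.D X)
    (hK : ∀ m : ℤ, DCoh.IsPseudoCoherentD m K) (hq : DCoh.IsQCohD K) (n : ℕ) (s : Step K n) :
    ∃ (t : Step K (n + 1)) (f : s.P ⟶ t.P), f ≫ t.α = s.α := by
  obtain ⟨⟨a, b, hab, hvan⟩, -⟩ := S1011.result X s.P s.perf
  obtain ⟨P, α, hP, h1, h2⟩ := exists_approx K hK hq (min a (-(n : ℤ) - 1) - 1)
  obtain ⟨C, g, d, hT⟩ := distinguished_cocone_triangle α
  have hzero : ∀ i : ℤ, min a (-(n : ℤ) - 1) ≤ i → IsZero (DCoh.HD C i) := by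
    intro i hi
    haveI := h1 i (by omega)
    haveI := h1 (i + 1) (by omega)
    refine (DerivedCategory.HomologySequence.exact₃ _ hT i (i + 1) rfl).isZero_of_both_zeros ?_ ?_
    · exact (cancel_epi ((DerivedCategory.homologyFunctor X.Modules i).map α)).1 (by
        rw [comp_zero, ← Functor.map_comp]
        exact (congrArg _ (comp_distTriang_mor_zero₁₂ _ hT)).trans (Functor.map_zero _ _ _))
    · exact (cancel_mono ((DerivedCategory.homologyFunctor X.Modules (i + 1)).map α)).1 (by
        rw [zero_comp]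
        exact DerivedCategory.HomologySequence.δ_comp _ hT i (i + 1) rfl)
  have hC : DCoh.IsQCohD C := fun i => isQCohD_obj₃ hT (isQCohD_of_perfect hP) hq i
  obtain ⟨f, hf⟩ := Triangle.coyoneda_exact₂ _ hT s.α
    (hvan C hC (fun i hi _ => hzero i (by omega)) _)
  exact ⟨⟨P, α, hP, fun i hi => h1 i (by push_cast at hi; omega)⟩, f, hf.symm⟩

lemma exists_seq [CompactSpace X] [QuasiSeparatedSpace X] (K : DCoh.D X)
    (hK : ∀ m : ℤ, DCoh.IsPseudoCoherentD m K) (hq : DCoh.IsQCohD K) :
    ∃ (s : ∀ n, Step K n) (f : ∀ n, (s n).P ⟶ (s (n + 1)).P), ∀ n, f n ≫ (s (n + 1)).α = (s n).α := by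
  obtain ⟨P, α, hP, h1, -⟩ := exists_approx K hK hq (-1)
  let s : ∀ n, Step K n := Nat.rec ⟨P, α, hP, fun i hi => h1 i (by push_cast at hi; omega)⟩
    fun n t => (exists_next K hK hq n t).choose
  exact ⟨s, fun n => (exists_next K hK hq n (s n)).choose_spec.choose,
    fun n => (exists_next K hK hq n (s n)).choose_spec.choose_spec⟩

lemma isHocolim_of_eventually_iso [HasColimitsOfShape (Discrete ℕ) (DCoh.D X)]
    (E : ℕ → DCoh.D X) (f : ∀ n, E n ⟶ E (n + 1)) {K : DCoh.D X} (i : ∀ n, E n ⟶ K)
    (hw : ∀ n, f n ≫ i (n + 1) = i n)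
    (h : ∀ (n : ℕ) (k : ℤ), -(n : ℤ) ≤ k → IsIso ((DerivedCategory.homologyFunctor X.Modules k).map (i n))) :
    DerLim.IsHocolim E f K i := by
  obtain ⟨L, j, hL⟩ := TriCat.exists_isHocolim E f
  obtain ⟨φ, hφ⟩ := TriCat.IsHocolim.exists_desc hL i hw
  haveI : IsIso φ := by
    refine (DerivedCategory.isIso_iff _ φ).2 fun k => ?_
    let H := DerivedCategory.homologyFunctor X.Modules k
    haveI : HasColimitsOfShape ℕ X.Modules := inferInstance
    haveI : HasExactColimitsOfShape ℕ X.Modules := inferInstance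
    haveI : HasColimitsOfShape (Discrete ℕ) X.Modules := inferInstance
    haveI : HasExactColimitsOfShape (Discrete ℕ) X.Modules := inferInstance
    haveI : PreservesColimitsOfShape (Discrete ℕ) H := ⟨fun {F} => by
      haveI : PreservesColimit (Discrete.functor (F.obj ∘ Discrete.mk)) H :=
        preservesColimit_homology (F.obj ∘ Discrete.mk) k
      exact preservesColimit_of_iso_diagram H Discrete.natIsoFunctor.symm⟩
    obtain ⟨e, he⟩ := TriCat.exists_colimit_iso H E f L j hL
    let F := Functor.ofSequence fun n => H.map (f n)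
    let N : ℕ := (-k).toNat
    have hNk : ∀ n, N ≤ n → IsIso (H.map (f n)) := fun n hn => by
      haveI := h n k (by omega)
      haveI := h (n + 1) k (by push_cast; omega)
      haveI : IsIso (H.map (f n) ≫ H.map (i (n + 1))) := by
        rw [← Functor.map_comp, hw n]
        infer_instance
      exact IsIso.of_isIso_comp_right _ (H.map (i (n + 1)))
    have hev : F.IsEventuallyConstantFrom N := by
      intro n u
      have hn : N ≤ n := leOfHom u
      rw [show u = homOfLE hn from Subsingleton.elim _ _]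
      clear u
      induction n, hn using Nat.le_induction with
      | base => rw [show homOfLE (le_refl N) = 𝟙 N from rfl, CategoryTheory.Functor.map_id]; infer_instance
      | succ m hm ih =>
        rw [← homOfLE_comp hm (Nat.le_succ m), Functor.map_comp,
          Functor.ofSequence_map_homOfLE_succ]
        haveI := hNk m hm
        haveI := ih
        infer_instance
    haveI : IsIso (colimit.ι F N) := hev.isIso_ι_of_isColimit (colimit.isColimit F)
    haveI : IsIso (H.map (j N)) := by rw [← he N]; infer_instance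
    haveI : IsIso (H.map (j N) ≫ H.map φ) := by
      rw [← Functor.map_comp, hφ N]
      exact h N k (by omega)
    exact IsIso.of_isIso_comp_left (H.map (j N)) (H.map φ)
  obtain ⟨c, hc⟩ := hL
  refine ⟨inv φ ≫ c, isomorphic_distinguished _ hc _
    (Triangle.isoMk _ _ (Iso.refl _) (Iso.refl _) (asIso φ).symm ?_ ?_ ?_)⟩
  · exact (Category.comp_id _).trans (Category.id_comp _).symm
  · show Sigma.desc i ≫ inv φ = 𝟙 _ ≫ Sigma.desc j
    rw [Category.id_comp, IsIso.comp_inv_eq]
    refine Sigma.hom_ext _ _ fun n => ?_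
    simp [hφ n]
  · simp


/-- Let the scheme X be quasi-compact and quasi-separated and K ∈ D(O_X). Assuming countable direct sums
exist in D(O_X) (they do), K is pseudo-coherent (m-pseudo-coherent for every m) if and only if K is
a homotopy colimit of a sequence of perfect objects Kₙ whose structure maps Kₙ ⟶ K induce
isomorphisms τ_{≥ -n}Kₙ ⟶ τ_{≥ -n}K for every n. -/
theorem result (X : Scheme.{u}) [CompactSpace ↥X] [QuasiSeparatedSpace ↥X]
    [HasColimitsOfShape (Discrete ℕ) (DCoh.D X)] (K : DCoh.D X) :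
    (∀ m : ℤ, DCoh.IsPseudoCoherentD m K) ↔
    ∃ (E : ℕ → DCoh.D X) (f : ∀ n, E n ⟶ E (n + 1)) (i : ∀ n, E n ⟶ K),
      (∀ n, DCoh.IsPerfect (E n)) ∧ DerLim.IsHocolim E f K i ∧
      ∀ n : ℕ, IsIso (((DerivedCategory.TStructure.t : CategoryTheory.Triangulated.TStructure (DCoh.D X)).truncGE (-(n : ℤ))).map (i n)) := by
  constructor
  · intro hK
    have hq : DCoh.IsQCohD K := fun i => (S7240.result (i - 1) K (hK _)).1 i (by omega)
    obtain ⟨s, f, hf⟩ := exists_seq K hK hq
    refine ⟨fun n => (s n).P, f, fun n => (s n).α, fun n => (s n).perf,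
      isHocolim_of_eventually_iso _ f _ hf fun n k hk => (s n).iso k hk, fun n => ?_⟩
    exact PerfGen7.isIso_truncGE_map _ _ fun i hi => (s n).iso i hi
  · rintro ⟨E, f, i, hE, -, hi⟩ m
    obtain ⟨n, hn⟩ : ∃ n : ℕ, -(n : ℤ) ≤ m := ⟨(-m).toNat, by omega⟩
    have hiso : ∀ k : ℤ, -(n : ℤ) ≤ k →
        IsIso ((DerivedCategory.homologyFunctor X.Modules k).map (i n)) := by
      intro k hk
      haveI := hi n
      haveI := H9Misc.isIso_map_truncGEπ (-(n : ℤ)) k hk (E n)
      haveI := H9Misc.isIso_map_truncGEπ (-(n : ℤ)) k hk K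
      let H := DerivedCategory.homologyFunctor X.Modules k
      let τ : Triangulated.TStructure (DCoh.D X) := DerivedCategory.TStructure.t
      have e : H.map (i n) ≫ H.map ((τ.truncGEπ (-(n : ℤ))).app K) =
          H.map ((τ.truncGEπ (-(n : ℤ))).app (E n)) ≫ H.map ((τ.truncGE (-(n : ℤ))).map (i n)) := by
        rw [← Functor.map_comp, ← Functor.map_comp]
        exact congrArg _ ((τ.truncGEπ _).naturality (i n))
      haveI : IsIso (H.map (i n) ≫ H.map ((τ.truncGEπ (-(n : ℤ))).app K)) := e ▸ inferInstance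
      exact IsIso.of_isIso_comp_right _ (H.map ((τ.truncGEπ (-(n : ℤ))).app K))
    rw [isPseudoCoherentD_iff]
    intro x
    obtain ⟨U, j, _, hx, P, hP, ⟨e⟩⟩ := (isPerfect_iff _).1 (hE n) x
    have hpc : IsPcMap m (i n) := ⟨fun k hk => hiso k (by omega), by
      haveI := hiso m hn; infer_instance⟩
    refine ⟨U, j, _, hx, P, e.hom ≫ (rho j).map (i n), hP, ?_⟩
    exact (isPcMap_of_isIso m e.hom).comp (hpc.map_exact _)

end Groth.Agent.S1013
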