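import Groth.Statements.S1017
import Groth.Agent.QCohRep7.Basic
import Groth.Agent.QCohRep7.Subcomplex
import Groth.Agent.QCohRep7.Homology

set_option autoImplicit false
set_option backward.isDefEq.respectTransparency false
set_option backward.isDefEq.respectTransparency.types false
set_option maxHeartbeats 1000000
universe u
open CategoryTheory CategoryTheory.Limits AlgebraicGeometry
attribute [local instance] HasDerivedCategory.standard
open Perf

namespace Groth.Agent.S1017

/-- Let X be a Noetherian scheme and U ⊆ X an open subscheme. Every bounded object F of D(O_U) with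
coherent cohomology sheaves is the restriction of such an object on X: there is a complex G of
O_X-modules, bounded with coherent cohomology as an object of D(O_X), whose termwise restriction to
U is isomorphic to F in D(O_U). -/
theorem result (X : Scheme.{u}) [IsNoetherian X] (U : X.Opens)
    (F : DCoh.D (U : Scheme.{u})) (hF : DCoh.IsCohD F) (a b : ℤ) [F.IsGE a] [F.IsLE b] :
    ∃ (G : CochainComplex X.Modules ℤ) (a' b' : ℤ), DCoh.IsCohD (DCoh.toD X G) ∧ (DCoh.toD X G).IsGE a' ∧ (DCoh.toD X G).IsLE b' ∧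
      Nonempty (DerivedCategory.Q.obj ((DCoh.restrictCx U).obj G) ≅ F) := by
  haveI : IsNoetherian (U : Scheme.{u}) :=
    { toIsLocallyNoetherian := isLocallyNoetherian_of_isOpenImmersion U.ι
      toCompactSpace := isCompact_iff_compactSpace.1 (TopologicalSpace.NoetherianSpace.isCompact (U : Set X)) }
  obtain ⟨L₀, a₀, hge, hq₀, -, ⟨e₀⟩⟩ := QCohRep7.exists_injective_rep F a b (fun i => (hF i).1)
  haveI := hge
  let P := (Scheme.Modules.pushforward U.ι).mapHomologicalComplex (ComplexShape.up ℤ)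
  let L : CochainComplex X.Modules ℤ := P.obj L₀
  haveI : L.IsStrictlyGE a₀ := (CochainComplex.isStrictlyGE_iff _ _).2 fun m hm =>
    (Scheme.Modules.pushforward U.ι).map_isZero (L₀.isZero_of_isStrictlyGE a₀ m hm)
  have hL : ∀ m, Coh.IsQCoh (L.X m) := fun m => QCoh.isQCoh_pushforward U.ι (hq₀ m)
  let R := DCoh.restrictCx U
  let L' : CochainComplex (U : Scheme.{u}).Modules ℤ := R.obj L
  have hL' : ∀ m, Coh.IsQCoh (L'.X m) := fun m => QCoh.isQCoh_restrict U.ι (hL m)
  let ε : L' ≅ L₀ := HomologicalComplex.Hom.isoOfComponents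
    (fun m => (asIso (Scheme.Modules.restrictAdjunction U.ι).counit).app (L₀.X m))
    (fun i j _ => ((Scheme.Modules.restrictAdjunction U.ι).counit.naturality (L₀.d i j)).symm)
  let e' : DerivedCategory.Q.obj L' ≅ F := DerivedCategory.Q.mapIso ε ≪≫ e₀
  -- the cohomology of `L'` is coherent and vanishes above `b`
  let eH : ∀ m, L'.homology m ≅ DCoh.HD F m := fun m =>
    ((DerivedCategory.homologyFunctorFactors _ m).app L').symm ≪≫
      (DerivedCategory.homologyFunctor _ m).mapIso e'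
  have hH : ∀ m, Coh.IsCoh (L'.homology m) := fun m => QCoh.isCoh_of_epi (eH m).inv (hF m)
    (QCohRep7.isQCoh_homology hL' m)
  -- an affine cover of `U`
  obtain ⟨s, hs, hsfin, hsU⟩ := X.isBasis_affineOpens.exists_finite_of_isCompact (TopologicalSpace.NoetherianSpace.isCompact (U : Set X))
  let κ : Type u := s
  haveI : Finite κ := hsfin.to_subtype
  let W : κ → (U : Scheme.{u}).Opens := fun k => U.ι ⁻¹ᵁ k.1
  have hkU : ∀ k : κ, k.1 ≤ U := fun k => hsU.symm ▸ le_sSup k.2
  have hW : ∀ k, IsAffineOpen (W k) := fun k => by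
    refine (U.ι.isAffineOpen_iff_of_isOpenImmersion).1 ?_
    rw [U.ι.image_preimage_eq_opensRange_inf, Scheme.Opens.opensRange_ι, inf_eq_right.2 (hkU k)]
    exact hs k.2
  let V : κ → X.Opens := fun k => U.ι ''ᵁ W k
  have hV : ∀ k, IsAffineOpen (V k) := fun k => (hW k).image_of_isOpenImmersion U.ι
  have hcov : ∀ x : (U : Scheme.{u}), ∃ k, x ∈ W k := fun x => by
    have hx : x.1 ∈ U := x.2
    obtain ⟨k, hk, hxk⟩ := TopologicalSpace.Opens.mem_sSup.1 ((SetLike.ext_iff.1 hsU _).1 hx)
    exact ⟨⟨k, hk⟩, hxk⟩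
  have hfin : ∀ p m q, p + 1 = m → m + 1 = q → ∀ k : κ, ∃ (N : ℕ) (z : Fin N → Γ(L.X m, V k)),
      (∀ l, (L.d m q).app (V k) (z l) = 0) ∧ ∀ x, (L.d m q).app (V k) x = 0 →
        ∃ w, x - (L.d p m).app (V k) w ∈ Submodule.span Γ(X, V k) (Set.range z) := fun p m q hpm hmq k => by
    obtain ⟨N, z, hz, hspan⟩ := QCohRep7.exists_generators hL' (hW k) hpm hmq (hH m)
    refine ⟨N, z, hz, fun x hx => ?_⟩
    obtain ⟨w, hw⟩ := hspan x hx
    refine ⟨w, ?_⟩
    have h2 := QCohRep7.span_restrict_le U.ι (L.X m) (W k) _ _ hw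
    rwa [show ((L.X m).restrictAppIso U.ι (W k)).hom '' Set.range z = Set.range z from Set.image_id _] at h2
  have hb : ∀ p m q, p + 1 = m → m + 1 = q → b < m → ∀ (k : κ) (x : Γ(L.X m, V k)),
      (L.d m q).app (V k) x = 0 → ∃ w, x = (L.d p m).app (V k) w := fun p m q hpm hmq hbm k x hx => by
    have hz : IsZero (L'.homology m) := ((DerivedCategory.isLE_iff F b).1 inferInstance m hbm).of_iso (eH m)
    have hex : (L'.sc' p m q).Exact :=
      (L'.exactAt_iff' p m q ((ComplexShape.up ℤ).prev_eq' hpm) ((ComplexShape.up ℤ).next_eq' hmq)).1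
        ((L'.exactAt_iff_isZero_homology m).2 hz)
    obtain ⟨w, hw⟩ := QCohRep7.exists_app_eq hex (hL' p) (hL' m) (hL' q) (hW k) x hx
    exact ⟨w, hw.symm⟩
  obtain ⟨G, φ, hmono, hG, hGge, hGle, hsurj, hinj⟩ := QCohRep7.exists_subcomplex hV hL hfin a₀ b hb
  haveI := hGge
  haveI := hGle
  let φ' := R.map φ
  haveI : ∀ m, Mono (φ'.f m) := fun m =>
    haveI := hmono m
    inferInstanceAs (Mono ((Scheme.Modules.restrictFunctor U.ι).map (φ.f m)))
  haveI : QuasiIso φ' := QCohRep7.quasiIso_of_cover (fun m => QCoh.isQCoh_restrict U.ι (hG m).1) hL' φ' W hW hcov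
    hsurj hinj
  refine ⟨G, a₀, b, fun i => ?_, inferInstance, inferInstance, ⟨asIso (DerivedCategory.Q.map φ') ≪≫ e'⟩⟩
  have hGq : ∀ m, Coh.IsQCoh (G.X m) := fun m => (hG m).1
  have hcyc : Coh.IsCoh (G.cycles i) := QCoh.isCoh_of_epi (QCohRep7.cyclesIso G i (i + 1) rfl).inv
    (QCoh.isCoh_kernel (hG i) (hG (i + 1)) (G.d i (i + 1))) (QCohRep7.isQCoh_cycles hGq i)
  have hh : Coh.IsCoh (G.homology i) := QCoh.isCoh_of_epi (G.homologyπ i) hcyc (QCohRep7.isQCoh_homology hGq i)
  exact QCoh.isCoh_of_epi ((DerivedCategory.homologyFunctorFactors _ i).app G).inv hh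
    (KFlatLib.isQCoh_of_iso ((DerivedCategory.homologyFunctorFactors _ i).app G).symm (QCohRep7.isQCoh_homology hGq i))

end Groth.Agent.S1017
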