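import Groth.Statements.S1022
import Groth.Agent.PerfGen7.TruncHom

set_option autoImplicit false
universe u
open CategoryTheory CategoryTheory.Limits AlgebraicGeometry
attribute [local instance] HasDerivedCategory.standard
open Perf

namespace Groth.Agent.S1022

/-- Let the scheme X be quasi-compact and quasi-separated, P a perfect object of D(O_X), E ∈ D_QCoh(O_X)
and a ∈ ℤ. Then the morphisms P[-i] ⟶ E vanish for all large i if and only if the morphisms P[-i] ⟶
τ_{≥ a}E vanish for all large i. -/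
theorem result (X : Scheme.{u}) [CompactSpace ↥X] [QuasiSeparatedSpace ↥X]
    (P : DCoh.D X) (hP : DCoh.IsPerfect P) (E : DCoh.D X) (hE : DCoh.IsQCohD E) (a : ℤ) :
    (∃ N : ℤ, ∀ i : ℤ, N ≤ i → ∀ φ : P⟦-i⟧ ⟶ E, φ = 0) ↔
    (∃ N : ℤ, ∀ i : ℤ, N ≤ i → ∀ φ : P⟦-i⟧ ⟶ ((DerivedCategory.TStructure.t : CategoryTheory.Triangulated.TStructure (DCoh.D X)).truncGE a).obj E, φ = 0) := by
  let t : Triangulated.TStructure (DCoh.D X) := DerivedCategory.TStructure.t
  have hT := t.triangleLTGE_distinguished a E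
  have hl := PerfGen7.tendsto_add_atTop
  have h₁ := PerfGen7.eventually_hom_zero hl hP (PerfGen7.isQCohD_truncLT' hE a)
    (PerfGen7.eventually_truncLT E a)
  rw [← Filter.eventually_atTop (p := fun i => ∀ φ : P⟦-i⟧ ⟶ E, φ = 0),
    ← Filter.eventually_atTop (p := fun i => ∀ φ : P⟦-i⟧ ⟶ (t.truncGE a).obj E, φ = 0)]
  exact ⟨fun h => PerfGen7.eventually_hom_obj₂ hl (Pretriangulated.rot_of_distTriang _ hT) h
      (PerfGen7.eventually_hom_shift hl 1 h₁),
    fun h => PerfGen7.eventually_hom_obj₂ hl hT h₁ h⟩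

end Groth.Agent.S1022
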