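import Groth.Statements.S1023
import Groth.Agent.PerfGen7.TruncHom

set_option autoImplicit false
universe u
open CategoryTheory CategoryTheory.Limits AlgebraicGeometry
attribute [local instance] HasDerivedCategory.standard
open Perf

namespace Groth.Agent.S1023

/-- Let the scheme X be quasi-compact and quasi-separated, P a perfect object of D(O_X), E ∈ D_QCoh(O_X)
and a ∈ ℤ. Then the morphisms P[-i] ⟶ E vanish for all sufficiently negative i if and only if the
morphisms P[-i] ⟶ τ_{≤ a}E vanish for all sufficiently negative i. -/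
theorem result (X : Scheme.{u}) [CompactSpace ↥X] [QuasiSeparatedSpace ↥X]
    (P : DCoh.D X) (hP : DCoh.IsPerfect P) (E : DCoh.D X) (hE : DCoh.IsQCohD E) (a : ℤ) :
    (∃ N : ℤ, ∀ i : ℤ, i ≤ N → ∀ φ : P⟦-i⟧ ⟶ E, φ = 0) ↔
    (∃ N : ℤ, ∀ i : ℤ, i ≤ N → ∀ φ : P⟦-i⟧ ⟶ ((DerivedCategory.TStructure.t : CategoryTheory.Triangulated.TStructure (DCoh.D X)).truncLE a).obj E, φ = 0) := by
  let t : Triangulated.TStructure (DCoh.D X) := DerivedCategory.TStructure.t
  have hT := t.triangleLTGE_distinguished (a + 1) E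
  have hl := PerfGen7.tendsto_add_atBot
  have h₃ := PerfGen7.eventually_hom_zero hl hP (PerfGen7.isQCohD_truncGE' hE (a + 1))
    (PerfGen7.eventually_truncGE E (a + 1))
  have e : ∀ i : ℤ, (∀ φ : P⟦-i⟧ ⟶ (t.truncLE a).obj E, φ = 0) ↔
      ∀ φ : P⟦-i⟧ ⟶ (t.truncLT (a + 1)).obj E, φ = 0 := fun i => Iff.rfl
  rw [← Filter.eventually_atBot (p := fun i => ∀ φ : P⟦-i⟧ ⟶ E, φ = 0),
    ← Filter.eventually_atBot (p := fun i => ∀ φ : P⟦-i⟧ ⟶ (t.truncLE a).obj E, φ = 0)]
  exact ⟨fun h => PerfGen7.eventually_hom_obj₂ hl (Pretriangulated.inv_rot_of_distTriang _ hT)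
      (PerfGen7.eventually_hom_shift hl (-1) h₃) h,
    fun h => PerfGen7.eventually_hom_obj₂ hl hT h h₃⟩

end Groth.Agent.S1023
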