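import Groth.Statements.S10233
import Groth.Agent.AlgSpQMod.SubImm

set_option autoImplicit false
universe u
open CategoryTheory CategoryTheory.Limits AlgebraicGeometry Topology TopologicalSpace
open AlgSp

namespace Groth.Agent.S10233

/-- Let X be an algebraic space over a scheme S with a presentation (U, R, s, t, p), and let i' : Z' ⟶ U
be an immersion of schemes that is R-invariant, meaning that one locally closed subscheme R' of R is
at the same time the inverse image of Z' under s and under t. Then Z' descends to a locally closed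
subspace of X: there is a morphism of algebraic spaces i : Z ⟶ X representable by immersions
together with a map h_{Z'} ⟶ Z making h_{Z'} the fibre product Z ×_X h_U; moreover i is a closed
(resp. open) immersion when i' is. -/
theorem result {S : Scheme.{u}} (X : AlgSp.Space S) {R U : Over S} (s t : R ⟶ U)
    (p : (AlgSp.yon S).obj U ⟶ X.obj) (hp : AlgSp.IsPresentation s t p)
    {Z' R' : Scheme.{u}} (i' : Z' ⟶ U.left) [IsImmersion i'] (k : R' ⟶ R.left) (s' t' : R' ⟶ Z')
    (hs : IsPullback k s' s.left i') (ht : IsPullback k t' t.left i') :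
    ∃ (Z : AlgSp.Space S) (i : Z ⟶ X) (q : (AlgSp.yon S).obj (Over.mk (i' ≫ U.hom)) ⟶ Z.obj),
      AlgSp.RepWith @IsImmersion i.hom ∧
      IsPullback q ((AlgSp.yon S).map (Over.homMk i' rfl : Over.mk (i' ≫ U.hom) ⟶ U)) i.hom p ∧
      (IsClosedImmersion i' → AlgSp.RepWith @IsClosedImmersion i.hom) ∧
      (IsOpenImmersion i' → AlgSp.RepWith @IsOpenImmersion i.hom) := by
  let ZU : Over S := Over.mk (i' ≫ U.hom)
  let i : ZU ⟶ U := CategoryTheory.Over.homMk i' rfl
  haveI : IsImmersion i.left := inferInstanceAs (IsImmersion i')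
  obtain ⟨Z, j, q, hj, sq, -, -⟩ := AlgSpQMod.exists_imm_subspace (i := i) X.property hp.etale hp.surjective
    fun T x y hxy hx => by
      obtain ⟨l, rfl⟩ := hx
      obtain ⟨r, hr⟩ := (yon S).map_surjective (hp.isPullback.lift ((yon S).map y) ((yon S).map (l ≫ i)) hxy.symm)
      have h1 : r ≫ t = y := (yon S).map_injective (by rw [Functor.map_comp, hr, IsPullback.lift_fst])
      have h2 : r ≫ s = l ≫ i := (yon S).map_injective (by rw [Functor.map_comp, hr, IsPullback.lift_snd])
      have e : r.left ≫ s.left = l.left ≫ i' := congrArg (fun m : T ⟶ U => m.left) h2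
      have e2 : (hs.lift r.left l.left e ≫ t') ≫ i' = y.left := by
        rw [Category.assoc, ← ht.w, hs.lift_fst_assoc, ← h1]
        rfl
      exact ⟨CategoryTheory.Over.homMk (hs.lift r.left l.left e ≫ t') (by
        change _ ≫ i' ≫ U.hom = T.hom
        rw [Category.assoc, reassoc_of% e2, CategoryTheory.Over.w y]), CategoryTheory.Over.OverMorphism.ext e2⟩
  exact ⟨Z, ObjectProperty.homMk j, q, hj, sq,
    fun h => AlgSpDec.repWith_isClosedImmersion_of_etale_cover hp.etale hp.surjective sq
      ((repWith_yon_map_iff _ _).2 h),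
    fun h => AlgSpDec.repWith_isOpenImmersion_of_etale_cover hp.etale hp.surjective sq
      ((repWith_yon_map_iff _ _).2 h)⟩

end Groth.Agent.S10233
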