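import Groth.Statements.S10240
import Groth.Agent.EtQC.Colim
-- import your own Groth.Agent.* helpers here

set_option autoImplicit false
universe u
open CategoryTheory CategoryTheory.Limits AlgebraicGeometry Topology TopologicalSpace
open AlgSp

set_option backward.isDefEq.respectTransparency false
set_option backward.isDefEq.respectTransparency.types false
set_option maxHeartbeats 1600000
open CategoryTheory CategoryTheory.Limits AlgebraicGeometry

namespace Groth.Agent.S10240

/-- Let X be an algebraic space over a scheme S. Colimits of quasi-coherent O_X-modules are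
quasi-coherent; kernels and cokernels of maps between quasi-coherent O_X-modules are quasi-coherent;
and in a short exact sequence of O_X-modules, if two out of three are quasi-coherent then so is the
third. -/
theorem result {S : Scheme.{u}} (X : AlgSp.Space S) :
    (∀ (J : Type u) [SmallCategory J] (D : J ⥤ AlgSp.ModEt X.obj) [HasColimit D],
        (∀ j, (D.obj j).IsQuasicoherent) → (colimit D).IsQuasicoherent) ∧
    (∀ (F G : AlgSp.ModEt X.obj) (φ : F ⟶ G), F.IsQuasicoherent → G.IsQuasicoherent →
        (kernel φ).IsQuasicoherent ∧ (cokernel φ).IsQuasicoherent) ∧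
    (∀ C : ShortComplex (AlgSp.ModEt X.obj), C.ShortExact →
        (C.X₁.IsQuasicoherent → C.X₂.IsQuasicoherent → C.X₃.IsQuasicoherent) ∧
        (C.X₁.IsQuasicoherent → C.X₃.IsQuasicoherent → C.X₂.IsQuasicoherent) ∧
        (C.X₂.IsQuasicoherent → C.X₃.IsQuasicoherent → C.X₁.IsQuasicoherent)) := by
  refine ⟨fun J _ D _ h => ?_, fun F G φ hF hG => ?_, fun C hC => ⟨fun h₁ h₂ => ?_, fun h₁ h₃ => ?_, fun h₂ h₃ => ?_⟩⟩
  · exact (EtQC.bcAll_colimit D fun j => haveI := h j; EtQC.bcAll_of_isQuasicoherent _).isQuasicoherent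
  · haveI := hF; haveI := hG
    have hF' := EtQC.bcAll_of_isQuasicoherent F
    have hG' := EtQC.bcAll_of_isQuasicoherent G
    exact ⟨(EtQC.bcAll_kernel φ hF' hG').isQuasicoherent, (EtQC.bcAll_cokernel φ hF' hG').isQuasicoherent⟩
  · haveI := h₁; haveI := h₂
    exact (EtQC.bcAll_right hC (EtQC.bcAll_of_isQuasicoherent _) (EtQC.bcAll_of_isQuasicoherent _)).isQuasicoherent
  · haveI := h₁; haveI := h₃
    exact (EtQC.bcAll_middle hC (EtQC.bcAll_of_isQuasicoherent _) (EtQC.bcAll_of_isQuasicoherent _)).isQuasicoherent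
  · haveI := h₂; haveI := h₃
    haveI := hC.mono_f
    exact (EtQC.bcAll_left hC.exact (EtQC.bcAll_of_isQuasicoherent _) (EtQC.bcAll_of_isQuasicoherent _)).isQuasicoherent

end Groth.Agent.S10240
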