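import Groth.Statements.S10253
import Groth.Agent.ProjEt.Main

set_option autoImplicit false
universe u
open CategoryTheory CategoryTheory.Limits AlgebraicGeometry Topology TopologicalSpace
open AlgSp

namespace Groth.Agent.S10253

set_option backward.isDefEq.respectTransparency false
set_option backward.isDefEq.respectTransparency.types false

open Groth.Agent.AlgSpLib

set_option maxHeartbeats 800000

/-- (1) ⇒ (2): let X be an algebraic space over a scheme S and F a quasi-coherent O_X-module on the
small etale site of X. If for some scheme U and some surjective etale p : h_U ⟶ X the restriction of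
F to the Zariski site of U (the quasi-coherent O_U-module G whose sections over an open W ⊆ U are
those of p^*F over W ⟶ U) is locally projective, i.e. has projective modules of sections over all
affine opens of U, then for every scheme V and every etale q : h_V ⟶ X the restriction of F to the
Zariski site of V is locally projective in the same sense. -/
theorem result {S : Scheme.{u}} (X : AlgSp.Space S)
    (F : AlgSp.ModEt X.obj) (hF : F.IsQuasicoherent)
    {U : Over S} (p : (AlgSp.yon S).obj U ⟶ X.obj) (hrep : AlgSp.Representable p)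
    (hp : AlgSp.RepWith @Etale p) (hs : AlgSp.RepWith @Surjective p)
    [(SheafOfModules.pushforward.{u + 1} (AlgSp.bcRingHom hrep)).IsRightAdjoint]
    (G : U.left.Modules) [Coh.IsQCoh G]
    (c : AlgSp.ZarCompanion U.left G ((AlgSp.resSchModEt U).obj ((AlgSp.pullModEt hrep).obj F)))
    (hG : ∀ W : U.left.Opens, IsAffineOpen W →
      Module.Projective (U.left.ringCatSheaf.obj.obj (Opposite.op W)) (G.val.obj (Opposite.op W)))
    {V : Over S} (q : (AlgSp.yon S).obj V ⟶ X.obj) (hrepq : AlgSp.Representable q)
    (hq : AlgSp.RepWith @Etale q)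
    [(SheafOfModules.pushforward.{u + 1} (AlgSp.bcRingHom hrepq)).IsRightAdjoint]
    (G' : V.left.Modules) [Coh.IsQCoh G']
    (c' : AlgSp.ZarCompanion V.left G' ((AlgSp.resSchModEt V).obj ((AlgSp.pullModEt hrepq).obj F)))
    (W : V.left.Opens) (hW : IsAffineOpen W) :
    Module.Projective (V.left.ringCatSheaf.obj.obj (Opposite.op W)) (G'.val.obj (Opposite.op W)) := by
  haveI := hF
  let hp' : IsEtaleMor p := isEtaleMor_of_repWith p hp
  let hq' : IsEtaleMor q := isEtaleMor_of_repWith q hq
  let E := ProjEt.EW hq' W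
  haveI : IsAffine E.obj.left.left := hW
  have key : ∀ x : E.obj.left.left, ∃ (V' : EtOver X.obj) (g : V' ⟶ E) (y : V'.obj.left.left),
      IsAffine V'.obj.left.left ∧ g.hom.left.left y = x ∧
        Module.Projective (EtQC.Fn V') (AlgSp.sectModEt F V') := fun x => by
    have sq : IsPullback ((yon S).map (hrep.fst' E.obj.hom)) ((yon S).map (hrep.snd E.obj.hom)) p E.obj.hom :=
      hrep.isPullback' E.obj.hom
    have het : Etale (hrep.snd E.obj.hom).left := hp.property E.obj.hom _ (hrep.snd E.obj.hom) sq
    have hsu : Surjective (hrep.snd E.obj.hom).left := hs.property E.obj.hom _ (hrep.snd E.obj.hom) sq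
    let P : EtOver X.obj := EtOver.mk ((yon S).map (hrep.snd E.obj.hom) ≫ E.obj.hom)
      (repWith_comp ((repWith_yon_map_iff _ _).2 het) E.property)
    obtain ⟨z, hz⟩ := hsu.surj x
    obtain ⟨Wi, hWi, hzWi, -⟩ := exists_isAffineOpen_mem_and_subset
      (x := (hrep.fst' E.obj.hom).left z) (U := (⊤ : U.left.Opens)) trivial
    obtain ⟨O, hO, hzO, hOW⟩ := exists_isAffineOpen_mem_and_subset
      (U := (hrep.fst' E.obj.hom).left ⁻¹ᵁ Wi) (x := z) hzWi
    let V' := AlgSpDec.etOpen P O
    haveI : IsAffine V'.obj.left.left := hO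
    let g : V' ⟶ E := AlgSpDec.etOpenι P O ≫ EtOver.homMk (hrep.snd E.obj.hom) rfl
    let E' := ProjEt.EW hp' Wi
    haveI : IsAffine E'.obj.left.left := hWi
    have hr : Set.range (O.ι ≫ (hrep.fst' E.obj.hom).left) ⊆ Set.range Wi.ι := by
      rintro _ ⟨t, rfl⟩
      rw [Scheme.Opens.range_ι]
      exact hOW t.2
    let l : V'.obj.left ⟶ E'.obj.left := CategoryTheory.Over.homMk (IsOpenImmersion.lift Wi.ι _ hr) (by
      show IsOpenImmersion.lift Wi.ι _ hr ≫ Wi.ι ≫ U.hom = O.ι ≫ _
      rw [IsOpenImmersion.lift_fac_assoc, Category.assoc, CategoryTheory.Over.w]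
      rfl)
    let h : V' ⟶ E' := EtOver.homMk l (by
      show (yon S).map l ≫ ((yon S).map _ ≫ 𝟙 _) ≫ p =
        (yon S).map (CategoryTheory.Over.homMk O.ι rfl) ≫ (yon S).map (hrep.snd E.obj.hom) ≫ E.obj.hom
      rw [← sq.w, Category.comp_id, ← Category.assoc, ← Functor.map_comp, ← Category.assoc, ← Functor.map_comp]
      congr 2
      exact CategoryTheory.Over.OverMorphism.ext (IsOpenImmersion.lift_fac _ _ _))
    refine ⟨V', g, ⟨z, hzO⟩, inferInstance, hz, ?_⟩
    exact ProjEt.projective_of_hom F h (ProjEt.projective_EW hrep hp' F G c Wi (hG Wi hWi))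
  choose V' g y haff hy hproj using key
  have hopen : ∀ x, IsOpen (Set.range (g x).hom.left.left) := fun x => by
    haveI := EtOver.etale_left (g x)
    exact (g x).hom.left.left.isOpenMap.isOpen_range
  obtain ⟨t, ht⟩ := isCompact_univ.elim_finite_subcover (fun x => Set.range (g x).hom.left.left) hopen
    (fun x _ => Set.mem_iUnion.2 ⟨x, y x, hy x⟩)
  obtain ⟨e, he⟩ := ProjEt.exists_secEquiv hrepq hq' F G' c' W
  let r : Γ(V.left, W) ≃+* EtQC.Fn E := W.topIso.symm.commRingCatIsoToRingEquiv
  letI : Module Γ(V.left, W) (G'.val.obj (Opposite.op W) : Type u) :=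
    inferInstanceAs (Module (V.left.ringCatSheaf.obj.obj (Opposite.op W)) (G'.val.obj (Opposite.op W) : Type u))
  letI : Module (EtQC.Fn E) (G'.val.obj (Opposite.op W) : Type u) := Module.compHom _ r.symm.toRingHom
  let f : (G'.val.obj (Opposite.op W) : Type u) ≃ₗ[EtQC.Fn E] AlgSp.sectModEt F E :=
    { toFun := fun m => e.symm (ULift.up m)
      invFun := fun m => (e m).down
      left_inv := fun m => congrArg ULift.down (e.apply_symm_apply _)
      right_inv := fun m => e.symm_apply_apply m
      map_add' := fun a b => e.symm.map_add (ULift.up a) (ULift.up b)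
      map_smul' := fun a m => e.injective (by
        obtain ⟨b, rfl⟩ := r.surjective a
        rw [AddEquiv.apply_symm_apply]
        refine Eq.trans ?_ (he b (e.symm (ULift.up m))).symm
        rw [AddEquiv.apply_symm_apply]
        show ULift.up (r.symm (r b) • m) = _
        rw [RingEquiv.symm_apply_apply]) }
  have hP : Module.Projective (EtQC.Fn E) (G'.val.obj (Opposite.op W) : Type u) := by
    haveI : ∀ x : t, IsAffine (V' x.1).obj.left.left := fun x => haff x.1
    refine ProjEt.projective_of_cover F (fun x : t => V' x.1) (fun x => g x.1) (fun x => ?_)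
      (fun x => hproj x.1) _ f
    obtain ⟨i, hi, w, hw⟩ := Set.mem_iUnion₂.1 (ht (Set.mem_univ x))
    exact ⟨⟨i, hi⟩, w, hw⟩
  letI := RingHomInvPair.of_ringEquiv r
  letI := RingHomInvPair.of_ringEquiv r.symm
  letI : RingHomInvPair (r.symm.symm : Γ(V.left, W) →+* EtQC.Fn E) (r.symm : EtQC.Fn E →+* Γ(V.left, W)) :=
    RingHomInvPair.of_ringEquiv r
  let f' : (G'.val.obj (Opposite.op W) : Type u) ≃ₛₗ[(r.symm : EtQC.Fn E →+* Γ(V.left, W))]
      (G'.val.obj (Opposite.op W) : Type u) :=
    { AddEquiv.refl _ with map_smul' := fun a m => rfl }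
  exact Module.Projective.of_equiv f'

end Groth.Agent.S10253
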