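import Groth.Statements.S1028
import Groth.Agent.H1KZV.Perfect
import Groth.Agent.ResPerf7.Apply

set_option autoImplicit false
universe u
open CategoryTheory CategoryTheory.Limits AlgebraicGeometry
attribute [local instance] HasDerivedCategory.standard
open KZero

namespace Groth.Agent.S1028

/-- Let the scheme X be quasi-compact, quasi-separated and have the resolution property. There is an
isomorphism between K₀(Vect(X)) (free abelian group on finite locally free O_X-modules modulo short
exact sequences of such) and K₀(X) = K₀(D_perf(O_X)) (free abelian group on perfect objects of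
D(O_X) modulo distinguished triangles of perfect objects) sending the class of a finite locally free
module E to the class of E placed in degree 0. -/
theorem result (X : Scheme.{u}) [CompactSpace ↥X] [QuasiSeparatedSpace ↥X] (hX : PerfAux.HasResolutionProperty X) :
    ∃ φ : KZero.K0sub (fun M : X.Modules => FlatMod.IsFinLocFree M) ≃+ KZero.K0tr (fun K : DCoh.D X => DCoh.IsPerfect K),
      ∀ E : X.Modules, FlatMod.IsFinLocFree E →
        φ (KZero.clSub (fun M : X.Modules => FlatMod.IsFinLocFree M) E) = KZero.clTr (fun K : DCoh.D X => DCoh.IsPerfect K) (DCoh.inD X E) := by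
  refine (fun hP hr => ?_ : _ → _ → _) (?_ : H1KZV.ExClass (fun M : X.Modules => FlatMod.IsFinLocFree M))
    (?_ : H1KZV.Roofs (fun M : X.Modules => FlatMod.IsFinLocFree M))
  · obtain ⟨φ, hφ, -⟩ := H1KZV.exists_equiv_perf (fun K : DCoh.D X => DCoh.IsPerfect K) (fun K =>
      ⟨fun hK => by
        obtain ⟨E, ⟨hb, hl⟩, he⟩ := ResPerf7.exists_strictlyPerfect_iso hX K hK
        exact ⟨E, ⟨hl, hb⟩, he⟩,
      fun ⟨E, ⟨hl, hb⟩, ⟨e⟩⟩ =>
        (KFlatLib.isPerfect_iff K).2 (KFlatLib.LocSP.of_iso e (ResPerf7.locSP_toD ⟨hb, hl⟩))⟩) hP hr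
    exact ⟨φ, hφ⟩
  · exact
      { iso := fun e h => H23.PullPush.isFinLocFree_of_iso e h
        zero := fun _ h => KFlatLib.isFinLocFree_of_isZero h
        biprod := fun _ _ h h' => ResPerf7.isFinLocFree_biprod' h h'
        ker := fun S hS h2 h3 => by
          have := hS.mono_f
          have := hS.epi_g
          exact H23.PullPush.isFinLocFree_of_iso (IsLimit.conePointUniqueUpToIso hS.fIsKernel (kernelIsKernel S.g)).symm
            (KFlatLib.isFinLocFree_kernel S.g h2 h3) }
  · intro E F hE hF u
    obtain ⟨G, g, h, ⟨hb, hl⟩, hq, he⟩ := ResPerf7.exists_sp_roof hX E F ⟨hE.2, hE.1⟩ ⟨hF.2, hF.1⟩ u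
    exact ⟨G, g, h, ⟨hl, hb⟩, hq, he⟩

end Groth.Agent.S1028
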