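import Groth.Statements.S1030
import Groth.Agent.PerfGen7.LeftRes

set_option autoImplicit false
universe v u
open CategoryTheory CategoryTheory.Limits
open CohDer

namespace Groth.Agent.S1030
open CategoryTheory.Limits ZeroObject

/-- Let P be a class of objects of an abelian category, closed under isomorphisms, which holds for some
zero object, is closed under binary direct sums, and such that every object is a quotient of an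
object satisfying P. For any cochain complex K there are bounded above complexes Pₙ (n ≥ 0) with
terms satisfying P, termwise surjective quasi-isomorphisms πₙ : Pₙ ⟶ τ_{≤ n}K and termwise split
injections ιₙ : Pₙ ⟶ Pₙ₊₁ whose cokernels satisfy P termwise, compatible in the sense that Pₙ ⟶
τ_{≤n}K ⟶ K equals Pₙ ⟶ Pₙ₊₁ ⟶ τ_{≤n+1}K ⟶ K. (The source indexes from 1.) -/
theorem result {A : Type u} [Category.{v} A] [Abelian A] (P : ObjectProperty A) [P.IsClosedUnderIsomorphisms]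
    (hP0 : ∃ Z : A, IsZero Z ∧ P Z) (hPsum : ∀ X Y : A, P X → P Y → P (X ⊞ Y))
    (hP : ∀ X : A, ∃ (Y : A) (π : Y ⟶ X), P Y ∧ Epi π) (K : CochainComplex A ℤ) :
    ∃ (Q : ℕ → CochainComplex A ℤ) (ι : ∀ n, Q n ⟶ Q (n + 1)) (π : ∀ n : ℕ, Q n ⟶ K.truncLE (n : ℤ)),
      (∀ n, QuasiIso (π n) ∧ ∀ i, Epi ((π n).f i)) ∧
      (∀ n, ∃ b : ℤ, (Q n).IsStrictlyLE b) ∧ (∀ n i, P ((Q n).X i)) ∧
      (∀ n i, (∃ r : (Q (n + 1)).X i ⟶ (Q n).X i, (ι n).f i ≫ r = 𝟙 _) ∧ P (cokernel ((ι n).f i))) ∧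
      (∀ n : ℕ, π n ≫ K.ιTruncLE (n : ℤ) = ι n ≫ π (n + 1) ≫ K.ιTruncLE ((n + 1 : ℕ) : ℤ)) := by
  classical
  have hE : Groth.Agent.PerfGen7.LeftRes.Enough P := ⟨hP0, hPsum, hP⟩
  let tm : ∀ n : ℕ, K.truncLE (n : ℤ) ⟶ K.truncLE ((n + 1 : ℕ) : ℤ) := fun n =>
    haveI : (K.truncLE (n : ℤ)).IsStrictlyLE ((n + 1 : ℕ) : ℤ) :=
      CochainComplex.isStrictlyLE_of_le _ (n : ℤ) _ (by omega)
    inv ((K.truncLE (n : ℤ)).ιTruncLE ((n + 1 : ℕ) : ℤ)) ≫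
      CochainComplex.truncLEMap (K.ιTruncLE (n : ℤ)) ((n + 1 : ℕ) : ℤ)
  have htm : ∀ n : ℕ, tm n ≫ K.ιTruncLE ((n + 1 : ℕ) : ℤ) = K.ιTruncLE (n : ℤ) := fun n => by
    simp [tm, CochainComplex.ιTruncLE_naturality]
  let St : ℕ → Type _ := fun n => Σ' (Q : CochainComplex A ℤ) (π : Q ⟶ K.truncLE (n : ℤ)),
    QuasiIso π ∧ (∀ i, Epi (π.f i)) ∧ (∃ b : ℤ, Q.IsStrictlyLE b) ∧ ∀ i, P (Q.X i)
  obtain ⟨st0⟩ : Nonempty (St 0) := by
    obtain ⟨R, ι, π, -, h1, h2, h3, h4, -⟩ := Groth.Agent.PerfGen7.LeftRes.exists_ext P hE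
      (0 : (0 : CochainComplex A ℤ) ⟶ K.truncLE ((0 : ℕ) : ℤ))
      (fun i => hE.of_isZero (Limits.IsZero.of_iso
        ((HomologicalComplex.eval A (ComplexShape.up ℤ) i).map_isZero (Limits.isZero_zero _))
        (Iso.refl _))) ((0 : ℕ) : ℤ)
    exact ⟨⟨R, π, h1, h2, ⟨_, h3⟩, h4⟩⟩
  have hstep : ∀ n (s : St n), ∃ (t : St (n + 1)) (ι : s.1 ⟶ t.1),
      ι ≫ t.2.1 = s.2.1 ≫ tm n ∧
      ∀ i, (∃ r : t.1.X i ⟶ s.1.X i, ι.f i ≫ r = 𝟙 _) ∧ P (Limits.cokernel (ι.f i)) := by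
    intro n s
    obtain ⟨b, hb⟩ := s.2.2.2.2.1
    have : s.1.IsStrictlyLE (max b ((n + 1 : ℕ) : ℤ)) :=
      CochainComplex.isStrictlyLE_of_le _ b _ (le_max_left _ _)
    have : (K.truncLE ((n + 1 : ℕ) : ℤ)).IsStrictlyLE (max b ((n + 1 : ℕ) : ℤ)) :=
      CochainComplex.isStrictlyLE_of_le _ ((n + 1 : ℕ) : ℤ) _ (le_max_right _ _)
    obtain ⟨R, ι, π, hι, h1, h2, h3, h4, h5⟩ := Groth.Agent.PerfGen7.LeftRes.exists_ext P hE
      (s.2.1 ≫ tm n) s.2.2.2.2.2 (max b ((n + 1 : ℕ) : ℤ))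
    exact ⟨⟨R, π, h1, h2, ⟨_, h3⟩, h4⟩, ι, hι, h5⟩
  let st : ∀ n, St n := fun n => Nat.rec st0 (fun n s => (hstep n s).choose) n
  have hst : ∀ n, ∃ ι : (st n).1 ⟶ (st (n + 1)).1, ι ≫ (st (n + 1)).2.1 = (st n).2.1 ≫ tm n ∧
      ∀ i, (∃ r : (st (n + 1)).1.X i ⟶ (st n).1.X i, ι.f i ≫ r = 𝟙 _) ∧
        P (Limits.cokernel (ι.f i)) := fun n => (hstep n (st n)).choose_spec
  choose ι hι hι' using hst
  refine ⟨fun n => (st n).1, ι, fun n => (st n).2.1, fun n => ⟨(st n).2.2.1, (st n).2.2.2.1⟩,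
    fun n => (st n).2.2.2.2.1, fun n => (st n).2.2.2.2.2, hι', fun n => ?_⟩
  rw [reassoc_of% hι n, htm]

end Groth.Agent.S1030
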