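import Groth.Statements.S10307
import Groth.Agent.AlgSpDec.EtPushClosedFull

set_option autoImplicit false
universe u
open CategoryTheory CategoryTheory.Limits AlgebraicGeometry
open AlgSp

namespace Groth.Agent.S10307

set_option backward.isDefEq.respectTransparency false
set_option backward.isDefEq.respectTransparency.types false

/-- For an integral universally injective morphism f of algebraic spaces, f_* on small etale sites is
fully faithful on sheaves of sets and on abelian sheaves, and the counit from the pullback of the
pushforward to the identity is an isomorphism. (The description of the essential image is not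
included here.) -/
theorem result {S : Scheme.{u}} {Y X : AlgSp.Space S} (f : Y ⟶ X)
    (hi : AlgSp.RepWith @IsIntegralHom f.hom) (hu : AlgSp.IsUnivInjectiveMor f.hom) :
    ((AlgSp.pushEt hi.1 (Type (u + 1))).Full ∧ (AlgSp.pushEt hi.1 (Type (u + 1))).Faithful) ∧
    ((AlgSp.pushEt hi.1 AddCommGrpCat.{u + 1}).Full ∧ (AlgSp.pushEt hi.1 AddCommGrpCat.{u + 1}).Faithful) ∧
    IsIso (AlgSp.pullPushAdjEt hi.1 (Type (u + 1))).counit := by
  have h₁ := Groth.Agent.AlgSpDec.PushEmb.isCoverDense hi.1
    (Groth.Agent.AlgSpDec.PushEmb.liftable_of_integral hi hu) X.property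
  have h₂ := Groth.Agent.AlgSpDec.PushEmb.isLocallyFull hi.1
    (Groth.Agent.AlgSpDec.PushEmb.isEmbedding_of_integral hi hu)
  have hT : (AlgSp.pushEt hi.1 (Type (u + 1))).Full ∧ (AlgSp.pushEt hi.1 (Type (u + 1))).Faithful :=
    ⟨inferInstance, inferInstance⟩
  refine ⟨hT, ⟨inferInstance, inferInstance⟩, ?_⟩
  have := hT.1
  have := hT.2
  infer_instance

end Groth.Agent.S10307
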