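import Groth.Statements.S10321
import Groth.Agent.AlgSpDec.LqfScheme
import Groth.Agent.AlgSpLib.Points
import Groth.Agent.AlgSpLib.Rep

set_option autoImplicit false
set_option backward.isDefEq.respectTransparency false
set_option backward.isDefEq.respectTransparency.types false
universe u
open CategoryTheory CategoryTheory.Limits AlgebraicGeometry
open AlgSp

namespace Groth.Agent.S10321

/-- Let X be separated and locally quasi-finite over an affine scheme T, let T' -> T be etale with T'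
affine, and let V' be an open subspace of T' ×_T X that is quasi-affine over T'. Then V' maps onto a
quasi-compact open subspace of X that is itself a scheme. -/
theorem result {S : Scheme.{u}} {T T' : Over S} [IsAffine T.left]
    [IsAffine T'.left] (e : T' ⟶ T) [Etale e.left] {X P V' : AlgSp.Space S} (f : X ⟶ (AlgSp.ofScheme S).obj T)
    (hsep : AlgSp.IsSeparatedMor f.hom) (hqf : AlgSp.LocP (@LocallyQuasiFinite ⊓ @LocallyOfFiniteType) f.hom)
    (p1 : P ⟶ (AlgSp.ofScheme S).obj T') (p2 : P ⟶ X)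
    (sq : IsPullback p2.hom p1.hom f.hom ((AlgSp.yon S).map e)) (j : V' ⟶ P)
    (hj : AlgSp.RepWith @IsOpenImmersion j.hom) (hqa : AlgSp.IsQuasiAffineMor (j ≫ p1).hom) :
    ∃ (W : Over S) (i : (AlgSp.yon S).obj W ⟶ X.obj), AlgSp.RepWith @IsOpenImmersion i ∧ CompactSpace ↥W.left ∧
      Set.range (AlgSp.Points.map i) = Set.range (AlgSp.Points.map (j ≫ p2).hom) := by
  obtain ⟨Q, ⟨q⟩⟩ := Groth.Agent.AlgSpDec.exists_iso_of_lqf_separated X.property f.hom hqf hsep
  obtain ⟨W', i', fst, hW', hqaff⟩ := hqa (Z := T') inferInstance (𝟙 _)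
  have : IsIso fst := hW'.isIso_fst_of_isIso
  have hc : CompactSpace ↥W'.left := hqaff.toCompactSpace
  have hp2 : AlgSp.RepWith @Etale p2.hom :=
    MorphismProperty.of_isPullback (P := AlgSp.RepWith @Etale) sq.flip ((repWith_yon_map_iff _ e).2 ‹Etale e.left›)
  have hj' : AlgSp.RepWith @Etale j.hom :=
    AlgSpLib.repWith_mono (fun _ _ g (_ : IsOpenImmersion g) => (inferInstance : Etale g)) _ hj
  have : MorphismProperty.IsMultiplicative @Etale := inferInstance
  let m : (AlgSp.yon S).obj W' ⟶ (AlgSp.yon S).obj Q := fst ≫ j.hom ≫ p2.hom ≫ q.inv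
  obtain ⟨k, hk⟩ := (AlgSp.yon S).map_surjective m
  have hkE : Etale k.left := (repWith_yon_map_iff _ k).1 (by
    rw [hk]
    exact AlgSpLib.repWith_comp (AlgSpLib.repWith_of_isIso _ _) (AlgSpLib.repWith_comp hj'
      (AlgSpLib.repWith_comp hp2 (AlgSpLib.repWith_of_isIso _ _))))
  let O : Q.left.Opens := ⟨Set.range k.left, k.left.isOpenMap.isOpen_range⟩
  let W : Over S := Over.mk (O.ι ≫ Q.hom)
  let ι : W ⟶ Q := CategoryTheory.Over.homMk O.ι rfl
  have hι : AlgSp.RepWith @IsOpenImmersion ((AlgSp.yon S).map ι) :=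
    (repWith_yon_map_iff _ ι).2 (inferInstanceAs (IsOpenImmersion O.ι))
  refine ⟨W, (AlgSp.yon S).map ι ≫ q.hom, AlgSpLib.repWith_comp hι (AlgSpLib.repWith_of_isIso _ _),
    isCompact_iff_compactSpace.1 (isCompact_range k.left.continuous), ?_⟩
  have hkm : (AlgSp.yon S).map k ≫ q.hom = fst ≫ j.hom ≫ p2.hom := by rw [hk]; simp [m]
  ext y
  constructor
  · rintro ⟨z, rfl⟩
    obtain ⟨⟨w, v, rfl⟩, rfl⟩ := (AlgSp.Points.schemeHomeo W).surjective z
    refine ⟨AlgSp.Points.map fst (AlgSp.Points.ofScheme W' v), ?_⟩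
    change _ = AlgSp.Points.map ((AlgSp.yon S).map ι ≫ q.hom) (AlgSp.Points.ofScheme W _)
    rw [← AlgSp.Points.map_comp, ← AlgSp.Points.ofPt_eq_map_ofScheme, ← AlgSp.Points.ofPt_eq_map_ofScheme,
      AlgSpLib.ofPt_comp]
    change AlgSp.Points.ofPt (fst ≫ j.hom ≫ p2.hom) v = _
    rw [← hkm, AlgSpLib.ofPt_comp]
    rfl
  · rintro ⟨z, rfl⟩
    obtain ⟨v, hv⟩ := (AlgSp.Points.schemeHomeo W').surjective (AlgSp.Points.map (inv fst) z)
    refine ⟨AlgSp.Points.ofScheme W ⟨k.left v, v, rfl⟩, ?_⟩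
    rw [← AlgSp.Points.ofPt_eq_map_ofScheme, AlgSpLib.ofPt_comp]
    change AlgSp.Points.ofPt q.hom (k.left v) = AlgSp.Points.map (j.hom ≫ p2.hom) z
    rw [← AlgSpLib.ofPt_comp, hkm, AlgSp.Points.ofPt_eq_map_ofScheme, show AlgSp.Points.ofScheme W' v = _ from hv,
      ← AlgSp.Points.map_comp, IsIso.inv_hom_id_assoc]

end Groth.Agent.S10321
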