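import Groth.Statements.S10331
import Groth.Agent.EtQC.Chev.ProperCover
import Groth.Agent.AlgSpDec.HomToAffine
import Mathlib.AlgebraicGeometry.AffineSpace
import Mathlib.AlgebraicGeometry.Morphisms.Proper
-- import your own Groth.Agent.* helpers here

set_option autoImplicit false
universe u
open CategoryTheory CategoryTheory.Limits AlgebraicGeometry Opposite
open AlgSp

namespace Groth.Agent.S10331

set_option backward.isDefEq.respectTransparency false
set_option backward.isDefEq.respectTransparency.types false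

section
open Opposite Groth.Agent.AlgSpLib

variable {S : Scheme.{u}}

/-- The affine line over a scheme over the base. -/
noncomputable def line (V : Over S) : Over S := Over.mk ((𝔸(PUnit.{u + 1}; V.left) ↘ V.left) ≫ V.hom)

/-- A map to the affine line given by a function. -/
noncomputable def toLine {V T : Over S} (q : T ⟶ V) (x : Γ(T.left, ⊤)) : T ⟶ line V :=
  Over.homMk (AffineSpace.homOfVector q.left fun _ => x) (by
    show _ ≫ _ ≫ V.hom = T.hom
    rw [AffineSpace.homOfVector_over_assoc, Over.w q])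

theorem comp_toLine {V T T' : Over S} (k : T' ⟶ T) (q : T ⟶ V) (x : Γ(T.left, ⊤)) :
    k ≫ toLine q x = toLine (k ≫ q) (k.left.appTop x) :=
  Over.OverMorphism.ext (AffineSpace.comp_homOfVector _ _ _)

theorem toLine_coord {V T : Over S} (q : T ⟶ V) (x : Γ(T.left, ⊤)) :
    (toLine q x).left.appTop (AffineSpace.coord V.left PUnit.unit) = x :=
  AffineSpace.homOfVector_appTop_coord _ _ _

/-- Functions on schemes are determined on etale surjections. -/
theorem appTop_injective {V T T' : Over S} (k : T' ⟶ T) (hk : Etale k.left) (hks : Surjective k.left)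
    (q : T ⟶ V) {x y : Γ(T.left, ⊤)} (h : k.left.appTop x = k.left.appTop y) : x = y := by
  have := isLocallySurjective_of_etale_surjective ((repWith_yon_map_iff _ k).2 hk) ((repWith_yon_map_iff _ k).2 hks)
  have : Epi ((yon S).map k) := (Sheaf.isLocallySurjective_iff_epi _).1 this
  have e : toLine q x = toLine q y := (yon S).map_injective ((cancel_epi ((yon S).map k)).1 (by
    rw [← Functor.map_comp, ← Functor.map_comp, comp_toLine, comp_toLine, h]))
  rw [← toLine_coord q x, e, toLine_coord]

/-- Base change of evaluation. -/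
theorem appTop_eval {V T T' : Over S} (k : T' ⟶ T) (q : T ⟶ V) (p : Polynomial Γ(V.left, ⊤)) (x : Γ(T.left, ⊤)) :
    k.left.appTop (Polynomial.eval₂ q.left.appTop.hom x p) =
      Polynomial.eval₂ (k ≫ q).left.appTop.hom (k.left.appTop x) p := by
  rw [Over.comp_left, Scheme.Hom.comp_appTop, CommRingCat.hom_comp]
  exact Polynomial.hom_eval₂ p q.left.appTop.hom k.left.appTop.hom x

end

/-- Let f : X -> h_V be a quasi-compact, quasi-separated and universally closed morphism from an
algebraic space over S to an affine scheme V over S. Then every global section of O_X (a compatible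
family of functions on the schemes etale over X) satisfies a monic polynomial with coefficients in
Γ(V, O_V). (The published statement has an arbitrary algebraic space as target and says that f_*O_X
is integral over O_Y, which is this assertion for the base change of f to every affine scheme etale
over the target; the reformulation through the relative spectrum of f_*O_X is not included.) -/
theorem result {S : Scheme.{u}} (V : Over S) [IsAffine V.left] (X : AlgSp.Space S)
    (f : X ⟶ (AlgSp.ofScheme S).obj V) (hqc : AlgSp.IsQuasiCompactMor f.hom)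
    (hqs : AlgSp.IsQuasiSeparatedMor f.hom) (huc : AlgSp.IsUnivClosedMor f.hom)
    (s : ↥(AlgSp.gsectEt (AlgSp.OEt X.obj) : CommRingCat.{u + 1})) :
    ∃ p : Polynomial Γ(V.left, ⊤), p.Monic ∧
      ∀ E : AlgSp.EtOver X.obj,
        Polynomial.eval₂ ((AlgSp.yon S).preimage (E.obj.hom ≫ f.hom)).left.appTop.hom
          ((limit.π (AlgSp.OEt X.obj).obj (op E)) s).down p = 0 := by
  let q := f.hom
  let σ : ∀ E : AlgSp.EtOver X.obj, Γ(E.obj.left.left, ⊤) := fun E => ((limit.π (AlgSp.OEt X.obj).obj (op E)) s).down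
  let qE : ∀ E : AlgSp.EtOver X.obj, E.obj.left ⟶ V := fun E => (AlgSp.yon S).preimage (E.obj.hom ≫ q)
  have hqE : ∀ E, (AlgSp.yon S).map (qE E) = E.obj.hom ≫ q := fun E => Functor.map_preimage _ _
  have hσ : ∀ {E E' : AlgSp.EtOver X.obj} (k : E ⟶ E'), k.hom.left.left.appTop (σ E') = σ E := fun {E E'} k =>
    congrArg ULift.down (congrArg (fun φ => φ s) (limit.w (AlgSp.OEt X.obj).obj k.op))
  have hqk : ∀ {E E' : AlgSp.EtOver X.obj} (k : E ⟶ E'), k.hom.left ≫ qE E' = qE E := fun {E E'} k =>
    (AlgSp.yon S).map_injective (by rw [Functor.map_comp, hqE, hqE, ← Category.assoc, CostructuredArrow.w k.hom])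
  have hXqc : AlgSp.IsQuasiCompactSp X.obj :=
    hqc (AlgSp.IsAlgSpace.yon_obj _) ((Groth.Agent.AlgSpPts.isQuasiCompactSp_yon_iff _).2 inferInstance) (𝟙 _) (𝟙 X.obj) q
      (IsPullback.of_horiz_isIso ⟨by simp [q]⟩)
  obtain ⟨T, g, hg, hgs⟩ := Groth.Agent.EtQC.Chev.ProperCover.exists_finite_cover X q hXqc hqs
  obtain ⟨U, a, hUa, he, hes⟩ := Groth.Agent.AlgSpLib.CartierRegular.exists_affine_atlas X.property hXqc
  haveI := hUa
  -- the function on the cover
  let E₀ : AlgSp.EtOver X.obj := AlgSp.EtOver.mk a he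
  have := Groth.Agent.AlgSpLib.isLocallySurjective_of_etale_surjective he hes
  have sq := he.rep.isPullback' a
  haveI : Etale (he.rep.fst' a).left := he.property _ _ _ sq.flip
  let E₁ : AlgSp.EtOver X.obj := AlgSp.EtOver.mk ((AlgSp.yon S).map (he.rep.fst' a) ≫ a)
    (Groth.Agent.AlgSpLib.repWith_comp ((AlgSp.repWith_yon_map_iff _ _).2 ‹_›) he)
  let k₁ : E₁ ⟶ E₀ := AlgSp.EtOver.homMk (he.rep.fst' a) rfl
  let k₂ : E₁ ⟶ E₀ := AlgSp.EtOver.homMk (he.rep.snd a) sq.w.symm
  have h₀ : ∀ {E : AlgSp.EtOver X.obj} (k : E ⟶ E₀), k.hom.left ≫ toLine (qE E₀) (σ E₀) = toLine (qE E) (σ E) :=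
    fun {E} k => by rw [comp_toLine, hqk, hσ]
  obtain ⟨Λ, hΛ⟩ := Groth.Agent.AlgSpDec.exists_desc_of_kernelPair sq ((AlgSp.yon S).map (toLine (qE E₀) (σ E₀)))
    (by rw [← Functor.map_comp, ← Functor.map_comp]; exact congrArg (AlgSp.yon S).map ((h₀ k₁).trans (h₀ k₂).symm))
  obtain ⟨t, ht⟩ := (AlgSp.yon S).map_surjective (g ≫ q)
  obtain ⟨l, hl⟩ := (AlgSp.yon S).map_surjective (g ≫ Λ)
  haveI : UniversallyClosed t.left := by
    have h : AlgSp.IsUnivClosedMor ((AlgSp.yon S).map t) := by
      rw [ht]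
      exact Groth.Agent.AlgSpPts.isUnivClosedMor_comp X.property (AlgSp.IsAlgSpace.yon_obj _)
        (Groth.Agent.AlgSpDec.isUnivClosedMor_of_repWith_universallyClosed
          (Groth.Agent.AlgSpLib.repWith_mono (fun _ _ k (_ : IsFinite k) => inferInstanceAs (UniversallyClosed k)) _ hg)) huc
    exact (AlgSp.repWith_yon_map_iff _ _).1
      (Groth.Agent.AlgSpDec.repWith_universallyClosed_of_univClosed (AlgSp.representable_yon_map t) h)
  obtain ⟨p, hp, hpx⟩ := isIntegral_appTop_of_universallyClosed t.left (l.left.appTop (AffineSpace.coord V.left PUnit.unit))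
  -- the equation on the chart is nilpotent
  have sqP := hg.rep.isPullback' a
  let π₁ := hg.rep.fst' a
  let π₂ := hg.rep.snd a
  haveI : Surjective π₂.left := (AlgSp.repWith_yon_map_iff _ _).1
    ((Groth.Agent.AlgSpLib.repWith_surjective_iff (AlgSp.representable_yon_map π₂)).2
      (Groth.Agent.AlgSpLib.surjective_map_of_isPullback sqP hgs))
  have hπq : π₁ ≫ t = π₂ ≫ qE E₀ := (AlgSp.yon S).map_injective (by
    rw [Functor.map_comp, Functor.map_comp, ht, hqE, ← Category.assoc, sqP.w, Category.assoc]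
    rfl)
  have hπl : π₁ ≫ l = π₂ ≫ toLine (qE E₀) (σ E₀) := (AlgSp.yon S).map_injective (by
    rw [Functor.map_comp, Functor.map_comp, hl, ← hΛ, ← Category.assoc, sqP.w, Category.assoc])
  let y := Polynomial.eval₂ (qE E₀).left.appTop.hom (σ E₀) p
  have hy0 : π₂.left.appTop y = 0 := by
    have e1 : π₂.left.appTop (σ E₀) = π₁.left.appTop (l.left.appTop (AffineSpace.coord V.left PUnit.unit)) := by
      have e := congrArg (fun k => k.left.appTop (AffineSpace.coord V.left PUnit.unit)) hπl
      simp only [Over.comp_left, Scheme.Hom.comp_appTop, CommRingCat.comp_apply, toLine_coord] at e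
      exact e.symm
    rw [appTop_eval, e1, ← hπq, ← appTop_eval, hpx, map_zero]
  have hynil : IsNilpotent y := by
    haveI : CompactSpace E₀.obj.left.left := inferInstanceAs (CompactSpace U.left)
    rw [Scheme.isNilpotent_iff_basicOpen_eq_bot_of_isCompact (CompactSpace.isCompact_univ)]
    ext z
    simp only [TopologicalSpace.Opens.coe_bot, Set.mem_empty_iff_false, iff_false]
    intro hz
    obtain ⟨w, rfl⟩ := π₂.left.surjective z
    have e := Scheme.preimage_basicOpen_top π₂.left y
    have hw : w ∈ π₂.left ⁻¹ᵁ E₀.obj.left.left.basicOpen y := hz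
    erw [e, hy0, Scheme.basicOpen_zero] at hw
    exact hw
  obtain ⟨N, hN⟩ := hynil
  refine ⟨p ^ N, hp.pow N, fun E => ?_⟩
  show Polynomial.eval₂ (qE E).left.appTop.hom (σ E) (p ^ N) = 0
  have sqE := he.rep.isPullback' E.obj.hom
  let π := he.rep.snd E.obj.hom
  have hπe : Etale π.left := he.property_snd E.obj.hom
  have hπs : Surjective π.left := hes.2 _ _ _ (he.rep.isPullback E.obj.hom)
  let E₂ : AlgSp.EtOver X.obj := AlgSp.EtOver.mk ((AlgSp.yon S).map π ≫ E.obj.hom)
    (Groth.Agent.AlgSpLib.repWith_comp ((AlgSp.repWith_yon_map_iff _ _).2 hπe) E.property)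
  let l₁ : E₂ ⟶ E₀ := AlgSp.EtOver.homMk (he.rep.fst' E.obj.hom) sqE.w
  let l₂ : E₂ ⟶ E := AlgSp.EtOver.homMk π rfl
  refine appTop_injective π hπe hπs (qE E) ?_
  rw [map_zero, appTop_eval, show π ≫ qE E = qE E₂ from hqk l₂, show π.left.appTop (σ E) = σ E₂ from hσ l₂,
    ← hqk l₁, ← hσ l₁]
  refine (appTop_eval l₁.hom.left (qE E₀) (p ^ N) (σ E₀)).symm.trans ?_
  rw [Polynomial.eval₂_pow]
  exact (congrArg _ hN).trans (map_zero _)

end Groth.Agent.S10331
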