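import Groth.Statements.S10334
import Groth.Agent.AlgSpDec.PushEssImage

set_option autoImplicit false
universe u
open CategoryTheory CategoryTheory.Limits AlgebraicGeometry Opposite
open AlgSp

namespace Groth.Agent.S10334

set_option backward.isDefEq.respectTransparency false
set_option backward.isDefEq.respectTransparency.types false

/-- Let f : Y -> X be an integral, universally injective morphism of algebraic spaces over S. A sheaf of
sets on the small etale site of X is isomorphic to a pushforward f_*F if and only if its value is a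
one-element set on every etale scheme over X whose image misses f(|Y|); an abelian sheaf is
isomorphic to a pushforward if and only if its value is zero on every such scheme. (The published
statement says 'restriction to the complement of f(|Y|) is a final object' and 'support contained in
f(|Y|)'; both conditions are written out on the etale schemes over the complement.) -/
theorem result {S : Scheme.{u}} {Y X : AlgSp.Space S} (f : Y ⟶ X)
    (hi : AlgSp.RepWith @IsIntegralHom f.hom) (hu : AlgSp.IsUnivInjectiveMor f.hom) :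
    (∀ G : AlgSp.EtSh X.obj (Type (u + 1)),
      (AlgSp.pushEt hi.1 (Type (u + 1))).essImage G ↔
        ∀ E : AlgSp.EtOver X.obj,
          Disjoint (Set.range (AlgSp.Points.map E.obj.hom)) (Set.range (AlgSp.Points.map f.hom)) →
            Nonempty (Unique (G.obj.obj (op E)))) ∧
    (∀ G : AlgSp.AbEt X.obj,
      (AlgSp.pushEt hi.1 AddCommGrpCat.{u + 1}).essImage G ↔
        ∀ E : AlgSp.EtOver X.obj,
          Disjoint (Set.range (AlgSp.Points.map E.obj.hom)) (Set.range (AlgSp.Points.map f.hom)) →
            Subsingleton ↥(G.obj.obj (op E))) := by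

  have h₁ := Groth.Agent.AlgSpDec.PushEmb.isCoverDense hi.1
    (Groth.Agent.AlgSpDec.PushEmb.liftable_of_integral hi hu) X.property
  have h₂ := Groth.Agent.AlgSpDec.PushEmb.isLocallyFull hi.1
    (Groth.Agent.AlgSpDec.PushEmb.isEmbedding_of_integral hi hu)
  have h₃ := Groth.Agent.AlgSpDec.PushEmb.isLocallyFaithful hi.1
  have hC : ∀ E : AlgSp.EtOver X.obj, IsClosed (Set.range (hi.1.snd E.obj.hom).left) := fun E =>
    have : IsIntegralHom (hi.1.snd E.obj.hom).left := hi.property_snd E.obj.hom
    (hi.1.snd E.obj.hom).left.isClosedMap.isClosed_range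
  constructor
  · intro G
    rw [Groth.Agent.AlgSpDec.PushEmb.essImage_iff_isSheaf hi.1 (Type (u + 1)) G, isSheaf_iff_isSheaf_of_type]
    refine ⟨fun h E hd => Groth.Agent.AlgSpDec.PushEmb.unique_of_isSheaf hi.1 h E
        ((Groth.Agent.AlgSpDec.PushEmb.disjoint_iff_isEmpty hi.1 E).1 hd),
      fun h => Groth.Agent.AlgSpDec.PushEmb.isSheaf_of_unique hi.1 ((isSheaf_iff_isSheaf_of_type _ _).1 G.property)
        hC fun E he => h E ((Groth.Agent.AlgSpDec.PushEmb.disjoint_iff_isEmpty hi.1 E).2 he)⟩
  · intro G
    rw [Groth.Agent.AlgSpDec.PushEmb.essImage_iff_isSheaf hi.1 AddCommGrpCat.{u + 1} G,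
      Presheaf.isSheaf_iff_isSheaf_forget _ G.obj (CategoryTheory.forget AddCommGrpCat.{u + 1}),
      isSheaf_iff_isSheaf_of_type]
    refine ⟨fun h E hd => ?_, fun h => Groth.Agent.AlgSpDec.PushEmb.isSheaf_of_unique hi.1
      ((isSheaf_iff_isSheaf_of_type _ _).1
        ((Presheaf.isSheaf_iff_isSheaf_forget _ G.obj (CategoryTheory.forget AddCommGrpCat.{u + 1})).1 G.property))
      hC fun E he => ?_⟩
    · exact (Groth.Agent.AlgSpDec.PushEmb.unique_of_isSheaf hi.1 h E
        ((Groth.Agent.AlgSpDec.PushEmb.disjoint_iff_isEmpty hi.1 E).1 hd)).elim fun U => @Unique.instSubsingleton _ U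
    · have := h E ((Groth.Agent.AlgSpDec.PushEmb.disjoint_iff_isEmpty hi.1 E).2 he)
      exact ⟨@uniqueOfSubsingleton _ this (0 : ↥(G.obj.obj (op E)))⟩

end Groth.Agent.S10334
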