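import Groth.Statements.S10335
import Groth.Agent.AlgSpDec.FieldFibre
import Groth.Agent.AlgSpDec.ResTrdeg
import Groth.Agent.AlgSpDec.BaseChangeCharts
import Groth.Agent.DimFormula.Fibre

set_option autoImplicit false
universe u
open CategoryTheory CategoryTheory.Limits AlgebraicGeometry
open AlgSp

namespace Groth.Agent.S10335

set_option backward.isDefEq.respectTransparency false
set_option backward.isDefEq.respectTransparency.types false
set_option maxHeartbeats 1000000

open Groth.Agent.AlgSpDec Groth.Agent.AlgSpLib Groth.Agent.AlgSpPts Groth.Agent.DimFormula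

/-- The dimension of the local ring of the fibre, in any chart. -/
theorem fb_eq {S : Scheme.{u}} {F G : AlgSp.Sp S} {f : F ⟶ G} (hf : LocP @LocallyOfFiniteType f) {U V : Over S}
    {a : (yon S).obj U ⟶ F} {b : (yon S).obj V ⟶ G} {h : U ⟶ V} (ha : RepWith @Etale a) (hb : RepWith @Etale b)
    (w : a ≫ f = (yon S).map h ≫ b) [LocallyOfFiniteType h.left] (u : U.left) {e : WithBot ℕ∞}
    (he : HasAtMor (fun _ _ h u => ringKrullDim ↥((h.fiber (h u)).presheaf.stalk (h.asFiber u)) = e) f
      (Points.ofPt a u)) :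
    e = ((fb h.left u : ℕ) : WithBot ℕ∞) := by
  obtain ⟨U', V', a', b', h', u', ha', hb', w', hx, he'⟩ := he
  haveI : LocallyOfFiniteType h'.left := hf a' b' h' ha' hb' w'
  have he'' : ((fb h'.left u' : ℕ) : WithBot ℕ∞) = e := (ringKrullDim_stalk_fibre h'.left u').symm.trans he'
  have h1 := RelDimSp.fibreDimAt_congr hf ha hb w ha' hb' w' hx.symm
  rw [fibreDimAt_eq_add, fibreDimAt_eq_add] at h1
  have h2 : FibDim.rd h.left u + fb h.left u = FibDim.rd h'.left u' + fb h'.left u' := by exact_mod_cast h1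
  have h3 := ResTrdeg.rdeg_congr (f := f) ha hb w ha' hb' w' hx.symm
  rw [← FibDim.rd_eq_rdeg, ← FibDim.rd_eq_rdeg] at h3
  have h4 : FibDim.rd h.left u = FibDim.rd h'.left u' := by exact_mod_cast h3
  rw [← he'', show fb h.left u = fb h'.left u' by omega]


/-- In a base change square of algebraic spaces with f : X -> Y locally of finite type and f' : X' -> Y'
its base change along g : Y' -> Y, take a point x' of X' over x. The fibre of f' has a local ring at
x' whose dimension exceeds the corresponding dimension for the fibre of f at x by exactly the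
transcendence degree of x over f(x) minus that of x' over f'(x'), and this excess is never negative;
and for x in X and y' in Y' over the same point of Y some x' over both has excess zero. All four
quantities are read on some chart diagram through the point. -/
theorem result {S : Scheme.{u}} {X Y Y' X' : AlgSp.Space S} (f : X ⟶ Y) (g : Y' ⟶ Y)
    (g' : X' ⟶ X) (f' : X' ⟶ Y') (sq : IsPullback g'.hom f'.hom f.hom g.hom)
    (hf : AlgSp.LocP @LocallyOfFiniteType f.hom) :
    (∀ (x' : AlgSp.Points X'.obj) (e e' : WithBot ℕ∞) (r r' : Cardinal.{u}),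
      AlgSp.HasAtMor (fun _ _ h u => ringKrullDim ↥((h.fiber (h u)).presheaf.stalk (h.asFiber u)) = e) f.hom
          (AlgSp.Points.map g'.hom x') →
      AlgSp.HasAtMor (fun _ _ h u => Dual3.resTrdeg h u = r) f.hom (AlgSp.Points.map g'.hom x') →
      AlgSp.HasAtMor (fun _ _ h u => ringKrullDim ↥((h.fiber (h u)).presheaf.stalk (h.asFiber u)) = e') f'.hom x' →
      AlgSp.HasAtMor (fun _ _ h u => Dual3.resTrdeg h u = r') f'.hom x' →
        e' + ((Cardinal.toENat r' : ℕ∞) : WithBot ℕ∞) = e + ((Cardinal.toENat r : ℕ∞) : WithBot ℕ∞) ∧ e ≤ e') ∧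
    (∀ (x : AlgSp.Points X.obj) (y' : AlgSp.Points Y'.obj) (e : WithBot ℕ∞),
      AlgSp.Points.map f.hom x = AlgSp.Points.map g.hom y' →
      AlgSp.HasAtMor (fun _ _ h u => ringKrullDim ↥((h.fiber (h u)).presheaf.stalk (h.asFiber u)) = e) f.hom x →
        ∃ x' : AlgSp.Points X'.obj, AlgSp.Points.map g'.hom x' = x ∧ AlgSp.Points.map f'.hom x' = y' ∧
          AlgSp.HasAtMor (fun _ _ h u => ringKrullDim ↥((h.fiber (h u)).presheaf.stalk (h.asFiber u)) = e)
            f'.hom x') := by
  have hf' : LocP @LocallyOfFiniteType f'.hom :=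
    locP_of_isPullback sq X.property Y.property Y'.property hf
  obtain ⟨U, V, W, a, b, c, h, h₁, a', ha, hb, hc, w, ha', hs', w', w''⟩ :=
    exists_baseChange_charts sq X.property Y.property Y'.property
  haveI hl : LocallyOfFiniteType h.left := hf a b h ha hb w
  haveI hl' : LocallyOfFiniteType (pullback.snd h h₁).left := hf' a' c _ ha' hc w'
  have sq' : IsPullback (pullback.fst h h₁).left (pullback.snd h h₁).left h.left h₁.left :=
    (IsPullback.of_hasPullback h h₁).map (Over.forget S)
  set p := (pullback.fst h h₁).left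
  set q := (pullback.snd h h₁).left
  have hsum : ∀ z, FibDim.rd q z + fb q z = FibDim.rd h.left (p z) + fb h.left (p z) := fun z => by
    have := FibDim.fibreDimAt_baseChange sq' z
    rw [fibreDimAt_eq_add, fibreDimAt_eq_add] at this
    exact_mod_cast this
  have himg : ∀ z, AlgSp.Points.map g'.hom (AlgSp.Points.ofPt a' z) = AlgSp.Points.ofPt a (p z) := fun z => by
    rw [AlgSp.Points.map_ofPt, w'', ofPt_comp]
  have himg' : ∀ z, AlgSp.Points.map f'.hom (AlgSp.Points.ofPt a' z) = AlgSp.Points.ofPt c (q z) := fun z => by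
    rw [AlgSp.Points.map_ofPt, w', ofPt_comp]
  refine ⟨fun x' e e' r r' he hr he' hr' => ?_, fun x y' e hxy he => ?_⟩
  · obtain ⟨z, rfl⟩ := surjective_ofPt hs' x'
    rw [himg] at he hr
    rw [ResTrdeg.hasAtMor_iff ha hb w, ← FibDim.rd_eq_rdeg] at hr
    rw [ResTrdeg.hasAtMor_iff ha' hc w', ← FibDim.rd_eq_rdeg] at hr'
    rw [fb_eq hf ha hb w _ he, fb_eq hf' ha' hc w' _ he', ← hr, ← hr', map_natCast, map_natCast]
    have h1 : FibDim.rd q z + fb q z = FibDim.rd h.left (p z) + fb h.left (p z) := hsum z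
    have h2 : FibDim.rd q z ≤ FibDim.rd h.left (p z) := FibDim.rd_baseChange_le sq' z
    refine ⟨?_, ?_⟩
    · have h3 : ((fb q z + FibDim.rd q z : ℕ) : WithBot ℕ∞) = ((fb h.left (p z) + FibDim.rd h.left (p z) : ℕ) : WithBot ℕ∞) := by
        rw [show fb q z + FibDim.rd q z = fb h.left (p z) + FibDim.rd h.left (p z) by omega]
      exact_mod_cast h3
    · exact_mod_cast (show fb h.left (p z) ≤ fb q z by omega)
  · classical
    obtain ⟨x'₀, hx₁, hx₂⟩ := exists_point_of_isPullback sq hxy
    obtain ⟨z₀, rfl⟩ := surjective_ofPt hs' x'₀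
    let T : Set ℕ := {n | ∃ v, v ⤳ z₀ ∧ p v = p z₀ ∧ q v = q z₀ ∧ FibDim.rd q v = n}
    have hb' : ∀ n ∈ T, n ≤ FibDim.rd h.left (p z₀) := by
      rintro _ ⟨v, -, hv, -, rfl⟩
      rw [← hv]
      exact FibDim.rd_baseChange_le sq' v
    obtain ⟨v, hv, hvp, hvq, hvn⟩ : sSup T ∈ T :=
      Nat.sSup_mem ⟨_, z₀, specializes_rfl, rfl, rfl, rfl⟩ ⟨_, hb'⟩
    have hmax : FibDim.rd q v = FibDim.rd h.left (p v) := by
      refine FibDim.rd_baseChange_eq_of_minimal sq' v fun u hu hup huq => by_contra fun hne => ?_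
      have h1 : FibDim.rd q u ∈ T := ⟨u, hu.trans hv, hup.trans hvp, huq.trans hvq, rfl⟩
      have h2 : FibDim.rd q v < FibDim.rd q u := FibDim.rd_lt q hu hne huq
      have h3 := le_csSup ⟨_, hb'⟩ h1
      omega
    refine ⟨AlgSp.Points.ofPt a' v, ?_, ?_, ?_⟩
    · rw [← hx₁, himg, himg, hvp]
    · rw [← hx₂, himg', himg', hvq]
    · refine ⟨_, W, a', c, pullback.snd h h₁, v, ha', hc, w', rfl, ?_⟩
      rw [← hx₁, himg, ← hvp] at he
      rw [fb_eq hf ha hb w _ he]
      refine (ringKrullDim_stalk_fibre q v).trans ?_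
      have := hsum v
      rw [show fb q v = fb h.left (p v) by omega]

end Groth.Agent.S10335
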