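import Groth.Statements.S10374
import Groth.Agent.AlgSpDec.Stratify
import Groth.Agent.AlgSpDec.ElemDistInduction
import Groth.Agent.AlgSpDec.MonoRep
import Groth.Agent.AlgSpElem.Basic
import Groth.Agent.AlgSpPts.ProperSubspace

set_option autoImplicit false
universe u
open CategoryTheory CategoryTheory.Limits AlgebraicGeometry Topology TopologicalSpace
open AlgSp

namespace Groth.Agent.S10374

set_option backward.isDefEq.respectTransparency false
set_option backward.isDefEq.respectTransparency.types false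
set_option maxHeartbeats 1000000

open Groth.Agent.AlgSpLib Groth.Agent.AlgSpPts Groth.Agent.AlgSpDec


/-- Let S be a scheme and X a decent algebraic space over S. Every point x ∈ |X| admits an etale
neighbourhood (U, u) ⟶ (X, x) which is elementary, with U an affine scheme and u the only point of U
over x; being elementary means that Spec κ(u) ⟶ X is a monomorphism, equivalently that the residue
field of X at x maps isomorphically to κ(u). -/
theorem result {S : Scheme.{u}} (X : AlgSp.Space S) (hX : AlgSp.IsDecent X.obj)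
    (x : AlgSp.Points X.obj) :
    ∃ (U : Over S) (a : (AlgSp.yon S).obj U ⟶ X.obj) (u : ↥U.left), IsAffine U.left ∧
      AlgSp.IsElemEtaleNbhd a u x ∧ AlgSp.Points.ofPt a ⁻¹' {x} = {u} := by
  -- a quasi-compact open subspace through the point
  obtain ⟨A, α, u₀, hA, hα, hu₀⟩ := exists_affine_chart_at X.property x
  haveI := hA
  obtain ⟨X', j, hX', hj, hjr⟩ := exists_open_subspace X.property
    (isOpenMap_ofPt hα Set.univ isOpen_univ)
  rw [Set.image_univ] at hjr
  haveI : Mono j := mono_of_openImmersion hj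
  have hjinj := injective_points_map_of_mono j
  obtain ⟨α', hα'⟩ := exists_factor_open hj α fun v => hjr.symm.subset ⟨v, rfl⟩
  haveI : CompactSpace (AlgSp.Points X') := ⟨by
    have hsurj : Function.Surjective (AlgSp.Points.ofPt α') := fun z => by
      obtain ⟨v, hv⟩ := hjr.subset ⟨z, rfl⟩
      exact ⟨v, hjinj (by rw [AlgSp.Points.map_ofPt, hα', hv])⟩
    rw [← hsurj.range_eq]
    exact isCompact_range (AlgSp.Points.continuous_ofPt α')⟩
  obtain ⟨q, hq, -, hqc⟩ := hX x
  obtain ⟨q', hq'⟩ := exists_factor_open hj q.toHom fun v => by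
    rw [Subsingleton.elim (α := PrimeSpectrum q.K) v (IsLocalRing.closedPoint q.K),
      AlgSp.Points.ofPt_toHom, hq, hjr]
    exact ⟨u₀, hu₀⟩
  let qF : AlgSp.FieldPt X' := ⟨q.K, q.str, (AlgSp.J S).uliftYonedaEquiv q'⟩
  have hqF : qF.toHom = q' := Equiv.symm_apply_apply _ q'
  obtain ⟨Uo, js, ks, T, i, hjo, -, -, hi, hV, hcov, -⟩ :=
    Stratify.exists_stratification ⟨X', hX'⟩ (isQuasiCompactSp_of_compactSpace hX')
  obtain ⟨n, hn, t, ht⟩ := hcov (AlgSp.Points.mk qF)
    ⟨qF, rfl, Neat.repWith_of_comp_mono (j := j) (by rw [hqF, hq']; exact hqc)⟩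
  have htx : AlgSp.Points.map j (AlgSp.Points.mk qF) = x := by
    rw [← AlgSp.Points.ofPt_toHom qF (IsLocalRing.closedPoint qF.K), AlgSp.Points.map_ofPt, hqF, hq',
      AlgSp.Points.ofPt_toHom, hq]
  obtain ⟨V, f, -, -, hfe, hfs, hfib⟩ := hV n hn
  haveI : Mono (js n).hom := mono_of_openImmersion (hjo n)
  haveI : Mono (i n).hom := Groth.Agent.AlgSpPts.ProperSub.mono_closedImmersion (hi n).1
  have sq := (hi n).1.rep.isPullback f
  haveI := hfib _ _ _ sq
  let Z := (hi n).1.rep.pullback f
  let ι : Z ⟶ V := (hi n).1.rep.snd f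
  let φ := (hi n).1.rep.fst f
  haveI : IsClosedImmersion ι.left := (hi n).1.property_snd f
  let b : (AlgSp.yon S).obj V ⟶ X.obj := f ≫ (js n).hom ≫ j
  have hb : AlgSp.RepWith @Etale b := repWith_comp hfe (repWith_comp
    (repWith_mono (fun _ _ g (hg : IsOpenImmersion g) => inferInstanceAs (Etale g)) _ (hjo n))
    (repWith_mono (fun _ _ g (hg : IsOpenImmersion g) => inferInstanceAs (Etale g)) _ hj))
  let zp : AlgSp.Points ((AlgSp.yon S).obj Z) := AlgSp.Points.map (inv φ) t
  let z : ↥Z.left := AlgSp.Points.toScheme Z zp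
  have hz : AlgSp.Points.ofScheme Z z = zp := AlgSp.Points.ofScheme_toScheme _ _
  have htz : AlgSp.Points.map φ zp = t := by
    rw [← AlgSp.Points.map_comp, IsIso.inv_hom_id, AlgSp.Points.map_id]
  have hE : (AlgSp.yon S).map ι ≫ b = φ ≫ (i n).hom ≫ (js n).hom ≫ j := by
    show (AlgSp.yon S).map ι ≫ f ≫ (js n).hom ≫ j = _
    rw [← Category.assoc, ← sq.w, Category.assoc]
  have hbv : AlgSp.Points.ofPt b (ι.left z) = x := by
    rw [← ofPt_comp, hE, AlgSp.Points.ofPt_eq_map_ofScheme, hz, AlgSp.Points.map_comp, htz, ← htx, ← ht]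
    rw [AlgSp.Points.map_comp, AlgSp.Points.map_comp]
    exact congrArg (AlgSp.Points.map j) (AlgSp.Points.map_comp (i n).hom (js n).hom t).symm
  -- the fibre is a single point
  have huniq : ∀ v, AlgSp.Points.ofPt b v = x → v = ι.left z := by
    intro v hv
    have : AlgSp.Points.ofPt f v = AlgSp.Points.map (i n).hom t := by
      refine injective_points_map_of_mono (js n).hom (hjinj ?_)
      rw [AlgSp.Points.map_ofPt, AlgSp.Points.map_ofPt, Category.assoc]
      refine hv.trans ?_
      rw [← htx, ← ht, ← AlgSp.Points.map_comp (i n).hom]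
      rfl
    obtain ⟨z', hz'₁, hz'₂⟩ := exists_point_of_isPullback sq (x := t) (y := AlgSp.Points.ofScheme V v)
      (by rw [← AlgSp.Points.ofPt_eq_map_ofScheme, this])
    have hzz : z' = zp := by
      apply injective_points_map_of_mono φ
      rw [htz]; exact hz'₁
    rw [hzz, ← hz, AlgSp.Points.map_ofPt, Category.id_comp] at hz'₂
    exact (AlgSp.Points.toScheme_ofScheme V v).symm.trans ((congrArg (AlgSp.Points.toScheme V) hz'₂).symm.trans
      (AlgSp.Points.toScheme_ofPt ι z))
  obtain ⟨U, κ, u, hU, hκ, hκu, ha⟩ := exists_affine_restrict hb (ι.left z)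
  haveI := hκ
  refine ⟨U, (AlgSp.yon S).map κ ≫ b, u, hU, ⟨ha, ?_, ?_⟩, ?_⟩
  · rw [ofPt_comp, hκu, hbv]
  · -- the point is a monomorphism
    rw [Groth.Agent.AlgSpElem.toHom_eq, ← Functor.map_comp_assoc]
    obtain ⟨k, hk⟩ : ∃ k, k ≫ ι = Groth.Agent.AlgSpElem.ptι u ≫ κ := by
      let L := U.left.residueField u
      let m : Spec (CommRingCat.of L) ⟶ V.left := U.left.fromSpecResidueField u ≫ κ.left
      have hm : ∀ s, m s = ι.left z := fun s => by
        rw [Subsingleton.elim (α := PrimeSpectrum L) s (IsLocalRing.closedPoint L)]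
        exact (Scheme.Hom.comp_apply _ _ _).trans
          ((congrArg κ.left (Scheme.fromSpecResidueField_apply _ _)).trans hκu)
      haveI : IsReduced (Spec (CommRingCat.of L)) := inferInstance
      obtain ⟨k₀, hk₀⟩ := exists_factor_closed ι.left m (by rintro _ ⟨s, rfl⟩; exact ⟨z, (hm s).symm⟩)
      exact ⟨Over.homMk k₀ (by rw [← Over.w ι, reassoc_of% hk₀]; simp [m]), Over.OverMorphism.ext hk₀⟩
    rw [← hk, Functor.map_comp, Category.assoc]
    rw [hE]
    haveI : Mono ((AlgSp.yon S).map k) := by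
      haveI : Mono (Groth.Agent.AlgSpElem.ptι u ≫ κ) := by
        haveI : Mono ((Over.forget S).map (Groth.Agent.AlgSpElem.ptι u ≫ κ)) :=
          inferInstanceAs (Mono (U.left.fromSpecResidueField u ≫ κ.left))
        exact (Over.forget S).mono_of_mono_map ‹_›
      haveI : Mono k := mono_of_mono_fac hk
      infer_instance
    infer_instance
  · ext v
    constructor
    · intro hv
      have := huniq (κ.left v) (by rw [← ofPt_comp]; exact hv)
      exact κ.left.isOpenEmbedding.injective (this.trans hκu.symm)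
    · rintro rfl
      show AlgSp.Points.ofPt _ v = x
      rw [ofPt_comp, hκu, hbv]

end Groth.Agent.S10374
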