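import Groth.Statements.S10376
import Groth.Agent.AlgSpNorm.Main
import Groth.Agent.AlgSpDec.LqfScheme
import Groth.Agent.AlgSpPts.Sep
import Groth.Agent.AlgSpPts.Misc
import Groth.Agent.AlgSpDec.LimDescentRep

set_option autoImplicit false
set_option backward.isDefEq.respectTransparency false
set_option backward.isDefEq.respectTransparency.types false
universe u
open CategoryTheory CategoryTheory.Limits AlgebraicGeometry Topology TopologicalSpace
open AlgSp Groth.Agent.AlgSpLib Groth.Agent.AlgSpDec Groth.Agent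

namespace Groth.Agent.S10376

/-- Let S be a scheme, Y and V algebraic spaces over S, j : V ⟶ Y a quasi-compact open immersion, and π
: Z ⟶ V an integral morphism. Then one can find an integral morphism ν : Y' ⟶ Y for which Z is
isomorphic over V to the preimage in Y' of V: there is j' : Z ⟶ Y' making the square (j', π, ν, j)
cartesian. -/
theorem result {S : Scheme.{u}} {V Y Z : AlgSp.Space S} (j : V ⟶ Y)
    (hj : AlgSp.RepWith @IsOpenImmersion j.hom) (hjq : AlgSp.IsQuasiCompactMor j.hom) (π : Z ⟶ V)
    (hπ : AlgSp.IsIntegralMor π.hom) :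
    ∃ (Y' : AlgSp.Space S) (ν : Y' ⟶ Y) (j' : Z ⟶ Y'), AlgSp.IsIntegralMor ν.hom ∧
      IsPullback j'.hom π.hom ν.hom j.hom := by
  have hjsep : IsSeparatedMor j.hom := by
    have : Mono j.hom := AlgSpPts.mono_of_repWith (repWith_mono (fun _ _ g (_ : IsOpenImmersion g) =>
      (inferInstance : Mono g)) _ hj)
    exact isSeparatedMor_of_mono j.hom
  have : Mono j.hom := AlgSpPts.mono_of_repWith (repWith_mono (fun _ _ g (_ : IsOpenImmersion g) =>
    (inferInstance : Mono g)) _ hj)
  have hπr := isIntegralMor_iff_repWith.1 hπ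
  have hπqc : IsQuasiCompactMor π.hom := AlgSpPts.isQuasiCompactMor_of_repWith
    (repWith_mono (fun _ _ g (_ : IsIntegralHom g) => (inferInstance : QuasiCompact g)) _ hπr)
  have hπsep : IsSeparatedMor π.hom := isSeparatedMor_of_repWith_affine
    (repWith_mono (fun _ _ g (_ : IsIntegralHom g) => (inferInstance : IsAffineHom g)) _ hπr)
  have hqc : IsQuasiCompactMor (π.hom ≫ j.hom) := AlgSpPts.isQuasiCompactMor_comp V.property Y.property hπqc hjq
  have hqs : IsQuasiSeparatedMor (π.hom ≫ j.hom) :=
    isQuasiSeparatedMor_of_isSeparatedMor (AlgSpPts.isSeparatedMor_comp hπsep hjsep)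
  obtain ⟨Y', ν, f', hY', hon⟩ := AlgSpNorm.exists_normOn Z.property Y.property hqc hqs
  have hjs : LocP @Smooth j.hom := locP_of_repWith (repWith_mono
    (fun _ _ g (_ : IsOpenImmersion g) => (inferInstance : Smooth g)) _ hj)
  have sq : IsPullback (𝟙 Z.obj) π.hom (π.hom ≫ j.hom) j.hom := by
    refine IsPullback.of_isLimit' ⟨by simp⟩ (PullbackCone.IsLimit.mk _ (fun s => s.fst) (fun s => Category.comp_id _)
      (fun s => (cancel_mono j.hom).1 (by rw [Category.assoc]; exact s.condition)) fun s m h₁ _ => by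
        simpa using h₁)
  have sqP := IsPullback.of_hasPullback ν j.hom
  have hP : IsAlgSpace (pullback ν j.hom) :=
    AlgSpNorm.isAlgSpace_of_isIntegralMor (AlgSpNorm.isIntegralMor_of_isPullback sqP hon.2.1) V.property
  have hn := AlgSpNorm.isRelNormalization_of_normOn (AlgSpNorm.normOn_of_isPullback hon Y.property V.property hjs sq
    sqP (f'' := pullback.lift f' π.hom hon.1) (pullback.lift_snd _ _ _) (by simp)) V.property
  have hn' : IsRelNormalization π.hom π.hom (𝟙 Z.obj) :=
    ⟨Category.id_comp _, hπ, fun W _ πW g _ hg => ⟨g, ⟨Category.id_comp _, hg⟩, fun k hk => by simpa using hk.1⟩⟩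
  obtain ⟨e, -, he⟩ := AlgSpNorm.exists_iso_of_isRelNormalization Z.property hP hn' hn
  refine ⟨⟨Y', hY'⟩, ObjectProperty.homMk ν, ObjectProperty.homMk (e.hom ≫ pullback.fst ν j.hom), hon.2.1, ?_⟩
  exact sqP.of_iso e.symm (Iso.refl _) (Iso.refl _) (Iso.refl _) (by simp) (by simp [← he]) (by simp) (by simp)

end Groth.Agent.S10376
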