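import Groth.Statements.S10385
import Groth.Agent.AlgSpDec.SplitOff
import Groth.Agent.AlgSpDec.MonoFromFinite
import Groth.Agent.AlgSpLib.EtLocalInst
import Groth.Agent.AlgSpLib.EtaleSmoothLocal
import Groth.Agent.S9995
import Groth.Agent.S10389

set_option autoImplicit false
set_option backward.isDefEq.respectTransparency false
set_option backward.isDefEq.respectTransparency.types false
universe u
open CategoryTheory CategoryTheory.Limits AlgebraicGeometry Topology TopologicalSpace
open AlgSp

namespace Groth.Agent.S10385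

/-- Let S be a scheme, X and Y algebraic spaces over S, and f : X ⟶ Y a quasi-compact, etale and
surjective morphism. If each point of X can be represented by a monomorphism whose source is the
spectrum of a field, then so can each point of Y. -/
theorem result {S : Scheme.{u}} {X Y : AlgSp.Space S} (f : X ⟶ Y)
    (hq : AlgSp.IsQuasiCompactMor f.hom) (he : AlgSp.IsEtaleMor f.hom) (hs : AlgSp.IsSurjectiveMor f.hom)
    (hX : ∀ x : AlgSp.Points X.obj, ∃ p : AlgSp.FieldPt X.obj, AlgSp.Points.mk p = x ∧ Mono p.toHom)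
    (y : AlgSp.Points Y.obj) : ∃ q : AlgSp.FieldPt Y.obj, AlgSp.Points.mk q = y ∧ Mono q.toHom := by
  obtain ⟨x, rfl⟩ := hs y
  obtain ⟨U, a, u, hU, ha, rfl⟩ := AlgSpDec.exists_affine_chart_at X.property x
  haveI := hU
  let φ := a ≫ f.hom
  have hφ : RepWith @Etale φ := he a ha
  have sqP := IsPullback.of_hasPullback f.hom φ
  let Xu : AlgSp.Space S := ⟨(yon S).obj U, IsAlgSpace.yon_obj U⟩
  let P : AlgSp.Space S := ⟨pullback f.hom φ,
    AlgSpLib.isAlgSpace_of_isPullback sqP X.property (IsAlgSpace.yon_obj U) Y.property⟩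
  let g : P ⟶ Xu := ObjectProperty.homMk (pullback.snd f.hom φ)
  have hge : IsEtaleMor g.hom :=
    AlgSpLib.isEtaleMor_of_isPullback sqP X.property Y.property (IsAlgSpace.yon_obj U) he
  have hgl : LocP @LocallyOfFiniteType g.hom := AlgSpLib.locP_mono
    (fun _ _ e (_ : Etale e) => (inferInstance : LocallyOfFiniteType e))
    ((AlgSpLib.isEtaleMor_iff_locP P.property (IsAlgSpace.yon_obj U) _).1 hge)
  have hqfg : ∀ z : Points P.obj, HasAtMor AlgSpDec.SplitOff.QfAt g.hom z := fun z => by
    obtain ⟨T, c, t, -, hc, rfl⟩ := AlgSpDec.exists_affine_chart_at P.property z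
    obtain ⟨k, hk⟩ := (yon S).map_surjective (c ≫ g.hom)
    have : Etale k.left := (repWith_yon_map_iff _ k).1 (hk ▸ hge c hc)
    exact ⟨T, U, c, 𝟙 _, k, t, hc, repWith_id _ U, by rw [Category.comp_id, hk], rfl,
      ⊤, trivial, inferInstance, inferInstance⟩
  have hF : {z : Points P.obj | Points.map g.hom z = Points.ofScheme U u}.Finite :=
    (S9995.result g ⟨hgl, AlgSpPts.isQuasiCompactMor_of_isPullback sqP hq⟩ (Points.ofScheme U u)).subset
      fun z hz => ⟨hz, hqfg z⟩
  have hφu : Points.ofPt φ u = Points.map f.hom (Points.ofPt a u) := (Points.map_ofPt a f.hom u).symm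
  rw [← hφu]
  refine AlgSpDec.exists_mono_of_finite_relation Y.property hφ (u' := u) rfl fun R s t sq => ?_
  obtain ⟨l, hl₁, hl₂⟩ := sqP.exists_lift ((yon S).map t ≫ a) ((yon S).map s) (by rw [Category.assoc]; exact sq.w)
  have sql : IsPullback ((yon S).map t) l a (pullback.fst f.hom φ) :=
    (IsPullback.of_right (h₁₁ := l) (v₁₁ := (yon S).map t) (by rw [hl₂]; exact sq.flip) hl₁ sqP.flip).flip
  let W : AlgSp.Space S := ⟨(yon S).obj R, IsAlgSpace.yon_obj R⟩
  obtain ⟨p, hp, hm⟩ := hX (Points.ofPt a u)
  have hqfa : HasAtMor AlgSpDec.SplitOff.QfAt a (Points.ofScheme U u) :=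
    ⟨U, U, 𝟙 _, a, 𝟙 U, u, repWith_id _ U, ha, by rw [CategoryTheory.Functor.map_id],
      by rw [Points.ofPt_eq_map_ofScheme, Points.map_id], ⊤, trivial, inferInstance, inferInstance⟩
  let F := {z : Points P.obj | Points.map g.hom z = Points.ofScheme U u ∧
    Points.map (pullback.fst f.hom φ) z = Points.ofPt a u}
  have hF' : F.Finite := hF.subset fun z hz => hz.1
  refine ((hF'.biUnion (t := fun z => {w : Points W.obj | Points.map l w = z ∧
      Points.map ((yon S).map t) w = Points.ofScheme U u}) fun z hz => ?_).preimage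
    (f := Points.ofScheme R) (Points.schemeHomeo R).injective.injOn).subset fun r hr => ?_
  · exact S10389.result (W := W) (X := P) (Y := X) (Z := Xu) (ObjectProperty.homMk (pullback.fst f.hom φ))
      (ObjectProperty.homMk a) (ObjectProperty.homMk l) (ObjectProperty.homMk ((yon S).map t)) sql.flip z
      (Points.ofScheme U u) (hz.2.trans (Points.ofPt_eq_map_ofScheme a u))
      ⟨p, hp.trans (Points.ofPt_eq_map_ofScheme a u), hm⟩ hqfa
  · have h1 : Points.map ((yon S).map t) (Points.ofScheme R r) = Points.ofScheme U u :=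
      (Points.map_yon_map_apply t r).trans (by rw [hr.2]; rfl)
    have h2 : Points.map ((yon S).map s) (Points.ofScheme R r) = Points.ofScheme U u :=
      (Points.map_yon_map_apply s r).trans (by rw [hr.1]; rfl)
    refine Set.mem_biUnion (x := Points.map l (Points.ofScheme R r)) ⟨?_, ?_⟩ ⟨rfl, h1⟩
    · change Points.map (pullback.snd f.hom φ) _ = _
      rw [← Points.map_comp, hl₂, h2]
    · rw [← Points.map_comp, hl₁, Points.map_comp, h1, ← Points.ofPt_eq_map_ofScheme]

end Groth.Agent.S10385
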