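import Groth.Statements.S10392
import Groth.Agent.AlgSpDec.IsolatedPoints
import Groth.Agent.AlgSpDec.OnePoint

set_option autoImplicit false
universe u
open CategoryTheory CategoryTheory.Limits AlgebraicGeometry Topology TopologicalSpace
open AlgSp

namespace Groth.Agent.S10392

/-- Let k be a field and X a nonempty algebraic space over k which is locally of finite type. Then (2)
|X| is discrete if and only if (4) dim X = 0, and these imply (3) dim |X| = 0; if X is decent then
(3) implies (2) and (1) |X| finite implies (4). (The published statement asserts (2) ⇔ (3) ⇔ (4) for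
every such X and does not exclude the empty space; for the quotient of the affine line over a field
of characteristic zero by the translation action of the integers, |X| is an infinite set with the
indiscrete topology, so (3) holds while (2) and (4) fail, and for the empty space (2) holds while
dim X = ⊥. The equivalence with local quasi-finiteness of X → Spec k is not part of this row.) -/
theorem result (k : Type u) [Field k] (X : AlgSp.Space (Spec (CommRingCat.of k)))
    (p : X.obj ⟶ (AlgSp.yon (Spec (CommRingCat.of k))).obj (Over.mk (𝟙 _))) (hp : AlgSp.LocP @LocallyOfFiniteType p) [Nonempty (AlgSp.Points X.obj)] :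
    (DiscreteTopology (AlgSp.Points X.obj) ↔ AlgSp.dim X.obj = 0) ∧
      (DiscreteTopology (AlgSp.Points X.obj) → topologicalKrullDim (AlgSp.Points X.obj) = 0) ∧
      (AlgSp.IsDecent X.obj → topologicalKrullDim (AlgSp.Points X.obj) = 0 → DiscreteTopology (AlgSp.Points X.obj)) ∧
      (AlgSp.IsDecent X.obj → Finite (AlgSp.Points X.obj) → AlgSp.dim X.obj = 0) := by
  have hdisc : AlgSp.dim X.obj ≤ 0 → DiscreteTopology (AlgSp.Points X.obj) :=
    AlgSpDec.discrete_of_dim_zero X.property hp
  refine ⟨⟨fun _ => AlgSpDec.dim_eq_zero_of_discrete X.property hp, fun h => hdisc h.le⟩, fun _ => ?_, fun hX h => ?_,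
    fun hX hfin => ?_⟩
  · refine le_antisymm (topologicalKrullDim_zero_of_discreteTopology _) ?_
    have : Nonempty (IrreducibleCloseds (AlgSp.Points X.obj)) :=
      ⟨⟨closure {Classical.arbitrary _}, isIrreducible_singleton.closure, isClosed_closure⟩⟩
    exact Order.krullDim_nonneg
  · have := AlgSpDec.t0Space_points X.property hX
    have := AlgSpDec.quasiSober_points X.property hX
    exact hdisc (AlgSpDec.krullDim_points_eq_dim X.property hX ▸ h).le
  · have : DiscreteTopology (AlgSp.Points X.obj) := by
      refine discreteTopology_iff_isOpen_singleton.2 fun x => ?_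
      obtain ⟨U, a, u, hU, ha, rfl⟩ := AlgSpDec.exists_affine_chart_at X.property x
      obtain ⟨hN, hJ⟩ := AlgSpDec.chart_jacobson hp ha
      have hfib : ∀ y : AlgSp.Points X.obj, (AlgSp.Points.ofPt a ⁻¹' {y}).Finite := fun y => by
        obtain ⟨r, rfl, -, hr⟩ := hX y
        exact AlgSpDec.finite_fibre_of_repWith ha r hr
      have : Finite ↥U.left := by
        refine Set.finite_univ_iff.1 ((Set.toFinite (Set.univ : Set (AlgSp.Points X.obj))).preimage' fun y _ => hfib y)
      have : DiscreteTopology ↥U.left := inferInstance
      have := AlgSpLib.isOpenMap_ofPt ha _ (isOpen_discrete {u})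
      rwa [Set.image_singleton] at this
    exact AlgSpDec.dim_eq_zero_of_discrete X.property hp

end Groth.Agent.S10392
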