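import Groth.Statements.S10393
import Groth.Agent.S10355
import Groth.Agent.AlgSpDec.OpenGlue
import Groth.Agent.AlgSpDec.FppfDescent
import Groth.Agent.AlgSpDec.DecentMor
import Groth.Agent.AlgSpDec.LimOpen
import Groth.Agent.AlgSpDec.OpenCoverSpace
import Groth.Agent.AlgSpDec.LimDescentIso

set_option autoImplicit false
universe u
open CategoryTheory CategoryTheory.Limits AlgebraicGeometry Topology TopologicalSpace
open AlgSp

namespace Groth.Agent.S10393

/-- Let S be a scheme, Y a scheme over S whose underlying topological space is discrete (equivalently, Y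
is a disjoint union of spectra of local rings of dimension zero), and X an algebraic space over S
with a monomorphism X ⟶ Y over S. Then X is a scheme. -/
theorem result {S : Scheme.{u}} (Y : Over S) [DiscreteTopology ↥Y.left]
    (X : AlgSp.Space S) (f : X ⟶ (AlgSp.ofScheme S).obj Y) [Mono f.hom] : X.obj.obj.IsRepresentable := by
  have hdec : ∀ {F : AlgSp.Sp S}, AlgSp.IsAlgSpace F → ∀ (g : F ⟶ (AlgSp.yon S).obj Y), Mono g → AlgSp.IsDecent F := by
    intro F hF g hg
    have := AlgSpDec.isIso_diagonal_of_mono g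
    exact AlgSpDec.isDecent_of_isDecentMor hF g (AlgSpDec.isDecentMor_of_isQuasiSeparatedMor hF
      (IsAlgSpace.yon_obj Y) g (AlgSpLib.repWith_of_isIso _ _)) (AlgSpDec.isDecent_yon Y)
  let g₀ : X.obj ⟶ (AlgSp.yon S).obj Y := f.hom
  have : Mono g₀ := ‹Mono f.hom›
  have hdisc : DiscreteTopology (AlgSp.Points X.obj) :=
    have : DiscreteTopology (AlgSp.Points ((AlgSp.yon S).obj Y)) :=
      (AlgSp.Points.schemeHomeo Y).discreteTopology
    DiscreteTopology.of_continuous_injective (AlgSp.Points.continuous_map g₀)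
      (AlgSpDec.injective_points_map_of_mono g₀)
  choose F j hj hr using fun x : AlgSp.Points X.obj =>
    AlgSpDec.Fppf.exists_open_subsheaf (F := X.obj) (W := {x}) (isOpen_discrete _)
  have hrep : ∀ x, ∃ T : Over S, Nonempty ((AlgSp.yon S).obj T ≅ F x) := by
    intro x
    have hF : AlgSp.IsAlgSpace (F x) := AlgSpDec.isAlgSpace_of_representable X.property (j x) (hj x).rep
    have : Mono (j x) := AlgSpDec.mono_of_openImmersion (hj x)
    have hinj := AlgSpDec.injective_points_map_of_mono (j x)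
    have : Subsingleton (AlgSp.Points (F x)) := ⟨fun a b => hinj (by
      have ha : Points.map (j x) a ∈ ({x} : Set _) := hr x ▸ Set.mem_range_self a
      have hb : Points.map (j x) b ∈ ({x} : Set _) := hr x ▸ Set.mem_range_self b
      exact ha.trans hb.symm)⟩
    obtain ⟨a, -⟩ : x ∈ Set.range (Points.map (j x)) := (hr x).symm ▸ rfl
    have : Nonempty (AlgSp.Points (F x)) := ⟨a⟩
    obtain ⟨T, ⟨e⟩⟩ := (Groth.Agent.S10355.result (⟨F x, hF⟩ : AlgSp.Space S)
      (hdec hF (j x ≫ g₀) inferInstance)).has_representation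
    exact ⟨T, ⟨AlgSp.isoOfRepresentableBy e⟩⟩
  choose T e using hrep
  obtain ⟨U, p, -, hps⟩ := X.property.atlas
  have hsurj := AlgSpLib.surjective_ofPt hps
  let jT : ∀ u : ↥U.left, (AlgSp.yon S).obj (T (AlgSp.Points.ofPt p u)) ⟶ X.obj := fun u =>
    (e _).some.hom ≫ j _
  have hjT : ∀ u, AlgSp.RepWith @IsOpenImmersion (jT u) := fun u =>
    AlgSpLib.repWith_comp (AlgSpLib.repWith_of_isIso _ _) (hj _)
  obtain ⟨Q, ⟨eQ⟩, -⟩ := AlgSpDec.exists_iso_of_open_cover (X := X.obj) _ jT hjT (fun y => by
      obtain ⟨u, rfl⟩ := hsurj y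
      obtain ⟨a, ha⟩ : AlgSp.Points.ofPt p u ∈ Set.range (Points.map (j (AlgSp.Points.ofPt p u))) :=
        (hr _).symm ▸ rfl
      obtain ⟨v, hv⟩ := (AlgSp.Points.schemeHomeo (T _)).surjective (Points.map (e _).some.inv a)
      refine ⟨u, v, ?_⟩
      have h1 : AlgSp.Points.ofPt (jT u) v = Points.map (jT u) (Points.map (e _).some.inv a) := by
        rw [← hv]; exact (congrArg (fun g => AlgSp.Points.ofPt g v) (Category.id_comp (jT u))).symm
      rw [h1]
      conv_rhs => rw [← ha]
      rw [← AlgSp.Points.map_comp]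
      exact congrArg (fun g => Points.map g a) ((e _).some.inv_hom_id_assoc (j _)))
  exact ⟨Q, ⟨AlgSp.representableByOfIso eQ⟩⟩

end Groth.Agent.S10393
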