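import Groth.Statements.S10397
import Groth.Agent.AlgSpDec.DenseSchemeDecent
import Groth.Agent.AlgSpDec.LimOpen

set_option autoImplicit false
universe u
open CategoryTheory CategoryTheory.Limits AlgebraicGeometry Topology TopologicalSpace
open AlgSp

namespace Groth.Agent.S10397

/-- (1) ⇔ (3): an algebraic space X over a scheme S is decent with |X| having finitely many irreducible
components if and only if X has a dense open subscheme X' with finitely many irreducible components
whose generic points x'_j give quasi-compact morphisms Spec κ(x'_j) ⟶ X. -/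
theorem result {S : Scheme.{u}} (X : AlgSp.Space S) :
    (AlgSp.IsDecent X.obj ∧ (irreducibleComponents (AlgSp.Points X.obj)).Finite) ↔
      ∃ (X' : Over S) (j : (AlgSp.yon S).obj X' ⟶ X.obj), AlgSp.RepWith @IsOpenImmersion j ∧
        Dense (Set.range (AlgSp.Points.ofPt j)) ∧ (irreducibleComponents ↥X'.left).Finite ∧
        ∀ x' : ↥X'.left, (∃ T ∈ irreducibleComponents ↥X'.left, IsGenericPoint x' T) →
          AlgSp.RepWith @QuasiCompact (AlgSp.FieldPt.ofPt j x').toHom := by
  constructor
  · rintro ⟨hdec, hfin⟩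
    obtain ⟨X', j, hj, hrep, hd⟩ := AlgSpDec.exists_dense_open_subscheme_of_isDecent X hdec
    obtain ⟨T, ⟨e⟩⟩ := hrep.has_representation
    let φ : (AlgSp.yon S).obj T ⟶ X.obj := (AlgSp.isoOfRepresentableBy e).hom ≫ j.hom
    have hφ : AlgSp.RepWith @IsOpenImmersion φ := AlgSpLib.repWith_comp (AlgSpLib.repWith_of_isIso _ _) hj
    have hrange : Set.range (AlgSp.Points.ofPt φ) = Set.range (AlgSp.Points.map j.hom) := by
      ext y
      constructor
      · rintro ⟨t, rfl⟩
        exact ⟨AlgSp.Points.ofPt (AlgSp.isoOfRepresentableBy e).hom t, AlgSp.Points.map_ofPt _ _ _⟩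
      · rintro ⟨z, rfl⟩
        obtain ⟨t, ht⟩ := (AlgSp.Points.schemeHomeo T).surjective
          (AlgSp.Points.map (AlgSp.isoOfRepresentableBy e).inv z)
        refine ⟨t, ?_⟩
        rw [AlgSp.Points.ofPt_eq_map_ofScheme, show AlgSp.Points.ofScheme T t = _ from ht, ← AlgSp.Points.map_comp,
          Iso.inv_hom_id_assoc]
    refine ⟨T, φ, hφ, hrange ▸ hd, ?_, fun x' _ =>
      AlgSpDec.repWith_quasiCompact_toHom X.property hdec _⟩
    have hemb : IsOpenEmbedding (AlgSp.Points.ofPt φ) := by
      have := AlgSpDec.mono_of_openImmersion hφ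
      refine .of_continuous_injective_isOpenMap (AlgSp.Points.continuous_ofPt φ) ?_
        (AlgSpLib.isOpenMap_ofPt (AlgSpLib.repWith_mono (fun _ _ f (_ : IsOpenImmersion f) => (inferInstance : Etale f)) _ hφ))
      intro a b hab
      refine (AlgSp.Points.schemeHomeo T).injective (AlgSpDec.injective_points_map_of_mono φ ?_)
      exact ((AlgSp.Points.ofPt_eq_map_ofScheme φ a).symm.trans hab).trans (AlgSp.Points.ofPt_eq_map_ofScheme φ b)
    refine ((hfin.image fun T' => AlgSp.Points.ofPt φ ⁻¹' T')).subset fun C hC => ?_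
    obtain ⟨T', hT', hsub⟩ := exists_mem_irreducibleComponents_subset_of_isIrreducible _
      (hC.1.image _ (AlgSp.Points.continuous_ofPt φ).continuousOn)
    refine ⟨T', hT', ?_⟩
    obtain ⟨c, hc⟩ := hC.1.nonempty
    have hpre := preimage_mem_irreducibleComponents hT' hemb ⟨_, hsub (Set.mem_image_of_mem _ hc), c, rfl⟩
    exact Set.Subset.antisymm (hC.2 hpre.1 fun z hz => hsub (Set.mem_image_of_mem _ hz))
      fun z hz => hsub (Set.mem_image_of_mem _ hz)
  · rintro ⟨X', j, hj, hd, hfin, hqc⟩
    refine ⟨AlgSpDec.isDecent_of_dense_subscheme X.property hj hd hfin hqc, ?_⟩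
    let Cs := (fun C => closure (AlgSp.Points.ofPt j '' C)) '' irreducibleComponents ↥X'.left
    have hCs : Cs.Finite := hfin.image _
    have hcov : ⋃₀ Cs = Set.univ := by
      refine Set.eq_univ_of_univ_subset ?_
      have hc : IsClosed (⋃₀ Cs) := by
        rw [Set.sUnion_eq_biUnion]
        exact hCs.isClosed_biUnion fun C hC => by
          obtain ⟨D, -, rfl⟩ := hC
          exact isClosed_closure
      rw [← hd.closure_eq]
      refine hc.closure_subset_iff.2 ?_
      rintro _ ⟨z, rfl⟩
      exact ⟨_, ⟨_, irreducibleComponent_mem_irreducibleComponents z, rfl⟩,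
        subset_closure (Set.mem_image_of_mem _ mem_irreducibleComponent)⟩
    refine hCs.subset fun Z hZ => ?_
    obtain ⟨W, hW, hZW⟩ := isIrreducible_iff_sUnion_isClosed.1 hZ.1 hCs.toFinset (fun W hW => by
      obtain ⟨D, -, rfl⟩ := hCs.mem_toFinset.1 hW
      exact isClosed_closure) (by rw [hCs.coe_toFinset, hcov]; exact Set.subset_univ _)
    obtain ⟨D, hD, rfl⟩ := hCs.mem_toFinset.1 hW
    have hirr := ((hD.1.image _ (AlgSp.Points.continuous_ofPt j).continuousOn)).closure
    exact ⟨D, hD, Set.Subset.antisymm (hZ.2 hirr hZW) hZW⟩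

end Groth.Agent.S10397
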