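import Groth.Statements.S10398
import Groth.Agent.AlgSpDec.FiniteOverGeneric
import Groth.Agent.AlgSpDec.CodimZero

set_option autoImplicit false
set_option backward.isDefEq.respectTransparency false
set_option backward.isDefEq.respectTransparency.types false
universe u
open CategoryTheory CategoryTheory.Limits AlgebraicGeometry Topology TopologicalSpace
open AlgSp

namespace Groth.Agent.S10398

attribute [local instance] Groth.Agent.EtFound.fpqc_isFinite

/-- (2) ⇒ (3): let S be a scheme, X and Y algebraic spaces over S, and f : X ⟶ Y a quasi-separated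
morphism of finite type, and let y ∈ |Y| be a codimension 0 point of Y. Suppose that at every point
of |X| lying over y the morphism f is quasi-finite. Then there is an open subspace Y' ⊆ Y containing
y for which the morphism Y' ×_Y X ⟶ Y' is finite. -/
theorem result {S : Scheme.{u}} {X Y : AlgSp.Space S} (f : X ⟶ Y)
    (hqs : AlgSp.IsQuasiSeparatedMor f.hom) (hft : AlgSp.IsFiniteTypeMor f.hom) (y : AlgSp.Points Y.obj)
    (hy : AlgSp.HasAt (fun U u => ringKrullDim ↥(U.presheaf.stalk u) = 0) Y.obj y)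
    (hqf : ∀ x : AlgSp.Points X.obj, AlgSp.Points.map f.hom x = y → AlgSp.HasAtMor (fun U _ h u => ∃ W : U.Opens, u ∈ W ∧ LocallyQuasiFinite (W.ι ≫ h) ∧ LocallyOfFiniteType (W.ι ≫ h)) f.hom x) :
    ∃ (Y' X' : AlgSp.Space S) (j : Y' ⟶ Y) (fst : X' ⟶ Y') (snd : X' ⟶ X), AlgSp.RepWith @IsOpenImmersion j.hom ∧
      y ∈ Set.range (AlgSp.Points.map j.hom) ∧ IsPullback fst.hom snd.hom j.hom f.hom ∧
      AlgSp.IsFiniteMor fst.hom := by
  obtain ⟨U₀, a₀, u₀, ha₀, hu₀, hdim⟩ := hy
  obtain ⟨B, hB, huB, -⟩ := exists_isAffineOpen_mem_and_subset (U := (⊤ : U₀.left.Opens)) (x := u₀) trivial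
  let V : Over S := Over.mk (B.ι ≫ U₀.hom)
  let ι₀ : V ⟶ U₀ := CategoryTheory.Over.homMk B.ι rfl
  haveI : IsAffine V.left := hB
  let b := (yon S).map ι₀ ≫ a₀
  have hb : RepWith @Etale b := AlgSpLib.repWith_comp
    ((repWith_yon_map_iff _ ι₀).2 (inferInstanceAs (Etale B.ι))) ha₀
  let v : V.left := ⟨u₀, huB⟩
  have hbv : Points.ofPt b v = y := by
    rw [AlgSpLib.ofPt_comp]; exact hu₀
  have hc : Order.coheight u₀ = 0 := by
    have h := hdim
    rw [ringKrullDim_stalk_eq_coheight] at h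
    exact_mod_cast h
  have hv : v ∈ genericPoints V.left := by
    refine AlgSpDec.FiniteOverGeneric.mem_genericPoints_of_minimal fun z hz => ?_
    have := AlgSpDec.eq_of_specializes_of_coheight hc (y := B.ι z) (hz.map B.ι.continuous)
    exact B.ι.isOpenEmbedding.injective this
  obtain ⟨V₁, hv₁, hfin⟩ := AlgSpDec.FiniteOverGeneric.exists_finite_nbhd X.property Y.property hft hqs hb v hv
    (fun x hx => hqf x (hx.trans hbv))
  let V₁o : Over S := Over.mk (V₁.ι ≫ V.hom)
  let jv : V₁o ⟶ V := CategoryTheory.Over.homMk V₁.ι rfl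
  have hb₁ : RepWith @Etale ((yon S).map jv ≫ b) := AlgSpLib.repWith_comp
    ((repWith_yon_map_iff _ jv).2 (inferInstanceAs (Etale V₁.ι))) hb
  obtain ⟨P, j, a', hj, ha', ha'e, ha's⟩ := AlgSpDec.exists_image_chart Y.property hb₁
  have hP : IsAlgSpace P := AlgSpLib.isAlgSpace_of_representable j hj.rep Y.property
  have sq := IsPullback.of_hasPullback j f.hom
  refine ⟨⟨P, hP⟩, ⟨pullback j f.hom, AlgSpLib.isAlgSpace_of_isPullback sq hP X.property Y.property⟩,
    ObjectProperty.homMk j, ObjectProperty.homMk (pullback.fst j f.hom),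
    ObjectProperty.homMk (pullback.snd j f.hom), hj,
    ⟨Points.ofPt a' ⟨v, hv₁⟩, ?_⟩, sq, ?_⟩
  · change Points.map j _ = y
    rw [Points.map_ofPt, ha', AlgSpLib.ofPt_comp]
    exact hbv
  · have sqP := IsPullback.of_hasPullback (pullback.fst j f.hom) a'
    have h2 := hfin _ (pullback.snd (pullback.fst j f.hom) a') (ha' ▸ sqP.paste_horiz sq.flip)
    exact AlgSpDec.isFiniteMor_iff_repWith.2 (AlgSpDec.repWith_of_etale_cover
      (fun _ _ e (_ : IsFinite e) => inferInstanceAs (IsAffineHom e)) ha'e ha's sqP h2)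

end Groth.Agent.S10398
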