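import Groth.Statements.S10399
import Groth.Agent.AlgSpDec.QfLocus
import Groth.Agent.AlgSpDec.FiniteDense

set_option autoImplicit false
set_option backward.isDefEq.respectTransparency false
set_option backward.isDefEq.respectTransparency.types false
universe u
open CategoryTheory CategoryTheory.Limits AlgebraicGeometry Topology TopologicalSpace
open AlgSp

namespace Groth.Agent.S10399

/-- Let f : X ⟶ Y be a morphism locally of finite type of algebraic spaces over a scheme S and y a
codimension 0 point of Y. The following are equivalent: (1) every point of |X| over y has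
codimension 0 on X; (2) f is quasi-finite at all points over y; (3) f is quasi-finite at all
codimension 0 points of X over y. Stated as (1) ⇔ (2) together with (3) ⇒ (1). -/
theorem result {S : Scheme.{u}} {X Y : AlgSp.Space S} (f : X ⟶ Y)
    (hf : AlgSp.LocP @LocallyOfFiniteType f.hom) (y : AlgSp.Points Y.obj) (hy : AlgSp.HasAt (fun U u => ringKrullDim ↥(U.presheaf.stalk u) = 0) Y.obj y) :
    ((∀ x : AlgSp.Points X.obj, AlgSp.Points.map f.hom x = y → AlgSp.HasAt (fun U u => ringKrullDim ↥(U.presheaf.stalk u) = 0) X.obj x) ↔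
        (∀ x : AlgSp.Points X.obj, AlgSp.Points.map f.hom x = y → AlgSp.HasAtMor (fun U _ h u => ∃ W : U.Opens, u ∈ W ∧ LocallyQuasiFinite (W.ι ≫ h) ∧ LocallyOfFiniteType (W.ι ≫ h)) f.hom x)) ∧
      ((∀ x : AlgSp.Points X.obj, AlgSp.Points.map f.hom x = y → AlgSp.HasAt (fun U u => ringKrullDim ↥(U.presheaf.stalk u) = 0) X.obj x → AlgSp.HasAtMor (fun U _ h u => ∃ W : U.Opens, u ∈ W ∧ LocallyQuasiFinite (W.ι ≫ h) ∧ LocallyOfFiniteType (W.ι ≫ h)) f.hom x) →
        ∀ x : AlgSp.Points X.obj, AlgSp.Points.map f.hom x = y → AlgSp.HasAt (fun U u => ringKrullDim ↥(U.presheaf.stalk u) = 0) X.obj x) := by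
  obtain ⟨U, V, a, b, k, ha, has, hb, -, w⟩ := AlgSpLib.exists_chart X.property Y.property f.hom
  haveI : LocallyOfFiniteType k.left := hf a b k ha hb w
  have hmap : ∀ t : U.left, Points.map f.hom (Points.ofPt a t) = Points.ofPt b (k.left t) := fun t => by
    rw [Points.map_ofPt, w, AlgSpLib.ofPt_comp]
  have hv : ∀ t : U.left, Points.map f.hom (Points.ofPt a t) = y → Order.coheight (k.left t) = 0 := fun t ht => by
    rw [← AlgSpDec.FiniteDense.hasAt_ofPt_iff hb, ← hmap, ht]; exact hy
  have qf : ∀ t : U.left, k.left.QuasiFiniteAt t →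
      AlgSp.HasAtMor AlgSpDec.SplitOff.QfAt f.hom (Points.ofPt a t) := fun t ht =>
    ⟨U, V, a, b, k, t, ha, hb, w, rfl, k.left.quasiFiniteLocus, ht, inferInstance, inferInstance⟩
  -- a generalisation of codimension zero in the fibre
  have gen : ∀ t : U.left, Points.map f.hom (Points.ofPt a t) = y → ∃ t', t' ⤳ t ∧ Order.coheight t' = 0 ∧
      k.left t' = k.left t := fun t ht => by
    obtain ⟨t', h1, h2⟩ := AlgSpDec.FiniteDense.exists_coheight_zero_specializes t
    exact ⟨t', h1, h2, AlgSpDec.eq_of_specializes_of_coheight (hv t ht) (h1.map k.left.continuous)⟩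
  have key : ∀ t t' : U.left, k.left t' = k.left t → t' ⤳ t →
      (k.left.QuasiFiniteAt t ∨ k.left.QuasiFiniteAt t') → t' = t := fun t t' he hs hq => by
    obtain ⟨z, rfl⟩ : t' ∈ Set.range (k.left.fiberι (k.left t)) := by
      rw [k.left.range_fiberι]; exact he
    have hs' : z ⤳ k.left.asFiber t := (k.left.fiberι _).isEmbedding.isInducing.specializes_iff.1
      (by rw [Scheme.Hom.fiberι_asFiber]; exact hs)
    suffices z = k.left.asFiber t by rw [this, Scheme.Hom.fiberι_asFiber]
    rcases hq with hq | hq
    · exact hs'.mem_open (Scheme.Hom.quasiFiniteAt_iff_isOpen_singleton_asFiber.mp hq) rfl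
    · haveI : LocallyOfFiniteType (k.left.fiberToSpecResidueField (k.left t)) :=
        inferInstanceAs (LocallyOfFiniteType (Limits.pullback.snd k.left (V.left.fromSpecResidueField (k.left t))))
      haveI : JacobsonSpace ↥(k.left.fiber (k.left t)) :=
        LocallyOfFiniteType.jacobsonSpace (k.left.fiberToSpecResidueField (k.left t))
      have ho : IsOpen ({z} : Set ↥(k.left.fiber (k.left t))) := by
        have h1 : FlatMor.fibreDimAt k.left (k.left.fiberι (k.left t) z) = 0 :=
          (AlgSpDec.fibreDimAt_eq_zero_iff _ _).2 (Scheme.Hom.quasiFiniteAt_iff_isOpen_singleton_asFiber.mp hq)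
        have hz := Scheme.Hom.quasiFiniteAt_iff_isOpen_singleton_asFiber.mp hq
        have e : ∀ (v : V.left) (z : ↥(k.left.fiber v)),
            IsOpen ({k.left.asFiber (k.left.fiberι v z)} : Set ↥(k.left.fiber (k.left (k.left.fiberι v z)))) →
              IsOpen ({z} : Set ↥(k.left.fiber v)) := by
          intro v z hz
          obtain ⟨t₀, ht₀, rfl⟩ : ∃ t₀, ∃ h : k.left t₀ = v, t₀ = k.left.fiberι v z := by
            refine ⟨_, ?_, rfl⟩
            have := Set.mem_range_self (f := k.left.fiberι v) z
            rw [k.left.range_fiberι] at this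
            exact this
          have e' := (k.left.fiberι v).isEmbedding
          rw [e'.isInducing.isOpen_iff]
          obtain ⟨O, hO, hO'⟩ := (k.left.fiberι (k.left (k.left.fiberι v z))).isEmbedding.isInducing.isOpen_iff.1 hz
          refine ⟨O, hO, Set.ext fun z' => ⟨fun h' => ?_, fun h' => ?_⟩⟩
          · obtain ⟨z'', hz''⟩ : k.left.fiberι v z' ∈ Set.range (k.left.fiberι (k.left (k.left.fiberι v z))) := by
              rw [k.left.range_fiberι]
              have := Set.mem_range_self (f := k.left.fiberι v) z'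
              rw [k.left.range_fiberι] at this
              exact this.trans ht₀.symm
            have h2 : z'' ∈ k.left.fiberι (k.left (k.left.fiberι v z)) ⁻¹' O := by
              change _ ∈ O
              rw [hz'']; exact h'
            rw [hO', Set.mem_singleton_iff] at h2
            rw [h2, Scheme.Hom.fiberι_asFiber] at hz''
            exact e'.injective hz''.symm
          · rw [Set.mem_singleton_iff] at h'
            subst h'
            change k.left.fiberι v z' ∈ O
            have h2 : k.left.asFiber (k.left.fiberι v z') ∈ k.left.fiberι (k.left (k.left.fiberι v z')) ⁻¹' O := by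
              rw [hO']; rfl
            simpa [Scheme.Hom.fiberι_asFiber] using h2
        exact e _ _ hz
      exact (hs'.mem_closed (AlgSpDec.isClosed_of_isLocallyClosed_point ho.isLocallyClosed) rfl).symm
  refine ⟨⟨fun h x hx => ?_, fun h x hx => ?_⟩, fun h x hx => ?_⟩
  · obtain ⟨t, rfl⟩ := AlgSpLib.surjective_ofPt has x
    refine qf t (AlgSpDec.FiniteDense.quasiFiniteAt_of_coheight k.left t fun t' ht' => ?_)
    exact (AlgSpDec.FiniteDense.hasAt_ofPt_iff ha t').1 (h _ (by rw [hmap, ht', ← hmap]; exact hx))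
  · obtain ⟨t, rfl⟩ := AlgSpLib.surjective_ofPt has x
    obtain ⟨t', h1, h2, h3⟩ := gen t hx
    have := key t t' h3 h1 (Or.inl (AlgSpDec.QfLocus.quasiFiniteAt_of_qf hf ha hb w t (h _ hx)))
    exact (AlgSpDec.FiniteDense.hasAt_ofPt_iff ha t).2 (this ▸ h2)
  · obtain ⟨t, rfl⟩ := AlgSpLib.surjective_ofPt has x
    obtain ⟨t', h1, h2, h3⟩ := gen t hx
    have hx' : Points.map f.hom (Points.ofPt a t') = y := by rw [hmap, h3, ← hmap]; exact hx
    have := key t t' h3 h1 (Or.inr (AlgSpDec.QfLocus.quasiFiniteAt_of_qf hf ha hb w t'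
      (h _ hx' ((AlgSpDec.FiniteDense.hasAt_ofPt_iff ha t').2 h2))))
    exact (AlgSpDec.FiniteDense.hasAt_ofPt_iff ha t).2 (this ▸ h2)

end Groth.Agent.S10399
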