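import Groth.Statements.S10400
import Groth.Agent.AlgSpDec.FiniteDense
import Groth.Agent.AlgSpDec.Fibres

set_option autoImplicit false
set_option backward.isDefEq.respectTransparency false
set_option backward.isDefEq.respectTransparency.types false
universe u
open CategoryTheory CategoryTheory.Limits AlgebraicGeometry Topology TopologicalSpace
open AlgSp

namespace Groth.Agent.S10400

attribute [local instance] Groth.Agent.EtFound.fpqc_isFinite

/-- Let f : X ⟶ Y be a morphism locally of finite type of algebraic spaces over a scheme S with Y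
decent. Assume the codimension 0 points of X and of Y form finite sets, that a point of X has
codimension 0 exactly when its image does, and that f is quasi-compact or separated. Then there is a
dense open subspace V ⊆ Y with f⁻¹(V) ⟶ V finite. -/
theorem result {S : Scheme.{u}} {X Y : AlgSp.Space S} (f : X ⟶ Y)
    (hf : AlgSp.LocP @LocallyOfFiniteType f.hom) (hY : AlgSp.IsDecent Y.obj)
    (hX0 : {x : AlgSp.Points X.obj | AlgSp.HasAt (fun U u => ringKrullDim ↥(U.presheaf.stalk u) = 0) X.obj x}.Finite)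
    (hY0 : {y : AlgSp.Points Y.obj | AlgSp.HasAt (fun U u => ringKrullDim ↥(U.presheaf.stalk u) = 0) Y.obj y}.Finite)
    (hpre : ∀ x : AlgSp.Points X.obj, AlgSp.HasAt (fun U u => ringKrullDim ↥(U.presheaf.stalk u) = 0) X.obj x ↔ AlgSp.HasAt (fun U u => ringKrullDim ↥(U.presheaf.stalk u) = 0) Y.obj (AlgSp.Points.map f.hom x))
    (hqs : AlgSp.IsQuasiCompactMor f.hom ∨ AlgSp.IsSeparatedMor f.hom) :
    ∃ (V X' : AlgSp.Space S) (j : V ⟶ Y) (fst : X' ⟶ V) (snd : X' ⟶ X), AlgSp.RepWith @IsOpenImmersion j.hom ∧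
      Dense (Set.range (AlgSp.Points.map j.hom)) ∧ IsPullback fst.hom snd.hom j.hom f.hom ∧
      AlgSp.IsFiniteMor fst.hom := by
  obtain ⟨n, e, he⟩ : ∃ (n : ℕ) (e : Fin n → Points Y.obj), Set.range e =
      {y : Points Y.obj | AlgSp.HasAt (fun U u => ringKrullDim ↥(U.presheaf.stalk u) = 0) Y.obj y} :=
    ⟨_, fun i => (hY0.toFinset.equivFin.symm i).1, by
      ext z
      refine ⟨fun ⟨i, hi⟩ => hi ▸ hY0.mem_toFinset.1 (hY0.toFinset.equivFin.symm i).2, fun hz =>
        ⟨hY0.toFinset.equivFin ⟨z, hY0.mem_toFinset.2 hz⟩, by simp⟩⟩⟩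
  let ι : Type u := ULift.{u} (Fin n)
  choose B c z' hB hc hz using fun i : ι => AlgSpDec.exists_affine_chart_at Y.property (e i.down)
  obtain ⟨b, hcb⟩ := AlgSpDec.exists_hom_sigma B c
  let V : Over S := AlgSpDec.sigmaOver B
  haveI : ∀ i, IsAffine (B i).left := hB
  haveI : IsAffine V.left := inferInstanceAs (IsAffine (∐ fun i => (B i).left))
  have hb : RepWith @Etale b := AlgSpDec.repWith_etale_sigma (AlgSp.IsAlgSpace.representable_from_yon Y.property b)
    fun i => by rw [hcb]; exact hc i
  have hG : {v : V.left | Order.coheight v = 0}.Finite := by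
    refine (hY0.biUnion (t := fun y => Points.ofPt b ⁻¹' {y}) fun y _ => ?_).subset fun v hv =>
      Set.mem_biUnion ((AlgSpDec.FiniteDense.hasAt_ofPt_iff hb v).2 hv) rfl
    obtain ⟨p, hp, -, hpq⟩ := hY y
    rw [← hp]
    exact AlgSpDec.finite_fibre_of_repWith hb p hpq
  have sqV := IsPullback.of_hasPullback f.hom b
  let XV : AlgSp.Space S := ⟨pullback f.hom b,
    AlgSpLib.isAlgSpace_of_isPullback sqV X.property (IsAlgSpace.yon_obj V) Y.property⟩
  have hl := AlgSpLib.locP_of_isPullback sqV X.property Y.property (IsAlgSpace.yon_obj V) hf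
  have key : ∀ {T : Over S} (a : (yon S).obj T ⟶ pullback f.hom b) (_ : RepWith @Etale a) (k : T ⟶ V),
      (yon S).map k = a ≫ pullback.snd f.hom b →
      ∀ t : T.left, Order.coheight t = 0 ↔ Order.coheight (k.left t) = 0 := fun a ha k hk t => by
    rw [← AlgSpDec.FiniteDense.hasAt_ofPt_iff (AlgSpLib.repWith_comp ha (AlgSpLib.repWith_fst f.hom hb)) t, hpre,
      Points.map_ofPt, ← AlgSpDec.FiniteDense.hasAt_ofPt_iff hb (k.left t)]
    rw [Category.assoc, pullback.condition, ← Category.assoc, ← hk, AlgSpLib.ofPt_comp]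
  have hqf : ∀ (v : V.left), Order.coheight v = 0 → ∀ x : Points X.obj, Points.map f.hom x = Points.ofPt b v →
      AlgSp.HasAtMor AlgSpDec.SplitOff.QfAt f.hom x := by
    intro v hv x hx
    obtain ⟨z, hz₁, hz₂⟩ := AlgSpLib.exists_point_of_isPullback sqV (x := x) (y := Points.ofScheme V v)
      (by rw [← Points.ofPt_eq_map_ofScheme]; exact hx)
    obtain ⟨T, a, t, -, ha, rfl⟩ := AlgSpDec.exists_affine_chart_at XV.property z
    obtain ⟨k, hk⟩ := (yon S).map_surjective (a ≫ pullback.snd f.hom b)
    have : LocallyOfFiniteType k.left := hl a (𝟙 _) k ha (repWith_id _ V) (by rw [Category.comp_id, hk])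
    have hkt : k.left t = v := by
      rw [Points.map_ofPt, ← hk] at hz₂
      exact ((Points.toScheme_ofPt k t).symm.trans (congrArg (Points.toScheme V) hz₂)).trans
        (Points.toScheme_ofScheme V v)
    refine ⟨T, V, a ≫ pullback.fst f.hom b, b, k, t,
      AlgSpLib.repWith_comp ha (AlgSpLib.repWith_fst f.hom hb), hb, ?_, ?_, k.left.quasiFiniteLocus, ?_,
      inferInstance, inferInstance⟩
    · rw [Category.assoc, pullback.condition, ← Category.assoc, ← hk]
    · rw [← hz₁, Points.map_ofPt]
    · exact AlgSpDec.FiniteDense.quasiFiniteAt_of_coheight k.left t fun t' ht' =>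
        (key a ha k hk t').2 (by rw [ht', hkt]; exact hv)
  obtain ⟨V₁, hmem, hfin⟩ := AlgSpDec.FiniteDense.exists_finite_over_affine hG XV.property hl
    (hqs.imp (AlgSpPts.isQuasiCompactMor_of_isPullback sqV) (AlgSpPts.isSeparatedMor_of_isPullback sqV))
    (fun _ => by
      refine (hG.biUnion (t := fun v => ⋃ x ∈ {x : Points X.obj |
          AlgSp.HasAt (fun U u => ringKrullDim ↥(U.presheaf.stalk u) = 0) X.obj x},
        {z | x = Points.map (pullback.fst f.hom b) z ∧ Points.map (pullback.snd f.hom b) z = Points.ofScheme V v})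
        fun v hv => hX0.biUnion fun x _ => ?_).subset ?_
      · by_cases hx : Points.map f.hom x = Points.ofPt b v
        · obtain ⟨p, hp, hmono, -⟩ := hY (Points.map f.hom x)
          refine (S10389.result (W := XV) (X := ⟨(yon S).obj V, IsAlgSpace.yon_obj V⟩) (Y := Y)
            (ObjectProperty.homMk b) f (ObjectProperty.homMk (pullback.snd f.hom b))
            (ObjectProperty.homMk (pullback.fst f.hom b)) sqV.flip (Points.ofScheme V v) x
            (by change Points.map b _ = Points.map f.hom x; rw [← Points.ofPt_eq_map_ofScheme, hx])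
            ⟨p, hp, hmono⟩ (hqf v hv x hx)).subset ?_
          rintro z ⟨h1, h2⟩
          exact ⟨h2, h1.symm⟩
        · refine Set.finite_empty.subset ?_
          rintro z ⟨h1, h2⟩
          refine hx ?_
          rw [h1, ← Points.map_comp, pullback.condition, Points.map_comp, h2, ← Points.ofPt_eq_map_ofScheme]
      · rintro z ⟨v, hv, hzv⟩
        refine Set.mem_biUnion hv (Set.mem_biUnion ((hpre _).2 ?_) ⟨rfl, hzv⟩)
        rw [← Points.map_comp, pullback.condition, Points.map_comp, hzv, ← Points.ofPt_eq_map_ofScheme]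
        exact (AlgSpDec.FiniteDense.hasAt_ofPt_iff hb v).2 hv)
    key
  let V₁o : Over S := Over.mk (V₁.ι ≫ V.hom)
  let jv : V₁o ⟶ V := CategoryTheory.Over.homMk V₁.ι rfl
  have hb₁ : RepWith @Etale ((yon S).map jv ≫ b) := AlgSpLib.repWith_comp
    ((repWith_yon_map_iff _ jv).2 (inferInstanceAs (Etale V₁.ι))) hb
  obtain ⟨P, j, a', hj, ha', ha'e, ha's⟩ := AlgSpDec.exists_image_chart Y.property hb₁
  have hP : IsAlgSpace P := AlgSpLib.isAlgSpace_of_representable j hj.rep Y.property
  have sq := IsPullback.of_hasPullback j f.hom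
  refine ⟨⟨P, hP⟩, ⟨pullback j f.hom, AlgSpLib.isAlgSpace_of_isPullback sq hP X.property Y.property⟩,
    ObjectProperty.homMk j, ObjectProperty.homMk (pullback.fst j f.hom),
    ObjectProperty.homMk (pullback.snd j f.hom), hj, ?_, sq, ?_⟩
  · change Dense (Set.range (Points.map j))
    rw [dense_iff_inter_open]
    rintro O hO ⟨y, hy⟩
    obtain ⟨U, a, u, -, ha, rfl⟩ := AlgSpDec.exists_affine_chart_at Y.property y
    obtain ⟨u', h1, h2⟩ := AlgSpDec.FiniteDense.exists_coheight_zero_specializes u
    refine ⟨Points.ofPt a u', (h1.map (Points.continuous_ofPt a)).mem_open hO hy, ?_⟩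
    obtain ⟨i, hi⟩ : Points.ofPt a u' ∈ Set.range e := he ▸ (AlgSpDec.FiniteDense.hasAt_ofPt_iff ha u').2 h2
    let v := (AlgSpDec.sigmaι B ⟨i⟩).left (z' ⟨i⟩)
    have hv : Points.ofPt b v = Points.ofPt a u' := by rw [← AlgSpLib.ofPt_comp, hcb, hz, hi]
    have hv0 : Order.coheight v = 0 := by
      rw [← AlgSpDec.FiniteDense.hasAt_ofPt_iff hb v, hv]
      exact (AlgSpDec.FiniteDense.hasAt_ofPt_iff ha u').2 h2
    refine ⟨Points.ofPt a' ⟨v, hmem v hv0⟩, ?_⟩
    rw [Points.map_ofPt, ha', AlgSpLib.ofPt_comp]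
    exact hv
  · have sqP := IsPullback.of_hasPullback (pullback.fst j f.hom) a'
    obtain ⟨g, hg, hg'⟩ := sqV.exists_lift (pullback.fst (pullback.fst j f.hom) a' ≫ pullback.snd j f.hom)
      (pullback.snd (pullback.fst j f.hom) a' ≫ (yon S).map jv) (by
        rw [Category.assoc, Category.assoc, ← pullback.condition, ← Category.assoc, pullback.condition,
          Category.assoc, ha'])
    have h2 := hfin g (pullback.snd (pullback.fst j f.hom) a')
      (IsPullback.of_right (by rw [hg]; exact ha' ▸ sqP.paste_horiz sq.flip) hg' sqV)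
    exact AlgSpDec.isFiniteMor_iff_repWith.2 (AlgSpDec.repWith_of_etale_cover
      (fun _ _ e (_ : IsFinite e) => inferInstanceAs (IsAffineHom e)) ha'e ha's sqP h2)

end Groth.Agent.S10400
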