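import Groth.Statements.S10409
import Groth.Agent.AlgSpDec.MonoFromFinite
import Groth.Agent.AlgSpLib.Rep

set_option autoImplicit false
universe u
open CategoryTheory CategoryTheory.Limits AlgebraicGeometry Topology TopologicalSpace
open AlgSp

namespace Groth.Agent.S10409

/-- (3) ⇔ (4): for an algebraic space X over a scheme S and x ∈ |X|, there is a monomorphism Spec k ⟶ X
representing x if and only if there is a morphism Spec k' ⟶ X representing x whose
self-fibre-product has etale and quasi-compact projections to Spec k'. -/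
theorem result {S : Scheme.{u}} (X : AlgSp.Space S)
    (x : AlgSp.Points X.obj) :
    (∃ p : AlgSp.FieldPt X.obj, AlgSp.Points.mk p = x ∧ Mono p.toHom) ↔
      ∃ q : AlgSp.FieldPt X.obj, AlgSp.Points.mk q = x ∧
        ∀ (P : AlgSp.Sp S) (fst snd : P ⟶ (AlgSp.yon S).obj q.pt), IsPullback fst snd q.toHom q.toHom →
          AlgSp.RepWith @Etale fst ∧ AlgSp.RepWith @QuasiCompact fst := by
  constructor
  · rintro ⟨p, hp, hm⟩
    refine ⟨p, hp, fun P fst snd sq => ?_⟩
    have hfs : fst = snd := (cancel_mono p.toHom).1 sq.w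
    have : Mono fst := ⟨fun g h hgh => sq.hom_ext hgh (by rw [← hfs]; exact hgh)⟩
    have : IsSplitEpi fst := ⟨⟨⟨sq.lift (𝟙 _) (𝟙 _) rfl, sq.lift_fst _ _ _⟩⟩⟩
    have : IsIso fst := isIso_of_mono_of_isSplitEpi fst
    have : MorphismProperty.IsMultiplicative @QuasiCompact := inferInstance
    have : MorphismProperty.IsMultiplicative @Etale := inferInstance
    exact ⟨AlgSpLib.repWith_of_isIso _ fst, AlgSpLib.repWith_of_isIso _ fst⟩
  · rintro ⟨q, hq, h⟩
    have hr : AlgSp.Representable q.toHom := X.property.representable_from_yon _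
    let G := hr.pullback q.toHom
    let g₁ : G ⟶ q.pt := hr.fst' q.toHom
    let g₂ : G ⟶ q.pt := hr.snd q.toHom
    have sqG : IsPullback ((AlgSp.yon S).map g₁) ((AlgSp.yon S).map g₂) q.toHom q.toHom := hr.isPullback' q.toHom
    obtain ⟨h₁, h₂⟩ := h _ _ _ sqG
    have : Etale g₁.left := (repWith_yon_map_iff _ g₁).1 h₁
    have : QuasiCompact g₁.left := (repWith_yon_map_iff _ g₁).1 h₂
    have : IsArtinianScheme q.pt.left := inferInstanceAs (IsArtinianScheme (Spec (CommRingCat.of q.K)))
    have : IsFinite g₁.left := IsFinite.of_locallyQuasiFinite g₁.left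
    have : IsAffine q.pt.left := inferInstanceAs (IsAffine (Spec (CommRingCat.of q.K)))
    have : IsAffine G.left := isAffine_of_isAffineHom g₁.left
    let e₀ : Over.mk (G.left.isoSpec.inv ≫ G.hom) ≅ G := Over.isoMk G.left.isoSpec.symm rfl
    have hfin' : IsFinite (e₀.hom ≫ g₁).left := by
      change IsFinite (G.left.isoSpec.inv ≫ g₁.left)
      infer_instance
    obtain ⟨p, i, hi, -, hmono⟩ := AlgSpDec.exists_mono_of_isPullback q.toHom X.property (a₁ := e₀.hom ≫ g₂) (a₂ := e₀.hom ≫ g₁)
      (by
        rw [Functor.map_comp, Functor.map_comp]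
        exact IsPullback.of_iso sqG.flip ((AlgSp.yon S).mapIso e₀).symm (Iso.refl _) (Iso.refl _) (Iso.refl _)
          (by
            erw [Category.comp_id, ← Category.assoc, show ((AlgSp.yon S).mapIso e₀).symm.hom ≫ (AlgSp.yon S).map e₀.hom = 𝟙 _ from ((AlgSp.yon S).mapIso e₀).inv_hom_id, Category.id_comp])
          (by
            erw [Category.comp_id, ← Category.assoc, show ((AlgSp.yon S).mapIso e₀).symm.hom ≫ (AlgSp.yon S).map e₀.hom = 𝟙 _ from ((AlgSp.yon S).mapIso e₀).inv_hom_id, Category.id_comp])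
          (by simp) (by simp))
      hfin'
    refine ⟨p, ?_, hmono⟩
    let c : ↥q.pt.left := IsLocalRing.closedPoint q.K
    rw [← hq]
    refine Eq.trans (AlgSp.Points.ofPt_toHom p (i.left c)).symm ?_
    rw [← AlgSpLib.ofPt_comp, hi]
    exact AlgSp.Points.ofPt_toHom q c

end Groth.Agent.S10409
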