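import Groth.Statements.S10410
import Groth.Agent.AlgSpDec.MonoFromFinite
import Groth.Agent.AlgSpLib.Points
import Groth.Agent.S10408

set_option autoImplicit false
set_option backward.isDefEq.respectTransparency false
set_option backward.isDefEq.respectTransparency.types false
universe u
open CategoryTheory CategoryTheory.Limits AlgebraicGeometry Topology TopologicalSpace
open AlgSp

namespace Groth.Agent.S10410

/-- Let X be an algebraic space over a scheme S, x ∈ |X|, and φ : U ⟶ X etale with U a scheme. Then x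
lies in the image of |U| and the fibres of |U| → |X| and |U ×_X U| → |X| over x are finite, if and
only if x is represented by a monomorphism Spec k ⟶ X such that Spec k ×_X U is a nonempty scheme
finite over k. -/
theorem result {S : Scheme.{u}} (X : AlgSp.Space S) (x : AlgSp.Points X.obj)
    {U : Over S} (φ : (AlgSp.yon S).obj U ⟶ X.obj) (hφ : AlgSp.RepWith @Etale φ) :
    (x ∈ Set.range (AlgSp.Points.ofPt φ) ∧ (AlgSp.Points.ofPt φ ⁻¹' {x}).Finite ∧
        ∀ (R : Over S) (s t : R ⟶ U), IsPullback ((AlgSp.yon S).map t) ((AlgSp.yon S).map s) φ φ →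
          (AlgSp.Points.ofPt ((AlgSp.yon S).map t ≫ φ) ⁻¹' {x}).Finite) ↔
      ∃ p : AlgSp.FieldPt X.obj, AlgSp.Points.mk p = x ∧ Mono p.toHom ∧
        ∀ (T : Over S) (c : T ⟶ p.pt) (snd : (AlgSp.yon S).obj T ⟶ (AlgSp.yon S).obj U),
          IsPullback ((AlgSp.yon S).map c) snd p.toHom φ → Nonempty ↥T.left ∧ IsFinite c.left := by
  constructor
  · rintro ⟨hx, hfu, hfr⟩
    obtain ⟨u, hu⟩ := hx
    obtain ⟨p, hp, hm⟩ := AlgSpDec.exists_mono_of_finite_relation X.property hφ (u := u) (u' := u) rfl
      (fun R s t sq => (hfr R s t sq).subset (by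
        rintro r ⟨-, hrt⟩
        change AlgSp.Points.ofPt ((AlgSp.yon S).map t ≫ φ) r = x
        rw [AlgSpLib.ofPt_comp, hrt, hu]))
    refine ⟨p, hp.trans hu, hm, fun T c snd sq => ?_⟩
    obtain ⟨e, rfl⟩ := (AlgSp.yon S).map_surjective snd
    have : Etale c.left := hφ.property _ _ _ sq.flip
    have hme : Mono ((AlgSp.yon S).map e) := PullbackCone.mono_snd_of_is_pullback_of_mono sq.isLimit
    have : Mono e := (AlgSp.yon S).mono_of_mono_map hme
    have : Mono e.left := inferInstanceAs (Mono ((Over.forget S).map e))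
    have hinj := AlgSpDec.FreeAction.injective_of_mono e.left
    obtain ⟨v, -, -⟩ := AlgSpLib.exists_ofPt_of_eq (u := IsLocalRing.closedPoint p.K) (v := u) sq
      ((AlgSp.Points.ofPt_toHom p _).trans hp)
    have : Finite ↥T.left := by
      refine Set.finite_univ_iff.1 ((hfu.preimage hinj.injOn).subset fun z _ => ?_)
      change AlgSp.Points.ofPt φ (e.left z) = x
      rw [← AlgSpLib.ofPt_comp, ← sq.w, AlgSpLib.ofPt_comp, ← hu, ← hp]
      exact AlgSp.Points.ofPt_toHom p _
    have : IsAffine p.pt.left := inferInstanceAs (IsAffine (Spec (CommRingCat.of p.K)))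
    have : IsArtinianScheme p.pt.left := inferInstanceAs (IsArtinianScheme (Spec (CommRingCat.of p.K)))
    have : CompactSpace ↥T.left := inferInstance
    have : QuasiCompact c.left := HasAffineProperty.iff_of_isAffine.2 this
    exact ⟨⟨v⟩, IsFinite.of_locallyQuasiFinite c.left⟩
  · rintro ⟨p, rfl, hm, h⟩
    have hr : AlgSp.Representable p.toHom := X.property.representable_from_yon _
    have sq := hr.isPullback' φ
    obtain ⟨⟨v⟩, hfin⟩ := h _ (hr.fst' φ) ((AlgSp.yon S).map (hr.snd φ)) sq
    have : Finite ↥(hr.pullback φ).left := Set.finite_univ_iff.1 <|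
      ((hr.fst' φ).left.finite_preimage_singleton (IsLocalRing.closedPoint p.K)).subset
        fun z _ => Subsingleton.elim (α := ↥(Spec (CommRingCat.of p.K))) _ _
    have hF : (AlgSp.Points.ofPt φ ⁻¹' {AlgSp.Points.mk p}).Finite := by
      refine (Set.finite_range (hr.snd φ).left).subset fun u hu => ?_
      obtain ⟨w, -, hw⟩ := AlgSpLib.exists_ofPt_of_eq (u := IsLocalRing.closedPoint p.K) (v := u) sq
        ((AlgSp.Points.ofPt_toHom p _).trans (hu : AlgSp.Points.ofPt φ u = _).symm)
      exact ⟨w, hw⟩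
    refine ⟨⟨(hr.snd φ).left v, ?_⟩, hF, fun R s t sqR => ?_⟩
    · rw [← AlgSpLib.ofPt_comp, ← sq.w, AlgSpLib.ofPt_comp]
      exact AlgSp.Points.ofPt_toHom p _
    · refine (Set.Finite.biUnion hF fun a ha => Set.Finite.biUnion hF fun b hb =>
        Groth.Agent.S10408.result X (AlgSp.Points.mk p) ⟨p, rfl, hm⟩ φ hφ a b ha hb R s t sqR).subset fun r hr' => ?_
      have h1 : AlgSp.Points.ofPt φ (t.left r) = AlgSp.Points.mk p := by rw [← AlgSpLib.ofPt_comp]; exact hr'
      have h2 : AlgSp.Points.ofPt φ (s.left r) = AlgSp.Points.mk p := by rw [← AlgSpLib.ofPt_comp, ← sqR.w]; exact hr'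
      exact Set.mem_biUnion h2 (Set.mem_biUnion h1 ⟨rfl, rfl⟩)

end Groth.Agent.S10410
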