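import Groth.Statements.S10411
import Groth.Agent.AlgSpDec.FinLocFreeClass
import Groth.Agent.AlgSpQMod.QcOpen
import Groth.Agent.AffineNhd.Union

set_option autoImplicit false
universe u
open CategoryTheory CategoryTheory.Limits AlgebraicGeometry Topology TopologicalSpace
open AlgSp

namespace Groth.Agent.S10411

set_option backward.isDefEq.respectTransparency false
set_option backward.isDefEq.respectTransparency.types false

/-- Let S be a scheme, X and Y algebraic spaces over S, X ⟶ Y a surjective finite locally free morphism,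
and y ∈ |Y|. Then y lies in the schematic locus of Y (some open subspace of Y containing y is a
scheme) if and only if there is an affine open subscheme U ⊆ X containing the preimage of y. -/
theorem result {S : Scheme.{u}} {X Y : AlgSp.Space S} (f : X ⟶ Y)
    (hf : AlgSp.IsFinLocFreeMor f.hom) (hs : AlgSp.RepWith @Surjective f.hom) (y : AlgSp.Points Y.obj) :
    (∃ (Y' : AlgSp.Space S) (j : Y' ⟶ Y), AlgSp.RepWith @IsOpenImmersion j.hom ∧ Y'.obj.obj.IsRepresentable ∧
        y ∈ Set.range (AlgSp.Points.map j.hom)) ↔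
      ∃ (U : Over S) (a : (AlgSp.yon S).obj U ⟶ X.obj), IsAffine U.left ∧ AlgSp.RepWith @IsOpenImmersion a ∧
        AlgSp.Points.map f.hom ⁻¹' {y} ⊆ Set.range (AlgSp.Points.ofPt a) := by
  open Groth.Agent.AlgSpLib Groth.Agent.AlgSpPts Groth.Agent.AlgSpDec in
  have hfin : AlgSp.RepWith @IsFinite f.hom :=
    Groth.Agent.AlgSpLib.repWith_mono (P := AlgSp.finLocFree) (fun _ _ g hg => hg.1) _ hf
  constructor
  · rintro ⟨Y', j, hj, hrep, hy⟩
    obtain ⟨T, ⟨r⟩⟩ := hrep.has_representation
    let e : (AlgSp.yon S).obj T ≅ Y'.obj := AlgSp.isoOfRepresentableBy r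
    obtain ⟨z, rfl⟩ := hy
    let z₀ : T.left := AlgSp.Points.toScheme T (AlgSp.Points.map e.inv z)
    obtain ⟨W, hW, hzW, -⟩ := exists_isAffineOpen_mem_and_subset (X := T.left) (x := z₀) (U := ⊤) trivial
    let W₁ : Over S := Over.mk (W.ι ≫ T.hom)
    let ι : W₁ ⟶ T := Over.homMk W.ι rfl
    let b : (AlgSp.yon S).obj W₁ ⟶ Y.obj := (AlgSp.yon S).map ι ≫ e.hom ≫ j.hom
    have hb : AlgSp.RepWith @IsOpenImmersion b := Groth.Agent.AlgSpLib.repWith_comp
      ((AlgSp.repWith_yon_map_iff _ ι).2 (show IsOpenImmersion W.ι from inferInstance))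
      (Groth.Agent.AlgSpLib.repWith_comp (Groth.Agent.AlgSpLib.repWith_of_isIso _ e.hom) hj)
    haveI : IsFinite (hf.rep.snd b).left := hfin.property b _ _ (hf.rep.isPullback b)
    haveI : IsAffine W₁.left := hW
    refine ⟨hf.rep.pullback b, hf.rep.fst b, isAffine_of_isAffineHom (hf.rep.snd b).left,
      Groth.Agent.AlgSpLib.repWith_of_isPullback (hf.rep.isPullback b).flip hb, ?_⟩
    intro x hx
    have hzb : AlgSp.Points.ofPt b (⟨z₀, hzW⟩ : W) = AlgSp.Points.map j.hom z := by
      rw [Groth.Agent.AlgSpLib.ofPt_comp, AlgSp.Points.ofPt_eq_map_ofScheme, AlgSp.Points.map_comp]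
      refine congrArg (AlgSp.Points.map j.hom) ?_
      show AlgSp.Points.map e.hom (AlgSp.Points.ofScheme T (AlgSp.Points.toScheme T _)) = z
      rw [AlgSp.Points.ofScheme_toScheme, ← AlgSp.Points.map_comp, e.inv_hom_id, AlgSp.Points.map_id]
    obtain ⟨w, hw, -⟩ := Groth.Agent.AlgSpLib.exists_point_of_isPullback (hf.rep.isPullback b) (x := x)
      (y := AlgSp.Points.ofScheme W₁ (⟨z₀, hzW⟩ : W)) (by
        rw [show AlgSp.Points.map f.hom x = _ from hx, ← hzb, AlgSp.Points.ofPt_eq_map_ofScheme])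
    refine ⟨AlgSp.Points.toScheme _ w, ?_⟩
    rw [AlgSp.Points.ofPt_eq_map_ofScheme, AlgSp.Points.ofScheme_toScheme, hw]
  · rintro ⟨U, a, hU, ha, hfib⟩
    have hcl : IsClosedMap (AlgSp.Points.map f.hom) := Groth.Agent.AlgSpPts.isClosedMap_map
      (Groth.Agent.AlgSpLib.repWith_mono (fun _ _ g (_ : IsFinite g) => (inferInstance : UniversallyClosed g)) _ hfin)
    have hopa : IsOpen (Set.range (AlgSp.Points.ofPt a)) :=
      (Groth.Agent.AlgSpLib.isOpenMap_ofPt (Groth.Agent.AlgSpLib.repWith_mono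
        (fun _ _ g (_ : IsOpenImmersion g) => (inferInstance : Etale g)) _ ha)).isOpen_range
    obtain ⟨O, j, hO, hj, hrange⟩ := Groth.Agent.AlgSpPts.exists_open_subspace Y.property
      (hcl _ hopa.isClosed_compl).isOpen_compl
    let P := hj.rep.pullback (a ≫ f.hom)
    let c : (AlgSp.yon S).obj P ⟶ O := hj.rep.fst (a ≫ f.hom)
    let k := hj.rep.snd (a ≫ f.hom)
    haveI : IsOpenImmersion k.left := hj.property_snd _
    have sqP := (hj.rep.isPullback (a ≫ f.hom)).flip
    let l := pullback.lift ((AlgSp.yon S).map k ≫ a) c (by rw [Category.assoc]; exact sqP.w)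
    have hsq : IsPullback ((AlgSp.yon S).map k) l a (pullback.fst f.hom j) :=
      IsPullback.of_bot (by rw [pullback.lift_snd]; exact sqP) (pullback.lift_fst _ _ _).symm
        (IsPullback.of_hasPullback f.hom j)
    have hls : AlgSp.RepWith @Surjective l := by
      refine Groth.Agent.AlgSpLib.repWith_surjective_of_surjective
        (Groth.Agent.AlgSpLib.repWith_of_isPullback hsq ha).rep fun z => ?_
      have hz : AlgSp.Points.map (pullback.fst f.hom j) z ∈ Set.range (AlgSp.Points.ofPt a) := by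
        by_contra hn
        have h1 : AlgSp.Points.map j (AlgSp.Points.map (pullback.snd f.hom j) z) ∈ Set.range (AlgSp.Points.map j) := ⟨_, rfl⟩
        rw [hrange, ← AlgSp.Points.map_comp, ← pullback.condition, AlgSp.Points.map_comp] at h1
        exact h1 ⟨_, hn, rfl⟩
      obtain ⟨u, hu⟩ := hz
      obtain ⟨w, -, hw⟩ := Groth.Agent.AlgSpLib.exists_point_of_isPullback hsq
        (x := AlgSp.Points.ofScheme U u) (y := z) (by rw [← hu, AlgSp.Points.ofPt_eq_map_ofScheme])
      exact ⟨w, hw⟩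
    have hla : AlgSp.RepWith @Etale l := Groth.Agent.AlgSpLib.repWith_mono
      (fun _ _ g (_ : IsOpenImmersion g) => (inferInstance : Etale g)) _
      (Groth.Agent.AlgSpLib.repWith_of_isPullback hsq ha)
    haveI : Mono l := Groth.Agent.AlgSpPts.mono_of_repWith (Groth.Agent.AlgSpLib.repWith_mono
      (fun _ _ g (_ : IsOpenImmersion g) => (show (MorphismProperty.monomorphisms Scheme) g from inferInstanceAs (Mono g)))
      _ (Groth.Agent.AlgSpLib.repWith_of_isPullback hsq ha))
    haveI := Groth.Agent.AlgSpLib.isLocallySurjective_of_etale_surjective hla hls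
    haveI : IsIso l := Groth.Agent.AlgSpLib.isIso_of_mono_of_locallySurjective l
    have hc : c = l ≫ pullback.snd f.hom j := (pullback.lift_snd _ _ _).symm
    have hcf : AlgSp.RepWith AlgSp.finLocFree c := by
      rw [hc, (AlgSp.RepWith AlgSp.finLocFree).cancel_left_of_respectsIso]
      exact Groth.Agent.AlgSpLib.repWith_of_isPullback (IsPullback.of_hasPullback f.hom j) hf
    have hcs : AlgSp.RepWith @Surjective c := hc ▸ Groth.Agent.AlgSpLib.repWith_comp
      (Groth.Agent.AlgSpLib.repWith_of_isIso _ l)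
      (Groth.Agent.AlgSpLib.repWith_of_isPullback (IsPullback.of_hasPullback f.hom j) hs)
    obtain ⟨y', rfl⟩ : y ∈ Set.range (AlgSp.Points.map j) := by
      rw [hrange]
      rintro ⟨x, hx, hxy⟩
      exact hx (hfib hxy)
    obtain ⟨p, rfl⟩ := Groth.Agent.AlgSpLib.surjective_ofPt hcs y'
    haveI : IsFinite (hcf.rep.snd c).left := (hcf.property_snd c : Mor2.IsFinLocFree _).1
    have hfinite : (AlgSp.Points.ofPt c ⁻¹' {AlgSp.Points.ofPt c p}).Finite := by
      refine (((hcf.rep.snd c).left.finite_preimage_singleton p).image (hcf.rep.fst' c).left).subset fun q hq => ?_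
      obtain ⟨r, hr₁, hr₂⟩ := Groth.Agent.AlgSpLib.exists_ofPt_of_eq (hcf.rep.isPullback' c) (u := q) (v := p) hq
      exact ⟨r, hr₂, hr₁⟩
    haveI : IsAffine U.left := hU
    classical
    obtain ⟨g, hgle, hgV⟩ := Groth.Agent.AffineNhd.exists_basicOpen_finset (isAffineOpen_top U.left)
      (hfinite.toFinset.image k.left) (fun _ _ => trivial) k.left.opensRange (by simp)
    have hV : IsAffineOpen (k.left ⁻¹ᵁ U.left.basicOpen g) :=
      ((isAffineOpen_top U.left).basicOpen g).preimage_of_isOpenImmersion k.left hgle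
    obtain ⟨T, i, hi, hyi⟩ := Groth.Agent.AlgSpDec.exists_open_subscheme_of_finLocFree hO c hcf hcs hV p
      (fun q hq => hgV _ (Finset.mem_image.2 ⟨q, hfinite.mem_toFinset.2 hq, rfl⟩))
    obtain ⟨z, hz⟩ := hyi
    exact ⟨⟨(AlgSp.yon S).obj T, AlgSp.IsAlgSpace.yon_obj T⟩, ObjectProperty.homMk (i ≫ j),
      Groth.Agent.AlgSpLib.repWith_comp hi hj, Groth.Agent.AlgSpDec.isRepresentable_of_iso (Iso.refl _),
      ⟨z, by show AlgSp.Points.map (i ≫ j) z = _; rw [AlgSp.Points.map_comp, hz]⟩⟩

end Groth.Agent.S10411
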