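import Groth.Statements.S10412
import Groth.Agent.AlgSpDec.BiratSp2
import Groth.Agent.AlgSpPts.OpenSub
import Groth.Agent.AlgSpLib.Descends2
import Groth.Agent.AlgSpDec.MonoTfae
import Groth.Agent.AlgSpLib.LocP
import Groth.Agent.AlgSpLib.EtLocalInst

set_option autoImplicit false
universe u
open CategoryTheory CategoryTheory.Limits AlgebraicGeometry Topology TopologicalSpace
open AlgSp

namespace Groth.Agent.S10412

set_option backward.isDefEq.respectTransparency false
set_option backward.isDefEq.respectTransparency.types false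

/-- For an algebraic space X over a scheme S the following are equivalent: (1) X has a Zariski covering
by open subspaces X_i, each X_i admitting a surjective, etale and quasi-compact morphism U_i ⟶ X_i
with U_i a scheme; (2) there are etale morphisms U_i ⟶ X from schemes, jointly surjective, such that
for each i both projection morphisms from U_i ×_X U_i to U_i are quasi-compact. -/
theorem result {S : Scheme.{u}} (X : AlgSp.Space S) :
    (∃ (ι : Type u) (Xi : ι → AlgSp.Space S) (j : ∀ i, Xi i ⟶ X) (U : ι → Over S)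
        (a : ∀ i, (AlgSp.yon S).obj (U i) ⟶ (Xi i).obj),
        AlgSp.IsZarCover (fun i => (Xi i).obj) (fun i => (j i).hom) ∧
          ∀ i, AlgSp.RepWith @Etale (a i) ∧ AlgSp.RepWith @Surjective (a i) ∧ AlgSp.RepWith @QuasiCompact (a i)) ↔
      ∃ (ι : Type u) (U : ι → Over S) (φ : ∀ i, (AlgSp.yon S).obj (U i) ⟶ X.obj),
        (∀ i, AlgSp.RepWith @Etale (φ i)) ∧
          (∀ x : AlgSp.Points X.obj, ∃ (i : ι) (v : ↥(U i).left), AlgSp.Points.ofPt (φ i) v = x) ∧
          ∀ (i : ι) (R : Over S) (s t : R ⟶ U i), IsPullback ((AlgSp.yon S).map t) ((AlgSp.yon S).map s) (φ i) (φ i) →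
            QuasiCompact s.left ∧ QuasiCompact t.left := by
  have hopen : ∀ {A B : AlgSp.Sp S} (φ : A ⟶ B), AlgSp.RepWith @IsOpenImmersion φ → AlgSp.RepWith @Etale φ :=
    fun φ hφ => ⟨hφ.rep, fun A' B' g g' g'' sq =>
      haveI : IsOpenImmersion g''.left := hφ.property g g' g'' sq
      inferInstanceAs (Etale g''.left)⟩
  constructor
  · rintro ⟨ι, Xi, j, U, a, ⟨hj, hcov⟩, ha⟩
    refine ⟨ι, U, fun i => a i ≫ (j i).hom, fun i => Groth.Agent.AlgSpLib.repWith_comp (ha i).1 (hopen _ (hj i)),
      fun x => ?_, fun i R s t sq => ?_⟩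
    · obtain ⟨i, y, hy⟩ := hcov x
      obtain ⟨v, hv⟩ := Groth.Agent.AlgSpLib.surjective_ofPt (ha i).2.1 y
      exact ⟨i, v, by rw [← AlgSp.Points.map_ofPt, hv, hy]⟩
    · haveI : Mono (j i).hom := Groth.Agent.AlgSpDec.mono_of_openImm (hj i)
      have sq' : IsPullback ((AlgSp.yon S).map t) ((AlgSp.yon S).map s) (a i) (a i) :=
        ⟨⟨(cancel_mono (j i).hom).1 (by rw [Category.assoc, Category.assoc]; exact sq.w)⟩,
          ⟨PullbackCone.IsLimit.mk _
            (fun c => sq.lift c.fst c.snd (by rw [reassoc_of% c.condition]))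
            (fun c => sq.lift_fst _ _ _) (fun c => sq.lift_snd _ _ _)
            (fun c n h1 h2 => sq.hom_ext (by rw [sq.lift_fst, h1]) (by rw [sq.lift_snd, h2]))⟩⟩
      exact ⟨(ha i).2.2.property (a i) _ _ sq', (ha i).2.2.property (a i) _ _ sq'.flip⟩
  · rintro ⟨ι, U, φ, hφ, hcov, hqc⟩
    choose Xi j hA hj hrange using fun i => Groth.Agent.AlgSpPts.exists_open_subspace X.property
      (W := Set.range (AlgSp.Points.ofPt (φ i))) (Groth.Agent.AlgSpLib.isOpenMap_ofPt (hφ i)).isOpen_range
    have hfac : ∀ i, ∃ a : (AlgSp.yon S).obj (U i) ⟶ Xi i, a ≫ j i = φ i := fun i =>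
      Groth.Agent.AlgSpDec.BiratSp.exists_factor_space (AlgSp.IsAlgSpace.yon_obj (U i)) (hj i) (φ i) fun p => by
        rw [hrange i]
        exact ⟨AlgSp.Points.toScheme (U i) p, by
          rw [AlgSp.Points.ofPt_eq_map_ofScheme, AlgSp.Points.ofScheme_toScheme]⟩
    choose a haj using hfac
    have hae : ∀ i, AlgSp.RepWith @Etale (a i) := fun i =>
      Groth.Agent.AlgSpLib.repWith_etale_of_comp (a i) (j i) (by rw [haj i]; exact hφ i) (hopen _ (hj i))
    have has : ∀ i, AlgSp.RepWith @Surjective (a i) := fun i => by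
      refine Groth.Agent.AlgSpLib.repWith_surjective_of_surjective (hae i).rep fun z => ?_
      obtain ⟨u, hu⟩ : AlgSp.Points.map (j i) z ∈ Set.range (AlgSp.Points.ofPt (φ i)) := hrange i ▸ ⟨z, rfl⟩
      haveI : Mono (j i) := Groth.Agent.AlgSpDec.mono_of_openImm (hj i)
      refine ⟨AlgSp.Points.ofScheme (U i) u, Groth.Agent.AlgSpDec.injective_map_of_mono (f := j i) ?_⟩
      rw [← AlgSp.Points.map_comp, haj i, ← AlgSp.Points.ofPt_eq_map_ofScheme]
      exact hu
    refine ⟨ι, fun i => ⟨Xi i, hA i⟩, fun i => ObjectProperty.homMk (j i), U, a, ⟨hj, fun x => ?_⟩,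
      fun i => ⟨hae i, has i, ?_⟩⟩
    · obtain ⟨i, v, rfl⟩ := hcov x
      exact ⟨i, (hrange i).symm ▸ ⟨v, rfl⟩⟩
    · refine ⟨(hae i).rep, fun T W g fst snd sq => ?_⟩
      haveI : Mono (j i) := Groth.Agent.AlgSpDec.mono_of_openImm (hj i)
      have hse : Etale snd.left := (hae i).property g fst snd sq
      have hss : Surjective snd.left := (has i).property g fst snd sq
      have sR := (hae i).rep.isPullback' (a i)
      have sR' : IsPullback ((AlgSp.yon S).map ((hae i).rep.fst' (a i))) ((AlgSp.yon S).map ((hae i).rep.snd (a i)))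
          (φ i) (φ i) := by
        rw [← haj i]
        exact ⟨⟨by rw [← Category.assoc, ← Category.assoc, sR.w]⟩, ⟨PullbackCone.IsLimit.mk _
          (fun c => sR.lift c.fst c.snd ((cancel_mono (j i)).1 (by simpa [Category.assoc] using c.condition)))
          (fun c => sR.lift_fst _ _ _) (fun c => sR.lift_snd _ _ _)
          (fun c n h1 h2 => sR.hom_ext (by rw [sR.lift_fst, h1]) (by rw [sR.lift_snd, h2]))⟩⟩
      haveI : QuasiCompact ((hae i).rep.snd (a i)).left := (hqc i _ _ _ sR').1
      let σ : W ⟶ U i := (AlgSp.yon S).preimage fst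
      have hσ : (AlgSp.yon S).map σ = fst := (AlgSp.yon S).map_preimage _
      have e1 := ((IsPullback.of_hasPullback ((hae i).rep.snd (a i)) σ).map (AlgSp.yon S)).paste_horiz sR
      have e2 := ((IsPullback.of_hasPullback snd snd).map (AlgSp.yon S)).paste_horiz sq
      rw [hσ] at e1
      rw [← sq.w] at e2
      let e := (AlgSp.yon S).preimageIso (e2.isoIsPullback _ _ e1)
      have he : e.hom ≫ pullback.snd ((hae i).rep.snd (a i)) σ = pullback.snd snd snd :=
        (AlgSp.yon S).map_injective (by
          simp only [e, Functor.map_comp, Functor.preimageIso_hom, Functor.map_preimage]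
          exact IsPullback.isoIsPullback_hom_snd _ _ _ _)
      have hq1 : QuasiCompact (pullback.snd ((hae i).rep.snd (a i)) σ).left :=
        MorphismProperty.of_isPullback (P := @QuasiCompact)
          ((IsPullback.of_hasPullback ((hae i).rep.snd (a i)) σ).map (Over.forget S))
          ‹QuasiCompact ((hae i).rep.snd (a i)).left›
      haveI : IsIso e.hom.left := ((Over.forget S).mapIso e).isIso_hom
      haveI hq2 : QuasiCompact (pullback.snd snd snd).left := by
        rw [← he, Over.comp_left]; infer_instance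
      have sW : IsPullback (pullback.fst snd snd).left (pullback.snd snd snd).left snd.left snd.left :=
        (IsPullback.of_hasPullback snd snd).map (Over.forget S)
      haveI := hse
      refine (quasiCompact_iff_forall_isAffineOpen).2 fun O hO => ?_
      have hA : ∀ o : T.left, o ∈ O → ∃ A : W.left.Opens, IsAffineOpen A ∧ A ≤ snd.left ⁻¹ᵁ O ∧ o ∈ snd.left '' A := by
        intro o ho
        obtain ⟨w, rfl⟩ := hss.surj o
        obtain ⟨A, hA, hwA, hle⟩ := exists_isAffineOpen_mem_and_subset (U := snd.left ⁻¹ᵁ O) (x := w) ho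
        exact ⟨A, hA, hle, w, hwA, rfl⟩
      choose A hA1 hA2 hA3 using hA
      obtain ⟨t, ht⟩ := hO.isCompact.elim_finite_subcover (fun o : {o : T.left // o ∈ O} => snd.left '' A o.1 o.2)
        (fun o => snd.left.isOpenMap _ (A o.1 o.2).isOpen) (fun o ho => Set.mem_iUnion.2 ⟨⟨o, ho⟩, hA3 o ho⟩)
      have hK : IsCompact (⋃ o ∈ t, (pullback.snd snd snd).left ⁻¹' (A o.1 o.2 : Set W.left)) :=
        t.finite_toSet.isCompact_biUnion fun o _ =>
          QuasiCompact.isCompact_preimage (f := (pullback.snd snd snd).left) _ (A o.1 o.2).isOpen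
            (hA1 o.1 o.2).isCompact
      have e3 : (pullback.fst snd snd).left '' (⋃ o ∈ t, (pullback.snd snd snd).left ⁻¹' (A o.1 o.2 : Set W.left)) =
          (snd.left ⁻¹ᵁ O : Set W.left) := by
        ext w
        constructor
        · rintro ⟨z, hz, rfl⟩
          obtain ⟨o, -, hzA⟩ := Set.mem_iUnion₂.1 hz
          show snd.left ((pullback.fst snd snd).left z) ∈ O
          rw [← Scheme.Hom.comp_apply, sW.w, Scheme.Hom.comp_apply]
          exact hA2 o.1 o.2 hzA
        · intro hw
          obtain ⟨o, hot, w', hw', hww'⟩ := Set.mem_iUnion₂.1 (ht hw)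
          obtain ⟨z, hz1, hz2⟩ := Scheme.Pullback.exists_preimage_pullback (f := snd.left) (g := snd.left) w w' hww'.symm
          refine ⟨sW.isoPullback.inv z, Set.mem_iUnion₂.2 ⟨o, hot, ?_⟩, ?_⟩
          · show (pullback.snd snd snd).left (sW.isoPullback.inv z) ∈ A o.1 o.2
            rw [← Scheme.Hom.comp_apply, sW.isoPullback_inv_snd, hz2]
            exact hw'
          · rw [← Scheme.Hom.comp_apply, sW.isoPullback_inv_fst, hz1]
      exact e3 ▸ hK.image (pullback.fst snd snd).left.continuous

end Groth.Agent.S10412
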