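import Groth.Statements.S10414
import Groth.Agent.AlgSpDec.MonoPoint

set_option autoImplicit false
universe u
open CategoryTheory CategoryTheory.Limits AlgebraicGeometry Topology TopologicalSpace
open AlgSp

namespace Groth.Agent.S10414

/-- Let S be a scheme, X an algebraic space over S, x ∈ |X|, and Z_x ⟶ X the residual space of x (a
monomorphism with image {x} from a space which admits a locally finitely presented, flat, surjective
morphism whose source is the spectrum of a field). Then Z_x is isomorphic to Spec k' for some field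
k' if and only if the point x is represented by some monomorphism Spec k ⟶ X. (The decent case, in
which the right side holds at every point, is not part of this row.) -/
theorem result {S : Scheme.{u}} (X : AlgSp.Space S) (x : AlgSp.Points X.obj)
    {Z : AlgSp.Space S} (i : Z ⟶ X) [Mono i.hom] (hi : Set.range (AlgSp.Points.map i.hom) = {x})
    (hZ : ∃ (k : Type u) (_ : Field k) (str : Spec (CommRingCat.of k) ⟶ S) (p : (AlgSp.yon S).obj (Over.mk str) ⟶ Z.obj),
        AlgSp.LocP @LocallyOfFinitePresentation p ∧ AlgSp.LocP @Flat p ∧ AlgSp.IsSurjectiveMor p) :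
    (∃ (k : Type u) (_ : Field k) (str : Spec (CommRingCat.of k) ⟶ S), Nonempty (Z.obj ≅ (AlgSp.yon S).obj (Over.mk str))) ↔
      ∃ p : AlgSp.FieldPt X.obj, AlgSp.Points.mk p = x ∧ Mono p.toHom := by
  obtain ⟨k, _, str, q, h₁, h₂, h₃⟩ := hZ
  obtain ⟨hr, hN, -, hsub⟩ := AlgSpDec.flat_lfp_cover_package Z.property q h₁ h₂ h₃
  constructor
  · rintro ⟨K, _, str', ⟨e⟩⟩
    let p₀ : AlgSp.FieldPt ((AlgSp.yon S).obj (Over.mk str')) :=
      { K := K, str := str', val := (AlgSp.J S).uliftYonedaEquiv (𝟙 _) }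
    have h0 : p₀.toHom = 𝟙 _ := Equiv.symm_apply_apply _ _
    refine ⟨p₀.map (e.inv ≫ i.hom), ?_, ?_⟩
    · have : AlgSp.Points.map i.hom (AlgSp.Points.map e.inv (AlgSp.Points.mk p₀)) ∈ ({x} : Set _) :=
        hi ▸ Set.mem_range_self _
      rw [← AlgSp.Points.map_mk, AlgSp.Points.map_comp]
      exact this
    · rw [AlgSp.FieldPt.toHom_map, h0, Category.id_comp]
      exact @mono_comp _ _ _ _ _ _ (CategoryTheory.SplitMono.mono ⟨e.hom, e.inv_hom_id⟩) _ ‹Mono i.hom›
  · rintro ⟨p, hp, hm⟩
    refine ⟨p.K, inferInstance, p.str, ?_⟩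
    let P := pullback p.toHom i.hom
    have hP : AlgSp.IsAlgSpace P := AlgSpLib.isAlgSpace_pullback (IsAlgSpace.yon_obj _) Z.property X.property _ _
    obtain ⟨z, hz⟩ : x ∈ Set.range (AlgSp.Points.map i.hom) := hi.symm ▸ rfl
    obtain ⟨y, -, -⟩ := AlgSpLib.exists_point_of_isPullback (IsPullback.of_hasPullback p.toHom i.hom)
      (x := AlgSp.Points.ofScheme p.pt (IsLocalRing.closedPoint p.K)) (y := z) (((AlgSp.Points.ofPt_eq_map_ofScheme p.toHom (IsLocalRing.closedPoint p.K)).symm.trans
        ((AlgSp.Points.ofPt_toHom p _).trans hp)).trans hz.symm)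
    have hiso : IsIso (pullback.fst p.toHom i.hom) :=
      AlgSpDec.isIso_of_mono_field (str := p.str) hP (pullback.fst p.toHom i.hom) y
    let g : (AlgSp.yon S).obj p.pt ⟶ Z.obj := inv (pullback.fst p.toHom i.hom) ≫ pullback.snd _ _
    have hg : g ≫ i.hom = p.toHom := by
      rw [Category.assoc, ← pullback.condition, IsIso.inv_hom_id_assoc]
    have : Mono (g ≫ i.hom) := hg ▸ hm
    have : Mono g := mono_of_mono g i.hom
    have := AlgSpDec.isIso_of_mono_of_point (IsAlgSpace.yon_obj p.pt) Z.property hr hN g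
      (AlgSp.Points.ofScheme p.pt (IsLocalRing.closedPoint p.K))
    exact ⟨(asIso g).symm⟩

end Groth.Agent.S10414
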