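import Groth.Statements.S10415
import Groth.Agent.AlgSpDec.ResidualFactor
import Mathlib.AlgebraicGeometry.Morphisms.Etale

set_option autoImplicit false
universe u
open CategoryTheory CategoryTheory.Limits AlgebraicGeometry Topology TopologicalSpace
open AlgSp

namespace Groth.Agent.S10415

/-- Let S be a scheme, Y and X algebraic spaces over S with Y reduced and X locally Noetherian, and f :
Y ⟶ X a morphism with |f|(|Y|) ⊆ {x}. Then f factors through Z_x ⟶ X, where Z_x denotes the residual
space of X at the point x. -/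
theorem result {S : Scheme.{u}} {Y X Z : AlgSp.Space S} (f : Y ⟶ X)
    (x : AlgSp.Points X.obj) (hf : ∀ y : AlgSp.Points Y.obj, AlgSp.Points.map f.hom y = x) (hY : AlgSp.EtaleLocally (fun U => IsReduced U) Y.obj)
    (hX : AlgSp.IsLocNoethSp X.obj) (i : Z ⟶ X) [Mono i.hom] (hi : Set.range (AlgSp.Points.map i.hom) = {x})
    (hZ : ∃ (k : Type u) (_ : Field k) (str : Spec (CommRingCat.of k) ⟶ S) (p : (AlgSp.yon S).obj (Over.mk str) ⟶ Z.obj),
        AlgSp.LocP @LocallyOfFinitePresentation p ∧ AlgSp.LocP @Flat p ∧ AlgSp.IsSurjectiveMor p) :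
    ∃ g : Y ⟶ Z, g ≫ i = f := by
  have : MorphismProperty.IsStableUnderComposition @Etale := ⟨fun f g hf hg => by
    have : Etale f := hf
    have : Etale g := hg
    exact (inferInstance : Etale (f ≫ g))⟩
  have : MorphismProperty.IsStableUnderComposition @Surjective := ⟨fun f g hf hg => by
    have : Surjective f := hf
    have : Surjective g := hg
    exact (inferInstance : Surjective (f ≫ g))⟩
  obtain ⟨W, b, hb, hbs, hW⟩ := hY
  obtain ⟨U, a, ha, has, hU⟩ := hX
  have : IsLocallyNoetherian U.left := hU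
  have : IsReduced W.left := hW
  let g : (AlgSp.yon S).obj W ⟶ X.obj := b ≫ f.hom
  let W' := ha.rep.pullback g
  let π : W' ⟶ W := ha.rep.snd g
  let gU : W' ⟶ U := ha.rep.fst' g
  have hsq := ha.rep.isPullback' g
  have hπe : Etale π.left := ha.property_snd g
  have hπs : Surjective π.left := has.property _ _ _ (ha.rep.isPullback g)
  have : IsReduced W'.left := AlgSpDec.isReduced_of_etaleMor π.left
  have hgw : ∀ w, AlgSp.Points.ofPt a (gU.left w) = x := fun w => by
    rw [← AlgSpLib.ofPt_comp, hsq.w, AlgSpLib.ofPt_comp, ← AlgSp.Points.map_ofPt, hf]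
  have hx : x ∈ Set.range (AlgSp.Points.map i.hom) := hi.symm ▸ rfl
  obtain ⟨l, hl⟩ := AlgSpDec.exists_factor_residual_scheme X.property Z.property i.hom hx ha gU hgw
  let b' := (AlgSp.yon S).map π ≫ b
  have hb' : AlgSp.RepWith @Etale b' :=
    AlgSpLib.repWith_comp ((repWith_yon_map_iff _ π).2 hπe) hb
  have hbs' : AlgSp.RepWith @Surjective b' :=
    AlgSpLib.repWith_comp ((repWith_yon_map_iff _ π).2 hπs) hbs
  obtain ⟨g', hg'⟩ := AlgSpDec.exists_factor_of_cover hb' hbs' f.hom (j := i.hom) ⟨l, by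
    rw [hl, hsq.w, Category.assoc]⟩
  exact ⟨ObjectProperty.homMk g', by ext1; exact hg'⟩

end Groth.Agent.S10415
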