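import Groth.Statements.S10416
import Groth.Agent.AlgSpDec.MonoPoint
import Groth.Agent.AlgSpDec.RedInduced
import Groth.Agent.AlgSpDec.RedImage
import Groth.Agent.AlgSpDec.LimOpen
import Groth.Agent.AlgSpVal.DvrSep

set_option autoImplicit false
universe u
open CategoryTheory CategoryTheory.Limits AlgebraicGeometry Topology TopologicalSpace
open AlgSp

namespace Groth.Agent.S10416

/-- Let S be a scheme, X a locally Noetherian algebraic space over S, x ∈ |X|, and i : Z_x ⟶ X the
residual space at x. Then x is closed in |X| if and only if i is a closed immersion. -/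
theorem result {S : Scheme.{u}} {X Z : AlgSp.Space S}
    (hX : AlgSp.IsLocNoethSp X.obj) (x : AlgSp.Points X.obj) (i : Z ⟶ X) [Mono i.hom]
    (hi : Set.range (AlgSp.Points.map i.hom) = {x}) (hZ : ∃ (k : Type u) (_ : Field k) (str : Spec (CommRingCat.of k) ⟶ S) (p : (AlgSp.yon S).obj (Over.mk str) ⟶ Z.obj),
        AlgSp.LocP @LocallyOfFinitePresentation p ∧ AlgSp.LocP @Flat p ∧ AlgSp.IsSurjectiveMor p) :
    IsClosed ({x} : Set (AlgSp.Points X.obj)) ↔ AlgSp.RepWith @IsClosedImmersion i.hom := by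
  obtain ⟨k, _, str, q, h₁, h₂, h₃⟩ := hZ
  obtain ⟨hr, -, ⟨z⟩, -⟩ := AlgSpDec.flat_lfp_cover_package Z.property q h₁ h₂ h₃
  refine ⟨fun hx => ?_, fun h => ?_⟩
  · obtain ⟨Z₀, j, hj, hjr, hr₀⟩ := AlgSpDec.exists_reduced_induced X.property hx
    have := AlgSpDec.mono_of_closedImmersion hj
    obtain ⟨g, hg⟩ := AlgSpDec.exists_factor_reduced hr i.hom hj (by rw [hi, hjr])
    have : Mono (g ≫ j) := hg ▸ ‹Mono i.hom›
    have : Mono g := mono_of_mono g j
    have hsub : Subsingleton (AlgSp.Points Z₀.obj) := ⟨fun a b =>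
      AlgSpDec.injective_points_map_of_mono j
        (((hjr.subset ⟨a, rfl⟩ : AlgSp.Points.map j a = x)).trans (hjr.subset ⟨b, rfl⟩ : AlgSp.Points.map j b = x).symm)⟩
    have hN₀ : AlgSp.IsLocNoethSp Z₀.obj := AlgSpVal.isLocNoethSp_of_lft Z₀.property X.property j
      (AlgSpLib.locP_of_repWith (AlgSpLib.repWith_mono (fun _ _ f (_ : IsClosedImmersion f) => (inferInstance : LocallyOfFiniteType f)) _ hj)) hX
    have := AlgSpDec.isIso_of_mono_of_point Z.property Z₀.property hr₀ hN₀ g z
    rw [← hg]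
    have : MorphismProperty.IsStableUnderComposition @IsClosedImmersion := ⟨fun f g hf hg => by
      have : IsClosedImmersion f := hf
      have : IsClosedImmersion g := hg
      exact inferInstanceAs (IsClosedImmersion (f ≫ g))⟩
    exact AlgSpLib.repWith_comp (AlgSpLib.repWith_of_isIso _ g) hj
  · obtain ⟨U, a, ha, has⟩ := X.property.atlas
    rw [← hi]
    refine isOpen_compl_iff.1 ((AlgSpLib.isOpen_iff_chart ha has).2 ?_)
    rw [Set.preimage_compl, isOpen_compl_iff]
    have : IsClosedImmersion (h.rep.snd a).left := h.property_snd a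
    have hsq : AlgSp.Points.ofPt a ⁻¹' Set.range (AlgSp.Points.map i.hom) = Set.range (h.rep.snd a).left := by
      ext u
      constructor
      · rintro ⟨y, hy⟩
        obtain ⟨v, -, hv⟩ := AlgSpLib.exists_point_of_isPullback (h.rep.isPullback a) (x := y)
          (y := AlgSp.Points.ofScheme U u) (by rw [hy, AlgSp.Points.map_ofPt, Category.id_comp])
        obtain ⟨v, rfl⟩ := (AlgSp.Points.schemeHomeo _).surjective v
        exact ⟨v, (AlgSp.Points.schemeHomeo U).injective ((AlgSp.Points.map_yon_map_apply _ v).symm.trans hv)⟩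
      · rintro ⟨v, rfl⟩
        exact ⟨AlgSp.Points.ofPt (h.rep.fst a) v, by
          rw [AlgSp.Points.map_ofPt, (h.rep.isPullback a).w, AlgSpLib.ofPt_comp]⟩
    rw [hsq]
    exact (h.rep.snd a).left.isClosedEmbedding.isClosed_range

end Groth.Agent.S10416
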