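import Groth.Statements.S10417
import Groth.Agent.AlgSpDec.CodimOne
import Groth.Agent.S9995

set_option autoImplicit false
set_option backward.isDefEq.respectTransparency false
set_option backward.isDefEq.respectTransparency.types false
universe u
open CategoryTheory CategoryTheory.Limits AlgebraicGeometry Topology TopologicalSpace
open AlgSp

namespace Groth.Agent.S10417

/-- Let W = X ×_Y Z be a fibre product of algebraic spaces over a scheme S with projections p, q and let
x ∈ |X|, z ∈ |Z| lie over the same point of |Y|. If f : X ⟶ Y is of finite type and quasi-finite at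
x, then the set of points of |W| mapping to x and to z is finite. -/
theorem result {S : Scheme.{u}} {X Y Z W : AlgSp.Space S} (f : X ⟶ Y)
    (g : Z ⟶ Y) (p : W ⟶ X) (q : W ⟶ Z) (hW : IsPullback p.hom q.hom f.hom g.hom) (x : AlgSp.Points X.obj)
    (z : AlgSp.Points Z.obj) (hxz : AlgSp.Points.map f.hom x = AlgSp.Points.map g.hom z)
    (hft : AlgSp.IsFiniteTypeMor f.hom) (hf : AlgSp.HasAtMor (fun U _ h u => ∃ W : U.Opens, u ∈ W ∧ LocallyQuasiFinite (W.ι ≫ h) ∧ LocallyOfFiniteType (W.ι ≫ h)) f.hom x) :
    {w : AlgSp.Points W.obj | AlgSp.Points.map p.hom w = x ∧ AlgSp.Points.map q.hom w = z}.Finite := by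
  have hq : IsFiniteTypeMor q.hom := ⟨AlgSpLib.locP_of_isPullback hW X.property Y.property Z.property hft.1,
    AlgSpPts.isQuasiCompactMor_of_isPullback hW hft.2⟩
  refine (S9995.result q hq z).subset ?_
  rintro w ⟨hw₁, hw₂⟩
  exact ⟨hw₂, AlgSpDec.CodimOne.qf_baseChange hW X.property Y.property Z.property hft.1 w (hw₁ ▸ hf)⟩

end Groth.Agent.S10417
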