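import Groth.Statements.S1042
import Groth.Agent.DerBC7.BettiPush

set_option autoImplicit false
universe u
open CategoryTheory CategoryTheory.Limits AlgebraicGeometry
attribute [local instance] HasDerivedCategory.standard
open Perf

namespace Groth.Agent.S1042

/-- Let f : X ⟶ S be proper and of finite presentation, F an O_X-module of finite presentation flat over
S, and i ∈ ℤ, r ∈ ℕ. There is an open subset U ⊆ S such that for every morphism g : T ⟶ S (with
Rf_{T,*} assumed to exist on the unbounded derived category), g factors through U — i.e. the image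
of g lies in U — exactly when Rf_{T,*}(F_T), as an object of D(O_T), is a rank-r finite locally free
O_T-module sitting in degree i; here f_T : X ×_S T ⟶ T and F_T is the pullback of F to X ×_S T. -/
theorem result {X S : Scheme.{u}} (f : X ⟶ S) [IsProper f] [LocallyOfFinitePresentation f]
    (F : X.Modules) (hF : CohB1.IsFP F) (hflat : FlatMod.IsFlatOver f F) (i : ℤ) (r : ℕ) :
    ∃ U : S.Opens, ∀ (T : Scheme.{u}) (g : T ⟶ S) [DCoh.HasRpush (pullback.snd f g)],
      Set.range g.base ⊆ (U : Set S) ↔
        ∃ V : T.Modules, FlatMod.IsFinLocFreeOfRank r V ∧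
          Nonempty ((DCoh.Rpush (pullback.snd f g)).obj (DCoh.inD (pullback f g) ((Scheme.Modules.pullback (pullback.fst f g)).obj F)) ≅ (DCoh.inD T V)⟦-i⟧) := by
  classical
  haveI := Groth.Agent.KFlatLib.hasRpush_scheme f
  haveI : ∀ s : S, DCoh.HasLpull (S.fromSpecResidueField s) := fun s => Groth.Agent.KFlatLib.hasLpull _
  have hK := Groth.Agent.DerBC7.isPerfect_rpush_inD f hF hflat
  refine ⟨⟨_, Groth.Agent.KFlatLib.isOpen_bettiLocus hK i r⟩, fun T g hR => ?_⟩
  haveI : ∀ t : T, DCoh.HasLpull (T.fromSpecResidueField t) := fun t => Groth.Agent.KFlatLib.hasLpull _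
  have h := IsPullback.of_hasPullback f g
  have hK' := Groth.Agent.DerBC7.isPerfect_rpush_inD (pullback.snd f g)
    (Groth.Agent.CohPullLib.isFP_pullback_of_isQCoh _ (Groth.Agent.QCoh.isQCoh_of_isFP hF) hF)
    (Groth.Agent.CohPullLib.isFlatOver_baseChange h hflat)
  have hb := fun t k => Groth.Agent.DerBC7.betti_rpush_baseChange h hF hflat t k
  constructor
  · intro hU
    exact Groth.Agent.KFlatLib.exists_locFree_of_betti hK' i r fun t k => (hb t k).trans (hU ⟨t, rfl⟩ k)
  · rintro ⟨V, hV, ⟨eV⟩⟩ _ ⟨t, rfl⟩ k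
    obtain ⟨W, ht, ⟨e⟩⟩ := hV t
    exact (hb t k).symm.trans (Groth.Agent.KFlatLib.betti_single t ht e eV k)

end Groth.Agent.S1042
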