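import Groth.Statements.S10422
import Mathlib.LinearAlgebra.Dimension.StrongRankCondition
import Mathlib.LinearAlgebra.Dimension.Constructions
import Mathlib.RingTheory.TensorProduct.Maps
import Mathlib.RingTheory.Flat.Basic
import Mathlib.LinearAlgebra.TensorProduct.Finiteness
-- import your own Groth.Agent.* helpers here

set_option autoImplicit false
universe u
open Topology TopologicalSpace TensorProduct
open AlgSp

namespace Groth.Agent.S10422

theorem exists_embeddings (k : Type u) [Field k] (K : ℕ → Type u) [∀ n, Field (K n)]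
    [∀ n, Algebra k (K n)] (N : Finset ℕ) :
    ∃ (Ω : Type u) (_ : Field Ω) (_ : Algebra k Ω), ∀ n ∈ N, Nonempty (K n →ₐ[k] Ω) := by
  classical
  induction N using Finset.induction with
  | empty => exact ⟨k, inferInstance, inferInstance, fun n hn => by simp at hn⟩
  | insert a N _ ih =>
    obtain ⟨Ω, _, _, hΩ⟩ := ih
    haveI : Nontrivial (Ω ⊗[k] K a) :=
      (Algebra.TensorProduct.includeLeft_injective (R := k) (S := k) (A := Ω) (B := K a)
        (algebraMap k (K a)).injective).nontrivial
    obtain ⟨M, hM⟩ := Ideal.exists_maximal (Ω ⊗[k] K a)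
    letI := Ideal.Quotient.field M
    refine ⟨(Ω ⊗[k] K a) ⧸ M, inferInstance, inferInstance, fun n hn => ?_⟩
    rcases Finset.mem_insert.1 hn with rfl | hn
    · exact ⟨(Ideal.Quotient.mkₐ k M).comp Algebra.TensorProduct.includeRight⟩
    · obtain ⟨e⟩ := hΩ n hn
      exact ⟨((Ideal.Quotient.mkₐ k M).comp Algebra.TensorProduct.includeLeft).comp e⟩

/-- vectors with orthogonal partners are few -/
theorem card_le_of_dual {Ω : Type*} [Field Ω] {ι r : Type*} [Fintype ι] [Fintype r] (a b : ι → r → Ω)
    (hd : ∀ i, ∑ l, a i l * b i l ≠ 0) (ho : ∀ i j, i ≠ j → ∑ l, a i l * b j l = 0) :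
    Fintype.card ι ≤ Fintype.card r := by
  classical
  have h : LinearIndependent Ω a := by
    rw [Fintype.linearIndependent_iff]
    intro c hc j
    have e : ∑ i, c i * ∑ l, a i l * b j l = 0 := by
      simp only [Finset.mul_sum]
      rw [Finset.sum_comm]
      refine Finset.sum_eq_zero fun l _ => ?_
      have := congrFun hc l
      simp only [Finset.sum_apply, Pi.smul_apply, smul_eq_mul, Pi.zero_apply] at this
      calc ∑ i, c i * (a i l * b j l) = (∑ i, c i * a i l) * b j l := by
            rw [Finset.sum_mul]; exact Finset.sum_congr rfl fun i _ => by ring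
        _ = 0 := by rw [this, zero_mul]
    rw [Finset.sum_eq_single j (fun i _ hij => by rw [ho i j hij, mul_zero]) (by simp)] at e
    exact (mul_eq_zero.1 e).resolve_right (hd j)
  simpa using h.fintype_card_le_finrank

/-- Let A be a ring, k a field, (p_n) a sequence of primes of A which are pairwise distinct, and k →
κ(p_n) field embeddings. Then the closure in Spec(A ⊗ A) of the image of ∐_{n ≠ m} Spec(κ(p_n) ⊗_k
κ(p_m)) meets the diagonal. Here κ(p_n) is any A-algebra K_n which is a field whose structure map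
has kernel p_n and whose elements are quotients of images of elements of A. -/
theorem result (A : Type u) [CommRing A] (k : Type u) [Field k]
    (p : ℕ → PrimeSpectrum A) (hp : Function.Injective p) (K : ℕ → Type u) [∀ n, Field (K n)]
    [∀ n, Algebra A (K n)] [∀ n, Algebra k (K n)]
    (hker : ∀ n, RingHom.ker (algebraMap A (K n)) = (p n).asIdeal)
    (hfrac : ∀ n (x : K n), ∃ a b : A, algebraMap A (K n) b ≠ 0 ∧ x * algebraMap A (K n) b = algebraMap A (K n) a) :
    (closure (⋃ (n : ℕ) (m : ℕ) (_ : n ≠ m),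
        Set.range (PrimeSpectrum.comap
          (Algebra.TensorProduct.lift
            ((Algebra.TensorProduct.includeLeft (R := k) (S := ℤ) (A := K n) (B := K m)).toRingHom.toIntAlgHom.comp
              (Algebra.ofId A (K n)).toRingHom.toIntAlgHom)
            ((Algebra.TensorProduct.includeRight (R := k) (A := K n) (B := K m)).toRingHom.toIntAlgHom.comp
              (Algebra.ofId A (K m)).toRingHom.toIntAlgHom)
            (fun _ _ => Commute.all _ _)).toRingHom)) ∩
      Set.range (PrimeSpectrum.comap (Algebra.TensorProduct.lmul' (S := A) ℤ).toRingHom)).Nonempty := by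
  classical
  obtain ⟨q, hq⟩ := exists_clusterPt_of_compactSpace (Filter.map p Filter.atTop)
  have hfreq : ∀ h : A, h ∉ q.asIdeal → ∀ M : ℕ, ∃ n, M ≤ n ∧ h ∉ (p n).asIdeal := by
    intro h hh M
    have hmem : (PrimeSpectrum.basicOpen h : Set (PrimeSpectrum A)) ∈ 𝓝 q :=
      (PrimeSpectrum.basicOpen h).isOpen.mem_nhds hh
    have := mapClusterPt_iff_frequently.1 hq _ hmem
    rw [Filter.frequently_atTop] at this
    obtain ⟨n, hn, hn'⟩ := this M
    exact ⟨n, hn, hn'⟩
  refine ⟨PrimeSpectrum.comap (Algebra.TensorProduct.lmul' (S := A) ℤ).toRingHom q, ?_, q, rfl⟩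
  rw [PrimeSpectrum.isTopologicalBasis_basic_opens.mem_closure_iff]
  rintro _ ⟨t, rfl⟩ hqt
  obtain ⟨s, hs⟩ := TensorProduct.exists_finset (R := ℤ) t
  set h := ∑ i ∈ s, i.1 * i.2 with hh
  have hlm : Algebra.TensorProduct.lmul' (S := A) ℤ t = h := by
    rw [hs, map_sum]
    exact Finset.sum_congr rfl fun i _ => Algebra.TensorProduct.lmul'_apply_tmul _ _
  have hhq : h ∉ q.asIdeal := by
    rw [← hlm]
    exact hqt
  -- many primes avoiding `h`
  have hmany : ∀ c, ∃ N : Finset ℕ, N.card = c ∧ ∀ n ∈ N, h ∉ (p n).asIdeal := by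
    intro c
    induction c with
    | zero => exact ⟨∅, rfl, by simp⟩
    | succ c ih =>
      obtain ⟨N, hN, hN'⟩ := ih
      obtain ⟨n, hn, hn'⟩ := hfreq h hhq (N.sup id + 1)
      have hnN : n ∉ N := fun hm => by
        have := Finset.le_sup (f := id) hm
        simp only [id] at this
        omega
      exact ⟨insert n N, by rw [Finset.card_insert_of_notMem hnN, hN],
        fun m hm => (Finset.mem_insert.1 hm).elim (fun e => e ▸ hn') (hN' m)⟩
  obtain ⟨N, hNc, hNh⟩ := hmany (s.card + 1)
  obtain ⟨Ω, _, _, hΩ⟩ := exists_embeddings k K N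
  have e : ∀ n : N, K n.1 →ₐ[k] Ω := fun n => (hΩ n.1 n.2).some
  by_contra hne
  have hz : ∀ n m : N, n.1 ≠ m.1 →
      ∑ i ∈ s, e n (algebraMap A (K n.1) i.1) * e m (algebraMap A (K m.1) i.2) = 0 := by
    intro n m hnm
    by_contra hne0
    let ψ : K n.1 ⊗[k] K m.1 →ₐ[k] Ω :=
      Algebra.TensorProduct.lift (e n) (e m) fun _ _ => Commute.all _ _
    let P : PrimeSpectrum (K n.1 ⊗[k] K m.1) :=
      ⟨RingHom.ker ψ.toRingHom, RingHom.ker_isPrime _⟩
    refine hne ⟨_, ?_, Set.mem_iUnion.2 ⟨n.1, Set.mem_iUnion₂.2 ⟨m.1, hnm, P, rfl⟩⟩⟩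
    intro hmem
    apply hne0
    have h0 := hmem
    simp only [PrimeSpectrum.comap_asIdeal, Ideal.mem_comap, SetLike.mem_coe, P,
      RingHom.mem_ker, AlgHom.toRingHom_eq_coe, RingHom.coe_coe, hs, map_sum] at h0
    rw [← h0]
    refine Finset.sum_congr rfl fun i _ => ?_
    simp [ψ]
  refine absurd (card_le_of_dual (ι := N) (r := s) (fun n i => e n (algebraMap A (K n.1) i.1.1))
    (fun n i => e n (algebraMap A (K n.1) i.1.2)) (fun n => ?_) fun n m hnm => ?_) ?_
  · rw [Finset.sum_coe_sort s fun i => e n (algebraMap A (K n.1) i.1) * e n (algebraMap A (K n.1) i.2)]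
    simp only [← map_mul, ← map_sum, ← hh]
    refine (map_ne_zero (e n)).2 fun h0 => hNh n.1 n.2 ?_
    rw [← hker]
    exact h0
  · rw [Finset.sum_coe_sort s fun i => e n (algebraMap A (K n.1) i.1) * e m (algebraMap A (K m.1) i.2)]
    exact hz n m fun he => hnm (Subtype.ext he)
  · rw [Fintype.card_coe, Fintype.card_coe, hNc]
    omega

end Groth.Agent.S10422
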