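import Groth.Statements.S10433
import Groth.Agent.AlgSpDec.DegStrat

set_option autoImplicit false
universe u
open CategoryTheory CategoryTheory.Limits AlgebraicGeometry Topology TopologicalSpace
open AlgSp

namespace Groth.Agent.S10433

/-- Let S be a scheme, X an algebraic space over S, W a scheme over S, and W ⟶ X a morphism which is
flat, separated, locally of finite presentation and locally quasi-finite, with universally bounded
fibres. Then X has closed subspaces, each reduced, ∅ = Z_{-1} ⊆ Z_0 ⊆ ⋯ ⊆ Z_n with |Z_n| = |X| such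
that, putting X_r = Z_r ∖ Z_{r-1}, for every morphism g : T ⟶ X the second projection W ×_X T ⟶ T is
a finite locally free morphism of degree r exactly when g(|T|) ⊆ |X_r|. (Indexing: Zs 0 = Z_{-1}, Zs
(r+1) = Z_r.) -/
theorem result {S : Scheme.{u}} (X : AlgSp.Space S) {W : Over S}
    (w : (AlgSp.yon S).obj W ⟶ X.obj) (hfl : AlgSp.RepWith @Flat w) (hfp : AlgSp.RepWith @LocallyOfFinitePresentation w)
    (hsep : AlgSp.RepWith @IsSeparated w) (hqf : AlgSp.RepWith @LocallyQuasiFinite w) (hb : W4dec.HasUnivBddFibres w) :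
    ∃ (n : ℕ) (Zs : ℕ → AlgSp.Space S) (i : ∀ r, Zs r ⟶ X),
      (∀ r, AlgSp.IsRedInduced (Set.range (AlgSp.Points.map (i r).hom)) (i r).hom) ∧
      IsEmpty (AlgSp.Points (Zs 0).obj) ∧ Set.range (AlgSp.Points.map (i (n + 1)).hom) = Set.univ ∧
      (∀ r, Set.range (AlgSp.Points.map (i r).hom) ⊆ Set.range (AlgSp.Points.map (i (r + 1)).hom)) ∧
      ∀ (r : ℕ) (T : AlgSp.Space S) (g : T ⟶ X) (P : AlgSp.Sp S) (fst : P ⟶ (AlgSp.yon S).obj W) (snd : P ⟶ T.obj),
        IsPullback fst snd w g.hom →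
          (AlgSp.IsFinLocFreeOfDegMor r snd ↔
            Set.range (AlgSp.Points.map g.hom) ⊆
              Set.range (AlgSp.Points.map (i (r + 1)).hom) \ Set.range (AlgSp.Points.map (i r).hom)) := by
  classical
  obtain ⟨n, hn⟩ := hb
  obtain ⟨U, a, ha, has⟩ := X.property.atlas
  let sqU := hfl.rep.isPullback a
  let f := (hfl.rep.snd a).left
  obtain ⟨p1, p2, p3, p4⟩ := AlgSpDec.DegStrat.props hfl hfp hsep hqf sqU
  have hfinU : ∀ u, (f ⁻¹' {u}).Finite := fun u => (AlgSpDec.DegStrat.finite_fibre hn sqU u).1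
  choose sel hsel using fun x : AlgSp.Points X.obj => AlgSpLib.surjective_ofPt has x
  let d : AlgSp.Points X.obj → ℕ := fun x => AlgSpDec.DegStrat.dg hfl.rep a (sel x)
  have hd : ∀ (T : Over S) (g : (AlgSp.yon S).obj T ⟶ X.obj) (t : T.left),
      d (AlgSp.Points.ofPt g t) = AlgSpDec.DegStrat.dg hfl.rep g t := fun T g t =>
    AlgSpDec.DegStrat.dg_eq_of_points hfl.rep hfl hfp hsep hqf hn ha.rep g _ t (hsel _)
  have hcl : ∀ r : ℕ, IsClosed {x | d x ≤ r} := fun r => by
    refine isOpen_compl_iff.1 ((AlgSpLib.isOpen_iff_chart ha has).2 ?_)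
    rw [Set.preimage_compl, isOpen_compl_iff]
    convert MorLib.WT.isClosed_deg_le hfinU r using 1
    ext u
    change d (AlgSp.Points.ofPt a u) ≤ r ↔ _
    rw [hd]
    rfl
  have hle : ∀ x, d x ≤ n := fun x =>
    (AlgSpDec.DegStrat.finite_fibre hn sqU (sel x)).2 p1 p2 p3 p4 hfinU
  choose Z j hj using fun r : ℕ => AlgSpDec.exists_reduced_induced X.property (hcl r)
  obtain ⟨Z₀, j₀, hj₀⟩ := AlgSpDec.exists_reduced_induced X.property (T := (∅ : Set (AlgSp.Points X.obj))) isClosed_empty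
  let Zs : ℕ → AlgSp.Space S := fun r => Nat.rec Z₀ (fun k _ => Z k) r
  let i : ∀ r, Zs r ⟶ X := fun r => match r with
    | 0 => ObjectProperty.homMk j₀
    | k + 1 => ObjectProperty.homMk (j k)
  have hr0 : Set.range (AlgSp.Points.map (i 0).hom) = ∅ := hj₀.2.1
  have hrs : ∀ k, Set.range (AlgSp.Points.map (i (k + 1)).hom) = {x | d x ≤ k} := fun k => (hj k).2.1
  have hdiff : ∀ r, Set.range (AlgSp.Points.map (i (r + 1)).hom) \ Set.range (AlgSp.Points.map (i r).hom) =
      {x | d x = r} := by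
    rintro (_ | k)
    · rw [hrs, hr0, Set.sdiff_empty]; ext x; simp
    · rw [hrs, hrs]
      ext x
      simp only [Set.mem_sdiff, Set.mem_setOf_eq]
      omega
  refine ⟨n, Zs, i, fun r => ?_, ⟨fun z => ?_⟩, ?_, fun r => ?_, fun r T g P fst snd sq => ?_⟩
  · cases r with
    | zero => exact ⟨hj₀.1, rfl, hj₀.2.2⟩
    | succ k => exact ⟨(hj k).1, rfl, (hj k).2.2⟩
  · exact (hr0.subset ⟨z, rfl⟩ : AlgSp.Points.map (i 0).hom z ∈ (∅ : Set _))
  · rw [hrs]; exact Set.eq_univ_of_forall hle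
  · cases r with
    | zero => rw [hr0]; exact Set.empty_subset _
    | succ k => rw [hrs, hrs]; exact fun x hx => le_trans (show d x ≤ k from hx) (Nat.le_succ k)
  · rw [hdiff]
    have hsndr : AlgSp.Representable snd := MorphismProperty.of_isPullback (P := AlgSp.Representable) sq hfl.rep
    have key : ∀ (T' P' : Over S) (g' : (AlgSp.yon S).obj T' ⟶ T.obj) (a' : (AlgSp.yon S).obj P' ⟶ P)
        (b : P' ⟶ T'), IsPullback a' ((AlgSp.yon S).map b) snd g' →
        (Mor2.IsFinLocFreeOfDeg r b.left ↔ ∀ t, d (AlgSp.Points.map g.hom (AlgSp.Points.ofPt g' t)) = r) := by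
      intro T' P' g' a' b sq'
      have sqT := sq'.paste_horiz sq
      obtain ⟨q1, q2, q3, q4⟩ := AlgSpDec.DegStrat.props hfl hfp hsep hqf sqT
      have hfT : ∀ t, (b.left ⁻¹' {t}).Finite := fun t => (AlgSpDec.DegStrat.finite_fibre hn sqT t).1
      have hdeg : ∀ t, MorLib.WT.deg b.left t = d (AlgSp.Points.map g.hom (AlgSp.Points.ofPt g' t)) := fun t => by
        rw [AlgSp.Points.map_ofPt, hd]
        exact AlgSpDec.DegStrat.deg_eq_dg hfl.rep hfl hfp hsep hqf hn (g' ≫ g.hom) (𝟙 T') (by simp) sqT t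
      have h1 := MorLib.WT.isFinLocFreeOfDeg_iff hfT (𝟙 T'.left) r
      have sqI := IsPullback.of_hasPullback b.left (𝟙 T'.left)
      have e : Mor2.IsFinLocFreeOfDeg r (pullback.snd b.left (𝟙 T'.left)) ↔ Mor2.IsFinLocFreeOfDeg r b.left :=
        (AlgSp.finLocFreeOfDeg r).arrow_mk_iso_iff
          (Arrow.isoMk (f := Arrow.mk (pullback.snd b.left (𝟙 T'.left))) (g := Arrow.mk b.left)
            (asIso (pullback.fst b.left (𝟙 T'.left))) (Iso.refl _)
            (by simpa using sqI.w))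
      rw [← e, h1]
      exact forall_congr' fun t => by rw [← hdeg]; rfl
    constructor
    · intro h
      rintro _ ⟨y, rfl⟩
      obtain ⟨T', c, -, hcs⟩ := T.property.atlas
      obtain ⟨t, rfl⟩ := AlgSpLib.surjective_ofPt hcs y
      exact (key T' _ c (h.rep.fst c) (h.rep.snd c) (h.rep.isPullback c)).1 (h.property_snd c) t
    · intro h
      refine ⟨hsndr, fun T' P' g' a' b sq' => ?_⟩
      exact (key T' P' g' a' b sq').2 fun t => h ⟨_, rfl⟩

end Groth.Agent.S10433
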