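import Groth.Statements.S1044
import Groth.Agent.PerfGen7.KoszulTrunc

set_option autoImplicit false
universe u
open CategoryTheory CategoryTheory.Limits AlgebraicGeometry
attribute [local instance] HasDerivedCategory.standard
open Perf

namespace Groth.Agent.S1044

/-- Let A be a ring, f₁, …, f_r elements of A, X = Spec A, U ⊆ X the open complement of V(f₁, …, f_r)
with inclusion j, and K the perfect object of D(O_X) associated with the Koszul complex on f₁, …,
f_r. Assuming Rj_* exists (and tilde is recorded as exact), for E ∈ D(O_X) with quasi-coherent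
cohomology sheaves the following are equivalent: E is of the form Rj_*M for some M ∈ D_QCoh(O_U)
(equivalently E = Rj_*(E|_U)); every morphism K[n] ⟶ E, n ∈ ℤ, is zero. -/
theorem result (A : Type u) [CommRing A] (fs : List A) [PreservesFiniteLimits (tilde.functor (CommRingCat.of A))]
    [DCoh.HasRpush (LocCoh.puncturedOpen A (Ideal.span {a | a ∈ fs})).ι]
    (E : DCoh.D (Spec (CommRingCat.of A))) (hE : DCoh.IsQCohD E) :
    (∃ M : DCoh.D (LocCoh.puncturedOpen A (Ideal.span {a | a ∈ fs}) : Scheme.{u}), DCoh.IsQCohD M ∧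
        Nonempty (E ≅ (DCoh.Rpush (LocCoh.puncturedOpen A (Ideal.span {a | a ∈ fs})).ι).obj M)) ↔
    ∀ (n : ℤ) (φ : ((DCoh.tildeD (CommRingCat.of A)).obj (DerivedCategory.Q.obj (Koszul.koszul A fs)))⟦n⟧ ⟶ E), φ = 0 := by
  constructor
  · rintro ⟨M, _, ⟨e⟩⟩ n φ
    rw [← cancel_mono e.hom, zero_comp]
    exact Groth.Agent.PerfGen7.kosz_hom_rpush₀ fs n _
  · intro h
    refine ⟨_, Groth.Agent.KFlatLib.isQCohD_rho (Groth.Agent.PerfGen7.jPunct fs) hE, ?_⟩
    haveI : IsIso ((Groth.Agent.PerfGen7.adjR (Groth.Agent.PerfGen7.jPunct fs)).unit.app E) := by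
      obtain ⟨C, i, d, hT, hC⟩ := Groth.Agent.PerfGen7.exists_unit_fibre fs
        (Groth.Agent.PerfGen7.adjR (Groth.Agent.PerfGen7.jPunct fs)) hE
      refine (DerivedCategory.isIso_iff _ _).2 fun k => ?_
      haveI : Mono ((DerivedCategory.homologyFunctor _ k).map ((Groth.Agent.PerfGen7.adjR (Groth.Agent.PerfGen7.jPunct fs)).unit.app E)) :=
        (DerivedCategory.HomologySequence.exact₂ _ hT k).mono_g
        ((hC k (h (-k))).eq_of_src _ _)
      haveI : Epi ((DerivedCategory.homologyFunctor _ k).map ((Groth.Agent.PerfGen7.adjR (Groth.Agent.PerfGen7.jPunct fs)).unit.app E)) :=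
        (DerivedCategory.HomologySequence.exact₃ _ hT k (k + 1) rfl).epi_f
        ((hC (k + 1) (h (-(k + 1)))).eq_of_tgt _ _)
      exact isIso_of_mono_of_epi ((DerivedCategory.homologyFunctor _ k).map
        ((Groth.Agent.PerfGen7.adjR (Groth.Agent.PerfGen7.jPunct fs)).unit.app E))
    exact ⟨asIso ((Groth.Agent.PerfGen7.adjR (Groth.Agent.PerfGen7.jPunct fs)).unit.app E)⟩

end Groth.Agent.S1044
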