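import Groth.Statements.S10441
import Groth.Agent.AlgSpElem.Branches
import Groth.Agent.AlgSpDec.EtStalkBranches

set_option autoImplicit false
universe u
open CategoryTheory CategoryTheory.Limits AlgebraicGeometry Topology TopologicalSpace
open AlgSp

namespace Groth.Agent.S10441

set_option backward.isDefEq.respectTransparency false
set_option backward.isDefEq.respectTransparency.types false

/-- For a decent algebraic space X over a scheme S and x ∈ |X|, fix an elementary etale neighbourhood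
(U₀, u₀) of (X, x) and a henselization R of O_{U₀, u₀} (a model of the henselian local ring at x).
The following are equivalent: (1) O_{U, u} has exactly one minimal prime whenever (U, u) is an
elementary etale neighbourhood of (X, x); (2) a unique irreducible component of U passes through u
for all such (U, u); (3) O_{U, u} is unibranch for all such (U, u); (4) R has exactly one minimal
prime. -/
theorem result {S : Scheme.{u}} (X : AlgSp.Space S)
    (hX : AlgSp.IsDecent X.obj) (x : AlgSp.Points X.obj) {U₀ : Over S}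
    (a₀ : (AlgSp.yon S).obj U₀ ⟶ X.obj) (u₀ : ↥U₀.left) (h₀ : AlgSp.IsElemEtaleNbhd a₀ u₀ x)
    (R : Type u) [CommRing R] [IsLocalRing R] [Algebra ↥(U₀.left.presheaf.stalk u₀) R]
    [IsLocalHom (algebraMap ↥(U₀.left.presheaf.stalk u₀) R)] [Hensel.IsHenselization ↥(U₀.left.presheaf.stalk u₀) R] :
    ((∀ (U : Over S) (a : (AlgSp.yon S).obj U ⟶ X.obj) (u : ↥U.left), AlgSp.IsElemEtaleNbhd a u x →
        CAlgX.HasUniqueMinimalPrime ↥(U.left.presheaf.stalk u)) ↔
      (∀ (U : Over S) (a : (AlgSp.yon S).obj U ⟶ X.obj) (u : ↥U.left), AlgSp.IsElemEtaleNbhd a u x →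
        {Z : Set ↥U.left | Z ∈ irreducibleComponents ↥U.left ∧ u ∈ Z}.encard = 1)) ∧
    ((∀ (U : Over S) (a : (AlgSp.yon S).obj U ⟶ X.obj) (u : ↥U.left), AlgSp.IsElemEtaleNbhd a u x →
        {Z : Set ↥U.left | Z ∈ irreducibleComponents ↥U.left ∧ u ∈ Z}.encard = 1) ↔
      (∀ (U : Over S) (a : (AlgSp.yon S).obj U ⟶ X.obj) (u : ↥U.left), AlgSp.IsElemEtaleNbhd a u x →
        CAlg2.IsUnibranch ↥(U.left.presheaf.stalk u))) ∧
    ((∀ (U : Over S) (a : (AlgSp.yon S).obj U ⟶ X.obj) (u : ↥U.left), AlgSp.IsElemEtaleNbhd a u x →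
        CAlg2.IsUnibranch ↥(U.left.presheaf.stalk u)) ↔ CAlgX.HasUniqueMinimalPrime R) := by
  open Groth.Agent.AlgSpElem in
  have hc : ∀ (U : Over S) (a : (AlgSp.yon S).obj U ⟶ X.obj) (u : ↥U.left), AlgSp.IsElemEtaleNbhd a u x →
      Brnch.numBranchesAt U.left u = (minimalPrimes R).encard := fun U a u h =>
    numBranchesAt_eq_encard X.property h h₀ R
  have hR : CAlgX.HasUniqueMinimalPrime R ↔ (minimalPrimes R).encard = 1 :=
    Groth.Agent.AlgSpDec.EtStalkBranches.hasUniqueMinimalPrime_iff R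
  have h34 : (∀ (U : Over S) (a : (AlgSp.yon S).obj U ⟶ X.obj) (u : ↥U.left), AlgSp.IsElemEtaleNbhd a u x →
        CAlg2.IsUnibranch ↥(U.left.presheaf.stalk u)) ↔ CAlgX.HasUniqueMinimalPrime R := by
    rw [hR]
    refine ⟨fun h => (hc U₀ a₀ u₀ h₀).symm.trans ((Groth.Agent.BrnchLib.isUnibranch_iff _).2 (h U₀ a₀ u₀ h₀)),
      fun e U a u h => (Groth.Agent.BrnchLib.isUnibranch_iff _).1 ((hc U a u h).trans e)⟩
  have h14 : (∀ (U : Over S) (a : (AlgSp.yon S).obj U ⟶ X.obj) (u : ↥U.left), AlgSp.IsElemEtaleNbhd a u x →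
      CAlgX.HasUniqueMinimalPrime ↥(U.left.presheaf.stalk u)) ↔ CAlgX.HasUniqueMinimalPrime R := by
    rw [hR, ← Nat.cast_one, ← Groth.Agent.AlgSpElem.encard_eq_iff X.property h₀ R 1, Nat.cast_one]
    have hpos : ∀ (A : Type u) [CommRing A] [Nontrivial A], 1 ≤ (minimalPrimes A).encard := fun A _ _ =>
      Set.one_le_encard_iff_nonempty.2
        (Set.nonempty_coe_sort.1 (Ideal.nonempty_minimalPrimes (bot_ne_top : (⊥ : Ideal A) ≠ ⊤)))
    constructor
    · intro h
      exact ⟨fun U a u hu => ((Groth.Agent.AlgSpDec.EtStalkBranches.hasUniqueMinimalPrime_iff _).1 (h U a u hu)).le,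
        U₀, a₀, u₀, h₀, (Groth.Agent.AlgSpDec.EtStalkBranches.hasUniqueMinimalPrime_iff _).1 (h U₀ a₀ u₀ h₀)⟩
    · rintro ⟨h, -⟩ U a u hu
      exact (Groth.Agent.AlgSpDec.EtStalkBranches.hasUniqueMinimalPrime_iff _).2
        (le_antisymm (h U a u hu) (hpos _))
  simp only [Groth.Agent.AlgSpElem.encard_components]
  refine ⟨?_, ?_, h34⟩
  · exact forall₄_congr fun U a u _ => Groth.Agent.AlgSpDec.EtStalkBranches.hasUniqueMinimalPrime_iff _
  · rw [h34, ← h14]
    exact (forall₄_congr fun U a u _ => Groth.Agent.AlgSpDec.EtStalkBranches.hasUniqueMinimalPrime_iff _).symm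

end Groth.Agent.S10441
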