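import Groth.Statements.S10443
import Groth.Agent.AlgSpDec.Fibres
import Groth.Agent.AlgSpLib.Points
import Groth.Agent.CycLib.LFT

set_option autoImplicit false
universe u
open CategoryTheory CategoryTheory.Limits AlgebraicGeometry Topology TopologicalSpace
open AlgSp

namespace Groth.Agent.S10443

set_option backward.isDefEq.respectTransparency false
set_option backward.isDefEq.respectTransparency.types false
open Groth.Agent.AlgSpLib Groth.Agent.AlgSpPts Groth.Agent.AlgSpDec

/-- Let S be a locally Noetherian, universally catenary scheme carrying a dimension function δ, and X a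
decent algebraic space over S that is locally of finite type over S. Define δ_X : |X| → ℤ by δ_X(x)
= δ(s) + (transcendence degree of x over s), s the image of x in S; concretely, for an etale
surjective chart U ⟶ X with U locally of finite type over S, the composite of δ_X with |U| → |X| is
the function induced from δ along U ⟶ S. Then δ_X is a dimension function: strictly decreasing along
nontrivial specializations, and dropping by one along immediate ones. -/
theorem result {S : Scheme.{u}} (δ : ↥S → ℤ) (hS : Cyc.IsSetup S δ)
    (X : AlgSp.Space S) (hX : AlgSp.IsDecent X.obj) {U : Over S} (a : (AlgSp.yon S).obj U ⟶ X.obj)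
    (ha : AlgSp.RepWith @Etale a) (hs : AlgSp.RepWith @Surjective a) [LocallyOfFiniteType U.hom]
    (δX : AlgSp.Points X.obj → ℤ) (hδ : Cyc.DeltaCompat U.hom (δX ∘ AlgSp.Points.ofPt a) δ) :
    ∀ x y : AlgSp.Points X.obj, x ⤳ y → x ≠ y →
      δX y < δX x ∧ ((∀ z : AlgSp.Points X.obj, x ⤳ z → z ⤳ y → z = x ∨ z = y) → δX x = δX y + 1) := by
  intro x y hxy hne
  obtain ⟨v, rfl⟩ := surjective_ofPt hs y
  obtain ⟨u, huv, rfl⟩ := exists_specializes_lift_of_isDecent hX ha hxy
  have hD := Groth.Agent.CycLib.isDimFun_of_deltaCompat U.hom hS hδ u v huv (fun h => hne (by rw [h]))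
  refine ⟨hD.1, fun him => hD.2 fun w h1 h2 => ?_⟩
  rcases him (AlgSp.Points.ofPt a w) (h1.map (AlgSp.Points.continuous_ofPt a)) (h2.map (AlgSp.Points.continuous_ofPt a)) with e | e
  · exact Or.inl (eq_of_specializes_of_isDecent hX ha e h1)
  · exact Or.inr (eq_of_specializes_of_isDecent hX ha e.symm h2).symm

end Groth.Agent.S10443
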