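import Groth.Statements.S10444
import Groth.Agent.AlgSpDec.FibrePoints

set_option autoImplicit false
universe u
open CategoryTheory CategoryTheory.Limits AlgebraicGeometry Topology TopologicalSpace
open AlgSp

namespace Groth.Agent.S10444

set_option backward.isDefEq.respectTransparency false
set_option backward.isDefEq.respectTransparency.types false
set_option maxHeartbeats 1000000

open Groth.Agent.AlgSpDec


/-- Take f : X ⟶ Y locally of finite type between algebraic spaces over a scheme S, a field-valued point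
Spec k ⟶ Y whose class y ∈ |Y| lies in the image of |f|, the fibre product X_k = Spec k ×_Y X, and
the fibre F = |f|⁻¹(y) ⊆ |X| with the induced topology. Numbering the conditions (1) F finite, (2) F
discrete, (3) dim F = 0, (4) |X_k| finite, (5) |X_k| discrete, (6) dim |X_k| = 0, (7) dim X_k = 0,
(8) f quasi-finite at all points over y: (5) ⇔ (7) ⇔ (8); (5) ⇒ (6), with the converse when X_k is
decent; (4) ⇒ (5) when X_k is decent; (4) ⇒ (1); (2) ⇒ (3); if Y is decent then (2) ⇔ (5); if X and
Y are decent then (3) ⇒ (2) and (1) ⇒ (2). (The published statement asserts (5) ⇔ (6) for every f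
and (2) ⇔ (3) whenever Y is decent, and does not exclude an empty fibre; for the quotient of the
affine line over a field of characteristic zero by an infinite cyclic group of translations, mapping
to the point, the space of points is infinite and indiscrete, so (3) and (6) hold while (2) and (5)
fail, and for y outside the image (5) holds while (6) and (7) fail; hence the decency hypotheses on
those two converses and the hypothesis that y is in the image. Finiteness of |X_k| for an arbitrary
field k in the class of y is not derived here from (1).) -/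
theorem result {S : Scheme.{u}} {X Y : AlgSp.Space S} (f : X ⟶ Y)
    (hf : AlgSp.LocP @LocallyOfFiniteType f.hom) (r : AlgSp.FieldPt Y.obj)
    (hy : AlgSp.Points.mk r ∈ Set.range (AlgSp.Points.map f.hom)) (Xk : AlgSp.Space S) (fst : Xk ⟶ X)
    (snd : Xk.obj ⟶ (AlgSp.yon S).obj r.pt) (hsq : IsPullback fst.hom snd f.hom r.toHom) :
    (DiscreteTopology (AlgSp.Points Xk.obj) ↔ AlgSp.dim Xk.obj = 0) ∧
    (AlgSp.dim Xk.obj = 0 ↔
      ∀ x : AlgSp.Points X.obj, AlgSp.Points.map f.hom x = AlgSp.Points.mk r → AlgSp.HasAtMor (fun U _ h u => ∃ W : U.Opens, u ∈ W ∧ LocallyQuasiFinite (W.ι ≫ h) ∧ LocallyOfFiniteType (W.ι ≫ h)) f.hom x) ∧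
    (DiscreteTopology (AlgSp.Points Xk.obj) → topologicalKrullDim (AlgSp.Points Xk.obj) = 0) ∧
    (AlgSp.IsDecent Xk.obj → topologicalKrullDim (AlgSp.Points Xk.obj) = 0 →
      DiscreteTopology (AlgSp.Points Xk.obj)) ∧
    (AlgSp.IsDecent Xk.obj → Finite (AlgSp.Points Xk.obj) → DiscreteTopology (AlgSp.Points Xk.obj)) ∧
    (Finite (AlgSp.Points Xk.obj) → (AlgSp.Points.map f.hom ⁻¹' {AlgSp.Points.mk r}).Finite) ∧
    (DiscreteTopology ↥(AlgSp.Points.map f.hom ⁻¹' {AlgSp.Points.mk r}) → topologicalKrullDim ↥(AlgSp.Points.map f.hom ⁻¹' {AlgSp.Points.mk r}) = 0) ∧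
    (AlgSp.IsDecent Y.obj → (DiscreteTopology ↥(AlgSp.Points.map f.hom ⁻¹' {AlgSp.Points.mk r}) ↔ DiscreteTopology (AlgSp.Points Xk.obj))) ∧
    (AlgSp.IsDecent Y.obj → AlgSp.IsDecent X.obj →
      (topologicalKrullDim ↥(AlgSp.Points.map f.hom ⁻¹' {AlgSp.Points.mk r}) = 0 → DiscreteTopology ↥(AlgSp.Points.map f.hom ⁻¹' {AlgSp.Points.mk r})) ∧
        ((AlgSp.Points.map f.hom ⁻¹' {AlgSp.Points.mk r}).Finite → DiscreteTopology ↥(AlgSp.Points.map f.hom ⁻¹' {AlgSp.Points.mk r}))) := by
  have hP := Xk.property
  have hl := FibrePoints.lft hsq X.property Y.property hf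
  have hr := FibrePoints.range_fst hsq X.property Y.property hf
  obtain ⟨x₀, hx₀⟩ := hy
  obtain ⟨z₀, -⟩ := FibreDimSp.exists_over hsq hx₀
  haveI : Nonempty (AlgSp.Points Xk.obj) := ⟨z₀⟩
  haveI : Nonempty ↥(AlgSp.Points.map f.hom ⁻¹' {AlgSp.Points.mk r}) := ⟨⟨x₀, hx₀⟩⟩
  have hdq := FibrePoints.discrete_iff_qf hsq X.property Y.property hf
  refine ⟨FibrePoints.discrete_iff_dim hP hl, (FibrePoints.discrete_iff_dim hP hl).symm.trans hdq,
    fun _ => FibrePoints.krullDim_of_discrete, fun hd h => FibrePoints.discrete_of_krullDim hP hd hl h,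
    fun hd h => FibrePoints.discrete_of_finite hP hd hl h, fun h => ?_,
    fun _ => FibrePoints.krullDim_of_discrete, fun hdY => ?_, fun hdY hdX => ?_⟩
  · haveI := h
    rw [← hr]
    exact Set.finite_range _
  all_goals
    obtain ⟨p, P, q₁, q₂, sqP, e, hp, he, hdP⟩ :=
      FibrePoints.exists_fibre_homeo X.property Y.property f.hom hdY (AlgSp.Points.mk r)
    have hlP := FibrePoints.lft sqP X.property Y.property hf
    have hPs := FibrePoints.space sqP X.property Y.property hf
  · have h1 := FibrePoints.discrete_iff_qf sqP X.property Y.property hf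
    rw [hp] at h1
    rw [hdq, ← h1]
    exact ⟨fun _ => e.symm.discreteTopology, fun _ => e.discreteTopology⟩
  · refine ⟨fun h => ?_, fun h => ?_⟩
    · haveI := FibrePoints.discrete_of_krullDim hPs (hdP hdX) hlP
        ((IsHomeomorph.topologicalKrullDim_eq e e.isHomeomorph).trans h)
      exact e.discreteTopology
    · haveI := h.to_subtype
      haveI := FibrePoints.discrete_of_finite hPs (hdP hdX) hlP (Finite.of_equiv _ e.symm.toEquiv)
      exact e.discreteTopology

end Groth.Agent.S10444
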