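import Groth.Statements.S10446
import Groth.Agent.S10398
import Groth.Agent.AlgSpDec.CodimOne
import Groth.Agent.AlgSpDec.LimOpen
import Groth.Agent.AlgSpPts.OpenSub
import Groth.Agent.AlgSpDec.LimDescentRep

set_option autoImplicit false
set_option backward.isDefEq.respectTransparency false
set_option backward.isDefEq.respectTransparency.types false
universe u
open CategoryTheory CategoryTheory.Limits AlgebraicGeometry Topology TopologicalSpace
open AlgSp

namespace Groth.Agent.S10446

/-- (1) ⇔ (3): let S be a scheme with quasi-separated underlying space, f : X ⟶ Y a quasi-separated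
morphism of algebraic spaces over S that is locally of finite type, with Y quasi-separated over S,
and y ∈ |Y| a point of codimension 0. Then |f|⁻¹(y) is finite if and only if f restricts to a finite
morphism X' ⟶ Y' between an open subspace X' of X containing the whole fibre |f|⁻¹(y) and an open
subspace Y' of Y through y. (The published statement assumes Y quasi-separated in the absolute
sense; this row assumes S has quasi-separated underlying space and Y quasi-separated over S. Its
condition on the finiteness of |Spec k ×_Y X| is not part of this row.) -/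
theorem result {S : Scheme.{u}} [QuasiSeparatedSpace ↥S] {X Y : AlgSp.Space S}
    (f : X ⟶ Y) (hqs : AlgSp.IsQuasiSeparatedMor f.hom) (hft : AlgSp.LocP @LocallyOfFiniteType f.hom)
    (hY : AlgSp.IsQuasiSeparatedSp Y.obj) (y : AlgSp.Points Y.obj)
    (hy : AlgSp.HasAt (fun U u => ringKrullDim ↥(U.presheaf.stalk u) = 0) Y.obj y) :
    (AlgSp.Points.map f.hom ⁻¹' {y}).Finite ↔
      ∃ (X' Y' : AlgSp.Space S) (i : X' ⟶ X) (j : Y' ⟶ Y) (f' : X' ⟶ Y'), AlgSp.RepWith @IsOpenImmersion i.hom ∧
        AlgSp.RepWith @IsOpenImmersion j.hom ∧ f' ≫ j = i ≫ f ∧ y ∈ Set.range (AlgSp.Points.map j.hom) ∧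
          AlgSp.Points.map f.hom ⁻¹' {y} ⊆ Set.range (AlgSp.Points.map i.hom) ∧ AlgSp.IsFiniteMor f'.hom := by
  have hXqs : AlgSp.IsQuasiSeparatedSp X.obj := by
    rw [AlgSpPts.isQuasiSeparatedSp_iff_mor]
    rw [← (AlgSpPts.isTerminalYon S).hom_ext (f.hom ≫ (AlgSpPts.isTerminalYon S).from Y.obj)
      ((AlgSpPts.isTerminalYon S).from X.obj)]
    exact AlgSpPts.isQuasiSeparatedMor_comp hqs ((AlgSpPts.isQuasiSeparatedSp_iff_mor _).1 hY)
  have hXd : AlgSp.IsDecent X.obj := AlgSpDec.isDecent_of_isQuasiSeparatedSp X.property hXqs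
  constructor
  · intro hfin
    obtain ⟨n, e, he⟩ : ∃ (n : ℕ) (e : Fin n → Points X.obj), Set.range e = Points.map f.hom ⁻¹' {y} :=
      ⟨_, fun i => (hfin.toFinset.equivFin.symm i).1, by
        ext z
        refine ⟨fun ⟨i, hi⟩ => hi ▸ hfin.mem_toFinset.1 (hfin.toFinset.equivFin.symm i).2, fun hz =>
          ⟨hfin.toFinset.equivFin ⟨z, hfin.mem_toFinset.2 hz⟩, by simp⟩⟩⟩
    let ι : Type u := ULift.{u} (Fin n)
    choose B c z' hB hc hz using fun i : ι => AlgSpDec.exists_affine_chart_at X.property (e i.down)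
    obtain ⟨cR, hcR⟩ := AlgSpDec.exists_hom_sigma B c
    haveI : ∀ i, IsAffine (B i).left := hB
    have hcRe : RepWith @Etale cR := AlgSpDec.repWith_etale_sigma (X.property.representable_from_yon cR)
      fun i => by rw [hcR]; exact hc i
    obtain ⟨P, i, a', hi, ha', ha'e, ha's⟩ := AlgSpDec.exists_image_chart X.property hcRe
    have hP : IsAlgSpace P := AlgSpLib.isAlgSpace_of_representable i hi.rep X.property
    haveI : Mono i := AlgSpDec.mono_of_openImmersion hi
    have hPqc : AlgSp.IsQuasiCompactSp P := ⟨AlgSpDec.sigmaOver B, a', ha'e, ha's,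
      inferInstanceAs (CompactSpace ↥(∐ fun i => (B i).left))⟩
    have hsub : Points.map f.hom ⁻¹' {y} ⊆ Set.range (Points.map i) := by
      rw [← he]
      rintro _ ⟨k, rfl⟩
      refine ⟨Points.ofPt a' ((AlgSpDec.sigmaι B ⟨k⟩).left (z' ⟨k⟩)), ?_⟩
      rw [Points.map_ofPt, ha', ← AlgSpLib.ofPt_comp, hcR, hz]
    have hiqs : AlgSp.IsQuasiSeparatedMor i :=
      AlgSpDec.isQuasiSeparatedMor_of_isSeparatedMor (AlgSpDec.isSeparatedMor_of_mono i)
    have hl : AlgSp.LocP @LocallyOfFiniteType (i ≫ f.hom) := AlgSpLib.locP_comp hP X.property Y.property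
      (AlgSpLib.locP_of_repWith (AlgSpLib.repWith_mono
        (fun _ _ g (_ : IsOpenImmersion g) => (inferInstance : LocallyOfFiniteType g)) _ hi)) hft
    have hfin' : (Points.map (i ≫ f.hom) ⁻¹' {y}).Finite := by
      refine (hfin.preimage (f := Points.map i) (AlgSpDec.injective_points_map_of_mono i).injOn).subset fun w hw => ?_
      change Points.map f.hom (Points.map i w) = y
      rw [← Points.map_comp]; exact hw
    let X₁ : AlgSp.Space S := ⟨P, hP⟩
    let g : X₁ ⟶ Y := ObjectProperty.homMk (i ≫ f.hom)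
    obtain ⟨Y', X', j, fst, snd, hj, hy', hsq, hfst⟩ := S10398.result g
      (AlgSpPts.isQuasiSeparatedMor_comp hiqs hqs)
      ⟨hl, AlgSpPts.isQuasiCompactMor_of_qc_qs hP Y.property hPqc hY _⟩ y hy
      (fun x hx => AlgSpDec.CodimOne.qf_of_finite_fibre hP Y.property
        (AlgSpDec.isDecent_of_isQuasiSeparatedSp hP (by
          rw [AlgSpPts.isQuasiSeparatedSp_iff_mor, ← (AlgSpPts.isTerminalYon S).hom_ext
            (i ≫ (AlgSpPts.isTerminalYon S).from X.obj) ((AlgSpPts.isTerminalYon S).from P)]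
          exact AlgSpPts.isQuasiSeparatedMor_comp hiqs ((AlgSpPts.isQuasiSeparatedSp_iff_mor _).1 hXqs)))
        hl y hfin' x hx)
    refine ⟨X', Y', snd ≫ ObjectProperty.homMk i, j, fst,
      AlgSpLib.repWith_comp (AlgSpLib.repWith_of_isPullback hsq hj) hi, hj, ?_, hy', ?_, hfst⟩
    · refine ObjectProperty.hom_ext _ ?_
      change fst.hom ≫ j.hom = (snd.hom ≫ i) ≫ f.hom
      rw [Category.assoc]
      exact hsq.w
    · intro x hx
      obtain ⟨w, rfl⟩ := hsub hx
      obtain ⟨yy, hyy⟩ := hy'
      obtain ⟨z, -, hz₂⟩ := AlgSpLib.exists_point_of_isPullback hsq (x := yy) (y := w) (by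
        change Points.map j.hom yy = Points.map (i ≫ f.hom) w
        rw [hyy, Points.map_comp]; exact hx.symm)
      exact ⟨z, (Points.map_comp _ _ z).trans (congrArg (Points.map i) hz₂)⟩
  · rintro ⟨X', Y', i, j, f', hi, hj, hw, ⟨yy, rfl⟩, hsub, hfin⟩
    obtain ⟨V, b, v, hV, hb, rfl⟩ := AlgSpDec.exists_affine_chart_at Y'.property yy
    haveI := hV
    have hf' := AlgSpDec.isFiniteMor_iff_repWith.1 hfin
    haveI : IsFinite (hf'.rep.snd b).left := hf'.property_snd b
    have sq := hf'.rep.isPullback b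
    refine ((((hf'.rep.snd b).left.finite_preimage_singleton v).image
      (Points.ofPt (hf'.rep.fst b))).image (Points.map i.hom)).subset fun x hx => ?_
    obtain ⟨x', rfl⟩ := hsub hx
    refine ⟨x', ?_, rfl⟩
    have hinj : Function.Injective (Points.map j.hom) :=
      haveI := AlgSpDec.mono_of_openImmersion hj
      AlgSpDec.injective_points_map_of_mono j.hom
    have hfx : Points.map f'.hom x' = Points.ofPt b v := hinj (by
      rw [← Points.map_comp, show f'.hom ≫ j.hom = i.hom ≫ f.hom from congrArg (fun e => e.hom) hw,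
        Points.map_comp]
      exact hx)
    obtain ⟨w, hw₁, hw₂⟩ := AlgSpLib.exists_point_of_isPullback sq (x := x') (y := Points.ofScheme V v)
      (by rw [← Points.ofPt_eq_map_ofScheme]; exact hfx)
    obtain ⟨t, rfl⟩ := (Points.schemeHomeo _).surjective w
    refine ⟨t, ?_, (Points.ofPt_eq_map_ofScheme _ t).trans hw₁⟩
    exact (Points.schemeHomeo V).injective ((Points.map_yon_map_apply (hf'.rep.snd b) t).symm.trans hw₂)

end Groth.Agent.S10446
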