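import Groth.Statements.S1045
import Groth.Agent.KoszulFactor.Basic
import Groth.Prelude.Def_HTor
import Groth.Agent.KFlatLib.Scheme.TildeD

set_option autoImplicit false
set_option linter.style.haveILetI false
set_option backward.isDefEq.respectTransparency false
universe u
open CategoryTheory CategoryTheory.Limits AlgebraicGeometry
attribute [local instance] HasDerivedCategory.standard
open Perf

namespace Groth.Agent.S1045

open Groth.Agent Groth.Agent.KoszulFactor Groth.Agent.KFlatLib

variable {A : Type u} [CommRing A]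

lemma subsingleton_sections_of_isZero {X : Scheme.{u}} {M : X.Modules} (h : IsZero M) (V : X.Opens) :
    Subsingleton Γ(M, V) := by
  refine ⟨fun x y => ?_⟩
  have h1 : (𝟙 M : M ⟶ M) = 0 := h.eq_of_src _ _
  have hx : ∀ z : Γ(M, V), z = 0 := fun z => by
    have := ConcreteCategory.congr_hom (congrArg (fun (φ : M ⟶ M) => φ.app V) h1) z
    simpa using this
  rw [hx x, hx y]

/-- A module whose associated sheaf vanishes on an open containing `D(f)` is `f`-power torsion. -/
lemma tors_of_isZero_restrict {R : CommRingCat.{u}} (N : ModuleCat.{u} R) (U : (Spec R).Opens) (f : R)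
    (hfU : (PrimeSpectrum.basicOpen f : (Spec R).Opens) ≤ U)
    (h : IsZero (((tilde.functor R).obj N).restrict U.ι)) (x : N) :
    ∃ n : ℕ, f ^ n • x = 0 := by
  let D : (Spec R).Opens := PrimeSpectrum.basicOpen f
  have hV : U.ι ''ᵁ (U.ι ⁻¹ᵁ D) = D := by
    rw [Scheme.Hom.image_preimage_eq_opensRange_inf, Scheme.Opens.opensRange_ι, inf_eq_right]
    exact hfU
  haveI h0 : Subsingleton Γ((tilde.functor R).obj N, U.ι ''ᵁ (U.ι ⁻¹ᵁ D)) :=
    subsingleton_sections_of_isZero h _
  rw [hV] at h0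
  have h2 : (tilde.toOpen N (PrimeSpectrum.basicOpen f)).hom x = 0 :=
    @Subsingleton.elim _ h0 _ _
  obtain ⟨⟨_, n, rfl⟩, hn⟩ :=
    (IsLocalizedModule.eq_zero_iff (.powers f)
      (tilde.toOpen N (PrimeSpectrum.basicOpen f)).hom).1 h2
  exact ⟨n, hn⟩

/-- Let A be a ring, f₁, …, f_r elements of A, X = Spec A and U ⊆ X the open complement of V(f₁, …,
f_r). Let E ∈ D(O_X) have quasi-coherent cohomology sheaves with Hⁱ(E)|_U = 0 for -r < i ≤ 0. Then
(tilde being recorded as exact) every morphism s : O_X ⟶ E in D(O_X) factors as O_X ⟶ K_e ⟶ E for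
some e ≥ 0, where K_e is the object of D(O_X) associated with the Koszul complex on f₁^e, …, f_r^e. -/
theorem result (A : Type u) [CommRing A] (fs : List A) [PreservesFiniteLimits (tilde.functor (CommRingCat.of A))]
    (E : DCoh.D (Spec (CommRingCat.of A))) (hE : DCoh.IsQCohD E)
    (hU : ∀ i : ℤ, -(fs.length : ℤ) < i → i ≤ 0 → IsZero ((DCoh.HD E i).restrict (LocCoh.puncturedOpen A (Ideal.span {a | a ∈ fs})).ι))
    (s : DCoh.inD (Spec (CommRingCat.of A)) (Coh.structureModule (Spec (CommRingCat.of A))) ⟶ E) :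
    ∃ (e : ℕ) (ψ : (DCoh.tildeD (CommRingCat.of A)).obj (DerivedCategory.Q.obj (Koszul.koszul A (fs.map (fun a => a ^ e)))) ⟶ E)
      (t : DCoh.inD (Spec (CommRingCat.of A)) (Coh.structureModule (Spec (CommRingCat.of A))) ⟶
        (DCoh.tildeD (CommRingCat.of A)).obj (DerivedCategory.Q.obj (Koszul.koszul A (fs.map (fun a => a ^ e))))),
      t ≫ ψ = s := by
  haveI : PreservesColimitsOfSize.{0, 0} (tilde.functor (CommRingCat.of A)) :=
    (tilde.adjunction (R := CommRingCat.of A)).leftAdjoint_preservesColimits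
  haveI : PreservesFiniteColimits (tilde.functor (CommRingCat.of A)) :=
    PreservesColimitsOfSize.preservesFiniteColimits _
  obtain ⟨M, ⟨α⟩⟩ := KFlatLib.exists_tildeD_iso (R := CommRingCat.of A) hE
  have hM : ∀ f ∈ fs, ∀ i : ℤ, -(fs.length : ℤ) < i → i ≤ 0 → KoszulFactor.Tors f M i := by
    intro f hf i h1 h2 x
    let e : (tilde.functor (CommRingCat.of A)).obj
        ((DerivedCategory.homologyFunctor (ModuleCat.{u} A) i).obj M) ≅ DCoh.HD E i :=
      ((mapDCHomologyIso (tilde.functor (CommRingCat.of A)) i).app M).symm ≪≫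
        (DerivedCategory.homologyFunctor _ i).mapIso α
    refine tors_of_isZero_restrict _ (LocCoh.puncturedOpen A (Ideal.span {a | a ∈ fs})) f ?_
      ((hU i h1 h2).of_iso ((Scheme.Modules.restrictFunctor
        (LocCoh.puncturedOpen A (Ideal.span {a | a ∈ fs})).ι).mapIso e)) x
    intro p hp hp'
    exact hp (hp' (Ideal.subset_span hf))
  let w : (DCoh.tildeD (CommRingCat.of A)).obj (KoszulFactor.A0 A) ≅
      DCoh.inD (Spec (CommRingCat.of A)) (Coh.structureModule (Spec (CommRingCat.of A))) :=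
    ((tilde.functor (CommRingCat.of A)).mapDerivedCategorySingleFunctor 0).app (ModuleCat.of A A) ≪≫
      (DerivedCategory.singleFunctor (Spec (CommRingCat.of A)).Modules 0).mapIso tildeSelf
  obtain ⟨s₀, hs₀⟩ := (KFlatLib.tildeD_map_bijective _ _).2 (w.hom ≫ s ≫ α.inv)
  obtain ⟨e, ψ, hψ⟩ := KoszulFactor.exists_factor fs M hM s₀
  refine ⟨e, (DCoh.tildeD (CommRingCat.of A)).map ψ ≫ α.hom,
    w.inv ≫ (DCoh.tildeD (CommRingCat.of A)).map (KoszulFactor.tMap _), ?_⟩
  rw [Category.assoc]
  erw [← Functor.map_comp_assoc, hψ, hs₀]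
  simp

end Groth.Agent.S1045
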