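import Groth.Statements.S10450
import Groth.Agent.S10200
import Groth.Agent.S9795
import Groth.Agent.AlgSpDec.LimAffineStage
import Groth.Agent.AlgSpLib.LargestOpen
import Groth.Agent.AlgSpPts.Dim
import Groth.Agent.AlgSpDec.EtStalkProps

set_option autoImplicit false
set_option backward.isDefEq.respectTransparency false
set_option backward.isDefEq.respectTransparency.types false
universe u
open CategoryTheory CategoryTheory.Limits AlgebraicGeometry Topology TopologicalSpace
open AlgSp

namespace Groth.Agent.S10450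

/-- Let X be a quasi-separated algebraic space of dimension 0 over a quasi-separated scheme S. Then X is
a separated scheme and every quasi-compact open of X is affine. (The published statement allows any
base scheme S and takes X quasi-separated in the absolute sense; this row asks S to be
quasi-separated and X quasi-separated over S, which together imply absolute quasi-separatedness.) -/
theorem result {S : Scheme.{u}} [QuasiSeparatedSpace S]
    (X : AlgSp.Space S) (hqs : AlgSp.IsQuasiSeparatedSp X.obj) (hd : AlgSp.dim X.obj = 0) :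
    ∃ (U : Over S) (_ : (AlgSp.yon S).obj U ≅ X.obj), U.left.IsSeparated ∧
      ∀ V : U.left.Opens, IsCompact (V : Set ↥U.left) → IsAffineOpen V := by
  obtain ⟨X', j, hj, hr, -, h⟩ := Groth.Agent.S10200.result X
    ⟨PUnit.{u + 1}, fun _ => X, fun _ => 𝟙 X, ⟨fun _ => Groth.Agent.AlgSpLib.repWith_of_isIso _ (𝟙 X.obj),
      fun y => ⟨PUnit.unit, y, AlgSp.Points.map_id y⟩⟩, fun _ => hqs⟩
  have hall : ∀ x : AlgSp.Points X.obj, x ∈ Set.range (AlgSp.Points.map j.hom) := fun x => by
    obtain ⟨U, a, u, -, ha, hu⟩ := Groth.Agent.AlgSpDec.exists_affine_chart_at X.property x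
    refine h x ⟨U, a, u, ha, hu, ?_⟩
    have hd' : topologicalKrullDim ↥U.left ≤ 0 := le_trans (le_iSup_of_le U (le_iSup_of_le a
      (le_iSup (fun _ : AlgSp.RepWith @Etale a => topologicalKrullDim ↥U.left) ha))) hd.le
    change ringKrullDim _ = 0
    rw [ringKrullDim_stalk_eq_coheight]
    have h1 : (Order.coheight u : WithBot ℕ∞) ≤ 0 :=
      le_trans (Order.coheight_le_krullDim u) ((Groth.Agent.AlgSpPts.topologicalKrullDim_eq_krullDim U.left).ge.trans hd')
    exact le_antisymm h1 (by exact_mod_cast bot_le (α := ℕ∞))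
  obtain ⟨g, hg⟩ := Groth.Agent.AlgSpLib.exists_lift_openImmersion X.property X'.property X.property hj (𝟙 X.obj)
    (fun x _ => hall x)
  have : Mono j.hom := Groth.Agent.AlgSpDec.mono_of_openImmersion hj
  have : IsSplitEpi j.hom := ⟨⟨⟨g, hg⟩⟩⟩
  have : IsIso j.hom := isIso_of_mono_of_isSplitEpi j.hom
  obtain ⟨U, ⟨hU⟩⟩ := hr
  let e : (AlgSp.yon S).obj U ≅ X.obj := AlgSp.isoOfRepresentableBy hU ≪≫ asIso j.hom
  have hqU : AlgSp.IsQuasiSeparatedSp ((AlgSp.yon S).obj U) := by
    rw [Groth.Agent.AlgSpPts.isQuasiSeparatedSp_iff_mor,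
      (Groth.Agent.AlgSpPts.isTerminalYon S).hom_ext ((Groth.Agent.AlgSpPts.isTerminalYon S).from _) (e.hom ≫ (Groth.Agent.AlgSpPts.isTerminalYon S).from X.obj)]
    exact Groth.Agent.AlgSpPts.isQuasiSeparatedMor_comp
      (Groth.Agent.AlgSpLib.repWith_of_isIso _ (Limits.pullback.diagonal e.hom))
      ((Groth.Agent.AlgSpPts.isQuasiSeparatedSp_iff_mor _).1 hqs)
  have := (Groth.Agent.AlgSpDec.isQuasiSeparatedSp_yon_iff' U).1 hqU
  have : QuasiSeparatedSpace ↥U.left := quasiSeparatedSpace_of_quasiSeparated U.hom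
  have hU0 : topologicalKrullDim ↥U.left ≤ 0 := le_trans (le_iSup_of_le U (le_iSup_of_le e.hom
    (le_iSup (fun _ : AlgSp.RepWith @Etale e.hom => topologicalKrullDim ↥U.left)
      (Groth.Agent.AlgSpLib.repWith_of_isIso _ e.hom)))) hd.le
  exact ⟨U, e, Groth.Agent.S9795.result U.left hU0, fun V hV => Groth.Agent.SchTop.isAffineOpen_of_isCompact hU0 hV⟩

end Groth.Agent.S10450
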