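import Groth.Statements.S10457
import Groth.Agent.AlgSpDec.CodimOne

set_option autoImplicit false
set_option backward.isDefEq.respectTransparency false
set_option backward.isDefEq.respectTransparency.types false
universe u
open CategoryTheory CategoryTheory.Limits AlgebraicGeometry Topology TopologicalSpace
open AlgSp

namespace Groth.Agent.S10457

/-- Let f : X ⟶ Y be a proper morphism of algebraic spaces over a scheme S with Y locally Noetherian,
and let y be a point of Y of codimension at most 1. If every codimension 0 point x of X whose image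
specializes to y has transcendence degree 0 over its image, then there is an open subspace Y' of Y
containing y such that the base change of f to Y' is finite. -/
theorem result {S : Scheme.{u}} {X Y : AlgSp.Space S} (f : X ⟶ Y)
    (hf : AlgSp.IsProperMor f.hom) (hY : AlgSp.IsLocNoethSp Y.obj) (y : AlgSp.Points Y.obj)
    (hy : AlgSp.HasAt (fun U u => ringKrullDim ↥(U.presheaf.stalk u) ≤ 1) Y.obj y)
    (h : ∀ x : AlgSp.Points X.obj, AlgSp.HasAt (fun U u => ringKrullDim ↥(U.presheaf.stalk u) = 0) X.obj x → AlgSp.Points.map f.hom x ⤳ y →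
      AlgSp.HasAtMor (fun _ _ h u => Dual3.resTrdeg h u = 0) f.hom x) :
    ∃ (Y' : AlgSp.Space S) (j : Y' ⟶ Y), AlgSp.RepWith @IsOpenImmersion j.hom ∧
      y ∈ Set.range (AlgSp.Points.map j.hom) ∧
      ∀ (P : AlgSp.Space S) (fst : P ⟶ Y') (snd : P ⟶ X), IsPullback fst.hom snd.hom j.hom f.hom →
        AlgSp.IsFiniteMor fst.hom := by
  have hq : ∀ x : Points X.obj, Points.map f.hom x = y → HasAtMor AlgSpDec.SplitOff.QfAt f.hom x := fun x hx => by
    exact AlgSpDec.CodimOne.qf_of_codim_le_one X.property Y.property hf.2.1.1 hY y hy (fun ha hb w _ _ η hη hs =>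
      AlgSpDec.CodimOne.rd_eq_zero_of_resTrdeg ha hb w η (h _ ((AlgSpDec.FiniteDense.hasAt_ofPt_iff ha η).2 hη) hs)) x hx
  obtain ⟨V, j, hV, hj, hy', hfin⟩ := AlgSpDec.QfLocus.exists_finite_nbhd_of_proper X.property Y.property hf y hq
  exact ⟨⟨V, hV⟩, ObjectProperty.homMk j, hj, hy',
    fun P fst snd sq => AlgSpDec.isFiniteMor_iff_repWith.2 (hfin P.obj snd.hom fst.hom sq.flip)⟩

end Groth.Agent.S10457
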