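import Groth.Statements.S10459
import Groth.Agent.S10323
import Groth.Agent.AlgSpDec.Fibres
import Groth.Agent.AlgSpDec.Basic
import Groth.Agent.AlgSpDec.FiniteDense
import Groth.Agent.AlgSpDec.ResTrdeg

set_option autoImplicit false
universe u
open CategoryTheory CategoryTheory.Limits AlgebraicGeometry Topology TopologicalSpace
open AlgSp

namespace Groth.Agent.S10459

set_option backward.isDefEq.respectTransparency false
set_option backward.isDefEq.respectTransparency.types false
set_option maxHeartbeats 1000000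

attribute [local instance] specializationOrder

open Groth.Agent.AlgSpDec Groth.Agent.AlgSpLib

theorem dim_eq_iSup (U : Scheme.{u}) :
    topologicalKrullDim ↥U = ⨆ x : U, (Order.coheight x : WithBot ℕ∞) := by
  rw [topologicalKrullDim, Order.krullDim_eq_of_orderIso (irreducibleSetEquivPoints (α := ↥U))]
  exact Order.krullDim_eq_iSup_coheight


/-- Let f : X ⟶ Y be a dominant morphism locally of finite type between integral algebraic spaces over a
scheme S, with Y locally Noetherian, and let r be the transcendence degree of the generic point of X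
over its image (the generic point of Y). Then dim X ≤ dim Y + r. -/
theorem result {S : Scheme.{u}} {X Y : AlgSp.Space S} (f : X ⟶ Y)
    (hY : AlgSp.IsLocNoethSp Y.obj) (hXi : AlgSp.IsIntegralSp X.obj) (hYi : AlgSp.IsIntegralSp Y.obj)
    (hd : AlgSp.IsDominantMor f.hom) (hft : AlgSp.LocP @LocallyOfFiniteType f.hom)
    (x : AlgSp.Points X.obj) (hx : IsGenericPoint x (Set.univ : Set (AlgSp.Points X.obj))) (r : ℕ)
    (hr : AlgSp.HasAtMor (fun _ _ h u => Dual3.resTrdeg h u = (r : Cardinal.{u})) f.hom x) :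
    AlgSp.dim X.obj ≤ AlgSp.dim Y.obj + ((r : ℕ∞) : WithBot ℕ∞) := by
  haveI := t0Space_points X.property hXi.2.1
  obtain ⟨Ux, Vx, ax, bx, hx', ux, hax, hbx, wx, hux, hrx⟩ := hr
  refine iSup_le fun U => iSup_le fun a => iSup_le fun ha => ?_
  rw [dim_eq_iSup]
  refine iSup_le fun u => ?_
  obtain ⟨W, V, c, b, h, hc, hcs, hb, hbs, w⟩ := exists_chart X.property Y.property f.hom
  obtain ⟨z, hz⟩ := surjective_ofPt hcs (AlgSp.Points.ofPt a u)
  have hbv : AlgSp.Points.ofPt b (h.left z) = AlgSp.Points.map f.hom (AlgSp.Points.ofPt a u) := by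
    rw [← hz, AlgSp.Points.map_ofPt, w, ofPt_comp]
  have key := Groth.Agent.S10323.result f hY hft (AlgSp.Points.ofPt a u) (r : Cardinal.{u})
    (fun ξ hξ hξ0 s hs => ?_) (ringKrullDim ↥(U.left.presheaf.stalk u))
    (ringKrullDim ↥(V.left.presheaf.stalk (h.left z))) _ ⟨U, a, u, ha, rfl, rfl⟩
    ⟨V, b, h.left z, hb, hbv, rfl⟩ ⟨W, V, c, b, h, z, hc, hb, w, hz, rfl⟩
  · rw [AlgebraicGeometry.ringKrullDim_stalk_eq_coheight, AlgebraicGeometry.ringKrullDim_stalk_eq_coheight,
      Cardinal.toENat_nat] at key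
    refine le_trans (le_add_of_nonneg_right ?_) (key.trans (add_le_add ?_ le_rfl))
    · exact WithBot.coe_le_coe.2 bot_le
    · refine le_trans ?_ (le_iSup_of_le V (le_iSup_of_le b (le_iSup_of_le hb le_rfl)))
      rw [dim_eq_iSup]
      exact le_iSup (fun v => (Order.coheight v : WithBot ℕ∞)) (h.left z)
  · obtain ⟨U₁, a₁, u₁, ha₁, rfl, h0⟩ := hξ0
    rw [AlgebraicGeometry.ringKrullDim_stalk_eq_coheight] at h0
    have hm : IsMax (AlgSp.Points.ofPt a₁ u₁) := by
      rw [← Order.coheight_eq_zero, coheight_ofPt hXi.2.1 ha₁]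
      exact_mod_cast h0
    have h1 : (AlgSp.Points.ofPt a₁ u₁) ≤ x := hx.specializes trivial
    have hξx : AlgSp.Points.ofPt a₁ u₁ = x := le_antisymm h1 (hm h1)
    obtain ⟨U₂, V₂, a₂, b₂, h₂, u₂, ha₂, hb₂, w₂, hu₂, hs₂⟩ := hs
    exact le_of_eq (hs₂.symm.trans ((ResTrdeg.rdeg_congr (f := f.hom) ha₂ hb₂ w₂ hax hbx wx
      (hu₂.trans (hξx.trans hux.symm))).trans hrx))

end Groth.Agent.S10459
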