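import Groth.Statements.S1046
import Groth.Agent.RgammaQ7.Basic
import Groth.Agent.TriCat.RPlus
import Groth.Agent.KFlatLib.Scheme.QCohD

set_option autoImplicit false
set_option backward.isDefEq.respectTransparency false
set_option backward.isDefEq.respectTransparency.types false
set_option maxHeartbeats 1000000
universe u
open CategoryTheory CategoryTheory.Limits AlgebraicGeometry
attribute [local instance] HasDerivedCategory.standard
open Perf

namespace Groth.Agent.S1046

/-- Let U ⊆ X be an open subscheme with quasi-compact inclusion and T = X ∖ U. Assuming O_X-modules have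
enough injectives (true, not recorded), for every bounded below E ∈ D(O_X) with quasi-coherent
cohomology sheaves, the derived sections with support RΓ_T(E) (right derived functor of F ↦ ker(F →
j_*(F|_U))) has quasi-coherent cohomology sheaves, all supported on T. -/
theorem result (X : Scheme.{u}) (U : X.Opens) [QuasiCompact U.ι] [EnoughInjectives X.Modules]
    (E : DerivedCategory.Plus X.Modules) (hE : DCoh.IsQCohD E.obj) :
    DCoh.IsQCohD ((DCoh.RgammaZPlus U.ι).obj E).obj ∧
    ∀ i : ℤ, CohB1.support (DCoh.HD ((DCoh.RgammaZPlus U.ι).obj E).obj i) ⊆ (U : Set X)ᶜ := by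
  obtain ⟨a, ha⟩ : ∃ a, E.obj.IsGE a := E.property
  haveI : E.IsGE a := (DerivedCategory.Plus.isGE_ι_obj_iff E a).1 ha
  obtain ⟨L, hL, ⟨e⟩⟩ := DerivedCategory.Plus.exists_injective_nonempty_iso E a
  let J := ((InjectiveObject.ι X.Modules).mapHomologicalComplex (ComplexShape.up ℤ)).obj L.obj
  haveI : CochainComplex.IsStrictlyGE J a := inferInstance
  let eE : DerivedCategory.Q.obj J ≅ E.obj :=
    ((DerivedCategory.quotientCompQhIso X.Modules).app J).symm ≪≫ DerivedCategory.Plus.ι.mapIso e
  let G := ((DCoh.gammaZ U.ι).mapHomologicalComplex (ComplexShape.up ℤ)).obj J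
  let e' := (DCoh.gammaZ U.ι).rightDerivedFunctorPlus.mapIso e.symm ≪≫
    (Groth.Agent.TriCat.rightDerivedPlusIso X.Modules (DCoh.gammaZ U.ι)).app
      ((HomotopyCategory.Plus.quotient (InjectiveObject X.Modules)).obj L)
  let eR : DerivedCategory.Q.obj G ≅ ((DCoh.RgammaZPlus U.ι).obj E).obj :=
    ((DerivedCategory.quotientCompQhIso X.Modules).app G).symm ≪≫ DerivedCategory.Plus.ι.mapIso e'.symm
  obtain ⟨h1, h2⟩ := Groth.Agent.RgammaQ7.isQCohD_supported U J (fun n => (L.obj.X n).property) a
    (Groth.Agent.KFlatLib.isQCohD_of_iso eE.symm hE)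
  refine ⟨Groth.Agent.KFlatLib.isQCohD_of_iso eR h1, fun i x hx hxU => h2 i (fun hs => hx ?_) hxU⟩
  exact @Equiv.subsingleton _ _ (((DerSch.stalkFunctor X x).mapIso
    ((DerivedCategory.homologyFunctor X.Modules i).mapIso eR.symm)).toLinearEquiv.toEquiv) hs

end Groth.Agent.S1046
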