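import Groth.Statements.S10460
import Groth.Agent.S10459
import Groth.Agent.AlgSpDec.FiniteGeneric
import Groth.Agent.FibDim.Semicont

set_option autoImplicit false
universe u
open CategoryTheory CategoryTheory.Limits AlgebraicGeometry Topology TopologicalSpace
open AlgSp

namespace Groth.Agent.S10460

set_option backward.isDefEq.respectTransparency false
set_option backward.isDefEq.respectTransparency.types false
set_option maxHeartbeats 1000000

open Groth.Agent.AlgSpDec Groth.Agent.AlgSpLib Groth.Agent.DimFormula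

/-- A point of a fibre has a specialisation in the fibre which is closed there. -/
theorem exists_rd_zero {X Y : Scheme.{u}} (f : X ⟶ Y) [LocallyOfFiniteType f] :
    ∀ (n : ℕ) (x : X), FibDim.rd f x ≤ n → ∃ z, x ⤳ z ∧ f z = f x ∧ FibDim.rd f z = 0 := by
  intro n
  induction n with
  | zero => exact fun x hx => ⟨x, specializes_rfl, rfl, Nat.le_zero.1 hx⟩
  | succ n ih =>
    intro x hx
    by_cases h0 : FibDim.rd f x = 0
    · exact ⟨x, specializes_rfl, rfl, h0⟩
    by_cases hs : ∃ z, x ⤳ z ∧ z ≠ x ∧ f z = f x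
    · obtain ⟨z, hz, hne, hfz⟩ := hs
      have := FibDim.rd_lt f hz (Ne.symm hne) hfz.symm
      obtain ⟨w, hw, hfw, hw0⟩ := ih z (by omega)
      exact ⟨w, hz.trans hw, hfw.trans hfz, hw0⟩
    · exfalso
      push Not at hs
      have h := FibDim.dim_closure_inter f x
      rw [show closure {x} ∩ f ⁻¹' {f x} = {x} from Set.eq_singleton_iff_unique_mem.2
        ⟨⟨subset_closure rfl, rfl⟩, fun z hz => by_contra fun hne =>
          hs z (specializes_iff_mem_closure.2 hz.1) hne hz.2⟩] at h
      have h1 : topologicalKrullDim ↥({x} : Set X) ≤ 0 := topologicalKrullDim_zero_of_discreteTopology _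
      rw [h] at h1
      have h2 : ((FibDim.rd f x : ℕ∞) : WithBot ℕ∞) ≤ ((0 : ℕ∞) : WithBot ℕ∞) := h1
      exact h0 (Nat.le_zero.1 (by exact_mod_cast WithBot.coe_le_coe.1 h2))


/-- Let f : X ⟶ Y be a proper dominant morphism between integral algebraic spaces over a scheme S, with
Y locally Noetherian, and let r be the transcendence degree of the generic point of X over the
generic point of Y. Then dim X = dim Y + r. -/
theorem result {S : Scheme.{u}} {X Y : AlgSp.Space S} (f : X ⟶ Y)
    (hY : AlgSp.IsLocNoethSp Y.obj) (hXi : AlgSp.IsIntegralSp X.obj) (hYi : AlgSp.IsIntegralSp Y.obj)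
    (hd : AlgSp.IsDominantMor f.hom) (hp : AlgSp.IsProperMor f.hom)
    (x : AlgSp.Points X.obj) (hx : IsGenericPoint x (Set.univ : Set (AlgSp.Points X.obj))) (r : ℕ)
    (hr : AlgSp.HasAtMor (fun _ _ h u => Dual3.resTrdeg h u = (r : Cardinal.{u})) f.hom x) :
    AlgSp.dim X.obj = AlgSp.dim Y.obj + ((r : ℕ∞) : WithBot ℕ∞) := by
  have hft : LocP @LocallyOfFiniteType f.hom := hp.2.1.1
  apply le_antisymm
  · exact Groth.Agent.S10459.result f hY hXi hYi hd hft x hx r hr
  haveI := t0Space_points X.property hXi.2.1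
  haveI := quasiSober_points X.property hXi.2.1
  haveI := t0Space_points Y.property hYi.2.1
  haveI := quasiSober_points Y.property hYi.2.1
  letI : PartialOrder (Points X.obj) := specializationOrder _
  letI : PartialOrder (Points Y.obj) := specializationOrder _
  have hcl : IsClosedMap (Points.map f.hom) := hp.2.2 Y.property (𝟙 Y.obj) (𝟙 X.obj) f.hom IsPullback.of_id_fst
  obtain ⟨U, V, a, b, h, ha, has, hb, -, w⟩ := exists_chart X.property Y.property f.hom
  haveI : LocallyOfFiniteType h.left := hft a b h ha hb w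
  haveI : IsLocallyNoetherian V.left := isLocallyNoetherian_chart hb hY
  haveI : IsLocallyNoetherian U.left := LocallyOfFiniteType.isLocallyNoetherian h.left
  have himg : ∀ u, Points.map f.hom (Points.ofPt a u) = Points.ofPt b (h.left u) := fun u => by
    rw [Points.map_ofPt, w, ofPt_comp]
  have hcongr : ∀ u u', Points.ofPt a u = Points.ofPt a u' → FibDim.rd h.left u = FibDim.rd h.left u' :=
    fun u u' e => by
      have := ResTrdeg.rdeg_congr (f := f.hom) ha hb w ha hb w e
      rw [← FibDim.rd_eq_rdeg, ← FibDim.rd_eq_rdeg] at this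
      exact_mod_cast this
  have key : ∀ (n : ℕ) (l : LTSeries (Points Y.obj)), l.length = n → ∀ (u : U.left),
      Points.map f.hom (Points.ofPt a u) = l.last →
      ∃ m : LTSeries (Points X.obj), m.last ≤ Points.ofPt a u ∧ n + FibDim.rd h.left u ≤ m.length := by
    intro n
    induction n with
    | zero =>
      intro l _ u _
      obtain ⟨z, hz, hfz, hz0⟩ := exists_rd_zero h.left _ u le_rfl
      obtain ⟨m, -, hm2, hm3⟩ := exists_cd_series hz
      refine ⟨m.map _ (strictMono_ofPt hXi.2.1 ha), hm2.map (Points.continuous_ofPt a), ?_⟩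
      have := cd_add_rd_of_fibre h.left hz hfz.symm
      show 0 + FibDim.rd h.left u ≤ m.length
      omega
    | succ n ih =>
      intro l hl u hu
      have hlt : l.eraseLast.last < l.last := l.eraseLast_last_rel_last (by omega)
      obtain ⟨w0, hw0, hfw0⟩ : ∃ w0 : Points X.obj, w0 ∈ closure {Points.ofPt a u} ∧
          Points.map f.hom w0 = l.eraseLast.last := by
        refine ((hcl _ isClosed_closure).closure_subset_iff.2 ?_) (specializes_iff_mem_closure.1 hlt.le)
        rintro _ rfl
        exact ⟨_, subset_closure rfl, hu⟩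
      obtain ⟨u₀, hu₀⟩ := surjective_ofPt has w0
      obtain ⟨u', hu', hu'x⟩ := exists_specializes_lift_of_isDecent hXi.2.1 ha
        (hu₀.symm ▸ specializes_iff_mem_closure.2 hw0 : Points.ofPt a u ⤳ Points.ofPt a u₀)
      obtain ⟨z, hu'z, -, hfz, hle⟩ := FibDim.exists_rd_ge h.left hu'
      have hzy : Points.map f.hom (Points.ofPt a z) = l.eraseLast.last := by
        rw [himg, hfz, ← himg, hu₀, hfw0]
      obtain ⟨m, hm1, hm2⟩ := ih l.eraseLast (by show l.length - 1 = n; omega) z hzy
      have hzu : Points.ofPt a z < Points.ofPt a u := by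
        refine lt_of_le_of_ne (hu'x ▸ hu'z.map (Points.continuous_ofPt a)) fun e => ?_
        exact hlt.ne (hzy.symm.trans ((congrArg (Points.map f.hom) e).trans hu))
      refine ⟨m.snoc (Points.ofPt a u) (lt_of_le_of_lt hm1 hzu), le_of_eq (RelSeries.last_snoc ..), ?_⟩
      rw [RelSeries.snoc_length, hcongr u u' hu'x.symm]
      omega
  have hdim : ∀ (F : AlgSp.Space S) [T0Space (Points F.obj)] [QuasiSober (Points F.obj)], IsDecent F.obj →
      AlgSp.dim F.obj = @Order.krullDim (Points F.obj) (specializationOrder _).toPreorder := fun F _ _ hF => by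
    rw [← krullDim_points_eq_dim F.property hF, topologicalKrullDim]
    exact @Order.krullDim_eq_of_orderIso _ _ _ (specializationOrder _).toPreorder (irreducibleSetEquivPoints (α := Points F.obj))
  rw [hdim Y hYi.2.1, hdim X hXi.2.1]
  obtain ⟨u, hu⟩ := surjective_ofPt has x
  obtain ⟨U', V', a', b', h', u', ha', hb', w', hu', hr'⟩ := hr
  have hrd : FibDim.rd h.left u = r := by
    have : VarDim.rdeg h.left u = (r : Cardinal.{u}) :=
      (ResTrdeg.rdeg_congr (f := f.hom) ha hb w ha' hb' w' (hu.trans hu'.symm)).trans hr'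
    rw [← FibDim.rd_eq_rdeg] at this
    exact_mod_cast this
  haveI : Nonempty (Points X.obj) := ⟨x⟩
  haveI := hYi.2.2
  obtain ⟨η, hη⟩ : ∃ η : Points Y.obj, IsGenericPoint η (Set.univ : Set (Points Y.obj)) :=
    ⟨_, genericPoint_spec (Points Y.obj)⟩
  have hxη : Points.map f.hom (Points.ofPt a u) = η := hu ▸ Groth.Agent.AlgSpDec.FiniteGeneric.map_generic hYi f hd hx hη
  have hbound : ∀ l : LTSeries (Points Y.obj), ((l.length + r : ℕ) : WithBot ℕ∞) ≤ Order.krullDim (Points X.obj) := by
    intro l
    have hle : l.last ≤ η := hη.specializes trivial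
    rcases hle.eq_or_lt with he | hlt
    · obtain ⟨m, -, hm⟩ := key l.length l rfl u (hxη.trans he.symm)
      refine le_trans ?_ (Order.LTSeries.length_le_krullDim m)
      exact_mod_cast (hrd ▸ hm)
    · obtain ⟨m, -, hm⟩ := key _ (l.snoc η hlt) rfl u (by rw [RelSeries.last_snoc]; exact hxη)
      refine le_trans ?_ (Order.LTSeries.length_le_krullDim m)
      rw [RelSeries.snoc_length, hrd] at hm
      exact_mod_cast (show l.length + r ≤ m.length by omega)
  haveI : Nonempty (Points Y.obj) := ⟨η⟩
  rw [Order.krullDim_eq_iSup_length] at ⊢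
  change ((⨆ l : LTSeries (Points Y.obj), (l.length : ℕ∞) : ℕ∞) : WithBot ℕ∞) + ((r : ℕ∞) : WithBot ℕ∞) ≤ _
  rw [← WithBot.coe_add, ENat.iSup_add, Order.krullDim_eq_iSup_length, WithBot.coe_le_coe]
  refine iSup_le fun l => ?_
  have := hbound l
  rw [Order.krullDim_eq_iSup_length] at this
  exact_mod_cast this

end Groth.Agent.S10460
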