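import Groth.Statements.S10461
import Groth.Agent.S10046
import Mathlib.AlgebraicGeometry.Morphisms.UniversallyInjective
import Mathlib.AlgebraicGeometry.Morphisms.Integral
-- import your own Groth.Agent.* helpers here

set_option autoImplicit false
universe u
open CategoryTheory CategoryTheory.Limits AlgebraicGeometry Topology TopologicalSpace
open AlgSp

namespace Groth.Agent.S10461

set_option backward.isDefEq.respectTransparency false
set_option backward.isDefEq.respectTransparency.types false
open Groth.Agent.AlgSpLib Groth.Agent.AlgSpPts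

/-- Let k be a field, X an algebraic space over k and k'/k a purely inseparable field extension. If
X_{k'} is a scheme, then X is a scheme. -/
theorem result (k : Type u) [Field k] (X : AlgSp.Space (Spec (CommRingCat.of k)))
    (k' : Type u) [Field k'] [Algebra k k'] [IsPurelyInseparable k k']
    (h : (X.obj ⨯ (AlgSp.yon (Spec (CommRingCat.of k))).obj (Over.mk (Spec.map (CommRingCat.ofHom (algebraMap k k'))))).obj.IsRepresentable) : X.obj.obj.IsRepresentable := by
  let B := Spec (CommRingCat.of k)
  let φ : CommRingCat.of k ⟶ CommRingCat.of k' := CommRingCat.ofHom (algebraMap k k')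
  haveI : IsIntegralHom (Spec.map φ) := (IsIntegralHom.SpecMap_iff (φ := φ)).2
    (algebraMap_isIntegral_iff.2 inferInstance)
  haveI : UniversallyInjective (Spec.map φ) := by
    refine ((tfae_universallyInjective (Spec.map φ)).out 0 1).2 fun K hK g₁ g₂ hg => ?_
    letI := hK
    obtain ⟨a, rfl⟩ := Spec.map_surjective g₁
    obtain ⟨b, rfl⟩ := Spec.map_surjective g₂
    simp only [← Spec.map_comp] at hg
    exact congrArg Spec.map (CommRingCat.hom_ext (IsPurelyInseparable.injective_comp_algebraMap k k' K
      (congrArg CommRingCat.Hom.hom (Spec.map_injective hg))))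
  haveI : Surjective (Spec.map φ) := ⟨fun x => ⟨(inferInstance : Nonempty (PrimeSpectrum k')).some, Subsingleton.elim (α := PrimeSpectrum k) _ _⟩⟩
  let A : Over B := Over.mk (Spec.map φ)
  let m : A ⟶ Over.mk (𝟙 B) := Over.homMk (Spec.map φ) (Category.comp_id _)
  have sq : IsPullback (prod.fst : X.obj ⨯ (AlgSp.yon B).obj A ⟶ X.obj) prod.snd
      ((isTerminalYon B).from X.obj) ((AlgSp.yon B).map m) :=
    IsPullback.of_is_product' (P := X.obj ⨯ (AlgSp.yon B).obj A) (prodIsProd _ _) (isTerminalYon B)
      |>.of_iso (Iso.refl _) (Iso.refl _) (Iso.refl _) (Iso.refl _) (by simp) (by simp)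
        ((isTerminalYon B).hom_ext _ _) ((isTerminalYon B).hom_ext _ _)
  have key : ∀ {P : MorphismProperty Scheme.{u}} [P.IsStableUnderBaseChange], P (Spec.map φ) →
      RepWith P (prod.fst : X.obj ⨯ (AlgSp.yon B).obj A ⟶ X.obj) := fun hP =>
    repWith_of_isPullback sq.flip ((repWith_yon_map_iff _ _).2 hP)
  let Q : AlgSp.Space B := ⟨X.obj ⨯ (AlgSp.yon B).obj A,
    Groth.Agent.AlgSpLib.isAlgSpace_of_representable _ (key (P := @IsIntegralHom) ‹_›).rep X.property⟩
  have hinj : RepWith (fun _ _ (h : _ ⟶ _) => Function.Injective h) (prod.fst : X.obj ⨯ (AlgSp.yon B).obj A ⟶ X.obj) :=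
    repWith_mono (fun _ _ g (_ : UniversallyInjective g) => g.injective) _ (key (P := @UniversallyInjective) ‹_›)
  exact (S10046.result B (X := Q) (Y := X) (ObjectProperty.homMk prod.fst)
    (AlgSpDec.isIntegralMor_iff_repWith.2 (key (P := @IsIntegralHom) ‹_›))
    ⟨injective_map hinj, (repWith_surjective_iff (key (P := @Surjective) ‹_›).rep).1 (key (P := @Surjective) ‹_›)⟩).1 h

end Groth.Agent.S10461
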