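import Groth.Statements.S10462
import Groth.Agent.EtQC.Chev.FieldExt
import Mathlib.FieldTheory.IsAlgClosed.AlgebraicClosure
import Mathlib.FieldTheory.SeparableClosure
-- import your own Groth.Agent.* helpers here

set_option autoImplicit false
universe u
open CategoryTheory CategoryTheory.Limits AlgebraicGeometry Topology TopologicalSpace
open AlgSp

namespace Groth.Agent.S10462

set_option backward.isDefEq.respectTransparency false
set_option backward.isDefEq.respectTransparency.types false
set_option synthInstance.maxHeartbeats 200000
open Groth.Agent.EtQC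

/-- Let k be a field and X a quasi-compact, quasi-separated algebraic space over k. Suppose the base
change X_K is a scheme for some field extension K of k. Then some finite separable extension k' of k
already makes the base change X_{k'} of X representable by a scheme. -/
theorem result (k : Type u) [Field k] (X : AlgSp.Space (Spec (CommRingCat.of k)))
    (hqc : AlgSp.IsQuasiCompactSp X.obj) (hqs : AlgSp.IsQuasiSeparatedSp X.obj)
    (K : Type u) [Field K] [Algebra k K] (h : (X.obj ⨯ (AlgSp.yon (Spec (CommRingCat.of k))).obj (Over.mk (Spec.map (CommRingCat.ofHom (algebraMap k K))))).obj.IsRepresentable) :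
    ∃ (k' : Type u) (_ : Field k') (_ : Algebra k k'), Module.Finite k k' ∧ Algebra.IsSeparable k k' ∧
      (X.obj ⨯ (AlgSp.yon (Spec (CommRingCat.of k))).obj (Over.mk (Spec.map (CommRingCat.ofHom (algebraMap k k'))))).obj.IsRepresentable := by
  let L := AlgebraicClosure k
  have hL := Chev.FieldExt.isRepresentable_algClosure X hqc hqs K h L
  obtain ⟨T, ⟨s, rfl⟩, hT⟩ := Chev.FieldExt.exists_fg_isRepresentable X hqc hqs L hL
  let E : IntermediateField k L := IntermediateField.adjoin k (s : Set L)
  haveI : FiniteDimensional k E :=
    IntermediateField.finiteDimensional_adjoin fun x _ => (Algebra.IsAlgebraic.isAlgebraic x).isIntegral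
  have hE := Chev.FieldExt.isRepresentable_prod_of_map X.obj
    (Chev.FieldExt.ovMap (Subalgebra.inclusion (IntermediateField.algebra_adjoin_le_adjoin k (s : Set L)))) hT
  let k' := separableClosure k E
  let φ : Chev.FieldExt.ov k E ⟶ Chev.FieldExt.ov k k' := Chev.FieldExt.ovMap (IsScalarTower.toAlgHom k k' E)
  haveI : IsIntegralHom φ.left := (IsIntegralHom.SpecMap_iff (φ := CommRingCat.ofHom (algebraMap k' E))).2
    (algebraMap_isIntegral_iff.2 inferInstance)
  haveI : UniversallyInjective φ.left := by
    refine ((tfae_universallyInjective (Spec.map (CommRingCat.ofHom (algebraMap k' E)))).out 0 1).2 fun F hF g₁ g₂ hg => ?_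
    letI := hF
    obtain ⟨a, rfl⟩ := Spec.map_surjective g₁
    obtain ⟨b, rfl⟩ := Spec.map_surjective g₂
    simp only [← Spec.map_comp] at hg
    exact congrArg Spec.map (CommRingCat.hom_ext (IsPurelyInseparable.injective_comp_algebraMap k' E F
      (congrArg CommRingCat.Hom.hom (Spec.map_injective hg))))
  haveI : Surjective φ.left :=
    ⟨fun x => ⟨(inferInstance : Nonempty (PrimeSpectrum E)).some, Subsingleton.elim (α := PrimeSpectrum k') _ _⟩⟩
  exact ⟨k', inferInstance, inferInstance, inferInstance, inferInstance,
    Chev.FieldExt.isRepresentable_prod_of_radicial X φ hE⟩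

end Groth.Agent.S10462
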