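import Groth.Statements.S10463
import Groth.Agent.EtQC.Chev.FieldExt
import Groth.Agent.AlgSpDec.ElemDistInduction
-- import your own Groth.Agent.* helpers here

set_option autoImplicit false
universe u
open CategoryTheory CategoryTheory.Limits AlgebraicGeometry Topology TopologicalSpace
open AlgSp

namespace Groth.Agent.S10463

set_option backward.isDefEq.respectTransparency false
set_option backward.isDefEq.respectTransparency.types false
open Groth.Agent.EtQC

/-- Let k be a field with algebraic closure k̄ and X a quasi-separated algebraic space over k. If X_K is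
a scheme for some field extension K of k, then X_{k̄} is a scheme. -/
theorem result (k : Type u) [Field k]
    (X : AlgSp.Space (Spec (CommRingCat.of k))) (hqs : AlgSp.IsQuasiSeparatedSp X.obj)
    (K : Type u) [Field K] [Algebra k K] (h : (X.obj ⨯ (AlgSp.yon (Spec (CommRingCat.of k))).obj (Over.mk (Spec.map (CommRingCat.ofHom (algebraMap k K))))).obj.IsRepresentable)
    (kbar : Type u) [Field kbar] [Algebra k kbar] [IsAlgClosure k kbar] :
    (X.obj ⨯ (AlgSp.yon (Spec (CommRingCat.of k))).obj (Over.mk (Spec.map (CommRingCat.ofHom (algebraMap k kbar))))).obj.IsRepresentable := by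
  haveI := IsAlgClosure.isAlgClosed k (K := kbar)
  obtain ⟨ι, U, j, hj, hqc, hc⟩ := Chev.FieldExt.exists_qc_open_cover X
  exact Chev.FieldExt.isRepresentable_prod_of_open_cover X (Chev.FieldExt.ov k kbar) j hj hc fun i =>
    Chev.FieldExt.isRepresentable_algClosure (U i) (hqc i)
      (Groth.Agent.AlgSpDec.Neat.isQuasiSeparatedSp_of_openImm (hj i) hqs) K
      (Chev.FieldExt.isRepresentable_prod_open (hj i) _ h) kbar

end Groth.Agent.S10463
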