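import Groth.Statements.S10466
import Groth.Agent.AlgSpDec.GeomConn2

set_option autoImplicit false
set_option backward.isDefEq.respectTransparency false
set_option backward.isDefEq.respectTransparency.types false
open AlgSp Groth.Agent.AlgSpDec Groth.Agent.AlgSpLib
universe u
open CategoryTheory CategoryTheory.Limits AlgebraicGeometry Topology TopologicalSpace
open AlgSp

namespace Groth.Agent.S10466

/-- Let k be a field and X, Y algebraic spaces over k with X geometrically connected over k. Then the
projection X ×_k Y ⟶ Y induces a bijection between connected components of |X ×_k Y| and of |Y|. -/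
theorem result (k : Type u) [Field k]
    (X Y : AlgSp.Space (Spec (CommRingCat.of k))) (hX : (∀ (K : Type u) [Field K] [Algebra k K], ConnectedSpace (AlgSp.Points (X.obj ⨯ (AlgSp.yon (Spec (CommRingCat.of k))).obj (Over.mk (Spec.map (CommRingCat.ofHom (algebraMap k K)))))))) :
    Function.Bijective (Continuous.connectedComponentsMap
      (AlgSp.Points.continuous_map (Limits.prod.snd : X.obj ⨯ Y.obj ⟶ Y.obj))) := by
  have hfib : ∀ y : Points Y.obj, _root_.IsConnected (Points.map (prod.snd : X.obj ⨯ Y.obj ⟶ Y.obj) ⁻¹' {y}) := by
    intro y
    induction y using Points.ind with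
    | h p =>
      letI : Algebra k p.K := (Spec.preimage p.str).hom.toAlgebra
      have e : GeomConn.pt k p.K = p.pt := congrArg CategoryTheory.Over.mk (Spec.map_preimage _)
      have : ConnectedSpace (Points (X.obj ⨯ (yon _).obj p.pt)) := e ▸ hX p.K
      have he : Points.map (prod.snd : X.obj ⨯ Y.obj ⟶ Y.obj) ⁻¹' {Points.mk p} =
          Set.range (Points.map (prod.map (𝟙 X.obj) p.toHom)) := by
        ext z
        constructor
        · intro hz
          obtain ⟨c, hc, -⟩ := exists_point_of_isPullback (GeomConn.isPullback_mid X.obj p.toHom) (x := z)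
            (y := Points.ofScheme p.pt (IsLocalRing.closedPoint p.K))
            ((Set.mem_singleton_iff.1 hz).trans ((mk_eq_ofPt p).trans (Points.ofPt_eq_map_ofScheme _ _)))
          exact ⟨c, hc⟩
        · rintro ⟨c, rfl⟩
          refine Set.mem_singleton_iff.2 ?_
          rw [← Points.map_comp, prod.map_snd, Points.map_comp]
          obtain ⟨t, ht⟩ := (Points.schemeHomeo p.pt).surjective (Points.map prod.snd c)
          rw [← ht]
          exact (Points.ofPt_eq_map_ofScheme p.toHom t).symm.trans (Points.ofPt_toHom p t)
      rw [he]
      exact isConnected_range (Points.continuous_map _)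
  exact GeomConn.bijective_componentsMap _ (GeomConn.isOpenMap_map_snd X.obj X.property Y.obj)
    (fun y => (hfib y).nonempty) (fun y => (hfib y).isPreconnected)

end Groth.Agent.S10466
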