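import Groth.Statements.S10471
import Groth.Agent.AlgSpDec.GeomConn2

set_option autoImplicit false
set_option backward.isDefEq.respectTransparency false
set_option backward.isDefEq.respectTransparency.types false
open AlgSp Groth.Agent.AlgSpDec Groth.Agent.AlgSpLib
universe u
open CategoryTheory CategoryTheory.Limits AlgebraicGeometry Topology TopologicalSpace
open AlgSp

namespace Groth.Agent.S10471

/-- Let k be a field, K/k a (possibly infinite) Galois extension, X an algebraic space over k and V a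
quasi-compact open of |X_K|. Then there is an open subgroup H of Gal(K/k) with σ(V) = V for all σ ∈
H. -/
theorem result (k : Type u) [Field k] (X : AlgSp.Space (Spec (CommRingCat.of k))) (K : Type u) [Field K] [Algebra k K]
    [IsGalois k K] (V : Set (AlgSp.Points (X.obj ⨯ (AlgSp.yon (Spec (CommRingCat.of k))).obj (Over.mk (Spec.map (CommRingCat.ofHom (algebraMap k K))))))) (hV : IsOpen V) (hVc : IsCompact V) :
    ∃ H : Subgroup (K ≃ₐ[k] K), IsOpen (H : Set (K ≃ₐ[k] K)) ∧
      ∀ σ ∈ H, ∀ (g : (Over.mk (Spec.map (CommRingCat.ofHom (algebraMap k K))) : Over (Spec (CommRingCat.of k))) ⟶ Over.mk (Spec.map (CommRingCat.ofHom (algebraMap k K)))),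
        g.left = Spec.map (CommRingCat.ofHom (σ : K ≃ₐ[k] K).toRingHom) →
          AlgSp.Points.map (Limits.prod.map (𝟙 X.obj) ((AlgSp.yon (Spec (CommRingCat.of k))).map g)) '' V = V := by
  obtain ⟨E, hE, hsat⟩ := GeomConn.exists_saturated_level X.obj X.property K V hV hVc
  refine ⟨E.fixingSubgroup, IntermediateField.fixingSubgroup_isOpen E, fun σ hσ g hg => ?_⟩
  have sub : ∀ (τ : K ≃ₐ[k] K) (g : GeomConn.pt k K ⟶ GeomConn.pt k K), τ ∈ E.fixingSubgroup →
      g.left = Spec.map (CommRingCat.ofHom τ.toRingHom) →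
      Points.map (prod.map (𝟙 X.obj) ((yon _).map g)) '' V ⊆ V := by
    rintro τ g hτ hg _ ⟨a, ha, rfl⟩
    rw [← hsat, Set.mem_preimage, ← Points.map_comp, GeomConn.mapg_comp X.obj E τ hτ g hg]
    exact ⟨a, ha, rfl⟩
  refine (sub σ g hσ hg).antisymm fun a ha => ?_
  let g' : GeomConn.pt k K ⟶ GeomConn.pt k K := CategoryTheory.Over.homMk (Spec.map (CommRingCat.ofHom σ.symm.toRingHom)) (by
    simp only [CategoryTheory.Over.mk_hom]
    rw [← Spec.map_comp, ← CommRingCat.ofHom_comp]
    congr 2
    exact RingHom.ext σ.symm.commutes)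
  refine ⟨_, sub σ.symm g' (inv_mem hσ) rfl ⟨a, ha, rfl⟩, ?_⟩
  rw [← Points.map_comp, prod.map_map, Category.comp_id, ← Functor.map_comp]
  have : g' ≫ g = 𝟙 _ := CategoryTheory.Over.OverMorphism.ext (by
    change Spec.map _ ≫ g.left = 𝟙 _
    rw [hg, ← Spec.map_comp, ← CommRingCat.ofHom_comp, ← Spec.map_id]
    congr 1
    exact CommRingCat.hom_ext (RingHom.ext fun x => σ.symm_apply_apply x))
  rw [this, CategoryTheory.Functor.map_id, prod.map_id_id, Points.map_id]

end Groth.Agent.S10471
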