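import Groth.Statements.S10484
import Groth.Agent.AlgSpDec.DimZeroField
import Groth.Agent.AlgSpDec.MonoTfae
import Groth.Agent.AlgSpLib.EtLocalInst
import Groth.Agent.MonoLft.Scheme
-- import your own Groth.Agent.* helpers here

set_option autoImplicit false
universe u
open CategoryTheory CategoryTheory.Limits AlgebraicGeometry Topology TopologicalSpace
open AlgSp

namespace Groth.Agent.S10484

set_option backward.isDefEq.respectTransparency false
set_option backward.isDefEq.respectTransparency.types false

/-- For a field k, local quasi-finiteness over k passes from the target Y of a monomorphism f : X ⟶ Y of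
algebraic spaces over k to its source X. -/
theorem result (k : Type u) [Field k] {X Y : AlgSp.Space (Spec (CommRingCat.of k))} (f : X ⟶ Y)
    [Mono f.hom] (q : Y.obj ⟶ (AlgSp.yon (Spec (CommRingCat.of k))).obj (Over.mk (𝟙 _))) (hq : AlgSp.LocP (@LocallyQuasiFinite ⊓ @LocallyOfFiniteType : MorphismProperty Scheme.{u}) q) :
    AlgSp.LocP (@LocallyQuasiFinite ⊓ @LocallyOfFiniteType : MorphismProperty Scheme.{u}) (f.hom ≫ q) := by
  have hl : AlgSp.LocP (@LocallyOfFiniteType : MorphismProperty Scheme.{u}) f.hom := by
    intro U V a b h ha hb w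
    obtain ⟨-, hVl, hVd⟩ := Groth.Agent.AlgSpDec.DimZeroField.chart_discrete hq hb
    haveI := hVd
    refine Groth.Agent.MonoLft.lft_of_pullback_fst h.left (fun v => ?_) ?_
    · obtain ⟨D, h1, h2, h3, h4, -⟩ := Groth.Agent.AlgSpDec.DimZeroField.artinian_local_at hVl v
      exact ⟨D, h1, h2, h3, h4⟩
    let P : Over (Spec (CommRingCat.of k)) := Over.mk (pullback.fst h.left h.left ≫ U.hom)
    let p1 : P ⟶ U := Over.homMk (pullback.fst h.left h.left) rfl
    let p2 : P ⟶ U := Over.homMk (pullback.snd h.left h.left)
      (by show _ ≫ U.hom = pullback.fst h.left h.left ≫ U.hom; rw [← Over.w h, pullback.condition_assoc])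
    have hp : p1 ≫ h = p2 ≫ h := Over.OverMorphism.ext pullback.condition
    have hpa : (AlgSp.yon (Spec (CommRingCat.of k))).map p1 ≫ a = (AlgSp.yon (Spec (CommRingCat.of k))).map p2 ≫ a := by
      refine (cancel_mono f.hom).1 ?_
      rw [Category.assoc, Category.assoc, w, ← Category.assoc, ← Category.assoc, ← Functor.map_comp,
        ← Functor.map_comp, hp]
    let μ := ha.rep.lift' p1 p2 hpa
    have hμ1 : μ.left ≫ (ha.rep.fst' a).left = pullback.fst h.left h.left :=
      congrArg CommaMorphism.left (ha.rep.lift'_fst p1 p2 hpa)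
    have hμ2 : μ.left ≫ (ha.rep.snd a).left = pullback.snd h.left h.left :=
      congrArg CommaMorphism.left (ha.rep.lift'_snd p1 p2 hpa)
    let κ : (ha.rep.pullback a).left ⟶ pullback (h.left ≫ V.hom) (h.left ≫ V.hom) :=
      pullback.lift (ha.rep.fst' a).left (ha.rep.snd a).left (by rw [Over.w h, Over.w, Over.w])
    have hμκ : μ.left ≫ κ = pullback.mapDesc h.left h.left V.hom := by
      refine pullback.hom_ext ?_ ?_
      · rw [Category.assoc, pullback.lift_fst, hμ1]; exact (Category.comp_id _).symm.trans (pullback.lift_fst _ _ _).symm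
      · rw [Category.assoc, pullback.lift_snd, hμ2]; exact (Category.comp_id _).symm.trans (pullback.lift_snd _ _ _).symm
    haveI : LocallyOfFiniteType (μ.left ≫ κ) := by rw [hμκ]; infer_instance
    haveI : LocallyOfFiniteType μ.left := locallyOfFiniteType_of_comp _ κ
    haveI : Etale (ha.rep.fst' a).left := by
      have e := ha.rep.isPullback' a
      exact ha.property a _ _ e.flip
    rw [← hμ1]
    infer_instance
  haveI : (@LocallyQuasiFinite ⊓ @LocallyOfFiniteType : MorphismProperty Scheme.{u}).IsStableUnderComposition := inferInstance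
  exact Groth.Agent.AlgSpLib.locP_comp X.property Y.property (AlgSp.IsAlgSpace.yon_obj _)
    (Groth.Agent.AlgSpDec.lqf_of_mono_lft X.property Y.property f.hom hl) hq

end Groth.Agent.S10484
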