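import Groth.Statements.S10488
import Groth.Agent.AlgSpDec.FiniteGeneric

set_option autoImplicit false
universe u
open CategoryTheory CategoryTheory.Limits AlgebraicGeometry Topology TopologicalSpace
open AlgSp

namespace Groth.Agent.S10488

set_option backward.isDefEq.respectTransparency false
set_option backward.isDefEq.respectTransparency.types false

/-- (5) ⇔ (6): let f : X ⟶ Y be a dominant morphism locally of finite type between integral algebraic
spaces over a scheme S, with generic points x and y, and assume f separated or quasi-compact. Then x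
is the only point of X mapping to y if and only if there is a nonempty affine open V ⊂ Y such that
f⁻¹(V) ⟶ V is finite. -/
theorem result {S : Scheme.{u}} {X Y : AlgSp.Space S} (hXi : AlgSp.IsIntegralSp X.obj) (hYi : AlgSp.IsIntegralSp Y.obj)
    (f : X ⟶ Y) (hft : AlgSp.LocP @LocallyOfFiniteType f.hom) (hd : AlgSp.IsDominantMor f.hom)
    (x : AlgSp.Points X.obj) (hx : IsGenericPoint x (Set.univ : Set (AlgSp.Points X.obj)))
    (y : AlgSp.Points Y.obj) (hy : IsGenericPoint y (Set.univ : Set (AlgSp.Points Y.obj)))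
    (hsq : AlgSp.IsSeparatedMor f.hom ∨ AlgSp.IsQuasiCompactMor f.hom) :
    (∀ x' : AlgSp.Points X.obj, AlgSp.Points.map f.hom x' = y → x' = x) ↔
      ∃ (V : Over S) (b : (AlgSp.yon S).obj V ⟶ Y.obj) (U : Over S) (g : U ⟶ V) (a : (AlgSp.yon S).obj U ⟶ X.obj),
        IsAffine V.left ∧ Nonempty ↥V.left ∧ AlgSp.RepWith @IsOpenImmersion b ∧
          IsPullback a ((AlgSp.yon S).map g) f.hom b ∧ IsAffine U.left ∧ IsFinite g.left := by
  constructor
  · exact Groth.Agent.AlgSpDec.FiniteGeneric.exists_finite_preimage hXi hYi f hft hd hx hy hsq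
  · rintro ⟨V, b, U, g, a, -, hV, hb, sq, -, hg⟩
    haveI := hV
    haveI := hg
    have hy' : y ∈ Set.range (AlgSp.Points.ofPt b) :=
      (hy.specializes (Set.mem_univ _)).mem_open
        (Groth.Agent.AlgSpDec.BiratSp.isOpenEmbedding_ofPt Y.property hb).isOpen_range
        ⟨Classical.arbitrary _, rfl⟩
    obtain ⟨v, hv⟩ := hy'
    obtain ⟨z, -, -⟩ := Groth.Agent.AlgSpLib.exists_point_of_isPullback sq (x := x)
      (y := AlgSp.Points.schemeHomeo V v) (by
        rw [Groth.Agent.AlgSpDec.FiniteGeneric.map_generic hYi f hd hx hy, ← hv]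
        exact AlgSp.Points.ofPt_eq_map_ofScheme _ _)
    obtain ⟨u, rfl⟩ := (AlgSp.Points.schemeHomeo U).surjective z
    haveI : Nonempty ↥U.left := ⟨u⟩
    exact (Groth.Agent.AlgSpDec.FiniteGeneric.qf_iff hXi hYi f hft hd hx hy).1
      (Groth.Agent.AlgSpDec.FiniteGeneric.qf_of_finite_opens hXi hYi f hft hd hx hy (Groth.Agent.AlgSpLib.repWith_of_isPullback sq.flip hb) hb sq.w)

end Groth.Agent.S10488
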