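import Groth.Statements.S1049
import Groth.Agent.CohD7.QCoh

set_option autoImplicit false
set_option backward.isDefEq.respectTransparency false
set_option backward.isDefEq.respectTransparency.types false
set_option maxHeartbeats 1000000
universe u
open CategoryTheory CategoryTheory.Limits AlgebraicGeometry
attribute [local instance] HasDerivedCategory.standard
open Perf

namespace Groth.Agent.S1049

/-- Let X be a Noetherian scheme. Granting that coherent modules contain zero and are closed under
kernels, cokernels and finite products in all O_X-modules, with exact inclusion (true on a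
Noetherian scheme, carried as instance hypotheses; they make Coh(O_X) an abelian category), the
induced functor D(Coh(O_X)) ⥤ D(O_X) is fully faithful on bounded objects, and a bounded object of
D(O_X) with coherent cohomology sheaves is isomorphic to the image of a bounded object of
D(Coh(O_X)). -/
theorem result (X : Scheme.{u}) [IsNoetherian X]
    [ObjectProperty.ContainsZero (fun M : X.Modules => Coh.IsCoh M)] [ObjectProperty.IsClosedUnderKernels (fun M : X.Modules => Coh.IsCoh M)]
    [ObjectProperty.IsClosedUnderCokernels (fun M : X.Modules => Coh.IsCoh M)] [ObjectProperty.IsClosedUnderFiniteProducts (fun M : X.Modules => Coh.IsCoh M)]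
    [PreservesFiniteLimits (ObjectProperty.ι (fun M : X.Modules => Coh.IsCoh M))] [PreservesFiniteColimits (ObjectProperty.ι (fun M : X.Modules => Coh.IsCoh M))] :
    (∀ (M N : DerivedCategory (ObjectProperty.FullSubcategory (fun M : X.Modules => Coh.IsCoh M))) (a b : ℤ), M.IsGE a → M.IsLE b → N.IsGE a → N.IsLE b →
      Function.Bijective (fun φ : M ⟶ N => (ObjectProperty.ι (fun M : X.Modules => Coh.IsCoh M)).mapDerivedCategory.map φ)) ∧
    ∀ (K : DCoh.D X) (a b : ℤ), K.IsGE a → K.IsLE b → DCoh.IsCohD K →
      ∃ M : DerivedCategory (ObjectProperty.FullSubcategory (fun M : X.Modules => Coh.IsCoh M)), M.IsGE a ∧ M.IsLE b ∧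
        Nonempty ((ObjectProperty.ι (fun M : X.Modules => Coh.IsCoh M)).mapDerivedCategory.obj M ≅ K) := by
  haveI : ObjectProperty.ContainsZero (fun M : X.Modules => Coh.IsQCoh M) :=
    inferInstanceAs (QCohCat.isQCoh X).ContainsZero
  haveI : ObjectProperty.IsClosedUnderKernels (fun M : X.Modules => Coh.IsQCoh M) :=
    inferInstanceAs (QCohCat.isQCoh X).IsClosedUnderKernels
  haveI : ObjectProperty.IsClosedUnderCokernels (fun M : X.Modules => Coh.IsQCoh M) :=
    inferInstanceAs (QCohCat.isQCoh X).IsClosedUnderCokernels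
  haveI : ObjectProperty.IsClosedUnderFiniteProducts (fun M : X.Modules => Coh.IsQCoh M) :=
    inferInstanceAs (QCohCat.isQCoh X).IsClosedUnderFiniteProducts
  let ι := ObjectProperty.ι (fun M : X.Modules => Coh.IsQCoh M)
  haveI : PreservesFiniteLimits ι := inferInstanceAs (PreservesFiniteLimits (QCohCat.isQCoh X).ι)
  haveI : PreservesFiniteColimits ι :=
    PreservesColimitsOfSize.preservesFiniteColimits.{u, u} (QCohCat.isQCoh X).ι
  let Φ := ObjectProperty.lift (fun M : X.Modules => Coh.IsQCoh M) (ObjectProperty.ι (fun M : X.Modules => Coh.IsCoh M)) (fun M => M.property.1)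
  haveI : PreservesFiniteLimits (Φ ⋙ ι) :=
    inferInstanceAs (PreservesFiniteLimits (ObjectProperty.ι (fun M : X.Modules => Coh.IsCoh M)))
  haveI : PreservesFiniteColimits (Φ ⋙ ι) :=
    inferInstanceAs (PreservesFiniteColimits (ObjectProperty.ι (fun M : X.Modules => Coh.IsCoh M)))
  haveI : PreservesFiniteLimits Φ := preservesFiniteLimits_of_reflects_of_preserves Φ ι
  haveI : PreservesFiniteColimits Φ := preservesFiniteColimits_of_reflects_of_preserves Φ ι
  let e : Φ.mapDerivedCategory ⋙ ι.mapDerivedCategory ≅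
      (ObjectProperty.ι (fun M : X.Modules => Coh.IsCoh M)).mapDerivedCategory := FibSiteLib.DerivedRetract.compIso Φ ι
  have hP₁ : ∀ M, CohD7.cohIn X (Φ.obj M) := fun M => M.property
  have hP₂ : ∀ M, CohD7.cohIn X M → ∃ N, Nonempty (Φ.obj N ≅ M) := fun M hM => ⟨⟨M.obj, hM⟩, ⟨Iso.refl _⟩⟩
  have hl := fun M N π hπ hN => CohD7.exists_lift_coh (X := X) M N π hπ hN
  refine ⟨fun M N a b _ hM hN _ => ?_, fun K a b ha hb hK => ?_⟩
  · have h1 := CohD7.bijective Φ (CohD7.cohIn X) hP₁ hP₂ hl M N b hM
    have h2 := CohD7.bijective_qcoh (Φ.mapDerivedCategory.obj M) (Φ.mapDerivedCategory.obj N) a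
      (CohD7.isGE_map Φ N a hN)
    have h : (fun φ : M ⟶ N => (ObjectProperty.ι (fun M : X.Modules => Coh.IsCoh M)).mapDerivedCategory.map φ) =
        (e.app M).homCongr (e.app N) ∘ (fun ψ => ι.mapDerivedCategory.map ψ) ∘
          (fun φ : M ⟶ N => Φ.mapDerivedCategory.map φ) := by
      funext φ
      exact ((e.inv.naturality_assoc φ (e.hom.app N)).symm.trans
        ((congrArg (_ ≫ ·) (e.inv_hom_id_app N)).trans (Category.comp_id _))).symm
    rw [h]
    exact (Equiv.bijective _).comp (h2.comp h1)
  · obtain ⟨M, hMa, hMb, ⟨eM⟩⟩ := CohD7.exists_preimage_qcoh K a b ha hb (fun i => (hK i).1)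
    obtain ⟨N, hNb, ⟨eN⟩⟩ := CohD7.exists_preimage Φ (CohD7.cohIn X) hP₂ hl M b hMb fun n =>
      (KZ.isClosedUnderIsomorphisms_isCoh (X := X)).of_iso
        ((CohD7.exists_homologyIso ι M n).some.symm ≪≫ (DerivedCategory.homologyFunctor X.Modules n).mapIso eM).symm
        (hK n)
    refine ⟨N, CohD7.isGE_of_map Φ N a ?_, hNb, ⟨(e.app N).symm ≪≫ ι.mapDerivedCategory.mapIso eN ≪≫ eM⟩⟩
    exact (DerivedCategory.isGE_iff _ a).2 fun n hn =>
      ((DerivedCategory.isGE_iff M a).1 hMa n hn).of_iso ((DerivedCategory.homologyFunctor _ n).mapIso eN)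

end Groth.Agent.S1049
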