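import Groth.Statements.S10492
import Groth.Agent.AlgSpDec.BiratNormal

set_option autoImplicit false
universe u
open CategoryTheory CategoryTheory.Limits AlgebraicGeometry Topology TopologicalSpace
open AlgSp

namespace Groth.Agent.S10492

set_option backward.isDefEq.respectTransparency false
set_option backward.isDefEq.respectTransparency.types false

/-- Let X be a normal integral algebraic space over a scheme S. Each point x of X lies in the image of
some etale morphism U ⟶ X from an affine scheme U that is normal and integral. -/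
theorem result {S : Scheme.{u}} (X : AlgSp.Space S)
    (hXi : AlgSp.IsIntegralSp X.obj)
    (hXn : AlgSp.EtaleLocally (fun U => ∀ u : ↥U, IsDomain ↥(U.presheaf.stalk u) ∧
      IsIntegrallyClosed ↥(U.presheaf.stalk u)) X.obj)
    (x : AlgSp.Points X.obj) :
    ∃ (U : Over S) (a : (AlgSp.yon S).obj U ⟶ X.obj), AlgSp.RepWith @Etale a ∧ IsAffine U.left ∧
      IsIntegral U.left ∧ IsIntegrallyClosed ↥Γ(U.left, ⊤) ∧ x ∈ Set.range (AlgSp.Points.ofPt a) := by
  open Groth.Agent.AlgSpDec Groth.Agent.AlgSpDec.BiratSp Groth.Agent.AlgSpLib in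
  obtain ⟨hr, hd, hirr⟩ := hXi
  haveI := hirr
  haveI := Groth.Agent.AlgSpDec.t0Space_points X.property hd
  haveI := Groth.Agent.AlgSpDec.quasiSober_points X.property hd
  obtain ⟨U, a, u, hU, ha, hu⟩ := Groth.Agent.AlgSpDec.exists_affine_chart_at X.property x
  have : IsAffine U.left := hU
  have hN := Groth.Agent.AlgSpDec.BiratSp.isNormal_chart hXn ha
  have hgen : ∀ v ∈ genericPoints ↥U.left,
      AlgSp.Points.ofPt a v = genericPoint (AlgSp.Points X.obj) := by
    intro v hv
    obtain ⟨v', hv', h⟩ := Groth.Agent.AlgSpDec.exists_specializes_lift_of_isDecent hd ha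
      (genericPoint_specializes (AlgSp.Points.ofPt a v))
    rwa [← Groth.Agent.MorLib.Birat.eq_of_specializes_generic hv hv']
  have hfin : (genericPoints ↥U.left).Finite :=
    (Groth.Agent.AlgSpDec.finite_fibre X.property hd ha _).subset fun v hv => hgen v hv
  obtain ⟨η, hη, hηu⟩ := Groth.Agent.MorLib.Birat.exists_generic u
  let C : Set ↥U.left := ⋃ η' ∈ genericPoints ↥U.left \ {η}, closure {η'}
  have hC : IsClosed C := (hfin.subset Set.sdiff_subset).isClosed_biUnion fun _ _ => isClosed_closure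
  have huC : u ∉ C := fun hmem => by
    obtain ⟨η', hη', hmem⟩ := Set.mem_iUnion₂.1 hmem
    have := (hN u).1
    exact hη'.2 (Groth.Agent.AlgSpDec.BiratSp.unique_generic u hη'.1 hη
      (specializes_iff_mem_closure.2 hmem) hηu)
  obtain ⟨V, hV, huV, hVC⟩ :=
    exists_isAffineOpen_mem_and_subset (x := u) (U := ⟨Cᶜ, hC.isOpen_compl⟩) huC
  have hsp : ∀ z ∈ V, η ⤳ z := fun z hz => by
    obtain ⟨η', hη', hsp⟩ := Groth.Agent.MorLib.Birat.exists_generic z
    by_cases he : η' = η
    · exact he ▸ hsp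
    · exact absurd (Set.mem_iUnion₂.2 ⟨η', ⟨hη', he⟩, specializes_iff_mem_closure.1 hsp⟩) (hVC hz)
  have hηV : η ∈ V := (hsp u huV).mem_open V.2 huV
  let ι : Over.mk (V.ι ≫ U.hom) ⟶ U := Over.homMk V.ι rfl
  have hι : IsOpenImmersion ι.left := inferInstanceAs (IsOpenImmersion V.ι)
  have hb : AlgSp.RepWith @Etale ((AlgSp.yon S).map ι ≫ a) :=
    Groth.Agent.AlgSpLib.repWith_comp ((AlgSp.repWith_yon_map_iff @Etale ι).2 inferInstance) ha
  have hred : IsReduced (V : Scheme.{u}) := Groth.Agent.AlgSpDec.isReduced_chart hr hb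
  have hNV := Groth.Agent.AlgSpDec.BiratSp.isNormal_chart hXn hb
  haveI : IsAffine (V : Scheme.{u}) := hV
  haveI : Nonempty (V : Scheme.{u}) := ⟨⟨η, hηV⟩⟩
  haveI : IrreducibleSpace (V : Scheme.{u}) := by
    rw [irreducibleSpace_def]
    have h1 : (Set.univ : Set (V : Scheme.{u})) = closure {(⟨η, hηV⟩ : (V : Scheme.{u}))} :=
      (Set.eq_univ_of_forall fun z => specializes_iff_mem_closure.mp
        ((V.ι.isOpenEmbedding.toIsEmbedding.isInducing.specializes_iff
          (x := (⟨η, hηV⟩ : (V : Scheme.{u}))) (y := z)).mp (hsp z.1 z.2))).symm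
    show IsIrreducible (Set.univ : Set (V : Scheme.{u}))
    rw [h1]
    exact isIrreducible_singleton.closure
  haveI hVint : IsIntegral (V : Scheme.{u}) := isIntegral_of_irreducibleSpace_of_isReduced _
  refine ⟨Over.mk (V.ι ≫ U.hom), (AlgSp.yon S).map ι ≫ a, hb, hV, hVint, ?_, ⟨u, huV⟩, ?_⟩
  · have h := (Groth.Agent.S9821.result (V : Scheme.{u})).1 hNV
    exact @h ⊤ ⟨⟨⟨η, hηV⟩, trivial⟩⟩ (isAffineOpen_top _)
  · rw [Groth.Agent.AlgSpLib.ofPt_comp]
    exact hu

end Groth.Agent.S10492
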