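import Groth.Statements.S10496
import Groth.Agent.S10192
import Groth.Agent.S10381
import Groth.Agent.S10423
import Groth.Agent.S10191

set_option autoImplicit false
universe u
open CategoryTheory CategoryTheory.Limits AlgebraicGeometry Topology TopologicalSpace
open AlgSp

namespace Groth.Agent.S10496

/-- Let X be a decent algebraic space over a scheme S. For every irreducible closed subset T of |X|
there is an integral closed subspace Z of X with |Z| = T. -/
theorem result {S : Scheme.{u}} (X : AlgSp.Space S)
    (hX : AlgSp.IsDecent X.obj) (T : Set (AlgSp.Points X.obj)) (hT : IsClosed T) (hTi : IsIrreducible T) :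
    ∃ (Z : AlgSp.Space S) (i : Z ⟶ X), AlgSp.RepWith @IsClosedImmersion i.hom ∧ AlgSp.IsIntegralSp Z.obj ∧
      Set.range (AlgSp.Points.map i.hom) = T := by
  obtain ⟨Z, i, hi⟩ := Groth.Agent.S10192.result X T hT
  have hZd : AlgSp.IsDecent Z.obj := Groth.Agent.S10381.result i ((Groth.Agent.S10423.result i).1 hi.1.rep) hX
  have himm : AlgSp.RepWith @IsImmersion i.hom :=
    ⟨hi.1.rep, fun _ _ g fst snd BC => by
      have : IsClosedImmersion snd.left := hi.1.property g fst snd BC
      exact (inferInstance : IsImmersion snd.left)⟩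
  obtain ⟨he, -⟩ := Groth.Agent.S10191.result i himm
  refine ⟨Z, i, hi.1, ⟨hi.2.2, hZd, ?_⟩, hi.2.1⟩
  have : IrreducibleSpace ↥(Set.range (AlgSp.Points.map i.hom)) := by
    rw [hi.2.1]; exact Subtype.irreducibleSpace hTi
  exact he.toHomeomorph.symm.surjective.irreducibleSpace he.toHomeomorph.symm.continuous

end Groth.Agent.S10496
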