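import Groth.Statements.S10500
import Groth.Agent.AlgSpDec.FiniteGeneric

set_option autoImplicit false
universe u
open CategoryTheory CategoryTheory.Limits AlgebraicGeometry Topology TopologicalSpace
open AlgSp

namespace Groth.Agent.S10500

set_option backward.isDefEq.respectTransparency false
set_option backward.isDefEq.respectTransparency.types false

/-- Let X and Y be integral algebraic spaces over a scheme S with generic points x and y, and f : X ⟶ Y
a morphism which is proper and dominant. Then f is an alteration (finite over some nonempty open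
subspace of Y) if and only if x is the only point of X mapping to y. -/
theorem result {S : Scheme.{u}} {X Y : AlgSp.Space S}
    (hXi : AlgSp.IsIntegralSp X.obj) (hYi : AlgSp.IsIntegralSp Y.obj) (f : X ⟶ Y) (hp : AlgSp.IsProperMor f.hom)
    (hd : AlgSp.IsDominantMor f.hom)
    (x : AlgSp.Points X.obj) (hx : IsGenericPoint x (Set.univ : Set (AlgSp.Points X.obj)))
    (y : AlgSp.Points Y.obj) (hy : IsGenericPoint y (Set.univ : Set (AlgSp.Points Y.obj))) :
    (∃ (V : AlgSp.Space S) (j : V ⟶ Y), AlgSp.RepWith @IsOpenImmersion j.hom ∧ Nonempty (AlgSp.Points V.obj) ∧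
      ∀ (P : AlgSp.Space S) (fst : P ⟶ V) (snd : P ⟶ X), IsPullback fst.hom snd.hom j.hom f.hom →
        AlgSp.IsFiniteMor fst.hom) ↔ (∀ x' : AlgSp.Points X.obj, AlgSp.Points.map f.hom x' = y → x' = x) := by
  open Groth.Agent.AlgSpLib in
  have hft : AlgSp.LocP @LocallyOfFiniteType f.hom := hp.2.1.1
  constructor
  · rintro ⟨V, j, hj, hV, hfin⟩
    obtain ⟨v', hv'⟩ : y ∈ Set.range (AlgSp.Points.map j.hom) :=
      (hy.specializes (Set.mem_univ _)).mem_open
        (Groth.Agent.AlgSpDec.isOpenEmbedding_map' Y.property hj).isOpen_range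
        ⟨Classical.arbitrary _, rfl⟩
    have hP : AlgSp.IsAlgSpace (pullback j.hom f.hom) :=
      Groth.Agent.AlgSpLib.isAlgSpace_pullback V.property X.property Y.property j.hom f.hom
    have hfin' := Groth.Agent.AlgSpDec.isFiniteMor_iff_repWith.1 (hfin ⟨_, hP⟩
      (ObjectProperty.homMk (pullback.fst j.hom f.hom)) (ObjectProperty.homMk (pullback.snd j.hom f.hom))
      (IsPullback.of_hasPullback j.hom f.hom))
    obtain ⟨T, c, t, -, hc, rfl⟩ := Groth.Agent.AlgSpDec.exists_affine_chart_at V.property v'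
    have sq := hfin'.rep.isPullback c
    haveI : IsFinite (hfin'.rep.snd c).left := hfin'.property_snd c
    have hF : (AlgSp.Points.map f.hom ⁻¹' {y}).Finite := by
      refine ((((hfin'.rep.snd c).left.finite_preimage_singleton t).image
        (AlgSp.Points.ofPt (hfin'.rep.fst c))).image (AlgSp.Points.map (pullback.snd j.hom f.hom))).subset
        fun x' hx' => ?_
      obtain ⟨p, hp1, hp2⟩ := Groth.Agent.AlgSpLib.exists_point_of_isPullback
        (IsPullback.of_hasPullback j.hom f.hom) (hv'.trans (Eq.symm hx'))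
      obtain ⟨w, hw1, hw2⟩ := Groth.Agent.AlgSpLib.exists_point_of_isPullback sq (x := p)
        (y := AlgSp.Points.schemeHomeo T t) (hp1.trans (AlgSp.Points.ofPt_eq_map_ofScheme _ _))
      obtain ⟨s, rfl⟩ := (AlgSp.Points.schemeHomeo _).surjective w
      refine ⟨p, ⟨s, ?_, (AlgSp.Points.ofPt_eq_map_ofScheme _ _).trans hw1⟩, hp2⟩
      exact (AlgSp.Points.schemeHomeo T).injective
        ((AlgSp.Points.map_yon_map_apply (hfin'.rep.snd c) s).symm.trans hw2)
    exact (Groth.Agent.AlgSpDec.FiniteGeneric.qf_iff hXi hYi f hft hd hx hy).1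
      (Groth.Agent.AlgSpDec.CodimOne.qf_of_finite_fibre X.property Y.property hXi.2.1 hft y hF x
        (Groth.Agent.AlgSpDec.FiniteGeneric.map_generic hYi f hd hx hy))
  · intro h
    obtain ⟨V, b, U, g, a, -, ⟨v⟩, hb, sq, -, hg⟩ :=
      Groth.Agent.AlgSpDec.FiniteGeneric.exists_finite_preimage hXi hYi f hft hd hx hy (Or.inl hp.1) h
    refine ⟨⟨_, AlgSp.IsAlgSpace.yon_obj V⟩, ObjectProperty.homMk b, hb,
      ⟨AlgSp.Points.schemeHomeo V v⟩, fun P fst snd hsq => ?_⟩
    refine Groth.Agent.AlgSpDec.isFiniteMor_iff_repWith.2 ?_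
    have sq' : IsPullback snd.hom fst.hom f.hom b := hsq.flip
    rw [← IsPullback.isoIsPullback_hom_snd _ _ sq' sq]
    exact MorphismProperty.RespectsIso.precomp _ _ _
      ((AlgSp.repWith_yon_map_iff @IsFinite g).2 hg)

end Groth.Agent.S10500
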