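import Groth.Statements.S10501
import Groth.Agent.AlgSpDec.GeomConn

set_option autoImplicit false
set_option backward.isDefEq.respectTransparency false
set_option backward.isDefEq.respectTransparency.types false
open AlgSp Groth.Agent.AlgSpDec
universe u
open CategoryTheory CategoryTheory.Limits AlgebraicGeometry Topology TopologicalSpace
open AlgSp

namespace Groth.Agent.S10501

/-- Over a separably closed field k, an algebraic space X is geometrically connected if and only if it
is connected. -/
theorem result (k : Type u) [Field k] [IsSepClosed k]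
    (X : AlgSp.Space (Spec (CommRingCat.of k))) :
    (∀ (K : Type u) [Field K] [Algebra k K], ConnectedSpace (AlgSp.Points (X.obj ⨯ (AlgSp.yon (Spec (CommRingCat.of k))).obj (Over.mk (Spec.map (CommRingCat.ofHom (algebraMap k K))))))) ↔ ConnectedSpace (AlgSp.Points X.obj) := by
  have ht : IsTerminal ((yon (Spec (CommRingCat.of k))).obj (GeomConn.pt k k)) :=
    IsTerminal.isTerminalObj (yon _) _ (IsTerminal.ofIso Over.mkIdTerminal (CategoryTheory.Over.isoMk (Iso.refl _) (by
      simp)))
  let s : X.obj ⟶ X.obj ⨯ (yon _).obj (GeomConn.pt k k) := prod.lift (𝟙 _) (ht.from _)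
  have hs : s ≫ prod.fst = 𝟙 _ := prod.lift_fst _ _
  have hs' : prod.fst ≫ s = 𝟙 (X.obj ⨯ (yon _).obj (GeomConn.pt k k)) :=
    Limits.prod.hom_ext (by simp [s]) (ht.hom_ext _ _)
  refine ⟨fun h => ?_, fun h K _ _ => GeomConn.connected_all X.obj k ?_ K⟩
  · have := h k
    have hsur : Function.Surjective (Points.map (prod.fst : X.obj ⨯ (yon _).obj (GeomConn.pt k k) ⟶ _)) :=
      fun x => ⟨Points.map s x, by rw [← Points.map_comp, hs, Points.map_id]⟩
    exact hsur.connectedSpace (Points.continuous_map _)
  · have hsur : Function.Surjective (Points.map s) :=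
      fun x => ⟨Points.map prod.fst x, by rw [← Points.map_comp, hs', Points.map_id]⟩
    exact hsur.connectedSpace (Points.continuous_map _)

end Groth.Agent.S10501
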