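import Groth.Statements.S10514
import Groth.Agent.HTopPh.Refine
import Groth.Agent.AlgSpLib.Covers
import Groth.Agent.S7190

set_option autoImplicit false
universe u
open CategoryTheory CategoryTheory.Limits AlgebraicGeometry
open AlgSp

namespace Groth.Agent.S10514

/-- An fppf covering of an algebraic space `X` over `S` by algebraic spaces is a ph covering of `X`: its
members are locally of finite type and every morphism from an affine scheme `Z` to `X` admits a
standard ph covering of `Z` whose members lift through members of the family. -/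
theorem result {S : Scheme.{u}} (X : AlgSp.Space S) {ι : Type u}
    (Xi : ι → AlgSp.Space S) (g : ∀ i, Xi i ⟶ X)
    (h : AlgSp.IsFppfCover (fun i => (Xi i).obj) (fun i => (g i).hom)) :
    AlgSp.IsPhCover (fun i => (Xi i).obj) (fun i => (g i).hom) := by
  refine ⟨fun i => Groth.Agent.AlgSpLib.locP_mono (P := @LocallyOfFinitePresentation) (Q := @LocallyOfFiniteType)
    (fun _ _ f (_ : LocallyOfFinitePresentation f) => inferInstanceAs (LocallyOfFiniteType f)) (h.1 i).2, fun Z hZ z => ?_⟩
  obtain ⟨U, l, v, hl, hfl, hfp, hs⟩ := Groth.Agent.AlgSpLib.exists_fppf_family X.property (fun i => (Xi i).property) (fun i => (g i).hom) h z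
  haveI := hZ
  let E : PreZeroHypercover.{u} Z.left := ⟨ι, fun i => (U i).left, fun i => (v i).left⟩
  have hE : HTop.IsPhCover E := Groth.Agent.S7190.result E hfl hfp fun t => by
    obtain ⟨i, x, hx⟩ := hs t
    exact ⟨i, x, hx⟩
  obtain ⟨F, hF, hr⟩ := Groth.Agent.HTopPh.exists_refine hE (𝟙 Z.left)
  refine ⟨F, hF, fun j => ?_⟩
  obtain ⟨i, k, hk⟩ := hr j
  have hk' : k ≫ (v i).left = F.f j := hk.trans (Category.comp_id _)
  let a : Over.mk (F.f j ≫ Z.hom) ⟶ U i := Over.homMk k (by
    show k ≫ (U i).hom = F.f j ≫ Z.hom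
    rw [← Over.w (v i), reassoc_of% hk'])
  refine ⟨i, (AlgSp.yon S).map a ≫ l i, ?_⟩
  rw [Category.assoc, hl i, ← Functor.map_comp_assoc]
  congr 2
  exact Over.OverMorphism.ext hk'

end Groth.Agent.S10514
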