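import Groth.Statements.S10515
import Groth.Agent.EtQC.Chev.ProperCover
-- import your own Groth.Agent.* helpers here

set_option autoImplicit false
universe u
open CategoryTheory CategoryTheory.Limits AlgebraicGeometry
open AlgSp

namespace Groth.Agent.S10515

set_option backward.isDefEq.respectTransparency false
set_option backward.isDefEq.respectTransparency.types false
open Groth.Agent.EtQC Groth.Agent.AlgSpLib

/-- A proper (separated, of finite type, universally closed) and surjective morphism `f : Y ⟶ X` of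
algebraic spaces over `S` forms, on its own, a ph covering `{Y ⟶ X}` of `X`. -/
theorem result {S : Scheme.{u}} {X Y : AlgSp.Space S} (f : Y ⟶ X)
    (hf : AlgSp.IsProperMor f.hom) (hs : AlgSp.IsSurjectiveMor f.hom) :
    AlgSp.IsPhCover (fun _ : PUnit.{u + 1} => Y.obj) (fun _ => f.hom) := by
  refine ⟨fun _ => hf.2.1.1, fun Z hZ h => ?_⟩
  haveI := hZ
  have sq := IsPullback.of_hasPullback f.hom h
  let P : AlgSp.Space S := ⟨pullback f.hom h, isAlgSpace_of_isPullback sq Y.property (IsAlgSpace.yon_obj _) X.property⟩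
  let q : P.obj ⟶ (yon S).obj Z := pullback.snd f.hom h
  have hq : IsProperMor q := AlgSpPts.isProperMor_of_isPullback sq Y.property X.property (IsAlgSpace.yon_obj _) hf
  have hqc : IsQuasiCompactSp P.obj :=
    hf.2.1.2 (IsAlgSpace.yon_obj _) ((AlgSpPts.isQuasiCompactSp_yon_iff _).2 inferInstance) h _ _ sq
  obtain ⟨T, g, hg, hgs⟩ := Chev.ProperCover.exists_finite_cover P q hqc
    (repWith_mono (fun _ _ k (_ : IsClosedImmersion k) => (inferInstance : QuasiCompact k)) _ hq.1)
  obtain ⟨t, ht⟩ := (yon S).map_surjective (g ≫ q)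
  obtain ⟨hts, htu, htc⟩ := Chev.ProperCover.properties_comp P q hqc hq.1 hq.2.2 g hg t ht
  haveI := hts; haveI := htu; haveI := htc
  haveI : LocallyOfFiniteType t.left := (repWith_yon_map_iff _ _).1 (repWith_of_locP (IsAlgSpace.yon_obj _)
    (representable_yon_map t) (by
      rw [ht]
      exact locP_comp (IsAlgSpace.yon_obj _) P.property (IsAlgSpace.yon_obj _)
        (locP_of_repWith (repWith_mono (fun _ _ k (_ : IsFinite k) => (inferInstance : LocallyOfFiniteType k)) _ hg))
        hq.2.1.1))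
  haveI : IsProper t.left := { }
  haveI : Surjective t.left := (repWith_yon_map_iff _ _).1 ((repWith_surjective_iff (representable_yon_map t)).2
    (by
      rw [ht]
      intro z
      obtain ⟨x, hx⟩ := hs (Points.map h z)
      obtain ⟨w, -, hw⟩ := exists_point_of_isPullback sq hx
      obtain ⟨v, hv⟩ := hgs w
      exact ⟨v, by rw [Points.map_comp, hv, hw]⟩))
  let 𝒰 := T.left.affineCover.finiteSubcover
  obtain ⟨n, ⟨ε⟩⟩ := Finite.exists_equiv_fin 𝒰.I₀
  let F : PreZeroHypercover.{0} Z.left := ⟨Fin n, fun j => 𝒰.X (ε.symm j), fun j => 𝒰.f (ε.symm j) ≫ t.left⟩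
  refine ⟨F, ⟨hZ, inferInstanceAs (Finite (Fin n)), fun j => inferInstanceAs (IsAffine (T.left.affineCover.X _)),
    T.left, t.left, fun j => 𝒰.f (ε.symm j), inferInstance, inferInstance, fun j => inferInstance, fun j => rfl,
    fun x => ?_⟩, fun j => ?_⟩
  · obtain ⟨i, hi⟩ := 𝒰.exists_eq x
    refine ⟨ε i, ?_⟩
    show x ∈ Set.range (𝒰.f (ε.symm (ε i)))
    rw [Equiv.symm_apply_apply]
    exact hi
  · let k : Over.mk (F.f j ≫ Z.hom) ⟶ T := Over.homMk (𝒰.f (ε.symm j)) (by
      show 𝒰.f (ε.symm j) ≫ T.hom = (𝒰.f (ε.symm j) ≫ t.left) ≫ Z.hom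
      rw [Category.assoc, Over.w t])
    refine ⟨PUnit.unit, (yon S).map k ≫ g ≫ pullback.fst f.hom h, ?_⟩
    have hk : (yon S).map k ≫ (yon S).map t = (yon S).map (Over.homMk (F.f j) rfl : Over.mk (F.f j ≫ Z.hom) ⟶ Z) := by
      rw [← Functor.map_comp]
      exact congrArg (yon S).map (Over.OverMorphism.ext rfl)
    calc ((yon S).map k ≫ g ≫ pullback.fst f.hom h) ≫ f.hom
        = (yon S).map k ≫ g ≫ pullback.snd f.hom h ≫ h := by simp only [Category.assoc, sq.w]
      _ = ((yon S).map k ≫ (yon S).map t) ≫ h := by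
        refine Eq.trans (congrArg ((yon S).map k ≫ ·) ?_) (Category.assoc _ _ _).symm
        rw [← Category.assoc g, show g ≫ pullback.snd f.hom h = (yon S).map t from ht.symm]
      _ = _ := by rw [hk]

end Groth.Agent.S10515
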