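import Groth.Statements.S10517
import Groth.Agent.HTopPh.Refine
import Groth.Agent.AlgSpLib.LocP
import Groth.Agent.AlgSpLib.EtLocalInst

set_option autoImplicit false
universe u
open CategoryTheory CategoryTheory.Limits AlgebraicGeometry
open AlgSp

namespace Groth.Agent.S10517

/-- If `{X_i ⟶ X}` is a ph covering of the algebraic space `X` by algebraic spaces and each `X_i` has a
ph covering `{X_ij ⟶ X_i}` by algebraic spaces, then the composites `X_ij ⟶ X_i ⟶ X`, indexed by the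
pairs `(i, j)`, form a ph covering of `X`. -/
theorem result {S : Scheme.{u}} (X : AlgSp.Space S) {ι : Type u}
    (Xi : ι → AlgSp.Space S) (g : ∀ i, Xi i ⟶ X) (κ : ι → Type u) (Xij : ∀ i, κ i → AlgSp.Space S)
    (gij : ∀ i j, Xij i j ⟶ Xi i)
    (h : AlgSp.IsPhCover (fun i => (Xi i).obj) (fun i => (g i).hom))
    (hij : ∀ i, AlgSp.IsPhCover (fun j => (Xij i j).obj) (fun j => (gij i j).hom)) :
    AlgSp.IsPhCover (fun r : Σ i, κ i => (Xij r.1 r.2).obj) (fun r => (gij r.1 r.2 ≫ g r.1).hom) := by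
  refine ⟨fun r => Groth.Agent.AlgSpLib.locP_comp (Xij r.1 r.2).property (Xi r.1).property X.property ((hij r.1).1 r.2) (h.1 r.1), fun Z hZ z => ?_⟩
  obtain ⟨G, hG, hl⟩ := h.2 Z hZ z
  choose i l hl using hl
  haveI := hG.isAffine_obj
  choose H hH hH' using fun j => (hij (i j)).2 (Over.mk (G.f j ≫ Z.hom)) (hG.isAffine_obj j) (l j)
  obtain ⟨G', hG', ⟨r⟩⟩ := Groth.Agent.HTopPh.exists_standardPh_bind G hG H hH
  refine ⟨G', hG', fun j => ?_⟩
  obtain ⟨i', l', hl'⟩ := hH' (r.s₀ j).1 (r.s₀ j).2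
  let a : Over.mk (G'.f j ≫ Z.hom) ⟶ Over.mk ((H (r.s₀ j).1).f (r.s₀ j).2 ≫ G.f (r.s₀ j).1 ≫ Z.hom) :=
    Over.homMk (r.h₀ j) (by
      show r.h₀ j ≫ (H (r.s₀ j).1).f (r.s₀ j).2 ≫ G.f (r.s₀ j).1 ≫ Z.hom = G'.f j ≫ Z.hom
      rw [← r.w₀ j]
      show _ = (r.h₀ j ≫ (H (r.s₀ j).1).f (r.s₀ j).2 ≫ G.f (r.s₀ j).1) ≫ Z.hom
      simp only [Category.assoc])
  refine ⟨⟨i (r.s₀ j).1, i'⟩, (AlgSp.yon S).map a ≫ l', ?_⟩
  show ((AlgSp.yon S).map a ≫ l') ≫ (gij _ i').hom ≫ (g _).hom = _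
  rw [Category.assoc, reassoc_of% hl', hl, ← Functor.map_comp_assoc, ← Functor.map_comp_assoc]
  congr 2
  refine Over.OverMorphism.ext ?_
  exact r.w₀ j

end Groth.Agent.S10517
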