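import Groth.Statements.S10518
import Groth.Agent.S10514
import Groth.Agent.S10515
import Groth.Agent.EtQC.Chev.Chow
import Groth.Agent.AlgSpLib.EtaleSmoothLocal
import Groth.Agent.AlgSpLib.EtLocalInst
import Groth.Agent.AlgSpLib.LocalSourceInst
-- import your own Groth.Agent.* helpers here

set_option autoImplicit false
universe u w
open CategoryTheory CategoryTheory.Limits AlgebraicGeometry
open AlgSp

namespace Groth.Agent.S10518

set_option backward.isDefEq.respectTransparency false
set_option backward.isDefEq.respectTransparency.types false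

section
open Opposite Groth.Agent.AlgSpLib

variable {S : Scheme.{u}} {X : Space S}

/-- Pullback squares of the underlying sheaves give pullback squares of spaces over a space. -/
theorem exists_fst_snd {U V W : Over X} {f : V ⟶ U} {p q : W ⟶ V}
    (sq : IsPullback p.left.hom q.left.hom f.left.hom f.left.hom) {Z : Over X} (p₁ p₂ : Z ⟶ V)
    (h : p₁ ≫ f = p₂ ≫ f) : ∃ l : Z ⟶ W, l ≫ p = p₁ ∧ l ≫ q = p₂ := by
  have h' : p₁.left.hom ≫ f.left.hom = p₂.left.hom ≫ f.left.hom :=
    congrArg (fun k : Z ⟶ U => k.left.hom) h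
  let l₀ : Z.left ⟶ W.left := ObjectProperty.homMk (sq.lift _ _ h')
  have e₁ : l₀ ≫ p.left = p₁.left := ObjectProperty.hom_ext _ (sq.lift_fst _ _ h')
  have e₂ : l₀ ≫ q.left = p₂.left := ObjectProperty.hom_ext _ (sq.lift_snd _ _ h')
  refine ⟨Over.homMk l₀ ?_, Over.OverMorphism.ext e₁, Over.OverMorphism.ext e₂⟩
  rw [← Over.w p, ← Category.assoc, e₁, Over.w p₁]

/-- An etale covering is a ph covering. -/
theorem spacesTop_le_phSpacesTop : spacesTop S IsEtaleMor ≤ phSpacesTop S := by
  intro Y R hR
  induction hR with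
  | of Y P hP =>
    refine Precoverage.Saturate.of Y P ⟨fun Z g hg => locP_mono (P := @Etale) (Q := @LocallyOfFiniteType)
      (fun _ _ k (_ : Etale k) => inferInstanceAs (LocallyOfFiniteType k)) (locP_etale_of_isEtaleMor (hP.1 g hg)),
      fun Z hZ h => ?_⟩
    haveI := hZ
    choose Y' g hg hx using hP.2
    obtain ⟨A, a, ha, has⟩ := Y.property.atlas
    let ι := { x : A.left // True }
    let Xi : ι → Space S := fun v => Y' (Points.ofPt a v.1)
    let gi : ∀ v : ι, Xi v ⟶ Y := fun v => g (Points.ofPt a v.1)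
    have hc : IsFppfCover (fun v => (Xi v).obj) (fun v => (gi v).hom) := by
      refine ⟨fun v => ⟨?_, ?_⟩, fun x => ?_⟩
      · exact locP_mono (P := @Etale) (Q := @Flat) (fun _ _ k (_ : Etale k) => inferInstanceAs (Flat k))
          (locP_etale_of_isEtaleMor (hP.1 _ (hg _)))
      · exact locP_mono (P := @Etale) (Q := @LocallyOfFinitePresentation)
          (fun _ _ k (_ : Etale k) => inferInstanceAs (LocallyOfFinitePresentation k))
          (locP_etale_of_isEtaleMor (hP.1 _ (hg _)))
      · obtain ⟨z, hz⟩ := ((repWith_surjective_iff has.rep).1 has) x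
        obtain ⟨v, rfl⟩ := (Points.schemeEquiv A).surjective z
        refine ⟨⟨v, trivial⟩, ?_⟩
        have e : x = Points.ofPt a v := hz.symm.trans (Points.ofPt_eq_map_ofScheme _ _).symm
        exact e ▸ hx _
    obtain ⟨F, hF, hl⟩ := (S10514.result Y Xi gi hc).2 Z hZ h
    refine ⟨F, hF, fun j => ?_⟩
    obtain ⟨v, l, hlg⟩ := hl j
    exact ⟨_, _, hg _, l, hlg⟩
  | top Y => exact .top Y
  | pullback Y R _ Z f ih => exact .pullback Y R ih Z f
  | transitive Y R R' _ _ ih ih' => exact .transitive Y R R' ih ih'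

/-- A proper surjective morphism covers for the ph topology. -/
theorem generate_mem_ph {U V : Over X} (f : V ⟶ U) (hf : IsProperMor f.left.hom)
    (hs : IsSurjectiveMor f.left.hom) : Sieve.generate (Presieve.singleton f) ∈ phSpacesTopOver X U := by
  rw [GrothendieckTopology.mem_over_iff]
  have hc := S10515.result f.left hf hs
  refine GrothendieckTopology.superset_covering _ ?_
    (Precoverage.generate_mem_toGrothendieck (J := phSpacesPre S)
      ((ofArrows_mem_phSpacesPre_iff (fun _ : PUnit.{u + 1} => V.left) (fun _ => f.left)).2 hc))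
  rw [Sieve.generate_le_iff]
  rintro _ _ ⟨⟨⟩⟩
  rw [Sieve.overEquiv_iff]
  let e : (Over.mk (f.left ≫ U.hom) : Over X) ⟶ V := Over.homMk (𝟙 V.left)
    ((Category.id_comp _).trans (Over.w f).symm)
  exact ⟨V, e, f, Presieve.singleton.mk, Over.OverMorphism.ext (Category.id_comp _)⟩

variable (F : (Over X)ᵒᵖ ⥤ Type w)

/-- The sheaf condition for proper surjective morphisms. -/
def PropSurjCond : Prop :=
  ∀ ⦃U V W : Over X⦄ (f : V ⟶ U) (p q : W ⟶ V),
    AlgSp.IsProperMor f.left.hom → AlgSp.IsSurjectiveMor f.left.hom →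
    IsPullback p.left.hom q.left.hom f.left.hom f.left.hom →
    ∀ t : F.obj (Opposite.op V), F.map p.op t = F.map q.op t →
      ∃! s : F.obj (Opposite.op U), F.map f.op s = t

variable {F}

theorem singleton_mem_finest (hF : PropSurjCond F) {U V : Over X} (f : V ⟶ U) (hf : IsProperMor f.left.hom)
    (hs : IsSurjectiveMor f.left.hom) :
    Sieve.generate (Presieve.singleton f) ∈ Sheaf.finestTopologySingle F U := by
  intro U' g
  let sq₀ := IsPullback.of_hasPullback g.left.hom f.left.hom
  let P : Space S := ⟨pullback g.left.hom f.left.hom,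
    isAlgSpace_pullback U'.left.property V.left.property U.left.property _ _⟩
  let a : P ⟶ U'.left := ObjectProperty.homMk (pullback.fst g.left.hom f.left.hom)
  let b : P ⟶ V.left := ObjectProperty.homMk (pullback.snd g.left.hom f.left.hom)
  let V' : Over X := Over.mk (a ≫ U'.hom)
  let f' : V' ⟶ U' := Over.homMk a rfl
  have hab : a ≫ g.left = b ≫ f.left := ObjectProperty.hom_ext _ sq₀.w
  let g' : V' ⟶ V := Over.homMk b (by
    show b ≫ V.hom = a ≫ U'.hom
    rw [← Over.w f, ← Over.w g, reassoc_of% hab])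
  have hw : f' ≫ g = g' ≫ f := Over.OverMorphism.ext hab
  have e : (Sieve.generate (Presieve.singleton f)).pullback g = Sieve.generate (Presieve.singleton f') := by
    ext Z h
    constructor
    · rintro ⟨_, l, _, ⟨⟩, hl⟩
      have hl' : h.left.hom ≫ g.left.hom = l.left.hom ≫ f.left.hom :=
        (congrArg (fun k : Z ⟶ U => k.left.hom) hl).symm
      let m₀ : Z.left ⟶ P := ObjectProperty.homMk (pullback.lift h.left.hom l.left.hom hl')
      have hm : m₀ ≫ a = h.left := ObjectProperty.hom_ext _ (pullback.lift_fst _ _ _)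
      refine ⟨V', Over.homMk m₀ ?_, f', Presieve.singleton.mk, Over.OverMorphism.ext hm⟩
      show m₀ ≫ a ≫ U'.hom = Z.hom
      rw [← Category.assoc, hm, Over.w h]
    · rintro ⟨_, l, _, ⟨⟩, rfl⟩
      exact ⟨V, l ≫ g', f, Presieve.singleton.mk, by rw [Category.assoc, Category.assoc, hw]⟩
  rw [e, ← Presieve.isSheafFor_iff_generate, Presieve.isSheafFor_singleton]
  intro x hx
  have hf' : IsProperMor f'.left.hom :=
    AlgSpPts.isProperMor_of_isPullback sq₀.flip V.left.property U.left.property U'.left.property hf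
  have hs' : IsSurjectiveMor f'.left.hom := surjective_map_of_isPullback sq₀.flip hs
  let W₀ : Space S := ⟨pullback f'.left.hom f'.left.hom,
    isAlgSpace_pullback V'.left.property V'.left.property U'.left.property _ _⟩
  let c : W₀ ⟶ P := ObjectProperty.homMk (pullback.fst f'.left.hom f'.left.hom)
  let d : W₀ ⟶ P := ObjectProperty.homMk (pullback.snd f'.left.hom f'.left.hom)
  have hcd : c ≫ a = d ≫ a := ObjectProperty.hom_ext _ pullback.condition
  let W : Over X := Over.mk (c ≫ V'.hom)
  let p : W ⟶ V' := Over.homMk c rfl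
  let q : W ⟶ V' := Over.homMk d (by
    show d ≫ a ≫ U'.hom = c ≫ a ≫ U'.hom
    rw [reassoc_of% hcd])
  exact hF f' p q hf' hs' (IsPullback.of_hasPullback _ _) x
    (hx p q (Over.OverMorphism.ext hcd))

/-- A sheaf for etale coverings and proper surjective morphisms is one for ph coverings. -/
theorem isSheaf_ph (hE : Presieve.IsSheaf (spacesTopOver IsEtaleMor X) F) (hF : PropSurjCond F) :
    Presieve.IsSheaf (phSpacesTopOver X) F := by
  let T := Sheaf.finestTopologySingle F
  have hle : spacesTopOver IsEtaleMor X ≤ T := fun W R hR Y f => hE _ ((spacesTopOver IsEtaleMor X).pullback_stable f hR)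
  suffices h : ∀ (Y : Space S) (R : Sieve Y), R ∈ phSpacesTop S Y → ∀ (Z : Space S) (f : Z ⟶ Y) (x : Z ⟶ X),
      (Sieve.overEquiv (Over.mk x)).symm (R.pullback f) ∈ T (Over.mk x) by
    intro W R hR
    have h' := h W.left (Sieve.overEquiv W R) hR W.left (𝟙 _) W.hom
    rw [Sieve.pullback_id, show (Sieve.overEquiv (Over.mk W.hom)).symm (Sieve.overEquiv W R) = R from
      (Sieve.overEquiv W).symm_apply_apply R] at h'
    simpa using h' W (𝟙 W)
  intro Y R hR
  induction hR with
  | top Y => exact fun Z f x => by rw [Sieve.pullback_top, map_top]; exact T.top_mem _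
  | pullback Y R _ Z f ih => exact fun Z' f' x => by rw [← Sieve.pullback_comp]; exact ih Z' _ x
  | transitive Y R R' _ _ ih ih' =>
    intro Z f x
    refine T.transitive (ih Z f x) _ fun W g hg => ?_
    have h' := ih' ((Sieve.overEquiv_symm_iff (R.pullback f) g).1 hg) W.left (𝟙 _) W.hom
    rw [Sieve.pullback_id, Sieve.pullback_comp] at h'
    rw [← Sieve.overEquiv_symm_pullback]
    exact h'
  | of Y' P hP =>
    intro Y f x
    obtain ⟨A, a, ha, has⟩ := Y.property.atlas
    choose O hO hmem using fun v : ↥A.left =>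
      (exists_isAffineOpen_mem_and_subset (U := (⊤ : A.left.Opens)) (x := v) trivial)
    let Zv : ↥A.left → Over S := fun v => Over.mk ((O v).ι ≫ A.hom)
    let h : ∀ v, (yon S).obj (Zv v) ⟶ Y.obj := fun v => (yon S).map (Over.homMk (O v).ι rfl) ≫ a
    let Zs : ↥A.left → Space S := fun v => ⟨(yon S).obj (Zv v), IsAlgSpace.yon_obj _⟩
    let hs : ∀ v, Zs v ⟶ Y := fun v => ObjectProperty.homMk (h v)
    have hE' : Sieve.generate (Presieve.ofArrows Zs hs) ∈ spacesTop S IsEtaleMor Y := by
      refine Precoverage.generate_mem_toGrothendieck ⟨?_, fun z => ?_⟩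
      · rintro _ _ ⟨v⟩
        exact isEtaleMor_of_repWith (repWith_comp
          ((repWith_yon_map_iff _ _).2 (inferInstanceAs (Etale (O v).ι))) ha)
      · obtain ⟨z', hz⟩ := ((repWith_surjective_iff has.rep).1 has) z
        obtain ⟨v, rfl⟩ := (Points.schemeEquiv A).surjective z'
        refine ⟨_, hs v, ⟨v⟩, Points.ofScheme (Zv v) ⟨v, (hmem v).1⟩, ?_⟩
        rw [← hz, show (hs v).hom = (yon S).map (Over.homMk (O v).ι rfl) ≫ a from rfl, Points.map_comp]
        exact congrArg (Points.map a) (Points.map_yon_map_apply _ _)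
    have hE'' : (Sieve.overEquiv (Over.mk x)).symm (Sieve.generate (Presieve.ofArrows Zs hs)) ∈ T (Over.mk x) :=
      hle _ (by rw [GrothendieckTopology.mem_over_iff, OrderIso.apply_symm_apply]; exact hE')
    refine T.transitive hE'' _ fun Z g hg => ?_
    obtain ⟨_, k, _, ⟨v⟩, hk⟩ := (Sieve.overEquiv_symm_iff _ g).1 hg
    let B : Over X := Over.mk (hs v ≫ x)
    let k' : Z ⟶ B := Over.homMk k (by
      show k ≫ hs v ≫ x = Z.hom
      rw [← Category.assoc, hk]
      exact Over.w g)
    let m : B ⟶ Over.mk x := Over.homMk (hs v) rfl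
    rw [show g = k' ≫ m from Over.OverMorphism.ext hk.symm, Sieve.pullback_comp]
    refine T.pullback_stable k' ?_
    obtain ⟨G, hG, hl⟩ := hP.2 (Zv v) (hO v) (h v ≫ f.hom)
    obtain ⟨V, t, ι, hp, hsu, hι, hιt, hcov⟩ := hG.exists_proper
    let Vo : Over S := Over.mk (t ≫ (Zv v).hom)
    let t₀ : Vo ⟶ Zv v := Over.homMk t rfl
    let Vs : Space S := ⟨(yon S).obj Vo, IsAlgSpace.yon_obj _⟩
    let ts : Vs ⟶ Zs v := ObjectProperty.homMk ((yon S).map t₀)
    let C : Over X := Over.mk (ts ≫ B.hom)
    let fC : C ⟶ B := Over.homMk ts rfl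
    have hfC : Sieve.generate (Presieve.singleton fC) ∈ T B := singleton_mem_finest hF fC
      (EtQC.Chev.Chow.isProperMor_of_repWith ((repWith_yon_map_iff _ t₀).2 hp))
      ((repWith_surjective_iff (representable_yon_map t₀)).1 ((repWith_yon_map_iff _ t₀).2 hsu))
    refine T.transitive hfC _ fun Z' g' hg' => ?_
    obtain ⟨_, k₂, _, ⟨⟩, rfl⟩ := hg'
    rw [Sieve.pullback_comp]
    refine T.pullback_stable k₂ ?_
    let Wj : G.I₀ → Over S := fun j => Over.mk (G.f j ≫ (Zv v).hom)
    let wj : ∀ j, Wj j ⟶ Vo := fun j => Over.homMk (ι j) (by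
      show ι j ≫ t ≫ (Zv v).hom = _
      rw [← Category.assoc, hιt]
      rfl)
    let Ws : G.I₀ → Space S := fun j => ⟨(yon S).obj (Wj j), IsAlgSpace.yon_obj _⟩
    let ws : ∀ j, Ws j ⟶ Vs := fun j => ObjectProperty.homMk ((yon S).map (wj j))
    have hZ' : Sieve.generate (Presieve.ofArrows Ws ws) ∈ spacesTop S IsEtaleMor Vs := by
      refine Precoverage.generate_mem_toGrothendieck ⟨?_, fun z => ?_⟩
      · rintro _ _ ⟨j⟩
        haveI := hι j
        exact isEtaleMor_of_repWith ((repWith_yon_map_iff _ (wj j)).2 (inferInstanceAs (Etale (ι j))))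
      · obtain ⟨z', rfl⟩ := (Points.schemeEquiv Vo).surjective z
        obtain ⟨j, w', hw⟩ := hcov z'
        refine ⟨_, ws j, ⟨j⟩, Points.ofScheme (Wj j) w', ?_⟩
        exact (Points.map_yon_map_apply _ _).trans (congrArg (Points.ofScheme Vo) hw)
    refine hle _ ?_
    rw [GrothendieckTopology.mem_over_iff, Sieve.overEquiv_pullback, Sieve.overEquiv_pullback,
      OrderIso.apply_symm_apply]
    refine GrothendieckTopology.superset_covering _ ?_ hZ'
    rw [Sieve.generate_le_iff]
    rintro _ _ ⟨j⟩
    obtain ⟨Y'', g', hg', l, hlg⟩ := hl j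
    refine ⟨Y'', ObjectProperty.homMk l, g', hg', ObjectProperty.hom_ext _ ?_⟩
    show l ≫ g'.hom = ((yon S).map (wj j) ≫ (yon S).map t₀ ≫ h v) ≫ f.hom
    have e : (yon S).map (wj j) ≫ (yon S).map t₀ = (yon S).map (Over.homMk (G.f j) rfl : Wj j ⟶ Zv v) := by
      rw [← Functor.map_comp]
      exact congrArg (yon S).map (Over.OverMorphism.ext (hιt j))
    rw [← Category.assoc ((yon S).map (wj j)), e, Category.assoc]
    exact hlg

end

/-- A presheaf of types `F` on algebraic spaces over the algebraic space `X` is a sheaf for the big ph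
topology of `X` if and only if it is a sheaf for the big etale topology of `X` and, for every proper
surjective morphism `f : V ⟶ U` of algebraic spaces over `X` with `W = V ×_U V` (any pullback square
of sheaves with projections `p`, `q`), the sections of `F` over `U` map bijectively onto the
sections `t` over `V` with `F(p) t = F(q) t`. -/
theorem result {S : Scheme.{u}} (X : AlgSp.Space S) (F : (Over X)ᵒᵖ ⥤ Type w) :
    Presheaf.IsSheaf (AlgSp.phSpacesTopOver X) F ↔
      Presheaf.IsSheaf (AlgSp.spacesTopOver AlgSp.IsEtaleMor X) F ∧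
      ∀ ⦃U V W : Over X⦄ (f : V ⟶ U) (p q : W ⟶ V),
        AlgSp.IsProperMor f.left.hom → AlgSp.IsSurjectiveMor f.left.hom →
        IsPullback p.left.hom q.left.hom f.left.hom f.left.hom →
        ∀ t : F.obj (Opposite.op V), F.map p.op t = F.map q.op t →
          ∃! s : F.obj (Opposite.op U), F.map f.op s = t := by
  rw [isSheaf_iff_isSheaf_of_type, isSheaf_iff_isSheaf_of_type]
  refine ⟨fun h => ⟨fun W R hR => h R ?_, fun U V W f p q hf hs sq t ht => ?_⟩, fun ⟨hE, hF⟩ => isSheaf_ph hE hF⟩
  · rw [GrothendieckTopology.mem_over_iff] at hR ⊢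
    exact spacesTop_le_phSpacesTop _ hR
  · have h' := h _ (generate_mem_ph f hf hs)
    rw [← Presieve.isSheafFor_iff_generate, Presieve.isSheafFor_singleton] at h'
    refine h' t fun p₁ p₂ he => ?_
    obtain ⟨l, rfl, rfl⟩ := exists_fst_snd sq p₁ p₂ he
    rw [op_comp, op_comp, FunctorToTypes.map_comp_apply, FunctorToTypes.map_comp_apply, ht]

end Groth.Agent.S10518
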