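import Groth.Statements.S10579
import Groth.Agent.IntBC.UnibranchDescent
import Groth.Agent.AlgSpLib.Rep
import Groth.Agent.AlgSpLib.OpenMor
import Groth.Agent.AlgStLib.Charts

set_option backward.isDefEq.respectTransparency false
set_option backward.isDefEq.respectTransparency.types false

set_option autoImplicit false
universe u
open CategoryTheory CategoryTheory.Limits AlgebraicGeometry
open AlgSp

namespace Groth.Agent.S10579

/-- Let f : X ⟶ Y be a morphism of algebraic spaces over S and x ∈ |X|. If X is geometrically unibranch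
at x and f is flat at x, then Y is geometrically unibranch at the image point f(x). Here an
algebraic space is geometrically unibranch at a point when for every etale chart from a scheme U and
every point u of U over it the local ring of U at u is geometrically unibranch. -/
theorem result {S : Scheme.{u}} {X Y : AlgSp.Space S} (f : X ⟶ Y) (x : AlgSp.Points X.obj)
    (hf : AlgSp.IsFlatAtMor f.hom x)
    (hX : ∀ (U : Over S) (a : (AlgSp.yon S).obj U ⟶ X.obj) (v : ↥U.left), AlgSp.RepWith @Etale a →
      AlgSp.Points.ofPt a v = x → CAlg2.IsGeomUnibranch ↥(U.left.presheaf.stalk v))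
    (V : Over S) (b : (AlgSp.yon S).obj V ⟶ Y.obj) (w : ↥V.left) (hb : AlgSp.RepWith @Etale b)
    (hw : AlgSp.Points.ofPt b w = AlgSp.Points.map f.hom x) :
    CAlg2.IsGeomUnibranch ↥(V.left.presheaf.stalk w) := by
  obtain ⟨q, hq₁, hq₂⟩ := AlgSpLib.exists_point_of_isPullback (IsPullback.of_hasPullback f.hom b)
    (x := x) (y := Points.ofScheme V w) (by rw [← Points.ofPt_eq_map_ofScheme]; exact hw.symm)
  have hP : IsAlgSpace (pullback f.hom b) :=
    AlgSpLib.isAlgSpace_pullback X.property (IsAlgSpace.yon_obj V) Y.property _ _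
  obtain ⟨U, p, hp, hp'⟩ := hP.atlas
  obtain ⟨u, rfl⟩ := AlgSpLib.surjective_ofPt hp' q
  have ha : RepWith @Etale (p ≫ pullback.fst f.hom b) := AlgSpLib.repWith_comp hp (AlgSpLib.repWith_fst f.hom hb)
  obtain ⟨h, hh⟩ := (yon S).map_surjective (p ≫ pullback.snd f.hom b)
  have hax : Points.ofPt (p ≫ pullback.fst f.hom b) u = x := by rw [← hq₁, Points.map_ofPt]
  have hflat := hf (p ≫ pullback.fst f.hom b) b h u ha hb
    (by rw [Category.assoc, pullback.condition, ← Category.assoc, hh]) hax
  have hu : h.left u = w := by
    refine (Points.schemeHomeo V).injective ?_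
    rw [← Points.map_yon_map_apply, hh, Points.map_comp]
    show Points.map _ (Points.map p (Points.ofScheme U u)) = Points.ofScheme V w
    rw [← Points.ofPt_eq_map_ofScheme, hq₂]
  subst hu
  have := hX U (p ≫ pullback.fst f.hom b) u ha hax
  let := (h.left.stalkMap u).hom.toAlgebra
  have : Module.Flat ↥(V.left.presheaf.stalk (h.left u)) ↥(U.left.presheaf.stalk u) := hflat
  have : IsLocalHom (algebraMap ↥(V.left.presheaf.stalk (h.left u)) ↥(U.left.presheaf.stalk u)) :=
    inferInstanceAs (IsLocalHom (h.left.stalkMap u).hom)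
  exact IntBC.isGeomUnibranch_descent (B := ↥(U.left.presheaf.stalk u)) ‹_›

end Groth.Agent.S10579
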