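import Groth.Statements.S10585
import Groth.Agent.S10046
import Groth.Agent.S10607
-- import your own Groth.Agent.* helpers here

set_option autoImplicit false
universe u
open CategoryTheory CategoryTheory.Limits AlgebraicGeometry
open AlgSp

namespace Groth.Agent.S10585

set_option backward.isDefEq.respectTransparency false
set_option backward.isDefEq.respectTransparency.types false
set_option maxHeartbeats 800000
open Groth.Agent.EtQC Groth.Agent.AlgSpLib

/-- Take a representable morphism f : X ⟶ Y of algebraic spaces over S that is integral, universally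
injective and surjective. Then the base change functor from the small etale site of Y (schemes etale
over Y) to the small etale site of X is an equivalence of categories, and a scheme etale over Y is
affine if and only if its base change to X is affine. (An integral morphism is representable; the
representability hypothesis is carried to name the base change functor.) -/
theorem result {S : Scheme.{u}} {X Y : AlgSp.Space S}
    (f : X ⟶ Y) (hf : AlgSp.Representable f.hom) (h1 : AlgSp.IsIntegralMor f.hom)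
    (h2 : AlgSp.IsUnivInjectiveMor f.hom) (h3 : AlgSp.IsSurjectiveMor f.hom) :
    (AlgSp.EtOver.bc hf).IsEquivalence ∧
    ∀ E : AlgSp.EtOver Y.obj, IsAffine E.obj.left.left ↔ IsAffine ((AlgSp.EtOver.bc hf).obj E).obj.left.left := by
  have hi := AlgSpDec.isIntegralMor_iff_repWith.1 h1
  have hh := AlgSpTopInv.repWith_isUnivHomeo f h1 h2 h3
  have hu : AlgSp.RepWith (@UniversallyInjective : MorphismProperty Scheme.{u}) f.hom :=
    repWith_mono (fun _ _ g hg => ⟨MorphismProperty.universally_mono (fun _ _ _ h => h.injective) _ hg⟩) _ hh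
  have hs := repWith_surjective_of_surjective hi.rep h3
  have huc : AlgSp.RepWith @UniversallyClosed f.hom :=
    repWith_mono (fun _ _ k (_ : IsIntegralHom k) => (inferInstance : UniversallyClosed k)) _ hi
  have hext : ∀ (E₁ E₂ : AlgSp.EtOver Y.obj) (φ : EtOver.bcObj hf E₁ ⟶ EtOver.bcObj hf E₂),
      ∃! g : E₁ ⟶ E₂, EtOver.bcMap hf g = φ := fun E₁ E₂ φ => by
    have hle := (isEtaleMor_iff_locP (AlgSp.IsAlgSpace.yon_obj E₂.obj.left) Y.property E₂.obj.hom).1
      (AlgSp.isEtaleMor_of_repWith _ E₂.property)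
    obtain ⟨ψ, ⟨hψ1, hψ2⟩, huniq⟩ := AlgSpTopInv.existsUnique_hom X.property Y.property
      (AlgSp.IsAlgSpace.yon_obj E₁.obj.left) (AlgSp.IsAlgSpace.yon_obj E₂.obj.left) hh E₁.obj.hom E₂.obj.hom
      (EtOver.bcObj hf E₁).obj.hom (EtOver.bcObj hf E₂).obj.hom
      ((AlgSp.yon S).map (EtOver.bcπ hf E₁)) ((AlgSp.yon S).map (EtOver.bcπ hf E₂)) hle
      (EtOver.isPullback_bcObj hf E₁) (EtOver.isPullback_bcObj hf E₂) ((AlgSp.yon S).map φ.hom.left) (EtOver.w φ)
    obtain ⟨m, rfl⟩ := (AlgSp.yon S).map_surjective ψ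
    refine ⟨EtOver.homMk m hψ1, ?_, fun g hg => ?_⟩
    · refine EtOver.hom_ext _ _ (hf.hom_ext ?_ ?_)
      · rw [EtOver.map_bcMap_fst]
        exact (EtOver.w φ).symm
      · rw [EtOver.bcMap_snd]
        exact (AlgSp.yon S).map_injective ((((AlgSp.yon S).map_comp _ _).trans hψ2).trans ((AlgSp.yon S).map_comp _ _).symm)
    · refine EtOver.hom_ext _ _ ((AlgSp.yon S).map_injective (huniq _ ⟨EtOver.w g, ?_⟩))
      rw [← Functor.map_comp, ← Functor.map_comp, ← hg, EtOver.bcMap_snd]
  refine ⟨{ faithful := ⟨fun {E₁ E₂} g g' h => (hext E₁ E₂ _).unique h rfl⟩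
            full := ⟨fun {E₁ E₂} φ => (hext E₁ E₂ φ).exists⟩
            essSurj := ⟨fun E' => ?_⟩ }, fun E => ⟨fun hE => ?_, fun hE => ?_⟩⟩
  · obtain ⟨V', a, c, hV', ha, sq⟩ := AlgSpTopInv.exists_descent X.property Y.property
      (AlgSp.IsAlgSpace.yon_obj E'.obj.left) hi hu hs hh E'.obj.hom
      ((isEtaleMor_iff_locP (AlgSp.IsAlgSpace.yon_obj _) X.property _).1 (AlgSp.isEtaleMor_of_repWith _ E'.property))
    have hci : AlgSp.RepWith @IsIntegralHom c := repWith_of_isPullback sq hi
    have hcs : AlgSp.RepWith @Surjective c := repWith_of_isPullback sq hs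
    have hcu : AlgSp.RepWith (@UniversallyInjective : MorphismProperty Scheme.{u}) c := repWith_of_isPullback sq hu
    have hrep := (S10046.result S (X := ⟨(AlgSp.yon S).obj E'.obj.left, AlgSp.IsAlgSpace.yon_obj _⟩) (Y := ⟨V', hV'⟩)
      (ObjectProperty.homMk c) (AlgSpDec.isIntegralMor_iff_repWith.2 hci)
      ⟨AlgSpPts.injective_map (repWith_mono (fun _ _ g (_ : UniversallyInjective g) => g.injective) _ hcu),
        (repWith_surjective_iff hcs.rep).1 hcs⟩).1 (AlgSpDec.isRepresentable_of_iso (Iso.refl _))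
    obtain ⟨T', ⟨r⟩⟩ := hrep.has_representation
    let e := AlgSp.isoOfRepresentableBy r
    let E : AlgSp.EtOver Y.obj := EtOver.mk (e.hom ≫ a) (ha e.hom (repWith_of_isIso _ _))
    obtain ⟨m, hm⟩ := (AlgSp.yon S).map_surjective (c ≫ e.inv)
    have sq' : IsPullback E'.obj.hom ((AlgSp.yon S).map m) f.hom E.obj.hom :=
      sq.of_iso (Iso.refl _) (Iso.refl _) e.symm (Iso.refl _) (by simp) (by simp [hm]) (by simp) (by
        show a ≫ 𝟙 _ = e.inv ≫ e.hom ≫ a
        rw [Category.comp_id, Iso.inv_hom_id_assoc])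
    let i : (EtOver.bcObj hf E).obj.left ≅ E'.obj.left :=
      (AlgSp.yon S).preimageIso ((EtOver.isPullback_bcObj hf E).isoIsPullback _ _ sq')
    have hi1 : (AlgSp.yon S).map i.hom ≫ E'.obj.hom = (EtOver.bcObj hf E).obj.hom := by
      simp only [i, Functor.preimageIso_hom, Functor.map_preimage]
      exact IsPullback.isoIsPullback_hom_fst _ _ _ _
    have hi2 : (AlgSp.yon S).map i.inv ≫ (EtOver.bcObj hf E).obj.hom = E'.obj.hom := by
      rw [← hi1, ← Category.assoc, ← Functor.map_comp, i.inv_hom_id, CategoryTheory.Functor.map_id, Category.id_comp]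
    exact ⟨E, ⟨⟨EtOver.homMk i.hom hi1, EtOver.homMk i.inv hi2,
      EtOver.hom_ext _ _ i.hom_inv_id, EtOver.hom_ext _ _ i.inv_hom_id⟩⟩⟩
  · haveI := hE
    exact WeakAssEtLib.isAffine_bcObj hf (AlgSpDec.isAffineMor_of_repWith (fun _ _ g (_ : IsIntegralHom g) =>
      (inferInstance : IsAffineHom g)) hi) E hE
  · haveI : IsAffine (EtOver.bcObj hf E).obj.left.left := hE
    have sq := EtOver.isPullback_bcObj hf E
    obtain ⟨R, hR, ⟨e⟩⟩ := Chev.exists_iso_of_univClosed ⟨(AlgSp.yon S).obj E.obj.left, AlgSp.IsAlgSpace.yon_obj _⟩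
      ((AlgSp.yon S).map (EtOver.bcπ hf E)) (repWith_of_isPullback sq huc) (repWith_of_isPullback sq hs)
    haveI := hR
    haveI : IsIso ((AlgSp.yon S).preimageIso e).hom.left :=
      inferInstanceAs (IsIso ((Over.forget S).map ((AlgSp.yon S).preimageIso e).hom))
    exact IsAffine.of_isIso (inv ((AlgSp.yon S).preimageIso e).hom.left)

end Groth.Agent.S10585
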