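import Groth.Statements.S10614
import Groth.Agent.AlgSpDec.MonoTfae

set_option autoImplicit false
set_option backward.isDefEq.respectTransparency false
set_option backward.isDefEq.respectTransparency.types false
open AlgSp Groth.Agent.AlgSpDec
universe u
open CategoryTheory CategoryTheory.Limits AlgebraicGeometry
open AlgSp

namespace Groth.Agent.S10614

/-- For a morphism f : X ⟶ Y of algebraic spaces over S, being a closed immersion (representable by
closed immersions) is equivalent to each of: (a) universally closed plus unramified plus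
monomorphism; (b) universally closed plus unramified plus universally injective; (c) a universally
closed monomorphism that is locally of finite type; (d) universally closed, universally injective,
locally of finite type and formally unramified (lifting sense). (Unramified is the etale-local
condition locally of finite type and formally unramified on charts; monomorphisms are taken in fppf
sheaves.) -/
theorem result {S : Scheme.{u}} {X Y : AlgSp.Space S} (f : X ⟶ Y) :
    (AlgSp.RepWith @IsClosedImmersion f.hom ↔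
      (AlgSp.IsUnivClosedMor f.hom ∧ AlgSp.LocP (@LocallyOfFiniteType ⊓ @FormallyUnramified) f.hom ∧ Mono f.hom)) ∧
    (AlgSp.RepWith @IsClosedImmersion f.hom ↔
      (AlgSp.IsUnivClosedMor f.hom ∧ AlgSp.LocP (@LocallyOfFiniteType ⊓ @FormallyUnramified) f.hom ∧ AlgSp.IsUnivInjectiveMor f.hom)) ∧
    (AlgSp.RepWith @IsClosedImmersion f.hom ↔
      (AlgSp.IsUnivClosedMor f.hom ∧ AlgSp.LocP @LocallyOfFiniteType f.hom ∧ Mono f.hom)) ∧
    (AlgSp.RepWith @IsClosedImmersion f.hom ↔
      (AlgSp.IsUnivClosedMor f.hom ∧ AlgSp.IsUnivInjectiveMor f.hom ∧ AlgSp.LocP @LocallyOfFiniteType f.hom ∧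
        AlgSp.IsFormallyUnramifiedMor f.hom)) := by
  have hu := locP_lft_unramified_iff X.property Y.property f.hom
  have key := repWith_isClosedImmersion_iff X.property Y.property f.hom
  refine ⟨key.trans ⟨fun ⟨h1, h2, h3⟩ => ⟨h1, hu.2 ⟨h2, isFormallyUnramifiedMor_of_mono⟩, h3⟩,
      fun ⟨h1, h2, h3⟩ => ⟨h1, (hu.1 h2).1, h3⟩⟩,
    key.trans ⟨fun ⟨h1, h2, h3⟩ => ⟨h1, hu.2 ⟨h2, isFormallyUnramifiedMor_of_mono⟩, isUnivInjectiveMor_of_mono⟩,
      fun ⟨h1, h2, h3⟩ => ⟨h1, (hu.1 h2).1,
        mono_of_unramified_univInjective X.property Y.property _ (hu.1 h2).1 (hu.1 h2).2 h3⟩⟩,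
    key,
    key.trans ⟨fun ⟨h1, h2, h3⟩ => ⟨h1, isUnivInjectiveMor_of_mono, h2, isFormallyUnramifiedMor_of_mono⟩,
      fun ⟨h1, h2, h3, h4⟩ => ⟨h1, h3, mono_of_unramified_univInjective X.property Y.property _ h3 h4 h2⟩⟩⟩

end Groth.Agent.S10614
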