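import Groth.Statements.S1063
import Groth.Agent.PerfGen7.ResDescend
import Groth.Agent.AmpleVan.AdicBase

set_option autoImplicit false
universe u
open CategoryTheory AlgebraicGeometry
open Perf

namespace Groth.Agent.S1063


set_option linter.style.haveILetI false
set_option backward.isDefEq.respectTransparency false
set_option backward.isDefEq.respectTransparency.types false

namespace ResDescendProof

open AlgebraicGeometry CategoryTheory CategoryTheory.Limits TopologicalSpace Opposite
open Groth.Agent Groth.Agent.KFlatLib Groth.Agent.PerfGen7.ResDescend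
open RefHull (homSh)

theorem nontrivial_stalk_push {X Y : Scheme.{u}} (f : X ⟶ Y) [Surjective f] (y : Y) :
    Nontrivial (((Scheme.Modules.pushforward f).obj (Coh.structureModule X)).presheaf.stalk y) := by
  let P := (Scheme.Modules.pushforward f).obj (Coh.structureModule X)
  refine nontrivial_of_ne (P.presheaf.germ ⊤ y trivial (1 : Γ(X, f ⁻¹ᵁ ⊤))) 0 fun h => ?_
  obtain ⟨x, hx⟩ := f.surjective y
  have h' : P.presheaf.germ ⊤ y trivial (1 : Γ(X, f ⁻¹ᵁ ⊤)) = P.presheaf.germ ⊤ y trivial (0 : Γ(X, f ⁻¹ᵁ ⊤)) :=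
    h.trans (map_zero _).symm
  obtain ⟨W, hyW, i, j, hij⟩ := TopCat.Presheaf.germ_eq (C := AddCommGrpCat.{u}) P.presheaf (U := ⊤) (V := ⊤) y trivial trivial _ _ h'
  have hxW : x ∈ f ⁻¹ᵁ W := by
    show f x ∈ W
    rw [hx]; exact hyW
  have h1 : (1 : Γ(X, f ⁻¹ᵁ W)) = 0 := by
    refine Eq.trans ?_ (hij.trans (map_zero _))
    exact (map_one (X.presheaf.map ((Opens.map f.base).map i).op).hom).symm
  have h2 := congrArg (X.presheaf.germ (f ⁻¹ᵁ W) x hxW) h1
  rw [map_one, map_zero] at h2
  exact one_ne_zero h2

theorem resolution {X Y : Scheme.{u}} (f : X ⟶ Y) (hf : Mor2.IsFinLocFree f) [Surjective f]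
    (hX : PerfAux.HasResolutionProperty X) : PerfAux.HasResolutionProperty Y := by
  intro F hF hFT
  haveI := hf.1
  let P := (Scheme.Modules.pushforward f).obj (Coh.structureModule X)
  let H := homSh P (Coh.structureModule Y)
  obtain ⟨E, π, hE, _⟩ := hX ((Scheme.Modules.pullback f).obj F) (QCoh.isQCoh_pullback f hF)
    (QCoh.isFT_pullback f hF hFT)
  obtain ⟨e⟩ := nonempty_proj f hf F hF
  have hP : FlatMod.IsFinLocFree P := isFinLocFree_pushforward f hf
    (H23.PullPush.isFinLocFree_of_isInvertible InvX.isInvertible_structureModule)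
  have hH := isFinLocFree_dual hP
  have hpE := isFinLocFree_pushforward f hf hE
  let φ : (Scheme.Modules.pushforward f).obj E ⟶ (DCoh.tensorBi.obj P).obj F :=
    (Scheme.Modules.pushforward f).map π ≫ e.inv
  haveI : Epi ((Scheme.Modules.pushforward f).map π) :=
    Groth.Agent.AmpleVan.epi_push f (QCoh.isQCoh_of_isFinLocFree hE) (QCoh.isQCoh_pullback f hF) π
  haveI : Epi φ := epi_comp _ _
  haveI := epi_ev hP (nontrivial_stalk_push f)
  let evT : (DCoh.tensorBi.obj H).obj P ⟶ Coh.structureModule Y := ev P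
  haveI : Epi evT := inferInstanceAs (Epi (ev P))
  let a := assocShP (DCoh.toP.obj H) (DCoh.toP.obj P) (DCoh.toP.obj F)
  let eO : (DCoh.tensorBi.obj (Coh.structureModule Y)).obj F ≅ F :=
    (((tensorBiFlipIso Y).app (Coh.structureModule Y)).app F).symm ≪≫ (tensorStructureIso Y).app F
  haveI : Epi ((DCoh.tensorBi.map evT).app F) := inferInstanceAs (Epi ((DCoh.tensorBi.flip.obj F).map evT))
  haveI : Epi ((DCoh.tensorBi.obj H).map φ) := inferInstance
  refine ⟨(DCoh.tensorBi.obj H).obj ((Scheme.Modules.pushforward f).obj E),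
    (DCoh.tensorBi.obj H).map φ ≫ a.inv ≫ (DCoh.tensorBi.map evT).app F ≫ eO.hom,
    isFinLocFree_tensor hH hpE, ?_⟩
  infer_instance

end ResDescendProof


/-- The resolution property descends along a surjective, finite locally free morphism f : X ⟶ Y; if
every finite-type quasi-coherent module on X is a quotient of a vector bundle, the same is true on
Y. -/
theorem result {X Y : Scheme.{u}} (f : X ⟶ Y) (hf : Mor2.IsFinLocFree f) [Surjective f]
    (hX : PerfAux.HasResolutionProperty X) : PerfAux.HasResolutionProperty Y := by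
  exact ResDescendProof.resolution f hf hX

end Groth.Agent.S1063
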