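import Groth.Statements.S10635
import Groth.Agent.AlgSpUnivThick.InfNbhd

set_option autoImplicit false
set_option backward.isDefEq.respectTransparency false
set_option backward.isDefEq.respectTransparency.types false
universe u
open CategoryTheory CategoryTheory.Limits AlgebraicGeometry
open AlgSp

namespace Groth.Agent.S10635

/-- Take an immersion i : Z ⟶ X of algebraic spaces over S, written as a closed immersion c : Z ⟶ U
followed by an open immersion u : U ⟶ X, and let (j : Z ⟶ Z₁, k : Z₁ ⟶ U) be the first order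
infinitesimal neighbourhood of Z in U. Then (j, k ≫ u) is a universal first order thickening of Z
over X. -/
theorem result {S : Scheme.{u}} {Z U X Z₁ : AlgSp.Space S} (c : Z ⟶ U)
    (hc : AlgSp.RepWith @IsClosedImmersion c.hom) (u : U ⟶ X) (hu : AlgSp.RepWith @IsOpenImmersion u.hom)
    (j : Z ⟶ Z₁) (k : Z₁ ⟶ U) (hN : AlgSp.IsInfNbhd 1 c.hom j.hom k.hom) :
    AlgSp.IsUnivFOThick (c ≫ u).hom j.hom (k ≫ u).hom := by
  have hu' : AlgSp.IsEtaleMor u.hom := Groth.Agent.AlgSpLib.isEtaleMor_of_repWith
    (Groth.Agent.AlgSpLib.repWith_mono (fun _ _ f (hf : IsOpenImmersion f) => (inferInstance : Etale f)) _ hu)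
  exact Groth.Agent.AlgSpUnivThick.isUnivFOThick_comp
    (Groth.Agent.AlgSpUnivThick.isUnivFOThick_infNbhd U.property hN)
    (Groth.Agent.AlgSpLib.isFormallyEtaleMor_of_isEtaleMor U.property hu')

end Groth.Agent.S10635
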