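import Groth.Statements.S10644
import Groth.Agent.AlgSpDec.FlatWhere

set_option autoImplicit false
universe u
open CategoryTheory CategoryTheory.Limits AlgebraicGeometry
open AlgSp

namespace Groth.Agent.S10644

/-- For morphisms f : X ⟶ Y, p : X ⟶ Z and q : Y ⟶ Z of algebraic spaces over S with f ≫ q = p, where p
is flat, universally closed and locally of finite presentation and q is closed, separated and
locally of finite type, there is an open subspace W of Z with the following property: a morphism of
algebraic spaces g : Z' ⟶ Z factors through W exactly when the base change X' ⟶ Y' of f along g is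
an isomorphism. Here the base change of f along g is any f' : X' ⟶ Y' obtained from pullback squares
Y' = Y ×_Z Z' and X' = X ×_Y Y' of algebraic spaces over S, and W ⊂ Z is given as a representable
open immersion w : W ⟶ Z. -/
theorem result {S : Scheme.{u}} {X Y Z : AlgSp.Space S}
    (f : X ⟶ Y) (p : X ⟶ Z) (q : Y ⟶ Z) (hc : f ≫ q = p)
    (hp1 : AlgSp.LocP @LocallyOfFinitePresentation p.hom) (hp2 : AlgSp.LocP @Flat p.hom)
    (hp3 : AlgSp.IsUnivClosedMor p.hom) (hq1 : AlgSp.LocP @LocallyOfFiniteType q.hom)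
    (hq2 : AlgSp.IsClosedMor q.hom) (hq3 : AlgSp.IsSeparatedMor q.hom) :
    ∃ (W : AlgSp.Space S) (w : W ⟶ Z), AlgSp.RepWith @IsOpenImmersion w.hom ∧
      ∀ (Z' : AlgSp.Space S) (g : Z' ⟶ Z),
        (∃ k : Z' ⟶ W, k ≫ w = g) ↔
          ∀ (Y' : AlgSp.Space S) (gY : Y' ⟶ Y) (q' : Y' ⟶ Z'),
            IsPullback gY.hom q'.hom q.hom g.hom →
            ∀ (X' : AlgSp.Space S) (gX : X' ⟶ X) (f' : X' ⟶ Y'),
              IsPullback gX.hom f'.hom f.hom gY.hom →
                IsIso f'.hom := by
  have hc' : f.hom ≫ q.hom = p.hom := congrArg (·.hom) hc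
  have hl : AlgSp.LocP @LocallyOfFiniteType p.hom := fun U V a b k ha hb w =>
    have : LocallyOfFinitePresentation k.left := hp1 a b k ha hb w
    (inferInstance : LocallyOfFiniteType k.left)
  have hcl : AlgSp.IsClosedMor p.hom := hp3 Z.property (𝟙 _) (𝟙 _) _ (IsPullback.of_horiz_isIso ⟨by simp⟩)
  refine Groth.Agent.AlgSpDec.UnramWhere.exists_open_of_iff f q
    (IsOpen.inter (Groth.Agent.AlgSpDec.FlatWhere.isOpen_closedZ (f := f.hom) X.property Y.property Z.property hc' hl hp3 hq3)
      (Groth.Agent.AlgSpDec.FlatWhere.isOpen_surjFlatZ (f := f.hom) X.property Y.property Z.property hc' hp1 hp2 hcl hq1 hq2))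
    (P := fun _ _ φ => IsIso φ)
    fun {Z' X' Y'} g gY q' sY gX f' sX => ?_
  exact Groth.Agent.AlgSpDec.FlatWhere.iso_iff X.property Y.property Z.property hc' hp1 hp2 hl hp3 hq1 hq3 Z'.property Y'.property sY sX

end Groth.Agent.S10644
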