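import Groth.Statements.S10647
import Groth.Agent.AlgSpQMod.Sub
import Groth.Agent.AlgSpQMod.SubOpen
import Groth.Agent.AlgSpNorm.Zmt

set_option autoImplicit false
set_option maxHeartbeats 800000
universe u
open CategoryTheory CategoryTheory.Limits AlgebraicGeometry
open AlgSp
set_option backward.isDefEq.respectTransparency false
set_option backward.isDefEq.respectTransparency.types false

namespace Groth.Agent.S10647

/-- (Zariski's Main Theorem for algebraic spaces) a quasi-finite separated morphism f : X ⟶ Y of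
algebraic spaces over S whose target Y is quasi-compact and quasi-separated factors as a
quasi-compact representable open immersion j : X ⟶ T followed by a finite morphism π : T ⟶ Y. (The
published statement asks Y to be quasi-separated in the absolute sense and puts no condition on S;
this row assumes S quasi-separated and Y quasi-separated over S, which together imply it.) -/
theorem result {S : Scheme.{u}} [QuasiSeparatedSpace ↥S] {X Y : AlgSp.Space S} (f : X ⟶ Y)
    (hf1 : AlgSp.LocP (@LocallyQuasiFinite ⊓ @LocallyOfFiniteType) f.hom) (hf2 : AlgSp.IsQuasiCompactMor f.hom)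
    (hf3 : AlgSp.IsSeparatedMor f.hom) (hY1 : AlgSp.IsQuasiCompactSp Y.obj) (hY2 : AlgSp.IsQuasiSeparatedSp Y.obj) :
    ∃ (T : AlgSp.Space S) (j : X ⟶ T) (π : T ⟶ Y), j ≫ π = f ∧
      AlgSp.RepWith @IsOpenImmersion j.hom ∧ AlgSp.IsQuasiCompactMor j.hom ∧ AlgSp.IsFiniteMor π.hom := by
  obtain ⟨Y', ν, f', hY', hon⟩ := Groth.Agent.AlgSpNorm.exists_normOn X.property Y.property hf2
    (AlgSpDec.isQuasiSeparatedMor_of_isSeparatedMor hf3)
  have hn := Groth.Agent.AlgSpNorm.isRelNormalization_of_normOn hon Y.property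
  obtain ⟨hfo, hfq, -⟩ := Groth.Agent.AlgSpNorm.qf_separated X.property Y.property hf1 hf2 hf3 hn
  have hνa := AlgSpDec.repWith_isAffineHom_of_isAffineMor (AlgSpDec.isAffineMor_of_repWith
    (fun _ _ e (_ : IsIntegralHom e) => (inferInstance : IsAffineHom e)) (AlgSpDec.isIntegralMor_iff_repWith.1 hn.2.1))
  have hνr : AlgSp.RepWith (@QuasiCompact ⊓ @QuasiSeparated) ν :=
    AlgSpLib.repWith_mono (fun _ _ e (_ : IsAffineHom e) => ⟨inferInstance, inferInstance⟩) _ hνa
  obtain ⟨U, a, hU, hae, has⟩ := AlgSpDec.exists_affine_atlas hY1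
  obtain ⟨u, hus⟩ : ∃ u : AlgSpQMod.Chart Y.obj, AlgSp.RepWith @Surjective u.c := ⟨⟨U, hU, a, hae⟩, has⟩
  clear has hae hU a U
  let p := hνr.rep.fst u.c
  haveI : IsAffineHom (AlgSpQMod.preπ ν hνr u).left := hνa.2 u.c _ _ (hνr.rep.isPullback u.c)
  haveI : IsAffine (AlgSpQMod.pre ν hνr u).left := isAffine_of_isAffineHom (AlgSpQMod.preπ ν hνr u).left
  let π : (AlgSpQMod.pre ν hνr u) ⟶ u.W := AlgSpQMod.preπ ν hνr u
  have sqP : IsPullback p ((yon S).map π) ν u.c := hνr.rep.isPullback u.c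
  let XU := hfo.rep.pullback p
  let h : XU ⟶ (AlgSpQMod.pre ν hνr u) := hfo.rep.snd p
  let pX := hfo.rep.fst p
  have sqh : IsPullback pX ((yon S).map h) f' p := hfo.rep.isPullback p
  have hho : IsOpenImmersion h.left := hfo.property_snd p
  have hhq : QuasiCompact h.left :=
    AlgSpPts.quasiCompact_of_isQuasiCompactMor h (AlgSpPts.isQuasiCompactMor_of_isPullback sqh hfq)
  have sqX : IsPullback pX ((yon S).map (h ≫ π)) f.hom u.c := by
    rw [Functor.map_comp, ← hn.1]; exact sqh.paste_vert sqP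
  have hlft : LocallyOfFiniteType (h.left ≫ π.left) :=
    ((AlgSpLib.locP_of_isPullback sqX X.property Y.property (IsAlgSpace.yon_obj u.W) hf1) (𝟙 _) (𝟙 _) (h ≫ π)
      (AlgSp.repWith_id _ XU) (AlgSp.repWith_id _ u.W) (by simp)).2
  let g : XU.left ⟶ Spec (.of Γ((AlgSpQMod.pre ν hνr u).left, ⊤)) := h.left ≫ (AlgSpQMod.pre ν hνr u).left.isoSpec.hom
  have : IsOpenImmersion g := inferInstance
  have : QuasiCompact g := inferInstance
  have : LocallyOfFiniteType (g ≫ Spec.map (CommRingCat.ofHom (algebraMap u.R Γ((AlgSpQMod.pre ν hνr u).left, ⊤)))) := by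
    have e : g ≫ Spec.map (CommRingCat.ofHom (algebraMap u.R Γ((AlgSpQMod.pre ν hνr u).left, ⊤))) =
        (h.left ≫ π.left) ≫ u.W.left.isoSpec.hom := by
      rw [Category.assoc, Category.assoc]
      exact congrArg (h.left ≫ ·) (Scheme.isoSpec_hom_naturality π.left)
    rw [e]; infer_instance
  obtain ⟨T, hT⟩ := AlgSpQMod.exists_finset_isOpenImmersion g (R := u.R)
  obtain ⟨N, ⟨s, hs⟩, hTN, hst⟩ :=
    AlgSpQMod.exists_fg_stable (F := AlgSpQMod.affMod ν hνr) Y.property hY1 hY2 u T
  obtain ⟨Z, νZ, m, fZ, hZ, sqZ, hfν, hpf, hme, hms⟩ :=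
    AlgSpQMod.exists_sub_space ν hνr u hY' Y.property hus N hst
  let A := Algebra.adjoin u.R (AlgSpQMod.subSet ν hνr u N)
  have hgA := hT A fun x hx => Algebra.subset_adjoin (hTN hx)
  have hfin : IsFinite (AlgSpQMod.subπ ν hνr u A).left := by
    have : IsIntegralHom π.left := by
      have h' := AlgSpDec.isIntegralMor_iff_repWith.1 hn.2.1
      exact h'.2 u.c p π sqP
    have hint : (π.left.appTop.hom).IsIntegral :=
      IsIntegralHom.isIntegral_app π.left _ (isAffineOpen_top _)
    haveI : Algebra.IsIntegral u.R Γ((AlgSpQMod.pre ν hνr u).left, ⊤) := ⟨hint⟩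
    haveI : Module.Finite u.R A := by
      refine (Module.Finite.iff_fg (N := Subalgebra.toSubmodule A)).2 ?_
      have e : A = Algebra.adjoin u.R (SetLike.coe s : Set Γ((AlgSpQMod.pre ν hνr u).left, ⊤)) := by
        refine le_antisymm (Algebra.adjoin_le fun x hx => ?_) (Algebra.adjoin_mono ?_)
        · exact Algebra.span_le_adjoin u.R (SetLike.coe s : Set Γ((AlgSpQMod.pre ν hνr u).left, ⊤)) (hs.ge hx)
        · exact fun x hx => hs.le (Submodule.subset_span hx)
      rw [e]
      exact fg_adjoin_of_finite (Finset.finite_toSet s) fun x _ => Algebra.IsIntegral.isIntegral x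
    have : IsFinite (Spec.map (CommRingCat.ofHom (algebraMap u.R A))) :=
      (IsFinite.SpecMap_iff _).2 (RingHom.finite_algebraMap.2 this)
    change IsFinite (Spec.map _ ≫ u.W.left.isoSpec.inv)
    infer_instance
  have hνZ : IsFiniteMor νZ := AlgSpPts.descend_chart AlgSpLib.isLocalOnBase_fpqc_isFiniteMor hZ Y.property u.et hus
    sqZ (AlgSpDec.isFiniteMor_iff_repWith.2 ((AlgSp.repWith_yon_map_iff _ _).2 hfin))
  have sq1 : IsPullback p ((yon S).map (AlgSpQMod.subg ν hνr u A)) fZ m := by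
    refine IsPullback.of_bot ?_ hpf sqZ
    rw [← Functor.map_comp, AlgSpQMod.subg_π, hfν]
    exact sqP
  have sq2 : IsPullback pX ((yon S).map (h ≫ AlgSpQMod.subg ν hνr u A)) (f' ≫ fZ) m := by
    rw [Functor.map_comp]; exact sqh.paste_vert sq1
  have ho : IsOpenImmersion (h ≫ AlgSpQMod.subg ν hνr u A).left := by
    change IsOpenImmersion (h.left ≫ (AlgSpQMod.pre ν hνr u).left.toSpecΓ ≫ Spec.map (CommRingCat.ofHom A.val.toRingHom))
    rw [← Category.assoc]
    exact hgA
  have hq : QuasiCompact (h ≫ AlgSpQMod.subg ν hνr u A).left := by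
    have : IsAffineHom π.left := hνa.2 u.c _ _ (hνr.rep.isPullback u.c)
    have : QuasiCompact ((h ≫ AlgSpQMod.subg ν hνr u A).left ≫ (AlgSpQMod.subπ ν hνr u A).left) := by
      rw [← Over.comp_left, Category.assoc, AlgSpQMod.subg_π, Over.comp_left]
      exact inferInstanceAs (QuasiCompact (h.left ≫ π.left))
    exact QuasiCompact.of_comp _ (AlgSpQMod.subπ ν hνr u A).left
  refine ⟨⟨Z, hZ⟩, ObjectProperty.homMk (f' ≫ fZ), ObjectProperty.homMk νZ, ?_, ?_, ?_, hνZ⟩
  · exact InducedCategory.hom_ext (show (f' ≫ fZ) ≫ νZ = f.hom by rw [Category.assoc, hfν, hn.1])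
  · exact AlgSpPts.descend_chart AlgSpLib.isLocalOnBase_fpqc_isOpenImmersion X.property hZ hme hms sq2
      ((AlgSp.repWith_yon_map_iff _ _).2 ho)
  · exact AlgSpPts.descend_chart AlgSpLib.isLocalOnBase_fpqc_isQuasiCompactMor X.property hZ hme hms sq2
      (AlgSpPts.isQuasiCompactMor_of_repWith ((AlgSp.repWith_yon_map_iff @QuasiCompact _).2 hq))

end Groth.Agent.S10647
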