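import Groth.Statements.S10648
import Groth.Agent.AlgSpQMod.FiniteFp
import Groth.Agent.AlgSpQMod.QuotOpen
import Groth.Agent.S10647

set_option autoImplicit false
set_option maxHeartbeats 800000
set_option backward.isDefEq.respectTransparency false
set_option backward.isDefEq.respectTransparency.types false
universe u
open CategoryTheory CategoryTheory.Limits AlgebraicGeometry
open AlgSp

namespace Groth.Agent.S10648

/-- A quasi-finite separated morphism f : X ⟶ Y of algebraic spaces over S which is moreover locally of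
finite presentation, whose target Y is quasi-compact and quasi-separated, factors as a quasi-compact
representable open immersion j : X ⟶ T followed by a morphism π : T ⟶ Y which is finite and finitely
presented. (The published statement asks Y to be quasi-separated in the absolute sense and puts no
condition on S; this row assumes S quasi-separated and Y quasi-separated over S, which together
imply it.) -/
theorem result {S : Scheme.{u}} [QuasiSeparatedSpace ↥S] {X Y : AlgSp.Space S} (f : X ⟶ Y)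
    (hf1 : AlgSp.LocP (@LocallyQuasiFinite ⊓ @LocallyOfFiniteType) f.hom) (hf2 : AlgSp.IsQuasiCompactMor f.hom)
    (hf3 : AlgSp.IsSeparatedMor f.hom) (hf4 : AlgSp.LocP @LocallyOfFinitePresentation f.hom)
    (hY1 : AlgSp.IsQuasiCompactSp Y.obj) (hY2 : AlgSp.IsQuasiSeparatedSp Y.obj) :
    ∃ (T : AlgSp.Space S) (j : X ⟶ T) (π : T ⟶ Y), j ≫ π = f ∧
      AlgSp.RepWith @IsOpenImmersion j.hom ∧ AlgSp.IsQuasiCompactMor j.hom ∧ AlgSp.IsFiniteMor π.hom ∧
        AlgSp.IsFinitePresentationMor π.hom := by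
  classical
  obtain ⟨T, jT, π, hjπ, hjo, hjq, hπ⟩ := Groth.Agent.S10647.result f hf1 hf2 hf3 hY1 hY2
  obtain ⟨W, g, i, hW, hgfin, hgfp, hic, hig⟩ :=
    AlgSpQMod.exists_finite_fp T.property Y.property hY1 hY2 hπ
  have hgr : AlgSp.RepWith @IsFinite g := AlgSpDec.isFiniteMor_iff_repWith.1 hgfin
  have hga : AlgSp.RepWith @IsAffineHom g :=
    AlgSpLib.repWith_mono (fun _ _ e (_ : IsFinite e) => (inferInstance : IsAffineHom e)) _ hgr
  have hg := AlgSpQMod.qcqs_of_affine hga
  have hi := AlgSpQMod.qcqs_of_affine (AlgSpQMod.repWith_affine_of_closed hic)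
  obtain ⟨U, a, hU, hae, has⟩ := AlgSpDec.exists_affine_atlas hY1
  obtain ⟨u, hus⟩ : ∃ u : AlgSpQMod.Chart Y.obj, AlgSp.RepWith @Surjective u.c := ⟨⟨U, hU, a, hae⟩, has⟩
  clear has hae hU a U
  obtain ⟨u1, hu1, ρ, q0, sq0, hρlft⟩ : ∃ (u1 : AlgSpQMod.Chart W) (_ : AlgSp.RepWith @Surjective u1.c)
      (ρ : u1.W ⟶ u.W) (_ : Unit), IsPullback u1.c ((yon S).map ρ) g u.c ∧ LocallyOfFiniteType ρ.left := by
    haveI : IsFinite (AlgSpQMod.preπ g hg u).left := hgr.2 u.c _ _ (hg.rep.isPullback u.c)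
    exact ⟨⟨AlgSpQMod.pre g hg u, isAffine_of_isAffineHom (AlgSpQMod.preπ g hg u).left, hg.rep.fst u.c,
      AlgSpLib.repWith_of_isPullback (hg.rep.isPullback u.c).flip u.et⟩,
      AlgSpLib.repWith_of_isPullback (hg.rep.isPullback u.c).flip hus, AlgSpQMod.preπ g hg u, (),
      hg.rep.isPullback u.c, inferInstance⟩
  let T1 := AlgSpQMod.pre i hi u1
  let π1 : T1 ⟶ u1.W := AlgSpQMod.preπ i hi u1
  haveI hπ1 : IsClosedImmersion π1.left := hic.2 u1.c _ _ (hi.rep.isPullback u1.c)
  haveI : IsAffine T1.left := isAffine_of_isAffineHom π1.left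
  let XU := hjo.rep.pullback (hi.rep.fst u1.c)
  let h1 : XU ⟶ T1 := hjo.rep.snd (hi.rep.fst u1.c)
  let pX := hjo.rep.fst (hi.rep.fst u1.c)
  have sqh : IsPullback pX ((yon S).map h1) jT.hom (hi.rep.fst u1.c) := hjo.rep.isPullback _
  haveI hho : IsOpenImmersion h1.left := hjo.property_snd _
  haveI hhq : QuasiCompact h1.left :=
    AlgSpPts.quasiCompact_of_isQuasiCompactMor h1 (AlgSpPts.isQuasiCompactMor_of_isPullback sqh hjq)
  have hf' : jT.hom ≫ i ≫ g = f.hom := by rw [hig, ← hjπ]; rfl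
  have sqX : IsPullback pX ((yon S).map (h1 ≫ π1 ≫ ρ)) f.hom u.c := by
    rw [Functor.map_comp, Functor.map_comp, ← hf']
    exact sqh.paste_vert ((hi.rep.isPullback u1.c).paste_vert sq0)
  haveI hlfp : LocallyOfFinitePresentation (h1 ≫ π1).left := by
    have h := ((AlgSpLib.locP_of_isPullback sqX X.property Y.property (IsAlgSpace.yon_obj u.W) hf4) (𝟙 _) (𝟙 _)
      (h1 ≫ π1 ≫ ρ) (AlgSp.repWith_id _ XU) (AlgSp.repWith_id _ u.W) (by simp))
    rw [← Category.assoc, Over.comp_left] at h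
    haveI := hρlft
    haveI : LocallyOfFinitePresentation ((h1 ≫ π1).left ≫ ρ.left) := h
    exact AlgSpPts.locallyOfFinitePresentation_of_comp (h1 ≫ π1).left ρ.left
  let φ : u1.R →+* Γ(T1.left, ⊤) := π1.left.appTop.hom
  have hφ : Function.Surjective φ := (IsClosedImmersion.isAffine_surjective_of_isAffine π1.left).2
  let g1 : XU.left ⟶ Spec (.of Γ(T1.left, ⊤)) := h1.left ≫ T1.left.isoSpec.hom
  have hg1 : g1 ≫ Spec.map (CommRingCat.ofHom φ) = (h1 ≫ π1).left ≫ u1.W.left.isoSpec.hom := by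
    rw [Category.assoc, Over.comp_left, Category.assoc]
    exact congrArg (h1.left ≫ ·) (Scheme.isoSpec_hom_naturality π1.left)
  haveI : LocallyOfFinitePresentation (g1 ≫ Spec.map (CommRingCat.ofHom φ)) := by rw [hg1]; infer_instance
  haveI : IsOpenImmersion g1 := inferInstance
  haveI : QuasiCompact g1 := inferInstance
  obtain ⟨T0, hT0, hopen⟩ := AlgSpQMod.exists_finset_isOpenImmersion_quot φ hφ g1
  obtain ⟨J, hJfg, hJker, hTJ, hJst⟩ := AlgSpQMod.exists_fg_ideal i hi hW
    (AlgSpDec.isQuasiCompactSp_of_affine Y.property g hga hY1) (AlgSpDec.isQuasiSeparatedSp_of_affine g hga hY2)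
    u1 T0 hT0
  obtain ⟨W', jJ, q, h, hjc, hjfp, sqW, hh⟩ := AlgSpQMod.exists_closed_sub_fp hW hi hu1 hJfg hJst hJker
  have hja := AlgSpQMod.repWith_affine_of_closed hjc
  obtain ⟨l, hl⟩ := (AlgSpQMod.factor_iff u1 π1 J).2 fun x hx => hJker hx
  have sqT : IsPullback (hi.rep.fst u1.c) ((yon S).map l) h q := by
    have hou : IsPullback (hi.rep.fst u1.c) ((yon S).map l ≫ (yon S).map (AlgSpQMod.idealι u1 J)) (h ≫ jJ) u1.c := by
      rw [← Functor.map_comp, hl, hh]; exact hi.rep.isPullback u1.c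
    refine IsPullback.of_bot hou ?_ sqW
    haveI : Mono jJ := AlgSpQMod.mono_of_closed hjc
    rw [← cancel_mono jJ, Category.assoc, hh, Category.assoc, sqW.w, ← Functor.map_comp_assoc, hl]
    exact (hi.rep.isPullback u1.c).w
  have sq2 : IsPullback pX ((yon S).map (h1 ≫ l)) (jT.hom ≫ h) q := by
    rw [Functor.map_comp]; exact sqh.paste_vert sqT
  haveI := (AlgSpQMod.closed_idealι u1 J).1
  have ho : IsOpenImmersion (h1 ≫ l).left := by
    haveI := hopen J hJker hTJ
    have e : g1 ≫ Spec.map (CommRingCat.ofHom (Ideal.Quotient.lift J φ fun a ha => hJker ha)) = (h1 ≫ l).left := by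
      rw [← cancel_mono (AlgSpQMod.idealι u1 J).left]
      refine Eq.trans ?_ (congrArg Over.Hom.left (show (h1 ≫ π1) = (h1 ≫ l) ≫ AlgSpQMod.idealι u1 J by
        rw [Category.assoc, hl]))
      change (g1 ≫ Spec.map _) ≫ Spec.map (CommRingCat.ofHom (Ideal.Quotient.mk J)) ≫ u1.W.left.isoSpec.inv = _
      rw [Category.assoc, ← Spec.map_comp_assoc, ← Category.assoc]
      have : CommRingCat.ofHom (Ideal.Quotient.mk J) ≫
          CommRingCat.ofHom (Ideal.Quotient.lift J φ fun a ha => hJker ha) = CommRingCat.ofHom φ :=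
        CommRingCat.hom_ext (RingHom.ext fun r => rfl)
      rw [this, hg1, Category.assoc, Iso.hom_inv_id]
      exact Category.comp_id _
    rw [← e]; infer_instance
  have hq2 : QuasiCompact (h1 ≫ l).left := by
    haveI : QuasiCompact ((h1 ≫ l).left ≫ (AlgSpQMod.idealι u1 J).left) := by
      rw [← Over.comp_left, Category.assoc, hl]
      exact inferInstanceAs (QuasiCompact (h1.left ≫ π1.left))
    exact QuasiCompact.of_comp _ (AlgSpQMod.idealι u1 J).left
  refine ⟨W', ObjectProperty.homMk (jT.hom ≫ h), ObjectProperty.homMk (jJ ≫ g), ?_, ?_, ?_, ?_, ?_⟩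
  · exact InducedCategory.hom_ext (show (jT.hom ≫ h) ≫ jJ ≫ g = f.hom by rw [Category.assoc, reassoc_of% hh, hf'])
  · exact AlgSpPts.descend_chart AlgSpLib.isLocalOnBase_fpqc_isOpenImmersion X.property W'.property
      (AlgSpLib.repWith_of_isPullback sqW.flip u1.et) (AlgSpLib.repWith_of_isPullback sqW.flip hu1) sq2
      ((AlgSp.repWith_yon_map_iff _ _).2 ho)
  · exact AlgSpPts.descend_chart AlgSpLib.isLocalOnBase_fpqc_isQuasiCompactMor X.property W'.property
      (AlgSpLib.repWith_of_isPullback sqW.flip u1.et) (AlgSpLib.repWith_of_isPullback sqW.flip hu1) sq2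
      (AlgSpPts.isQuasiCompactMor_of_repWith ((AlgSp.repWith_yon_map_iff @QuasiCompact _).2 hq2))
  · exact AlgSpDec.isFiniteMor_iff_repWith.2 (AlgSpLib.repWith_comp
      (AlgSpLib.repWith_mono (fun _ _ e (_ : IsClosedImmersion e) => (inferInstance : IsFinite e)) _ hjc) hgr)
  · exact AlgSpQMod.isFinitePresentationMor_comp_affine W'.property hW Y.property hja hga hjfp hgfp

end Groth.Agent.S10648
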