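import Groth.Statements.S10649
import Groth.Agent.S9955
import Groth.Agent.AlgSpDec.QfLocus
import Groth.Agent.AlgSpPts.UnivClosed
import Groth.Agent.AlgSpLib.AffineDescProps
import Groth.Agent.AlgSpDec.AffineCheck
import Groth.Agent.AlgSpDec.MonoRep

set_option autoImplicit false
universe u
open CategoryTheory CategoryTheory.Limits AlgebraicGeometry
open AlgSp Groth.Agent Groth.Agent.AlgSpLib Groth.Agent.AlgSpDec Groth.Agent.AlgSpPts Opposite

namespace Groth.Agent.S10649

/-- The following conditions on a morphism f : X ⟶ Y of algebraic spaces over S are equivalent: (1)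
finiteness of f; (2) f is locally quasi-finite as well as proper (locally quasi-finite and locally
of finite type etale locally); (3) f is proper and for every field k and every k-point Spec k ⟶ Y
the fibre X_k (any pullback of f along it in fppf sheaves) has discrete space of points; (4) f is
universally closed, separated and locally of finite type, and every such fibre X_k has discrete
space of points. -/
theorem result {S : Scheme.{u}} {X Y : AlgSp.Space S} (f : X ⟶ Y) :
    [AlgSp.IsFiniteMor f.hom,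
      AlgSp.IsProperMor f.hom ∧ AlgSp.LocP (@LocallyQuasiFinite ⊓ @LocallyOfFiniteType) f.hom,
      AlgSp.IsProperMor f.hom ∧
        ∀ (k : AlgSp.FieldPt Y.obj) (Xk : AlgSp.Sp S) (fst : Xk ⟶ X.obj) (snd : Xk ⟶ (AlgSp.yon S).obj k.pt),
          IsPullback fst snd f.hom k.toHom → DiscreteTopology (AlgSp.Points Xk),
      AlgSp.IsUnivClosedMor f.hom ∧ AlgSp.IsSeparatedMor f.hom ∧ AlgSp.LocP @LocallyOfFiniteType f.hom ∧
        ∀ (k : AlgSp.FieldPt Y.obj) (Xk : AlgSp.Sp S) (fst : Xk ⟶ X.obj) (snd : Xk ⟶ (AlgSp.yon S).obj k.pt),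
          IsPullback fst snd f.hom k.toHom → DiscreteTopology (AlgSp.Points Xk)].TFAE := by
  have hX := X.property
  have hY := Y.property
  tfae_have 1 → 2 := by
    intro h
    have h' := isFiniteMor_iff_repWith.1 h
    refine ⟨⟨AlgSpLib.isSeparatedMor_of_repWith (repWith_mono (fun _ _ g (_ : IsFinite g) => (inferInstance : IsSeparated g)) _ h'),
      ⟨locP_of_repWith (repWith_mono (fun _ _ g (_ : IsFinite g) => (inferInstance : LocallyOfFiniteType g)) _ h'),
        AlgSpPts.isQuasiCompactMor_of_repWith (repWith_mono (fun _ _ g (_ : IsFinite g) => (inferInstance : QuasiCompact g)) _ h')⟩,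
      univSp_of_repWith (fun _ _ _ h => AlgSpPts.isClosedMap_map h)
        (repWith_mono (fun _ _ g (_ : IsFinite g) => (inferInstance : UniversallyClosed g)) _ h')⟩,
      locP_of_repWith (repWith_mono (P := @IsFinite) (fun _ _ g (_ : IsFinite g) =>
        (⟨inferInstance, inferInstance⟩ : LocallyQuasiFinite g ∧ LocallyOfFiniteType g)) _ h')⟩
  tfae_have 2 → 3 := fun h => ⟨h.1, fun k Xk fst snd sq => (Groth.Agent.S9955.result f h.1.2.1.1).1 h.2 k.K k.str k.toHom Xk fst snd sq⟩
  tfae_have 3 → 4 := fun h => ⟨h.1.2.2, h.1.1, h.1.2.1.1, h.2⟩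
  tfae_have 4 → 1 := by
    rintro ⟨huc, hsep, hlft, hd⟩
    have hp : AlgSp.IsProperMor f.hom := ⟨hsep, ⟨hlft, AlgSpPts.isQuasiCompactMor_of_univClosed hX hY huc⟩, huc⟩
    have hq : AlgSp.LocP (@LocallyQuasiFinite ⊓ @LocallyOfFiniteType) f.hom := by
      refine (Groth.Agent.S9955.result f hlft).2 fun k _ str y P fst snd sq => ?_
      exact hd ⟨k, str, (J S).uliftYonedaEquiv y⟩ P fst snd (by
        rw [show (⟨k, str, (J S).uliftYonedaEquiv y⟩ : AlgSp.FieldPt Y.obj).toHom = y from Equiv.symm_apply_apply _ _]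
        exact sq)
    refine isFiniteMor_iff_repWith.2 (AlgSpDec.QfLocus.repWith_isFinite_of_proper_qf hX hY hp fun x => ?_)
    obtain ⟨V, q, hqe, hqs⟩ := hY.atlas
    obtain ⟨U, a, u, hU, ha, hu⟩ := AlgSpDec.exists_affine_chart_at hX x
    haveI := hU
    obtain ⟨V', b, U', π, v, -, hb, -, hπ, hπs, hw⟩ := AlgSpDec.exists_affine_chart_lift hqe hqs (a ≫ f.hom)
    obtain ⟨u', hu'⟩ := π.left.surjective u
    have ha' : AlgSp.RepWith @Etale ((AlgSp.yon S).map π ≫ a) := repWith_comp ((repWith_yon_map_iff _ π).2 hπ) ha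
    obtain ⟨h1, h2⟩ := hq _ b v ha' hb (by rw [Category.assoc, hw])
    have : LocallyQuasiFinite v.left := h1
    have : LocallyOfFiniteType v.left := h2
    exact ⟨U', V', (AlgSp.yon S).map π ≫ a, b, v, u', ha', hb, by rw [Category.assoc, hw],
      by rw [AlgSpLib.ofPt_comp, hu', hu], ⊤, trivial, inferInstance, inferInstance⟩
  tfae_finish

end Groth.Agent.S10649
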