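import Groth.Statements.S9965
import Groth.Agent.S9974
import Groth.Agent.S9979
import Groth.Agent.AlgSpLib.LocalSourceInst

set_option autoImplicit false
universe u
open CategoryTheory CategoryTheory.Limits AlgebraicGeometry
open AlgSp Groth.Agent.AlgSpLib Groth.Agent.AlgSpPts Groth.Agent.AlgSpDec

namespace Groth.Agent.S9965

set_option backward.isDefEq.respectTransparency false
set_option backward.isDefEq.respectTransparency.types false

/-- For a quasi-compact morphism of algebraic spaces, forming the scheme theoretic image commutes with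
etale base change, and the image of the morphism is dense in the scheme theoretic image. -/
theorem result {S : Scheme.{u}} {X Y Z : AlgSp.Space S} (f : X ⟶ Y) (i : Z ⟶ Y)
    (hq : AlgSp.IsQuasiCompactMor f.hom) (hZ : AlgSp.IsSchImage f.hom i.hom) :
    (∀ (V XV ZV : AlgSp.Space S) (b : V ⟶ Y), AlgSp.IsEtaleMor b.hom →
      ∀ (f₁ : XV ⟶ X) (fV : XV ⟶ V) (i₁ : ZV ⟶ Z) (iV : ZV ⟶ V),
        IsPullback f₁.hom fV.hom f.hom b.hom → IsPullback i₁.hom iV.hom i.hom b.hom →
        AlgSp.IsSchImage fV.hom iV.hom) ∧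
    Set.range (AlgSp.Points.map i.hom) ⊆ closure (Set.range (AlgSp.Points.map f.hom)) := by
  refine ⟨fun V XV ZV b hb f₁ fV i₁ iV sq sqZ => ?_, ?_⟩
  · exact Groth.Agent.S9974.result b (locP_mono (fun A B p (_ : Etale p) => inferInstanceAs (Flat p))
      (locP_etale_of_isEtaleMor hb)) f hq i hZ f₁ fV sq i₁ iV sqZ
  · rintro _ ⟨z, rfl⟩
    obtain ⟨A, _, _, _, str, a, x, hz, hx⟩ := Groth.Agent.S9979.result f i hq hZ z
    let j := Spec.map (CommRingCat.ofHom (algebraMap A (FractionRing A)))
    let pt := IsLocalRing.closedPoint (FractionRing A)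
    have h1 : AlgSp.Points.ofPt (a ≫ i.hom) (j pt) ∈ Set.range (AlgSp.Points.map f.hom) :=
      ⟨AlgSp.Points.ofPt x pt, by rw [AlgSp.Points.map_ofPt, hx, ofPt_comp]; rfl⟩
    have hs : (j pt : ↥(Spec (CommRingCat.of A))) ⤳ IsLocalRing.closedPoint A :=
      IsLocalRing.specializes_closedPoint _
    rw [← hz, AlgSp.Points.map_ofPt]
    exact (hs.map (AlgSp.Points.continuous_ofPt _)).mem_closed isClosed_closure (subset_closure h1)

end Groth.Agent.S9965
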