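import Groth.Statements.S10651
import Groth.Agent.AlgSpPts.ProperSubspace
import Groth.Agent.AlgSpDec.FibrePoints
import Groth.Agent.AlgSpDec.SchImage
import Groth.Agent.AlgSpDec.LimDescentRep
import Groth.Agent.AlgSpDec.LimOpen
import Groth.Agent.AlgSpVal.ExistUC
import Groth.Agent.S9965

set_option autoImplicit false
universe u
open CategoryTheory CategoryTheory.Limits AlgebraicGeometry
open AlgSp

namespace Groth.Agent.S10651

set_option backward.isDefEq.respectTransparency false
set_option backward.isDefEq.respectTransparency.types false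

open AlgSp Groth.Agent.AlgSpLib Groth.Agent.AlgSpPts Groth.Agent.AlgSpDec

theorem isProperMor_cancel {S : Scheme.{u}} {X Y B : Sp S} (hX : IsAlgSpace X) (hY : IsAlgSpace Y) (hB : IsAlgSpace B)
    (h : X ⟶ Y) (g : Y ⟶ B) (hf : IsProperMor (h ≫ g)) (hg : IsSeparatedMor g) : IsProperMor h := by
  have h1 : IsProperMor (pullback.lift (𝟙 X) h (by simp) : X ⟶ pullback (h ≫ g) g) :=
    isProperMor_of_closedImmersion (graph_property hg)
  have hP := isAlgSpace_pullback hX hY hB (h ≫ g) g
  have h2 := isProperMor_of_isPullback (IsPullback.of_hasPullback (h ≫ g) g) hX hB hY hf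
  have h3 := isProperMor_comp hX hP hY h1 h2
  rwa [pullback.lift_snd] at h3

theorem qf_of_finite_fibre {S : Scheme.{u}} {Z B : Sp S} (hZ : IsAlgSpace Z) (hB : IsAlgSpace B) {f : Z ⟶ B}
    (hf : IsProperMor f) {r : FieldPt B} {P : Sp S} {fst : P ⟶ Z} {snd : P ⟶ (yon S).obj r.pt}
    (sq : IsPullback fst snd f r.toHom) (hfin : Finite (Points P)) (z : Points Z)
    (hz : Points.map f z = Points.mk r) : HasAtMor SplitOff.QfAt f z := by
  have hP := FibrePoints.space sq hZ hB hf.2.1.1
  haveI : IsAffine r.pt.left := inferInstanceAs (IsAffine (Spec (CommRingCat.of r.K)))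
  have hd : IsDecent P := isDecent_of_isQuasiSeparatedSp hP (AlgSpVal.isQuasiSeparatedSp_of_toAffine snd
    (isQuasiSeparatedMor_of_isSeparatedMor (isSeparatedMor_of_isPullback sq hf.1)))
  exact (FibrePoints.discrete_iff_qf sq hZ hB hf.2.1.1).1
    (FibrePoints.discrete_of_finite hP hd (FibrePoints.lft sq hZ hB hf.2.1.1) hfin) z hz

/-- Consider morphisms h : X ⟶ Y, f : X ⟶ B, g : Y ⟶ B of algebraic spaces over S with h ≫ g = f, a
point b of |B| and a field point k of B in the class of b. Assume f is proper, g is separated and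
locally of finite type, and either (a) for the fibres X_k ⟶ Y_k of h over k (pullbacks in fppf
sheaves) the image of |X_k| in |Y_k| is finite, or (b) the image in |Y| of the fibre of |X| ⟶ |B|
over b is finite and B is decent. Then over some open subspace B' of B containing b the base change
X_{B'} ⟶ Y_{B'} of h lands in a closed subspace Z of Y_{B'} that is finite over B' (it factors
through Z). -/
theorem result {S : Scheme.{u}} {X Y B : AlgSp.Space S} (h : X ⟶ Y) (f : X ⟶ B) (g : Y ⟶ B) (hc : h ≫ g = f)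
    (b : AlgSp.Points B.obj) (k : AlgSp.FieldPt B.obj) (hk : AlgSp.Points.mk k = b)
    (hf : AlgSp.IsProperMor f.hom) (hg1 : AlgSp.IsSeparatedMor g.hom) (hg2 : AlgSp.LocP @LocallyOfFiniteType g.hom)
    (h3 : (∀ (Yk : AlgSp.Sp S) (gY : Yk ⟶ Y.obj) (sY : Yk ⟶ (AlgSp.yon S).obj k.pt),
            IsPullback gY sY g.hom k.toHom →
            ∀ (Xk : AlgSp.Sp S) (gX : Xk ⟶ X.obj) (hk' : Xk ⟶ Yk), IsPullback gX hk' h.hom gY →
              (Set.range (AlgSp.Points.map hk')).Finite) ∨
          ((AlgSp.Points.map h.hom '' (AlgSp.Points.map f.hom ⁻¹' {b})).Finite ∧ AlgSp.IsDecent B.obj)) :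
    ∃ (B' : AlgSp.Space S) (j : B' ⟶ B), AlgSp.RepWith @IsOpenImmersion j.hom ∧
      b ∈ Set.range (AlgSp.Points.map j.hom) ∧
        ∀ (YB : AlgSp.Space S) (gY : YB ⟶ Y) (sY : YB ⟶ B'), IsPullback gY.hom sY.hom g.hom j.hom →
          ∀ (XB : AlgSp.Space S) (gX : XB ⟶ X) (hB : XB ⟶ YB), IsPullback gX.hom hB.hom h.hom gY.hom →
            ∃ (Z : AlgSp.Space S) (i : Z ⟶ YB) (e : XB ⟶ Z), AlgSp.RepWith @IsClosedImmersion i.hom ∧
              AlgSp.IsFiniteMor (i ≫ sY).hom ∧ e ≫ i = hB := by
  have hc' : h.hom ≫ g.hom = f.hom := congrArg (·.hom) hc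
  have hp : IsProperMor h.hom := isProperMor_cancel X.property Y.property B.property h.hom g.hom (hc' ▸ hf) hg1
  obtain ⟨Z, i₀, hsi⟩ := exists_schImage X.property Y.property h.hom
  let i : Z ⟶ Y := ObjectProperty.homMk i₀
  obtain ⟨e₀, he⟩ := hsi.2.1
  let e : X ⟶ Z := ObjectProperty.homMk e₀
  have hi : RepWith @IsClosedImmersion i.hom := hsi.1
  haveI : Mono i.hom := mono_of_closedImmersion hi
  have hrange := ((S9965.result h i hp.2.1.2 hsi).2).trans_eq
    (ProperSub.isClosed_range_of_univClosed Y.property hp.2.2).closure_eq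
  have hes : IsSurjectiveMor e.hom := fun z => by
    obtain ⟨x, hx⟩ := hrange ⟨z, rfl⟩
    refine ⟨x, injective_points_map_of_mono i.hom ?_⟩
    rw [← Points.map_comp, show e.hom ≫ i.hom = h.hom from he]
    exact hx
  have hei : e ≫ i = h := ObjectProperty.hom_ext _ he
  have hZp : IsProperMor (i ≫ g).hom := ProperSub.isProperMor_of_surjection i g e hi hg2 hes
    (by rw [hei]; exact hp.2.2) (by rw [← Category.assoc, hei, hc]; exact hf)
  have hq : ∀ z, Points.map (i ≫ g).hom z = b → HasAtMor SplitOff.QfAt (i ≫ g).hom z := by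
    rcases h3 with ha | ⟨hfin, hd⟩
    · intro z hz
      have sqY := IsPullback.of_hasPullback g.hom k.toHom
      have sqX := IsPullback.of_hasPullback h.hom (pullback.fst g.hom k.toHom)
      have sqZ := IsPullback.of_hasPullback (i ≫ g).hom k.toHom
      have hfin := ha _ _ _ sqY.flip.flip _ _ _ sqX
      let m := pullback.lift (pullback.fst (i ≫ g).hom k.toHom ≫ i.hom) (pullback.snd (i ≫ g).hom k.toHom)
        (by rw [Category.assoc]; exact sqZ.w) (f := g.hom) (g := k.toHom)
      haveI : Mono m := ⟨fun {W} u v huv => pullback.hom_ext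
        ((cancel_mono i.hom).1 (by simpa [m] using congrArg (· ≫ pullback.fst g.hom k.toHom) huv))
        (by simpa [m] using congrArg (· ≫ pullback.snd g.hom k.toHom) huv)⟩
      refine qf_of_finite_fibre Z.property B.property hZp sqZ ?_ z (hz.trans hk.symm)
      haveI := hfin.to_subtype
      refine Finite.of_injective (fun w : Points (pullback (i ≫ g).hom k.toHom) => (⟨Points.map m w, ?_⟩ : ↥(Set.range (Points.map
        (pullback.snd h.hom (pullback.fst g.hom k.toHom)))))) (fun a b hab => injective_points_map_of_mono m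
          (congrArg Subtype.val hab))
      obtain ⟨x, hx⟩ := hes (Points.map (pullback.fst (i ≫ g).hom k.toHom) w)
      obtain ⟨p, -, hp2⟩ := exists_point_of_isPullback sqX (x := x) (y := Points.map m w) (by
        rw [← Points.map_comp, pullback.lift_fst, Points.map_comp, ← hx, ← Points.map_comp,
          show e.hom ≫ i.hom = h.hom from he])
      exact ⟨p, hp2⟩
    · obtain ⟨r, P, fst, snd, sq, eq, hr, -, -⟩ := FibrePoints.exists_fibre_homeo Z.property B.property (i ≫ g).hom hd b
      intro z hz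
      haveI : Finite ↥(Points.map (i ≫ g).hom ⁻¹' {b}) := by
        haveI := hfin.to_subtype
        refine Finite.of_injective (fun w : ↥(Points.map (i ≫ g).hom ⁻¹' {b}) => (⟨Points.map i.hom w.1, ?_⟩ :
          ↥(Points.map h.hom '' (Points.map f.hom ⁻¹' {b})))) (fun a c hac => Subtype.ext
            (injective_points_map_of_mono i.hom (congrArg Subtype.val hac)))
        obtain ⟨x, hx⟩ := hes w.1
        refine ⟨x, ?_, ?_⟩
        · show Points.map f.hom x = b
          rw [← hc', ← show e.hom ≫ i.hom = h.hom from he, Category.assoc, Points.map_comp, hx]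
          exact w.2
        · rw [← show e.hom ≫ i.hom = h.hom from he, Points.map_comp, hx]
      exact qf_of_finite_fibre Z.property B.property hZp sq (Finite.of_equiv _ eq.symm.toEquiv) z (hz.trans hr.symm)
  obtain ⟨V, j, hV, hj, hb, hfinj⟩ := QfLocus.exists_finite_nbhd_of_proper Z.property B.property hZp b hq
  refine ⟨⟨V, hV⟩, ObjectProperty.homMk j, hj, hb, fun YB gY sY sqY XB gX hB sqX => ?_⟩
  have sqZ := IsPullback.of_hasPullback i.hom gY.hom
  let ZB : Space S := ⟨_, isAlgSpace_pullback Z.property YB.property Y.property i.hom gY.hom⟩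
  refine ⟨ZB, ObjectProperty.homMk (pullback.snd i.hom gY.hom),
    ObjectProperty.homMk (sqZ.lift (gX.hom ≫ e.hom) hB.hom (by rw [Category.assoc, show e.hom ≫ i.hom = h.hom from he, sqX.w])),
    repWith_of_isPullback sqZ hi, isFiniteMor_iff_repWith.2 ?_, ObjectProperty.hom_ext _ (sqZ.lift_snd _ _ _)⟩
  exact hfinj _ _ _ (sqZ.paste_vert sqY)

end Groth.Agent.S10651
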