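import Groth.Statements.S10652
import Groth.Agent.AlgSpDec.SchDenseSp
import Groth.Agent.AlgSpDec.SchDenseFacts
import Groth.Agent.AlgSpLib.EtLocalInst
import Groth.Agent.S0451

set_option autoImplicit false
universe u
open CategoryTheory CategoryTheory.Limits AlgebraicGeometry
open AlgSp

namespace Groth.Agent.S10652

set_option backward.isDefEq.respectTransparency false
set_option backward.isDefEq.respectTransparency.types false

/-- For a flat morphism f : X ⟶ Y of algebraic spaces over S which is locally of finite type, and an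
open subspace j : V ⟶ Y which is quasi-compact (as a morphism) and scheme theoretically dense (on
some etale surjective scheme chart its inverse image is a schematically dense open): if the base
change X ×_Y V ⟶ V is locally of finite presentation then so is f. -/
theorem result {S : Scheme.{u}} {X Y V : AlgSp.Space S} (f : X ⟶ Y) (j : V ⟶ Y)
    (hf1 : AlgSp.LocP @LocallyOfFiniteType f.hom) (hf2 : AlgSp.LocP @Flat f.hom)
    (hj1 : AlgSp.IsQuasiCompactMor j.hom) (hj2 : AlgSp.IsSchDense j.hom)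
    (P : AlgSp.Space S) (fst : P ⟶ X) (snd : P ⟶ V) (hP : IsPullback fst.hom snd.hom f.hom j.hom)
    (hV : AlgSp.LocP @LocallyOfFinitePresentation snd.hom) :
    AlgSp.LocP @LocallyOfFinitePresentation f.hom := by
  obtain ⟨U, T', a, b, h, ha, ha', hb, -, w⟩ := Groth.Agent.AlgSpLib.exists_chart X.property Y.property f.hom
  refine Groth.Agent.AlgSpLib.locP_of_chart ha ha' hb w ?_
  haveI : Flat h.left := hf2 a b h ha hb w
  haveI : LocallyOfFiniteType h.left := hf1 a b h ha hb w
  obtain ⟨fstW, sqW⟩ := Groth.Agent.AlgSpDec.SchDenseSp.exists_isPullback Y.property hj2.1 b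
  let W := Groth.Agent.AlgSpDec.SchDenseSp.pre Y.property hj2.1 b
  haveI : QuasiCompact W.ι := Groth.Agent.AlgSpDec.SchDenseSp.quasiCompact_pre_ι Y.property hj2.1 hj1 b
  haveI : IsSchemeTheoreticallyDominant W.ι := ⟨(Groth.Agent.AlgSpDec.SchDenseFacts.iff_ker_eq_bot W).1
    (Groth.Agent.AlgSpDec.SchDenseSp.dense_pre Y.property hj2 hb)⟩
  let UW : Over S := Over.mk ((h.left ⁻¹ᵁ W).ι ≫ U.hom)
  let TW : Over S := Over.mk (W.ι ≫ T'.hom)
  let ιU : UW ⟶ U := Over.homMk (h.left ⁻¹ᵁ W).ι rfl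
  let ιT : TW ⟶ T' := Over.homMk W.ι rfl
  let r : UW ⟶ TW := Over.homMk (h.left ∣_ W) (by
    show (h.left ∣_ W) ≫ W.ι ≫ T'.hom = (h.left ⁻¹ᵁ W).ι ≫ U.hom
    rw [morphismRestrict_ι_assoc, Over.w h])
  have hr : ιU ≫ h = r ≫ ιT := Over.OverMorphism.ext (morphismRestrict_ι _ _).symm
  let aP : (AlgSp.yon S).obj UW ⟶ P.obj := hP.lift ((AlgSp.yon S).map ιU ≫ a) ((AlgSp.yon S).map r ≫ fstW) (by
    rw [Category.assoc, w, ← Category.assoc, ← Functor.map_comp, hr, Functor.map_comp, Category.assoc,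
      Category.assoc, sqW.w])
  have hopen : ∀ {A B : AlgSp.Sp S} (φ : A ⟶ B), AlgSp.RepWith @IsOpenImmersion φ → AlgSp.RepWith @Etale φ :=
    fun φ hφ => ⟨hφ.rep, fun A' B' g g' g'' sq =>
      haveI : IsOpenImmersion g''.left := hφ.property g g' g'' sq
      inferInstanceAs (Etale g''.left)⟩
  have hfst : AlgSp.RepWith @Etale fst.hom :=
    hopen _ (Groth.Agent.AlgSpLib.repWith_of_isPullback hP.flip hj2.1)
  have hfW : AlgSp.RepWith @Etale fstW := Groth.Agent.AlgSpLib.repWith_of_isPullback sqW.flip hb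
  have hιU : AlgSp.RepWith @Etale ((AlgSp.yon S).map ιU) :=
    (AlgSp.repWith_yon_map_iff _ _).2 (inferInstanceAs (Etale (h.left ⁻¹ᵁ W).ι))
  have haP : AlgSp.RepWith @Etale aP := Groth.Agent.AlgSpLib.repWith_etale_of_comp aP fst.hom
    (by rw [hP.lift_fst]; exact Groth.Agent.AlgSpLib.repWith_comp hιU ha) hfst
  haveI : LocallyOfFinitePresentation (h.left ∣_ W) := hV aP fstW r haP hfW (hP.lift_snd _ _ _)
  exact Groth.Agent.S0451.result h.left W

end Groth.Agent.S10652
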