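import Groth.Statements.S10653
import Groth.Agent.AlgSpDec.RelDimSp
import Groth.Agent.AlgSpDec.PointsSpectral
import Groth.Agent.AlgSpPts.SepDescent
import Groth.Agent.AlgSpQMod.QcOpen
import Groth.Agent.S1240

set_option autoImplicit false
universe u
open CategoryTheory CategoryTheory.Limits AlgebraicGeometry
open AlgSp

namespace Groth.Agent.S10653

set_option backward.isDefEq.respectTransparency false
set_option backward.isDefEq.respectTransparency.types false

/-- For a flat morphism f : X ⟶ Y of algebraic spaces over S which is locally of finite type, and an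
open subspace j : V ⟶ Y with |V| dense in |Y| such that the base change X ×_Y V ⟶ V has relative
dimension at most d (at every point some etale chart diagram has top arrow with local fibre
dimension at most d): if either j is quasi-compact or f is locally of finite presentation, then f
has relative dimension at most d at every point of |X|. -/
theorem result {S : Scheme.{u}} {X Y V : AlgSp.Space S} (f : X ⟶ Y) (j : V ⟶ Y) (d : ℕ)
    (hf1 : AlgSp.LocP @Flat f.hom) (hf2 : AlgSp.LocP @LocallyOfFiniteType f.hom)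
    (hj1 : AlgSp.RepWith @IsOpenImmersion j.hom) (hj2 : Dense (Set.range (AlgSp.Points.map j.hom)))
    (P : AlgSp.Space S) (fst : P ⟶ X) (snd : P ⟶ V) (hP : IsPullback fst.hom snd.hom f.hom j.hom)
    (hV : ∀ x, AlgSp.HasAtMor (fun _ _ h u => FlatMor.fibreDimAt h u ≤ (d : WithBot ℕ∞)) snd.hom x)
    (h : AlgSp.LocP @LocallyOfFinitePresentation f.hom ∨ AlgSp.IsQuasiCompactMor j.hom) :
    ∀ x, AlgSp.HasAtMor (fun _ _ h u => FlatMor.fibreDimAt h u ≤ (d : WithBot ℕ∞)) f.hom x := by
  intro x
  open Groth.Agent.AlgSpLib Groth.Agent.AlgSpPts Groth.Agent.AlgSpDec in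
  obtain ⟨U, W, a, b, g, ha, ha', hb, -, w⟩ := exists_chart X.property Y.property f.hom
  obtain ⟨u, rfl⟩ := Groth.Agent.AlgSpLib.surjective_ofPt ha' x
  haveI : Flat g.left := hf1 a b g ha hb w
  haveI : LocallyOfFiniteType g.left := hf2 a b g ha hb w
  let R : Set (AlgSp.Points Y.obj) := Set.range (AlgSp.Points.map j.hom)
  have hR : IsOpen R := (Groth.Agent.AlgSpDec.isOpenEmbedding_map' Y.property hj1).isOpen_range
  let O : W.left.Opens := ⟨AlgSp.Points.ofPt b ⁻¹' R, hR.preimage (AlgSp.Points.continuous_ofPt b)⟩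
  refine ⟨U, W, a, b, g, u, ha, hb, w, rfl, Groth.Agent.S1240.result g.left O
    (hj2.preimage (Groth.Agent.AlgSpLib.isOpenMap_ofPt hb)) d (fun u' hu' => ?_) ?_ u⟩
  · obtain ⟨z, hz⟩ := hu'
    obtain ⟨p, hp, -⟩ := Groth.Agent.AlgSpLib.exists_point_of_isPullback hP (x := AlgSp.Points.ofPt a u') (y := z) (by
      rw [hz, AlgSp.Points.map_ofPt, w, Groth.Agent.AlgSpLib.ofPt_comp])
    obtain ⟨U₁, V₁, a₁, b₁, g₁, u₁, ha₁, hb₁, w₁, hu₁, he₁⟩ :=
      Groth.Agent.AlgSpDec.RelDimSp.baseChange hP X.property Y.property V.property hf2 p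
        (FlatMor.fibreDimAt g.left u') ⟨U, W, a, b, g, u', ha, hb, w, hp.symm, rfl⟩
    obtain ⟨U₂, V₂, a₂, b₂, g₂, u₂, ha₂, hb₂, w₂, hu₂, he₂⟩ := hV p
    have hl : AlgSp.LocP @LocallyOfFiniteType snd.hom :=
      Groth.Agent.AlgSpLib.locP_of_isPullback hP X.property Y.property V.property hf2
    rw [← he₁, Groth.Agent.AlgSpDec.RelDimSp.fibreDimAt_congr hl ha₁ hb₁ w₁ ha₂ hb₂ w₂ (hu₁.trans hu₂.symm)]
    exact he₂
  · refine h.imp (fun h' => h' a b g ha hb w) fun hq => ?_
    haveI : QuasiCompact (hj1.rep.snd b).left :=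
      (Groth.Agent.AlgSpPts.repWith_quasiCompact hj1.rep hq).property_snd b
    have hO : (O : Set W.left) = Set.range (hj1.rep.snd b).left :=
      Set.ext fun v => Groth.Agent.AlgSpQMod.ofPt_mem_range_iff hj1 b v
    intro K hK hK'
    rw [hO, ← Set.image_preimage_eq_range_inter]
    exact (QuasiCompact.isCompact_preimage K hK' hK).image (hj1.rep.snd b).left.continuous

end Groth.Agent.S10653
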