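import Groth.Statements.S10654
import Groth.Agent.AlgSpDec.RelDimSp
import Groth.Agent.S10649
import Groth.Agent.S10653

set_option autoImplicit false
universe u
open CategoryTheory CategoryTheory.Limits AlgebraicGeometry
open AlgSp

namespace Groth.Agent.S10654

set_option backward.isDefEq.respectTransparency false
set_option backward.isDefEq.respectTransparency.types false

/-- For a flat proper morphism f : X ⟶ Y of algebraic spaces over S and an open subspace j : V ⟶ Y with
|V| dense in |Y| such that the base change X ×_Y V ⟶ V is finite: f is finite over all of Y,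
provided either j is quasi-compact or f is locally of finite presentation. -/
theorem result {S : Scheme.{u}} {X Y V : AlgSp.Space S} (f : X ⟶ Y) (j : V ⟶ Y)
    (hf1 : AlgSp.LocP @Flat f.hom) (hf2 : AlgSp.IsProperMor f.hom)
    (hj1 : AlgSp.RepWith @IsOpenImmersion j.hom) (hj2 : Dense (Set.range (AlgSp.Points.map j.hom)))
    (P : AlgSp.Space S) (fst : P ⟶ X) (snd : P ⟶ V) (hP : IsPullback fst.hom snd.hom f.hom j.hom)
    (hV : AlgSp.IsFiniteMor snd.hom)
    (h : AlgSp.LocP @LocallyOfFinitePresentation f.hom ∨ AlgSp.IsQuasiCompactMor j.hom) :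
    AlgSp.IsFiniteMor f.hom := by
  have hlft := hf2.2.1.1
  have hlftV : AlgSp.LocP @LocallyOfFiniteType snd.hom :=
    Groth.Agent.AlgSpLib.locP_of_isPullback hP X.property Y.property V.property hlft
  have hq := ((Groth.Agent.S10649.result snd).out 0 1).1 hV
  have h0 := (Groth.Agent.AlgSpDec.RelDimSp.lqf_iff P.property V.property hlftV).1 hq.2
  have h1 := Groth.Agent.S10653.result f j 0 hf1 hlft hj1 hj2 P fst snd hP (fun p => by
    obtain ⟨U, W, a, b, g, u, ha, hb, w, hu, he⟩ := h0 p
    exact ⟨U, W, a, b, g, u, ha, hb, w, hu, le_of_eq (he.trans Nat.cast_zero.symm)⟩) h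
  refine ((Groth.Agent.S10649.result f).out 0 1 : AlgSp.IsFiniteMor f.hom ↔
    AlgSp.IsProperMor f.hom ∧ AlgSp.LocP (@LocallyQuasiFinite ⊓ @LocallyOfFiniteType) f.hom).2
    ⟨hf2, (Groth.Agent.AlgSpDec.RelDimSp.lqf_iff X.property Y.property hlft).2 fun x => ?_⟩
  obtain ⟨U, W, a, b, g, u, ha, hb, w, hu, he⟩ := h1 x
  refine ⟨U, W, a, b, g, u, ha, hb, w, hu, ?_⟩
  haveI : LocallyOfFiniteType g.left := hlft a b g ha hb w
  obtain ⟨z, -, -, hz, -⟩ := Groth.Agent.FibDim.exists_fibreDimAt_eq g.left u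
  show FlatMor.fibreDimAt g.left u = 0
  have he' : FlatMor.fibreDimAt g.left u ≤ ((0 : ℕ) : WithBot ℕ∞) := he
  rw [hz] at he' ⊢
  exact le_antisymm (he'.trans_eq Nat.cast_zero) (WithBot.coe_le_coe.2 zero_le)

end Groth.Agent.S10654
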