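import Groth.Statements.S10655
import Groth.Agent.S10652
import Groth.Agent.S9969
import Groth.Agent.S9972
import Groth.Agent.S9973
import Groth.Agent.AlgSpDec.MonoTfae
import Groth.Agent.AlgSpLib.FpqcDescent
import Groth.Agent.AlgSpLib.EtLocalInst

set_option autoImplicit false
universe u
open CategoryTheory CategoryTheory.Limits AlgebraicGeometry
open AlgSp

namespace Groth.Agent.S10655

set_option backward.isDefEq.respectTransparency false
set_option backward.isDefEq.respectTransparency.types false

/-- For a separated flat morphism f : X ⟶ Y of algebraic spaces over S which is locally of finite type,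
and an open subspace j : V ⟶ Y which is quasi-compact and scheme theoretically dense (on some etale
surjective scheme chart its inverse image is a schematically dense open): if the base change X ×_Y V
⟶ V is an isomorphism then f is a representable open immersion. -/
theorem result {S : Scheme.{u}} {X Y V : AlgSp.Space S} (f : X ⟶ Y) (j : V ⟶ Y)
    (hf1 : AlgSp.IsSeparatedMor f.hom) (hf2 : AlgSp.LocP @LocallyOfFiniteType f.hom) (hf3 : AlgSp.LocP @Flat f.hom)
    (hj1 : AlgSp.IsQuasiCompactMor j.hom) (hj2 : AlgSp.IsSchDense j.hom)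
    (P : AlgSp.Space S) (fst : P ⟶ X) (snd : P ⟶ V) (hP : IsPullback fst.hom snd.hom f.hom j.hom)
    (hV : IsIso snd.hom) :
    AlgSp.RepWith @IsOpenImmersion f.hom := by
  haveI : MorphismProperty.IsMultiplicative (@LocallyOfFinitePresentation : MorphismProperty Scheme.{u}) :=
    { id_mem := fun X => inferInstanceAs (LocallyOfFinitePresentation (𝟙 X))
      comp_mem := fun f g _ _ => inferInstanceAs (LocallyOfFinitePresentation (f ≫ g)) }
  have hsndf : AlgSp.LocP @LocallyOfFinitePresentation snd.hom :=
    Groth.Agent.AlgSpLib.locP_of_repWith (Groth.Agent.AlgSpLib.repWith_of_isIso _ snd.hom)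
  have hlfp : AlgSp.LocP @LocallyOfFinitePresentation f.hom :=
    Groth.Agent.S10652.result f j hf2 hf3 hj1 hj2 P fst snd hP hsndf
  -- the two projections of `X ×_Y X` agree over `V`, so they are equal
  let XX : AlgSp.Space S := ⟨pullback f.hom f.hom,
    Groth.Agent.AlgSpLib.isAlgSpace_pullback X.property X.property Y.property _ _⟩
  let p₁ : XX ⟶ X := ObjectProperty.homMk (pullback.fst f.hom f.hom)
  let p₂ : XX ⟶ X := ObjectProperty.homMk (pullback.snd f.hom f.hom)
  have hp : p₁ ≫ f = p₂ ≫ f := ObjectProperty.hom_ext _ pullback.condition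
  let g : XX ⟶ Y := p₁ ≫ f
  have hg : AlgSp.LocP @Flat g.hom := Groth.Agent.AlgSpLib.locP_comp XX.property X.property Y.property
    (Groth.Agent.AlgSpLib.locP_of_isPullback (IsPullback.of_hasPullback f.hom f.hom).flip X.property Y.property
      X.property hf3) hf3
  let V' : AlgSp.Space S := ⟨pullback j.hom g.hom,
    Groth.Agent.AlgSpLib.isAlgSpace_pullback V.property XX.property Y.property _ _⟩
  let fV : V' ⟶ V := ObjectProperty.homMk (pullback.fst j.hom g.hom)
  let jX : V' ⟶ XX := ObjectProperty.homMk (pullback.snd j.hom g.hom)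
  have hd := Groth.Agent.S9973.result g hg j hj2 hj1 fV jX (IsPullback.of_hasPullback _ _)
  have hjX : AlgSp.IsQuasiCompactMor jX.hom := fun Z Z' hZ hZq t a b sq =>
    hj1 hZ hZq (t ≫ g.hom) (a ≫ pullback.fst j.hom g.hom) b (sq.paste_horiz (IsPullback.of_hasPullback _ _))
  have heq : jX ≫ p₁ = jX ≫ p₂ := by
    have key : ∀ φ : V' ⟶ X, φ ≫ f = fV ≫ j → φ.hom = fV.hom ≫ inv snd.hom ≫ fst.hom := by
      intro φ hφ
      obtain ⟨l, e1, e2⟩ : ∃ l, l ≫ fst.hom = φ.hom ∧ l ≫ snd.hom = fV.hom :=
        ⟨_, hP.lift_fst φ.hom fV.hom (congrArg InducedCategory.Hom.hom hφ), hP.lift_snd _ _ _⟩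
      rw [← e1, ← e2, Category.assoc, IsIso.hom_inv_id_assoc]
    have hc : jX ≫ p₁ ≫ f = fV ≫ j := ObjectProperty.hom_ext _ pullback.condition.symm
    apply ObjectProperty.hom_ext
    rw [key (jX ≫ p₁) (by rw [Category.assoc]; exact hc),
      key (jX ≫ p₂) (by rw [Category.assoc, ← hp]; exact hc)]
  have h12 : p₁ = p₂ := Groth.Agent.S9972.result f hf1 p₁ p₂ hp jX hd.1
    ((Groth.Agent.S9969.result jX hd.1 hjX).1 hd) heq
  haveI : Mono f.hom := ⟨fun {Z} s t h => by
    have e := congrArg (fun φ : XX ⟶ X => pullback.lift s t h ≫ φ.hom) h12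
    simpa [p₁, p₂] using e⟩
  have hu := (Groth.Agent.AlgSpDec.locP_lft_unramified_iff X.property Y.property f.hom).2
    ⟨hf2, Groth.Agent.AlgSpDec.isFormallyUnramifiedMor_of_mono⟩
  refine Groth.Agent.AlgSpLib.repWith_isOpenImmersion_of_mono_of_etale X.property Y.property f.hom
    fun U T a b h ha hb w => ?_
  haveI : Flat h.left := hf3 a b h ha hb w
  haveI : LocallyOfFinitePresentation h.left := hlfp a b h ha hb w
  haveI : FormallyUnramified h.left := (hu a b h ha hb w).2
  exact Etale.of_formallyUnramified_of_flat _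

end Groth.Agent.S10655
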