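import Groth.Statements.S10656
import Groth.Agent.EtQC.Chev.Chow
-- import your own Groth.Agent.* helpers here

set_option autoImplicit false
universe u
open CategoryTheory CategoryTheory.Limits AlgebraicGeometry
open AlgSp

namespace Groth.Agent.S10656

set_option backward.isDefEq.respectTransparency false
set_option backward.isDefEq.respectTransparency.types false
open Groth.Agent.EtQC Groth.Agent.AlgSpLib Groth.Agent.AlgSpPts

/-- (a variant of Chow's lemma) for an algebraic space Y over S which is quasi-compact and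
quasi-separated and a separated morphism f : X ⟶ Y of finite type, there are an algebraic space X',
a proper surjective morphism X' ⟶ X, a representable open immersion X' ⟶ X̄' and a proper
representable morphism X̄' ⟶ Y forming a commutative diagram over Y. (The published statement asks Y
to be quasi-separated in the absolute sense and puts no condition on S; this row assumes S
quasi-separated and Y quasi-separated over S, which together imply it.) -/
theorem result {S : Scheme.{u}} [QuasiSeparatedSpace ↥S] {X Y : AlgSp.Space S} (f : X ⟶ Y)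
    (hY1 : AlgSp.IsQuasiCompactSp Y.obj) (hY2 : AlgSp.IsQuasiSeparatedSp Y.obj)
    (hf1 : AlgSp.IsSeparatedMor f.hom) (hf2 : AlgSp.IsFiniteTypeMor f.hom) :
    ∃ (X' Xb : AlgSp.Space S) (a : X' ⟶ X) (b : X' ⟶ Xb) (c : Xb ⟶ Y), b ≫ c = a ≫ f ∧
      AlgSp.IsProperMor a.hom ∧ AlgSp.IsSurjectiveMor a.hom ∧ AlgSp.RepWith @IsOpenImmersion b.hom ∧
        AlgSp.IsProperMor c.hom ∧ AlgSp.Representable c.hom := by
  obtain ⟨U, φ, -, he, hes⟩ := AlgSpLib.CartierRegular.exists_affine_atlas Y.property hY1
  obtain ⟨Z, c₀, hc, hcs, -, -⟩ := S10048.result S Y hY1 hY2 U φ he hes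
  have hcr : RepWith @IsFinite c₀ := AlgSpDec.isFiniteMor_iff_repWith.1 hc
  have hca : RepWith @IsAffineHom c₀ :=
    repWith_mono (fun _ _ m (_ : IsFinite m) => inferInstanceAs (IsAffineHom m)) _ hcr
  haveI : CompactSpace Z.left :=
    (isQuasiCompactSp_yon_iff Z).1 (AlgSpDec.isQuasiCompactSp_of_affine Y.property c₀ hca hY1)
  haveI : QuasiSeparated Z.hom :=
    (AlgSpDec.isQuasiSeparatedSp_yon_iff' Z).1 (AlgSpDec.isQuasiSeparatedSp_of_affine c₀ hca hY2)
  haveI : QuasiSeparatedSpace Z.left := quasiSeparatedSpace_of_quasiSeparated Z.hom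
  have sq := IsPullback.of_hasPullback f.hom c₀
  let XZ : AlgSp.Space S :=
    ⟨pullback f.hom c₀, isAlgSpace_of_isPullback sq X.property (IsAlgSpace.yon_obj _) Y.property⟩
  let q : XZ.obj ⟶ (yon S).obj Z := pullback.snd f.hom c₀
  have hsep : IsSeparatedMor q := isSeparatedMor_of_isPullback sq hf1
  have hft : IsFiniteTypeMor q :=
    ⟨locP_of_isPullback sq X.property Y.property (IsAlgSpace.yon_obj _) hf2.1, isQuasiCompactMor_of_isPullback sq hf2.2⟩
  have hXqc : IsQuasiCompactSp XZ.obj :=
    hft.2 (IsAlgSpace.yon_obj _) ((isQuasiCompactSp_yon_iff _).2 inferInstance) (𝟙 _) (𝟙 XZ.obj) q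
      (IsPullback.of_horiz_isIso ⟨by simp⟩)
  have hXqs : IsQuasiSeparatedSp XZ.obj := by
    rw [isQuasiSeparatedSp_iff_mor, (isTerminalYon S).hom_ext ((isTerminalYon S).from XZ.obj) (q ≫ (isTerminalYon S).from _)]
    exact isQuasiSeparatedMor_comp
      (repWith_mono (fun _ _ k (_ : IsClosedImmersion k) => (inferInstance : QuasiCompact k)) _ hsep)
      ((isQuasiSeparatedSp_iff_mor _).1 ((AlgSpDec.isQuasiSeparatedSp_yon_iff' Z).2 inferInstance))
  obtain ⟨V, ψ, -, hve, hvs⟩ := AlgSpLib.CartierRegular.exists_affine_atlas XZ.property hXqc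
  obtain ⟨T, g, hg, hgs, -, -⟩ := S10048.result S XZ hXqc hXqs V ψ hve hvs
  obtain ⟨n, T', a, t, j, hat, ha, has, hj, hjc, hw⟩ :=
    Chev.Chow.exists_chow XZ.property q hsep hft g (AlgSpDec.isFiniteMor_iff_repWith.1 hg) hgs
  haveI := hj; haveI := hjc
  let r : j.image ⟶ Z.left := j.imageι ≫ CohB1.ProjSpaceOver.toBase n Z.left
  haveI : IsProper (CohB1.ProjSpaceOver.toBase n Z.left) := by
    unfold CohB1.ProjSpaceOver.toBase
    exact MorphismProperty.pullback_snd _ _ (PnCoh.Chow.isProper_toSpec n _)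
  haveI : IsProper r := inferInstanceAs (IsProper (_ ≫ _))
  have hjr : j.toImage ≫ r = t.left := by rw [← hw, ← Category.assoc, j.toImage_imageι]
  let Tb : Over S := Over.mk (r ≫ Z.hom)
  let bT : T' ⟶ Tb := Over.homMk j.toImage (by
    show j.toImage ≫ r ≫ Z.hom = T'.hom
    rw [← Category.assoc, hjr, Over.w])
  let rT : Tb ⟶ Z := Over.homMk r rfl
  have hbr : bT ≫ rT = t := Over.OverMorphism.ext hjr
  have hfst : RepWith @IsFinite (pullback.fst f.hom c₀) := repWith_of_isPullback sq.flip hcr
  refine ⟨⟨(yon S).obj T', IsAlgSpace.yon_obj _⟩, ⟨(yon S).obj Tb, IsAlgSpace.yon_obj _⟩,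
    ObjectProperty.homMk (a ≫ pullback.fst f.hom c₀), ObjectProperty.homMk ((yon S).map bT),
    ObjectProperty.homMk ((yon S).map rT ≫ c₀), ObjectProperty.hom_ext _ ?_,
    isProperMor_comp (IsAlgSpace.yon_obj _) XZ.property X.property ha (Chev.Chow.isProperMor_of_finite hfst), ?_,
    (repWith_yon_map_iff _ _).2 (inferInstanceAs (IsOpenImmersion j.toImage)),
    isProperMor_comp (IsAlgSpace.yon_obj _) (IsAlgSpace.yon_obj _) Y.property
      (Chev.Chow.isProperMor_of_repWith ((repWith_yon_map_iff _ _).2 (inferInstanceAs (IsProper r))))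
      (Chev.Chow.isProperMor_of_finite hcr), Y.property.representable_from_yon _⟩
  · show (yon S).map bT ≫ (yon S).map rT ≫ c₀ = (a ≫ pullback.fst f.hom c₀) ≫ f.hom
    rw [← Category.assoc, ← Functor.map_comp, hbr, hat, Category.assoc, Category.assoc, sq.w]
  · intro x
    obtain ⟨z, hz⟩ := hcs (Points.map f.hom x)
    obtain ⟨w, hw', -⟩ := exists_point_of_isPullback sq hz.symm
    obtain ⟨v, hv⟩ := has w
    exact ⟨v, by
      show Points.map (a ≫ pullback.fst f.hom c₀) v = x
      rw [Points.map_comp, hv, hw']⟩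

end Groth.Agent.S10656
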