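import Groth.Statements.S10663
import Groth.Agent.AlgSpDec.RegImmSp
import Groth.Agent.S8654

set_option autoImplicit false
universe u
open CategoryTheory CategoryTheory.Limits AlgebraicGeometry
open AlgSp

namespace Groth.Agent.S10663

set_option backward.isDefEq.respectTransparency false
set_option backward.isDefEq.respectTransparency.types false

/-- For immersions i : Z ⟶ Y and j : Y ⟶ X of algebraic spaces over S, the composite i ≫ j is
Koszul-regular when i and j both are; likewise for H_1-regular; and it is quasi-regular when i is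
H_1-regular and j quasi-regular. -/
theorem result {S : Scheme.{u}} {Z Y X : AlgSp.Space S} (i : Z ⟶ Y) (j : Y ⟶ X)
    (hi : AlgSp.RepWith @IsImmersion i.hom) (hj : AlgSp.RepWith @IsImmersion j.hom) :
    (AlgSp.IsRegImmMor RegImm.Kind.koszul i.hom → AlgSp.IsRegImmMor RegImm.Kind.koszul j.hom →
        AlgSp.IsRegImmMor RegImm.Kind.koszul (i ≫ j).hom) ∧
      (AlgSp.IsRegImmMor RegImm.Kind.h1 i.hom → AlgSp.IsRegImmMor RegImm.Kind.h1 j.hom →
        AlgSp.IsRegImmMor RegImm.Kind.h1 (i ≫ j).hom) ∧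
      (AlgSp.IsRegImmMor RegImm.Kind.h1 i.hom → AlgSp.IsRegImmMor RegImm.Kind.quasi j.hom →
        AlgSp.IsRegImmMor RegImm.Kind.quasi (i ≫ j).hom) := by
  have key : ∀ ki kj k : RegImm.Kind,
      (∀ {A B C : Scheme.{u}} (a : A ⟶ B) (c : B ⟶ C), RegImm.IsRegularImmersion ki a →
        RegImm.IsRegularImmersion kj c → RegImm.IsRegularImmersion k (a ≫ c)) →
      AlgSp.IsRegImmMor ki i.hom → AlgSp.IsRegImmMor kj j.hom → AlgSp.IsRegImmMor k (i ≫ j).hom := by
    intro ki kj k hsch hi' hj'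
    refine ⟨(MorphismProperty.comp_mem (AlgSp.RepWith @IsImmersion) _ _ hi hj).rep, fun V W b fst snd hb sq => ?_⟩
    have sqj := hj'.1.isPullback b
    have hb' : AlgSp.RepWith @Etale (hj'.1.fst b) := Groth.Agent.AlgSpLib.repWith_of_isPullback sqj.flip hb
    have e := ((hi'.1.isPullback (hj'.1.fst b))).paste_vert sqj
    obtain ⟨ε, hε⟩ := Groth.Agent.AlgSpDec.regImm_snd_congr (k := k)
      (snd := hi'.1.snd (hj'.1.fst b) ≫ hj'.1.snd b) (by rw [Functor.map_comp]; exact e) sq
    refine Groth.Agent.AlgSpDec.regImm_of_iso ε hε ?_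
    exact hsch _ _ (hi'.2 _ _ _ hb' (hi'.1.isPullback _)) (hj'.2 b _ _ hb sqj)
  refine ⟨key _ _ _ fun a c ha hc => Groth.Agent.S8654.result c a hc ha, key _ _ _ fun a c ha hc => ?_,
    key _ _ _ fun a c ha hc => ?_⟩
  · have := ha.1; have := hc.1
    exact ⟨inferInstance, fun z =>
      Groth.Agent.RegImmLib.regularImmersionAt_comp_kind _ (Or.inl rfl) c a z (hc.2 _) (ha.2 z)⟩
  · have := ha.1; have := hc.1
    exact ⟨inferInstance, fun z =>
      Groth.Agent.RegImmLib.regularImmersionAt_comp_kind _ (Or.inr rfl) c a z (hc.2 _) (ha.2 z)⟩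

end Groth.Agent.S10663
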