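import Groth.Statements.S10664
import Groth.Agent.AlgSpDec.RegImmSp
import Groth.Agent.S8656

set_option autoImplicit false
universe u
open CategoryTheory CategoryTheory.Limits AlgebraicGeometry
open AlgSp

namespace Groth.Agent.S10664

set_option backward.isDefEq.respectTransparency false
set_option backward.isDefEq.respectTransparency.types false

/-- For a local complete intersection (Koszul) morphism f : X ⟶ Y of algebraic spaces over S, a smooth g
: P ⟶ Y, an etale e : U ⟶ X and a representable immersion i : U ⟶ P with i ≫ g = e ≫ f, the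
immersion i is Koszul-regular as an immersion of algebraic spaces. -/
theorem result {S : Scheme.{u}} {X Y P U : AlgSp.Space S} (f : X ⟶ Y) (g : P ⟶ Y) (e : U ⟶ X) (i : U ⟶ P)
    (hc : i ≫ g = e ≫ f) (hf : AlgSp.IsLCIMor f.hom) (hg : AlgSp.LocP @Smooth g.hom)
    (he : AlgSp.IsEtaleMor e.hom) (hi : AlgSp.RepWith @IsImmersion i.hom) :
    AlgSp.IsRegImmMor RegImm.Kind.koszul i.hom := by
  refine ⟨hi.rep, fun V W b fst snd hb sq => ?_⟩
  obtain ⟨T, c, hc0, hc0'⟩ := Y.property.atlas
  let q := hc0.rep.snd (b ≫ g.hom)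
  let r := hc0.rep.fst' (b ≫ g.hom)
  have hq : Etale q.left := hc0.property_snd (b ≫ g.hom)
  have hq' : Surjective q.left := hc0'.property _ _ _ (hc0.rep.isPullback (b ≫ g.hom))
  have hw : (AlgSp.yon S).map r ≫ c = (AlgSp.yon S).map q ≫ b ≫ g.hom := (hc0.rep.isPullback' (b ≫ g.hom)).w
  have hr : Smooth r.left := hg ((AlgSp.yon S).map q ≫ b) c r
    (Groth.Agent.AlgSpLib.repWith_comp ((AlgSp.repWith_yon_map_iff _ q).2 hq) hb) hc0
    (by rw [Category.assoc, hw])
  have sqT := (IsPullback.of_hasPullback snd q)
  let p := pullback.fst snd q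
  have hp : Etale p.left := MorphismProperty.of_isPullback (P := @Etale) (sqT.map (Over.forget S)).flip hq
  have hfst : AlgSp.RepWith @Etale fst := Groth.Agent.AlgSpLib.repWith_of_isPullback sq.flip hb
  have ha : AlgSp.RepWith @Etale ((AlgSp.yon S).map p ≫ fst ≫ e.hom) :=
    Groth.Agent.AlgSpLib.repWith_comp ((AlgSp.repWith_yon_map_iff _ p).2 hp)
      (he fst hfst)
  have hlci : ∀ z, Synt.IsKoszulAt (pullback.snd snd q ≫ r).left z :=
    hf ((AlgSp.yon S).map p ≫ fst ≫ e.hom) c (pullback.snd snd q ≫ r) ha hc0 (by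
      have hc' : i.hom ≫ g.hom = e.hom ≫ f.hom := congrArg InducedCategory.Hom.hom hc
      rw [Category.assoc, Category.assoc, ← hc', reassoc_of% sq.w, ← Category.assoc, ← Functor.map_comp,
        show p ≫ snd = pullback.snd snd q ≫ q from sqT.w, Functor.map_comp, Functor.map_comp, Category.assoc,
        Category.assoc, hw])
  haveI : IsImmersion snd.left := hi.property b fst snd sq
  haveI : IsImmersion (pullback.snd snd q).left :=
    MorphismProperty.of_isPullback (P := @IsImmersion) (sqT.map (Over.forget S)) (hi.property b fst snd sq)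
  haveI := hr
  haveI := hq
  haveI := hq'
  exact Groth.Agent.RegImmLib.isRegularImmersion_of_flat_open .koszul (by decide) snd.left q.left _ _
    (sqT.map (Over.forget S))
    (Groth.Agent.S8656.result _ hlci r.left (pullback.snd snd q).left (Over.comp_left _ _ _ _ _).symm)

end Groth.Agent.S10664
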