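import Groth.Statements.S10665
import Groth.Agent.AlgSpDec.RegImmSp
import Groth.Agent.AlgSpDec.KoszulWhere

set_option autoImplicit false
universe u
open CategoryTheory CategoryTheory.Limits AlgebraicGeometry
open AlgSp

namespace Groth.Agent.S10665

set_option backward.isDefEq.respectTransparency false
set_option backward.isDefEq.respectTransparency.types false

/-- A Koszul-regular immersion between algebraic spaces over S (representable, Koszul-regular immersion
on every etale scheme chart of the target) is a local complete intersection morphism (Koszul at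
every point, etale locally on source and target). -/
theorem result {S : Scheme.{u}} {X Y : AlgSp.Space S} (i : X ⟶ Y) (hi : AlgSp.IsRegImmMor RegImm.Kind.koszul i.hom) :
    AlgSp.IsLCIMor i.hom := by
  intro U V a b h ha hb w
  have sq := hi.1.isPullback b
  let e : U ⟶ hi.1.pullback b := (AlgSp.yon S).preimage (sq.lift a ((AlgSp.yon S).map h) w)
  have he1 : (AlgSp.yon S).map e ≫ hi.1.fst b = a := by
    rw [Functor.map_preimage]; exact sq.lift_fst _ _ _
  have he2 : e ≫ hi.1.snd b = h := (AlgSp.yon S).map_injective (by
    rw [Functor.map_comp, Functor.map_preimage]; exact sq.lift_snd _ _ _)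
  have hfst : AlgSp.RepWith @Etale (hi.1.fst b) := Groth.Agent.AlgSpLib.repWith_of_isPullback sq.flip hb
  haveI : Etale e.left := (AlgSp.repWith_yon_map_iff _ e).1
    (Groth.Agent.AlgSpLib.repWith_etale_of_comp _ _ (he1.symm ▸ ha) hfst)
  intro x
  rw [← he2, Over.comp_left]
  refine (Groth.Agent.AlgSpDec.KoszulWhere.isKoszulAt_comp_left_iff e.left (hi.1.snd b).left x).2 ?_
  have hreg : RegImm.IsRegularImmersion .koszul (hi.1.snd b).left := hi.2 b _ _ hb sq
  haveI := hreg.1
  refine ⟨⊤, _, (⊤ : (hi.1.pullback b).left.Opens).ι ≫ (hi.1.snd b).left, 𝟙 _, trivial, inferInstance, ?_,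
    inferInstance, Category.comp_id _⟩
  exact Groth.Agent.AlgSpDec.regImm_of_iso (Scheme.topIso _) rfl hreg

end Groth.Agent.S10665
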