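import Groth.Statements.S10666
import Groth.Agent.AlgSpDec.KoszulWhere
import Groth.Agent.AlgSpLib.LocP

set_option autoImplicit false
universe u
open CategoryTheory CategoryTheory.Limits AlgebraicGeometry
open AlgSp

namespace Groth.Agent.S10666

set_option backward.isDefEq.respectTransparency false
set_option backward.isDefEq.respectTransparency.types false

/-- For morphisms f : X ⟶ Y, p : X ⟶ Z, q : Y ⟶ Z of algebraic spaces over S with f ≫ q = p: if q is
smooth and p is a local complete intersection morphism, then so is f. -/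
theorem result {S : Scheme.{u}} {X Y Z : AlgSp.Space S} (f : X ⟶ Y) (p : X ⟶ Z) (q : Y ⟶ Z) (hc : f ≫ q = p)
    (hq : AlgSp.LocP @Smooth q.hom) (hp : AlgSp.IsLCIMor p.hom) :
    AlgSp.IsLCIMor f.hom := by
  intro U V a b h ha hb w u
  obtain ⟨T, c, hc0, hc0'⟩ := Z.property.atlas
  let π := hc0.rep.snd (b ≫ q.hom)
  let r := hc0.rep.fst' (b ≫ q.hom)
  have hπ : Etale π.left := hc0.property_snd (b ≫ q.hom)
  have hπ' : Surjective π.left := hc0'.property _ _ _ (hc0.rep.isPullback (b ≫ q.hom))
  have hw : (AlgSp.yon S).map r ≫ c = (AlgSp.yon S).map π ≫ b ≫ q.hom := (hc0.rep.isPullback' (b ≫ q.hom)).w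
  have hr : Smooth r.left := hq ((AlgSp.yon S).map π ≫ b) c r
    (Groth.Agent.AlgSpLib.repWith_comp ((AlgSp.repWith_yon_map_iff _ π).2 hπ) hb) hc0
    (by rw [Category.assoc, hw])
  have sq := (IsPullback.of_hasPullback h π).map (Over.forget S)
  let πU := pullback.fst h π
  have hπU : Etale πU.left := MorphismProperty.of_isPullback (P := @Etale) sq.flip hπ
  have hπU' : Surjective πU.left := MorphismProperty.of_isPullback (P := @Surjective) sq.flip hπ'
  have hc' : f.hom ≫ q.hom = p.hom := congrArg InducedCategory.Hom.hom hc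
  have hk : ∀ z, Synt.IsKoszulAt (pullback.snd h π ≫ r).left z :=
    hp ((AlgSp.yon S).map πU ≫ a) c (pullback.snd h π ≫ r)
      (Groth.Agent.AlgSpLib.repWith_comp ((AlgSp.repWith_yon_map_iff _ πU).2 hπU) ha) hc0 (by
      rw [Category.assoc, ← hc', reassoc_of% w, ← Category.assoc, ← Functor.map_comp,
        show πU ≫ h = pullback.snd h π ≫ π from (IsPullback.of_hasPullback h π).w, Functor.map_comp,
        Functor.map_comp, Category.assoc, Category.assoc, hw])
  obtain ⟨u', rfl⟩ := hπU'.surj u
  haveI := hr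
  haveI := hπ
  haveI := hπU
  have h2 := KRegLib.isKoszulAt_of_comp_smooth (pullback.snd h π).left r.left
    (fun z => (Over.comp_left _ _ _ (pullback.snd h π) r) ▸ hk z) u'
  refine (Groth.Agent.AlgSpDec.KoszulWhere.isKoszulAt_comp_left_iff πU.left h.left u').1 ?_
  rw [← Over.comp_left, show πU ≫ h = pullback.snd h π ≫ π from (IsPullback.of_hasPullback h π).w,
    Over.comp_left]
  exact (Groth.Agent.AlgSpDec.KoszulWhere.isKoszulAt_comp_right_iff _ π.left u').2 h2

end Groth.Agent.S10666
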