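import Groth.Statements.S10668
import Groth.Agent.AlgSpDec.KoszulWhere
import Groth.Agent.AlgSpPts.OpenSub
import Groth.Agent.AlgSpLib.EtLocalInst

set_option autoImplicit false
universe u
open CategoryTheory CategoryTheory.Limits AlgebraicGeometry
open AlgSp

namespace Groth.Agent.S10668

set_option backward.isDefEq.respectTransparency false
set_option backward.isDefEq.respectTransparency.types false

/-- For morphisms f : X ⟶ Y, p : X ⟶ Z and q : Y ⟶ Z of algebraic spaces over S with f ≫ q = p and p, q
both flat and locally of finite presentation, any morphism of algebraic spaces g : Z' ⟶ Z and any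
base change f' : X' ⟶ Y' of f along g (pullback squares Y' = Y ×_Z Z', X' = X ×_Y Y'), the set of
points of |X'| at which f' is Koszul (a local complete intersection morphism on some open subspace
through the point) is the inverse image under |X'| ⟶ |X| of the set of points at which f is Koszul.
(The published statement also records that the points at which f is Koszul form an open subspace of
X; with the open-neighbourhood form of being Koszul at a point used here that set is a union of
images of open subspaces, and this row states only its compatibility with base change.) -/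
theorem result {S : Scheme.{u}} {X Y Z : AlgSp.Space S} (f : X ⟶ Y) (p : X ⟶ Z) (q : Y ⟶ Z) (hc : f ≫ q = p)
    (hp1 : AlgSp.LocP @Flat p.hom) (hp2 : AlgSp.LocP @LocallyOfFinitePresentation p.hom)
    (hq1 : AlgSp.LocP @Flat q.hom) (hq2 : AlgSp.LocP @LocallyOfFinitePresentation q.hom)
    {Z' Y' X' : AlgSp.Space S} (g : Z' ⟶ Z) (gY : Y' ⟶ Y) (q' : Y' ⟶ Z') (hY : IsPullback gY.hom q'.hom q.hom g.hom)
    (gX : X' ⟶ X) (f' : X' ⟶ Y') (hX : IsPullback gX.hom f'.hom f.hom gY.hom) :
    {x' | AlgSp.LocPNear AlgSp.lci f'.hom x'} =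
      AlgSp.Points.map gX.hom ⁻¹' {x | AlgSp.LocPNear AlgSp.lci f.hom x} := by
  have key : ∀ {A B : AlgSp.Sp S} (φ : A ⟶ B), AlgSp.IsAlgSpace A → AlgSp.IsAlgSpace B →
      IsOpen (Groth.Agent.AlgSpDec.KoszulWhere.Kosz φ) →
      {x | AlgSp.LocPNear AlgSp.lci φ x} = Groth.Agent.AlgSpDec.KoszulWhere.Kosz φ := by
    intro A B φ hA hB hopen
    ext x
    constructor
    · rintro ⟨W, j, hj, ⟨x', rfl⟩, hW⟩
      obtain ⟨U, V, a, b, h, ha, ha', hb, -, w⟩ := Groth.Agent.AlgSpLib.exists_chart hA hB φ
      obtain ⟨T, g, t, -, rfl⟩ := Groth.Agent.AlgSpLib.exists_ofPt_eq x'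
      obtain ⟨u, hu⟩ := Groth.Agent.AlgSpLib.surjective_ofPt ha' (AlgSp.Points.map j (AlgSp.Points.ofPt g t))
      rw [← hu]
      obtain ⟨z, hz, hz'⟩ := Groth.Agent.AlgSpLib.exists_ofPt_of_eq (ha.rep.isPullback' (g ≫ j))
        (by rw [hu, AlgSp.Points.map_ofPt])
      let l := hj.rep.lift ((AlgSp.yon S).map (ha.rep.snd (g ≫ j)) ≫ g) (ha.rep.fst' (g ≫ j)) (by
        rw [Category.assoc]; exact (ha.rep.isPullback' (g ≫ j)).w.symm)
      have hl : l ≫ hj.rep.snd a = ha.rep.fst' (g ≫ j) := Functor.relativelyRepresentable.lift_snd _ _ _ _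
      have hju : IsOpenImmersion (hj.rep.snd a).left := hj.property_snd a
      have haW : AlgSp.RepWith @Etale (hj.rep.fst a) :=
        Groth.Agent.AlgSpLib.repWith_of_isPullback (hj.rep.isPullback a).flip ha
      have hk := hW (hj.rep.fst a) b (hj.rep.snd a ≫ h) haW hb
        (by rw [reassoc_of% hj.rep.w a, w, Functor.map_comp, Category.assoc]) (l.left z)
      rw [Over.comp_left, Groth.Agent.AlgSpDec.KoszulWhere.isKoszulAt_open_comp_iff] at hk
      refine (Groth.Agent.AlgSpDec.KoszulWhere.mem_kosz_iff ha hb w u).2 ?_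
      rw [← hz, ← hl]
      exact hk
    · intro hx
      obtain ⟨W, j, -, hj, hr⟩ := Groth.Agent.AlgSpPts.exists_open_subspace hA hopen
      refine ⟨W, j, hj, hr.symm ▸ hx, fun U V a b h ha hb w u => ?_⟩
      have hje : AlgSp.RepWith @Etale j := ⟨hj.rep, fun T W' g fst snd sq =>
        haveI : IsOpenImmersion snd.left := hj.property g fst snd sq
        inferInstanceAs (Etale snd.left)⟩
      refine (Groth.Agent.AlgSpDec.KoszulWhere.mem_kosz_iff (a := a ≫ j)
        (Groth.Agent.AlgSpLib.repWith_comp ha hje) hb (by rw [Category.assoc]; exact w) u).1 ?_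
      rw [← AlgSp.Points.map_ofPt, ← hr]
      exact ⟨_, rfl⟩
  have hc' : f.hom ≫ q.hom = p.hom := congrArg InducedCategory.Hom.hom hc
  have hK := Groth.Agent.AlgSpDec.KoszulWhere.isOpen_kosz_and_baseChange X.property Y.property Z.property
    f.hom q.hom (hc'.symm ▸ hp2) (hc'.symm ▸ hp1) hq1 hq2
  have hK' := Groth.Agent.AlgSpDec.KoszulWhere.isOpen_kosz_and_baseChange X'.property Y'.property Z'.property
    f'.hom q'.hom
    (Groth.Agent.AlgSpLib.locP_of_isPullback (fst := gX.hom) ((hX.paste_vert hY)) X.property Z.property Z'.property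
      (hc'.symm ▸ hp2))
    (Groth.Agent.AlgSpLib.locP_of_isPullback (fst := gX.hom) ((hX.paste_vert hY)) X.property Z.property Z'.property
      (hc'.symm ▸ hp1))
    (Groth.Agent.AlgSpLib.locP_of_isPullback hY Y.property Z.property Z'.property hq1)
    (Groth.Agent.AlgSpLib.locP_of_isPullback hY Y.property Z.property Z'.property hq2)
  rw [key f'.hom X'.property Y'.property hK'.1, key f.hom X.property Y.property hK.1]
  exact hK.2 X'.property Y'.property Z'.property g.hom f'.hom q'.hom gX.hom gY.hom hY hX

end Groth.Agent.S10668
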