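import Groth.Statements.S10676
import Groth.Agent.AlgSpDec.SplitOff
import Groth.Agent.S9995
import Groth.Agent.S10389

set_option autoImplicit false
set_option backward.isDefEq.respectTransparency false
set_option backward.isDefEq.respectTransparency.types false
universe u
open CategoryTheory CategoryTheory.Limits AlgebraicGeometry
open AlgSp

namespace Groth.Agent.S10676

/-- For a separated morphism f : X ⟶ Y of algebraic spaces over S which is locally of finite type, a
point y of |Y| and a finite set xs of points of |X| mapping to y at each of which f is quasi-finite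
(some etale chart diagram through the point has top arrow locally quasi-finite and locally of finite
type on an open neighbourhood), assuming moreover that f is quasi-compact or Y is decent: there are
an etale morphism of algebraic spaces a : U ⟶ Y and a point u of |U| over y such that for the base
change P = U ×_Y X there is an open and closed subspace V ⊂ P, finite over U, such that every point
of |V| over u maps into xs and no point of |P| outside |V| lying over u maps into xs. -/
theorem result {S : Scheme.{u}} {X Y : AlgSp.Space S} (f : X ⟶ Y) (y : AlgSp.Points Y.obj)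
    (xs : Finset (AlgSp.Points X.obj)) (hxs : ∀ x ∈ xs, AlgSp.Points.map f.hom x = y)
    (hf1 : AlgSp.LocP @LocallyOfFiniteType f.hom) (hf2 : AlgSp.IsSeparatedMor f.hom)
    (hf3 : ∀ x ∈ xs, AlgSp.HasAtMor (fun U _ h u => ∃ W : U.Opens, u ∈ W ∧ LocallyQuasiFinite (W.ι ≫ h) ∧ LocallyOfFiniteType (W.ι ≫ h)) f.hom x)
    (hf4 : AlgSp.IsQuasiCompactMor f.hom ∨ AlgSp.IsDecent Y.obj) :
    ∃ (U : AlgSp.Space S) (a : U ⟶ Y) (u : AlgSp.Points U.obj), AlgSp.IsEtaleMor a.hom ∧ AlgSp.Points.map a.hom u = y ∧
      ∀ (P : AlgSp.Space S) (prX : P ⟶ X) (prU : P ⟶ U), IsPullback prX.hom prU.hom f.hom a.hom →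
        ∃ (V : AlgSp.Space S) (jV : V ⟶ P), AlgSp.RepWith @IsOpenImmersion jV.hom ∧ AlgSp.RepWith @IsClosedImmersion jV.hom ∧
          AlgSp.IsFiniteMor (jV ≫ prU).hom ∧
          (∀ v : AlgSp.Points V.obj, AlgSp.Points.map (jV ≫ prU).hom v = u → AlgSp.Points.map (jV ≫ prX).hom v ∈ xs) ∧
          ∀ w : AlgSp.Points P.obj, w ∉ Set.range (AlgSp.Points.map jV.hom) → AlgSp.Points.map prU.hom w = u →
            AlgSp.Points.map prX.hom w ∉ xs := by
  obtain ⟨V, b, v, hV, hb, hv⟩ := AlgSpDec.exists_affine_chart_at Y.property y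
  haveI := hV
  have sqV := IsPullback.of_hasPullback f.hom b
  let XV : AlgSp.Space S := ⟨pullback f.hom b,
    AlgSpLib.isAlgSpace_of_isPullback sqV X.property (IsAlgSpace.yon_obj V) Y.property⟩
  have hq : ∀ z : Points (pullback f.hom b), Points.map (pullback.fst f.hom b) z ∈ xs →
      AlgSp.HasAtMor AlgSpDec.SplitOff.QfAt f.hom (Points.map (pullback.fst f.hom b) z) :=
    fun z hz => hf3 _ hz
  let S₀ : Set (Points (pullback f.hom b)) :=
    {z | Points.map (pullback.fst f.hom b) z ∈ xs ∧ Points.map (pullback.snd f.hom b) z = Points.ofScheme V v}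
  have hS : S₀.Finite := by
    rcases hf4 with hqc | hdec
    · refine (S9995.result (X := XV) (Y := ⟨(yon S).obj V, IsAlgSpace.yon_obj V⟩)
        (ObjectProperty.homMk (pullback.snd f.hom b))
        ⟨AlgSpLib.locP_of_isPullback sqV X.property Y.property (IsAlgSpace.yon_obj V) hf1,
          AlgSpPts.isQuasiCompactMor_of_isPullback sqV hqc⟩ (Points.ofScheme V v)).subset ?_
      rintro z ⟨hz₁, hz₂⟩
      obtain ⟨B, c, z', ρ, -, hc, hz', hρ, hρ₁, hρ₂⟩ :=
        AlgSpDec.SplitOff.exists_qf_chart hb sqV z (hq z hz₁)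
      exact ⟨hz₂, B, V, c, 𝟙 _, ρ, z', hc, repWith_id _ V, by rw [Category.comp_id]; exact hρ.symm, hz',
        ⊤, trivial, inferInstance, inferInstance⟩
    · obtain ⟨p, hp, hmono, -⟩ := hdec y
      refine (xs.finite_toSet.biUnion fun x hx => S10389.result (W := XV)
        (X := ⟨(yon S).obj V, IsAlgSpace.yon_obj V⟩) (Y := Y) (ObjectProperty.homMk b) f
        (ObjectProperty.homMk (pullback.snd f.hom b)) (ObjectProperty.homMk (pullback.fst f.hom b)) sqV.flip
        (Points.ofScheme V v) x (by
          change Points.map b _ = Points.map f.hom x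
          rw [← Points.ofPt_eq_map_ofScheme, hv, hxs x hx]) ⟨p, hp.trans (hxs x hx).symm, hmono⟩ (hf3 x hx)).subset ?_
      rintro z ⟨hz₁, hz₂⟩
      exact Set.mem_biUnion hz₁ ⟨hz₂, rfl⟩
  obtain ⟨U, hU, u, hae, huv, h⟩ := AlgSpDec.SplitOff.exists_split hb X.property Y.property hf1 hf2 sqV v S₀
    hS (fun z hz => hz.2) (fun z hz => hq z hz.1)
  have hu : Points.map ((yon S).map hU) (Points.ofScheme U u) = Points.ofScheme V v := by
    rw [← huv]; exact Points.map_yon_map_apply hU u
  refine ⟨⟨(yon S).obj U, IsAlgSpace.yon_obj U⟩, ObjectProperty.homMk ((yon S).map hU ≫ b),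
    Points.ofScheme U u, AlgSpLib.isEtaleMor_of_repWith hae, ?_, fun P prX prU sqP => ?_⟩
  · change Points.map ((yon S).map hU ≫ b) _ = _
    rw [Points.map_comp, hu, ← Points.ofPt_eq_map_ofScheme, hv]
  obtain ⟨W, jV, m, hm, sqm, hjo, hjc, hfin, h1, h2⟩ := h P.obj prX.hom prU.hom sqP
  refine ⟨⟨(yon S).obj W, IsAlgSpace.yon_obj W⟩, ObjectProperty.homMk jV, hjo, hjc, hfin, fun t ht => ?_,
    fun w hw hwu hwx => hw (h2 w hwu ⟨?_, ?_⟩)⟩
  · change Points.map (jV ≫ prX.hom) t ∈ xs
    rw [← hm, ← Category.assoc, Points.map_comp]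
    exact (h1 t ht).1
  · rw [← Points.map_comp, hm]
    exact hwx
  · rw [← Points.map_comp, sqm.w, Points.map_comp, hwu, hu]

end Groth.Agent.S10676
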