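import Groth.Statements.S10677
import Groth.Agent.AlgSpDec.SplitOff

set_option autoImplicit false
universe u
open CategoryTheory CategoryTheory.Limits AlgebraicGeometry
open AlgSp

namespace Groth.Agent.S10677

/-- For a separated morphism f : X ⟶ Y of algebraic spaces over S which is locally of finite type and a
point x of |X| with image y at which f is quasi-finite (some etale chart diagram through x has top
arrow locally quasi-finite and locally of finite type on an open neighbourhood), there are an etale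
morphism a : U ⟶ Y and a point u of |U| over y such that for the base change P = U ×_Y X there is an
open and closed subspace V ⊂ P, finite over U, containing a point mapping to x in |X| and to u in
|U|. -/
theorem result {S : Scheme.{u}} {X Y : AlgSp.Space S} (f : X ⟶ Y) (x : AlgSp.Points X.obj)
    (hf1 : AlgSp.LocP @LocallyOfFiniteType f.hom) (hf2 : AlgSp.IsSeparatedMor f.hom)
    (hf3 : AlgSp.HasAtMor (fun U _ h u => ∃ W : U.Opens, u ∈ W ∧ LocallyQuasiFinite (W.ι ≫ h) ∧ LocallyOfFiniteType (W.ι ≫ h)) f.hom x) :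
    ∃ (U : AlgSp.Space S) (a : U ⟶ Y) (u : AlgSp.Points U.obj), AlgSp.IsEtaleMor a.hom ∧
      AlgSp.Points.map a.hom u = AlgSp.Points.map f.hom x ∧
      ∀ (P : AlgSp.Space S) (prX : P ⟶ X) (prU : P ⟶ U), IsPullback prX.hom prU.hom f.hom a.hom →
        ∃ (V : AlgSp.Space S) (jV : V ⟶ P), AlgSp.RepWith @IsOpenImmersion jV.hom ∧ AlgSp.RepWith @IsClosedImmersion jV.hom ∧
          AlgSp.IsFiniteMor (jV ≫ prU).hom ∧
          ∃ v : AlgSp.Points V.obj, AlgSp.Points.map (jV ≫ prX).hom v = x ∧ AlgSp.Points.map (jV ≫ prU).hom v = u := by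
  obtain ⟨V, b, v, hV, hb, hv⟩ := AlgSpDec.exists_affine_chart_at Y.property (Points.map f.hom x)
  haveI := hV
  have sqV := IsPullback.of_hasPullback f.hom b
  obtain ⟨z, hz₁, hz₂⟩ := AlgSpLib.exists_point_of_isPullback sqV (x := x) (y := Points.ofScheme V v)
    (by rw [← Points.ofPt_eq_map_ofScheme, hv])
  obtain ⟨U, hU, u, hae, huv, h⟩ := AlgSpDec.SplitOff.exists_split hb X.property Y.property hf1 hf2 sqV v {z}
    (Set.finite_singleton z) (by rintro _ rfl; exact hz₂) (by rintro _ rfl; rw [hz₁]; exact hf3)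
  have hu : Points.map ((yon S).map hU) (Points.ofScheme U u) = Points.ofScheme V v := by
    rw [← huv]; exact Points.map_yon_map_apply hU u
  refine ⟨⟨(yon S).obj U, IsAlgSpace.yon_obj U⟩, ObjectProperty.homMk ((yon S).map hU ≫ b),
    Points.ofScheme U u, AlgSpLib.isEtaleMor_of_repWith hae, ?_, fun P prX prU sqP => ?_⟩
  · change Points.map ((yon S).map hU ≫ b) _ = _
    rw [Points.map_comp, hu, ← Points.ofPt_eq_map_ofScheme, hv]
  obtain ⟨W, jV, m, hm, sqm, hjo, hjc, hfin, -, h2⟩ := h P.obj prX.hom prU.hom sqP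
  obtain ⟨w, hw₁, hw₂⟩ := AlgSpLib.exists_point_of_isPullback sqm (x := z) (y := Points.ofScheme U u)
    (hz₂.trans hu.symm)
  obtain ⟨t, ht⟩ := h2 w hw₂ hw₁
  refine ⟨⟨(yon S).obj W, IsAlgSpace.yon_obj W⟩, ObjectProperty.homMk jV, hjo, hjc, hfin, t, ?_, ?_⟩
  · change Points.map (jV ≫ prX.hom) t = x
    rw [Points.map_comp, ht, ← hm, Points.map_comp, hw₁, hz₁]
  · change Points.map (jV ≫ prU.hom) t = _
    rw [Points.map_comp, ht, hw₂]

end Groth.Agent.S10677
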