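import Groth.Statements.S10681
import Groth.Agent.AlgSpDec.GeomConnSp
import Groth.Agent.EtResidue.Basic
import Groth.Agent.AlgSpPts.Geom

set_option autoImplicit false
universe u
open CategoryTheory CategoryTheory.Limits AlgebraicGeometry
open AlgSp

namespace Groth.Agent.S10681

set_option backward.isDefEq.respectTransparency false
set_option backward.isDefEq.respectTransparency.types false

open Groth.Agent.AlgSpLib Groth.Agent.AlgSpPts Groth.Agent.AlgSpDec

/-- Connectedness descends along extensions of field points. -/
theorem connected_push {S : Scheme.{u}} {X Y : Sp S} {f : X ⟶ Y} {Q' Q : Over S} [Subsingleton ↥Q.left]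
    [Nonempty ↥Q'.left] (m : Q' ⟶ Q) {y : (yon S).obj Q ⟶ Y} {y' : (yon S).obj Q' ⟶ Y}
    (hy : (yon S).map m ≫ y = y') {P' P : Sp S} {a' : P' ⟶ X}
    {b' : P' ⟶ (yon S).obj Q'} (h' : IsPullback a' b' f y') {a : P ⟶ X} {b : P ⟶ (yon S).obj Q}
    (h : IsPullback a b f y) (hc : ConnectedSpace (Points P')) : ConnectedSpace (Points P) := by
  subst hy
  obtain ⟨q, hq₁, hq₂⟩ := h.exists_lift a' (b' ≫ (yon S).map m) (by rw [Category.assoc]; exact h'.w)
  have sq : IsPullback q b' b ((yon S).map m) := IsPullback.of_right (by rw [hq₁]; exact h') hq₂ h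
  have hm : Surjective m.left := ⟨fun x => ⟨Classical.arbitrary _, Subsingleton.elim _ _⟩⟩
  exact (surjective_map_of_isPullback sq.flip (surjective_map_of_repWith
    ((repWith_yon_map_iff _ m).2 hm))).connectedSpace (Points.continuous_map _)

/-- For a morphism f : X ⟶ Y between algebraic spaces over S and a geometric point ȳ of Y (an
algebraically closed field point), the geometric fibre X_ȳ (pullback in fppf sheaves) has connected
space of points if and only if for every scheme V with a representable etale a : h_V ⟶ Y and every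
point v of V through which ȳ factors, the fibre of X ×_Y V ⟶ V over v (pullback along the residue
field point of v) has connected space of points. -/
theorem result {S : Scheme.{u}} {X Y : AlgSp.Space S} (f : X ⟶ Y) (yb : AlgSp.FieldPt Y.obj) (hyb : yb.IsGeometric)
    (Xyb : AlgSp.Sp S) (fst : Xyb ⟶ X.obj) (snd : Xyb ⟶ (AlgSp.yon S).obj yb.pt) (h : IsPullback fst snd f.hom yb.toHom) :
    ConnectedSpace (AlgSp.Points Xyb) ↔
      ∀ (V : Over S) (a : (AlgSp.yon S).obj V ⟶ Y.obj), AlgSp.RepWith @Etale a →
        ∀ (v : ↥V.left) (c : yb.pt ⟶ V), (AlgSp.yon S).map c ≫ a = yb.toHom → c.left (IsLocalRing.closedPoint yb.K) = v →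
          ∀ (Xv : AlgSp.Sp S) (fst' : Xv ⟶ X.obj)
            (snd' : Xv ⟶ (AlgSp.yon S).obj (Over.mk (V.left.fromSpecResidueField v ≫ V.hom))),
            IsPullback fst' snd' f.hom ((AlgSp.yon S).map (Over.homMk (V.left.fromSpecResidueField v) rfl :
              Over.mk (V.left.fromSpecResidueField v ≫ V.hom) ⟶ V) ≫ a) →
            ConnectedSpace (AlgSp.Points Xv) := by
  constructor
  · intro hc V a _ v c hca hcv Xv fst' snd' h'
    subst hcv
    let cl : Spec (CommRingCat.of yb.K) ⟶ V.left := c.left
    haveI : Subsingleton ↥(Over.mk (V.left.fromSpecResidueField (c.left (IsLocalRing.closedPoint yb.K)) ≫ V.hom)).left :=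
      inferInstanceAs (Subsingleton (PrimeSpectrum (V.left.residueField (c.left (IsLocalRing.closedPoint yb.K)))))
    haveI : Nonempty ↥yb.pt.left := ⟨IsLocalRing.closedPoint yb.K⟩
    let χc : V.left.residueField (cl (IsLocalRing.closedPoint yb.K)) ⟶ CommRingCat.of yb.K :=
      Scheme.descResidueField (Scheme.stalkClosedPointTo cl)
    have hχc : Spec.map χc ≫ V.left.fromSpecResidueField (cl (IsLocalRing.closedPoint yb.K)) = cl :=
      Scheme.descResidueField_stalkClosedPointTo_fromSpecResidueField yb.K _ cl
    let m : yb.pt ⟶ Over.mk (V.left.fromSpecResidueField (c.left (IsLocalRing.closedPoint yb.K)) ≫ V.hom) :=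
      Over.homMk (Spec.map χc) (by
        show _ ≫ _ ≫ V.hom = yb.str
        rw [← Category.assoc]
        exact (congrArg (· ≫ V.hom) hχc).trans (Over.w c))
    refine connected_push m ?_ h h' hc
    rw [← hca, ← Category.assoc, ← Functor.map_comp]
    congr 2
    exact Over.OverMorphism.ext hχc
  · intro H
    haveI : IsAlgClosed yb.K := hyb
    obtain ⟨U, b, hb, hbs⟩ := Y.property.atlas
    obtain ⟨u₀, hu₀⟩ := surjective_ofPt hbs (Points.ofPt yb.toHom (IsLocalRing.closedPoint yb.K))
    obtain ⟨l, hl, -⟩ := exists_lift_geometric (IsAlgSpace.yon_obj U) Y.property (locP_of_repWith hb)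
      yb.toHom (u := Points.ofScheme U u₀) ((Points.ofPt_eq_map_ofScheme b u₀).symm.trans hu₀)
    obtain ⟨c₀, rfl⟩ := (yon S).map_surjective l
    let cl : Spec (CommRingCat.of yb.K) ⟶ U.left := c₀.left
    let u := cl (IsLocalRing.closedPoint yb.K)
    let χ : U.left.residueField u ⟶ CommRingCat.of yb.K :=
      Scheme.descResidueField (Scheme.stalkClosedPointTo cl)
    have hχ : Spec.map χ ≫ U.left.fromSpecResidueField u = cl :=
      Scheme.descResidueField_stalkClosedPointTo_fromSpecResidueField yb.K _ cl
    letI : Algebra (U.left.residueField u) yb.K := χ.hom.toAlgebra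
    let str : Spec (CommRingCat.of (U.left.residueField u)) ⟶ S := U.left.fromSpecResidueField u ≫ U.hom
    let eu : Over.mk str ⟶ U := Over.homMk (U.left.fromSpecResidueField u) rfl
    let y₀ : (yon S).obj (Over.mk str) ⟶ Y.obj := (yon S).map eu ≫ b
    have sq₀ := IsPullback.of_hasPullback f.hom y₀
    have hP : IsAlgSpace (pullback f.hom y₀) :=
      isAlgSpace_of_isPullback sq₀ X.property (IsAlgSpace.yon_obj _) Y.property
    have key := fun (K : Type u) [Field K] [Algebra (U.left.residueField u) K] =>
      (IsPullback.of_hasPullback (pullback.snd f.hom y₀) ((yon S).map (GeomConnSp.jK str K))).paste_horiz sq₀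
    have hN : ConnectedSpace (Points (GeomConnSp.bc (pullback.snd f.hom y₀) yb.K)) := by
      refine GeomConnSp.connected_of_separable_levels _ hP (fun E _ _ hfin hsep => ?_) yb.K
      obtain ⟨W, g, v, hu, hg, he⟩ := EtResidue.exists_etale_nbhd U.left u E
      letI := ((U.left.residueFieldCongr hu).inv ≫ g.residueFieldMap v).hom.toAlgebra
      obtain ⟨e⟩ := he
      let i : E →ₐ[U.left.residueField u] yb.K := IsAlgClosed.lift
      let χv : W.residueField v ⟶ CommRingCat.of yb.K :=
        CommRingCat.ofHom (i.comp e.symm.toAlgHom).toRingHom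
      have hρ : ((U.left.residueFieldCongr hu).inv ≫ g.residueFieldMap v) ≫ χv = χ :=
        CommRingCat.hom_ext (RingHom.ext fun x => (i.comp e.symm.toAlgHom).commutes x)
      let V : Over S := Over.mk (g ≫ U.hom)
      let gV : V ⟶ U := Over.homMk g rfl
      have hfromv : W.fromSpecResidueField v ≫ g =
          Spec.map ((U.left.residueFieldCongr hu).inv ≫ g.residueFieldMap v) ≫ U.left.fromSpecResidueField u := by
        simp only [Spec.map_comp, Category.assoc, Scheme.residueFieldCongr_inv,
          Scheme.residueFieldCongr_fromSpecResidueField, Scheme.Hom.SpecMap_residueFieldMap_fromSpecResidueField]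
      have hc : (Spec.map χv ≫ W.fromSpecResidueField v) ≫ g = cl := by
        rw [Category.assoc, hfromv, ← Category.assoc, ← Spec.map_comp, hρ, hχ]
      let c : yb.pt ⟶ V := Over.homMk (Spec.map χv ≫ W.fromSpecResidueField v) (by
        show _ ≫ g ≫ U.hom = yb.str
        rw [← Category.assoc, hc]
        exact Over.w c₀)
      have hv : c.left (IsLocalRing.closedPoint yb.K) = v := by
        show (Spec.map χv ≫ W.fromSpecResidueField v) (IsLocalRing.closedPoint yb.K) = v
        rw [Scheme.Hom.comp_apply]
        exact Scheme.fromSpecResidueField_apply _ _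
      have hca : (yon S).map c ≫ (yon S).map gV ≫ b = yb.toHom := by
        rw [← Category.assoc, ← Functor.map_comp, show c ≫ gV = c₀ from Over.OverMorphism.ext hc]
        exact hl
      have hV := H V ((yon S).map gV ≫ b) (repWith_comp ((repWith_yon_map_iff _ gV).2 hg) hb) v c hca hv _ _ _
        (IsPullback.of_hasPullback f.hom ((yon S).map (Over.homMk (V.left.fromSpecResidueField v) rfl :
          Over.mk (V.left.fromSpecResidueField v ≫ V.hom) ⟶ V) ≫ (yon S).map gV ≫ b))
      haveI : Subsingleton ↥(GeomConnSp.pK str E).left := inferInstanceAs (Subsingleton (PrimeSpectrum E))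
      haveI : Nonempty ↥(Over.mk (V.left.fromSpecResidueField v ≫ V.hom)).left :=
        inferInstanceAs (Nonempty (PrimeSpectrum (W.residueField v)))
      have hcomp : Spec.map (CommRingCat.ofHom e.toAlgHom.toRingHom) ≫
          Spec.map (CommRingCat.ofHom (algebraMap (U.left.residueField u) E)) ≫ U.left.fromSpecResidueField u =
          W.fromSpecResidueField v ≫ g := by
        rw [hfromv, ← Category.assoc, ← Spec.map_comp]
        congr 2
        exact CommRingCat.hom_ext (RingHom.ext fun x => e.commutes x)
      let m : Over.mk (V.left.fromSpecResidueField v ≫ V.hom) ⟶ GeomConnSp.pK str E :=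
        Over.homMk (Spec.map (CommRingCat.ofHom e.toAlgHom.toRingHom)) (by
          show _ ≫ _ ≫ U.left.fromSpecResidueField u ≫ U.hom = W.fromSpecResidueField v ≫ g ≫ U.hom
          simp only [← Category.assoc]
          rw [Category.assoc (Spec.map _) (Spec.map _), hcomp])
      refine connected_push m ?_ (IsPullback.of_hasPullback f.hom _) (key E) hV
      simp only [y₀, ← Category.assoc, ← Functor.map_comp]
      congr 2
      exact Over.OverMorphism.ext ((Category.assoc _ _ _).trans hcomp)
    haveI : Subsingleton ↥yb.pt.left := inferInstanceAs (Subsingleton (PrimeSpectrum yb.K))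
    haveI : Nonempty ↥(GeomConnSp.pK str yb.K).left := ⟨IsLocalRing.closedPoint yb.K⟩
    let m : GeomConnSp.pK str yb.K ⟶ yb.pt := Over.homMk (𝟙 _) (by
      show 𝟙 _ ≫ yb.str = Spec.map χ ≫ U.left.fromSpecResidueField u ≫ U.hom
      rw [Category.id_comp, ← Category.assoc, hχ]
      exact (Over.w c₀).symm)
    refine connected_push m ?_ (key yb.K) h hN
    rw [← hl]
    simp only [y₀, ← Category.assoc, ← Functor.map_comp]
    congr 2
    exact Over.OverMorphism.ext ((Category.id_comp _).trans hχ.symm)

end Groth.Agent.S10681
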