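import Groth.Statements.S10682
import Groth.Agent.AlgSpDec.GeomRedGen
import Groth.Agent.AlgSpDec.MonoRep

set_option autoImplicit false
universe u
open CategoryTheory CategoryTheory.Limits AlgebraicGeometry
open AlgSp

namespace Groth.Agent.S10682

set_option backward.isDefEq.respectTransparency false
set_option backward.isDefEq.respectTransparency.types false

open Topology TopologicalSpace AlgSp Groth.Agent.AlgSpLib Groth.Agent.AlgSpPts Groth.Agent.AlgSpDec Groth.Agent.FlatMisc

theorem stable_generalization {S : Scheme.{u}} {X Y : AlgSp.Space S} (f : X ⟶ Y)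
    (hp : IsProperMor f.hom) {V U : Over S}
    (a : (yon S).obj V ⟶ Y.obj)
    {c : (yon S).obj U ⟶ pullback f.hom a} (hc : RepWith @Etale c) (hcs : RepWith @Surjective c) (h : U ⟶ V)
    (hh : (yon S).map h = c ≫ pullback.snd f.hom a) [Flat h.left] [LocallyOfFiniteType h.left]
    {y y' : ↥V.left} (hsp : y' ⤳ y) (hy : y ∈ GeomRedConstr.locus h.left) :
    y' ∈ GeomRedConstr.locus h.left := by
  refine (GeomRedConstr.geometricallyReduced_fiber_iff h.left y').mpr fun K _ φ => ?_
  obtain ⟨φ', rfl⟩ := Spec.map_surjective φ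
  let g : V.left.presheaf.stalk y ⟶ CommRingCat.of K :=
    V.left.presheaf.stalkSpecializes hsp ≫ V.left.residue y' ≫ φ'
  obtain ⟨A, hA, hloc⟩ := IsLocalRing.exists_factor_valuationRing g.hom
  let g' : V.left.presheaf.stalk y ⟶ CommRingCat.of A := CommRingCat.ofHom (g.hom.codRestrict A.toSubring hA)
  haveI : IsLocalHom g'.hom := hloc
  let hA' := Spec.map g' ≫ V.left.fromSpecStalk y
  have hcl : hA' (IsLocalRing.closedPoint A) = y := by
    show V.left.fromSpecStalk y (Spec.map g' (IsLocalRing.closedPoint A)) = y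
    rw [show Spec.map g' (IsLocalRing.closedPoint A) = IsLocalRing.closedPoint (V.left.presheaf.stalk y) from
      IsLocalRing.comap_closedPoint g'.hom, Scheme.fromSpecStalk_closedPoint]
  have hcomp : Spec.map (CommRingCat.ofHom A.subtype) ≫ hA' = Spec.map φ' ≫ V.left.fromSpecResidueField y' := by
    rw [← Spec.map_comp_assoc, Scheme.fromSpecResidueField,
      ← Scheme.SpecMap_stalkSpecializes_fromSpecStalk hsp, ← Spec.map_comp_assoc, ← Spec.map_comp_assoc]
    rfl
  rw [← hcomp]
  -- the base change to the valuation ring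
  let T : Over S := Over.mk (hA' ≫ V.hom)
  let t : T ⟶ V := CategoryTheory.Over.homMk hA' rfl
  let UA : Over S := Over.mk (pullback.fst h.left hA' ≫ U.hom)
  let g₁ : UA ⟶ U := CategoryTheory.Over.homMk (pullback.fst h.left hA') rfl
  let g₂ : UA ⟶ T := CategoryTheory.Over.homMk (pullback.snd h.left hA') (by
    show _ ≫ T.hom = _ ≫ U.hom
    rw [← Over.w t, ← Over.w h, reassoc_of% (pullback.condition : pullback.fst h.left hA' ≫ h.left = _)]
    rfl)
  have sU := isPullback_yon_of_left g₁ g₂ h t (IsPullback.of_hasPullback h.left hA')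
  have sq := IsPullback.of_hasPullback f.hom a
  have sqA := IsPullback.of_hasPullback f.hom ((yon S).map t ≫ a)
  let π := sq.lift (pullback.fst f.hom ((yon S).map t ≫ a)) (pullback.snd _ _ ≫ (yon S).map t)
    (sqA.w.trans (Category.assoc _ _ _).symm)
  have sπ : IsPullback π (pullback.snd _ _) (pullback.snd f.hom a) ((yon S).map t) :=
    IsPullback.of_right (by rw [sq.lift_fst]; exact sqA) (sq.lift_snd _ _ _) sq
  let cA := sπ.lift ((yon S).map g₁ ≫ c) ((yon S).map g₂) (by rw [Category.assoc, ← hh, sU.w])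
  have sa : IsPullback ((yon S).map g₁) cA c π :=
    (IsPullback.of_bot (by
      rw [show cA ≫ pullback.snd f.hom ((yon S).map t ≫ a) = (yon S).map g₂ from sπ.lift_snd _ _ _, ← hh]
      exact sU) (sπ.lift_fst _ _ _).symm sπ :)
  have hpA := isProperMor_of_isPullback sqA X.property Y.property (IsAlgSpace.yon_obj T) hp
  have hclosed : IsClosedMap (Points.map (pullback.snd f.hom ((yon S).map t ≫ a))) :=
    hpA.2.2 (IsAlgSpace.yon_obj T) (𝟙 _) (𝟙 _) _
      (IsPullback.of_horiz_isIso ⟨by rw [Category.id_comp, Category.comp_id]⟩)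
  haveI : LocallyOfFiniteType g₂.left :=
    inferInstanceAs (LocallyOfFiniteType (pullback.snd h.left hA'))
  haveI : Flat g₂.left := inferInstanceAs (Flat (pullback.snd h.left hA'))
  have h1 : GeometricallyReduced ((pullback.snd h.left hA').fiberToSpecResidueField (IsLocalRing.closedPoint A)) :=
    (GeomRedConstr.locus_preimage (IsPullback.of_hasPullback h.left hA')).ge (hcl.symm ▸ hy :)
  have h2 : AlgebraicGeometry.IsReduced ((pullback.snd h.left hA').fiber (IsLocalRing.closedPoint A)) :=
    h1.geometrically_isReduced (𝟙 _) (𝟙 _) ((pullback.snd h.left hA').fiberToSpecResidueField _) (IsPullback.of_id_fst)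
  haveI : AlgebraicGeometry.IsReduced (pullback h.left hA') :=
    GeomRedGen.isReduced_chart (repWith_of_isPullback sa hc) hclosed g₂ (sπ.lift_snd _ _ _) h2
      (repWith_of_isPullback sa hcs)
  let η : PrimeSpectrum A := ⟨⊥, Ideal.isPrime_bot⟩
  have h4 : AlgebraicGeometry.IsReduced ((pullback.snd h.left hA').fiber η) :=
    _root_.FlatMisc.isReduced_fiber_of_generic (pullback.snd h.left hA') η fun w hw =>
      PrimeSpectrum.ext (le_bot_iff.mp ((PrimeSpectrum.le_iff_specializes (w : PrimeSpectrum A) η).mpr hw))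
  let q : Spec (CommRingCat.of K) ⟶ Spec (CommRingCat.of A) := Spec.map (CommRingCat.ofHom A.subtype)
  obtain ⟨⟨η', ψ⟩, hq⟩ := (Scheme.SpecToEquivOfField K (Spec (CommRingCat.of A))).symm.surjective q
  change Spec.map ψ ≫ (Spec (CommRingCat.of A)).fromSpecResidueField η' = q at hq
  have hη : η' = η := by
    have e1 : q (IsLocalRing.closedPoint K) = η' := by
      rw [← hq, Scheme.Hom.comp_apply]; exact Scheme.fromSpecResidueField_apply _ _
    rw [← e1]
    refine PrimeSpectrum.ext ?_
    show Ideal.comap A.subtype (IsLocalRing.maximalIdeal K) = ⊥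
    rw [IsLocalRing.maximalIdeal_eq_bot]
    exact Ideal.comap_bot_of_injective A.subtype Subtype.val_injective
  subst hη
  have hfac : ∀ b : A, ∃ r, ψ.hom r = (b : K) := by
    obtain ⟨t', ht⟩ := Spec.map_surjective ((Spec (CommRingCat.of A)).fromSpecResidueField η)
    rw [← ht, ← Spec.map_comp] at hq
    have h3 := Spec.map_injective hq
    exact fun b => ⟨t'.hom b, congrArg (fun k => k.hom b) h3⟩
  haveI : IsIso ψ := (ConcreteCategory.isIso_iff_bijective _).mpr ⟨RingHom.injective _, fun z => by
    rcases A.mem_or_inv_mem z with hz | hz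
    · exact hfac ⟨z, hz⟩
    · obtain ⟨r, hr⟩ := hfac ⟨z⁻¹, hz⟩
      exact ⟨r⁻¹, by show ψ.hom r⁻¹ = z; rw [map_inv₀, hr, inv_inv]⟩⟩
  let fA := pullback.snd h.left hA'
  haveI : IsIso (pullback.fst (fA.fiberToSpecResidueField η) (Spec.map ψ)) := inferInstance
  haveI : AlgebraicGeometry.IsReduced (pullback (fA.fiberToSpecResidueField η) (Spec.map ψ)) :=
    @isReduced_of_isOpenImmersion _ _ (pullback.fst (fA.fiberToSpecResidueField η) (Spec.map ψ))
      (IsOpenImmersion.of_isIso _) h4
  let e : pullback (fA.fiberToSpecResidueField η) (Spec.map ψ) ≅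
      pullback h.left ((Spec.map ψ ≫ (Spec (CommRingCat.of A)).fromSpecResidueField η) ≫ hA') :=
    pullbackLeftPullbackSndIso fA ((Spec (CommRingCat.of A)).fromSpecResidueField η) (Spec.map ψ) ≪≫
      pullbackLeftPullbackSndIso h.left hA' (Spec.map ψ ≫ (Spec (CommRingCat.of A)).fromSpecResidueField η)
  show AlgebraicGeometry.IsReduced (pullback h.left (q ≫ hA'))
  rw [← hq]
  exact @isReduced_of_isOpenImmersion _ _ e.inv (IsOpenImmersion.of_isIso _) inferInstance

/-- For a flat proper morphism f : X ⟶ Y between algebraic spaces over S which is of finite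
presentation, the set of points y of |Y| at which the fibre of f is geometrically reduced is open in
|Y|; here the fibre of f at y being geometrically reduced means: for every field point k of Y in the
class of y and every field homomorphism k ⟶ k', the base change X_{k'} (pullback in fppf sheaves) is
reduced (some etale surjective scheme chart is reduced). -/
theorem result {S : Scheme.{u}} {X Y : AlgSp.Space S} (f : X ⟶ Y)
    (hf1 : AlgSp.LocP @Flat f.hom) (hf2 : AlgSp.IsProperMor f.hom) (hf3 : AlgSp.IsFinitePresentationMor f.hom) :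
    IsOpen {y : AlgSp.Points Y.obj | ∀ (k : AlgSp.FieldPt Y.obj), AlgSp.Points.mk k = y →
        ∀ (k' : Type u) [Field k'] (φ : k.K →+* k') (Xk' : AlgSp.Sp S) (a : Xk' ⟶ X.obj)
          (b : Xk' ⟶ (AlgSp.yon S).obj (Over.mk (Spec.map (CommRingCat.ofHom φ) ≫ k.str))),
          IsPullback a b f.hom ((AlgSp.yon S).map (Over.homMk (Spec.map (CommRingCat.ofHom φ)) rfl :
            Over.mk (Spec.map (CommRingCat.ofHom φ) ≫ k.str) ⟶ k.pt) ≫ k.toHom) →
          AlgSp.EtaleLocally (fun U => IsReduced U) Xk'} := by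
  rw [isOpen_iff_forall_mem_open]
  intro y₀ hy₀
  obtain ⟨V, a, v₀, hV, ha, hv₀⟩ := exists_affine_chart_at Y.property y₀
  haveI : IsAffine V.left := hV
  have sq := IsPullback.of_hasPullback f.hom a
  have hVqc : IsQuasiCompactSp ((yon S).obj V) :=
    ⟨V, 𝟙 _, repWith_of_isIso _ _, repWith_of_isIso _ _, inferInstanceAs (CompactSpace ↥V.left)⟩
  obtain ⟨U, c, hU, hc, hcs⟩ := AlgSpDec.exists_affine_atlas (hf3.2.1 (IsAlgSpace.yon_obj V) hVqc a _ _ sq)
  haveI : IsAffine U.left := hU
  obtain ⟨h, hh⟩ := (yon S).map_surjective (c ≫ pullback.snd f.hom a)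
  haveI : LocallyOfFinitePresentation h.left :=
    locP_of_isPullback sq X.property Y.property (IsAlgSpace.yon_obj V) hf3.1 c (𝟙 _) h hc (repWith_id _ _)
      (by rw [hh, Category.comp_id])
  haveI : Flat h.left :=
    locP_of_isPullback sq X.property Y.property (IsAlgSpace.yon_obj V) hf1 c (𝟙 _) h hc (repWith_id _ _)
      (by rw [hh, Category.comp_id])
  haveI : QuasiCompact h.left := quasiCompact_of_compactSpace h.left
  have hpre := S10683.preimage_eq f ha hc hcs h hh
  have hopen : IsOpen (GeomRedConstr.locus h.left) := by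
    have hcon : IsConstructible (GeomRedConstr.locus h.left) :=
      (GeomRedConstr.isLocallyConstructible_locus h.left).isConstructible
    let e := Scheme.homeoOfIso V.left.isoSpec
    have h2 : IsOpen (e.symm ⁻¹' GeomRedConstr.locus h.left : Set (PrimeSpectrum Γ(V.left, ⊤))) :=
      PrimeSpectrum.isOpen_of_stableUnderGeneralization_of_isConstructible
        (fun p q hqp hp => stable_generalization f hf2 a hc hcs h hh (hqp.map e.symm.continuous) hp)
        (hcon.preimage_of_isOpenEmbedding e.symm.isOpenEmbedding)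
    simpa [← Set.preimage_comp] using e.isOpen_preimage.2 h2
  refine ⟨Points.ofPt a '' GeomRedConstr.locus h.left, ?_, isOpenMap_ofPt ha _ hopen, v₀, ?_, hv₀⟩
  · rintro _ ⟨v, hv, rfl⟩
    have : v ∈ Points.ofPt a ⁻¹' _ := hpre.ge hv
    exact this
  · exact hpre.le (by rw [Set.mem_preimage, hv₀]; exact hy₀)

end Groth.Agent.S10682
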