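import Groth.Statements.S10683
import Groth.Agent.S1301
import Groth.Agent.AlgSpLib.WeakAssUnit
import Groth.Agent.AlgSpDec.BddFibres
import Groth.Agent.AlgSpDec.LimDescent
import Groth.Agent.FBaseLib.Basic

set_option autoImplicit false
universe u
open CategoryTheory CategoryTheory.Limits AlgebraicGeometry
open AlgSp

namespace Groth.Agent.S10683

set_option backward.isDefEq.respectTransparency false
set_option backward.isDefEq.respectTransparency.types false

open AlgSp Groth.Agent.AlgSpLib Groth.Agent.AlgSpPts Groth.Agent.AlgSpDec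

variable {S : Scheme.{u}} {X Y : Sp S}

/-- Reducedness descends along flat surjective base change. -/
theorem reduced_descends (hX : IsAlgSpace X) (hY : IsAlgSpace Y) (f : X ⟶ Y) {T T' : Over S} (q : T' ⟶ T) [Flat q.left]
    [Surjective q.left] (r : (yon S).obj T ⟶ Y) {P : Sp S} {pa : P ⟶ X} {pb : P ⟶ (yon S).obj T}
    (sq : IsPullback pa pb f r) {P' : Sp S} {pa' : P' ⟶ X} {pb' : P' ⟶ (yon S).obj T'}
    (sq' : IsPullback pa' pb' f ((yon S).map q ≫ r)) (h : EtaleLocally (fun U => IsReduced U) P') :
    EtaleLocally (fun U => IsReduced U) P := by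
  have hP : IsAlgSpace P := isAlgSpace_of_isPullback sq hX (IsAlgSpace.yon_obj _) hY
  obtain ⟨U, a, ha, has⟩ := hP.atlas
  obtain ⟨g, hg⟩ := (yon S).map_surjective (a ≫ pb)
  let U' : Over S := Over.mk (pullback.fst g.left q.left ≫ U.hom)
  let g₁ : U' ⟶ U := CategoryTheory.Over.homMk (pullback.fst g.left q.left) rfl
  let g₂ : U' ⟶ T' := CategoryTheory.Over.homMk (pullback.snd g.left q.left) (by
    show _ ≫ T'.hom = _ ≫ U.hom
    rw [← Over.w q, ← Over.w g, reassoc_of% (pullback.condition : pullback.fst g.left q.left ≫ g.left = _)])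
  have sU := isPullback_yon_of_left g₁ g₂ g q (IsPullback.of_hasPullback g.left q.left)
  let π : P' ⟶ P := sq.lift pa' (pb' ≫ (yon S).map q) (by rw [sq'.w, Category.assoc])
  have sπ : IsPullback π pb' pb ((yon S).map q) :=
    IsPullback.of_right (by rw [sq.lift_fst]; exact sq') (sq.lift_snd _ _ _) sq
  let a' : (yon S).obj U' ⟶ P' := sπ.lift ((yon S).map g₁ ≫ a) ((yon S).map g₂) (by rw [Category.assoc, ← hg, sU.w])
  have sa : IsPullback ((yon S).map g₁) a' a π :=
    (IsPullback.of_bot (by rw [show a' ≫ pb' = (yon S).map g₂ from sπ.lift_snd _ _ _, ← hg]; exact sU) (sπ.lift_fst _ _ _).symm sπ :)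
  haveI : IsReduced U'.left := WeakAssUnit.isReduced_chart h a' (repWith_of_isPullback sa ha)
  have := @Groth.Agent.FBaseLib.isReduced_of_flat_surjective _ _ (pullback.fst g.left q.left) inferInstance
    inferInstance (show IsReduced (pullback g.left q.left) from ‹_›)
  exact ⟨U, a, ha, has, this⟩

/-- The fibre over a scheme is reduced iff that of an atlas is. -/
theorem reduced_iff (f : X ⟶ Y) {V U : Over S} {a : (yon S).obj V ⟶ Y}
    {PV : Sp S} {f₁ : PV ⟶ X} {f₂ : PV ⟶ (yon S).obj V} (sq : IsPullback f₁ f₂ f a)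
    {c : (yon S).obj U ⟶ PV} (hc : RepWith @Etale c) (hcs : RepWith @Surjective c)
    (h : U ⟶ V) (hh : c ≫ f₂ = (yon S).map h) {T : Over S} (t : T ⟶ V)
    {P : Sp S} {pa : P ⟶ X} {pb : P ⟶ (yon S).obj T} (sqP : IsPullback pa pb f ((yon S).map t ≫ a)) :
    EtaleLocally (fun U => IsReduced U) P ↔ IsReduced (pullback h.left t.left) := by
  let U' : Over S := Over.mk (pullback.fst h.left t.left ≫ U.hom)
  let g₁ : U' ⟶ U := CategoryTheory.Over.homMk (pullback.fst h.left t.left) rfl
  let g₂ : U' ⟶ T := CategoryTheory.Over.homMk (pullback.snd h.left t.left) (by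
    show _ ≫ T.hom = _ ≫ U.hom
    rw [← Over.w t, ← Over.w h, reassoc_of% (pullback.condition : pullback.fst h.left t.left ≫ h.left = _)])
  have sU := isPullback_yon_of_left g₁ g₂ h t (IsPullback.of_hasPullback h.left t.left)
  let π : P ⟶ PV := sq.lift pa (pb ≫ (yon S).map t) (by rw [sqP.w, Category.assoc])
  have sπ : IsPullback π pb f₂ ((yon S).map t) :=
    IsPullback.of_right (by rw [sq.lift_fst]; exact sqP) (sq.lift_snd _ _ _) sq
  let a' : (yon S).obj U' ⟶ P := sπ.lift ((yon S).map g₁ ≫ c) ((yon S).map g₂) (by rw [Category.assoc, hh, sU.w])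
  have sa : IsPullback ((yon S).map g₁) a' c π :=
    (IsPullback.of_bot (by rw [show a' ≫ pb = (yon S).map g₂ from sπ.lift_snd _ _ _, hh]; exact sU) (sπ.lift_fst _ _ _).symm sπ :)
  constructor
  · intro hr
    exact WeakAssUnit.isReduced_chart hr a' (repWith_of_isPullback sa hc)
  · intro hr
    exact ⟨U', a', repWith_of_isPullback sa hc, repWith_of_isPullback sa hcs, hr⟩

/-- The geometrically reduced fibre locus read on a chart. -/
theorem preimage_eq {S : Scheme.{u}} {X Y : AlgSp.Space S} (f : X ⟶ Y) {V : Over S}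
    {a : (yon S).obj V ⟶ Y.obj} (ha : RepWith @Etale a) {U : Over S} {c : (yon S).obj U ⟶ pullback f.hom a}
    (hc : RepWith @Etale c) (hcs : RepWith @Surjective c) (h : U ⟶ V)
    (hh : (yon S).map h = c ≫ pullback.snd f.hom a) :
    (AlgSp.Points.ofPt a) ⁻¹' {y : AlgSp.Points Y.obj | ∀ (k : AlgSp.FieldPt Y.obj), AlgSp.Points.mk k = y →
        ∀ (k' : Type u) [Field k'] (φ : k.K →+* k') (Xk' : AlgSp.Sp S) (a : Xk' ⟶ X.obj)
          (b : Xk' ⟶ (AlgSp.yon S).obj (Over.mk (Spec.map (CommRingCat.ofHom φ) ≫ k.str))),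
          IsPullback a b f.hom ((AlgSp.yon S).map (Over.homMk (Spec.map (CommRingCat.ofHom φ)) rfl :
            Over.mk (Spec.map (CommRingCat.ofHom φ) ≫ k.str) ⟶ k.pt) ≫ k.toHom) →
          AlgSp.EtaleLocally (fun U => IsReduced U) Xk'} =
      {v : ↥V.left | GeometricallyReduced (h.left.fiberToSpecResidueField v)} := by
  have sq := IsPullback.of_hasPullback f.hom a
  ext v
  constructor
  · intro hv
    refine ⟨fun K _ y Z pfst psnd hZ => ?_⟩
    obtain ⟨φ, rfl⟩ : ∃ φ, Spec.map φ = y := ⟨Spec.preimage y, Spec.map_preimage y⟩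
    let k : FieldPt Y.obj := ⟨V.left.residueField v, V.left.fromSpecResidueField v ≫ V.hom,
      (AlgSp.J S).uliftYonedaEquiv ((yon S).map (Over.homMk (V.left.fromSpecResidueField v) rfl :
        Over.mk (V.left.fromSpecResidueField v ≫ V.hom) ⟶ V) ≫ a)⟩
    have hkh : k.toHom = (yon S).map (Over.homMk (V.left.fromSpecResidueField v) rfl :
        Over.mk (V.left.fromSpecResidueField v ≫ V.hom) ⟶ V) ≫ a := Equiv.symm_apply_apply _ _
    have hmk : Points.mk k = Points.ofPt a v := by
      rw [← Points.ofPt_toHom k (IsLocalRing.closedPoint _), hkh, ofPt_comp]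
      exact congrArg (Points.ofPt a) (Scheme.fromSpecResidueField_apply v _)
    let T : Over S := Over.mk (Spec.map φ ≫ V.left.fromSpecResidueField v ≫ V.hom)
    let q : T ⟶ k.pt := CategoryTheory.Over.homMk (Spec.map φ) rfl
    let t : T ⟶ V := CategoryTheory.Over.homMk (Spec.map φ ≫ V.left.fromSpecResidueField v) (Category.assoc _ _ _)
    have hr := hv k hmk K φ.hom _ _ _ (IsPullback.of_hasPullback f.hom ((yon S).map q ≫ k.toHom))
    rw [reduced_iff f.hom sq hc hcs h hh.symm t (P := pullback f.hom ((yon S).map q ≫ k.toHom))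
      (pa := pullback.fst _ _) (pb := pullback.snd _ _) (by
        have e : (yon S).map t ≫ a = (yon S).map q ≫ k.toHom := by
          rw [hkh, ← Functor.map_comp_assoc]; rfl
        rw [e]; exact IsPullback.of_hasPullback _ _)] at hr
    have s2 := hZ.paste_horiz (IsPullback.of_hasPullback h.left (V.left.fromSpecResidueField v))
    haveI : IsReduced (pullback h.left (Spec.map φ ≫ V.left.fromSpecResidueField v)) := hr
    exact isReduced_of_isOpenImmersion s2.isoPullback.hom
  · intro hv k hk k' _ φ Xk' a₁ b₁ sq₁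
    let T₀ : Over S := Over.mk (Spec.map (CommRingCat.ofHom φ) ≫ k.str)
    let r : (yon S).obj T₀ ⟶ Y.obj :=
      (yon S).map (Over.homMk (Spec.map (CommRingCat.ofHom φ)) rfl : T₀ ⟶ k.pt) ≫ k.toHom
    have hpt : Points.ofPt r (IsLocalRing.closedPoint k') = Points.ofPt a v := by
      rw [ofPt_comp, Points.ofPt_toHom, hk]
    let W := ha.rep.pullback r
    obtain ⟨w, hw₁, hw₂⟩ := exists_ofPt_of_eq (ha.rep.isPullback' r) hpt.symm
    let TL : Over S := Over.mk (W.left.fromSpecResidueField w ≫ W.hom)
    let i : TL ⟶ W := CategoryTheory.Over.homMk (W.left.fromSpecResidueField w) rfl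
    let q : TL ⟶ T₀ := i ≫ ha.rep.snd r
    let t : TL ⟶ V := i ≫ ha.rep.fst' r
    haveI : IsReduced (pullback h.left t.left) := by
      subst hw₁
      have e : t.left = Spec.map ((ha.rep.fst' r).left.residueFieldMap w) ≫
          V.left.fromSpecResidueField ((ha.rep.fst' r).left w) :=
        ((ha.rep.fst' r).left.SpecMap_residueFieldMap_fromSpecResidueField w).symm
      have hv' : GeometricallyReduced (h.left.fiberToSpecResidueField ((ha.rep.fst' r).left w)) := hv
      rw [e]
      have s2 := (IsPullback.of_hasPullback (h.left.fiberToSpecResidueField ((ha.rep.fst' r).left w))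
        (Spec.map ((ha.rep.fst' r).left.residueFieldMap w))).paste_horiz
        (IsPullback.of_hasPullback h.left (V.left.fromSpecResidueField ((ha.rep.fst' r).left w)))
      haveI := hv'.geometrically_isReduced (K := W.left.residueField w) _ _ _
        (IsPullback.of_hasPullback (h.left.fiberToSpecResidueField ((ha.rep.fst' r).left w))
          (Spec.map ((ha.rep.fst' r).left.residueFieldMap w)))
      exact isReduced_of_isOpenImmersion s2.isoPullback.inv
    have hqr : (yon S).map q ≫ r = (yon S).map t ≫ a := by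
      rw [Functor.map_comp, Functor.map_comp, Category.assoc, Category.assoc, (ha.rep.isPullback' r).w]
    obtain ⟨ψ, hψ⟩ : ∃ ψ, Spec.map ψ = q.left := ⟨Spec.preimage q.left, Spec.map_preimage _⟩
    haveI : Surjective q.left := ⟨fun x => ⟨IsLocalRing.closedPoint _, Subsingleton.elim (α := PrimeSpectrum k') _ _⟩⟩
    haveI : Flat q.left := by
      rw [← hψ]
      refine (HasRingHomProperty.Spec_iff (P := @Flat)).2 ?_
      letI := ψ.hom.toAlgebra
      change Module.Flat k' (W.left.residueField w)
      infer_instance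
    refine reduced_descends X.property Y.property f.hom q r sq₁
      (IsPullback.of_hasPullback f.hom ((yon S).map q ≫ r)) ?_
    refine (reduced_iff f.hom sq hc hcs h hh.symm t (pa := pullback.fst _ _) (pb := pullback.snd _ _) ?_).2 ‹_›
    rw [← hqr]
    exact IsPullback.of_hasPullback _ _


/-- For a quasi-compact morphism f : X ⟶ Y between algebraic spaces over S which is locally of finite
presentation, the set E of points of |Y| at which the fibre of f is geometrically reduced is etale
locally constructible: for every affine scheme V with a representable etale a : h_V ⟶ Y, the inverse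
image of E in V is a constructible subset. Here the fibre of f at y being geometrically reduced
means: for every field point k of Y in the class of y and every field homomorphism k ⟶ k', the base
change X_{k'} (pullback in fppf sheaves) is reduced (some etale surjective scheme chart is reduced). -/
theorem result {S : Scheme.{u}} {X Y : AlgSp.Space S} (f : X ⟶ Y)
    (hf1 : AlgSp.IsQuasiCompactMor f.hom) (hf2 : AlgSp.LocP @LocallyOfFinitePresentation f.hom)
    (V : Over S) (hV : IsAffine V.left) (a : (AlgSp.yon S).obj V ⟶ Y.obj) (ha : AlgSp.RepWith @Etale a) :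
    Topology.IsConstructible ((AlgSp.Points.ofPt a) ⁻¹' {y : AlgSp.Points Y.obj | ∀ (k : AlgSp.FieldPt Y.obj), AlgSp.Points.mk k = y →
        ∀ (k' : Type u) [Field k'] (φ : k.K →+* k') (Xk' : AlgSp.Sp S) (a : Xk' ⟶ X.obj)
          (b : Xk' ⟶ (AlgSp.yon S).obj (Over.mk (Spec.map (CommRingCat.ofHom φ) ≫ k.str))),
          IsPullback a b f.hom ((AlgSp.yon S).map (Over.homMk (Spec.map (CommRingCat.ofHom φ)) rfl :
            Over.mk (Spec.map (CommRingCat.ofHom φ) ≫ k.str) ⟶ k.pt) ≫ k.toHom) →
          AlgSp.EtaleLocally (fun U => IsReduced U) Xk'}) := by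
  haveI : IsAffine V.left := hV
  have sq := IsPullback.of_hasPullback f.hom a
  have hVqc : IsQuasiCompactSp ((yon S).obj V) :=
    ⟨V, 𝟙 _, repWith_of_isIso _ _, repWith_of_isIso _ _, inferInstanceAs (CompactSpace ↥V.left)⟩
  obtain ⟨U, c, hU, hc, hcs⟩ := AlgSpDec.exists_affine_atlas (hf1 (IsAlgSpace.yon_obj V) hVqc a _ _ sq)
  haveI : IsAffine U.left := hU
  obtain ⟨h, hh⟩ := (yon S).map_surjective (c ≫ pullback.snd f.hom a)
  haveI : LocallyOfFinitePresentation h.left :=
    locP_of_isPullback sq X.property Y.property (IsAlgSpace.yon_obj V) hf2 c (𝟙 _) h hc (repWith_id _ _)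
      (by rw [hh, Category.comp_id])
  haveI : QuasiCompact h.left := quasiCompact_of_compactSpace h.left
  haveI : QuasiSeparatedSpace ↥V.left := inferInstance
  convert (S1301.result h.left).isConstructible using 1
  exact preimage_eq f ha hc hcs h hh

end Groth.Agent.S10683
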