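import Groth.Statements.S10684
import Groth.Agent.AlgSpDec.ConnVal.Main

set_option autoImplicit false
universe u
open CategoryTheory CategoryTheory.Limits AlgebraicGeometry
open AlgSp

namespace Groth.Agent.S10684

set_option backward.isDefEq.respectTransparency false
set_option backward.isDefEq.respectTransparency.types false

open Topology TopologicalSpace Groth.Agent.AlgSpLib Groth.Agent.AlgSpPts Groth.Agent.AlgSpDec Groth.Agent.AlgSpDec.ConnVal

/-- For a proper flat morphism f : X ⟶ Y between algebraic spaces over S which is of finite
presentation, the function on |Y| counting the connected components of geometric fibres (for y, the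
number in ℕ∞ of connected components of the space of points of X_k for an algebraically closed field
point k in the class of y) is lower semi-continuous: for each d the set of y all of whose geometric
fibres have more than d connected components is open. -/
theorem result {S : Scheme.{u}} {X Y : AlgSp.Space S} (f : X ⟶ Y)
    (hf1 : AlgSp.IsProperMor f.hom) (hf2 : AlgSp.LocP @Flat f.hom) (hf3 : AlgSp.IsFinitePresentationMor f.hom) (d : ℕ∞) :
    IsOpen {y : AlgSp.Points Y.obj | ∀ (k : AlgSp.FieldPt Y.obj), AlgSp.Points.mk k = y → k.IsGeometric →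
        ∀ (Xk : AlgSp.Sp S) (a : Xk ⟶ X.obj) (b : Xk ⟶ (AlgSp.yon S).obj k.pt), IsPullback a b f.hom k.toHom →
          d < ENat.card (_root_.ConnectedComponents (AlgSp.Points Xk))} := by
  rw [isOpen_iff_forall_mem_open]
  intro y₀ hy₀
  obtain ⟨V, a, v₀, hV, ha, hv₀⟩ := exists_affine_chart_at Y.property y₀
  haveI : IsAffine V.left := hV
  have sq := IsPullback.of_hasPullback f.hom a
  have hp : IsProperMor (prA f a) := isProperMor_of_isPullback sq X.property Y.property (IsAlgSpace.yon_obj V) hf1
  have hfl : LocP @Flat (prA f a) := locP_of_isPullback sq X.property Y.property (IsAlgSpace.yon_obj V) hf2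
  have hlfp : LocP @LocallyOfFinitePresentation (prA f a) :=
    locP_of_isPullback sq X.property Y.property (IsAlgSpace.yon_obj V) hf3.1
  refine ⟨Points.ofPt a '' {x | d < count f a x}, ?_, isOpenMap_ofPt ha _ (isOpen_lt_count hp hfl hlfp d), v₀, ?_, hv₀⟩
  · rintro _ ⟨x, hx, rfl⟩
    exact (forall_iff f a x (d < ·)).2 hx
  · exact (forall_iff f a v₀ (d < ·)).1 (hv₀ ▸ hy₀)

end Groth.Agent.S10684
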