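import Groth.Statements.S10685
import Groth.Agent.AlgSpDec.ConnVal.Main

set_option autoImplicit false
universe u
open CategoryTheory CategoryTheory.Limits AlgebraicGeometry
open AlgSp

namespace Groth.Agent.S10685

set_option backward.isDefEq.respectTransparency false
set_option backward.isDefEq.respectTransparency.types false

open Topology TopologicalSpace Groth.Agent.AlgSpLib Groth.Agent.AlgSpPts Groth.Agent.AlgSpDec Groth.Agent.AlgSpDec.ConnVal

/-- For a proper flat morphism f : X ⟶ Y between algebraic spaces over S which is of finite presentation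
and all of whose fibres are geometrically reduced (the fibre of f at y being geometrically reduced
means: for every field point k of Y in the class of y and every field homomorphism k ⟶ k', the base
change X_{k'} (pullback in fppf sheaves) is reduced (some etale surjective scheme chart is
reduced)), the function on |Y| counting the connected components of geometric fibres is locally
constant: for each d the set of y all of whose geometric fibres (X_k for an algebraically closed
field point k in the class of y) have exactly d connected components, counted in ℕ∞, is open. -/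
theorem result {S : Scheme.{u}} {X Y : AlgSp.Space S} (f : X ⟶ Y)
    (hf1 : AlgSp.IsProperMor f.hom) (hf2 : AlgSp.LocP @Flat f.hom) (hf3 : AlgSp.IsFinitePresentationMor f.hom)
    (hred : ∀ y : AlgSp.Points Y.obj, ∀ (k : AlgSp.FieldPt Y.obj), AlgSp.Points.mk k = y →
        ∀ (k' : Type u) [Field k'] (φ : k.K →+* k') (Xk' : AlgSp.Sp S) (a : Xk' ⟶ X.obj)
          (b : Xk' ⟶ (AlgSp.yon S).obj (Over.mk (Spec.map (CommRingCat.ofHom φ) ≫ k.str))),
          IsPullback a b f.hom ((AlgSp.yon S).map (Over.homMk (Spec.map (CommRingCat.ofHom φ)) rfl :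
            Over.mk (Spec.map (CommRingCat.ofHom φ) ≫ k.str) ⟶ k.pt) ≫ k.toHom) →
          AlgSp.EtaleLocally (fun U => IsReduced U) Xk') (d : ℕ∞) :
    IsOpen {y : AlgSp.Points Y.obj | ∀ (k : AlgSp.FieldPt Y.obj), AlgSp.Points.mk k = y → k.IsGeometric →
        ∀ (Xk : AlgSp.Sp S) (a : Xk ⟶ X.obj) (b : Xk ⟶ (AlgSp.yon S).obj k.pt), IsPullback a b f.hom k.toHom →
          ENat.card (_root_.ConnectedComponents (AlgSp.Points Xk)) = d} := by
  have hred' : ∀ (k : FieldPt Y.obj) (Xk : Sp S) (a' : Xk ⟶ X.obj) (b' : Xk ⟶ (yon S).obj k.pt),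
      IsPullback a' b' f.hom k.toHom → EtaleLocally (fun U => AlgebraicGeometry.IsReduced U) Xk := by
    intro k Xk a' b' sq
    let e : k.pt ≅ Over.mk (Spec.map (CommRingCat.ofHom (RingHom.id k.K)) ≫ k.str) := Over.isoMk (Iso.refl _) (by
      show 𝟙 _ ≫ Spec.map (CommRingCat.ofHom (RingHom.id k.K)) ≫ k.str = k.str
      rw [CommRingCat.ofHom_id, Spec.map_id, Category.id_comp]
      exact Category.id_comp _)
    refine hred _ k rfl k.K (RingHom.id k.K) Xk a' (b' ≫ (yon S).map e.hom) ?_
    refine sq.of_iso (Iso.refl _) (Iso.refl _) ((yon S).mapIso e) (Iso.refl _) ?_ ?_ ?_ ?_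
    · simp
    · simp
    · simp
    · rw [Iso.refl_hom, Category.comp_id, Functor.mapIso_hom, ← Category.assoc, ← Functor.map_comp]
      rw [show e.hom ≫ _ = 𝟙 k.pt from Over.OverMorphism.ext (by
        show 𝟙 _ ≫ Spec.map (CommRingCat.ofHom (RingHom.id k.K)) = 𝟙 _
        rw [CommRingCat.ofHom_id, Spec.map_id]
        exact Category.id_comp _), CategoryTheory.Functor.map_id, Category.id_comp]
  rw [isOpen_iff_forall_mem_open]
  intro y₀ hy₀
  obtain ⟨V, a, v₀, hV, ha, hv₀⟩ := exists_affine_chart_at Y.property y₀
  haveI : IsAffine V.left := hV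
  have sq := IsPullback.of_hasPullback f.hom a
  have hp : IsProperMor (prA f a) := isProperMor_of_isPullback sq X.property Y.property (IsAlgSpace.yon_obj V) hf1
  have hfl : LocP @Flat (prA f a) := locP_of_isPullback sq X.property Y.property (IsAlgSpace.yon_obj V) hf2
  have hlfp : LocP @LocallyOfFinitePresentation (prA f a) :=
    locP_of_isPullback sq X.property Y.property (IsAlgSpace.yon_obj V) hf3.1
  refine ⟨Points.ofPt a '' {x | count f a x = d}, ?_, isOpenMap_ofPt ha _ (isOpen_count_eq hp hfl hlfp hred' d), v₀, ?_, hv₀⟩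
  · rintro _ ⟨x, hx, rfl⟩
    exact (forall_iff f a x (· = d)).2 hx
  · exact (forall_iff f a v₀ (· = d)).1 (hv₀ ▸ hy₀)

end Groth.Agent.S10685
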