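import Groth.Statements.S10686
import Groth.Agent.AlgSpDec.OneFlat
import Mathlib.Tactic.TFAE

set_option autoImplicit false
universe u
open CategoryTheory CategoryTheory.Limits AlgebraicGeometry
open AlgSp

namespace Groth.Agent.S10686

set_option backward.isDefEq.respectTransparency false
set_option backward.isDefEq.respectTransparency.types false

/-- For a morphism f : X ⟶ Y between algebraic spaces over S and a point y of |Y|, write X_k for the
fibre (pullback in fppf sheaves) over a field point k of Y and call X_k geometrically reduced when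
for every field homomorphism k ⟶ k' the base change X_{k'} is reduced (some etale surjective scheme
chart reduced). The following are equivalent: (1) X_k is geometrically reduced for some k in the
class of y; (2) X_k is geometrically reduced for every k in the class of y; (3) X_k is reduced for
every k in the class of y. -/
theorem result {S : Scheme.{u}} {X Y : AlgSp.Space S} (f : X ⟶ Y) (y : AlgSp.Points Y.obj) :
    [∃ (k : AlgSp.FieldPt Y.obj), AlgSp.Points.mk k = y ∧
        ∀ (k' : Type u) [Field k'] (φ : k.K →+* k') (Xk' : AlgSp.Sp S) (a : Xk' ⟶ X.obj)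
          (b : Xk' ⟶ (AlgSp.yon S).obj (Over.mk (Spec.map (CommRingCat.ofHom φ) ≫ k.str))),
          IsPullback a b f.hom ((AlgSp.yon S).map (Over.homMk (Spec.map (CommRingCat.ofHom φ)) rfl :
            Over.mk (Spec.map (CommRingCat.ofHom φ) ≫ k.str) ⟶ k.pt) ≫ k.toHom) →
          AlgSp.EtaleLocally (fun U => IsReduced U) Xk',
      ∀ (k : AlgSp.FieldPt Y.obj), AlgSp.Points.mk k = y →
        ∀ (k' : Type u) [Field k'] (φ : k.K →+* k') (Xk' : AlgSp.Sp S) (a : Xk' ⟶ X.obj)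
          (b : Xk' ⟶ (AlgSp.yon S).obj (Over.mk (Spec.map (CommRingCat.ofHom φ) ≫ k.str))),
          IsPullback a b f.hom ((AlgSp.yon S).map (Over.homMk (Spec.map (CommRingCat.ofHom φ)) rfl :
            Over.mk (Spec.map (CommRingCat.ofHom φ) ≫ k.str) ⟶ k.pt) ≫ k.toHom) →
          AlgSp.EtaleLocally (fun U => IsReduced U) Xk',
      ∀ (k : AlgSp.FieldPt Y.obj), AlgSp.Points.mk k = y →
        ∀ (Xk : AlgSp.Sp S) (a : Xk ⟶ X.obj) (b : Xk ⟶ (AlgSp.yon S).obj k.pt), IsPullback a b f.hom k.toHom →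
          AlgSp.EtaleLocally (fun U => IsReduced U) Xk].TFAE := by
  have key : ∀ (p : AlgSp.FieldPt Y.obj) (k' : Type u) [Field k'] (φ : p.K →+* k'),
      AlgSp.Points.mk (⟨k', Spec.map (CommRingCat.ofHom φ) ≫ p.str, Y.obj.obj.map (Over.homMk (Spec.map (CommRingCat.ofHom φ)) rfl :
        Over.mk (Spec.map (CommRingCat.ofHom φ) ≫ p.str) ⟶ p.pt).op p.val⟩ : AlgSp.FieldPt Y.obj) = AlgSp.Points.mk p ∧
      (⟨k', Spec.map (CommRingCat.ofHom φ) ≫ p.str, Y.obj.obj.map (Over.homMk (Spec.map (CommRingCat.ofHom φ)) rfl :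
        Over.mk (Spec.map (CommRingCat.ofHom φ) ≫ p.str) ⟶ p.pt).op p.val⟩ : AlgSp.FieldPt Y.obj).toHom =
        (AlgSp.yon S).map (Over.homMk (Spec.map (CommRingCat.ofHom φ)) rfl :
          Over.mk (Spec.map (CommRingCat.ofHom φ) ≫ p.str) ⟶ p.pt) ≫ p.toHom := by
    intro p k' _ φ
    refine ⟨AlgSp.Points.sound ⟨k', inferInstance, Spec.map (CommRingCat.ofHom φ) ≫ p.str, 𝟙 _, Over.homMk (Spec.map (CommRingCat.ofHom φ)) rfl, ?_⟩, ?_⟩
    · rw [op_id, Functor.map_id_apply]
    · apply (AlgSp.J S).uliftYonedaEquiv.injective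
      erw [AlgSp.FieldPt.uliftYonedaEquiv_toHom, GrothendieckTopology.uliftYonedaEquiv_comp]
      change _ = p.toHom.hom.app _ ⟨_⟩
      rw [AlgSp.FieldPt.toHom_app]
      rfl
  tfae_have 2 → 1 := fun h => by
    obtain ⟨p, hp⟩ := AlgSp.Points.mk_surjective y
    exact ⟨p, hp, h p hp⟩
  tfae_have 3 → 2 := fun h p hp k' _ φ Xk' a b sq => by
    obtain ⟨h₁, h₂⟩ := key p k' φ
    exact h _ (h₁.trans hp) Xk' a b (by rw [h₂]; exact sq)
  tfae_have 1 → 3 := by
    rintro ⟨p₀, hp₀, h⟩ p hp Xk a b sq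
    obtain ⟨Ω, _, w, c, c₀, hcc⟩ := AlgSp.Points.mk_eq_mk_iff.1 (hp.trans hp₀.symm)
    obtain ⟨φ, hφ⟩ := Spec.map_surjective c₀.left
    obtain ⟨h₁, h₂⟩ := key p₀ Ω φ.hom
    let d : Over.mk (Spec.map (CommRingCat.ofHom φ.hom) ≫ p₀.str) ⟶ Over.mk w := Over.homMk (𝟙 _) (by
      show 𝟙 _ ≫ w = Spec.map (CommRingCat.ofHom φ.hom) ≫ p₀.str
      rw [Category.id_comp, CommRingCat.ofHom_hom, hφ]
      exact (Over.w c₀).symm)
    have hd : (AlgSp.yon S).map (d ≫ c) ≫ p.toHom =
        (AlgSp.yon S).map (Over.homMk (Spec.map (CommRingCat.ofHom φ.hom)) rfl :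
          Over.mk (Spec.map (CommRingCat.ofHom φ.hom) ≫ p₀.str) ⟶ p₀.pt) ≫ p₀.toHom := by
      have hd₀ : d ≫ c₀ = (Over.homMk (Spec.map (CommRingCat.ofHom φ.hom)) rfl :
          Over.mk (Spec.map (CommRingCat.ofHom φ.hom) ≫ p₀.str) ⟶ p₀.pt) :=
        Over.OverMorphism.ext ((Category.id_comp c₀.left).trans hφ.symm)
      rw [← hd₀, CategoryTheory.Functor.map_comp, CategoryTheory.Functor.map_comp, Category.assoc, Category.assoc]
      congr 1
      apply (AlgSp.J S).uliftYonedaEquiv.injective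
      erw [GrothendieckTopology.uliftYonedaEquiv_comp, GrothendieckTopology.uliftYonedaEquiv_comp]
      change p.toHom.hom.app _ ⟨c⟩ = p₀.toHom.hom.app _ ⟨c₀⟩
      rw [AlgSp.FieldPt.toHom_app, AlgSp.FieldPt.toHom_app]
      exact hcc
    have sqΩ := IsPullback.of_hasPullback f.hom ((AlgSp.yon S).map (d ≫ c) ≫ p.toHom)
    have sqΩ' : IsPullback (pullback.fst f.hom ((AlgSp.yon S).map (d ≫ c) ≫ p.toHom)) (pullback.snd f.hom ((AlgSp.yon S).map (d ≫ c) ≫ p.toHom)) f.hom
        ((AlgSp.yon S).map (Over.homMk (Spec.map (CommRingCat.ofHom φ.hom)) rfl :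
          Over.mk (Spec.map (CommRingCat.ofHom φ.hom) ≫ p₀.str) ⟶ p₀.pt) ≫ p₀.toHom) :=
      IsPullback.of_iso sqΩ (Iso.refl _) (Iso.refl _) (Iso.refl _) (Iso.refl _) (by simp) (by simp) (by simp) (by simpa using hd)
    obtain ⟨V, β, hV, hVs, hred⟩ := h Ω φ.hom _ _ _ sqΩ'
    obtain ⟨q, hq₁, hq₂⟩ := sq.exists_lift (pullback.fst f.hom ((AlgSp.yon S).map (d ≫ c) ≫ p.toHom))
      (pullback.snd f.hom _ ≫ (AlgSp.yon S).map (d ≫ c)) (by rw [Category.assoc]; exact sqΩ.w)
    have sqq : IsPullback q (pullback.snd f.hom ((AlgSp.yon S).map (d ≫ c) ≫ p.toHom)) b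
        ((AlgSp.yon S).map (d ≫ c)) := IsPullback.of_right (by rw [hq₁]; exact sqΩ) hq₂ sq
    have hfs : (@Flat ⊓ @Surjective : MorphismProperty Scheme.{u}) (d ≫ c).left := by
      obtain ⟨ψ, hψ⟩ := Spec.map_surjective (R := CommRingCat.of p.K) (S := CommRingCat.of Ω) (d ≫ c).left
      rw [← hψ]
      have : IsIntegral (Spec (CommRingCat.of p.K)) := inferInstance
      have : Subsingleton ↥(Spec (CommRingCat.of p.K)) := inferInstanceAs (Subsingleton (PrimeSpectrum p.K))
      exact ⟨(inferInstance : Flat (Spec.map ψ)), ⟨fun x => ⟨IsLocalRing.closedPoint Ω, Subsingleton.elim _ _⟩⟩⟩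
    have hq : AlgSp.RepWith (@Flat ⊓ @Surjective : MorphismProperty Scheme.{u}) q :=
      Groth.Agent.AlgSpLib.repWith_of_isPullback sqq.flip ((AlgSp.repWith_yon_map_iff _ _).2 hfs)
    obtain ⟨U, α, hU, hUs⟩ :=
      (Groth.Agent.AlgSpLib.isAlgSpace_of_isPullback sq X.property (AlgSp.IsAlgSpace.yon_obj _) Y.property).atlas
    refine ⟨U, α, hU, hUs, ?_⟩
    obtain ⟨hflat, hsurj⟩ := hq.property_snd α
    have : Flat (hq.rep.snd α).left := hflat
    have : Surjective (hq.rep.snd α).left := hsurj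
    have sqW := hq.rep.isPullback α
    have hW : AlgSp.RepWith @Etale (hq.rep.fst α) := Groth.Agent.AlgSpLib.repWith_of_isPullback sqW.flip hU
    have : IsReduced (hq.rep.pullback α).left :=
      Groth.Agent.AlgSpDec.isReduced_chart ⟨V, β, hV, hVs, hred⟩ hW
    exact Groth.Agent.FBaseLib.isReduced_of_flat_surjective (hq.rep.snd α).left
  tfae_finish

end Groth.Agent.S10686
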