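import Groth.Statements.S10687
import Groth.Agent.AlgSpDec.GorNoeth

set_option autoImplicit false
universe u
open CategoryTheory CategoryTheory.Limits AlgebraicGeometry
open AlgSp

namespace Groth.Agent.S10687

set_option backward.isDefEq.respectTransparency false
set_option backward.isDefEq.respectTransparency.types false

/-- For morphisms f : X ⟶ Y and g : Y ⟶ Z between algebraic spaces over S whose fibres, and those of f ≫
g, are locally Noetherian, and a point x of |X|: (1) if g is Gorenstein at the image of x and f is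
Gorenstein at x itself, then so is f ≫ g at x; (2) if f ≫ g is Gorenstein at x and f is flat there,
then f is Gorenstein at x and g at the image of x. Here f is Gorenstein at x when in every etale
chart diagram through x the top arrow is Gorenstein at the point over x (flat there, with Gorenstein
local ring of its fibre), and the fibres of a morphism are locally Noetherian when every fibre over
a field point (pullback in fppf sheaves) is a locally Noetherian algebraic space. -/
theorem result {S : Scheme.{u}} {X Y Z : AlgSp.Space S} (f : X ⟶ Y) (g : Y ⟶ Z)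
    (hf : ∀ (k : AlgSp.FieldPt Y.obj) (Xk : AlgSp.Sp S) (a : Xk ⟶ X.obj) (b : Xk ⟶ (AlgSp.yon S).obj k.pt),
        IsPullback a b f.hom k.toHom → AlgSp.IsLocNoethSp Xk)
    (hg : ∀ (k : AlgSp.FieldPt Z.obj) (Xk : AlgSp.Sp S) (a : Xk ⟶ Y.obj) (b : Xk ⟶ (AlgSp.yon S).obj k.pt),
        IsPullback a b g.hom k.toHom → AlgSp.IsLocNoethSp Xk)
    (hfg : ∀ (k : AlgSp.FieldPt Z.obj) (Xk : AlgSp.Sp S) (a : Xk ⟶ X.obj) (b : Xk ⟶ (AlgSp.yon S).obj k.pt),
        IsPullback a b (f ≫ g).hom k.toHom → AlgSp.IsLocNoethSp Xk)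
    (x : AlgSp.Points X.obj) :
    (AlgSp.LocPAt (fun h u => Dual3.IsGorensteinAt h u) f.hom x → AlgSp.LocPAt (fun h u => Dual3.IsGorensteinAt h u) g.hom (AlgSp.Points.map f.hom x) →
        AlgSp.LocPAt (fun h u => Dual3.IsGorensteinAt h u) (f ≫ g).hom x) ∧
      (AlgSp.LocPAt (fun h u => Dual3.IsGorensteinAt h u) (f ≫ g).hom x → AlgSp.IsFlatAtMor f.hom x →
        AlgSp.LocPAt (fun h u => Dual3.IsGorensteinAt h u) f.hom x ∧ AlgSp.LocPAt (fun h u => Dual3.IsGorensteinAt h u) g.hom (AlgSp.Points.map f.hom x)) := by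
  obtain ⟨W, w, hw, hws⟩ := Z.property.atlas
  obtain ⟨V, eV, k, heV, heVs, hk⟩ := Groth.Agent.AlgSpLib.exists_chart_over Y.property Z.property g.hom w
  let b := eV ≫ Limits.pullback.fst g.hom w
  have hb : AlgSp.RepWith @Etale b := Groth.Agent.AlgSpLib.repWith_comp heV (Groth.Agent.AlgSpLib.repWith_fst g.hom hw)
  have hbs : AlgSp.RepWith @Surjective b :=
    Groth.Agent.AlgSpLib.repWith_comp heVs (Groth.Agent.AlgSpLib.repWith_fst g.hom hws)
  have wk : b ≫ g.hom = (AlgSp.yon S).map k ≫ w := by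
    rw [Category.assoc, Limits.pullback.condition, ← Category.assoc, hk]
  obtain ⟨U, eU, h, heU, heUs, hh⟩ := Groth.Agent.AlgSpLib.exists_chart_over X.property Y.property f.hom b
  have ha := Groth.Agent.AlgSpLib.repWith_comp heU (Groth.Agent.AlgSpLib.repWith_fst f.hom hb)
  have wh : (eU ≫ Limits.pullback.fst f.hom b) ≫ f.hom = (AlgSp.yon S).map h ≫ b := by
    rw [Category.assoc, Limits.pullback.condition, ← Category.assoc, hh]
  have whk : (eU ≫ Limits.pullback.fst f.hom b) ≫ (f ≫ g).hom = (AlgSp.yon S).map (h ≫ k) ≫ w := by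
    change _ ≫ f.hom ≫ g.hom = _
    rw [← Category.assoc, wh, Category.assoc, wk, Functor.map_comp, Category.assoc]
  obtain ⟨u, rfl⟩ := Groth.Agent.AlgSpLib.surjective_ofPt
    (Groth.Agent.AlgSpLib.repWith_comp heUs (Groth.Agent.AlgSpLib.repWith_fst f.hom hbs)) x
  have hy : AlgSp.Points.map f.hom (AlgSp.Points.ofPt (eU ≫ Limits.pullback.fst f.hom b) u) =
      AlgSp.Points.ofPt b (h.left u) := by
    rw [AlgSp.Points.map_ofPt, wh, Groth.Agent.AlgSpLib.ofPt_comp]
  rw [hy, Groth.Agent.AlgSpDec.GorAt.locPAt_gor_iff ha hb wh u,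
    Groth.Agent.AlgSpDec.GorAt.locPAt_gor_iff hb hw wk (h.left u),
    Groth.Agent.AlgSpDec.GorAt.locPAt_gor_iff ha hw whk u]
  obtain ⟨h1, h2⟩ := Groth.Agent.AlgSpDec.GorComp.comp h.left k.left u
    (Groth.Agent.AlgSpDec.GorNoeth.noethFib_chart X.property Z.property hfg ha hw whk u)
  exact ⟨h1, fun hfg' hfl => h2 hfg' (hfl _ _ h u ha hb wh rfl)⟩


end Groth.Agent.S10687
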