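import Groth.Statements.S10688
import Groth.Agent.AlgSpDec.GorNoeth

set_option autoImplicit false
universe u
open CategoryTheory CategoryTheory.Limits AlgebraicGeometry
open AlgSp

namespace Groth.Agent.S10688

set_option backward.isDefEq.respectTransparency false
set_option backward.isDefEq.respectTransparency.types false

/-- For a morphism f : X ⟶ Y between algebraic spaces over S with locally Noetherian fibres, g : Y' ⟶ Y
locally of finite type, f' : X' ⟶ Y' the base change (a pullback square of algebraic spaces) with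
projection g' : X' ⟶ X, and x' a point of |X'| with image x: (1) if f is Gorenstein at x then so is
f' at x'; (2) when f is flat at x, Gorensteinness of f' at x' implies that of f at x; (3) the same
conclusion holds if instead g is flat at the image of x' and f' is Gorenstein at x'. Here f is
Gorenstein at x when in every etale chart diagram through x the top arrow is Gorenstein at the point
over x (flat there, with Gorenstein local ring of its fibre), and the fibres of a morphism are
locally Noetherian when every fibre over a field point (pullback in fppf sheaves) is a locally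
Noetherian algebraic space. -/
theorem result {S : Scheme.{u}} {X Y X' Y' : AlgSp.Space S} (f : X ⟶ Y) (g : Y' ⟶ Y) (g' : X' ⟶ X) (f' : X' ⟶ Y')
    (hsq : IsPullback g'.hom f'.hom f.hom g.hom)
    (hf : ∀ (k : AlgSp.FieldPt Y.obj) (Xk : AlgSp.Sp S) (a : Xk ⟶ X.obj) (b : Xk ⟶ (AlgSp.yon S).obj k.pt),
        IsPullback a b f.hom k.toHom → AlgSp.IsLocNoethSp Xk)
    (hg : AlgSp.LocP @LocallyOfFiniteType g.hom) (x' : AlgSp.Points X'.obj) :
    (AlgSp.LocPAt (fun h u => Dual3.IsGorensteinAt h u) f.hom (AlgSp.Points.map g'.hom x') → AlgSp.LocPAt (fun h u => Dual3.IsGorensteinAt h u) f'.hom x') ∧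
      (AlgSp.IsFlatAtMor f.hom (AlgSp.Points.map g'.hom x') → AlgSp.LocPAt (fun h u => Dual3.IsGorensteinAt h u) f'.hom x' →
        AlgSp.LocPAt (fun h u => Dual3.IsGorensteinAt h u) f.hom (AlgSp.Points.map g'.hom x')) ∧
      (AlgSp.IsFlatAtMor g.hom (AlgSp.Points.map f'.hom x') → AlgSp.LocPAt (fun h u => Dual3.IsGorensteinAt h u) f'.hom x' →
        AlgSp.LocPAt (fun h u => Dual3.IsGorensteinAt h u) f.hom (AlgSp.Points.map g'.hom x')) := by
  obtain ⟨V, b, hb, hbs⟩ := Y.property.atlas
  obtain ⟨U, e, h, he, hes, hh⟩ := Groth.Agent.AlgSpLib.exists_chart_over X.property Y.property f.hom b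
  have ha := Groth.Agent.AlgSpLib.repWith_comp he (Groth.Agent.AlgSpLib.repWith_fst f.hom hb)
  have wh : (e ≫ Limits.pullback.fst f.hom b) ≫ f.hom = (AlgSp.yon S).map h ≫ b := by
    rw [Category.assoc, Limits.pullback.condition, ← Category.assoc, hh]
  obtain ⟨V', eV, cV, heV, heVs, hcV⟩ := Groth.Agent.AlgSpLib.exists_chart_over Y'.property Y.property g.hom b
  let b' := eV ≫ Limits.pullback.fst g.hom b
  have hb' : AlgSp.RepWith @Etale b' := Groth.Agent.AlgSpLib.repWith_comp heV (Groth.Agent.AlgSpLib.repWith_fst g.hom hb)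
  have hbs' : AlgSp.RepWith @Surjective b' :=
    Groth.Agent.AlgSpLib.repWith_comp heVs (Groth.Agent.AlgSpLib.repWith_fst g.hom hbs)
  have wc : b' ≫ g.hom = (AlgSp.yon S).map cV ≫ b := by
    rw [Category.assoc, Limits.pullback.condition, ← Category.assoc, hcV]
  obtain ⟨U', c', h', a', sU, ha', has', wh', wc'⟩ :=
    Groth.Agent.AlgSpLib.exists_chart_baseChange hsq wc hh he hes hb' hbs'
  obtain ⟨u', rfl⟩ := Groth.Agent.AlgSpLib.surjective_ofPt has' x'
  have hx : AlgSp.Points.map g'.hom (AlgSp.Points.ofPt a' u') =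
      AlgSp.Points.ofPt (e ≫ Limits.pullback.fst f.hom b) (c'.left u') := by
    rw [AlgSp.Points.map_ofPt, wc', Groth.Agent.AlgSpLib.ofPt_comp]
  have hy : AlgSp.Points.map f'.hom (AlgSp.Points.ofPt a' u') = AlgSp.Points.ofPt b' (h'.left u') := by
    rw [AlgSp.Points.map_ofPt, wh', Groth.Agent.AlgSpLib.ofPt_comp]
  rw [hx, hy, Groth.Agent.AlgSpDec.GorAt.locPAt_gor_iff ha hb wh (c'.left u'),
    Groth.Agent.AlgSpDec.GorAt.locPAt_gor_iff ha' hb' wh' u']
  have : LocallyOfFiniteType ((Over.forget S).map cV) := hg b' b cV hb' hb wc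
  obtain ⟨h1, h2, h3⟩ := Groth.Agent.AlgSpDec.GorComp.baseChange (sU.map (Over.forget S)) u'
    (Groth.Agent.AlgSpDec.GorNoeth.isLocallyNoetherian_fiber hf he hes hh _)
  exact ⟨h1, fun hfl => h2 (hfl _ b h (c'.left u') ha hb wh rfl),
    fun hgl => h3 (hgl _ b cV (h'.left u') hb' hb wc rfl)⟩


end Groth.Agent.S10688
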