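import Groth.Statements.S10689
import Groth.Agent.AlgSpDec.GorOpen
import Groth.Agent.AlgSpDec.GorSpace

set_option autoImplicit false
universe u
open CategoryTheory CategoryTheory.Limits AlgebraicGeometry
open AlgSp

namespace Groth.Agent.S10689

set_option backward.isDefEq.respectTransparency false
set_option backward.isDefEq.respectTransparency.types false

/-- For a flat morphism f : X ⟶ Y between algebraic spaces over S which is locally of finite
presentation, the set W of points of |X| at which f is Gorenstein (in every etale chart diagram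
through the point the top arrow is flat there with Gorenstein local ring of its fibre) is open in
|X|, and for any morphism of algebraic spaces g : Y' ⟶ Y with base change f' : X' ⟶ Y' and
projection g' : X' ⟶ X the corresponding set for f' is the inverse image of W under |g'|. -/
theorem result {S : Scheme.{u}} {X Y : AlgSp.Space S} (f : X ⟶ Y)
    (hf1 : AlgSp.LocP @Flat f.hom) (hf2 : AlgSp.LocP @LocallyOfFinitePresentation f.hom) :
    IsOpen {x : AlgSp.Points X.obj | AlgSp.LocPAt (fun h u => Dual3.IsGorensteinAt h u) f.hom x} ∧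
      ∀ (X' Y' : AlgSp.Space S) (g : Y' ⟶ Y) (g' : X' ⟶ X) (f' : X' ⟶ Y'), IsPullback g'.hom f'.hom f.hom g.hom →
        {x' : AlgSp.Points X'.obj | AlgSp.LocPAt (fun h u => Dual3.IsGorensteinAt h u) f'.hom x'} =
          AlgSp.Points.map g'.hom ⁻¹' {x : AlgSp.Points X.obj | AlgSp.LocPAt (fun h u => Dual3.IsGorensteinAt h u) f.hom x} := by
  obtain ⟨V, b, hb, hbs⟩ := Y.property.atlas
  obtain ⟨U, e, h, he, hes, hh⟩ := Groth.Agent.AlgSpLib.exists_chart_over X.property Y.property f.hom b
  have ha := Groth.Agent.AlgSpLib.repWith_comp he (Groth.Agent.AlgSpLib.repWith_fst f.hom hb)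
  have has := Groth.Agent.AlgSpLib.repWith_comp hes (Groth.Agent.AlgSpLib.repWith_fst f.hom hbs)
  have wh : (e ≫ Limits.pullback.fst f.hom b) ≫ f.hom = (AlgSp.yon S).map h ≫ b := by
    rw [Category.assoc, Limits.pullback.condition, ← Category.assoc, hh]
  have : Flat h.left := hf1 _ b h ha hb wh
  have : LocallyOfFinitePresentation h.left := hf2 _ b h ha hb wh
  refine ⟨?_, fun X' Y' g g' f' hsq => Set.ext fun x' => ?_⟩
  · refine (Groth.Agent.AlgSpLib.isOpen_iff_chart ha has).2 ?_
    convert Groth.Agent.AlgSpDec.GorOpen.isOpen_gor h.left using 1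
    ext u
    exact Groth.Agent.AlgSpDec.GorAt.locPAt_gor_iff ha hb wh u
  obtain ⟨V', eV, cV, heV, heVs, hcV⟩ := Groth.Agent.AlgSpLib.exists_chart_over Y'.property Y.property g.hom b
  let b' := eV ≫ Limits.pullback.fst g.hom b
  have hb' : AlgSp.RepWith @Etale b' := Groth.Agent.AlgSpLib.repWith_comp heV (Groth.Agent.AlgSpLib.repWith_fst g.hom hb)
  have hbs' : AlgSp.RepWith @Surjective b' :=
    Groth.Agent.AlgSpLib.repWith_comp heVs (Groth.Agent.AlgSpLib.repWith_fst g.hom hbs)
  have wc : b' ≫ g.hom = (AlgSp.yon S).map cV ≫ b := by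
    rw [Category.assoc, Limits.pullback.condition, ← Category.assoc, hcV]
  obtain ⟨U', c', h', a', sU, ha', has', wh', wc'⟩ :=
    Groth.Agent.AlgSpLib.exists_chart_baseChange hsq wc hh he hes hb' hbs'
  obtain ⟨u', rfl⟩ := Groth.Agent.AlgSpLib.surjective_ofPt has' x'
  simp only [Set.mem_setOf_eq, Set.mem_preimage]
  rw [AlgSp.Points.map_ofPt, wc', Groth.Agent.AlgSpLib.ofPt_comp,
    Groth.Agent.AlgSpDec.GorAt.locPAt_gor_iff ha hb wh (c'.left u'),
    Groth.Agent.AlgSpDec.GorAt.locPAt_gor_iff ha' hb' wh' u']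
  have : Flat ((Over.forget S).map h) := ‹Flat h.left›
  have : LocallyOfFiniteType ((Over.forget S).map h) := inferInstanceAs (LocallyOfFiniteType h.left)
  exact Groth.Agent.AlgSpDec.GorField.gorAt_iff_baseChange (sU.map (Over.forget S)) u'


end Groth.Agent.S10689
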