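import Groth.Statements.S10690
import Groth.Agent.AlgSpDec.GorSpace

set_option autoImplicit false
universe u
open CategoryTheory CategoryTheory.Limits AlgebraicGeometry
open AlgSp

namespace Groth.Agent.S10690

set_option backward.isDefEq.respectTransparency false
set_option backward.isDefEq.respectTransparency.types false

/-- For a morphism f : X ⟶ Y between algebraic spaces over S whose fibres are locally Noetherian, the
following are equivalent: (1) f is Gorenstein at every point of |X|; (2) f is flat and for some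
scheme V with a representable etale surjective b : h_V ⟶ Y every fibre of X ×_Y V ⟶ V over a point v
of V (pullback along the residue field point of v) is a Gorenstein algebraic space (some etale
surjective scheme chart is a Gorenstein scheme); (3) f is flat and the same holds for every scheme V
with a representable etale b : h_V ⟶ Y. Here f is Gorenstein at x when in every etale chart diagram
through x the top arrow is Gorenstein at the point over x (flat there, with Gorenstein local ring of
its fibre), and the fibres of a morphism are locally Noetherian when every fibre over a field point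
(pullback in fppf sheaves) is a locally Noetherian algebraic space. (The published statement also
characterises being Gorenstein at a single point through strict henselizations; that part is stated
separately and not included here.) -/
theorem result {S : Scheme.{u}} {X Y : AlgSp.Space S} (f : X ⟶ Y)
    (hf : ∀ (k : AlgSp.FieldPt Y.obj) (Xk : AlgSp.Sp S) (a : Xk ⟶ X.obj) (b : Xk ⟶ (AlgSp.yon S).obj k.pt),
        IsPullback a b f.hom k.toHom → AlgSp.IsLocNoethSp Xk) :
    [∀ x : AlgSp.Points X.obj, AlgSp.LocPAt (fun h u => Dual3.IsGorensteinAt h u) f.hom x,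
      AlgSp.LocP @Flat f.hom ∧ ∃ (V : Over S) (b : (AlgSp.yon S).obj V ⟶ Y.obj),
        AlgSp.RepWith @Etale b ∧ AlgSp.RepWith @Surjective b ∧
          ∀ (v : ↥V.left) (Xv : AlgSp.Sp S) (a : Xv ⟶ X.obj)
            (c : Xv ⟶ (AlgSp.yon S).obj (Over.mk (V.left.fromSpecResidueField v ≫ V.hom))),
            IsPullback a c f.hom ((AlgSp.yon S).map (Over.homMk (V.left.fromSpecResidueField v) rfl :
              Over.mk (V.left.fromSpecResidueField v ≫ V.hom) ⟶ V) ≫ b) →
            AlgSp.EtaleLocally Dual3.IsGorenstein Xv,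
      AlgSp.LocP @Flat f.hom ∧ ∀ (V : Over S) (b : (AlgSp.yon S).obj V ⟶ Y.obj), AlgSp.RepWith @Etale b →
          ∀ (v : ↥V.left) (Xv : AlgSp.Sp S) (a : Xv ⟶ X.obj)
            (c : Xv ⟶ (AlgSp.yon S).obj (Over.mk (V.left.fromSpecResidueField v ≫ V.hom))),
            IsPullback a c f.hom ((AlgSp.yon S).map (Over.homMk (V.left.fromSpecResidueField v) rfl :
              Over.mk (V.left.fromSpecResidueField v ≫ V.hom) ⟶ V) ≫ b) →
            AlgSp.EtaleLocally Dual3.IsGorenstein Xv].TFAE := by
  have hwf : ∀ {U V : Over S} (b : (AlgSp.yon S).obj V ⟶ Y.obj) (e : (AlgSp.yon S).obj U ⟶ Limits.pullback f.hom b)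
      (h : U ⟶ V), e ≫ Limits.pullback.snd f.hom b = (AlgSp.yon S).map h →
      (e ≫ Limits.pullback.fst f.hom b) ≫ f.hom = (AlgSp.yon S).map h ≫ b := fun b e h hh => by
    rw [Category.assoc, Limits.pullback.condition, ← Category.assoc, hh]
  tfae_have 1 → 3 := by
    intro H
    refine ⟨fun U V a b h ha hb w => Flat.of_stalkMap _ fun u => (H _ a b h u ha hb w rfl).1, ?_⟩
    intro V b hb v Xv a c sq
    obtain ⟨U, e, h, he, hes, hh⟩ := Groth.Agent.AlgSpLib.exists_chart_over X.property Y.property f.hom b
    obtain ⟨W, a', p, ha', has', hst, -⟩ :=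
      Groth.Agent.AlgSpDec.GorAt.exists_fibre_chart f.hom he hes hh v a c sq
    have hN := hf (AlgSp.FieldPt.ofPt b v) Xv a c (by rw [AlgSp.FieldPt.toHom_ofPt]; exact sq)
    refine ⟨W, a', ha', has', Groth.Agent.AlgSpDec.isLocallyNoetherian_chart ha' hN, fun w => ?_⟩
    obtain ⟨-, ⟨φ⟩⟩ := hst w
    exact Groth.Agent.CurvLocusLib.gor_of_equiv φ ((Groth.Agent.AlgSpDec.GorAt.gorAt_iff h.left (p.left w)).1
      (H _ _ b h (p.left w) (Groth.Agent.AlgSpLib.repWith_comp he (Groth.Agent.AlgSpLib.repWith_fst f.hom hb)) hb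
        (hwf b e h hh) rfl)).2
  tfae_have 3 → 2 := by
    intro H
    obtain ⟨V, b, hb, hbs⟩ := Y.property.atlas
    exact ⟨H.1, V, b, hb, hbs, H.2 V b hb⟩
  tfae_have 2 → 1 := by
    rintro ⟨hfl, V, b, hb, hbs, H⟩ x
    obtain ⟨U, e, h, he, hes, hh⟩ := Groth.Agent.AlgSpLib.exists_chart_over X.property Y.property f.hom b
    have ha := Groth.Agent.AlgSpLib.repWith_comp he (Groth.Agent.AlgSpLib.repWith_fst f.hom hb)
    obtain ⟨u, rfl⟩ := Groth.Agent.AlgSpLib.surjective_ofPt
      (Groth.Agent.AlgSpLib.repWith_comp hes (Groth.Agent.AlgSpLib.repWith_fst f.hom hbs)) x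
    rw [Groth.Agent.AlgSpDec.GorAt.locPAt_gor_iff ha hb (hwf b e h hh) u]
    have hflat : Flat h.left := hfl _ b h ha hb (hwf b e h hh)
    let cv : (AlgSp.yon S).obj (Over.mk (V.left.fromSpecResidueField (h.left u) ≫ V.hom)) ⟶ Y.obj :=
      (AlgSp.yon S).map (Over.homMk (V.left.fromSpecResidueField (h.left u)) rfl :
        Over.mk (V.left.fromSpecResidueField (h.left u) ≫ V.hom) ⟶ V) ≫ b
    have sq := IsPullback.of_hasPullback f.hom cv
    obtain ⟨W, a', p, ha', -, hst, hp⟩ :=
      Groth.Agent.AlgSpDec.GorAt.exists_fibre_chart f.hom he hes hh (h.left u) _ _ sq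
    obtain ⟨w, hw⟩ := hp u rfl
    subst hw
    obtain ⟨-, ⟨φ⟩⟩ := hst w
    exact Groth.Agent.AlgSpDec.GorAt.gorAt_of_fibre (Flat.stalkMap h.left _) φ
      ((Groth.Agent.AlgSpDec.GorAt.gor_chart (H _ _ _ _ sq) ha').2 w)
  tfae_finish


end Groth.Agent.S10690
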