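import Groth.Statements.S10691
import Groth.Agent.AlgSpDec.GorSpace

set_option autoImplicit false
universe u
open CategoryTheory CategoryTheory.Limits AlgebraicGeometry
open AlgSp

namespace Groth.Agent.S10691

set_option backward.isDefEq.respectTransparency false
set_option backward.isDefEq.respectTransparency.types false

/-- For locally Noetherian algebraic spaces X, Y over S and a flat morphism f : X ⟶ Y, with X Gorenstein
(some etale surjective scheme chart is a Gorenstein scheme): f is Gorenstein at every point of |X|,
and for every point x of |X| the etale local ring of Y at a geometric point over f(x), presented as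
a strict henselization R of the local ring of an etale scheme chart V of Y at a point v over f(x),
is a Gorenstein local ring. Here f is Gorenstein at x when in every etale chart diagram through x
the top arrow is Gorenstein at the point over x (flat there, with Gorenstein local ring of its
fibre), and the fibres of a morphism are locally Noetherian when every fibre over a field point
(pullback in fppf sheaves) is a locally Noetherian algebraic space. -/
theorem result {S : Scheme.{u}} {X Y : AlgSp.Space S} (f : X ⟶ Y) (hf : AlgSp.LocP @Flat f.hom)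
    (hX1 : AlgSp.IsLocNoethSp X.obj) (hY1 : AlgSp.IsLocNoethSp Y.obj)
    (hX2 : AlgSp.EtaleLocally Dual3.IsGorenstein X.obj) :
    (∀ x : AlgSp.Points X.obj, AlgSp.LocPAt (fun h u => Dual3.IsGorensteinAt h u) f.hom x) ∧
      ∀ (x : AlgSp.Points X.obj) (V : Over S) (b : (AlgSp.yon S).obj V ⟶ Y.obj), AlgSp.RepWith @Etale b →
        ∀ (v : ↥V.left), AlgSp.Points.ofPt b v = AlgSp.Points.map f.hom x →
          ∀ (R : Type u) [CommRing R] [IsLocalRing R] [Algebra ↥(V.left.presheaf.stalk v) R]
            [IsLocalHom (algebraMap ↥(V.left.presheaf.stalk v) R)]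
            [Hensel.IsStrictHenselization ↥(V.left.presheaf.stalk v) R],
            LocCoh.IsGorensteinLocalRing R := by
  have hGU : ∀ {U V : Over S} {a : (AlgSp.yon S).obj U ⟶ X.obj} {b : (AlgSp.yon S).obj V ⟶ Y.obj} {h : U ⟶ V},
      AlgSp.RepWith @Etale a → AlgSp.RepWith @Etale b → a ≫ f.hom = (AlgSp.yon S).map h ≫ b → ∀ u : U.left,
      LocCoh.IsGorensteinLocalRing (V.left.presheaf.stalk (h.left u)) ∧ Dual3.IsGorensteinAt h.left u := by
    intro U V a b h ha hb w u
    obtain ⟨hNU, hG⟩ := Groth.Agent.AlgSpDec.GorAt.gor_chart hX2 ha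
    have hNV := Groth.Agent.AlgSpDec.isLocallyNoetherian_chart hb hY1
    have hflat : Flat h.left := hf a b h ha hb w
    let := (h.left.stalkMap u).hom.toAlgebra
    have : IsLocalHom (algebraMap (V.left.presheaf.stalk (h.left u)) (U.left.presheaf.stalk u)) :=
      inferInstanceAs <| IsLocalHom (h.left.stalkMap u).hom
    have : Module.Flat (V.left.presheaf.stalk (h.left u)) (U.left.presheaf.stalk u) := Flat.stalkMap h.left u
    have hh := (Groth.Agent.S0344.result (V.left.presheaf.stalk (h.left u)) (U.left.presheaf.stalk u)).1 (hG u)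
    exact ⟨hh.1, (Groth.Agent.AlgSpDec.GorAt.gorAt_iff h.left u).2 ⟨Flat.stalkMap h.left u, hh.2⟩⟩
  refine ⟨fun x U V a b h u ha hb w _ => (hGU ha hb w u).2, ?_⟩
  intro x V b hb v hv R _ _ _ _ _
  obtain ⟨U, e, h, he, hes, hh⟩ := Groth.Agent.AlgSpLib.exists_chart_over X.property Y.property f.hom b
  obtain ⟨u, hu⟩ : v ∈ Set.range h.left := by
    rw [Groth.Agent.AlgSpLib.range_chart_over (IsPullback.of_hasPullback f.hom b) hes hh]
    exact ⟨x, hv.symm⟩
  have hA := (hGU (Groth.Agent.AlgSpLib.repWith_comp he (Groth.Agent.AlgSpLib.repWith_fst f.hom hb)) hb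
    (h := h) (by rw [Category.assoc, pullback.condition, ← Category.assoc, hh]) u).1
  rw [hu] at hA
  have hH := Groth.Agent.Hensel.isHenzLike_of_isStrictHenselization (V.left.presheaf.stalk v) R
  have := hH.faithfullyFlat
  have := hA
  have : IsNoetherianRing (V.left.presheaf.stalk v) := inferInstance
  have : IsNoetherianRing R := hH.isNoetherianRing_iff.1 inferInstance
  refine (Groth.Agent.S0344.result (V.left.presheaf.stalk v) R).2 ⟨hA, ?_⟩
  have hF : IsField (R ⧸ (IsLocalRing.maximalIdeal (V.left.presheaf.stalk v)).map
      (algebraMap (V.left.presheaf.stalk v) R)) := by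
    rw [← Ideal.Quotient.maximal_ideal_iff_isField_quotient, hH.map_maximalIdeal]
    infer_instance
  let := hF.toField
  exact Groth.Agent.S0342.result _


end Groth.Agent.S10691
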