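import Groth.Statements.S10692
import Groth.Agent.AlgSpDec.FibreDimLower
import Groth.Agent.AlgSpLib.LocalBaseTop

set_option autoImplicit false
universe u
open CategoryTheory CategoryTheory.Limits AlgebraicGeometry
open AlgSp Groth.Agent.AlgSpLib Groth.Agent.AlgSpPts

set_option backward.isDefEq.respectTransparency false
set_option backward.isDefEq.respectTransparency.types false

namespace Groth.Agent.S10692

/-- For a proper flat morphism f : X ⟶ Y between algebraic spaces over S which is of finite
presentation, the fibre dimension function on |Y| is locally constant: for every d the set of y such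
that every fibre X_k over y (k a field point in the class of y, X_k any pullback in fppf sheaves)
has dimension exactly d is open. -/
theorem result {S : Scheme.{u}} {X Y : AlgSp.Space S} (f : X ⟶ Y) (hf1 : AlgSp.IsProperMor f.hom)
    (hf2 : AlgSp.LocP @Flat f.hom) (hf3 : AlgSp.IsFinitePresentationMor f.hom) (d : WithBot ℕ∞) :
    IsOpen {y : AlgSp.Points Y.obj | ∀ (k : AlgSp.FieldPt Y.obj), AlgSp.Points.mk k = y →
      ∀ (Xk : AlgSp.Sp S) (fst : Xk ⟶ X.obj) (snd : Xk ⟶ (AlgSp.yon S).obj k.pt),
        IsPullback fst snd f.hom k.toHom → AlgSp.dim Xk = d} := by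
  have hX := X.property
  have hY := Y.property
  have hlp := hf3.1
  have hlt : LocP @LocallyOfFiniteType f.hom :=
    Groth.Agent.AlgSpLib.locP_mono (P := @LocallyOfFinitePresentation) (Q := @LocallyOfFiniteType)
      (fun _ _ g h => by haveI := h; infer_instance) hlp
  have hc : IsClosedMap (AlgSp.Points.map f.hom) :=
    hf1.2.2 Y.property (𝟙 _) (𝟙 _) f.hom (IsPullback.of_id_fst)
  have hlo := Groth.Agent.AlgSpDec.FibreDimSp.isOpen_setOf_lt_dim hX hY hlt hf2 hlp
  have hup := Groth.Agent.AlgSpDec.FibreDimSp.isOpen_setOf_dim_lt hX hY hlt hc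
  induction d using WithBot.recBotCoe with
  | bot =>
    convert hup (0 : ℕ) using 1
    ext y
    constructor
    · intro h k hk Xk fst snd sq
      rw [h k hk Xk fst snd sq]; exact WithBot.bot_lt_coe _
    · intro h k hk Xk fst snd sq
      have := h k hk Xk fst snd sq
      revert this
      rcases hD : AlgSp.dim Xk with _ | e
      · intro _; rfl
      · intro h'
        exact absurd h' (not_lt_of_ge (WithBot.coe_le_coe.2 (zero_le (a := e))))
  | coe e =>
    induction e using ENat.recTopCoe with
    | top =>
      convert isOpen_empty (X := AlgSp.Points Y.obj)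
      ext y
      simp only [Set.mem_empty_iff_false, iff_false]
      intro h
      induction y using AlgSp.Points.ind with
      | h k =>
      have sq := IsPullback.of_hasPullback f.hom k.toHom
      have htop := h k rfl _ _ _ sq
      have hqc : AlgSp.IsQuasiCompactSp (pullback f.hom k.toHom) :=
        hf3.2.1 (AlgSp.IsAlgSpace.yon_obj k.pt)
          (haveI : CompactSpace ↥k.pt.left := inferInstanceAs (CompactSpace (PrimeSpectrum k.K))
           Groth.Agent.AlgSpLib.isQuasiCompactSp_yon k.pt) _ _ _ sq
      haveI : CompactSpace (AlgSp.Points (pullback f.hom k.toHom)) := Groth.Agent.AlgSpLib.compactSpace_points hqc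
      let O : ℕ → Set (AlgSp.Points (pullback f.hom k.toHom)) := fun n =>
        AlgSp.Points.map (pullback.fst f.hom k.toHom) ⁻¹'
          {x | AlgSp.HasAtMor (fun _ _ h u => FlatMor.fibreDimAt h u ≤ (n : WithBot ℕ∞)) f.hom x}
      obtain ⟨n, hn⟩ := isCompact_univ.elim_directed_cover O
        (fun n => (Groth.Agent.AlgSpDec.RelDimSp.isOpen_le hlt n).preimage (AlgSp.Points.continuous_map _))
        (fun z _ => by
          obtain ⟨U, V, a, b, g, ha, ha', hb, -, w⟩ := Groth.Agent.AlgSpLib.exists_chart hX hY f.hom
          obtain ⟨u, hu⟩ := surjective_ofPt ha' (AlgSp.Points.map (pullback.fst f.hom k.toHom) z)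
          haveI : LocallyOfFiniteType g.left := hlt a b g ha hb w
          obtain ⟨z', -, -, hz'⟩ := Groth.Agent.FibDim.exists_fibreDimAt_eq g.left u
          exact Set.mem_iUnion.2 ⟨Groth.Agent.FibDim.rd g.left z', U, V, a, b, g, u, ha, hb, w, hu, hz'.1.le⟩)
        (Monotone.directed_le fun m n hmn z hz => by
          obtain ⟨U, V, a, b, g, u, ha, hb, w, hu, hq⟩ := hz
          exact ⟨U, V, a, b, g, u, ha, hb, w, hu, hq.trans (by exact_mod_cast hmn)⟩)
      have hle := (Groth.Agent.AlgSpDec.FibreDimSp.dim_le_iff sq hX hY hlt n).2 fun x hx => by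
        obtain ⟨z, rfl⟩ := Groth.Agent.AlgSpDec.FibreDimSp.exists_over sq hx
        exact hn (Set.mem_univ z)
      rw [htop] at hle
      exact absurd (WithBot.coe_le_coe.1 hle) (by simp)
    | coe n =>
      have key : ∀ x : WithBot ℕ∞, (x = ((n : ℕ∞) : WithBot ℕ∞) ↔ (x < ((n + 1 : ℕ) : WithBot ℕ∞) ∧
          (if n = 0 then (⊥ : WithBot ℕ∞) else ((n - 1 : ℕ) : WithBot ℕ∞)) < x)) := by
        intro x
        rcases x with _ | e
        · simp only [WithBot.none_eq_bot]
          constructor
          · intro h; exact absurd h.symm WithBot.coe_ne_bot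
          · rintro ⟨-, h⟩; exact absurd h not_lt_bot
        · induction e using ENat.recTopCoe with
          | top =>
            constructor
            · intro h; exact absurd (WithBot.coe_injective h) (ENat.natCast_ne_top n).symm
            · rintro ⟨h, -⟩; exact absurd h (not_lt_of_ge le_top)
          | coe m =>
            split_ifs with h0
            · subst h0
              show ((m : ℕ) : WithBot ℕ∞) = ((0 : ℕ) : WithBot ℕ∞) ↔ _
              simp only [Nat.cast_inj]
              constructor
              · rintro rfl; exact ⟨WithBot.coe_lt_coe.2 (ENat.natCast_lt_natCast.2 (Nat.zero_lt_one)), WithBot.bot_lt_coe _⟩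
              · rintro ⟨h, -⟩
                have : (m : ℕ∞) < ((1 : ℕ) : ℕ∞) := WithBot.coe_lt_coe.1 h
                have : m < 1 := by exact_mod_cast this
                omega
            · show ((m : ℕ) : WithBot ℕ∞) = ((n : ℕ) : WithBot ℕ∞) ↔
                ((m : ℕ) : WithBot ℕ∞) < _ ∧ ((n - 1 : ℕ) : WithBot ℕ∞) < ((m : ℕ) : WithBot ℕ∞)
              simp only [Nat.cast_inj, Nat.cast_lt]
              omega
      convert (hup ((n + 1 : ℕ))).inter
        (hlo (if n = 0 then (⊥ : WithBot ℕ∞) else ((n - 1 : ℕ) : WithBot ℕ∞))) using 1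
      ext y
      constructor
      · intro h
        exact ⟨fun k hk Xk fst snd sq => ((key _).1 (h k hk Xk fst snd sq)).1,
          fun k hk Xk fst snd sq => ((key _).1 (h k hk Xk fst snd sq)).2⟩
      · intro h k hk Xk fst snd sq
        exact (key _).2 ⟨h.1 k hk Xk fst snd sq, h.2 k hk Xk fst snd sq⟩

end Groth.Agent.S10692
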