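import Groth.Statements.S10696
import Groth.Agent.AlgSpDec.DistGlue
-- import your own Groth.Agent.* helpers here

set_option autoImplicit false
universe u
open CategoryTheory CategoryTheory.Limits AlgebraicGeometry
open AlgSp

namespace Groth.Agent.S10696

set_option backward.isDefEq.respectTransparency false
set_option backward.isDefEq.respectTransparency.types false

open Groth.Agent.AlgSpLib Groth.Agent.AlgSpPts Groth.Agent.AlgSpDec

/-- A property local on the source may be checked on a Zariski cover. -/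
theorem locP_of_zarCover' {S : Scheme.{u}} {ι : Type u} {P : MorphismProperty Scheme.{u}} [IsEtLocal P]
    [IsZariskiLocalAtSource P] {G F : Sp S} (hF : IsAlgSpace F) {Y : ι → Sp S} {j : ∀ i, Y i ⟶ G}
    (hj : IsZarCover Y j) (hY : ∀ i, IsAlgSpace (Y i)) (f : G ⟶ F) (hf : ∀ i, LocP P (j i ≫ f)) : LocP P f := by
  have hG := isAlgSpace_of_zarCover hj hY
  obtain ⟨V, c, hc, hcs⟩ := hF.atlas
  choose U a₀ h h1 h2 h3 using fun i => exists_chart_over (hY i) hF (j i ≫ f) c
  let b : ∀ i, (yon S).obj (U i) ⟶ Y i := fun i => a₀ i ≫ pullback.fst _ _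
  have hb : ∀ i, RepWith @Etale (b i) := fun i => repWith_comp (h1 i) (repWith_fst _ hc)
  have hbs : ∀ i, RepWith @Surjective (b i) := fun i => repWith_comp (h2 i) (repWith_fst _ hcs)
  have hw : ∀ i, b i ≫ j i ≫ f = (yon S).map (h i) ≫ c := fun i => by
    show (a₀ i ≫ _) ≫ _ = _
    rw [Category.assoc, pullback.condition, ← Category.assoc, h3]
  have hbj : ∀ i, RepWith @Etale (b i ≫ j i) := fun i =>
    repWith_comp (hb i) (repWith_mono (fun _ _ e (_ : IsOpenImmersion e) => inferInstanceAs (Etale e)) _ (hj.1 i))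
  obtain ⟨p, hp⟩ := exists_hom_sigma U fun i => b i ≫ j i
  have hpr : Representable p := representable_from_yon' hG _
  have hpe : RepWith @Etale p := repWith_etale_sigma hpr fun i => by rw [hp]; exact hbj i
  have hps : RepWith @Surjective p := repWith_surjective_of_surjective hpr fun x => by
    obtain ⟨i, y, rfl⟩ := hj.2 x
    obtain ⟨v, rfl⟩ := surjective_map_of_repWith (hbs i) y
    exact ⟨Points.map ((yon S).map (sigmaι U i)) v, by rw [← Points.map_comp, hp, Points.map_comp]⟩
  obtain ⟨hm, hhm⟩ := exists_hom_sigma U fun i => (yon S).map (h i)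
  obtain ⟨hm, rfl⟩ := (yon S).map_surjective hm
  have hsig : ∀ i, sigmaι U i ≫ hm = h i := fun i => (yon S).map_injective (by rw [Functor.map_comp, hhm])
  refine locP_of_chart (h := hm) hpe hps hc (hom_ext_sigma U fun i => ?_) ?_
  · rw [reassoc_of% (hp i), ← Functor.map_comp_assoc, hsig, hw]
  rw [IsZariskiLocalAtSource.iff_of_openCover (P := P) (sigmaOpenCover fun i => (U i).left)]
  intro i
  have := hf i (b i) c (h i) (hb i) hc (hw i)
  rw [← hsig, Over.comp_left] at this
  exact this

/-- Every sheaf has a point with values in the empty scheme. -/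
theorem nonempty_hom_of_isEmpty {S : Scheme.{u}} {F : Sp S} {T : Over S} [IsEmpty ↥T.left] :
    Nonempty ((yon S).obj T ⟶ F) := by
  obtain ⟨z, -⟩ := exists_hom_sigma (F := F) (fun i : PEmpty.{u + 1} => i.elim) (fun i => i.elim)
  let k : T ⟶ sigmaOver (fun i : PEmpty.{u + 1} => (i.elim : Over S)) :=
    CategoryTheory.Over.homMk (isInitialOfIsEmpty.to _) (isInitialOfIsEmpty.hom_ext _ _)
  exact ⟨(yon S).map k ≫ z⟩

/-- Let `U`, `V` be algebraic spaces over `S`, `V' ⊂ V` an open subspace and `f' : V' → U` a separated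
etale morphism. Then there are an algebraic space `W` and morphisms `j : U → W`, `f : V → W` making
the square on `V' → V`, `f'`, `f`, `j` a pushout in the category of algebraic spaces over `S`, with
`(U ⊂ W, f : V → W)` an elementary distinguished square whose cartesian corner is `V'` (the square
is also a fibre product square). (The published statement does not assert that the square is
cartesian; this row does, as the construction gives it.) -/
theorem result {S : Scheme.{u}} {U V V' : AlgSp.Space S} (jV : V' ⟶ V)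
    (hjV : AlgSp.RepWith @IsOpenImmersion jV.hom) (f' : V' ⟶ U) (hsep : AlgSp.IsSeparatedMor f'.hom)
    (het : AlgSp.IsEtaleMor f'.hom) :
    ∃ (W : AlgSp.Space S) (j : U ⟶ W) (f : V ⟶ W), IsPushout jV f' f j ∧
      IsPullback jV.hom f'.hom f.hom j.hom ∧ AlgSp.IsElemDistSq j.hom f.hom := by
  have hjm : Mono jV.hom := mono_of_repWith
    (repWith_mono (fun _ _ k (hk : IsOpenImmersion k) => inferInstanceAs (Mono k)) _ hjV)
  let W₀ : Sp S := pushout jV.hom f'.hom
  let f : V.obj ⟶ W₀ := pushout.inl _ _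
  let j : U.obj ⟶ W₀ := pushout.inr _ _
  have h₀ : IsPushout jV.hom f'.hom f j := IsPushout.of_hasPushout _ _
  have hsq : IsPullback jV.hom f'.hom f j := Adhesive.isPullback_of_isPushout_of_mono_left h₀
  have hmj : Mono j := Adhesive.mono_of_isPushout_of_mono_left h₀
  have het' : LocP @Etale f'.hom := (isEtaleMor_iff_locP V'.property U.property _).1 het
  -- the relation on `V`
  let A := pullback f'.hom f'.hom
  let κ : A ⟶ pullback f f := pullback.lift (pullback.fst _ _ ≫ jV.hom) (pullback.snd _ _ ≫ jV.hom)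
    (by rw [Category.assoc, Category.assoc, h₀.w, pullback.condition_assoc])
  have hκ₁ : κ ≫ pullback.fst f f = pullback.fst f'.hom f'.hom ≫ jV.hom := pullback.lift_fst _ _ _
  have hκ₂ : κ ≫ pullback.snd f f = pullback.snd f'.hom f'.hom ≫ jV.hom := pullback.lift_snd _ _ _
  have back : IsPullback κ (pullback.fst f'.hom f'.hom) (pullback.fst f f) jV.hom := by
    refine IsPullback.of_right ?_ hκ₁ (IsPullback.of_hasPullback f f).flip
    rw [hκ₂, h₀.w]
    exact (IsPullback.of_hasPullback f'.hom f'.hom).flip.paste_horiz hsq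
  have hκ : RepWith @IsOpenImmersion κ := repWith_of_isPullback back.flip hjV
  have hA : IsAlgSpace A := isAlgSpace_pullback V'.property V'.property U.property _ _
  have hδ : RepWith @IsOpenImmersion (pullback.diagonal f'.hom) :=
    (Groth.Agent.S10262.result f').1 (locP_mono (P := @Etale) (Q := @LocallyOfFiniteType ⊓ @FormallyUnramified)
      (fun _ _ g hg => by haveI : Etale g := hg; exact ⟨inferInstance, inferInstance⟩) het')
  let Q := pullback f f
  let d : Q ⟶ V.obj ⨯ V.obj := prod.lift (pullback.fst f f) (pullback.snd f f)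
  have : Mono d := ⟨fun u v h => pullback.hom_ext
    (by simpa [d] using congrArg (· ≫ prod.fst) h) (by simpa [d] using congrArg (· ≫ prod.snd) h)⟩
  have hΔr : Representable (pullback.diagonal f) := fun T ξ => by
    obtain ⟨P, p, q, sq⟩ := V.property.diag (ξ ≫ d)
    refine ⟨P, p, q, IsPullback.of_right (h₁₂ := 𝟙 _) (v₁₂ := pullback.diagonal f) (h₂₂ := d) ?_ ?_
      (isPullback_diagonal_diag f)⟩
    · rw [Category.comp_id]; exact sq
    · refine (cancel_mono d).1 ?_
      rw [Category.assoc, Category.assoc, show pullback.diagonal f ≫ d = Limits.diag V.obj by ext <;> simp [d]]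
      exact sq.w
  have hδκ : pullback.diagonal f'.hom ≫ κ = jV.hom ≫ pullback.diagonal f := by
    apply pullback.hom_ext <;> simp [hκ₁, hκ₂]
  have sqδ : IsPullback jV.hom (pullback.diagonal f'.hom) (pullback.diagonal f) κ := by
    refine IsPullback.of_bot ?_ hδκ.symm back
    rw [pullback.diagonal_fst, pullback.diagonal_fst]
    exact IsPullback.of_vert_isIso ⟨by simp⟩
  have := isLocalAtTarget_fppf (@IsOpenImmersion : MorphismProperty Scheme.{u})
  have hΔ : RepWith @IsOpenImmersion (pullback.diagonal f) := by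
    refine repWith_of_local_lifts hΔr _ fun T t => ?_
    obtain ⟨R, hR, hl⟩ := exists_covering_kernelPair h₀ hκ₁ hκ₂ t
    refine ⟨R, hR, fun T' φ hφ => ?_⟩
    rcases hl φ hφ with ⟨x, hx⟩ | ⟨y, hy⟩
    · refine ⟨_, hδ.rep.fst x ≫ jV.hom, hδ.rep.snd x, ?_, hδ.property_snd x⟩
      rw [← hx]
      exact (hδ.rep.isPullback x).paste_horiz sqδ
    · refine ⟨T', y, 𝟙 T', ?_, inferInstanceAs (IsOpenImmersion (𝟙 T'.left))⟩
      rw [← hy, CategoryTheory.Functor.map_id]
      exact ⟨⟨by rw [Category.id_comp]⟩, ⟨PullbackCone.IsLimit.mk _ (fun s => s.snd)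
        (fun s => ((cancel_mono (pullback.diagonal f)).1 (s.condition.trans (Category.assoc _ _ _).symm)).symm)
        (fun s => Category.comp_id _) (fun s m _ hm => by rw [← hm, Category.comp_id])⟩⟩
  let YQ : ULift.{u} Bool → Sp S := fun k => match k with | ⟨true⟩ => A | ⟨false⟩ => V.obj
  let jQ : ∀ k, YQ k ⟶ Q := fun k => match k with | ⟨true⟩ => κ | ⟨false⟩ => pullback.diagonal f
  have hzar : IsZarCover YQ jQ := by
    refine ⟨?_, exists_mem_range_of_covering jQ fun T t => ?_⟩
    · rintro ⟨_ | _⟩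
      exacts [hΔ, hκ]
    · obtain ⟨R, hR, hl⟩ := exists_covering_kernelPair h₀ hκ₁ hκ₂ t
      refine ⟨R, hR, fun T' φ hφ => ?_⟩
      rcases hl φ hφ with ⟨x, hx⟩ | ⟨y, hy⟩
      exacts [⟨⟨true⟩, x, hx⟩, ⟨⟨false⟩, y, hy⟩]
  have hYQ : ∀ k, IsAlgSpace (YQ k) := by
    rintro ⟨_ | _⟩
    exacts [V.property, hA]
  have hQ : IsAlgSpace Q := isAlgSpace_of_zarCover hzar hYQ
  have hfst : LocP @Etale (pullback.fst f f) := by
    refine locP_of_zarCover' V.property hzar hYQ _ ?_
    rintro ⟨_ | _⟩
    · show LocP @Etale (pullback.diagonal f ≫ pullback.fst f f)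
      rw [pullback.diagonal_fst]
      exact locP_of_repWith (repWith_of_isIso _ _)
    · show LocP @Etale (κ ≫ pullback.fst f f)
      rw [hκ₁]
      exact locP_comp hA V'.property V.property
        (locP_of_isPullback (IsPullback.of_hasPullback f'.hom f'.hom).flip V'.property U.property V'.property het')
        (locP_of_repWith (repWith_mono (fun _ _ g (_ : IsOpenImmersion g) => inferInstanceAs (Etale g)) _ hjV))
  -- the glued space
  let YW : ULift.{u} Bool → Sp S := fun k => match k with | ⟨true⟩ => U.obj | ⟨false⟩ => V.obj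
  let jW : ∀ k, YW k ⟶ W₀ := fun k => match k with | ⟨true⟩ => j | ⟨false⟩ => f
  have hQW : ∀ i k, IsAlgSpace (pullback (jW i) (jW k)) ∧ LocP @Etale (pullback.fst (jW i) (jW k)) := by
    rintro ⟨_ | _⟩ ⟨_ | _⟩
    · exact ⟨hQ, hfst⟩
    · show IsAlgSpace (pullback f j) ∧ LocP @Etale (pullback.fst f j)
      rw [← hsq.isoPullback_inv_fst]
      exact ⟨V'.property.of_iso hsq.isoPullback, locP_comp (V'.property.of_iso hsq.isoPullback) V'.property V.property
        (locP_of_repWith (repWith_of_isIso _ _))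
        (locP_of_repWith (repWith_mono (fun _ _ g (_ : IsOpenImmersion g) => inferInstanceAs (Etale g)) _ hjV))⟩
    · show IsAlgSpace (pullback j f) ∧ LocP @Etale (pullback.fst j f)
      rw [← hsq.flip.isoPullback_inv_fst]
      exact ⟨V'.property.of_iso hsq.flip.isoPullback, locP_comp (V'.property.of_iso hsq.flip.isoPullback) V'.property
        U.property (locP_of_repWith (repWith_of_isIso _ _)) het'⟩
    · show IsAlgSpace (pullback j j) ∧ LocP @Etale (pullback.fst j j)
      exact ⟨U.property.of_iso (asIso (pullback.fst j j)).symm, locP_of_repWith (repWith_of_isIso _ _)⟩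
  obtain ⟨hW, hjWe⟩ := isAlgSpace_of_etale_family jW (by rintro ⟨_ | _⟩; exacts [V.property, U.property])
    (fun T t => by
      obtain ⟨R, hR, hl⟩ := exists_covering_of_isPushout h₀ t
      refine ⟨R, hR, fun T' φ hφ => ?_⟩
      rcases hl φ hφ with ⟨x, hx⟩ | ⟨y, hy⟩
      exacts [⟨⟨false⟩, x, hx⟩, ⟨⟨true⟩, y, hy⟩]) hQW
  have hfe : IsEtaleMor f := hjWe ⟨false⟩
  have hje : IsEtaleMor j := hjWe ⟨true⟩
  have hjr : Representable j := representable_of_mono_lft U.property hW j
    (locP_mono (fun _ _ g (hg : Etale g) => haveI := hg; inferInstanceAs (LocallyOfFiniteType g)) ((isEtaleMor_iff_locP U.property hW _).1 hje))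
  have hjo : RepWith @IsOpenImmersion j := by
    refine repWith_of_local_lifts hjr _ fun T t => ?_
    obtain ⟨R, hR, hl⟩ := exists_covering_of_isPushout h₀ t
    refine ⟨R, hR, fun T' φ hφ => ?_⟩
    rcases hl φ hφ with ⟨x, hx⟩ | ⟨y, hy⟩
    · refine ⟨_, hjV.rep.fst x ≫ f'.hom, hjV.rep.snd x, ?_, hjV.property_snd x⟩
      rw [← hx]
      exact (hjV.rep.isPullback x).paste_horiz hsq.flip
    · refine ⟨T', y, 𝟙 T', ?_, inferInstanceAs (IsOpenImmersion (𝟙 T'.left))⟩
      rw [← hy, CategoryTheory.Functor.map_id]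
      exact ⟨⟨by rw [Category.id_comp]⟩, ⟨PullbackCone.IsLimit.mk _ (fun s => s.snd)
        (fun s => ((cancel_mono j).1 (s.condition.trans (Category.assoc _ _ _).symm)).symm)
        (fun s => Category.comp_id _) (fun s m _ hm => by rw [← hm, Category.comp_id])⟩⟩
  let W : Space S := ⟨W₀, hW⟩
  let jS : U ⟶ W := ObjectProperty.homMk j
  let fS : V ⟶ W := ObjectProperty.homMk f
  have hpo : IsPushout jV f' fS jS := by
    refine ⟨⟨ObjectProperty.hom_ext _ h₀.w⟩, ⟨PushoutCocone.IsColimit.mk _
      (fun s => ObjectProperty.homMk (h₀.desc s.inl.hom s.inr.hom (congrArg (·.hom) s.condition)))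
      (fun s => ObjectProperty.hom_ext _ (h₀.inl_desc _ _ _)) (fun s => ObjectProperty.hom_ext _ (h₀.inr_desc _ _ _))
      (fun s m h₁ h₂ => ObjectProperty.hom_ext _ (h₀.hom_ext ((congrArg (·.hom) h₁).trans (h₀.inl_desc _ _ _).symm)
        ((congrArg (·.hom) h₂).trans (h₀.inr_desc _ _ _).symm)))⟩⟩
  obtain ⟨T, i, hT⟩ := exists_reduced_induced hW (isOpen_range_openImm hW hjo).isClosed_compl
  have hempty : ∀ {Z : Over S} (z : (yon S).obj Z ⟶ T.obj) (u : (yon S).obj Z ⟶ U.obj),
      z ≫ i = u ≫ j → IsEmpty ↥Z.left := fun {Z} z u hzu => ⟨fun w => by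
    have h1 : Points.ofPt (z ≫ i) w ∈ (Set.range (Points.map j))ᶜ :=
      hT.2.1 ▸ ⟨Points.ofPt z w, by rw [Points.map_ofPt]⟩
    exact h1 ⟨Points.ofPt u w, by rw [Points.map_ofPt, hzu]⟩⟩
  let P := pullback i f
  have hp₁m : Mono (pullback.fst i f) := mono_of_yon_injective fun Z x y hxy => by
    have hg : (x ≫ pullback.snd i f) ≫ f = (y ≫ pullback.snd i f) ≫ f := by
      rw [Category.assoc, Category.assoc, ← pullback.condition, reassoc_of% hxy]
    obtain ⟨R, hR, hl⟩ := exists_covering_kernelPair h₀ hκ₁ hκ₂ (pullback.lift _ _ hg)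
    refine hom_ext_of_covering _ _ hR fun Z' φ hφ => ?_
    rcases hl φ hφ with ⟨a, ha⟩ | ⟨b, hb⟩
    · have : IsEmpty ↥Z'.left := hempty ((yon S).map φ ≫ x ≫ pullback.fst i f)
        (a ≫ pullback.fst f'.hom f'.hom ≫ f'.hom) (by
          have e := congrArg (· ≫ pullback.fst f f ≫ f) ha
          simp only [Category.assoc, reassoc_of% hκ₁, pullback.lift_fst_assoc, h₀.w] at e
          simp only [Category.assoc]
          rw [pullback.condition]
          exact e.symm)
      exact hom_ext_of_isEmpty _ _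
    · refine pullback.hom_ext (by simp only [Category.assoc, hxy]) ?_
      have e₁ := congrArg (· ≫ pullback.fst f f) hb
      have e₂ := congrArg (· ≫ pullback.snd f f) hb
      simp only [Category.assoc, pullback.diagonal_fst, pullback.diagonal_snd, pullback.lift_fst, pullback.lift_snd] at e₁ e₂
      simp only [Category.assoc, ← e₁, ← e₂]
  have hp₁s : Sheaf.IsLocallySurjective (pullback.fst i f) := by
    refine ⟨fun {Z} s => ?_⟩
    obtain ⟨R, hR, hl⟩ := exists_covering_of_isPushout h₀ ((J S).uliftYonedaEquiv.symm s ≫ i)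
    refine (J S).superset_covering (fun Z' φ hφ => ?_) hR
    have hs : T.obj.obj.map φ.op s = (J S).uliftYonedaEquiv ((yon S).map φ ≫ (J S).uliftYonedaEquiv.symm s) := by
      rw [← uliftYonedaEquiv_precomp, Equiv.apply_symm_apply]
    obtain ⟨l, hl'⟩ : ∃ l : (yon S).obj Z' ⟶ P, l ≫ pullback.fst i f = (yon S).map φ ≫ (J S).uliftYonedaEquiv.symm s := by
      rcases hl φ hφ with ⟨x, hx⟩ | ⟨y, hy⟩
      · exact ⟨pullback.lift ((yon S).map φ ≫ (J S).uliftYonedaEquiv.symm s) x (by rw [hx, Category.assoc]),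
          pullback.lift_fst _ _ _⟩
      · have : IsEmpty ↥Z'.left := hempty ((yon S).map φ ≫ (J S).uliftYonedaEquiv.symm s) y (by rw [hy, Category.assoc])
        obtain ⟨x⟩ := nonempty_hom_of_isEmpty (T := Z') (F := P)
        exact ⟨x, hom_ext_of_isEmpty _ _⟩
    refine ⟨(J S).uliftYonedaEquiv l, ?_⟩
    rw [hs, ← hl', GrothendieckTopology.uliftYonedaEquiv_comp]
  have hp₁ : IsIso (pullback.fst i f) := isIso_of_mono_of_locallySurjective _
  exact ⟨W, jS, fS, hpo, hsq, hjo, hfe, T.obj, P, i, pullback.fst i f, pullback.snd i f, hT,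
    IsPullback.of_hasPullback i f, hp₁⟩

end Groth.Agent.S10696
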