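import Groth.Statements.S10704
import Groth.Agent.AlgSpDec.FlatRefine
import Groth.Agent.AlgSpDec.LimDescent
import Groth.Agent.AlgSpLib.Covers
import Groth.Agent.AlgSpPts.Misc
import Groth.Agent.IsoNatLib.TrivLocus
import Groth.Agent.S10705
-- import your own Groth.Agent.* helpers here

set_option autoImplicit false
universe u
open CategoryTheory CategoryTheory.Limits AlgebraicGeometry
open AlgSp

namespace Groth.Agent.S10704

set_option backward.isDefEq.respectTransparency false
set_option backward.isDefEq.respectTransparency.types false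
open Groth.Agent.AlgSpLib Groth.Agent.AlgSpPts Groth.Agent.AlgSpDec

theorem compactSpace_open_piece {S : Scheme.{u}} {X Z U : AlgSp.Space S} {i : Z ⟶ X} {j : U ⟶ X}
    (hi : AlgSp.RepWith @IsClosedImmersion i.hom) (hifp : AlgSp.LocP @LocallyOfFinitePresentation i.hom)
    (hj : AlgSp.RepWith @IsOpenImmersion j.hom)
    (hU : Set.range (AlgSp.Points.map j.hom) = (Set.range (AlgSp.Points.map i.hom))ᶜ)
    {T : Over S} [IsAffine T.left] (g : (yon S).obj T ⟶ X.obj) :
    CompactSpace ↥(hj.rep.pullback g).left ∧ ∀ v : ↥T.left, v ∈ Set.range (hj.rep.snd g).left ↔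
      Points.ofPt g v ∉ Set.range (AlgSp.Points.map i.hom) := by
  have : IsOpenImmersion (hj.rep.snd g).left := hj.property_snd g
  have : IsClosedImmersion (hi.rep.snd g).left := hi.property_snd g
  have : LocallyOfFinitePresentation (hi.rep.snd g).left :=
    (repWith_of_locP X.property hi.rep hifp).2 g _ _ (hi.rep.isPullback g)
  have hrange : Set.range (hj.rep.snd g).left = (Set.range (hi.rep.snd g).left)ᶜ := Set.ext fun v => by
    rw [Set.mem_compl_iff, S10705.mem_range_snd_iff hj.rep, S10705.mem_range_snd_iff hi.rep, hU]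
    rfl
  refine ⟨?_, fun v => by rw [hrange, Set.mem_compl_iff, S10705.mem_range_snd_iff hi.rep]⟩
  have h1 : IsCompact (Set.range (hj.rep.snd g).left) := by
    rw [hrange, ← Set.image_univ]
    exact IsoNatLib.isCompact_of_isConstructible
      (((hi.rep.snd g).left.isConstructible_image Topology.IsConstructible.univ).compl)
  exact ⟨(hj.rep.snd g).left.isOpenEmbedding.isEmbedding.isCompact_iff.2 (by rwa [Set.image_univ])⟩

/-- Let `f : Y → X` be a quasi-compact quasi-separated morphism of algebraic spaces over `S`, `i : Z →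
X` a closed immersion of finite presentation such that `f⁻¹Z → Z` is an isomorphism and `f` is flat
at every point of `|f⁻¹Z|`, and let `U ⊂ X` be the open subspace complementary to `Z`. Then there is
an fpqc covering `{X_k → X}` refining the family `{U → X, Y → X}`: every `X_k → X` factors through
`U` or through `Y`. -/
theorem result {S : Scheme.{u}} {X Y Z FZ U : AlgSp.Space S} (f : Y ⟶ X)
    (hqc : AlgSp.IsQuasiCompactMor f.hom) (hqs : AlgSp.IsQuasiSeparatedMor f.hom) (i : Z ⟶ X)
    (hi : AlgSp.RepWith @IsClosedImmersion i.hom) (hifp : AlgSp.LocP @LocallyOfFinitePresentation i.hom)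
    (iY : FZ ⟶ Y) (fZ : FZ ⟶ Z) (hFZ : IsPullback iY.hom fZ.hom f.hom i.hom) [IsIso fZ]
    (hflat : ∀ y ∈ Set.range (AlgSp.Points.map iY.hom), AlgSp.IsFlatAtMor f.hom y) (j : U ⟶ X)
    (hj : AlgSp.RepWith @IsOpenImmersion j.hom)
    (hU : Set.range (AlgSp.Points.map j.hom) = (Set.range (AlgSp.Points.map i.hom))ᶜ) :
    ∃ (ι : Type u) (W : ι → AlgSp.Space S) (w : ∀ k, W k ⟶ X),
      AlgSp.IsFpqcCover (fun k => (W k).obj) (fun k => (w k).hom) ∧
        ∀ k, (∃ l : W k ⟶ U, l ≫ j = w k) ∨ (∃ l : W k ⟶ Y, l ≫ f = w k) := by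
  have : IsIso fZ.hom := inferInstanceAs (IsIso ((ObjectProperty.ι _).map fZ))
  obtain ⟨U₀, p, hp, hps⟩ := X.property.atlas
  -- one piece for each affine open of an atlas
  have piece : ∀ K : U₀.left.affineOpens, ∃ (WB : Over S) (c : WB ⟶ Over.mk (K.1.ι ≫ U₀.hom))
      (l : (yon S).obj WB ⟶ Y.obj), IsAffine WB.left ∧ Flat c.left ∧
      l ≫ f.hom = (yon S).map c ≫ (yon S).map (CategoryTheory.Over.homMk K.1.ι rfl : Over.mk (K.1.ι ≫ U₀.hom) ⟶ U₀) ≫ p ∧
      ∀ t : ↥(Over.mk (K.1.ι ≫ U₀.hom)).left, Points.ofPt ((yon S).map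
        (CategoryTheory.Over.homMk K.1.ι rfl : Over.mk (K.1.ι ≫ U₀.hom) ⟶ U₀) ≫ p) t ∈ Set.range (Points.map i.hom) →
        t ∈ Set.range c.left := by
    intro K
    let T : Over S := Over.mk (K.1.ι ≫ U₀.hom)
    have : IsAffine T.left := K.2
    let ι : T ⟶ U₀ := CategoryTheory.Over.homMk K.1.ι rfl
    let g : (yon S).obj T ⟶ X.obj := (yon S).map ι ≫ p
    have hg : RepWith @Etale g :=
      repWith_comp ((repWith_yon_map_iff _ _).2 (inferInstanceAs (Etale K.1.ι))) hp
    obtain ⟨V, a, hV, ha, has⟩ := AlgSpDec.exists_affine_atlas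
      (hqc (IsAlgSpace.yon_obj T) (isQuasiCompactSp_yon T) g _ _ (IsPullback.of_hasPullback f.hom g))
    have : IsAffine V.left := hV
    let q : V ⟶ T := (yon S).preimage (a ≫ pullback.snd f.hom g)
    have hq : (yon S).map q = a ≫ pullback.snd f.hom g := (yon S).map_preimage _
    have hw : (a ≫ pullback.fst f.hom g) ≫ f.hom = (yon S).map q ≫ g := by
      rw [hq, Category.assoc, Category.assoc, pullback.condition]
    have hKc : IsClosed (q.left ⁻¹' Set.range (hi.rep.snd g).left) := by
      have : IsClosedImmersion (hi.rep.snd g).left := hi.property_snd g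
      exact (hi.rep.snd g).left.isClosedEmbedding.isClosed_range.preimage q.left.continuous
    obtain ⟨W, m, hW, hWf, hWK⟩ := exists_flat_part q.left _ hKc fun v hv => by
      rw [Set.mem_preimage, S10705.mem_range_snd_iff hi.rep, ← ofPt_comp, ← hw, ← Points.map_ofPt] at hv
      obtain ⟨z, hz⟩ := hv
      obtain ⟨y, hy, -⟩ := exists_point_of_isPullback hFZ (x := Points.ofPt (a ≫ pullback.fst f.hom g) v) hz.symm
      exact hflat _ ⟨y, hy⟩ (a ≫ pullback.fst f.hom g) g q v (repWith_comp ha (repWith_fst f.hom hg)) hg hw rfl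
    let WB : Over S := Over.mk (m ≫ V.hom)
    let m' : WB ⟶ V := CategoryTheory.Over.homMk m rfl
    refine ⟨WB, m' ≫ q, (yon S).map m' ≫ a ≫ pullback.fst f.hom g, hW, hWf, ?_, fun t ht => ?_⟩
    · rw [Category.assoc, hw, Functor.map_comp, Category.assoc]
    · obtain ⟨z, hz⟩ := ht
      obtain ⟨y, hy⟩ := (⟨Points.map iY.hom (Points.map (inv fZ.hom) z), by
        rw [← Points.map_comp, hFZ.w, Points.map_comp, ← Points.map_comp (inv fZ.hom), IsIso.inv_hom_id,
          Points.map_id, hz]⟩ : ∃ y : Points Y.obj, Points.map f.hom y = Points.ofPt g t)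
      rw [Points.ofPt_eq_map_ofScheme] at hy
      obtain ⟨x, -, hx⟩ := exists_point_of_isPullback (IsPullback.of_hasPullback f.hom g) hy
      obtain ⟨v, rfl⟩ := surjective_ofPt has x
      rw [Points.map_ofPt, ← hq] at hx
      have hv : q.left v = t := ((Points.toScheme_ofPt q v).symm.trans (congrArg (Points.toScheme T) hx)).trans
        (Points.toScheme_ofScheme T t)
      obtain ⟨w, hw'⟩ := hWK (show v ∈ q.left ⁻¹' Set.range (hi.rep.snd g).left by
        rw [Set.mem_preimage, S10705.mem_range_snd_iff hi.rep, hv]; exact ⟨z, hz⟩)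
      exact ⟨w, (congrArg q.left hw').trans hv⟩
  choose WB c l hWB hc hl hcov using piece
  let ι₀ : ∀ K : U₀.left.affineOpens, Over.mk (K.1.ι ≫ U₀.hom) ⟶ U₀ := fun K => CategoryTheory.Over.homMk K.1.ι rfl
  have hgK : ∀ K, RepWith @Etale ((yon S).map (ι₀ K) ≫ p) := fun K =>
    repWith_comp ((repWith_yon_map_iff _ _).2 (inferInstanceAs (Etale K.1.ι))) hp
  let F : Option U₀.left.affineOpens → AlgSp.Space S := fun k => k.elim U fun K => (ofScheme S).obj (WB K)
  let w : ∀ k, F k ⟶ X := fun k => match k with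
    | none => j
    | some K => ObjectProperty.homMk ((yon S).map (c K) ≫ (yon S).map (ι₀ K) ≫ p)
  refine ⟨Option U₀.left.affineOpens, F, w, ⟨?_, ?_⟩, ?_⟩
  · rintro (_ | K)
    · exact locP_mono (P := @Etale) (Q := @Flat) (fun _ _ g (_ : Etale g) => inferInstanceAs (Flat g))
        (locP_of_repWith (repWith_mono (fun _ _ g (_ : IsOpenImmersion g) => (inferInstance : Etale g)) _ hj))
    · exact locP_comp (IsAlgSpace.yon_obj _) (IsAlgSpace.yon_obj _) X.property
        (locP_of_repWith ((repWith_yon_map_iff _ _).2 (hc K)))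
        (locP_mono (P := @Etale) (Q := @Flat) (fun _ _ g (_ : Etale g) => inferInstanceAs (Flat g))
          (locP_of_repWith (hgK K)))
  · intro Z₀ hZ₀ h
    have : IsAffine Z₀.left := hZ₀
    obtain ⟨hcU, hmU⟩ := compactSpace_open_piece hi hifp hj hU h
    -- the pieces over the atlas
    let TK := fun K => (hgK K).rep.pullback h
    obtain ⟨m, P, idx, k, hP, hk, hPs⟩ := exists_affine_refinement TK (fun K => (hgK K).rep.snd h)
      (fun K => by
        have : Etale ((hgK K).rep.snd h).left := (hgK K).property_snd h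
        exact ((hgK K).rep.snd h).left.isOpenMap)
      (fun z => by
        obtain ⟨u, hu⟩ := surjective_ofPt hps (Points.ofPt h z)
        obtain ⟨K, hK, huK, -⟩ := exists_isAffineOpen_mem_and_subset (U := (⊤ : U₀.left.Opens)) (x := u) trivial
        refine ⟨⟨K, hK⟩, (S10705.mem_range_snd_iff (hgK ⟨K, hK⟩).rep h z).2 ⟨Points.ofScheme _ ⟨u, huK⟩, ?_⟩⟩
        rw [← Points.ofPt_eq_map_ofScheme, ofPt_comp]
        exact hu)
    let kT : ∀ n, P n ⟶ Over.mk ((idx n).1.ι ≫ U₀.hom) := fun n => k n ≫ (hgK (idx n)).rep.fst' h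
    let PB : Fin m → Over S := fun n => Over.mk (pullback.fst (kT n).left (c (idx n)).left ≫ (P n).hom)
    let πP : ∀ n, PB n ⟶ P n := fun n => CategoryTheory.Over.homMk (pullback.fst (kT n).left (c (idx n)).left) rfl
    let πB : ∀ n, PB n ⟶ WB (idx n) := fun n =>
      CategoryTheory.Over.homMk (pullback.snd (kT n).left (c (idx n)).left) (by
        show pullback.snd _ _ ≫ (WB (idx n)).hom = pullback.fst _ _ ≫ (P n).hom
        rw [← Over.w (c (idx n)), ← Over.w (kT n), pullback.condition_assoc])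
    have hπ : ∀ n, πP n ≫ kT n = πB n ≫ c (idx n) := fun n => Over.OverMorphism.ext pullback.condition
    let 𝒰 := (hj.rep.pullback h).left.affineCover.finiteSubcover
    let PU : 𝒰.I₀ → Over S := fun a => Over.mk (𝒰.f a ≫ (hj.rep.pullback h).hom)
    let πU : ∀ a, PU a ⟶ hj.rep.pullback h := fun a => CategoryTheory.Over.homMk (𝒰.f a) rfl
    let e := (Fintype.equivFin (Fin m ⊕ 𝒰.I₀)).symm
    let W : Fin m ⊕ 𝒰.I₀ → Over S := Sum.elim PB PU
    let d : ∀ s, W s ⟶ Z₀ := fun s => match s with
      | .inl n => πP n ≫ k n ≫ (hgK (idx n)).rep.snd h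
      | .inr a => πU a ≫ hj.rep.snd h
    have hWaff : ∀ r, IsAffine (W r).left := by
      rintro (n' | a)
      · have : IsAffine (P n').left := hP n'
        have : IsAffine (WB (idx n')).left := hWB _
        have : IsAffine (Over.mk ((idx n').1.ι ≫ U₀.hom)).left := (idx n').2
        exact inferInstanceAs (IsAffine (pullback (kT n').left (c (idx n')).left))
      · exact inferInstanceAs (IsAffine (𝒰.X a))
    have hWflat : ∀ r, Flat (d r).left := by
      rintro (n' | a)
      · have : Flat (c (idx n')).left := hc _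
        have : IsOpenImmersion (k n').left := hk n'
        have : Etale ((hgK (idx n')).rep.snd h).left := (hgK (idx n')).property_snd h
        exact inferInstanceAs (Flat (pullback.fst (kT n').left (c (idx n')).left ≫ (k n').left ≫
          ((hgK (idx n')).rep.snd h).left))
      · have : IsOpenImmersion (hj.rep.snd h).left := hj.property_snd h
        exact inferInstanceAs (Flat (𝒰.f a ≫ (hj.rep.snd h).left))
    have hlift : ∀ r, ∃ (i : Option U₀.left.affineOpens) (l : (yon S).obj (W r) ⟶ (F i).obj),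
        l ≫ (w i).hom = (yon S).map (d r) ≫ h := by
      rintro (n' | a)
      · refine ⟨some (idx n'), (yon S).map (πB n'), ?_⟩
        show (yon S).map (πB n') ≫ (yon S).map (c (idx n')) ≫ (yon S).map (ι₀ (idx n')) ≫ p = _
        rw [← Category.assoc, ← Functor.map_comp, ← hπ, Functor.map_comp, Functor.map_comp, Category.assoc,
          Category.assoc, ((hgK (idx n')).rep.isPullback' h).w]
        simp [d]
      · refine ⟨none, (yon S).map (πU a) ≫ hj.rep.fst h, ?_⟩
        show _ ≫ j.hom = _
        rw [Category.assoc, hj.rep.w h]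
        simp [d]
    refine ⟨_, fun n => W (e n), fun n => d (e n), fun n => hWaff (e n), fun n => hWflat (e n), fun z => ?_,
      fun n => hlift (e n)⟩
    · suffices ∃ s, z ∈ Set.range (d s).left by
        obtain ⟨s, hs⟩ := this
        obtain ⟨n, rfl⟩ := e.surjective s
        exact ⟨n, hs⟩
      by_cases hz : Points.ofPt h z ∈ Set.range (Points.map i.hom)
      · obtain ⟨n, x, hx⟩ := hPs z
        have hx' : Points.ofPt ((yon S).map (ι₀ (idx n)) ≫ p) ((kT n).left x) ∈ Set.range (Points.map i.hom) := by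
          rw [← ofPt_comp, Functor.map_comp, Category.assoc, ((hgK (idx n)).rep.isPullback' h).w, ← Category.assoc,
            ← Functor.map_comp, ofPt_comp, hx]
          exact hz
        obtain ⟨b, hb⟩ := hcov (idx n) _ hx'
        obtain ⟨y, hy₁, -⟩ := Scheme.Pullback.exists_preimage_pullback x b hb.symm
        exact ⟨.inl n, y, (congrArg (k n ≫ (hgK (idx n)).rep.snd h).left hy₁).trans hx⟩
      · obtain ⟨x, hx⟩ := (hmU z).2 hz
        obtain ⟨y, hy⟩ := 𝒰.covers x
        exact ⟨.inr (𝒰.idx x), y, (congrArg (hj.rep.snd h).left hy).trans hx⟩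
  · rintro (_ | K)
    · exact Or.inl ⟨𝟙 U, Category.id_comp j⟩
    · exact Or.inr ⟨ObjectProperty.homMk (l K), InducedCategory.Hom.ext (hl K)⟩

end Groth.Agent.S10704
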