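import Groth.Statements.S10706
import Groth.Agent.EtGlue7.Alg
import Groth.Agent.S10705
import Groth.Agent.AlgSpDec.GlueDesc
-- import your own Groth.Agent.* helpers here

set_option autoImplicit false
universe u
open CategoryTheory CategoryTheory.Limits AlgebraicGeometry TensorProduct
open AlgSp

namespace Groth.Agent.S10706

set_option backward.isDefEq.respectTransparency false
set_option backward.isDefEq.respectTransparency.types false

open Groth.Agent.AlgSpLib Groth.Agent.AlgSpPts Groth.Agent.AlgSpDec TensorProduct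

attribute [local instance] Algebra.TensorProduct.rightAlgebra

theorem isGlueable_of_flat {R R' : Type u} [CommRing R] [CommRing R'] [Algebra R R'] {f : R}
    (hp : EtGlue.IsGlueingPair R R' f) (B C : Type u) [CommRing B] [Algebra R B] [CommRing C] [Algebra R C]
    [Algebra B C] [IsScalarTower R B C] [Module.Flat B C] (hB : EtGlue.IsGlueable R R' f B) :
    EtGlue.IsGlueable R R' f C := by
  refine ((EtGlue7.isGlueable_iff hp.1 C).2 hp).2 fun c ⟨n, hn⟩ hc => ?_
  let μ : B →ₗ[B] B := LinearMap.mulLeft B (algebraMap R B f ^ n)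
  let φ : LinearMap.ker μ →ₗ[B] R' ⊗[R] B := (Algebra.linearMap B (R' ⊗[R] B)).comp (LinearMap.ker μ).subtype
  have hφ : Function.Injective φ := by
    rw [injective_iff_map_eq_zero]
    intro b hb
    refine Subtype.ext (((EtGlue7.torsion_of_isGlueable B hB).1) b.1 ⟨n, ?_⟩ hb)
    rw [Algebra.smul_def, map_pow]
    exact b.2
  have hex := Module.Flat.lTensor_exact C (LinearMap.exact_subtype_ker_map μ)
  have hc0 : μ.lTensor C (c ⊗ₜ[B] 1) = 0 := by
    rw [LinearMap.lTensor_tmul, show μ 1 = (algebraMap R B f ^ n) • (1 : B) from rfl, ← TensorProduct.smul_tmul,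
      ← map_pow, algebraMap_smul, hn, zero_tmul]
  obtain ⟨t, ht⟩ := (hex (c ⊗ₜ[B] 1)).1 hc0
  have h0 : φ.lTensor C t = 0 := by
    show (LinearMap.lTensor C (_ ∘ₗ _)) t = 0
    rw [LinearMap.lTensor_comp_apply, ht, LinearMap.lTensor_tmul, Algebra.linearMap_apply, map_one]
    apply (TensorProduct.comm B C (R' ⊗[R] B)).injective
    apply (EtGlue7.tensorA R R' B C).injective
    rw [TensorProduct.comm_tmul, map_zero, map_zero, Algebra.TensorProduct.one_def, EtGlue7.tensorA_tmul, one_smul, hc]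
  have ht0 : t = 0 := Module.Flat.lTensor_preserves_injective_linearMap φ hφ (h0.trans (map_zero _).symm)
  rw [ht0, map_zero] at ht
  have := congrArg (TensorProduct.rid B C) ht
  simpa using this.symm

theorem eq_zero_of_flat_points {A : Type u} [CommRing A] (m : A)
    (h : ∀ p : PrimeSpectrum A, ∃ (B : Type u) (_ : CommRing B) (_ : Algebra A B) (_ : Module.Flat A B)
      (q : PrimeSpectrum B), PrimeSpectrum.comap (algebraMap A B) q = p ∧ algebraMap A B m = 0) : m = 0 := by
  let μ : A →ₗ[A] A := LinearMap.toSpanSingleton A A m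
  suffices LinearMap.ker μ = ⊤ by
    have h1 : (1 : A) ∈ LinearMap.ker μ := this ▸ Submodule.mem_top
    simpa [μ] using h1
  by_contra hne
  obtain ⟨M, hM, hle⟩ := Ideal.exists_le_maximal (LinearMap.ker μ) hne
  obtain ⟨B, _, _, _, q, hq, hm⟩ := h ⟨M, hM.isPrime⟩
  have hex := Module.Flat.lTensor_exact B (LinearMap.exact_subtype_ker_map μ)
  have h0 : μ.lTensor B ((1 : B) ⊗ₜ[A] 1) = 0 := by
    rw [LinearMap.lTensor_tmul, show μ 1 = m • (1 : A) by simp [μ], ← TensorProduct.smul_tmul, Algebra.smul_def,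
      hm, zero_mul, zero_tmul]
  obtain ⟨t, ht⟩ := (hex _).1 h0
  have key : ∀ t : B ⊗[A] LinearMap.ker μ, TensorProduct.rid A B ((LinearMap.ker μ).subtype.lTensor B t) ∈ q.asIdeal := by
    intro t
    induction t with
    | zero => rw [map_zero, map_zero]; exact q.asIdeal.zero_mem
    | add a b ha hb => rw [map_add, map_add]; exact q.asIdeal.add_mem ha hb
    | tmul b a =>
      rw [LinearMap.lTensor_tmul, TensorProduct.rid_tmul, Algebra.smul_def]
      refine q.asIdeal.mul_mem_right _ ?_
      have : (a : A) ∈ (PrimeSpectrum.comap (algebraMap A B) q).asIdeal := by rw [hq]; exact hle a.2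
      exact this
  have := key t
  rw [ht, TensorProduct.rid_tmul, one_smul] at this
  exact q.isPrime.one_notMem this

/-- Let `(R → R', f)` be a glueing pair and `Y` an algebraic space over `Spec R`. The following are
equivalent: (1) there is an etale covering of `Y` by affine schemes `Spec A_k` with every `A_k`
glueable as an `R`-module; (2) for every affine scheme `Spec A` etale over `Y`, the `R`-module `A`
is glueable. -/
theorem result (R : Type u) [CommRing R] (R' : Type u) [CommRing R'] [Algebra R R']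
    (f : R) (hRR' : EtGlue.IsGlueingPair R R' f) (Y : AlgSp.Space (Spec (CommRingCat.of R))) :
    (∃ (ι : Type u) (A : ι → Type u) (_ : ∀ k, CommRing (A k)) (_ : ∀ k, Algebra R (A k))
        (g : ∀ k, (AlgSp.yon (Spec (CommRingCat.of R))).obj (Over.mk (Spec.map (CommRingCat.ofHom (algebraMap R (A k)))) : Over (Spec (CommRingCat.of R))) ⟶ Y.obj),
        (∀ k, AlgSp.RepWith @Etale (g k)) ∧ (∀ y : AlgSp.Points Y.obj, ∃ k, y ∈ Set.range (AlgSp.Points.map (g k))) ∧
          ∀ k, EtGlue.IsGlueable R R' f (A k)) ↔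
      (∀ (A : Type u) [CommRing A] [Algebra R A]
      (g : (AlgSp.yon (Spec (CommRingCat.of R))).obj (Over.mk (Spec.map (CommRingCat.ofHom (algebraMap R A))) : Over (Spec (CommRingCat.of R))) ⟶ Y.obj),
      AlgSp.RepWith @Etale g → EtGlue.IsGlueable R R' f A) := by
  constructor
  · rintro ⟨ι, A₀, _, _, g₀, hg₀, hsurj, hgl⟩ A _ _ g hg
    refine ((EtGlue7.isGlueable_iff hRR'.1 A).2 hRR').2 fun m ⟨n, hn⟩ hm => eq_zero_of_flat_points m fun p => ?_
    let T : Over (Spec (CommRingCat.of R)) := Over.mk (Spec.map (CommRingCat.ofHom (algebraMap R A)))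
    obtain ⟨k, hk⟩ := hsurj (AlgSp.Points.ofPt g (p : ↥T.left))
    obtain ⟨v, hv⟩ := (Groth.Agent.S10705.mem_range_snd_iff (hg₀ k).rep g (p : ↥T.left)).2 hk
    let P := (hg₀ k).rep.pullback g
    let r : P ⟶ T := (hg₀ k).rep.snd g
    let l := (yon _).preimage ((hg₀ k).rep.fst g)
    have : Etale r.left := (hg₀ k).property_snd g
    have : Etale l.left := hg.2 (g₀ k) ((yon _).map r) l (by rw [Functor.map_preimage]; exact ((hg₀ k).rep.isPullback g).flip)
    obtain ⟨K, hK, hvK, -⟩ := exists_isAffineOpen_mem_and_subset (U := (⊤ : P.left.Opens)) (x := v) trivial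
    have : IsAffine (K : Scheme.{u}) := hK
    obtain ⟨α, hα⟩ := Spec.map_surjective ((K : Scheme.{u}).isoSpec.inv ≫ K.ι ≫ r.left)
    obtain ⟨β, hβ⟩ := Spec.map_surjective ((K : Scheme.{u}).isoSpec.inv ≫ K.ι ≫ l.left)
    let _ : Algebra A Γ(K, ⊤) := α.hom.toAlgebra
    let _ : Algebra (A₀ k) Γ(K, ⊤) := β.hom.toAlgebra
    let _ : Algebra R Γ(K, ⊤) := (α.hom.comp (algebraMap R A)).toAlgebra
    have : IsScalarTower R A Γ(K, ⊤) := .of_algebraMap_eq' rfl
    have : IsScalarTower R (A₀ k) Γ(K, ⊤) := by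
      refine .of_algebraMap_eq' (?_ : α.hom.comp (algebraMap R A) = β.hom.comp (algebraMap R (A₀ k)))
      have : CommRingCat.ofHom (algebraMap R A) ≫ α = CommRingCat.ofHom (algebraMap R (A₀ k)) ≫ β := by
        apply Spec.map_injective
        rw [Spec.map_comp, Spec.map_comp, hα, hβ, Category.assoc, Category.assoc, Category.assoc, Category.assoc]
        congr 2
        exact (Over.w r).trans (Over.w l).symm
      exact congrArg CommRingCat.Hom.hom this
    have hαf : Module.Flat A Γ(K, ⊤) := by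
      have : Flat (Spec.map α) := by rw [hα]; infer_instance
      exact (HasRingHomProperty.Spec_iff (P := @Flat)).1 this
    have hβf : Module.Flat (A₀ k) Γ(K, ⊤) := by
      have : Flat (Spec.map β) := by rw [hβ]; infer_instance
      exact (HasRingHomProperty.Spec_iff (P := @Flat)).1 this
    refine ⟨Γ(K, ⊤), inferInstance, inferInstance, hαf, (K : Scheme.{u}).isoSpec.hom ⟨v, hvK⟩, ?_, ?_⟩
    · show Spec.map α ((K : Scheme.{u}).isoSpec.hom ⟨v, hvK⟩) = p
      rw [hα, ← Scheme.Hom.comp_apply, Iso.hom_inv_id_assoc]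
      exact hv
    · refine (EtGlue7.torsion_of_isGlueable _ (isGlueable_of_flat hRR' (A₀ k) Γ(K, ⊤) (hgl k))).1 _ ⟨n, ?_⟩ ?_
      · have := congrArg (IsScalarTower.toAlgHom R A Γ(K, ⊤)) hn
        rwa [map_smul, map_zero] at this
      · have := congrArg ((IsScalarTower.toAlgHom R A Γ(K, ⊤)).toLinearMap.lTensor R') hm
        rwa [map_zero, LinearMap.lTensor_tmul] at this
  · intro h
    obtain ⟨U₀, q₀, hq₀, hq₀s⟩ := Y.property.atlas
    have hch : ∀ j : U₀.left.affineCover.I₀, ∃ (A : Type u) (_ : CommRing A) (_ : Algebra R A)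
        (e : (Over.mk (Spec.map (CommRingCat.ofHom (algebraMap R A))) : Over (Spec (CommRingCat.of R))) ⟶ U₀),
        IsOpenImmersion e.left ∧ Set.range (U₀.left.affineCover.f j) ⊆ Set.range e.left := by
      intro j
      obtain ⟨γ, hγ⟩ := Spec.map_surjective ((U₀.left.affineCover.X j).isoSpec.inv ≫ U₀.left.affineCover.f j ≫ U₀.hom)
      let _ : Algebra R Γ(U₀.left.affineCover.X j, ⊤) := γ.hom.toAlgebra
      refine ⟨Γ(U₀.left.affineCover.X j, ⊤), inferInstance, γ.hom.toAlgebra, CategoryTheory.Over.homMk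
        ((U₀.left.affineCover.X j).isoSpec.inv ≫ U₀.left.affineCover.f j) ((Category.assoc _ _ _).trans hγ.symm), ?_, ?_⟩
      · exact inferInstanceAs (IsOpenImmersion ((U₀.left.affineCover.X j).isoSpec.inv ≫ U₀.left.affineCover.f j))
      · rintro _ ⟨w, rfl⟩
        refine ⟨(U₀.left.affineCover.X j).isoSpec.hom w, ?_⟩
        show ((U₀.left.affineCover.X j).isoSpec.inv ≫ U₀.left.affineCover.f j) _ = _
        rw [← Scheme.Hom.comp_apply, Iso.hom_inv_id_assoc]
    choose A₀ i₁ i₂ e he hr using hch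
    have hg : ∀ j, RepWith @Etale ((yon _).map (e j) ≫ q₀) := fun j =>
      repWith_comp ((repWith_yon_map_iff _ _).2 (have := he j; inferInstanceAs (Etale (e j).left))) hq₀
    refine ⟨_, A₀, i₁, i₂, fun j => (yon _).map (e j) ≫ q₀, hg, fun y => ?_, fun j => h _ _ (hg j)⟩
    obtain ⟨v, hv⟩ := surjective_ofPt hq₀s y
    obtain ⟨j, w, hw⟩ := U₀.left.affineCover.exists_eq v
    obtain ⟨a, ha⟩ := hr j ⟨w, hw⟩
    refine ⟨j, AlgSp.Points.ofScheme _ a, ?_⟩
    rw [← AlgSp.Points.ofPt_eq_map_ofScheme, ofPt_comp, ha, hv]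

end Groth.Agent.S10706
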