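import Groth.Statements.S10707
import Groth.Agent.AlgSpDec.GlueSection
import Groth.Agent.AlgSpDec.Glue
import Groth.Agent.AlgSpPts.Descent
-- import your own Groth.Agent.* helpers here

set_option autoImplicit false
universe u
open CategoryTheory CategoryTheory.Limits AlgebraicGeometry TensorProduct
open AlgSp

namespace Groth.Agent.S10707

set_option backward.isDefEq.respectTransparency false
set_option backward.isDefEq.respectTransparency.types false
open Groth.Agent.AlgSpLib Groth.Agent.AlgSpPts Groth.Agent.AlgSpDec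
attribute [local instance] Algebra.TensorProduct.rightAlgebra

/-- Let `(R → R', f)` be a glueing pair, `X = Spec R`, `U = Spec R_f`, `X' = Spec R'`, and let `Y`, `Z`
be algebraic spaces over `X` glueable for `(R → R', f)`. Two morphisms `a, b : Y → Z` over `X` whose
base changes to `U` agree and whose base changes to `X'` agree are equal. -/
theorem result (R : Type u) [CommRing R] (R' : Type u) [CommRing R'] [Algebra R R']
    (f : R) (hRR' : EtGlue.IsGlueingPair R R' f) {Y Z YU YX' : AlgSp.Space (Spec (CommRingCat.of R))}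
    (hY : (∀ (A : Type u) [CommRing A] [Algebra R A]
      (g : (AlgSp.yon (Spec (CommRingCat.of R))).obj (Over.mk (Spec.map (CommRingCat.ofHom (algebraMap R A))) : Over (Spec (CommRingCat.of R))) ⟶ Y.obj),
      AlgSp.RepWith @Etale g → EtGlue.IsGlueable R R' f A))
    (hZ : (∀ (A : Type u) [CommRing A] [Algebra R A]
      (g : (AlgSp.yon (Spec (CommRingCat.of R))).obj (Over.mk (Spec.map (CommRingCat.ofHom (algebraMap R A))) : Over (Spec (CommRingCat.of R))) ⟶ Z.obj),
      AlgSp.RepWith @Etale g → EtGlue.IsGlueable R R' f A))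
    (a b : Y ⟶ Z) (πZ : Z.obj ⟶ (AlgSp.yon (Spec (CommRingCat.of R))).obj (Over.mk (𝟙 _)))
    (inU : (Over.mk (Spec.map (CommRingCat.ofHom (algebraMap R (Localization.Away f)))) : Over (Spec (CommRingCat.of R))) ⟶ Over.mk (𝟙 _))
    (uY : YU ⟶ Y) (vY : YU.obj ⟶ (AlgSp.yon (Spec (CommRingCat.of R))).obj (Over.mk (Spec.map (CommRingCat.ofHom (algebraMap R (Localization.Away f)))) : Over (Spec (CommRingCat.of R))))
    (hYU : IsPullback uY.hom vY (a.hom ≫ πZ) ((AlgSp.yon (Spec (CommRingCat.of R))).map inU))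
    (inX' : (Over.mk (Spec.map (CommRingCat.ofHom (algebraMap R R'))) : Over (Spec (CommRingCat.of R))) ⟶ Over.mk (𝟙 _))
    (uY' : YX' ⟶ Y) (vY' : YX'.obj ⟶ (AlgSp.yon (Spec (CommRingCat.of R))).obj (Over.mk (Spec.map (CommRingCat.ofHom (algebraMap R R'))) : Over (Spec (CommRingCat.of R))))
    (hYX' : IsPullback uY'.hom vY' (a.hom ≫ πZ) ((AlgSp.yon (Spec (CommRingCat.of R))).map inX'))
    (haU : uY ≫ a = uY ≫ b) (haX' : uY' ≫ a = uY' ≫ b) : a = b := by
  let S : Scheme.{u} := Spec (CommRingCat.of R)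
  -- agreement on the two pieces
  have agree : ∀ (m : (Over.mk (𝟙 S) : Over S) ⟶ Over.mk (𝟙 S)), m = 𝟙 _ := fun m => Over.mkIdTerminal.hom_ext _ _
  have piece : ∀ {W : Over S} {YW : AlgSp.Space S} {i : W ⟶ Over.mk (𝟙 _)} {w : YW ⟶ Y} {v : YW.obj ⟶ (yon S).obj W},
      IsPullback w.hom v (a.hom ≫ πZ) ((yon S).map i) → w ≫ a = w ≫ b →
      ∀ {T : Over S} (g : (yon S).obj T ⟶ Y.obj) (k : T ⟶ W), g ≫ a.hom = g ≫ b.hom := by
    intro W YW i w v h hw T g k
    have hh : g ≫ a.hom ≫ πZ = (yon S).map k ≫ (yon S).map i := (isTerminalYon S).hom_ext _ _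
    rw [← h.lift_fst g ((yon S).map k) hh, Category.assoc, Category.assoc]
    exact congrArg (h.lift g ((yon S).map k) hh ≫ ·) (congrArg InducedCategory.Hom.hom hw)
  obtain ⟨U, q, hq, hqs⟩ := Y.property.atlas
  have : Epi q := epi_of_etale_surjective hq hqs
  refine InducedCategory.Hom.ext ((cancel_epi q).1 ?_)
  -- the diagonal
  obtain ⟨hdr, hdl, -, -, hdm⟩ := diagonal_package Z.property (IsAlgSpace.yon_obj (Over.mk (𝟙 S))) πZ
  have local_eq : ∀ z : ↥U.left, ∃ (W : Over S) (φ : W ⟶ U), Etale φ.left ∧ z ∈ Set.range φ.left ∧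
      (yon S).map φ ≫ q ≫ a.hom = (yon S).map φ ≫ q ≫ b.hom := by
    intro z
    obtain ⟨U₀, hU₀, hz⟩ : ∃ U₀ : U.left.Opens, IsAffineOpen U₀ ∧ z ∈ U₀ := by
      obtain ⟨_, ⟨U₀, hU₀, rfl⟩, hu, -⟩ := U.left.isBasis_affineOpens.exists_subset_of_mem_open
        (Set.mem_univ z) isOpen_univ
      exact ⟨U₀, hU₀, hu⟩
    let A : Type u := Γ(U.left, U₀)
    let ρ : CommRingCat.of R ⟶ Γ(U.left, U₀) := Spec.preimage (hU₀.fromSpec ≫ U.hom)
    let _ : Algebra R A := ρ.hom.toAlgebra
    let TA : Over S := Over.mk (Spec.map (CommRingCat.ofHom (algebraMap R A)))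
    have hι : hU₀.fromSpec ≫ U.hom = TA.hom := (Spec.map_preimage _).symm
    let ι : TA ⟶ U := CategoryTheory.Over.homMk hU₀.fromSpec hι
    let g : (yon S).obj TA ⟶ Y.obj := (yon S).map ι ≫ q
    let st : (yon S).obj TA ⟶ pullback πZ πZ :=
      pullback.lift (g ≫ a.hom) (g ≫ b.hom) ((isTerminalYon S).hom_ext _ _)
    let E : Over S := hdr.pullback st
    let e : E ⟶ TA := hdr.snd st
    have : LocallyOfFiniteType e.left := hdl.property_snd st
    have : Mono e.left := hdm.property_snd st
    have hfac : ∀ {T : Over S} (k : T ⟶ TA), ((yon S).map k ≫ g ≫ a.hom = (yon S).map k ≫ g ≫ b.hom) →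
        ∃ l : T ⟶ E, l ≫ e = k := by
      intro T k hk
      refine ⟨hdr.lift ((yon S).map k ≫ g ≫ a.hom) k ?_, hdr.lift_snd _ _ _⟩
      apply pullback.hom_ext
      · simp [st, S]
      · simp only [Category.assoc, pullback.diagonal_snd, Category.comp_id, st, pullback.lift_snd]; exact hk
    let TU : Over S := Over.mk (Spec.map (CommRingCat.ofHom (algebraMap R (Localization.Away (algebraMap R A f)))))
    let kU : TU ⟶ TA := CategoryTheory.Over.homMk
      (Spec.map (CommRingCat.ofHom (algebraMap A (Localization.Away (algebraMap R A f))))) (by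
        show Spec.map _ ≫ Spec.map _ = Spec.map _
        rw [← Spec.map_comp, ← CommRingCat.ofHom_comp, ← IsScalarTower.algebraMap_eq])
    let kU' : TU ⟶ (Over.mk (Spec.map (CommRingCat.ofHom (algebraMap R (Localization.Away f)))) : Over S) :=
      CategoryTheory.Over.homMk (Spec.map (CommRingCat.ofHom (IsLocalization.Away.lift f
        (g := algebraMap R (Localization.Away (algebraMap R A f))) (by
          rw [IsScalarTower.algebraMap_apply R A (Localization.Away (algebraMap R A f))]
          exact IsLocalization.Away.algebraMap_isUnit _)))) (by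
        show Spec.map _ ≫ Spec.map _ = Spec.map _
        rw [← Spec.map_comp, ← CommRingCat.ofHom_comp, IsLocalization.Away.lift_comp])
    let TX : Over S := Over.mk (Spec.map (CommRingCat.ofHom (algebraMap R (R' ⊗[R] A))))
    let kX : TX ⟶ TA := CategoryTheory.Over.homMk
      (Spec.map (CommRingCat.ofHom (algebraMap A (R' ⊗[R] A)))) (by
        show Spec.map _ ≫ Spec.map _ = Spec.map _
        rw [← Spec.map_comp, ← CommRingCat.ofHom_comp, ← IsScalarTower.algebraMap_eq])
    let kX' : TX ⟶ (Over.mk (Spec.map (CommRingCat.ofHom (algebraMap R R'))) : Over S) :=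
      CategoryTheory.Over.homMk (Spec.map (CommRingCat.ofHom (Algebra.TensorProduct.includeLeftRingHom))) (by
        show Spec.map _ ≫ Spec.map _ = Spec.map _
        rw [← Spec.map_comp, ← CommRingCat.ofHom_comp]
        rfl)
    obtain ⟨lU, hlU⟩ := hfac kU (by simpa using piece hYU haU ((yon S).map kU ≫ g) kU')
    obtain ⟨lX, hlX⟩ := hfac kX (by simpa using piece hYX' haX' ((yon S).map kX ≫ g) kX')
    have hgA : ∀ (C : Type u) [CommRing C] [Algebra R C] [Algebra A C] [IsScalarTower R A C],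
        Etale (Spec.map (CommRingCat.ofHom (algebraMap A C))) → EtGlue.IsGlueable R R' f C := by
      intro C _ _ _ _ hC
      let c : (Over.mk (Spec.map (CommRingCat.ofHom (algebraMap R C))) : Over S) ⟶ TA :=
        CategoryTheory.Over.homMk (Spec.map (CommRingCat.ofHom (algebraMap A C))) (by
          show Spec.map _ ≫ Spec.map _ = Spec.map _
          rw [← Spec.map_comp, ← CommRingCat.ofHom_comp, ← IsScalarTower.algebraMap_eq])
      refine hY C ((yon S).map c ≫ (yon S).map ι ≫ q) ?_
      exact MorphismProperty.comp_mem _ _ _ ((repWith_yon_map_iff _ _).2 hC)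
        (MorphismProperty.comp_mem _ _ _ ((repWith_yon_map_iff _ _).2 (inferInstanceAs (Etale hU₀.fromSpec))) hq)
    obtain ⟨z₀, hz₀⟩ : z ∈ Set.range hU₀.fromSpec := by rw [hU₀.range_fromSpec]; exact hz
    obtain ⟨W, u, l, hu, hz', hl⟩ := exists_etale_lift_of_glueable hRR'.1 A hgA e.left lU.left
      (congrArg Over.Hom.left hlU) lX.left (congrArg Over.Hom.left hlX) z₀
    let W' : Over S := Over.mk (u ≫ TA.hom)
    let φ : W' ⟶ TA := CategoryTheory.Over.homMk u rfl
    let l' : W' ⟶ E := CategoryTheory.Over.homMk l (by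
      show l ≫ E.hom = u ≫ TA.hom
      rw [← hl, Category.assoc, Over.w e])
    have hl' : l' ≫ e = φ := Over.OverMorphism.ext hl
    refine ⟨W', φ ≫ ι, inferInstanceAs (Etale (u ≫ hU₀.fromSpec)), ?_, ?_⟩
    · obtain ⟨w, hw⟩ := hz'
      exact ⟨w, by rw [← hz₀, ← hw]; rfl⟩
    · have h1 := hdr.w st
      have h2 : (yon S).map l' ≫ hdr.fst st ≫ pullback.diagonal πZ = (yon S).map φ ≫ st := by
        rw [h1, ← Category.assoc, ← Functor.map_comp, hl']
      have ha' := congrArg (· ≫ pullback.fst πZ πZ) h2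
      have hb' := congrArg (· ≫ pullback.snd πZ πZ) h2
      simp only [Category.assoc, pullback.diagonal_fst, pullback.diagonal_snd, Category.comp_id, st,
        pullback.lift_fst, pullback.lift_snd, g] at ha' hb'
      simp only [Functor.map_comp, Category.assoc]
      exact ha'.symm.trans hb'
  choose W φ hφe hφz hφ using local_eq
  let ψ : sigmaOver W ⟶ U := CategoryTheory.Over.homMk (Sigma.desc fun z => (φ z).left) (by
    apply Sigma.hom_ext
    intro z
    show Sigma.ι _ z ≫ Sigma.desc _ ≫ U.hom = Sigma.ι _ z ≫ Sigma.desc _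
    rw [Sigma.ι_desc_assoc, Sigma.ι_desc, Over.w (φ z)])
  have hψι : ∀ z, sigmaι W z ≫ ψ = φ z := fun z => Over.OverMorphism.ext (Sigma.ι_desc _ _)
  have : Etale ψ.left := IsZariskiLocalAtSource.sigmaDesc fun z => hφe z
  have : Surjective ψ.left := ⟨fun z => by
    obtain ⟨w, hw⟩ := hφz z
    exact ⟨(sigmaι W z).left w, by rw [← Scheme.Hom.comp_apply, ← Over.comp_left, hψι, hw]⟩⟩
  refine hom_ext_of_fppf ψ (fppf_of_etale ψ.left) _ _ (hom_ext_sigma W fun z => ?_)
  rw [← Category.assoc, ← Category.assoc (g := (yon S).map ψ) , ← Functor.map_comp, hψι]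
  exact hφ z

end Groth.Agent.S10707
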