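import Groth.Statements.S1071
import Groth.Agent.OmegaPn.Coh
import Mathlib.Algebra.Homology.Embedding.ExtendHomology
import Mathlib.CategoryTheory.Abelian.Exact

set_option autoImplicit false
set_option backward.isDefEq.respectTransparency false
set_option backward.isDefEq.respectTransparency.types false
set_option maxHeartbeats 1000000
universe u
open CategoryTheory CategoryTheory.Limits AlgebraicGeometry
open Perf

namespace Groth.Agent.S1071

open Groth.Agent.OmegaPn in
theorem main (n : ℕ) (A : Type u) [CommRing A] (a : ℤ) :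
    ∃ C : CochainComplex (CohB1.ProjSpace n A).Modules ℤ, (∀ i : ℤ, C.ExactAt i) ∧
      (∀ i : ℕ, i ≤ n + 1 → Nonempty (C.X (i : ℤ) ≅ ∐ fun _ : Fin (Nat.choose (n + 1) i) => Twist.twistProjSpace n A (a + i))) ∧
      (∀ i : ℤ, i < 0 ∨ (n : ℤ) + 1 < i → IsZero (C.X i)) := by
  classical
  let d : ℤ := a + n + 1
  let F := Tw n A d
  have hex : PreservesFiniteLimits F ∧ PreservesFiniteColimits F :=
    ((Functor.exact_tfae F).out 0 3).1 fun S hS => shortExact_Tw n A d hS
  haveI := hex.1
  haveI := hex.2
  haveI : F.PreservesHomology := inferInstance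
  let K : ChainComplex (CohB1.ProjSpace n A).Modules ℕ := ChainComplex.of (W n A) (δS n A) (δS_comp n A)
  let e := ComplexShape.embeddingUpIntLE ((n : ℤ) + 1)
  have hK : ∀ p, K.ExactAt p := by
    intro p
    rcases p with _ | p
    · rw [HomologicalComplex.exactAt_iff' K 1 0 0 (by simp) (by simp), ShortComplex.exact_iff_epi _ (K.shape 0 0 (by simp))]
      show Epi (K.d 1 0)
      rw [show K.d 1 0 = δS n A 0 from ChainComplex.of_d _ _ 0]
      exact epi_zq n A 0
    · rw [HomologicalComplex.exactAt_iff' K (p + 2) (p + 1) p (by simp) (by simp)]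
      refine ShortComplex.exact_of_iso ?_ (S₁ := ShortComplex.mk _ _ (δS_comp n A p)) ?_
      · exact ShortComplex.isoMk (Iso.refl _) (Iso.refl _) (Iso.refl _) (by simp [K, ChainComplex.of.d]) (by simp [K, ChainComplex.of.d])
      · rw [ShortComplex.exact_iff_epi_kernel_lift]
        exact epi_zq n A (p + 1)
  let K' := (F.mapHomologicalComplex (ComplexShape.down ℕ)).obj K
  have hX : ∀ p, n + 1 < p → IsZero (K'.X p) := fun p hp => by
    haveI := isEmpty_Idx n hp
    refine F.map_isZero ((IsZero.iff_id_eq_zero _).2 (biproduct.hom_ext _ _ fun S => (IsEmpty.false S).elim))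
  refine ⟨K'.extend e, fun i => ?_, fun i hi => ?_, fun i hi => ?_⟩
  · by_cases h : ∃ p, e.f p = i
    · obtain ⟨p, hp⟩ := h
      rw [HomologicalComplex.extend_exactAt_iff K' e hp]
      exact (hK p).map F
    · exact HomologicalComplex.extend_exactAt _ e i (not_exists.1 h)
  · let p := n + 1 - i
    have hp : e.f p = (i : ℤ) := by simp [e, p]; omega
    obtain ⟨eO⟩ := (isTw_Tw n A d).obj_O p
    haveI : Fintype (Idx n p) := Fintype.ofFinite _
    let c : Idx n p ≃ Fin ((n + 1).choose i) := Finite.equivFinOfCardEq (by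
      rw [natCard_Idx]; exact Nat.choose_symm hi)
    haveI : PreservesFiniteBiproducts F := inferInstance
    exact ⟨K'.extendXIso e hp ≪≫ F.mapBiproduct (fun _ : Idx n p => O n A p) ≪≫
      biproduct.whiskerEquiv (g := fun _ : Fin ((n + 1).choose i) => Twist.twistProjSpace n A (a + i)) c
        (fun _ => (eO ≪≫ eqToIso (by congr 1; simp only [d, p]; omega)).symm) ≪≫
      biproduct.isoCoproduct _⟩
  · by_cases h : ∃ p, e.f p = i
    · obtain ⟨p, hp⟩ := h
      refine IsZero.of_iso (hX p ?_) (K'.extendXIso e hp)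
      simp [e] at hp
      omega
    · exact HomologicalComplex.isZero_extend_X _ _ _ (not_exists.1 h)


/-- Let A be a ring, X = P^n_A and a ∈ ℤ. There is a cochain complex of O_X-modules, exact in every
degree, whose term in degree i is isomorphic to the direct sum of (n+1 choose i) copies of O_X(a +
i) for 0 ≤ i ≤ n + 1 and is zero in all other degrees. -/
theorem result (n : ℕ) (A : Type u) [CommRing A] (a : ℤ) :
    ∃ C : CochainComplex (CohB1.ProjSpace n A).Modules ℤ, (∀ i : ℤ, C.ExactAt i) ∧
      (∀ i : ℕ, i ≤ n + 1 → Nonempty (C.X (i : ℤ) ≅ ∐ fun _ : Fin (Nat.choose (n + 1) i) => Twist.twistProjSpace n A (a + i))) ∧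
      (∀ i : ℤ, i < 0 ∨ (n : ℤ) + 1 < i → IsZero (C.X i)) := by
  exact main n A a

end Groth.Agent.S1071
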