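import Groth.Statements.S10712
import Groth.Agent.AlgSpDec.PushoutMap
-- import your own Groth.Agent.* helpers here

set_option autoImplicit false
universe u
open CategoryTheory CategoryTheory.Limits AlgebraicGeometry
open AlgSp

namespace Groth.Agent.S10712

set_option backward.isDefEq.respectTransparency false
set_option backward.isDefEq.respectTransparency.types false

/-- Let `t : X → X'` be a thickening and `f : X → Y` an affine morphism of algebraic spaces over `S`,
`Y' = Y ⨿_X X'` their pushout, `V → Y` and `U' → X'` algebraic spaces over `Y` and `X'` with a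
common base change `U` to `X` (so `U = V ×_Y X = U' ×_{X'} X`), `V' = V ⨿_U U'` the pushout in
algebraic spaces and `V' → Y'` the induced morphism. Then `V' → Y'` is etale exactly when both `V →
Y` and `U' → X'` are etale. -/
theorem result {S : Scheme.{u}} {X X' Y Y' U U' V V' : AlgSp.Space S}
    (t : X ⟶ X') (ht : AlgSp.IsThickMor t.hom) (f : X ⟶ Y) (hf : AlgSp.IsAffineMor f.hom) (f' : X' ⟶ Y')
    (t' : Y ⟶ Y') (hY' : IsPushout t f f' t') (v : V ⟶ Y) (u' : U' ⟶ X') (uV : U ⟶ V) (uU' : U ⟶ U')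
    (uX : U ⟶ X) (hUV : IsPullback uV.hom uX.hom v.hom f.hom) (hUU' : IsPullback uU'.hom uX.hom u'.hom t.hom)
    (iV : V ⟶ V') (iU' : U' ⟶ V') (hV' : IsPushout uV uU' iV iU') (v' : V' ⟶ Y')
    (hv'₁ : iV ≫ v' = v ≫ t') (hv'₂ : iU' ≫ v' = u' ≫ f') :
    AlgSp.IsEtaleMor v'.hom ↔ AlgSp.IsEtaleMor v.hom ∧ AlgSp.IsEtaleMor u'.hom := by
  obtain ⟨h₁, h₂⟩ := Groth.Agent.AlgSpDec.isPullback_faces t ht f hf f' t' hY' v u' uV uU' uX hUV hUU' iV iU' hV' v' hv'₁ hv'₂
  have bwd {Pr : MorphismProperty Scheme.{u}} [Groth.Agent.AlgSpLib.IsEtLocal Pr] (h : AlgSp.LocP Pr v'.hom) :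
      AlgSp.LocP Pr v.hom ∧ AlgSp.LocP Pr u'.hom :=
    ⟨Groth.Agent.AlgSpLib.locP_of_isPullback h₁ V'.property Y'.property Y.property h,
      Groth.Agent.AlgSpLib.locP_of_isPullback h₂ V'.property Y'.property X'.property h⟩
  simp only [Groth.Agent.AlgSpLib.isEtaleMor_iff_locP V'.property Y'.property,
    Groth.Agent.AlgSpLib.isEtaleMor_iff_locP V.property Y.property, Groth.Agent.AlgSpLib.isEtaleMor_iff_locP U'.property X'.property]
  exact ⟨bwd, fun h => Groth.Agent.AlgSpDec.locP_glue t ht f hf f' t' hY' v u' uV uU' uX hUV hUU' iV iU' hV' v' hv'₁ hv'₂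
      (Pr := @Etale) (fun hsq D' _ _ hfl hB hA => by
        have := RingHom.etale_algebraMap.mp hB
        have := RingHom.etale_algebraMap.mp hA
        exact RingHom.etale_algebraMap.mpr (RingPO.Milnor.etale_of_pair hsq D')) h.1 h.2⟩

end Groth.Agent.S10712
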