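import Groth.Statements.S10720
import Groth.Agent.AlgSpDec.DiagFlat
import Groth.Agent.AlgSpDec.SepDescent
import Groth.Agent.AlgSpDec.Glue
import Groth.Agent.S10704
import Groth.Agent.S10705
-- import your own Groth.Agent.* helpers here

set_option autoImplicit false
universe u
open CategoryTheory CategoryTheory.Limits AlgebraicGeometry
open AlgSp

namespace Groth.Agent.S10720

set_option backward.isDefEq.respectTransparency false
set_option backward.isDefEq.respectTransparency.types false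
open Groth.Agent.AlgSpLib Groth.Agent.AlgSpPts Groth.Agent.AlgSpDec

/-- Two maps to a space separated over the base agree if they agree after a flat surjective quasi-compact map. -/
theorem eq_of_flat_cover {S : Scheme.{u}} {X₂ X : Sp S} {p : X₂ ⟶ X} (hp : AlgSp.IsSeparatedMor p) {V V' : Over S}
    (π : V' ⟶ V) [Flat π.left] [Surjective π.left] [QuasiCompact π.left] (β β' : (yon S).obj V ⟶ X₂)
    (hβ : β ≫ p = β' ≫ p) (h : (yon S).map π ≫ β = (yon S).map π ≫ β') : β = β' := by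
  have hd : RepWith @IsClosedImmersion (pullback.diagonal p) := hp
  let d := pullback.lift β β' hβ
  let e := hd.rep.snd d
  have : IsClosedImmersion e.left := hd.property_snd d
  obtain ⟨s, hs⟩ := (yon S).map_surjective ((hd.rep.isPullback d).lift ((yon S).map π ≫ β) ((yon S).map π)
    (pullback.hom_ext (by simp [d]) (by simpa [d] using h)))
  have hse : s ≫ e = π := (yon S).map_injective (by rw [Functor.map_comp, hs]; exact IsPullback.lift_snd _ _ _ _)
  have hse' : s.left ≫ e.left = π.left := congrArg Over.Hom.left hse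
  have h1 : IsIso (pullback.fst π.left e.left) := by
    refine ⟨pullback.lift (𝟙 _) s.left (by rw [Category.id_comp, hse']), ?_, pullback.lift_fst _ _ _⟩
    rw [← cancel_mono (pullback.fst π.left e.left)]
    simp
  have h2 : IsIso e.left := MorphismProperty.of_pullback_fst_of_descendsAlong
    (P := MorphismProperty.isomorphisms Scheme.{u}) (Q := @Surjective ⊓ @Flat ⊓ @QuasiCompact)
    (f := π.left) (g := e.left) ⟨⟨‹_›, ‹_›⟩, ‹_›⟩ h1
  have : IsIso ((Over.forget S).map e) := h2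
  have : IsIso e := isIso_of_reflects_iso e (Over.forget S)
  have hw := hd.rep.w d
  have e1 : hd.rep.fst d = (yon S).map e ≫ β := by
    simpa [d] using congrArg (· ≫ pullback.fst p p) hw
  have e2 : hd.rep.fst d = (yon S).map e ≫ β' := by
    simpa [d] using congrArg (· ≫ pullback.snd p p) hw
  exact (cancel_epi ((yon S).map e)).1 (e1.symm.trans e2)

set_option maxHeartbeats 800000 in
theorem eq_of_pair {S : Scheme.{u}} {X Y Z FZ U X₁ X₂ A₁U A₁Y : AlgSp.Space S} (f : Y ⟶ X) (i : Z ⟶ X)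
    (hi : AlgSp.RepWith @IsClosedImmersion i.hom) (hifp : AlgSp.LocP @LocallyOfFinitePresentation i.hom)
    (iY : FZ ⟶ Y) (fZ : FZ ⟶ Z) (hFZ : IsPullback iY.hom fZ.hom f.hom i.hom) [IsIso fZ.hom]
    (hflat : ∀ y ∈ Set.range (AlgSp.Points.map iY.hom), AlgSp.IsFlatAtMor f.hom y) (j : U ⟶ X)
    (hj : AlgSp.RepWith @IsOpenImmersion j.hom)
    (hU : Set.range (AlgSp.Points.map j.hom) = (Set.range (AlgSp.Points.map i.hom))ᶜ)
    (p₁ : X₁ ⟶ X) (p₂ : X₂ ⟶ X) (hp₂ : AlgSp.IsSeparatedMor p₂.hom)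
    (a₁U : A₁U ⟶ X₁) (r₁U : A₁U ⟶ U) (h₁U : IsPullback a₁U.hom r₁U.hom p₁.hom j.hom)
    (a₁Y : A₁Y ⟶ X₁) (r₁Y : A₁Y ⟶ Y) (h₁Y : IsPullback a₁Y.hom r₁Y.hom p₁.hom f.hom)
    (βU : A₁U.obj ⟶ X₂.obj) (βY : A₁Y.obj ⟶ X₂.obj)
    (hYf : ∀ {V : Sp S} (l : V ⟶ A₁Y.obj), (l ≫ βY) ≫ p₂.hom = (l ≫ a₁Y.hom) ≫ p₁.hom)
    (hUY : ∀ {V : Sp S} (l : V ⟶ A₁U.obj) (l' : V ⟶ A₁Y.obj), l ≫ a₁U.hom = l' ≫ a₁Y.hom →
      l ≫ βU = l' ≫ βY) :
    ∀ {V : Over S} (l l' : (yon S).obj V ⟶ A₁Y.obj), l ≫ a₁Y.hom = l' ≫ a₁Y.hom → l ≫ βY = l' ≫ βY := by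
  obtain ⟨B, b, hb, hbs⟩ := X.property.atlas
  obtain ⟨V₀, e₀, h₀, he₀, he₀s, heh₀⟩ := exists_chart_over Y.property X.property f.hom b
  obtain ⟨T, eT, k, heT, heTs, hek⟩ := exists_chart_over X₁.property X.property p₁.hom b
  obtain ⟨t, ht, hts, htp⟩ : ∃ t : (yon S).obj T ⟶ X₁.obj, RepWith @Etale t ∧ RepWith @Surjective t ∧
      t ≫ p₁.hom = (yon S).map k ≫ b :=
    ⟨eT ≫ pullback.fst p₁.hom b, repWith_comp heT (repWith_fst p₁.hom hb),
      repWith_comp heTs (repWith_fst p₁.hom hbs),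
      by rw [Category.assoc, pullback.condition, ← Category.assoc, hek]⟩
  let τ : pullback a₁Y.hom t ⟶ pullback f.hom b := pullback.lift (pullback.fst _ _ ≫ r₁Y.hom)
    (pullback.snd _ _ ≫ (yon S).map k) (by
      rw [Category.assoc, ← h₁Y.w, ← Category.assoc, pullback.condition, Category.assoc, Category.assoc, htp])
  have sqτ : IsPullback τ (pullback.snd a₁Y.hom t) (pullback.snd f.hom b) ((yon S).map k) := by
    refine IsPullback.of_right ?_ (pullback.lift_snd _ _ _) (IsPullback.of_hasPullback f.hom b)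
    rw [pullback.lift_fst, ← htp]
    exact (IsPullback.of_hasPullback a₁Y.hom t).paste_horiz h₁Y.flip
  let VT : Over S := Over.mk (pullback.fst h₀.left k.left ≫ V₀.hom)
  let c' : VT ⟶ V₀ := CategoryTheory.Over.homMk (pullback.fst h₀.left k.left) rfl
  let h' : VT ⟶ T := CategoryTheory.Over.homMk (pullback.snd h₀.left k.left) (by
    show pullback.snd h₀.left k.left ≫ T.hom = pullback.fst h₀.left k.left ≫ V₀.hom
    rw [← Over.w h₀, ← Over.w k, pullback.condition_assoc])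
  have sqV : IsPullback ((yon S).map c') ((yon S).map h') ((yon S).map h₀) ((yon S).map k) :=
    IsPullback.map (yon S) (IsPullback.of_map_of_faithful (Over.forget S)
      (show IsPullback c'.left h'.left h₀.left k.left from IsPullback.of_hasPullback _ _))
  let ad : (yon S).obj VT ⟶ pullback a₁Y.hom t := sqτ.lift ((yon S).map c' ≫ e₀) ((yon S).map h') (by
    rw [Category.assoc, heh₀]; exact sqV.w)
  have hadh : ad ≫ pullback.snd a₁Y.hom t = (yon S).map h' := sqτ.lift_snd _ _ _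
  have sqad : IsPullback ((yon S).map c') ad e₀ τ :=
    IsPullback.of_bot (by rw [hadh, heh₀]; exact sqV) (sqτ.lift_fst _ _ _).symm sqτ
  have had : RepWith @Etale ad := repWith_of_isPullback sqad he₀
  have hads : RepWith @Surjective ad := repWith_of_isPullback sqad he₀s
  let iZ := (hi.rep.snd (t ≫ p₁.hom)).left
  have : IsClosedImmersion iZ := hi.property_snd _
  have : LocallyOfFinitePresentation iZ :=
    (repWith_of_locP X.property hi.rep hifp).2 _ _ _ (hi.rep.isPullback (t ≫ p₁.hom))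
  have hvflat : ∀ v : ↥VT.left, h'.left v ∈ Set.range iZ → (h'.left.stalkMap v).hom.Flat := by
    intro v hv
    rw [S10705.mem_range_snd_iff hi.rep] at hv
    obtain ⟨z, hz⟩ := hv
    have hfy : Points.map f.hom (Points.ofPt (e₀ ≫ pullback.fst f.hom b) (c'.left v)) = Points.map i.hom z := by
      rw [hz, Points.map_ofPt, Category.assoc, pullback.condition, ← Category.assoc, heh₀, htp, ← ofPt_comp,
        ← ofPt_comp, ← Category.assoc, sqV.w, Category.assoc]
    obtain ⟨y, hy, -⟩ := exists_point_of_isPullback hFZ hfy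
    have hfl : (h₀.left.stalkMap (c'.left v)).hom.Flat := hflat _ ⟨y, hy⟩ (e₀ ≫ pullback.fst f.hom b) b h₀ _
      (repWith_comp he₀ (repWith_fst f.hom hb)) hb
      (by rw [Category.assoc, pullback.condition, ← Category.assoc, heh₀]) rfl
    exact Triage.CMBC.flat_stalk_of_isPullback (IsPullback.of_hasPullback h₀.left k.left) v hfl
  -- the universal pair
  let W : Over S := Over.mk (pullback.fst h'.left h'.left ≫ VT.hom)
  let w₁ : W ⟶ VT := CategoryTheory.Over.homMk (pullback.fst h'.left h'.left) rfl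
  let w₂ : W ⟶ VT := CategoryTheory.Over.homMk (pullback.snd h'.left h'.left) (by
    show pullback.snd h'.left h'.left ≫ VT.hom = pullback.fst h'.left h'.left ≫ VT.hom
    rw [← Over.w h', pullback.condition_assoc])
  have hw12 : w₁ ≫ h' = w₂ ≫ h' := Over.OverMorphism.ext pullback.condition
  obtain ⟨ρ, hρ⟩ : ∃ ρ : W ⟶ T, ρ = w₁ ≫ h' := ⟨_, rfl⟩
  let l₁ : (yon S).obj W ⟶ A₁Y.obj := (yon S).map w₁ ≫ ad ≫ pullback.fst _ _
  let l₂ : (yon S).obj W ⟶ A₁Y.obj := (yon S).map w₂ ≫ ad ≫ pullback.fst _ _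
  have hl₁ : l₁ ≫ a₁Y.hom = (yon S).map ρ ≫ t := by
    simp only [l₁, hρ, Category.assoc, pullback.condition, reassoc_of% hadh, Functor.map_comp]
  have hl₂ : l₂ ≫ a₁Y.hom = (yon S).map ρ ≫ t := by
    simp only [l₂, hρ, Category.assoc, pullback.condition, reassoc_of% hadh, hw12, Functor.map_comp]
  let β₁ := l₁ ≫ βY
  let β₂ := l₂ ≫ βY
  have hd : RepWith @IsClosedImmersion (pullback.diagonal p₂.hom) := hp₂
  let dd := pullback.lift β₁ β₂ (by rw [hYf, hYf, hl₁, hl₂])
  let e := hd.rep.snd dd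
  have : IsClosedImmersion e.left := hd.property_snd dd
  have hfac : ∀ {V : Over S} (g : V ⟶ W), (yon S).map g ≫ β₁ = (yon S).map g ≫ β₂ → ∃ l, l ≫ e = g := by
    intro V g hg
    refine ⟨hd.rep.lift ((yon S).map g ≫ β₁) g (pullback.hom_ext (by simp [dd]) ?_), hd.rep.lift_snd _ _ _⟩
    simpa [dd] using hg
  let D := had.rep.pullback ad
  let d₁ : D ⟶ VT := had.rep.fst' ad
  let d₂ : D ⟶ VT := had.rep.snd ad
  have sqD : IsPullback ((yon S).map d₁) ((yon S).map d₂) ad ad := had.rep.isPullback' ad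
  have hd₁e : Etale d₁.left := had.property _ _ _ sqD.flip
  have hdh : d₁ ≫ h' = d₂ ≫ h' := (yon S).map_injective (by
    rw [Functor.map_comp, Functor.map_comp, ← hadh, reassoc_of% sqD.w])
  let δ : D ⟶ W := CategoryTheory.Over.homMk
    (pullback.lift d₁.left d₂.left (congrArg Over.Hom.left hdh)) (by
      show pullback.lift _ _ _ ≫ pullback.fst _ _ ≫ VT.hom = D.hom
      rw [pullback.lift_fst_assoc, Over.w d₁])
  have hδ₁ : δ ≫ w₁ = d₁ := Over.OverMorphism.ext (pullback.lift_fst _ _ _)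
  have hδ₂ : δ ≫ w₂ = d₂ := Over.OverMorphism.ext (pullback.lift_snd _ _ _)
  obtain ⟨kD, hkD⟩ := hfac δ (by
    simp only [β₁, β₂, l₁, l₂, ← Category.assoc, ← Functor.map_comp, hδ₁, hδ₂, sqD.w])
  have hWflat : ∀ w : ↥W.left, ρ.left w ∈ Set.range iZ → (ρ.left.stalkMap w).hom.Flat := by
    intro w hw
    subst hρ
    show ((pullback.fst h'.left h'.left ≫ h'.left).stalkMap w).hom.Flat
    have h1 : (h'.left.stalkMap (pullback.snd h'.left h'.left w)).hom.Flat := hvflat _ (by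
      rw [← Scheme.Hom.comp_apply, ← pullback.condition]; exact hw)
    have h2 : ((pullback.fst h'.left h'.left).stalkMap w).hom.Flat :=
      Triage.CMBC.flat_stalk_of_isPullback (IsPullback.of_hasPullback h'.left h'.left).flip w h1
    rw [Scheme.Hom.stalkMap_comp]
    exact RingHom.Flat.comp (hvflat _ hw) h2
  have hDflat : ∀ z : ↥D.left, ρ.left (δ.left z) ∈ Set.range iZ → ((δ.left ≫ ρ.left).stalkMap z).hom.Flat := by
    intro z hz
    have e0 : δ.left ≫ ρ.left = d₁.left ≫ h'.left := by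
      rw [← Over.comp_left, ← Over.comp_left, show δ ≫ ρ = d₁ ≫ h' by rw [← hδ₁, hρ, Category.assoc]]
    rw [← Scheme.Hom.comp_apply, e0, Scheme.Hom.comp_apply] at hz
    have key : ((d₁.left ≫ h'.left).stalkMap z).hom.Flat := by
      rw [Scheme.Hom.stalkMap_comp]
      exact RingHom.Flat.comp (hvflat _ hz) (Flat.stalkMap d₁.left z)
    rw [e0]
    exact key
  have : IsIso e.left := by
    refine isIso_of_modification ρ.left iZ e.left δ.left kD.left (congrArg Over.Hom.left hkD) ?_ hWflat hDflat ?_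
    · intro V g hg
      let V' : Over S := Over.mk (g ≫ W.hom)
      let g' : V' ⟶ W := CategoryTheory.Over.homMk g rfl
      let φ := (yon S).map (g' ≫ ρ) ≫ t ≫ p₁.hom
      have : IsOpenImmersion (hj.rep.snd φ).left := hj.property_snd φ
      have : Surjective (hj.rep.snd φ).left := ⟨fun v => by
        show v ∈ Set.range (hj.rep.snd φ).left
        rw [S10705.mem_range_snd_iff hj.rep, hU, Set.mem_compl_iff, ofPt_comp,
          ← S10705.mem_range_snd_iff hi.rep]
        exact hg v⟩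
      have : IsIso ((Over.forget S).map (hj.rep.snd φ)) :=
        (isIso_iff_isOpenImmersion_and_surjective (f := (hj.rep.snd φ).left)).2 ⟨inferInstance, inferInstance⟩
      have : IsIso (hj.rep.snd φ) := isIso_of_reflects_iso _ (Over.forget S)
      let lU := h₁U.lift ((yon S).map (g' ≫ ρ) ≫ t) ((yon S).map (inv (hj.rep.snd φ)) ≫ hj.rep.fst φ) (by
        rw [Category.assoc, Category.assoc, hj.rep.w, ← Functor.map_comp_assoc, IsIso.inv_hom_id, (yon S).map_id,
          Category.id_comp])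
      obtain ⟨l, hl⟩ := hfac g' (by
        simp only [β₁, β₂, ← Category.assoc]
        rw [← hUY lU, ← hUY lU]
        · rw [IsPullback.lift_fst, Category.assoc, hl₂, Functor.map_comp, Category.assoc]
        · rw [IsPullback.lift_fst, Category.assoc, hl₁, Functor.map_comp, Category.assoc])
      exact ⟨l.left, congrArg Over.Hom.left hl⟩
    · intro V g z hz
      let V' : Over S := Over.mk (g ≫ W.hom)
      let g' : V' ⟶ W := CategoryTheory.Over.homMk g rfl
      let z' : V' ⟶ hi.rep.pullback (t ≫ p₁.hom) := CategoryTheory.Over.homMk z (by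
        show z ≫ (hi.rep.pullback (t ≫ p₁.hom)).hom = g ≫ W.hom
        rw [← Over.w (hi.rep.snd (t ≫ p₁.hom)), ← Category.assoc, hz, Category.assoc, Over.w ρ])
      have hz' : z' ≫ hi.rep.snd (t ≫ p₁.hom) = g' ≫ ρ := Over.OverMorphism.ext hz
      let zZ := (yon S).map z' ≫ hi.rep.fst (t ≫ p₁.hom)
      have hzi : zZ ≫ i.hom = (yon S).map (g' ≫ ρ) ≫ t ≫ p₁.hom := by
        rw [Category.assoc, hi.rep.w, ← Functor.map_comp_assoc, hz']
      have hy : ∀ (l : (yon S).obj V' ⟶ A₁Y.obj), l ≫ a₁Y.hom = (yon S).map (g' ≫ ρ) ≫ t →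
          l ≫ r₁Y.hom = zZ ≫ inv fZ.hom ≫ iY.hom := by
        intro l hl
        have hm : (l ≫ r₁Y.hom) ≫ f.hom = zZ ≫ i.hom := by
          rw [Category.assoc, ← h₁Y.w, ← Category.assoc, hl, hzi, Category.assoc]
        have e3 : hFZ.lift _ _ hm = zZ ≫ inv fZ.hom := by
          rw [← cancel_mono fZ.hom, IsPullback.lift_snd, Category.assoc, IsIso.inv_hom_id, Category.comp_id]
        rw [← Category.assoc, ← e3, IsPullback.lift_fst]
      have heq : (yon S).map (g' ≫ w₁) ≫ ad = (yon S).map (g' ≫ w₂) ≫ ad := by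
        apply pullback.hom_ext
        · have q₁ : ((yon S).map g' ≫ l₁) ≫ a₁Y.hom = (yon S).map (g' ≫ ρ) ≫ t := by
            rw [Category.assoc, hl₁, Functor.map_comp, Category.assoc]
          have q₂ : ((yon S).map g' ≫ l₂) ≫ a₁Y.hom = (yon S).map (g' ≫ ρ) ≫ t := by
            rw [Category.assoc, hl₂, Functor.map_comp, Category.assoc]
          have := h₁Y.hom_ext (q₁.trans q₂.symm) ((hy _ q₁).trans (hy _ q₂).symm)
          simpa [l₁, l₂, Functor.map_comp] using this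
        · simp only [Category.assoc, hadh, ← Functor.map_comp, hw12]
      let l : V' ⟶ D := (yon S).preimage (sqD.lift _ _ heq)
      have e1 : l ≫ d₁ = g' ≫ w₁ := (yon S).map_injective (by simp [l])
      have e2 : l ≫ d₂ = g' ≫ w₂ := (yon S).map_injective (by simp [l])
      refine ⟨l.left, pullback.hom_ext ?_ ?_⟩
      · exact (Category.assoc _ _ _).trans ((congrArg (l.left ≫ ·) (congrArg Over.Hom.left hδ₁)).trans
          (congrArg Over.Hom.left e1))
      · exact (Category.assoc _ _ _).trans ((congrArg (l.left ≫ ·) (congrArg Over.Hom.left hδ₂)).trans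
          (congrArg Over.Hom.left e2))
  have : IsIso ((Over.forget S).map e) := ‹IsIso e.left›
  have : IsIso e := isIso_of_reflects_iso e (Over.forget S)
  have hβ : β₁ = β₂ := by
    have hw := hd.rep.w dd
    have q1 : hd.rep.fst dd = (yon S).map e ≫ β₁ := by
      simpa [dd] using congrArg (· ≫ pullback.fst p₂.hom p₂.hom) hw
    have q2 : hd.rep.fst dd = (yon S).map e ≫ β₂ := by
      simpa [dd] using congrArg (· ≫ pullback.snd p₂.hom p₂.hom) hw
    exact (cancel_epi ((yon S).map e)).1 (q1.symm.trans q2)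
  -- any pair lifts etale locally to the universal one
  rintro V l l' hll
  let v := l ≫ a₁Y.hom
  let r : ht.rep.pullback v ⟶ V := ht.rep.snd v
  have : Etale r.left := ht.property_snd v
  have : Surjective r.left := hts.2 v _ _ (ht.rep.isPullback v)
  let q := ht.rep.fst' v
  have hq : (yon S).map q ≫ t = (yon S).map r ≫ v := (ht.rep.isPullback' v).w
  let m : (yon S).obj (ht.rep.pullback v) ⟶ pullback a₁Y.hom t :=
    pullback.lift ((yon S).map r ≫ l) ((yon S).map q) (by rw [Category.assoc, hq])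
  let m' : (yon S).obj (ht.rep.pullback v) ⟶ pullback a₁Y.hom t :=
    pullback.lift ((yon S).map r ≫ l') ((yon S).map q) (by rw [Category.assoc, hq, ← hll])
  let r₂ := had.rep.snd m
  have : Etale r₂.left := had.property_snd m
  have : Surjective r₂.left := hads.2 m _ _ (had.rep.isPullback m)
  let m₂ := (yon S).map r₂ ≫ m'
  let r₃ := had.rep.snd m₂
  have : Etale r₃.left := had.property_snd m₂
  have : Surjective r₃.left := hads.2 m₂ _ _ (had.rep.isPullback m₂)
  obtain ⟨u₁, hu₁⟩ : ∃ u₁ : had.rep.pullback m₂ ⟶ VT, (yon S).map u₁ ≫ ad = (yon S).map (r₃ ≫ r₂) ≫ m :=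
    ⟨r₃ ≫ had.rep.fst' m, by
      rw [Functor.map_comp, Functor.map_comp, Category.assoc, Category.assoc, (had.rep.isPullback' m).w]⟩
  obtain ⟨u₂, hu₂⟩ : ∃ u₂ : had.rep.pullback m₂ ⟶ VT, (yon S).map u₂ ≫ ad = (yon S).map (r₃ ≫ r₂) ≫ m' :=
    ⟨had.rep.fst' m₂, by rw [(had.rep.isPullback' m₂).w, Functor.map_comp, Category.assoc]⟩
  have huh : u₁ ≫ h' = u₂ ≫ h' := (yon S).map_injective (by
    rw [Functor.map_comp, Functor.map_comp, ← hadh, reassoc_of% hu₁, reassoc_of% hu₂, pullback.lift_snd,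
      pullback.lift_snd])
  let u : had.rep.pullback m₂ ⟶ W := CategoryTheory.Over.homMk
    (pullback.lift u₁.left u₂.left (congrArg Over.Hom.left huh)) (by
      show pullback.lift _ _ _ ≫ pullback.fst _ _ ≫ VT.hom = (had.rep.pullback m₂).hom
      rw [pullback.lift_fst_assoc, Over.w u₁])
  have hu₁' : u ≫ w₁ = u₁ := Over.OverMorphism.ext (pullback.lift_fst _ _ _)
  have hu₂' : u ≫ w₂ = u₂ := Over.OverMorphism.ext (pullback.lift_snd _ _ _)
  refine hom_ext_of_fppf r (fppf_of_etale r.left) _ _ ?_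
  have : Etale (r₃ ≫ r₂).left := inferInstanceAs (Etale (r₃.left ≫ r₂.left))
  have : Surjective (r₃ ≫ r₂).left := inferInstanceAs (Surjective (r₃.left ≫ r₂.left))
  refine hom_ext_of_fppf (r₃ ≫ r₂) (fppf_of_etale _) _ _ ?_
  have := congrArg ((yon S).map u ≫ ·) hβ
  simp only [β₁, β₂, l₁, l₂, Category.assoc, ← Functor.map_comp_assoc, hu₁', hu₂', reassoc_of% hu₁,
    reassoc_of% hu₂, m, m', pullback.lift_fst_assoc] at this
  exact this

set_option maxHeartbeats 800000 in
/-- Let `f : Y → X` be a quasi-compact quasi-separated morphism of algebraic spaces over `S`, `i : Z →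
X` a closed immersion of finite presentation such that `f⁻¹Z → Z` is an isomorphism and `f` is flat
at every point of `|f⁻¹Z|`, and let `U ⊂ X` be the open subspace complementary to `Z`, with `V = U
×_X Y`. Let `X'₁`, `X'₂` be algebraic spaces over `X` with `X'₂ → X` separated. Then every morphism
between their images in the glueing category — morphisms of the base changes to `U`, to `V` and to
`Y`, over `U`, `V`, `Y` and compatible with the restriction maps — is induced by a unique morphism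
`X'₁ → X'₂` over `X`. -/
theorem result {S : Scheme.{u}} {X Y Z FZ U : AlgSp.Space S} (f : Y ⟶ X)
    (hqc : AlgSp.IsQuasiCompactMor f.hom) (hqs : AlgSp.IsQuasiSeparatedMor f.hom) (i : Z ⟶ X)
    (hi : AlgSp.RepWith @IsClosedImmersion i.hom) (hifp : AlgSp.LocP @LocallyOfFinitePresentation i.hom)
    (iY : FZ ⟶ Y) (fZ : FZ ⟶ Z) (hFZ : IsPullback iY.hom fZ.hom f.hom i.hom) [IsIso fZ]
    (hflat : ∀ y ∈ Set.range (AlgSp.Points.map iY.hom), AlgSp.IsFlatAtMor f.hom y) (j : U ⟶ X)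
    (hj : AlgSp.RepWith @IsOpenImmersion j.hom)
    (hU : Set.range (AlgSp.Points.map j.hom) = (Set.range (AlgSp.Points.map i.hom))ᶜ)
    {X₁ X₂ A₁U A₂U A₁Y A₂Y A₁V A₂V : AlgSp.Space S} (p₁ : X₁ ⟶ X) (p₂ : X₂ ⟶ X)
    (hp₂ : AlgSp.IsSeparatedMor p₂.hom)
    (a₁U : A₁U ⟶ X₁) (r₁U : A₁U ⟶ U) (h₁U : IsPullback a₁U.hom r₁U.hom p₁.hom j.hom)
    (a₂U : A₂U ⟶ X₂) (r₂U : A₂U ⟶ U) (h₂U : IsPullback a₂U.hom r₂U.hom p₂.hom j.hom)
    (a₁Y : A₁Y ⟶ X₁) (r₁Y : A₁Y ⟶ Y) (h₁Y : IsPullback a₁Y.hom r₁Y.hom p₁.hom f.hom)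
    (a₂Y : A₂Y ⟶ X₂) (r₂Y : A₂Y ⟶ Y) (h₂Y : IsPullback a₂Y.hom r₂Y.hom p₂.hom f.hom)
    (m₁U : A₁V ⟶ A₁U) (m₁Y : A₁V ⟶ A₁Y) (h₁V : IsPullback m₁U.hom m₁Y.hom a₁U.hom a₁Y.hom)
    (m₂U : A₂V ⟶ A₂U) (m₂Y : A₂V ⟶ A₂Y) (h₂V : IsPullback m₂U.hom m₂Y.hom a₂U.hom a₂Y.hom)
    (bU : A₁U ⟶ A₂U) (hbU : bU ≫ r₂U = r₁U) (bY : A₁Y ⟶ A₂Y) (hbY : bY ≫ r₂Y = r₁Y)
    (bV : A₁V ⟶ A₂V) (hbV₁ : bV ≫ m₂U = m₁U ≫ bU) (hbV₂ : bV ≫ m₂Y = m₁Y ≫ bY) :
    ∃! a : X₁ ⟶ X₂, a ≫ p₂ = p₁ ∧ a₁U ≫ a = bU ≫ a₂U ∧ a₁Y ≫ a = bY ≫ a₂Y := by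
  have : IsIso fZ.hom := inferInstanceAs (IsIso ((ObjectProperty.ι _).map fZ))
  have hYf : ∀ {V : Sp S} (l : V ⟶ A₁Y.obj),
      (l ≫ bY.hom ≫ a₂Y.hom) ≫ p₂.hom = (l ≫ a₁Y.hom) ≫ p₁.hom := fun l => by
    have e := congrArg InducedCategory.Hom.hom hbY
    simp only [ObjectProperty.FullSubcategory.comp_hom] at e
    rw [Category.assoc, Category.assoc, Category.assoc, h₂Y.w, reassoc_of% e, h₁Y.w]
  have hUf : ∀ {V : Sp S} (l : V ⟶ A₁U.obj),
      (l ≫ bU.hom ≫ a₂U.hom) ≫ p₂.hom = (l ≫ a₁U.hom) ≫ p₁.hom := fun l => by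
    have e := congrArg InducedCategory.Hom.hom hbU
    simp only [ObjectProperty.FullSubcategory.comp_hom] at e
    rw [Category.assoc, Category.assoc, Category.assoc, h₂U.w, reassoc_of% e, h₁U.w]
  have hUU : ∀ {V : Sp S} (l l' : V ⟶ A₁U.obj), l ≫ a₁U.hom = l' ≫ a₁U.hom → l = l' := by
    intro V l l' h
    have : Mono j.hom :=
      mono_of_repWith (repWith_mono (fun _ _ g (_ : IsOpenImmersion g) => inferInstanceAs (Mono g)) _ hj)
    refine h₁U.hom_ext h ((cancel_mono j.hom).1 ?_)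
    rw [Category.assoc, Category.assoc, ← h₁U.w, ← Category.assoc, h, Category.assoc]
  have hUY : ∀ {V : Sp S} (l : V ⟶ A₁U.obj) (l' : V ⟶ A₁Y.obj), l ≫ a₁U.hom = l' ≫ a₁Y.hom →
      l ≫ bU.hom ≫ a₂U.hom = l' ≫ bY.hom ≫ a₂Y.hom := by
    intro V l l' h
    have e1 := congrArg InducedCategory.Hom.hom hbV₁
    have e2 := congrArg InducedCategory.Hom.hom hbV₂
    simp only [ObjectProperty.FullSubcategory.comp_hom] at e1 e2
    rw [← h₁V.lift_fst l l' h]
    conv_rhs => rw [← h₁V.lift_snd l l' h]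
    rw [Category.assoc, Category.assoc, ← reassoc_of% e1, h₂V.w, reassoc_of% e2]
  -- agreement over `Y`
  have hYY : ∀ {V : Over S} (l l' : (yon S).obj V ⟶ A₁Y.obj), l ≫ a₁Y.hom = l' ≫ a₁Y.hom →
      l ≫ bY.hom ≫ a₂Y.hom = l' ≫ bY.hom ≫ a₂Y.hom :=
    eq_of_pair f i hi hifp iY fZ hFZ hflat j hj hU p₁ p₂ hp₂ a₁U r₁U h₁U a₁Y r₁Y h₁Y (bU.hom ≫ a₂U.hom)
      (bY.hom ≫ a₂Y.hom) hYf hUY
  -- good maps
  let Good : ∀ (V : Over S), ((yon S).obj V ⟶ X₁.obj) → ((yon S).obj V ⟶ X₂.obj) → Prop := fun V v β =>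
    (∃ l, l ≫ a₁U.hom = v ∧ β = l ≫ bU.hom ≫ a₂U.hom) ∨ (∃ l, l ≫ a₁Y.hom = v ∧ β = l ≫ bY.hom ≫ a₂Y.hom)
  have good_over : ∀ {V v β}, Good V v β → β ≫ p₂.hom = v ≫ p₁.hom := by
    rintro V v β (⟨l, rfl, rfl⟩ | ⟨l, rfl, rfl⟩)
    exacts [hUf l, hYf l]
  have good_eq : ∀ {V v β β'}, Good V v β → Good V v β' → β = β' := by
    rintro V v β β' (⟨l, hl, rfl⟩ | ⟨l, hl, rfl⟩) (⟨l', hl', rfl⟩ | ⟨l', hl', rfl⟩)
    · rw [hUU l l' (hl.trans hl'.symm)]
    · exact hUY l l' (hl.trans hl'.symm)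
    · exact (hUY l' l (hl'.trans hl.symm)).symm
    · exact hYY l l' (hl.trans hl'.symm)
  have good_comp : ∀ {V V' : Over S} (g : V' ⟶ V) {v β}, Good V v β →
      Good V' ((yon S).map g ≫ v) ((yon S).map g ≫ β) := by
    rintro V V' g v β (⟨l, rfl, rfl⟩ | ⟨l, rfl, rfl⟩)
    · exact Or.inl ⟨(yon S).map g ≫ l, Category.assoc _ _ _, (Category.assoc _ _ _).symm⟩
    · exact Or.inr ⟨(yon S).map g ≫ l, Category.assoc _ _ _, (Category.assoc _ _ _).symm⟩
  obtain ⟨κ, Wc, wc, hfpqc, hWc⟩ := S10704.result f hqc hqs i hi hifp iY fZ hFZ hflat j hj hU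
  have cover : ∀ {T : Over S} [IsAffine T.left] (x : (yon S).obj T ⟶ X₁.obj),
      ∃ (ι : Type u) (_ : Finite ι) (Tn : ι → Over S) (c : ∀ n, Tn n ⟶ T) (β : ∀ n, (yon S).obj (Tn n) ⟶ X₂.obj),
        (∀ n, IsAffine (Tn n).left) ∧ (∀ n, Flat (c n).left) ∧ (∀ z, ∃ n, z ∈ Set.range (c n).left) ∧
          ∀ n, Good (Tn n) ((yon S).map (c n) ≫ x) (β n) := by
    intro T _ x
    obtain ⟨m, Tn, c, hTn, hc, hs, hl⟩ := hfpqc.2 T inferInstance (x ≫ p₁.hom)
    have hg : ∀ n, ∃ β, Good (Tn n) ((yon S).map (c n) ≫ x) β := by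
      intro n
      obtain ⟨k, l, hl⟩ := hl n
      rcases hWc k with ⟨l', hl'⟩ | ⟨l', hl'⟩
      · exact ⟨_, Or.inl ⟨h₁U.lift ((yon S).map (c n) ≫ x) (l ≫ l'.hom) (by
          rw [Category.assoc, ← hl, Category.assoc]
          exact congrArg (l ≫ ·) (congrArg InducedCategory.Hom.hom hl').symm), IsPullback.lift_fst _ _ _ _, rfl⟩⟩
      · exact ⟨_, Or.inr ⟨h₁Y.lift ((yon S).map (c n) ≫ x) (l ≫ l'.hom) (by
          rw [Category.assoc, ← hl, Category.assoc]
          exact congrArg (l ≫ ·) (congrArg InducedCategory.Hom.hom hl').symm), IsPullback.lift_fst _ _ _ _, rfl⟩⟩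
    choose β hβ using hg
    exact ⟨ULift.{u} (Fin m), inferInstance, fun n => Tn n.down, fun n => c n.down, fun n => β n.down,
      fun n => hTn _, fun n => hc _, fun z => by obtain ⟨n, hn⟩ := hs z; exact ⟨⟨n⟩, hn⟩, fun n => hβ _⟩
  -- compatible maps on schemes over `X₁`
  let Compat : ∀ (T : Over S), ((yon S).obj T ⟶ X₁.obj) → ((yon S).obj T ⟶ X₂.obj) → Prop := fun T x β =>
    β ≫ p₂.hom = x ≫ p₁.hom ∧ ∀ {V : Over S} (g : V ⟶ T) (β₀), Good V ((yon S).map g ≫ x) β₀ →
      (yon S).map g ≫ β = β₀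
  have compat_comp : ∀ {T T' : Over S} (h : T' ⟶ T) {x β}, Compat T x β →
      Compat T' ((yon S).map h ≫ x) ((yon S).map h ≫ β) := by
    intro T T' h x β hc
    refine ⟨by rw [Category.assoc, hc.1, Category.assoc], fun g β₀ hg => ?_⟩
    rw [← Functor.map_comp_assoc] at hg ⊢
    exact hc.2 _ _ hg
  have compat_unique : ∀ {T : Over S} (x : (yon S).obj T ⟶ X₁.obj) (β β'), Compat T x β → Compat T x β' → β = β' := by
    intro T x β β' hβ hβ'
    refine AlgSpDec.hom_ext_of_openCover T.left.affineCover β β' fun a => ?_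
    have haff : IsAffine (Over.mk (T.left.affineCover.f a ≫ T.hom)).left :=
      inferInstanceAs (IsAffine (T.left.affineCover.X a))
    obtain ⟨ι, _, Tn, c, βn, hTn, hc, hs, hg⟩ := cover ((yon S).map
      (CategoryTheory.Over.homMk (U := Over.mk (T.left.affineCover.f a ≫ T.hom)) (T.left.affineCover.f a) rfl) ≫ x)
    let π : sigmaOver Tn ⟶ Over.mk (T.left.affineCover.f a ≫ T.hom) :=
      CategoryTheory.Over.homMk (Sigma.desc fun n => (c n).left) (Sigma.hom_ext _ _ fun n => by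
        show Sigma.ι _ n ≫ Sigma.desc _ ≫ _ = Sigma.ι _ n ≫ Sigma.desc _
        rw [Sigma.ι_desc_assoc, Sigma.ι_desc, Over.w (c n)])
    have hπι : ∀ n, sigmaι Tn n ≫ π = c n := fun n => Over.OverMorphism.ext (Sigma.ι_desc _ _)
    have : Flat π.left := IsZariskiLocalAtSource.sigmaDesc hc
    have : Surjective π.left := ⟨fun z => by
      obtain ⟨n, y, hy⟩ := hs z
      exact ⟨(sigmaι Tn n).left y, by rw [← Scheme.Hom.comp_apply, ← Over.comp_left, hπι, hy]⟩⟩
    have := Fintype.ofFinite ι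
    have := hTn
    have : IsAffine (sigmaOver Tn).left := inferInstanceAs (IsAffine (∐ fun n => (Tn n).left))
    have h1 := compat_comp (CategoryTheory.Over.homMk (U := Over.mk (T.left.affineCover.f a ≫ T.hom))
      (T.left.affineCover.f a) rfl) hβ
    have h2 := compat_comp (CategoryTheory.Over.homMk (U := Over.mk (T.left.affineCover.f a ≫ T.hom))
      (T.left.affineCover.f a) rfl) hβ'
    refine eq_of_flat_cover hp₂ π _ _ (h1.1.trans h2.1.symm) (hom_ext_sigma Tn fun n => ?_)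
    rw [← Category.assoc, ← Category.assoc (g := (yon S).map π), ← Functor.map_comp, hπι,
      h1.2 (c n) _ (hg n), h2.2 (c n) _ (hg n)]
  have compat_exists : ∀ {T : Over S} [IsAffine T.left] (x : (yon S).obj T ⟶ X₁.obj), ∃ β, Compat T x β := by
    intro T _ x
    obtain ⟨ι, _, Tn, c, βn, hTn, hc, hs, hg⟩ := cover x
    let π : sigmaOver Tn ⟶ T := CategoryTheory.Over.homMk (Sigma.desc fun n => (c n).left) (Sigma.hom_ext _ _ fun n => by
      show Sigma.ι _ n ≫ Sigma.desc _ ≫ _ = Sigma.ι _ n ≫ Sigma.desc _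
      rw [Sigma.ι_desc_assoc, Sigma.ι_desc, Over.w (c n)])
    have hπι : ∀ n, sigmaι Tn n ≫ π = c n := fun n => Over.OverMorphism.ext (Sigma.ι_desc _ _)
    have : Flat π.left := IsZariskiLocalAtSource.sigmaDesc hc
    have : Surjective π.left := ⟨fun z => by
      obtain ⟨n, y, hy⟩ := hs z
      exact ⟨(sigmaι Tn n).left y, by rw [← Scheme.Hom.comp_apply, ← Over.comp_left, hπι, hy]⟩⟩
    have := Fintype.ofFinite ι
    have := hTn
    have : IsAffine (sigmaOver Tn).left := inferInstanceAs (IsAffine (∐ fun n => (Tn n).left))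
    let P := pullback p₂.hom (x ≫ p₁.hom)
    have hP : IsAlgSpace P := isAlgSpace_pullback X₂.property (IsAlgSpace.yon_obj T) X.property _ _
    obtain ⟨γ, hγ⟩ := exists_hom_sigma Tn (F := P) fun n => pullback.lift (βn n) ((yon S).map (c n))
      (by rw [good_over (hg n), Category.assoc])
    have hγq : γ ≫ pullback.snd _ _ = (yon S).map π := hom_ext_sigma Tn fun n => by
      rw [← Category.assoc, hγ, pullback.lift_snd, ← Functor.map_comp, hπι]
    have hloc : ∀ {V : Over S} (a : V ⟶ sigmaOver Tn) (β₀), Good V ((yon S).map (a ≫ π) ≫ x) β₀ →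
        (yon S).map a ≫ γ ≫ pullback.fst _ _ = β₀ := by
      intro V a β₀ h₀
      let 𝒰 : V.left.OpenCover := (sigmaOpenCover fun n => (Tn n).left).pullback₁ a.left
      refine AlgSpDec.hom_ext_of_openCover 𝒰 _ _ fun n => ?_
      let ιn : Over.mk (𝒰.f n ≫ V.hom) ⟶ V := CategoryTheory.Over.homMk (𝒰.f n) rfl
      let an : Over.mk (𝒰.f n ≫ V.hom) ⟶ Tn n := CategoryTheory.Over.homMk
        (pullback.snd a.left ((sigmaOpenCover fun n => (Tn n).left).f n)) (by
          show pullback.snd _ _ ≫ (Tn n).hom = pullback.fst _ _ ≫ V.hom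
          rw [← Over.w a, pullback.condition_assoc]
          congr 1
          rw [sigmaOpenCover_f]
          exact (Sigma.ι_desc (fun m => (Tn m).hom) n).symm)
      have han : ιn ≫ a = an ≫ sigmaι Tn n := Over.OverMorphism.ext pullback.condition
      show (yon S).map ιn ≫ _ = (yon S).map ιn ≫ _
      rw [← Functor.map_comp_assoc, han, Functor.map_comp_assoc, reassoc_of% (hγ n), pullback.lift_fst]
      refine good_eq (v := (yon S).map (an ≫ c n) ≫ x) ?_ ?_
      · have := good_comp an (hg n)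
        rwa [← Functor.map_comp_assoc] at this
      · have := good_comp ιn h₀
        rwa [← Functor.map_comp_assoc, ← Category.assoc ιn a π, han, Category.assoc, hπι] at this
    obtain ⟨s, hs₁, hs₂⟩ := exists_section_of_flat_cover π hP (pullback.snd p₂.hom (x ≫ p₁.hom))
      (isSeparatedMor_of_isPullback (IsPullback.of_hasPullback _ _) hp₂) γ hγq (fun V a b hab => by
        refine pullback.hom_ext ?_ (by rw [Category.assoc, Category.assoc, hγq, ← Functor.map_comp, ← Functor.map_comp, hab])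
        rw [Category.assoc, Category.assoc]
        let 𝒰 : V.left.OpenCover := (sigmaOpenCover fun n => (Tn n).left).pullback₁ b.left
        refine AlgSpDec.hom_ext_of_openCover 𝒰 _ _ fun n => ?_
        let ιn : Over.mk (𝒰.f n ≫ V.hom) ⟶ V := CategoryTheory.Over.homMk (𝒰.f n) rfl
        let bn : Over.mk (𝒰.f n ≫ V.hom) ⟶ Tn n := CategoryTheory.Over.homMk
          (pullback.snd b.left ((sigmaOpenCover fun n => (Tn n).left).f n)) (by
            show pullback.snd _ _ ≫ (Tn n).hom = pullback.fst _ _ ≫ V.hom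
            rw [← Over.w b, pullback.condition_assoc]
            congr 1
            rw [sigmaOpenCover_f]
            exact (Sigma.ι_desc (fun m => (Tn m).hom) n).symm)
        have hbn : ιn ≫ b = bn ≫ sigmaι Tn n := Over.OverMorphism.ext pullback.condition
        show (yon S).map ιn ≫ _ = (yon S).map ιn ≫ _
        have hG : Good _ ((yon S).map (bn ≫ c n) ≫ x) ((yon S).map bn ≫ βn n) := by
          have := good_comp bn (hg n)
          rwa [← Functor.map_comp_assoc] at this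
        rw [← (yon S).map_comp_assoc ιn a, ← (yon S).map_comp_assoc ιn b,
          hloc (ιn ≫ a) ((yon S).map bn ≫ βn n)
            (by rw [Category.assoc, hab, ← Category.assoc, hbn, Category.assoc, hπι]; exact hG),
          hloc (ιn ≫ b) ((yon S).map bn ≫ βn n) (by rw [hbn, Category.assoc, hπι]; exact hG)])
    refine ⟨s ≫ pullback.fst _ _, by rw [Category.assoc, pullback.condition, reassoc_of% hs₁], fun {V} g β₀ hg₀ => ?_⟩
    let V' : Over S := Over.mk (pullback.fst g.left π.left ≫ V.hom)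
    let πV : V' ⟶ V := CategoryTheory.Over.homMk (pullback.fst g.left π.left) rfl
    let gV : V' ⟶ sigmaOver Tn := CategoryTheory.Over.homMk (pullback.snd g.left π.left) (by
      show pullback.snd _ _ ≫ (sigmaOver Tn).hom = pullback.fst _ _ ≫ V.hom
      rw [← Over.w g, ← Over.w π, pullback.condition_assoc])
    have hgV : πV ≫ g = gV ≫ π := Over.OverMorphism.ext pullback.condition
    have : Flat πV.left := inferInstanceAs (Flat (pullback.fst g.left π.left))
    have : Surjective πV.left := inferInstanceAs (Surjective (pullback.fst g.left π.left))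
    have : QuasiCompact πV.left := inferInstanceAs (QuasiCompact (pullback.fst g.left π.left))
    refine eq_of_flat_cover hp₂ πV _ _ (by
      rw [good_over hg₀, Category.assoc, Category.assoc, pullback.condition, reassoc_of% hs₁, Category.assoc]) ?_
    rw [← Functor.map_comp_assoc, hgV, Functor.map_comp_assoc, reassoc_of% hs₂]
    refine hloc gV _ ?_
    have := good_comp πV hg₀
    rwa [← Functor.map_comp_assoc, hgV] at this
  -- glue
  obtain ⟨U₀, q₀, hq₀, hq₀s⟩ := X₁.property.atlas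
  let ιK : ∀ K : U₀.left.affineOpens, Over.mk (K.1.ι ≫ U₀.hom) ⟶ U₀ := fun K => CategoryTheory.Over.homMk K.1.ι rfl
  choose βK hβK using fun K : U₀.left.affineOpens =>
    @compat_exists (Over.mk (K.1.ι ≫ U₀.hom)) K.2 ((yon S).map (ιK K) ≫ q₀)
  let T₀ := sigmaOver fun K : U₀.left.affineOpens => Over.mk (K.1.ι ≫ U₀.hom)
  let π₀ : T₀ ⟶ U₀ := CategoryTheory.Over.homMk (Sigma.desc fun K => (ιK K).left) (Sigma.hom_ext _ _ fun K => by
    show Sigma.ι _ K ≫ Sigma.desc _ ≫ _ = Sigma.ι _ K ≫ Sigma.desc _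
    rw [Sigma.ι_desc_assoc, Sigma.ι_desc]
    rfl)
  have hπ₀ι : ∀ K, sigmaι _ K ≫ π₀ = ιK K := fun K => Over.OverMorphism.ext (Sigma.ι_desc _ _)
  have : Etale π₀.left := IsZariskiLocalAtSource.sigmaDesc fun K => inferInstanceAs (Etale K.1.ι)
  have : Surjective π₀.left := ⟨fun z => by
    obtain ⟨K, hK, hz, -⟩ := exists_isAffineOpen_mem_and_subset (U := (⊤ : U₀.left.Opens)) (x := z) trivial
    exact ⟨(sigmaι (fun K : U₀.left.affineOpens => Over.mk (K.1.ι ≫ U₀.hom)) ⟨K, hK⟩).left ⟨z, hz⟩, by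
      rw [← Scheme.Hom.comp_apply, ← Over.comp_left, hπ₀ι]; rfl⟩⟩
  let q₁ : (yon S).obj T₀ ⟶ X₁.obj := (yon S).map π₀ ≫ q₀
  have hq₁ : RepWith @Etale q₁ := repWith_comp ((repWith_yon_map_iff _ _).2 ‹Etale π₀.left›) hq₀
  have hq₁s : RepWith @Surjective q₁ := repWith_comp ((repWith_yon_map_iff _ _).2 ‹Surjective π₀.left›) hq₀s
  obtain ⟨βT, hβT⟩ := exists_hom_sigma _ βK
  have hβTc : Compat T₀ q₁ βT := by
    refine ⟨hom_ext_sigma _ fun K => by
      rw [← Category.assoc, hβT, (hβK K).1, ← Category.assoc, ← Category.assoc, ← Functor.map_comp, hπ₀ι],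
      fun {V} g β₀ hg₀ => ?_⟩
    let 𝒰 : V.left.OpenCover := (sigmaOpenCover fun K : U₀.left.affineOpens =>
      (Over.mk (K.1.ι ≫ U₀.hom)).left).pullback₁ g.left
    refine AlgSpDec.hom_ext_of_openCover 𝒰 _ _ fun n => ?_
    let ιn : Over.mk (𝒰.f n ≫ V.hom) ⟶ V := CategoryTheory.Over.homMk (𝒰.f n) rfl
    let gn : Over.mk (𝒰.f n ≫ V.hom) ⟶ Over.mk (n.1.ι ≫ U₀.hom) := CategoryTheory.Over.homMk
      (pullback.snd g.left ((sigmaOpenCover fun K : U₀.left.affineOpens => (Over.mk (K.1.ι ≫ U₀.hom)).left).f n)) (by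
        show pullback.snd _ _ ≫ (Over.mk (n.1.ι ≫ U₀.hom)).hom = pullback.fst _ _ ≫ V.hom
        rw [← Over.w g, pullback.condition_assoc]
        congr 1
        rw [sigmaOpenCover_f]
        exact (Sigma.ι_desc (fun K : U₀.left.affineOpens => (Over.mk (K.1.ι ≫ U₀.hom)).hom) n).symm)
    have hgn : ιn ≫ g = gn ≫ sigmaι (fun K : U₀.left.affineOpens => Over.mk (K.1.ι ≫ U₀.hom)) n := Over.OverMorphism.ext pullback.condition
    show (yon S).map ιn ≫ _ = (yon S).map ιn ≫ _
    rw [← Functor.map_comp_assoc, hgn, Functor.map_comp_assoc, hβT]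
    refine (hβK n).2 gn _ ?_
    have := good_comp ιn hg₀
    rwa [← Functor.map_comp_assoc, hgn, ← Functor.map_comp_assoc, Category.assoc, hπ₀ι, Functor.map_comp,
      Category.assoc] at this
  have : Epi q₁ := AlgSpLib.epi_of_etale_surjective hq₁ hq₁s
  have : EffectiveEpi q₁ := by
    have := IsRegularEpiCategory.regularEpiOfEpi q₁
    infer_instance
  have sq₁ := hq₁.rep.isPullback' q₁
  have hinv : ∀ {Z : Sp S} (g₁ g₂ : Z ⟶ (yon S).obj T₀), g₁ ≫ q₁ = g₂ ≫ q₁ → g₁ ≫ βT = g₂ ≫ βT := by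
    intro Z' g₁ g₂ hg
    rw [← sq₁.lift_fst g₁ g₂ hg]
    conv_rhs => rw [← sq₁.lift_snd g₁ g₂ hg]
    rw [Category.assoc, Category.assoc]
    congr 1
    refine compat_unique _ _ _ (compat_comp _ hβTc) ?_
    rw [sq₁.w]
    exact compat_comp _ hβTc
  let α : X₁.obj ⟶ X₂.obj := EffectiveEpi.desc q₁ βT hinv
  have hα : q₁ ≫ α = βT := EffectiveEpi.fac _ _ _
  have key : ∀ {A : AlgSp.Space S} (a : A.obj ⟶ X₁.obj) (β : A.obj ⟶ X₂.obj),
      (∀ {V : Over S} (g : (yon S).obj V ⟶ A.obj), Good V (g ≫ a) (g ≫ β)) → a ≫ α = β := by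
    intro A a β hgood
    obtain ⟨V, g, hg, hgs⟩ := A.property.atlas
    have : Epi g := AlgSpLib.epi_of_etale_surjective hg hgs
    rw [← cancel_epi g]
    let r := hq₁.rep.snd (g ≫ a)
    let l := hq₁.rep.fst' (g ≫ a)
    have hl : (yon S).map l ≫ q₁ = (yon S).map r ≫ g ≫ a := (hq₁.rep.isPullback' (g ≫ a)).w
    have : Etale r.left := hq₁.property_snd _
    have : Surjective r.left := hq₁s.2 _ _ _ (hq₁.rep.isPullback (g ≫ a))
    refine hom_ext_of_fppf r (fppf_of_etale r.left) _ _ ?_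
    rw [← Category.assoc g a, ← Category.assoc ((yon S).map r), ← hl, Category.assoc, hα]
    refine hβTc.2 l _ ?_
    rw [hl]
    exact good_comp r (hgood g)
  refine ⟨ObjectProperty.homMk α, ⟨InducedCategory.Hom.ext ?_, InducedCategory.Hom.ext ?_, InducedCategory.Hom.ext ?_⟩,
    ?_⟩
  · show α ≫ p₂.hom = p₁.hom
    rw [← cancel_epi q₁, ← Category.assoc, hα, hβTc.1]
  · show a₁U.hom ≫ α = bU.hom ≫ a₂U.hom
    exact key _ _ fun g => Or.inl ⟨g, rfl, rfl⟩
  · show a₁Y.hom ≫ α = bY.hom ≫ a₂Y.hom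
    exact key _ _ fun g => Or.inr ⟨g, rfl, rfl⟩
  · rintro a' ⟨h1, h2, h3⟩
    refine InducedCategory.Hom.ext ((cancel_epi q₁).1 ?_)
    show q₁ ≫ a'.hom = q₁ ≫ α
    rw [hα]
    refine compat_unique q₁ _ _ ⟨?_, fun {V} g β₀ hg₀ => ?_⟩ hβTc
    · have := congrArg InducedCategory.Hom.hom h1
      simp only [ObjectProperty.FullSubcategory.comp_hom] at this
      rw [Category.assoc, this]
    · have e2 := congrArg InducedCategory.Hom.hom h2
      have e3 := congrArg InducedCategory.Hom.hom h3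
      simp only [ObjectProperty.FullSubcategory.comp_hom] at e2 e3
      rcases hg₀ with ⟨l, hl, rfl⟩ | ⟨l, hl, rfl⟩
      · rw [← Category.assoc, ← hl, Category.assoc, e2]
      · rw [← Category.assoc, ← hl, Category.assoc, e3]

end Groth.Agent.S10720
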