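import Groth.Statements.S10726
import Groth.Agent.AlgSpDec.GlueDescGlobal
import Groth.Agent.AlgSpDec.LqfSplitZ
-- import your own Groth.Agent.* helpers here

set_option autoImplicit false
universe u
open CategoryTheory CategoryTheory.Limits AlgebraicGeometry TensorProduct
open AlgSp

namespace Groth.Agent.S10726

set_option backward.isDefEq.respectTransparency false
set_option backward.isDefEq.respectTransparency.types false

open Groth.Agent.AlgSpLib Groth.Agent.AlgSpPts Groth.Agent.AlgSpDec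

attribute [local instance] Algebra.TensorProduct.rightAlgebra

section

variable {S : Scheme.{u}} {Y Z YU YX : Sp S}

/-- `m` agrees over `Y` with the given maps on the two pieces. -/
structure Compat (uY : YU ⟶ Y) (aU : YU ⟶ Z) (xY : YX ⟶ Y) (bX : YX ⟶ Z) {G : Sp S} (h : G ⟶ Y) (m : G ⟶ Z) :
    Prop where
  onU : ∀ {T : Over S} (j : (yon S).obj T ⟶ G) (v : (yon S).obj T ⟶ YU), j ≫ h = v ≫ uY → j ≫ m = v ≫ aU
  onX : ∀ {T : Over S} (j : (yon S).obj T ⟶ G) (v : (yon S).obj T ⟶ YX), j ≫ h = v ≫ xY → j ≫ m = v ≫ bX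

variable {uY : YU ⟶ Y} {aU : YU ⟶ Z} {xY : YX ⟶ Y} {bX : YX ⟶ Z}

theorem Compat.comp {G G' : Sp S} {h : G ⟶ Y} {m : G ⟶ Z} (hc : Compat uY aU xY bX h m) (k : G' ⟶ G) :
    Compat uY aU xY bX (k ≫ h) (k ≫ m) where
  onU j v e := by rw [← Category.assoc]; exact hc.onU _ v (by rw [Category.assoc]; exact e)
  onX j v e := by rw [← Category.assoc]; exact hc.onX _ v (by rw [Category.assoc]; exact e)

theorem Compat.descend {P : Over S} {q : (yon S).obj P ⟶ Y} (hqe : RepWith @Etale q) (hqs : RepWith @Surjective q)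
    {φ : Y ⟶ Z} (hc : Compat uY aU xY bX q (q ≫ φ)) : Compat uY aU xY bX (𝟙 Y) φ := by
  constructor
  all_goals
    intro T j v e
    rw [Category.comp_id] at e
    have : Etale (hqe.rep.snd j).left := hqe.property_snd j
    have : Surjective (hqe.rep.snd j).left := hqs.2 j _ _ (hqe.rep.isPullback j)
    refine hom_ext_of_fppf (hqe.rep.snd j) (fppf_of_etale _) _ _ ?_
  · rw [← Category.assoc, ← hqe.rep.w j, Category.assoc]
    refine (hc.onU _ _ ?_).trans (Category.assoc _ _ _)
    rw [hqe.rep.w j, e, Category.assoc]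
  · rw [← Category.assoc, ← hqe.rep.w j, Category.assoc]
    refine (hc.onX _ _ ?_).trans (Category.assoc _ _ _)
    rw [hqe.rep.w j, e, Category.assoc]

theorem Compat.sigma {ι : Type u} (W : ι → Over S) {h : (yon S).obj (sigmaOver W) ⟶ Y}
    {m : (yon S).obj (sigmaOver W) ⟶ Z}
    (hc : ∀ i, Compat uY aU xY bX ((yon S).map (sigmaι W i) ≫ h) ((yon S).map (sigmaι W i) ≫ m)) :
    Compat uY aU xY bX h m := by
  constructor
  all_goals
    intro T j v e
    obtain ⟨g, rfl⟩ := (yon S).map_surjective j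
    let 𝒰 := (sigmaOpenCover fun p => (W p).left).pullback₁ g.left
    refine hom_ext_of_openCover 𝒰 _ _ fun p => ?_
    let k : Over.mk (𝒰.f p ≫ T.hom) ⟶ T := CategoryTheory.Over.homMk (𝒰.f p) rfl
    let l : Over.mk (𝒰.f p ≫ T.hom) ⟶ W p := CategoryTheory.Over.homMk (pullback.snd _ _) (by
      show pullback.snd _ _ ≫ (W p).hom = pullback.fst _ _ ≫ T.hom
      rw [← Over.w g, pullback.condition_assoc, ← Over.w (sigmaι W p)]
      rfl)
    have hl : l ≫ sigmaι W p = k ≫ g := Over.OverMorphism.ext pullback.condition.symm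
    show (yon S).map k ≫ (yon S).map g ≫ m = (yon S).map k ≫ _
  · rw [← Functor.map_comp_assoc, ← hl, Functor.map_comp, Category.assoc, ← Category.assoc ((yon S).map k)]
    refine (hc p).onU _ _ ?_
    rw [← Category.assoc, ← Functor.map_comp, hl, Functor.map_comp, Category.assoc, e, Category.assoc]
  · rw [← Functor.map_comp_assoc, ← hl, Functor.map_comp, Category.assoc, ← Category.assoc ((yon S).map k)]
    refine (hc p).onX _ _ ?_
    rw [← Category.assoc, ← Functor.map_comp, hl, Functor.map_comp, Category.assoc, e, Category.assoc]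

theorem hom_ext_of_yon {F G : Sp S} (a b : F ⟶ G) (h : ∀ (T : Over S) (v : (yon S).obj T ⟶ F), v ≫ a = v ≫ b) :
    a = b := by
  refine ObjectProperty.hom_ext _ (NatTrans.ext (funext fun T => ?_))
  ext x
  have := congrArg (J S).uliftYonedaEquiv (h T.unop ((J S).uliftYonedaEquiv.symm x))
  rwa [GrothendieckTopology.uliftYonedaEquiv_comp, GrothendieckTopology.uliftYonedaEquiv_comp,
    Equiv.apply_symm_apply] at this

end

section

variable (R : Type u) [CommRing R] (R' : Type u) [CommRing R'] [Algebra R R'] (f : R)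

/-- The open piece of the base. -/
noncomputable abbrev baseU : Over (Spec (CommRingCat.of R)) :=
  Over.mk (Spec.map (CommRingCat.ofHom (algebraMap R (Localization.Away f))))

/-- The completed piece of the base. -/
noncomputable abbrev baseX : Over (Spec (CommRingCat.of R)) := Over.mk (Spec.map (CommRingCat.ofHom (algebraMap R R')))

variable {R R' f} {Y Z YU YX : Sp (Spec (CommRingCat.of R))} {uY : YU ⟶ Y} {aU : YU ⟶ Z} {xY : YX ⟶ Y} {bX : YX ⟶ Z}
  {πY : Y ⟶ (yon _).obj (Over.mk (𝟙 _))} {inU : baseU R f ⟶ Over.mk (𝟙 _)} {inX : baseX R R' ⟶ Over.mk (𝟙 _)}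
  {sY : YU ⟶ (yon _).obj (baseU R f)} {rY : YX ⟶ (yon _).obj (baseX R R')}
  (hRR' : EtGlue.IsGlueingPair R R' f)
  (hY : ∀ (A : Type u) [CommRing A] [Algebra R A]
    (g : (yon (Spec (CommRingCat.of R))).obj (Over.mk (Spec.map (CommRingCat.ofHom (algebraMap R A)))) ⟶ Y),
    RepWith @Etale g → EtGlue.IsGlueable R R' f A)
  (hYU : IsPullback uY sY πY ((yon _).map inU)) (hYX : IsPullback xY rY πY ((yon _).map inX))
  (agree : ∀ {T : Over (Spec (CommRingCat.of R))} (v : (yon _).obj T ⟶ YU) (w : (yon _).obj T ⟶ YX),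
    v ≫ uY = w ≫ xY → v ≫ aU = w ≫ bX)
  (hZ : IsAlgSpace Z)

/-- The map of spectra over `R`. -/
noncomputable abbrev specR (A : Type u) [CommRing A] [Algebra R A] : Over (Spec (CommRingCat.of R)) :=
  Over.mk (Spec.map (CommRingCat.ofHom (algebraMap R A)))

include hY in
theorem chart_glueable (hRR' : EtGlue.IsGlueingPair R R' f) {A : Type u} [CommRing A] [Algebra R A]
    (g : (yon _).obj (specR A) ⟶ Y) (hg : RepWith @Etale g) (C : Type u) [CommRing C] [Algebra A C]
    (hC : Etale (Spec.map (CommRingCat.ofHom (algebraMap A C)))) :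
    EtGlue.IsGlueable A (R' ⊗[R] A) (algebraMap R A f) C := by
  let _ : Algebra R C := ((algebraMap A C).comp (algebraMap R A)).toAlgebra
  have : IsScalarTower R A C := .of_algebraMap_eq' rfl
  let k : specR (R := R) C ⟶ specR A := CategoryTheory.Over.homMk (Spec.map (CommRingCat.ofHom (algebraMap A C))) (by
    show Spec.map _ ≫ Spec.map _ = Spec.map _
    rw [← Spec.map_comp]; rfl)
  exact isGlueable_of_ground hRR'.1 A C (hY C ((yon _).map k ≫ g) (repWith_comp ((repWith_yon_map_iff _ _).2 hC) hg))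

include hYU in
/-- The lift of the open piece of a chart. -/
theorem exists_liftU {A : Type u} [CommRing A] [Algebra R A] (g : (yon _).obj (specR A) ⟶ Y) :
    ∃ v : (yon _).obj (glueU (algebraMap R A f) (Spec.map (CommRingCat.ofHom (algebraMap R A)))) ⟶ YU,
      v ≫ uY = (yon _).map (glueUι (algebraMap R A f) (Spec.map (CommRingCat.ofHom (algebraMap R A)))) ≫ g := by
  have hu : IsUnit (((algebraMap A (Localization.Away (algebraMap R A f))).comp (algebraMap R A)) f) :=
    IsLocalization.Away.algebraMap_isUnit (algebraMap R A f)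
  let k : glueU (algebraMap R A f) (Spec.map (CommRingCat.ofHom (algebraMap R A))) ⟶ baseU R f :=
    CategoryTheory.Over.homMk (Spec.map (CommRingCat.ofHom (IsLocalization.Away.lift f hu))) (by
      show Spec.map _ ≫ Spec.map _ = Spec.map _ ≫ Spec.map _
      rw [← Spec.map_comp, ← Spec.map_comp, ← CommRingCat.ofHom_comp, ← CommRingCat.ofHom_comp,
        IsLocalization.Away.lift_comp])
  exact ⟨hYU.lift _ ((yon _).map k) ((isTerminalYon _).hom_ext _ _), hYU.lift_fst _ _ _⟩

/-- The projection of the completed piece of a chart to the completed piece of the base. -/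
noncomputable def chartX (R' : Type u) [CommRing R'] [Algebra R R'] (A : Type u) [CommRing A] [Algebra R A] :
    glueX (R' ⊗[R] A) (Spec.map (CommRingCat.ofHom (algebraMap R A))) ⟶ baseX R R' :=
  CategoryTheory.Over.homMk (Spec.map (CommRingCat.ofHom Algebra.TensorProduct.includeLeftRingHom)) (by
    show Spec.map _ ≫ Spec.map _ = Spec.map _ ≫ Spec.map _
    rw [← Spec.map_comp, ← Spec.map_comp]
    exact congrArg Spec.map (CommRingCat.isPushout_tensorProduct R R' A).w)

include hYX in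
/-- The lift of the completed piece of a chart. -/
theorem exists_liftX {A : Type u} [CommRing A] [Algebra R A] (g : (yon _).obj (specR A) ⟶ Y) :
    ∃ v : (yon _).obj (glueX (R' ⊗[R] A) (Spec.map (CommRingCat.ofHom (algebraMap R A)))) ⟶ YX,
      v ≫ xY = (yon _).map (glueXι (R' ⊗[R] A) (Spec.map (CommRingCat.ofHom (algebraMap R A)))) ≫ g ∧
      v ≫ rY = (yon _).map (chartX R' A) :=
  ⟨hYX.lift _ ((yon _).map (chartX R' A)) ((isTerminalYon _).hom_ext _ _), hYX.lift_fst _ _ _, hYX.lift_snd _ _ _⟩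

include hRR' hY hYU hYX agree hZ in
theorem exists_chart (hZd : IsAffineMor (Limits.diag Z)) {A : Type u} [CommRing A] [Algebra R A]
    (g : (yon _).obj (specR A) ⟶ Y) (hg : RepWith @Etale g) : ∃ z, Compat uY aU xY bX g z := by
  obtain ⟨vU, hvU⟩ := exists_liftU hYU g
  obtain ⟨vX, hvX, hvX'⟩ := exists_liftX hYX g
  obtain ⟨z, hzU, hzX⟩ := exists_desc_glue (A' := R' ⊗[R] A) (fA := algebraMap R A f)
    (str := Spec.map (CommRingCat.ofHom (algebraMap R A)))
    (EtGlue7.glueingPair_of_isGlueable hRR'.1 A (hY A g hg)) (chart_glueable hY hRR' g hg) hZ hZd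
    (vU ≫ aU) (vX ≫ bX) (fun V bU bX' e => by
      rw [← Category.assoc, ← Category.assoc]
      refine agree _ _ ?_
      rw [Category.assoc, Category.assoc, hvU, hvX, ← Functor.map_comp_assoc, ← Functor.map_comp_assoc]
      exact congrArg (fun m => (yon _).map m ≫ g) e)
  refine ⟨z, ⟨fun {T} j v e => ?_, fun {T} j v e => ?_⟩⟩
  · obtain ⟨j, rfl⟩ := (yon _).map_surjective j
    let t := (yon _).preimage (v ≫ sY)
    have ht : j.left ≫ Spec.map (CommRingCat.ofHom (algebraMap R A)) =
        t.left ≫ Spec.map (CommRingCat.ofHom (algebraMap R (Localization.Away f))) :=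
      (Over.w j).trans (Over.w t).symm
    have hι : IsOpenImmersion (glueUι (algebraMap R A f) (Spec.map (CommRingCat.ofHom (algebraMap R A)))).left :=
      IsOpenImmersion.of_isLocalization (algebraMap R A f)
    have hrange : Set.range j.left ⊆
        Set.range (glueUι (algebraMap R A f) (Spec.map (CommRingCat.ofHom (algebraMap R A)))).left := by
      rintro _ ⟨x, rfl⟩
      have hx : (Spec.map (CommRingCat.ofHom (algebraMap R A))) (j.left x) ∈
          ((PrimeSpectrum.basicOpen f : TopologicalSpace.Opens (PrimeSpectrum R)) : Set (PrimeSpectrum R)) := by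
        rw [← PrimeSpectrum.localization_away_comap_range (Localization.Away f) f]
        exact ⟨t.left x, (congrArg (fun m : T.left ⟶ Spec (CommRingCat.of R) => m x) ht).symm⟩
      have hx' : j.left x ∈ ((PrimeSpectrum.basicOpen (algebraMap R A f) : TopologicalSpace.Opens (PrimeSpectrum A)) :
          Set (PrimeSpectrum A)) := hx
      rw [← PrimeSpectrum.localization_away_comap_range (Localization.Away (algebraMap R A f)) (algebraMap R A f)] at hx'
      exact hx'
    let k : T ⟶ glueU (algebraMap R A f) (Spec.map (CommRingCat.ofHom (algebraMap R A))) :=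
      CategoryTheory.Over.homMk (IsOpenImmersion.lift _ _ hrange) (by
        rw [← Over.w (glueUι (algebraMap R A f) (Spec.map (CommRingCat.ofHom (algebraMap R A)))),
          IsOpenImmersion.lift_fac_assoc]
        exact Over.w j)
    have hk : k ≫ glueUι (algebraMap R A f) (Spec.map (CommRingCat.ofHom (algebraMap R A))) = j :=
      Over.OverMorphism.ext (IsOpenImmersion.lift_fac _ _ _)
    have : IsOpenImmersion (baseU R f).hom :=
      IsOpenImmersion.of_isLocalization f
    have hv : (yon _).map k ≫ vU = v := by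
      refine hYU.hom_ext ?_ ?_
      · rw [Category.assoc, hvU, ← Functor.map_comp_assoc, hk, e]
      · obtain ⟨s₁, hs₁⟩ := (yon _).map_surjective (((yon _).map k ≫ vU) ≫ sY)
        obtain ⟨s₂, hs₂⟩ := (yon _).map_surjective (v ≫ sY)
        rw [← hs₁, ← hs₂]
        exact congrArg _ (Over.OverMorphism.ext
          ((cancel_mono (baseU R f).hom).1 ((Over.w s₁).trans (Over.w s₂).symm)))
    rw [← hk, Functor.map_comp, Category.assoc, hzU, ← Category.assoc, hv]
  · obtain ⟨j, rfl⟩ := (yon _).map_surjective j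
    obtain ⟨t, ht⟩ := (yon _).map_surjective (v ≫ rY)
    have hsq := isPullback_SpecMap_of_isPushout _ _ _ _ (CommRingCat.isPushout_tensorProduct R R' A)
    let l := hsq.lift t.left j.left ((Over.w t).trans (Over.w j).symm)
    let k : T ⟶ glueX (R' ⊗[R] A) (Spec.map (CommRingCat.ofHom (algebraMap R A))) :=
      CategoryTheory.Over.homMk l (by
        show l ≫ Spec.map _ ≫ _ = _
        rw [← Category.assoc]
        exact (congrArg (· ≫ _) (hsq.lift_snd _ _ _)).trans (Over.w j))
    have hk : k ≫ glueXι (R' ⊗[R] A) (Spec.map (CommRingCat.ofHom (algebraMap R A))) = j :=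
      Over.OverMorphism.ext (hsq.lift_snd _ _ _)
    have hv : (yon _).map k ≫ vX = v := by
      refine hYX.hom_ext ?_ ?_
      · rw [Category.assoc, hvX, ← Functor.map_comp_assoc, hk, e]
      · rw [Category.assoc, hvX', ← Functor.map_comp, ← ht]
        exact congrArg _ (Over.OverMorphism.ext (hsq.lift_fst _ _ _))
    rw [← hk, Functor.map_comp, Category.assoc, hzX, ← Category.assoc, hv]

/-- An affine scheme over `Spec R` is the spectrum of an algebra. -/
theorem exists_specR_iso (W : Over (Spec (CommRingCat.of R))) [IsAffine W.left] :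
    ∃ (A : Type u) (_ : CommRing A) (_ : Algebra R A), Nonempty (specR A ≅ W) := by
  obtain ⟨γ, hγ⟩ := Spec.map_surjective (W.left.isoSpec.inv ≫ W.hom)
  let _ : Algebra R Γ(W.left, ⊤) := γ.hom.toAlgebra
  exact ⟨Γ(W.left, ⊤), inferInstance, γ.hom.toAlgebra, ⟨CategoryTheory.Over.isoMk W.left.isoSpec.symm hγ.symm⟩⟩

include hRR' hY hYU hYX hZ in
theorem eq_of_compat {P : Over (Spec (CommRingCat.of R))} (h : (yon _).obj P ⟶ Y) (hh : RepWith @Etale h)
    {m m' : (yon _).obj P ⟶ Z} (hm : Compat uY aU xY bX h m) (hm' : Compat uY aU xY bX h m') : m = m' := by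
  refine hom_ext_of_openCover P.left.affineCover _ _ fun j => ?_
  let k : Over.mk (P.left.affineCover.f j ≫ P.hom) ⟶ P := CategoryTheory.Over.homMk (P.left.affineCover.f j) rfl
  have : IsAffine (Over.mk (P.left.affineCover.f j ≫ P.hom)).left := inferInstanceAs (IsAffine (P.left.affineCover.X j))
  have : IsOpenImmersion k.left := inferInstanceAs (IsOpenImmersion (P.left.affineCover.f j))
  obtain ⟨A, _, _, ⟨i⟩⟩ := exists_specR_iso (Over.mk (P.left.affineCover.f j ≫ P.hom))
  let k' : specR A ⟶ P := i.hom ≫ k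
  have hk' : Etale k'.left := by
    show Etale (i.hom.left ≫ k.left)
    infer_instance
  have hg : RepWith @Etale ((yon _).map k' ≫ h) := repWith_comp ((repWith_yon_map_iff _ _).2 hk') hh
  refine (cancel_epi ((yon _).map i.hom)).1 ?_
  show (yon _).map i.hom ≫ (yon _).map k ≫ m = (yon _).map i.hom ≫ (yon _).map k ≫ m'
  rw [← Functor.map_comp_assoc, ← Functor.map_comp_assoc]
  obtain ⟨vU, hvU⟩ := exists_liftU hYU ((yon _).map k' ≫ h)
  obtain ⟨vX, hvX, -⟩ := exists_liftX hYX ((yon _).map k' ≫ h)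
  exact eq_of_glueable (A := A) (A' := R' ⊗[R] A) (fA := algebraMap R A f)
    (str := Spec.map (CommRingCat.ofHom (algebraMap R A))) (EtGlue7.quotPow_tensor hRR'.1 A)
    (chart_glueable hY hRR' _ hg) hZ _ _
    (((hm.comp _).onU _ vU hvU.symm).trans ((hm'.comp _).onU _ vU hvU.symm).symm)
    (((hm.comp _).onX _ vX hvX.symm).trans ((hm'.comp _).onX _ vX hvX.symm).symm)

include hRR' hY hYU hYX agree hZ in
theorem existsUnique_compat (hYalg : IsAlgSpace Y) (hZd : IsAffineMor (Limits.diag Z)) :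
    ∃! φ : Y ⟶ Z, Compat uY aU xY bX (𝟙 Y) φ := by
  obtain ⟨U₀, q₀, hq₀, hq₀s⟩ := hYalg.atlas
  let K : U₀.left.affineCover.I₀ → Over (Spec (CommRingCat.of R)) := fun j => Over.mk (U₀.left.affineCover.f j ≫ U₀.hom)
  let k : ∀ j, K j ⟶ U₀ := fun j => CategoryTheory.Over.homMk (U₀.left.affineCover.f j) rfl
  have hloc : ∀ j, ∃ z, Compat uY aU xY bX ((yon _).map (k j) ≫ q₀) z := by
    intro j
    have : IsAffine (K j).left := inferInstanceAs (IsAffine (U₀.left.affineCover.X j))
    have : IsOpenImmersion (k j).left := inferInstanceAs (IsOpenImmersion (U₀.left.affineCover.f j))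
    obtain ⟨A, _, _, ⟨i⟩⟩ := exists_specR_iso (K j)
    have : Etale (i.hom ≫ k j).left := by
      show Etale (i.hom.left ≫ (k j).left)
      infer_instance
    obtain ⟨z, hz⟩ := exists_chart hRR' hY hYU hYX agree hZ hZd ((yon _).map (i.hom ≫ k j) ≫ q₀)
      (repWith_comp ((repWith_yon_map_iff _ _).2 this) hq₀)
    refine ⟨(yon _).map i.inv ≫ z, ?_⟩
    have := hz.comp ((yon _).map i.inv)
    rwa [← Functor.map_comp_assoc, Iso.inv_hom_id_assoc] at this
  choose z hz using hloc
  let ψ : sigmaOver K ⟶ U₀ := CategoryTheory.Over.homMk (Sigma.desc fun j => (k j).left) (by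
    apply Sigma.hom_ext
    intro j
    show Sigma.ι _ j ≫ Sigma.desc _ ≫ U₀.hom = Sigma.ι _ j ≫ Sigma.desc _
    rw [Sigma.ι_desc_assoc, Sigma.ι_desc, Over.w (k j)])
  have hψι : ∀ j, sigmaι K j ≫ ψ = k j := fun j => Over.OverMorphism.ext (Sigma.ι_desc _ _)
  have : Etale ψ.left := IsZariskiLocalAtSource.sigmaDesc fun j =>
    inferInstanceAs (Etale (U₀.left.affineCover.f j))
  have : Surjective ψ.left := ⟨fun x => by
    obtain ⟨j, w, hw⟩ := U₀.left.affineCover.exists_eq x
    exact ⟨(sigmaι K j).left w, by rw [← Scheme.Hom.comp_apply, ← Over.comp_left, hψι]; exact hw⟩⟩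
  let q : (yon _).obj (sigmaOver K) ⟶ Y := (yon _).map ψ ≫ q₀
  have hqe : RepWith @Etale q := repWith_comp ((repWith_yon_map_iff _ _).2 ‹Etale ψ.left›) hq₀
  have hqs : RepWith @Surjective q := repWith_comp ((repWith_yon_map_iff _ _).2 ‹Surjective ψ.left›) hq₀s
  obtain ⟨zP, hzP⟩ := exists_hom_sigma K z
  have hcP : Compat uY aU xY bX q zP := Compat.sigma K fun j => by
    rw [← Category.assoc, ← Functor.map_comp, hψι, hzP]
    exact hz j
  have := isLocallySurjective_of_etale_surjective hqe hqs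
  let t := (yon _).preimage (hqe.rep.fst q)
  let s := hqe.rep.snd q
  have hR : IsPullback ((yon _).map t) ((yon _).map s) q q := by
    rw [Functor.map_preimage]; exact hqe.rep.isPullback q
  have hs : RepWith @Etale ((yon _).map s ≫ q) := repWith_comp ((repWith_yon_map_iff _ _).2 (hqe.property_snd q)) hqe
  obtain ⟨φ, hφ⟩ := exists_desc_of_kernelPair hR zP
    (eq_of_compat hRR' hY hYU hYX hZ _ hs (hR.w ▸ hcP.comp _) (hcP.comp _))
  refine ⟨φ, Compat.descend hqe hqs (hφ.symm ▸ hcP), fun φ' hφ' => ?_⟩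
  have := epi_of_etale_surjective hqe hqs
  refine (cancel_epi q).1 ?_
  rw [hφ]
  have := hφ'.comp q
  rw [Category.comp_id] at this
  exact eq_of_compat hRR' hY hYU hYX hZ q hqe this hcP

end


/-- Let `(R → R', f)` be a glueing pair, `X = Spec R`, `U = Spec R_f`, `X' = Spec R'`, `U' = U ×_X X'`,
and let `Y`, `Z` be algebraic spaces over `X`, glueable for `(R → R', f)`, with `Z` having affine
diagonal over `X`. Then morphisms `a : U ×_X Y → U ×_X Z` over `U` and `b : X' ×_X Y → X' ×_X Z`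
over `X'` that induce the same morphism over `U'` are induced by a unique morphism `Y → Z` over `X`.
(The published statement asks both spaces to have affine diagonal over `X`; this row asks it only of
`Z`, which is all the argument uses.) -/
theorem result (R : Type u) [CommRing R] (R' : Type u) [CommRing R'] [Algebra R R']
    (f : R) (hRR' : EtGlue.IsGlueingPair R R' f) {Y Z YU ZU YX ZX YU' ZU' : AlgSp.Space (Spec (CommRingCat.of R))}
    (hY : (∀ (A : Type u) [CommRing A] [Algebra R A]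
      (g : (AlgSp.yon (Spec (CommRingCat.of R))).obj (Over.mk (Spec.map (CommRingCat.ofHom (algebraMap R A))) : Over (Spec (CommRingCat.of R))) ⟶ Y.obj),
      AlgSp.RepWith @Etale g → EtGlue.IsGlueable R R' f A))
    (hZ : (∀ (A : Type u) [CommRing A] [Algebra R A]
      (g : (AlgSp.yon (Spec (CommRingCat.of R))).obj (Over.mk (Spec.map (CommRingCat.ofHom (algebraMap R A))) : Over (Spec (CommRingCat.of R))) ⟶ Z.obj),
      AlgSp.RepWith @Etale g → EtGlue.IsGlueable R R' f A))
    (hZd : AlgSp.IsAffineMor (Limits.diag Z.obj)) (πY : Y.obj ⟶ (AlgSp.yon (Spec (CommRingCat.of R))).obj (Over.mk (𝟙 _)))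
    (πZ : Z.obj ⟶ (AlgSp.yon (Spec (CommRingCat.of R))).obj (Over.mk (𝟙 _)))
    (inU : (Over.mk (Spec.map (CommRingCat.ofHom (algebraMap R (Localization.Away f)))) : Over (Spec (CommRingCat.of R))) ⟶ Over.mk (𝟙 _))
    (inX : (Over.mk (Spec.map (CommRingCat.ofHom (algebraMap R R'))) : Over (Spec (CommRingCat.of R))) ⟶ Over.mk (𝟙 _))
    (uY : YU ⟶ Y) (sY : YU.obj ⟶ (AlgSp.yon (Spec (CommRingCat.of R))).obj (Over.mk (Spec.map (CommRingCat.ofHom (algebraMap R (Localization.Away f)))) : Over (Spec (CommRingCat.of R))))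
    (hYU : IsPullback uY.hom sY πY ((AlgSp.yon (Spec (CommRingCat.of R))).map inU))
    (uZ : ZU ⟶ Z) (sZ : ZU.obj ⟶ (AlgSp.yon (Spec (CommRingCat.of R))).obj (Over.mk (Spec.map (CommRingCat.ofHom (algebraMap R (Localization.Away f)))) : Over (Spec (CommRingCat.of R))))
    (hZU : IsPullback uZ.hom sZ πZ ((AlgSp.yon (Spec (CommRingCat.of R))).map inU))
    (xY : YX ⟶ Y) (rY : YX.obj ⟶ (AlgSp.yon (Spec (CommRingCat.of R))).obj (Over.mk (Spec.map (CommRingCat.ofHom (algebraMap R R'))) : Over (Spec (CommRingCat.of R))))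
    (hYX : IsPullback xY.hom rY πY ((AlgSp.yon (Spec (CommRingCat.of R))).map inX))
    (xZ : ZX ⟶ Z) (rZ : ZX.obj ⟶ (AlgSp.yon (Spec (CommRingCat.of R))).obj (Over.mk (Spec.map (CommRingCat.ofHom (algebraMap R R'))) : Over (Spec (CommRingCat.of R))))
    (hZX : IsPullback xZ.hom rZ πZ ((AlgSp.yon (Spec (CommRingCat.of R))).map inX))
    (mY₁ : YU' ⟶ YU) (mY₂ : YU' ⟶ YX) (hYU' : IsPullback mY₁.hom mY₂.hom uY.hom xY.hom)
    (mZ₁ : ZU' ⟶ ZU) (mZ₂ : ZU' ⟶ ZX) (hZU' : IsPullback mZ₁.hom mZ₂.hom uZ.hom xZ.hom)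
    (a : YU ⟶ ZU) (ha : a.hom ≫ sZ = sY) (b : YX ⟶ ZX) (hb : b.hom ≫ rZ = rY) (c : YU' ⟶ ZU')
    (hc₁ : c ≫ mZ₁ = mY₁ ≫ a) (hc₂ : c ≫ mZ₂ = mY₂ ≫ b) :
    ∃! φ : Y ⟶ Z, uY ≫ φ = a ≫ uZ ∧ xY ≫ φ = b ≫ xZ := by
  have agree : ∀ {T : Over (Spec (CommRingCat.of R))} (v : (yon _).obj T ⟶ YU.obj) (w : (yon _).obj T ⟶ YX.obj),
      v ≫ uY.hom = w ≫ xY.hom → v ≫ a.hom ≫ uZ.hom = w ≫ b.hom ≫ xZ.hom := by
    intro T v w e
    have h₁ : c.hom ≫ mZ₁.hom = mY₁.hom ≫ a.hom := congrArg (·.hom) hc₁
    have h₂ : c.hom ≫ mZ₂.hom = mY₂.hom ≫ b.hom := congrArg (·.hom) hc₂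
    rw [← hYU'.lift_fst v w e]
    conv_rhs => rw [← hYU'.lift_snd v w e]
    rw [Category.assoc, Category.assoc, ← Category.assoc mY₁.hom, ← h₁, ← Category.assoc mY₂.hom, ← h₂,
      Category.assoc, Category.assoc, hZU'.w]
  obtain ⟨φ, hφ, huniq⟩ := existsUnique_compat (aU := a.hom ≫ uZ.hom) (bX := b.hom ≫ xZ.hom) hRR' hY hYU hYX agree
    Z.property Y.property hZd
  refine ⟨ObjectProperty.homMk φ, ⟨?_, ?_⟩, fun φ' hφ' => ?_⟩
  · refine ObjectProperty.hom_ext _ (hom_ext_of_yon _ _ fun T v => ?_)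
    show v ≫ uY.hom ≫ φ = v ≫ a.hom ≫ uZ.hom
    rw [← Category.assoc]
    exact hφ.onU (v ≫ uY.hom) v (Category.comp_id _)
  · refine ObjectProperty.hom_ext _ (hom_ext_of_yon _ _ fun T v => ?_)
    show v ≫ xY.hom ≫ φ = v ≫ b.hom ≫ xZ.hom
    rw [← Category.assoc]
    exact hφ.onX (v ≫ xY.hom) v (Category.comp_id _)
  · refine ObjectProperty.hom_ext _ (huniq _ ⟨fun j v e => ?_, fun j v e => ?_⟩)
    · rw [Category.comp_id] at e
      rw [e, Category.assoc]
      exact congrArg (v ≫ ·) (congrArg (·.hom) hφ'.1)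
    · rw [Category.comp_id] at e
      rw [e, Category.assoc]
      exact congrArg (v ≫ ·) (congrArg (·.hom) hφ'.2)

end Groth.Agent.S10726
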