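import Groth.Statements.S10728
import Groth.Agent.AlgSpDec.LqfScheme
import Groth.Agent.AlgSpDec.LqfSplitZ
import Groth.Agent.AlgSpDec.Glue
import Groth.Agent.AlgSpLib.EtLocalInst
import Groth.Agent.AlgSpLib.EtaleSmoothLocal
import Groth.Agent.S10705
import Groth.Agent.AlgSpDec.LqfQuot
import Groth.Agent.AlgSpLib.Rep
-- import your own Groth.Agent.* helpers here

set_option autoImplicit false
universe w v u
open CategoryTheory CategoryTheory.Limits AlgebraicGeometry
open AlgSp

namespace Groth.Agent.S10728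

set_option backward.isDefEq.respectTransparency false
set_option backward.isDefEq.respectTransparency.types false

open Groth.Agent.AlgSpLib Groth.Agent.AlgSpPts Groth.Agent.AlgSpDec

theorem isSeparatedMor_of_comp {S : Scheme.{u}} {F G H : Sp S} {f : F ⟶ G} {g : G ⟶ H}
    (h : IsSeparatedMor (f ≫ g)) : IsSeparatedMor f := by
  have : Mono (pullback.lift (𝟙 F) f (Category.id_comp _) : F ⟶ pullback (f ≫ g) g) :=
    (SplitMono.mono ⟨pullback.fst _ _, pullback.lift_fst _ _ _⟩)
  rw [← pullback.lift_snd (f := f ≫ g) (g := g) (𝟙 F) f (Category.id_comp _)]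
  exact isSeparatedMor_comp (isSeparatedMor_of_mono _)
    (isSeparatedMor_of_isPullback (IsPullback.of_hasPullback (f ≫ g) g) h)

theorem isSeparatedMor_of_affine {S : Scheme.{u}} {K : Over S} [IsAffine K.left] {G : Sp S}
    (f : (yon S).obj K ⟶ G) : IsSeparatedMor f := by
  refine isSeparatedMor_of_comp (g := (isTerminalYon S).from G) ?_
  let m : K ⟶ Over.mk (𝟙 S) := CategoryTheory.Over.homMk K.hom (Category.comp_id _)
  rw [show f ≫ (isTerminalYon S).from G = (yon S).map m from (isTerminalYon S).hom_ext _ _]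
  exact (isSeparatedMor_yon_map_iff _).2 (inferInstanceAs (IsSeparated K.hom))

theorem hom_ext_of_yon {S : Scheme.{u}} {F G : Sp S} (a b : F ⟶ G)
    (h : ∀ (T : Over S) (v : (yon S).obj T ⟶ F), v ≫ a = v ≫ b) : a = b := by
  refine ObjectProperty.hom_ext _ (NatTrans.ext (funext fun T => ?_))
  ext x
  have := congrArg (J S).uliftYonedaEquiv (h T.unop ((J S).uliftYonedaEquiv.symm x))
  rwa [GrothendieckTopology.uliftYonedaEquiv_comp, GrothendieckTopology.uliftYonedaEquiv_comp,
    Equiv.apply_symm_apply] at this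

section

variable {S : Scheme.{u}} {B : AlgSp.Space S} {P : ObjectProperty (Over B)}

/-- The underlying sheaf. -/
abbrev sp (A : P.FullSubcategory) : Sp S := A.obj.left.obj

/-- The structure map. -/
abbrev st (A : P.FullSubcategory) : sp A ⟶ B.obj := A.obj.hom.hom

/-- The underlying map. -/
abbrev mor {A C : P.FullSubcategory} (m : A ⟶ C) : sp A ⟶ sp C := m.hom.left.hom

theorem mor_ext {A C : P.FullSubcategory} {m m' : A ⟶ C} (h : mor m = mor m') : m = m' :=
  ObjectProperty.hom_ext _ (Over.OverMorphism.ext (ObjectProperty.hom_ext _ h))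

theorem mor_w {A C : P.FullSubcategory} (m : A ⟶ C) : mor m ≫ st C = st A :=
  congrArg (·.hom) (Over.w m.hom)

/-- A map over the base. -/
def mkMor {A C : P.FullSubcategory} (m : sp A ⟶ sp C) (w : m ≫ st C = st A) : A ⟶ C :=
  ObjectProperty.homMk (CategoryTheory.Over.homMk (ObjectProperty.homMk m) (ObjectProperty.hom_ext _ w))

variable (hP : ∀ T : Over B, P T ↔ AlgSp.IsSeparatedMor T.hom.hom)

/-- A separated space over the base. -/
def mkObj (F : Sp S) (hF : IsAlgSpace F) (f : F ⟶ B.obj) (h : IsSeparatedMor f) : P.FullSubcategory :=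
  ⟨Over.mk (ObjectProperty.homMk f : (⟨F, hF⟩ : AlgSp.Space S) ⟶ B), (hP _).2 h⟩

variable {I : Type v} [Category.{w} I] {D : I ⥤ P.FullSubcategory} (c : Cocone D)
  (h₄ : ∀ (D' : I ⥤ P.FullSubcategory) (α : D' ⟶ D) (c' : Cocone D') (a : c'.pt ⟶ c.pt),
      AlgSp.IsEtaleMor a.hom.left.hom → AlgSp.IsSeparatedMor a.hom.left.hom →
      (∀ i, IsPullback (c'.ι.app i).hom.left.hom (α.app i).hom.left.hom a.hom.left.hom (c.ι.app i).hom.left.hom) →
        Nonempty (IsColimit c'))

include hP in
/-- Maps from a colimit of separated spaces into any space are determined by the restrictions. -/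
theorem sp_ext {D' : I ⥤ P.FullSubcategory} (c' : Cocone D') (hc' : IsColimit c') {X : Over B}
    (a b : sp c'.pt ⟶ X.left.obj) (ha : a ≫ X.hom.hom = st c'.pt) (hb : b ≫ X.hom.hom = st c'.pt)
    (e : ∀ i, mor (c'.ι.app i) ≫ a = mor (c'.ι.app i) ≫ b) : a = b := by
  let g : sp c'.pt ⟶ pullback X.hom.hom X.hom.hom := pullback.lift a b (ha.trans hb.symm)
  have hm : Mono (pullback.fst g (pullback.diagonal X.hom.hom)) := inferInstance
  have hE : IsAlgSpace (pullback g (pullback.diagonal X.hom.hom)) :=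
    isAlgSpace_pullback c'.pt.obj.left.property X.left.property
      (isAlgSpace_pullback X.left.property X.left.property B.property _ _) _ _
  let E := mkObj hP _ hE (pullback.fst g (pullback.diagonal X.hom.hom) ≫ st c'.pt)
    (isSeparatedMor_comp (isSeparatedMor_of_mono _) ((hP _).1 c'.pt.property))
  let e' : E ⟶ c'.pt := mkMor (pullback.fst _ _) rfl
  have hfac : ∀ i, mor (c'.ι.app i) ≫ g = (mor (c'.ι.app i) ≫ a) ≫ pullback.diagonal X.hom.hom := fun i => by
    apply pullback.hom_ext
    · simp [g]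
    · simpa [g] using (e i).symm
  let l : ∀ i, D'.obj i ⟶ E := fun i => mkMor (pullback.lift (mor (c'.ι.app i)) (mor (c'.ι.app i) ≫ a) (hfac i)) (by
    show _ ≫ pullback.fst _ _ ≫ _ = _
    rw [← Category.assoc, pullback.lift_fst]
    exact mor_w _)
  have hl : ∀ i, l i ≫ e' = c'.ι.app i := fun i => mor_ext (pullback.lift_fst _ _ _)
  let co : Cocone D' := Cocone.mk E
    { app := l
      naturality := fun i j φ => mor_ext ((cancel_mono (pullback.fst g (pullback.diagonal X.hom.hom))).1 (by
        show mor ((D'.map φ ≫ l j) ≫ e') = mor ((l i ≫ 𝟙 E) ≫ e')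
        rw [Category.assoc, hl, Category.assoc, Category.id_comp, hl, c'.w])) }
  have h1 : hc'.desc co ≫ e' = 𝟙 _ := hc'.hom_ext fun i => by
    rw [← Category.assoc, hc'.fac co i, hl]
    exact (Category.comp_id _).symm
  have h2 : mor (hc'.desc co) ≫ pullback.fst g (pullback.diagonal X.hom.hom) = 𝟙 _ := congrArg mor h1
  have h3 : g = (mor (hc'.desc co) ≫ pullback.snd g (pullback.diagonal X.hom.hom)) ≫ pullback.diagonal X.hom.hom := by
    rw [Category.assoc, ← pullback.condition, ← Category.assoc]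
    exact (Category.id_comp g).symm.trans (congrArg (· ≫ g) h2.symm)
  have h4 := congrArg (· ≫ pullback.fst _ _) h3
  have h5 := congrArg (· ≫ pullback.snd _ _) h3
  simp only [g, Category.assoc, pullback.diagonal_fst, pullback.diagonal_snd, Category.comp_id,
    pullback.lift_fst, pullback.lift_snd] at h4 h5
  exact h4.trans h5.symm

include hP in
/-- The pullback of a cocone along a map to its vertex. -/
theorem exists_pullback_cocone {V : P.FullSubcategory} (b : V ⟶ c.pt) :
    ∃ (D' : I ⥤ P.FullSubcategory) (α : D' ⟶ D) (ι : D' ⟶ (Functor.const I).obj V),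
      ∀ i, IsPullback (mor (ι.app i)) (mor (α.app i)) (mor b) (mor (c.ι.app i)) := by
  have hsep : ∀ i, IsSeparatedMor (pullback.fst (mor b) (mor (c.ι.app i)) ≫ st V) := fun i => by
    refine isSeparatedMor_comp (isSeparatedMor_of_isPullback (IsPullback.of_hasPullback _ _).flip ?_) ((hP _).1 V.property)
    refine isSeparatedMor_of_comp (g := st c.pt) ?_
    rw [mor_w]
    exact (hP _).1 (D.obj i).property
  let O : I → P.FullSubcategory := fun i => mkObj hP (pullback (mor b) (mor (c.ι.app i)))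
    (isAlgSpace_pullback V.obj.left.property (D.obj i).obj.left.property c.pt.obj.left.property _ _) _ (hsep i)
  have hcw : ∀ {i j : I} (φ : i ⟶ j), mor (D.map φ) ≫ mor (c.ι.app j) = mor (c.ι.app i) := fun φ =>
    congrArg mor (c.w φ)
  let M : ∀ {i j : I}, (i ⟶ j) → (O i ⟶ O j) := fun {i j} φ => mkMor
    (pullback.lift (pullback.fst _ _) (pullback.snd _ _ ≫ mor (D.map φ))
      (by rw [Category.assoc, hcw]; exact pullback.condition))
    (by
      show pullback.lift _ _ _ ≫ pullback.fst _ _ ≫ _ = pullback.fst _ _ ≫ _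
      rw [← Category.assoc, pullback.lift_fst])
  refine ⟨{ obj := O
            map := M
            map_id := fun i => mor_ext (pullback.hom_ext ((pullback.lift_fst _ _ _).trans (Category.id_comp _).symm)
              ((pullback.lift_snd _ _ _).trans ?_))
            map_comp := fun {i j k} φ ψ => mor_ext (pullback.hom_ext ?_ ?_) },
    { app := fun i => mkMor (pullback.snd _ _) ?_, naturality := fun i j φ => mor_ext (pullback.lift_snd _ _ _) },
    { app := fun i => mkMor (pullback.fst _ _) rfl, naturality := fun i j φ => mor_ext ?_ },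
    fun i => IsPullback.of_hasPullback _ _⟩
  · rw [show mor (D.map (𝟙 i)) = 𝟙 _ from congrArg mor (D.map_id i), Category.comp_id]
    exact (Category.id_comp _).symm
  · exact ((pullback.lift_fst _ _ _).trans ((pullback.lift_fst _ _ _).symm.trans
   ((congrArg (_ ≫ ·) (pullback.lift_fst _ _ _).symm).trans (Category.assoc _ _ _).symm)))
  · exact (pullback.lift_snd _ _ _).trans ((congrArg (_ ≫ ·) (congrArg mor (D.map_comp φ ψ))).trans
   ((Category.assoc _ _ _).symm.trans ((congrArg (· ≫ mor (D.map ψ)) (pullback.lift_snd _ _ _).symm).trans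
   ((Category.assoc _ _ _).trans ((congrArg (_ ≫ ·) (pullback.lift_snd _ _ _).symm).trans (Category.assoc _ _ _).symm)))))
  · show pullback.snd _ _ ≫ _ = pullback.fst _ _ ≫ _
    rw [← mor_w (c.ι.app i), ← mor_w b, pullback.condition_assoc]
    rfl
  · show pullback.lift _ _ _ ≫ pullback.fst _ _ = pullback.fst _ _ ≫ 𝟙 _
    rw [pullback.lift_fst]
    exact (Category.comp_id _).symm

variable (h₅ : ∀ (D' : I ⥤ P.FullSubcategory) (α : D' ⟶ D),
      (∀ ⦃i j : I⦄ (g : i ⟶ j), IsPullback (D'.map g).hom.left.hom (α.app i).hom.left.hom (α.app j).hom.left.hom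
        (D.map g).hom.left.hom) →
      (∀ i, AlgSp.IsEtaleMor (α.app i).hom.left.hom) → (∀ i, AlgSp.IsSeparatedMor (α.app i).hom.left.hom) →
        ∃ (c' : Cocone D') (a : c'.pt ⟶ c.pt), AlgSp.IsEtaleMor a.hom.left.hom ∧ AlgSp.IsSeparatedMor a.hom.left.hom ∧
          ∀ i, IsPullback (c'.ι.app i).hom.left.hom (α.app i).hom.left.hom a.hom.left.hom (c.ι.app i).hom.left.hom)
  {X : Over B} (s : ∀ i, sp (D.obj i) ⟶ X.left.obj) (hsB : ∀ i, s i ≫ X.hom.hom = st (D.obj i))
  (hs : ∀ ⦃i j⦄ (φ : i ⟶ j), mor (D.map φ) ≫ s j = s i)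

include hP h₄ h₅ hs hsB in
theorem exists_chart_desc {K : Over S} [IsAffine K.left] (g : (yon S).obj K ⟶ X.left.obj) (hg : RepWith @Etale g) :
    ∃ (W : Over S) (a : (yon S).obj W ⟶ sp c.pt) (t : (yon S).obj W ⟶ X.left.obj), RepWith @Etale a ∧
      t ≫ X.hom.hom = a ≫ st c.pt ∧
      (∀ i (T : Over S) (l : T ⟶ W) (d : (yon S).obj T ⟶ sp (D.obj i)), (yon S).map l ≫ a = d ≫ mor (c.ι.app i) →
        (yon S).map l ≫ t = d ≫ s i) ∧
      ∀ i (y : AlgSp.Points (sp (D.obj i))), AlgSp.Points.map (s i) y ∈ Set.range (AlgSp.Points.map g) →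
        AlgSp.Points.map (mor (c.ι.app i)) y ∈ Set.range (AlgSp.Points.map a) := by
  have hsepK : IsSeparatedMor g := isSeparatedMor_of_affine g
  have hsepD : ∀ i, IsSeparatedMor (pullback.snd g (s i)) := fun i =>
    isSeparatedMor_of_isPullback (IsPullback.of_hasPullback g (s i)) hsepK
  have hetD : ∀ i, IsEtaleMor (pullback.snd g (s i)) := fun i =>
    isEtaleMor_of_isPullback (IsPullback.of_hasPullback g (s i)) (IsAlgSpace.yon_obj K) X.left.property
      (D.obj i).obj.left.property (isEtaleMor_of_repWith hg)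
  let O : I → P.FullSubcategory := fun i => mkObj hP (pullback g (s i))
    (isAlgSpace_pullback (IsAlgSpace.yon_obj K) (D.obj i).obj.left.property X.left.property _ _)
    (pullback.snd g (s i) ≫ st (D.obj i)) (isSeparatedMor_comp (hsepD i) ((hP _).1 (D.obj i).property))
  let M : ∀ {i j : I}, (i ⟶ j) → (O i ⟶ O j) := fun {i j} φ => mkMor
    (pullback.lift (pullback.fst _ _) (pullback.snd _ _ ≫ mor (D.map φ))
      (by rw [Category.assoc, hs]; exact pullback.condition))
    (by
      show pullback.lift _ _ _ ≫ pullback.snd _ _ ≫ _ = pullback.snd _ _ ≫ _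
      rw [← Category.assoc, pullback.lift_snd, Category.assoc, mor_w])
  obtain ⟨D', α, fs, hM, hα, hfs⟩ : ∃ (D' : I ⥤ P.FullSubcategory) (α : D' ⟶ D) (fs : ∀ i, sp (D'.obj i) ⟶ (yon S).obj K),
      (∀ i, IsPullback (fs i) (mor (α.app i)) g (s i)) ∧
      (∀ i, IsEtaleMor (mor (α.app i)) ∧ IsSeparatedMor (mor (α.app i))) ∧
      ∀ ⦃i j⦄ (φ : i ⟶ j), mor (D'.map φ) ≫ fs j = fs i := by
    refine ⟨{ obj := O
              map := M
              map_id := fun i => mor_ext (pullback.hom_ext ((pullback.lift_fst _ _ _).trans (Category.id_comp _).symm)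
                ((pullback.lift_snd _ _ _).trans ?_))
              map_comp := fun {i j k} φ ψ => mor_ext (pullback.hom_ext ?_ ?_) },
      { app := fun i => mkMor (pullback.snd _ _) rfl, naturality := fun i j φ => mor_ext (pullback.lift_snd _ _ _) },
      fun i => pullback.fst _ _, fun i => IsPullback.of_hasPullback _ _, fun i => ⟨hetD i, hsepD i⟩,
      fun i j φ => pullback.lift_fst _ _ _⟩
    · rw [show mor (D.map (𝟙 i)) = 𝟙 _ from congrArg mor (D.map_id i), Category.comp_id]
      exact (Category.id_comp _).symm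
    · exact ((pullback.lift_fst _ _ _).trans ((pullback.lift_fst _ _ _).symm.trans
   ((congrArg (_ ≫ ·) (pullback.lift_fst _ _ _).symm).trans (Category.assoc _ _ _).symm)))
    · exact (pullback.lift_snd _ _ _).trans ((congrArg (_ ≫ ·) (congrArg mor (D.map_comp φ ψ))).trans
   ((Category.assoc _ _ _).symm.trans ((congrArg (· ≫ mor (D.map ψ)) (pullback.lift_snd _ _ _).symm).trans
   ((Category.assoc _ _ _).trans ((congrArg (_ ≫ ·) (pullback.lift_snd _ _ _).symm).trans (Category.assoc _ _ _).symm)))))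
  have hsq : ∀ ⦃i j : I⦄ (φ : i ⟶ j), IsPullback (mor (D'.map φ)) (mor (α.app i)) (mor (α.app j)) (mor (D.map φ)) :=
    fun i j φ => by
      refine IsPullback.of_right ?_ (congrArg mor (α.naturality φ)) (hM j)
      rw [hfs φ, hs φ]
      exact hM i
  obtain ⟨c', a, hae, has, hap⟩ := h₅ D' α hsq (fun i => (hα i).1) (fun i => (hα i).2)
  obtain ⟨hc'⟩ := h₄ D' α c' a hae has hap
  let Kobj := mkObj hP _ (IsAlgSpace.yon_obj K) (g ≫ X.hom.hom) (isSeparatedMor_of_affine _)
  let co : Cocone D' := Cocone.mk Kobj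
    { app := fun i => mkMor (fs i) (by
        show fs i ≫ g ≫ X.hom.hom = _
        rw [← Category.assoc, (hM i).w, Category.assoc, hsB]
        exact mor_w _)
      naturality := fun i j φ => mor_ext ((hfs φ).trans (Category.comp_id _).symm) }
  let m := mor (hc'.desc co)
  have hm : ∀ i, mor (c'.ι.app i) ≫ m = fs i := fun i => congrArg mor (hc'.fac co i)
  have hmB : m ≫ g ≫ X.hom.hom = st c'.pt := mor_w (hc'.desc co)
  obtain ⟨W, q, hq, hqs⟩ := c'.pt.obj.left.property.atlas
  refine ⟨W, q ≫ mor a, q ≫ m ≫ g, hae q hq, ?_, fun i T l d hld => ?_, fun i y hy => ?_⟩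
  · rw [Category.assoc, Category.assoc, Category.assoc, hmB, ← mor_w a]
  · obtain ⟨r, hr₁, hr₂⟩ := (hap i).exists_lift ((yon S).map l ≫ q) d (by rw [Category.assoc]; exact hld)
    rw [← Category.assoc, ← hr₁, ← hr₂]
    simp only [Category.assoc]
    rw [← Category.assoc (mor (c'.ι.app i)), hm, (hM i).w]
  · obtain ⟨k, hk⟩ := hy
    obtain ⟨x, -, hx⟩ := exists_point_of_isPullback (hM i) hk
    obtain ⟨w, hw⟩ := surjective_ofPt hqs (AlgSp.Points.map (mor (c'.ι.app i)) x)
    refine ⟨AlgSp.Points.ofScheme W w, ?_⟩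
    rw [← AlgSp.Points.ofPt_eq_map_ofScheme, ← AlgSp.Points.map_ofPt, hw, ← AlgSp.Points.map_comp, ← hx,
      ← AlgSp.Points.map_comp, (hap i).w]

include hP h₄ h₅ hs hsB in
theorem exists_sp_desc (h₃ : ∀ x : AlgSp.Points (sp c.pt), ∃ (i : I) (y : AlgSp.Points (sp (D.obj i))),
      AlgSp.Points.map (mor (c.ι.app i)) y = x) :
    ∃ z : sp c.pt ⟶ X.left.obj, z ≫ X.hom.hom = st c.pt ∧ ∀ i, mor (c.ι.app i) ≫ z = s i := by
  obtain ⟨U₀, q₀, hq₀, hq₀s⟩ := X.left.property.atlas
  let K : U₀.left.affineCover.I₀ → Over S := fun j => Over.mk (U₀.left.affineCover.f j ≫ U₀.hom)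
  let k : ∀ j, K j ⟶ U₀ := fun j => CategoryTheory.Over.homMk (U₀.left.affineCover.f j) rfl
  have hge : ∀ j, RepWith @Etale ((yon S).map (k j) ≫ q₀) := fun j =>
    repWith_comp ((repWith_yon_map_iff _ _).2 (inferInstanceAs (Etale (U₀.left.affineCover.f j)))) hq₀
  choose W a t hae htB hcomp hrange using fun j => (
    have : IsAffine (K j).left := inferInstanceAs (IsAffine (U₀.left.affineCover.X j))
    exists_chart_desc hP c h₄ h₅ s hsB hs ((yon S).map (k j) ≫ q₀) (hge j))
  obtain ⟨q, hq⟩ := exists_hom_sigma W a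
  obtain ⟨zP, hzP⟩ := exists_hom_sigma W t
  have hqm : ∀ j, Representable (a j) := fun j => (hae j).rep
  have hqr : Representable q := representable_from_yon' c.pt.obj.left.property q
  have hqe : RepWith @Etale q := repWith_etale_sigma hqr fun j => by rw [hq]; exact hae j
  have hqs : RepWith @Surjective q := repWith_surjective_of_surjective hqr fun x => by
    obtain ⟨i, y, rfl⟩ := h₃ x
    obtain ⟨v, hv⟩ := surjective_ofPt hq₀s (AlgSp.Points.map (s i) y)
    obtain ⟨j, w, hw⟩ := U₀.left.affineCover.exists_eq v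
    have hy : AlgSp.Points.map (s i) y ∈ Set.range (AlgSp.Points.map ((yon S).map (k j) ≫ q₀)) := by
      refine ⟨AlgSp.Points.ofScheme (K j) w, ?_⟩
      rw [← AlgSp.Points.ofPt_eq_map_ofScheme, ofPt_comp, show (k j).left w = v from hw, hv]
    obtain ⟨p, hp⟩ := hrange j i y hy
    exact ⟨AlgSp.Points.map ((yon S).map (sigmaι W j)) p, by rw [← AlgSp.Points.map_comp, hq, hp]⟩
  have hB : zP ≫ X.hom.hom = q ≫ st c.pt := hom_ext_sigma W fun j => by
    rw [← Category.assoc, hzP, ← Category.assoc, hq]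
    exact htB j
  have hPcompat : ∀ i (T : Over S) (l : T ⟶ sigmaOver W) (d : (yon S).obj T ⟶ sp (D.obj i)),
      (yon S).map l ≫ q = d ≫ mor (c.ι.app i) → (yon S).map l ≫ zP = d ≫ s i := by
    intro i T l d hld
    let 𝒰 := (sigmaOpenCover fun j => (W j).left).pullback₁ l.left
    refine hom_ext_of_openCover 𝒰 _ _ fun j => ?_
    let e : Over.mk (𝒰.f j ≫ T.hom) ⟶ T := CategoryTheory.Over.homMk (𝒰.f j) rfl
    let e' : Over.mk (𝒰.f j ≫ T.hom) ⟶ W j := CategoryTheory.Over.homMk (pullback.snd _ _) (by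
      show pullback.snd _ _ ≫ (W j).hom = pullback.fst _ _ ≫ T.hom
      rw [← Over.w l, pullback.condition_assoc, ← Over.w (sigmaι W j)]
      rfl)
    have he : e' ≫ sigmaι W j = e ≫ l := Over.OverMorphism.ext pullback.condition.symm
    show (yon S).map e ≫ (yon S).map l ≫ zP = (yon S).map e ≫ d ≫ s i
    rw [← Functor.map_comp_assoc, ← he, Functor.map_comp, Category.assoc, hzP, ← Category.assoc ((yon S).map e)]
    refine hcomp j i _ e' _ ?_
    rw [← hq j, ← Category.assoc, ← Functor.map_comp, he, Functor.map_comp, Category.assoc, hld, Category.assoc]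
  have := isLocallySurjective_of_etale_surjective hqe hqs
  let tt := (yon S).preimage (hqe.rep.fst q)
  let ss := hqe.rep.snd q
  have hR : IsPullback ((yon S).map tt) ((yon S).map ss) q q := by
    rw [Functor.map_preimage]; exact hqe.rep.isPullback q
  have hsse : RepWith @Etale ((yon S).map ss) := (repWith_yon_map_iff _ _).2 (hqe.property_snd q)
  have key : (yon S).map tt ≫ zP = (yon S).map ss ≫ zP := by
    let R := hqe.rep.pullback q
    refine hom_ext_of_openCover R.left.affineCover _ _ fun l => ?_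
    let L : Over S := Over.mk (R.left.affineCover.f l ≫ R.hom)
    let lι : L ⟶ R := CategoryTheory.Over.homMk (R.left.affineCover.f l) rfl
    have : IsAffine L.left := inferInstanceAs (IsAffine (R.left.affineCover.X l))
    have hlι : RepWith @Etale ((yon S).map lι) :=
      (repWith_yon_map_iff _ _).2 (inferInstanceAs (Etale (R.left.affineCover.f l)))
    let Lobj := mkObj hP _ (IsAlgSpace.yon_obj L) ((yon S).map lι ≫ (yon S).map ss ≫ q ≫ st c.pt)
      (isSeparatedMor_of_affine _)
    let b : Lobj ⟶ c.pt := mkMor ((yon S).map lι ≫ (yon S).map ss ≫ q) (by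
      show _ = (yon S).map lι ≫ (yon S).map ss ≫ q ≫ st c.pt
      simp only [Category.assoc])
    obtain ⟨D'', α'', ι'', hpb⟩ := exists_pullback_cocone hP c b
    obtain ⟨hc''⟩ := h₄ D'' α'' (Cocone.mk _ ι'') b
      (isEtaleMor_of_repWith (repWith_comp hlι (repWith_comp hsse hqe))) (isSeparatedMor_of_affine _) hpb
    refine sp_ext hP (Cocone.mk _ ι'') hc'' (X := X) _ _ ?_ ?_ fun i => ?_
    · show ((yon S).map lι ≫ (yon S).map tt ≫ zP) ≫ X.hom.hom = (yon S).map lι ≫ (yon S).map ss ≫ q ≫ st c.pt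
      rw [Category.assoc, Category.assoc, hB, ← Category.assoc ((yon S).map tt), hR.w, Category.assoc]
    · show ((yon S).map lι ≫ (yon S).map ss ≫ zP) ≫ X.hom.hom = (yon S).map lι ≫ (yon S).map ss ≫ q ≫ st c.pt
      rw [Category.assoc, Category.assoc, hB]
    · refine hom_ext_of_yon _ _ fun T v => ?_
      obtain ⟨u, hu⟩ := (yon S).map_surjective (v ≫ mor (ι''.app i))
      have hb : v ≫ mor (ι''.app i) ≫ (yon S).map lι ≫ (yon S).map ss ≫ q = (v ≫ mor (α''.app i)) ≫ mor (c.ι.app i) := by
        rw [Category.assoc]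
        exact congrArg (v ≫ ·) (hpb i).w
      show v ≫ mor (ι''.app i) ≫ (yon S).map lι ≫ (yon S).map tt ≫ zP =
        v ≫ mor (ι''.app i) ≫ (yon S).map lι ≫ (yon S).map ss ≫ zP
      rw [← Category.assoc v, ← Category.assoc v, ← hu, ← Functor.map_comp_assoc, ← Functor.map_comp_assoc, ← Functor.map_comp_assoc,
        ← Functor.map_comp_assoc]
      refine (hPcompat i T _ (v ≫ mor (α''.app i)) ?_).trans (hPcompat i T _ (v ≫ mor (α''.app i)) ?_).symm
      · simp only [Functor.map_comp, Category.assoc, hu, hR.w]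
        simpa only [Category.assoc] using hb
      · simp only [Functor.map_comp, Category.assoc, hu]
        simpa only [Category.assoc] using hb
  obtain ⟨z, hz⟩ := exists_desc_of_kernelPair hR zP key
  have := epi_of_etale_surjective hqe hqs
  refine ⟨z, (cancel_epi q).1 (by rw [← Category.assoc, hz, hB]), fun i => hom_ext_of_yon _ _ fun T v => ?_⟩
  rw [← Category.assoc]
  have : Etale (hqe.rep.snd (v ≫ mor (c.ι.app i))).left := hqe.property_snd _
  have : Surjective (hqe.rep.snd (v ≫ mor (c.ι.app i))).left := hqs.2 _ _ _ (hqe.rep.isPullback _)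
  refine hom_ext_of_fppf _ (fppf_of_etale (hqe.rep.snd (v ≫ mor (c.ι.app i))).left) _ _ ?_
  obtain ⟨u, hu⟩ := (yon S).map_surjective (hqe.rep.fst (v ≫ mor (c.ι.app i)))
  have h0 : (yon S).map u ≫ q = ((yon S).map (hqe.rep.snd (v ≫ mor (c.ι.app i))) ≫ v) ≫ mor (c.ι.app i) := by
    rw [hu, hqe.rep.w, Category.assoc]
  have h1 := hPcompat i _ u _ h0
  rw [← hz, ← Category.assoc, h0] at h1
  simpa only [Category.assoc] using h1

end

/-- Let `B` be an algebraic space over `S`, `P` the property 'separated over `B`' on algebraic spaces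
over `B`, `D` a diagram in the full subcategory it defines and `c` a cocone on `D` that is a colimit
there. Assume the coprojections are jointly surjective, that for every separated etale `U → c.pt`
every cocone of cartesian squares `D_i ×_{c.pt} U → U` is a colimit in that subcategory, and that
every system of separated etale `U_i → D_i` with cartesian transition squares arises from some
separated etale `U → c.pt` by base change. Then `c` is also a colimit when viewed among all
algebraic spaces over `B`. -/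
theorem result {S : Scheme.{u}} {B : AlgSp.Space S} (P : ObjectProperty (Over B))
    (hP : ∀ T : Over B, P T ↔ AlgSp.IsSeparatedMor T.hom.hom) {I : Type v} [Category.{w} I]
    (D : I ⥤ P.FullSubcategory) (c : Cocone D) (h₂ : IsColimit c)
    (h₃ : ∀ x : AlgSp.Points c.pt.obj.left.obj, ∃ (i : I) (y : AlgSp.Points (D.obj i).obj.left.obj),
      AlgSp.Points.map (c.ι.app i).hom.left.hom y = x)
    (h₄ : ∀ (D' : I ⥤ P.FullSubcategory) (α : D' ⟶ D) (c' : Cocone D') (a : c'.pt ⟶ c.pt),
      AlgSp.IsEtaleMor a.hom.left.hom → AlgSp.IsSeparatedMor a.hom.left.hom →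
      (∀ i, IsPullback (c'.ι.app i).hom.left.hom (α.app i).hom.left.hom a.hom.left.hom (c.ι.app i).hom.left.hom) →
        Nonempty (IsColimit c'))
    (h₅ : ∀ (D' : I ⥤ P.FullSubcategory) (α : D' ⟶ D),
      (∀ ⦃i j : I⦄ (g : i ⟶ j), IsPullback (D'.map g).hom.left.hom (α.app i).hom.left.hom (α.app j).hom.left.hom
        (D.map g).hom.left.hom) →
      (∀ i, AlgSp.IsEtaleMor (α.app i).hom.left.hom) → (∀ i, AlgSp.IsSeparatedMor (α.app i).hom.left.hom) →
        ∃ (c' : Cocone D') (a : c'.pt ⟶ c.pt), AlgSp.IsEtaleMor a.hom.left.hom ∧ AlgSp.IsSeparatedMor a.hom.left.hom ∧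
          ∀ i, IsPullback (c'.ι.app i).hom.left.hom (α.app i).hom.left.hom a.hom.left.hom (c.ι.app i).hom.left.hom) :
    Nonempty (IsColimit (P.ι.mapCocone c)) := by
  have hd := fun s : Cocone (D ⋙ P.ι) => exists_sp_desc hP c h₄ h₅ (X := s.pt) (fun i => (s.ι.app i).left.hom)
    (fun i => congrArg (·.hom) (Over.w (s.ι.app i))) (fun i j φ => congrArg (fun m => m.left.hom) (s.w φ)) h₃
  exact ⟨
    { desc := fun s => CategoryTheory.Over.homMk (ObjectProperty.homMk (hd s).choose)
        (ObjectProperty.hom_ext _ (hd s).choose_spec.1)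
      fac := fun s i => Over.OverMorphism.ext (ObjectProperty.hom_ext _ ((hd s).choose_spec.2 i))
      uniq := fun s m hm => Over.OverMorphism.ext (ObjectProperty.hom_ext _ (sp_ext hP c h₂ (X := s.pt) _ _
        (congrArg (·.hom) (Over.w m)) (hd s).choose_spec.1 fun i =>
          (congrArg (fun m => m.left.hom) (hm i)).trans ((hd s).choose_spec.2 i).symm)) }⟩

end Groth.Agent.S10728
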