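import Groth.Statements.S10730
import Groth.Agent.AlgSpDec.LqfScheme
import Groth.Agent.AlgSpDec.LqfSplitZ
import Groth.Agent.AlgSpDec.LqfQuot
import Groth.Agent.AlgSpDec.Glue
import Groth.Agent.AlgSpLib.Rep
import Groth.Agent.AlgSpLib.LocP
import Groth.Agent.AlgSpLib.EtLocalInst
import Groth.Agent.AlgSpLib.EtaleSmoothLocal
-- import your own Groth.Agent.* helpers here

set_option autoImplicit false
universe w v u
open CategoryTheory CategoryTheory.Limits AlgebraicGeometry
open AlgSp

namespace Groth.Agent.S10730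

set_option backward.isDefEq.respectTransparency false
set_option backward.isDefEq.respectTransparency.types false

open Groth.Agent.AlgSpLib Groth.Agent.AlgSpPts Groth.Agent.AlgSpDec

theorem hom_ext_of_yon {S : Scheme.{u}} {F G : Sp S} (a b : F ⟶ G)
    (h : ∀ (T : Over S) (v : (yon S).obj T ⟶ F), v ≫ a = v ≫ b) : a = b := by
  refine ObjectProperty.hom_ext _ (NatTrans.ext (funext fun T => ?_))
  ext x
  have := congrArg (J S).uliftYonedaEquiv (h T.unop ((J S).uliftYonedaEquiv.symm x))
  rwa [GrothendieckTopology.uliftYonedaEquiv_comp, GrothendieckTopology.uliftYonedaEquiv_comp,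
    Equiv.apply_symm_apply] at this

section

variable {S : Scheme.{u}} {B : AlgSp.Space S}

/-- The underlying sheaf. -/
abbrev sp (A : Over B) : Sp S := A.left.obj

/-- The structure map. -/
abbrev st (A : Over B) : sp A ⟶ B.obj := A.hom.hom

/-- The underlying map. -/
abbrev mor {A C : Over B} (m : A ⟶ C) : sp A ⟶ sp C := m.left.hom

theorem mor_ext {A C : Over B} {m m' : A ⟶ C} (h : mor m = mor m') : m = m' :=
  Over.OverMorphism.ext (ObjectProperty.hom_ext _ h)

theorem mor_w {A C : Over B} (m : A ⟶ C) : mor m ≫ st C = st A := congrArg (·.hom) (Over.w m)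

/-- An object over the base. -/
abbrev mkObj (F : Sp S) (hF : IsAlgSpace F) (f : F ⟶ B.obj) : Over B :=
  Over.mk (ObjectProperty.homMk f : (⟨F, hF⟩ : AlgSp.Space S) ⟶ B)

/-- A map over the base. -/
def mkMor {A C : Over B} (m : sp A ⟶ sp C) (w : m ≫ st C = st A) : A ⟶ C :=
  CategoryTheory.Over.homMk (ObjectProperty.homMk m) (ObjectProperty.hom_ext _ w)

variable {I : Type v} [Category.{w} I] {D : I ⥤ Over B} (c : Cocone D)
  (h₁ : ∀ (D' : I ⥤ Over B) (α : D' ⟶ D),
      (∀ ⦃i j : I⦄ (g : i ⟶ j), IsPullback (D'.map g).left.hom (α.app i).left.hom (α.app j).left.hom (D.map g).left.hom) →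
      (∀ i, AlgSp.IsEtaleMor (α.app i).left.hom) →
        ∃ (c' : Cocone D') (a : c'.pt ⟶ c.pt), AlgSp.IsEtaleMor a.left.hom ∧
          ∀ i, IsPullback (c'.ι.app i).left.hom (α.app i).left.hom a.left.hom (c.ι.app i).left.hom)
  (h₁' : ∀ (U U' : Over B) (u : U ⟶ c.pt) (u' : U' ⟶ c.pt), AlgSp.IsEtaleMor u.left.hom → AlgSp.IsEtaleMor u'.left.hom →
      ∀ (DU DU' : I ⥤ Over B) (αU : DU ⟶ D) (αU' : DU' ⟶ D) (ιU : DU ⟶ (Functor.const I).obj U)
        (ιU' : DU' ⟶ (Functor.const I).obj U'),
        (∀ i, IsPullback (ιU.app i).left.hom (αU.app i).left.hom u.left.hom (c.ι.app i).left.hom) →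
        (∀ i, IsPullback (ιU'.app i).left.hom (αU'.app i).left.hom u'.left.hom (c.ι.app i).left.hom) →
        ∀ (β : DU ⟶ DU'), β ≫ αU' = αU →
          ∃! m : U ⟶ U', m ≫ u' = u ∧ ∀ i, ιU.app i ≫ m = β.app i ≫ ιU'.app i)
  (h₂ : ∀ (B' Zs Us : Over S) (b : (AlgSp.yon S).obj B' ⟶ B.obj) (z : Zs ⟶ B') {XB : AlgSp.Space S}
      (x₁ : XB ⟶ c.pt.left) (x₂ : XB.obj ⟶ (AlgSp.yon S).obj B') (uu : (AlgSp.yon S).obj Us ⟶ XB.obj)
      (DU : I ⥤ AlgSp.Space S) (αU : DU ⟶ D ⋙ Over.forget B)
      (ιU : DU ⟶ (Functor.const I).obj ((AlgSp.ofScheme S).obj Us))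
      (φ : DU ⟶ (Functor.const I).obj ((AlgSp.ofScheme S).obj Zs)),
      IsAffine B'.left → IsAffine Zs.left → IsAffine Us.left → AlgSp.RepWith @Etale b →
      IsPullback x₁.hom x₂ c.pt.hom.hom b → AlgSp.RepWith @Etale uu →
      (∀ i, IsPullback (ιU.app i).hom (αU.app i).hom (uu ≫ x₁.hom) (c.ι.app i).left.hom) →
      (∀ i, (φ.app i).hom ≫ (AlgSp.yon S).map z = (ιU.app i).hom ≫ uu ≫ x₂) →
        ∃! fz : Us ⟶ Zs, (AlgSp.yon S).map fz ≫ (AlgSp.yon S).map z = uu ≫ x₂ ∧
          ∀ i, (ιU.app i).hom ≫ (AlgSp.yon S).map fz = (φ.app i).hom)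

/-- The pullback of a cocone along a map to its vertex. -/
theorem exists_pullback_cocone {V : Over B} (b : V ⟶ c.pt) :
    ∃ (D' : I ⥤ Over B) (α : D' ⟶ D) (ι : D' ⟶ (Functor.const I).obj V),
      ∀ i, IsPullback (mor (ι.app i)) (mor (α.app i)) (mor b) (mor (c.ι.app i)) := by
  let O : I → Over B := fun i => mkObj (pullback (mor b) (mor (c.ι.app i)))
    (isAlgSpace_pullback V.left.property (D.obj i).left.property c.pt.left.property _ _) (pullback.fst _ _ ≫ st V)
  have hcw : ∀ {i j : I} (φ : i ⟶ j), mor (D.map φ) ≫ mor (c.ι.app j) = mor (c.ι.app i) := fun φ =>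
    congrArg mor (c.w φ)
  let M : ∀ {i j : I}, (i ⟶ j) → (O i ⟶ O j) := fun {i j} φ => mkMor
    (pullback.lift (pullback.fst _ _) (pullback.snd _ _ ≫ mor (D.map φ))
      (by rw [Category.assoc, hcw]; exact pullback.condition))
    (by
      show pullback.lift _ _ _ ≫ pullback.fst _ _ ≫ _ = pullback.fst _ _ ≫ _
      rw [← Category.assoc, pullback.lift_fst])
  refine ⟨{ obj := O
            map := M
            map_id := fun i => mor_ext (pullback.hom_ext ((pullback.lift_fst _ _ _).trans (Category.id_comp _).symm)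
              ((pullback.lift_snd _ _ _).trans ?_))
            map_comp := fun {i j k} φ ψ => mor_ext (pullback.hom_ext
              ((pullback.lift_fst _ _ _).trans ((pullback.lift_fst _ _ _).symm.trans
                ((congrArg (_ ≫ ·) (pullback.lift_fst _ _ _).symm).trans (Category.assoc _ _ _).symm)))
              ((pullback.lift_snd _ _ _).trans ((congrArg (_ ≫ ·) (congrArg mor (D.map_comp φ ψ))).trans
                ((Category.assoc _ _ _).symm.trans ((congrArg (· ≫ mor (D.map ψ)) (pullback.lift_snd _ _ _).symm).trans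
                ((Category.assoc _ _ _).trans ((congrArg (_ ≫ ·) (pullback.lift_snd _ _ _).symm).trans
                  (Category.assoc _ _ _).symm))))))) },
    { app := fun i => mkMor (pullback.snd _ _) ?_, naturality := fun i j φ => mor_ext (pullback.lift_snd _ _ _) },
    { app := fun i => mkMor (pullback.fst _ _) rfl, naturality := fun i j φ => mor_ext ?_ },
    fun i => IsPullback.of_hasPullback _ _⟩
  · rw [show mor (D.map (𝟙 i)) = 𝟙 _ from congrArg mor (D.map_id i), Category.comp_id]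
    exact (Category.id_comp _).symm
  · show pullback.snd _ _ ≫ _ = pullback.fst _ _ ≫ _
    rw [← mor_w (c.ι.app i), ← mor_w b, pullback.condition_assoc]
    rfl
  · show pullback.lift _ _ _ ≫ pullback.fst _ _ = pullback.fst _ _ ≫ 𝟙 _
    rw [pullback.lift_fst]
    exact (Category.comp_id _).symm

include h₁' in
/-- Maps between etale spaces over the vertex from maps of their restrictions. -/
theorem exists_of_restrict {U U' : Over B} (u : U ⟶ c.pt) (u' : U' ⟶ c.pt) (hu : IsEtaleMor (mor u))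
    (hu' : IsEtaleMor (mor u')) {D' : I ⥤ Over B} (α : D' ⟶ D) (ι : D' ⟶ (Functor.const I).obj U)
    (hp : ∀ i, IsPullback (mor (ι.app i)) (mor (α.app i)) (mor u) (mor (c.ι.app i)))
    (f : ∀ i, sp (D'.obj i) ⟶ sp U') (hf : ∀ i, f i ≫ mor u' = mor (ι.app i) ≫ mor u)
    (hnat : ∀ ⦃i j⦄ (φ : i ⟶ j), mor (D'.map φ) ≫ f j = f i) :
    ∃ m : sp U ⟶ sp U', m ≫ mor u' = mor u ∧ (∀ i, mor (ι.app i) ≫ m = f i) ∧
      ∀ m' : sp U ⟶ sp U', m' ≫ mor u' = mor u → (∀ i, mor (ι.app i) ≫ m' = f i) → m' = m := by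
  obtain ⟨E', αE, ιE, hpE⟩ := exists_pullback_cocone c u'
  let β₀ : ∀ i, sp (D'.obj i) ⟶ sp (E'.obj i) := fun i =>
    (hpE i).lift (f i) (mor (α.app i)) ((hf i).trans (hp i).w)
  let β : D' ⟶ E' :=
    { app := fun i => mkMor (β₀ i) (by rw [← mor_w (αE.app i), ← Category.assoc, (hpE i).lift_snd]; exact mor_w _)
      naturality := fun i j φ => mor_ext ((hpE j).hom_ext
        (show (mor (D'.map φ) ≫ β₀ j) ≫ _ = (β₀ i ≫ mor (E'.map φ)) ≫ _ by
          rw [Category.assoc, (hpE j).lift_fst, hnat, Category.assoc,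
            show mor (E'.map φ) ≫ mor (ιE.app j) = mor (ιE.app i) ≫ mor (𝟙 U') from congrArg mor (ιE.naturality φ)]
          exact ((hpE i).lift_fst _ _ _).symm.trans (congrArg (β₀ i ≫ ·) (Category.comp_id _).symm))
        (show (mor (D'.map φ) ≫ β₀ j) ≫ _ = (β₀ i ≫ mor (E'.map φ)) ≫ _ by
          rw [Category.assoc, (hpE j).lift_snd, Category.assoc,
            show mor (E'.map φ) ≫ mor (αE.app j) = mor (αE.app i) ≫ mor (D.map φ) from congrArg mor (αE.naturality φ),
            ← Category.assoc (β₀ i), (hpE i).lift_snd]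
          exact congrArg mor (α.naturality φ))) }
  obtain ⟨m, ⟨hm₁, hm₂⟩, hm₃⟩ := h₁' U U' u u' hu hu' D' E' α αE ι ιE hp hpE β
    (NatTrans.ext (funext fun i => mor_ext ((hpE i).lift_snd _ _ _)))
  refine ⟨mor m, congrArg mor hm₁, fun i => (congrArg mor (hm₂ i)).trans ((hpE i).lift_fst _ _ _),
    fun m' h₁m h₂m => ?_⟩
  exact congrArg mor (hm₃ (mkMor m' (by rw [← mor_w u', ← Category.assoc, h₁m]; exact mor_w u))
    ⟨mor_ext h₁m, fun i => mor_ext ((h₂m i).trans ((hpE i).lift_fst _ _ _).symm)⟩)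

include h₁' in
theorem ext_of_restrict {U U' : Over B} (u : U ⟶ c.pt) (u' : U' ⟶ c.pt) (hu : IsEtaleMor (mor u))
    (hu' : IsEtaleMor (mor u')) (m m' : sp U ⟶ sp U') (hm : m ≫ mor u' = mor u) (hm' : m' ≫ mor u' = mor u)
    (e : ∀ i (T : Over S) (l : (yon S).obj T ⟶ sp U) (d : (yon S).obj T ⟶ sp (D.obj i)),
      l ≫ mor u = d ≫ mor (c.ι.app i) → l ≫ m = l ≫ m') : m = m' := by
  obtain ⟨D', α, ι, hp⟩ := exists_pullback_cocone c u
  obtain ⟨M, -, -, hM⟩ := exists_of_restrict c h₁' u u' hu hu' α ι hp (fun i => mor (ι.app i) ≫ m)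
    (fun i => by rw [Category.assoc, hm]) (fun i j φ => by
      rw [← Category.assoc, show mor (D'.map φ) ≫ mor (ι.app j) = mor (ι.app i) ≫ mor (𝟙 U) from
        congrArg mor (ι.naturality φ)]
      exact congrArg (· ≫ m) (Category.comp_id _))
  refine (hM m hm fun i => rfl).trans (hM m' hm' fun i => hom_ext_of_yon _ _ fun T v => ?_).symm
  rw [← Category.assoc, ← Category.assoc]
  exact (e i T (v ≫ mor (ι.app i)) (v ≫ mor (α.app i)) (by rw [Category.assoc, Category.assoc, (hp i).w])).symm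

include h₂ in
/-- The descent for maps to affine schemes. -/
theorem existsUnique_affine {B' K L : Over S} [IsAffine B'.left] [IsAffine K.left] [IsAffine L.left]
    (b : (yon S).obj B' ⟶ B.obj) (hb : RepWith @Etale b) (z : K ⟶ B') {w : (yon S).obj L ⟶ B.obj}
    (x : mkObj _ (IsAlgSpace.yon_obj L) w ⟶ c.pt) (hx : IsEtaleMor (mor x))
    (y : (yon S).obj L ⟶ (yon S).obj B') (hy : y ≫ b = w)
    {D' : I ⥤ Over B} (α : D' ⟶ D) (ι : D' ⟶ (Functor.const I).obj (mkObj _ (IsAlgSpace.yon_obj L) w))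
    (hp : ∀ i, IsPullback (mor (ι.app i)) (mor (α.app i)) (mor x) (mor (c.ι.app i)))
    (f : ∀ i, sp (D'.obj i) ⟶ (yon S).obj K) (hf : ∀ i, f i ≫ (yon S).map z = mor (ι.app i) ≫ y)
    (hnat : ∀ ⦃i j⦄ (φ : i ⟶ j), mor (D'.map φ) ≫ f j = f i) :
    ∃! k : L ⟶ K, (yon S).map k ≫ (yon S).map z = y ∧ ∀ i, mor (ι.app i) ≫ (yon S).map k = f i := by
  let XB : AlgSp.Space S := ⟨pullback (st c.pt) b,
    isAlgSpace_pullback c.pt.left.property (IsAlgSpace.yon_obj B') B.property _ _⟩
  let uu : (yon S).obj L ⟶ XB.obj := pullback.lift (mor x) y (by rw [hy]; exact mor_w x)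
  have huu : RepWith @Etale uu := by
    have := isEtaleMor_of_comp (IsAlgSpace.yon_obj L) XB.property c.pt.left.property
      (f := uu) (g := pullback.fst (st c.pt) b) (by rw [pullback.lift_fst]; exact hx)
      (isEtaleMor_of_repWith (repWith_fst _ hb)) (𝟙 _) (repWith_id _ L)
    rwa [Category.id_comp] at this
  let ιL : D' ⋙ Over.forget B ⟶ (Functor.const I).obj ((AlgSp.ofScheme S).obj L) :=
    { app := fun i => (ι.app i).left
      naturality := fun i j φ => congrArg (·.left) (ι.naturality φ) }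
  obtain ⟨k, ⟨hk₁, hk₂⟩, hk₃⟩ := h₂ B' K L b z (XB := XB) (ObjectProperty.homMk (pullback.fst _ _))
    (pullback.snd _ _) uu (D' ⋙ Over.forget B) (Functor.whiskerRight α (Over.forget B)) ιL
    { app := fun i => ObjectProperty.homMk (f i)
      naturality := fun i j φ => ObjectProperty.hom_ext _ ((hnat φ).trans (Category.comp_id _).symm) }
    ‹_› ‹_› ‹_› hb (IsPullback.of_hasPullback _ _) huu
    (fun i => by
      show IsPullback (mor (ι.app i)) (mor (α.app i)) (uu ≫ pullback.fst _ _) (mor (c.ι.app i))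
      rw [pullback.lift_fst]
      exact hp i)
    (fun i => by
      show f i ≫ (yon S).map z = mor (ι.app i) ≫ uu ≫ pullback.snd _ _
      rw [pullback.lift_snd, hf i])
  rw [pullback.lift_snd] at hk₁
  refine ⟨k, ⟨hk₁, hk₂⟩, fun k' hk' => hk₃ k' ⟨?_, hk'.2⟩⟩
  rw [pullback.lift_snd]; exact hk'.1

variable {X : Over B} (s : ∀ i, sp (D.obj i) ⟶ sp X) (hsB : ∀ i, s i ≫ st X = st (D.obj i))
  (hs : ∀ ⦃i j⦄ (φ : i ⟶ j), mor (D.map φ) ≫ s j = s i)

include h₁ h₁' h₂ hs hsB in
theorem exists_chart_desc {B' K : Over S} [IsAffine B'.left] [IsAffine K.left] (b : (yon S).obj B' ⟶ B.obj)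
    (hb : RepWith @Etale b) (z : K ⟶ B') (g : (yon S).obj K ⟶ sp X) (hg : RepWith @Etale g)
    (hgz : g ≫ st X = (yon S).map z ≫ b) :
    ∃ (κ : Type u) (W : κ → Over S) (a : ∀ p, (yon S).obj (W p) ⟶ sp c.pt) (t : ∀ p, (yon S).obj (W p) ⟶ sp X),
      (∀ p, RepWith @Etale (a p)) ∧ (∀ p, t p ≫ st X = a p ≫ st c.pt) ∧
      (∀ p i (T : Over S) (l : T ⟶ W p) (d : (yon S).obj T ⟶ sp (D.obj i)),
        (yon S).map l ≫ a p = d ≫ mor (c.ι.app i) → (yon S).map l ≫ t p = d ≫ s i) ∧
      ∀ i (y : AlgSp.Points (sp (D.obj i))), AlgSp.Points.map (s i) y ∈ Set.range (AlgSp.Points.map g) →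
        ∃ p, AlgSp.Points.map (mor (c.ι.app i)) y ∈ Set.range (AlgSp.Points.map (a p)) := by
  let O : I → Over B := fun i => mkObj (pullback g (s i))
    (isAlgSpace_pullback (IsAlgSpace.yon_obj K) (D.obj i).left.property X.left.property _ _)
    (pullback.snd g (s i) ≫ st (D.obj i))
  let M : ∀ {i j : I}, (i ⟶ j) → (O i ⟶ O j) := fun {i j} φ => mkMor
    (pullback.lift (pullback.fst _ _) (pullback.snd _ _ ≫ mor (D.map φ))
      (by rw [Category.assoc, hs]; exact pullback.condition))
    (by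
      show pullback.lift _ _ _ ≫ pullback.snd _ _ ≫ _ = pullback.snd _ _ ≫ _
      rw [← Category.assoc, pullback.lift_snd, Category.assoc, mor_w])
  obtain ⟨D', α, fs, hM, hα, hfs⟩ : ∃ (D' : I ⥤ Over B) (α : D' ⟶ D) (fs : ∀ i, sp (D'.obj i) ⟶ (yon S).obj K),
      (∀ i, IsPullback (fs i) (mor (α.app i)) g (s i)) ∧
      (∀ i, IsEtaleMor (mor (α.app i))) ∧ ∀ ⦃i j⦄ (φ : i ⟶ j), mor (D'.map φ) ≫ fs j = fs i := by
    refine ⟨{ obj := O
              map := M
              map_id := fun i => mor_ext (pullback.hom_ext ((pullback.lift_fst _ _ _).trans (Category.id_comp _).symm)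
                ((pullback.lift_snd _ _ _).trans ?_))
              map_comp := fun {i j k} φ ψ => mor_ext (pullback.hom_ext
                ((pullback.lift_fst _ _ _).trans ((pullback.lift_fst _ _ _).symm.trans
                  ((congrArg (_ ≫ ·) (pullback.lift_fst _ _ _).symm).trans (Category.assoc _ _ _).symm)))
                ((pullback.lift_snd _ _ _).trans ((congrArg (_ ≫ ·) (congrArg mor (D.map_comp φ ψ))).trans
                  ((Category.assoc _ _ _).symm.trans ((congrArg (· ≫ mor (D.map ψ)) (pullback.lift_snd _ _ _).symm).trans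
                  ((Category.assoc _ _ _).trans ((congrArg (_ ≫ ·) (pullback.lift_snd _ _ _).symm).trans
                    (Category.assoc _ _ _).symm))))))) },
      { app := fun i => mkMor (pullback.snd _ _) rfl, naturality := fun i j φ => mor_ext (pullback.lift_snd _ _ _) },
      fun i => pullback.fst _ _, fun i => IsPullback.of_hasPullback _ _,
      fun i => isEtaleMor_of_isPullback (IsPullback.of_hasPullback g (s i)) (IsAlgSpace.yon_obj K) X.left.property
        (D.obj i).left.property (isEtaleMor_of_repWith hg),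
      fun i j φ => pullback.lift_fst _ _ _⟩
    rw [show mor (D.map (𝟙 i)) = 𝟙 _ from congrArg mor (D.map_id i), Category.comp_id]
    exact (Category.id_comp _).symm
  have hsq : ∀ ⦃i j : I⦄ (φ : i ⟶ j), IsPullback (mor (D'.map φ)) (mor (α.app i)) (mor (α.app j)) (mor (D.map φ)) :=
    fun i j φ => by
      refine IsPullback.of_right ?_ (congrArg mor (α.naturality φ)) (hM j)
      rw [hfs φ, hs φ]
      exact hM i
  obtain ⟨c', a, hae, hap⟩ := h₁ D' α hsq hα
  let XB : Over B := mkObj (pullback (st c.pt) b)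
    (isAlgSpace_pullback c.pt.left.property (IsAlgSpace.yon_obj B') B.property _ _) (pullback.fst _ _ ≫ st c.pt)
  let xb : XB ⟶ c.pt := mkMor (pullback.fst _ _) rfl
  have hD' : ∀ i, st (D'.obj i) = fs i ≫ (yon S).map z ≫ b := fun i => by
    rw [← hgz, ← Category.assoc, (hM i).w, Category.assoc, hsB, mor_w]
  obtain ⟨m, hm₁, hm₂, -⟩ := exists_of_restrict c h₁' a xb hae (isEtaleMor_of_repWith (repWith_fst _ hb)) α c'.ι hap
    (fun i => pullback.lift (mor (c'.ι.app i) ≫ mor a) (fs i ≫ (yon S).map z) (by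
      rw [Category.assoc, Category.assoc, ← hD', mor_w a]; exact mor_w (c'.ι.app i)))
    (fun i => pullback.lift_fst _ _ _)
    (fun i j φ => pullback.hom_ext
      (by rw [Category.assoc, pullback.lift_fst, pullback.lift_fst, ← Category.assoc,
            show mor (D'.map φ) ≫ mor (c'.ι.app j) = mor (c'.ι.app i) from congrArg mor (c'.w φ)])
      (by rw [Category.assoc, pullback.lift_snd, pullback.lift_snd, ← Category.assoc, hfs φ]))
  obtain ⟨W₀, q, hq, hqs⟩ := c'.pt.left.property.atlas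
  let κ := W₀.left.affineCover.I₀
  let W : κ → Over S := fun p => Over.mk (W₀.left.affineCover.f p ≫ W₀.hom)
  let e : ∀ p, (yon S).obj (W p) ⟶ sp c'.pt := fun p =>
    (yon S).map (CategoryTheory.Over.homMk (W₀.left.affineCover.f p) rfl : W p ⟶ W₀) ≫ q
  have hee : ∀ p, RepWith @Etale (e p) := fun p =>
    repWith_comp ((repWith_yon_map_iff _ _).2 (inferInstanceAs (Etale (W₀.left.affineCover.f p)))) hq
  have hV : ∀ p, ∃ k : W p ⟶ K, (yon S).map k ≫ (yon S).map z = e p ≫ m ≫ pullback.snd _ _ ∧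
      ∀ i (T : Over S) (l : T ⟶ W p) (d : (yon S).obj T ⟶ sp (D.obj i)),
        (yon S).map l ≫ e p ≫ mor a = d ≫ mor (c.ι.app i) →
        (yon S).map l ≫ (yon S).map k ≫ g = d ≫ s i := by
    intro p
    have : IsAffine (W p).left := inferInstanceAs (IsAffine (W₀.left.affineCover.X p))
    let V : Over B := mkObj _ (IsAlgSpace.yon_obj (W p)) (e p ≫ st c'.pt)
    let x : V ⟶ c.pt := mkMor (e p ≫ mor a) (by
      show (e p ≫ mor a) ≫ _ = e p ≫ _
      rw [Category.assoc, mor_w])
    obtain ⟨D'', α'', ι'', hp''⟩ := exists_pullback_cocone c x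
    let r : ∀ i, sp (D''.obj i) ⟶ sp (D'.obj i) := fun i => (hap i).lift (mor (ι''.app i) ≫ e p) (mor (α''.app i))
      ((Category.assoc _ _ _).trans (hp'' i).w)
    obtain ⟨k, ⟨hk₁, hk₂⟩, -⟩ := existsUnique_affine c h₂ b hb z x (isEtaleMor_of_repWith (hae _ (hee p)))
      (e p ≫ m ≫ pullback.snd _ _)
      (by
        refine (Category.assoc _ _ _).trans (congrArg (e p ≫ ·) ?_)
        rw [Category.assoc, ← pullback.condition, ← Category.assoc]
        exact (congrArg (· ≫ st c.pt) hm₁).trans (mor_w a))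
      α'' ι'' hp'' (fun i => r i ≫ fs i)
      (fun i => by
        have hfz : fs i ≫ (yon S).map z = mor (c'.ι.app i) ≫ m ≫ pullback.snd _ _ := by
          rw [← Category.assoc, hm₂, pullback.lift_snd]
        rw [Category.assoc, hfz, ← Category.assoc (r i), (hap i).lift_fst, Category.assoc])
      (fun i j φ => by
        rw [← Category.assoc, ← hfs φ, ← Category.assoc (r i)]
        refine congrArg (· ≫ fs j) ((hap j).hom_ext ?_ ?_)
        · rw [Category.assoc, (hap j).lift_fst, Category.assoc,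
            show mor (D'.map φ) ≫ mor (c'.ι.app j) = mor (c'.ι.app i) from congrArg mor (c'.w φ), (hap i).lift_fst,
            ← Category.assoc, show mor (D''.map φ) ≫ mor (ι''.app j) = mor (ι''.app i) ≫ mor (𝟙 V) from
              congrArg mor (ι''.naturality φ)]
          exact congrArg (· ≫ e p) (Category.comp_id _)
        · rw [Category.assoc, (hap j).lift_snd, Category.assoc,
            show mor (D'.map φ) ≫ mor (α.app j) = mor (α.app i) ≫ mor (D.map φ) from congrArg mor (α.naturality φ),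
            ← Category.assoc (r i), (hap i).lift_snd]
          exact congrArg mor (α''.naturality φ))
    refine ⟨k, hk₁, fun i T l d hld => ?_⟩
    obtain ⟨v, hv₁, hv₂⟩ := (hp'' i).exists_lift ((yon S).map l) d hld
    have h0 : (yon S).map l ≫ (yon S).map k = v ≫ r i ≫ fs i := by
      rw [← hk₂ i, ← Category.assoc v, hv₁]
    rw [← Category.assoc, h0, Category.assoc, Category.assoc, (hM i).w, ← Category.assoc (r i), (hap i).lift_snd,
      ← Category.assoc, hv₂]
  choose k hk₁ hk₂ using hV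
  refine ⟨κ, W, fun p => e p ≫ mor a, fun p => (yon S).map (k p) ≫ g, fun p => hae _ (hee p), fun p => ?_,
    fun p i T l d hld => hk₂ p i T l d hld, fun i y hy => ?_⟩
  · rw [Category.assoc, hgz, ← Category.assoc, hk₁, Category.assoc, Category.assoc, Category.assoc,
      ← pullback.condition, ← Category.assoc m]
    exact congrArg (fun w => e p ≫ w ≫ st c.pt) hm₁
  · obtain ⟨k₀, hk₀⟩ := hy
    obtain ⟨x, -, hx⟩ := exists_point_of_isPullback (hM i) hk₀
    obtain ⟨w, hw⟩ := surjective_ofPt hqs (AlgSp.Points.map (mor (c'.ι.app i)) x)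
    obtain ⟨p, w', hw'⟩ := W₀.left.affineCover.exists_eq w
    refine ⟨p, AlgSp.Points.ofScheme (W p) w', ?_⟩
    rw [← AlgSp.Points.ofPt_eq_map_ofScheme, ← AlgSp.Points.map_ofPt, ofPt_comp]
    show AlgSp.Points.map _ (AlgSp.Points.ofPt q ((W₀.left.affineCover.f p) w')) = _
    rw [hw', hw, ← AlgSp.Points.map_comp, ← hx, ← AlgSp.Points.map_comp, (hap i).w]

include h₁' h₂ in
/-- Two maps from an affine scheme etale over the vertex which agree on the restrictions are equal. -/
theorem eq_of_restrict {L : Over S} [IsAffine L.left] (h : (yon S).obj L ⟶ sp c.pt) (hh : RepWith @Etale h)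
    (t t' : (yon S).obj L ⟶ sp X) (ht : t ≫ st X = h ≫ st c.pt) (ht' : t' ≫ st X = h ≫ st c.pt)
    (e : ∀ i (T : Over S) (l : (yon S).obj T ⟶ (yon S).obj L) (d : (yon S).obj T ⟶ sp (D.obj i)),
      l ≫ h = d ≫ mor (c.ι.app i) → l ≫ t = l ≫ t')
    {κ : Type u} (B' K : κ → Over S) [∀ j, IsAffine (B' j).left] [∀ j, IsAffine (K j).left]
    (b : ∀ j, (yon S).obj (B' j) ⟶ B.obj) (hb : ∀ j, RepWith @Etale (b j)) (z : ∀ j, K j ⟶ B' j)
    (g : ∀ j, (yon S).obj (K j) ⟶ sp X) (hg : ∀ j, RepWith @Etale (g j))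
    (hgz : ∀ j, g j ≫ st X = (yon S).map (z j) ≫ b j)
    (hcov : ∀ x : AlgSp.Points (sp X), ∃ j, x ∈ Set.range (AlgSp.Points.map (g j))) : t = t' := by
  let Lo : Over B := mkObj _ (IsAlgSpace.yon_obj L) (h ≫ st c.pt)
  let hL : Lo ⟶ c.pt := mkMor h rfl
  have hVal : ∀ j, IsAlgSpace (pullback t (g j)) := fun j =>
    isAlgSpace_pullback (IsAlgSpace.yon_obj L) (IsAlgSpace.yon_obj (K j)) X.left.property _ _
  choose W q hq hqs using fun j => (hVal j).atlas
  have key : ∀ j, (q j ≫ pullback.fst t (g j)) ≫ t = (q j ≫ pullback.fst t (g j)) ≫ t' := by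
    intro j
    have hV'al : IsAlgSpace (pullback t' (g j)) :=
      isAlgSpace_pullback (IsAlgSpace.yon_obj L) (IsAlgSpace.yon_obj (K j)) X.left.property _ _
    let Vo : Over B := mkObj _ (hVal j) (pullback.fst t (g j) ≫ h ≫ st c.pt)
    let Vo' : Over B := mkObj _ hV'al (pullback.fst t' (g j) ≫ h ≫ st c.pt)
    let u : Vo ⟶ c.pt := mkMor (pullback.fst t (g j) ≫ h) (Category.assoc _ _ _)
    let u' : Vo' ⟶ c.pt := mkMor (pullback.fst t' (g j) ≫ h) (Category.assoc _ _ _)
    have hu : IsEtaleMor (mor u) := isEtaleMor_of_repWith (repWith_comp (repWith_fst t (hg j)) hh)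
    have hu' : IsEtaleMor (mor u') := isEtaleMor_of_repWith (repWith_comp (repWith_fst t' (hg j)) hh)
    obtain ⟨D', α, ι, hp⟩ := exists_pullback_cocone c u
    have hw : ∀ i, (mor (ι.app i) ≫ pullback.fst t (g j)) ≫ t' = (mor (ι.app i) ≫ pullback.snd t (g j)) ≫ g j := fun i => by
      rw [Category.assoc (mor (ι.app i)) (pullback.snd t (g j)), ← pullback.condition, ← Category.assoc]
      refine hom_ext_of_yon _ _ fun T v => ?_
      rw [← Category.assoc, ← Category.assoc v]
      refine (e i T _ (v ≫ mor (α.app i)) ?_).symm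
      rw [Category.assoc, Category.assoc, Category.assoc]
      exact congrArg (v ≫ ·) (hp i).w
    obtain ⟨m, hm₁, hm₂, -⟩ := exists_of_restrict c h₁' u u' hu hu' α ι hp
      (fun i => pullback.lift _ _ (hw i))
      (fun i => by
        show pullback.lift _ _ _ ≫ pullback.fst t' (g j) ≫ h = _ ≫ pullback.fst t (g j) ≫ h
        rw [← Category.assoc, pullback.lift_fst, Category.assoc])
      (fun i i' φ => by
        have hn : mor (D'.map φ) ≫ mor (ι.app i') = mor (ι.app i) :=
          (congrArg mor (ι.naturality φ)).trans (Category.comp_id _)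
        apply pullback.hom_ext
        · rw [Category.assoc, pullback.lift_fst, pullback.lift_fst, ← Category.assoc, hn]
        · rw [Category.assoc, pullback.lift_snd, pullback.lift_snd, ← Category.assoc, hn])
    have hres : ∀ i (T : Over S) (l : (yon S).obj T ⟶ sp Vo) (d : (yon S).obj T ⟶ sp (D.obj i)),
        l ≫ mor u = d ≫ mor (c.ι.app i) → l ≫ m ≫ pullback.fst t' (g j) = l ≫ pullback.fst t (g j) ∧
          l ≫ m ≫ pullback.snd t' (g j) = l ≫ pullback.snd t (g j) := by
      intro i T l d hld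
      obtain ⟨v, hv₁, hv₂⟩ := (hp i).exists_lift l d hld
      constructor
      · rw [← hv₁, Category.assoc, Category.assoc, ← Category.assoc (mor (ι.app i)) m, hm₂, pullback.lift_fst]
      · rw [← hv₁, Category.assoc, Category.assoc, ← Category.assoc (mor (ι.app i)) m, hm₂, pullback.lift_snd]
    have hmp : m ≫ pullback.fst t' (g j) = pullback.fst t (g j) :=
      ext_of_restrict c h₁' u hL hu (isEtaleMor_of_repWith hh) _ _ ((Category.assoc _ _ _).trans hm₁) rfl
        fun i T l d hld => (hres i T l d hld).1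
    let XB : Over B := mkObj (pullback (st c.pt) (b j))
      (isAlgSpace_pullback c.pt.left.property (IsAlgSpace.yon_obj (B' j)) B.property _ _) (pullback.fst _ _ ≫ st c.pt)
    let xb : XB ⟶ c.pt := mkMor (pullback.fst _ _) rfl
    have hk₁ : (pullback.fst t (g j) ≫ h) ≫ st c.pt = (pullback.snd t (g j) ≫ (yon S).map (z j)) ≫ b j := by
      rw [Category.assoc, ← ht, ← Category.assoc, pullback.condition, Category.assoc, hgz, Category.assoc]
    have hk₂ : (pullback.fst t (g j) ≫ h) ≫ st c.pt = ((m ≫ pullback.snd t' (g j)) ≫ (yon S).map (z j)) ≫ b j := by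
      rw [Category.assoc, ← ht', ← hmp, Category.assoc, Category.assoc, Category.assoc, ← hgz,
        pullback.condition_assoc]
    have hkz : pullback.snd t (g j) ≫ (yon S).map (z j) = (m ≫ pullback.snd t' (g j)) ≫ (yon S).map (z j) := by
      have := ext_of_restrict c h₁' u xb hu (isEtaleMor_of_repWith (repWith_fst _ (hb j)))
        (pullback.lift _ _ hk₁) (pullback.lift _ _ hk₂) (pullback.lift_fst _ _ _) (pullback.lift_fst _ _ _)
        fun i T l d hld => by
          apply pullback.hom_ext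
          · rw [Category.assoc, pullback.lift_fst, Category.assoc, pullback.lift_fst]
          · rw [Category.assoc, pullback.lift_snd, Category.assoc, pullback.lift_snd, ← Category.assoc,
              ← (hres i T l d hld).2]
            simp only [Category.assoc]
      have := congrArg (· ≫ pullback.snd _ _) this
      simpa only [pullback.lift_snd] using this
    have hk : q j ≫ pullback.snd t (g j) = q j ≫ m ≫ pullback.snd t' (g j) := by
      refine hom_ext_of_openCover (W j).left.affineCover _ _ fun p => ?_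
      let P : Over S := Over.mk ((W j).left.affineCover.f p ≫ (W j).hom)
      let pι : P ⟶ W j := CategoryTheory.Over.homMk ((W j).left.affineCover.f p) rfl
      have : IsAffine P.left := inferInstanceAs (IsAffine ((W j).left.affineCover.X p))
      let eP : (yon S).obj P ⟶ sp Vo := (yon S).map pι ≫ q j
      have hP : RepWith @Etale eP :=
        repWith_comp ((repWith_yon_map_iff _ _).2 (inferInstanceAs (Etale ((W j).left.affineCover.f p)))) (hq j)
      let Po : Over B := mkObj _ (IsAlgSpace.yon_obj P) (eP ≫ st Vo)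
      let x : Po ⟶ c.pt := mkMor (eP ≫ mor u) (by
        show (eP ≫ mor u) ≫ _ = eP ≫ _
        rw [Category.assoc, mor_w])
      obtain ⟨D'', α'', ι'', hp''⟩ := exists_pullback_cocone c x
      obtain ⟨k₁, hk₁'⟩ := (yon S).map_surjective (eP ≫ pullback.snd t (g j))
      obtain ⟨k₂, hk₂'⟩ := (yon S).map_surjective (eP ≫ m ≫ pullback.snd t' (g j))
      obtain ⟨k, -, huniq⟩ := existsUnique_affine c h₂ (b j) (hb j) (z j) x (isEtaleMor_of_repWith (hu _ hP))
        (eP ≫ pullback.snd t (g j) ≫ (yon S).map (z j))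
        (by
          rw [Category.assoc]
          exact congrArg (eP ≫ ·) (hk₁.symm.trans (Category.assoc _ _ _)))
        α'' ι'' hp'' (fun i => mor (ι''.app i) ≫ eP ≫ pullback.snd t (g j))
        (fun i => by simp only [Category.assoc])
        (fun i i' φ => by
          rw [← Category.assoc, show mor (D''.map φ) ≫ mor (ι''.app i') = mor (ι''.app i) from
            (congrArg mor (ι''.naturality φ)).trans (Category.comp_id _)])
      have e₁ := huniq k₁ ⟨by rw [hk₁', Category.assoc], fun i => by rw [hk₁']⟩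
      have e₂ := huniq k₂ ⟨by
          rw [hk₂', Category.assoc]
          exact congrArg (eP ≫ ·) hkz.symm,
        fun i => by
          rw [hk₂']
          refine hom_ext_of_yon _ _ fun T v => ?_
          have := (hres i T (v ≫ mor (ι''.app i) ≫ eP) (v ≫ mor (α''.app i)) (by
            simp only [Category.assoc]
            exact congrArg (v ≫ ·) (hp'' i).w)).2
          simpa only [Category.assoc] using this⟩
      show (yon S).map pι ≫ q j ≫ pullback.snd t (g j) = (yon S).map pι ≫ q j ≫ m ≫ pullback.snd t' (g j)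
      rw [← Category.assoc, ← Category.assoc ((yon S).map pι)]
      exact hk₁'.symm.trans ((congrArg _ (e₁.trans e₂.symm)).trans hk₂')
    rw [Category.assoc, pullback.condition, ← Category.assoc, hk]
    simp only [Category.assoc]
    rw [← pullback.condition, ← Category.assoc m, hmp]
  let ψ : (j : κ) → W j ⟶ L := fun j => (yon S).preimage (q j ≫ pullback.fst t (g j))
  let Ψ : sigmaOver W ⟶ L := CategoryTheory.Over.homMk (Sigma.desc fun j => (ψ j).left) (by
    apply Sigma.hom_ext
    intro j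
    show Sigma.ι _ j ≫ Sigma.desc _ ≫ L.hom = Sigma.ι _ j ≫ Sigma.desc _
    rw [Sigma.ι_desc_assoc, Sigma.ι_desc, Over.w (ψ j)])
  have hΨι : ∀ j, sigmaι W j ≫ Ψ = ψ j := fun j => Over.OverMorphism.ext (Sigma.ι_desc _ _)
  have : Etale Ψ.left := IsZariskiLocalAtSource.sigmaDesc fun j =>
    (repWith_yon_map_iff _ _).1 (by rw [Functor.map_preimage]; exact repWith_comp (hq j) (repWith_fst t (hg j)))
  have : Surjective Ψ.left := ⟨fun x => by
    obtain ⟨j, k, hk⟩ := hcov (AlgSp.Points.ofPt t x)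
    rw [AlgSp.Points.ofPt_eq_map_ofScheme] at hk
    obtain ⟨v, hv, -⟩ := exists_point_of_isPullback (IsPullback.of_hasPullback t (g j)) hk.symm
    obtain ⟨w, hw⟩ := surjective_ofPt (hqs j) v
    refine ⟨(sigmaι W j).left w, ?_⟩
    rw [← Scheme.Hom.comp_apply, ← Over.comp_left, hΨι]
    have h1 := congrArg (AlgSp.Points.toScheme L) hv
    rw [← hw, AlgSp.Points.map_ofPt, AlgSp.Points.toScheme_ofScheme] at h1
    exact ((AlgSp.Points.toScheme_ofPt (ψ j) w).symm.trans
      (congrArg (fun m => AlgSp.Points.toScheme L (AlgSp.Points.ofPt m w)) ((yon S).map_preimage _))).trans h1⟩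
  refine hom_ext_of_fppf Ψ (fppf_of_etale Ψ.left) _ _ (hom_ext_sigma W fun j => ?_)
  rw [← Functor.map_comp_assoc, ← Functor.map_comp_assoc, hΨι, Functor.map_preimage]
  exact key j

/-- Compatible affine charts of a space over the base. -/
theorem exists_charts (X : Over B) :
    ∃ (ι : Type u) (B' K : ι → Over S) (_ : ∀ x, IsAffine (B' x).left) (_ : ∀ x, IsAffine (K x).left)
      (b : ∀ x, (yon S).obj (B' x) ⟶ B.obj) (z : ∀ x, K x ⟶ B' x) (g : ∀ x, (yon S).obj (K x) ⟶ sp X),
      (∀ x, RepWith @Etale (b x)) ∧ (∀ x, RepWith @Etale (g x)) ∧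
      (∀ x, g x ≫ st X = (yon S).map (z x) ≫ b x) ∧
      ∀ y : AlgSp.Points (sp X), ∃ x, y ∈ Set.range (AlgSp.Points.map (g x)) := by
  obtain ⟨B₀, b₀, hb₀, hb₀s⟩ := B.property.atlas
  obtain ⟨U, a₀, hU, ha₀, ha₀s, hhU⟩ := exists_chart_over X.left.property B.property (st X) b₀
  have hch : ∀ x : ↥U.left, ∃ (V : B₀.left.Opens) (O : U.left.Opens) (e : O ≤ hU.left ⁻¹ᵁ V),
      IsAffineOpen V ∧ IsAffineOpen O ∧ x ∈ O := fun x => by
    obtain ⟨V, hV, hxV, -⟩ := exists_isAffineOpen_mem_and_subset (U := (⊤ : B₀.left.Opens)) (x := hU.left x) trivial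
    obtain ⟨O, hO, hxO, hOV⟩ := exists_isAffineOpen_mem_and_subset (U := hU.left ⁻¹ᵁ V) (x := x) hxV
    exact ⟨V, O, hOV, hV, hO, hxO⟩
  choose V O hle hV hO hxO using hch
  let B' : ↥U.left → Over S := fun x => Over.mk ((V x).ι ≫ B₀.hom)
  let K : ↥U.left → Over S := fun x => Over.mk ((O x).ι ≫ U.hom)
  have hB' : ∀ x, IsAffine (B' x).left := fun x => hV x
  have hK : ∀ x, IsAffine (K x).left := fun x => hO x
  let kb : ∀ x, B' x ⟶ B₀ := fun x => CategoryTheory.Over.homMk (V x).ι rfl
  let k : ∀ x, K x ⟶ U := fun x => CategoryTheory.Over.homMk (O x).ι rfl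
  let zz : ∀ x, K x ⟶ B' x := fun x => CategoryTheory.Over.homMk (hU.left.resLE (V x) (O x) (hle x)) (by
    show hU.left.resLE _ _ _ ≫ (V x).ι ≫ B₀.hom = (O x).ι ≫ U.hom
    rw [Scheme.Hom.resLE_comp_ι_assoc, Over.w hU])
  have hzz : ∀ x, zz x ≫ kb x = k x ≫ hU := fun x => Over.OverMorphism.ext (Scheme.Hom.resLE_comp_ι _ _)
  let g : ∀ x, (yon S).obj (K x) ⟶ sp X := fun x => (yon S).map (k x) ≫ a₀ ≫ pullback.fst (st X) b₀
  have hg : ∀ x, RepWith @Etale (g x) := fun x => repWith_comp
    ((repWith_yon_map_iff _ _).2 (inferInstanceAs (Etale (O x).ι))) (repWith_comp ha₀ (repWith_fst _ hb₀))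
  have hb : ∀ x, RepWith @Etale ((yon S).map (kb x) ≫ b₀) := fun x =>
    repWith_comp ((repWith_yon_map_iff _ _).2 (inferInstanceAs (Etale (V x).ι))) hb₀
  have hgz : ∀ x, g x ≫ st X = (yon S).map (zz x) ≫ (yon S).map (kb x) ≫ b₀ := fun x => by
    rw [← Functor.map_comp_assoc, hzz, Functor.map_comp_assoc, ← hhU]
    simp only [g, Category.assoc, pullback.condition]
  have hcov : ∀ y : AlgSp.Points (sp X), ∃ x, y ∈ Set.range (AlgSp.Points.map (g x)) := fun y => by
    obtain ⟨x, hx⟩ := surjective_ofPt (repWith_comp ha₀s (repWith_fst (st X) hb₀s)) y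
    refine ⟨x, AlgSp.Points.ofScheme (K x) ⟨x, hxO x⟩, ?_⟩
    rw [← AlgSp.Points.ofPt_eq_map_ofScheme, ofPt_comp]
    exact hx
  exact ⟨_, B', K, hB', hK, _, zz, g, hb, hg, hgz, hcov⟩

include h₁' h₂ in
/-- Two maps from the vertex which agree on the diagram are equal. -/
theorem ext_of_cocone (a b : sp c.pt ⟶ sp X) (ha : a ≫ st X = st c.pt) (hb' : b ≫ st X = st c.pt)
    (e : ∀ i, mor (c.ι.app i) ≫ a = mor (c.ι.app i) ≫ b) : a = b := by
  obtain ⟨W, q, hqe, hqs⟩ := c.pt.left.property.atlas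
  obtain ⟨ι₀, B', K, hB', hK, bb, zz, g, hb, hg, hgz, hcov⟩ := exists_charts X
  have := epi_of_etale_surjective hqe hqs
  refine (cancel_epi q).1 (hom_ext_of_openCover W.left.affineCover _ _ fun l => ?_)
  let L : Over S := Over.mk (W.left.affineCover.f l ≫ W.hom)
  let lι : L ⟶ W := CategoryTheory.Over.homMk (W.left.affineCover.f l) rfl
  have : IsAffine L.left := inferInstanceAs (IsAffine (W.left.affineCover.X l))
  have hlι : RepWith @Etale ((yon S).map lι) :=
    (repWith_yon_map_iff _ _).2 (inferInstanceAs (Etale (W.left.affineCover.f l)))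
  show (yon S).map lι ≫ q ≫ a = (yon S).map lι ≫ q ≫ b
  refine eq_of_restrict c h₁' h₂ ((yon S).map lι ≫ q) (repWith_comp hlι hqe) _ _ ?_ ?_ ?_ B' K bb hb zz g hg hgz hcov
  · simp only [Category.assoc]
    rw [ha]
  · simp only [Category.assoc]
    rw [hb']
  · intro i T l d hld
    calc l ≫ (yon S).map lι ≫ q ≫ a = (l ≫ (yon S).map lι ≫ q) ≫ a := by simp only [Category.assoc]
      _ = d ≫ mor (c.ι.app i) ≫ b := by rw [hld, Category.assoc, e i]
      _ = l ≫ (yon S).map lι ≫ q ≫ b := by rw [← Category.assoc d, ← hld]; simp only [Category.assoc]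

include h₁ h₁' h₂ hs hsB in
theorem exists_sp_desc :
    ∃ z : sp c.pt ⟶ sp X, z ≫ st X = st c.pt ∧ ∀ i, mor (c.ι.app i) ≫ z = s i := by
  obtain ⟨ι₀, B', K, hB', hK, bb, zz, g, hb, hg, hgz, hcov⟩ := exists_charts X
  choose κ W a t hae htB hcomp hrange using fun x =>
    exists_chart_desc c h₁ h₁' h₂ s hsB hs (B' := B' x) (K := K x) (bb x) (hb x) (zz x) (g x)
      (hg x) (hgz x)
  let WW : (Σ x, κ x) → Over S := fun p => W p.1 p.2
  obtain ⟨q, hq⟩ := exists_hom_sigma WW (fun p => a p.1 p.2)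
  obtain ⟨zP, hzP⟩ := exists_hom_sigma WW (fun p => t p.1 p.2)
  have hqr : Representable q := representable_from_yon' c.pt.left.property q
  have hqe : RepWith @Etale q := repWith_etale_sigma hqr fun p => by rw [hq]; exact hae p.1 p.2
  have hqs : RepWith @Surjective q := repWith_surjective_of_surjective hqr fun x => by
    obtain ⟨Pq, jq, a', hjq, ha', -, ha's⟩ := exists_image_chart c.pt.left.property hqe
    have hPq : IsAlgSpace Pq := Groth.Agent.AlgSpLib.isAlgSpace_of_representable jq hjq.rep c.pt.left.property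
    have : Mono jq := Groth.Agent.AlgSpPts.mono_of_repWith
      (repWith_mono (fun _ _ f (_ : IsOpenImmersion f) => (inferInstance : Mono f)) _ hjq)
    have hlift : ∀ i, ∃ l : sp (D.obj i) ⟶ Pq, l ≫ jq = mor (c.ι.app i) := fun i => by
      have sq := IsPullback.of_hasPullback jq (mor (c.ι.app i))
      have : IsIso (pullback.snd jq (mor (c.ι.app i))) := by
        refine isIso_of_mono_of_etale_surjective
          (isAlgSpace_pullback hPq (D.obj i).left.property c.pt.left.property _ _) (D.obj i).left.property _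
          (locP_of_repWith (repWith_mono (fun _ _ f (_ : IsOpenImmersion f) => (inferInstance : Etale f)) _
            (repWith_of_isPullback sq hjq))) fun y => ?_
        obtain ⟨j, hj⟩ := hcov (AlgSp.Points.map (s i) y)
        obtain ⟨p, w, hw⟩ := hrange j i y hj
        obtain ⟨z, -, hz⟩ := exists_point_of_isPullback sq
          (x := AlgSp.Points.map a' (AlgSp.Points.map ((yon S).map (sigmaι WW ⟨j, p⟩)) w)) (y := y) (by
            rw [← AlgSp.Points.map_comp, ← AlgSp.Points.map_comp, ha', hq, hw])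
        exact ⟨z, hz⟩
      exact ⟨inv (pullback.snd jq (mor (c.ι.app i))) ≫ pullback.fst _ _, by
        rw [Category.assoc, pullback.condition, IsIso.inv_hom_id_assoc]⟩
    choose l hl using hlift
    let u' : mkObj Pq hPq (jq ≫ st c.pt) ⟶ c.pt := mkMor jq rfl
    obtain ⟨m, hm, -, -⟩ := exists_of_restrict c h₁' (𝟙 c.pt) u'
      (isEtaleMor_of_isIso (𝟙 (sp c.pt)))
      (isEtaleMor_of_repWith (repWith_mono (fun _ _ f (_ : IsOpenImmersion f) => (inferInstance : Etale f)) _ hjq))
      (𝟙 D) c.ι (fun i => haveI : IsIso (mor (𝟙 c.pt)) := inferInstanceAs (IsIso (𝟙 _))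
      haveI : IsIso (𝟙 (sp (D.obj i))) := IsIso.id _
      haveI : IsIso (𝟙 (sp c.pt)) := IsIso.id _
      IsPullback.of_vert_isIso (fst := mor (c.ι.app i)) (snd := 𝟙 (sp (D.obj i)))
        (f := 𝟙 (sp c.pt)) (g := mor (c.ι.app i)) ⟨(Category.comp_id _).trans (Category.id_comp _).symm⟩)
      l (fun i => (hl i).trans (Category.comp_id _).symm)
      (fun i i' φ => (cancel_mono jq).1 (by
        rw [Category.assoc, hl, hl]
        exact congrArg mor (c.w φ)))
    have hm' : m ≫ jq = 𝟙 (sp c.pt) := hm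
    obtain ⟨w, hw⟩ := surjective_map_of_repWith ha's (AlgSp.Points.map m x)
    refine ⟨w, ?_⟩
    rw [← ha', AlgSp.Points.map_comp, hw, ← AlgSp.Points.map_comp, hm']
    induction x using AlgSp.Points.ind with
    | h f => rfl
  have hB : zP ≫ st X = q ≫ st c.pt := hom_ext_sigma WW fun p => by
    rw [← Category.assoc, hzP, ← Category.assoc, hq]
    exact htB p.1 p.2
  have hPcompat : ∀ i (T : Over S) (l : T ⟶ sigmaOver WW) (d : (yon S).obj T ⟶ sp (D.obj i)),
      (yon S).map l ≫ q = d ≫ mor (c.ι.app i) → (yon S).map l ≫ zP = d ≫ s i := by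
    intro i T l d hld
    let 𝒰 := (sigmaOpenCover fun j => (WW j).left).pullback₁ l.left
    refine hom_ext_of_openCover 𝒰 _ _ fun j => ?_
    let e : Over.mk (𝒰.f j ≫ T.hom) ⟶ T := CategoryTheory.Over.homMk (𝒰.f j) rfl
    let e' : Over.mk (𝒰.f j ≫ T.hom) ⟶ WW j := CategoryTheory.Over.homMk (pullback.snd _ _) (by
      show pullback.snd _ _ ≫ (WW j).hom = pullback.fst _ _ ≫ T.hom
      rw [← Over.w l, pullback.condition_assoc, ← Over.w (sigmaι WW j)]
      rfl)
    have he : e' ≫ sigmaι WW j = e ≫ l := Over.OverMorphism.ext pullback.condition.symm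
    show (yon S).map e ≫ (yon S).map l ≫ zP = (yon S).map e ≫ d ≫ s i
    rw [← Functor.map_comp_assoc, ← he, Functor.map_comp, Category.assoc, hzP, ← Category.assoc ((yon S).map e)]
    refine hcomp j.1 j.2 i _ e' _ ?_
    rw [← hq j, ← Category.assoc, ← Functor.map_comp, he, Functor.map_comp, Category.assoc, hld, Category.assoc]
  have := isLocallySurjective_of_etale_surjective hqe hqs
  let tt := (yon S).preimage (hqe.rep.fst q)
  let ss := hqe.rep.snd q
  have hR : IsPullback ((yon S).map tt) ((yon S).map ss) q q := by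
    rw [Functor.map_preimage]; exact hqe.rep.isPullback q
  have hsse : RepWith @Etale ((yon S).map ss) := (repWith_yon_map_iff _ _).2 (hqe.property_snd q)
  have key : (yon S).map tt ≫ zP = (yon S).map ss ≫ zP := by
    let R := hqe.rep.pullback q
    refine hom_ext_of_openCover R.left.affineCover _ _ fun l => ?_
    let L : Over S := Over.mk (R.left.affineCover.f l ≫ R.hom)
    let lι : L ⟶ R := CategoryTheory.Over.homMk (R.left.affineCover.f l) rfl
    have : IsAffine L.left := inferInstanceAs (IsAffine (R.left.affineCover.X l))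
    have hlι : RepWith @Etale ((yon S).map lι) :=
      (repWith_yon_map_iff _ _).2 (inferInstanceAs (Etale (R.left.affineCover.f l)))
    show (yon S).map lι ≫ (yon S).map tt ≫ zP = (yon S).map lι ≫ (yon S).map ss ≫ zP
    refine eq_of_restrict c h₁' h₂ ((yon S).map lι ≫ (yon S).map ss ≫ q) (repWith_comp hlι (repWith_comp hsse hqe))
      _ _ ?_ ?_ ?_ B' K bb hb zz g hg hgz hcov
    · simp only [Category.assoc]
      rw [hB, ← Category.assoc ((yon S).map tt), hR.w, Category.assoc]
    · simp only [Category.assoc]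
      rw [hB]
    · intro i T v d hvd
      obtain ⟨v, rfl⟩ := (yon S).map_surjective v
      rw [← Functor.map_comp_assoc, ← Functor.map_comp_assoc, ← Functor.map_comp_assoc, ← Functor.map_comp_assoc]
      refine (hPcompat i T _ d ?_).trans (hPcompat i T _ d ?_).symm
      · simp only [Functor.map_comp, Category.assoc, hR.w]
        exact hvd
      · simp only [Functor.map_comp, Category.assoc]
        exact hvd
  obtain ⟨z, hz⟩ := exists_desc_of_kernelPair hR zP key
  have := epi_of_etale_surjective hqe hqs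
  refine ⟨z, (cancel_epi q).1 (by rw [← Category.assoc, hz, hB]), fun i => hom_ext_of_yon _ _ fun T v => ?_⟩
  rw [← Category.assoc]
  have : Etale (hqe.rep.snd (v ≫ mor (c.ι.app i))).left := hqe.property_snd _
  have : Surjective (hqe.rep.snd (v ≫ mor (c.ι.app i))).left := hqs.2 _ _ _ (hqe.rep.isPullback _)
  refine hom_ext_of_fppf _ (fppf_of_etale (hqe.rep.snd (v ≫ mor (c.ι.app i))).left) _ _ ?_
  obtain ⟨u, hu⟩ := (yon S).map_surjective (hqe.rep.fst (v ≫ mor (c.ι.app i)))
  have h0 : (yon S).map u ≫ q = ((yon S).map (hqe.rep.snd (v ≫ mor (c.ι.app i))) ≫ v) ≫ mor (c.ι.app i) := by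
    rw [hu, hqe.rep.w, Category.assoc]
  have h1' := hPcompat i _ u _ h0
  rw [← hz, ← Category.assoc, h0] at h1'
  simpa only [Category.assoc] using h1'

end

/-- Let `B` be an algebraic space over `S`, `D : I ⥤ Over B` a diagram of algebraic spaces over `B` and
`c` a cocone. Assume (1) the base change functor from algebraic spaces etale over `c.pt` to systems
of algebraic spaces etale over the `D_i` with cartesian transition squares is an equivalence: every
such system is the base change of some etale `U → c.pt`, and every morphism between the base-change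
systems of two etale `U, U' → c.pt` comes from a unique morphism `U → U'` over `c.pt`; and (2) for
every affine scheme `B'` etale over `B`, affine scheme `Z` over `B'`, affine scheme `U` etale over
`c.pt ×_B B'` and cocone of morphisms `U ×_{c.pt} D_i → Z` over `B'`, there is a unique `U → Z` over
`B'` inducing it. Then `c` is a colimit in algebraic spaces over `B`. -/
theorem result {S : Scheme.{u}} {B : AlgSp.Space S} {I : Type v} [Category.{w} I]
    (D : I ⥤ Over B) (c : Cocone D)
    (h₁ : ∀ (D' : I ⥤ Over B) (α : D' ⟶ D),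
      (∀ ⦃i j : I⦄ (g : i ⟶ j), IsPullback (D'.map g).left.hom (α.app i).left.hom (α.app j).left.hom (D.map g).left.hom) →
      (∀ i, AlgSp.IsEtaleMor (α.app i).left.hom) →
        ∃ (c' : Cocone D') (a : c'.pt ⟶ c.pt), AlgSp.IsEtaleMor a.left.hom ∧
          ∀ i, IsPullback (c'.ι.app i).left.hom (α.app i).left.hom a.left.hom (c.ι.app i).left.hom)
    (h₁' : ∀ (U U' : Over B) (u : U ⟶ c.pt) (u' : U' ⟶ c.pt), AlgSp.IsEtaleMor u.left.hom → AlgSp.IsEtaleMor u'.left.hom →
      ∀ (DU DU' : I ⥤ Over B) (αU : DU ⟶ D) (αU' : DU' ⟶ D) (ιU : DU ⟶ (Functor.const I).obj U)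
        (ιU' : DU' ⟶ (Functor.const I).obj U'),
        (∀ i, IsPullback (ιU.app i).left.hom (αU.app i).left.hom u.left.hom (c.ι.app i).left.hom) →
        (∀ i, IsPullback (ιU'.app i).left.hom (αU'.app i).left.hom u'.left.hom (c.ι.app i).left.hom) →
        ∀ (β : DU ⟶ DU'), β ≫ αU' = αU →
          ∃! m : U ⟶ U', m ≫ u' = u ∧ ∀ i, ιU.app i ≫ m = β.app i ≫ ιU'.app i)
    (h₂ : ∀ (B' Zs Us : Over S) (b : (AlgSp.yon S).obj B' ⟶ B.obj) (z : Zs ⟶ B') {XB : AlgSp.Space S}
      (x₁ : XB ⟶ c.pt.left) (x₂ : XB.obj ⟶ (AlgSp.yon S).obj B') (uu : (AlgSp.yon S).obj Us ⟶ XB.obj)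
      (DU : I ⥤ AlgSp.Space S) (αU : DU ⟶ D ⋙ Over.forget B)
      (ιU : DU ⟶ (Functor.const I).obj ((AlgSp.ofScheme S).obj Us))
      (φ : DU ⟶ (Functor.const I).obj ((AlgSp.ofScheme S).obj Zs)),
      IsAffine B'.left → IsAffine Zs.left → IsAffine Us.left → AlgSp.RepWith @Etale b →
      IsPullback x₁.hom x₂ c.pt.hom.hom b → AlgSp.RepWith @Etale uu →
      (∀ i, IsPullback (ιU.app i).hom (αU.app i).hom (uu ≫ x₁.hom) (c.ι.app i).left.hom) →
      (∀ i, (φ.app i).hom ≫ (AlgSp.yon S).map z = (ιU.app i).hom ≫ uu ≫ x₂) →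
        ∃! fz : Us ⟶ Zs, (AlgSp.yon S).map fz ≫ (AlgSp.yon S).map z = uu ≫ x₂ ∧
          ∀ i, (ιU.app i).hom ≫ (AlgSp.yon S).map fz = (φ.app i).hom) :
    Nonempty (IsColimit c) := by
  have hd := fun s : Cocone D => exists_sp_desc c h₁ h₁' h₂ (X := s.pt) (fun i => mor (s.ι.app i))
    (fun i => mor_w (s.ι.app i)) (fun i j φ => congrArg mor (s.w φ))
  exact ⟨
    { desc := fun s => mkMor (hd s).choose (hd s).choose_spec.1
      fac := fun s i => mor_ext ((hd s).choose_spec.2 i)
      uniq := fun s m hm => by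
        refine mor_ext (ext_of_cocone c h₁' h₂ (mor m) _ (mor_w m) (hd s).choose_spec.1 fun i => ?_)
        exact (congrArg mor (hm i)).trans ((hd s).choose_spec.2 i).symm }⟩

end Groth.Agent.S10730
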