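import Groth.Statements.S10731
import Groth.Agent.EtQC.Glob.SymBound

set_option autoImplicit false
universe u
open CategoryTheory CategoryTheory.Limits AlgebraicGeometry Opposite
open AlgSp

namespace Groth.Agent.S10731

set_option backward.isDefEq.respectTransparency false
set_option backward.isDefEq.respectTransparency.types false

open Groth.Agent.EtQC Groth.Agent.EtQC.Glob Abelian

/-- The covering of the final object by one affine object. -/
noncomputable def covSep {S : Scheme.{u}} [S.IsSeparated] {X : Sp S} (hsep : IsSeparatedSp X) (V : EtOver X)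
    (hV : IsAffine V.obj.left.left) (hs : RepWith @Surjective V.obj.hom) : Cov (etTop X) (Aff (X := X)) where
  β := (Functor.const (EtOver X)ᵒᵖ).obj PUnit.{u + 2}
  m := 1
  W _ := V
  w _ := PUnit.unit
  good _ := hV
  meet {A A'} _ _ hA hA' := ⟨EtOver.prodObj A A', EtOver.prodFst A A', EtOver.prodSnd A A',
    (haveI : IsAffine A.obj.left.left := hA; haveI : IsAffine A'.obj.left.left := hA';
      isAffine_prodObj hsep A A'), rfl, fun {T} f g _ => by
      obtain ⟨l, hl⟩ := BinaryFan.IsLimit.lift' (EtOver.prodIsLimit A A') f g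
      exact ⟨l, hl, fun k hk => BinaryFan.IsLimit.hom_ext (EtOver.prodIsLimit A A')
        (hk.1.trans hl.1.symm) (hk.2.trans hl.2.symm)⟩⟩
  cover T _ := ⟨Sieve.ofArrows (fun _ : Unit => EtOver.prodObj T V) (fun _ => EtOver.prodFst T V),
    AlgSpDec.ofArrows_mem_etTop _ _ fun x => by
      have : Surjective (V.property.1.snd T.obj.hom).left := hs.2 _ _ _ (V.property.1.isPullback T.obj.hom)
      exact ⟨(), (V.property.1.snd T.obj.hom).left.surjective x⟩,
    fun T' a ha => by
      obtain ⟨_, l, hl⟩ := (Sieve.mem_ofArrows_iff _ _ _).1 ha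
      exact ⟨0, l ≫ EtOver.prodSnd T V, rfl⟩⟩

/-- Exactness in degrees from the bound on geometric fibres on. -/
theorem exactAt_covSep {S : Scheme.{u}} [S.IsSeparated] (X : Space S) (hsep : IsSeparatedSp X.obj)
    (V : EtOver X.obj) [IsAffine V.obj.left.left] (hs : RepWith @Surjective V.obj.hom) {d : ℕ}
    (hd : ∀ p : FieldPt X.obj, p.IsGeometric → ENat.card ((FieldPt.liftsTo p).obj V) ≤ d)
    (M : ModEt X.obj) (n : ℕ) (hn : d ≤ n + 1) :
    ExactAt (covSep hsep V ‹_› hs) ((toAbEt X.obj).obj M).obj n := by
  intro c hc hδ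
  let D := covSep hsep V ‹_› hs
  let tp : ∀ {i : ℕ} {T : EtOver X.obj}, (Fin (i + 1) → (T ⟶ V)) → D.Tup i T := fun {i T} q =>
    ⟨fun j => ⟨⟨(0 : Fin 1)⟩, q j⟩, fun _ _ => rfl⟩
  have htp : ∀ {i : ℕ} {T : EtOver X.obj} (p : D.Tup i T), tp (fun j => (p.1 j).2) = p := fun {i T} p =>
    Subtype.ext (funext fun j => by
      show (⟨⟨(0 : Fin 1)⟩, (p.1 j).2⟩ : D.L T) = p.1 j
      obtain ⟨⟨k⟩, f⟩ := p.1 j
      obtain rfl : k = (0 : Fin 1) := Fin.fin_one_eq_zero k
      rfl)
  obtain ⟨b, hb, hbc⟩ := exists_primitive hsep X.property hd (N := n + 1) hn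
    (fun T q => (c T (tp q) : sectModEt M T)) (fun T T' a q => hc T T' a (tp q)) fun T p => by
      refine Eq.trans ?_ (hδ T (tp p))
      exact Finset.sum_congr rfl fun j _ => rfl
  refine ⟨fun T p => b T fun j => (p.1 j).2, fun T T' a p => hb T T' a _, fun T p => ?_⟩
  refine Eq.trans ?_ ((hbc T fun j => (p.1 j).2).trans (congrArg (c T) (htp p)))
  exact Finset.sum_congr rfl fun j _ => rfl


/-- Let X be a quasi-compact algebraic space, separated over a separated base scheme S, let U be an
affine scheme with a surjective etale morphism f : h_U ⟶ X (representable etale and representable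
surjective), and let d be a natural number such that every geometric point of X has at most d lifts
to U. Then H^q(X, M) = 0 for every quasi-coherent O_X-module M on the small etale site of X and
every q ≥ d. (The published statement bounds the fibres of the induced map on sets of points; this
row bounds the geometric fibres, the form the argument uses — the two bounds agree at points with
separably closed residue field, and the geometric bound implies the bound on points. Separatedness
of X is taken relative to S together with S separated, which gives the absolute notion.) -/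
theorem result {S : Scheme.{u}} [S.IsSeparated] (X : AlgSp.Space S)
    (hqc : AlgSp.IsQuasiCompactSp X.obj) (hsep : AlgSp.IsSeparatedSp X.obj)
    {U : Over S} (hU : IsAffine U.left) (f : (AlgSp.yon S).obj U ⟶ X.obj)
    (hf : AlgSp.RepWith @Etale f) (hfs : AlgSp.RepWith @Surjective f) (d : ℕ)
    (hd : ∀ x : AlgSp.FieldPt X.obj, x.IsGeometric →
      ENat.card ((AlgSp.FieldPt.liftsTo x).obj (AlgSp.EtOver.mk f hf)) ≤ d)
    (M : AlgSp.ModEt X.obj) [M.IsQuasicoherent] (q : ℕ) (hq : d ≤ q) :
    Subsingleton (AlgSp.HModEt X.obj M q) := by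
  let V : EtOver X.obj := EtOver.mk f hf
  haveI : IsAffine V.obj.left.left := hU
  let D := covSep hsep V ‹_› hfs
  let G := (toAbEt X.obj).obj M
  have hG : IsAffAcyclic G := isAffAcyclic_of_bcAll (bcAll_of_isQuasicoherent M)
  obtain ⟨u, hu⟩ := exists_val (β := D.β) (G := zc X.obj) (fun E _ => glob (𝟙 _) E)
    fun E E' a b => glob_res _ a
  obtain ⟨v, hv⟩ := exists_glob (X := X.obj) (G := zb D.β) (fun E => val (𝟙 _) E PUnit.unit)
    fun E E' a => val_res (β := D.β) (𝟙 _) a PUnit.unit
  have hvu : v ≫ u = 𝟙 _ := glob_ext fun E => by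
    rw [glob_comp, hv, ← val_comp, Category.id_comp, hu]
  rcases Nat.eq_zero_or_pos q with rfl | hq0
  · -- there are no points at all
    obtain rfl : d = 0 := by omega
    have hempty : ∀ E : EtOver X.obj, IsEmpty ↥E.obj.left.left := fun E => ⟨fun x => by
      haveI : Surjective (V.property.1.snd E.obj.hom).left := hfs.2 _ _ _ (V.property.1.isPullback E.obj.hom)
      obtain ⟨y, -⟩ := (V.property.1.snd E.obj.hom).left.surjective x
      haveI : Nonempty ↥V.obj.left.left := ⟨(EtOver.prodSnd E V).hom.left.left y⟩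
      exact absurd (card_le_of_dist X.property hd (fun _ : Fin 1 => 𝟙 V)
        fun a b h => absurd (Subsingleton.elim a b) h) (by omega)⟩
    refine subsingleton_of_forall_eq 0 fun x => ?_
    obtain ⟨φ, rfl⟩ := (Ext.mk₀_bijective _ _).2 x
    have h0 : φ = 0 := glob_ext fun E =>
      (sect_eq_zero_of_isEmpty M (hempty E) _).trans (sect_eq_zero_of_isEmpty M (hempty E) _).symm
    rw [h0, Ext.mk₀_zero]
  obtain ⟨j, rfl⟩ : ∃ j, q = j + 1 := ⟨q - 1, by omega⟩
  haveI := subsingleton_ext_of_exactAt D j G hG fun n hn => exactAt_covSep X hsep V hfs hd M n (by omega)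
  refine subsingleton_of_forall_eq 0 fun x => ?_
  have h : (x : Ext (zc X.obj) G (j + 1)) = (Ext.mk₀ v).comp ((Ext.mk₀ u).comp x (zero_add _)) (zero_add _) := by
    rw [Ext.mk₀_comp_mk₀_assoc, hvu, Ext.mk₀_id_comp]
  rw [h, Subsingleton.elim ((Ext.mk₀ u).comp x (zero_add _)) 0, Ext.comp_zero]

end Groth.Agent.S10731
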