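import Groth.Statements.S10733
import Groth.Agent.EtQC.Chev.Chow
-- import your own Groth.Agent.* helpers here

set_option autoImplicit false
universe u
open CategoryTheory CategoryTheory.Limits AlgebraicGeometry Opposite
open AlgSp

namespace Groth.Agent.S10733

set_option backward.isDefEq.respectTransparency false
set_option backward.isDefEq.respectTransparency.types false
open Groth.Agent.EtQC Groth.Agent.AlgSpLib Groth.Agent.AlgSpPts

/-- Let S be an affine scheme and X an algebraic space over S whose structure morphism p to h_S (S over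
itself by the identity) is separated and of finite type. Then there are a scheme X' over S whose
structure morphism X' ⟶ S is H-quasi-projective (a quasi-compact immersion into some projective
space over S) and a proper surjective morphism h_{X'} ⟶ X. -/
theorem result {S : Scheme.{u}} [IsAffine S] (X : AlgSp.Space S)
    (p : X.obj ⟶ (AlgSp.yon S).obj (Over.mk (𝟙 S)))
    (hsep : AlgSp.IsSeparatedMor p) (hft : AlgSp.IsFiniteTypeMor p) :
    ∃ (T : Over S) (g : (AlgSp.yon S).obj T ⟶ X.obj),
      RelProj.IsHQuasiProjective T.hom ∧ AlgSp.IsProperMor g ∧ AlgSp.IsSurjectiveMor g := by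
  haveI : IsAffine (Over.mk (𝟙 S) : Over S).left := ‹IsAffine S›
  have hqc : IsQuasiCompactSp X.obj :=
    hft.2 (IsAlgSpace.yon_obj _) ((isQuasiCompactSp_yon_iff _).2 inferInstance) (𝟙 _) (𝟙 X.obj) p
      (IsPullback.of_horiz_isIso ⟨by simp⟩)
  obtain ⟨T, g, hg, hgs⟩ := Chev.ProperCover.exists_finite_cover X p hqc
    (repWith_mono (fun _ _ k (_ : IsClosedImmersion k) => (inferInstance : QuasiCompact k)) _ hsep)
  obtain ⟨n, T', a, t, j, -, ha, has, hj, hjc, hw⟩ := Chev.Chow.exists_chow X.property p hsep hft g hg hgs
  refine ⟨T', a, ⟨n, j, hj, hjc, hw.trans ?_⟩, ha, has⟩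
  simpa using Over.w t

end Groth.Agent.S10733
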