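import Groth.Statements.S10734
import Groth.Agent.S10732
import Groth.Agent.EtQC.Chev.Main
-- import your own Groth.Agent.* helpers here

set_option autoImplicit false
universe u
open CategoryTheory CategoryTheory.Limits AlgebraicGeometry Opposite
open AlgSp

namespace Groth.Agent.S10734

set_option backward.isDefEq.respectTransparency false
set_option backward.isDefEq.respectTransparency.types false
open Groth.Agent.EtQC

/-- Let X be a Noetherian algebraic space (quasi-compact, quasi-separated, locally Noetherian) over a
quasi-separated scheme S, T an affine scheme over S and f : h_T ⟶ X a finite surjective morphism.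
Then X is an affine scheme: there is an affine scheme T' over S with h_{T'} ≅ X. -/
theorem result {S : Scheme.{u}} [QuasiSeparatedSpace ↥S]
    (X : AlgSp.Space S) (hqc : AlgSp.IsQuasiCompactSp X.obj) (hqs : AlgSp.IsQuasiSeparatedSp X.obj)
    (hN : AlgSp.IsLocNoethSp X.obj) {T : Over S} (hT : IsAffine T.left) (f : (AlgSp.yon S).obj T ⟶ X.obj)
    (hfin : AlgSp.IsFiniteMor f) (hsurj : AlgSp.IsSurjectiveMor f) :
    ∃ T' : Over S, IsAffine T'.left ∧ Nonempty ((AlgSp.yon S).obj T' ≅ X.obj) := by
  haveI := hT
  obtain ⟨U, φ, hU, he, hs⟩ := AlgSpLib.CartierRegular.exists_affine_atlas X.property hqc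
  let V : EtOver X.obj := EtOver.mk φ he
  haveI : IsAffine V.obj.left.left := hU
  have hf := AlgSpDec.representable_of_isAffineMor (Chev.isAffineMor_of_finite hfin)
  refine S10732.result X hqc hqs fun M hM => ?_
  haveI := hM
  exact Chev.subsingleton_qcoh X.property hqc hqs hf (Chev.fpPush_of_noetherian hf hfin hN) hfin hsurj (V := V) hs 1
    Nat.one_pos M (bcAll_of_isQuasicoherent M)

end Groth.Agent.S10734
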