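import Groth.Statements.S10737
import Groth.Agent.EtQC.FP.HomColim
import Groth.Agent.EtQC.PushQcqs

set_option autoImplicit false
universe u
open CategoryTheory CategoryTheory.Limits AlgebraicGeometry Opposite
open AlgSp

namespace Groth.Agent.S10737

set_option backward.isDefEq.respectTransparency false
set_option backward.isDefEq.respectTransparency.types false
set_option maxHeartbeats 800000

open Groth.Agent.EtQC

/-- A linear map to a colimit of modules lifts to a stage. -/
theorem exists_lift {R : Type*} [CommRing R] {M : Type*} [AddCommGroup M] [Module R M] [Module.FinitePresentation R M]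
    {I : Type*} [Category I] [IsFiltered I] (N : I → Type*) [∀ i, AddCommGroup (N i)] [∀ i, Module R (N i)]
    (N' : Type*) [AddCommGroup N'] [Module R N'] (ι : ∀ i, N i →ₗ[R] N') (t : ∀ {i j : I}, (i ⟶ j) → N i →ₗ[R] N j)
    (ht : ∀ {i j : I} (a : i ⟶ j) x, ι j (t a x) = ι i x)
    (hex : ∀ y, ∃ i x, ι i x = y) (hker : ∀ i x, ι i x = 0 → ∃ (j : I) (a : i ⟶ j), t a x = 0)
    (htc : ∀ {i j k : I} (a : i ⟶ j) (b : j ⟶ k) x, t (a ≫ b) x = t b (t a x))
    (h : M →ₗ[R] N') : ∃ (i : I) (l : M →ₗ[R] N i), ∀ e, ι i (l e) = h e := by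
  classical
  obtain ⟨n, K, e, hK⟩ := Module.FinitePresentation.exists_fin R M
  obtain ⟨G, hG⟩ := hK
  choose i₀ x₀ hx₀ using fun a : Fin n => hex (h (e.symm (Submodule.Quotient.mk (Pi.single a 1))))
  obtain ⟨i, hi⟩ := IsFiltered.sup_objs_exists (Finset.univ.image i₀)
  let y : Fin n → N i := fun a => t (hi (Finset.mem_image_of_mem _ (Finset.mem_univ a))).some (x₀ a)
  let L : (Fin n → R) →ₗ[R] N i := (Pi.basisFun R (Fin n)).constr R y
  have hL : ∀ v, ι i (L v) = h (e.symm (Submodule.Quotient.mk v)) := fun v => by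
    refine LinearMap.congr_fun (?_ : (ι i).comp L = (h.comp e.symm.toLinearMap).comp K.mkQ) v
    refine (Pi.basisFun R (Fin n)).ext fun a => ?_
    simp [L, y, ht, hx₀]
  have hG0 : ∀ r ∈ G, ∃ (j : I) (a : i ⟶ j), t a (L r) = 0 := fun r hr => hker i (L r) (by
    rw [hL, (Submodule.Quotient.mk_eq_zero K).2 (hG ▸ Submodule.subset_span hr), map_zero, map_zero])
  have key : ∀ G' : Finset (Fin n → R), G' ⊆ G → ∃ (j : I) (a : i ⟶ j), ∀ r ∈ G', t a (L r) = 0 := fun G' hG' => by
    induction G' using Finset.induction with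
    | empty => exact ⟨i, 𝟙 i, by simp⟩
    | insert r G' _ ih =>
      obtain ⟨j, a, ha⟩ := ih ((Finset.subset_insert _ _).trans hG')
      obtain ⟨l, b, hb⟩ := hker j (t a (L r)) (by
        rw [ht, hL, (Submodule.Quotient.mk_eq_zero K).2 (hG ▸ Submodule.subset_span (hG' (Finset.mem_insert_self r G'))),
          map_zero, map_zero])
      refine ⟨l, a ≫ b, fun r' hr' => ?_⟩
      rw [htc]
      rcases Finset.mem_insert.1 hr' with rfl | hr'
      · exact hb
      · rw [ha r' hr', map_zero]
  obtain ⟨j, a, ha⟩ := key G le_rfl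
  have hle : K ≤ LinearMap.ker ((t a).comp L) := hG ▸ Submodule.span_le.2 fun r hr => ha r hr
  refine ⟨j, (K.liftQ ((t a).comp L) hle).comp e.toLinearMap, fun m => ?_⟩
  obtain ⟨v, hv⟩ := Submodule.Quotient.mk_surjective K (e m)
  show ι j (K.liftQ _ hle (e m)) = h m
  rw [← hv, Submodule.liftQ_apply, LinearMap.comp_apply, ht, hL, hv, LinearEquiv.symm_apply_apply]

/-- Let X be a quasi-compact algebraic space, quasi-separated over a quasi-separated base scheme S, and
G an O_X-module of finite presentation on the small etale site of X. Then for every system (F_i) of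
O_X-modules indexed by a nonempty directed preorder I, the canonical map colim_i Hom(G, F_i) ⟶
Hom(G, colim_i F_i) is a bijection: the functor Hom(G, -) preserves colimits of shape I. -/
theorem result {S : Scheme.{u}}
    [QuasiSeparatedSpace ↥S] (X : AlgSp.Space S) (hqc : AlgSp.IsQuasiCompactSp X.obj)
    (hqs : AlgSp.IsQuasiSeparatedSp X.obj) (G : AlgSp.ModEt X.obj) [G.IsFinitePresentation]
    (I : Type (u + 1)) [Preorder I] [IsDirected I (· ≤ ·)] [Nonempty I] :
    PreservesColimitsOfShape I (coyoneda.obj (op G)) := by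
  classical
  have hGb := bcAll_of_isQuasicoherent G
  obtain ⟨V, hVa, hVs⟩ := Glob.exists_atlas hqc
  haveI := hVa
  haveI := finitePresentation_sections G V
  obtain ⟨E₀, hE₀⟩ := (inferInstance : Module.Finite (Fn V) (sectModEt G V)).fg_top
  refine ⟨fun {F} => ⟨fun {c} hc => ⟨Types.FilteredColimit.isColimitOf _ _ (fun h => ?_) fun i i' φ φ' hφ => ?_⟩⟩⟩
  · -- a morphism comes from a stage
    change G ⟶ c.pt at h
    obtain ⟨i, l, hl⟩ := exists_lift (fun i => sectModEt (F.obj i) V) (sectModEt c.pt V) (fun i => app (c.ι.app i) V)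
      (fun a => app (F.map a) V)
      (fun a x => (app_comp' _ _ V x).symm.trans (FPres.app_eq_of_eq (c.w a) V x))
      (fun y => FPres.exists_stage hc V y) (fun i x hx => FPres.exists_kill_stage hc V i x hx)
      (fun a b x => (FPres.app_eq_of_eq (F.map_comp a b) V x).trans (app_comp' _ _ V x)) (app h V)
    obtain ⟨hq, hq'⟩ := Glob.qcqs_prodObj hqs V V (Glob.qcqs_of_isAffine V) (Glob.qcqs_of_isAffine V)
    obtain ⟨n, P, a, hP, -, hcov⟩ := exists_finite_affine (EtOver.prodObj V V)
    have he₁ : ∀ (k : Fin n) (T : sectModEt G V →ₗ[Fn V] sectModEt (F.obj i) V),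
        ∃ lc : sectModEt G (P k) →ₗ[Fn (P k)] sectModEt (F.obj i) (P k),
          ∀ e, lc (res G (a k ≫ EtOver.prodSnd V V) e) = res (F.obj i) (a k ≫ EtOver.prodSnd V V) (T e) :=
      fun k T => haveI := hP k; FPres.exists_along hGb T (P k) (a k ≫ EtOver.prodSnd V V)
    choose l₂ hl₂ using fun k => he₁ k l
    have hzero : ∀ p : Fin n × {e // e ∈ E₀}, app (c.ι.app i) (P p.1)
        (l₂ p.1 (res G (a p.1 ≫ EtOver.prodFst V V) p.2.1) - res (F.obj i) (a p.1 ≫ EtOver.prodFst V V) (l p.2.1)) = 0 := by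
      rintro ⟨k, e, he⟩
      haveI := hP k
      have h2 : ∀ g, app (c.ι.app i) (P k) (l₂ k g) = app h (P k) g := fun g => by
        refine LinearMap.eqOn_span (f := (app (c.ι.app i) (P k)).comp (l₂ k)) (g := app h (P k)) ?_
          (FPres.mem_span_res hGb (a k ≫ EtOver.prodSnd V V) g)
        rintro _ ⟨e, rfl⟩
        show app (c.ι.app i) (P k) (l₂ k _) = _
        rw [hl₂]
        exact (app_res (c.ι.app i) _ _).trans ((congrArg (res c.pt _) (hl e)).trans (app_res h _ e).symm)
      refine (LinearMap.map_sub (app (c.ι.app i) (P k)) _ _).trans (sub_eq_zero.2 ?_)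
      exact (h2 _).trans ((app_res h _ e).trans ((congrArg (res c.pt _) (hl e)).symm.trans (app_res (c.ι.app i) _ (l e)).symm))
    obtain ⟨j, b, hb⟩ := FPres.exists_kill_finset hc Finset.univ i (fun p : Fin n × {e // e ∈ E₀} => P p.1)
      (fun p => hP p.1) _ (fun p _ => hzero p)
    let l' : sectModEt G V →ₗ[Fn V] sectModEt (F.obj j) V := (app (F.map b) V).comp l
    choose lc hlc using fun (T : EtOver X.obj) (hT : IsAffine T.obj.left.left) (d : T ⟶ V) =>
      haveI := hT
      FPres.exists_along hGb l' T d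
    obtain ⟨ψ, hψ⟩ := FPres.exists_hom hGb l' lc hlc hVs P a hP hcov E₀ hE₀ (fun k e he => by
      haveI := hP k
      have h3 : ∀ g, lc (P k) (hP k) (a k ≫ EtOver.prodSnd V V) g = app (F.map b) (P k) (l₂ k g) := fun g => by
        refine LinearMap.eqOn_span (g := (app (F.map b) (P k)).comp (l₂ k)) ?_
          (FPres.mem_span_res hGb (a k ≫ EtOver.prodSnd V V) g)
        rintro _ ⟨e, rfl⟩
        show lc (P k) _ _ _ = app (F.map b) (P k) (l₂ k _)
        rw [hlc, hl₂, app_res]
        rfl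
      have h4 := (LinearMap.map_sub (app (F.map b) (P k)) _ _).symm.trans (hb (k, ⟨e, he⟩) (Finset.mem_univ _))
      rw [h3, sub_eq_zero.1 h4, app_res]
      rfl) hqs
    refine ⟨j, ψ, ?_⟩
    refine (FPres.hom_ext_gens hGb hqs hVs E₀ hE₀ (φ := h) (φ' := ψ ≫ c.ι.app j) fun e _ => ?_)
    refine Eq.trans ?_ (app_comp' ψ (c.ι.app j) V e).symm
    rw [hψ V hVa (𝟙 V)]
    have := hlc V hVa (𝟙 V) e
    rw [res_id, res_id] at this
    rw [this]
    exact (hl e).symm.trans ((app_comp' _ _ V (l e)).symm.trans (FPres.app_eq_of_eq (c.w b) V (l e))).symm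
  · -- morphisms agreeing in the colimit agree at a stage
    change G ⟶ F.obj i at φ
    change G ⟶ F.obj i' at φ'
    change φ ≫ c.ι.app i = φ' ≫ c.ι.app i' at hφ
    obtain ⟨k, a, a', -⟩ := IsFilteredOrEmpty.cocone_objs i i'
    have h0 : ∀ e ∈ E₀, app (c.ι.app k) V (app (F.map a) V (app φ V e) - app (F.map a') V (app φ' V e)) = 0 :=
      fun e _ => by
        refine (LinearMap.map_sub (app (c.ι.app k) V) _ _).trans (sub_eq_zero.2 ?_)
        rw [← app_comp', ← app_comp', ← app_comp', ← app_comp']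
        refine FPres.app_eq_of_eq ?_ V e
        exact ((congrArg (φ ≫ ·) (c.w a)).trans hφ).trans (congrArg (φ' ≫ ·) (c.w a')).symm
    obtain ⟨j, b, hb⟩ := FPres.exists_kill_finset hc E₀ k (fun _ => V) (fun _ => hVa) _ h0
    refine ⟨j, a ≫ b, a' ≫ b, ?_⟩
    show φ ≫ F.map (a ≫ b) = φ' ≫ F.map (a' ≫ b)
    refine FPres.hom_ext_gens hGb hqs hVs E₀ hE₀ fun e he => ?_
    have h5 := sub_eq_zero.1 ((LinearMap.map_sub (app (F.map b) V) _ _).symm.trans (hb e he))
    rw [F.map_comp, F.map_comp, app_comp', app_comp', app_comp', app_comp']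
    exact h5

end Groth.Agent.S10737
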