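import Groth.Statements.S10742
import Groth.Agent.EtQC.Coh
-- import your own Groth.Agent.* helpers here

set_option autoImplicit false
universe u
open CategoryTheory CategoryTheory.Limits AlgebraicGeometry Opposite
open AlgSp

set_option backward.isDefEq.respectTransparency false
set_option backward.isDefEq.respectTransparency.types false
open CategoryTheory CategoryTheory.Limits

namespace Groth.Agent.S10742

/-- Let X be a locally Noetherian algebraic space over S and φ : M ⟶ N a morphism of coherent
O_X-modules on the small etale site of X (coherent meaning of finite presentation, X being locally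
Noetherian). Then the kernel and the cokernel of φ are coherent. -/
theorem result {S : Scheme.{u}} (X : AlgSp.Space S)
    (hX : AlgSp.IsLocNoethSp X.obj) {M N : AlgSp.ModEt X.obj} [M.IsFinitePresentation] [N.IsFinitePresentation]
    (φ : M ⟶ N) :
    (kernel φ).IsFinitePresentation ∧ (cokernel φ).IsFinitePresentation := by
  have hM := EtQC.bcAll_of_isQuasicoherent M
  have hN := EtQC.bcAll_of_isQuasicoherent N
  have hk := EtQC.bcAll_kernel φ hM hN
  refine ⟨EtQC.isFinitePresentation_of_ft hX hk (EtQC.ft_left (T := ShortComplex.mk (kernel.ι φ) φ
    (kernel.condition φ)) hX (ShortComplex.exact_of_f_is_kernel _ (kernelIsKernel φ)) (EtQC.ft_of_isFiniteType M)), ?_⟩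
  have hc := EtQC.bcAll_cokernel φ hM hN
  exact EtQC.isFinitePresentation_of_ft hX hc (EtQC.ft_right (EtQC.shortExact_kernel (cokernel.π φ))
    (EtQC.bcAll_kernel _ hN hc) (EtQC.ft_of_isFiniteType N))

end Groth.Agent.S10742
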