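import Groth.Statements.S10743
import Groth.Agent.EtQC.Coh
-- import your own Groth.Agent.* helpers here

set_option autoImplicit false
universe u
open CategoryTheory CategoryTheory.Limits AlgebraicGeometry Opposite
open AlgSp

set_option backward.isDefEq.respectTransparency false
set_option backward.isDefEq.respectTransparency.types false
open CategoryTheory CategoryTheory.Limits

namespace Groth.Agent.S10743

/-- Let X be a locally Noetherian algebraic space over S and 0 ⟶ M₁ ⟶ M₂ ⟶ M₃ ⟶ 0 a short exact sequence
of O_X-modules on the small etale site of X with M₁ and M₃ coherent (of finite presentation, X being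
locally Noetherian). Then M₂ is coherent. -/
theorem result {S : Scheme.{u}} (X : AlgSp.Space S)
    (hX : AlgSp.IsLocNoethSp X.obj) (T : ShortComplex (AlgSp.ModEt X.obj)) (hT : T.ShortExact)
    [T.X₁.IsFinitePresentation] [T.X₃.IsFinitePresentation] :
    T.X₂.IsFinitePresentation := by
  have h₁ := EtQC.bcAll_of_isQuasicoherent T.X₁
  have h₃ := EtQC.bcAll_of_isQuasicoherent T.X₃
  exact EtQC.isFinitePresentation_of_ft hX (EtQC.bcAll_middle hT h₁ h₃)
    (EtQC.ft_middle hT h₁ h₃ (EtQC.ft_of_isFiniteType T.X₁) (EtQC.ft_of_isFiniteType T.X₃))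

end Groth.Agent.S10743
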