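import Groth.Statements.S10748
import Groth.Agent.EtQC.UnionFT

set_option autoImplicit false
universe u
open CategoryTheory CategoryTheory.Limits AlgebraicGeometry Opposite
open AlgSp

namespace Groth.Agent.S10748

set_option backward.isDefEq.respectTransparency false
set_option backward.isDefEq.respectTransparency.types false

open Groth.Agent.EtQC

/-- Two coherent modules map into the hull of finitely many sections. -/
theorem exists_bound_hull {S : Scheme.{u}} [QuasiSeparatedSpace ↥S] {X : Sp S} {M A B : ModEt X} (hM : BCAll M) {V : EtOver X}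
    [IsAffine V.obj.left.left] (hA : A.IsFinitePresentation) (hB : B.IsFinitePresentation) (φA : A ⟶ M) (φB : B ⟶ M) :
    ∃ (N₀ : Submodule (Fn V) (sectModEt M V)) (_ : N₀.FG) (ψA : A ⟶ (hull hM N₀).mod) (ψB : B ⟶ (hull hM N₀).mod),
      ψA ≫ (hull hM N₀).ι = φA ∧ ψB ≫ (hull hM N₀).ι = φB := by
  haveI := hA
  haveI := hB
  haveI := finitePresentation_sections A V
  haveI := finitePresentation_sections B V
  let N₀ := LinearMap.range (app φA V) ⊔ LinearMap.range (app φB V)
  have hfg : N₀.FG := by
    refine Submodule.FG.sup ?_ ?_ <;>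
      (rw [← Submodule.map_top]; exact Module.Finite.fg_top.map _)
  obtain ⟨ψA, hA'⟩ := exists_factor_hull hM (bcAll_of_isQuasicoherent _) φA N₀
    fun t => Submodule.mem_sup_left ⟨t, rfl⟩
  obtain ⟨ψB, hB'⟩ := exists_factor_hull hM (bcAll_of_isQuasicoherent _) φB N₀
    fun t => Submodule.mem_sup_right ⟨t, rfl⟩
  exact ⟨N₀, hfg, ψA, ψB, hA', hB'⟩

/-- Let X be a Noetherian algebraic space (quasi-compact, quasi-separated, locally Noetherian) over a
quasi-separated scheme S and M a quasi-coherent O_X-module on the small etale site of X. Then M is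
the union, as a filtered colimit, of those of its submodules that are coherent: the full subcategory
of monomorphisms N ⟶ M with N of finite presentation is filtered, and the cocone on their sources
with vertex M given by the inclusions is a colimit. -/
theorem result {S : Scheme.{u}} [QuasiSeparatedSpace ↥S]
    (X : AlgSp.Space S) (hqc : AlgSp.IsQuasiCompactSp X.obj) (hqs : AlgSp.IsQuasiSeparatedSp X.obj)
    (hN : AlgSp.IsLocNoethSp X.obj) (M : AlgSp.ModEt X.obj) [M.IsQuasicoherent] :
    IsFiltered (ObjectProperty.FullSubcategory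
        (fun N : MonoOver M => SheafOfModules.IsFinitePresentation N.obj.left)) ∧
      Nonempty (IsColimit ((Over.forgetCocone M).whisker
        (ObjectProperty.ι (fun N : MonoOver M => SheafOfModules.IsFinitePresentation N.obj.left) ⋙
          MonoOver.forget M))) := by
  obtain ⟨V, hV, hs⟩ := Glob.exists_atlas hqc
  haveI := hV
  have hM : BCAll M := bcAll_of_isQuasicoherent M
  let P : ObjectProperty (MonoOver M) := fun N => SheafOfModules.IsFinitePresentation N.obj.left
  let mk : ∀ N₀ : Submodule (Fn V) (sectModEt M V), N₀.FG → P.FullSubcategory := fun N₀ h =>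
    ⟨MonoOver.mk (hull hM N₀).ι, hull_fp hqs hN hM hs N₀ h⟩
  haveI hne : Nonempty P.FullSubcategory := ⟨mk ⊥ Submodule.fg_bot⟩
  haveI hfil : IsFiltered P.FullSubcategory :=
    { cocone_objs := fun (A B : P.FullSubcategory) => by
        obtain ⟨N₀, hfg, ψA, ψB, hA, hB⟩ := exists_bound_hull hM (V := V) A.property B.property A.obj.arrow B.obj.arrow
        exact ⟨mk N₀ hfg, ObjectProperty.homMk (MonoOver.homMk ψA hA), ObjectProperty.homMk (MonoOver.homMk ψB hB),
          trivial⟩
      cocone_maps := fun {A B} f g => ⟨B, 𝟙 B, by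
        rw [Category.comp_id, Category.comp_id]
        exact ObjectProperty.hom_ext _ (Subsingleton.elim _ _)⟩ }
  refine ⟨hfil, ?_⟩
  let c := (Over.forgetCocone M).whisker (P.ι ⋙ MonoOver.forget M)
  haveI : ∀ A : P.FullSubcategory, Mono (c.ι.app A) := fun A => A.obj.property
  refine isColimit_of_union (M := M) _ c.ι fun W hW s => ?_
  haveI := hW
  obtain ⟨T, hT⟩ := exists_hull_mem hqs hM (V := V) W s
  obtain ⟨t, ht⟩ := (Set.ext_iff.1 ((hull hM (Submodule.span (Fn V) (T : Set (sectModEt M V)))).range_ι W hW) s).2
    (hT _ Submodule.subset_span)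
  exact ⟨mk _ ⟨T, rfl⟩, t, ht⟩

end Groth.Agent.S10748
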