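import Groth.Statements.S10749
import Groth.Agent.EtQC.FP.Colim
import Groth.Agent.AlgSpDec.AffineRep
import Groth.Agent.AlgSpDec.LimDescentRep

set_option autoImplicit false
universe u
open CategoryTheory CategoryTheory.Limits AlgebraicGeometry Opposite
open AlgSp

namespace Groth.Agent.S10749

set_option backward.isDefEq.respectTransparency false
set_option backward.isDefEq.respectTransparency.types false

/-- Let f : X ⟶ Y be an affine morphism of algebraic spaces over a quasi-separated scheme S with Y
Noetherian (quasi-compact, quasi-separated, locally Noetherian). Then every quasi-coherent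
O_X-module M on the small etale site of X is a filtered colimit of O_X-modules of finite
presentation. -/
theorem result {S : Scheme.{u}} [QuasiSeparatedSpace ↥S]
    {X Y : AlgSp.Space S} (f : X ⟶ Y) (haff : AlgSp.IsAffineMor f.hom) (hqc : AlgSp.IsQuasiCompactSp Y.obj)
    (hqs : AlgSp.IsQuasiSeparatedSp Y.obj) (hN : AlgSp.IsLocNoethSp Y.obj) (M : AlgSp.ModEt X.obj)
    [M.IsQuasicoherent] :
    ∃ (J : Type (u + 1)) (_ : SmallCategory J) (_ : IsFiltered J) (D : J ⥤ AlgSp.ModEt X.obj)
      (ι : D ⟶ (Functor.const J).obj M),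
      (∀ j, (D.obj j).IsFinitePresentation) ∧ Nonempty (IsColimit (Cocone.mk M ι)) := by
  have hr := AlgSpDec.repWith_isAffineHom_of_isAffineMor haff
  have hX : AlgSp.IsQuasiCompactSp X.obj := AlgSpPts.isQuasiCompactMor_of_repWith
    (AlgSpLib.repWith_mono (fun _ _ e (_ : IsAffineHom e) => (inferInstance : QuasiCompact e)) _ hr)
    Y.property hqc (𝟙 Y.obj) (𝟙 X.obj) f.hom (IsPullback.id_horiz f.hom)
  have hXs : AlgSp.IsQuasiSeparatedSp X.obj := by
    rw [AlgSpPts.isQuasiSeparatedSp_iff_mor] at hqs ⊢
    rw [← (AlgSpPts.isTerminalYon S).hom_ext (f.hom ≫ (AlgSpPts.isTerminalYon S).from Y.obj) ((AlgSpPts.isTerminalYon S).from X.obj)]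
    exact AlgSpPts.isQuasiSeparatedMor_comp (AlgSpDec.isQuasiSeparatedMor_of_isSeparatedMor
      (AlgSpDec.isSeparatedMor_of_repWith_affine hr)) hqs
  exact Groth.Agent.EtQC.FPres.exists_isColimit_fp X.property hX hXs (Groth.Agent.EtQC.bcAll_of_isQuasicoherent M)

end Groth.Agent.S10749
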