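import Groth.Statements.S1075
import Mathlib.Algebra.Homology.Factorizations.CM5a
import Mathlib.Algebra.Homology.DerivedCategory.KInjective
import Mathlib.Algebra.Homology.DerivedCategory.TStructure
import Mathlib.Algebra.Homology.HomologicalComplexLimits
import Groth.Agent.TriCat.DerivedProducts

set_option autoImplicit false
universe w v u
open CategoryTheory CategoryTheory.Limits
open CohDer

namespace Groth.Agent.S1075

open CategoryTheory.Limits in
theorem kInjective_pi_nat {A : Type u} [Category.{v} A] [Abelian A] (I : ℕ → CochainComplex A ℤ)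
    [HasProduct I] (h : ∀ t, (I t).IsKInjective) : (∏ᶜ I).IsKInjective := by
  refine ⟨fun {K} f hK => ?_⟩
  haveI := h
  open CochainComplex HomComplex in
  have hδ : ∀ t, δ (-1) 0 (Cochain.ofHomotopy (IsKInjective.homotopyZero (f ≫ Pi.π I t) hK)) =
      Cochain.ofHom (𝟙 K ≫ f ≫ Pi.π I t) := by
    intro t; rw [δ_ofHomotopy]; simp
  let D : CochainComplex.mappingCone (𝟙 K) ⟶ ∏ᶜ I := Pi.lift fun t =>
    CochainComplex.mappingCone.desc (𝟙 K) _ _ (hδ t)
  have e : CochainComplex.mappingCone.inr (𝟙 K) ≫ D = f := by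
    apply Limits.Pi.hom_ext; intro t; simp [D]
  have z : IsZero ((HomotopyCategory.quotient A (ComplexShape.up ℤ)).obj
      (CochainComplex.mappingCone (𝟙 K))) :=
    Pretriangulated.Triangle.isZero₃_of_isIso₁ _
      (HomotopyCategory.mappingCone_triangleh_distinguished (𝟙 K))
      (inferInstanceAs (IsIso ((HomotopyCategory.quotient A (ComplexShape.up ℤ)).map (𝟙 K))))
  refine ⟨HomotopyCategory.homotopyOfEq _ _ ?_⟩
  rw [← e, Functor.map_comp, z.eq_zero_of_src ((HomotopyCategory.quotient A _).map D),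
    comp_zero, Functor.map_zero]


/-- In D(A), for A abelian with enough injectives and countable products, every sequence of
bounded-below objects has a product, so derived limits of such sequences exist. -/
theorem result {A : Type u} [Category.{v} A] [Abelian A] [HasDerivedCategory.{w} A]
    [HasLimitsOfShape (Discrete ℕ) A] [EnoughInjectives A]
    (K : ℕ → DerivedCategory A) (hK : ∀ n, ∃ a : ℤ, (K n).IsGE a) : HasProduct K := by
  classical
  have hres : ∀ n, ∃ (I : CochainComplex A ℤ), I.IsKInjective ∧ Nonempty (DerivedCategory.Q.obj I ≅ K n) := by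
    intro n
    obtain ⟨a, ha⟩ := hK n
    haveI := ha
    obtain ⟨M, _, ⟨e⟩⟩ := DerivedCategory.exists_iso_Q_obj_of_isGE (K n) a
    obtain ⟨I, i, hi, hinj, hI⟩ := CochainComplex.Plus.modelCategoryQuillen.exists_quasiIso_injective M a
    haveI := hinj
    haveI := hI
    haveI := hi
    exact ⟨I, CochainComplex.isKInjective_of_injective I a,
      ⟨(asIso (DerivedCategory.Q.map i)).symm ≪≫ e.symm⟩⟩
  choose I hI e using hres
  haveI := hI
  haveI : HasProduct I := inferInstance
  haveI hP : (∏ᶜ I).IsKInjective := kInjective_pi_nat I hI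
  let q := HomotopyCategory.quotient A (ComplexShape.up ℤ)
  let τ := (DerivedCategory.quotientCompQhIso A)
  have key : ∀ (L : DerivedCategory A) (h : ∀ n, L ⟶ DerivedCategory.Q.obj (I n)),
      ∃! l : L ⟶ DerivedCategory.Q.obj (∏ᶜ I), ∀ n, l ≫ DerivedCategory.Q.map (Pi.π I n) = h n := by
    intro L h
    obtain ⟨X, ⟨eX⟩⟩ : ∃ X, Nonempty (DerivedCategory.Q.obj X ≅ L) :=
      ⟨_, ⟨DerivedCategory.Q.objObjPreimageIso L⟩⟩
    have lift : ∀ (J : CochainComplex A ℤ), J.IsKInjective → ∀ m : L ⟶ DerivedCategory.Q.obj J,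
        ∃ f : X ⟶ J, eX.hom ≫ m = DerivedCategory.Q.map f := by
      intro J hJ m
      obtain ⟨g, hg⟩ := (CochainComplex.IsKInjective.Qh_map_bijective (q.obj X) J).2
        (τ.hom.app X ≫ eX.hom ≫ m ≫ τ.inv.app J)
      obtain ⟨f, rfl⟩ := q.map_surjective g
      refine ⟨f, ?_⟩
      have hn := τ.hom.naturality f
      dsimp only [Functor.comp_map] at hn
      rw [hg] at hn
      rw [← cancel_epi (τ.hom.app X), ← hn]
      simp
    choose f hf using fun n => lift (I n) (hI n) (h n)
    refine ⟨eX.inv ≫ DerivedCategory.Q.map (Pi.lift f), fun n => ?_, fun l hl => ?_⟩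
    · rw [Category.assoc, ← Functor.map_comp, Pi.lift_π, ← hf, Iso.inv_hom_id_assoc]
    · obtain ⟨g, hg⟩ := lift _ hP l
      rw [Iso.eq_inv_comp, hg]
      have hq : q.map g = q.map (Pi.lift f) := by
        refine Groth.Agent.TriCat.quotient_hom_ext_pi _ _ fun n => ?_
        apply (CochainComplex.IsKInjective.Qh_map_bijective (q.obj X) (I n)).1
        have h1 : DerivedCategory.Q.map (g ≫ Pi.π I n) = DerivedCategory.Q.map (Pi.lift f ≫ Pi.π I n) := by
          rw [Functor.map_comp, ← hg, Category.assoc, hl, hf, Pi.lift_π]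
        exact (NatIso.naturality_2 τ _).symm.trans ((congrArg (fun t => τ.hom.app X ≫ t ≫ τ.inv.app (I n)) h1).trans (NatIso.naturality_2 τ _))
      exact (NatIso.naturality_1 τ g).symm.trans ((congrArg (fun t => τ.inv.app X ≫ DerivedCategory.Qh.map t ≫ τ.hom.app (∏ᶜ I)) hq).trans (NatIso.naturality_1 τ _))
  refine ⟨⟨⟨Fan.mk (DerivedCategory.Q.obj (∏ᶜ I)) fun n => DerivedCategory.Q.map (Pi.π I n) ≫ (e n).some.hom,
    Fan.IsLimit.mk _ (fun s => (key s.pt (fun n => s.proj n ≫ (e n).some.inv)).choose) (fun s n => ?_) (fun s m hm => ?_)⟩⟩⟩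
  · have := (key s.pt (fun n => s.proj n ≫ (e n).some.inv)).choose_spec.1 n
    refine (congrArg (_ ≫ ·) rfl).trans ?_
    show _ ≫ DerivedCategory.Q.map (Pi.π I n) ≫ (e n).some.hom = _
    rw [reassoc_of% this, Iso.inv_hom_id, Category.comp_id]
  · refine (key s.pt (fun n => s.proj n ≫ (e n).some.inv)).choose_spec.2 m fun n => ?_
    have := hm n
    have h2 : m ≫ DerivedCategory.Q.map (Pi.π I n) ≫ (e n).some.hom = s.proj n := this
    rw [← h2]
    simp

end Groth.Agent.S1075
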