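import Groth.Statements.S10750
import Groth.Agent.AlgSpDec.QfLocus
import Groth.Agent.AlgSpDec.IsolatedPoints
import Groth.Agent.AlgSpVal.ExistUC
import Groth.Agent.AlgSpDec.LimDescentRep

set_option autoImplicit false
set_option backward.isDefEq.respectTransparency false
set_option backward.isDefEq.respectTransparency.types false
universe u
open CategoryTheory CategoryTheory.Limits AlgebraicGeometry Opposite
open AlgSp

namespace Groth.Agent.S10750

/-- Take a proper morphism f : X ⟶ Y of algebraic spaces over S whose target Y is locally Noetherian,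
and let y be a geometric point of Y such that the fibre X_y (a pullback of f along the corresponding
morphism from the spectrum of the algebraically closed field) has finitely many points. Then there
is an open subspace V of Y containing the image of y such that the base change X ×_Y V ⟶ V is
finite. -/
theorem result {S : Scheme.{u}} {X Y : AlgSp.Space S}
    (f : X ⟶ Y) (hY : AlgSp.IsLocNoethSp Y.obj) (hf : AlgSp.IsProperMor f.hom) (y : AlgSp.FieldPt Y.obj)
    (hy : y.IsGeometric) (Xy : AlgSp.Sp S) (fst : Xy ⟶ X.obj) (snd : Xy ⟶ (AlgSp.yon S).obj y.pt)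
    (hsq : IsPullback fst snd f.hom y.toHom) (hfin : Finite (AlgSp.Points Xy)) :
    ∃ (V : AlgSp.Space S) (j : V ⟶ Y), AlgSp.RepWith @IsOpenImmersion j.hom ∧
      AlgSp.Points.mk y ∈ Set.range (AlgSp.Points.map j.hom) ∧
        ∀ (P : AlgSp.Space S) (fst' : P ⟶ X) (snd' : P ⟶ V), IsPullback fst'.hom snd'.hom f.hom j.hom →
          AlgSp.IsFiniteMor snd'.hom := by
  have hP := AlgSpPts.isProperMor_of_isPullback hsq X.property Y.property (IsAlgSpace.yon_obj y.pt) hf
  have hA : IsAlgSpace Xy := AlgSpLib.isAlgSpace_of_isPullback hsq X.property (IsAlgSpace.yon_obj y.pt) Y.property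
  haveI : IsAffine y.pt.left := inferInstanceAs (IsAffine (Spec (CommRingCat.of y.K)))
  have hdec : IsDecent Xy := AlgSpDec.isDecent_of_isQuasiSeparatedSp hA
    (AlgSpVal.isQuasiSeparatedSp_of_toAffine snd (AlgSpDec.isQuasiSeparatedMor_of_isSeparatedMor hP.1))
  haveI : DiscreteTopology (Points Xy) := by
    refine discreteTopology_iff_isOpen_singleton.2 fun z => ?_
    obtain ⟨U, a, u, hU, ha, rfl⟩ := AlgSpDec.exists_affine_chart_at hA z
    haveI := hU
    obtain ⟨h, hh⟩ := (yon S).map_surjective (a ≫ snd)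
    haveI : LocallyOfFiniteType h.left := hP.2.1.1 a (𝟙 _) h ha (repWith_id _ _) (by rw [Category.comp_id, hh])
    let h' : U.left ⟶ Spec (CommRingCat.of y.K) := h.left
    haveI : LocallyOfFiniteType h' := ‹LocallyOfFiniteType h.left›
    haveI : JacobsonSpace ↥U.left := LocallyOfFiniteType.jacobsonSpace h'
    haveI : Finite ↥U.left := by
      refine Set.finite_univ_iff.1 ((Set.finite_univ (α := Points Xy)).biUnion
        (t := fun w => Points.ofPt a ⁻¹' {w}) (fun w _ => AlgSpDec.finite_fibre hA hdec ha w) |>.subset ?_)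
      exact fun t _ => Set.mem_biUnion (Set.mem_univ _) rfl
    haveI : T1Space ↥U.left := ⟨fun w => by
      refine AlgSpDec.isClosed_of_isLocallyClosed_point ?_
      have hc : IsClosed (⋃ v ∈ closure {w} \ {w}, closure ({v} : Set ↥U.left)) :=
        (Set.toFinite _).isClosed_biUnion fun _ _ => isClosed_closure
      refine ⟨(⋃ v ∈ closure {w} \ {w}, closure ({v} : Set ↥U.left))ᶜ, closure {w}, hc.isOpen_compl,
        isClosed_closure, ?_⟩
      refine Set.Subset.antisymm ?_ ?_
      · rintro _ rfl
        refine ⟨fun hw => ?_, subset_closure rfl⟩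
        obtain ⟨v, hv, hwv⟩ := Set.mem_iUnion₂.1 hw
        exact hv.2 ((specializes_iff_mem_closure.2 hwv).antisymm (specializes_iff_mem_closure.2 hv.1)).eq
      · rintro v ⟨hv₁, hv₂⟩
        by_contra hne
        exact hv₁ (Set.mem_biUnion ⟨hv₂, hne⟩ (subset_closure rfl))⟩
    rw [← Set.image_singleton]
    exact AlgSpLib.isOpenMap_ofPt ha _ (isOpen_discrete _)
  have hq : ∀ x : Points X.obj, Points.map f.hom x = Points.mk y → HasAtMor AlgSpDec.SplitOff.QfAt f.hom x := by
    intro x hx
    let c : ↥y.pt.left := IsLocalRing.closedPoint y.K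
    obtain ⟨z, hz₁, -⟩ := AlgSpLib.exists_point_of_isPullback hsq (x := x) (y := Points.ofScheme y.pt c)
      (by rw [hx, ← Points.ofPt_eq_map_ofScheme, ← AlgSpLib.mk_eq_ofPt])
    subst hz₁
    obtain ⟨U, a, u, -, ha, rfl⟩ := AlgSpDec.exists_affine_chart_at hA z
    obtain ⟨k, hk⟩ := (yon S).map_surjective (a ≫ snd)
    haveI : LocallyOfFiniteType k.left := hP.2.1.1 a (𝟙 _) k ha (repWith_id _ _) (by rw [Category.comp_id, hk])
    refine AlgSpDec.QfLocus.qf_of_fibreDim_zero hf.2.1.1 ?_
    exact AlgSpDec.FieldFibre.hasAtMor_zero_of_fibre hsq X.property Y.property hf.2.1.1 _ a ha k hk.symm u rfl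
      (AlgSpDec.FieldFibre.fibreDimAt_zero_of_discrete ha hk.symm u)
  obtain ⟨V, j, hV, hj, hy', h⟩ :=
    AlgSpDec.QfLocus.exists_finite_nbhd_of_proper X.property Y.property hf (Points.mk y) hq
  exact ⟨⟨V, hV⟩, ObjectProperty.homMk j, hj, hy',
    fun P fst' snd' sq => AlgSpDec.isFiniteMor_iff_repWith.2 (h P.obj fst'.hom snd'.hom sq)⟩

end Groth.Agent.S10750
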