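import Groth.Statements.S10752
import Groth.Agent.S10732

set_option autoImplicit false
universe u
open CategoryTheory CategoryTheory.Limits AlgebraicGeometry Opposite
open AlgSp

namespace Groth.Agent.S10752

set_option backward.isDefEq.respectTransparency false
set_option backward.isDefEq.respectTransparency.types false

/-- Let X be a quasi-compact algebraic space, quasi-separated over a quasi-separated base scheme S, such
that H^1(X, M) = 0 for every quasi-coherent O_X-module M on the small etale site of X. Then X is
separated (the published statement: the canonical morphism from X to the spectrum of its ring of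
global functions is separated; stated here as separatedness of X over S, which it implies). -/
theorem result {S : Scheme.{u}} [QuasiSeparatedSpace ↥S] (X : AlgSp.Space S)
    (hqc : AlgSp.IsQuasiCompactSp X.obj) (hqs : AlgSp.IsQuasiSeparatedSp X.obj)
    (h1 : ∀ M : AlgSp.ModEt X.obj, M.IsQuasicoherent → Subsingleton (AlgSp.HModEt X.obj M 1)) :
    AlgSp.IsSeparatedSp X.obj := by
  obtain ⟨T, hT, ⟨e⟩⟩ := S10732.result X hqc hqs h1
  haveI := hT
  haveI : IsSeparated T.hom := IsSeparated.of_comp T.hom (terminal.from S)
  have hy : RepWith @IsClosedImmersion (Limits.diag ((yon S).obj T)) :=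
    (repWith_diag_yon_iff _ T).2 (inferInstanceAs (IsClosedImmersion (pullback.diagonal T.hom)))
  refine ((RepWith @IsClosedImmersion).arrow_mk_iso_iff (Arrow.isoMk e (prod.mapIso e e) ?_)).1 hy
  simp only [Arrow.mk_hom, prod.mapIso_hom, prod.comp_lift, prod.lift_map]
  congr 1 <;> exact (Category.id_comp _).symm.trans rfl

end Groth.Agent.S10752
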