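import Groth.Statements.S10756
import Groth.Agent.EtQC.ClosedEquiv

set_option autoImplicit false
universe u
open CategoryTheory CategoryTheory.Limits AlgebraicGeometry Opposite
open AlgSp

namespace Groth.Agent.S10756

set_option backward.isDefEq.respectTransparency false
set_option backward.isDefEq.respectTransparency.types false

/-- Take a closed immersion i : Z ⟶ X between algebraic spaces over S that are both locally Noetherian,
and write I for the quasi-coherent sheaf of ideals cutting out Z. Then the direct image i_* carries
coherent O_Z-modules (of finite presentation) to coherent O_X-modules annihilated by I (on every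
affine object U of the small etale site of X, the ideal I(U) annihilates all sections over U), and
every coherent O_X-module annihilated by I is isomorphic to i_* G for some coherent O_Z-module G.
(Together with the full faithfulness of i_* on modules, a separate result, this is the equivalence
between coherent O_Z-modules and coherent O_X-modules annihilated by I.) -/
theorem result {S : Scheme.{u}} {Z X : AlgSp.Space S} (i : Z ⟶ X)
    (hi : AlgSp.RepWith @IsClosedImmersion i.hom) (hX : AlgSp.IsLocNoethSp X.obj) (hZN : AlgSp.IsLocNoethSp Z.obj)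
    (I : AlgSp.IdealEt X.obj) (hI : I.IsQCoh) (hZ : AlgSp.IsCutOutBy I i.hom) :
    (∀ (G : AlgSp.ModEt Z.obj), G.IsFinitePresentation →
        ((AlgSp.pushModEt hi.1).obj G).IsFinitePresentation ∧
          ∀ (E : AlgSp.EtOver X.obj) (hE : IsAffine E.obj.left.left)
            (s : AlgSp.sectModEt ((AlgSp.pushModEt hi.1).obj G) E), I.ideal E hE ≤ AlgSp.annSect s) ∧
      ∀ (M : AlgSp.ModEt X.obj), M.IsFinitePresentation →
        (∀ (E : AlgSp.EtOver X.obj) (hE : IsAffine E.obj.left.left) (s : AlgSp.sectModEt M E),
            I.ideal E hE ≤ AlgSp.annSect s) →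
          ∃ G : AlgSp.ModEt Z.obj, G.IsFinitePresentation ∧ Nonempty ((AlgSp.pushModEt hi.1).obj G ≅ M) := by
  refine ⟨fun G hG => ⟨?_, fun E hE s => Groth.Agent.EtQC.le_annSect_push hi hZ G E hE s⟩, fun M hM hk => ?_⟩
  · have hb := Groth.Agent.EtQC.bcAll_of_isQuasicoherent G
    refine Groth.Agent.EtQC.isFinitePresentation_of_ft hX ?_
      (Groth.Agent.EtQC.ft_push hi hb (Groth.Agent.EtQC.ft_of_isFiniteType G))
    refine Groth.Agent.EtQC.bcAll_push hi.1 ?_ hb
    intro T hT g
    refine ⟨hi.1.pullback g, hi.1.snd g, hi.1.fst g, hi.1.isPullback g, ?_⟩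
    have : IsClosedImmersion (hi.1.snd g).left := hi.property_snd g
    exact isAffine_of_isAffineHom (hi.1.snd g).left
  · obtain ⟨D⟩ := Groth.Agent.EtQC.exists_desc hi X.property hZ M hk
    have hb := Groth.Agent.EtQC.bcAll_of_isQuasicoherent M
    obtain ⟨e⟩ := D.nonempty_pushIso
    have hG : D.desc.IsQuasicoherent := D.isQuasicoherent_desc hb
    exact ⟨D.desc, Groth.Agent.EtQC.isFinitePresentation_of_ft hZN
      (Groth.Agent.EtQC.bcAll_of_isQuasicoherent D.desc)
      (Groth.Agent.EtQC.ft_of_push_closed hi X.property (Groth.Agent.EtQC.bcAll_of_isQuasicoherent D.desc) e hb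
        (Groth.Agent.EtQC.ft_of_isFiniteType M)), ⟨e⟩⟩

end Groth.Agent.S10756
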