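import Groth.Statements.S10758
import Groth.Agent.EtQC.StalkOpenSpace

set_option autoImplicit false
universe u
open CategoryTheory CategoryTheory.Limits AlgebraicGeometry Opposite
open AlgSp

namespace Groth.Agent.S10758

set_option backward.isDefEq.respectTransparency false
set_option backward.isDefEq.respectTransparency.types false
open Groth.Agent.EtQC

/-- Let X be a locally Noetherian algebraic space over S, φ : G ⟶ F a morphism of coherent O_X-modules
on the small etale site of X (of finite presentation, X being locally Noetherian) and x̄ a geometric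
point of X. If the map φ_x̄ on stalks at x̄ (of the underlying abelian sheaves) is bijective, then
there is an open subspace X' ⊂ X containing the image of x̄ such that φ|_{X'} is an isomorphism: φ
is bijective on sections over every scheme etale over X whose image in |X| lies in |X'|. -/
theorem result {S : Scheme.{u}} (X : AlgSp.Space S)
    (hX : AlgSp.IsLocNoethSp X.obj) {G F : AlgSp.ModEt X.obj} [G.IsFinitePresentation] [F.IsFinitePresentation]
    (φ : G ⟶ F) (xbar : AlgSp.FieldPt X.obj) (hx : xbar.IsGeometric)
    (hbij : IsIso ((AlgSp.stalkEtFunctor AddCommGrpCat.{u + 1} xbar).map ((AlgSp.toAbEt X.obj).map φ))) :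
    ∃ (X' : AlgSp.Space S) (j : X' ⟶ X), AlgSp.RepWith @IsOpenImmersion j.hom ∧
      AlgSp.Points.mk xbar ∈ Set.range (AlgSp.Points.map j.hom) ∧
        ∀ E : AlgSp.EtOver X.obj, Set.range (AlgSp.Points.ofPt E.obj.hom) ⊆ Set.range (AlgSp.Points.map j.hom) →
          IsIso (φ.val.app (op E)) := by
  obtain ⟨W₁, hx₁, hW₁⟩ := exists_chart_injective φ X.property hX hx inferInstance
  obtain ⟨W₂, hx₂, hW₂⟩ := exists_chart_surjective φ X.property hx inferInstance
  obtain ⟨X', j, hj, hr⟩ := exists_space_of_open X
    (V := Set.range (Points.ofPt W₁.obj.hom) ∩ Set.range (Points.ofPt W₂.obj.hom))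
    (((Groth.Agent.AlgSpLib.isOpenMap_ofPt W₁.property).isOpen_range).inter
      ((Groth.Agent.AlgSpLib.isOpenMap_ofPt W₂.property).isOpen_range))
  refine ⟨X', j, hj, hr.symm ▸ ⟨hx₁, hx₂⟩, fun E hE => ?_⟩
  exact (ConcreteCategory.isIso_iff_bijective _).2 (app_bijective_of_affine φ
    (V := Set.range (Points.ofPt W₁.obj.hom) ∩ Set.range (Points.ofPt W₂.obj.hom))
    (fun E' h => hW₁ E' (h.trans Set.inter_subset_left))
    (fun A hA h => hW₂ A hA (h.trans Set.inter_subset_right)) E (hr ▸ hE))

end Groth.Agent.S10758
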