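import Groth.Statements.S10788
import Groth.Agent.AlgSpDec.MVEt

set_option autoImplicit false
universe u
open CategoryTheory CategoryTheory.Limits AlgebraicGeometry
attribute [local instance] HasDerivedCategory.standard
open AlgSp

namespace Groth.Agent.S10788

set_option backward.isDefEq.respectTransparency false
set_option backward.isDefEq.respectTransparency.types false
set_option maxHeartbeats 4000000

open Groth.Agent.AlgSpDec.MVEt Opposite

/-- Sections over an object, as an abelian group. -/
noncomputable abbrev sect {S : Scheme.{u}} {X : AlgSp.Sp S} (W : AlgSp.EtOver X) :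
    AlgSp.ModEt X ⥤ AddCommGrpCat.{u + 1} :=
  (SheafOfModules.toSheaf _ ⋙ sheafToPresheaf _ _) ⋙ (evaluation _ _).obj (op W)


/-- Part (1): for squares whose two parts are schemes: let X be an algebraic space over S and let U, V
be objects of the small etale site of X (schemes with representable etale structure maps to X) such
that (U ⊂ X, V ⟶ X) is an elementary distinguished square; write U ×_X V for their product in the
site. Then for every O_X-module F the sequence 0 ⟶ F ⟶ j_{U,*}F|_U ⊕ j_{V,*}F|_V ⟶ j_{U ×_X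
V,*}F|_{U ×_X V} ⟶ 0 is short exact, where the first map is given by the two adjunction units and
the second by the restriction along U ×_X V ⟶ U minus the restriction along U ×_X V ⟶ V. Only
squares whose open part and etale part are both schemes are covered. -/
theorem result {S : Scheme.{u}} (X : AlgSp.Space S)
    (U V : AlgSp.EtOver X.obj) (hsq : AlgSp.IsElemDistSq U.obj.hom V.obj.hom) (F : AlgSp.ModEt X.obj) :
    ∃ h : biprod.lift ((AlgSp.resPushAdjEt U).unit.app F) ((AlgSp.resPushAdjEt V).unit.app F) ≫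
        biprod.desc ((AlgSp.pushResNatTrans (AlgSp.EtOver.prodFst U V)).app F)
          (-((AlgSp.pushResNatTrans (AlgSp.EtOver.prodSnd U V)).app F)) = 0,
      (ShortComplex.mk _ _ h).ShortExact := by
  set eU := (AlgSp.resPushAdjEt U).unit.app F with heU
  set eV := (AlgSp.resPushAdjEt V).unit.app F with heV
  set nU := (AlgSp.pushResNatTrans (AlgSp.EtOver.prodFst U V)).app F with hnU
  set nV := (AlgSp.pushResNatTrans (AlgSp.EtOver.prodSnd U V)).app F with hnV
  let P : AlgSp.AbEt X.obj := (SheafOfModules.toSheaf _).obj F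
  let G := SheafOfModules.toSheaf.{u + 1} (AlgSp.OEtRing X.obj) ⋙ sheafToPresheaf _ _
  have hE : ∀ (Y W : AlgSp.EtOver X.obj) (x : P.obj.obj (op W)),
      (sect W).map ((AlgSp.resPushAdjEt Y).unit.app F) x = P.obj.map (prod.snd : Y ⨯ W ⟶ W).op x :=
    fun Y W x => rfl
  have hN : ∀ (Y' Y W : AlgSp.EtOver X.obj) (g : Y' ⟶ Y) (x : P.obj.obj (op (Y ⨯ W))),
      (sect W).map ((AlgSp.pushResNatTrans g).app F) x = P.obj.map (prod.map g (𝟙 W)).op x :=
    fun Y' Y W g x => rfl
  have hcomm : eU ≫ nU = eV ≫ nV := by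
    refine G.map_injective (NatTrans.ext (funext fun W => ?_))
    ext x
    change (sect W.unop).map (eU ≫ nU) x = (sect W.unop).map (eV ≫ nV) x
    rw [Functor.map_comp, Functor.map_comp, ConcreteCategory.comp_apply, ConcreteCategory.comp_apply,
      heU, heV, hnU, hnV, hE, hE, hN, hN]
    exact ((res_comp P _ _ x).symm.trans (by rw [prod.map_snd, Category.comp_id])).trans
      (((res_comp P _ _ x).symm.trans (by rw [prod.map_snd, Category.comp_id])).symm)
  have h : biprod.lift eU eV ≫ biprod.desc nU (-nV) = 0 := by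
    rw [biprod.lift_desc, Preadditive.comp_neg, hcomm, add_neg_cancel]
  refine ⟨h, ?_⟩
  set Sc := ShortComplex.mk _ _ h with hSc
  let MU := (AlgSp.resModEt U ⋙ AlgSp.pushOnModEt U).obj F
  let MV := (AlgSp.resModEt V ⋙ AlgSp.pushOnModEt V).obj F
  let iU : MU ⟶ Sc.X₂ := biprod.inl
  let iV : MV ⟶ Sc.X₂ := biprod.inr
  let pU : Sc.X₂ ⟶ MU := biprod.fst
  let pV : Sc.X₂ ⟶ MV := biprod.snd
  -- elementwise description
  have hfst : ∀ (W : AlgSp.EtOver X.obj) (x : P.obj.obj (op W)),
      (sect W).map pU ((sect W).map (biprod.lift eU eV) x) = P.obj.map (prod.snd : U ⨯ W ⟶ W).op x ∧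
      (sect W).map pV ((sect W).map (biprod.lift eU eV) x) = P.obj.map (prod.snd : V ⨯ W ⟶ W).op x := by
    intro W x
    constructor
    · rw [← ConcreteCategory.comp_apply, ← Functor.map_comp,
        show biprod.lift eU eV ≫ pU = eU from biprod.lift_fst _ _]
      exact hE U W x
    · rw [← ConcreteCategory.comp_apply, ← Functor.map_comp,
        show biprod.lift eU eV ≫ pV = eV from biprod.lift_snd _ _]
      exact hE V W x
  have htot : ∀ (W : AlgSp.EtOver X.obj) (z : (sect W).obj Sc.X₂),
      (sect W).map iU ((sect W).map pU z) + (sect W).map iV ((sect W).map pV z) = z := by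
    intro W z
    have e : pU ≫ iU + pV ≫ iV = 𝟙 Sc.X₂ := biprod.total
    have := congrArg (fun k => k z) (congrArg (sect W).map e)
    rw [(sect W).map_add, (sect W).map_id, (sect W).map_comp, (sect W).map_comp] at this
    exact this
  have hdesc : ∀ (W : AlgSp.EtOver X.obj) (a : P.obj.obj (op (U ⨯ W))) (b : P.obj.obj (op (V ⨯ W))),
      (sect W).map Sc.g ((sect W).map iU a + (sect W).map iV b) =
        P.obj.map (prod.map (AlgSp.EtOver.prodFst U V) (𝟙 W)).op a -
          P.obj.map (prod.map (AlgSp.EtOver.prodSnd U V) (𝟙 W)).op b := by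
    intro W a b
    rw [map_add, ← ConcreteCategory.comp_apply, ← ConcreteCategory.comp_apply, ← Functor.map_comp,
      ← Functor.map_comp]
    rw [show iU ≫ Sc.g = nU from biprod.inl_desc _ _, show iV ≫ Sc.g = -nV from biprod.inr_desc _ _,
      Functor.map_neg, sub_eq_add_neg]
    exact congrArg₂ (· + ·) (hN _ _ W _ a) (congrArg Neg.neg (hN _ _ W _ b))
  have hinj : ∀ W, Function.Injective ((sect W).map Sc.f) := fun W => by
    rw [injective_iff_map_eq_zero]
    intro x hx
    refine sep hsq P x ?_ ?_
    · rw [← (hfst W x).1, show (sect W).map (biprod.lift eU eV) x = 0 from hx, map_zero]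
    · rw [← (hfst W x).2, show (sect W).map (biprod.lift eU eV) x = 0 from hx, map_zero]
  have hex : (Sc.map G).Exact := by
    rw [ShortComplex.exact_iff_isZero_homology, Functor.isZero_iff]
    intro W
    refine IsZero.of_iso ?_ ((Sc.map G).mapHomologyIso ((evaluation _ _).obj W)).symm
    rw [← ShortComplex.exact_iff_isZero_homology, ShortComplex.ab_exact_iff]
    intro z (hz : (sect W.unop).map Sc.g z = 0)
    obtain ⟨W⟩ := W
    change (sect W).obj Sc.X₂ at z
    have hz' := (hdesc W ((sect W).map pU z) ((sect W).map pV z)).symm.trans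
      ((congrArg ((sect W).map Sc.g) (htot W z)).trans hz)
    obtain ⟨s, hs₁, hs₂⟩ := exact hsq P _ _ (sub_eq_zero.1 hz')
    refine ⟨s, ((htot W ((sect W).map Sc.f s)).symm.trans ?_).trans (htot W z)⟩
    exact congrArg₂ (· + ·) (congrArg ((sect W).map iU) ((hfst W s).1.trans hs₁))
      (congrArg ((sect W).map iV) ((hfst W s).2.trans hs₂))
  haveI : Mono (Sc.map G).f := by
    haveI : ∀ W, Mono ((Sc.map G).f.app W) := fun W => (AddCommGrpCat.mono_iff_injective _).2 (hinj W.unop)
    exact NatTrans.mono_of_mono_app _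
  let hk : IsLimit (KernelFork.ofι Sc.f Sc.zero) :=
    isLimitOfReflects G ((KernelFork.isLimitMapConeEquiv _ G).symm hex.fIsKernel)
  haveI : Mono Sc.f := Fork.IsLimit.mono hk
  haveI : Epi Sc.g := by
    apply (SheafOfModules.toSheaf.{u + 1} (AlgSp.OEtRing X.obj)).epi_of_epi_map
    apply (config := { allowSynthFailures := true }) Sheaf.epi_of_isLocallySurjective
    refine ⟨fun {W} s => ?_⟩
    refine GrothendieckTopology.superset_covering _ ?_
      (AlgSp.ofArrows_mem_etTop (fun i : Bool => bif i then U ⨯ W else V ⨯ W)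
        (Bool.rec (prod.snd : V ⨯ W ⟶ W) (prod.snd : U ⨯ W ⟶ W) ·) fun r => by
          rcases cover hsq W r with hr | hr
          · exact ⟨true, hr⟩
          · exact ⟨false, hr⟩)
    intro Y k hk
    obtain ⟨i, q, rfl⟩ := (Sieve.mem_ofArrows_iff _ _ k).1 hk
    obtain ⟨a, b, hab⟩ : ∃ (a : P.obj.obj (op (U ⨯ Y))) (b : P.obj.obj (op (V ⨯ Y))),
        P.obj.map (prod.map (AlgSp.EtOver.prodFst U V) (𝟙 Y)).op a -
          P.obj.map (prod.map (AlgSp.EtOver.prodSnd U V) (𝟙 Y)).op b =
          P.obj.map (prod.map (𝟙 (AlgSp.EtOver.prodObj U V)) (q ≫ (Bool.rec (prod.snd : V ⨯ W ⟶ W)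
            (prod.snd : U ⨯ W ⟶ W) i : (bif i then U ⨯ W else V ⨯ W) ⟶ W))).op s :=
      surj hsq P s Y _ (by
        cases i
        · exact Or.inr ⟨q ≫ prod.fst, trivial⟩
        · exact Or.inl ⟨q ≫ prod.fst, trivial⟩)
    exact ⟨(sect Y).map iU a + (sect Y).map iV b, (hdesc Y a b).trans hab⟩
  exact ⟨ShortComplex.exact_of_f_is_kernel Sc hk⟩

end Groth.Agent.S10788
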