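import Groth.Statements.S10807
import Groth.Agent.AlgSpLib.CartierOps
import Groth.Agent.AlgSpLib.LocalBaseTop
import Groth.Agent.AlgSpLib.Descent2
import Groth.Agent.AlgSpDec.LqfSplitZ
import Groth.Agent.EtQC.Chev.Chow
import Groth.Agent.HTopPh.Square
import Groth.Agent.ProjX.Proper
import Groth.Agent.S8859
import Groth.Agent.S8910

set_option autoImplicit false
universe u
open CategoryTheory CategoryTheory.Limits AlgebraicGeometry Topology TopologicalSpace
open AlgSp

namespace Groth.Agent.S10807

set_option backward.isDefEq.respectTransparency false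
set_option backward.isDefEq.respectTransparency.types false
set_option maxHeartbeats 1000000

open Groth.Agent.AlgSpLib

section

variable {S : Scheme.{u}} {X Z : AlgSp.Sp S} {i : Z ⟶ X} (hi : RepWith @IsClosedImmersion i)

include hi

/-- The inverse image is effective Cartier iff its ideal in every chart is. -/
theorem invImage_iff {Y : AlgSp.Sp S} (hY : IsAlgSpace Y) (g : Y ⟶ X) :
    InvImageIsEffCartier i g ↔ ∀ (U : Over S) (a : (yon S).obj U ⟶ Y), RepWith @Etale a →
      BlowUp.IsEffCartierIdeal (Cartier.cutIdeal hi (a ≫ g)) := by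
  constructor
  · rintro ⟨P, fst, snd, sq, hC⟩ U a ha
    rw [← Cartier.cutIdeal_isPullback hi sq hC.1 a]
    exact Cartier.isEffCartier_cutIdeal hC.1 hC a ha
  · intro h
    have sq := IsPullback.of_hasPullback i g
    have hs := repWith_of_isPullback sq hi
    refine ⟨_, _, _, sq, (Cartier.isEffCartierSub_iff hY hs).2 fun U a ha => ?_⟩
    rw [Cartier.cutIdeal_isPullback hi sq hs a]
    exact h U a ha

/-- For a scheme it suffices to look at the identity chart. -/
theorem invImage_of_scheme {T : Over S} (g : (yon S).obj T ⟶ X)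
    (h : BlowUp.IsEffCartierIdeal (Cartier.cutIdeal hi g)) : InvImageIsEffCartier i g := by
  have sq := IsPullback.of_hasPullback i g
  have hs := repWith_of_isPullback sq hi
  refine ⟨_, _, _, sq, Cartier.isEffCartierSub_of_atlas hs (𝟙 _) (repWith_of_isIso _ _) (repWith_of_isIso _ _) ?_⟩
  rw [Cartier.cutIdeal_isPullback hi sq hs (𝟙 _), Category.id_comp]
  exact h

end


/-- Let X be an algebraic space over a scheme S and Z ⟶ X a closed subspace of finite presentation (its
ideal is of finite type), and let b : X' ⟶ X be the blowing up of X in Z, characterised by its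
universal property: the inverse image of Z under b is an effective Cartier divisor (one-chart sense)
and every morphism from an algebraic space to X under which the inverse image of Z is an effective
Cartier divisor factors uniquely through b. Then b is a proper morphism. -/
theorem result {S : Scheme.{u}} (X X' Z : AlgSp.Space S)
    (i : Z ⟶ X) (hi : AlgSp.RepWith (@IsClosedImmersion ⊓ @LocallyOfFinitePresentation) i.hom)
    (b : X' ⟶ X) (hb : AlgSp.IsBlowUpSp b.hom i.hom) :
    AlgSp.IsProperMor b.hom := by
  have hic : RepWith @IsClosedImmersion i.hom := repWith_mono (fun _ _ _ h => h.1) _ hi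
  obtain ⟨hb₁, hb₂⟩ := hb
  obtain ⟨V, a, ha, has⟩ := X.property.atlas
  set J := Cartier.cutIdeal hic a
  have hJ : BlowUp.IsFiniteTypeIdeal J := fun U => by
    obtain ⟨h1, h2⟩ : IsClosedImmersion (hic.rep.snd a).left ∧ LocallyOfFinitePresentation (hic.rep.snd a).left :=
      hi.property a _ _ (hic.rep.isPullback a)
    haveI := h1; haveI := h2
    exact HTopPh.fg_ker_ideal (hic.rep.snd a).left U
  obtain ⟨B₀, β₀, hβ⟩ := Groth.Agent.S8859.result V.left J
  haveI : IsProper β₀ := ProjX.isProper_of_isProjective (Groth.Agent.S8910.result J hJ β₀ hβ)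
  let B : Over S := Over.mk (β₀ ≫ V.hom)
  let β : B ⟶ V := Over.homMk β₀ rfl
  obtain ⟨h₀, hh₀, -⟩ := hb₂ (IsAlgSpace.yon_obj B) ((yon S).map β ≫ a) (invImage_of_scheme hic _ (by
    rw [Cartier.cutIdeal_comp]; exact hβ.1))
  have sqP := IsPullback.of_hasPullback b.hom a
  have hP : IsAlgSpace (pullback b.hom a) := isAlgSpace_pullback X'.property (IsAlgSpace.yon_obj V) X.property _ _
  have hpP : RepWith @Etale (pullback.fst b.hom a) := repWith_fst b.hom ha
  let e : (yon S).obj B ⟶ pullback b.hom a := pullback.lift h₀ ((yon S).map β) hh₀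
  obtain ⟨W, c, hc, hcs⟩ := hP.atlas
  haveI := isLocallySurjective_of_etale_surjective hc hcs
  obtain ⟨w, hw⟩ := (yon S).map_surjective (c ≫ pullback.snd b.hom a)
  have hwC : BlowUp.IsEffCartierIdeal (J.comap w.left) := by
    rw [← Cartier.cutIdeal_comp hic a w, hw, Category.assoc, ← pullback.condition, ← Category.assoc]
    exact (invImage_iff hic X'.property b.hom).1 hb₁ W _ (repWith_comp hc hpP)
  obtain ⟨k₀, hk₀, -⟩ := hβ.2 _ _ hwC
  let k : W ⟶ B := Over.homMk k₀ (by show k₀ ≫ β₀ ≫ V.hom = W.hom; rw [reassoc_of% hk₀]; exact Over.w w)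
  have hk : k ≫ β = w := Over.OverMorphism.ext hk₀
  have sqR := hc.rep.isPullback' c
  haveI : Etale (hc.rep.fst' c).left := hc.property _ _ _ sqR.flip
  have hdesc : (yon S).map (hc.rep.fst' c) ≫ (yon S).map k = (yon S).map (hc.rep.snd c) ≫ (yon S).map k := by
    rw [← Functor.map_comp, ← Functor.map_comp]
    refine congrArg _ (Over.OverMorphism.ext ?_)
    have hw2 : hc.rep.fst' c ≫ w = hc.rep.snd c ≫ w := (yon S).map_injective (by
      rw [Functor.map_comp, Functor.map_comp, hw, reassoc_of% sqR.w])
    have h3 : BlowUp.IsEffCartierIdeal (J.comap ((hc.rep.fst' c).left ≫ w.left)) := by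
      rw [Scheme.IdealSheafData.comap_comp]
      exact BlowUpLib.isEffCartier_comap_flat _ hwC
    refine (hβ.2 _ _ h3).unique ?_ ?_
    · show ((hc.rep.fst' c).left ≫ k₀) ≫ β₀ = _
      rw [Category.assoc, hk₀]
    · show ((hc.rep.snd c).left ≫ k₀) ≫ β₀ = _
      rw [Category.assoc, hk₀]
      exact (congrArg (fun m => m.left) hw2).symm
  obtain ⟨d, hd⟩ := Groth.Agent.AlgSpDec.exists_desc_of_kernelPair sqR ((yon S).map k) hdesc
  haveI : Epi c := epi_of_etale_surjective hc hcs
  have hdq : d ≫ (yon S).map β = pullback.snd b.hom a := by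
    rw [← cancel_epi c, reassoc_of% hd, ← Functor.map_comp, hk, hw]
  have h1 : e ≫ d = 𝟙 _ := by
    obtain ⟨m, hm⟩ := (yon S).map_surjective (e ≫ d)
    have hmβ : m ≫ β = β := (yon S).map_injective (by
      rw [Functor.map_comp, hm, Category.assoc, hdq, pullback.lift_snd])
    rw [← hm, ← CategoryTheory.Functor.map_id]
    refine congrArg _ (Over.OverMorphism.ext ((hβ.2 _ _ hβ.1).unique ?_ (Category.id_comp _)))
    exact congrArg (fun x => x.left) hmβ
  have h2 : d ≫ e = 𝟙 _ := by
    refine pullback.hom_ext ?_ ?_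
    · rw [Category.assoc, pullback.lift_fst, Category.id_comp]
      refine (hb₂ hP (pullback.fst b.hom a ≫ b.hom) ((invImage_iff hic hP _).2 fun U g hg => ?_)).unique ?_ rfl
      · rw [← Category.assoc]
        exact (invImage_iff hic X'.property b.hom).1 hb₁ U _ (repWith_comp hg hpP)
      · rw [Category.assoc, hh₀, reassoc_of% hdq, pullback.condition]
    · rw [Category.assoc, pullback.lift_snd, Category.id_comp, hdq]
  haveI : IsIso d := ⟨e, h2, h1⟩
  have hprop : IsProperMor (pullback.snd b.hom a) := by
    rw [← hdq]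
    exact EtQC.Chev.Chow.isProperMor_of_repWith (repWith_comp (repWith_of_isIso _ d)
      ((repWith_yon_map_iff _ β).2 (inferInstanceAs (IsProper β₀))))
  exact ((isLocalOnBase_fpqc_isProperMor (S := S)) (fun _ : PUnit.{u + 1} => (yon S).obj V) (fun _ => a)
    X.property (fun _ => IsAlgSpace.yon_obj V)
    (isFpqcCover_of_isEtaleMor (IsAlgSpace.yon_obj V) X.property (isEtaleMor_of_repWith ha)
      (surjective_map_of_repWith has))
    b.hom X'.property (fun _ => pullback b.hom a) (fun _ => pullback.snd b.hom a) (fun _ => pullback.fst b.hom a)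
    (fun _ => hP) fun _ => sqP).2 fun _ => hprop

end Groth.Agent.S10807
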