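import Groth.Statements.S10811
import Groth.Agent.WeakAssEtLib.Basic

set_option autoImplicit false
set_option backward.isDefEq.respectTransparency false
set_option backward.isDefEq.respectTransparency.types false
universe u
open CategoryTheory CategoryTheory.Limits AlgebraicGeometry Topology TopologicalSpace
open AlgSp

namespace Groth.Agent.S10811

/-- Let X be an algebraic space over a scheme S and 0 ⟶ F₁ ⟶ F₂ ⟶ F₃ ⟶ 0 a short exact sequence of
quasi-coherent O_X-modules on the small etale site of X. Then the weakly associated points satisfy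
WeakAss(F₂) ⊆ WeakAss(F₁) ∪ WeakAss(F₃) and WeakAss(F₁) ⊆ WeakAss(F₂). -/
theorem result {S : Scheme.{u}} (X : AlgSp.Space S)
    (C : ShortComplex (AlgSp.ModEt X.obj)) (hC : C.ShortExact)
    [C.X₁.IsQuasicoherent] [C.X₂.IsQuasicoherent] [C.X₃.IsQuasicoherent] :
    AlgSp.WeakAssEt C.X₂ ⊆ AlgSp.WeakAssEt C.X₁ ∪ AlgSp.WeakAssEt C.X₃ ∧
      AlgSp.WeakAssEt C.X₁ ⊆ AlgSp.WeakAssEt C.X₂ := by
  have := hC.mono_f
  have h : ∀ E : AlgSp.EtOver X.obj, Function.Injective (C.f.val.app (Opposite.op E)) ∧
      ∀ s, C.g.val.app (Opposite.op E) s = 0 → ∃ t, C.f.val.app (Opposite.op E) t = s := fun E => by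
    let F := SheafOfModules.evaluation (AlgSp.OEtRing X.obj) (Opposite.op E)
    have : PreservesFiniteLimits F := inferInstance
    refine ⟨(ModuleCat.mono_iff_injective (F.map C.f)).1 inferInstance, fun s hs => ?_⟩
    exact (ShortComplex.moduleCat_exact_iff _).1 (hC.exact.map_of_mono_of_preservesKernel F inferInstance inferInstance) s hs
  exact ⟨Groth.Agent.WeakAssEtLib.subset_union C.f C.g (fun E => (h E).1) (fun E => (h E).2),
    Groth.Agent.WeakAssEtLib.subset_of_injective C.f fun E => (h E).1⟩

end Groth.Agent.S10811
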