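import Groth.Statements.S10827
import Groth.Agent.BinForms.AffineBezout

set_option autoImplicit false
universe u
open Variety

namespace Groth.Agent.S10827

/-- dehomogenisation: degree and top component -/
theorem dehom {k : Type u} [Field k] {n : ℕ} (f : MvPolynomial (Fin 3) k) (hf : f.IsHomogeneous n) :
    (MvPolynomial.aeval (Fin.cons (MvPolynomial.X 0) (Fin.cons (MvPolynomial.X 1)
        (Fin.cons 1 Fin.elim0)) : Fin 3 → MvPolynomial (Fin 2) k) f).totalDegree ≤ n ∧
    MvPolynomial.homogeneousComponent n (MvPolynomial.aeval (Fin.cons (MvPolynomial.X 0) (Fin.cons (MvPolynomial.X 1)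
        (Fin.cons 1 Fin.elim0)) : Fin 3 → MvPolynomial (Fin 2) k) f) =
      MvPolynomial.aeval (Fin.cons (MvPolynomial.X 0) (Fin.cons (MvPolynomial.X 1)
        (Fin.cons 0 Fin.elim0)) : Fin 3 → MvPolynomial (Fin 2) k) f := by
  classical
  have hdeg : ∀ s ∈ f.support, s 0 + s 1 + s 2 = n := fun s hs => by
    have := hf (MvPolynomial.mem_support_iff.1 hs)
    simpa [Finsupp.weight_apply, Finsupp.sum_fintype, Fin.sum_univ_three] using this
  have key : ∀ c : MvPolynomial (Fin 2) k, ∀ s : Fin 3 →₀ ℕ, MvPolynomial.aeval (Fin.cons (MvPolynomial.X 0)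
      (Fin.cons (MvPolynomial.X 1) (Fin.cons c Fin.elim0)) : Fin 3 → MvPolynomial (Fin 2) k)
      (MvPolynomial.monomial s (f.coeff s)) =
      MvPolynomial.C (f.coeff s) * (MvPolynomial.X 0 ^ s 0 * MvPolynomial.X 1 ^ s 1) * c ^ s 2 := fun c s => by
    rw [MvPolynomial.aeval_monomial, Finsupp.prod_fintype _ _ (fun _ => pow_zero _), Fin.prod_univ_three,
      MvPolynomial.algebraMap_eq]
    rw [show (Fin.cons (MvPolynomial.X 0) (Fin.cons (MvPolynomial.X 1) (Fin.cons c Fin.elim0)) :
        Fin 3 → MvPolynomial (Fin 2) k) = ![MvPolynomial.X 0, MvPolynomial.X 1, c] from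
      funext fun i => by fin_cases i <;> rfl]
    simp [mul_assoc]
  have hmon : ∀ s : Fin 3 →₀ ℕ, (MvPolynomial.C (f.coeff s) * (MvPolynomial.X 0 ^ s 0 * MvPolynomial.X 1 ^ s 1) :
      MvPolynomial (Fin 2) k).IsHomogeneous (s 0 + s 1) := fun s =>
    ((MvPolynomial.isHomogeneous_X_pow 0 (s 0)).mul (MvPolynomial.isHomogeneous_X_pow 1 (s 1))).C_mul _
  rw [f.as_sum, map_sum, map_sum]
  refine ⟨MvPolynomial.totalDegree_finsetSum_le fun s hs => ?_, ?_⟩
  · rw [key, one_pow, mul_one]
    have := hdeg s hs
    exact (hmon s).totalDegree_le.trans (by omega)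
  · rw [map_sum]
    refine Finset.sum_congr rfl fun s hs => ?_
    rw [key, key, one_pow, mul_one, MvPolynomial.homogeneousComponent_of_mem (hmon s)]
    have := hdeg s hs
    by_cases h2 : s 2 = 0
    · rw [if_pos (by omega), h2, pow_zero, mul_one]
    · rw [if_neg (by omega), zero_pow h2, mul_zero]

/-- Let k be a field and f, g nonzero homogeneous polynomials of positive degrees n and m in three
variables X, Y, T without common non-unit factor, and assume that f(X, Y, 0) and g(X, Y, 0) are also
without common non-unit factor in k[X, Y] (no common point of the two curves lies on the line T =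
0). Then the quotient of k[X, Y] by the ideal generated by f(X, Y, 1) and g(X, Y, 1) has dimension
n·m over k. (The published statement is that two plane curves without common component have total
intersection number equal to the product of their degrees; its argument moves a line off the
finitely many common points and then proves exactly this affine count, which is what this row
states, over an arbitrary field.) -/
theorem result (k : Type u) [Field k] (n m : ℕ)
    (f g : MvPolynomial (Fin 3) k) (hf : f.IsHomogeneous n) (hg : g.IsHomogeneous m)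
    (hn : 0 < n) (hm : 0 < m) (hf0 : f ≠ 0) (hg0 : g ≠ 0) (hfg : IsRelPrime f g)
    (hT : IsRelPrime
      (MvPolynomial.aeval (Fin.cons (MvPolynomial.X 0) (Fin.cons (MvPolynomial.X 1)
        (Fin.cons 0 Fin.elim0)) : Fin 3 → MvPolynomial (Fin 2) k) f)
      (MvPolynomial.aeval (Fin.cons (MvPolynomial.X 0) (Fin.cons (MvPolynomial.X 1)
        (Fin.cons 0 Fin.elim0)) : Fin 3 → MvPolynomial (Fin 2) k) g)) :
    Module.finrank k (MvPolynomial (Fin 2) k ⧸ Ideal.span
      ({MvPolynomial.aeval (Fin.cons (MvPolynomial.X 0) (Fin.cons (MvPolynomial.X 1)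
          (Fin.cons 1 Fin.elim0)) : Fin 3 → MvPolynomial (Fin 2) k) f,
        MvPolynomial.aeval (Fin.cons (MvPolynomial.X 0) (Fin.cons (MvPolynomial.X 1)
          (Fin.cons 1 Fin.elim0)) : Fin 3 → MvPolynomial (Fin 2) k) g} :
        Set (MvPolynomial (Fin 2) k))) = n * m := by
  obtain ⟨hfn, hfc⟩ := dehom f hf
  obtain ⟨hgm, hgc⟩ := dehom g hg
  exact BinForms.finrank_quotient_span_pair _ _ hn hm hfn hgm (by rw [hfc, hgc]; exact hT)

end Groth.Agent.S10827
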