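import Groth.Statements.S10844
import Groth.Agent.QCoh.AnnIdeal
import Groth.Agent.QCoh.CokerQC
import Groth.Agent.RGLib.Lim8Zero

set_option autoImplicit false
universe u
open CategoryTheory CategoryTheory.Limits
open RepF

namespace Groth.Agent.S10844

open AlgebraicGeometry CategoryTheory TopologicalSpace Groth.Agent in
theorem isZero_of_support_eq_empty {X : Scheme.{u}} {M : X.Modules} (hM : Coh.IsQCoh M) (h : CohB1.support M = ∅) : IsZero M := by
  refine QCoh.isZero_of_cover hM (fun U : X.affineOpens => U.1) (fun U => U.2) (fun x => ?_) fun U => ?_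
  · obtain ⟨U, hU, hx, -⟩ := exists_isAffineOpen_mem_and_subset (x := x) (U := (⊤ : X.Opens)) trivial
    exact ⟨⟨U, hU⟩, hx⟩
  · rw [← Module.support_eq_empty_iff (R := Γ(X, U.1))]
    refine Set.eq_empty_of_forall_notMem fun p hp => ?_
    have hmem : U.2.fromSpec p ∈ U.1 := by
      have : U.2.fromSpec p ∈ Set.range U.2.fromSpec := ⟨p, rfl⟩
      rwa [U.2.range_fromSpec] at this
    have hinv : U.2.primeIdealOf ⟨U.2.fromSpec p, hmem⟩ = p :=
      U.2.fromSpec.isOpenEmbedding.injective (U.2.fromSpec_primeIdealOf ⟨_, hmem⟩)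
    rw [← hinv, QCoh.mem_moduleSupport_iff hM U.2 hmem, h] at hp
    exact hp


open AlgebraicGeometry CategoryTheory in
/-- For a scheme S and a homomorphism v : E → F of quasi-coherent O_S-modules with F of finite type,
there is an open subscheme U of S such that a morphism of schemes f : T → S factors through U (its
image lies in U) if and only if the pulled-back homomorphism f^*v : f^*E → f^*F is an epimorphism. -/
theorem result {S : Scheme.{u}} {E F : S.Modules}
    [Coh.IsQCoh E] [Coh.IsQCoh F] (hF : CohB1.IsFT F) (v : E ⟶ F) :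
    ∃ U : S.Opens, ∀ (T : Scheme.{u}) (f : T ⟶ S),
      Set.range f.base ⊆ (U : Set S) ↔ Epi ((Scheme.Modules.pullback f).map v) := by
  have hC : Coh.IsQCoh (cokernel v) := Groth.Agent.QCoh.isQCoh_cokernel ‹Coh.IsQCoh E› ‹Coh.IsQCoh F› v
  have hft : CohB1.IsFT (cokernel v) :=
    Groth.Agent.RGLib.Lim8.isFT_of_epi (cokernel.π v) ‹Coh.IsQCoh F› hC hF
  refine ⟨⟨(CohB1.support (cokernel v))ᶜ,
    (Groth.Agent.QCoh.isClosed_support_of_isFT hC hft).isOpen_compl⟩, fun T f => ?_⟩
  have hi : IsZero ((Scheme.Modules.pullback f).obj (cokernel v)) ↔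
      CohB1.support ((Scheme.Modules.pullback f).obj (cokernel v)) = ∅ := by
    refine ⟨fun hz => ?_, isZero_of_support_eq_empty
      (Groth.Agent.QCoh.isQCoh_pullback f hC)⟩
    refine Set.eq_empty_of_forall_notMem fun x hx => hx ?_
    exact AddCommGrpCat.subsingleton_of_isZero
      ((TopCat.Presheaf.stalkFunctor Ab x).map_isZero ((Scheme.Modules.toPresheaf T).map_isZero hz))
  rw [Preadditive.epi_iff_isZero_cokernel,
    ← Iso.isZero_iff (PreservesCokernel.iso (Scheme.Modules.pullback f) v), hi,
    Groth.Agent.QCoh.support_pullback f hC hft, Set.eq_empty_iff_forall_notMem]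
  exact ⟨fun h y hy => h ⟨y, rfl⟩ hy, fun h => Set.range_subset_iff.2 fun y hy => h y hy⟩

end Groth.Agent.S10844
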