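import Groth.Statements.S10846
import Groth.Agent.GrassX.RepFree
import Groth.Agent.GrassX.PullClosed

set_option autoImplicit false
universe u
open Grass

namespace Groth.Agent.S10846

open AlgebraicGeometry CategoryTheory in
/-- Let R be a commutative ring, M a finitely generated R-module and k a natural number. The
Grassmannian functor of rank-k locally free quotients of M (on R-algebras A: submodules N of A ⊗_R M
whose quotient is a finite projective A-module of constant rank k) is representable by a scheme X
over Spec R: there is a family of bijections between Spec R-morphisms Spec A → X and the value of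
the functor at A, compatible with base change along every R-algebra homomorphism A → B. (The
published statement is for a quasi-coherent module over an arbitrary base scheme, and is proved
there for modules of finite type; this row takes the base affine and the module finitely generated.) -/
theorem result (R : Type u) [CommRing R]
    (M : Type u) [AddCommGroup M] [Module R M] [Module.Finite R M] (k : ℕ) :
    ∃ (X : Over (Spec (CommRingCat.of R)))
      (e : ∀ A : CommAlgCat.{u} R,
        (Over.mk (Spec.map (CommRingCat.ofHom (algebraMap R A))) ⟶ X) ≃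
          (Module.Grassmannian.functor (R := R) (M := M) k).obj A),
      ∀ (A B : CommAlgCat.{u} R) (φ : A ⟶ B)
        (g : Over.mk (Spec.map (CommRingCat.ofHom (algebraMap R A))) ⟶ X)
        (g' : Over.mk (Spec.map (CommRingCat.ofHom (algebraMap R B))) ⟶ X),
        g'.left = Spec.map (CommRingCat.ofHom φ.hom.toRingHom) ≫ g.left →
          e B g' = (Module.Grassmannian.functor (R := R) (M := M) k).map φ (e A g) := by
  obtain ⟨n, v, hv⟩ := Module.Finite.exists_fin' R M
  obtain ⟨X₁, e₁, he₁⟩ := GrassX.exists_grassRep (R := R) n k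
  obtain ⟨Z, ι, hι, hfac⟩ := GrassX.exists_closedImmersion X₁.left (fun {A} _ => GrassX.KerLe v e₁ (A := A))
    (fun a => GrassX.exists_hasI_kerLe v e₁ he₁ hv a)
  have := hι
  let X : Over (Spec (CommRingCat.of R)) := Over.mk (ι ≫ X₁.hom)
  let ι' : X ⟶ X₁ := Over.homMk ι
  have hmem : ∀ (A : CommAlgCat.{u} R) (g : GrassX.bpt A ⟶ X),
      ∃! N, GrassX.pull v hv N = e₁ A (g ≫ ι') := by
    intro A g
    have h0 : GrassX.KerLe v e₁ (g ≫ ι').left := (hfac A _).1 ⟨g.left, rfl⟩
    obtain ⟨N, hN⟩ := GrassX.exists_pull_eq v hv _
      ((GrassX.kerLe_iff v e₁ _ (Over.w (g ≫ ι'))).1 h0)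
    exact ⟨N, hN, fun N' hN' => GrassX.pull_injective v hv (hN'.trans hN.symm)⟩
  have hbij : ∀ A : CommAlgCat.{u} R, Function.Bijective fun g : GrassX.bpt A ⟶ X => (hmem A g).choose := by
    intro A
    constructor
    · intro g g' h
      have h1 : g ≫ ι' = g' ≫ ι' := (e₁ A).injective (by
        rw [← (hmem A g).choose_spec.1, ← (hmem A g').choose_spec.1]
        exact congrArg (GrassX.pull v hv) h)
      have h2 : g.left ≫ ι = g'.left ≫ ι := congrArg CommaMorphism.left h1
      exact Over.OverMorphism.ext ((cancel_mono ι).1 h2)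
    · intro N
      let p := (e₁ A).symm (GrassX.pull v hv N)
      obtain ⟨h, hh⟩ := (hfac A p.left).2 ((GrassX.kerLe_iff v e₁ _ (Over.w p)).2 (by
        show _ ≤ (e₁ A p).toSubmodule
        rw [Equiv.apply_symm_apply, GrassX.pull_toSubmodule]
        intro x hx
        rw [Submodule.mem_comap, LinearMap.mem_ker.1 hx]
        exact zero_mem _))
      have hg : h ≫ X.hom = Spec.map (CommRingCat.ofHom (algebraMap R A)) := by
        show h ≫ ι ≫ X₁.hom = _
        rw [← Category.assoc, hh]
        exact Over.w p
      refine ⟨GrassX.mkPt h hg, ((hmem A _).choose_spec.2 N ?_).symm⟩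
      show GrassX.pull v hv N = e₁ A (GrassX.mkPt h hg ≫ ι')
      rw [show GrassX.mkPt h hg ≫ ι' = p from Over.OverMorphism.ext hh, Equiv.apply_symm_apply]
  refine ⟨X, fun A => Equiv.ofBijective _ (hbij A), fun A B φ g g' hg => ?_⟩
  refine ((hmem B g').choose_spec.2 _ ?_).symm
  show GrassX.pull v hv (Module.Grassmannian.map φ.hom (hmem A g).choose) = e₁ B (g' ≫ ι')
  rw [← GrassX.map_pull, (hmem A g).choose_spec.1]
  exact (he₁ A B φ (g ≫ ι') (g' ≫ ι') (by rw [Over.comp_left, hg, Category.assoc]; rfl)).symm

end Groth.Agent.S10846
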