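import Groth.Statements.S10852
import Groth.Agent.GrassX.Chart
import Groth.Agent.GrassX.PolySmooth
import Mathlib.AlgebraicGeometry.Morphisms.Smooth
import Mathlib.AlgebraicGeometry.AffineSpace

set_option autoImplicit false
universe u
open Grass

namespace Groth.Agent.S10852

open AlgebraicGeometry CategoryTheory in
/-- Let R be a commutative ring and k < n natural numbers. Suppose the scheme X over Spec R represents
the Grassmannian functor of rank-k locally free quotients of the free module R^n (bijections,
compatible with base change along R-algebra maps, between Spec R-morphisms Spec A → X and submodules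
of A^n whose quotient is finite projective of constant rank k). Then the structure morphism X → Spec
R is smooth of relative dimension k(n − k), and X has a finite open covering by subschemes each
isomorphic over Spec R to affine space of dimension k(n − k). -/
theorem result (R : Type u) [CommRing R]
    (n k : ℕ) (hk : k < n) (X : Over (Spec (CommRingCat.of R)))
    (e : ∀ A : CommAlgCat.{u} R,
      (Over.mk (Spec.map (CommRingCat.ofHom (algebraMap R A))) ⟶ X) ≃
        (Module.Grassmannian.functor (R := R) (M := Fin n → R) k).obj A)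
    (he : ∀ (A B : CommAlgCat.{u} R) (φ : A ⟶ B)
      (g : Over.mk (Spec.map (CommRingCat.ofHom (algebraMap R A))) ⟶ X)
      (g' : Over.mk (Spec.map (CommRingCat.ofHom (algebraMap R B))) ⟶ X),
      g'.left = Spec.map (CommRingCat.ofHom φ.hom.toRingHom) ≫ g.left →
        e B g' = (Module.Grassmannian.functor (R := R) (M := Fin n → R) k).map φ (e A g)) :
    SmoothOfRelativeDimension (k * (n - k)) X.hom ∧
      ∃ (ι : Type) (_ : Finite ι) (U : ι → X.left.Opens), ⨆ i, U i = ⊤ ∧
        ∀ i, Nonempty (Over.mk ((U i).ι ≫ X.hom) ≅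
          Over.mk (𝔸(ULift.{u} (Fin (k * (n - k))); Spec (CommRingCat.of R)) ↘ Spec (CommRingCat.of R))) := by
  have heN : GrassX.GrNat e := he
  let ι := {S : Finset (Fin n) // S.card = k}
  have := fun i : ι => GrassX.isOpenImmersion_emb heN i.1 i.2
  let U : ι → X.left.Opens := fun i => (GrassX.emb e i.1 i.2).left.opensRange
  have hU : ⨆ i, U i = ⊤ := eq_top_iff.2 fun x _ => by
    obtain ⟨S, hS, hx⟩ := GrassX.exists_mem_emb heN x
    exact TopologicalSpace.Opens.mem_iSup.2 ⟨⟨S, hS⟩, hx⟩
  have hiso : ∀ i, Nonempty (Over.mk ((U i).ι ≫ X.hom) ≅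
      Over.mk (𝔸(ULift.{u} (Fin (k * (n - k))); Spec (CommRingCat.of R)) ↘ Spec (CommRingCat.of R))) := by
    intro i
    have hcard : Fintype.card (GrassX.Var i.1) = k * (n - k) := by
      rw [Fintype.card_prod, Fintype.card_coe, Fintype.card_subtype_compl, Fintype.card_coe, Fintype.card_fin, i.2,
        Nat.mul_comm]
    let ev : ULift.{u} (Fin (k * (n - k))) ≃ GrassX.Var i.1 :=
      Equiv.ulift.trans (Fintype.equivFinOfCardEq hcard).symm
    let r := (MvPolynomial.renameEquiv R ev).toRingEquiv.toCommRingCatIso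
    let a : Spec (CommRingCat.of (MvPolynomial (GrassX.Var i.1) R)) ≅ Spec (CommRingCat.of (MvPolynomial (ULift.{u} (Fin (k * (n - k)))) R)) :=
      Scheme.Spec.mapIso r.op
    refine ⟨Over.isoMk ((GrassX.emb e i.1 i.2).left.isoOpensRange.symm ≪≫ a ≪≫ (AffineSpace.SpecIso _ (CommRingCat.of R)).symm) ?_⟩
    have h1 := Over.w (GrassX.emb e i.1 i.2)
    show ((GrassX.emb e i.1 i.2).left.isoOpensRange.inv ≫ Spec.map r.hom ≫
      (AffineSpace.SpecIso _ (CommRingCat.of R)).inv) ≫ (_ ↘ _) = (U i).ι ≫ X.hom
    rw [Category.assoc, Category.assoc, AffineSpace.SpecIso_inv_over, ← Spec.map_comp]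
    rw [← Scheme.Hom.isoOpensRange_inv_comp (GrassX.emb e i.1 i.2).left, Category.assoc, h1]
    congr 2
    refine CommRingCat.hom_ext (RingHom.ext fun c => ?_)
    exact (MvPolynomial.renameEquiv R ev).commutes c
  refine ⟨?_, ι, inferInstance, U, hU, hiso⟩
  refine IsZariskiLocalAtSource.of_iSup_eq_top U hU fun i => ?_
  obtain ⟨φ⟩ := hiso i
  have h2 : (U i).ι ≫ X.hom = φ.hom.left ≫ 𝔸(ULift.{u} (Fin (k * (n - k))); Spec (CommRingCat.of R)) ↘ Spec (CommRingCat.of R) :=
    (Over.w φ.hom).symm
  rw [h2, MorphismProperty.cancel_left_of_respectsIso (P := @SmoothOfRelativeDimension (k * (n - k))),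
    ← MorphismProperty.cancel_left_of_respectsIso (P := @SmoothOfRelativeDimension (k * (n - k)))
      (AffineSpace.SpecIso _ (CommRingCat.of R)).inv, AffineSpace.SpecIso_inv_over]
  refine (HasRingHomProperty.Spec_iff (P := @SmoothOfRelativeDimension (k * (n - k)))).2 ?_
  refine RingHom.locally_of RingHom.isStandardSmoothOfRelativeDimension_respectsIso _ ?_
  show RingHom.IsStandardSmoothOfRelativeDimension _ (MvPolynomial.C : R →+* _)
  rw [← MvPolynomial.algebraMap_eq, RingHom.isStandardSmoothOfRelativeDimension_algebraMap]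
  exact GrassX.standardSmooth_mvPolynomial R _ (by simp)

end Groth.Agent.S10852
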