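import Groth.Statements.S10863
import Mathlib.FieldTheory.SeparableDegree
import Mathlib.RingTheory.Artinian.Module
import Mathlib.RingTheory.TensorProduct.Finite
import Mathlib.RingTheory.LocalRing.ResidueField.Ideal

set_option autoImplicit false
universe u
open CAlg

namespace Groth.Agent.S10863

open TensorProduct in
/-- Let k be a field, A a finite-dimensional local k-algebra with residue field κ, and k' a field
extension of k. Then the separable degree of κ over k equals the sum over the maximal ideals m' of
k' ⊗_k A (the points of the base-changed finite scheme lying over the given point) of the separable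
degrees over k' of their residue fields. -/
theorem result (k A k' : Type u) [Field k] [CommRing A] [Algebra k A]
    [Module.Finite k A] [IsLocalRing A] [Field k'] [Algebra k k'] :
    Field.finSepDegree k (IsLocalRing.ResidueField A) =
      ∑ᶠ m : MaximalSpectrum (k' ⊗[k] A),
        Field.finSepDegree k' (IsLocalRing.ResidueField (Localization.AtPrime m.asIdeal)) := by
  classical
  let T := k' ⊗[k] A
  let Ω := AlgebraicClosure k'
  haveI : Module.Finite k' T := Module.Finite.base_change k k' A
  haveI : IsArtinianRing T := IsArtinianRing.of_finite k' T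
  haveI : IsArtinianRing A := IsArtinianRing.of_finite k A
  have hker : ∀ (f : A →ₐ[k] Ω) (a : A), a ∈ IsLocalRing.maximalIdeal A → f a = 0 := fun f a ha => by
    haveI : (RingHom.ker f.toRingHom).IsPrime := RingHom.ker_isPrime _
    haveI : (RingHom.ker f.toRingHom).IsMaximal := IsArtinianRing.isMaximal_of_isPrime _
    rw [← IsLocalRing.eq_maximalIdeal ‹(RingHom.ker f.toRingHom).IsMaximal›] at ha
    exact ha
  have hres : ∀ a : A, IsLocalRing.residue A a = IsScalarTower.toAlgHom k A (IsLocalRing.ResidueField A) a := fun a => rfl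
  let e1 : (IsLocalRing.ResidueField A →ₐ[k] Ω) ≃ (A →ₐ[k] Ω) :=
    { toFun := fun f => f.comp (IsScalarTower.toAlgHom k A (IsLocalRing.ResidueField A))
      invFun := fun f => Ideal.Quotient.liftₐ _ f (hker f)
      left_inv := fun f => AlgHom.ext fun x => by
        obtain ⟨a, rfl⟩ := IsLocalRing.residue_surjective x
        rfl
      right_inv := fun f => AlgHom.ext fun a => rfl }
  let e2 : (A →ₐ[k] Ω) ≃ (T →ₐ[k'] Ω) :=
    { toFun := fun f => Algebra.TensorProduct.lift (Algebra.ofId k' Ω) f (fun _ _ => Commute.all _ _)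
      invFun := fun g => (g.restrictScalars k).comp Algebra.TensorProduct.includeRight
      left_inv := fun f => AlgHom.ext fun a => by
        show Algebra.TensorProduct.lift (Algebra.ofId k' Ω) f (fun _ _ => Commute.all _ _) ((1 : k') ⊗ₜ[k] a) = f a
        simp
      right_inv := fun g => Algebra.TensorProduct.ext' fun x a => by
        rw [Algebra.TensorProduct.lift_tmul, Algebra.ofId_apply, ← AlgHom.commutes g x]
        show g (algebraMap k' T x) * g ((1 : k') ⊗ₜ[k] a) = g (x ⊗ₜ[k] a)
        rw [← map_mul, Algebra.TensorProduct.algebraMap_apply, Algebra.TensorProduct.tmul_mul_tmul,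
          mul_one, one_mul, Algebra.algebraMap_self, RingHom.id_apply] }
  let Φ : (Σ m : MaximalSpectrum T, (T ⧸ m.asIdeal) →ₐ[k'] Ω) → (T →ₐ[k'] Ω) := fun x => x.2.comp (Ideal.Quotient.mkₐ k' x.1.asIdeal)
  have hΦ : Function.Bijective Φ := by
    constructor
    · rintro ⟨m, f⟩ ⟨n, g⟩ h
      have hk : ∀ (m : MaximalSpectrum T) (f : (T ⧸ m.asIdeal) →ₐ[k'] Ω), RingHom.ker (Φ ⟨m, f⟩).toRingHom = m.asIdeal := by
        intro m f
        letI := Ideal.Quotient.field m.asIdeal
        ext a
        show f (Ideal.Quotient.mk _ a) = 0 ↔ _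
        exact (map_eq_zero_iff f (f : (T ⧸ m.asIdeal) →+* Ω).injective).trans Ideal.Quotient.eq_zero_iff_mem
      obtain rfl : m = n := MaximalSpectrum.ext (by rw [← hk m f, ← hk n g, h])
      refine Sigma.ext rfl (heq_of_eq (AlgHom.ext fun x => ?_))
      obtain ⟨a, rfl⟩ := Ideal.Quotient.mk_surjective x
      exact congrArg (fun φ : T →ₐ[k'] Ω => φ a) h
    · intro g
      haveI : (RingHom.ker g.toRingHom).IsPrime := RingHom.ker_isPrime _
      haveI : (RingHom.ker g.toRingHom).IsMaximal := IsArtinianRing.isMaximal_of_isPrime _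
      exact ⟨⟨⟨RingHom.ker g.toRingHom, inferInstance⟩, Ideal.Quotient.liftₐ _ g fun a ha => ha⟩, AlgHom.ext fun a => rfl⟩
  have hdeg : ∀ m : MaximalSpectrum T, Field.finSepDegree k' (IsLocalRing.ResidueField (Localization.AtPrime m.asIdeal)) =
      Nat.card ((T ⧸ m.asIdeal) →ₐ[k'] Ω) := by
    intro m
    letI := Ideal.Quotient.field m.asIdeal
    haveI : Module.Finite k' (T ⧸ m.asIdeal) := Module.Finite.of_surjective (Ideal.Quotient.mkₐ k' m.asIdeal).toLinearMap Ideal.Quotient.mk_surjective
    rw [← Field.finSepDegree_eq_of_isAlgClosed k' (T ⧸ m.asIdeal) Ω]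
    exact (Field.finSepDegree_eq_of_equiv k' (T ⧸ m.asIdeal) _ (AlgEquiv.ofBijective (IsScalarTower.toAlgHom k' (T ⧸ m.asIdeal) m.asIdeal.ResidueField)
      m.asIdeal.bijective_algebraMap_quotient_residueField)).symm
  haveI : Module.Finite k (IsLocalRing.ResidueField A) :=
    Module.Finite.of_surjective (IsScalarTower.toAlgHom k A (IsLocalRing.ResidueField A)).toLinearMap IsLocalRing.residue_surjective
  haveI : ∀ m : MaximalSpectrum T, Finite ((T ⧸ m.asIdeal) →ₐ[k'] Ω) := fun m => by
    letI := Ideal.Quotient.field m.asIdeal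
    haveI : Module.Finite k' (T ⧸ m.asIdeal) := Module.Finite.of_surjective (Ideal.Quotient.mkₐ k' m.asIdeal).toLinearMap Ideal.Quotient.mk_surjective
    infer_instance
  letI : Fintype (MaximalSpectrum T) := Fintype.ofFinite _
  rw [finsum_eq_sum_of_fintype]
  simp only [hdeg]
  rw [← Nat.card_sigma, Field.finSepDegree_eq_of_isAlgClosed k (IsLocalRing.ResidueField A) Ω]
  exact Nat.card_congr ((e1.trans e2).trans (Equiv.ofBijective Φ hΦ).symm)

end Groth.Agent.S10863
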