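import Groth.Statements.S10864
import Groth.Agent.ProjAvoid.Basic
import Groth.Agent.GGAmple.Basic
import Groth.Agent.GGAmple.Finite
import Groth.Agent.TwistX.Global
import Groth.Agent.NormX.NormalAmple
import Groth.Agent.S10829
import Groth.Agent.PnCoh.Finite.TwistInv

set_option autoImplicit false
set_option backward.isDefEq.respectTransparency false
set_option backward.isDefEq.respectTransparency.types false
set_option linter.style.haveILetI false
universe u
open Variety

namespace Groth.Agent.S10864
open Groth.Agent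

open CategoryTheory AlgebraicGeometry in
/-- Let k be an infinite field and X a closed subscheme of projective n-space over k, of dimension d
(topological Krull dimension, a natural number). Then there is a finite surjective morphism X →
P^d_k over k. -/
theorem result (k : Type u) [Field k] [Infinite k] (X : Scheme.{u})
    (n : ℕ) (ι : X ⟶ CohB1.ProjSpace n k) [IsClosedImmersion ι] (d : ℕ) (hd : topologicalKrullDim X = d) :
    ∃ π : X ⟶ CohB1.ProjSpace d k, π ≫ CohB1.ProjSpace.toSpec d k = ι ≫ CohB1.ProjSpace.toSpec n k ∧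
      IsFinite π ∧ Surjective π := by
  classical
  let P := CohB1.ProjSpace n k
  let f := ι ≫ CohB1.ProjSpace.toSpec n k
  haveI : IsProper (CohB1.ProjSpace.toSpec n k) := PnCoh.Chow.isProper_toSpec n k
  haveI : IsProper (CohB1.ProjSpace.toSpec d k) := PnCoh.Chow.isProper_toSpec d k
  haveI : IsProper f := inferInstance
  haveI : IsNoetherian P := Proj16.isNoetherian_proj _
  haveI : CompactSpace X := QuasiCompact.compactSpace_of_compactSpace f
  haveI : IsLocallyNoetherian X := LocallyOfFiniteType.isLocallyNoetherian f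
  haveI : IsNoetherian X := {}
  haveI : JacobsonSpace X := LocallyOfFiniteType.jacobsonSpace f
  have hFd : topologicalKrullDim (Set.range ι.base) ≤ (d : WithBot ℕ∞) := by
    rw [← hd, IsHomeomorph.topologicalKrullDim_eq _ ι.isClosedEmbedding.isEmbedding.toHomeomorph.isHomeomorph]
  obtain ⟨h, hh⟩ := ProjAvoid.exists_linear ι.isClosedEmbedding.isClosed_range hFd
  let O1 : P.Modules := Twist.twistProjSpace n k 1
  let L : X.Modules := (Scheme.Modules.pullback ι).obj O1
  have hO : CohB1.IsAmple O1 := by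
    refine AmpleX.isAmple_twist_one (𝒜 := CohB1.polyGrading n k) (Finset.univ.image fun j : Fin (n + 1) => MvPolynomial.X j) ?_ ?_
    · intro g hg
      obtain ⟨j, -, rfl⟩ := Finset.mem_image.1 hg
      exact ProjPt.X_mem j
    · refine eq_top_iff.2 fun y _ => ?_
      obtain ⟨j, hj⟩ := TopologicalSpace.Opens.mem_iSup.1 ((AmpleEmbed.iSup_basicOpen_X n k).ge (trivial : y ∈ (⊤ : TopologicalSpace.Opens _)))
      exact TopologicalSpace.Opens.mem_iSup.2 ⟨⟨MvPolynomial.X j, Finset.mem_image.2 ⟨j, Finset.mem_univ _, rfl⟩⟩, hj⟩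
  have hL : CohB1.IsAmple L := NormX.isAmple_pullback_affine ι hO
  let s : Fin (d + 1) → Γ(L, ⊤) := fun i =>
    InvX.pullElt ι (U := ⊤) (show Γ(O1, ⊤) from Twist.globalOf (CohB1.polyGrading n k) (h i))
  have hs : ProjUP.GeneratedBy L s := ProjUPX.generatedBy_of_frames _ fun x => by
    obtain ⟨i, hi⟩ := hh (ι x) ⟨x, rfl⟩
    refine ⟨i, ι ⁻¹ᵁ Proj.basicOpen (CohB1.polyGrading n k) (h i : MvPolynomial (Fin (n + 1)) k), hi, ?_⟩
    have e := InvX.res_pullElt ι (le_top : Proj.basicOpen (CohB1.polyGrading n k) (h i : MvPolynomial (Fin (n + 1)) k) ≤ ⊤)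
      (show Γ(O1, ⊤) from Twist.globalOf (CohB1.polyGrading n k) (h i))
    exact e ▸ InvX.isFrame_pullElt ι (TwistX.isFrame_res_globalOf (h i).2 fun y => y.2)
  obtain ⟨r, hr, τ, -⟩ := S3572.result d f L hL.1 s hs
  refine ⟨r, hr, ?_⟩
  haveI : IsProper r := by
    haveI : IsProper (r ≫ CohB1.ProjSpace.toSpec d k) := hr ▸ ‹IsProper f›
    exact IsProper.of_comp r (CohB1.ProjSpace.toSpec d k)
  have hN : PicF.IsInvertible (Twist.twistProjSpace d k 1) :=
    PnCoh.Finite.isInvertible_twist (fun j : ULift.{u} (Fin (d + 1)) => MvPolynomial.X j.down)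
      (fun j => ProjPt.X_mem j.down) (by
        refine top_le_iff.1 ((AmpleEmbed.iSup_basicOpen_X d k).ge.trans (iSup_le fun j => ?_))
        exact le_iSup_of_le (ULift.up j) le_rfl) _
  haveI : LocallyQuasiFinite r := AVAmple.locallyQuasiFinite_of_closed r fun q hq =>
    AVAmple.finite_preimage r hL.1 hN τ (fun {C} j hj hint htriv => by
      haveI := hj
      letI : C.Over (Spec (CommRingCat.of k)) := ⟨j ≫ f⟩
      haveI : IsProper (C ↘ Spec (CommRingCat.of k)) := inferInstanceAs (IsProper (j ≫ f))
      obtain ⟨e⟩ := htriv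
      exact GGAmple.finite_of_isAmple_structure k C (AmpleX.isAmple_of_iso e (NormX.isAmple_pullback_affine j hL))) q hq
  haveI : IsFinite r := IsFinite.of_isProper_of_locallyQuasiFinite r
  refine ⟨inferInstance, ⟨fun y => ?_⟩⟩
  by_contra hy
  haveI : IsIntegral (CohB1.ProjSpace d k) := H23.PnChart.isIntegral_projSpace d k
  have hlt := H23.TopDim.dim_lt_of_ssubset (X := CohB1.ProjSpace d k)
    (by rw [S10829.result k d]; exact (WithBot.coe_lt_coe.2 (ENat.coe_lt_top d)).ne)
    r.isClosedMap.isClosed_range (fun hu => hy (hu.ge (Set.mem_univ y)))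
  rw [S10829.result k d] at hlt
  exact not_le_of_gt hlt (hd ▸ GGAmple.dim_le_range r)

end Groth.Agent.S10864
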