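import Groth.Statements.S10866
import Groth.Agent.S10865
import Groth.Agent.KZ.CohClass
import Groth.Agent.QCoh.Qcqs
import Groth.Agent.QCoh.Support

set_option autoImplicit false
set_option backward.isDefEq.respectTransparency false
set_option backward.isDefEq.respectTransparency.types false
universe u
open Coherent

namespace Groth.Agent.S10866

open CategoryTheory AlgebraicGeometry in
/-- Let f : X → Y be a morphism of Noetherian schemes such that for every integral closed subscheme i :
Z → X there is a coherent O_Z-module with nonzero stalk at the generic point of Z whose direct image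
under i followed by f is coherent on Y. Then the direct image f_*F of every coherent O_X-module F is
coherent. -/
theorem result {X Y : Scheme.{u}} [IsNoetherian X] [IsNoetherian Y]
    (f : X ⟶ Y)
    (hgen : ∀ (Z : Scheme.{u}) (i : Z ⟶ X) [IsClosedImmersion i] [IsIntegral Z],
      ∃ H : Z.Modules, Coh.IsCoh H ∧ Nontrivial (H.presheaf.stalk (genericPoint Z)) ∧
        Coh.IsCoh ((Scheme.Modules.pushforward (i ≫ f)).obj H))
    (F : X.Modules) (hF : Coh.IsCoh F) : Coh.IsCoh ((Scheme.Modules.pushforward f).obj F) := by
  open CategoryTheory.Limits in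
  haveI : QuasiCompact f := inferInstance
  haveI : QuasiSeparated f := inferInstance
  have hq : ∀ M : X.Modules, Coh.IsQCoh M → Coh.IsQCoh ((Scheme.Modules.pushforward f).obj M) :=
    fun M hM => Groth.Agent.QCoh.isQCoh_pushforward f hM
  rcases isEmpty_or_nonempty X with hX | hX
  · haveI : IsIso f → True := fun _ => trivial
    refine Groth.Agent.QCoh.isCoh_iff.2 ⟨hq F hF.1, fun U => ?_⟩
    haveI : Subsingleton Γ(X, f ⁻¹ᵁ U.1) := by
      rw [show f ⁻¹ᵁ U.1 = ⊥ from eq_bot_iff.2 fun z _ => hX.elim z]
      infer_instance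
    haveI : Subsingleton Γ(F, f ⁻¹ᵁ U.1) :=
      Module.subsingleton Γ(X, f ⁻¹ᵁ U.1) _
    haveI : Subsingleton Γ((Scheme.Modules.pushforward f).obj F, U.1) := ‹Subsingleton Γ(F, f ⁻¹ᵁ U.1)›
    infer_instance
  · let K : ObjectProperty X.Modules := fun M => Coh.IsCoh ((Scheme.Modules.pushforward f).obj M)
    haveI : K.IsClosedUnderIsomorphisms := ⟨fun {M N} e (h : Coh.IsCoh _) =>
      Groth.Agent.QCoh.isCoh_of_mono ((Scheme.Modules.pushforward f).map e.inv) h
        ((Groth.Agent.QCoh.isQCoh_iff_iso ((Scheme.Modules.pushforward f).mapIso e)).1 h.1)⟩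
    refine Groth.Agent.S10865.result X K (fun S hS h1 h2 h3 => ⟨fun k2 _ => ?_, fun k1 k3 => ?_⟩)
      (fun G d hd hG hK => ?_) ?_ F hF
    · haveI := hS.mono_f
      haveI : Mono ((Scheme.Modules.pushforward f).map S.f) := Functor.map_mono _ _
      exact Groth.Agent.QCoh.isCoh_of_mono ((Scheme.Modules.pushforward f).map S.f) k2 (hq _ h1.1)
    · haveI := hS.mono_f
      haveI : Mono ((Scheme.Modules.pushforward f).map S.f) := Functor.map_mono _ _
      haveI : (Scheme.Modules.pushforward f).IsRightAdjoint :=
        (Scheme.Modules.pullbackPushforwardAdjunction f).isRightAdjoint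
      haveI : PreservesFiniteLimits (Scheme.Modules.pushforward f) := inferInstance
      let c := cokernel.π ((Scheme.Modules.pushforward f).map S.f)
      have h31 : PreservesFiniteLimits (Scheme.Modules.pushforward f) → ∀ T : ShortComplex X.Modules,
          T.Exact ∧ Mono T.f → (T.map (Scheme.Modules.pushforward f)).Exact ∧ Mono ((Scheme.Modules.pushforward f).map T.f) :=
        ((Functor.preservesFiniteLimits_tfae (Scheme.Modules.pushforward f)).out 3 1).1
      have hex := (h31 inferInstance S ⟨hS.exact, hS.mono_f⟩).1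
      let d := cokernel.desc ((Scheme.Modules.pushforward f).map S.f) ((Scheme.Modules.pushforward f).map S.g)
        (by rw [← Functor.map_comp, S.zero, Functor.map_zero])
      haveI : Mono d := hex.mono_cokernelDesc
      have hcq : Coh.IsQCoh (cokernel ((Scheme.Modules.pushforward f).map S.f)) :=
        Groth.Agent.QCoh.isQCoh_cokernel (hq _ h1.1) (hq _ h2.1) _
      exact Groth.Agent.KZ.isCoh_X₂
        (S := ShortComplex.mk ((Scheme.Modules.pushforward f).map S.f) c (cokernel.condition _))
        (.mk' (ShortComplex.exact_of_g_is_cokernel _ (cokernelIsCokernel _)) inferInstance inferInstance)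
        k1 (Groth.Agent.QCoh.isCoh_of_mono d k3 hcq)
    · haveI : Mono (Sigma.ι (fun _ : Fin d => G) ⟨0, hd⟩) := inferInstance
      haveI : Mono ((Scheme.Modules.pushforward f).map (Sigma.ι (fun _ : Fin d => G) ⟨0, hd⟩)) :=
        Functor.map_mono _ _
      exact Groth.Agent.QCoh.isCoh_of_mono ((Scheme.Modules.pushforward f).map (Sigma.ι (fun _ : Fin d => G) ⟨0, hd⟩)) hK (hq _ hG.1)
    · intro Z i _ _
      obtain ⟨H, hH, hn, hc⟩ := hgen Z i
      exact ⟨H, hH, hn, Groth.Agent.QCoh.isCoh_of_mono ((Scheme.Modules.pushforwardComp i f).app H).hom hc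
        ((Groth.Agent.QCoh.isQCoh_iff_iso ((Scheme.Modules.pushforwardComp i f).app H)).2 hc.1)⟩

end Groth.Agent.S10866
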