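import Groth.Statements.S10869
import Groth.Agent.S4407
import Groth.Agent.AmpleVan.QAEpi
import Groth.Agent.ExpDescLib.Core
import Groth.Prelude.Def_GrassD

set_option autoImplicit false
set_option backward.isDefEq.respectTransparency false
set_option backward.isDefEq.respectTransparency.types false
universe u
open Coh

namespace Groth.Agent.S10869

open CategoryTheory AlgebraicGeometry in
/-- For f : X → S quasi-compact and quasi-separated and F a quasi-coherent O_X-module, the counit
f^*f_*F → F is an epimorphism iff F is a quotient of f^*G for some quasi-coherent O_S-module G, iff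
the restriction of F to the inverse image of every affine open of S is globally generated. -/
theorem result {X S : Scheme.{u}} (f : X ⟶ S) [QuasiCompact f] [QuasiSeparated f]
    (F : X.Modules) (hF : Coh.IsQCoh F) :
    (Epi ((Scheme.Modules.pullbackPushforwardAdjunction f).counit.app F) ↔
      ∃ G : S.Modules, Coh.IsQCoh G ∧ ∃ φ : (Scheme.Modules.pullback f).obj G ⟶ F, Epi φ) ∧
    (Epi ((Scheme.Modules.pullbackPushforwardAdjunction f).counit.app F) ↔
      ∀ U : S.Opens, IsAffineOpen U → Curv2.IsGloballyGenerated (F.restrict (f ⁻¹ᵁ U).ι)) := by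
  let adj := Scheme.Modules.pullbackPushforwardAdjunction f
  have hii : (∃ G : S.Modules, Coh.IsQCoh G ∧ ∃ φ : (Scheme.Modules.pullback f).obj G ⟶ F, Epi φ) →
      Epi (adj.counit.app F) := by
    rintro ⟨G, -, φ, hφ⟩
    have h : (Scheme.Modules.pullback f).map (adj.homEquiv G F φ) ≫ adj.counit.app F = φ :=
      (Adjunction.homEquiv_counit adj G F _).symm.trans ((adj.homEquiv G F).symm_apply_apply φ)
    exact epi_of_epi_fac h
  refine ⟨⟨fun h => ⟨_, Groth.Agent.QCoh.isQCoh_pushforward f hF, _, h⟩, hii⟩, ⟨fun h U hU => ?_, fun h => ?_⟩⟩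
  · haveI : IsAffine U.toScheme := hU
    let W := f ⁻¹ᵁ U
    let P := (Scheme.Modules.pushforward f).obj F
    have hgg : Curv2.IsGloballyGenerated ((Scheme.Modules.pullback U.ι).obj P) :=
      Groth.Agent.S4407.result U.toScheme _ (Groth.Agent.QCoh.isQCoh_pullback U.ι (Groth.Agent.QCoh.isQCoh_pushforward f hF))
    have h2 := Groth.Agent.ExpDescLib.isGloballyGenerated_pullback (f ∣_ U) hgg
    let e : (Scheme.Modules.pullback (f ∣_ U)).obj ((Scheme.Modules.pullback U.ι).obj P) ≅
        (Scheme.Modules.pullback W.ι).obj ((Scheme.Modules.pullback f).obj P) :=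
      (Scheme.Modules.pullbackComp (f ∣_ U) U.ι).app P ≪≫
        (Scheme.Modules.pullbackCongr (morphismRestrict_ι f U)).app P ≪≫
        ((Scheme.Modules.pullbackComp W.ι f).app P).symm
    obtain ⟨ι, p, hp⟩ := h2
    haveI := hp
    haveI : Epi ((Scheme.Modules.pullback W.ι).map (adj.counit.app F)) := Grass.epi_pullback_map _ _
    exact ⟨ι, p ≫ e.hom ≫ (Scheme.Modules.pullback W.ι).map (adj.counit.app F) ≫
      ((Scheme.Modules.restrictFunctorIsoPullback W.ι).app F).inv, inferInstance⟩
  · refine ⟨fun {Z} φ ψ hh => ?_⟩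
    have hpush : ∀ χ : F ⟶ Z, adj.unit.app _ ≫ (Scheme.Modules.pushforward f).map (adj.counit.app _ ≫ χ) =
        (Scheme.Modules.pushforward f).map χ := fun χ => by
      rw [(Scheme.Modules.pushforward f).map_comp]
      exact adj.right_triangle_components_assoc _ _
    have heq : (Scheme.Modules.pushforward f).map φ = (Scheme.Modules.pushforward f).map ψ := by
      rw [← hpush φ, ← hpush ψ]
      exact congrArg (fun χ => adj.unit.app _ ≫ (Scheme.Modules.pushforward f).map χ) hh
    refine Groth.Agent.H23.ModLoc.hom_ext_of_locally φ ψ fun x => ?_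
    obtain ⟨V, hV, hxV⟩ := Groth.Agent.QCoh.exists_affine_mem (f x)
    let W := f ⁻¹ᵁ V
    refine ⟨W, hxV, Groth.Agent.AmpleVan.QAEpi.hom_ext_of_isGloballyGenerated (h V hV) _ _ ?_⟩
    have key : ∀ t, φ.app (W.ι ''ᵁ ⊤) t = ψ.app (W.ι ''ᵁ ⊤) t := by
      rw [W.ι_image_top]
      exact fun t => congr(($heq).app V t)
    exact key

end Groth.Agent.S10869
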