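import Groth.Statements.S10870
import Groth.Statements.S10870
import Groth.Agent.S11264
import Groth.Agent.VarDim.Basic
import Groth.Agent.H1BE.Basic

set_option autoImplicit false
universe u
open CAlgX

namespace Groth.Agent.S10870

/-- Quotients along a faithfully flat integral extension have the same dimension. -/
lemma dim_quot_ff (S T : Type u) [CommRing S] [CommRing T] [Algebra S T] [Module.FaithfullyFlat S T]
    [Algebra.IsIntegral S T] (I : Ideal S) :
    ringKrullDim (S ⧸ I) = ringKrullDim (T ⧸ I.map (algebraMap S T)) := by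
  let J := I.map (algebraMap S T)
  haveI : J.LiesOver I := ⟨(Ideal.comap_map_eq_self_of_faithfullyFlat I).symm⟩
  haveI : Algebra.IsIntegral (S ⧸ I) (T ⧸ J) := Algebra.IsIntegral.tower_top (R := S)
  haveI : FaithfulSMul (S ⧸ I) (T ⧸ J) :=
    (faithfulSMul_iff_algebraMap_injective _ _).2 ((injective_iff_map_eq_zero _).2 fun a ha => by
      obtain ⟨a, rfl⟩ := Ideal.Quotient.mk_surjective a
      rw [Ideal.Quotient.algebraMap_mk_of_liesOver, Ideal.Quotient.eq_zero_iff_mem] at ha
      exact Ideal.Quotient.eq_zero_iff_mem.2 ((Ideal.mem_of_liesOver J I a).2 ha))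
  exact (VarDim.ringKrullDim_eq_of_isIntegral (R := S ⧸ I) (S := T ⧸ J)).symm

open TensorProduct in
/-- Dimension of a quotient of a polynomial ring is unchanged by an algebraic field extension. -/
lemma dim_quot (k K : Type u) [Field k] [Field K] [Algebra k K] [Algebra.IsAlgebraic k K] (σ : Type)
    (I : Ideal (MvPolynomial σ k)) :
    ringKrullDim (MvPolynomial σ k ⧸ I) = ringKrullDim
      (MvPolynomial σ K ⧸ I.map (MvPolynomial.map (algebraMap k K))) := by
  letI : Algebra (MvPolynomial σ k) (MvPolynomial σ K) := MvPolynomial.algebraMvPolynomial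
  haveI : Algebra.IsIntegral k K := Algebra.IsAlgebraic.isIntegral
  haveI : Algebra.IsPushout k (MvPolynomial σ k) K (MvPolynomial σ K) := inferInstance
  haveI : Module.FaithfullyFlat (MvPolynomial σ k) (MvPolynomial σ K) :=
    Module.FaithfullyFlat.of_linearEquiv (MvPolynomial σ k) ((MvPolynomial σ k) ⊗[k] K)
      (Algebra.IsPushout.equiv k (MvPolynomial σ k) K (MvPolynomial σ K)).symm.toLinearEquiv
  exact dim_quot_ff _ _ I

/-- The algebraically closed case, including the degenerate ranks. -/
lemma dim_closed (K : Type u) [Field K] [IsAlgClosed K] (n m r : ℕ) (hr : r ≤ min n m) :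
    ringKrullDim (MvPolynomial (Fin n × Fin m) K ⧸
      CAlgX.minorIdeal (W4bk4grassmannian.genMatrix K n m) (r + 1)) =
      ((r * (m + n - r) : ℕ) : WithBot ℕ∞) := by
  classical
  by_cases h : r < min n m
  · obtain ⟨h1, h2⟩ := lt_min_iff.1 h
    rw [(S11264.result K n m (r + 1) (by omega) (by omega) (by omega) h1 h2).2.2.2,
      show r + 1 - 1 = r from rfl, show n + m - (r + 1) + 1 = m + n - r by omega]
  · have hr' : r = min n m := le_antisymm hr (not_lt.1 h)
    have h0 : CAlgX.minorIdeal (W4bk4grassmannian.genMatrix K n m) (r + 1) = ⊥ := by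
      rw [CAlgX.minorIdeal, Ideal.span_eq_bot]
      rintro _ ⟨⟨f, g⟩, rfl⟩
      rcases le_total n m with hnm | hnm
      · obtain ⟨i, j, hij, e⟩ := Fintype.exists_ne_map_eq_of_card_lt f (by simp [Fintype.card_fin]; omega)
        exact Matrix.det_zero_of_row_eq hij (funext fun l => by simp [Matrix.submatrix, e])
      · obtain ⟨i, j, hij, e⟩ := Fintype.exists_ne_map_eq_of_card_lt g (by simp [Fintype.card_fin]; omega)
        exact Matrix.det_zero_of_column_eq hij (fun l => by simp [Matrix.submatrix, e])
    rw [h0, ringKrullDim_eq_of_ringEquiv (RingEquiv.quotientBot _),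
      MvPolynomial.ringKrullDim_of_isNoetherianRing, ringKrullDim_eq_zero_of_field]
    rw [hr', Nat.card_eq_fintype_card, Fintype.card_prod, Fintype.card_fin, Fintype.card_fin]
    rcases le_total n m with hnm | hnm
    · rw [min_eq_left hnm, show m + n - n = m by omega]; simp
    · rw [min_eq_right hnm, show m + n - m = n by omega, mul_comm]; simp

/-- For a field k and 0 ≤ r ≤ min(n, m), the affine determinantal scheme of n × m matrices of rank at
most r over k — the spectrum of the polynomial ring on the entries of the generic n × m matrix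
modulo the ideal of its (r+1) × (r+1) minors — has dimension r(m + n − r). -/
theorem result (k : Type u) [Field k] (n m r : ℕ) (hr : r ≤ min n m) :
    ringKrullDim (MvPolynomial (Fin n × Fin m) k ⧸ CAlgX.minorIdeal (Matrix.of fun (i : Fin n) (j : Fin m) => (MvPolynomial.X (i, j) : MvPolynomial (Fin n × Fin m) k)) (r + 1)) =
      ((r * (m + n - r) : ℕ) : WithBot ℕ∞) := by
  classical
  let K := AlgebraicClosure k
  set A : Matrix (Fin n) (Fin m) (MvPolynomial (Fin n × Fin m) k) :=
    Matrix.of fun i j => MvPolynomial.X (i, j) with hA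
  set I := CAlgX.minorIdeal A (r + 1) with hI
  have hmap : I.map (MvPolynomial.map (algebraMap k K)) =
      CAlgX.minorIdeal (W4bk4grassmannian.genMatrix K n m) (r + 1) := by
    rw [hI, ← H1BE.minorIdeal_map]
    congr 1
    ext i j
    simp [hA, W4bk4grassmannian.genMatrix, MvPolynomial.map_X]
  rw [dim_quot k K (Fin n × Fin m) I, hmap]
  exact dim_closed K n m r hr

end Groth.Agent.S10870
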