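import Groth.Statements.S10873
import Groth.Agent.ASBunLib.BSForm
-- import your own Groth.Agent.* helpers here

set_option autoImplicit false
set_option backward.isDefEq.respectTransparency false
set_option backward.isDefEq.respectTransparency.types false
set_option linter.style.haveILetI false
set_option maxHeartbeats 1000000
universe u
open CategoryTheory AlgebraicGeometry
open Variety

namespace Groth.Agent.S10873
open Groth.Agent

/-- A Brauer–Severi scheme X over a field k which has a k-rational point is k-isomorphic to a projective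
space P^n_k. (The converse direction of the printed equivalence, that P^n_k has a rational point, is
not stated here.) -/
theorem result (k : Type u) [Field k] {X : Scheme.{u}}
    (p : X ⟶ Spec (CommRingCat.of k)) (hX : W4bk4gw11416.IsBrauerSeveri p)
    (s : Spec (CommRingCat.of k) ⟶ X) (hs : s ≫ p = 𝟙 (Spec (CommRingCat.of k))) :
    ∃ n : ℕ, W4bk4gw11416.IsProjSpaceOver p n := by
  obtain ⟨K, _, _, n, e, he⟩ := hX
  obtain ⟨L, _, _, _, hL, -⟩ := Groth.Agent.ASBunLib.BSForm.exists_finite_splitting (⟨e, he⟩ : BrSev.Splitting p K n)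
  obtain ⟨e₁⟩ := Groth.Agent.ASBunLib.nonempty_splitting_of_isBS (⟨L, inferInstance, inferInstance, inferInstance, hL⟩ : BrSev.IsBS p n)
    (Or.inr ⟨s, hs⟩)
  have h1 : Spec.map (CommRingCat.ofHom (algebraMap k k)) = 𝟙 _ := Spec.map_id _
  haveI : IsIso (Spec.map (CommRingCat.ofHom (algebraMap k k))) := h1 ▸ inferInstance
  haveI : IsIso (BrSev.proj p k) := inferInstance
  refine ⟨n, (asIso (BrSev.proj p k)).symm ≪≫ e₁.iso, ?_⟩
  show (inv (BrSev.proj p k) ≫ e₁.iso.hom) ≫ CohB1.ProjSpace.toSpec n k = p
  rw [Category.assoc, e₁.comm, IsIso.inv_comp_eq]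
  refine Eq.trans ?_ Limits.pullback.condition.symm
  exact (Category.comp_id _).symm.trans (congrArg (BrSev.bcTo p k ≫ ·) h1.symm)

end Groth.Agent.S10873
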