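import Groth.Statements.S10874
import Groth.Agent.ASBunLib.BSForm
-- import your own Groth.Agent.* helpers here

set_option autoImplicit false
set_option backward.isDefEq.respectTransparency false
set_option backward.isDefEq.respectTransparency.types false
set_option linter.style.haveILetI false
set_option maxHeartbeats 1000000
universe u
open CategoryTheory AlgebraicGeometry
open Variety

namespace Groth.Agent.S10874
open Groth.Agent

/-- Every Brauer–Severi scheme over a field k splits over a finite Galois extension: there is a finite
Galois extension k' of k (in the same universe) and an n ≥ 0 such that the base change X_{k'} is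
k'-isomorphic to P^n_{k'}. -/
theorem result (k : Type u) [Field k] {X : Scheme.{u}}
    (p : X ⟶ Spec (CommRingCat.of k)) (hX : W4bk4gw11416.IsBrauerSeveri p) :
    ∃ (K : Type u) (_ : Field K) (_ : Algebra k K), FiniteDimensional k K ∧ IsGalois k K ∧
      ∃ n : ℕ, W4bk4gw11416.IsProjSpaceOver (W4bk4gw11416.baseChangeTo p K) n := by
  obtain ⟨K, _, _, n, e, he⟩ := hX
  obtain ⟨L, _, _, hf, hg, ⟨s⟩⟩ := Groth.Agent.ASBunLib.BSForm.exists_galois_splitting (⟨e, he⟩ : BrSev.Splitting p K n)
  exact ⟨L, inferInstance, inferInstance, hf, hg, n, s.iso, s.comm⟩

end Groth.Agent.S10874
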