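import Groth.Statements.S10883
import Groth.Statements.S10883

set_option autoImplicit false
universe u
open CAlgX

namespace Groth.Agent.S10883

/-- The generic matrix. -/
noncomputable abbrev gen (k : Type u) [Field k] (n m : ℕ) : Matrix (Fin n) (Fin m) (MvPolynomial (Fin n × Fin m) k) :=
  Matrix.of fun i j => MvPolynomial.X (i, j)

/-- A product through a smaller index has vanishing determinant. -/
lemma det_mul_eq_zero {R : Type u} [CommRing R] {r : ℕ} (U : Matrix (Fin (r + 1)) (Fin r) R)
    (W : Matrix (Fin r) (Fin (r + 1)) R) : (U * W).det = 0 := by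
  let U' : Matrix (Fin (r + 1)) (Fin (r + 1)) R := Matrix.of fun i j => if h : (j : ℕ) < r then U i ⟨j, h⟩ else 0
  let W' : Matrix (Fin (r + 1)) (Fin (r + 1)) R := Matrix.of fun i j => if h : (i : ℕ) < r then W ⟨i, h⟩ j else 0
  have e : U * W = U' * W' := by
    ext i j
    rw [Matrix.mul_apply, Matrix.mul_apply, Fin.sum_univ_castSucc]
    simp [U', W']
  rw [e, Matrix.det_mul, Matrix.det_eq_zero_of_column_eq_zero (Fin.last r) (fun i => by simp [U']), zero_mul]

/-- A bordered minor computes the deviation from the rank `r` factorisation. -/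
lemma eq_factor {R : Type u} [CommRing R] {n m r : ℕ} (A : Matrix (Fin n) (Fin m) R)
    (e : Fin r → Fin n) (f : Fin r → Fin m) (hu : IsUnit (A.submatrix e f).det)
    (hA : ∀ (p : Fin (r + 1) → Fin n) (q : Fin (r + 1) → Fin m), (A.submatrix p q).det = 0) :
    A = A.submatrix id f * (A.submatrix e f)⁻¹ * A.submatrix e id := by
  ext a b
  letI := Matrix.invertibleOfIsUnitDet _ hu
  have h0 : (Matrix.fromBlocks (A.submatrix e f) (A.submatrix e fun _ : Fin 1 => b)
      (A.submatrix (fun _ : Fin 1 => a) f) (A.submatrix (fun _ : Fin 1 => a) fun _ : Fin 1 => b)).det = 0 := by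
    have := hA (Sum.elim e (fun _ => a) ∘ finSumFinEquiv.symm) (Sum.elim f (fun _ => b) ∘ finSumFinEquiv.symm)
    rw [← Matrix.submatrix_submatrix, Matrix.det_submatrix_equiv_self] at this
    rw [← this]
    congr 1
    ext i j
    rcases i with i | i <;> rcases j with j | j <;> simp
  rw [Matrix.det_fromBlocks₁₁, Matrix.det_fin_one, Matrix.invOf_eq_nonsing_inv] at h0
  have h1 := (hu.mul_right_eq_zero).1 h0
  rw [Matrix.sub_apply, sub_eq_zero] at h1
  exact h1

lemma det_add_eq_det {R : Type u} [CommRing R] {N : ℕ} (A E : Matrix (Fin (N + 1)) (Fin (N + 1)) R)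
    (J : Ideal R) (hE : ∀ i j, E i j ∈ J) (hJJ : ∀ x ∈ J, ∀ y ∈ J, x * y = 0)
    (hJ : ∀ x ∈ J, ∀ i j : Fin (N + 1), x * (A.submatrix i.succAbove j.succAbove).det = 0) :
    (A + E).det = A.det := by
  classical
  have key : ∀ s : Finset (Fin (N + 1)), (Matrix.of fun i j => A i j + if i ∈ s then E i j else 0).det = A.det := by
    intro s
    induction s using Finset.induction_on with
    | empty => congr 1; ext i j; simp
    | insert a s ha ih =>
      set M : Matrix (Fin (N + 1)) (Fin (N + 1)) R := Matrix.of fun i j => A i j + if i ∈ s then E i j else 0 with hM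
      have hupd : (Matrix.of fun i j => A i j + if i ∈ insert a s then E i j else 0) = M.updateRow a (M a + E a) := by
        ext i j
        by_cases h : i = a
        · subst h; simp [hM, ha]
        · simp [hM, h]
      rw [hupd, Matrix.det_updateRow_add, Matrix.updateRow_eq_self, ih]
      have : (M.updateRow a (E a)).det = 0 := by
        rw [Matrix.det_succ_row _ a]
        refine Finset.sum_eq_zero fun l _ => ?_
        rw [Matrix.updateRow_self, Matrix.submatrix_updateRow_succAbove, mul_assoc]
        have hcong : (M.submatrix a.succAbove l.succAbove).det - (A.submatrix a.succAbove l.succAbove).det ∈ J := by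
          rw [← Ideal.Quotient.eq, RingHom.map_det, RingHom.map_det]
          congr 1
          ext i j
          simp only [RingHom.mapMatrix_apply, Matrix.map_apply, Matrix.submatrix_apply, hM, Matrix.of_apply]
          rw [Ideal.Quotient.eq, add_sub_cancel_left]
          split_ifs
          · exact hE _ _
          · exact J.zero_mem
        have h3 := hJJ _ (hE a l) _ hcong
        rw [mul_sub, hJ _ (hE a l), sub_zero] at h3
        rw [h3, mul_zero]
      rw [this, add_zero]
  have := key Finset.univ
  simpa [Matrix.add_apply] using this ▸ (congrArg Matrix.det (show A + E =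
    Matrix.of fun i j => A i j + if i ∈ Finset.univ then E i j else 0 by ext i j; simp))

lemma minor_ne_zero (k : Type u) [Field k] (n m r : ℕ) (hn : r < n) (hm : r < m) :
    CAlgX.minorIdeal (gen k n m) (r + 1) ≠ ⊥ := by
  intro h
  let p : Fin (r + 1) → Fin n := Fin.castLE hn
  let q : Fin (r + 1) → Fin m := Fin.castLE hm
  have h0 : ((gen k n m).submatrix p q).det ∈ CAlgX.minorIdeal (gen k n m) (r + 1) :=
    Ideal.subset_span ⟨(p, q), rfl⟩
  rw [h] at h0
  have h1 := (Submodule.mem_bot _).1 h0
  have h2 := congrArg (MvPolynomial.aeval fun v : Fin n × Fin m => if (v.1 : ℕ) = v.2 then (1 : k) else 0) h1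
  rw [AlgHom.map_det, map_zero] at h2
  have h3 : (MvPolynomial.aeval fun v : Fin n × Fin m => if (v.1 : ℕ) = v.2 then (1 : k) else 0).mapMatrix
      ((gen k n m).submatrix p q) = 1 := by
    ext i j
    simp [p, q, gen, Matrix.one_apply, Fin.ext_iff]
  rw [h3, Matrix.det_one] at h2
  exact one_ne_zero h2

lemma isSmoothAt_of_minor (k : Type u) [Field k] (n m r : ℕ)
    (I : Ideal (MvPolynomial (Fin n × Fin m) k)) (hI : I = CAlgX.minorIdeal (gen k n m) (r + 1))
    (P : Ideal (MvPolynomial (Fin n × Fin m) k ⧸ I)) [P.IsPrime]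
    (e : Fin r → Fin n) (f : Fin r → Fin m) (δ : MvPolynomial (Fin n × Fin m) k)
    (hδdef : δ = ((gen k n m).submatrix e f).det)
    (hδ : Ideal.Quotient.mk I δ ∉ P) :
    Algebra.IsSmoothAt k P := by
  classical
  let L := Localization.Away δ
  let A : Matrix (Fin n) (Fin m) L := (gen k n m).map (algebraMap _ L)
  have hD : (A.submatrix e f).det = algebraMap _ L δ := by
    refine Eq.trans ?_ (congrArg (algebraMap _ L) hδdef).symm
    rw [RingHom.map_det]; rfl
  have hu : IsUnit (A.submatrix e f).det := hD ▸ IsLocalization.Away.algebraMap_isUnit δ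
  let A' : Matrix (Fin n) (Fin m) L := A.submatrix id f * (A.submatrix e f)⁻¹ * A.submatrix e id
  let φ : MvPolynomial (Fin n × Fin m) k →ₐ[k] L := MvPolynomial.aeval fun v => A' v.1 v.2
  have hφgen : ∀ {l : ℕ} (p : Fin l → Fin n) (q : Fin l → Fin m),
      φ ((gen k n m).submatrix p q).det = (A'.submatrix p q).det := fun p q => by
    rw [AlgHom.map_det]; congr 1; ext i j; simp [φ, gen]
  have hφI : ∀ a ∈ I, φ a = 0 := by
    intro a ha
    rw [hI] at ha
    refine Submodule.span_induction ?_ (map_zero φ) (fun x y _ _ hx hy => by rw [map_add, hx, hy, add_zero])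
      (fun c x _ hx => by rw [smul_eq_mul, map_mul, hx, mul_zero]) ha
    rintro _ ⟨⟨p, q⟩, rfl⟩
    rw [hφgen, show A'.submatrix p q = (A.submatrix p f * (A.submatrix e f)⁻¹) * A.submatrix e q from by
      ext i j; simp [A', Matrix.mul_apply]]
    exact det_mul_eq_zero _ _
  let φb : (MvPolynomial (Fin n × Fin m) k ⧸ I) →ₐ[k] L := Ideal.Quotient.liftₐ I φ hφI
  have hφδ : φb (Ideal.Quotient.mk I δ) = algebraMap _ L δ := by
    show φ δ = _
    refine (congrArg φ hδdef).trans ?_
    rw [hφgen, show A'.submatrix e f = A.submatrix e f * (A.submatrix e f)⁻¹ * A.submatrix e f from by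
      ext i j; simp [A', Matrix.mul_apply], Matrix.mul_nonsing_inv _ hu, Matrix.one_mul, hD]
  let B' := Localization.Away (Ideal.Quotient.mk I δ)
  let g : B' →ₐ[k] L := IsLocalization.liftAlgHom (M := Submonoid.powers (Ideal.Quotient.mk I δ)) (f := φb)
    (fun y => by
      obtain ⟨_, l, rfl⟩ := y
      show IsUnit (φb (_ ^ l))
      rw [map_pow, hφδ]
      exact (IsLocalization.Away.algebraMap_isUnit δ).pow l)
  let π : L →ₐ[k] B' := IsLocalization.liftAlgHom (M := Submonoid.powers δ)
    (f := (IsScalarTower.toAlgHom k _ B').comp (Ideal.Quotient.mkₐ k I))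
    (fun y => by
      obtain ⟨_, l, rfl⟩ := y
      show IsUnit (algebraMap _ B' (Ideal.Quotient.mk I (δ ^ l)))
      rw [map_pow, map_pow]
      exact (IsLocalization.Away.algebraMap_isUnit (Ideal.Quotient.mk I δ)).pow l)
  have hπ : ∀ a, π (algebraMap _ L a) = algebraMap _ B' (Ideal.Quotient.mk I a) := fun a =>
    IsLocalization.lift_eq _ a
  have hmem : ∀ (p : Fin (r + 1) → Fin n) (q : Fin (r + 1) → Fin m),
      Ideal.Quotient.mk I ((gen k n m).submatrix p q).det = 0 := fun p q => by
    rw [Ideal.Quotient.eq_zero_iff_mem]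
    exact (le_of_eq hI.symm) (Ideal.subset_span ⟨(p, q), rfl⟩)
  have hπA : A.map π = A'.map π := by
    have h1 := eq_factor (A.map π) e f (by rw [Matrix.submatrix_map, ← AlgHom.mapMatrix_apply, ← AlgHom.map_det]; exact hu.map π)
      (fun p q => by
        rw [Matrix.submatrix_map, ← AlgHom.mapMatrix_apply, ← AlgHom.map_det,
          show (A.submatrix p q).det = algebraMap _ L ((gen k n m).submatrix p q).det by
            rw [RingHom.map_det]; rfl, hπ,
          hmem p q, map_zero])
    rw [h1]
    show _ = (A.submatrix id f * (A.submatrix e f)⁻¹ * A.submatrix e id).map π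
    have hinv : ((A.submatrix e f)⁻¹).map π = ((A.map π).submatrix e f)⁻¹ := by
      refine (Matrix.inv_eq_right_inv ?_).symm
      rw [Matrix.submatrix_map, ← Matrix.map_mul, Matrix.mul_nonsing_inv _ hu, Matrix.map_one _ (map_zero π) (map_one π)]
    rw [Matrix.map_mul, Matrix.map_mul, hinv, ← Matrix.submatrix_map, ← Matrix.submatrix_map]
  have hcomp : π.comp g = AlgHom.id k B' := by
    refine IsLocalization.algHom_ext (Submonoid.powers (Ideal.Quotient.mk I δ)) (Ideal.Quotient.algHom_ext k ?_)
    refine MvPolynomial.algHom_ext fun v => ?_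
    show π (g (algebraMap _ B' (Ideal.Quotient.mk I (MvPolynomial.X v)))) = _
    rw [show g (algebraMap _ B' (Ideal.Quotient.mk I (MvPolynomial.X v))) = A' v.1 v.2 from
      (IsLocalization.lift_eq _ _).trans (MvPolynomial.aeval_X _ v)]
    have := congrFun (congrFun hπA v.1) v.2
    rw [Matrix.map_apply, Matrix.map_apply] at this
    rw [← this]
    exact hπ _
  haveI : Algebra.FormallySmooth (MvPolynomial (Fin n × Fin m) k) L :=
    Algebra.FormallySmooth.of_isLocalization (Submonoid.powers δ)
  haveI : Algebra.FormallySmooth k L := Algebra.FormallySmooth.comp k (MvPolynomial (Fin n × Fin m) k) L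
  haveI : Algebra.FormallySmooth k B' := by
    refine Algebra.FormallySmooth.of_split π ((Ideal.Quotient.mkₐ k _).comp g) ?_
    rw [← hcomp]
    ext x
    rfl
  haveI : Algebra.FormallySmooth k (Localization.AtPrime P) := by
    let η : B' →+* Localization.AtPrime P := IsLocalization.Away.lift (Ideal.Quotient.mk I δ)
      (g := algebraMap _ (Localization.AtPrime P))
      (IsLocalization.map_units _ (⟨_, hδ⟩ : P.primeCompl))
    letI := η.toAlgebra
    haveI : IsScalarTower (MvPolynomial (Fin n × Fin m) k ⧸ I) B' (Localization.AtPrime P) :=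
      IsScalarTower.of_algebraMap_eq (R := MvPolynomial (Fin n × Fin m) k ⧸ I) (S := B')
        (A := Localization.AtPrime P) fun x => (IsLocalization.Away.lift_eq _ _ x).symm
    haveI : IsScalarTower k B' (Localization.AtPrime P) := IsScalarTower.of_algebraMap_eq fun x => by
      rw [IsScalarTower.algebraMap_apply k (MvPolynomial (Fin n × Fin m) k ⧸ I) B',
        ← IsScalarTower.algebraMap_apply (MvPolynomial (Fin n × Fin m) k ⧸ I) B' (Localization.AtPrime P),
        ← IsScalarTower.algebraMap_apply]
    haveI : Algebra.FormallySmooth B' (Localization.AtPrime P) :=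
      haveI := IsLocalization.isLocalization_of_submonoid_le B' (Localization.AtPrime P)
        (Submonoid.powers (Ideal.Quotient.mk I δ)) P.primeCompl
        (Submonoid.powers_le.2 hδ)
      Algebra.FormallySmooth.of_isLocalization (P.primeCompl.map (algebraMap _ B'))
    exact Algebra.FormallySmooth.comp k B' (Localization.AtPrime P)
  exact this

lemma not_smooth (k : Type u) [Field k] (n m r : ℕ) (hn : r < n) (hm : r < m)
    (I : Ideal (MvPolynomial (Fin n × Fin m) k)) (hI : I = CAlgX.minorIdeal (gen k n m) (r + 1))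
    (P : Ideal (MvPolynomial (Fin n × Fin m) k ⧸ I)) [P.IsPrime]
    (hs : Algebra.IsSmoothAt k P)
    (hle : (CAlgX.minorIdeal (gen k n m) r).map (Ideal.Quotient.mk I) ≤ P) : False := by
  classical
  let P' : Ideal (MvPolynomial (Fin n × Fin m) k) := P.comap (Ideal.Quotient.mk I)
  haveI : P'.IsPrime := Ideal.comap_isPrime _ P
  let T := Localization.AtPrime P'
  let Q := Localization.AtPrime P
  let f : T →ₐ[k] Q := IsLocalization.liftAlgHom (M := P'.primeCompl)
    (f := (IsScalarTower.toAlgHom k _ Q).comp (Ideal.Quotient.mkₐ k I))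
    (fun y => IsLocalization.map_units Q (⟨Ideal.Quotient.mk I y.1, y.2⟩ : P.primeCompl))
  have hf_eq : ∀ a, f (algebraMap _ T a) = algebraMap _ Q (Ideal.Quotient.mk I a) := fun a =>
    IsLocalization.lift_eq _ a
  have hf : Function.Surjective f := by
    intro z
    obtain ⟨b, s, rfl⟩ := IsLocalization.exists_mk'_eq P.primeCompl z
    obtain ⟨b, rfl⟩ := Ideal.Quotient.mk_surjective b
    obtain ⟨s', hs'⟩ := Ideal.Quotient.mk_surjective s.1
    refine ⟨IsLocalization.mk' T b (⟨s', show s' ∉ P' by rw [Ideal.mem_comap, hs']; exact s.2⟩ : P'.primeCompl), ?_⟩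
    have hs'' : algebraMap _ Q s.1 = algebraMap _ Q (Ideal.Quotient.mk I s') := by rw [hs']
    rw [IsLocalization.eq_mk'_iff_mul_eq, hs'', ← hf_eq, ← map_mul, IsLocalization.mk'_spec, hf_eq]
  haveI : Algebra.FormallySmooth (MvPolynomial (Fin n × Fin m) k) T :=
    Algebra.FormallySmooth.of_isLocalization P'.primeCompl
  haveI : Algebra.FormallySmooth k T := Algebra.FormallySmooth.comp k (MvPolynomial (Fin n × Fin m) k) T
  haveI : Algebra.FormallySmooth k Q := hs
  obtain ⟨g, hg⟩ := (Algebra.FormallySmooth.iff_split_surjection (R := k) (P := T) (A := Q) f hf).1 hs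
  let K : Ideal T := RingHom.ker f.toRingHom
  have hK : K = RingHom.ker f.toRingHom := rfl
  have hKm : K ≤ IsLocalRing.maximalIdeal T := IsLocalRing.le_maximalIdeal (RingHom.ker_ne_top _)
  let N : Ideal T := IsLocalRing.maximalIdeal T * K
  have hKN : K ^ 2 ≤ N := by rw [pow_two]; exact Ideal.mul_mono_left hKm
  let q : T ⧸ K ^ 2 →+* T ⧸ N := Ideal.Quotient.factor hKN
  have hr1 : (gen k n m).map (algebraMap _ T) = (gen k n m).map (algebraMap _ T) := rfl
  have hdev : ∀ t : T, q (g (f t)) - Ideal.Quotient.mk N t ∈ K.map (Ideal.Quotient.mk N) := by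
    intro t
    obtain ⟨z, hz⟩ := Ideal.Quotient.mk_surjective (g (f t))
    have h1 : f z = f t := by
      have := AlgHom.congr_fun hg (f t)
      rw [AlgHom.comp_apply, ← hz] at this
      exact this
    rw [← hz, show q (Ideal.Quotient.mk (K ^ 2) z) = Ideal.Quotient.mk N z from Ideal.Quotient.factor_mk hKN z, ← map_sub]
    exact Ideal.mem_map_of_mem _ (by rw [hK, RingHom.mem_ker]; exact (map_sub f z t).trans (sub_eq_zero.2 h1))
  have hzero : ∀ a ∈ I, algebraMap _ T a ∈ K := fun a ha => by
    rw [hK, RingHom.mem_ker]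
    show f _ = 0
    rw [hf_eq, Ideal.Quotient.eq_zero_iff_mem.2 ha, map_zero]
  have hmin : ∀ (p : Fin (r + 1) → Fin n) (p' : Fin (r + 1) → Fin m),
      algebraMap _ T ((gen k n m).submatrix p p').det ∈ N := by
    intro p p'
    let ψ : @RingHom (MvPolynomial (Fin n × Fin m) k) (T ⧸ N) CommRing.toCommSemiring.toNonAssocSemiring
        CommRing.toCommSemiring.toNonAssocSemiring :=
      q.comp ((g : Q →+* T ⧸ K ^ 2).comp ((f : T →+* Q).comp (algebraMap _ T)))
    let ι : @RingHom (MvPolynomial (Fin n × Fin m) k) (T ⧸ N) CommRing.toCommSemiring.toNonAssocSemiring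
        CommRing.toCommSemiring.toNonAssocSemiring := (Ideal.Quotient.mk N).comp (algebraMap _ T)
    let M := (gen k n m).submatrix p p'
    have h0 : ψ M.det = 0 := by
      show q (g (f (algebraMap _ T M.det))) = 0
      rw [show f (algebraMap _ T M.det) = 0 from hzero _ (hI.symm ▸ (Ideal.subset_span ⟨(p, p'), rfl⟩ : M.det ∈ CAlgX.minorIdeal (gen k n m) (r + 1))), map_zero, map_zero]
    have h1 := det_add_eq_det (M.map ι) (M.map ψ - M.map ι) (K.map (Ideal.Quotient.mk N))
      (fun i j => hdev _) ?_ ?_
    · rw [add_sub_cancel, ← RingHom.mapMatrix_apply, ← RingHom.mapMatrix_apply, ← RingHom.map_det,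
        ← RingHom.map_det, h0] at h1
      exact Ideal.Quotient.eq_zero_iff_mem.1 h1.symm
    · intro x hx y hy
      obtain ⟨x, hx', rfl⟩ := (Ideal.mem_map_iff_of_surjective _ Ideal.Quotient.mk_surjective).1 hx
      obtain ⟨y, hy', rfl⟩ := (Ideal.mem_map_iff_of_surjective _ Ideal.Quotient.mk_surjective).1 hy
      rw [← map_mul, Ideal.Quotient.eq_zero_iff_mem]
      exact Ideal.mul_mem_mul (hKm hx') hy'
    · intro x hx i j
      obtain ⟨x, hx', rfl⟩ := (Ideal.mem_map_iff_of_surjective _ Ideal.Quotient.mk_surjective).1 hx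
      rw [show ((M.map ι).submatrix i.succAbove j.succAbove).det = ι (M.submatrix i.succAbove j.succAbove).det from
        (RingHom.map_det ι (M.submatrix i.succAbove j.succAbove)).symm]
      show Ideal.Quotient.mk N x * Ideal.Quotient.mk N _ = 0
      rw [← map_mul, Ideal.Quotient.eq_zero_iff_mem, mul_comm]
      refine Ideal.mul_mem_mul ?_ hx'
      refine (IsLocalization.AtPrime.to_map_mem_maximal_iff T P' _).2 (Ideal.mem_comap.2 (hle ?_))
      refine Ideal.mem_map_of_mem _ (Ideal.subset_span ⟨(p ∘ i.succAbove, p' ∘ j.succAbove), ?_⟩)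
      simp [M, Matrix.submatrix_submatrix]
  have hIN : I.map (algebraMap _ T) ≤ N := by
    rw [hI, CAlgX.minorIdeal, Ideal.map_span, Ideal.span_le]
    rintro _ ⟨_, ⟨⟨p, p'⟩, rfl⟩, rfl⟩
    exact hmin p p'
  have hKI : K ≤ I.map (algebraMap _ T) := by
    intro t ht
    obtain ⟨a, s, rfl⟩ := IsLocalization.exists_mk'_eq P'.primeCompl t
    have h1 : f (algebraMap _ T a) = 0 := by
      rw [← IsLocalization.mk'_spec T a s, map_mul, show f (IsLocalization.mk' T a s) = 0 from ht, zero_mul]
    rw [hf_eq, IsLocalization.map_eq_zero_iff P.primeCompl Q] at h1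
    obtain ⟨c, hc⟩ := h1
    obtain ⟨c', hc'⟩ := Ideal.Quotient.mk_surjective c.1
    rw [← hc', ← map_mul, Ideal.Quotient.eq_zero_iff_mem] at hc
    have hcu : c' ∉ P' := by rw [Ideal.mem_comap, hc']; exact c.2
    rw [IsLocalization.mk'_mem_iff, IsLocalization.algebraMap_mem_map_algebraMap_iff P'.primeCompl]
    exact ⟨c', hcu, hc⟩
  have hbot : K = ⊥ := Submodule.eq_bot_of_le_smul_of_le_jacobson_bot (IsLocalRing.maximalIdeal T) K
    (IsNoetherian.noetherian K) (by rw [smul_eq_mul]; exact hKI.trans hIN)
    (IsLocalRing.maximalIdeal_le_jacobson ⊥)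
  refine minor_ne_zero k n m r hn hm ((Submodule.eq_bot_iff _).2 fun a ha => ?_)
  have h2 : algebraMap _ T a = 0 := (Submodule.mem_bot T).1 (hbot ▸ hzero a (hI.symm ▸ ha))
  exact IsLocalization.injective T P'.primeCompl_le_nonZeroDivisors (by rw [h2, map_zero])

/-- Let k be a field and 0 < r < min(n, m), and let B be the coordinate ring of the affine determinantal
scheme of n × m matrices of rank at most r over k (polynomial ring on the entries of the generic
matrix modulo its (r+1) × (r+1) minors). A prime P of B is a smooth point over k (the localization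
B_P is formally smooth over k) exactly when it corresponds to a matrix of rank exactly r, i.e. when
P does not contain the image of the ideal generated by the r × r minors. -/
theorem result (k : Type u) [Field k] (n m r : ℕ) (hr0 : 0 < r)
    (hr : r < min n m)
    (P : PrimeSpectrum (MvPolynomial (Fin n × Fin m) k ⧸ CAlgX.minorIdeal (Matrix.of fun (i : Fin n) (j : Fin m) => (MvPolynomial.X (i, j) : MvPolynomial (Fin n × Fin m) k)) (r + 1))) :
    P ∈ Algebra.smoothLocus k (MvPolynomial (Fin n × Fin m) k ⧸ CAlgX.minorIdeal (Matrix.of fun (i : Fin n) (j : Fin m) => (MvPolynomial.X (i, j) : MvPolynomial (Fin n × Fin m) k)) (r + 1)) ↔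
      ¬ (CAlgX.minorIdeal (Matrix.of fun (i : Fin n) (j : Fin m) => (MvPolynomial.X (i, j) : MvPolynomial (Fin n × Fin m) k)) r).map
          (Ideal.Quotient.mk (CAlgX.minorIdeal (Matrix.of fun (i : Fin n) (j : Fin m) => (MvPolynomial.X (i, j) : MvPolynomial (Fin n × Fin m) k)) (r + 1))) ≤ P.asIdeal := by
  obtain ⟨hrn, hrm⟩ := lt_min_iff.1 hr
  constructor
  · exact fun h hle => not_smooth k n m r hrn hrm _ rfl P.asIdeal h hle
  · intro hle
    rw [Ideal.map_le_iff_le_comap, CAlgX.minorIdeal, Ideal.span_le, Set.range_subset_iff] at hle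
    push Not at hle
    obtain ⟨⟨e, f⟩, hef⟩ := hle
    exact isSmoothAt_of_minor k n m r _ rfl P.asIdeal e f _ rfl hef

end Groth.Agent.S10883
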