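import Groth.Statements.S10896
import Mathlib
import Groth.Agent.CubicLib.Tritangent

set_option autoImplicit false
universe u
open Cubic

namespace Groth.Agent.S10896

/-- Over an algebraically closed field of characteristic zero, a smooth cubic surface S = V_+(f) ⊂ P^3
which contains a line contains two disjoint lines (2-dimensional subspaces of k^4 on which f
vanishes and which intersect trivially). -/
theorem result (k : Type u) [Field k] [IsAlgClosed k] [CharZero k]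
    (f : MvPolynomial (Fin 4) k) (hf : f.IsHomogeneous 3) (hf0 : f ≠ 0)
    (hsm : ∀ v : Fin 4 → k, v ≠ 0 → MvPolynomial.eval v f = 0 →
      ∃ i : Fin 4, MvPolynomial.eval v (MvPolynomial.pderiv i f) ≠ 0)
    (hL : ∃ U : Submodule k (Fin 4 → k), (Module.finrank k ↥U = 2 ∧ ∀ u ∈ U, MvPolynomial.eval u f = 0)) :
    ∃ U₁ U₂ : Submodule k (Fin 4 → k), (Module.finrank k ↥U₁ = 2 ∧ ∀ u ∈ U₁, MvPolynomial.eval u f = 0) ∧ (Module.finrank k ↥U₂ = 2 ∧ ∀ u ∈ U₂, MvPolynomial.eval u f = 0) ∧ U₁ ⊓ U₂ = ⊥ := by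
  obtain ⟨G, hG, hsmG, -⟩ := Groth.Agent.CubicLib.exists_smooth_cubic f hf hsm
  simp only [hG] at hL ⊢
  obtain ⟨L, hL2, hLS⟩ := hL
  obtain ⟨D₀, rfl⟩ := Groth.Agent.CubicLib.LineData.exists_of_line G L hL2 hLS
  obtain ⟨D, hD, hdet⟩ := Groth.Agent.CubicLib.LineData.exists_reparam hsmG D₀
  rw [← hD] at hL2 hLS
  have h5 := D.ncard_planes hsmG hdet
  obtain ⟨H₁, hm₁, H₂, hm₂, hne⟩ := (Set.one_lt_ncard (Set.finite_of_ncard_ne_zero (by rw [h5]; omega))).1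
    (h5 ▸ (by omega : 1 < 5))
  obtain ⟨f₁, l₁, A, -, a, -, aL, -, -, aH, -, aF, -⟩ := hm₁
  obtain ⟨f₂, l₂, B, -, b, -, bL, -, -, bH, -, bF, -⟩ := hm₂
  refine ⟨A, B, ⟨a, aF⟩, ⟨b, bF⟩, ?_⟩
  by_contra hAB
  obtain ⟨v, hv, hv0⟩ := (Submodule.ne_bot_iff _).1 hAB
  have hinf : H₁ ⊓ H₂ = D.L := by
    refine (Submodule.eq_of_le_of_finrank_le (le_inf l₁ l₂) ?_).symm
    by_contra hgt
    rw [hL2] at hgt
    have h1 : H₁ ⊓ H₂ = H₁ := Submodule.eq_of_le_of_finrank_le inf_le_left (by omega)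
    exact hne (Submodule.eq_of_le_of_finrank_eq (inf_eq_left.1 h1) (by omega))
  have hvL : v ∈ D.L := hinf ▸ ⟨aH hv.1, bH hv.2⟩
  obtain ⟨H, hH, hle, -⟩ := Groth.Agent.CubicLib.lines_through hsmG hv0 (hLS v hvL)
  have hL' : D.L ≤ H := hle _ hvL ⟨hL2, hLS⟩
  have key : ∀ (H' U : Submodule k (Fin 4 → k)), Module.finrank k H' = 3 → D.L ≤ H' → U ≤ H' → U ≤ H →
      Module.finrank k U = 2 → U ≠ D.L → H' = H := by
    intro H' U h3 hl hU' hU h2 hUne
    have hlt : D.L < D.L ⊔ U := lt_of_le_of_ne le_sup_left fun he =>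
      hUne (Submodule.eq_of_le_of_finrank_eq (le_of_le_of_eq le_sup_right he.symm) (by omega))
    have := Submodule.finrank_lt_finrank_of_lt hlt
    rw [← Submodule.eq_of_le_of_finrank_le (sup_le hl hU') (by omega),
      ← Submodule.eq_of_le_of_finrank_le (sup_le hL' hU) (by omega)]
  exact hne ((key H₁ A f₁ l₁ aH (hle _ hv.1 ⟨a, aF⟩) a aL).trans
    (key H₂ B f₂ l₂ bH (hle _ hv.2 ⟨b, bF⟩) b bL).symm)

end Groth.Agent.S10896
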