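import Groth.Statements.S10900
import Groth.Agent.WDivX.AffineHom

set_option autoImplicit false
universe u
open CategoryTheory CategoryTheory.Limits AlgebraicGeometry TopologicalSpace
open WDiv

set_option backward.isDefEq.respectTransparency false

namespace Groth.Agent.S10900

/-- Let X be an integral Noetherian separated scheme which is regular in codimension 1 (the local ring
at every point of codimension 1, i.e. of coheight 1 in the specialization order, is a discrete
valuation ring), and let p : A^m_X → X be the affine m-space over X. Pulling back Weil divisors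
along p (a divisor D, viewed as an integer-valued function on the codimension-1 points of X with
finite support, goes to y ↦ D(p(y)) on the codimension-1 points of A^m_X) induces an injective map
on divisor class groups: if the pulled-back divisor is the divisor of a nonzero rational function on
A^m_X, then D is the divisor of a nonzero rational function on X. -/
theorem result (m : ℕ) (X : Scheme.{u}) [IsIntegral X]
    [IsNoetherian X] [X.IsSeparated] [IsLocallyNoetherian 𝔸(ULift.{u} (Fin m); X)]
    (hR1 : ∀ x : ↥X, Order.coheight x = 1 → IsDiscreteValuationRing ↑(X.presheaf.stalk x))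
    (D : ↥X → ℤ) (hD : ∀ x, Order.coheight x ≠ 1 → D x = 0) (hfin : {x | D x ≠ 0}.Finite)
    (g : ↑(𝔸(ULift.{u} (Fin m); X)).functionField) (hg : g ≠ 0)
    (h : ∀ y : ↥(𝔸(ULift.{u} (Fin m); X)), Order.coheight y = 1 →
      Scheme.ord g y = D ((𝔸(ULift.{u} (Fin m); X) ↘ X) y)) :
    ∃ f : ↑X.functionField, f ≠ 0 ∧ ∀ x : ↥X, Order.coheight x = 1 → Scheme.ord f x = D x := by
  let p := 𝔸(ULift.{u} (Fin m); X) ↘ X
  have hq := Groth.Agent.WDivX.isPolyOver_affineSpace (ULift.{u} (Fin m)) X
  have h0 : p (genericPoint ↥(𝔸(ULift.{u} (Fin m); X))) = genericPoint X := by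
    obtain ⟨z, hz⟩ := p.surjective (genericPoint X)
    have h1 : p (genericPoint ↥(𝔸(ULift.{u} (Fin m); X))) ⤳ genericPoint X :=
      hz ▸ ((genericPoint_spec ↥(𝔸(ULift.{u} (Fin m); X))).specializes (y := z) trivial).map p.continuous
    exact (h1.antisymm ((genericPoint_spec X).specializes trivial)).eq
  have hη : Order.coheight (genericPoint X) ≠ 1 := by
    rw [Order.coheight_eq_zero.mpr fun y _ => (genericPoint_spec X).specializes trivial]
    exact zero_ne_one
  obtain ⟨c, hc0, rfl⟩ := Groth.Agent.WDivX.exists_const_of_ord hq h0 hg fun x hx hx' => by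
    rw [h x hx, hx']
    exact hD _ hη
  refine ⟨c, hc0, fun x hx => ?_⟩
  obtain ⟨z, hz, rfl⟩ := Groth.Agent.WDivX.exists_over hq x hx
  haveI := hR1 _ hx
  rw [← h z hz, Groth.Agent.WDivX.ord_pullFF p h0 hz hx
    (Groth.Agent.WDivX.vertical hq z hz (fun e => hη (e ▸ hx))).2.2 hc0]

end Groth.Agent.S10900
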