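import Groth.Statements.S10901
import Groth.Agent.WDivX.PicAffine

set_option autoImplicit false
universe u
open CategoryTheory CategoryTheory.Limits AlgebraicGeometry TopologicalSpace
open WDiv

set_option backward.isDefEq.respectTransparency false

namespace Groth.Agent.S10901

/-- Let X be an integral Noetherian separated scheme which is regular in codimension 1 (the local ring
at every point of coheight 1 is a discrete valuation ring), and p : A^m_X → X the affine m-space
over X. Then pulling back along p is surjective on divisor classes: for every Weil divisor D' on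
A^m_X (an integer-valued function on its points with finite support inside the points of coheight 1)
there are a Weil divisor D on X and a nonzero rational function g on A^m_X such that D'(y) = D(p(y))
+ ord_y(g) at every point y of A^m_X of coheight 1. -/
theorem result (m : ℕ) (X : Scheme.{u}) [IsIntegral X]
    [IsNoetherian X] [X.IsSeparated] [IsLocallyNoetherian 𝔸(ULift.{u} (Fin m); X)]
    (hR1 : ∀ x : ↥X, Order.coheight x = 1 → IsDiscreteValuationRing ↑(X.presheaf.stalk x))
    (D' : ↥(𝔸(ULift.{u} (Fin m); X)) → ℤ) (hD' : ∀ y, Order.coheight y ≠ 1 → D' y = 0) (hfin : {y | D' y ≠ 0}.Finite) :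
    ∃ (D : ↥X → ℤ) (g : ↑(𝔸(ULift.{u} (Fin m); X)).functionField), (∀ x, Order.coheight x ≠ 1 → D x = 0) ∧
      {x | D x ≠ 0}.Finite ∧ g ≠ 0 ∧
        ∀ y : ↥(𝔸(ULift.{u} (Fin m); X)), Order.coheight y = 1 → D' y = D ((𝔸(ULift.{u} (Fin m); X) ↘ X) y) + Scheme.ord g y := by
  classical
  let p := 𝔸(ULift.{u} (Fin m); X) ↘ X
  have hq := Groth.Agent.WDivX.isPolyOver_affineSpace (ULift.{u} (Fin m)) X
  haveI : CompactSpace ↥(𝔸(ULift.{u} (Fin m); X)) := QuasiCompact.compactSpace_of_compactSpace p
  obtain ⟨g, hg0, hg⟩ := Groth.Agent.WDivX.exists_hor hq D' hfin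
  have hη : Order.coheight (genericPoint X) ≠ 1 := by
    rw [Order.coheight_eq_zero.mpr fun y _ => (genericPoint_spec X).specializes trivial]
    exact zero_ne_one
  have huniq : ∀ z x : ↥(𝔸(ULift.{u} (Fin m); X)), Order.coheight z = 1 → Order.coheight x = 1 →
      p z ≠ genericPoint X → p x = p z → x = z := by
    intro z x hz hx hne he
    exact (Groth.Agent.WDivX.eq_of_specializes_of_coheight
      ((Groth.Agent.WDivX.vertical hq z hz hne).2.1 x he) hz hx).symm
  refine ⟨fun y => if h : Order.coheight y = 1 then
      D' (Groth.Agent.WDivX.exists_over hq y h).choose -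
        Scheme.ord g (Groth.Agent.WDivX.exists_over hq y h).choose else 0, g, fun y hy => dif_neg hy, ?_, hg0, ?_⟩
  · refine ((hfin.union (Groth.Agent.WDivX.finite_ord hg0)).image p).subset fun y hy => ?_
    by_cases h : Order.coheight y = 1
    · refine ⟨(Groth.Agent.WDivX.exists_over hq y h).choose, ?_, (Groth.Agent.WDivX.exists_over hq y h).choose_spec.2⟩
      by_contra hc
      simp only [Set.mem_union, Set.mem_setOf_eq, not_or, not_not] at hc
      exact hy (by simp [dif_pos h, hc.1, hc.2])
    · exact absurd (dif_neg h) hy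
  · intro z hz
    by_cases hzη : p z = genericPoint X
    · dsimp only
      rw [dif_neg (hzη.symm ▸ hη), zero_add, hg z hz hzη]
    · have h1 := (Groth.Agent.WDivX.vertical hq z hz hzη).1
      dsimp only
      rw [dif_pos h1, huniq z _ hz (Groth.Agent.WDivX.exists_over hq _ h1).choose_spec.1 hzη
        (Groth.Agent.WDivX.exists_over hq _ h1).choose_spec.2]
      ring

end Groth.Agent.S10901
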