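import Groth.Statements.S10904
import Groth.Agent.HilbGr.Section

set_option autoImplicit false
universe u
open Polynomial
open ProjDeg

namespace Groth.Agent.S10904

/-- Let k be a field, R = k[X_0, …, X_n] graded by degree, I a homogeneous prime ideal of R, f a
homogeneous element of degree d ≥ 1 not in I, and I' = I + (f). Let P be the Hilbert polynomial of
R/I and Q that of R/I': rational polynomials whose value at every large integer m is the k-dimension
of the degree-m piece, i.e. dim R_m − dim (I ∩ R_m). Assume P has degree at least 1, i.e. the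
projective variety V(I) ⊆ P^n_k has dimension ≥ 1. Then Q has degree deg P − 1, and the degrees of
the projective schemes, (degree of the Hilbert polynomial)! times its leading coefficient, satisfy
deg V(I') = d · deg V(I). (The published statement has no dimension hypothesis; for V(I) a single
point the left side is 0 and the right side is d · deg V(I) ≠ 0, and the printed proof uses dim
V(I') = dim V(I) − 1.) -/
theorem result (k : Type u) [Field k] (n : ℕ)
    (I : Ideal (MvPolynomial (Fin (n + 1)) k)) (hIh : I.IsHomogeneous (CohB1.polyGrading n k)) [I.IsPrime]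
    (f : MvPolynomial (Fin (n + 1)) k) (d : ℕ) (hd : 0 < d) (hf : f.IsHomogeneous d) (hfI : f ∉ I)
    (P Q : ℚ[X])
    (hP : ∃ m₀ : ℕ, ∀ m : ℕ, m₀ ≤ m → P.eval (m : ℚ) =
      (Module.finrank k ↥(CohB1.polyGrading n k m) : ℚ) -
        Module.finrank k ↥(Submodule.restrictScalars k I ⊓ CohB1.polyGrading n k m))
    (hQ : ∃ m₀ : ℕ, ∀ m : ℕ, m₀ ≤ m → Q.eval (m : ℚ) =
      (Module.finrank k ↥(CohB1.polyGrading n k m) : ℚ) -
        Module.finrank k ↥(Submodule.restrictScalars k (I ⊔ Ideal.span {f}) ⊓ CohB1.polyGrading n k m))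
    (hdim : 1 ≤ P.natDegree) :
    Q.natDegree + 1 = P.natDegree ∧
      (Q.natDegree.factorial : ℚ) * Q.leadingCoeff =
        d * ((P.natDegree.factorial : ℚ) * P.leadingCoeff) := by
  obtain ⟨m₀, hm₀⟩ := hP
  obtain ⟨m₁, hm₁⟩ := hQ
  have hreg : ∀ g, g * f ∈ I → g ∈ I := fun g hg =>
    ((‹I.IsPrime›).mem_or_mem hg).resolve_right hfI
  have hQP : Q = P - P.comp (Polynomial.X - Polynomial.C (d : ℚ)) := by
    refine sub_eq_zero.mp (Polynomial.eq_zero_of_infinite_isRoot _ (Set.Infinite.mono
      (s := ((↑) : ℕ → ℚ) '' Set.Ici (max m₁ (m₀ + d))) ?_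
      ((Set.Ici_infinite _).image Nat.cast_injective.injOn)))
    rintro _ ⟨m, hm, rfl⟩
    have hm' : m₁ ≤ m ∧ m₀ + d ≤ m := max_le_iff.mp hm
    have h := congrArg (fun t : ℕ => (t : ℚ)) (HilbGr.hfun_sup_span I hIh hf hreg m (by omega))
    simp only [Nat.cast_add, HilbGr.hfun_cast] at h
    rw [← hm₁ m hm'.1, ← hm₀ m (by omega), ← hm₀ (m - d) (by omega), Nat.cast_sub (by omega)] at h
    show (Q - (P - P.comp (Polynomial.X - Polynomial.C (d : ℚ)))).eval (m : ℚ) = 0
    simp only [Polynomial.eval_sub, Polynomial.eval_comp, Polynomial.eval_X, Polynomial.eval_C]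
    linarith
  obtain ⟨e, he⟩ : ∃ e, P.natDegree = e + 1 := ⟨P.natDegree - 1, by omega⟩
  obtain ⟨h1, h2⟩ := HilbGr.shift_degree he (c := (d : ℚ)) (Nat.cast_ne_zero.mpr hd.ne')
  rw [← hQP] at h1 h2
  refine ⟨by omega, ?_⟩
  rw [h1, h2, he, Nat.factorial_succ]
  push_cast
  ring

end Groth.Agent.S10904
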