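import Groth.Statements.S10905
import Groth.Agent.HilbGr.Mult

set_option autoImplicit false
universe u
open Polynomial
open ProjDeg

namespace Groth.Agent.S10905

/-- Let k be a field, R = k[X_0, …, X_n] graded by degree, I a homogeneous prime ideal whose Hilbert
polynomial P (a rational polynomial with P(m) = dim_k R_m − dim_k (I ∩ R_m) for all large m) has
degree ≥ 1, so that Y = V(I) is a projective variety of dimension ≥ 1; let f ∉ I be homogeneous of
degree d ≥ 1, I' = I + (f), and p_1, …, p_r the minimal prime ideals over I' (listed without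
repetition), with Hilbert polynomials Q_i. Define the degree of V(J) as (degree of its Hilbert
polynomial)! times the leading coefficient, and the intersection multiplicity of I and (f) at p_i as
the length of (R/I')_{p_i} over R_{p_i}. Then d · deg Y = Σ_i deg V(p_i) · i(I, (f); p_i). (The
published statement has no dimension hypothesis; for Y a single point the only minimal prime over I'
is the irrelevant ideal, whose Hilbert polynomial is 0, so the right side vanishes while the left
side does not.) -/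
theorem result (k : Type u) [Field k] (n : ℕ)
    (I : Ideal (MvPolynomial (Fin (n + 1)) k)) (hIh : I.IsHomogeneous (CohB1.polyGrading n k)) [I.IsPrime]
    (f : MvPolynomial (Fin (n + 1)) k) (d : ℕ) (hd : 0 < d) (hf : f.IsHomogeneous d) (hfI : f ∉ I)
    (P : ℚ[X])
    (hP : ∃ m₀ : ℕ, ∀ m : ℕ, m₀ ≤ m → P.eval (m : ℚ) =
      (Module.finrank k ↥(CohB1.polyGrading n k m) : ℚ) -
        Module.finrank k ↥(Submodule.restrictScalars k I ⊓ CohB1.polyGrading n k m))
    (hdim : 1 ≤ P.natDegree)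
    (r : ℕ) (p : Fin r → Ideal (MvPolynomial (Fin (n + 1)) k)) [hp : ∀ i, (p i).IsPrime] (hpinj : Function.Injective p)
    (hpmin : ∀ q : Ideal (MvPolynomial (Fin (n + 1)) k), q ∈ (I ⊔ Ideal.span {f}).minimalPrimes ↔ ∃ i, q = p i)
    (Qp : Fin r → ℚ[X])
    (hQp : ∀ i, ∃ m₀ : ℕ, ∀ m : ℕ, m₀ ≤ m → (Qp i).eval (m : ℚ) =
      (Module.finrank k ↥(CohB1.polyGrading n k m) : ℚ) -
        Module.finrank k ↥(Submodule.restrictScalars k (p i) ⊓ CohB1.polyGrading n k m)) :
    (d : ℚ) * ((P.natDegree.factorial : ℚ) * P.leadingCoeff) =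
      ∑ i : Fin r, ((Qp i).natDegree.factorial : ℚ) * (Qp i).leadingCoeff *
        (Module.length (Localization.AtPrime (p i))
          (LocalizedModule (p i).primeCompl (MvPolynomial (Fin (n + 1)) k ⧸ (I ⊔ Ideal.span {f})))).toNat := by
  classical
  set J : Ideal (MvPolynomial (Fin (n + 1)) k) := I ⊔ Ideal.span {f}
  have hP' : HilbGr.IsHP I P := by
    obtain ⟨m₀, h⟩ := hP
    exact ⟨m₀, fun m hm => by rw [HilbGr.hfun_cast]; exact h m hm⟩
  have hQ' : ∀ i, HilbGr.IsHP (p i) (Qp i) := fun i => by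
    obtain ⟨m₀, h⟩ := hQp i
    exact ⟨m₀, fun m hm => by rw [HilbGr.hfun_cast]; exact h m hm⟩
  have hJh : J.IsHomogeneous (CohB1.polyGrading n k) := hIh.sup (Ideal.homogeneous_span _ _ (by
    rintro x (rfl : x = f)
    exact ⟨d, hf⟩))
  have hmin : ∀ i, p i ∈ J.minimalPrimes := fun i => (hpmin _).mpr ⟨i, rfl⟩
  have hph : ∀ i, (p i).IsHomogeneous (CohB1.polyGrading n k) := fun i =>
    VarDim.ProjN.minimalPrimes_isHomogeneous hJh (hmin i)
  obtain ⟨t, ht⟩ : ∃ t, P.natDegree = t + 1 := ⟨P.natDegree - 1, by omega⟩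
  have hP0 : P ≠ 0 := fun h => by rw [h] at hdim; simp at hdim
  have hdimI := HilbGr.dim_eq I hIh P hP0 hP'
  let PI : PrimeSpectrum (MvPolynomial (Fin (n + 1)) k) := ⟨I, inferInstance⟩
  -- every component of the section has dimension one less
  have hpdim : ∀ i, ringKrullDim (MvPolynomial (Fin (n + 1)) k ⧸ p i) = ((t + 1 : ℕ) : WithBot ℕ∞) := by
    intro i
    let Pi : PrimeSpectrum (MvPolynomial (Fin (n + 1)) k) := ⟨p i, hp i⟩
    have hle : I ≤ p i := le_sup_left.trans (hmin i).1.2
    have hfp : f ∈ p i := (hmin i).1.2 (Ideal.mem_sup_right (Ideal.subset_span rfl))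
    have hcov : PI ⋖ Pi := by
      refine ⟨lt_of_le_of_ne hle fun h => hfI ((congrArg PrimeSpectrum.asIdeal h).ge hfp), fun q hq1 hq2 => ?_⟩
      let π := Ideal.Quotient.mk I
      have hπ : Function.Surjective π := Ideal.Quotient.mk_surjective
      have hh := Ideal.map_height_le_one_of_mem_minimalPrimes (hmin i)
      haveI : q.asIdeal.IsPrime := q.2
      haveI h1 : (q.asIdeal.map π).IsPrime :=
        Ideal.map_isPrime_of_surjective hπ (by rw [Ideal.mk_ker]; exact hq1.le)
      haveI h2 : ((p i).map π).IsPrime :=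
        Ideal.map_isPrime_of_surjective hπ (by rw [Ideal.mk_ker]; exact hle)
      have cm : ∀ K : Ideal (MvPolynomial (Fin (n + 1)) k), I ≤ K → (K.map π).comap π = K := fun K hK => by
        rw [Ideal.comap_map_of_surjective π hπ, ← RingHom.ker_eq_comap_bot, Ideal.mk_ker, sup_eq_left.mpr hK]
      have hlt : q.asIdeal.map π < (p i).map π := lt_of_le_of_ne (Ideal.map_mono hq2.le) fun h =>
        hq2.ne (PrimeSpectrum.ext (by
          rw [← cm q.asIdeal hq1.le, h, cm (p i) hle]))
      have hbot : (⊥ : Ideal (MvPolynomial (Fin (n + 1)) k ⧸ I)) < q.asIdeal.map π := bot_lt_iff_ne_bot.mpr fun h =>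
        hq1.ne (PrimeSpectrum.ext (by
          have h' := cm q.asIdeal hq1.le
          rw [h, ← RingHom.ker_eq_comap_bot, Ideal.mk_ker] at h'
          exact h'))
      haveI : ((p i).map π).FiniteHeight := ⟨Or.inr (hh.trans_lt (ENat.natCast_lt_top 1)).ne⟩
      haveI : (q.asIdeal.map π).FiniteHeight := Ideal.finiteHeight_of_le hlt.le h2.ne_top
      have a1 := Ideal.height_strict_mono_of_isPrime_of_isPrime hbot
      have a2 := (Ideal.height_strict_mono_of_isPrime_of_isPrime hlt).trans_le hh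
      rw [Order.lt_one_iff] at a2
      rw [a2] at a1
      exact not_lt_bot a1
    have hc := VarDim.coheight_of_covBy k hcov
    have hI' : (Order.coheight PI : WithBot ℕ∞) = ((t + 1 + 1 : ℕ) : WithBot ℕ∞) := by
      rw [VarDim.coheight_eq_ringKrullDim_quotient]
      show ringKrullDim (MvPolynomial (Fin (n + 1)) k ⧸ I) = _
      rw [hdimI, ht]; norm_cast
    show ringKrullDim (MvPolynomial (Fin (n + 1)) k ⧸ Pi.asIdeal) = _
    rw [← VarDim.coheight_eq_ringKrullDim_quotient]
    obtain ⟨c, hc'⟩ := ENat.ne_top_iff_exists.1 (VarDim.coheight_ne_top k Pi)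
    rw [← hc'] at hc ⊢
    rw [hc] at hI'
    have h5 : c + 1 = t + 1 + 1 := by exact_mod_cast hI'
    rw [show c = t + 1 by omega]
    rfl
  have hQd : ∀ i, Qp i ≠ 0 ∧ (Qp i).natDegree = t := fun i => by
    have hne : Qp i ≠ 0 := fun h0 => by
      have := HilbGr.dim_le_zero (hph i) (h0 ▸ hQ' i)
      rw [hpdim i] at this
      have h3 : t + 1 ≤ 0 := by exact_mod_cast this
      omega
    refine ⟨hne, ?_⟩
    have h4 := HilbGr.dim_eq (p i) (hph i) (Qp i) hne (hQ' i)
    rw [hpdim i] at h4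
    have h5 : t + 1 = (Qp i).natDegree + 1 := by exact_mod_cast h4
    omega
  let T : Finset (PrimeSpectrum (MvPolynomial (Fin (n + 1)) k)) := Finset.univ.image fun i => ⟨p i, hp i⟩
  have hTd : ∀ q ∈ T, ringKrullDim (MvPolynomial (Fin (n + 1)) k ⧸ q.asIdeal) = ((t + 1 : ℕ) : WithBot ℕ∞) := by
    intro q hq
    simp only [T, Finset.mem_image, Finset.mem_univ, true_and] at hq
    obtain ⟨i, rfl⟩ := hq
    exact hpdim i
  have hdimJ : ringKrullDim (MvPolynomial (Fin (n + 1)) k ⧸ J) ≤ ((t + 1 : ℕ) : WithBot ℕ∞) := by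
    rw [ringKrullDim_quotient]
    refine iSup_le fun l => ?_
    obtain ⟨m, hm, hmq⟩ := Ideal.exists_minimalPrimes_le (J := (l.head).1.asIdeal) (l.head).2
    obtain ⟨i, rfl⟩ := (hpmin m).mp hm
    rw [← hpdim i, ringKrullDim_quotient]
    let l' : LTSeries (PrimeSpectrum.zeroLocus ((p i : Ideal (MvPolynomial (Fin (n + 1)) k)) : Set (MvPolynomial (Fin (n + 1)) k))) :=
      { length := l.length
        toFun := fun j => ⟨(l j).1, hmq.trans (l.head_le j)⟩
        step := fun j => l.step j }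
    exact Order.LTSeries.length_le_krullDim l'
  obtain ⟨-, hsum⟩ := HilbGr.assoc t T hTd J hJh hdimJ (by
    intro q hq hqd
    obtain ⟨m, hm, hmq⟩ := Ideal.exists_minimalPrimes_le hq
    obtain ⟨i, rfl⟩ := (hpmin m).mp hm
    simp only [T, Finset.mem_image, Finset.mem_univ, true_and]
    exact ⟨i, HilbGr.eq_of_dim_le hmq (hpdim i).le hqd⟩)
  have hreg : ∀ g, g * f ∈ I → g ∈ I := fun g hg => ((‹I.IsPrime›).mem_or_mem hg).resolve_right hfI
  have hJP : HilbGr.hpol J = P - P.comp (Polynomial.X - Polynomial.C (d : ℚ)) := by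
    obtain ⟨m₀, h⟩ := hP'
    refine (HilbGr.isHP_hpol J hJh).unique ⟨m₀ + d, fun m hm => ?_⟩
    have he : (HilbGr.hfun J m : ℚ) + HilbGr.hfun I (m - d) = HilbGr.hfun I m := by
      exact_mod_cast HilbGr.hfun_sup_span I hIh hf hreg m (by omega)
    simp only [Polynomial.eval_sub, Polynomial.eval_comp, Polynomial.eval_X, Polynomial.eval_C]
    rw [← Nat.cast_sub (by omega), h m (by omega), h (m - d) (by omega)]
    linarith
  obtain ⟨h1, h2⟩ := HilbGr.shift_degree ht (c := (d : ℚ)) (Nat.cast_ne_zero.mpr hd.ne')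
  rw [← hJP] at h1 h2
  rw [Polynomial.leadingCoeff, h1, hsum, Finset.sum_image (fun i _ j _ h => hpinj (congrArg PrimeSpectrum.asIdeal h))] at h2
  rw [ht, Nat.factorial_succ]
  push_cast
  rw [show (d : ℚ) * (((t : ℚ) + 1) * (t.factorial : ℚ) * P.leadingCoeff) =
    (t.factorial : ℚ) * ((d : ℚ) * ((t : ℚ) + 1) * P.leadingCoeff) by ring, ← h2, Finset.mul_sum]
  refine Finset.sum_congr rfl fun i _ => ?_
  rw [(HilbGr.isHP_hpol _ (hph i)).unique (hQ' i), (hQd i).2, Polynomial.leadingCoeff, (hQd i).2, HilbGr.mult]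
  ring

end Groth.Agent.S10905
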