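import Groth.Statements.S10906
import Groth.Agent.HilbGr.Mult

set_option autoImplicit false
universe u
open Polynomial
open ProjDeg

namespace Groth.Agent.S10906

/-- Let k be a field, R = k[X_0, …, X_n] graded by degree, I a homogeneous ideal with Hilbert polynomial
P (a rational polynomial with P(m) = dim_k R_m − dim_k (I ∩ R_m) for all large m), and p_1, …, p_r
the minimal prime ideals over I, listed without repetition, with Hilbert polynomials Q_i; put t =
deg P. Defining the degree of V(J) as (degree of its Hilbert polynomial)! times the leading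
coefficient and the multiplicity of the component V(p_i) in Y = V(I) as the length of (R/I)_{p_i}
over R_{p_i}, the degree of Y is the sum, over the components of top dimension (those i with deg Q_i
= t), of multiplicity times degree: deg Y = Σ_{deg Q_i = t} i(Y_i; Y) · deg V(p_i). -/
theorem result (k : Type u) [Field k] (n : ℕ)
    (I : Ideal (MvPolynomial (Fin (n + 1)) k)) (hIh : I.IsHomogeneous (CohB1.polyGrading n k))
    (P : ℚ[X])
    (hP : ∃ m₀ : ℕ, ∀ m : ℕ, m₀ ≤ m → P.eval (m : ℚ) =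
      (Module.finrank k ↥(CohB1.polyGrading n k m) : ℚ) -
        Module.finrank k ↥(Submodule.restrictScalars k I ⊓ CohB1.polyGrading n k m))
    (r : ℕ) (p : Fin r → Ideal (MvPolynomial (Fin (n + 1)) k)) [hp : ∀ i, (p i).IsPrime] (hpinj : Function.Injective p)
    (hpmin : ∀ q : Ideal (MvPolynomial (Fin (n + 1)) k), q ∈ I.minimalPrimes ↔ ∃ i, q = p i)
    (Qp : Fin r → ℚ[X])
    (hQp : ∀ i, ∃ m₀ : ℕ, ∀ m : ℕ, m₀ ≤ m → (Qp i).eval (m : ℚ) =
      (Module.finrank k ↥(CohB1.polyGrading n k m) : ℚ) -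
        Module.finrank k ↥(Submodule.restrictScalars k (p i) ⊓ CohB1.polyGrading n k m)) :
    (P.natDegree.factorial : ℚ) * P.leadingCoeff =
      ∑ i : Fin r, if (Qp i).natDegree = P.natDegree then
        ((Qp i).natDegree.factorial : ℚ) * (Qp i).leadingCoeff *
          (Module.length (Localization.AtPrime (p i))
            (LocalizedModule (p i).primeCompl (MvPolynomial (Fin (n + 1)) k ⧸ I))).toNat
      else 0 := by
  classical
  have hP' : HilbGr.IsHP I P := by
    obtain ⟨m₀, h⟩ := hP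
    exact ⟨m₀, fun m hm => by rw [HilbGr.hfun_cast]; exact h m hm⟩
  have hQ' : ∀ i, HilbGr.IsHP (p i) (Qp i) := fun i => by
    obtain ⟨m₀, h⟩ := hQp i
    exact ⟨m₀, fun m hm => by rw [HilbGr.hfun_cast]; exact h m hm⟩
  have hmin : ∀ i, p i ∈ I.minimalPrimes := fun i => (hpmin _).mpr ⟨i, rfl⟩
  have hph : ∀ i, (p i).IsHomogeneous (CohB1.polyGrading n k) := fun i =>
    VarDim.ProjN.minimalPrimes_isHomogeneous hIh (hmin i)
  rcases eq_or_ne P 0 with rfl | hP0
  · rw [Polynomial.leadingCoeff_zero, mul_zero]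
    refine (Finset.sum_eq_zero fun i _ => ?_).symm
    have h0 : Qp i = 0 := by
      by_contra h
      have h1 := HilbGr.dim_eq (p i) (hph i) (Qp i) h (hQ' i)
      have h2 := ((ringKrullDim_le_of_surjective (Ideal.Quotient.factor (hmin i).1.2)
        (Ideal.Quotient.factor_surjective _)).trans (HilbGr.dim_le_zero hIh hP'))
      rw [h1] at h2
      have h3 : (Qp i).natDegree + 1 ≤ 0 := by exact_mod_cast h2
      omega
    simp [h0]
  have hdim := HilbGr.dim_eq I hIh P hP0 hP'
  set t := P.natDegree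
  let T : Finset (PrimeSpectrum (MvPolynomial (Fin (n + 1)) k)) :=
    (Finset.univ.filter fun i => Qp i ≠ 0 ∧ (Qp i).natDegree = t).image fun i => ⟨p i, hp i⟩
  have hdimI : ringKrullDim (MvPolynomial (Fin (n + 1)) k ⧸ I) ≤ ((t + 1 : ℕ) : WithBot ℕ∞) := by
    rw [hdim]; norm_cast
  obtain ⟨-, hsum⟩ := HilbGr.assoc t T (by
    intro q hq
    simp only [T, Finset.mem_image, Finset.mem_filter, Finset.mem_univ, true_and] at hq
    obtain ⟨i, ⟨h1, h2⟩, rfl⟩ := hq
    show ringKrullDim (MvPolynomial (Fin (n + 1)) k ⧸ p i) = _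
    rw [HilbGr.dim_eq (p i) (hph i) (Qp i) h1 (hQ' i), h2]
    norm_cast) I hIh hdimI (by
    intro q hq hqd
    obtain ⟨m, hm, hmq⟩ := Ideal.exists_minimalPrimes_le hq
    obtain ⟨i, rfl⟩ := (hpmin m).mp hm
    have heq : (⟨p i, hp i⟩ : PrimeSpectrum (MvPolynomial (Fin (n + 1)) k)) = q :=
      HilbGr.eq_of_dim_le hmq ((ringKrullDim_le_of_surjective (Ideal.Quotient.factor hm.1.2)
        (Ideal.Quotient.factor_surjective _)).trans hdimI) hqd
    have hpd : ringKrullDim (MvPolynomial (Fin (n + 1)) k ⧸ p i) = ((t + 1 : ℕ) : WithBot ℕ∞) := by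
      rw [← heq] at hqd; exact hqd
    have hne : Qp i ≠ 0 := fun h0 => by
      have := HilbGr.dim_le_zero (hph i) (h0 ▸ hQ' i)
      rw [hpd] at this
      have h3 : t + 1 ≤ 0 := by exact_mod_cast this
      omega
    simp only [T, Finset.mem_image, Finset.mem_filter, Finset.mem_univ, true_and]
    refine ⟨i, ⟨hne, ?_⟩, heq⟩
    have h4 := HilbGr.dim_eq (p i) (hph i) (Qp i) hne (hQ' i)
    rw [hpd] at h4
    have h5 : t + 1 = (Qp i).natDegree + 1 := by exact_mod_cast h4
    omega)
  rw [(HilbGr.isHP_hpol I hIh).unique hP'] at hsum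
  rw [Polynomial.leadingCoeff, hsum, Finset.mul_sum, Finset.sum_image (fun i _ j _ h => hpinj (congrArg PrimeSpectrum.asIdeal h)),
    Finset.sum_filter]
  refine Finset.sum_congr rfl fun i _ => ?_
  rw [(HilbGr.isHP_hpol _ (hph i)).unique (hQ' i)]
  by_cases h : (Qp i).natDegree = t
  · rw [if_pos h]
    by_cases h0 : Qp i = 0
    · simp [h0]
    · rw [if_pos ⟨h0, h⟩, Polynomial.leadingCoeff, h, HilbGr.mult]
      ring
  · rw [if_neg h, if_neg (fun hh => h hh.2)]

end Groth.Agent.S10906
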