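import Groth.Statements.S10908
import Mathlib.RingTheory.IntegralClosure.IntegrallyClosed

set_option autoImplicit false
universe u
open ProjDeg

namespace Groth.Agent.S10908

/-- Let S be a Noetherian graded integral domain, graded by the natural numbers as an algebra over a
ring R, generated by its degree-one part over S_0 (S_1 S_i = S_{i+1}) with S_1 ≠ 0, and integrally
closed in its field of fractions (so that X = Proj S is projectively normal). Then for every d ≥ 0
the canonical map from S_d to the global sections of the twisting sheaf O_X(d), sending a to the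
section a/1, is bijective. (The underlying lemma: every global section of O_X(d) is an element of
the homogeneous fraction ring integral over S.) (The published corollary takes the degree-zero part
to be a finitely generated algebra over a field; this row assumes only that the ring is Noetherian,
which is all the argument uses.) -/
theorem result {R A : Type u} [CommRing R] [CommRing A] [IsDomain A]
    [IsNoetherianRing A] [Algebra R A] (𝒜 : ℕ → Submodule R A) [GradedAlgebra 𝒜]
    (hgen : ∀ i : ℕ, 𝒜 1 * 𝒜 i = 𝒜 (i + 1)) (h1 : 𝒜 1 ≠ ⊥) (hint : IsIntegrallyClosed A) (d : ℕ) :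
    Function.Bijective (fun a : ↥(𝒜 d) => Twist.globalOf 𝒜 a) := by
  classical
  have hdeg : ∀ {j k : ℕ} {t g : A}, t ∈ 𝒜 j → t ≠ 0 → t * g ∈ 𝒜 (j + k) → g ∈ 𝒜 k := by
    intro j k t g ht ht0 h
    have key : ∀ i, i ≠ k → (DirectSum.decompose 𝒜 g i : A) = 0 := by
      intro i hi
      have e1 : (DirectSum.decompose 𝒜 (t * g) (j + i) : A) = t * DirectSum.decompose 𝒜 g i :=
        DirectSum.coe_decompose_mul_add_of_left_mem 𝒜 ht
      rw [DirectSum.decompose_of_mem_ne 𝒜 h (by omega)] at e1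
      exact (mul_eq_zero.mp e1.symm).resolve_left ht0
    rw [← DirectSum.sum_support_decompose 𝒜 g]
    refine sum_mem fun i _ => ?_
    by_cases hi : i = k
    · exact hi ▸ (DirectSum.decompose 𝒜 g i).2
    · rw [key i hi]; exact zero_mem _
  have hne : ∀ N, 𝒜 N ≠ ⊥ := by
    intro N
    induction N with
    | zero =>
      intro h0
      have : (1 : A) ∈ 𝒜 0 := SetLike.GradedOne.one_mem
      rw [h0] at this
      exact one_ne_zero ((Submodule.mem_bot R).mp this)
    | succ N ih =>
      rw [← hgen N]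
      obtain ⟨a, ha, ha0⟩ := (Submodule.ne_bot_iff _).mp h1
      obtain ⟨b, hb, hb0⟩ := (Submodule.ne_bot_iff _).mp ih
      exact (Submodule.ne_bot_iff _).mpr ⟨a * b, Submodule.mul_mem_mul ha hb, mul_ne_zero ha0 hb0⟩
  -- the generic point
  let η : ProjectiveSpectrum 𝒜 := ⟨⊥, by
      rw [HomogeneousIdeal.toIdeal_bot]; exact Ideal.isPrime_bot,
    fun hle => h1 ((Submodule.eq_bot_iff _).mpr fun a ha => by
      have := hle (HomogeneousIdeal.mem_irrelevant_of_mem 𝒜 one_pos ha)
      exact this)⟩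
  have hη : ∀ (U : TopologicalSpace.Opens (ProjectiveSpectrum.top 𝒜)) (y : ProjectiveSpectrum.top 𝒜),
      y ∈ U → η ∈ U := by
    intro U y hy
    have hcl := (ProjectiveSpectrum.le_iff_mem_closure 𝒜 η y).mp (by
      show (⊥ : HomogeneousIdeal 𝒜) ≤ _
      exact bot_le)
    obtain ⟨z, hz, hz'⟩ := mem_closure_iff.mp hcl U.carrier U.2 hy
    rwa [Set.mem_singleton_iff.mp hz'] at hz
  refine ⟨fun a b hab => ?_, fun s => ?_⟩
  · have e := congrArg Subtype.val (congrFun (congrArg Subtype.val hab) ⟨η, trivial⟩)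
    obtain ⟨c, hc⟩ := Localization.r_iff_exists.mp (Localization.mk_eq_mk_iff.mp e)
    refine Subtype.ext (mul_left_cancel₀ (fun h0 => c.2 ?_) (by simpa using hc))
    show c.1 ∈ (⊥ : HomogeneousIdeal 𝒜).toIdeal
    rw [h0]; exact zero_mem _
  obtain ⟨V₀, hV₀, i₀, di₀, j₀, ⟨a₀, ha₀⟩, ⟨t₀, ht₀m⟩, hnin₀, hcond₀, hw₀⟩ := s.2 ⟨η, trivial⟩
  have ht₀ : t₀ ≠ 0 := fun h => hnin₀ ⟨η, hV₀⟩ (by
    show t₀ ∈ (⊥ : HomogeneousIdeal 𝒜).toIdeal
    rw [h]; exact zero_mem _)
  have hcond₀' : (di₀ : ℤ) = j₀ + d ∨ a₀ = 0 := hcond₀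
  have ha₀' : a₀ ∈ 𝒜 (j₀ + d) := by
    rcases hcond₀' with h | h
    · rwa [show j₀ + d = di₀ by omega]
    · rw [h]; exact zero_mem _
  -- all local fractions agree with `a₀ / t₀`
  have hfrac : ∀ y : (⊤ : TopologicalSpace.Opens (ProjectiveSpectrum.top 𝒜)),
      ∃ (a t : A) (ht : t ∉ y.1.asHomogeneousIdeal), (∃ j, t ∈ 𝒜 j) ∧ a * t₀ = t * a₀ ∧
        (s.1 y).1 = Localization.mk a ⟨t, ht⟩ := by
    intro y
    obtain ⟨V, hV, iV, di, j, ⟨a, ha⟩, ⟨t, htm⟩, hnin, -, hw⟩ := s.2 y
    refine ⟨a, t, hnin ⟨y.1, hV⟩, ⟨j, htm⟩, ?_, hw ⟨y.1, hV⟩⟩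
    have e1 := hw ⟨η, hη V y.1 hV⟩
    have e2 := hw₀ ⟨η, hV₀⟩
    obtain ⟨c, hc⟩ := Localization.r_iff_exists.mp (Localization.mk_eq_mk_iff.mp (e1.symm.trans e2))
    refine mul_left_cancel₀ (fun h0 => c.2 ?_) ((by simpa [mul_comm a₀] using hc : c.1 * (t₀ * a) = c.1 * (t * a₀)) |> fun h => by
      rw [mul_comm a t₀]; exact h)
    show c.1 ∈ (⊥ : HomogeneousIdeal 𝒜).toIdeal
    rw [h0]; exact zero_mem _
  let D : HomogeneousIdeal 𝒜 := ⟨Ideal.span {t | (∃ j, t ∈ 𝒜 j) ∧ t₀ ∣ t * a₀},
    Ideal.homogeneous_span _ _ fun t ht => ht.1⟩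
  have hD : ∀ f ∈ D.toIdeal, t₀ ∣ f * a₀ := by
    intro f hf
    change f ∈ Ideal.span _ at hf
    induction hf using Submodule.span_induction with
    | mem x hx => exact hx.2
    | zero => simp
    | add x y _ _ hx hy => rw [add_mul]; exact dvd_add hx hy
    | smul c x _ hx => rw [smul_eq_mul, mul_assoc]; exact Dvd.dvd.mul_left hx c
  have hrad : (HomogeneousIdeal.irrelevant 𝒜).toIdeal ≤ D.toIdeal.radical := by
    rw [Ideal.radical_eq_sInf]
    refine le_sInf fun P ⟨hDP, hP⟩ => ?_
    by_contra hirr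
    let y : ProjectiveSpectrum 𝒜 := ⟨P.homogeneousCore 𝒜, hP.homogeneousCore,
      fun hle => hirr (le_trans hle (Ideal.toIdeal_homogeneousCore_le 𝒜 P))⟩
    obtain ⟨a, t, ht, ⟨j, htj⟩, he, -⟩ := hfrac ⟨y, trivial⟩
    refine ht ?_
    show t ∈ (P.homogeneousCore 𝒜).toIdeal
    exact Ideal.mem_homogeneousCore_of_homogeneous_of_mem ⟨j, htj⟩
      (hDP (Ideal.subset_span ⟨⟨j, htj⟩, a, by rw [← he, mul_comm]⟩))
  obtain ⟨N, hN⟩ := Ideal.exists_pow_le_of_le_radical_of_fg hrad
    (IsNoetherian.noetherian _)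
  have hNmem : ∀ M, ∀ f ∈ 𝒜 M, f ∈ (HomogeneousIdeal.irrelevant 𝒜).toIdeal ^ M := by
    intro M
    induction M with
    | zero => simp
    | succ M ih =>
      intro f hf
      rw [← hgen M] at hf
      refine Submodule.mul_induction_on hf (fun a ha b hb => ?_) fun a b ha hb => add_mem ha hb
      rw [pow_succ']
      exact Ideal.mul_mem_mul (HomogeneousIdeal.mem_irrelevant_of_mem 𝒜 one_pos ha) (ih b hb)
  -- the rational function is integral
  let K := FractionRing A
  let x : K := algebraMap A K a₀ / algebraMap A K t₀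
  let J : Submodule A K := Submodule.span A (algebraMap A K '' (𝒜 N : Set A))
  have hshift : ∀ e, ∀ g ∈ 𝒜 (N + e), algebraMap A K g ∈ J := by
    intro e
    induction e with
    | zero => exact fun g hg => Submodule.subset_span ⟨g, hg, rfl⟩
    | succ e ih =>
      intro g hg
      rw [← add_assoc, ← hgen (N + e)] at hg
      refine Submodule.mul_induction_on hg (fun a _ b hb => ?_) fun a b ha hb => by
        rw [map_add]; exact add_mem ha hb
      rw [map_mul, ← Algebra.smul_def]
      exact J.smul_mem a (ih b hb)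
  have hint' : IsIntegral A x := by
    refine isIntegral_of_smul_mem_submodule J ?_ ?_ x ?_
    · obtain ⟨f, hf, hf0⟩ := (Submodule.ne_bot_iff _).mp (hne N)
      exact (Submodule.ne_bot_iff J).mpr ⟨algebraMap A K f, Submodule.subset_span ⟨f, hf, rfl⟩,
        fun h => hf0 (IsFractionRing.injective A K (by rw [h, map_zero]))⟩
    · obtain ⟨S, hS⟩ := (IsNoetherian.noetherian (Ideal.span (𝒜 N : Set A)))
      refine ⟨S.image (algebraMap A K), ?_⟩
      rw [Finset.coe_image]
      show Submodule.span A ((Algebra.linearMap A K) '' _) = Submodule.span A ((Algebra.linearMap A K) '' _)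
      rw [← Submodule.map_span, ← Submodule.map_span, hS]
    · intro m hm
      induction hm using Submodule.span_induction with
      | mem m hm =>
        obtain ⟨f, hf, rfl⟩ := hm
        obtain ⟨g, hg⟩ := hD f (hN (hNmem N f hf))
        have : algebraMap A K g ∈ J := hshift d g (hdeg ht₀m ht₀ (by
          rw [← hg, show j₀ + (N + d) = N + (j₀ + d) by ring]
          exact SetLike.mul_mem_graded hf ha₀'))
        convert this using 1
        have ht₀K : algebraMap A K t₀ ≠ 0 := fun h => ht₀ (IsFractionRing.injective A K (by rw [h, map_zero]))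
        rw [smul_eq_mul, div_mul_eq_mul_div, div_eq_iff ht₀K, ← map_mul, ← map_mul, mul_comm a₀, hg, mul_comm]
      | zero => rw [smul_zero]; exact zero_mem _
      | add p q _ _ hp hq => rw [smul_add]; exact add_mem hp hq
      | smul c p _ hp => rw [smul_comm]; exact J.smul_mem c hp
  obtain ⟨r, hr⟩ := IsIntegrallyClosed.isIntegral_iff.mp hint'
  have hr' : t₀ * r = a₀ := by
    refine IsFractionRing.injective A K ?_
    rw [map_mul, hr, mul_div_cancel₀]
    exact fun h => ht₀ (IsFractionRing.injective A K (by rw [h, map_zero]))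
  have hrd : r ∈ 𝒜 d := hdeg ht₀m ht₀ (hr'.symm ▸ ha₀')
  refine ⟨⟨r, hrd⟩, Subtype.ext (funext fun y => Subtype.ext ?_)⟩
  obtain ⟨a, t, ht, -, he, hw⟩ := hfrac y
  rw [hw]
  show Localization.mk r _ = _
  rw [Localization.mk_eq_mk_iff, Localization.r_iff_exists]
  refine ⟨1, ?_⟩
  simp only [OneMemClass.coe_one, one_mul]
  refine (mul_right_cancel₀ ht₀ ?_)
  rw [he, ← hr']
  ring

end Groth.Agent.S10908
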