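import Groth.Statements.S10913
import Groth.Agent.S10823
import Groth.Agent.S9576
import Groth.Agent.H23.PnChart
import Groth.Agent.PnCoh.Chow.Proper

set_option autoImplicit false
universe u
open CategoryTheory CategoryTheory.Limits AlgebraicGeometry TopologicalSpace
open ProjDeg

namespace Groth.Agent.S10913

open HomogeneousLocalization (Away)
open Groth.Agent.VarDim.ProjN MvPolynomial Groth.Agent.ZetaLib

/-- A point off `basicOpen g` all of whose proper generalisations lie in it has codimension at most one. -/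
theorem no_chain {X : Scheme.{u}} {U : X.Opens} (hU : IsAffineOpen U) [IsNoetherianRing Γ(X, U)]
    (g : Γ(X, U)) {o y z : X} (hzU : z ∈ U) (hz : z ∉ X.basicOpen g)
    (hmin : ∀ w : X, w ⤳ z → w ≠ z → w ∈ X.basicOpen g) (hoy : o ⤳ y) (hyz : y ⤳ z) :
    o = y ∨ y = z := by
  have hyU : y ∈ U := hyz.mem_open U.2 hzU
  have hoU : o ∈ U := hoy.mem_open U.2 hyU
  have hind : Topology.IsOpenEmbedding hU.fromSpec := hU.fromSpec.isOpenEmbedding
  obtain ⟨a, ha⟩ : ∃ p : PrimeSpectrum Γ(X, U), hU.fromSpec p = o :=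
    (show o ∈ Set.range hU.fromSpec by rwa [hU.range_fromSpec])
  obtain ⟨b, hb⟩ : ∃ p : PrimeSpectrum Γ(X, U), hU.fromSpec p = y :=
    (show y ∈ Set.range hU.fromSpec by rwa [hU.range_fromSpec])
  obtain ⟨c, hc⟩ : ∃ p : PrimeSpectrum Γ(X, U), hU.fromSpec p = z :=
    (show z ∈ Set.range hU.fromSpec by rwa [hU.range_fromSpec])
  have hle : ∀ {p q : PrimeSpectrum Γ(X, U)}, p ≤ q ↔ hU.fromSpec p ⤳ hU.fromSpec q := fun {p q} => by
    exact (PrimeSpectrum.le_iff_specializes p q).trans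
      (hind.isEmbedding.toIsInducing.specializes_iff).symm
  have hmem : ∀ p : PrimeSpectrum Γ(X, U), hU.fromSpec p ∈ X.basicOpen g ↔ g ∉ p.asIdeal := fun p => by
    show p ∈ hU.fromSpec ⁻¹ᵁ X.basicOpen g ↔ _
    rw [hU.fromSpec_preimage_basicOpen]
    rfl
  have hgc : g ∈ c.asIdeal := by
    by_contra h
    exact hz (hc ▸ (hmem c).2 h)
  have hmc : c.asIdeal ∈ (Ideal.span {g}).minimalPrimes := by
    refine ⟨⟨c.2, (Ideal.span_singleton_le_iff_mem _).2 hgc⟩, fun q hq hqc => ?_⟩
    let q' : PrimeSpectrum Γ(X, U) := ⟨q, hq.1⟩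
    by_cases h : hU.fromSpec q' = z
    · rw [← hc] at h
      exact le_of_eq (congrArg PrimeSpectrum.asIdeal (hind.injective h)).symm
    · exact absurd (hq.2 (Ideal.subset_span rfl))
        ((hmem q').1 (hmin _ (hc ▸ hle.1 (show q' ≤ c from hqc)) h))
  have h1 := Ideal.height_le_one_of_isPrincipal_of_mem_minimalPrimes _ _ hmc
  rw [c.height_eq_orderHeight] at h1
  by_contra hcon
  push Not at hcon
  have hab : a < b := lt_of_le_of_ne ((hle (p := a) (q := b)).2 (by rw [ha, hb]; exact hoy)) fun h =>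
    hcon.1 (by rw [← ha, ← hb, h])
  have hbc : b < c := lt_of_le_of_ne ((hle (p := b) (q := c)).2 (by rw [hb, hc]; exact hyz)) fun h =>
    hcon.2 (by rw [← hb, ← hc, h])
  have h2 := (add_le_add_left le_add_self 1).trans
    ((add_le_add_left (Order.height_add_one_le hab) 1).trans
      ((Order.height_add_one_le hbc).trans (show Order.height c ≤ 1 from h1)))
  exact absurd h2 (by decide)

variable {k : Type u} [Field k] {n : ℕ}

local notation "𝒜" => CohB1.polyGrading n k

/-- A nonempty proper closed set of `P^n` which is locally cut out by one function contains a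
hypersurface. -/
theorem exists_hypersurface (V : (CohB1.ProjSpace n k).Opens) (hV0 : (V : Set (CohB1.ProjSpace n k)).Nonempty)
    (hV1 : (V : Set (CohB1.ProjSpace n k)) ≠ Set.univ)
    (hloc : ∀ x ∉ V, ∃ (U : (CohB1.ProjSpace n k).Opens) (g : Γ(CohB1.ProjSpace n k, U)),
      IsAffineOpen U ∧ x ∈ U ∧ (CohB1.ProjSpace n k).basicOpen g = U ⊓ V) :
    ∃ (d : ℕ) (F : MvPolynomial (Fin (n + 1)) k), F.IsHomogeneous d ∧ 0 < d ∧ F ≠ 0 ∧
      ∀ x : ProjectiveSpectrum 𝒜, x ∈ ProjectiveSpectrum.zeroLocus 𝒜 {F} →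
        (show CohB1.ProjSpace n k from x) ∉ V := by
  classical
  haveI : IsProper (CohB1.ProjSpace.toSpec n k) := Groth.Agent.PnCoh.Chow.isProper_toSpec n k
  haveI : IsLocallyNoetherian (CohB1.ProjSpace n k) :=
    LocallyOfFiniteType.isLocallyNoetherian (CohB1.ProjSpace.toSpec n k)
  have hsp : ∀ x y : ProjectiveSpectrum 𝒜,
      x ≤ y ↔ (show CohB1.ProjSpace n k from x) ⤳ (show CohB1.ProjSpace n k from y) := fun x y =>
    (ProjectiveSpectrum.le_iff_mem_closure _ x y).trans specializes_iff_mem_closure.symm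
  obtain ⟨x₀, hx₀⟩ := (Set.ne_univ_iff_exists_notMem _).1 hV1
  have hex : ∃ r, ∃ x : ProjectiveSpectrum 𝒜, (show CohB1.ProjSpace n k from x) ∉ V ∧ n - pdim x = r :=
    ⟨_, x₀, hx₀, rfl⟩
  obtain ⟨z, hzV, hzr⟩ := Nat.find_spec hex
  have hzmin : ∀ w : ProjectiveSpectrum 𝒜, w < z → (show CohB1.ProjSpace n k from w) ∈ V := by
    intro w hw
    by_contra hwV
    have h1 := pdim_strictAnti hw
    have h2 : pdim w ≤ n := pdim_le w
    exact Nat.find_min hex (m := n - pdim w) (by rw [← hzr]; omega) ⟨w, hwV, rfl⟩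
  obtain ⟨U, g, hU, hzU, hg⟩ := hloc z hzV
  haveI := IsLocallyNoetherian.component_noetherian ⟨U, hU⟩
  obtain ⟨o, ho⟩ := exists_bot_point (k := k) (n := n)
  have hoV : (show CohB1.ProjSpace n k from o) ∈ V := by
    obtain ⟨x, hx⟩ := hV0
    exact ((hsp o x).1 (pp_le_pp.1 (by rw [ho]; exact bot_le))).mem_open V.2 hx
  have hne : (pp z).asIdeal ≠ ⊥ := fun h => by
    have : z = o := pp_injective (PrimeSpectrum.ext (h.trans ho.symm))
    exact hzV (this ▸ hoV)
  obtain ⟨a, haz, ha0⟩ := Submodule.exists_mem_ne_zero_of_ne_bot hne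
  obtain ⟨f, hfz, hf0, d, hf⟩ : ∃ f ∈ (pp z).asIdeal, f ≠ 0 ∧ ∃ d, f.IsHomogeneous d := by
    by_contra! hall
    refine ha0 ?_
    rw [← sum_homogeneousComponent a]
    refine Finset.sum_eq_zero fun i _ => ?_
    by_contra hi
    refine hall _ ?_ hi i (homogeneousComponent_isHomogeneous i a)
    have := isHomogeneous_pp z i haz
    rwa [proj_apply] at this
  obtain ⟨p, hpz, hp, hpf⟩ : ∃ p ∈ (pp z).asIdeal, Prime p ∧ p ∣ f := by
    obtain ⟨s, hs, u, hu⟩ := UniqueFactorizationMonoid.exists_prime_factors f hf0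
    have hmem : s.prod ∈ (pp z).asIdeal := by
      rw [← hu] at hfz
      exact ((Ideal.unit_mul_mem_iff_mem _ u.isUnit).1 (by rwa [mul_comm]))
    obtain ⟨p, hps, hpz⟩ := ((pp z).2.multiset_prod_mem_iff_exists_mem s).1 hmem
    exact ⟨p, hpz, hs p hps, (Multiset.dvd_prod hps).trans ⟨u, hu.symm⟩⟩
  have hP : (Ideal.span {p}).IsPrime := (Ideal.span_singleton_prime hp.ne_zero).2 hp
  have hPh := span_isHomogeneous_of_dvd hp hf0 hf hpf
  have hle : Ideal.span {p} ≤ (pp z).asIdeal := (Ideal.span_singleton_le_iff_mem _).2 hpz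
  obtain ⟨x, hx⟩ := exists_point hP hPh fun h =>
    (pp_lt_vertexPoint z).not_ge (h ▸ hle : vertex k n ≤ _)
  have hxz : x ≤ z := pp_le_pp.1 (hx ▸ hle)
  have heq : x = z := by
    rcases no_chain hU g hzU (fun h => hzV ((hg ▸ h : z ∈ U ⊓ V)).2)
      (fun w hw hne' => by
        rw [hg]
        exact ⟨hw.mem_open U.2 hzU, hzmin w (lt_of_le_of_ne ((hsp w z).2 hw) hne')⟩)
      ((hsp o x).1 (pp_le_pp.1 (by rw [ho]; exact bot_le))) ((hsp x z).1 hxz) with h | h
    · exfalso
      have h' := congrArg (fun w => (pp w).asIdeal) h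
      simp only [ho, hx] at h'
      exact hp.ne_zero (Ideal.span_singleton_eq_bot.1 h'.symm)
    · exact h
  obtain ⟨e, he⟩ := exists_isHomogeneous_of_span hp.ne_zero hPh
  refine ⟨e, p, he, ?_, hp.ne_zero, fun y hy hyV => ?_⟩
  · rcases Nat.eq_zero_or_pos e with rfl | h
    · exfalso
      obtain ⟨c, hc⟩ : ∃ c, p = C c := ⟨_, totalDegree_eq_zero_iff_eq_C.1 (he.totalDegree hp.ne_zero)⟩
      exact hp.not_unit (hc ▸ (isUnit_iff_ne_zero.2 fun h0 => hp.ne_zero (by rw [hc, h0, C_0])).map C)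
    · exact h
  · refine hzV (((hsp z y).1 ?_).mem_open V.2 hyV)
    rw [← heq, ← pp_le_pp, hx, Ideal.span_singleton_le_iff_mem]
    exact hy rfl

/-- The global functions of projective space are the constants. -/
theorem isIso_appTop : IsIso (CohB1.ProjSpace.toSpec n k).appTop := by
  haveI : IsProper (CohB1.ProjSpace.toSpec n k) := Groth.Agent.PnCoh.Chow.isProper_toSpec n k
  haveI : IsIntegral (CohB1.ProjSpace n k) := Groth.Agent.H23.PnChart.isIntegral_projSpace n k
  letI := (isField_of_universallyClosed k (CohB1.ProjSpace.toSpec n k)).toField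
  let e : Away 𝒜 (MvPolynomial.X (0 : Fin (n + 1))) ≃+*
      MvPolynomial (Groth.Agent.H23.PnChart.Idx.{u} n (0 : Fin (n + 1))) k :=
    (RingEquiv.ofBijective (Groth.Agent.H23.PnChart.fromChart n k 0)
      ⟨Groth.Agent.H23.PnChart.fromChart_injective n k 0,
        Groth.Agent.H23.PnChart.fromChart_surjective n k 0⟩).symm
  let j := chart n k (0 : Fin (n + 1))
  let φ : Γ(CohB1.ProjSpace n k, ⊤) →+* MvPolynomial (Groth.Agent.H23.PnChart.Idx.{u} n (0 : Fin (n + 1))) k :=
    e.toRingHom.comp ((Scheme.ΓSpecIso _).hom.hom.comp j.appTop.hom)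
  let ι : k →+* Γ(CohB1.ProjSpace n k, ⊤) :=
    (CohB1.ProjSpace.toSpec n k).appTop.hom.comp (Scheme.ΓSpecIso (CommRingCat.of k)).inv.hom
  have hφι : ∀ c, φ (ι c) = C c := by
    intro c
    have h1 := congrArg (fun t => t.appTop.hom ((Scheme.ΓSpecIso (CommRingCat.of k)).inv.hom c))
      (chart_toSpec (k := k) (0 : Fin (n + 1)))
    have h2 : (Scheme.ΓSpecIso _).hom.hom ((Spec.map (CommRingCat.ofHom (base n k (0 : Fin (n + 1))))).appTop.hom
        ((Scheme.ΓSpecIso (CommRingCat.of k)).inv.hom c)) = base n k 0 c := by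
      rw [← CommRingCat.comp_apply, ← CommRingCat.comp_apply, Scheme.ΓSpecIso_naturality, Iso.inv_hom_id_assoc]
      rfl
    show e ((Scheme.ΓSpecIso _).hom.hom (j.appTop.hom (ι c))) = _
    refine Eq.trans (congrArg e ((congrArg _ h1).trans h2)) ?_
    rw [RingEquiv.symm_apply_eq]
    show _ = Groth.Agent.H23.PnChart.fromChart n k 0 (C c)
    rw [Groth.Agent.H23.PnChart.fromChart, eval₂Hom_C]
  have hι : Function.Bijective ι := by
    refine ⟨ι.injective, fun s => ?_⟩
    rcases eq_or_ne s 0 with rfl | hs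
    · exact ⟨0, map_zero _⟩
    · obtain ⟨c, -, hc⟩ := isUnit_iff_eq_C_of_isReduced.1 ((isUnit_iff_ne_zero.2 hs).map φ)
      exact ⟨c, φ.injective ((hφι c).trans hc.symm)⟩
  rw [ConcreteCategory.isIso_iff_bijective]
  have hb := ConcreteCategory.bijective_of_isIso (Scheme.ΓSpecIso (CommRingCat.of k)).hom
  have : ((CohB1.ProjSpace.toSpec n k).appTop : Γ(Spec (CommRingCat.of k), ⊤) → _) =
      ι ∘ (Scheme.ΓSpecIso (CommRingCat.of k)).hom := by
    funext x
    exact congrArg (CohB1.ProjSpace.toSpec n k).appTop.hom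
      (CategoryTheory.Iso.hom_inv_id_apply (Scheme.ΓSpecIso (CommRingCat.of k)) x).symm
  rw [this]
  exact hι.comp hb


/-- Let k be a field and m < n natural numbers. Then every morphism of k-schemes from projective n-space
to projective m-space over k is constant: it factors through the structure morphism P^n_k → Spec k
followed by a k-rational point of P^m_k. -/
theorem result (k : Type u) [Field k] (n m : ℕ) (hmn : m < n)
    (f : CohB1.ProjSpace n k ⟶ CohB1.ProjSpace m k)
    (hf : f ≫ CohB1.ProjSpace.toSpec m k = CohB1.ProjSpace.toSpec n k) :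
    ∃ q : Spec (CommRingCat.of k) ⟶ CohB1.ProjSpace m k, f = CohB1.ProjSpace.toSpec n k ≫ q := by
  classical
  let W : Fin (m + 1) → (CohB1.ProjSpace m k).Opens :=
    fun i => Proj.basicOpen (CohB1.polyGrading m k) (X i)
  have hWcov : ⨆ i, W i = ⊤ := (Groth.Agent.S9576.result m k).1
  by_cases hex : ∃ i, f ⁻¹ᵁ W i = ⊤
  · obtain ⟨i, hi⟩ := hex
    have hWa : IsAffineOpen (W i) := Proj.isAffineOpen_basicOpen _ _ (X_mem_one m k i) Nat.one_pos
    haveI : IsAffine (W i : Scheme.{u}) := hWa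
    have hr : Set.range f ⊆ Set.range (W i).ι := by
      rintro _ ⟨x, rfl⟩
      rw [Scheme.Opens.range_ι]
      exact (hi ▸ trivial : x ∈ f ⁻¹ᵁ W i)
    let g := IsOpenImmersion.lift (W i).ι f hr
    haveI := isIso_appTop (k := k) (n := n)
    let β : Γ((W i : Scheme.{u}), ⊤) ⟶ CommRingCat.of k :=
      g.appTop ≫ inv (CohB1.ProjSpace.toSpec n k).appTop ≫ (Scheme.ΓSpecIso (CommRingCat.of k)).hom
    refine ⟨Spec.map β ≫ (Scheme.isoSpec (W i : Scheme.{u})).inv ≫ (W i).ι, ?_⟩
    have hg : g = CohB1.ProjSpace.toSpec n k ≫ Spec.map β ≫ (Scheme.isoSpec (W i : Scheme.{u})).inv := by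
      rw [← cancel_mono (Scheme.isoSpec (W i : Scheme.{u})).hom]
      simp only [Category.assoc, Iso.inv_hom_id, Category.comp_id]
      refine ext_of_isAffine ?_
      have hh : (Scheme.isoSpec (W i : Scheme.{u})).hom.appTop = (Scheme.ΓSpecIso _).hom := by
        rw [Scheme.isoSpec_hom, Scheme.toSpecΓ_appTop]
      rw [Scheme.Hom.comp_appTop, Scheme.Hom.comp_appTop, hh, ← cancel_epi (Scheme.ΓSpecIso _).inv,
        Iso.inv_hom_id_assoc, ← Category.assoc, ← Scheme.ΓSpecIso_inv_naturality]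
      simp [β]
    calc f = g ≫ (W i).ι := (IsOpenImmersion.lift_fac _ _ hr).symm
      _ = _ := by rw [hg]; simp
  · exfalso
    push Not at hex
    let ι' := {i : Fin (m + 1) // f ⁻¹ᵁ W i ≠ ⊥}
    have key : ∀ i : ι', ∃ (d : ℕ) (F : MvPolynomial (Fin (n + 1)) k), F.IsHomogeneous d ∧ 0 < d ∧ F ≠ 0 ∧
        ∀ x : ProjectiveSpectrum (CohB1.polyGrading n k),
          x ∈ ProjectiveSpectrum.zeroLocus _ {F} → (show CohB1.ProjSpace n k from x) ∉ f ⁻¹ᵁ W i.1 := by
      rintro ⟨i, hi⟩
      refine exists_hypersurface _ ?_ ?_ fun x _ => ?_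
      · by_contra h
        exact hi (Opens.ext (Set.not_nonempty_iff_eq_empty.1 h))
      · exact fun h => hex i (Opens.ext h)
      · obtain ⟨j, hj⟩ := Opens.mem_iSup.1 ((hWcov ▸ trivial : f x ∈ ⨆ i, W i))
        have hWj : IsAffineOpen (W j) := Proj.isAffineOpen_basicOpen _ _ (X_mem_one m k j) Nat.one_pos
        obtain ⟨U, hU, hxU, hUW⟩ := exists_isAffineOpen_mem_and_subset (show x ∈ f ⁻¹ᵁ W j from hj)
        obtain ⟨c, hc⟩ : ∃ c : Γ(CohB1.ProjSpace m k, W j),
            (CohB1.ProjSpace m k).basicOpen c = W j ⊓ W i := by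
          let a := chart m k j
          let el := HomogeneousLocalization.Away.isLocalizationElem (X_mem_one m k j) (X_mem_one m k i)
          have hpre : a ⁻¹ᵁ W i = PrimeSpectrum.basicOpen el :=
            Proj.awayι_preimage_basicOpen _ (X_mem_one m k j) Nat.one_pos (X_mem_one m k i) Nat.one_pos
          have hrange : a.opensRange = W j := Proj.opensRange_awayι _ _ (X_mem_one m k j) Nat.one_pos
          refine ⟨(CohB1.ProjSpace m k).presheaf.map (eqToHom (a.image_top_eq_opensRange.trans hrange).symm).op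
            ((a.appIso ⊤).inv ((Scheme.ΓSpecIso _).inv el)), ?_⟩
          rw [Scheme.basicOpen_res_eq, ← Scheme.image_basicOpen, basicOpen_eq_of_affine]
          show a ''ᵁ (PrimeSpectrum.basicOpen el) = _
          rw [← hpre,
            Scheme.Hom.image_preimage_eq_opensRange_inf, hrange]
        refine ⟨U, f.appLE (W j) U hUW c, hU, hxU, ?_⟩
        refine (Scheme.basicOpen_appLE f U (W j) hUW c).trans ?_
        rw [hc]
        ext y
        simp only [Opens.coe_inf, Set.mem_inter_iff, SetLike.mem_coe, Scheme.Hom.mem_preimage]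
        exact ⟨fun h => ⟨h.1, h.2.2⟩, fun h => ⟨h.1, hUW h.1, h.2⟩⟩
    choose d F hF hd hF0 hFz using key
    let e := (Fintype.equivFin ι').symm
    have hcard : Fintype.card ι' ≤ n :=
      (Fintype.card_subtype_le _).trans (by rw [Fintype.card_fin]; omega)
    obtain ⟨o, ho⟩ := exists_bot_point (k := k) (n := n)
    have hdim : (Fintype.card ι' : WithBot ℕ∞) ≤
        topologicalKrullDim (Set.univ : Set (ProjectiveSpectrum (CohB1.polyGrading n k))) := by
      refine le_trans ?_ (le_topologicalKrullDim isClosed_univ (x := o) trivial)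
      rw [pdim_eq_of_eq_bot ho]
      exact_mod_cast hcard
    haveI : IsIntegral (CohB1.ProjSpace n k) := Groth.Agent.H23.PnChart.isIntegral_projSpace n k
    obtain ⟨x, -, hx⟩ := (Groth.Agent.S10823.result k n _ Set.univ isClosed_univ
      (@IrreducibleSpace.isIrreducible_univ (CohB1.ProjSpace n k) _ inferInstance)
      (fun r => F (e r)) (fun r => d (e r)) (fun r => hF _) (fun r => hd _) (fun r => hF0 _)).2 hdim
    obtain ⟨i, hi⟩ := Opens.mem_iSup.1
      ((hWcov ▸ trivial : f (show CohB1.ProjSpace n k from x) ∈ ⨆ i, W i))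
    have hi' : f ⁻¹ᵁ W i ≠ ⊥ := fun h => (h.le hi).elim
    refine hFz ⟨i, hi'⟩ x ?_ hi
    exact Set.singleton_subset_iff.2 (hx ⟨e.symm ⟨i, hi'⟩, by simp⟩)

end Groth.Agent.S10913
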