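import Groth.Statements.S17385
import Groth.Agent.CartierFP.Scheme
import Groth.Agent.BlowSep.Basic
import Groth.Agent.AlgSpLib.CartierPoints
-- import your own Groth.Agent.* helpers here

set_option autoImplicit false
universe u
open BlowUp

namespace Groth.Agent.S17385

open AlgebraicGeometry CategoryTheory Limits Scheme Groth.Agent Groth.Agent.BlowUpLib

theorem centre_bot {B : Type u} [CommRing B] : centre (⊥ : Ideal B) = ⊥ := by
  refine IdealSheafData.ext_of_isAffine ?_
  rw [centre_top, Ideal.map_bot]; rfl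

theorem isEffCartier_centre {B : Type u} [CommRing B] {a : B} (ha : a ∈ nonZeroDivisors B) :
    BlowUp.IsEffCartierIdeal (centre (Ideal.span {a})) := by
  let ε := (Scheme.ΓSpecIso (CommRingCat.of B)).inv.hom
  refine AlgSpLib.Cartier.isEffCartier_of_affine (f := ε a)
    (ModPairLib.mem_nonZeroDivisors_map ε (ConcreteCategory.bijective_of_isIso _) ha) ?_
  rw [centre_top, Ideal.map_span, Set.image_singleton]

theorem isClosedImmersion_snd {X X' Z' : Scheme.{u}} (𝓘 𝓙 : X.IdealSheafData) (b : X' ⟶ X)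
    (hb : BlowUp.IsBlowUp b 𝓘)
    (b' : Z' ⟶ 𝓙.subscheme) (hb' : BlowUp.IsBlowUp b' (𝓘.comap 𝓙.subschemeι))
    (k : Z' ⟶ X') (hk : k ≫ b = b' ≫ 𝓙.subschemeι) (W : X.affineOpens) (a : Γ(X, W.1))
    (ha : a ∈ 𝓘.ideal W) {B : Type u} [CommRing B] (α : Γ(X, W.1) →+* B)
    (hI : (𝓘.ideal W).map α = Ideal.span {α a})
    (c : Spec (CommRingCat.of B) ⟶ X') [IsOpenImmersion c]
    (hc : c ≫ b = Spec.map (CommRingCat.ofHom α) ≫ W.2.fromSpec) :
    IsClosedImmersion (pullback.snd k c) := by
  let JB := (𝓙.ideal W).map α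
  let K : Ideal B :=
    { carrier := {x | ∃ n : ℕ, α a ^ n * x ∈ JB}
      zero_mem' := ⟨0, by simp⟩
      add_mem' := by
        rintro x y ⟨n, hn⟩ ⟨m, hm⟩
        refine ⟨n + m, ?_⟩
        have e : α a ^ (n + m) * (x + y) = α a ^ m * (α a ^ n * x) + α a ^ n * (α a ^ m * y) := by
          ring
        rw [e]
        exact JB.add_mem (Ideal.mul_mem_left _ _ hn) (Ideal.mul_mem_left _ _ hm)
      smul_mem' := by
        rintro r x ⟨n, hn⟩
        exact ⟨n, by rw [smul_eq_mul, mul_left_comm]; exact JB.mul_mem_left _ hn⟩ }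
  let mk := Ideal.Quotient.mk K
  let ι : Spec (CommRingCat.of (B ⧸ K)) ⟶ Spec (CommRingCat.of B) := Spec.map (CommRingCat.ofHom mk)
  haveI : IsClosedImmersion ι := IsClosedImmersion.spec_of_surjective _ Ideal.Quotient.mk_surjective
  let Q := pullback k c
  let p : Q ⟶ Z' := pullback.fst k c
  let s := pullback.snd k c
  have hpk : p ≫ b' ≫ 𝓙.subschemeι = s ≫ Spec.map (CommRingCat.ofHom α) ≫ W.2.fromSpec := by
    rw [← hk, ← hc, ← Category.assoc, pullback.condition, Category.assoc]
  have hQI : BlowUp.IsEffCartierIdeal (𝓘.comap (p ≫ b' ≫ 𝓙.subschemeι)) := by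
    rw [IdealSheafData.comap_comp, IdealSheafData.comap_comp]
    exact isEffCartier_comap_flat p hb'.1
  have hQJ : 𝓙.comap (p ≫ b' ≫ 𝓙.subschemeι) = ⊥ := by
    rw [IdealSheafData.comap_comp, IdealSheafData.comap_comp, BlowSep.comap_subschemeι_self,
      IdealSheafData.comap_bot, IdealSheafData.comap_bot]
  rw [hpk, ← Category.assoc, IdealSheafData.comap_comp, comap_fromSpec] at hQI hQJ
  have hle : ι.ker ≤ s.ker := by
    show (Spec.map (CommRingCat.ofHom (Ideal.Quotient.mk K))).ker ≤ s.ker
    rw [← ExcSmooth.centre_eq_ker, ← IdealSheafData.map_bot s, IdealSheafData.le_map_iff_comap_le]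
    intro V
    rw [IdealSheafData.ideal_bot, Pi.bot_apply, ideal_comap_centre, Ideal.map_le_iff_le_comap]
    have hst : strHom (s ≫ Spec.map (CommRingCat.ofHom α)) V.1 = (strHom s V.1).comp α := by
      have h := SpecMap_strHom (s ≫ Spec.map (CommRingCat.ofHom α)) V
      rw [← Category.assoc, ← SpecMap_strHom s V, ← Spec.map_comp, ← CommRingCat.ofHom_comp] at h
      exact congrArg CommRingCat.Hom.hom (Spec.map_injective h)
    have h1 := congrArg (fun J => IdealSheafData.ideal J V) hQJ
    simp only [ideal_comap_centre, hst, ← Ideal.map_map, IdealSheafData.ideal_bot, Pi.bot_apply] at h1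
    have h2 : ((centre (𝓘.ideal W)).comap (s ≫ Spec.map (CommRingCat.ofHom α))).ideal V =
        Ideal.span {strHom s V.1 (α a)} := by
      rw [ideal_comap_centre, hst, ← Ideal.map_map, hI, Ideal.map_span, Set.image_singleton]
    have h3 := ModPairLib.generator_mem_nonZeroDivisors hQI h2
    rintro x ⟨n, hn⟩
    have h4 : strHom s V.1 (α a ^ n * x) = 0 := by
      have := Ideal.mem_map_of_mem (strHom s V.1) hn
      rw [h1] at this
      exact this
    rw [map_mul, map_pow] at h4
    exact mem_nonZeroDivisors_iff_left.1 (pow_mem h3 n) _ h4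
  let q := IsClosedImmersion.lift ι s hle
  have hq : q ≫ ι = s := IsClosedImmersion.lift_fac _ _ _
  let γ : Γ(X, W.1) →+* B ⧸ K := mk.comp α
  let g : Spec (CommRingCat.of (B ⧸ K)) ⟶ X := Spec.map (CommRingCat.ofHom γ) ≫ W.2.fromSpec
  have hg : g = ι ≫ c ≫ b := by
    simp only [g, γ, ι, hc, CommRingCat.ofHom_comp, Spec.map_comp, Category.assoc]
  have hgJ : 𝓙.comap g = ⊥ := by
    rw [IdealSheafData.comap_comp, comap_fromSpec, ExcSmooth.comap_centre, ← centre_bot]
    congr 1
    rw [← Ideal.map_map, Ideal.map_eq_bot_iff_le_ker, Ideal.mk_ker]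
    exact fun x hx => ⟨0, by simpa using hx⟩
  have hgI : BlowUp.IsEffCartierIdeal (𝓘.comap g) := by
    rw [IdealSheafData.comap_comp, comap_fromSpec, ExcSmooth.comap_centre]
    have hI' : (𝓘.ideal W).map γ = Ideal.span {γ a} := by
      show (𝓘.ideal W).map (mk.comp α) = _
      rw [← Ideal.map_map, hI, Ideal.map_span, Set.image_singleton]
      rfl
    rw [hI']
    refine isEffCartier_centre (mem_nonZeroDivisors_iff_right.2 fun z hz => ?_)
    obtain ⟨x, rfl⟩ := Ideal.Quotient.mk_surjective z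
    rw [show γ a = mk (α a) from rfl, ← map_mul, Ideal.Quotient.eq_zero_iff_mem] at hz
    obtain ⟨n, hn⟩ := hz
    exact Ideal.Quotient.eq_zero_iff_mem.2 ⟨n + 1, by rw [pow_succ, mul_assoc, mul_comm (α a) x]; exact hn⟩
  let gZ := IsClosedImmersion.lift 𝓙.subschemeι g (by
    rw [IdealSheafData.ker_subschemeι, ← IdealSheafData.map_bot, IdealSheafData.le_map_iff_comap_le]
    exact hgJ.le)
  have hgZ : gZ ≫ 𝓙.subschemeι = g := IsClosedImmersion.lift_fac _ _ _
  obtain ⟨h, hh, -⟩ := hb'.2 _ gZ (by rw [← IdealSheafData.comap_comp, hgZ]; exact hgI)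
  have hhk : h ≫ k = ι ≫ c := isBlowUp_hom_ext hb
    (by rw [Category.assoc, hk, reassoc_of% hh, hgZ, hg, Category.assoc])
    (by rw [Category.assoc, ← hg]; exact hgI)
  let r : Spec (CommRingCat.of (B ⧸ K)) ⟶ Q := pullback.lift h ι hhk
  have hr : r ≫ s = ι := pullback.lift_snd _ _ _
  have hrq : r ≫ q = 𝟙 _ := by
    rw [← cancel_mono ι, Category.assoc, hq, hr, Category.id_comp]
  have hqr : q ≫ r = 𝟙 Q := by
    apply pullback.hom_ext
    · rw [Category.assoc, pullback.lift_fst, Category.id_comp]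
      have hb2 : (q ≫ h) ≫ b' = p ≫ b' := by
        rw [← cancel_mono 𝓙.subschemeι]
        simp only [Category.assoc, reassoc_of% hh, hgZ, hg]
        rw [hc, hpk, ← hq, Category.assoc]
      refine isBlowUp_hom_ext hb' hb2 ?_
      rw [IdealSheafData.comap_comp]
      exact isEffCartier_comap_flat p hb'.1
    · rw [Category.assoc, pullback.lift_snd, Category.id_comp]
      exact hq
  haveI : IsIso q := ⟨r, hqr, hrq⟩
  show IsClosedImmersion s
  rw [← hq]
  infer_instance

open AlgebraicGeometry CategoryTheory Limits TopologicalSpace in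
/-- Let X be any scheme, I and J quasi-coherent ideals on X, b : X' → X a blowing up of X in I, Z ⊆ X
the closed subscheme of J, b' : Z' → Z a blowing up of Z in the inverse image ideal I·O_Z, and k :
Z' → X' the morphism with k ≫ b = b' ≫ (Z → X) (it exists and is unique by the universal property).
Then k is a closed immersion (its image is the strict transform of Z); writing U for the open
complement of the support of I and W ⊆ Z' for the preimage of U, the restriction W → X' of k is an
affine morphism, and its scheme-theoretic image is the whole image of k: the kernel ideal sheaf of W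
→ X' equals that of k. No Noetherian or finite-type hypothesis is needed. -/
theorem result
    {X X' Z' : Scheme.{u}} (𝓘 𝓙 : X.IdealSheafData) (b : X' ⟶ X) (hb : BlowUp.IsBlowUp b 𝓘)
    (b' : Z' ⟶ 𝓙.subscheme) (hb' : BlowUp.IsBlowUp b' (𝓘.comap 𝓙.subschemeι))
    (k : Z' ⟶ X') (hk : k ≫ b = b' ≫ 𝓙.subschemeι) :
    IsClosedImmersion k ∧
      IsAffineHom ((k ⁻¹ᵁ (b ⁻¹ᵁ 𝓘.support.compl)).ι ≫ k) ∧
      ((k ⁻¹ᵁ (b ⁻¹ᵁ 𝓘.support.compl)).ι ≫ k).ker = k.ker := by
  have hcl : IsClosedImmersion k := by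
    choose U W hW a ha c hco hx hc using fun x => CartierFP.exists_chart_nhd (𝟙 X) 𝓘 b hb x
    let 𝒰 : X'.OpenCover := Scheme.openCoverOfIsOpenCover _ (fun x => @Scheme.Hom.opensRange _ _ (c x) (hco x))
      (TopologicalSpace.Opens.ext (Set.eq_univ_of_forall fun z =>
        TopologicalSpace.Opens.mem_iSup.mpr ⟨z, hx z⟩))
    refine (IsZariskiLocalAtTarget.iff_of_openCover (P := @IsClosedImmersion) 𝒰).2 fun x => ?_
    haveI := hco x
    show IsClosedImmersion (pullback.snd k (c x).opensRange.ι)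
    have := isClosedImmersion_snd 𝓘 𝓙 b hb b' hb' k hk (W x) (a x) (ha x)
      (algebraMap Γ(X, (W x).1) (BlowUp.affineAlgebra Γ(X, (W x).1) (𝓘.ideal (W x)) (a x)))
      (le_antisymm (Ideal.map_le_iff_le_comap.2 fun y hy => Ideal.mem_span_singleton'.2
          ⟨frac (𝓘.ideal (W x)) ⟨y, hy⟩ ⟨a x, ha x⟩, frac_mul _ ⟨y, hy⟩ ⟨a x, ha x⟩⟩)
        ((Ideal.span_singleton_le_iff_mem _).2 (Ideal.mem_map_of_mem _ (ha x)))) (c x) (hc x)
    haveI : IsClosedImmersion (pullback.snd k ((c x).isoOpensRange.hom ≫ (c x).opensRange.ι)) := by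
      rw [Scheme.Hom.isoOpensRange_hom_ι]; exact this
    have H := (IsPullback.of_hasPullback k ((c x).isoOpensRange.hom ≫ (c x).opensRange.ι))
    let l := pullback.lift (f := k) (g := (c x).opensRange.ι) (pullback.fst _ _)
      (pullback.snd _ _ ≫ (c x).isoOpensRange.hom) (by rw [Category.assoc]; exact pullback.condition)
    have H' : IsPullback (pullback.snd k ((c x).isoOpensRange.hom ≫ (c x).opensRange.ι)) l
        (c x).isoOpensRange.hom (pullback.snd k (c x).opensRange.ι) :=
      IsPullback.of_bot (by rw [pullback.lift_fst]; exact H.flip) (pullback.lift_snd _ _ _).symm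
        (IsPullback.of_hasPullback k (c x).opensRange.ι).flip
    haveI : IsIso l := MorphismProperty.of_isPullback (P := MorphismProperty.isomorphisms Scheme.{u})
      H' (MorphismProperty.isomorphisms.infer_property _)
    rw [← MorphismProperty.cancel_left_of_respectsIso @IsClosedImmersion l, pullback.lift_snd]
    infer_instance
  let E := (𝓘.comap 𝓙.subschemeι).comap b'
  have hE : BlowUp.IsEffCartierIdeal E := hb'.1
  have hop : k ⁻¹ᵁ (b ⁻¹ᵁ 𝓘.support.compl) = ModPair.interior E := by
    refine TopologicalSpace.Opens.ext (Set.ext fun z => ?_)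
    simp only [E, ← IdealSheafData.comap_comp, ← hk, ModPair.interior]
    show b (k z) ∉ (𝓘.support : Set X) ↔ z ∉ ((𝓘.comap (k ≫ b)).support : Set Z')
    rw [IdealSheafData.support_comap]
    rfl
  haveI := ModPairLib.isAffineHom_interior (ModPairLib.isLocPrincipal_of_isEffCartier hE)
  haveI := ModPairLib.isSchemeTheoreticallyDominant_interior hE
  rw [hop]
  refine ⟨hcl, inferInstance, ?_⟩
  rw [Scheme.Hom.ker_comp, (ModPair.interior E).ι.ker_eq_bot, IdealSheafData.map_bot]

end Groth.Agent.S17385
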