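import Groth.Statements.S10920
import Groth.Agent.S17385
import Groth.Agent.BlowUpLib.Glue
-- import your own Groth.Agent.* helpers here

set_option autoImplicit false
universe u
open CategoryTheory AlgebraicGeometry
open SDiv

namespace Groth.Agent.S10920

/-- Let X be a Noetherian scheme, I a quasi-coherent ideal sheaf on X, f : Y → X a closed immersion, b :
X' → X a blowing up of X in I and b' : Y' → Y a blowing up of Y in the inverse image ideal sheaf
I·O_Y (blow-ups in the sense of the universal property: the inverse image ideal becomes effective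
Cartier, universally). If f' : Y' → X' is the morphism compatible with the blow-ups, b ∘ f' = f ∘ b'
(it exists and is unique by the universal property), then f' is a closed immersion; Y' is the strict
transform of Y. -/
theorem result {X Y X' Y' : Scheme.{u}} [IsNoetherian X]
    (𝓘 : X.IdealSheafData) (f : Y ⟶ X) [IsClosedImmersion f]
    (b : X' ⟶ X) (hb : BlowUp.IsBlowUp b 𝓘) (b' : Y' ⟶ Y) (hb' : BlowUp.IsBlowUp b' (𝓘.comap f))
    (f' : Y' ⟶ X') (hf' : f' ≫ b = b' ≫ f) : IsClosedImmersion f' := by
  haveI : IsIso f.toImage := inferInstance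
  let e := inv f.toImage
  have he : e ≫ f = f.ker.subschemeι := by
    simp only [e]
    rw [IsIso.inv_comp_eq, Scheme.Hom.toImage_imageι]
  haveI : IsIso (inv e) := inferInstance
  have hbl : BlowUp.IsBlowUp (b' ≫ f.toImage) (𝓘.comap f.ker.subschemeι) := by
    refine Groth.Agent.BlowUpLib.isBlowUp_comp_iso f.toImage ?_
    rw [← Scheme.IdealSheafData.comap_comp, Scheme.Hom.toImage_imageι]
    exact hb'
  exact (Groth.Agent.S17385.result 𝓘 f.ker b hb (b' ≫ f.toImage) hbl f'
    (by rw [hf', Category.assoc, Scheme.Hom.toImage_imageι])).1

end Groth.Agent.S10920
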