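import Groth.Statements.S10923
import Groth.Agent.OmegaPn.Bott

set_option autoImplicit false
set_option backward.isDefEq.respectTransparency false
set_option backward.isDefEq.respectTransparency.types false
universe u
open CategoryTheory CategoryTheory.Limits AlgebraicGeometry
open ProjDual

namespace Groth.Agent.S10923

/-- Let k be a field, 0 ≤ p ≤ r, P = P^r_k with structure map to Spec k, Ω = Ω^1_{P/k} its sheaf of
relative differentials (the conormal sheaf of the diagonal), L an O_P-module which is a p-th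
exterior power of Ω, and d an integer with p < d; write L(d) = L ⊗ O_P(d). Then H^0(P, L(d)) =
H^0(P^r, Ω^p(d)) is a k-vector space of dimension C(d+r-p, d) · C(d-1, p). -/
theorem result (k : Type u) [Field k] (r p : ℕ) (hp : p ≤ r)
    (L : (CohB1.ProjSpace r k).Modules)
    (hL : ExtPow.IsExtPow p (Omega.sheaf (CohB1.ProjSpace.toSpec r k)) L) (d : ℕ) (hd : p < d) :
    Module.finrank k (Coh.HH (CohB1.ProjSpace r k)
      (CohB1.tensorMod L (Twist.twistProjSpace r k (d : ℤ))) 0) =
      Nat.choose (d + r - p) d * Nat.choose (d - 1) p := by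
  obtain ⟨e⟩ := OmegaPn.nonempty_iso_Z r k hL
  rcases Nat.eq_zero_or_pos r with rfl | hr
  · obtain rfl := Nat.le_zero.1 hp
    have hF := OmegaPn.isTw_Tw 0 k (d : ℤ)
    have h1 : Module.Finite k (Coh.HH (CohB1.ProjSpace 0 k) (Twist.twistProjSpace 0 k ((d : ℤ) - (0 : ℕ))) 0) ∧
        Module.finrank k (Coh.HH (CohB1.ProjSpace 0 k) (Twist.twistProjSpace 0 k ((d : ℤ) - (0 : ℕ))) 0) = 1 := by
      rw [Nat.cast_zero, sub_zero]
      obtain ⟨f⟩ := Groth.Agent.S0843.result k 0 d
      obtain ⟨h1, h2⟩ := ComodLib.GradedAug.finrank_homogeneous (k := k) 1 d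
      haveI := h1
      refine ⟨Module.Finite.equiv f.symm, ?_⟩
      rw [f.finrank_eq, h2, Nat.add_sub_cancel_left, Nat.choose_self]
    refine ((OmegaPn.HHiso k ((OmegaPn.Tw 0 k (d : ℤ)).mapIso e) 0).finrank_eq).trans ?_
    refine (OmegaPn.finrank_W hF 0 0 h1).2.trans ?_
    simp
  · refine ((OmegaPn.HHiso k ((OmegaPn.Tw r k (d : ℤ)).mapIso e) 0).finrank_eq).trans ?_
    exact (OmegaPn.finrank_Z_zero hr (by omega) (OmegaPn.isTw_Tw r k _) p hp).2

end Groth.Agent.S10923
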