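import Groth.Statements.S10924
import Groth.Agent.OmegaPn.Bott

set_option autoImplicit false
set_option backward.isDefEq.respectTransparency false
set_option backward.isDefEq.respectTransparency.types false
universe u
open CategoryTheory CategoryTheory.Limits AlgebraicGeometry
open ProjDual

namespace Groth.Agent.S10924

/-- Let k be a field, 0 ≤ p ≤ r, P = P^r_k with structure map to Spec k, Ω = Ω^1_{P/k} (the conormal
sheaf of the diagonal), L an O_P-module which is a p-th exterior power of Ω, and e a natural number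
with r < e + p, so that the twist d = -e satisfies d < p - r; write L(d) = L ⊗ O_P(d). Then H^r(P,
L(-e)) = H^r(P^r, Ω^p(-e)) is a k-vector space of dimension C(e+p, e) · C(e-1, r-p). -/
theorem result (k : Type u) [Field k] (r p : ℕ) (hp : p ≤ r)
    (L : (CohB1.ProjSpace r k).Modules)
    (hL : ExtPow.IsExtPow p (Omega.sheaf (CohB1.ProjSpace.toSpec r k)) L) (e : ℕ) (he : r < e + p) :
    Module.finrank k (Coh.HH (CohB1.ProjSpace r k)
      (CohB1.tensorMod L (Twist.twistProjSpace r k (-(e : ℤ)))) r) =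
      Nat.choose (e + p) e * Nat.choose (e - 1) (r - p) := by
  obtain ⟨f⟩ := OmegaPn.nonempty_iso_Z r k hL
  refine ((OmegaPn.HHiso k ((OmegaPn.Tw r k (-(e : ℤ))).mapIso f) r).finrank_eq).trans ?_
  rcases Nat.eq_zero_or_pos r with rfl | hr
  · obtain rfl := Nat.le_zero.1 hp
    have hF := OmegaPn.isTw_Tw 0 k (-(e : ℤ))
    have h1 : Module.Finite k (Coh.HH (CohB1.ProjSpace 0 k) (Twist.twistProjSpace 0 k (-(e : ℤ) - (0 : ℕ))) 0) ∧
        Module.finrank k (Coh.HH (CohB1.ProjSpace 0 k) (Twist.twistProjSpace 0 k (-(e : ℤ) - (0 : ℕ))) 0) = 1 := by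
      obtain ⟨j, rfl⟩ : ∃ j, e = j + 1 := ⟨e - 1, by omega⟩
      obtain ⟨φ⟩ := Groth.Agent.S0845.result k 0 j
      rw [show (-((j + 1 : ℕ) : ℤ) - ((0 : ℕ) : ℤ)) = -(((0 : ℕ) : ℤ) + 1 + j) by push_cast; ring]
      obtain ⟨h1, h2⟩ := ComodLib.GradedAug.finrank_homogeneous (k := k) 1 j
      haveI := h1
      refine ⟨Module.Finite.equiv φ.symm, ?_⟩
      rw [φ.finrank_eq, h2, Nat.add_sub_cancel_left, Nat.choose_self]
    refine (OmegaPn.finrank_W hF 0 0 h1).2.trans ?_
    simp
  · have h := (OmegaPn.finrank_Z_top hr (e := e) (by omega) (OmegaPn.isTw_Tw r k _) p hp).2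
    rw [h, OmegaPn.bott, show e + r - (r - p) = e + p by omega]

end Groth.Agent.S10924
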