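import Groth.Statements.S10926
import Groth.Agent.S10925
import Groth.Agent.H23.CubeAb
import Groth.Agent.H23.PicInv

set_option autoImplicit false
set_option backward.isDefEq.respectTransparency false
set_option backward.isDefEq.respectTransparency.types false
set_option maxHeartbeats 1000000
set_option linter.style.haveILetI false
universe u
open CategoryTheory CategoryTheory.Limits AlgebraicGeometry
open PicF

open scoped Groth.Agent.H23.PicMul

namespace Groth.Agent.S10926

/-- Let k be an algebraically closed field, Y an integral scheme of finite type over k, f : X → Y flat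
and projective (f = i ≫ pr for a closed immersion i : X → P^n_Y) with every fibre X_y integral, and
L, M invertible O_X-modules whose pullbacks to each fibre X_y are isomorphic. Then there is an
invertible O_Y-module E with L ≅ M ⊗ f^*E. -/
theorem result (k : Type u) [Field k] [IsAlgClosed k]
    {X Y : Scheme.{u}} (g : Y ⟶ Spec (CommRingCat.of k)) [LocallyOfFiniteType g] [QuasiCompact g]
    [IsIntegral Y] (n : ℕ) (i : X ⟶ CohB1.ProjSpaceOver n Y) [IsClosedImmersion i]
    (f : X ⟶ Y) (hf : f = i ≫ CohB1.ProjSpaceOver.toBase n Y) [Flat f]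
    (hint : ∀ y : Y, IsIntegral (f.fiber y))
    (L M : X.Modules) (hL : PicF.IsInvertible L) (hM : PicF.IsInvertible M)
    (hLM : ∀ y : Y, Nonempty ((Scheme.Modules.pullback (f.fiberι y)).obj L ≅ (Scheme.Modules.pullback (f.fiberι y)).obj M)) :
    ∃ E : Y.Modules, PicF.IsInvertible E ∧
      Nonempty (L ≅ CohB1.tensorMod M ((Scheme.Modules.pullback f).obj E)) := by
  obtain ⟨M', hM', ⟨π⟩⟩ := H23.PicInv.exists_inverse hM
  let E₀ := CohB1.tensorMod L M'
  have htriv : ∀ y : Y, Nonempty ((Scheme.Modules.pullback (f.fiberι y)).obj E₀ ≅ Coh.structureModule (f.fiber y)) := by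
    intro y
    refine H23.PicMul.cl_eq_iff.mp ?_
    show PicF.pullCl _ (PicF.cl (CohB1.tensorMod L M')) = PicF.cl _
    have h1 : PicF.pullCl (f.fiberι y) (PicF.cl L) = PicF.pullCl (f.fiberι y) (PicF.cl M) := H23.PicMul.cl_eq_iff.mpr (hLM y)
    rw [H23.PicMul.cl_tensor]
    show H23.PicMul.pullHom (f.fiberι y) (PicF.cl L * PicF.cl M') = _
    rw [map_mul, show H23.PicMul.pullHom (f.fiberι y) (PicF.cl L) = H23.PicMul.pullHom (f.fiberι y) (PicF.cl M) from h1,
      ← map_mul, ← H23.PicMul.cl_tensor, H23.PicMul.cl_eq_iff.mpr ⟨π⟩]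
    exact PicGrp.cl_eq_cl_iff _ _ |>.2 (PicClLib.nonempty_pullback_structureModule _)
  obtain ⟨hN, hc⟩ := S10925.result k g n i f hf hint E₀ (H23.PicMul.isInvertible_tensor hL hM') htriv
  haveI := hc
  refine ⟨(Scheme.Modules.pushforward f).obj E₀, hN, H23.PicMul.cl_eq_iff.mp ?_⟩
  rw [H23.PicMul.cl_tensor, show PicF.cl ((Scheme.Modules.pullback f).obj ((Scheme.Modules.pushforward f).obj E₀)) = PicF.cl E₀ from
    H23.PicMul.cl_eq_iff.mpr ⟨asIso ((Scheme.Modules.pullbackPushforwardAdjunction f).counit.app E₀)⟩]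
  show PicF.cl L = PicF.cl M * PicF.cl (CohB1.tensorMod L M')
  rw [H23.PicMul.cl_tensor, mul_left_comm, ← H23.PicMul.cl_tensor M M',
    show PicF.cl (CohB1.tensorMod M M') = 1 from (H23.CubeAb.cl_eq_one_iff _).mpr ⟨π⟩]
  exact (mul_one _).symm

end Groth.Agent.S10926
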