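import Groth.Statements.S10929
import Groth.Agent.Kleiman.Generic

set_option autoImplicit false
universe u
open CategoryTheory CategoryTheory.Limits AlgebraicGeometry
open Variety

namespace Groth.Agent.S10929

/-- Let k be an algebraically closed field of characteristic zero, X and Y integral schemes of finite
type over k and f : X → Y a dominant k-morphism. Then there is a nonempty open subscheme U of X such
that f restricted to U is a smooth morphism U → Y. -/
theorem result (k : Type u) [Field k] [IsAlgClosed k] [CharZero k]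
    {X Y : Scheme.{u}} (qX : X ⟶ Spec (CommRingCat.of k)) (qY : Y ⟶ Spec (CommRingCat.of k))
    [LocallyOfFiniteType qX] [QuasiCompact qX] [LocallyOfFiniteType qY] [QuasiCompact qY]
    [IsIntegral X] [IsIntegral Y] (f : X ⟶ Y) (hf : f ≫ qY = qX) (hdom : DenseRange f.base) :
    ∃ U : X.Opens, (U : Set ↥X).Nonempty ∧ Smooth (U.ι ≫ f) := by
  subst hf
  haveI : IsLocallyNoetherian Y := LocallyOfFiniteType.isLocallyNoetherian qY
  haveI : QuasiSeparated qY := inferInstance
  haveI : LocallyOfFiniteType f := locallyOfFiniteType_of_comp f qY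
  haveI : LocallyOfFinitePresentation (f ≫ qY) := inferInstance
  haveI : IsLocallyNoetherian X := LocallyOfFiniteType.isLocallyNoetherian (f ≫ qY)
  let U₀ : X.Opens := (f ≫ qY).smoothLocus
  have hU₀ : genericPoint X ∈ U₀ := (f ≫ qY).genericPoint_mem_smoothLocus_of_perfectField
  let g := U₀.ι ≫ f
  haveI : Smooth (g ≫ qY) := by
    rw [← Scheme.Hom.smoothLocus_eq_top_iff]
    have e : (g ≫ qY) = U₀.ι ≫ f ≫ qY := Category.assoc _ _ _
    apply top_le_iff.1
    intro w _
    have : w ∈ (U₀.ι ≫ f ≫ qY).smoothLocus := by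
      rw [← Scheme.Hom.preimage_smoothLocus_eq]; exact w.2
    simpa only [e] using this
  haveI : QuasiCompact (g ≫ qY) := by
    have : QuasiCompact (U₀.ι ≫ f ≫ qY) := inferInstance
    simpa only [g, Category.assoc] using this
  haveI : LocallyOfFinitePresentation g := LocallyOfFinitePresentation.iff_locallyOfFiniteType.2 inferInstance
  obtain ⟨V, hne, hV⟩ := Groth.Agent.Kleiman.exists_open_le_smoothLocus g qY
  obtain ⟨x, hx⟩ := hdom.exists_mem_open V.2 hne
  refine ⟨U₀ ⊓ f ⁻¹ᵁ V, ⟨genericPoint X, hU₀, (genericPoint_specializes x).mem_open (f ⁻¹ᵁ V).2 hx⟩, ?_⟩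
  let W : U₀.toScheme.Opens := U₀.ι ⁻¹ᵁ (f ⁻¹ᵁ V)
  let e : (U₀ ⊓ f ⁻¹ᵁ V : X.Opens).toScheme ⟶ U₀.toScheme := X.homOfLE inf_le_left
  have : Smooth (e ≫ g) := by
    rw [← Scheme.Hom.smoothLocus_eq_top_iff, ← Scheme.Hom.preimage_smoothLocus_eq]
    apply top_le_iff.1
    intro w _
    refine hV (show g (e w) ∈ V from ?_)
    rw [← Scheme.Hom.comp_apply, Scheme.homOfLE_ι_assoc]
    exact w.2.2
  simpa only [e, g, Scheme.homOfLE_ι_assoc] using this

end Groth.Agent.S10929
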