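import Groth.Statements.S10931
import Groth.Agent.WedgeX.Dual
import Groth.Agent.S10829
import Groth.Agent.SmoothCrit.Sch
import Groth.Agent.CurveEmbed.Conic
import Groth.Agent.PnPic.Twist

set_option autoImplicit false
set_option backward.isDefEq.respectTransparency false
set_option backward.isDefEq.respectTransparency.types false
universe u
open CategoryTheory CategoryTheory.Limits AlgebraicGeometry
open ProjDual

namespace Groth.Agent.S10931

open scoped Groth.Agent.H23.PicMul

/-- Let k be a field, p ≤ r and q ≤ r natural numbers, P = P^r_k with structure map to Spec k, Ω =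
Ω^1_{P/k} (the conormal sheaf of the diagonal), L an O_P-module which is a p-th exterior power of Ω
and L' one which is an (r − p)-th exterior power of Ω, and d an integer; write M(d) = M ⊗ O_P(d).
Then H^q(P, L(d)) = H^q(P^r, Ω^p(d)) and H^{r−q}(P, L'(−d)) = H^{r−q}(P^r, Ω^{r−p}(−d)) have the
same dimension over k. (The published statement asserts an isomorphism between these two cohomology
groups, obtained from Serre duality; this row records the equality of dimensions.) -/
theorem result (k : Type u) [Field k] (r p q : ℕ)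
    (hp : p ≤ r) (hq : q ≤ r) (L L' : (CohB1.ProjSpace r k).Modules)
    (hL : ExtPow.IsExtPow p (Omega.sheaf (CohB1.ProjSpace.toSpec r k)) L)
    (hL' : ExtPow.IsExtPow (r - p) (Omega.sheaf (CohB1.ProjSpace.toSpec r k)) L') (d : ℤ) :
    Module.finrank k (Coh.HH (CohB1.ProjSpace r k) (CohB1.tensorMod L (Twist.twistProjSpace r k d)) q) =
      Module.finrank k (Coh.HH (CohB1.ProjSpace r k)
        (CohB1.tensorMod L' (Twist.twistProjSpace r k (-d))) (r - q)) := by
  classical
  letI : (CohB1.ProjSpace r k).Over (Spec (CommRingCat.of k)) := ⟨CohB1.ProjSpace.toSpec r k⟩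
  haveI : IsIntegral (CohB1.ProjSpace r k) := H23.PnChart.isIntegral_projSpace r k
  haveI : Smooth (CohB1.ProjSpace.toSpec r k) := CurveEmbed.smooth_toSpec r k
  haveI : IsProper (CohB1.ProjSpace.toSpec r k) := PnCoh.Chow.isProper_toSpec r k
  haveI : SmoothOfRelativeDimension r ((CohB1.ProjSpace r k) ↘ Spec (CommRingCat.of k)) :=
    SmoothCrit.smoothOfRelativeDimension_dim (CohB1.ProjSpace.toSpec r k) r (S10829.result k r)
  have h0 : Nonempty (CohB1.tensorMod (Twist.twistProjSpace r k d) (Twist.twistProjSpace r k (-d)) ≅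
      Coh.structureModule (CohB1.ProjSpace r k)) := by
    refine H23.PicMul.cl_eq_iff.1 ?_
    rw [← H23.PicMul.one_def, H23.PicMul.cl_tensor, PnPic.cl_twistProjSpace_add, add_neg_cancel,
      PnPic.cl_twistProjSpace_zero]
  obtain ⟨e₁⟩ := H23.PicMul.comm L (Twist.twistProjSpace r k d)
  exact ((S2926.hhIso k e₁ q).finrank_eq).trans (WedgeX.finrank_eq (𝟙 (CohB1.ProjSpace r k)) (Category.id_comp _)
    p q hp hq hL hL' (PnPic.isInvertible_twistProjSpace r k d) h0.some)

end Groth.Agent.S10931
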