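import Groth.Statements.S10933
import Groth.Agent.LC.PdRegular
import Groth.Agent.H1PdLib.Basic

set_option autoImplicit false
universe u
open CategoryTheory
open CAlg

namespace Groth.Agent.S10933

/-- Let A be a (Noetherian) regular local ring, M a finitely generated A-module and d a natural number.
Then the projective dimension of M equals d if and only if Ext^j_A(M, A) = 0 for every j > d and
Ext^d_A(M, A) ≠ 0. (Projective dimension valued in WithBot ℕ∞, the zero module having projective
dimension ⊥.) -/
theorem result (A : Type u) [CommRing A] [IsRegularLocalRing A]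
    (M : Type u) [AddCommGroup M] [Module A M] [Module.Finite A M] (d : ℕ) :
    projectiveDimension (ModuleCat.of A M) = (d : WithBot ℕ∞) ↔
      ((∀ j : ℕ, d < j → Subsingleton (Abelian.Ext (ModuleCat.of A M) (ModuleCat.of A A) j)) ∧
        Nontrivial (Abelian.Ext (ModuleCat.of A M) (ModuleCat.of A A) d)) := by
  have hvan : ∀ e : ℕ, RegLoc6.PdLE A e M → ∀ j, e < j →
      Subsingleton (Abelian.Ext (ModuleCat.of A M) (ModuleCat.of A A) j) := fun e he j hj => by
    haveI : HasProjectiveDimensionLT (ModuleCat.of A M) (e + 1) := he
    exact HasProjectiveDimensionLT.subsingleton _ (e + 1) j hj _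
  constructor
  · intro h
    have hle : RegLoc6.PdLE A d M := (projectiveDimension_le_iff _ _).1 h.le
    refine ⟨hvan d hle, not_subsingleton_iff_nontrivial.mp fun hs => ?_⟩
    haveI : Nontrivial M := not_subsingleton_iff_nontrivial.mp fun hM => by
      have := (H1PdLib.projectiveDimension_eq_bot_iff_subsingleton (R := A) M).2 hM
      rw [h] at this
      exact WithBot.natCast_ne_bot d this
    cases d with
    | zero =>
      haveI : Module.Projective A M := RegLoc6.pdLE_zero_iff.1 hle
      haveI : Module.Free A M := Module.free_of_flat_of_isLocalRing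
      obtain ⟨i⟩ := (Module.Free.chooseBasis A M).index_nonempty
      have hf : ModuleCat.ofHom ((Module.Free.chooseBasis A M).coord i) = 0 :=
        (Abelian.Ext.mk₀_bijective _ _).1 (@Subsingleton.elim _ hs _ _)
      have h1 : (Module.Free.chooseBasis A M).coord i (Module.Free.chooseBasis A M i) = 0 :=
        congrArg (fun g : ModuleCat.of A M ⟶ ModuleCat.of A A => g (Module.Free.chooseBasis A M i)) hf
      simp at h1
    | succ e =>
      have he : RegLoc6.PdLE A e M := LC.pdLE_of_ext_finite e M (LC.ext_finite_vanish _ e hle fun j hj => by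
        rcases eq_or_lt_of_le (Nat.succ_le_of_lt hj) with rfl | hlt
        · exact hs
        · exact hvan _ hle j hlt)
      have hle' : projectiveDimension (ModuleCat.of A M) ≤ (e : WithBot ℕ∞) := (projectiveDimension_le_iff _ _).2 he
      rw [h] at hle'
      have : e + 1 ≤ e := by exact_mod_cast hle'
      omega
  · rintro ⟨h1, h2⟩
    haveI : Nontrivial M := not_subsingleton_iff_nontrivial.mp fun hM => by
      haveI : HasProjectiveDimensionLT (ModuleCat.of A M) 0 := by
        rw [hasProjectiveDimensionLT_zero_iff_isZero, ModuleCat.isZero_iff_subsingleton]; exact hM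
      exact not_subsingleton_iff_nontrivial.mpr h2 (HasProjectiveDimensionLT.subsingleton _ 0 d (zero_le' ) _)
    refine H1PdLib.projectiveDimension_eq d (LC.pdLE_of_ext_finite d M
      (LC.ext_finite_vanish _ d (RegLoc6.pdLE_of_isRegularLocalRing A M) h1)) fun e he hpd => ?_
    exact not_subsingleton_iff_nontrivial.mpr h2 (hvan e hpd d he)

end Groth.Agent.S10933
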