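import Groth.Statements.S10935
import Groth.Agent.AssPtX.Basic
import Groth.Agent.QCoh.Stalk
import Groth.Agent.QCoh.VanIdeal
import Mathlib.RingTheory.Flat.TorsionFree

set_option autoImplicit false
universe u
open CategoryTheory CategoryTheory.Limits AlgebraicGeometry
open FlatMor

namespace Groth.Agent.S10935

/-- Let Y be an integral, regular (every local ring a regular local ring), one-dimensional scheme with
generic point η, X a Noetherian scheme and f : X → Y a morphism. Then f is flat if and only if every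
associated point x of X — a point such that the maximal ideal of O_{X,x} is an associated prime of
O_{X,x} — satisfies f(x) = η. -/
theorem result {X Y : Scheme.{u}} (f : X ⟶ Y)
    [IsIntegral Y] (hreg : ∀ y : Y, IsRegularLocalRing (Y.presheaf.stalk y))
    (hY : topologicalKrullDim ↥Y = 1) [IsNoetherian X] :
    Flat f ↔ ∀ x : X, Curv2.IsAssPoint (Coh.structureModule X) x → f.base x = genericPoint ↥Y := by
  have hY' : ∀ y : Y, ringKrullDim (Y.presheaf.stalk y) ≤ 1 := by
    intro y
    obtain ⟨W, hW, hyW, -⟩ := exists_isAffineOpen_mem_and_subset (x := y) (U := ⊤) trivial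
    letI := Groth.Agent.QCoh.stalkAlg (X := Y) hyW
    haveI := Groth.Agent.QCoh.isLocalization_stalk' hW hyW
    rw [IsLocalization.AtPrime.ringKrullDim_eq_height (hW.primeIdealOf ⟨y, hyW⟩).asIdeal]
    refine (Ideal.height_le_ringKrullDim_of_ne_top
      (hW.primeIdealOf ⟨y, hyW⟩).isPrime.ne_top).trans ?_
    rw [← PrimeSpectrum.topologicalKrullDim_eq_ringKrullDim Γ(Y, W)]
    exact (hW.fromSpec.isOpenEmbedding.isInducing.topologicalKrullDim_le).trans hY.le
  constructor
  · intro hflat x hx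
    by_contra hne
    obtain ⟨V, hV, hyV, -⟩ := exists_isAffineOpen_mem_and_subset (x := f x) (U := ⊤) trivial
    obtain ⟨U, hU, hxU, hUV⟩ := exists_isAffineOpen_mem_and_subset (x := x) (U := f ⁻¹ᵁ V) hyV
    haveI : Nonempty V := ⟨⟨_, hyV⟩⟩
    have hpne : (hV.primeIdealOf ⟨f x, hyV⟩).asIdeal ≠ ⊥ := by
      intro hbot
      apply hne
      have hgW : genericPoint Y ∈ V := ((genericPoint_spec Y).mem_open_set_iff V.2).2
        ⟨f x, trivial, hyV⟩
      have e : hV.primeIdealOf ⟨f x, hyV⟩ = hV.primeIdealOf ⟨genericPoint Y, hgW⟩ := by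
        rw [hV.primeIdealOf_genericPoint]
        refine PrimeSpectrum.ext (hbot.trans ?_)
        rw [genericPoint_eq_bot_of_affine]
        rfl
      have := congrArg hV.fromSpec e
      simpa [IsAffineOpen.fromSpec_primeIdealOf] using this
    obtain ⟨s, hs, hs0⟩ := Submodule.exists_mem_ne_zero_of_ne_bot hpne
    have hfl : (f.appLE V U hUV).hom.Flat :=
      HasRingHomProperty.appLE (P := @Flat) f hflat ⟨V, hV⟩ ⟨U, hU⟩ hUV
    letI := (f.appLE V U hUV).hom.toAlgebra
    haveI : Module.Flat Γ(Y, V) Γ(X, U) := hfl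
    obtain ⟨m, hm⟩ := (Groth.Agent.AssPtX.isWeakAssPoint_iff_sections
      (Groth.Agent.QCoh.isQCoh_structureModule) hU hxU).1 (Groth.Agent.AssPtX.isAssPoint_iff.1 hx)
    have hsq : f.appLE V U hUV s ∈ (hU.primeIdealOf ⟨x, hxU⟩).asIdeal := by
      rw [← IsAffineOpen.comap_primeIdealOf_appLE (f := f) V hV U hU hUV hxU] at hs
      exact hs
    obtain ⟨y, hy, hsy⟩ := Ideal.exists_mul_mem_of_mem_minimalPrimes hm hsq
    apply hy
    rw [Submodule.mem_annihilator_span_singleton] at hsy ⊢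
    have hreg' : IsSMulRegular Γ(X, U) s :=
      Module.Flat.isSMulRegular_of_nonZeroDivisors (mem_nonZeroDivisors_of_ne_zero hs0)
    apply hreg'
    change s • ((show Γ(X, U) from y) * (show Γ(X, U) from m)) = s • (0 : Γ(X, U))
    rw [smul_zero, Algebra.smul_def, ← mul_assoc]
    exact hsy
  rw [Flat.iff_flat_stalkMap]
  intro h x
  haveI := hreg (f x)
  haveI : IsPrincipalIdealRing (Y.presheaf.stalk (f x)) := by
    refine ((tfae_of_isNoetherianRing_of_isLocalRing_of_isDomain _).out 0 4).2 ?_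
    have h2 : (IsLocalRing.maximalIdeal (Y.presheaf.stalk (f x))).spanFinrank ≤ 1 := by
      have := (IsRegularLocalRing.iff_finrank_cotangentSpace (R := Y.presheaf.stalk (f x))).1
      have h3 := IsRegularLocalRing.spanFinrank_maximalIdeal (R := Y.presheaf.stalk (f x))
      have h4 := h3.trans_le (hY' (f x))
      exact_mod_cast h4
    rcases Nat.le_one_iff_eq_zero_or_eq_one.1 h2 with h2 | h2
    · rw [Submodule.spanFinrank_eq_zero_iff_eq_bot (IsNoetherian.noetherian _)] at h2
      rw [h2]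
      exact ⟨0, by simp⟩
    · exact ((Submodule.spanFinrank_eq_one_iff _).1 h2).1
  letI := (f.stalkMap x).hom.toAlgebra
  change Module.Flat (Y.presheaf.stalk (f x)) (X.presheaf.stalk x)
  rw [Module.Flat.flat_iff_torsion_eq_bot_of_isBezout, eq_bot_iff]
  rintro a ⟨⟨r, hr⟩, hra⟩
  have hr0 : r ≠ 0 := nonZeroDivisors.ne_zero hr
  obtain ⟨V, hV, hyV, -⟩ := exists_isAffineOpen_mem_and_subset (x := f x) (U := ⊤) trivial
  obtain ⟨U, hU, hxU, hUV⟩ := exists_isAffineOpen_mem_and_subset (x := x) (U := f ⁻¹ᵁ V) hyV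
  letI := Groth.Agent.QCoh.stalkAlg (X := Y) hyV
  haveI := Groth.Agent.QCoh.isLocalization_stalk' hV hyV
  letI := Groth.Agent.QCoh.stalkAlg (X := X) hxU
  haveI := Groth.Agent.QCoh.isLocalization_stalk' hU hxU
  obtain ⟨⟨s, v⟩, hsv⟩ := IsLocalization.surj (hV.primeIdealOf ⟨f x, hyV⟩).asIdeal.primeCompl r
  haveI : Nonempty V := ⟨⟨_, hyV⟩⟩
  have hs0 : s ≠ 0 := by
    rintro rfl
    rw [map_zero] at hsv
    exact (IsLocalization.map_units _ v).ne_zero ((mul_eq_zero.1 hsv).resolve_left hr0)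
  haveI : IsNoetherianRing Γ(X, U) := IsLocallyNoetherian.component_noetherian ⟨U, hU⟩
  have hnzd : f.appLE V U hUV s ∈ nonZeroDivisors Γ(X, U) := by
    by_contra hn
    have hn' : f.appLE V U hUV s ∈ ((nonZeroDivisors Γ(X, U) : Set Γ(X, U)))ᶜ := hn
    rw [← biUnion_associatedPrimes_eq_compl_nonZeroDivisors] at hn'
    simp only [Set.mem_iUnion] at hn'
    obtain ⟨q, hq, hsq⟩ := hn'
    have hqw : q ∈ FlatCA.weakAss Γ(X, U) Γ(Coh.structureModule X, U) := by
      obtain ⟨hqp, m, hm⟩ := hq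
      refine ⟨m, ?_⟩
      have hmin : (Submodule.span Γ(X, U) ({m} : Set Γ(X, U))).annihilator.minimalPrimes = {q} := by
        rw [← Submodule.bot_colon', ← Ideal.radical_minimalPrimes, ← hm,
          Ideal.minimalPrimes_eq_subsingleton_self]
      exact hmin.symm ▸ rfl
    obtain ⟨x', hx'U, hx'q, hx'⟩ := Groth.Agent.AssPtX.exists_isWeakAssPoint
      (Groth.Agent.QCoh.isQCoh_structureModule) hU hqw
    have hgen := h x' (Groth.Agent.AssPtX.isAssPoint_iff.2 hx')
    letI := Groth.Agent.QCoh.stalkAlg (X := X) hx'U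
    haveI := Groth.Agent.QCoh.isLocalization_stalk' hU hx'U
    rw [← hx'q, ← IsLocalization.AtPrime.comap_maximalIdeal (X.presheaf.stalk x')
      (hU.primeIdealOf ⟨x', hx'U⟩).asIdeal] at hsq
    have hgV : f x' ∈ V := hUV hx'U
    have key : ∀ y : Y, y = genericPoint Y → ∀ hy : y ∈ V, IsUnit (Y.presheaf.germ V y hy s) := by
      rintro y rfl hy
      exact (isUnit_iff_ne_zero (G₀ := Y.functionField)).2
        ((map_ne_zero_iff _ (germ_injective_of_isIntegral Y _ hy)).2 hs0)
    have hunit := key (f x') hgen hgV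
    apply hsq
    have h5 := hunit.map (f.stalkMap x').hom
    rw [Scheme.Hom.germ_stalkMap_apply] at h5
    change IsUnit (X.presheaf.germ U x' hx'U (f.appLE V U hUV s))
    simp only [Scheme.Hom.appLE, CommRingCat.comp_apply, TopCat.Presheaf.germ_res_apply]
    exact h5
  rw [Submodule.mem_bot]
  have hra' : f.stalkMap x r * a = 0 := hra
  have e : f.stalkMap x r * f.stalkMap x (algebraMap Γ(Y, V) _ (v : Γ(Y, V))) =
      algebraMap Γ(X, U) (X.presheaf.stalk x) (f.appLE V U hUV s) := by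
    rw [← map_mul, hsv]
    change f.stalkMap x (Y.presheaf.germ V (f x) hyV s) = X.presheaf.germ U x hxU _
    simp only [Scheme.Hom.germ_stalkMap_apply, Scheme.Hom.appLE, CommRingCat.comp_apply,
      TopCat.Presheaf.germ_res_apply]
  obtain ⟨⟨b, u⟩, hbu⟩ := IsLocalization.surj (hU.primeIdealOf ⟨x, hxU⟩).asIdeal.primeCompl a
  have h0 : algebraMap Γ(X, U) (X.presheaf.stalk x) (f.appLE V U hUV s * b) = 0 := by
    rw [map_mul, ← e, ← hbu]
    linear_combination (f.stalkMap x (algebraMap Γ(Y, V) _ (v : Γ(Y, V))) *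
      algebraMap Γ(X, U) (X.presheaf.stalk x) u) * hra'
  obtain ⟨w, hw⟩ := (IsLocalization.map_eq_zero_iff (hU.primeIdealOf ⟨x, hxU⟩).asIdeal.primeCompl _ _).1 h0
  have hwb : (w : Γ(X, U)) * b = 0 := (mem_nonZeroDivisors_iff_right.1 hnzd) _ (by linear_combination hw)
  have hb0 : algebraMap Γ(X, U) (X.presheaf.stalk x) b = 0 :=
    (IsLocalization.map_eq_zero_iff (hU.primeIdealOf ⟨x, hxU⟩).asIdeal.primeCompl _ _).2 ⟨w, hwb⟩
  rw [hb0] at hbu
  exact (IsLocalization.map_units _ u).mul_left_eq_zero.1 hbu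

end Groth.Agent.S10935
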