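import Groth.Statements.S10938
import Groth.Agent.TanRank.Alg
import Groth.Agent.VarDim.Top
import Mathlib.RingTheory.Jacobson.Ring
import Mathlib.AlgebraicGeometry.Noetherian
-- import your own Groth.Agent.* helpers here

set_option autoImplicit false
universe u
open CategoryTheory CategoryTheory.Limits AlgebraicGeometry
open Variety

namespace Groth.Agent.S10938

/-- At the generic point of a closed set in which the low rank points are dense, the image has small dimension. -/
theorem deg_le (k : Type u) [Field k] [IsAlgClosed k] [CharZero k]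
    {X Y : Scheme.{u}} (qX : X ⟶ Spec (CommRingCat.of k)) (qY : Y ⟶ Spec (CommRingCat.of k))
    [LocallyOfFiniteType qX] [LocallyOfFiniteType qY]
    (f : X ⟶ Y) (hf : f ≫ qY = qX) (r : ℕ) (η : X)
    (hη : ∀ U : X.Opens, η ∈ U → ∃ x ∈ U, η ⤳ x ∧ IsClosed ({x} : Set ↥X) ∧
      ∃ S : Finset (IsLocalRing.CotangentSpace (X.presheaf.stalk x)), S.card ≤ r ∧
        (LinearMap.range (FixPt.cotangentMapAt f x (f.base x) rfl) : Set (IsLocalRing.CotangentSpace (X.presheaf.stalk x))) ⊆
          (Submodule.span (IsLocalRing.ResidueField (X.presheaf.stalk x))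
            (S : Set (IsLocalRing.CotangentSpace (X.presheaf.stalk x))) : Set (IsLocalRing.CotangentSpace (X.presheaf.stalk x)))) :
    VarDim.deg qY (f.base η) ≤ r := by
  by_contra hlt
  obtain ⟨W, hW, hηW, -⟩ := exists_isAffineOpen_mem_and_subset (x := f η) (U := ⊤) trivial
  obtain ⟨U, hU, hηU, hUW⟩ := exists_isAffineOpen_mem_and_subset (x := η) (U := f ⁻¹ᵁ W) hηW
  let γX : CommRingCat.of k ⟶ Γ(X, U) := (Scheme.ΓSpecIso (CommRingCat.of k)).inv ≫ qX.appLE ⊤ U le_top
  let γY : CommRingCat.of k ⟶ Γ(Y, W) := (Scheme.ΓSpecIso (CommRingCat.of k)).inv ≫ qY.appLE ⊤ W le_top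
  letI : Algebra k Γ(X, U) := γX.hom.toAlgebra
  letI : Algebra k Γ(Y, W) := γY.hom.toAlgebra
  haveI : Algebra.FiniteType k Γ(X, U) := (qX.finiteType_appLE (isAffineOpen_top _) hU le_top).comp
    (RingHom.FiniteType.of_surjective _ (Scheme.ΓSpecIso (CommRingCat.of k)).symm.commRingCatIsoToRingEquiv.surjective)
  haveI : Algebra.FiniteType k Γ(Y, W) := (qY.finiteType_appLE (isAffineOpen_top _) hW le_top).comp
    (RingHom.FiniteType.of_surjective _ (Scheme.ΓSpecIso (CommRingCat.of k)).symm.commRingCatIsoToRingEquiv.surjective)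
  let φ : Γ(Y, W) →ₐ[k] Γ(X, U) :=
    { (f.appLE W U hUW).hom with
      commutes' := fun c => by
        show (γY ≫ f.appLE W U hUW).hom c = γX.hom c
        simp only [γX, γY, Category.assoc, Scheme.Hom.appLE_comp_appLE, hf] }
  let P := hU.primeIdealOf ⟨η, hηU⟩
  let q : PrimeSpectrum Γ(Y, W) := PrimeSpectrum.comap φ.toRingHom P
  have hq : hW.fromSpec q = f η := by
    have h1 := congrArg (fun φ : Spec Γ(X, U) ⟶ Y => φ P) (IsAffineOpen.SpecMap_appLE_fromSpec f hW hU hUW)
    simp only [Scheme.Hom.comp_apply] at h1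
    rw [hU.fromSpec_primeIdealOf ⟨η, hηU⟩] at h1
    exact h1
  obtain ⟨n, hn, hn'⟩ := VarDim.exists_dim_eq_trdeg k (Γ(Y, W) ⧸ q.asIdeal)
  have hdeg : r + 1 ≤ n := by
    have h1 := VarDim.deg_eq_coheight qY hW q
    rw [hq] at h1
    have h2 := VarDim.coheight_eq_ringKrullDim_quotient q
    rw [h1, hn] at h2
    have h3 : VarDim.deg qY (f η) = n := by exact_mod_cast h2
    rw [← h3]
    exact Nat.lt_of_not_le hlt
  obtain ⟨T, hT⟩ := exists_isTranscendenceBasis k (Γ(Y, W) ⧸ q.asIdeal)
  have hTc : ((r + 1 : ℕ) : Cardinal.{u}) ≤ Cardinal.mk T := by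
    rw [hT.cardinalMk_eq_trdeg, hn']
    exact_mod_cast hdeg
  obtain ⟨emb⟩ : Nonempty (ULift.{u} (Fin (r + 1)) ↪ T) := by
    rw [← Cardinal.le_def, Cardinal.mk_uLift, Cardinal.mk_fin, Cardinal.lift_natCast]
    exact hTc
  have hy := hT.1.comp _ (emb.injective.comp ULift.up_injective)
  choose y' hy' using fun i : Fin (r + 1) => Ideal.Quotient.mk_surjective (emb (ULift.up i)).1
  let φq : (Γ(Y, W) ⧸ q.asIdeal) →ₐ[k] (Γ(X, U) ⧸ P.asIdeal) :=
    Ideal.quotientMapₐ P.asIdeal φ le_rfl
  have hφq : Function.Injective φq := by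
    refine (injective_iff_map_eq_zero φq).2 fun a ha => ?_
    obtain ⟨a, rfl⟩ := Ideal.Quotient.mk_surjective a
    exact Ideal.Quotient.eq_zero_iff_mem.2 ((Ideal.Quotient.eq_zero_iff_mem (I := P.asIdeal)).1 ha :)
  obtain ⟨g, hg0, δ, hδ⟩ := TanRank.exists_derivations (k := k) (fun i => φq (Ideal.Quotient.mk _ (y' i))) (by
    have : (fun i => φq (Ideal.Quotient.mk _ (y' i))) = φq ∘ ((Subtype.val : T → _) ∘ (emb ∘ ULift.up)) :=
      funext fun i => congrArg φq (hy' i)
    rw [this]
    exact hy.map' hφq)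
  obtain ⟨g', rfl⟩ := Ideal.Quotient.mk_surjective g
  have hηg : η ∈ X.basicOpen g' := by
    have h1 : P ∈ hU.fromSpec ⁻¹ᵁ X.basicOpen g' := by
      rw [hU.fromSpec_preimage_basicOpen]
      exact fun h => hg0 (Ideal.Quotient.eq_zero_iff_mem.2 h)
    change hU.fromSpec P ∈ X.basicOpen g' at h1
    rwa [hU.fromSpec_primeIdealOf ⟨η, hηU⟩] at h1
  obtain ⟨x, hxg, hηx, hxc, S, hSr, hS⟩ := hη _ hηg
  have hxU : x ∈ U := X.basicOpen_le g' hxg
  let p := hU.primeIdealOf ⟨x, hxU⟩
  have hp : hU.fromSpec p = x := hU.fromSpec_primeIdealOf ⟨x, hxU⟩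
  have hPp : P.asIdeal ≤ p.asIdeal := by
    refine (PrimeSpectrum.le_iff_specializes P p).2 (hU.fromSpec.isOpenEmbedding.isInducing.specializes_iff.1 ?_)
    rw [hp, hU.fromSpec_primeIdealOf ⟨η, hηU⟩]
    exact hηx
  haveI : p.asIdeal.IsMaximal := (PrimeSpectrum.isClosed_singleton_iff_isMaximal p).1 (by
    have h1 := hxc.preimage hU.fromSpec.continuous
    have h2 : hU.fromSpec ⁻¹' {x} = {p} := Set.ext fun a =>
      ⟨fun ha => hU.fromSpec.isOpenEmbedding.injective ((ha : hU.fromSpec a = x).trans hp.symm), fun ha => by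
        rw [Set.mem_singleton_iff.1 ha]; exact hp⟩
    rw [h2] at h1
    exact h1)
  have hgp : g' ∉ p.asIdeal := by
    have h1 : p ∈ hU.fromSpec ⁻¹ᵁ X.basicOpen g' := by
      show hU.fromSpec p ∈ X.basicOpen g'
      rwa [hp]
    rw [hU.fromSpec_preimage_basicOpen] at h1
    exact h1
  letI := Ideal.Quotient.field p.asIdeal
  have hk : Function.Surjective (algebraMap k (Γ(X, U) ⧸ p.asIdeal)) := by
    haveI : Module.Finite k (Γ(X, U) ⧸ p.asIdeal) := finite_of_finite_type_of_isJacobsonRing k _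
    exact (IsAlgClosed.algebraMap_bijective_of_isIntegral (k := k)).2
  choose c hc using fun i : Fin (r + 1) => hk (Ideal.Quotient.mk _ (φ (y' i)))
  let e : Fin (r + 1) → Γ(X, U) := fun i => φ (y' i - algebraMap k _ (c i))
  have he : ∀ i, e i ∈ p.asIdeal := fun i => Ideal.Quotient.eq_zero_iff_mem.1 (by
    show Ideal.Quotient.mk p.asIdeal (φ (y' i - algebraMap k _ (c i))) = 0
    rw [map_sub, map_sub, φ.commutes, Ideal.Quotient.mk_algebraMap, hc, sub_self])
  letI := TopCat.Presheaf.algebra_section_stalk X.presheaf (U := U) ⟨x, hxU⟩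
  haveI : IsLocalization.AtPrime (X.presheaf.stalk x) p.asIdeal := hU.isLocalization_stalk ⟨x, hxU⟩
  have hmem : ∀ i, algebraMap Γ(X, U) (X.presheaf.stalk x) (e i) ∈ IsLocalRing.maximalIdeal _ := fun i =>
    (IsLocalization.AtPrime.to_map_mem_maximal_iff _ p.asIdeal _).2 (he i)
  let ε : Fin (r + 1) → Γ(X, U) →ₗ[k] Γ(X, U) ⧸ p.asIdeal := fun j =>
    (Ideal.Quotient.factorₐ k hPp).toLinearMap ∘ₗ (δ j).toLinearMap ∘ₗ (Ideal.Quotient.mkₐ k P.asIdeal).toLinearMap
  have hli := TanRank.linearIndependent_cotangent (L := X.presheaf.stalk x) p.asIdeal hk e he ε (fun j a b => by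
      show Ideal.Quotient.factorₐ k hPp (δ j (Ideal.Quotient.mkₐ k P.asIdeal (a * b))) = _
      rw [map_mul, (δ j).leibniz, map_add, smul_eq_mul, smul_eq_mul, map_mul, map_mul]
      rfl)
    (Ideal.Quotient.mk _ g') (fun h => hgp (Ideal.Quotient.eq_zero_iff_mem.1 h)) (fun i j => by
      show Ideal.Quotient.factorₐ k hPp (δ j (Ideal.Quotient.mk P.asIdeal (φ (y' i - algebraMap k _ (c i))))) = _
      have h1 : Ideal.Quotient.mk P.asIdeal (φ (y' i - algebraMap k _ (c i))) =
          φq (Ideal.Quotient.mk _ (y' i)) - algebraMap k _ (c i) := by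
        rw [map_sub, map_sub, φ.commutes]
        rfl
      rw [h1, map_sub, (δ j).map_algebraMap, sub_zero, hδ, apply_ite (Ideal.Quotient.factorₐ k hPp), map_zero]
      rfl) hmem
  have hrange : ∀ i, (IsLocalRing.maximalIdeal (X.presheaf.stalk x)).toCotangent ⟨_, hmem i⟩ ∈
      (LinearMap.range (FixPt.cotangentMapAt f x (f.base x) rfl) : Set (IsLocalRing.CotangentSpace (X.presheaf.stalk x))) := by
    intro i
    let b := Y.presheaf.germ W (f x) (hUW hxU) (y' i - algebraMap k _ (c i))
    have hb : FixPt.stalkMapAt f x (f x) rfl b = algebraMap Γ(X, U) (X.presheaf.stalk x) (e i) := by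
      show f.stalkMap x ((Y.presheaf.stalkCongr (Inseparable.of_eq rfl)).inv b) = X.presheaf.germ U x hxU (f.appLE W U hUW _)
      have hid : (Y.presheaf.stalkCongr (Inseparable.of_eq (rfl : f x = f x))).inv b = b := by
        simp [TopCat.Presheaf.stalkCongr]
      rw [hid, Scheme.Hom.germ_stalkMap_apply, Scheme.Hom.appLE, CommRingCat.comp_apply]
      exact (TopCat.Presheaf.germ_res_apply _ _ _ _ _).symm
    have hbm : b ∈ IsLocalRing.maximalIdeal (Y.presheaf.stalk (f x)) := by
      by_contra hb'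
      rw [IsLocalRing.mem_maximalIdeal, mem_nonunits_iff, not_not] at hb'
      exact (IsLocalRing.mem_maximalIdeal _).1 (hmem i) (hb ▸ hb'.map (FixPt.stalkMapAt f x (f x) rfl))
    refine ⟨(IsLocalRing.maximalIdeal _).toCotangent ⟨b, hbm⟩, ?_⟩
    show Ideal.mapCotangent _ _ _ _ _ = _
    rw [Ideal.mapCotangent_toCotangent]
    exact congrArg _ (Subtype.ext hb)
  have h1 := Submodule.finrank_mono (R := IsLocalRing.ResidueField (X.presheaf.stalk x))
    (Submodule.span_le.2 fun v hv => hS (by obtain ⟨i, rfl⟩ := hv; exact hrange i) :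
      Submodule.span _ (Set.range fun i => (IsLocalRing.maximalIdeal (X.presheaf.stalk x)).toCotangent ⟨_, hmem i⟩) ≤
        Submodule.span _ (S : Set (IsLocalRing.CotangentSpace (X.presheaf.stalk x))))
  rw [finrank_span_eq_card hli, Fintype.card_fin] at h1
  exact absurd ((h1.trans (finrank_span_finset_le_card S)).trans hSr) (Nat.not_succ_le_self r)

/-- Let k be an algebraically closed field of characteristic zero, X and Y schemes of finite type over
k, f : X → Y a k-morphism and r a natural number. Let X_r be the set of closed points x of X such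
that the tangent map T_x f : T_x X → T_{f(x)} Y has rank at most r — equivalently, the image of the
cotangent map m_{f(x)}/m_{f(x)}^2 → m_x/m_x^2 is contained in the span of at most r vectors over the
residue field. Then the closure of f(X_r) in Y has (topological Krull) dimension at most r. -/
theorem result (k : Type u) [Field k] [IsAlgClosed k] [CharZero k]
    {X Y : Scheme.{u}} (qX : X ⟶ Spec (CommRingCat.of k)) (qY : Y ⟶ Spec (CommRingCat.of k))
    [LocallyOfFiniteType qX] [QuasiCompact qX] [LocallyOfFiniteType qY] [QuasiCompact qY]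
    (f : X ⟶ Y) (hf : f ≫ qY = qX) (r : ℕ) :
    topologicalKrullDim ↥(closure (f.base '' {x : ↥X | IsClosed ({x} : Set ↥X) ∧
      ∃ S : Finset (IsLocalRing.CotangentSpace (X.presheaf.stalk x)), S.card ≤ r ∧
        (LinearMap.range (FixPt.cotangentMapAt f x (f.base x) rfl) : Set (IsLocalRing.CotangentSpace (X.presheaf.stalk x))) ⊆
          (Submodule.span (IsLocalRing.ResidueField (X.presheaf.stalk x))
            (S : Set (IsLocalRing.CotangentSpace (X.presheaf.stalk x))) : Set (IsLocalRing.CotangentSpace (X.presheaf.stalk x)))})) ≤ r := by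
  haveI : CompactSpace X := QuasiCompact.compactSpace_of_compactSpace qX
  haveI : IsLocallyNoetherian X := LocallyOfFiniteType.isLocallyNoetherian qX
  haveI : IsNoetherian X := ⟨⟩
  set Xr := {x : ↥X | IsClosed ({x} : Set ↥X) ∧ _}
  rw [VarDim.topologicalKrullDim_set_eq_iSup_deg qY isClosed_closure]
  refine iSup_le fun ⟨z, hz⟩ => ?_
  obtain ⟨Z, hZ, hmin⟩ := (wellFounded_lt (α := TopologicalSpace.Closeds X)).has_min
    {Z | z ∈ closure (f.base '' (Xr ∩ Z))} ⟨⊤, by simpa using hz⟩
  have heq : closure (Xr ∩ Z) = Z := by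
    refine (closure_minimal Set.inter_subset_right Z.isClosed).antisymm ?_
    by_contra hne
    refine hmin ⟨closure (Xr ∩ Z), isClosed_closure⟩ ?_ ⟨closure_minimal Set.inter_subset_right Z.isClosed, hne⟩
    exact closure_mono (Set.image_mono fun x hx => (⟨hx.1, subset_closure hx⟩ : x ∈ Xr ∩ closure (Xr ∩ Z))) hZ
  have hirr : IsIrreducible (Z : Set X) := by
    refine ⟨?_, ?_⟩
    · by_contra hne
      rw [Set.not_nonempty_iff_eq_empty] at hne
      change z ∈ closure _ at hZ
      simp [hne] at hZ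
    · rw [isPreirreducible_iff_isClosed_union_isClosed]
      intro A B hA hB hsub
      by_contra hno
      push Not at hno
      have key : ∀ A : Set X, IsClosed A → ¬ (Z : Set X) ⊆ A → z ∉ closure (f.base '' (Xr ∩ (Z ∩ A))) := fun A hA hne hzA =>
        hmin (Z ⊓ ⟨A, hA⟩) hzA ⟨inf_le_left, fun h => hne fun a ha => (h ha).2⟩
      have hZ' : z ∈ closure (f.base '' (Xr ∩ (Z ∩ A))) ∪ closure (f.base '' (Xr ∩ (Z ∩ B))) := by
        rw [← closure_union, ← Set.image_union, ← Set.inter_union_distrib_left, ← Set.inter_union_distrib_left,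
          Set.inter_eq_left.2 hsub]
        exact hZ
      exact hZ'.elim (key A hA hno.1) (key B hB hno.2)
  obtain ⟨η, hη⟩ := QuasiSober.sober hirr Z.isClosed
  have hzη : f.base η ⤳ z := by
    refine specializes_iff_mem_closure.2 (closure_minimal ?_ isClosed_closure hZ)
    rintro _ ⟨x, hx, rfl⟩
    exact specializes_iff_mem_closure.1 ((hη.specializes hx.2).map f.continuous)
  have h1 : VarDim.deg qY (f.base η) ≤ r := deg_le k qX qY f hf r η fun U hU => by
    have h2 : η ∈ closure (Xr ∩ Z) := heq.symm ▸ hη.mem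
    obtain ⟨x, hxU, hxr, hxZ⟩ := mem_closure_iff.1 h2 U U.isOpen hU
    exact ⟨x, hxU, hη.specializes hxZ, hxr⟩
  exact_mod_cast le_trans (VarDim.deg_le_of_specializes qY hzη) h1

end Groth.Agent.S10938
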