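import Groth.Statements.S10939
import Groth.Agent.ProjAvoid.Basic

set_option autoImplicit false
set_option backward.isDefEq.respectTransparency false
set_option backward.isDefEq.respectTransparency.types false
set_option linter.style.haveILetI false
universe u
open CategoryTheory CategoryTheory.Limits AlgebraicGeometry
open Variety

namespace Groth.Agent.S10939
open Groth.Agent

/-- Let k be a field, P = P^n_k = Proj k[x_0, …, x_n], and i_X : X → P, i_Y : Y → P closed immersions
with X of dimension r. Then there are homogeneous polynomials h_1, …, h_{r+1} of positive degree,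
with basic opens D_j = D_+(h_j) and hypersurfaces H_j = P ∖ D_j, such that every H_j contains Y and
X ∖ Y = ⋃_j (X ∖ H_j), i.e. every point of X outside Y lies in some D_j; moreover each X ∖ H_j = X ∩
D_j is affine. (The published statement takes X and Y reduced; the assertion only concerns the
underlying closed sets.) -/
theorem result (k : Type u) [Field k] (n r : ℕ)
    {X Y : Scheme.{u}} (iX : X ⟶ CohB1.ProjSpace n k) (iY : Y ⟶ CohB1.ProjSpace n k)
    [IsClosedImmersion iX] [IsClosedImmersion iY] (hX : topologicalKrullDim ↥X = r) :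
    ∃ (h : Fin (r + 1) → MvPolynomial (Fin (n + 1)) k) (D : Fin (r + 1) → (CohB1.ProjSpace n k).Opens),
      (∀ j, D j = Proj.basicOpen (CohB1.polyGrading n k) (h j)) ∧
      (∀ j, ∃ d : ℕ, 0 < d ∧ (h j).IsHomogeneous d) ∧
      (∀ j, Set.range iY.base ⊆ (D j : Set ↥(CohB1.ProjSpace n k))ᶜ) ∧
      (Set.range iX.base \ Set.range iY.base ⊆ ⋃ j, (D j : Set ↥(CohB1.ProjSpace n k))) ∧
      ∀ j, IsAffineOpen (iX ⁻¹ᵁ (D j)) := by
  have hr : topologicalKrullDim (Set.range iX.base) ≤ (r : WithBot ℕ∞) := by
    rw [← hX, IsHomeomorph.topologicalKrullDim_eq _ iX.isClosedEmbedding.isEmbedding.toHomeomorph.isHomeomorph]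
  obtain ⟨h, hd, hY, hcov⟩ := ProjAvoid.exists_hypersurfaces iX.isClosedEmbedding.isClosed_range
    iY.isClosedEmbedding.isClosed_range hr
  refine ⟨h, fun j => Proj.basicOpen (CohB1.polyGrading n k) (h j), fun j => rfl, fun j => ?_, fun j => ?_, ?_, fun j => ?_⟩
  · obtain ⟨d, hd0, hd⟩ := hd j
    exact ⟨d, hd0, hd⟩
  · exact fun y hy => hY j y hy
  · rintro x ⟨hx, hxY⟩
    obtain ⟨j, hj⟩ := hcov x hx hxY
    exact Set.mem_iUnion.2 ⟨j, hj⟩
  · obtain ⟨d, hd0, hd⟩ := hd j
    exact (Proj.isAffineOpen_basicOpen (CohB1.polyGrading n k) (h j) hd hd0).preimage iX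

end Groth.Agent.S10939
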