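import Groth.Statements.S10940
import Groth.Agent.ProjAvoid.Basic
import Groth.Agent.DimOne.Completion

set_option autoImplicit false
set_option backward.isDefEq.respectTransparency false
set_option backward.isDefEq.respectTransparency.types false
set_option linter.style.haveILetI false
universe u
open CategoryTheory CategoryTheory.Limits AlgebraicGeometry
open Variety

namespace Groth.Agent.S10940
open Groth.Agent

/-- Let k be a field and X a quasi-projective variety over k of dimension r: an integral scheme with an
immersion j : X → P^n_k. Then X admits a cover by r + 1 affine open subschemes. (Consequently the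
cohomology of every quasi-coherent O_X-module vanishes above degree r; that consequence is the
general vanishing above the number of affines in a cover and is not restated here. The published
statement is for varieties over an algebraically closed field; the argument, r + 1 hypersurfaces
through the boundary of the closure of X, works over any field, so k is an arbitrary field here.) -/
theorem result (k : Type u) [Field k] (n r : ℕ)
    {X : Scheme.{u}} (j : X ⟶ CohB1.ProjSpace n k) [IsImmersion j] [IsIntegral X]
    (hX : topologicalKrullDim ↥X = r) :
    ∃ U : Fin (r + 1) → X.Opens, (∀ i, IsAffineOpen (U i)) ∧ ⨆ i, U i = ⊤ := by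
  let P := CohB1.ProjSpace n k
  haveI : IsProper (CohB1.ProjSpace.toSpec n k) := PnCoh.Chow.isProper_toSpec n k
  haveI : IsLocallyNoetherian P := LocallyOfFiniteType.isLocallyNoetherian (CohB1.ProjSpace.toSpec n k)
  haveI : IsNoetherian P := Proj16.isNoetherian_proj _
  haveI : TopologicalSpace.NoetherianSpace X := j.isEmbedding.isInducing.noetherianSpace
  haveI : QuasiCompact j := ⟨fun U _ _ => TopologicalSpace.NoetherianSpace.isCompact _⟩
  let g : j.image ⟶ Spec (CommRingCat.of k) := j.imageι ≫ CohB1.ProjSpace.toSpec n k
  haveI : IsProper g := inferInstance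
  haveI : IsNoetherian j.image := by
    haveI : IsLocallyNoetherian j.image := LocallyOfFiniteType.isLocallyNoetherian g
    haveI : CompactSpace j.image := QuasiCompact.compactSpace_of_compactSpace g
    exact {}
  have hd : Dense (Set.range j.toImage) := j.toImage.denseRange
  have hle : topologicalKrullDim j.image ≤ (r : WithBot ℕ∞) :=
    (DimOne.topologicalKrullDim_le_of_dense k g j.toImage hd).trans hX.le
  have hr : topologicalKrullDim (Set.range j.imageι.base) ≤ (r : WithBot ℕ∞) := by
    rwa [← IsHomeomorph.topologicalKrullDim_eq _ j.imageι.isClosedEmbedding.isEmbedding.toHomeomorph.isHomeomorph]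
  let Y : Set P := j.imageι.base '' (Set.range j.toImage)ᶜ
  have hY : IsClosed Y :=
    j.imageι.isClosedEmbedding.isClosedMap _ j.toImage.isOpenEmbedding.isOpen_range.isClosed_compl
  obtain ⟨h, hh, hYh, hcov⟩ := ProjAvoid.exists_hypersurfaces j.imageι.isClosedEmbedding.isClosed_range hY hr
  refine ⟨fun i => j ⁻¹ᵁ Proj.basicOpen (CohB1.polyGrading n k) (h i), fun i => ?_, ?_⟩
  · obtain ⟨d, hd0, hd⟩ := hh i
    have haff := (Proj.isAffineOpen_basicOpen (CohB1.polyGrading n k) (h i) hd hd0).preimage j.imageι
    have := haff.preimage_of_isOpenImmersion j.toImage fun z hz => by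
      by_contra hzr
      exact hYh i _ ⟨z, hzr, rfl⟩ hz
    rw [← Scheme.Hom.comp_preimage, j.toImage_imageι] at this
    exact this
  · refine top_le_iff.1 fun x _ => ?_
    have hx : j.imageι.base (j.toImage x) = j x := by rw [← Scheme.Hom.comp_apply, j.toImage_imageι]
    obtain ⟨i, hi⟩ := hcov (j x) ⟨_, hx⟩ fun ⟨z, hz, hzx⟩ =>
      hz ⟨x, (j.imageι.isClosedEmbedding.injective (hzx.trans hx.symm)).symm⟩
    exact TopologicalSpace.Opens.mem_iSup.2 ⟨i, hi⟩

end Groth.Agent.S10940
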