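import Groth.Statements.S10942
import Groth.Agent.ExtShX.Flasque

set_option autoImplicit false
set_option backward.isDefEq.respectTransparency false
set_option backward.isDefEq.respectTransparency.types false
universe u
open CategoryTheory AlgebraicGeometry Opposite
open Coherent

namespace Groth.Agent.S10942

/-- Let X be a scheme, F an O_X-module for which the internal Hom functor Hom(F, -) exists (as the right
adjoint of F ⊗ -; always true) and I an injective object of the category of O_X-modules. Then the
O_X-module Hom(F, I) is flasque: for all opens U ⊆ V of X the restriction map Hom(F, I)(V) → Hom(F,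
I)(U) is surjective. -/
theorem result (X : Scheme.{u}) (F I : X.Modules)
    [DCoh.HasSheafHom F] (hI : Injective I) (U V : X.Opens) (hUV : U ≤ V) :
    Function.Surjective (((DCoh.sheafHom F).obj I).val.map (homOfLE hUV).op).hom := by
  haveI := hI
  let adj' : (DCoh.tensorBi.flip.obj F : X.Modules ⥤ X.Modules) ⊣ DCoh.sheafHom F :=
    (DCoh.sheafHomAdj F).ofNatIsoLeft ((KFlatLib.tensorBiFlipIso X).app F).symm
  haveI : ModSite.HasSheafHom (O := X.sheaf) F := ⟨_, ⟨adj'⟩⟩
  let r : (DCoh.sheafHom F).obj I ≅ (ExtShX.SH F).obj I :=
    (adj'.rightAdjointUniq (ModSite.sheafHomAdj (O := X.sheaf) F)).app I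
  have hi : ∀ (W : X.Opens) (s : Γ((DCoh.sheafHom F).obj I, W)),
      r.inv.app W (r.hom.app W s) = s := fun W s => by
    have h := congrArg (fun k : (DCoh.sheafHom F).obj I ⟶ (DCoh.sheafHom F).obj I => k.app W s) r.hom_inv_id
    exact h
  intro s
  obtain ⟨t, ht⟩ := ExtShX.surjective_map_of_injective F I U V hUV (r.hom.app U s)
  refine ⟨r.inv.app V t, ?_⟩
  exact ((ConcreteCategory.congr_hom (r.inv.mapPresheaf.naturality (homOfLE hUV).op) t).symm).trans
    ((congrArg (r.inv.app U) ht).trans (hi U s))

end Groth.Agent.S10942
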