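import Groth.Statements.S10946
import Groth.Agent.CohLimX.Basic

set_option autoImplicit false
set_option linter.style.haveILetI false
set_option backward.isDefEq.respectTransparency false
set_option backward.isDefEq.respectTransparency.types false
universe u
open CategoryTheory AlgebraicGeometry
open Coherent

namespace Groth.Agent.S10946

/-- Let X be a Noetherian separated scheme and n a natural number such that H^i(X, F) = 0 for all
coherent O_X-modules F and all i > n. Then H^i(X, G) = 0 for all quasi-coherent O_X-modules G and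
all i > n. -/
theorem result (X : Scheme.{u}) [IsNoetherian X]
    [X.IsSeparated] (n : ℕ)
    (h : ∀ F : X.Modules, Coh.IsCoh F → ∀ i : ℕ, n < i → Subsingleton (Coh.HH X F i))
    (G : X.Modules) (hG : Coh.IsQCoh G) (i : ℕ) (hi : n < i) :
    Subsingleton (Coh.HH X G i) := by
  obtain ⟨p, rfl⟩ := Nat.exists_eq_succ_of_ne_zero (Nat.ne_zero_of_lt hi)
  classical
  haveI : CompactSpace X := inferInstance
  obtain ⟨s, hsf, hs⟩ : ∃ s : Set X.Opens, s.Finite ∧ (∀ W ∈ s, IsAffineOpen W) ∧ ⋃ W ∈ s, (W : Set X) = Set.univ := by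
    obtain ⟨t, ht⟩ := isCompact_univ.elim_finite_subcover (fun W : X.affineOpens => (W.1 : Set X)) (fun W => W.1.2)
      (fun x _ => by
        obtain ⟨_, ⟨W, hW, rfl⟩, hx, -⟩ := X.isBasis_affineOpens.exists_subset_of_mem_open (Set.mem_univ x) isOpen_univ
        exact Set.mem_iUnion.2 ⟨⟨W, hW⟩, hx⟩)
    exact ⟨Subtype.val '' (t : Set X.affineOpens), t.finite_toSet.image _, fun W ⟨V, _, hV⟩ => hV ▸ V.2,
      Set.eq_univ_of_univ_subset fun x hx => by
        obtain ⟨V, hV, hxV⟩ := Set.mem_iUnion₂.1 (ht hx)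
        exact Set.mem_biUnion ⟨V, hV, rfl⟩ hxV⟩
  haveI : Finite s := hsf.to_subtype
  let U : s → X.Opens := Subtype.val
  have hcov : ⨆ W, U W = ⊤ := TopologicalSpace.Opens.ext (by
    rw [TopologicalSpace.Opens.coe_iSup, TopologicalSpace.Opens.coe_top, ← hs.2, Set.biUnion_eq_iUnion])
  haveI := Fintype.ofFinite s
  have hU : ∀ {q : ℕ} (σ : Fin (q + 1) → s), IsAffineOpen (⨅ a, U (σ a)) := fun σ =>
    QCoh.isAffineOpen_iInf_tuple (fun t ht => by
      obtain ⟨i₀, hi₀⟩ := ht
      induction t using Finset.induction_on generalizing i₀ with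
      | empty => exact absurd hi₀ (Finset.notMem_empty _)
      | insert a t' _ ih =>
        rw [Finset.iInf_insert]
        rcases t'.eq_empty_or_nonempty with rfl | ⟨i₁, hi₁⟩
        · simpa using hs.1 _ a.2
        · exact (hs.1 _ a.2).inf (ih i₁ hi₁)) σ
  have hG' : ∀ c : QCoh.Ab.Cochain G.presheaf U (p + 2), QCoh.Ab.IsNatural c → QCoh.Ab.d c = 0 →
      ∃ b : QCoh.Ab.Cochain G.presheaf U (p + 1), QCoh.Ab.IsNatural b ∧ QCoh.Ab.d b = c := by
    refine CohLimX.exists_boundary hG U hU p fun F hF c hc hd => ?_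
    obtain ⟨e⟩ := QCoh.cechH_equiv_HH U hcov hU hF.1 (p + 1)
    haveI := h F hF (p + 1) hi
    haveI : Subsingleton (CohB1.cechH U F (p + 1)) := e.toEquiv.subsingleton
    have hz : (((cechComplexFunctor U).obj F.presheaf).ExactAt (p + 1)) := by
      rw [HomologicalComplex.exactAt_iff_isZero_homology]
      haveI : Subsingleton (((cechComplexFunctor U).obj F.presheaf).homology (p + 1)) := ‹Subsingleton (CohB1.cechH U F (p + 1))›
      exact AddCommGrpCat.isZero_of_subsingleton _
    rw [HomologicalComplex.exactAt_iff_isZero_homology,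
      ← (HomologicalComplex.homologyMapIso (QCoh.Ab.cechIso F.presheaf U) (p + 1)).isZero_iff,
      ← HomologicalComplex.exactAt_iff_isZero_homology,
      HomologicalComplex.exactAt_iff' _ p (p + 1) (p + 2) (by simp) (by simp),
      ShortComplex.ab_exact_iff] at hz
    simp only [HomologicalComplex.sc', HomologicalComplex.shortComplexFunctor'_obj_f,
      HomologicalComplex.shortComplexFunctor'_obj_g, QCoh.Ab.natCx_d] at hz
    obtain ⟨b, hb⟩ := hz ⟨c, hc⟩ (Subtype.ext hd)
    exact ⟨b.1, b.2, congrArg Subtype.val hb⟩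
  obtain ⟨e⟩ := QCoh.cechH_equiv_HH U hcov hU hG (p + 1)
  have hz : ((cechComplexFunctor U).obj G.presheaf).ExactAt (p + 1) := by
    rw [HomologicalComplex.exactAt_iff_isZero_homology,
      ← (HomologicalComplex.homologyMapIso (QCoh.Ab.cechIso G.presheaf U) (p + 1)).isZero_iff,
      ← HomologicalComplex.exactAt_iff_isZero_homology,
      HomologicalComplex.exactAt_iff' _ p (p + 1) (p + 2) (by simp) (by simp),
      ShortComplex.ab_exact_iff]
    simp only [HomologicalComplex.sc', HomologicalComplex.shortComplexFunctor'_obj_f,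
      HomologicalComplex.shortComplexFunctor'_obj_g, QCoh.Ab.natCx_d]
    intro c hd
    obtain ⟨b, hbn, hb⟩ := hG' c.1 c.2 (congrArg Subtype.val hd)
    exact ⟨⟨b, hbn⟩, Subtype.ext hb⟩
  haveI : Subsingleton (CohB1.cechH U G (p + 1)) := AddCommGrpCat.subsingleton_of_isZero
    ((HomologicalComplex.exactAt_iff_isZero_homology _ _).1 hz)
  exact e.symm.toEquiv.subsingleton

end Groth.Agent.S10946
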