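import Groth.Statements.S10947
import Groth.Agent.S1108
import Groth.Agent.AmpleVan.Pull
import Groth.Agent.NormX.Compactify
import Groth.Agent.QCoh.Bound
import Groth.Agent.PnCoh.Finite.SerreVanishing
import Groth.Agent.QCoh.LocFree

set_option autoImplicit false
set_option backward.isDefEq.respectTransparency false
set_option backward.isDefEq.respectTransparency.types false
universe u
open CategoryTheory AlgebraicGeometry
open Coherent

open CategoryTheory.Limits
namespace Groth.Agent.S10947

/-- Let k be a field and X a quasi-projective scheme over k, given with an immersion ι : X → P^N_k into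
a projective space. If n is a natural number with H^i(X, E) = 0 for all finite locally free
O_X-modules E and all i > n, then H^i(X, F) = 0 for all coherent O_X-modules F (quasi-coherent of
finite type) and all i > n. -/
theorem result
    (k : Type u) [Field k] (N : ℕ) {X : Scheme.{u}} (ι : X ⟶ CohB1.ProjSpace N k) [IsImmersion ι]
    (n : ℕ) (h : ∀ E : X.Modules, FlatMod.IsFinLocFree E → ∀ i : ℕ, n < i → Subsingleton (Coh.HH X E i))
    (F : X.Modules) (hF : Coh.IsCoh F) (i : ℕ) (hi : n < i) :
    Subsingleton (Coh.HH X F i) := by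
  haveI : IsProper (CohB1.ProjSpace.toSpec N k) := Groth.Agent.PnCoh.Chow.isProper_toSpec N k
  haveI : IsLocallyNoetherian (CohB1.ProjSpace N k) := LocallyOfFiniteType.isLocallyNoetherian (CohB1.ProjSpace.toSpec N k)
  haveI : CompactSpace (CohB1.ProjSpace N k) := QuasiCompact.compactSpace_of_compactSpace (CohB1.ProjSpace.toSpec N k)
  haveI : IsNoetherian (CohB1.ProjSpace N k) := ⟨⟩
  haveI : TopologicalSpace.NoetherianSpace X := ι.isEmbedding.isInducing.noetherianSpace
  haveI : IsLocallyNoetherian X := LocallyOfFiniteType.isLocallyNoetherian ι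
  haveI : CompactSpace X := inferInstance
  haveI : IsNoetherian X := ⟨⟩
  have hA : CohB1.IsAmple ((Scheme.Modules.pullback ι).obj (Twist.twistProjSpace N k 1)) :=
    Groth.Agent.AmpleVan.isAmple_pullback_of_isEmbedding ι ι.isEmbedding
      (Groth.Agent.NormX.isAmple_projSpace_twist N k)
  obtain ⟨d, hd⟩ := Groth.Agent.QCoh.exists_HH_bound (X := X)
  have key : ∀ m i : ℕ, n < i → d ≤ i + m → ∀ G : X.Modules, Coh.IsCoh G → Subsingleton (Coh.HH X G i) := by
    intro m
    induction m with
    | zero => exact fun i _ hdi G hG => hd G hG.1 i hdi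
    | succ m ih =>
      intro i hi hdi G hG
      obtain ⟨E, π, hE, hπ⟩ := Groth.Agent.S1108.result X _ hA G hG.1 hG.2
      haveI := hπ
      let S : ShortComplex X.Modules := ShortComplex.mk (kernel.ι π) π (kernel.condition π)
      have hS : S.ShortExact := .mk' (ShortComplex.exact_kernel π) inferInstance hπ
      have hEc : Coh.IsCoh E := ⟨Groth.Agent.QCoh.isQCoh_of_isFinLocFree hE,
        Groth.Agent.QCoh.isFT_of_isFP (Groth.Agent.QCoh.isFP_of_isFinLocFree hE)⟩
      have hK : Coh.IsCoh (kernel π) :=
        Groth.Agent.QCoh.isCoh_of_mono (kernel.ι π) hEc (Groth.Agent.QCoh.isQCoh_kernel hEc.1 hG.1 π)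
      exact Groth.Agent.PnCoh.Finite.subsingleton_HH_X₃ hS i (h E hE i hi) (ih (i + 1) (by omega) (by omega) _ hK)
  exact key d i hi (by omega) F hF

end Groth.Agent.S10947
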