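import Groth.Statements.S10949
import Groth.Agent.VBPnX.FinGen
-- import your own Groth.Agent.* helpers here

set_option autoImplicit false
set_option backward.isDefEq.respectTransparency false
set_option backward.isDefEq.respectTransparency.types false
universe u
open CategoryTheory CategoryTheory.Limits AlgebraicGeometry
open Coherent

open CategoryTheory CategoryTheory.Limits AlgebraicGeometry

namespace Groth.Agent.S10949

/-- Let f : X → Y be a finite surjective morphism of integral Noetherian schemes and F a coherent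
O_Y-module (quasi-coherent of finite type). Then there are an integer r ≥ 1, a coherent O_X-module G
and a morphism of O_Y-modules β : f_*G → F^r (the coproduct of r copies of F) such that the map
induced by β on stalks of the underlying abelian sheaves at the generic point of Y is an
isomorphism. -/
theorem result
    {X Y : Scheme.{u}} [IsIntegral X] [IsNoetherian X] [IsIntegral Y] [IsNoetherian Y]
    (f : X ⟶ Y) [IsFinite f] [Surjective f] (F : Y.Modules) (hF : Coh.IsCoh F) :
    ∃ (r : ℕ) (G : X.Modules) (β : (Scheme.Modules.pushforward f).obj G ⟶ ∐ fun _ : ULift.{u} (Fin r) => F),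
      0 < r ∧ Coh.IsCoh G ∧
      IsIso ((TopCat.Presheaf.stalkFunctor AddCommGrpCat.{u} (genericPoint ↥Y)).map
        ((SheafOfModules.toSheaf Y.ringCatSheaf).map β).hom) := by
  have hO : Coh.IsCoh ((Scheme.Modules.pushforward f).obj (Coh.structureModule X)) :=
    QCoh.isCoh_pushforward_finite f QCoh.isCoh_structureModule'
  obtain ⟨V₁, r, hV₁, ⟨e₁⟩⟩ := VBPnX.FinGen.exists_free_generic hO
  obtain ⟨V₂, d, hV₂, ⟨e₂⟩⟩ := VBPnX.FinGen.exists_free_generic hF
  let V : Y.Opens := V₁ ⊓ V₂
  have hV : genericPoint Y ∈ V := ⟨hV₁, hV₂⟩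
  obtain ⟨e⟩ := VBPnX.FinGen.nonempty_free_of_le (inf_le_left : V ≤ V₁) e₁
  obtain ⟨eF⟩ := VBPnX.FinGen.nonempty_free_of_le (inf_le_right : V ≤ V₂) e₂
  obtain ⟨φ⟩ := VBPnX.FinGen.nonempty_push_free f e eF
  let I : Y.IdealSheafData := Scheme.IdealSheafData.vanishingIdeal ⟨(V : Set Y)ᶜ, V.2.isClosed_compl⟩
  have hU : (V : Set Y) = (I.support : Set Y)ᶜ := by
    simp [I, Scheme.IdealSheafData.coe_support_vanishingIdeal]
  have hG₀ := VBPnX.FinGen.isCoh_freeMod (X := X) d
  have hP := QCoh.isCoh_pushforward_finite f hG₀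
  have hFr : Coh.IsQCoh (∐ fun _ : ULift.{u} (Fin r) => F : Y.Modules) := QCoh.isQCoh_colimit (Discrete.functor fun _ : ULift.{u} (Fin r) => F) fun _ => hF.1
  obtain ⟨n, ψ, hψ⟩ := QCoh.exists_hom_idealPow hFr hP I V hU φ.hom
  obtain ⟨ee, hee⟩ := VBPnX.FinGen.exists_iso_idealMul_push f (FlatMod.freeMod X d) hG₀.1 (I ^ n)
  refine ⟨r, (Dual3.idealMul ((I ^ n).comap f)).obj (FlatMod.freeMod X d), ee.inv ≫ ψ,
    VBPnX.FinGen.pos_rank f hV e, QCoh.isCoh_of_mono (Dual3.idealMulι _ _) hG₀ (QCoh.isQCoh_idealMul _ hG₀.1), ?_⟩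
  haveI : IsIso ((Scheme.Modules.restrictFunctor V.ι).map (Dual3.idealMulι (I ^ n)
      ((Scheme.Modules.pushforward f).obj (FlatMod.freeMod X d)))) := by
    refine VBPnX.FinGen.isIso_restrict_idealMulι (I ^ n) hP.1 V fun y hy hyI => ?_
    have hyI' : y ∈ I.support := by
      rcases Nat.eq_zero_or_pos n with rfl | hn
      · exact absurd (show y ∈ (∅ : Set Y) from hyI) (Set.notMem_empty y)
      · simpa [Scheme.IdealSheafData.support_pow _ _ hn.ne'] using hyI
    exact (hU.le hy) hyI'
  haveI : IsIso ((Scheme.Modules.restrictFunctor V.ι).map ψ) := by rw [hψ]; infer_instance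
  haveI : IsIso ((Scheme.Modules.restrictFunctor V.ι).map (ee.inv ≫ ψ)) := by
    rw [Functor.map_comp]; infer_instance
  exact VBPnX.FinGen.isIso_stalk_of_isIso_restrict (ee.inv ≫ ψ) V hV

end Groth.Agent.S10949
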