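import Groth.Statements.S10961
import Groth.Agent.AssPtX.Regular

set_option autoImplicit false
universe u
open CategoryTheory AlgebraicGeometry TopologicalSpace
open Mero

namespace Groth.Agent.S10961

open Groth.Agent TopologicalSpace

variable {X : Scheme.{u}}

theorem mem_components_iff (x : X) :
    closure ({x} : Set X) ∈ irreducibleComponents (X : Type u) ↔ ∀ z : X, z ⤳ x → z = x := by
  rw [irreducibleComponents_eq_maximals_closed]
  constructor
  · intro h z hz
    have h1 : closure ({x} : Set X) ⊆ closure {z} := specializes_iff_closure_subset.mp hz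
    have h2 := h.2 ⟨isClosed_closure, isIrreducible_singleton.closure⟩ h1
    exact (hz.antisymm (specializes_iff_closure_subset.mpr h2)).eq
  · intro h
    refine ⟨⟨isClosed_closure, isIrreducible_singleton.closure⟩, fun Z hZ hle => ?_⟩
    obtain ⟨z, hz⟩ := QuasiSober.sober hZ.2 hZ.1
    have hzx : z ⤳ x := by
      refine specializes_iff_mem_closure.mpr ?_
      rw [hz.def]
      exact hle (subset_closure rfl)
    rw [h z hzx] at hz
    exact hz.def.ge

theorem isField_stalk [IsReduced X] {y : X} (hy : ∀ z : X, z ⤳ y → z = y) :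
    IsField (X.presheaf.stalk y) := by
  obtain ⟨V, hV, hyV, -⟩ := exists_isAffineOpen_mem_and_subset (x := y) (U := ⊤) trivial
  letI := QCoh.stalkAlg (X := X) hyV
  haveI := QCoh.isLocalization_stalk' hV hyV
  rw [IsLocalRing.isField_iff_maximalIdeal_eq, eq_bot_iff, ← Ideal.zero_eq_bot]
  intro g hg
  have hall : ∀ q : Ideal (X.presheaf.stalk y), q.IsPrime → q = IsLocalRing.maximalIdeal _ := by
    intro q hq
    refine le_antisymm (IsLocalRing.le_maximalIdeal hq.ne_top) ?_
    obtain ⟨z, hz, hzq⟩ := QCoh.exists_point hV ⟨q.comap (algebraMap Γ(X, V) _), Ideal.IsPrime.comap _⟩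
    have hzle : (hV.primeIdealOf ⟨z, hz⟩).asIdeal ≤ (hV.primeIdealOf ⟨y, hyV⟩).asIdeal := by
      rw [hzq, ← IsLocalization.AtPrime.comap_maximalIdeal (X.presheaf.stalk y) (hV.primeIdealOf ⟨y, hyV⟩).asIdeal]
      exact Ideal.comap_mono (IsLocalRing.le_maximalIdeal hq.ne_top)
    have hzy := hy z ((AssPtX.primeIdealOf_le_iff hV hz hyV).1 hzle)
    subst hzy
    have h1 : q.comap (algebraMap Γ(X, V) (X.presheaf.stalk z)) = (hV.primeIdealOf ⟨z, hz⟩).asIdeal := by
      rw [hzq]
    conv_rhs => rw [← IsLocalization.map_comap (hV.primeIdealOf ⟨z, hz⟩).asIdeal.primeCompl _ q]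
    rw [Ideal.under, h1]
    exact (IsLocalization.AtPrime.map_eq_maximalIdeal _ _).ge
  have hnil : IsNilpotent g := by
    rw [← mem_nilradical, nilradical_eq_sInf, Submodule.mem_sInf]
    intro q hq
    rw [hall q hq]
    exact hg
  exact hnil.eq_zero

theorem eq_zero_of_generic [IsReduced X] {U : X.Opens} (a : Γ(X, U))
    (h : ∀ (y : X) (hy : y ∈ U), (∀ z : X, z ⤳ y → z = y) → X.presheaf.germ U y hy a = 0) : a = 0 := by
  refine AssPtX.eq_zero_of_germ (F := Coh.structureModule X) (U := U) QCoh.isQCoh_structureModule a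
    fun y hy hya => ?_
  have h1 := h y hy ((AssPtX.isWeakAssPoint_structureModule_iff QCoh.isQCoh_structureModule y).mp hya)
  obtain ⟨W, hyW, i, j, hW⟩ := TopCat.Presheaf.germ_eq X.presheaf y hy hy _ 0 (h1.trans (map_zero _).symm)
  rw [map_zero] at hW
  rw [← (Coh.structureModule X).presheaf.germ_res_apply i y hyW]
  exact (congrArg _ hW).trans (map_zero ((Coh.structureModule X).presheaf.germ W y hyW).hom)

theorem isUnit_regStalk [IsReduced X] {y : X} (hy : ∀ z : X, z ⤳ y → z = y) (b : Mero.regStalk X y) :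
    IsUnit (b : X.presheaf.stalk y) :=
  AssPtX.isUnit_of_mem_nonZeroDivisors y hy (Mero.regStalk_le_nonZeroDivisors y b.2)


/-- Let X be a reduced scheme with only finitely many irreducible components, with generic points x_1,
…, x_r, and let U be an open subset of X. Then the ring of sections over U of the sheaf of
meromorphic functions K_X maps bijectively, by evaluation, onto the product of the rings K_{X,x_i}
over those generic points x_i that lie in U; moreover for each generic point x_i the local ring of X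
at x_i is a field and maps bijectively onto K_{X,x_i}, so that K_{X,x_i} is the residue field of
x_i. (The hypothesis holds for every Noetherian scheme; for X integral it says that K_X is the
constant sheaf with value the function field.) -/
theorem result
    (X : Scheme.{u}) [IsReduced X] (hfin : (irreducibleComponents (X : Type u)).Finite) (U : X.Opens) :
    Function.Bijective (fun s : Γ(Mero.kmod X, U) =>
      fun x : {x : U // closure ({x.1} : Set X) ∈ irreducibleComponents (X : Type u)} =>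
        Mero.evalK X U x.1 s) ∧
    (∀ x : X, closure ({x} : Set X) ∈ irreducibleComponents (X : Type u) →
      IsField (X.presheaf.stalk x) ∧
        Function.Bijective (algebraMap (X.presheaf.stalk x) (Mero.KStalk X x))) := by
  classical
  have hfield : ∀ x : X, (∀ z : X, z ⤳ x → z = x) →
      Function.Bijective (algebraMap (X.presheaf.stalk x) (Mero.KStalk X x)) := fun x hx =>
    ⟨Mero.algebraMap_KStalk_injective x, fun y => by
      obtain ⟨⟨a, b⟩, hab⟩ := IsLocalization.surj (Mero.regStalk X x) y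
      obtain ⟨u, hu⟩ := isUnit_regStalk hx b
      refine ⟨a * ↑u⁻¹, ?_⟩
      apply (IsLocalization.map_units (Mero.KStalk X x) b).mul_left_injective
      show algebraMap _ _ (a * ↑u⁻¹) * algebraMap _ _ (b : X.presheaf.stalk x) = _
      rw [← map_mul, ← hu, mul_assoc, Units.inv_mul, mul_one]
      exact (by rw [hu]; exact hab.symm)⟩
  refine ⟨⟨fun f g hfg => ?_, fun v => ?_⟩, fun x hx =>
    ⟨isField_stalk ((mem_components_iff x).mp hx), hfield x ((mem_components_iff x).mp hx)⟩⟩
  · rw [← sub_eq_zero]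
    refine Subtype.ext (funext fun x => ?_)
    obtain ⟨W, hxW, i, a, b, hab⟩ := (f - g).2 x
    have ha : a = 0 := by
      refine eq_zero_of_generic a fun y hy hmax => ?_
      have h1 : Mero.evalK X U ⟨y, i.le hy⟩ (f - g) = 0 := by
        rw [map_sub, sub_eq_zero]
        exact congrFun hfg ⟨⟨y, i.le hy⟩, (mem_components_iff y).mpr hmax⟩
      have h2 : (LocalizedModule.mk (X.presheaf.germ W y hy a) (Mero.regGerm ⟨y, hy⟩ b) : Mero.KStalk X y) = 0 :=
        (hab ⟨y, hy⟩).symm.trans h1
      rw [← LocalizedModule.zero_mk (1 : Mero.regStalk X y), LocalizedModule.mk_eq] at h2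
      obtain ⟨c, hc⟩ := h2
      simp only [one_smul, smul_zero, Submonoid.smul_def, smul_eq_mul] at hc
      exact (isUnit_regStalk hmax c).mul_right_eq_zero.mp hc
    show (f - g).1 x = 0
    rw [show (f - g).1 x = _ from hab ⟨x.1, hxW⟩, ha, map_zero, LocalizedModule.zero_mk]
  -- gluing the prescribed values
  have chart : ∀ x : U, ∃ (V : X.Opens) (hVU : V ≤ U) (_ : x.1 ∈ V) (a : Γ(X, V)) (b : Mero.regSub X V),
      ∀ (y : X) (hy : y ∈ V) (hmax : ∀ z : X, z ⤳ y → z = y),
        v ⟨⟨y, hVU hy⟩, (mem_components_iff y).mpr hmax⟩ =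
          LocalizedModule.mk (X.presheaf.germ V y hy a) (Mero.regGerm ⟨y, hy⟩ b) := by
    intro x
    obtain ⟨V, hV, hxV, hVU⟩ := exists_isAffineOpen_mem_and_subset (x := x.1) (U := U) x.2
    replace hVU : V ≤ U := hVU
    let G := {y : V // ∀ z : X, z ⤳ y.1 → z = y.1}
    haveI : Finite G := by
      haveI := hfin.to_subtype
      refine Finite.of_injective (fun y : G => (⟨closure {y.1.1}, (mem_components_iff _).mpr y.2⟩ :
        irreducibleComponents (X : Type u))) fun y y' h => ?_
      have h' : closure ({y.1.1} : Set X) = closure {y'.1.1} := congrArg Subtype.val h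
      exact Subtype.ext (Subtype.ext (y'.2 y.1.1 (specializes_iff_closure_subset.mpr h'.ge)))
    haveI := Fintype.ofFinite G
    let P : G → Ideal Γ(X, V) := fun y => (hV.primeIdealOf y.1).asIdeal
    have hval : ∀ y : G, ∃ (r s : Γ(X, V)), s ∉ P y ∧
        v ⟨⟨y.1.1, hVU y.1.2⟩, (mem_components_iff _).mpr y.2⟩ *
          algebraMap _ (Mero.KStalk X y.1.1) (X.presheaf.germ V y.1.1 y.1.2 s) =
          algebraMap _ (Mero.KStalk X y.1.1) (X.presheaf.germ V y.1.1 y.1.2 r) := by
      intro y
      obtain ⟨t, ht⟩ := (hfield y.1.1 y.2).2 (v ⟨⟨y.1.1, hVU y.1.2⟩, (mem_components_iff _).mpr y.2⟩)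
      letI := QCoh.stalkAlg (X := X) y.1.2
      haveI := QCoh.isLocalization_stalk' hV y.1.2
      obtain ⟨⟨r, s⟩, hrs⟩ := IsLocalization.surj (hV.primeIdealOf y.1).asIdeal.primeCompl t
      refine ⟨r, s, s.2, ?_⟩
      rw [← ht, ← map_mul]
      exact congrArg _ hrs
    choose r s hs hrs using hval
    have hsep : ∀ y y' : G, ∃ c : Γ(X, V), c ∉ P y ∧ (y' ≠ y → c ∈ P y') := by
      intro y y'
      by_cases h : y' = y
      · exact ⟨1, fun h1 => (hV.primeIdealOf y.1).isPrime.ne_top ((Ideal.eq_top_iff_one _).mpr h1),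
          fun hne => absurd h hne⟩
      · obtain ⟨c, hc, hc'⟩ := Set.not_subset.mp (show ¬ (P y' : Set Γ(X, V)) ⊆ P y from fun hle =>
          h (Subtype.ext (Subtype.ext (y.2 _ ((AssPtX.primeIdealOf_le_iff hV y'.1.2 y.1.2).mp hle)))))
        exact ⟨c, hc', fun _ => hc⟩
    choose c hc hc0 using hsep
    let e : G → Γ(X, V) := fun y => ∏ y' : G, c y y'
    have he0 : ∀ y y' : G, y' ≠ y → X.presheaf.germ V y'.1.1 y'.1.2 (e y) = 0 := by
      intro y y' hne
      letI := QCoh.stalkAlg (X := X) y'.1.2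
      haveI := QCoh.isLocalization_stalk' hV y'.1.2
      by_contra h0
      have hu : IsUnit (X.presheaf.germ V y'.1.1 y'.1.2 (e y)) := by
        obtain ⟨w, hw⟩ := (isField_stalk y'.2).mul_inv_cancel h0
        exact IsUnit.of_mul_eq_one w hw
      have h1 : e y ∈ (hV.primeIdealOf y'.1).asIdeal :=
        (hV.primeIdealOf y'.1).asIdeal.prod_mem (Finset.mem_univ y') (hc0 y y' hne)
      have h2 := (IsLocalization.AtPrime.to_map_mem_maximal_iff (X.presheaf.stalk y'.1.1)
        (hV.primeIdealOf y'.1).asIdeal (e y)).mpr h1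
      exact (IsLocalRing.mem_maximalIdeal _).mp h2 hu
    have hu : ∀ (y : G) (z : Γ(X, V)), z ∉ P y → IsUnit (X.presheaf.germ V y.1.1 y.1.2 z) := by
      intro y z hz
      letI := QCoh.stalkAlg (X := X) y.1.2
      haveI := QCoh.isLocalization_stalk' hV y.1.2
      exact IsLocalization.map_units (X.presheaf.stalk y.1.1) (⟨z, hz⟩ : (hV.primeIdealOf y.1).asIdeal.primeCompl)
    have hey : ∀ y : G, e y ∉ P y := fun y h => by
      obtain ⟨y', -, hy'⟩ := (Ideal.IsPrime.prod_mem_iff (hp := (hV.primeIdealOf y.1).isPrime)).mp h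
      exact hc y y' hy'
    have hsum : ∀ (w : G → Γ(X, V)) (y : G), X.presheaf.germ V y.1.1 y.1.2 (∑ y' : G, e y' * w y') =
        X.presheaf.germ V y.1.1 y.1.2 (e y) * X.presheaf.germ V y.1.1 y.1.2 (w y) := by
      intro w y
      rw [map_sum, Finset.sum_eq_single y (fun y' _ hne => by rw [map_mul, he0 y' y (Ne.symm hne), zero_mul])
        (fun h => absurd (Finset.mem_univ y) h), map_mul]
    let b : Γ(X, V) := ∑ y' : G, e y' * s y'
    have hb : b ∈ Mero.regSub X V := by
      refine AssPtX.germ_mem_nonZeroDivisors_of_weakAss b fun z hz hza => ?_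
      let y : G := ⟨⟨z, hz⟩, (AssPtX.isWeakAssPoint_structureModule_iff QCoh.isQCoh_structureModule z).mp hza⟩
      show IsUnit (X.presheaf.germ V y.1.1 y.1.2 b)
      rw [hsum s y]
      exact (hu y _ (hey y)).mul (hu y _ (hs y))
    refine ⟨V, hVU, hxV, ∑ y' : G, e y' * r y', ⟨b, hb⟩, fun z hz hmax => ?_⟩
    let y : G := ⟨⟨z, hz⟩, hmax⟩
    show v ⟨⟨y.1.1, hVU y.1.2⟩, (mem_components_iff _).mpr y.2⟩ =
      LocalizedModule.mk (X.presheaf.germ V y.1.1 y.1.2 (∑ y' : G, e y' * r y'))
        (Mero.regGerm ⟨y.1.1, y.1.2⟩ ⟨b, hb⟩)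
    apply (IsLocalization.map_units (Mero.KStalk X y.1.1) (Mero.regGerm ⟨y.1.1, y.1.2⟩ ⟨b, hb⟩)).mul_left_injective
    show _ * algebraMap _ _ (X.presheaf.germ V y.1.1 y.1.2 b) = _ * algebraMap _ _ (X.presheaf.germ V y.1.1 y.1.2 b)
    have hR : (LocalizedModule.mk (X.presheaf.germ V y.1.1 y.1.2 (∑ y' : G, e y' * r y'))
        (Mero.regGerm ⟨y.1.1, y.1.2⟩ ⟨b, hb⟩) : Mero.KStalk X y.1.1) *
          algebraMap _ _ (X.presheaf.germ V y.1.1 y.1.2 b) =
        algebraMap _ _ (X.presheaf.germ V y.1.1 y.1.2 (∑ y' : G, e y' * r y')) := by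
      change _ * (LocalizedModule.mk (X.presheaf.germ V y.1.1 y.1.2 b) 1 : Mero.KStalk X y.1.1) =
        (LocalizedModule.mk (X.presheaf.germ V y.1.1 y.1.2 (∑ y' : G, e y' * r y')) 1 : Mero.KStalk X y.1.1)
      refine LocalizedModule.mk_mul_mk.trans (LocalizedModule.mk_eq.2 ⟨1, ?_⟩)
      simp only [one_smul, mul_one, Submonoid.smul_def, smul_eq_mul]
      exact mul_comm _ _
    rw [hR, hsum r y, hsum s y, map_mul, map_mul, ← hrs y]
    ring
  choose V hVU hxV a b hab using chart
  let val : ∀ x : U, Mero.KStalk X x.1 := fun x =>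
    LocalizedModule.mk (X.presheaf.germ (V x) x.1 (hxV x) (a x)) (Mero.regGerm ⟨x.1, hxV x⟩ (b x))
  have hagree : ∀ (x : U) (y : X) (hy : y ∈ V x), val ⟨y, hVU x hy⟩ =
      LocalizedModule.mk (X.presheaf.germ (V x) y hy (a x)) (Mero.regGerm ⟨y, hy⟩ (b x)) := by
    intro x y hy
    let x' : U := ⟨y, hVU x hy⟩
    let W : X.Opens := V x' ⊓ V x
    let i₁ : W ⟶ V x' := homOfLE inf_le_left
    let i₂ : W ⟶ V x := homOfLE inf_le_right
    have hzero : X.presheaf.map i₁.op (a x') * X.presheaf.map i₂.op (b x).1 -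
        X.presheaf.map i₂.op (a x) * X.presheaf.map i₁.op (b x').1 = 0 := by
      refine eq_zero_of_generic _ fun z hz hmax => ?_
      have h := (hab x' z hz.1 hmax).symm.trans (hab x z hz.2 hmax)
      rw [LocalizedModule.mk_eq] at h
      obtain ⟨c, hc⟩ := h
      simp only [Submonoid.smul_def, smul_eq_mul] at hc
      have h' := (isUnit_regStalk hmax c).mul_left_cancel hc
      rw [map_sub, map_mul, map_mul, X.presheaf.germ_res_apply, X.presheaf.germ_res_apply,
        X.presheaf.germ_res_apply, X.presheaf.germ_res_apply, sub_eq_zero]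
      linear_combination h'
    have h' := congrArg (X.presheaf.germ W y ⟨hxV x', hy⟩) hzero
    rw [map_sub, map_zero, map_mul, map_mul, X.presheaf.germ_res_apply, X.presheaf.germ_res_apply,
      X.presheaf.germ_res_apply, X.presheaf.germ_res_apply, sub_eq_zero] at h'
    refine LocalizedModule.mk_eq.2 ⟨1, ?_⟩
    simp only [one_smul, Submonoid.smul_def, smul_eq_mul]
    linear_combination h'
  refine ⟨⟨val, fun x => ⟨V x, hxV x, homOfLE (hVU x), a x, b x, fun y => hagree x y.1 y.2⟩⟩, ?_⟩
  funext y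
  exact (hab y.1 y.1.1 (hxV y.1) ((mem_components_iff _).mp y.2)).symm

end Groth.Agent.S10961
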