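import Groth.Statements.S19663
import Groth.Agent.KRR7.PullModel

set_option autoImplicit false
universe u
open CategoryTheory CategoryTheory.Limits AlgebraicGeometry
open Grass

namespace Groth.Agent.S19663

section helpers

variable {X G T S : Scheme.{u}} {π : G ⟶ X} {E : X.Modules} {Q Q₂ : G.Modules}

theorem quotBC_map {h : T ⟶ G} {g : T ⟶ X} (hg : h ≫ π = g)
    (q : (Scheme.Modules.pullback π).obj E ⟶ Q) (u : Q ⟶ Q₂) :
    quotBC hg (q ≫ u) = quotBC hg q ≫ (Scheme.Modules.pullback h).map u := by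
  simp [quotBC]

theorem epi_quotBC {h : T ⟶ G} {g : T ⟶ X} (hg : h ≫ π = g)
    (q : (Scheme.Modules.pullback π).obj E ⟶ Q) (hq : Epi q) : Epi (quotBC hg q) := by
  haveI := Grass.epi_pullback_map h q
  unfold quotBC
  infer_instance

theorem isIso_quotBC {h : T ⟶ G} {g : T ⟶ X} (hg : h ≫ π = g)
    (q : (Scheme.Modules.pullback π).obj E ⟶ Q) (hq : IsIso q) : IsIso (quotBC hg q) := by
  unfold quotBC
  infer_instance

/-- Base change of quotient maps is transitive. -/
theorem quotBC_quotBC {F' : Scheme.{u}} {φ : F' ⟶ G} {π' : F' ⟶ X} {k : T ⟶ F'} {g : T ⟶ G} {g' : T ⟶ X}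
    (hg' : g ≫ π = g') (hk : k ≫ φ = g) (hφ : φ ≫ π = π') (hk' : k ≫ π' = g')
    {q : (Scheme.Modules.pullback π).obj E ⟶ Q} {M : F'.Modules}
    {x : (Scheme.Modules.pullback φ).obj Q ⟶ M} :
    quotBC hg' q ≫ quotBC hk x = quotBC hk' (quotBC hφ q ≫ x) := by
  subst hk hφ hg'
  have H := congr_app (Scheme.Modules.pseudofunctor_associativity k φ π) E
  simp only [NatTrans.comp_app, Functor.whiskerRight_app, Functor.associator_hom_app,
    Functor.whiskerLeft_app, Category.id_comp, eqToHom_app] at H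
  have n := (Scheme.Modules.pullbackComp k φ).inv.naturality q
  simp only [Functor.comp_map] at n
  simp only [quotBC, Scheme.Modules.pullbackCongr, eqToIso.inv, eqToHom_app, eqToHom_refl, NatTrans.id_app,
    Category.id_comp, CategoryTheory.Functor.map_id, Category.assoc, Functor.map_comp]
  rw [reassoc_of% n]
  simp only [← Category.assoc]
  congr 2
  rw [← cancel_mono ((Scheme.Modules.pullbackComp k φ).hom.app _),
    ← cancel_mono ((Scheme.Modules.pullbackComp (k ≫ φ) π).hom.app _)]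
  simp only [Category.assoc, Iso.inv_hom_id_app, Iso.inv_hom_id_app_assoc]
  erw [H]
  simp [Scheme.Modules.pullbackCongr]
  rfl

theorem sigma_iso {T : Scheme.{u}} {A : T.Modules} {p : Σ L : T.Modules, A ⟶ L} {L : T.Modules} {s : A ⟶ L}
    (h : p = ⟨L, s⟩) : ∃ e : p.1 ≅ L, p.2 ≫ e.hom = s := by
  subst h
  exact ⟨Iso.refl _, Category.comp_id _⟩

end helpers

theorem aux (X F F' : Scheme.{u}) (π : F ⟶ X) (π' : F' ⟶ X) (E : X.Modules)
    (m : ℕ) (n : Fin (m + 2) → ℕ)
    (Q : Fin (m + 1) → F.Modules) (q : ∀ i, (Scheme.Modules.pullback π).obj E ⟶ Q i)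
    (hF : Grass.IsFlag π E (fun i => n (Fin.castSucc i)) Q q)
    (Q' : Fin (m + 2) → F'.Modules) (q' : ∀ i, (Scheme.Modules.pullback π').obj E ⟶ Q' i)
    (hF' : Grass.IsFlag π' E n Q' q') (φ : F' ⟶ F) (hφ : φ ≫ π = π')
    (θ : ∀ j, (Scheme.Modules.pullback φ).obj (Q j) ≅ Q' (Fin.castSucc j))
    (hθ : ∀ j, quotBC hφ (q j) ≫ (θ j).hom = q' (Fin.castSucc j))
    (t : Q' (Fin.castSucc (Fin.last m)) ⟶ Q' (Fin.last (m + 1)))
    (ht : q' (Fin.castSucc (Fin.last m)) ≫ t = q' (Fin.last (m + 1))) :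
    Grass.IsGrass φ (Q (Fin.last m)) (n (Fin.last (m + 1))) (Q' (Fin.last (m + 1)))
      ((θ (Fin.last m)).hom ≫ t) := by
  have hx : quotBC hφ (q (Fin.last m)) ≫ ((θ (Fin.last m)).hom ≫ t) = q' (Fin.last (m + 1)) := by
    rw [← Category.assoc, hθ, ht]
  refine ⟨hF'.rank _, ?_, fun T g L hL s hs => ?_⟩
  · haveI := hF'.epi (Fin.last (m + 1))
    haveI : Epi t := epi_of_epi_fac ht
    exact epi_comp _ _
  · obtain ⟨P, hPj, hPl⟩ : ∃ P : Fin (m + 2) → Σ L' : T.Modules,
        ((Scheme.Modules.pullback (g ≫ π)).obj E ⟶ L'),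
        (∀ j, P (Fin.castSucc j) = ⟨(Scheme.Modules.pullback g).obj (Q j), quotBC rfl (q j)⟩) ∧
        P (Fin.last (m + 1)) = ⟨L, quotBC rfl (q (Fin.last m)) ≫ s⟩ :=
      ⟨Fin.lastCases ⟨L, quotBC rfl (q (Fin.last m)) ≫ s⟩
        (fun j => ⟨(Scheme.Modules.pullback g).obj (Q j), quotBC rfl (q j)⟩),
        fun j => by simp, by simp⟩
    have hQg : ∀ j, FlatMod.IsFinLocFreeOfRank (n (Fin.castSucc j)) ((Scheme.Modules.pullback g).obj (Q j)) :=
      fun j => Groth.Agent.KRR7.isFinLocFreeOfRank_pullback g (hF.rank j)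
    have hqg : ∀ j, Epi (quotBC (rfl : g ≫ π = g ≫ π) (q j)) := fun j => epi_quotBC _ _ (hF.epi j)
    have hng : ∀ i j, i ≤ j → ∃ u : (Scheme.Modules.pullback g).obj (Q i) ⟶ (Scheme.Modules.pullback g).obj (Q j),
        quotBC (rfl : g ≫ π = g ≫ π) (q i) ≫ u = quotBC rfl (q j) := fun i j hij => by
      obtain ⟨u, hu⟩ := hF.nested i j hij
      exact ⟨(Scheme.Modules.pullback g).map u, by rw [← quotBC_map, hu]⟩
    have hr : ∀ i, FlatMod.IsFinLocFreeOfRank (n i) (P i).1 := fun i => by
      refine Fin.lastCases ?_ ?_ i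
      · rw [hPl]; exact hL
      · intro j; rw [hPj]; exact hQg j
    have he : ∀ i, Epi (P i).2 := fun i => by
      refine Fin.lastCases ?_ ?_ i
      · rw [hPl]; haveI := hqg (Fin.last m); exact epi_comp _ _
      · intro j; rw [hPj]; exact hqg j
    have hn : ∀ i j, i ≤ j → ∃ u : (P i).1 ⟶ (P j).1, (P i).2 ≫ u = (P j).2 := fun i j => by
      refine Fin.lastCases ?_ ?_ j
      · intro _
        refine Fin.lastCases ?_ ?_ i
        · exact ⟨𝟙 _, Category.comp_id _⟩
        · intro a
          rw [hPl, hPj]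
          obtain ⟨u, hu⟩ := hng a (Fin.last m) (Fin.le_last a)
          exact ⟨u ≫ s, by rw [← Category.assoc, hu]⟩
      · intro b
        refine Fin.lastCases ?_ ?_ i
        · intro h
          exact absurd h (not_le.mpr (Fin.castSucc_lt_last b))
        · intro a h
          rw [hPj, hPj]
          exact hng a b (Fin.castSucc_le_castSucc_iff.mp h)
    have hu' := hF'.univ T (g ≫ π) (fun i => (P i).1) hr (fun i => (P i).2) he hn
    obtain ⟨h, hh, eh, heq⟩ := hu'.exists
    have hhφ : h ≫ φ = g := by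
      have h1 : (h ≫ φ) ≫ π = g ≫ π := by rw [Category.assoc, hφ, hh]
      have key : ∀ j, ∃ e : (Scheme.Modules.pullback (h ≫ φ)).obj (Q j) ≅ (Scheme.Modules.pullback g).obj (Q j),
          quotBC h1 (q j) ≫ e.hom = quotBC rfl (q j) := fun j => by
        obtain ⟨e1, he1⟩ := sigma_iso (hPj j)
        haveI : IsIso (quotBC (rfl : h ≫ φ = h ≫ φ) (θ j).hom) := isIso_quotBC _ _ inferInstance
        refine ⟨asIso (quotBC rfl (θ j).hom) ≪≫ eh (Fin.castSucc j) ≪≫ e1, ?_⟩
        simp only [Iso.trans_hom, asIso_hom]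
        rw [← Category.assoc, quotBC_quotBC h1 rfl hφ hh, hθ, ← Category.assoc, heq]
        exact he1
      choose e he' using key
      exact (hF.univ T (g ≫ π) _ hQg _ hqg hng).unique ⟨h1, e, he'⟩
        ⟨rfl, fun _ => Iso.refl _, fun _ => Category.comp_id _⟩
    obtain ⟨el, hel⟩ := sigma_iso hPl
    refine ⟨h, ⟨hhφ, eh (Fin.last (m + 1)) ≪≫ el, ?_⟩, ?_⟩
    · haveI := hqg (Fin.last m)
      rw [← cancel_epi (quotBC (rfl : g ≫ π = g ≫ π) (q (Fin.last m)))]
      simp only [Iso.trans_hom]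
      rw [← Category.assoc, quotBC_quotBC rfl hhφ hφ hh, hx, ← Category.assoc, heq]
      exact hel
    · rintro h' ⟨hg, e, hes⟩
      have hh' : h' ≫ π' = g ≫ π := by rw [← hφ, ← Category.assoc, hg]
      have key : ∀ i, ∃ e' : (Scheme.Modules.pullback h').obj (Q' i) ≅ (P i).1,
          quotBC hh' (q' i) ≫ e'.hom = (P i).2 := fun i => by
        refine Fin.lastCases ?_ ?_ i
        · refine ⟨e ≪≫ el.symm, ?_⟩
          simp only [Iso.trans_hom, Iso.symm_hom]
          rw [← Category.assoc, Iso.comp_inv_eq, hel, ← hx, ← quotBC_quotBC rfl hg hφ hh', Category.assoc, hes]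
        · intro j
          obtain ⟨e1, he1⟩ := sigma_iso (hPj j)
          haveI : IsIso (quotBC hg (θ j).hom) := isIso_quotBC _ _ inferInstance
          refine ⟨(asIso (quotBC hg (θ j).hom)).symm ≪≫ e1.symm, ?_⟩
          simp only [Iso.trans_hom, Iso.symm_hom, asIso_inv]
          rw [← Category.assoc, Iso.comp_inv_eq, IsIso.comp_inv_eq, he1, quotBC_quotBC rfl hg hφ hh', hθ]
      choose e' he' using key
      exact hu'.unique ⟨hh', e', he'⟩ ⟨hh, eh, heq⟩

/-- Let `X` be a scheme, `E` an `O_X`-module, `m ≥ 0` and `n : Fin (m+2) → ℕ`. Let `(F', π', Q', q')` be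
the partial flag scheme of `E` of type `n` (universal nested locally free quotients `q' i : π'^* E ⟶
Q' i` of ranks `n i`, index `0` the largest) and `(F, π, Q, q)` the partial flag scheme of the
truncated type `n ∘ Fin.castSucc` (the first `m+1` steps). Then the morphism `F' ⟶ F` over `X`
classifying the first `m+1` universal quotients of `F'`, together with the last universal quotient
`Q' (m+1)` and the epimorphism onto it from the pulled-back `Q m` (through the classifying
isomorphism and the factoring map `Q' m ⟶ Q' (m+1)`), is the Grassmannian over `F` of rank-`n (m+1)`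
locally free quotients of the last universal quotient `Q m` of `F`. (The source takes the base of
finite type over a field, `E` locally free of finite rank and the ranks positive and strictly
decreasing; the statement is made here for any base scheme, any module and any type.) -/
theorem result (X F F' : Scheme.{u}) (π : F ⟶ X) (π' : F' ⟶ X) (E : X.Modules)
    (m : ℕ) (n : Fin (m + 2) → ℕ)
    (Q : Fin (m + 1) → F.Modules) (q : ∀ i, (Scheme.Modules.pullback π).obj E ⟶ Q i)
    (hF : Grass.IsFlag π E (fun i => n (Fin.castSucc i)) Q q)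
    (Q' : Fin (m + 2) → F'.Modules) (q' : ∀ i, (Scheme.Modules.pullback π').obj E ⟶ Q' i)
    (hF' : Grass.IsFlag π' E n Q' q') :
    Grass.IsGrass
      (hF.lift π' (fun i => Q' (Fin.castSucc i)) (fun i => hF'.rank (Fin.castSucc i)) (fun i => q' (Fin.castSucc i))
        (fun i => hF'.epi (Fin.castSucc i))
        (fun i j hij => hF'.nested (Fin.castSucc i) (Fin.castSucc j) (Fin.castSucc_le_castSucc_iff.mpr hij)))
      (Q (Fin.last m)) (n (Fin.last (m + 1))) (Q' (Fin.last (m + 1)))
      ((hF.liftIso π' (fun i => Q' (Fin.castSucc i)) (fun i => hF'.rank (Fin.castSucc i)) (fun i => q' (Fin.castSucc i))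
          (fun i => hF'.epi (Fin.castSucc i))
          (fun i j hij => hF'.nested (Fin.castSucc i) (Fin.castSucc j) (Fin.castSucc_le_castSucc_iff.mpr hij))
          (Fin.last m)).hom ≫
        (hF'.nested (Fin.castSucc (Fin.last m)) (Fin.last (m + 1)) (Fin.le_last _)).choose) := by
  exact aux X F F' π π' E m n Q q hF Q' q' hF' _ (hF.lift_comp _ _ _ _ _ _)
    (fun j => hF.liftIso π' (fun i => Q' (Fin.castSucc i)) (fun i => hF'.rank (Fin.castSucc i))
      (fun i => q' (Fin.castSucc i)) (fun i => hF'.epi (Fin.castSucc i))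
      (fun i j hij => hF'.nested (Fin.castSucc i) (Fin.castSucc j) (Fin.castSucc_le_castSucc_iff.mpr hij)) j)
    (fun j => hF.quotBC_liftIso _ _ _ _ _ _ j) _
    (hF'.nested (Fin.castSucc (Fin.last m)) (Fin.last (m + 1)) (Fin.le_last _)).choose_spec

end Groth.Agent.S19663
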