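import Groth.Statements.S19661
import Groth.Agent.S19663
import Groth.Agent.FittStrat.Rank
import Groth.Agent.DvrFree.Spread
import Groth.Agent.RGLib.Lim8Zero

set_option autoImplicit false
set_option backward.isDefEq.respectTransparency false
set_option backward.isDefEq.respectTransparency.types false
universe u
open CategoryTheory CategoryTheory.Limits AlgebraicGeometry
open Grass

namespace Groth.Agent.S19661

open Groth.Agent.S19663 (quotBC_map epi_quotBC isIso_quotBC quotBC_quotBC)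

section helpers

variable {X G T : Scheme.{u}} {π : G ⟶ X} {E E' : X.Modules} {Q : G.Modules}

theorem quotBC_natural {h : T ⟶ G} {g : T ⟶ X} (hg : h ≫ π = g) (v : E' ⟶ E)
    (q : (Scheme.Modules.pullback π).obj E ⟶ Q) :
    quotBC hg ((Scheme.Modules.pullback π).map v ≫ q) = (Scheme.Modules.pullback g).map v ≫ quotBC hg q := by
  subst hg
  have n := (Scheme.Modules.pullbackComp h π).inv.naturality v
  simp only [Functor.comp_map] at n
  simp only [quotBC, Scheme.Modules.pullbackCongr, eqToIso.inv, eqToHom_app, eqToHom_refl, NatTrans.id_app,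
    Category.id_comp, Functor.map_comp]
  rw [reassoc_of% n]

theorem isIso_of_epi_rank {Y : Scheme.{u}} {M N : Y.Modules} {r : ℕ} (hM : FlatMod.IsFinLocFreeOfRank r M)
    (hN : FlatMod.IsFinLocFreeOfRank r N) (s : M ⟶ N) [Epi s] : IsIso s := by
  have hM' : FlatMod.IsFinLocFree M := fun y => by
    obtain ⟨U, hy, h⟩ := hM y
    exact ⟨U, r, hy, h⟩
  have hN' : FlatMod.IsFinLocFree N := fun y => by
    obtain ⟨U, hy, h⟩ := hN y
    exact ⟨U, r, hy, h⟩
  have hqM := Groth.Agent.QCoh.isQCoh_of_isFinLocFree hM'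
  have hqN := Groth.Agent.QCoh.isQCoh_of_isFinLocFree hN'
  refine Groth.Agent.ZClosLib.isIso_of_good s (fun W => IsAffineOpen W ∧ ∃ U U' : Y.Opens, W ≤ U ∧ W ≤ U' ∧
    Nonempty (M.restrict U.ι ≅ FlatMod.freeMod U r) ∧ Nonempty (N.restrict U'.ι ≅ FlatMod.freeMod U' r))
    (fun V y hy => ?_) ?_
  · obtain ⟨U, hyU, he⟩ := hM y
    obtain ⟨U', hyU', he'⟩ := hN y
    obtain ⟨_, ⟨W, hW, rfl⟩, hyW, hWU⟩ := Y.isBasis_affineOpens.exists_subset_of_mem_open
      (show y ∈ (V ⊓ U ⊓ U' : Y.Opens) from ⟨⟨hy, hyU⟩, hyU'⟩) (V ⊓ U ⊓ U').2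
    exact ⟨W, fun z hz => (hWU hz).1.1, hyW, hW, U, U', fun z hz => (hWU hz).1.2, fun z hz => (hWU hz).2, he, he'⟩
  · rintro W ⟨hW, U, U', hWU, hWU', ⟨e⟩, ⟨e'⟩⟩
    obtain ⟨l₀⟩ := Groth.Agent.QCoh.free_sections hW hWU e
    obtain ⟨l⟩ := Groth.Agent.QCoh.free_sections hW hWU' e'
    have hsur : Function.Surjective (s.app W) := Groth.Agent.QCoh.app_surjective_of_epi hqM hqN s hW
    let sl : Γ(M, W) →ₗ[Γ(Y, W)] Γ(N, W) :=
      { toFun := s.app W, map_add' := map_add (s.app W).hom, map_smul' := fun c x => s.app_smul c x }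
    refine ⟨fun x x' hxx' => ?_, hsur⟩
    have h2 : Function.Injective ((l.toLinearMap.comp sl).comp l₀.symm.toLinearMap) :=
      OrzechProperty.injective_of_surjective_endomorphism _ ((l.surjective.comp hsur).comp l₀.symm.surjective)
    exact l₀.injective (h2 (by
      show l (s.app W (l₀.symm (l₀ x))) = l (s.app W (l₀.symm (l₀ x')))
      rw [l₀.symm_apply_apply, l₀.symm_apply_apply, hxx']))

end helpers

theorem aux (X G₁ G₂ : Scheme.{u}) (π₁ : G₁ ⟶ X) (π₂ : G₂ ⟶ X)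
    (E₁ E₂ : X.Modules) (v : E₁ ⟶ E₂) (hK : Coh.IsQCoh (kernel v)) [Epi v] (e : ℕ)
    (Q₁ : G₁.Modules) (q₁ : (Scheme.Modules.pullback π₁).obj E₁ ⟶ Q₁) (hG₁ : Grass.IsGrass π₁ E₁ e Q₁ q₁)
    (Q₂ : G₂.Modules) (q₂ : (Scheme.Modules.pullback π₂).obj E₂ ⟶ Q₂) (hG₂ : Grass.IsGrass π₂ E₂ e Q₂ q₂)
    (h : G₂ ⟶ G₁) (hh : h ≫ π₁ = π₂) (η : (Scheme.Modules.pullback h).obj Q₁ ≅ Q₂)
    (hη : quotBC hh q₁ ≫ η.hom = (Scheme.Modules.pullback π₂).map v ≫ q₂) : IsClosedImmersion h ∧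
      Set.range h = ((Groth.Agent.FittStrat.lowerIdeal
        (cokernel ((Scheme.Modules.pullback π₁).map (kernel.ι v) ≫ q₁)) e).support : Set G₁) := by
  let φ₁ : (Scheme.Modules.pullback π₁).obj (kernel v) ⟶ Q₁ :=
    (Scheme.Modules.pullback π₁).map (kernel.ι v) ≫ q₁
  have hQ₁ : FlatMod.IsFinLocFree Q₁ := fun y => by
    obtain ⟨U, hy, hU⟩ := hG₁.rank y
    exact ⟨U, e, hy, hU⟩
  have hqQ := Groth.Agent.QCoh.isQCoh_of_isFinLocFree hQ₁
  have hftQ := Groth.Agent.QCoh.isFT_of_isFP (Groth.Agent.QCoh.isFP_of_isFinLocFree hQ₁)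
  have hqC : Coh.IsQCoh (cokernel φ₁) :=
    Groth.Agent.QCoh.isQCoh_cokernel (Groth.Agent.QCoh.isQCoh_pullback π₁ hK) hqQ φ₁
  have hftC : CohB1.IsFT (cokernel φ₁) := Groth.Agent.RGLib.Lim8.isFT_of_epi (cokernel.π φ₁) hqQ hqC hftQ
  have htop : Fitt.sheafIdeal (cokernel φ₁) e = ⊤ := by
    refine top_le_iff.1 fun U => ?_
    have hh := ((Groth.Agent.FittStrat.isFinLocFreeOfRank_iff_two hqQ hftQ e).1 hG₁.rank).2
    rw [← hh, Groth.Agent.FittX.sheafIdeal_ideal hqQ hftQ, Groth.Agent.FittX.sheafIdeal_ideal hqC hftC]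
    haveI := Groth.Agent.QCoh.finite_of_isFT hqQ hftQ U.2
    exact Groth.Agent.FittX.ideal_le_of_surjective
      { toFun := (cokernel.π φ₁).app U.1, map_add' := map_add ((cokernel.π φ₁).app U.1).hom,
        map_smul' := fun c x => (cokernel.π φ₁).app_smul c x }
      (Groth.Agent.QCoh.app_surjective_of_epi hqQ hqC (cokernel.π φ₁) U.2) e
  have key1 : ∀ {T : Scheme.{u}} (b : T ⟶ G₂) (a : T ⟶ G₁) (g : T ⟶ X) (hba : b ≫ h = a) (ha : a ≫ π₁ = g)
      (hb : b ≫ π₂ = g), quotBC ha q₁ ≫ quotBC hba η.hom = (Scheme.Modules.pullback g).map v ≫ quotBC hb q₂ := by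
    intro T b a g hba ha hb
    rw [quotBC_quotBC ha hba hh hb, hη, quotBC_natural]
  haveI hmono : Mono h := ⟨fun {T} b b' hbb => by
    have ha : (b' ≫ h) ≫ π₁ = b' ≫ π₂ := by rw [Category.assoc, hh]
    have hb : b ≫ π₂ = b' ≫ π₂ := by rw [← hh, ← Category.assoc, hbb, Category.assoc]
    haveI := Grass.epi_pullback_map (b' ≫ π₂) v
    haveI := isIso_quotBC hbb η.hom inferInstance
    haveI := isIso_quotBC (rfl : b' ≫ h = b' ≫ h) η.hom inferInstance
    have hs := epi_quotBC (rfl : b' ≫ π₂ = b' ≫ π₂) q₂ hG₂.epi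
    refine (hG₂.univ T (b' ≫ π₂) _ (Groth.Agent.KRR7.isFinLocFreeOfRank_pullback b' hG₂.rank)
      (quotBC rfl q₂) hs).unique
      ⟨hb, (asIso (quotBC hbb η.hom)).symm ≪≫ asIso (quotBC rfl η.hom), ?_⟩
      ⟨rfl, Iso.refl _, Category.comp_id _⟩
    rw [← cancel_epi ((Scheme.Modules.pullback (b' ≫ π₂)).map v)]
    simp only [Iso.trans_hom, Iso.symm_hom, asIso_inv, asIso_hom]
    rw [← Category.assoc, ← key1 b (b' ≫ h) (b' ≫ π₂) hbb ha hb, Category.assoc, IsIso.hom_inv_id_assoc,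
      key1 b' (b' ≫ h) (b' ≫ π₂) rfl ha rfl]⟩
  have key2 : ∀ {T : Scheme.{u}} (a : T ⟶ G₁), (∃ b : T ⟶ G₂, b ≫ h = a) ↔
      FlatMod.IsFinLocFreeOfRank e ((Scheme.Modules.pullback a).obj (cokernel φ₁)) := by
    intro T a
    haveI : (Scheme.Modules.pullback a).IsLeftAdjoint :=
      (Scheme.Modules.pullbackPushforwardAdjunction a).isLeftAdjoint
    haveI : (Scheme.Modules.pullback (a ≫ π₁)).IsLeftAdjoint :=
      (Scheme.Modules.pullbackPushforwardAdjunction (a ≫ π₁)).isLeftAdjoint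
    have hLa := Groth.Agent.KRR7.isFinLocFreeOfRank_pullback a hG₁.rank
    have hz : (Scheme.Modules.pullback (a ≫ π₁)).map (kernel.ι v) ≫ quotBC rfl q₁ = 0 ↔
        (Scheme.Modules.pullback a).map φ₁ = 0 := by
      rw [← quotBC_natural]
      constructor
      · intro h0
        simpa [quotBC, φ₁] using h0
      · intro h0
        simp only [φ₁] at h0
        simp [quotBC, h0]
    have hcol : IsColimit (CokernelCofork.ofπ _ (cokernel.condition φ₁)) := cokernelIsCokernel φ₁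
    have hcol' := isColimitCoforkMapOfIsColimit' (Scheme.Modules.pullback a) (cokernel.condition φ₁) hcol
    have hcolv : IsColimit (CokernelCofork.ofπ v (kernel.condition v)) :=
      (ShortComplex.exact_kernel v).gIsCokernel
    have hcolv' := isColimitCoforkMapOfIsColimit' (Scheme.Modules.pullback (a ≫ π₁)) (kernel.condition v) hcolv
    constructor
    · rintro ⟨b, hb⟩
      have hb2 : b ≫ π₂ = a ≫ π₁ := by rw [← hh, ← Category.assoc, hb]
      haveI := isIso_quotBC hb η.hom inferInstance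
      have h0 : (Scheme.Modules.pullback a).map φ₁ = 0 := hz.1 (by
        rw [← cancel_mono (quotBC hb η.hom), Category.assoc, key1 b a _ hb rfl hb2, ← Category.assoc,
          ← Functor.map_comp, kernel.condition, Functor.map_zero, zero_comp, zero_comp])
      haveI : IsIso ((Scheme.Modules.pullback a).map (cokernel.π φ₁)) :=
        CokernelCofork.IsColimit.isIso_π _ hcol' h0
      intro x
      obtain ⟨U, hx, ⟨i⟩⟩ := hLa x
      exact ⟨U, hx, ⟨(Scheme.Modules.restrictFunctor U.ι).mapIso (asIso ((Scheme.Modules.pullback a).map (cokernel.π φ₁))).symm ≪≫ i⟩⟩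
    · intro hr
      haveI := Grass.epi_pullback_map a (cokernel.π φ₁)
      haveI := isIso_of_epi_rank hLa hr ((Scheme.Modules.pullback a).map (cokernel.π φ₁))
      have h0 : (Scheme.Modules.pullback a).map φ₁ = 0 := by
        rw [← cancel_mono ((Scheme.Modules.pullback a).map (cokernel.π φ₁)), ← Functor.map_comp,
          cokernel.condition, Functor.map_zero, zero_comp]
      obtain ⟨s, hs⟩ := CokernelCofork.IsColimit.desc' hcolv' (quotBC rfl q₁) (hz.2 h0)
      replace hs : (Scheme.Modules.pullback (a ≫ π₁)).map v ≫ s = quotBC rfl q₁ := hs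
      haveI := epi_quotBC (rfl : a ≫ π₁ = a ≫ π₁) q₁ hG₁.epi
      obtain ⟨b, ⟨hb, e', he'⟩, -⟩ := hG₂.univ T (a ≫ π₁) _ hLa s (epi_of_epi_fac hs)
      refine ⟨b, ?_⟩
      have h1 : (b ≫ h) ≫ π₁ = a ≫ π₁ := by rw [Category.assoc, hh, hb]
      haveI := isIso_quotBC (rfl : b ≫ h = b ≫ h) η.hom inferInstance
      refine (hG₁.univ T (a ≫ π₁) _ hLa (quotBC rfl q₁) inferInstance).unique
        ⟨h1, asIso (quotBC rfl η.hom) ≪≫ e', ?_⟩ ⟨rfl, Iso.refl _, Category.comp_id _⟩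
      simp only [Iso.trans_hom, asIso_hom]
      rw [← Category.assoc, key1 b (b ≫ h) _ rfl h1 hb, Category.assoc, he', hs]
  let I := Groth.Agent.FittStrat.lowerIdeal (cokernel φ₁) e
  let J := Fitt.sheafIdeal (cokernel φ₁) e
  haveI hcl := Groth.Agent.FittStrat.isClosedImmersion_pieceι I J htop
  obtain ⟨c, hc⟩ := (key2 (Groth.Agent.FittStrat.pieceι I J)).2
    ((Groth.Agent.FittStrat.exists_factor_rank_iff hqC hftC e _).1 ⟨𝟙 _, Category.id_comp _⟩)
  obtain ⟨d, hd⟩ := (Groth.Agent.FittStrat.exists_factor_rank_iff hqC hftC e h).2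
    ((key2 h).1 ⟨𝟙 _, Category.id_comp _⟩)
  haveI : IsIso d := ⟨c, by rw [← cancel_mono h, Category.assoc, hc, hd, Category.id_comp],
    by rw [← cancel_mono (Groth.Agent.FittStrat.pieceι I J), Category.assoc, hd, hc, Category.id_comp]⟩
  refine ⟨by rw [← hd]; infer_instance, ?_⟩
  have hr : Set.range (Groth.Agent.FittStrat.pieceι I J) = (I.support : Set G₁) := by
    have hsurj : Function.Surjective (I.subschemeι ⁻¹ᵁ J.support.compl).ι := fun z => by
      refine ⟨⟨z, fun hz => ?_⟩, rfl⟩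
      change I.subschemeι z ∈ J.support at hz
      rw [show J = ⊤ from htop, Scheme.IdealSheafData.support_top] at hz
      exact hz
    rw [Groth.Agent.FittStrat.pieceι, Scheme.Hom.comp_base, TopCat.coe_comp, Set.range_comp]
    erw [hsurj.range_eq]
    rw [Set.image_univ, Scheme.IdealSheafData.range_subschemeι]
  have hds : Function.Surjective d := d.homeomorph.surjective
  rw [← hd, Scheme.Hom.comp_base, TopCat.coe_comp, Set.range_comp]
  erw [hds.range_eq]
  rw [Set.image_univ]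
  exact hr

/-- Let `X` be a scheme, `E₁`, `E₂` quasi-coherent `O_X`-modules, `v : E₁ ⟶ E₂` an epimorphism and `e ≥
0`. Let `(G₁, π₁, Q₁, q₁)` be a Grassmannian of rank-`e` locally free quotients of `E₁` over `X` (a
representing scheme with its universal quotient `q₁ : π₁^* E₁ ⟶ Q₁`) and `(G₂, π₂, Q₂, q₂)` one of
`E₂`. Then the morphism `G₂ ⟶ G₁` over `X` classifying the rank-`e` quotient `π₂^* E₁ ⟶ π₂^* E₂ ⟶
Q₂` of `E₁` (every quotient of `E₂` is a quotient of `E₁`) is a closed immersion. (The base is an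
arbitrary scheme and the modules are only assumed quasi-coherent; the form over an affine base with
the Grassmannians given by their points in affine schemes is a separate statement.) -/
theorem result (X G₁ G₂ : Scheme.{u}) (π₁ : G₁ ⟶ X) (π₂ : G₂ ⟶ X)
    (E₁ E₂ : X.Modules) (hE₁ : Coh.IsQCoh E₁) (hE₂ : Coh.IsQCoh E₂) (v : E₁ ⟶ E₂) [Epi v] (e : ℕ)
    (Q₁ : G₁.Modules) (q₁ : (Scheme.Modules.pullback π₁).obj E₁ ⟶ Q₁) (hG₁ : Grass.IsGrass π₁ E₁ e Q₁ q₁)
    (Q₂ : G₂.Modules) (q₂ : (Scheme.Modules.pullback π₂).obj E₂ ⟶ Q₂) (hG₂ : Grass.IsGrass π₂ E₂ e Q₂ q₂) :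
    IsClosedImmersion (hG₁.mapOfEpi hG₂ v) := by
  set K := kernel v
  have hK : Coh.IsQCoh K := Groth.Agent.QCoh.isQCoh_kernel hE₁ hE₂ v
  have hh : hG₁.mapOfEpi hG₂ v ≫ π₁ = π₂ := hG₁.mapOfEpi_comp hG₂ v
  obtain ⟨η, hη⟩ : ∃ η : (Scheme.Modules.pullback (hG₁.mapOfEpi hG₂ v)).obj Q₁ ≅ Q₂,
      quotBC hh q₁ ≫ η.hom = (Scheme.Modules.pullback π₂).map v ≫ q₂ :=
    ⟨_, hG₁.quotBC_liftIso _ _ _ _ _⟩
  exact aux X G₁ G₂ π₁ π₂ E₁ E₂ v hK e Q₁ q₁ hG₁ Q₂ q₂ hG₂ _ hh η hη |>.1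

end Groth.Agent.S19661
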