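import Groth.Statements.S10966
import Groth.Agent.VAmple.Embed

set_option autoImplicit false
universe u
open CategoryTheory CategoryTheory.Limits AlgebraicGeometry
open RelAmple

namespace Groth.Agent.S10966

/-- Let R be a nonzero ring and X an affine scheme of finite type over R, with structure morphism q : X
→ Spec R. Then every invertible O_X-module L is very ample relative to q: there are a natural number
n and an immersion i : X → P^n over Spec R, compatible with q, such that i^*O(1) ≅ L. -/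
theorem result (R : Type u) [CommRing R] [Nontrivial R]
    {X : Scheme.{u}} [IsAffine X] (q : X ⟶ Spec (CommRingCat.of R)) [LocallyOfFiniteType q]
    (L : X.Modules) (hL : PicF.IsInvertible L) :
    RelAmple.IsRelVeryAmplePn q L := by
  classical
  have key : ∀ x : X, ∃ (f : Γ(X, ⊤)) (t : Γ(L, ⊤)), x ∈ X.basicOpen f ∧ AmpleX.locus (f • t) = X.basicOpen f := by
    intro x
    obtain ⟨U, hxU, e, he⟩ := InvX.exists_frame hL x
    obtain ⟨f, hf, hxf⟩ := (isAffineOpen_top X).exists_basicOpen_le (V := U) ⟨x, hxU⟩ trivial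
    obtain ⟨N, t, ht⟩ := QCoh.exists_pow_smul_eq_map (ProjUPX.isQCoh_of_isInvertible hL) (isAffineOpen_top X) f
      (AModX.res L hf e)
    refine ⟨f, t, hxf, ?_⟩
    have hfr : InvX.IsFrame (AModX.res L (X.basicOpen_le f) t) := by
      rw [show AModX.res L (X.basicOpen_le f) t = _ from ht]
      exact (he.res hf).isUnit_smul ((AModX.isUnit_resR _ _ le_rfl).pow N)
    rw [AmpleX.locus_smul hL]
    exact inf_eq_right.2 (AmpleX.le_locus t (X.basicOpen_le f) hfr)
  choose f t hxf hloc using key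
  obtain ⟨S, hS⟩ := isCompact_univ.elim_finite_subcover (fun x => (X.basicOpen (f x) : Set X))
    (fun x => (X.basicOpen (f x)).2) (fun x _ => Set.mem_iUnion.2 ⟨x, hxf x⟩)
  obtain ⟨k, g, hg⟩ := PnCoh.Chow.exists_gens q (isAffineOpen_top X)
  let s : (S ⊕ S ⊕ (S × Fin k)) → Γ(L, ⊤) :=
    Sum.elim (fun x => f x.1 • t x.1) (Sum.elim (fun x => t x.1) (fun p => g p.2 • (f p.1.1 • t p.1.1)))
  let e : ULift.{u} (Fin (Fintype.card (S ⊕ S ⊕ (S × Fin k)) + 1)) ≃ Option (S ⊕ S ⊕ (S × Fin k)) :=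
    Equiv.ulift.trans ((finCongr Fintype.card_option.symm).trans (Fintype.equivFin _).symm)
  refine VAmple.exists_immersion q hL _ (fun i => (e i).elim 0 s) fun p => ?_
  obtain ⟨y, hyS, hpy⟩ := Set.mem_iUnion₂.1 (hS (Set.mem_univ p))
  set V := X.basicOpen (f y)
  refine ⟨e.symm (some (Sum.inl ⟨y, hyS⟩)), V, hpy, ?_, (isAffineOpen_top X).basicOpen _, ?_⟩
  · simp only [Equiv.apply_symm_apply]
    exact (hloc y).symm
  set T := Subring.closure (Set.range ((AModX.resR (le_top : V ≤ ⊤)).comp q.appTop.hom) ∪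
    {v : Γ(X, V) | ∃ i, AModX.res _ (le_top : V ≤ ⊤) ((e i).elim 0 s) =
      v • AModX.res _ (le_top : V ≤ ⊤) ((e (e.symm (some (Sum.inl ⟨y, hyS⟩)))).elim 0 s)})
  have hcoord : ∀ (j : S ⊕ S ⊕ (S × Fin k)) (c : Γ(X, V)),
      AModX.res L (le_top : V ≤ ⊤) (s j) = c • AModX.res L (le_top : V ≤ ⊤) (f y • t y) → c ∈ T := fun j c hc => by
    refine Subring.subset_closure (Or.inr ⟨e.symm (some j), ?_⟩)
    simp only [Equiv.apply_symm_apply]
    exact hc
  obtain ⟨u, hu⟩ : IsUnit (AModX.resR (X.basicOpen_le (f y)) (f y)) := AModX.isUnit_resR _ _ le_rfl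
  have huT : (↑u⁻¹ : Γ(X, V)) ∈ T := hcoord (Sum.inr (Sum.inl ⟨y, hyS⟩)) _ (by
    show AModX.res L le_top (t y) = _
    rw [AModX.res_smul, smul_smul, ← hu, Units.inv_mul, one_smul])
  have hgT : ∀ c, AModX.resR (le_top : V ≤ ⊤) (g c) ∈ T := fun c =>
    hcoord (Sum.inr (Sum.inr (⟨y, hyS⟩, c))) _ (AModX.res_smul _ _ _)
  have hG : ∀ z : Γ(X, ⊤), AModX.resR (le_top : V ≤ ⊤) z ∈ T := fun z => by
    obtain ⟨p, rfl⟩ := hg z
    rw [MvPolynomial.map_eval₂Hom]
    refine VAmple.eval₂Hom_mem _ _ T (fun c => Subring.subset_closure (Or.inl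
      ⟨(Scheme.ΓSpecIso (CommRingCat.of R)).inv c, ?_⟩)) hgT p
    refine congrArg (AModX.resR (le_top : V ≤ ⊤)) ?_
    show _ = q.appLE ⊤ ⊤ le_top ((Scheme.ΓSpecIso (CommRingCat.of R)).inv c)
    exact ConcreteCategory.congr_hom q.app_eq_appLE _
  refine eq_top_iff.2 fun z _ => ?_
  letI : Algebra Γ(X, ⊤) Γ(X, V) := (X.presheaf.map (homOfLE (le_top : V ≤ ⊤)).op).hom.toAlgebra
  haveI : IsLocalization.Away (f y) Γ(X, V) := (isAffineOpen_top X).isLocalization_basicOpen (f y)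
  obtain ⟨N, w, hw⟩ := IsLocalization.Away.surj (f y) z
  have hw' : z * (u : Γ(X, V)) ^ N = AModX.resR le_top w := by rw [hu]; exact hw
  have hz : z = AModX.resR le_top w * (↑u⁻¹ : Γ(X, V)) ^ N := by
    rw [← hw', mul_assoc, ← mul_pow, Units.mul_inv, one_pow, mul_one]
  rw [hz]
  exact mul_mem (hG w) (pow_mem huT N)

end Groth.Agent.S10966
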