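import Groth.Statements.S1099
import Groth.Agent.CountHom7.Basic
import Groth.Agent.KFlatLib.Scheme.ProjFormula
import Groth.Agent.KFlatLib.Scheme.EvalPerfect

set_option autoImplicit false
set_option backward.isDefEq.respectTransparency false
set_option backward.isDefEq.respectTransparency.types false
set_option maxHeartbeats 1000000
universe u
open CategoryTheory CategoryTheory.Limits AlgebraicGeometry Opposite
attribute [local instance] HasDerivedCategory.standard
open Perf

namespace Groth.Agent.S1099

/-- Let the scheme X be quasi-compact and quasi-separated, K ∈ D(O_X) with quasi-coherent cohomology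
sheaves whose sections over affine opens are countable, E a perfect object of D(O_X), and U ⊆ X a
quasi-compact open (restriction to U assumed exact). Then for every i the group of morphisms E|_U ⟶
K|_U[i] in D(O_U) is countable. -/
theorem result (X : Scheme.{u}) [CompactSpace ↥X] [QuasiSeparatedSpace ↥X]
    (K : DCoh.D X) (hK : DCoh.IsQCohD K) (hKc : ∀ V : X.Opens, IsAffineOpen V → ∀ i : ℤ, Countable ((DCoh.HD K i).val.obj (op V)))
    (E : DCoh.D X) (hE : DCoh.IsPerfect E) (U : X.Opens) (hU : IsCompact (U : Set X)) [PreservesFiniteLimits (Scheme.Modules.restrictFunctor U.ι)] (i : ℤ) :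
    Countable ((DCoh.restrictD U.ι).obj E ⟶ ((DCoh.restrictD U.ι).obj K)⟦i⟧) := by
  haveI : CompactSpace (U : Scheme.{u}) := isCompact_iff_compactSpace.1 hU
  haveI : QuasiSeparatedSpace (U : Scheme.{u}) := quasiSeparatedSpace_of_quasiSeparated U.ι
  have hE' : DCoh.IsPerfect ((DCoh.restrictD U.ι).obj E) :=
    (Groth.Agent.KFlatLib.isPerfect_iff _).2 (((Groth.Agent.KFlatLib.isPerfect_iff E).1 hE).restrict' U.ι)
  refine Groth.Agent.CountHom7.countHom_of_isPerfect (Groth.Agent.KFlatLib.isQCohD_restrictD U.ι hK) (fun V hV j => ?_) hE' i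
  let e := (Scheme.Modules.toPresheaf _).mapIso
    ((Groth.Agent.KFlatLib.mapDCHomologyIso (Scheme.Modules.restrictFunctor U.ι) j).app K)
  haveI : Countable Γ((Scheme.Modules.restrictFunctor U.ι).obj (DCoh.HD K j), V) :=
    hKc (U.ι ''ᵁ V) (hV.image_of_isOpenImmersion U.ι) j
  exact @Function.Injective.countable _ _ this _ (e.app (Opposite.op V)).addCommGroupIsoToAddEquiv.toEquiv.injective

end Groth.Agent.S1099
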