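import Groth.Statements.S11081
import Mathlib.RingTheory.Trace.Quotient
import Mathlib.NumberTheory.RamificationInertia.Basic
import Mathlib.RingTheory.RamificationInertia.Ramification
import Mathlib.LinearAlgebra.StdBasis
import Groth.Agent.DiffTame.Basic

set_option autoImplicit false
universe u
attribute [local instance] FractionRing.liftAlgebra
open CAlg

namespace Groth.Agent.S11081

attribute [local instance] Ideal.Quotient.field

/-- The trace of a finite product of algebras is the sum of the traces. -/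
theorem trace_pi {k : Type*} [CommRing k] [Nontrivial k] {ι : Type*} [Fintype ι] (R : ι → Type*)
    [∀ i, CommRing (R i)] [∀ i, Algebra k (R i)] [∀ i, Module.Free k (R i)]
    [∀ i, Module.Finite k (R i)] (x : ∀ i, R i) :
    Algebra.trace k (∀ i, R i) x = ∑ i, Algebra.trace k (R i) (x i) := by
  classical
  let κ : ι → Type _ := fun i => Module.Free.ChooseBasisIndex k (R i)
  let b : ∀ i, Module.Basis (κ i) k (R i) := fun i => Module.Free.chooseBasis k (R i)
  rw [Algebra.trace_eq_matrix_trace (Pi.basis b), Matrix.trace, Fintype.sum_sigma]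
  refine Finset.sum_congr rfl fun i _ => ?_
  rw [Algebra.trace_eq_matrix_trace (b i), Matrix.trace]
  refine Finset.sum_congr rfl fun j _ => ?_
  simp [Algebra.leftMulMatrix_eq_repr_mul, Pi.basis_repr, Pi.basis_apply]

theorem comp {A B : Type u} [CommRing A] [CommRing B] [IsDedekindDomain B] [Algebra A B]
    [Module.Finite A B] (p : Ideal A) [p.IsMaximal] (Q : Ideal B) [Q.IsMaximal] [Q.LiesOver p]
    (hQ : Q ≠ ⊥) (e : ℕ) (he : e ≠ 0) (hle : p ≤ Ideal.comap (algebraMap A B) (Q ^ e)) (y : B) :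
    letI : Algebra (A ⧸ p) (B ⧸ Q ^ e) := Ideal.Quotient.algebraQuotientOfLEComap hle
    Algebra.trace (A ⧸ p) (B ⧸ Q ^ e) (Ideal.Quotient.mk _ y) =
      e • Algebra.trace (A ⧸ p) (B ⧸ Q) (Ideal.Quotient.mk Q y) := by
  letI : Algebra (A ⧸ p) (B ⧸ Q ^ e) := Ideal.Quotient.algebraQuotientOfLEComap hle
  haveI : IsScalarTower A (A ⧸ p) (B ⧸ Q ^ e) := IsScalarTower.of_algebraMap_eq' rfl
  haveI : Module.Finite (A ⧸ p) (B ⧸ Q ^ e) := Module.Finite.of_restrictScalars_finite A _ _
  obtain ⟨π, hπQ, hπ2⟩ : ∃ π ∈ Q, π ∉ Q ^ 2 := by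
    refine SetLike.exists_of_lt ?_
    have := Ideal.pow_right_strictAnti Q hQ (Ideal.IsMaximal.ne_top ‹_›) (show 1 < 2 by norm_num)
    simpa using this
  have hprime : Prime Q := Ideal.prime_of_isPrime hQ inferInstance
  have hsup : Q ^ e ⊔ Ideal.span {π} = Q := by
    have hleQ : Q ^ e ⊔ Ideal.span {π} ≤ Q :=
      sup_le (Ideal.pow_le_self he) ((Ideal.span_singleton_le_iff_mem Q).mpr hπQ)
    obtain ⟨i, -, hi⟩ := (dvd_prime_pow hprime e).mp (Ideal.dvd_iff_le.mpr
      (le_sup_left : Q ^ e ≤ Q ^ e ⊔ Ideal.span {π}))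
    rw [associated_iff_eq] at hi
    rcases i with _ | _ | i
    · exfalso
      rw [hi, pow_zero, Ideal.one_eq_top] at hleQ
      exact (Ideal.IsMaximal.ne_top ‹_›) (top_le_iff.mp hleQ)
    · simpa using hi
    · exfalso
      refine hπ2 (Ideal.pow_le_pow_right (by omega : 2 ≤ i + 1 + 1) ?_)
      rw [← hi]
      exact Ideal.mem_sup_right (Ideal.mem_span_singleton_self π)
  let t : B ⧸ Q ^ e := Ideal.Quotient.mk _ π
  have hmap : Ideal.span {t} = Ideal.map (Ideal.Quotient.mk (Q ^ e)) (Ideal.span {π}) := by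
    rw [Ideal.map_span, Set.image_singleton]
  have hspan : ∀ b : B, Ideal.Quotient.mk (Q ^ e) b ∈ Ideal.span {t} ↔ b ∈ Q := fun b => by
    rw [hmap, ← Ideal.mem_comap,
      Ideal.comap_map_of_surjective' _ Ideal.Quotient.mk_surjective, Ideal.mk_ker, sup_comm, hsup]
  rw [Groth.Agent.DiffTame.trace_eq_nsmul (k := A ⧸ p) t e
    (by rw [← map_pow, Ideal.Quotient.eq_zero_iff_mem]; exact Ideal.pow_mem_pow hπQ e)
    (fun i hi h0 => by
      rw [← map_pow, Ideal.Quotient.eq_zero_iff_mem] at h0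
      -- `π ^ i ∈ Q ^ e` with `i < e` contradicts `π ∉ Q ^ 2`
      have h1 : Q ^ e ∣ Ideal.span {π} ^ i := by
        rw [Ideal.span_singleton_pow, Ideal.dvd_span_singleton]
        exact h0
      obtain ⟨J, hJ⟩ := Ideal.dvd_span_singleton.mpr hπQ
      have hJQ : ¬ Q ∣ J := fun hd => hπ2 (Ideal.dvd_span_singleton.mp
        (by rw [hJ, pow_two]; exact mul_dvd_mul_left Q hd))
      rw [hJ, mul_pow, show e = i + (e - i) by omega, pow_add] at h1
      have h2 := (mul_dvd_mul_iff_left (pow_ne_zero i hprime.ne_zero)).mp h1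
      exact hJQ (hprime.dvd_of_dvd_pow ((dvd_pow_self Q (by omega : e - i ≠ 0)).trans h2)))
    (fun v hv => by
      obtain ⟨b, rfl⟩ := Ideal.Quotient.mk_surjective v
      obtain ⟨c, m, hm, hcm⟩ := Ideal.IsMaximal.exists_inv ‹Q.IsMaximal› (fun h => hv ((hspan b).mpr h))
      have hnil : IsNilpotent (Ideal.Quotient.mk (Q ^ e) m) :=
        ⟨e, by rw [← map_pow, Ideal.Quotient.eq_zero_iff_mem]; exact Ideal.pow_mem_pow hm e⟩
      have hu := hnil.isUnit_one_sub
      rw [← map_one (Ideal.Quotient.mk (Q ^ e)), ← map_sub, ← hcm, add_sub_cancel_right, map_mul]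
        at hu
      exact isUnit_of_mul_isUnit_right hu)
    (fun hu => (Ideal.IsMaximal.ne_top ‹Q.IsMaximal›) ((Ideal.eq_top_iff_one Q).mpr
      ((hspan 1).mp (by rw [Ideal.span_singleton_eq_top.mpr hu]; exact Submodule.mem_top))))]
  congr 1
  let f : B →+* (B ⧸ Q ^ e) ⧸ Ideal.span {t} := (Ideal.Quotient.mk _).comp (Ideal.Quotient.mk _)
  have hkf : RingHom.ker f = Q := Ideal.ext fun b => by
    rw [RingHom.mem_ker, RingHom.comp_apply, Ideal.Quotient.eq_zero_iff_mem, hspan]
  let ε : B ⧸ Q ≃+* (B ⧸ Q ^ e) ⧸ Ideal.span {t} :=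
    (Ideal.quotEquivOfEq hkf.symm).trans (RingHom.quotientKerEquivOfSurjective
      (show Function.Surjective f from
        Ideal.Quotient.mk_surjective.comp Ideal.Quotient.mk_surjective))
  rw [Algebra.trace_eq_of_equiv_equiv (RingEquiv.refl (A ⧸ p)) ε ?_ (Ideal.Quotient.mk Q y)]
  · rfl
  · refine Ideal.Quotient.ringHom_ext (RingHom.ext fun a => ?_)
    rfl

theorem main (A B : Type u) [CommRing A] [CommRing B]
    [IsDedekindDomain A] [IsDedekindDomain B] [Algebra A B] [Module.Finite A B]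
    [Module.IsTorsionFree A B] (p : Ideal A) [p.IsMaximal] (hp : p ≠ ⊥) (y : B) :
    Ideal.Quotient.mk p (Algebra.intTrace A B y) =
      ∑ᶠ Q : p.primesOver B,
        Q.1.ramificationIdx A •
          Algebra.trace (A ⧸ p) (B ⧸ Q.1) (Ideal.Quotient.mk Q.1 y) := by
  classical
  have hI : p.map (algebraMap A B) ≠ ⊥ := Ideal.map_ne_bot_of_ne_bot hp
  let s := (UniqueFactorizationMonoid.factors (p.map (algebraMap A B))).toFinset
  let e : Ideal B → ℕ := fun P => (UniqueFactorizationMonoid.factors (p.map (algebraMap A B))).count P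
  have hs : ∀ P, P ∈ s ↔ P ∈ p.primesOver B := fun P =>
    IsDedekindDomain.mem_primesOverFinset_iff hp B
  have hle : ∀ P : s, p ≤ Ideal.comap (algebraMap A B) (P.1 ^ e P.1) := fun P => by
    haveI := ((hs _).mp P.2).2
    haveI := ((hs _).mp P.2).1
    rw [← Ideal.map_le_iff_le_comap]
    show p.map (algebraMap A B) ≤ P.1 ^ (UniqueFactorizationMonoid.factors (p.map (algebraMap A B))).count P.1
    rw [← Ideal.IsDedekindDomain.ramificationIdx_eq_factors_count p P.1 hI,
      ← Ideal.ramificationIdx'_eq_ramificationIdx p P.1 hp]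
    exact Ideal.le_pow_ramificationIdx'
  letI : ∀ P : s, Algebra (A ⧸ p) (B ⧸ P.1 ^ e P.1) := fun P =>
    Ideal.Quotient.algebraQuotientOfLEComap (hle P)
  haveI : ∀ P : s, IsScalarTower A (A ⧸ p) (B ⧸ P.1 ^ e P.1) := fun P =>
    IsScalarTower.of_algebraMap_eq' rfl
  haveI : ∀ P : s, Module.Finite (A ⧸ p) (B ⧸ P.1 ^ e P.1) := fun P =>
    Module.Finite.of_restrictScalars_finite A _ _
  let ψ : B ⧸ p.map (algebraMap A B) ≃+* ∀ P : s, B ⧸ P.1 ^ e P.1 :=
    IsDedekindDomain.quotientEquivPiFactors hI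
  let E : p.primesOver B ≃ s := Equiv.subtypeEquivRight fun P => (hs P).symm
  haveI : Fintype (p.primesOver B) := Fintype.ofEquiv _ E.symm
  rw [← Algebra.trace_quotient_eq_of_isDedekindDomain,
    Algebra.trace_eq_of_equiv_equiv (RingEquiv.refl (A ⧸ p)) ψ
      (Ideal.Quotient.ringHom_ext (RingHom.ext fun a => funext fun P => rfl)),
    RingEquiv.symm_refl, RingEquiv.refl_apply, trace_pi, finsum_eq_sum_of_fintype,
    ← Equiv.sum_comp E]
  refine Finset.sum_congr rfl fun Q _ => ?_
  haveI := Q.2.1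
  haveI := Q.2.2
  have hQ0 : Q.1 ≠ ⊥ := Ideal.ne_bot_of_mem_primesOver hp Q.2
  haveI : Q.1.IsMaximal := Q.2.1.isMaximal hQ0
  rw [Ideal.IsDedekindDomain.ramificationIdx_eq_factors_count p Q.1 hI]
  exact comp p Q.1 hQ0 (e Q.1) (Multiset.count_ne_zero.mpr
    (Multiset.mem_toFinset.mp (E Q).2)) (hle (E Q)) y

/-- Let A be a Dedekind domain, B a Dedekind domain which is a finitely generated torsion-free A-algebra
whose fraction field is separable over that of A (B is the integral closure of A in a finite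
separable extension), p a nonzero prime ideal of A and y an element of B. Then the class modulo p of
the trace of y from B to A is the sum over the primes Q of B lying over p of e(Q|p) times the trace,
from B/Q to A/p, of the class of y modulo Q. -/
theorem result (A B : Type u) [CommRing A] [CommRing B]
    [IsDedekindDomain A] [IsDedekindDomain B] [Algebra A B] [Module.Finite A B] [Module.IsTorsionFree A B]
    [Algebra.IsSeparable (FractionRing A) (FractionRing B)]
    (p : Ideal A) [p.IsMaximal] (hp : p ≠ ⊥) (y : B) :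
    Ideal.Quotient.mk p (Algebra.intTrace A B y) =
      ∑ᶠ Q : p.primesOver B,
        Q.1.ramificationIdx A •
          Algebra.trace (A ⧸ p) (B ⧸ Q.1) (Ideal.Quotient.mk Q.1 y) := by
  exact main A B p hp y

end Groth.Agent.S11081
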