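import Groth.Statements.S11085
import Groth.Statements.S11085
import Groth.Agent.S2680
import Groth.Agent.KrullAki.Valuation
import Mathlib
set_option linter.style.haveILetI false
set_option maxHeartbeats 1000000

set_option autoImplicit false
universe u
open CAlg

namespace Groth.Agent.S11085

/-- Let k be a field, A a finitely generated k-algebra which is an integral domain of Krull dimension
one (the coordinate ring of an affine curve), and F its field of fractions. Then the set of
valuation subrings of F which contain k but do not contain A is finite. (The published statement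
speaks of all valuation rings of F different from F and not containing A, over an algebraically
closed k; valuation rings not containing k must be excluded — for k an algebraic closure of a
rational function field in one variable t over a finite field and F = k(x), the t-adic valuation of
k has infinitely many extensions to F, none of whose rings contains A — and the published proof,
through the valuation at infinity of k(x), treats valuation rings containing k; it does not use that
k is algebraically closed.) -/
theorem result (k A F : Type u) [Field k]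
    [CommRing A] [IsDomain A] [Algebra k A] [Algebra.FiniteType k A] (hA : ringKrullDim A = 1)
    [Field F] [Algebra A F] [IsFractionRing A F] [Algebra k F] [IsScalarTower k A F] :
    {O : ValuationSubring F | (algebraMap k F).range ≤ O.toSubring ∧
        ¬ (algebraMap A F).range ≤ O.toSubring}.Finite := by
  classical
  obtain ⟨n, hn, hdn, -⟩ := Groth.Agent.S2680.result k A
  have hn1 : n = 1 := by rw [hA] at hdn; exact_mod_cast hdn.symm
  subst hn1
  have htd : Algebra.trdeg k F = 1 := by
    rw [← ((FractionRing.algEquiv A F).restrictScalars k).trdeg_eq, hn, Nat.cast_one]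
  obtain ⟨σ, hσ⟩ := (Algebra.FiniteType.out : (⊤ : Subalgebra k A).FG)
  -- a valuation ring over `k` missing `A` misses one of the generators
  suffices H : ∀ a ∈ σ, {O : ValuationSubring F | (algebraMap k F).range ≤ O.toSubring ∧
      algebraMap A F a ∉ O}.Finite by
    refine (Set.Finite.biUnion σ.finite_toSet H).subset ?_
    rintro O ⟨hk, hO⟩
    by_contra hc
    simp only [Set.mem_iUnion, Finset.mem_coe, Set.mem_ofPred_eq, not_exists, not_and, not_not] at hc
    let O' : Subalgebra k F := { O.toSubring with algebraMap_mem' := fun c => hk ⟨c, rfl⟩ }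
    have : (⊤ : Subalgebra k A) ≤ O'.comap (IsScalarTower.toAlgHom k A F) := by
      rw [← hσ, Algebra.adjoin_le_iff]
      exact fun a ha => hc a ha hk
    exact hO (by rintro _ ⟨a, rfl⟩; exact this trivial)
  intro a _
  set f := algebraMap A F a with hf
  by_cases halg : IsAlgebraic k f
  · refine Set.Finite.subset Set.finite_empty ?_
    rintro O ⟨hk, hO⟩
    refine hO (KrullAki.mem_of_forall_le_isIntegral hk ?_)
    obtain ⟨P, hP, hPf⟩ := halg.isIntegral
    exact ⟨P.map (algebraMap k F).rangeRestrict, hP.map _, by rw [Polynomial.eval₂_map]; exact hPf⟩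
  set y : F := f⁻¹ with hy
  have hytr : Transcendental k y := fun h => halg (by have := h.inv; rwa [hy, inv_inv] at this)
  let x : PUnit.{u+1} → F := fun _ => y
  have hind : AlgebraicIndependent k x := algebraicIndependent_unique_type_iff.mpr hytr
  have hbas : IsTranscendenceBasis k x :=
    hind.isTranscendenceBasis_of_trdeg_le_of_finite (by rw [htd]; simp)
  set R := Algebra.adjoin k (Set.range x) with hR
  haveI : Algebra.IsAlgebraic R F := hbas.isAlgebraic
  choose r hr0 hrint using fun b : A =>
    (Algebra.IsAlgebraic.isAlgebraic (R := R) (algebraMap A F b)).exists_integral_multiple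
  let B : Subalgebra k F := Algebra.adjoin k ({y} ∪ (fun b => r b • algebraMap A F b) '' (σ : Set A))
  haveI : Algebra.FiniteType k B := ⟨(Subalgebra.fg_top _).mpr ⟨{y} ∪ σ.image (fun b => r b • algebraMap A F b), by simp [B]⟩⟩
  have hyB : y ∈ B := Algebra.subset_adjoin (Or.inl rfl)
  have hRB : R ≤ B := Algebra.adjoin_le (by rintro _ ⟨_, rfl⟩; exact hyB)
  haveI hfracB : IsFractionRing B.toSubring F := by
    refine IsFractionRing.of_field _ _ fun z => ?_
    have hmem : z ∈ Subfield.closure (B.toSubring : Set F) := by
      obtain ⟨p, q, -, rfl⟩ := IsFractionRing.div_surjective (A := A) z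
      let L : Subalgebra k F := { (Subfield.closure (B.toSubring : Set F)).toSubring with
        algebraMap_mem' := fun c => Subfield.subset_closure (B.algebraMap_mem c) }
      have : (⊤ : Subalgebra k A) ≤ L.comap (IsScalarTower.toAlgHom k A F) := by
        rw [← hσ, Algebra.adjoin_le_iff]
        intro b hb
        show algebraMap A F b ∈ Subfield.closure (B.toSubring : Set F)
        have h0 : (r b : F) ≠ 0 := fun h => hr0 b (Subtype.ext h)
        rw [show algebraMap A F b = (r b • algebraMap A F b) / (r b : F) by
          rw [Algebra.smul_def]; exact (mul_div_cancel_left₀ _ h0).symm]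
        exact div_mem (Subfield.subset_closure (Algebra.subset_adjoin (Or.inr ⟨b, hb, rfl⟩)))
          (Subfield.subset_closure (hRB (r b).2))
      exact div_mem (this (trivial : p ∈ (⊤ : Subalgebra k A))) (this (trivial : q ∈ (⊤ : Subalgebra k A)))
    obtain ⟨p, hp, q, hq, rfl⟩ := Subfield.mem_closure_iff.mp hmem
    rw [Subring.closure_eq] at hp hq
    exact ⟨⟨p, hp⟩, ⟨q, hq⟩, rfl⟩
  haveI : IsFractionRing B F := hfracB
  obtain ⟨m, hm, hdm, -⟩ := Groth.Agent.S2680.result k B
  have hm1 : m = 1 := by
    rw [((FractionRing.algEquiv B F).restrictScalars k).trdeg_eq, htd] at hm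
    exact_mod_cast hm.symm
  subst hm1
  haveI : Ring.KrullDimLE 1 B.toSubring := Ring.krullDimLE_iff.2 (le_of_eq hdm)
  haveI : IsNoetherianRing B.toSubring := Algebra.FiniteType.isNoetherianRing k B
  let J : Ideal B.toSubring := Ideal.span {⟨y, hyB⟩}
  let loc : ∀ (P : Ideal B.toSubring), P.IsPrime → Subring F := fun P hP =>
    haveI := hP
    (Localization.subalgebra.ofField F P.primeCompl P.primeCompl_le_nonZeroDivisors).toSubring
  have hfin : ∀ (P : Ideal B.toSubring) (hP : P.IsPrime),
      {V : ValuationSubring F | loc P hP ≤ V.toSubring ∧ V ≠ ⊤}.Finite := by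
    intro P hP
    let S := Localization.subalgebra.ofField F P.primeCompl P.primeCompl_le_nonZeroDivisors
    have hle : B.toSubring ≤ S.toSubring := fun b hb => S.algebraMap_mem ⟨b, hb⟩
    haveI : IsLocalization.AtPrime S P := inferInstanceAs (IsLocalization P.primeCompl S)
    haveI : IsLocalRing S := IsLocalization.AtPrime.isLocalRing S P
    haveI : IsNoetherianRing S := IsLocalization.isNoetherianRing P.primeCompl S inferInstance
    haveI : IsLocalRing S.toSubring := ‹IsLocalRing S›
    haveI : IsNoetherianRing S.toSubring := ‹IsNoetherianRing S›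
    haveI := KrullAki.isFractionRing_of_le hle
    haveI := KrullAki.krullDimLE_one_of_le B.toSubring hle
    exact KrullAki.finite_valuationSubrings S.toSubring
  refine (((Ideal.finite_minimalPrimes_of_isNoetherianRing _ J).biUnion'
    fun P hP => hfin P hP.isPrime)).subset ?_
  rintro O ⟨hk, hO⟩
  have hyO : y ∈ O := (O.mem_or_inv_mem f).resolve_left hO
  let O' : Subalgebra k F := { O.toSubring with algebraMap_mem' := fun c => hk ⟨c, rfl⟩ }
  have hRO : R.toSubring ≤ O.toSubring :=
    fun z hz => Algebra.adjoin_le (S := O') (by rintro _ ⟨_, rfl⟩; exact hyO) hz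
  have hBO : B.toSubring ≤ O.toSubring := by
    refine fun z hz => Algebra.adjoin_le (S := O') ?_ hz
    rintro w (rfl | ⟨b, -, rfl⟩)
    · exact hyO
    · exact KrullAki.mem_of_forall_le_isIntegral hRO (hrint b)
  have hOtop : O ≠ ⊤ := fun h => hO (h ▸ ValuationSubring.mem_top f)
  let P := KrullAki.comapIdeal hBO
  haveI hPp : P.IsPrime := KrullAki.comapIdeal_isPrime hBO
  have hyP : (⟨y, hyB⟩ : B.toSubring) ∈ P := by
    rw [KrullAki.mem_comapIdeal]
    exact (O.inv_mem_nonunits_iff).2 (Or.inr hO)
  have hPmin : P ∈ J.minimalPrimes := by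
    refine ⟨⟨hPp, (Ideal.span_singleton_le_iff_mem _).mpr hyP⟩, fun Q hQ hQP => ?_⟩
    have hQ0 : Q ≠ ⊥ := fun h => by
      have := hQ.2 (Ideal.mem_span_singleton_self _)
      rw [h, Ideal.mem_bot] at this
      exact hytr (by rw [show y = 0 from congrArg Subtype.val this]; exact isAlgebraic_zero)
    have hQmax : Q.IsMaximal := Ring.krullDimLE_one_iff_of_noZeroDivisors.1 inferInstance Q hQ0 hQ.1
    rw [hQmax.eq_of_le hPp.ne_top hQP]
  refine Set.mem_iUnion₂.mpr ⟨P, hPmin, ?_, hOtop⟩
  rintro z ⟨p, q, hq, rfl⟩
  refine O.mul_mem _ _ (hBO p.2) ?_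
  rw [Ideal.mem_primeCompl_iff, KrullAki.mem_comapIdeal, ValuationSubring.mem_nonunits_iff_or] at hq
  push Not at hq
  exact hq.2

end Groth.Agent.S11085
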