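import Groth.Statements.S11086
import Mathlib.RingTheory.DedekindDomain.Different

set_option autoImplicit false
universe u
attribute [local instance] FractionRing.liftAlgebra
open CAlg

namespace Groth.Agent.S11086

/-- Let A be a Dedekind domain, B a Dedekind domain which is a finitely generated torsion-free A-algebra
with fraction field separable over that of A (the integral closure of A in a finite separable
extension), and S a submonoid of A consisting of non-zero-divisors. Let A_S and B_S be localizations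
of A at S and of B at the image of S, with B_S an algebra over A_S compatibly with A and B (so A_S
is integrally closed and B_S is a Dedekind domain, torsion-free over A_S). Then the ideal of B_S
generated by the different of B over A is the different of B_S over A_S. -/
theorem result (A B : Type u) [CommRing A] [CommRing B]
    [IsDedekindDomain A] [IsDedekindDomain B] [Algebra A B] [Module.Finite A B] [Module.IsTorsionFree A B]
    [Algebra.IsSeparable (FractionRing A) (FractionRing B)]
    (S : Submonoid A) (hS : S ≤ nonZeroDivisors A)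
    (Aₛ Bₛ : Type u) [CommRing Aₛ] [CommRing Bₛ] [Algebra A Aₛ] [Algebra B Bₛ] [Algebra Aₛ Bₛ]
    [Algebra A Bₛ] [IsScalarTower A Aₛ Bₛ] [IsScalarTower A B Bₛ]
    [IsLocalization S Aₛ] [IsLocalization (Algebra.algebraMapSubmonoid B S) Bₛ]
    [IsDomain Aₛ] [IsIntegrallyClosed Aₛ] [IsDedekindDomain Bₛ] [Module.IsTorsionFree Aₛ Bₛ] :
    Ideal.map (algebraMap B Bₛ) (differentIdeal A B) = differentIdeal Aₛ Bₛ := by
  classical
  let K := FractionRing A
  let L := FractionRing B
  haveI : FiniteDimensional K L := Module.Finite.of_isLocalization A B (nonZeroDivisors A)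
  haveI : Algebra.IsIntegral A B := Algebra.IsIntegral.of_finite A B
  have hSB : Algebra.algebraMapSubmonoid B S ≤ nonZeroDivisors B := by
    rintro _ ⟨s, hs, rfl⟩
    exact mem_nonZeroDivisors_of_ne_zero
      ((map_ne_zero_iff _ (FaithfulSMul.algebraMap_injective A B)).2 (nonZeroDivisors.ne_zero (hS hs)))
  have hA : ∀ y : S, IsUnit (algebraMap A K y) := fun y => IsLocalization.map_units K ⟨y.1, hS y.2⟩
  letI : Algebra Aₛ K := (IsLocalization.lift (M := S) (S := Aₛ) hA).toAlgebra
  haveI : IsScalarTower A Aₛ K := IsScalarTower.of_algebraMap_eq fun a => (IsLocalization.lift_eq hA a).symm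
  haveI : IsFractionRing Aₛ K := IsFractionRing.isFractionRing_of_isDomain_of_isLocalization S Aₛ K
  have hB : ∀ y : Algebra.algebraMapSubmonoid B S, IsUnit (algebraMap B L y) := fun y =>
    IsLocalization.map_units L ⟨y.1, hSB y.2⟩
  letI : Algebra Bₛ L := (IsLocalization.lift (M := Algebra.algebraMapSubmonoid B S) (S := Bₛ) hB).toAlgebra
  haveI : IsScalarTower B Bₛ L := IsScalarTower.of_algebraMap_eq fun b => (IsLocalization.lift_eq hB b).symm
  haveI : IsFractionRing Bₛ L :=
    IsFractionRing.isFractionRing_of_isDomain_of_isLocalization (Algebra.algebraMapSubmonoid B S) Bₛ L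
  letI : Algebra Aₛ L := ((algebraMap K L).comp (algebraMap Aₛ K)).toAlgebra
  haveI : IsScalarTower Aₛ K L := IsScalarTower.of_algebraMap_eq fun _ => rfl
  haveI : IsScalarTower Aₛ Bₛ L := IsScalarTower.of_algebraMap_eq' (IsLocalization.ringHom_ext S (RingHom.ext fun a => by
    simp only [RingHom.comp_apply]
    show algebraMap K L (algebraMap Aₛ K (algebraMap A Aₛ a)) = _
    rw [← IsScalarTower.algebraMap_apply A Aₛ K, ← IsScalarTower.algebraMap_apply A K L,
      ← IsScalarTower.algebraMap_apply A Aₛ Bₛ, IsScalarTower.algebraMap_apply A B Bₛ,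
      ← IsScalarTower.algebraMap_apply B Bₛ L, ← IsScalarTower.algebraMap_apply A B L]))
  haveI : Algebra.IsIntegral Aₛ Bₛ := Algebra.IsIntegral.mk fun x => by
    obtain ⟨b, ⟨_, s, hs, rfl⟩, rfl⟩ := IsLocalization.exists_mk'_eq (Algebra.algebraMapSubmonoid B S) x
    obtain ⟨u, hu⟩ := IsLocalization.map_units Aₛ (⟨s, hs⟩ : S)
    have hsb : IsLocalization.mk' Bₛ b (⟨algebraMap A B s, s, hs, rfl⟩ : Algebra.algebraMapSubmonoid B S) =
        algebraMap Aₛ Bₛ (↑u⁻¹ : Aₛ) * algebraMap B Bₛ b := by
      rw [IsLocalization.mk'_eq_iff_eq_mul, mul_comm (algebraMap Aₛ Bₛ _), mul_assoc,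
        ← IsScalarTower.algebraMap_apply A B Bₛ, IsScalarTower.algebraMap_apply A Aₛ Bₛ, ← map_mul]
      rw [show (↑u⁻¹ : Aₛ) * algebraMap A Aₛ s = 1 by rw [← hu]; exact u.inv_mul, map_one, mul_one]
    rw [hsb]
    exact isIntegral_algebraMap.mul (((Algebra.IsIntegral.isIntegral (R := A) b).map (IsScalarTower.toAlgHom A B Bₛ)).tower_top)
  haveI : IsIntegralClosure Bₛ Aₛ L := IsIntegralClosure.of_isIntegrallyClosed Bₛ Aₛ L
  haveI : IsIntegralClosure B A L := IsIntegralClosure.of_isIntegrallyClosed B A L
  haveI : Module.IsTorsionFree B Bₛ :=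
    Module.isTorsionFree_iff_algebraMap_injective.2 (IsLocalization.injective Bₛ hSB)
  have hid : ∀ (h : nonZeroDivisors B ≤ (nonZeroDivisors Bₛ).comap (algebraMap B Bₛ)) (x : L),
      IsLocalization.map (S := L) L (algebraMap B Bₛ) h x = x := fun h => by
    refine RingHom.congr_fun (g := RingHom.id L) (IsLocalization.ringHom_ext (nonZeroDivisors B) (RingHom.ext fun b => ?_))
    simp only [RingHom.comp_apply, RingHom.id_apply, IsLocalization.map_eq, ← IsScalarTower.algebraMap_apply]
  have key : ∀ (r : A) (y : L), Algebra.trace K L (algebraMap A L r * y) = algebraMap A K r * Algebra.trace K L y :=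
    fun r y => by
      rw [IsScalarTower.algebraMap_apply A K L, ← Algebra.smul_def, map_smul, smul_eq_mul]
  refine (FractionalIdeal.coeIdeal_inj (K := L)).1 ?_
  rw [← FractionalIdeal.extendedHom_coeIdeal_eq_map (K := L), coeIdeal_differentIdeal A K L B,
    coeIdeal_differentIdeal Aₛ K L Bₛ, map_inv₀]
  congr 1
  refine FractionalIdeal.coeToSubmodule_injective ?_
  beta_reduce
  rw [FractionalIdeal.extendedHom'_apply, FractionalIdeal.coe_extended_eq_span, FractionalIdeal.coe_dual_one]
  simp only [hid, Set.image_id']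
  refine le_antisymm (Submodule.span_le.2 fun x hx => ?_) fun x hx => ?_
  · refine Submodule.mem_traceDual.2 fun y hy => ?_
    obtain ⟨z, rfl⟩ := Submodule.mem_one.1 hy
    obtain ⟨b, ⟨_, s, hs, rfl⟩, rfl⟩ := IsLocalization.exists_mk'_eq (Algebra.algebraMapSubmonoid B S) z
    have hx' : x ∈ Submodule.traceDual A K (1 : Submodule B L) := by
      rw [← FractionalIdeal.coe_dual_one (A := A) (K := K) (L := L) (B := B)]; exact hx
    obtain ⟨a, ha⟩ := Submodule.mem_traceDual.1 hx' (algebraMap B L b) (Submodule.mem_one.2 ⟨b, rfl⟩)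
    refine ⟨IsLocalization.mk' Aₛ a ⟨s, hs⟩, ?_⟩
    rw [Algebra.traceForm_apply] at ha ⊢
    have hsK : algebraMap A K s ≠ 0 := IsFractionRing.to_map_ne_zero_of_mem_nonZeroDivisors (hS hs)
    refine mul_left_cancel₀ hsK ?_
    have h1 : algebraMap A K s * algebraMap Aₛ K (IsLocalization.mk' Aₛ a ⟨s, hs⟩) = algebraMap A K a := by
      rw [IsScalarTower.algebraMap_apply A Aₛ K s, ← map_mul]
      show algebraMap Aₛ K (algebraMap A Aₛ ((⟨s, hs⟩ : S) : A) * _) = _
      rw [IsLocalization.mk'_spec', ← IsScalarTower.algebraMap_apply]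
    have h2 : algebraMap B L (algebraMap A B s) *
        algebraMap Bₛ L (IsLocalization.mk' Bₛ b (⟨algebraMap A B s, s, hs, rfl⟩ : Algebra.algebraMapSubmonoid B S)) =
        algebraMap B L b := by
      rw [IsScalarTower.algebraMap_apply B Bₛ L (algebraMap A B s), ← map_mul]
      show algebraMap Bₛ L (algebraMap B Bₛ ((⟨algebraMap A B s, s, hs, rfl⟩ : Algebra.algebraMapSubmonoid B S) : B) * _) = _
      rw [IsLocalization.mk'_spec', ← IsScalarTower.algebraMap_apply]
    rw [h1, ha, ← key, IsScalarTower.algebraMap_apply A B L s, mul_left_comm, h2]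
  · obtain ⟨gs, hgs⟩ := (Module.Finite.fg_top : (⊤ : Submodule A B).FG)
    have hint : ∀ b ∈ gs, ∃ z : Aₛ, algebraMap Aₛ K z = Algebra.trace K L (x * algebraMap B L b) := fun b _ => by
      obtain ⟨z, hz⟩ := Submodule.mem_traceDual.1 hx (algebraMap B L b)
        (Submodule.mem_one.2 ⟨algebraMap B Bₛ b, (IsScalarTower.algebraMap_apply B Bₛ L b).symm⟩)
      exact ⟨z, by rw [hz, Algebra.traceForm_apply]⟩
    choose! z hz using hint
    obtain ⟨s, hs⟩ := IsLocalization.exist_integer_multiples S gs z
    have hsx : algebraMap A L s * x ∈ Submodule.traceDual A K (1 : Submodule B L) := by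
      refine Submodule.mem_traceDual.2 fun y hy => ?_
      obtain ⟨b, rfl⟩ := Submodule.mem_one.1 hy
      have hb : b ∈ Submodule.span A (gs : Set B) := hgs ▸ Submodule.mem_top
      induction hb using Submodule.span_induction with
      | mem b hb =>
        obtain ⟨a, ha⟩ := hs b hb
        refine ⟨a, ?_⟩
        rw [IsScalarTower.algebraMap_apply A Aₛ K, ha, Algebra.smul_def, map_mul, hz b hb,
          ← IsScalarTower.algebraMap_apply, Algebra.traceForm_apply, mul_assoc, key]
      | zero => exact ⟨0, by rw [map_zero, map_zero, map_zero]⟩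
      | add u v _ _ hu hv =>
        obtain ⟨a, ha⟩ := hu (Submodule.mem_one.2 ⟨u, rfl⟩); obtain ⟨c, hc⟩ := hv (Submodule.mem_one.2 ⟨v, rfl⟩)
        exact ⟨a + c, by rw [map_add, ha, hc, map_add, map_add]⟩
      | smul r u _ hu =>
        obtain ⟨a, ha⟩ := hu (Submodule.mem_one.2 ⟨u, rfl⟩)
        refine ⟨r * a, ?_⟩
        rw [map_mul (algebraMap A K), ha, Algebra.traceForm_apply, Algebra.traceForm_apply, Algebra.smul_def r u,
          map_mul (algebraMap B L), ← IsScalarTower.algebraMap_apply A B L, mul_left_comm (algebraMap A L s * x), key]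
    obtain ⟨u, hu⟩ := IsLocalization.map_units Aₛ s
    have hx' : x = algebraMap Aₛ Bₛ (↑u⁻¹ : Aₛ) • (algebraMap A L s * x) := by
      rw [Algebra.smul_def, ← IsScalarTower.algebraMap_apply Aₛ Bₛ L, ← mul_assoc,
        IsScalarTower.algebraMap_apply A K L, IsScalarTower.algebraMap_apply A Aₛ K, ← hu,
        IsScalarTower.algebraMap_apply Aₛ K L, ← map_mul, ← map_mul, u.inv_mul, map_one, map_one, one_mul]
    rw [hx']
    refine Submodule.smul_mem _ _ (Submodule.subset_span ?_)
    show _ ∈ FractionalIdeal.dual A K (1 : FractionalIdeal (nonZeroDivisors B) L)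
    rw [← FractionalIdeal.mem_coe, FractionalIdeal.coe_dual_one]
    exact hsx

end Groth.Agent.S11086
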