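import Groth.Statements.S11087
import Groth.Agent.Hensel.IntegralStrict
import Groth.Agent.S0505
import Mathlib

set_option autoImplicit false
universe u
attribute [local instance] FractionRing.liftAlgebra
open CAlg

namespace Groth.Agent.S11087

/-- Let A be a complete discrete valuation ring and K a perfect field contained in A such that K → A →
A/m is bijective. Let B be a Dedekind domain which is a finite torsion-free A-algebra with fraction
field separable over that of A (the integral closure of A in a finite separable extension of its
fraction field). Then for every maximal ideal M of B and every b in B there is exactly one element c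
of B which is algebraic over K and congruent to b modulo M; in other words the algebraic closure of
K in B is a subfield mapping isomorphically onto B/M. -/
theorem result (K A B : Type u) [Field K]
    [PerfectField K] [CommRing A] [IsDomain A] [IsDiscreteValuationRing A]
    [IsAdicComplete (IsLocalRing.maximalIdeal A) A]
    [Algebra K A] (hK : Function.Bijective ((IsLocalRing.residue A).comp (algebraMap K A)))
    [CommRing B] [IsDedekindDomain B] [Algebra A B] [Module.Finite A B] [Module.IsTorsionFree A B]
    [Algebra.IsSeparable (FractionRing A) (FractionRing B)] [Algebra K B] [IsScalarTower K A B]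
    (M : Ideal B) [M.IsMaximal] (b : B) :
    ∃! c : B, IsAlgebraic K c ∧ b - c ∈ M := by
  haveI : HenselianLocalRing A := Groth.Agent.Hensel.henselianLocalRing_of_henselianRing A
  haveI : IsLocalRing B := Groth.Agent.Hensel.isLocalRing_of_isIntegral_domain A B
  have hB : HenselianLocalRing B := Groth.Agent.S0505.result A B
  have hM : M = IsLocalRing.maximalIdeal B := IsLocalRing.eq_maximalIdeal ‹_›
  letI : Field (B ⧸ M) := Ideal.Quotient.field M
  classical
  haveI : Algebra.IsAlgebraic K (B ⧸ M) := by
    let k := IsLocalRing.ResidueField A
    have hle : IsLocalRing.maximalIdeal A ≤ M.comap (algebraMap A B) := fun a ha => by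
      rw [Ideal.mem_comap, hM]
      exact (IsLocalRing.mem_maximalIdeal _).2 fun hu => ha (isUnit_of_map_unit (algebraMap A B) a hu)
    refine ⟨fun x => IsIntegral.isAlgebraic ?_⟩
    haveI : Module.Finite K (B ⧸ M) := by
      obtain ⟨S, hS⟩ := Module.Finite.fg_top (R := A) (M := B)
      refine ⟨⟨S.image (Ideal.Quotient.mk M), ?_⟩⟩
      rw [eq_top_iff]
      rintro y -
      obtain ⟨z, rfl⟩ := Ideal.Quotient.mk_surjective y
      have hz : z ∈ Submodule.span A (S : Set B) := hS ▸ Submodule.mem_top
      induction hz using Submodule.span_induction with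
      | mem z hz => exact Submodule.subset_span (Finset.mem_image_of_mem _ hz)
      | zero => rw [map_zero]; exact zero_mem _
      | add z w _ _ hz hw => rw [map_add]; exact add_mem hz hw
      | smul a z _ hz =>
        obtain ⟨c, hc⟩ := hK.2 (IsLocalRing.residue A a)
        have : Ideal.Quotient.mk M (a • z) = c • Ideal.Quotient.mk M z := by
          rw [Algebra.smul_def, map_mul, Algebra.smul_def]
          congr 1
          rw [IsScalarTower.algebraMap_apply K B (B ⧸ M), Ideal.Quotient.algebraMap_eq, Ideal.Quotient.eq,
            IsScalarTower.algebraMap_apply K A B, ← map_sub]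
          exact hle (Ideal.Quotient.eq.1 hc.symm)
        rw [this]
        exact Submodule.smul_mem _ _ hz
    exact IsIntegral.of_finite K x
  let bb : B ⧸ M := Ideal.Quotient.mk M b
  have hint : IsIntegral K bb := (Algebra.IsAlgebraic.isAlgebraic bb).isIntegral
  let P := minpoly K bb
  have h1 : (P.map (algebraMap K B)).eval b ∈ M := by
    rw [← Ideal.Quotient.eq_zero_iff_mem, Polynomial.eval_map_algebraMap,
      show Ideal.Quotient.mk M (Polynomial.aeval b P) = Polynomial.aeval bb P from
        (Polynomial.aeval_algHom_apply (Ideal.Quotient.mkₐ K M) b P).symm]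
    exact minpoly.aeval K bb
  have h2 : IsUnit ((P.map (algebraMap K B)).derivative.eval b) := by
    by_contra hu
    have hmem : (P.map (algebraMap K B)).derivative.eval b ∈ M := by
      rw [hM]; exact (IsLocalRing.mem_maximalIdeal _).2 hu
    rw [Polynomial.derivative_map, Polynomial.eval_map_algebraMap, ← Ideal.Quotient.eq_zero_iff_mem,
      show Ideal.Quotient.mk M (Polynomial.aeval b (Polynomial.derivative P)) = Polynomial.aeval bb (Polynomial.derivative P) from
        (Polynomial.aeval_algHom_apply (Ideal.Quotient.mkₐ K M) b _).symm] at hmem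
    exact (PerfectField.separable_of_irreducible (minpoly.irreducible hint)).aeval_derivative_ne_zero (minpoly.aeval K bb) hmem
  obtain ⟨c, hc, hcb⟩ := hB.is_henselian (P.map (algebraMap K B)) ((minpoly.monic hint).map _) b (hM ▸ h1) h2
  have hcalg : IsAlgebraic K c :=
    ⟨P, minpoly.ne_zero hint, by rw [← Polynomial.eval_map_algebraMap]; exact hc⟩
  refine ⟨c, ⟨hcalg, ?_⟩, fun c' ⟨hc', hbc'⟩ => ?_⟩
  · rw [← neg_sub, neg_mem_iff, hM]; exact hcb
  · by_contra hne
    have hd : IsAlgebraic K (c' - c) := hc'.sub hcalg
    have hdM : c' - c ∈ M := by
      rw [show c' - c = (c' - b) + (b - c) by ring]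
      refine add_mem ?_ ?_
      · rw [← neg_sub, neg_mem_iff]; exact hbc'
      · rw [← neg_sub, neg_mem_iff, hM]; exact hcb
    obtain ⟨e, he, hde⟩ := hd.exists_nonzero_dvd (mem_nonZeroDivisors_of_ne_zero (sub_ne_zero.2 hne))
    exact (inferInstance : M.IsMaximal).ne_top (Ideal.eq_top_of_isUnit_mem M (M.mem_of_dvd hde hdM)
      ((Ne.isUnit he).map (algebraMap K B)))

end Groth.Agent.S11087
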