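import Groth.Statements.S11088
import Groth.Agent.Hensel.IntegralStrict
import Mathlib.RingTheory.Ideal.Norm.RelNorm
import Mathlib.RingTheory.RamificationInertia.Basic
import Mathlib.RingTheory.DedekindDomain.Factorization

set_option autoImplicit false
universe u
attribute [local instance] FractionRing.liftAlgebra
open CAlg

namespace Groth.Agent.S11088

/-- Let A be a complete discrete valuation ring with maximal ideal m and B a Dedekind domain which is a
finite torsion-free A-algebra with fraction field separable over that of A (the integral closure of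
A in a finite separable extension). Then for every maximal ideal M of B, with f the degree of B/M
over A/m, and every nonzero x in B, the multiplicity of m in the ideal generated by the norm of x
equals f times the multiplicity of M in the ideal generated by x: v(N(x)) = f · w(x). -/
theorem result (A B : Type u) [CommRing A] [IsDomain A] [IsDiscreteValuationRing A]
    [IsAdicComplete (IsLocalRing.maximalIdeal A) A]
    [CommRing B] [IsDedekindDomain B] [Algebra A B] [Module.Finite A B] [Module.IsTorsionFree A B]
    [Algebra.IsSeparable (FractionRing A) (FractionRing B)]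
    (M : Ideal B) [M.IsMaximal] (x : B) (hx : x ≠ 0) :
    emultiplicity (IsLocalRing.maximalIdeal A) (Ideal.span {Algebra.intNorm A B x}) =
      (M.inertiaDeg A : ℕ∞) * emultiplicity M (Ideal.span {x}) := by
  classical
  haveI : HenselianLocalRing A := Hensel.henselianLocalRing_of_henselianRing A
  haveI : IsLocalRing B := Hensel.isLocalRing_of_isIntegral_domain A B
  set p := IsLocalRing.maximalIdeal A with hpdef
  have hp : p ≠ ⊥ := IsDiscreteValuationRing.not_a_field A
  haveI : M.LiesOver p := ⟨(IsLocalRing.eq_maximalIdeal (Ideal.isMaximal_comap_of_isIntegral_of_isMaximal M)).symm⟩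
  have hset : p.primesOver B = {M} := by
    ext Q
    constructor
    · rintro ⟨hQ, hQp⟩
      haveI := hQ
      haveI := hQp
      haveI : Q.IsMaximal := Ideal.IsMaximal.of_liesOver_isMaximal Q p
      exact (IsLocalRing.eq_maximalIdeal ‹_›).trans (IsLocalRing.eq_maximalIdeal ‹M.IsMaximal›).symm
    · rintro rfl
      exact ⟨inferInstance, inferInstance⟩
  have hM0 : M ≠ ⊥ := Ideal.ne_bot_of_liesOver_of_ne_bot hp M
  have he : M.ramificationIdx A * M.inertiaDeg A = Module.finrank A B := by
    letI : Unique (p.primesOver B) := ⟨⟨⟨M, by rw [hset]; rfl⟩⟩, fun Q => Subtype.ext ((Set.ext_iff.1 hset Q.1).1 Q.2)⟩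
    haveI : Fintype (p.primesOver B) := Fintype.ofFinite _
    have := Ideal.sum_ramification_inertia_eq_finrank p B
    rwa [Fintype.sum_unique] at this
  obtain ⟨s, hs⟩ := Ideal.exists_relNorm_eq_pow_of_isPrime M p
  have hmap : p.map (algebraMap A B) = M ^ M.ramificationIdx A := by
    rw [Ideal.map_algebraMap_eq_finsetProd_pow (R := B) hp]
    exact Finset.prod_eq_single M (fun Q hQ hne => absurd (by simpa [hset] using hQ) hne)
      (fun h => absurd (by simp [hset]) h)
  have hpi : Function.Injective (p ^ · : ℕ → Ideal A) := pow_injective_of_not_isUnit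
    (fun h => Ideal.IsMaximal.ne_top (inferInstanceAs p.IsMaximal) (Ideal.isUnit_iff.1 h)) hp
  have hsf : s = M.inertiaDeg A := by
    have h1 := congrArg (Ideal.relNorm A) hmap
    rw [Ideal.relNorm_algebraMap, map_pow, hs, ← pow_mul] at h1
    have h2 := hpi h1
    rw [← he, mul_comm] at h2
    exact (Nat.eq_of_mul_eq_mul_right (Nat.pos_of_ne_zero fun h0 => by
      simp [h0] at he
      exact Module.finrank_pos.ne' he.symm) h2).symm
  have hx0 : Ideal.span ({x} : Set B) ≠ ⊥ := Ideal.span_singleton_eq_bot.not.2 hx
  have hsing : ∀ J : Ideal B, J.IsMaximal → J = M := fun J hJ =>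
    (IsLocalRing.eq_maximalIdeal hJ).trans (IsLocalRing.eq_maximalIdeal ‹M.IsMaximal›).symm
  obtain ⟨w, J, hndvd, hJ⟩ := WfDvdMonoid.max_power_factor hx0 (Ideal.prime_of_isPrime hM0 inferInstance).irreducible
  have hJtop : J = ⊤ := by
    by_contra hne
    obtain ⟨Q, hQ, hle⟩ := Ideal.exists_le_maximal J hne
    exact hndvd (Ideal.dvd_iff_le.2 (hsing Q hQ ▸ hle))
  rw [hJtop, Ideal.mul_top] at hJ
  have hN : Ideal.span {Algebra.intNorm A B x} = p ^ (M.inertiaDeg A * w) := by
    rw [← Ideal.relNorm_singleton, hJ, map_pow, hs, hsf, ← pow_mul]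
  rw [hN, hJ, emultiplicity_pow_self hp (fun h => Ideal.IsMaximal.ne_top (inferInstanceAs p.IsMaximal) (Ideal.isUnit_iff.1 h)),
    emultiplicity_pow_self hM0 (fun h => Ideal.IsMaximal.ne_top ‹M.IsMaximal› (Ideal.isUnit_iff.1 h)), Nat.cast_mul]

end Groth.Agent.S11088
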