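import Groth.Statements.S11089
import Groth.Agent.Hensel.IntegralStrict
import Mathlib.RingTheory.RamificationInertia.Basic
import Mathlib.RingTheory.DedekindDomain.Factorization
import Mathlib.RingTheory.Polynomial.Eisenstein.Basic
import Mathlib.FieldTheory.Minpoly.IsIntegrallyClosed

set_option autoImplicit false
universe u
attribute [local instance] FractionRing.liftAlgebra
open CAlg

namespace Groth.Agent.S11089

/-- Let A be a complete discrete valuation ring containing a field K with K → A → A/m bijective, and B a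
Dedekind domain which is a finite torsion-free A-algebra of rank m with fraction field separable
over that of A (the integral closure of A in a finite separable extension E of F = Frac A). If the
extension is totally ramified — the maximal ideal M of B has ramification index m — and m is a unit
in A, then some uniformizer u of B (an element of M not in M²) satisfies u^m ∈ A and generates E
over F: its minimal polynomial over A has degree m. -/
theorem result (K A B : Type u) [Field K]
    [CommRing A] [IsDomain A] [IsDiscreteValuationRing A]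
    [IsAdicComplete (IsLocalRing.maximalIdeal A) A]
    [Algebra K A] (hK : Function.Bijective ((IsLocalRing.residue A).comp (algebraMap K A)))
    [CommRing B] [IsDedekindDomain B] [Algebra A B] [Module.Finite A B] [Module.IsTorsionFree A B]
    [Algebra.IsSeparable (FractionRing A) (FractionRing B)]
    (M : Ideal B) [M.IsMaximal] (hram : M.ramificationIdx A = Module.finrank A B)
    (hm : IsUnit ((Module.finrank A B : ℕ) : A)) :
    ∃ u : B, u ∈ M ∧ u ∉ M ^ 2 ∧ u ^ Module.finrank A B ∈ (algebraMap A B).range ∧
      (minpoly A u).natDegree = Module.finrank A B := by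
  classical
  haveI : HenselianLocalRing A := Hensel.henselianLocalRing_of_henselianRing A
  haveI : IsLocalRing B := Hensel.isLocalRing_of_isIntegral_domain A B
  haveI : HenselianLocalRing B := Hensel.henselianLocalRing_of_isIntegral_local A B
  set p := IsLocalRing.maximalIdeal A with hpdef
  have hp : p ≠ ⊥ := IsDiscreteValuationRing.not_a_field A
  haveI : M.LiesOver p := ⟨(IsLocalRing.eq_maximalIdeal (Ideal.isMaximal_comap_of_isIntegral_of_isMaximal M)).symm⟩
  have hMmax : M = IsLocalRing.maximalIdeal B := IsLocalRing.eq_maximalIdeal ‹_›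
  have hset : p.primesOver B = {M} := by
    ext Q
    constructor
    · rintro ⟨hQ, hQp⟩
      haveI := hQ
      haveI := hQp
      haveI : Q.IsMaximal := Ideal.IsMaximal.of_liesOver_isMaximal Q p
      exact (IsLocalRing.eq_maximalIdeal ‹_›).trans hMmax.symm
    · rintro rfl
      exact ⟨inferInstance, inferInstance⟩
  have hM0 : M ≠ ⊥ := Ideal.ne_bot_of_liesOver_of_ne_bot hp M
  set m := Module.finrank A B with hmd
  have he : M.ramificationIdx A * M.inertiaDeg A = m := by
    letI : Unique (p.primesOver B) := ⟨⟨⟨M, by rw [hset]; rfl⟩⟩, fun Q => Subtype.ext ((Set.ext_iff.1 hset Q.1).1 Q.2)⟩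
    haveI : Fintype (p.primesOver B) := Fintype.ofFinite _
    have := Ideal.sum_ramification_inertia_eq_finrank p B
    rwa [Fintype.sum_unique] at this
  have hm0 : m ≠ 0 := fun h => by rw [h, Nat.cast_zero] at hm; exact not_isUnit_zero hm
  have hf1 : M.inertiaDeg A = 1 := by
    rw [hram] at he
    exact Nat.eq_of_mul_eq_mul_left (Nat.pos_of_ne_zero hm0) (he.trans (mul_one m).symm)
  have hmap : p.map (algebraMap A B) = M ^ m := by
    rw [Ideal.map_algebraMap_eq_finsetProd_pow (R := B) hp, ← hram]
    exact Finset.prod_eq_single M (fun Q hQ hne => absurd (by simpa [hset] using hQ) hne)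
      (fun h => absurd (by simp [hset]) h)
  -- residues lift to `K`
  have hres : ∀ b : B, ∃ c : K, b - algebraMap A B (algebraMap K A c) ∈ M := by
    intro b
    letI : Field (A ⧸ p) := Ideal.Quotient.field p
    have h1 : Module.finrank (A ⧸ p) (B ⧸ M) = 1 := by rw [← Ideal.inertiaDeg_eq_of_isMaximal p M, hf1]
    have hne : (1 : B ⧸ M) ≠ 0 := by
      haveI : Nontrivial (B ⧸ M) := Ideal.Quotient.nontrivial_iff.2 (Ideal.IsMaximal.ne_top ‹_›)
      exact one_ne_zero
    obtain ⟨r, hr⟩ := exists_smul_eq_of_finrank_eq_one h1 hne (Ideal.Quotient.mk M b)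
    obtain ⟨a, rfl⟩ := Ideal.Quotient.mk_surjective r
    obtain ⟨c, hc⟩ := hK.2 (IsLocalRing.residue A a)
    refine ⟨c, ?_⟩
    rw [← Ideal.Quotient.eq, ← hr, Algebra.smul_def, mul_one]
    show _ = Ideal.Quotient.mk M (algebraMap A B (algebraMap K A c))
    refine Ideal.Quotient.eq.2 ?_
    rw [← map_sub, ← Ideal.mem_comap, show M.comap (algebraMap A B) = p from (Ideal.over_def M p).symm]
    exact Ideal.Quotient.eq.1 hc.symm
  -- uniformizers
  obtain ⟨ϖ, hϖ⟩ := IsDiscreteValuationRing.exists_irreducible A
  have hpϖ : p = Ideal.span {ϖ} := hϖ.maximalIdeal_eq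
  have hM2 : M ^ 2 < M := Ideal.pow_right_strictAnti M hM0 (Ideal.IsMaximal.ne_top ‹_›) one_lt_two |>.trans_eq (pow_one M)
  obtain ⟨π, hπM, hπ2⟩ := SetLike.exists_of_lt hM2
  have hMπ : M = Ideal.span {π} := by
    rw [hMmax] at hπM hπ2 ⊢
    have hdvr : IsDiscreteValuationRing B := by
      refine ((IsDiscreteValuationRing.TFAE B fun h => hM0 ?_).out 0 2).mpr ‹IsDedekindDomain B›
      rw [hMmax]; exact IsLocalRing.isField_iff_maximalIdeal_eq.1 h
    obtain ⟨π', hπ'⟩ := IsDiscreteValuationRing.exists_irreducible B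
    rw [hπ'.maximalIdeal_eq] at hπM hπ2 ⊢
    obtain ⟨c, rfl⟩ := Ideal.mem_span_singleton'.1 hπM
    have hc : IsUnit c := by
      by_contra hc
      have hc' : c ∈ Ideal.span {π'} := hπ'.maximalIdeal_eq ▸ (IsLocalRing.mem_maximalIdeal c).2 hc
      exact hπ2 (by rw [sq]; exact Ideal.mul_mem_mul hc' (Ideal.mem_span_singleton_self π'))
    exact (Ideal.span_singleton_mul_left_unit hc π').symm
  obtain ⟨w, hw⟩ : Associated (algebraMap A B ϖ) (π ^ m) := by
    rw [← Ideal.span_singleton_eq_span_singleton, ← Ideal.span_singleton_pow, ← hMπ, ← hmap, hpϖ,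
      Ideal.map_span, Set.image_singleton]
  obtain ⟨c, hc⟩ := hres w
  have hcu : c ≠ 0 := fun h => by
    rw [h, map_zero, map_zero, sub_zero, hMmax] at hc
    exact hc w.isUnit
  obtain ⟨d, hd⟩ : ∃ d : A, algebraMap K A c * d = 1 := ⟨algebraMap K A c⁻¹, by rw [← map_mul, mul_inv_cancel₀ hcu, map_one]⟩
  have hdB : algebraMap A B (algebraMap K A c) * algebraMap A B d = 1 := by rw [← map_mul, hd, map_one]
  set t : B := w * algebraMap A B d with ht
  have ht1 : t - 1 ∈ M := by
    have := M.mul_mem_right (algebraMap A B d) hc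
    rwa [sub_mul, hdB] at this
  have htu : IsUnit t := w.isUnit.mul (IsUnit.of_mul_eq_one _ (by rw [mul_comm]; exact hdB))
  obtain ⟨r, hr, hr1⟩ := HenselianLocalRing.is_henselian (Polynomial.X ^ m - Polynomial.C t)
    (Polynomial.monic_X_pow_sub_C t hm0) 1 (by
      rw [← hMmax]
      simpa using M.neg_mem ht1)
    (by
      simp [Polynomial.derivative_X_pow]
      simpa using hm.map (algebraMap A B))
  have hrt : r ^ m = t := by simpa [Polynomial.IsRoot, sub_eq_zero] using hr
  have hru : IsUnit r := (isUnit_pow_iff hm0).1 (hrt ▸ htu)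
  obtain ⟨s, hs⟩ := hru.exists_right_inv
  let a : A := ϖ * algebraMap K A c
  have hu : (π * s) ^ m = algebraMap A B a := by
    have h1 : t * s ^ m = 1 := by rw [← hrt, ← mul_pow, hs, one_pow]
    calc (π * s) ^ m = π ^ m * s ^ m := mul_pow _ _ _
      _ = algebraMap A B ϖ * (t * s ^ m) * (algebraMap A B (algebraMap K A c)) := by
          rw [← hw, ht]
          linear_combination (-(algebraMap A B ϖ * (w : B) * s ^ m)) * hdB
      _ = algebraMap A B a := by rw [h1, mul_one, map_mul]
  refine ⟨π * s, M.mul_mem_right _ hπM, fun h => hπ2 ?_, ⟨a, hu.symm⟩, ?_⟩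
  · have := (M ^ 2).mul_mem_right r h
    rwa [mul_assoc, mul_comm s, hs, mul_one] at this
  · have hirr : Irreducible (Polynomial.X ^ m - Polynomial.C a) := by
      refine Polynomial.IsEisensteinAt.irreducible (𝓟 := p) ?_ inferInstance (Polynomial.monic_X_pow_sub_C a hm0).isPrimitive
        (by rw [Polynomial.natDegree_X_pow_sub_C]; omega)
      refine ⟨?_, ?_, ?_⟩
      · rw [(Polynomial.monic_X_pow_sub_C a hm0).leadingCoeff]
        exact fun h => (IsLocalRing.maximalIdeal.isMaximal A).ne_top ((Ideal.eq_top_iff_one _).2 h)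
      · intro i hi
        rw [Polynomial.natDegree_X_pow_sub_C] at hi
        rw [Polynomial.coeff_sub, Polynomial.coeff_X_pow, if_neg hi.ne, zero_sub, neg_mem_iff, Polynomial.coeff_C]
        split_ifs
        · rw [hpϖ]; exact Ideal.mul_mem_right _ _ (Ideal.mem_span_singleton_self ϖ)
        · exact zero_mem _
      · rw [Polynomial.coeff_sub, Polynomial.coeff_X_pow, if_neg (Ne.symm hm0), zero_sub, Polynomial.coeff_C_zero, neg_mem_iff,
          hpϖ, Ideal.span_singleton_pow, Ideal.mem_span_singleton]
        intro hdvd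
        have h2 : ϖ ^ 2 ∣ ϖ := by
          have := dvd_mul_of_dvd_left hdvd d
          rwa [show a * d = ϖ by rw [mul_assoc, hd, mul_one]] at this
        exact hϖ.not_isUnit (isUnit_of_dvd_one ((mul_dvd_mul_iff_left hϖ.ne_zero).1 (by rwa [mul_one, ← sq])))
    have hdvd : minpoly A (π * s) ∣ Polynomial.X ^ m - Polynomial.C a :=
      minpoly.isIntegrallyClosed_dvd (Algebra.IsIntegral.isIntegral _) (by simp [hu])
    have h := Polynomial.eq_of_monic_of_associated (minpoly.monic (Algebra.IsIntegral.isIntegral _))
      (Polynomial.monic_X_pow_sub_C a hm0)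
      (((irreducible_iff.1 hirr).2 (Classical.choose_spec hdvd)).elim (fun h => absurd h (minpoly.not_isUnit A _))
        (fun h => associated_of_dvd_dvd hdvd ((Classical.choose_spec hdvd).symm ▸ (IsUnit.mul_right_dvd h).2 dvd_rfl)))
    rw [h, Polynomial.natDegree_X_pow_sub_C]

end Groth.Agent.S11089
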