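import Groth.Statements.S11090
import Groth.Agent.AVSubLib.FppfFactor
import Groth.Agent.AVSubLib.Component
import Groth.Agent.GrpSchLib.SmoothReduced
import Groth.Agent.AVSubLib.PtsDegree

set_option autoImplicit false
universe u
open CategoryTheory CategoryTheory.Limits MonoidalCategory CartesianMonoidalCategory MonObj GrpObj AlgebraicGeometry
open AbVar

namespace Groth.Agent.S11090

/-- Let k be an algebraically closed field and E, E′, E″ elliptic curves over k, i.e. group schemes over
Spec k whose underlying schemes are proper, smooth, integral and one-dimensional. Let φ : E → E′ be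
a homomorphism which is finite, surjective and étale (a separable isogeny) and ψ : E → E″ a
homomorphism such that every k-valued point of E sent to the unit by φ is sent to the unit by ψ.
Then there is a unique homomorphism ρ : E′ → E″ with ψ = ρ ∘ φ. (The published statement prints ψ as
a map from E″ to E and calls it an isogeny; its proof treats ψ as a map from E to E″, as here, and
this row allows any homomorphism ψ, the extra case of trivial ψ being immediate.) -/
theorem result (k : Type u) [Field k] [IsAlgClosed k]
    (E E' E'' : Over (Spec (CommRingCat.of k)))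
    [GrpObj E] [IsProper E.hom] [Smooth E.hom] [IsIntegral E.left] (hE : topologicalKrullDim E.left = 1)
    [GrpObj E'] [IsProper E'.hom] [Smooth E'.hom] [IsIntegral E'.left] (hE' : topologicalKrullDim E'.left = 1)
    [GrpObj E''] [IsProper E''.hom] [Smooth E''.hom] [IsIntegral E''.left] (hE'' : topologicalKrullDim E''.left = 1)
    (φ : E ⟶ E') [IsMonHom φ] [IsFinite φ.left] [Surjective φ.left] [Etale φ.left]
    (ψ : E ⟶ E'') [IsMonHom ψ]
    (hker : ∀ P : 𝟙_ (Over (Spec (CommRingCat.of k))) ⟶ E, P ≫ φ = η[E'] → P ≫ ψ = η[E'']) :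
    ∃! ρ : E' ⟶ E'', IsMonHom ρ ∧ φ ≫ ρ = ψ := by
  haveI : Flat φ.left := inferInstance
  refine Groth.Agent.AVSubLib.existsUnique_factor φ ψ fun T a ha => ?_
  haveI : IsSeparated E'.hom := inferInstance
  obtain ⟨N, _, i, _, _, -, hk⟩ := Groth.Agent.GrpSchLib.exists_kernel φ
  have hsq : CategoryTheory.IsPullback i.left N.hom φ.left η[E'].left := IsPullback.map (Over.forget _) hk
  haveI : IsFinite N.hom := MorphismProperty.of_isPullback (P := @IsFinite) hsq inferInstance
  haveI : Etale N.hom := MorphismProperty.of_isPullback (P := @Etale) hsq inferInstance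
  haveI : Smooth N.hom := inferInstance
  haveI : IsReduced N.left := Groth.Agent.GrpSchLib.isReduced_of_smooth_field N.hom
  have hiψ : i ≫ ψ = 1 := by
    refine Over.OverMorphism.ext ?_
    haveI : LocallyOfFiniteType ((i ≫ ψ).left ≫ E''.hom) := by rw [Over.w (i ≫ ψ)]; infer_instance
    refine ext_of_apply_eq E''.hom Set.univ isClosed_univ.isLocallyClosed dense_univ (fun x _ hx => ?_)
      ((Over.w (i ≫ ψ)).trans (Over.w (1 : N ⟶ E'')).symm)
    obtain ⟨b, rfl⟩ := Groth.Agent.AVSubLib.exists_pt hx
    have hb : (b ≫ i) ≫ φ = η[E'] := by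
      rw [Category.assoc, hk.w, ← Category.assoc, toUnit_unique (b ≫ toUnit N) (𝟙 _), Category.id_comp]
    have h1 : b ≫ i ≫ ψ = b ≫ (1 : N ⟶ E'') := by
      rw [← Category.assoc, hker (b ≫ i) hb, MonObj.comp_one, Hom.one_def, toUnit_unique (toUnit _) (𝟙 _),
        Category.id_comp]
    exact congrArg (fun m : 𝟙_ (Over (Spec (CommRingCat.of k))) ⟶ E'' => m.left (IsLocalRing.closedPoint k)) h1
  have hfac : hk.lift a (toUnit T) (by rw [ha, Hom.one_def]) ≫ i = a := hk.lift_fst _ _ _
  rw [← hfac, Category.assoc, hiψ, MonObj.comp_one]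

end Groth.Agent.S11090
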