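import Groth.Statements.S11092
import Groth.Agent.H1FunField.Omega

set_option autoImplicit false
universe u v
open CAlg

namespace Groth.Agent.S11092

/-- Let k be an algebraically closed field, K a field finitely generated over k admitting a one-element
transcendence basis over k (a function field of dimension one), and L a finite extension field of K
with the compatible k-algebra structure. Then the K-linear map from the Kähler differentials of K
over k to those of L over k induced by the inclusion is either the zero map or injective, and it is
injective if and only if L is separable over K. (The published statement takes K ⊆ L to be the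
function fields of two elliptic curves related by a nonzero homomorphism; its proof uses only that
they are function fields of dimension one over k.) -/
theorem result (k : Type u) (K L : Type v)
    [Field k] [IsAlgClosed k] [Field K] [Field L] [Algebra k K] [Algebra k L] [Algebra K L]
    [IsScalarTower k K L] (hK : (⊤ : IntermediateField k K).FG)
    (hx : ∃ x : K, IsTranscendenceBasis k (fun _ : Unit => x)) [FiniteDimensional K L] :
    (KaehlerDifferential.map k k K L = 0 ∨ Function.Injective (KaehlerDifferential.map k k K L)) ∧
      (Function.Injective (KaehlerDifferential.map k k K L) ↔ Algebra.IsSeparable K L) := by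
  haveI : Algebra.EssFiniteType k K := IntermediateField.fg_top_iff.mp hK
  haveI : Algebra.EssFiniteType k L := Algebra.EssFiniteType.comp k K L
  obtain ⟨x, hx⟩ := hx
  obtain ⟨hKfin, hK1⟩ := H1FunField.finrank_eq k K (fun _ : Unit => x) hx
  haveI : Algebra.IsAlgebraic K L := Algebra.IsAlgebraic.of_finite K L
  have hxL : IsTranscendenceBasis k (algebraMap K L ∘ fun _ : Unit => x) :=
    hx.algebraMap_comp
  obtain ⟨hLfin, hL1⟩ := H1FunField.finrank_eq k L _ hxL
  simp only [Fintype.card_unit] at hK1 hL1
  let μ := KaehlerDifferential.map k k K L
  have hdich : μ = 0 ∨ Function.Injective μ := by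
    by_cases h : μ = 0
    · exact Or.inl h
    · refine Or.inr (LinearMap.ker_eq_bot.mp (Submodule.eq_bot_iff _ |>.mpr fun ω hω => ?_))
      by_contra hω0
      refine h (LinearMap.ext fun v => ?_)
      obtain ⟨c, rfl⟩ := exists_smul_eq_of_finrank_eq_one hK1 hω0 v
      rw [map_smul, LinearMap.mem_ker.mp hω, smul_zero, LinearMap.zero_apply]
  refine ⟨hdich, fun hinj => ?_, fun hsep => ?_⟩
  · haveI : Nontrivial (Ω[K⁄k]) := Module.nontrivial_of_finrank_eq_succ hK1
    obtain ⟨ω, hω⟩ := exists_ne (0 : Ω[K⁄k])
    obtain ⟨a, ha⟩ : ∃ a : K, μ (KaehlerDifferential.D k K a) ≠ 0 := by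
      by_contra! hall
      refine hω (hinj ?_)
      rw [map_zero]
      have hω' : ω ∈ Submodule.span K (Set.range (KaehlerDifferential.D k K)) :=
        (KaehlerDifferential.span_range_derivation k K).symm ▸ Submodule.mem_top
      exact (Submodule.span_le (p := LinearMap.ker μ)).mpr (by rintro _ ⟨b, rfl⟩; exact hall b) hω'
    rw [KaehlerDifferential.map_D] at ha
    refine H1FunField.isSeparable_of_span k K L {algebraMap K L a} (by simp) ?_
    rw [Set.image_singleton, Submodule.eq_top_iff']
    intro v
    obtain ⟨c, rfl⟩ := exists_smul_eq_of_finrank_eq_one hL1 ha v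
    exact Submodule.smul_mem _ _ (Submodule.subset_span rfl)
  · haveI := hsep
    haveI : Algebra.FormallyEtale K L := Algebra.FormallyEtale.of_isSeparable K L
    refine hdich.resolve_left fun h0 => ?_
    have hone : ∀ z : TensorProduct K L (Ω[K⁄k]), KaehlerDifferential.mapBaseChange k K L z = 0 := by
      intro z
      induction z using TensorProduct.induction_on with
      | zero => exact map_zero _
      | add a b ha hb => rw [map_add, ha, hb, add_zero]
      | tmul l w =>
        rw [KaehlerDifferential.mapBaseChange_tmul]
        change l • μ w = 0
        rw [h0, LinearMap.zero_apply, smul_zero]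
    haveI : Nontrivial (Ω[L⁄k]) := Module.nontrivial_of_finrank_eq_succ hL1
    obtain ⟨v, hv⟩ := exists_ne (0 : Ω[L⁄k])
    obtain ⟨z, rfl⟩ := (KaehlerDifferential.tensorKaehlerEquivOfFormallyEtale k K L).surjective v
    exact hv (by rw [KaehlerDifferential.tensorKaehlerEquivOfFormallyEtale_apply, hone])

end Groth.Agent.S11092
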