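import Groth.Statements.S11094
import Groth.Agent.AVDegLib.FFFun
import Groth.Agent.AVFrobLib.CardPoints

set_option autoImplicit false
set_option backward.isDefEq.respectTransparency false
set_option backward.isDefEq.respectTransparency.types false
set_option maxHeartbeats 1000000
set_option linter.style.haveILetI false
universe u
open CategoryTheory CategoryTheory.Limits MonoidalCategory CartesianMonoidalCategory MonObj GrpObj AlgebraicGeometry
open AbVar

namespace Groth.Agent.S11094

open Groth.Agent CategoryTheory.MonObj

/-- Let k be an algebraically closed field, E and E′ elliptic curves over k — group schemes over Spec k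
whose underlying schemes are proper, smooth, integral and one-dimensional — and φ : E → E′ a
homomorphism which is finite, surjective and étale (a separable isogeny), sending the generic point
of E to that of E′, so that the function field of E′ maps into the function field of E. Then the
function field of E is a Galois extension of that of E′, and the number of its automorphisms over
the function field of E′ equals the number of k-valued points of E that φ sends to the unit of E′. -/
theorem result (k : Type u) [Field k] [IsAlgClosed k]
    (E E' : Over (Spec (CommRingCat.of k)))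
    [GrpObj E] [IsProper E.hom] [Smooth E.hom] [IsIntegral E.left] (hE : topologicalKrullDim E.left = 1)
    [GrpObj E'] [IsProper E'.hom] [Smooth E'.hom] [IsIntegral E'.left] (hE' : topologicalKrullDim E'.left = 1)
    (φ : E ⟶ E') [IsMonHom φ] [IsFinite φ.left] [Surjective φ.left] [Etale φ.left]
    (e : φ.left (genericPoint E.left) = genericPoint E'.left) :
    letI := ((E'.left.presheaf.stalkSpecializes (specializes_of_eq e) ≫
      φ.left.stalkMap (genericPoint E.left)).hom).toAlgebra
    IsGalois E'.left.functionField E.left.functionField ∧
      Nat.card (E.left.functionField ≃ₐ[E'.left.functionField] E.left.functionField) =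
        Nat.card {P : 𝟙_ (Over (Spec (CommRingCat.of k))) ⟶ E // P ≫ φ = η[E']} := by
  letI := AVDegLib.ffExt φ
  show IsGalois E'.left.functionField E.left.functionField ∧
      Nat.card (E.left.functionField ≃ₐ[E'.left.functionField] E.left.functionField) =
        Nat.card {P : 𝟙_ (Over (Spec (CommRingCat.of k))) ⟶ E // P ≫ φ = η[E']}
  haveI := AVDegLib.finiteDimensional_ff φ
  haveI : IsSeparated E'.hom := inferInstance
  haveI : IsSeparated E.hom := inferInstance
  haveI : LocallyOfFinitePresentation φ.left := inferInstance
  let G := {P : 𝟙_ (Over (Spec (CommRingCat.of k))) ⟶ E // P ≫ φ = 1}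
  have hcard : Nat.card G = Module.finrank E'.left.functionField E.left.functionField := by
    refine (AVFrobLib.card_ker_pts_eq_finrank φ fun a b hab => ?_).trans (AVDegLib.finrank_eq φ _)
    haveI : Etale b := MorphismProperty.of_isPullback (P := @Etale) hab inferInstance
    haveI : Smooth b := inferInstance
    exact Groth.Agent.GrpSchLib.isReduced_of_smooth_field b
  -- the translations by points of the kernel
  let t : G → (E ⟶ E) := fun P => 𝟙 E * (toUnit E ≫ P.1)
  have htφ : ∀ P, t P ≫ φ = φ := fun P => by
    simp only [t]
    rw [MonObj.mul_comp, Category.id_comp, Category.assoc, P.2, MonObj.comp_one, _root_.mul_one]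
  have htiso : ∀ P, IsIso (t P) := fun P => by
    refine ⟨𝟙 E * (toUnit E ≫ P.1⁻¹), ?_, ?_⟩ <;>
    · simp only [t]
      rw [MonObj.comp_mul, Category.comp_id, ← Category.assoc, toUnit_unique (_ ≫ toUnit E) (toUnit E), _root_.mul_assoc,
        ← MonObj.comp_mul]
      first
        | rw [mul_inv_cancel, MonObj.comp_one, _root_.mul_one]
        | rw [inv_mul_cancel, MonObj.comp_one, _root_.mul_one]
  haveI := htiso
  have hcomm : ∀ P x, AVDegLib.ffMap (t P) (AVDegLib.ffMap φ x) = AVDegLib.ffMap φ x := fun P x =>
    AVDegLib.ffMap_comp_apply (t P) φ φ (htφ P) x
  let σ : G → (E.left.functionField →ₐ[E'.left.functionField] E.left.functionField) := fun P =>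
    { AVDegLib.ffMap (t P) with commutes' := fun x => hcomm P x }
  have hσ : Function.Injective σ := by
    intro P Q hPQ
    have h : t P = t Q := AVDegLib.eq_of_ffMap_eq (t P) (t Q) (RingHom.ext fun x => AlgHom.congr_fun hPQ x)
    exact Subtype.ext <| by
      have h' := congrArg (η[E] ≫ ·) h
      simp only [t, MonObj.comp_mul, Category.comp_id] at h'
      rw [← Category.assoc, ← Category.assoc, toUnit_unique (η[E] ≫ toUnit E) (𝟙 _), Category.id_comp,
        Category.id_comp] at h'
      exact mul_left_cancel h'
  haveI : Finite (E.left.functionField →ₐ[E'.left.functionField] E.left.functionField) := inferInstance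
  have hfin : Module.finrank E'.left.functionField E.left.functionField ≤
      Nat.card (E.left.functionField ≃ₐ[E'.left.functionField] E.left.functionField) := by
    rw [Nat.card_congr (algEquivEquivAlgHom E'.left.functionField E.left.functionField).toEquiv, ← hcard]
    exact Nat.card_le_card_of_injective σ hσ
  have hle : Nat.card (E.left.functionField ≃ₐ[E'.left.functionField] E.left.functionField) ≤
      Module.finrank E'.left.functionField E.left.functionField := by
    rw [Nat.card_eq_fintype_card]
    exact AlgEquiv.card_le
  refine ⟨IsGalois.of_card_aut_eq_finrank _ _ (hle.antisymm hfin), ?_⟩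
  rw [hle.antisymm hfin, ← hcard]
  rfl

end Groth.Agent.S11094
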