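import Groth.Statements.S11095
import Mathlib

set_option autoImplicit false
set_option backward.isDefEq.respectTransparency false
set_option backward.isDefEq.respectTransparency.types false
set_option synthInstance.maxHeartbeats 200000
universe u
open CAlg

namespace Groth.Agent.S11095

open TensorProduct in
theorem isField_tensor_adjoin (K₀ F₀ K : Type u) [Field K₀] [PerfectField K₀] [Field F₀] [Algebra K₀ F₀] [Field K] [Algebra K₀ K]
    [Algebra.IsAlgebraic K₀ K] (h : algebraicClosure K₀ F₀ = ⊥) (α : K) :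
    IsField (F₀ ⊗[K₀] (IntermediateField.adjoin K₀ {α})) := by
  classical
  have hα : IsIntegral K₀ α := (Algebra.IsAlgebraic.isAlgebraic α).isIntegral
  let L := IntermediateField.adjoin K₀ {α}
  let g : L := IntermediateField.AdjoinSimple.gen K₀ α
  let f := minpoly K₀ g
  have hg : IsIntegral K₀ g := (IntermediateField.isIntegral_iff (S := L)).2 hα
  have hfm : f.Monic := minpoly.monic hg
  have hirr : Irreducible (f.map (algebraMap K₀ F₀)) := by
    rw [(hfm.map _).irreducible_iff_natDegree]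
    have hdeg : 0 < f.natDegree := minpoly.natDegree_pos hg
    refine ⟨fun h1 => hdeg.ne' (by rw [← hfm.natDegree_map (algebraMap K₀ F₀), h1, Polynomial.natDegree_one]), ?_⟩
    intro p q hp hq hpq
    have hlift : ∀ r : Polynomial F₀, r.Monic → r ∣ f.map (algebraMap K₀ F₀) →
        ∃ r₀ : Polynomial K₀, r₀.Monic ∧ r₀.map (algebraMap K₀ F₀) = r := by
      intro r hr hd
      have : r ∈ Polynomial.lifts (algebraMap K₀ F₀) := by
        rw [Polynomial.lifts_iff_coeff_lifts]
        intro i
        have hi : r.coeff i ∈ algebraicClosure K₀ F₀ :=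
          mem_algebraicClosure_iff.2 (Polynomial.isIntegral_coeff_of_dvd f r hfm hr hd i).isAlgebraic
        rw [h, IntermediateField.mem_bot] at hi
        exact hi
      obtain ⟨r₀, h1, -, h3⟩ := Polynomial.lifts_and_degree_eq_and_monic this hr
      exact ⟨r₀, h3, h1⟩
    obtain ⟨p₀, hp₀, rfl⟩ := hlift p hp ⟨q, hpq.symm⟩
    obtain ⟨q₀, hq₀, rfl⟩ := hlift q hq ⟨_, by rw [mul_comm]; exact hpq.symm⟩
    rw [← Polynomial.map_mul] at hpq
    have hpq' : p₀ * q₀ = f := Polynomial.map_injective _ (algebraMap K₀ F₀).injective hpq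
    rcases ((hfm.irreducible_iff_natDegree).1 (minpoly.irreducible hg)).2 p₀ q₀ hp₀ hq₀ hpq' with h' | h'
    · exact Or.inl (by rw [hp₀.natDegree_map, h'])
    · exact Or.inr (by rw [hq₀.natDegree_map, h'])
  let φ : Polynomial F₀ →ₐ[F₀] F₀ ⊗[K₀] L := Polynomial.aeval ((1 : F₀) ⊗ₜ[K₀] g)
  have hsurj : Function.Surjective φ := by
    intro t
    induction t using TensorProduct.induction_on with
    | zero => exact ⟨0, map_zero _⟩
    | add x y hx hy => obtain ⟨a, rfl⟩ := hx; obtain ⟨b, rfl⟩ := hy; exact ⟨a + b, map_add _ _ _⟩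
    | tmul a b =>
      have hb : b ∈ Algebra.adjoin K₀ {g} := by
        have hb0 : (b : K) ∈ Algebra.adjoin K₀ {α} := by
          rw [← IntermediateField.adjoin_simple_toSubalgebra_of_isAlgebraic hα.isAlgebraic]; exact b.2
        rw [Algebra.adjoin_singleton_eq_range_aeval] at hb0
        obtain ⟨p, hp⟩ := hb0
        rw [Algebra.adjoin_singleton_eq_range_aeval]
        exact ⟨p, Subtype.ext (by
          show L.val (Polynomial.aeval g p) = (b : K)
          rw [← Polynomial.aeval_algHom_apply]; exact hp)⟩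
      rw [Algebra.adjoin_singleton_eq_range_aeval] at hb
      obtain ⟨p, rfl⟩ := hb
      refine ⟨Polynomial.C a * p.map (algebraMap K₀ F₀), ?_⟩
      show Polynomial.aeval ((1 : F₀) ⊗ₜ[K₀] g) _ = _
      rw [map_mul, Polynomial.aeval_C, Polynomial.aeval_map_algebraMap, ← Algebra.TensorProduct.includeRight_apply (R := K₀) (A := F₀),
        Polynomial.aeval_algHom_apply]
      show (a ⊗ₜ[K₀] (1 : L)) * ((1 : F₀) ⊗ₜ[K₀] _) = _
      rw [Algebra.TensorProduct.tmul_mul_tmul, mul_one, one_mul]
      rfl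
  have hzero : φ (f.map (algebraMap K₀ F₀)) = 0 := by
    show Polynomial.aeval ((1 : F₀) ⊗ₜ[K₀] g) _ = 0
    rw [Polynomial.aeval_map_algebraMap, ← Algebra.TensorProduct.includeRight_apply (R := K₀) (A := F₀),
      Polynomial.aeval_algHom_apply, minpoly.aeval, map_zero]
  haveI : Nontrivial (F₀ ⊗[K₀] L) :=
    Algebra.TensorProduct.nontrivial_of_algebraMap_injective_of_isDomain K₀ F₀ L (algebraMap K₀ F₀).injective (algebraMap K₀ L).injective
  refine ⟨exists_pair_ne _, fun x y => mul_comm x y, fun {t} ht => ?_⟩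
  obtain ⟨p, rfl⟩ := hsurj t
  by_cases hd : f.map (algebraMap K₀ F₀) ∣ p
  rotate_left
  rcases hirr.coprime_iff_not_dvd.2 hd with ⟨a, b, hab⟩
  rotate_left
  · obtain ⟨c, rfl⟩ := hd
    exact absurd (by rw [map_mul, hzero, zero_mul]) ht
  · exact ⟨φ b, by rw [← map_mul, show p * b = 1 - a * f.map (algebraMap K₀ F₀) by rw [← hab]; ring,
      map_sub, map_mul, hzero, mul_zero, sub_zero]; exact φ.toRingHom.map_one⟩

/-- Let K₀ be a perfect field, K an algebraic extension of K₀ and F₀ a field extension of K₀ such that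
K₀ is algebraically closed in F₀. Then the K₀-algebra F₀ ⊗ K is a field; consequently F₀ and K,
embedded in it by x ↦ x ⊗ 1 and y ↦ 1 ⊗ y, are linearly disjoint over K₀. -/
theorem result (K₀ F₀ K : Type u)
    [Field K₀] [PerfectField K₀] [Field F₀] [Algebra K₀ F₀] [Field K] [Algebra K₀ K]
    [Algebra.IsAlgebraic K₀ K] (h : algebraicClosure K₀ F₀ = ⊥) :
    IsField (TensorProduct K₀ F₀ K) := by
  classical
  have hfin : ∀ α : K, IsField (TensorProduct K₀ F₀ (IntermediateField.adjoin K₀ {α})) := fun α =>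
    isField_tensor_adjoin K₀ F₀ K h α
  haveI : Nontrivial (TensorProduct K₀ F₀ K) :=
    Algebra.TensorProduct.nontrivial_of_algebraMap_injective_of_isDomain K₀ F₀ K (algebraMap K₀ F₀).injective (algebraMap K₀ K).injective
  refine ⟨exists_pair_ne _, fun x y => mul_comm x y, fun {t} ht => ?_⟩
  obtain ⟨s, hs⟩ := TensorProduct.exists_finset (N := K) t
  let L : IntermediateField K₀ K := IntermediateField.adjoin K₀ ((s.image Prod.snd : Finset K) : Set K)
  haveI : FiniteDimensional K₀ L :=
    IntermediateField.finiteDimensional_adjoin fun x _ => (Algebra.IsAlgebraic.isAlgebraic x).isIntegral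
  obtain ⟨α, hα⟩ := Field.exists_primitive_element K₀ L
  have hL : IntermediateField.adjoin K₀ {(α : K)} = L := by
    have := congrArg (IntermediateField.map L.val) hα
    rwa [IntermediateField.adjoin_map, Set.image_singleton, ← AlgHom.fieldRange_eq_map, IntermediateField.fieldRange_val] at this
  let L' := IntermediateField.adjoin K₀ {(α : K)}
  let ι : TensorProduct K₀ F₀ L' →ₐ[F₀] TensorProduct K₀ F₀ K :=
    Algebra.TensorProduct.map (AlgHom.id F₀ F₀) L'.val
  have hmem : ∀ p ∈ s, p.2 ∈ L' := fun p hp => by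
    show p.2 ∈ IntermediateField.adjoin K₀ {(α : K)}
    rw [hL]
    exact IntermediateField.subset_adjoin _ _ (Finset.mem_image_of_mem _ hp)
  let t' : TensorProduct K₀ F₀ L' := ∑ p ∈ s.attach, p.1.1 ⊗ₜ[K₀] (⟨p.1.2, hmem _ p.2⟩ : L')
  have ht' : ι t' = t := by
    rw [map_sum]
    simp only [ι, Algebra.TensorProduct.map_tmul, AlgHom.coe_id, id_eq, IntermediateField.coe_val]
    rw [Finset.sum_attach s (fun p => p.1 ⊗ₜ[K₀] p.2), hs]
  obtain ⟨u, hu⟩ := (hfin α).mul_inv_cancel (a := t') (fun h0 => ht (by rw [← ht', h0, map_zero]))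
  exact ⟨ι u, by rw [← ht', ← map_mul]; exact (congrArg ι hu).trans ι.toRingHom.map_one⟩

end Groth.Agent.S11095
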