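import Groth.Statements.S11106
import Groth.Agent.H1DecHens.Basic
import Mathlib

set_option autoImplicit false
universe u
open Hensel

namespace Groth.Agent.S11106

/-- Let R be a discrete valuation ring with fraction field K, K^s a separable closure of K, R^s the
integral closure of R in K^s and P^s a maximal ideal of R^s. Let I be the inertia group of P^s — the
automorphisms σ of K^s over K with σ(x) − x ∈ P^s for every x ∈ R^s — and L its fixed field. Then
the integral closure of R in L, localized at the prime Q = P^s ∩ L, is a Henselian local ring (this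
ring is the strict Henselization of R; the statement that its residue field is an algebraic closure
of that of R is not included). -/
theorem result (R K Ks : Type u) [CommRing R] [IsDomain R]
    [IsDiscreteValuationRing R] [Field K] [Algebra R K] [IsFractionRing R K]
    [Field Ks] [Algebra K Ks] [IsSepClosure K Ks] [Algebra R Ks] [IsScalarTower R K Ks]
    (Ps : Ideal (integralClosure R Ks)) [Ps.IsMaximal]
    (L : IntermediateField K Ks)
    (hL : L = IntermediateField.fixedField
      (Subgroup.closure {σ : Ks ≃ₐ[K] Ks | ∀ x : integralClosure R Ks,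
        ∃ h : σ (x : Ks) ∈ integralClosure R Ks, (⟨σ (x : Ks), h⟩ : integralClosure R Ks) - x ∈ Ps}))
    (Q : Ideal (integralClosure R L)) [Q.IsPrime]
    (hQ : ∀ y : integralClosure R L, y ∈ Q ↔
      ∃ x : integralClosure R Ks, x ∈ Ps ∧ (x : Ks) = ((y : L) : Ks)) :
    HenselianLocalRing (Localization.AtPrime Q) := by
  classical
  refine Groth.Agent.H1DecHens.henselian (Ps := Ps) (L := L) (Q := Q)
    (fun σ hσ => Groth.Agent.H1DecHens.mem_stab_of_fix Ps _ (fun τ hτ => ?_) L hL σ hσ) hQ
  have hτ' : ∀ x : integralClosure R Ks,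
      ∃ h : τ (x : Ks) ∈ integralClosure R Ks, (⟨τ (x : Ks), h⟩ : integralClosure R Ks) - x ∈ Ps := hτ
  intro x
  constructor
  · rintro ⟨h, hx⟩
    obtain ⟨h1, hm⟩ := hτ' ⟨x, h⟩
    refine ⟨h1, ?_⟩
    have := Ps.add_mem hm hx
    rwa [sub_add_cancel] at this
  · rintro ⟨h, hx⟩
    have h2 : x ∈ integralClosure R Ks := by
      have := Groth.Agent.H1DecHens.mem_integralClosure_apply τ.symm h
      rwa [AlgEquiv.symm_apply_apply] at this
    obtain ⟨h1, hm⟩ := hτ' ⟨x, h2⟩
    refine ⟨h2, ?_⟩
    have := Ps.sub_mem hx hm
    simpa using this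

end Groth.Agent.S11106
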