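import Groth.Statements.S5038
import Groth.Agent.S0536

set_option autoImplicit false
open CategoryTheory AlgebraicGeometry
universe u
open Hensel

namespace Groth.Agent.S5038

/-- Let A be a henselian local ring with residue field k, S = Spec A, and f : X ⟶ S a smooth morphism.
Then the map from sections of f to k-points of the closed fibre is surjective: every u₀ : Spec k ⟶ X
lying over the closed point extends to a section u of f. -/
theorem result (A : Type u) [CommRing A] [HenselianLocalRing A]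
    {X : Scheme.{u}} (f : X ⟶ Spec (CommRingCat.of A)) [Smooth f]
    (u₀ : Spec (CommRingCat.of (IsLocalRing.ResidueField A)) ⟶ X)
    (h₀ : u₀ ≫ f = Spec.map (CommRingCat.ofHom (IsLocalRing.residue A))) :
    ∃ u : Spec (CommRingCat.of A) ⟶ X, u ≫ f = 𝟙 _ ∧
      Spec.map (CommRingCat.ofHom (IsLocalRing.residue A)) ≫ u = u₀ := by
  obtain ⟨_, ⟨(W : X.Opens), hW, rfl⟩, hxW, -⟩ := X.isBasis_affineOpens.exists_subset_of_mem_open
    (Set.mem_univ (u₀.base default)) isOpen_univ
  have hle : (⊤ : (Spec (CommRingCat.of (IsLocalRing.ResidueField A))).Opens) ≤ u₀ ⁻¹ᵁ W := fun y _ => by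
    show u₀.base y ∈ W
    rw [Subsingleton.elim y default]; exact hxW
  let e : Spec (CommRingCat.of (IsLocalRing.ResidueField A)) ⟶ W.toScheme := IsOpenImmersion.lift W.ι u₀ (by
    rw [Scheme.Opens.range_ι]; rintro _ ⟨y, rfl⟩; exact hle trivial)
  obtain ⟨φ, hφ⟩ := Spec.map_surjective (hW.isoSpec.inv ≫ W.ι ≫ f)
  obtain ⟨σ, hσ⟩ := Spec.map_surjective (e ≫ hW.isoSpec.hom)
  haveI : Smooth (Spec.map φ) := by rw [hφ]; infer_instance
  have hsm : φ.hom.Smooth := (HasRingHomProperty.Spec_iff (P := @Smooth)).1 inferInstance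
  have he : e ≫ W.ι = u₀ := IsOpenImmersion.lift_fac _ _ _
  have hφσ : φ ≫ σ = CommRingCat.ofHom (IsLocalRing.residue A) := by
    apply Spec.map_injective
    rw [Spec.map_comp, hσ, hφ, ← h₀, ← he]
    simp
  algebraize [φ.hom]
  let σ' : Γ(X, W) →ₐ[A] A ⧸ IsLocalRing.maximalIdeal A :=
    { σ.hom with commutes' := fun a => congrArg (fun g : CommRingCat.of A ⟶ CommRingCat.of (IsLocalRing.ResidueField A) => g a) hφσ }
  obtain ⟨τ, hτ⟩ := Groth.Agent.S0536.result A Γ(X, W) A (IsLocalRing.maximalIdeal A) σ'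
  refine ⟨Spec.map (CommRingCat.ofHom τ.toRingHom) ≫ hW.isoSpec.inv ≫ W.ι, ?_, ?_⟩
  · rw [Category.assoc, Category.assoc, ← hφ, ← Spec.map_comp, ← Spec.map_id]
    congr 1
    exact CommRingCat.hom_ext τ.comp_algebraMap
  · rw [← Category.assoc, ← Spec.map_comp,
      show CommRingCat.ofHom τ.toRingHom ≫ CommRingCat.ofHom (IsLocalRing.residue A) = σ from
        CommRingCat.hom_ext (congrArg AlgHom.toRingHom hτ), hσ, ← he]
    simp

end Groth.Agent.S5038
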