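import Groth.Statements.S11108
import Groth.Agent.S5038
import Mathlib.AlgebraicGeometry.AlgClosed.Basic

set_option autoImplicit false
set_option backward.isDefEq.respectTransparency false
set_option backward.isDefEq.respectTransparency.types false
set_option maxHeartbeats 1000000
set_option linter.style.haveILetI false
universe u
open CategoryTheory AlgebraicGeometry
open Neron

namespace Groth.Agent.S11108

open Groth.Agent CategoryTheory.Limits

/-- Let R be a strictly Henselian discrete valuation ring — Henselian with algebraically closed residue
field — and p : X → Spec R a smooth morphism. Then the image of the reduction map from R-valued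
points of X to the special fibre is dense in the special fibre: every point of X over the closed
point of Spec R lies in the closure of the set of points s(𝔪), s a section of p and 𝔪 the closed
point. -/
theorem result (R : Type u) [CommRing R] [IsDomain R]
    [IsDiscreteValuationRing R] [HenselianLocalRing R] [IsAlgClosed (IsLocalRing.ResidueField R)]
    {X : Scheme.{u}} (p : X ⟶ Spec (CommRingCat.of R)) [Smooth p]
    (x : X) (hx : p.base x = IsLocalRing.closedPoint R) :
    x ∈ closure {y : X | ∃ s : Spec (CommRingCat.of R) ⟶ X, s ≫ p = 𝟙 _ ∧
      s.base (IsLocalRing.closedPoint R) = y} := by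
  let k := IsLocalRing.ResidueField R
  let i₀ : Spec (CommRingCat.of k) ⟶ Spec (CommRingCat.of R) := Spec.map (CommRingCat.ofHom (IsLocalRing.residue R))
  let ι := pullback.fst p i₀
  let q := pullback.snd p i₀
  have : JacobsonSpace ↥(pullback p i₀) := LocallyOfFiniteType.jacobsonSpace q
  have hrange : Set.range i₀ = {IsLocalRing.closedPoint R} := by
    have h0 : ∀ y : Spec (CommRingCat.of k), i₀ y = IsLocalRing.closedPoint R := by
      intro y
      apply PrimeSpectrum.ext
      change Ideal.comap (IsLocalRing.residue R) y.asIdeal = IsLocalRing.maximalIdeal R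
      rw [(Ideal.eq_bot_of_prime y.asIdeal), ← RingHom.ker_eq_comap_bot, IsLocalRing.ker_residue]
    ext z
    constructor
    · rintro ⟨y, rfl⟩; exact h0 y
    · rintro rfl; exact ⟨IsLocalRing.closedPoint k, h0 _⟩
  obtain ⟨y, rfl⟩ : x ∈ Set.range ι := by
    rw [Scheme.Pullback.range_fst, hrange]; exact hx
  have hy : y ∈ closure (closedPoints ↥(pullback p i₀)) := by
    rw [closure_closedPoints]; trivial
  refine closure_mono ?_ (image_closure_subset_closure_image ι.continuous ⟨y, hy, rfl⟩)
  rintro - ⟨y', hy', rfl⟩
  obtain ⟨s, hs, hs'⟩ := S5038.result R p (pointOfClosedPoint q y' hy' ≫ ι)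
    (by rw [Category.assoc, pullback.condition, pointOfClosedPoint_comp_assoc])
  refine ⟨s, hs, ?_⟩
  have h := congr(($hs') (IsLocalRing.closedPoint k))
  rw [Scheme.Hom.comp_apply, Scheme.Hom.comp_apply, pointOfClosedPoint_apply] at h
  have h0 : i₀ (IsLocalRing.closedPoint k) = IsLocalRing.closedPoint R :=
    hrange.subset (Set.mem_range_self _)
  rw [← h0]
  exact h

end Groth.Agent.S11108
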