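import Groth.Statements.S11130
import Groth.Agent.S2547
import Groth.Agent.QCoh.Tilde
import Groth.Agent.QCoh.Pullback
import Groth.Agent.QCoh.Qcqs
import Groth.Agent.KZ.PerfCoh
import Mathlib.AlgebraicGeometry.Morphisms.Flat
import Mathlib.CategoryTheory.Abelian.Basic

set_option autoImplicit false
universe u
open CategoryTheory AlgebraicGeometry
open Desc

namespace Groth.Agent.S11130

open Limits TopologicalSpace

/-- descent of quasi-coherence along a flat, surjective, quasi-compact and quasi-separated morphism -/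
theorem isQCoh_of_pullback_qcqs {X Y : Scheme.{u}} (g : X ⟶ Y) [Flat g] [Surjective g]
    [QuasiCompact g] [QuasiSeparated g] {M : Y.Modules}
    (hM : Coh.IsQCoh ((Scheme.Modules.pullback g).obj M)) : Coh.IsQCoh M := by
  let L := Scheme.Modules.pullback g
  haveI : L.Faithful := Groth.Agent.S2547.result g
  let adj := Scheme.Modules.pullbackPushforwardAdjunction g
  haveI : L.IsLeftAdjoint := adj.isLeftAdjoint
  have hmono : ∀ N : Y.Modules, Mono (adj.unit.app N) := fun N => by
    haveI : IsSplitMono (L.map (adj.unit.app N)) :=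
      IsSplitMono.mk' ⟨adj.counit.app (L.obj N), adj.left_triangle_components N⟩
    exact L.mono_of_mono_map (inferInstanceAs (Mono (L.map (adj.unit.app N))))
  let P : Y.Modules := (Scheme.Modules.pushforward g).obj (L.obj M)
  have hP : Coh.IsQCoh P := QCoh.isQCoh_pushforward g hM
  let u : M ⟶ P := adj.unit.app M
  haveI : Mono u := hmono M
  let C := cokernel u
  have hC : Coh.IsQCoh (L.obj C) := (QCoh.isQCoh_iff_iso (PreservesCokernel.iso L u)).2
    (QCoh.isQCoh_cokernel hM (QCoh.isQCoh_pullback g hP) _)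
  have hQ : Coh.IsQCoh ((Scheme.Modules.pushforward g).obj (L.obj C)) := QCoh.isQCoh_pushforward g hC
  let v : C ⟶ (Scheme.Modules.pushforward g).obj (L.obj C) := adj.unit.app C
  haveI : Mono v := hmono C
  have e : M ≅ kernel (cokernel.π u ≫ v) :=
    (IsLimit.conePointUniqueUpToIso (Abelian.monoIsKernelOfCokernel _ (cokernelIsCokernel u))
      (kernelIsKernel (cokernel.π u))) ≪≫ (kernelCompMono (cokernel.π u) v).symm
  exact (QCoh.isQCoh_iff_iso e).2 (QCoh.isQCoh_kernel hP hQ _)

/-- Let f : X → Y be a flat, surjective and quasi-compact morphism of schemes and M any O_Y-module. Then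
M is quasi-coherent if and only if the pullback f^*M is quasi-coherent. -/
theorem result {X Y : Scheme.{u}} (f : X ⟶ Y)
    [Flat f] [Surjective f] [QuasiCompact f] (M : Y.Modules) :
    Coh.IsQCoh M ↔ Coh.IsQCoh ((Scheme.Modules.pullback f).obj M) := by
  refine ⟨fun h => QCoh.isQCoh_pullback f h, fun h => KZ.isQCoh_of_local fun y => ?_⟩
  obtain ⟨V, hV, hyV⟩ : ∃ V : Y.Opens, IsAffineOpen V ∧ y ∈ V := by
    obtain ⟨_, ⟨V, hV, rfl⟩, hyV, -⟩ :=
      Y.isBasis_affineOpens.exists_subset_of_mem_open (Set.mem_univ y) isOpen_univ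
    exact ⟨V, hV, hyV⟩
  refine ⟨V.toScheme, V.ι, inferInstance, by rw [V.range_ι]; exact hyV, ?_⟩
  haveI : IsAffine V.toScheme := hV
  haveI : CompactSpace (f ⁻¹ᵁ V).toScheme :=
    isCompact_iff_compactSpace.1 (f.isCompact_preimage hV.isCompact)
  let 𝒰 := (f ⁻¹ᵁ V).toScheme.affineCover.finiteSubcover
  haveI : ∀ i, IsAffine (𝒰.X i) := fun i => by dsimp [𝒰]; infer_instance
  let c : (∐ fun i => 𝒰.X i) ⟶ (f ⁻¹ᵁ V).toScheme := Limits.Sigma.desc 𝒰.f
  haveI : Flat c := IsZariskiLocalAtSource.sigmaDesc (fun i => (inferInstance : Flat (𝒰.f i)))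
  haveI : Surjective c := ⟨fun x => by
    obtain ⟨i, z, hz⟩ := 𝒰.exists_eq x
    exact ⟨(Limits.Sigma.ι (fun i => 𝒰.X i) i).base z, by
      rw [← Scheme.Hom.comp_apply, Limits.Sigma.ι_desc]; exact hz⟩⟩
  let g : (∐ fun i => 𝒰.X i) ⟶ V.toScheme := c ≫ (f ∣_ V)
  haveI : Surjective (f ∣_ V) := IsZariskiLocalAtTarget.restrict ‹Surjective f› V
  haveI : Flat (f ∣_ V) := IsZariskiLocalAtTarget.restrict ‹Flat f› V
  haveI : IsAffineHom g := isAffineHom_of_isAffine g
  haveI : Flat g := inferInstance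
  haveI : Surjective g := inferInstance
  refine isQCoh_of_pullback_qcqs g ?_
  refine (QCoh.isQCoh_iff_iso ((Scheme.Modules.pullback g).mapIso
    ((Scheme.Modules.restrictFunctorIsoPullback V.ι).app M))).2 ?_
  have hfac : g ≫ V.ι = (c ≫ (f ⁻¹ᵁ V).ι) ≫ f := by simp [g, Category.assoc]
  refine (QCoh.isQCoh_iff_iso ((Scheme.Modules.pullbackComp g V.ι).app M ≪≫
    (Scheme.Modules.pullbackCongr hfac).app M ≪≫
    ((Scheme.Modules.pullbackComp (c ≫ (f ⁻¹ᵁ V).ι) f).app M).symm)).2 ?_
  exact QCoh.isQCoh_pullback _ h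

end Groth.Agent.S11130
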