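import Groth.Statements.S11164
import Groth.Agent.ExtShX.Flasque

set_option autoImplicit false
set_option backward.isDefEq.respectTransparency false
set_option backward.isDefEq.respectTransparency.types false
universe u
open CategoryTheory CategoryTheory.Limits AlgebraicGeometry
attribute [local instance] HasDerivedCategory.standard
open Coherent

namespace Groth.Agent.S11164

/-- Every O_X-module on a scheme X is a quotient of a flat O_X-module; precisely, for every O_X-module F
there are opens U_i of X and an epimorphism ∐ j_{U_i !} O_{U_i} ⟶ F, and such a direct sum of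
extensions by zero of structure sheaves of opens is flat (all its stalks are flat over the local
rings). -/
theorem result {X : Scheme.{u}} (F : X.Modules) :
    ∃ (ι : Type u) (U : ι → X.Opens) (p : (∐ fun i => CxOX.extZeroUnit (U i).ι) ⟶ F),
      Epi p ∧ FlatMod.IsFlat (∐ fun i => CxOX.extZeroUnit (U i).ι) := by
  let ι : Type u := Σ U : X.Opens, (ExtShX.freeOn U ⟶ F)
  let p : (∐ fun i : ι => CxOX.extZeroUnit i.1.ι) ⟶ F := Sigma.desc fun i => i.2
  refine ⟨ι, fun i => i.1, p, ExtShX.epi_of_freeOn p fun U a =>
    ⟨Sigma.ι (fun i : ι => CxOX.extZeroUnit i.1.ι) ⟨U, a⟩, Sigma.ι_desc _ _⟩, fun x => ?_⟩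
  have h : ∀ U : X.Opens, Module.Flat (X.presheaf.stalk x) ((ExtShX.freeOn U).presheaf.stalk x) := fun U => by
    by_cases hx : x ∈ Set.range U.ι.base
    · obtain ⟨u, rfl⟩ := hx
      haveI := ExtShX.isIso_restrict_freeOnToUnit U
      have hb := ConcreteCategory.bijective_of_isIso
        ((DerSch.stalkFunctor _ u).map ((Scheme.Modules.restrictFunctor U.ι).map (ExtShX.freeOnToUnit U)))
      let φ := LinearEquiv.ofBijective (RefHull.stalkMapₗ (ExtShX.freeOnToUnit U) (U.ι.base u))
        ⟨KFlatLib.injective_stalk_of_restrict U.ι _ u hb.1, KFlatLib.surjective_stalk_of_restrict U.ι _ u hb.2⟩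
      exact Module.Flat.of_linearEquiv (φ.trans (RefX.unitStalk (U.ι.base u)).symm)
    · haveI : Subsingleton ((ExtShX.freeOn U).presheaf.stalk x) :=
        ModuleCat.subsingleton_of_isZero (KFlatLib.isZero_stalk_lsh U.ι x hx _)
      infer_instance
  classical
  let Z : ι → ModuleCat.{u} (X.presheaf.stalk x) := fun i =>
    (DerSch.stalkFunctor X x).obj (CxOX.extZeroUnit i.1.ι)
  haveI : ∀ i, Module.Flat (X.presheaf.stalk x) (Z i) := fun i => h i.1
  let e : (DerSch.stalkFunctor X x).obj (∐ fun i : ι => CxOX.extZeroUnit i.1.ι) ≅ ModuleCat.of _ (DirectSum ι fun i => Z i) :=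
    PreservesCoproduct.iso _ _ ≪≫ ModuleCat.coprodIsoDirectSum Z
  exact Module.Flat.of_linearEquiv e.toLinearEquiv

end Groth.Agent.S11164
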