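import Groth.Statements.S11165
import Groth.Agent.QCoh.RpushClosed

set_option autoImplicit false
set_option backward.isDefEq.respectTransparency false
set_option backward.isDefEq.respectTransparency.types false
universe u
open CategoryTheory CategoryTheory.Limits AlgebraicGeometry
open Coherent

namespace Groth.Agent.S11165

/-- Let f : X ⟶ Y be a separated morphism of schemes, U an open of X on which f restricts to an affine
morphism, i : U ⟶ X the inclusion and F a quasi-coherent O_X-module. Then i_*(F|_U) is acyclic for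
f_*: its higher direct images R^j f_* vanish for j > 0. (The binder asserting injective resolutions
of O_X-modules always holds.) -/
theorem result {X Y : Scheme.{u}} (f : X ⟶ Y) [IsSeparated f]
    (U : X.Opens) [IsAffineHom (U.ι ≫ f)] (F : X.Modules) (hF : Coh.IsQCoh F)
    [HasInjectiveResolutions X.Modules] (j : ℕ) (hj : 0 < j) :
    IsZero ((Coh.Rpush f j).obj ((Scheme.Modules.pushforward U.ι).obj ((Scheme.Modules.restrictFunctor U.ι).obj F))) := by
  haveI : IsAffineHom U.ι := IsAffineHom.of_comp U.ι f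
  obtain ⟨q, rfl⟩ := Nat.exists_eq_add_of_le' hj
  haveI : HasInjectiveResolutions (U : Scheme.{u}).Modules := inferInstance
  haveI : HasInjectiveResolutions Y.Modules := inferInstance
  let N := (Scheme.Modules.restrictFunctor U.ι).obj F
  have hN : Coh.IsQCoh N := Groth.Agent.QCoh.isQCoh_restrict U.ι hF
  obtain ⟨e₁⟩ := Groth.Agent.QCoh.nonempty_Rpush_affine_push U.ι f hN (q + 1)
  obtain ⟨e₂⟩ := Groth.Agent.QCoh.nonempty_Rpush_affine_push (U.ι ≫ f) (𝟙 Y) hN (q + 1)
  rw [Category.comp_id] at e₂
  haveI : Epi (Groth.Agent.QCoh.godπ ((Coh.push (U.ι ≫ f)).obj N) q) :=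
    (Groth.Agent.QCoh.godSES_shortExact _ q).epi_g
  obtain ⟨e₃⟩ := Groth.Agent.QCoh.nonempty_Rpush_iso (𝟙 Y) ((Coh.push (U.ι ≫ f)).obj N) q
  haveI : (Scheme.Modules.pushforward (𝟙 Y)).PreservesEpimorphisms :=
    Functor.PreservesEpimorphisms.of_iso (Scheme.Modules.pushforwardId Y).symm
  exact Limits.IsZero.of_iso (Limits.isZero_cokernel_of_epi _) (e₁ ≪≫ e₂.symm ≪≫ e₃)

end Groth.Agent.S11165
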