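import Groth.Statements.S11170
import Groth.Agent.PnOverVan.SqZero

set_option autoImplicit false
set_option backward.isDefEq.respectTransparency false
set_option backward.isDefEq.respectTransparency.types false
set_option maxHeartbeats 1000000
universe u
open CategoryTheory CategoryTheory.Limits AlgebraicGeometry
open Coherent

namespace Groth.Agent.S11170

open scoped Groth.Agent.H23.PicMul in
/-- Let Y be a locally Noetherian scheme, f : P^n_Y ⟶ Y the projection, G_j quasi-coherent O_Y-modules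
and m_j > 0. Then the direct sum L = ∐_j f^*(G_j) ⊗ O(-m_j) has R^i f_*(L) = 0 (higher direct images
of the underlying abelian sheaf) for every i ≠ n. -/
theorem result (Y : Scheme.{u}) [IsLocallyNoetherian Y]
    (n : ℕ) {ι : Type u} (G : ι → Y.Modules) (hG : ∀ j, Coh.IsQCoh (G j)) (m : ι → ℕ) (hm : ∀ j, 0 < m j)
    (i : ℕ) (hi : i ≠ n) :
    IsZero ((Coh.RpushAb (CohB1.ProjSpaceOver.toBase n Y) i).obj (Coh.toAb
      (∐ fun j => CohB1.tensorMod ((Scheme.Modules.pullback (CohB1.ProjSpaceOver.toBase n Y)).obj (G j))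
        (Twist.twistOver n Y (-((m j : ℕ) : ℤ)))))) := by
  let p := KRR.pr n Y
  haveI : IsProper (CohB1.ProjSpace.toSpec n (ULift.{u} ℤ)) := PnCoh.Chow.isProper_toSpec n _
  haveI : IsProper p := MorphismProperty.pullback_snd _ _ inferInstance
  haveI := QcqsColim.preservesColimitsOfShape_RpushAb p i (Finset (Discrete.{u} ι))
  haveI := SiteBase.preservesColimitsOfSize_toSheaf (KRR.PY n Y).ringCatSheaf
  haveI : PreservesColimitsOfShape (Finset (Discrete.{u} ι)) (QCoh.toAbFunctor (KRR.PY n Y)) :=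
    inferInstanceAs (PreservesColimitsOfShape _ (SheafOfModules.toSheaf (KRR.PY n Y).ringCatSheaf))
  haveI : (Coh.RpushAb p i).Additive := inferInstance
  haveI : PreservesFiniteBiproducts (QCoh.toAbFunctor (KRR.PY n Y) ⋙ Coh.RpushAb p i) :=
    Functor.preservesFiniteBiproductsOfAdditive _
  haveI : PreservesFiniteCoproducts (QCoh.toAbFunctor (KRR.PY n Y) ⋙ Coh.RpushAb p i) :=
    ⟨fun _ => preservesCoproductsOfShape_of_preservesBiproductsOfShape _⟩
  refine PnOverVan.isZero_map_coprod (QCoh.toAbFunctor (KRR.PY n Y) ⋙ Coh.RpushAb p i) _ fun j => ?_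
  obtain ⟨e⟩ : Nonempty (CohB1.tensorMod ((Scheme.Modules.pullback p).obj (G j))
      (Twist.twistOver n Y (-((m j : ℕ) : ℤ))) ≅
      KRR.twF n Y (-((m j : ℕ) : ℤ)) ((Scheme.Modules.pullback p).obj (G j))) :=
    H23.PicMul.cl_eq_iff.1 (by
      show _ = PicF.cl (CohB1.tensorMod _ _)
      rw [H23.PicMul.cl_tensor, H23.PicMul.cl_tensor, mul_comm])
  exact (PnOverVan.isZero_RpushAb_twF_pullback n Y _ (by have := hm j; omega) (G j) (hG j) i hi).of_iso
    ((QCoh.toAbFunctor (KRR.PY n Y) ⋙ Coh.RpushAb p i).mapIso e)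

end Groth.Agent.S11170
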