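import Groth.Statements.S11176
import Groth.Agent.PerfGen7.LocalDualityRows
import Groth.Agent.PerfGen7.DoubleDual

set_option autoImplicit false
universe u
open CategoryTheory
attribute [local instance] HasDerivedCategory.standard
open Dual

namespace Groth.Agent.S11176

/-- Let A be a Noetherian local ring with maximal ideal m and residue field k, ω a normalized dualizing
complex (maps k → ω[i] in D(A) vanish for i ≠ 0), k → E an injective hull of k, and M a finite
A-module. For every natural number i the m-adic completion of the A-module of maps M → ω[−i] in D(A)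
is A-linearly isomorphic to Hom_A(H^i_m(M), E), where H^i_m(M) is the local cohomology module
(direct limit of Ext^i(A/m^n, M)). Existence of an isomorphism only; A is not assumed complete. (The
published statement gives an isomorphism of modules over the completion of A; this row asks only for
an A-linear isomorphism.) -/
theorem result (A : Type u) [CommRing A] [IsLocalRing A] [IsNoetherianRing A] (ω : Dual.D A) (hω : Dual.IsDualizing A ω) (hn : Dual.IsNormalized A ω) (E : Type u) [AddCommGroup E] [Module A E] (f : IsLocalRing.ResidueField A →ₗ[A] E) (hf : InjHull.IsInjectiveHull f) (M : Type u) [AddCommGroup M] [Module A M] [Module.Finite A M] (i : ℕ) : Nonempty (AdicCompletion (IsLocalRing.maximalIdeal A) (Dual.inD A M ⟶ ω⟦(-(i : ℤ))⟧) ≃ₗ[A] (LocCoh.H (IsLocalRing.maximalIdeal A) i M →ₗ[A] E)) := by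
  obtain ⟨a, b, -, _, _⟩ := Groth.Agent.KFlatLib.exists_bounds_of_isDualizing hω
  haveI := Groth.Agent.KFlatLib.finite_hom_module ω a hω.finite_cohomology M (-(i : ℤ))
  obtain ⟨m, P, ⟨c⟩⟩ := Groth.Agent.PerfGen7.DoubleDual.exists_small (R := A) (Dual.inD A M ⟶ ω⟦(-(i : ℤ))⟧)
  obtain ⟨e⟩ := Groth.Agent.PerfGen7.LocalDualityD.exists_localCohomology_equiv hω hn hf (ModuleCat.of A M) i
  let e' := LinearEquiv.congrLeft E A (e.trans (LinearEquiv.congrLeft E A c))
  obtain ⟨d⟩ := Groth.Agent.PerfGen7.DoubleDual.exists_doubleDual E hf ((Fin m → A) ⧸ P)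
  exact ⟨((AdicCompletion.congr (IsLocalRing.maximalIdeal A) c).restrictScalars A).trans (d.trans e'.symm)⟩

end Groth.Agent.S11176
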