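import Groth.Statements.S11188
import Groth.Agent.GModLib.Translates

set_option autoImplicit false
universe u
open CategoryTheory MonoidalCategory CartesianMonoidalCategory MonObj GrpObj AlgebraicGeometry
open scoped TensorProduct
open AGF

namespace Groth.Agent.S11188

set_option backward.isDefEq.respectTransparency false
set_option backward.isDefEq.respectTransparency.types false

open GrpSchLib.Kunneth GModLib

variable {k : Type u} [Field k]

theorem pt_end_eq (q : VecGrp.pt k k ⟶ VecGrp.pt k k) : q = 𝟙 _ := by
  apply Over.OverMorphism.ext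
  have := Over.w q
  change q.left ≫ Spec.map (CommRingCat.ofHom (algebraMap k k)) = Spec.map (CommRingCat.ofHom (algebraMap k k)) at this
  rw [show CommRingCat.ofHom (algebraMap k k) = 𝟙 _ from rfl, Spec.map_id] at this
  exact ((Category.comp_id q.left).symm.trans this).trans rfl

theorem smooth_pt : Smooth (VecGrp.pt k k).hom := by
  change Smooth (Spec.map (CommRingCat.ofHom (algebraMap k k)))
  rw [show CommRingCat.ofHom (algebraMap k k) = 𝟙 _ from rfl, Spec.map_id]
  infer_instance

/-- Matrices of several functions in one block, with the vector of their coordinates. -/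
theorem exists_block_vec {G : Over (Spec (CommRingCat.of k))} [GrpObj G] {α : Type*} [Fintype α] [DecidableEq α]
    (d : α → ℕ) (M : ∀ a, Matrix (Fin (d a)) (Fin (d a)) (Fn G)) (hM : ∀ a, IsRepMatrix (M a))
    (c : ∀ a, Fin (d a) → k) :
    ∃ (N : ℕ) (B : Matrix (Fin N) (Fin N) (Fn G)) (v : Fin N → k), IsRepMatrix B ∧
      ∀ g : VecGrp.pt k k ⟶ G, (B.map (pullFn g)).mulVec v = v ↔ ∀ a, ((M a).map (pullFn g)).mulVec (c a) = c a := by
  classical
  let e := Fintype.equivFin (Σ a, Fin (d a))
  let B₀ : Matrix (Σ a, Fin (d a)) (Σ a, Fin (d a)) (Fn G) := Matrix.blockDiagonal' M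
  let v₀ : (Σ a, Fin (d a)) → k := fun p => c p.1 p.2
  refine ⟨_, Matrix.reindex e e B₀, v₀ ∘ e.symm, ⟨fun T g h => ?_, fun T => ?_⟩, fun g => ?_⟩
  · simp only [Matrix.reindex_apply, ← Matrix.submatrix_map, Matrix.submatrix_mul_equiv, B₀,
      Matrix.blockDiagonal'_map _ _ (map_zero (ev (g * h))), Matrix.blockDiagonal'_map _ _ (map_zero (ev g)),
      Matrix.blockDiagonal'_map _ _ (map_zero (ev h)), ← Matrix.blockDiagonal'_mul]
    congr 2
    funext a
    exact (hM a).mul T g h
  · simp only [Matrix.reindex_apply, ← Matrix.submatrix_map, B₀,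
      Matrix.blockDiagonal'_map _ _ (map_zero (ev (1 : T ⟶ G)))]
    rw [show (fun a => (M a).map (ev (1 : T ⟶ G))) = 1 from funext fun a => (hM a).one T,
      Matrix.blockDiagonal'_one, Matrix.submatrix_one_equiv]
  · have hp : ∀ p : Σ a, Fin (d a),
        ((Matrix.reindex e e B₀).map (pullFn g)).mulVec (v₀ ∘ e.symm) (e p) =
          ((M p.1).map (pullFn g)).mulVec (c p.1) p.2 := by
      rintro ⟨a, i⟩
      simp only [Matrix.mulVec, dotProduct, Matrix.map_apply, Matrix.reindex_apply, Matrix.submatrix_apply,
        Function.comp, Equiv.symm_apply_apply]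
      rw [← e.sum_comp]
      simp only [Equiv.symm_apply_apply]
      rw [Fintype.sum_sigma, Finset.sum_eq_single a]
      · simp [B₀, v₀]
      · intro b _ hb
        refine Finset.sum_eq_zero fun j _ => ?_
        simp [B₀, Matrix.blockDiagonal'_apply_ne M i j (Ne.symm hb)]
      · simp
    constructor
    · intro h a
      funext i
      have := congrFun h (e ⟨a, i⟩)
      rw [hp] at this
      change _ = v₀ (e.symm (e ⟨a, i⟩)) at this
      rw [e.symm_apply_apply] at this
      exact this
    · intro h
      funext q
      obtain ⟨⟨a, i⟩, rfl⟩ := e.surjective q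
      rw [hp, h a]
      change c a i = v₀ (e.symm (e ⟨a, i⟩))
      rw [e.symm_apply_apply]

/-- (1) ⇔ (2) ⇔ (3): let k be an algebraically closed field, G a linear algebraic group over k (an
affine smooth group scheme over k) and H a closed subgroup of G (a smooth closed subgroup scheme, i
: H → G). The following are equivalent: (i) H is observable in G, i.e. a rational point of G whose
right translation fixes every right-H-invariant global function on G lies in H; (ii) there are a
finite-dimensional rational G-module V and a vector v in V whose stabiliser, on rational points, is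
H; (iii) there are finitely many right-H-invariant global functions on G which separate the cosets
gH: two rational points of G at which they all take the same values differ by right multiplication
by a rational point of H. -/
theorem result (k : Type u) [Field k] [IsAlgClosed k]
    (G : Over (Spec (CommRingCat.of k))) [GrpObj G] [IsAffine G.left] [Smooth G.hom]
    (H : Over (Spec (CommRingCat.of k))) [GrpObj H] [Smooth H.hom] (i : H ⟶ G) [IsMonHom i]
    [IsClosedImmersion i.left] :
    List.TFAE [
      AGF.IsObservableIn k i,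
      ∃ (V : Type u) (_ : AddCommGroup V) (_ : Module k V) (_ : Module.Finite k V) (ρ : VecGrp.GMod G V) (v : V),
        AGF.IsStabOnPts k i ρ v,
      ∃ s : Finset Γ(G.left, ⊤), (∀ f ∈ s, AGF.IsRTransInv i f) ∧
        ∀ g g' : VecGrp.pt k k ⟶ G, (∀ f ∈ s, g.left.appTop f = g'.left.appTop f) →
          ∃ h : VecGrp.pt k k ⟶ H, g' = g * (h ≫ i)] := by
  classical
  haveI : IsAffineHom G.hom := inferInstance
  haveI : IsReduced G.left := GrpSchLib.isReduced_of_smooth_field G.hom
  tfae_have 1 → 3 := by
    intro hobs
    haveI : IsAffine (G ⊗ G).left := inferInstanceAs (IsAffine (Limits.pullback G.hom G.hom))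
    haveI : LocallyOfFiniteType (G ⊗ G).hom :=
      inferInstanceAs (LocallyOfFiniteType (Limits.pullback.fst G.hom G.hom ≫ G.hom))
    haveI : IsLocallyNoetherian (G ⊗ G).left := LocallyOfFiniteType.isLocallyNoetherian (G ⊗ G).hom
    haveI : IsNoetherianRing Γ((G ⊗ G).left, ⊤) :=
      IsLocallyNoetherian.component_noetherian ⟨⊤, isAffineOpen_top _⟩
    let δ : Fn G → Fn (G ⊗ G) := fun f => ev (fst G G) f - ev (snd G G) f
    let I : Ideal (Fn (G ⊗ G)) := Ideal.span (δ '' {f | AGF.IsRTransInv i f})
    obtain ⟨t, ht, hspan⟩ := (Submodule.fg_span_iff_fg_span_finset_subset _).mp (IsNoetherian.noetherian I)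
    have hpre : ∀ y ∈ t, ∃ f, AGF.IsRTransInv i f ∧ δ f = y := fun y hy => ht hy
    choose pre hpre1 hpre2 using hpre
    refine ⟨t.attach.image fun y => pre y.1 y.2, fun f hf => ?_, fun g g' hgg => ?_⟩
    · obtain ⟨y, -, rfl⟩ := Finset.mem_image.mp hf
      exact hpre1 _ _
    · have hall : ∀ f, AGF.IsRTransInv i f → pullFn g f = pullFn g' f := by
        intro f hf
        have hψ : ∀ f, pullFn (lift g g') (δ f) = pullFn g f - pullFn g' f := fun f => by
          rw [map_sub, pullFn_ev, pullFn_ev, lift_fst, lift_snd]
        have hker : Ideal.span (t : Set (Fn (G ⊗ G))) ≤ RingHom.ker (pullFn (lift g g')) :=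
          Ideal.span_le.mpr fun y hy => by
            show pullFn (lift g g') y = 0
            rw [← hpre2 y hy, hψ, sub_eq_zero]
            exact congrArg (Scheme.ΓSpecIso (CommRingCat.of k)).hom.hom
              (hgg _ (Finset.mem_image.mpr ⟨⟨y, hy⟩, Finset.mem_attach _ _, rfl⟩))
        have hmem : δ f ∈ Ideal.span (t : Set (Fn (G ⊗ G))) := by
          have : δ f ∈ I := Ideal.subset_span ⟨f, hf, rfl⟩
          change δ f ∈ Submodule.span _ _ at this
          rwa [hspan] at this
        have h0 : pullFn (lift g g') (δ f) = 0 := hker hmem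
        rwa [hψ, sub_eq_zero] at h0
      obtain ⟨h, hh⟩ := hobs (g⁻¹ * g') fun f hf => by
        haveI : Smooth (VecGrp.pt k k).hom := smooth_pt
        refine (isRTransInv_iff_points _ f).mpr fun x p => ?_
        rw [pt_end_eq p, Category.id_comp]
        -- left translate by `x * g⁻¹`
        let a : VecGrp.pt k k ⟶ G := x * g⁻¹
        let q : G ⟶ VecGrp.pt k k := Over.homMk G.hom (by
          show G.hom ≫ Spec.map (CommRingCat.ofHom (algebraMap k k)) = G.hom
          rw [show CommRingCat.ofHom (algebraMap k k) = 𝟙 _ from rfl, Spec.map_id, Category.comp_id])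
        let L : G ⟶ G := (q ≫ a) * 𝟙 G
        have hL : ∀ y : VecGrp.pt k k ⟶ G, pullFn y (ev L f) = pullFn (a * y) f := fun y => by
          rw [pullFn_ev, MonObj.comp_mul, ← Category.assoc, pt_end_eq (y ≫ q),
            Category.id_comp, Category.comp_id]
        have hinv : AGF.IsRTransInv i (ev L f) := (isRTransInv_iff_points i _).mpr fun y h => by
          rw [hL, hL, ← _root_.mul_assoc]
          exact (isRTransInv_iff_points i f).mp hf (a * y) h
        have := hall _ hinv
        rw [hL, hL] at this
        simpa [a, _root_.mul_assoc] using this.symm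
      exact ⟨h, by rw [hh, mul_inv_cancel_left]⟩
  tfae_have 3 → 2 := by
    rintro ⟨s, hs, hsep⟩
    choose d M w c hM hw hc hE using fun f : s => exists_matrix_vec (G := G) f.1
    obtain ⟨N, B, v, hB, hv⟩ := exists_block_vec d M hM c
    refine ⟨Fin N → k, inferInstance, inferInstance, inferInstance, hB.gmod, v, fun g => ?_⟩
    have hstab : hB.gmod.ρ k g ((1 : k) ⊗ₜ[k] v) = (1 : k) ⊗ₜ[k] v ↔
        ∀ f : s, ∀ x : VecGrp.pt k k ⟶ G, pullFn (x * g) f.1 = pullFn x f.1 := by
      rw [gmod_apply, (TensorProduct.lid k (Fin N → k)).injective.eq_iff.symm, TensorProduct.lid_tmul,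
        TensorProduct.lid_tmul, one_smul, one_smul, hv]
      exact forall_congr' fun f => mulVec_eq_iff (hw f) (hc f) (hE f) g
    rw [hstab]
    constructor
    · intro hg
      obtain ⟨h, hh⟩ := hsep 1 g fun f hf => by
        apply (Scheme.ΓSpecIso (CommRingCat.of k)).commRingCatIsoToRingEquiv.injective
        have := hg ⟨f, hf⟩ 1
        rw [_root_.one_mul] at this
        exact this.symm
      exact ⟨h, by rw [hh, _root_.one_mul]⟩
    · rintro ⟨h, rfl⟩ f x
      exact (isRTransInv_iff_points i f.1).mp (hs f.1 f.2) x h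
  tfae_have 2 → 1 := by
    rintro ⟨V, _, _, _, ρ, v, hv⟩ g hg
    refine (hv g).mp ((TensorProduct.lid k V).injective ?_)
    rw [TensorProduct.lid_tmul, one_smul, ← sub_eq_zero]
    refine (Module.forall_dual_apply_eq_zero_iff k _).mp fun φ => ?_
    let co : ∀ (B : Type u) [CommRing B] [Algebra k B], B ⊗[k] V →ₗ[B] B := fun B _ _ =>
      (TensorProduct.AlgebraTensorModule.rid k B B).toLinearMap ∘ₗ φ.baseChange B
    have hco : ∀ {B B' : Type u} [CommRing B] [Algebra k B] [CommRing B'] [Algebra k B'] (e : B →ₐ[k] B')
        (x : B ⊗[k] V), e (co B x) = co B' (VecGrp.Wmap e x) := by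
      intro B B' _ _ _ _ e x
      induction x using TensorProduct.induction_on with
      | zero => simp
      | tmul r y => simp [co]
      | add x y hx hy => simp only [map_add, hx, hy]
    obtain ⟨f, hf⟩ := GModLib.exists_fn (G := G) (fun B _ _ x => co B (ρ.ρ B x ((1 : B) ⊗ₜ[k] v)))
      (fun e x => by rw [hco, ρ.naturality]; simp)
    have hinv : AGF.IsRTransInv i f := (isRTransInv_iff_points i f).mpr fun x h => by
      rw [← hf, ← hf, map_mul, LinearEquiv.mul_apply, (hv (h ≫ i)).mpr ⟨h, rfl⟩]
    haveI : Smooth (VecGrp.pt k k).hom := smooth_pt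
    have h1 := (isRTransInv_iff_points g f).mp (hg f hinv) 1 (𝟙 _)
    rw [Category.id_comp, _root_.one_mul, ← hf, ← hf, map_one] at h1
    have hc : ∀ x : k ⊗[k] V, co k x = φ (TensorProduct.lid k V x) := fun x => by
      induction x using TensorProduct.induction_on with
      | zero => simp
      | tmul r y => simp [co, _root_.mul_comm]
      | add x y hx hy => simp only [map_add, hx, hy]
    rw [hc, hc] at h1
    rw [map_sub, h1, sub_eq_zero]
    simp
  tfae_finish

end Groth.Agent.S11188
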