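import Groth.Statements.S11189
import Groth.Agent.GModLib.SolvableEigen
import Groth.Agent.GrpSchLib.OrbitImmersion
import Groth.Agent.GrpSchLib.AntiAffineAction
import Mathlib.AlgebraicGeometry.QuasiAffine

set_option autoImplicit false
universe u
open CategoryTheory MonoidalCategory CartesianMonoidalCategory MonObj GrpObj AlgebraicGeometry
open scoped TensorProduct
open AGF

namespace Groth.Agent.S11189

open GrpSchLib GrpSchLib.Kunneth GModLib Limits

set_option backward.isDefEq.respectTransparency false
set_option backward.isDefEq.respectTransparency.types false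

variable {k : Type u} [Field k] [IsAlgClosed k] {G H : Over (Spec (CommRingCat.of k))} [GrpObj G] [GrpObj H]
  [IsAffine G.left] [Smooth G.hom] [Smooth H.hom] (i : H ⟶ G) [IsMonHom i] [IsClosedImmersion i.left]

/-- Finitely many invariant functions whose common level sets over every test scheme are the cosets. -/
theorem exists_separating (hobs : AGF.IsObservableIn k i) :
    ∃ (m : ℕ) (P : Fin m → Fn G), (∀ a, AGF.IsRTransInv i (P a)) ∧
      ∀ (T : Over (Spec (CommRingCat.of k))) (t t' : T ⟶ G),
        (∀ a, ev t (P a) = ev t' (P a)) → ∃ h : T ⟶ H, t⁻¹ * t' = h ≫ i := by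
  classical
  haveI : IsAffineHom G.hom := inferInstance
  haveI : IsReduced G.left := GrpSchLib.isReduced_of_smooth_field G.hom
  haveI : LocallyOfFiniteType G.hom := inferInstance
  obtain ⟨n, z, α, c, h1, hc, hz⟩ := GrpSchLib.HomogeneousQuot.exists_vec_semi G H i
  have hc' : ∀ (x : VecGrp.pt k k ⟶ G) (h : VecGrp.pt k k ⟶ H) (l : Fin (n + 1)),
      pullFn (x * (h ≫ i)) (z l) = pullFn h c * pullFn x (z l) := fun x h l => by
    simp only [pullFn_apply, hc]
    exact (map_mul _ _ _).trans (_root_.mul_comm _ _)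
  obtain ⟨l₀, hl₀⟩ : ∃ l₀, pullFn (1 : VecGrp.pt k k ⟶ G) (z l₀) ≠ 0 := by
    by_contra hall
    push_neg at hall
    have h := congrArg (pullFn (1 : VecGrp.pt k k ⟶ G)) h1
    simp [hall] at h
  obtain ⟨g, hg1, hg⟩ := exists_inverse_weight i hobs (fun h => pullFn h c) (z l₀)
    (fun h => hl₀ (by rw [h, map_zero])) fun x h => hc' x h l₀
  let 𝒢 : Set (Fn G) := {g' | ∀ (x : VecGrp.pt k k ⟶ G) (h : VecGrp.pt k k ⟶ H), pullFn h c * pullFn (x * (h ≫ i)) g' = pullFn x g'}
  have htop : Ideal.span 𝒢 = ⊤ := by
    by_contra hne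
    obtain ⟨P, hP, hle⟩ := Ideal.exists_le_maximal _ hne
    haveI := hP
    obtain ⟨p, hp⟩ := exists_point_of_isMaximal (G := G) P
    obtain ⟨g', hg'⟩ := exists_translate p⁻¹ g
    have hmem : g' ∈ 𝒢 := fun x h => by rw [hg', hg', ← _root_.mul_assoc]; exact hg _ _
    have := hp _ (hle (Ideal.subset_span hmem))
    rw [hg', inv_mul_cancel, hg1] at this
    exact one_ne_zero this
  obtain ⟨S, hS, hS1⟩ := Submodule.mem_span_finite_of_mem_span
    (show (1 : Fn G) ∈ Submodule.span (Fn G) 𝒢 by rw [show Submodule.span (Fn G) 𝒢 = ⊤ from htop]; exact Submodule.mem_top)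
  obtain ⟨β, -, hβ⟩ := Submodule.mem_span_finset.mp hS1
  let e := Fintype.equivFin (Fin (n + 1) × S)
  refine ⟨_, fun a => z (e.symm a).1 * (e.symm a).2.1, fun a => (isRTransInv_iff_points i _).mpr fun x h => ?_,
    fun T t t' hP => (hz T t t').mp fun x q => ?_⟩
  · rw [map_mul, map_mul, hc', ← hS (e.symm a).2.2 x h]
    ring
  · have hP' : ∀ (l : Fin (n + 1)) (s : S), ev t (z l) * ev t s.1 = ev t' (z l) * ev t' s.1 := fun l s => by
      have := hP (e (l, s))
      simpa using this
    have hD : ∀ s : S, (ev t (z x) * ev t' (z q) - ev t (z q) * ev t' (z x)) * ev t' s.1 = 0 := fun s => by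
      linear_combination (-ev t (z x)) * hP' q s + ev t (z q) * hP' x s
    rw [← sub_eq_zero]
    calc _ = (ev t (z x) * ev t' (z q) - ev t (z q) * ev t' (z x)) * ev t' (∑ s ∈ S, β s • s) := by
          rw [hβ, map_one, _root_.mul_one]
      _ = 0 := by
          rw [map_sum, Finset.mul_sum]
          refine Finset.sum_eq_zero fun s hs => ?_
          rw [smul_eq_mul, map_mul, mul_left_comm, hD ⟨s, hs⟩, MulZeroClass.mul_zero]

set_option maxHeartbeats 1000000 in
/-- A vector whose orbit map has the cosets as fibres. -/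
theorem exists_orbit (hobs : AGF.IsObservableIn k i) :
    ∃ (N : ℕ) (a : AlgGrp.Action G (aff k N)) (o : 𝟙_ (Over (Spec (CommRingCat.of k))) ⟶ aff k N),
      fst G H ≫ a.orbitMap o = ((G ◁ i) ≫ μ[G]) ≫ a.orbitMap o ∧
      ∀ (T : Over (Spec (CommRingCat.of k))) (t t' : T ⟶ G), t ≫ a.orbitMap o = t' ≫ a.orbitMap o →
        ∃ h : T ⟶ H, t⁻¹ * t' = h ≫ i := by
  classical
  haveI : IsAffineHom G.hom := inferInstance
  haveI : IsReduced G.left := GrpSchLib.isReduced_of_smooth_field G.hom
  haveI : IsReduced H.left := GrpSchLib.isReduced_of_smooth_field H.hom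
  obtain ⟨m, P, hP, hsep⟩ := exists_separating i hobs
  obtain ⟨n, M, w, cf, hM, hw, hcf, hE⟩ := exists_matrix_family (G := G) P
  obtain ⟨N, e, B, hB, hBe⟩ := S11193.exists_copies M hM m
  let o : 𝟙_ (Over (Spec (CommRingCat.of k))) ⟶ aff k N :=
    affPt fun r => algebraMap k _ (cf (e.symm r).2 (e.symm r).1)
  have horb : ∀ (T : Over (Spec (CommRingCat.of k))) (t : T ⟶ G) (a : Fin n) (l : Fin m),
      ev (t ≫ hB.action.orbitMap o) (affCoord (e (a, l))) = ∑ b, ev t (M a b) * algebraMap k _ (cf l b) := by
    intro T t a l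
    rw [show t ≫ hB.action.orbitMap o = lift t (toUnit T ≫ o) ≫ linAct B from by
      show t ≫ (lift (𝟙 G) (toUnit G ≫ o) ≫ linAct B) = _
      rw [← Category.assoc, comp_lift, Category.comp_id, ← Category.assoc, comp_toUnit]]
    rw [ev_comp_linAct, lift_fst, lift_snd, ← e.sum_comp, Fintype.sum_prod_type]
    refine Finset.sum_congr rfl fun b _ => ?_
    simp only [hBe, apply_ite (ev t), map_zero, ite_mul, MulZeroClass.zero_mul, Finset.sum_ite_eq, Finset.mem_univ,
      if_true, ← ev_ev (toUnit T) o, o, ev_affPt, Equiv.symm_apply_apply, AlgHom.commutes]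
  have hfix : ∀ l a, ∑ b, ev i (M a b) * algebraMap k _ (cf l b) = algebraMap k (Fn H) (cf l a) := fun l a =>
    eq_of_forall_point fun z => by
      have e1 := congrFun ((mulVec_eq_iff hw (hcf l) hE (z ≫ i)).mpr
        fun x => (isRTransInv_iff_points i (P l)).mp (hP l) x z) a
      simp only [Matrix.mulVec, dotProduct, Matrix.map_apply] at e1
      simp only [map_sum, map_mul, pullFn_ev, AlgHom.commutes, Algebra.algebraMap_self, RingHom.id_apply, e1]
  refine ⟨N, hB.action, o, aff_ext fun r => ?_, fun T t t' h => hsep T t t' fun l => ?_⟩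
  · obtain ⟨⟨a, l⟩, rfl⟩ := e.surjective r
    have hμ : (G ◁ i) ≫ μ[G] = fst G H * (snd G H ≫ i) := by
      rw [Hom.mul_def]
      congr 1
    rw [horb, horb, hμ]
    have e2 : ∀ b, ev (fst G H * (snd G H ≫ i)) (M a b) =
        ∑ d, ev (fst G H) (M a d) * ev (snd G H ≫ i) (M d b) := fun b =>
      congrFun (congrFun (hM.mul _ (fst G H) (snd G H ≫ i)) a) b
    simp only [e2, Finset.sum_mul]
    rw [Finset.sum_comm]
    refine Finset.sum_congr rfl fun d _ => ?_
    simp only [_root_.mul_assoc, ← Finset.mul_sum]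
    congr 1
    rw [← AlgHom.commutes (ev (snd G H)), ← hfix l d, map_sum]
    exact Finset.sum_congr rfl fun b _ => by rw [map_mul, ev_ev, AlgHom.commutes]
  · -- the value of a function in terms of its coordinates
    have hval : ∀ (t : T ⟶ G), ev t (P l) =
        ∑ a, ev (1 : T ⟶ G) (w a) * ev (t ≫ hB.action.orbitMap o) (affCoord (e (a, l))) := fun t => by
      conv_lhs => rw [← hcf l, map_sum, ← _root_.one_mul t]
      simp only [horb, map_smul, hE, Finset.smul_sum, Finset.mul_sum]
      simp only [Algebra.smul_def]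
      rw [Finset.sum_comm]
      exact Finset.sum_congr rfl fun a _ => Finset.sum_congr rfl fun b _ => by ring
    rw [hval t, hval t', h]

/-- Let k be an algebraically closed field, G a linear algebraic group over k (an affine smooth group
scheme over k) and H a closed subgroup of G (a smooth closed subgroup scheme, i : H → G), and let X,
with G-action a and base point o, be the quotient G/H. Then H is observable in G if and only if X is
quasi-affine (quasi-compact and an open subscheme of an affine scheme). -/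
theorem result (k : Type u) [Field k] [IsAlgClosed k]
    (G : Over (Spec (CommRingCat.of k))) [GrpObj G] [IsAffine G.left] [Smooth G.hom]
    (H : Over (Spec (CommRingCat.of k))) [GrpObj H] [Smooth H.hom] (i : H ⟶ G) [IsMonHom i]
    [IsClosedImmersion i.left]
    (X : Over (Spec (CommRingCat.of k))) (a : AlgGrp.Action G X) (o : 𝟙_ (Over (Spec (CommRingCat.of k))) ⟶ X)
    (hX : AGF.IsQuotient i X a o) :
    AGF.IsObservableIn k i ↔ X.left.IsQuasiAffine := by
  haveI : IsAffineHom G.hom := inferInstance
  haveI : IsReduced G.left := GrpSchLib.isReduced_of_smooth_field G.hom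
  obtain ⟨hlft, hflat, hsurj, hpb⟩ := hX
  let p := a.orbitMap o
  haveI := hlft
  haveI : Flat p.left := hflat
  haveI : Surjective p.left := hsurj
  haveI : IsLocallyNoetherian X.left := LocallyOfFiniteType.isLocallyNoetherian X.hom
  haveI : LocallyOfFiniteType (p.left ≫ X.hom) := by rw [Over.w p]; infer_instance
  haveI : LocallyOfFiniteType p.left := locallyOfFiniteType_of_comp p.left X.hom
  haveI : LocallyOfFinitePresentation p.left := inferInstance
  haveI : CompactSpace G.left := (quasiCompact_iff_compactSpace G.hom).mp inferInstance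
  haveI : CompactSpace X.left := ⟨by
    rw [← Set.range_eq_univ.mpr p.left.surjective]
    exact isCompact_range p.left.continuous⟩
  have hker : ∀ (T : Over (Spec (CommRingCat.of k))) (t t' : T ⟶ G) (h : T ⟶ H), t⁻¹ * t' = h ≫ i → t ≫ p = t' ≫ p := by
    intro T t t' h hh
    have e := congrArg (fun q => lift t h ≫ q) hpb.w
    simp only [Category.assoc, lift_fst_assoc, lift_whiskerLeft_assoc] at e
    rw [← hh, ← Category.assoc (f := lift t _), ← Hom.mul_def, mul_inv_cancel_left] at e
    exact e
  constructor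
  · intro hobs
    obtain ⟨N, b, v, hv1, hv2⟩ := exists_orbit i hobs
    let ψ := b.orbitMap v
    haveI : EffectiveEpi p.left := inferInstance
    let m₀ := EffectiveEpi.desc p.left ψ.left fun {Z} g₁ g₂ hg => by
      let T : Over (Spec (CommRingCat.of k)) := Over.mk (g₁ ≫ G.hom)
      let a₁ : T ⟶ G := Over.homMk g₁ rfl
      let a₂ : T ⟶ G := Over.homMk g₂ (by
        show g₂ ≫ G.hom = g₁ ≫ G.hom
        rw [← Over.w p, ← Category.assoc, ← hg, Category.assoc])
      have ha : a₁ ≫ p = a₂ ≫ p := Over.OverMorphism.ext hg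
      let l := hpb.lift a₁ a₂ ha
      have : a₁ ≫ ψ = a₂ ≫ ψ := by
        rw [← hpb.lift_fst a₁ a₂ ha, Category.assoc, hv1, ← Category.assoc, hpb.lift_snd]
      exact congrArg CommaMorphism.left this
    have hm₀ : p.left ≫ m₀ = ψ.left := EffectiveEpi.fac _ _ _
    let m : X ⟶ aff k N := Over.homMk m₀ (by
      rw [← cancel_epi p.left, ← Category.assoc, hm₀, Over.w, Over.w])
    have hm : p ≫ m = ψ := Over.OverMorphism.ext hm₀
    haveI : Mono m.left := by
      refine ⟨fun {Z} u v huv => ?_⟩
      let c₁ := pullback.fst u p.left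
      let c₂ := pullback.fst (c₁ ≫ v) p.left
      haveI : EffectiveEpi c₁ := inferInstance
      haveI : EffectiveEpi c₂ := inferInstance
      have hZ : u ≫ X.hom = v ≫ X.hom := by rw [← Over.w m, reassoc_of% huv]
      let T : Over (Spec (CommRingCat.of k)) := Over.mk ((c₂ ≫ pullback.snd u p.left) ≫ G.hom)
      let t : T ⟶ G := Over.homMk (c₂ ≫ pullback.snd u p.left) rfl
      let t' : T ⟶ G := Over.homMk (pullback.snd (c₁ ≫ v) p.left) (by
        show pullback.snd (c₁ ≫ v) p.left ≫ G.hom = (c₂ ≫ pullback.snd u p.left) ≫ G.hom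
        rw [← Over.w p, ← pullback.condition_assoc, Category.assoc, Category.assoc, ← pullback.condition_assoc]
        simp only [c₁, c₂, Category.assoc, hZ])
      have htt : t ≫ ψ = t' ≫ ψ := by
        rw [← hm]
        refine Over.OverMorphism.ext ?_
        show (c₂ ≫ pullback.snd u p.left) ≫ p.left ≫ m.left = pullback.snd (c₁ ≫ v) p.left ≫ p.left ≫ m.left
        rw [Category.assoc, ← pullback.condition_assoc, ← pullback.condition_assoc]
        simp only [Category.assoc, huv, c₁, c₂]
      obtain ⟨h, hh⟩ := hv2 T t t' htt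
      have e : (c₂ ≫ pullback.snd u p.left) ≫ p.left = pullback.snd (c₁ ≫ v) p.left ≫ p.left :=
        congrArg CommaMorphism.left (hker T t t' h hh)
      rw [Category.assoc, ← pullback.condition, ← pullback.condition] at e
      exact (cancel_epi c₁).mp ((cancel_epi c₂).mp e)
    haveI : Mono m := (Over.forget _).mono_of_mono_map (inferInstanceAs (Mono m.left))
    haveI : IsAffine (aff k N).left := isAffine_of_isAffineHom (aff k N).hom
    haveI : IsSeparated (aff k N).hom := inferInstance
    haveI : IsImmersion m.left := (GrpSchLib.OrbitImmersion.main b v p m hm).1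
    exact Scheme.IsQuasiAffine.of_isImmersion m.left
  · intro hqa gam hgam
    haveI := hqa
    let e₁ : VecGrp.pt k k ⟶ G := 1
    have hval : ∀ F : Γ(X.left, ⊤), pullFn gam (ev p F) = pullFn e₁ (ev p F) := fun F => by
      have hinv : AGF.IsRTransInv i (ev p F) := by
        show ev ((G ◁ i) ≫ μ[G]) (ev p F) = ev (fst G H) (ev p F)
        rw [ev_ev, ev_ev, hpb.w]
      haveI : Smooth (VecGrp.pt k k).hom := S11188.smooth_pt
      have e := (isRTransInv_iff_points gam _).mp (hgam _ hinv) 1 (𝟙 _)
      rwa [Category.id_comp, _root_.one_mul] at e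
    have heq : gam ≫ p = e₁ ≫ p := by
      refine Over.OverMorphism.ext ((cancel_mono X.left.toSpecΓ).mp ?_)
      rw [Scheme.toSpecΓ_naturality, Scheme.toSpecΓ_naturality]
      congr 2
      refine CommRingCat.hom_ext (RingHom.ext fun F => ?_)
      apply (Scheme.ΓSpecIso (CommRingCat.of k)).commRingCatIsoToRingEquiv.injective
      have := hval F
      rwa [pullFn_ev, pullFn_ev] at this
    let l := hpb.lift e₁ gam heq.symm
    refine ⟨l ≫ snd G H, ?_⟩
    have e := hpb.lift_snd e₁ gam heq.symm
    have e0 : l = lift e₁ (l ≫ snd G H) := by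
      apply CartesianMonoidalCategory.hom_ext
      · rw [lift_fst]; exact hpb.lift_fst _ _ _
      · rw [lift_snd]
    change l ≫ _ = _ at e
    rw [e0, lift_whiskerLeft_assoc, ← Hom.mul_def, _root_.one_mul] at e
    exact e

end Groth.Agent.S11189
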