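import Groth.Statements.S11220
import Groth.Agent.GModLib.SemiInvVec
import Groth.Agent.GrpSchLib.LineVecSemi

set_option autoImplicit false
universe u
open CategoryTheory MonoidalCategory CartesianMonoidalCategory MonObj GrpObj AlgebraicGeometry
open scoped TensorProduct
open AGF

namespace Groth.Agent.S11220

open GrpSchLib.Kunneth GModLib

set_option backward.isDefEq.respectTransparency false
set_option backward.isDefEq.respectTransparency.types false

/-- If inverse characters occur then the subgroup is observable. -/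
theorem observable_of_inverse (k : Type u) [Field k] [IsAlgClosed k]
    (G : Over (Spec (CommRingCat.of k))) [GrpObj G] [IsAffine G.left] [Smooth G.hom]
    (H : Over (Spec (CommRingCat.of k))) [GrpObj H] [Smooth H.hom] (i : H ⟶ G) [IsMonHom i]
    [IsClosedImmersion i.left]
    (hinv : ∀ χ : H ⟶ Red.Gm (Spec (CommRingCat.of k)), IsMonHom χ →
      (∃ f : Fn G, f ≠ 0 ∧ ∀ (x : VecGrp.pt k k ⟶ G) (h : VecGrp.pt k k ⟶ H),
        pullFn (x * (h ≫ i)) f = pullFn h (Red.gmFn χ) * pullFn x f) →
      ∃ g : Fn G, pullFn (1 : VecGrp.pt k k ⟶ G) g ≠ 0 ∧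
        ∀ (x : VecGrp.pt k k ⟶ G) (h : VecGrp.pt k k ⟶ H),
          pullFn h (Red.gmFn χ) * pullFn (x * (h ≫ i)) g = pullFn x g) :
    AGF.IsObservableIn k i := by
  haveI : IsAffineHom G.hom := inferInstance
  haveI : IsReduced G.left := GrpSchLib.isReduced_of_smooth_field G.hom
  haveI : IsReduced H.left := GrpSchLib.isReduced_of_smooth_field H.hom
  haveI : LocallyOfFiniteType G.hom := inferInstance
  obtain ⟨n, z, α, c, h1, hc, hz⟩ := GrpSchLib.HomogeneousQuot.exists_vec_semi G H i
  have hc' : ∀ (x : VecGrp.pt k k ⟶ G) (h : VecGrp.pt k k ⟶ H) (l : Fin (n + 1)),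
      pullFn (x * (h ≫ i)) (z l) = pullFn h c * pullFn x (z l) := fun x h l => by
    simp only [pullFn_apply, hc]
    exact (map_mul _ _ _).trans (_root_.mul_comm _ _)
  obtain ⟨l₀, hl₀⟩ : ∃ l₀, pullFn (1 : VecGrp.pt k k ⟶ G) (z l₀) ≠ 0 := by
    by_contra hall
    push_neg at hall
    have h := congrArg (pullFn (1 : VecGrp.pt k k ⟶ G)) h1
    simp [hall] at h
  have hc1 : pullFn (1 : VecGrp.pt k k ⟶ H) c = 1 := by
    have h := hc' 1 1 l₀
    rw [MonObj.one_comp, _root_.mul_one] at h
    exact mul_right_cancel₀ hl₀ (h.symm.trans (_root_.one_mul _).symm)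
  have hcm : ∀ g h : VecGrp.pt k k ⟶ H, pullFn (g * h) c = pullFn g c * pullFn h c := fun g h => by
    have e := hc' 1 (g * h) l₀
    rw [MonObj.mul_comp, ← _root_.mul_assoc, hc', hc'] at e
    exact mul_right_cancel₀ hl₀ (e.symm.trans (by ring))
  obtain ⟨χ, hχ, hχc⟩ := exists_character c hc1 hcm
  obtain ⟨g, hg1, hg⟩ := hinv χ hχ ⟨z l₀, fun h => hl₀ (by rw [h, map_zero]), fun x h => by rw [hχc, hc']⟩
  intro gam hgam
  have hP : ∀ l, pullFn gam (z l) * pullFn gam g =
      pullFn (1 : VecGrp.pt k k ⟶ G) (z l) * pullFn (1 : VecGrp.pt k k ⟶ G) g := by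
    intro l
    have hPinv : AGF.IsRTransInv i (z l * g) := (isRTransInv_iff_points i _).mpr fun x h => by
      rw [map_mul, map_mul, hc', ← hg x h, hχc]
      ring
    haveI : Smooth (VecGrp.pt k k).hom := S11188.smooth_pt
    have e := (isRTransInv_iff_points gam _).mp (hgam _ hPinv) 1 (𝟙 _)
    rwa [Category.id_comp, _root_.one_mul, map_mul, map_mul] at e
  have hggam : pullFn gam g ≠ 0 := fun h => by
    have e := hP l₀
    rw [h, MulZeroClass.mul_zero] at e
    exact mul_ne_zero hl₀ hg1 e.symm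
  obtain ⟨h, hh⟩ := (hz _ (1 : VecGrp.pt k k ⟶ G) gam).mp fun x q => by
    apply (Scheme.ΓSpecIso (CommRingCat.of k)).commRingCatIsoToRingEquiv.injective
    rw [map_mul, map_mul]
    show pullFn (1 : VecGrp.pt k k ⟶ G) (z x) * pullFn gam (z q) =
      pullFn (1 : VecGrp.pt k k ⟶ G) (z q) * pullFn gam (z x)
    refine mul_right_cancel₀ hggam ?_
    rw [_root_.mul_assoc, _root_.mul_assoc, hP, hP]
    ring
  exact ⟨h, by rw [← hh, _root_.inv_one, _root_.one_mul]⟩

/-- Let k be an algebraically closed field, G a linear algebraic group over k (an affine smooth group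
scheme over k) and H a closed subgroup of G (a smooth closed subgroup scheme, i : H → G). Then H is
observable in G if and only if, for every character χ of H which occurs on a nonzero
H-semi-invariant vector of some finite-dimensional rational G-module (h·v = χ(h)v), the inverse
character χ⁻¹ also occurs on a nonzero H-semi-invariant vector of some finite-dimensional rational
G-module (every one-dimensional H-module found inside a finite-dimensional G-module has its dual
inside one too). -/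
theorem result (k : Type u) [Field k] [IsAlgClosed k]
    (G : Over (Spec (CommRingCat.of k))) [GrpObj G] [IsAffine G.left] [Smooth G.hom]
    (H : Over (Spec (CommRingCat.of k))) [GrpObj H] [Smooth H.hom] (i : H ⟶ G) [IsMonHom i]
    [IsClosedImmersion i.left] :
    AGF.IsObservableIn k i ↔
      ∀ (χ : H ⟶ Red.Gm (Spec (CommRingCat.of k))), IsMonHom χ →
        (∃ (V : Type u) (_ : AddCommGroup V) (_ : Module k V) (_ : Module.Finite k V) (ρ : VecGrp.GMod G V) (v : V), v ≠ 0 ∧
          ∀ (B : Type u) [CommRing B] [Algebra k B] (h : VecGrp.pt k B ⟶ H),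
            ρ.ρ B (h ≫ i) ((1 : B) ⊗ₜ[k] v) = VecGrp.chiVal χ h • ((1 : B) ⊗ₜ[k] v)) →
        (∃ (V : Type u) (_ : AddCommGroup V) (_ : Module k V) (_ : Module.Finite k V) (ρ : VecGrp.GMod G V) (v : V), v ≠ 0 ∧
          ∀ (B : Type u) [CommRing B] [Algebra k B] (h : VecGrp.pt k B ⟶ H),
            ρ.ρ B (h ≫ i) ((1 : B) ⊗ₜ[k] v) = VecGrp.chiVal χ⁻¹ h • ((1 : B) ⊗ₜ[k] v)) := by
  haveI : IsAffineHom G.hom := inferInstance
  haveI : IsReduced G.left := GrpSchLib.isReduced_of_smooth_field G.hom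
  haveI : IsReduced H.left := GrpSchLib.isReduced_of_smooth_field H.hom
  have hinvval : ∀ (χ : H ⟶ Red.Gm (Spec (CommRingCat.of k))) (h : VecGrp.pt k k ⟶ H),
      pullFn h (Red.gmFn χ⁻¹) * pullFn h (Red.gmFn χ) = 1 := fun χ h => by
    rw [← map_mul, GmPts.gmFn_inv, map_one]
  constructor
  · intro hobs χ _ hv
    obtain ⟨V, _, _, _, ρ, v, hv0, hv⟩ := hv
    obtain ⟨f, hf1, hf⟩ := exists_fn_of_vec i ρ hv0 (fun h => pullFn h (Red.gmFn χ))
      fun h => by rw [hv k h, chiVal_eq]
    obtain ⟨g, hg1, hg⟩ := exists_inverse_weight i hobs _ f (fun h => hf1 (by rw [h, map_zero])) hf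
    refine exists_vec_of_fn i χ⁻¹ (f := g) (fun h => one_ne_zero (hg1.symm.trans (by rw [h, map_zero]))) fun x h => ?_
    linear_combination (-pullFn (x * (h ≫ i)) g) * hinvval χ h + pullFn h (Red.gmFn χ⁻¹) * hg x h
  · intro hinv
    refine observable_of_inverse k G H i fun χ hχ hf => ?_
    obtain ⟨f, hf0, hf⟩ := hf
    obtain ⟨V, _, _, _, ρ, v, hv0, hv⟩ := hinv χ hχ (exists_vec_of_fn i χ hf0 hf)
    obtain ⟨g, hg1, hg⟩ := exists_fn_of_vec i ρ hv0 (fun h => pullFn h (Red.gmFn χ⁻¹))
      fun h => by rw [hv k h, chiVal_eq]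
    refine ⟨g, hg1, fun x h => ?_⟩
    rw [hg]
    linear_combination pullFn x g * hinvval χ h

end Groth.Agent.S11220
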