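import Groth.Statements.S11190
import Groth.Agent.GModLib.Equivariant
import Groth.Agent.S11220

set_option autoImplicit false
universe u
open CategoryTheory MonoidalCategory CartesianMonoidalCategory MonObj GrpObj AlgebraicGeometry
open scoped TensorProduct
open AGF

namespace Groth.Agent.S11190

open GrpSchLib GrpSchLib.Kunneth GModLib

set_option backward.isDefEq.respectTransparency false
set_option backward.isDefEq.respectTransparency.types false

variable {k : Type u} [Field k]

theorem repr_Wmap {n : ℕ} {B B' : Type u} [CommRing B] [Algebra k B] [CommRing B'] [Algebra k B'] (e : B →ₐ[k] B')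
    (x : B ⊗[k] (Fin n → k)) (a : Fin n) :
    e ((stdB k n B).repr x a) = (stdB k n B').repr (VecGrp.Wmap e x) a := by
  induction x using TensorProduct.induction_on with
  | zero => simp
  | tmul r y => simp [Algebra.TensorProduct.basis_repr_tmul]
  | add x y hx hy => simp only [map_add, Finsupp.add_apply, hx, hy]

theorem baseChange_Wmap {V W : Type u} [AddCommGroup V] [Module k V] [AddCommGroup W] [Module k W] (φ : V →ₗ[k] W)
    {B B' : Type u} [CommRing B] [Algebra k B] [CommRing B'] [Algebra k B'] (e : B →ₐ[k] B') (x : B ⊗[k] V) :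
    VecGrp.Wmap e (φ.baseChange B x) = φ.baseChange B' (VecGrp.Wmap e x) := by
  induction x using TensorProduct.induction_on with
  | zero => simp
  | tmul r y => simp
  | add x y hx hy => simp only [map_add, hx, hy]

/-- A unit multiplicative function acts on a line. -/
theorem exists_line {H : Over (Spec (CommRingCat.of k))} [GrpObj H] (χ : H ⟶ Red.Gm (Spec (CommRingCat.of k)))
    [IsMonHom χ] :
    ∃ σ : VecGrp.GMod H (Fin 1 → k), ∀ (h : VecGrp.pt k k ⟶ H) (v : Fin 1 → k),
      σ.ρ k h ((1 : k) ⊗ₜ[k] v) = pullFn h (Red.gmFn χ⁻¹) • ((1 : k) ⊗ₜ[k] v) := by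
  let M : Matrix (Fin 1) (Fin 1) (Fn H) := Matrix.of fun _ _ => Red.gmFn χ⁻¹
  have hinv : Red.gmFn χ⁻¹ * Red.gmFn χ = 1 := GmPts.gmFn_inv χ
  have hc : ∀ {T : Over (Spec (CommRingCat.of k))} (g : T ⟶ H), ev g (Red.gmFn χ) = Red.gmFn (g ≫ χ) :=
    fun g => (GmPts.gmFn_comp g χ).symm
  have huniq : ∀ {T : Over (Spec (CommRingCat.of k))} (g : T ⟶ H) (y : Fn T), y * ev g (Red.gmFn χ) = 1 →
      ev g (Red.gmFn χ⁻¹) = y := fun g y hy =>
    left_inv_eq_right_inv (by rw [← map_mul, hinv, map_one]) ((_root_.mul_comm _ _).trans hy)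
  have hM : IsRepMatrix M := ⟨fun T g h => Matrix.ext fun a b => by
      simp only [Matrix.mul_apply, Fin.sum_univ_one, Matrix.map_apply, M, Matrix.of_apply]
      refine huniq _ _ ?_
      have e : ev (g * h) (Red.gmFn χ) = ev g (Red.gmFn χ) * ev h (Red.gmFn χ) := by
        rw [hc, hc, hc, MonObj.mul_comp g h χ]
        exact GmPts.gmFn_mul _ _
      rw [e, _root_.mul_mul_mul_comm, ← map_mul, ← map_mul, hinv, map_one, map_one, _root_.mul_one],
    fun T => Matrix.ext fun a b => by
      obtain rfl := Subsingleton.elim a b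
      refine Eq.trans ?_ (Matrix.one_apply_eq a).symm
      refine huniq (1 : T ⟶ H) 1 ?_
      rw [_root_.one_mul, hc, MonObj.one_comp χ]
      exact GmPts.gmFn_one⟩
  refine ⟨hM.gmod, fun h v => ?_⟩
  rw [gmod_apply, ← TensorProduct.tmul_smul]
  congr 1
  funext a
  simp [Matrix.mulVec, dotProduct, M, Subsingleton.elim a 0]

/-- Let k be an algebraically closed field, G a linear algebraic group over k (an affine smooth group
scheme over k) and H a closed subgroup of G (a smooth closed subgroup scheme, i : H → G). Then H is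
observable in G if and only if each finite-dimensional rational H-module occurs as an H-submodule of
some rational G-module of finite dimension (it embeds, H-equivariantly along i, into one). -/
theorem result (k : Type u) [Field k] [IsAlgClosed k]
    (G : Over (Spec (CommRingCat.of k))) [GrpObj G] [IsAffine G.left] [Smooth G.hom]
    (H : Over (Spec (CommRingCat.of k))) [GrpObj H] [Smooth H.hom] (i : H ⟶ G) [IsMonHom i]
    [IsClosedImmersion i.left] :
    AGF.IsObservableIn k i ↔
      ∀ (V : Type u) [AddCommGroup V] [Module k V] [Module.Finite k V] (σ : VecGrp.GMod H V), σ.ExtendsAlong i := by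
  classical
  haveI : IsAffineHom G.hom := inferInstance
  haveI : IsReduced G.left := GrpSchLib.isReduced_of_smooth_field G.hom
  haveI : IsReduced H.left := GrpSchLib.isReduced_of_smooth_field H.hom
  constructor
  · intro hobs V _ _ _ σ
    let d := Module.finrank k V
    let bV := Module.finBasis k V
    choose Φ hΦ1 hΦ using fun p : Fin d => exists_equivariant i hobs σ (bV.coord p)
    obtain ⟨n, M, w, c, hM, hw, hc, hE⟩ := exists_matrix_family (G := G) (fun pj : Fin d × Fin d => Φ pj.1 (bV pj.2))
    obtain ⟨q, e, N, hN, hNe⟩ := S11193.exists_copies M hM d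
    let φp : Fin d → V →ₗ[k] (Fin n → k) := fun p => bV.constr k fun j => c (p, j)
    let T : (Fin n → k) →ₗ[k] Fn G := Fintype.linearCombination k w
    have hTφ : ∀ p v, T (φp p v) = Φ p v := by
      intro p v
      refine LinearMap.congr_fun (show T ∘ₗ φp p = Φ p from bV.ext fun j => ?_) v
      simp only [φp, T, LinearMap.comp_apply, Module.Basis.constr_basis, Fintype.linearCombination_apply, hc]
    have hφp : ∀ (h : VecGrp.pt k k ⟶ H) p v, (M.map (pullFn (h ≫ i))).mulVec (φp p v) = φp p (ptAct σ h v) := by
      intro h p v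
      have h0 : ∑ a, ((M.map (pullFn (h ≫ i))).mulVec (φp p v) a - φp p (ptAct σ h v) a) • w a = 0 := by
        refine eq_of_forall_point fun x => ?_
        have hb : ∀ j, pullFn (x * (h ≫ i)) (w j) = ∑ a, pullFn x (w a) * pullFn (h ≫ i) (M a j) := fun j => by
          have := congrArg (fun z => (Scheme.ΓSpecIso (CommRingCat.of k)).hom z) (hE _ x (h ≫ i) j)
          simp only [map_sum, map_mul] at this
          exact this
        have e1 := hΦ p v x h
        rw [← hTφ, ← hTφ] at e1
        simp only [T, Fintype.linearCombination_apply, map_sum, map_smul, hb, smul_eq_mul, Finset.mul_sum,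
          Matrix.mulVec, dotProduct, Matrix.map_apply, map_zero, sub_mul, Finset.sum_sub_distrib, Finset.sum_mul,
          sub_eq_zero] at e1 ⊢
        rw [Finset.sum_comm] at e1
        refine Eq.trans (Eq.trans ?_ e1) ?_
        · exact Finset.sum_congr rfl fun a _ => Finset.sum_congr rfl fun b _ => by ring
        · exact Finset.sum_congr rfl fun a _ => by ring
      exact funext fun a => sub_eq_zero.1 (Fintype.linearIndependent_iff.1 hw _ h0 a)
    let φ : V →ₗ[k] (Fin q → k) := LinearMap.pi fun r => LinearMap.proj (e.symm r).1 ∘ₗ φp (e.symm r).2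
    have hpts : ∀ (h : VecGrp.pt k k ⟶ H) v, (N.map (pullFn (h ≫ i))).mulVec (φ v) = φ (ptAct σ h v) := by
      intro h v
      funext r
      obtain ⟨⟨a, p⟩, rfl⟩ := e.surjective r
      rw [Matrix.mulVec, dotProduct, ← e.sum_comp, Fintype.sum_prod_type]
      simp only [Matrix.map_apply, hNe, φ, LinearMap.pi_apply, LinearMap.comp_apply, LinearMap.proj_apply,
        Equiv.symm_apply_apply, apply_ite (pullFn (h ≫ i)), map_zero, ite_mul, MulZeroClass.zero_mul,
        Finset.sum_ite_eq, Finset.mem_univ, if_true]
      exact congrFun (hφp h p v) a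
    refine ⟨Fin q → k, inferInstance, inferInstance, inferInstance, hN.gmod, φ, ?_, fun B _ _ h x => ?_⟩
    · rw [injective_iff_map_eq_zero]
      intro v hv
      refine bV.repr.injective (Finsupp.ext fun p => ?_)
      have h0 : φp p v = 0 := funext fun a => by
        have := congrFun hv (e (a, p))
        simpa [φ] using this
      have := hΦ1 p v
      rw [← hTφ, h0, map_zero, map_zero] at this
      rw [map_zero, Finsupp.zero_apply]
      exact this.symm
    · induction x using TensorProduct.induction_on with
      | zero => simp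
      | add x y hx hy => simp only [map_add, hx, hy]
      | tmul r v =>
        rw [show r ⊗ₜ[k] v = r • ((1 : B) ⊗ₜ[k] v) by rw [TensorProduct.smul_tmul']; simp]
        simp only [map_smul]
        congr 1
        refine (stdB k q B).repr.injective (Finsupp.ext fun a => ?_)
        exact eq_fam_of_points (H := H)
          (fun B _ _ h => (stdB k q B).repr (φ.baseChange B (σ.ρ B h ((1 : B) ⊗ₜ[k] v))) a)
          (fun B _ _ h => (stdB k q B).repr (hN.gmod.ρ B (h ≫ i) (φ.baseChange B ((1 : B) ⊗ₜ[k] v))) a)
          (fun e g => by rw [repr_Wmap, baseChange_Wmap, σ.naturality]; simp)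
          (fun e g => by rw [repr_Wmap, hN.gmod.naturality, baseChange_Wmap]; simp)
          (fun g => by
            rw [← tmul_ptAct, LinearMap.baseChange_tmul, LinearMap.baseChange_tmul, gmod_apply, hpts]) B h
  · intro hext
    refine S11220.observable_of_inverse k G H i fun χ hχ _ => ?_
    haveI := hχ
    obtain ⟨σ, hσ⟩ := exists_line χ
    obtain ⟨W, _, _, _, ρ, φ, hφ, hφρ⟩ := hext (Fin 1 → k) σ
    let e₀ : Fin 1 → k := fun _ => 1
    have hv : φ e₀ ≠ 0 := fun h => one_ne_zero (congrFun (hφ (h.trans (map_zero φ).symm)) 0)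
    obtain ⟨g, hg1, hg⟩ := exists_fn_of_vec i ρ hv (fun h => pullFn h (Red.gmFn χ⁻¹)) fun h => by
      have := hφρ k h ((1 : k) ⊗ₜ[k] e₀)
      rw [LinearMap.baseChange_tmul, hσ, map_smul, LinearMap.baseChange_tmul] at this
      exact this.symm
    refine ⟨g, hg1, fun x h => ?_⟩
    rw [hg, ← _root_.mul_assoc, _root_.mul_comm (pullFn h (Red.gmFn χ)), ← map_mul, GmPts.gmFn_inv, map_one,
      _root_.one_mul]

end Groth.Agent.S11190
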