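import Groth.Statements.S11191
import Groth.Agent.GModLib.Matrix

set_option autoImplicit false
universe u
open CategoryTheory MonoidalCategory CartesianMonoidalCategory MonObj GrpObj AlgebraicGeometry
open scoped TensorProduct
open AGF

namespace Groth.Agent.S11191

set_option backward.isDefEq.respectTransparency false
set_option backward.isDefEq.respectTransparency.types false

/-- Let k be an algebraically closed field, G a linear algebraic group over k (an affine smooth group
scheme over k) and H a closed subgroup of G (a smooth closed subgroup scheme, i : H → G), and let M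
be a rational G-module. Then every H-invariant element of M is fixed by the observable hull of H: if
a rational point g of G fixes under right translation every right-H-invariant global function on G,
then g fixes every H-invariant element of M. (The published statement is for a commutative algebra
with a rational action by automorphisms; the multiplication plays no role and the row is stated for
modules.) -/
theorem result (k : Type u) [Field k] [IsAlgClosed k]
    (G : Over (Spec (CommRingCat.of k))) [GrpObj G] [IsAffine G.left] [Smooth G.hom]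
    (H : Over (Spec (CommRingCat.of k))) [GrpObj H] [Smooth H.hom] (i : H ⟶ G) [IsMonHom i]
    [IsClosedImmersion i.left]
    (M : Type u) [AddCommGroup M] [Module k M] (ρ : VecGrp.GMod G M)
    (g : VecGrp.pt k k ⟶ G) (hg : ∀ f : Γ(G.left, ⊤), AGF.IsRTransInv i f → AGF.IsRTransInv g f)
    (a : M) (ha : a ∈ ρ.fixedUnder i) :
    ρ.ρ k g ((1 : k) ⊗ₜ[k] a) = (1 : k) ⊗ₜ[k] a := by
  classical
  have key : ∀ φ : Module.Dual k M, φ (TensorProduct.lid k M (ρ.ρ k g ((1 : k) ⊗ₜ[k] a))) = φ a := by
    intro φ
    let co : ∀ (B : Type u) [CommRing B] [Algebra k B], B ⊗[k] M →ₗ[B] B := fun B _ _ =>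
      (TensorProduct.AlgebraTensorModule.rid k B B).toLinearMap ∘ₗ φ.baseChange B
    have hco : ∀ {B B' : Type u} [CommRing B] [Algebra k B] [CommRing B'] [Algebra k B'] (e : B →ₐ[k] B')
        (x : B ⊗[k] M), e (co B x) = co B' (VecGrp.Wmap e x) := by
      intro B B' _ _ _ _ e x
      induction x using TensorProduct.induction_on with
      | zero => simp
      | tmul r y => simp [co]
      | add x y hx hy => simp only [map_add, hx, hy]
    obtain ⟨f, hf⟩ := GModLib.exists_fn (G := G) (fun B _ _ x => co B (ρ.ρ B x ((1 : B) ⊗ₜ[k] a)))
      (fun e x => by rw [hco, ρ.naturality]; simp)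
    have hinv : AGF.IsRTransInv i f := by
      show GrpSchLib.Kunneth.ev ((G ◁ i) ≫ μ[G]) f = GrpSchLib.Kunneth.ev (fst G H) f
      refine GModLib.eq_of_pullFn fun B _ _ p => ?_
      have hp : p ≫ (G ◁ i) ≫ μ[G] = (p ≫ fst G H) * ((p ≫ snd G H) ≫ i) := by
        rw [Hom.mul_def, ← Category.assoc p]
        congr 1
        ext <;> simp
      rw [GModLib.pullFn_ev, GModLib.pullFn_ev, hp, ← hf, ← hf, map_mul, LinearEquiv.mul_apply, ha B (p ≫ snd G H)]
    have hgf : GrpSchLib.Kunneth.ev ((G ◁ g) ≫ μ[G]) f = GrpSchLib.Kunneth.ev (fst G (VecGrp.pt k k)) f := hg f hinv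
    have h1 := congrArg (GrpSchLib.Kunneth.pullFn (lift (1 : VecGrp.pt k k ⟶ G) (𝟙 _))) hgf
    rw [GModLib.pullFn_ev, GModLib.pullFn_ev, lift_fst, lift_whiskerLeft_assoc, Category.id_comp, ← Hom.mul_def,
      _root_.one_mul, ← hf, ← hf, map_one] at h1
    have hc : ∀ x : k ⊗[k] M, co k x = φ (TensorProduct.lid k M x) := fun x => by
      induction x using TensorProduct.induction_on with
      | zero => simp
      | tmul r y => simp [co, _root_.mul_comm]
      | add x y hx hy => simp only [map_add, hx, hy]
    rw [hc, hc] at h1
    simpa using h1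
  apply (TensorProduct.lid k M).injective
  rw [TensorProduct.lid_tmul, one_smul, ← sub_eq_zero]
  exact (Module.forall_dual_apply_eq_zero_iff k _).mp fun φ => by rw [map_sub, key φ, sub_self]

end Groth.Agent.S11191
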