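import Groth.Statements.S11196
import Groth.Agent.GModLib.SolvableEigen

set_option autoImplicit false
universe u
open CategoryTheory MonoidalCategory CartesianMonoidalCategory MonObj GrpObj AlgebraicGeometry
open scoped TensorProduct
open AGF

namespace Groth.Agent.S11196

open GrpSchLib GrpSchLib.Kunneth GModLib

set_option backward.isDefEq.respectTransparency false
set_option backward.isDefEq.respectTransparency.types false

/-- The connected case. -/
theorem observable_of_connected (k : Type u) [Field k] [IsAlgClosed k]
    (G : Over (Spec (CommRingCat.of k))) [GrpObj G] [IsAffine G.left] [Smooth G.hom] [ConnectedSpace G.left]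
    (H : Over (Spec (CommRingCat.of k))) [GrpObj H] [Smooth H.hom] (i : H ⟶ G) [IsMonHom i]
    [IsClosedImmersion i.left] {n : ℕ} (hn : derivedSeries (VecGrp.pt k k ⟶ G) n = ⊥) :
    AGF.IsObservableIn k i := by
  refine S11220.observable_of_inverse k G H i fun χ _ hf => ?_
  obtain ⟨f, hf0, hf⟩ := hf
  exact exists_inverse_weight_solvable hn i _ hf0 hf

/-- Let k be an algebraically closed field, G a linear algebraic group over k (an affine smooth group
scheme over k) and H a closed subgroup of G (a smooth closed subgroup scheme, i : H → G), with G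
solvable. Then H is observable in G. -/
theorem result (k : Type u) [Field k] [IsAlgClosed k]
    (G : Over (Spec (CommRingCat.of k))) [GrpObj G] [IsAffine G.left] [Smooth G.hom]
    (H : Over (Spec (CommRingCat.of k))) [GrpObj H] [Smooth H.hom] (i : H ⟶ G) [IsMonHom i]
    [IsClosedImmersion i.left]
    (hs : Red.IsSolvableGrp G) :
    AGF.IsObservableIn k i := by
  obtain ⟨n, hn⟩ := hs
  obtain ⟨G₀, _, j, _, _, _, _⟩ := exists_open_identityComponent (G := G)
  obtain ⟨H₀, _, jH, _, _, _, _⟩ := exists_open_identityComponent (G := H)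
  haveI : IsAffine G₀.left := isAffine_of_isAffineHom j.left
  haveI : Smooth G₀.hom := by rw [← Over.w j]; infer_instance
  haveI : Smooth H₀.hom := by rw [← Over.w jH]; infer_instance
  -- the component of `H` maps to that of `G`
  let one : VecGrp.pt k k ⟶ G := 1
  have hrange : Set.range (jH ≫ i).left ⊆ Set.range j.left := by
    have hclopen : IsClopen (Set.range j.left) :=
      ⟨j.left.isClosedEmbedding.isClosed_range, j.left.isOpenEmbedding.isOpen_range⟩
    refine (isPreconnected_range (jH ≫ i).left.continuous).subset_isClopen hclopen ?_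
    refine ⟨(1 : VecGrp.pt k k ⟶ G).left (IsLocalRing.closedPoint k), ?_, ?_⟩
    · rw [← MonObj.one_comp (jH ≫ i)]
      exact ⟨_, rfl⟩
    · rw [← MonObj.one_comp j]
      exact ⟨_, rfl⟩
  let i₀ : H₀ ⟶ G₀ := Over.homMk (IsOpenImmersion.lift j.left (jH ≫ i).left hrange) (by
    rw [← Over.w j, ← Category.assoc, IsOpenImmersion.lift_fac, Over.w (jH ≫ i)])
  have hc : i₀ ≫ j = jH ≫ i := Over.OverMorphism.ext (IsOpenImmersion.lift_fac _ _ _)
  haveI : Mono j := (Over.forget _).mono_of_mono_map (inferInstanceAs (Mono j.left))
  haveI : IsMonHom i₀ :=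
    { one_hom := by rw [← cancel_mono j, Category.assoc, hc, IsMonHom.one_hom j, IsMonHom.one_hom (jH ≫ i)]
      mul_hom := by
        rw [← cancel_mono j, Category.assoc, hc, Category.assoc, IsMonHom.mul_hom j, IsMonHom.mul_hom (jH ≫ i),
          MonoidalCategory.tensorHom_comp_tensorHom_assoc, hc] }
  refine (observable_iff_of_square i j jH i₀ hc).mpr ?_
  haveI : IsClosedImmersion i₀.left := by
    haveI : IsClosedImmersion (i₀.left ≫ j.left) := by
      rw [show i₀.left ≫ j.left = jH.left ≫ i.left from congrArg CommaMorphism.left hc]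
      infer_instance
    exact IsClosedImmersion.of_comp i₀.left j.left
  refine observable_of_connected k G₀ H₀ i₀ (n := n) ?_
  let J : (VecGrp.pt k k ⟶ G₀) →* (VecGrp.pt k k ⟶ G) :=
    { toFun := fun z => z ≫ j
      map_one' := MonObj.one_comp j
      map_mul' := fun g h => MonObj.mul_comp g h j }
  have hJ : Function.Injective J := fun a b hab => (cancel_mono j).mp hab
  have h1 := map_derivedSeries_le_derivedSeries J n
  rw [hn] at h1
  exact (Subgroup.map_eq_bot_iff_of_injective _ hJ).mp (le_bot_iff.mp h1)

end Groth.Agent.S11196
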