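import Groth.Statements.S11199
import Groth.Agent.GrpSchLib.Kunneth

set_option autoImplicit false
universe u
open CategoryTheory MonoidalCategory CartesianMonoidalCategory MonObj GrpObj AlgebraicGeometry
open scoped TensorProduct
open AGF

namespace Groth.Agent.S11199

set_option backward.isDefEq.respectTransparency false
set_option backward.isDefEq.respectTransparency.types false

/-- Let k be an algebraically closed field, G a linear algebraic group over k (an affine smooth group
scheme over k) and H a closed subgroup of G (a smooth closed subgroup scheme, i : H → G). Then there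
are finitely many right-H-invariant global functions f₁, ..., fₙ on G which already cut out the
observable hull of H: a rational point of G whose right translation fixes each fⱼ fixes every
right-H-invariant global function. -/
theorem result (k : Type u) [Field k] [IsAlgClosed k]
    (G : Over (Spec (CommRingCat.of k))) [GrpObj G] [IsAffine G.left] [Smooth G.hom]
    (H : Over (Spec (CommRingCat.of k))) [GrpObj H] [Smooth H.hom] (i : H ⟶ G) [IsMonHom i]
    [IsClosedImmersion i.left] :
    ∃ s : Finset Γ(G.left, ⊤), (∀ f ∈ s, AGF.IsRTransInv i f) ∧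
      ∀ g : VecGrp.pt k k ⟶ G, (∀ f ∈ s, AGF.IsRTransInv g f) →
        ∀ f : Γ(G.left, ⊤), AGF.IsRTransInv i f → AGF.IsRTransInv g f := by
  classical
  haveI : IsAffineHom G.hom := inferInstance
  haveI : IsAffine (G ⊗ G).left := inferInstanceAs (IsAffine (Limits.pullback G.hom G.hom))
  haveI : LocallyOfFiniteType (G ⊗ G).hom :=
    inferInstanceAs (LocallyOfFiniteType (Limits.pullback.fst G.hom G.hom ≫ G.hom))
  haveI : IsLocallyNoetherian (G ⊗ G).left := LocallyOfFiniteType.isLocallyNoetherian (G ⊗ G).hom
  haveI : IsNoetherianRing Γ((G ⊗ G).left, ⊤) :=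
    IsLocallyNoetherian.component_noetherian ⟨⊤, isAffineOpen_top _⟩
  let δ : Γ(G.left, ⊤) → Γ((G ⊗ G).left, ⊤) := fun f => (μ[G]).left.appTop f - (fst G G).left.appTop f
  let I : Ideal Γ((G ⊗ G).left, ⊤) := Ideal.span (δ '' {f | AGF.IsRTransInv i f})
  obtain ⟨t, ht, hspan⟩ := (Submodule.fg_span_iff_fg_span_finset_subset _).mp (IsNoetherian.noetherian I)
  have hpre : ∀ y ∈ t, ∃ f, AGF.IsRTransInv i f ∧ δ f = y := fun y hy => ht hy
  choose pre hpre1 hpre2 using hpre
  refine ⟨t.attach.image fun y => pre y.1 y.2, fun f hf => ?_, fun g hg f hf => ?_⟩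
  · obtain ⟨y, -, rfl⟩ := Finset.mem_image.mp hf
    exact hpre1 _ _
  · let ψ := (G ◁ g).left.appTop.hom
    have hψ : ∀ f, ψ (δ f) = ((G ◁ g) ≫ μ[G]).left.appTop f - (fst G (VecGrp.pt k k)).left.appTop f := fun f => by
      simp only [δ, ψ, map_sub]
      congr 1
      · have e : (fst G (VecGrp.pt k k)).left = (G ◁ g).left ≫ (fst G G).left := by rw [← Over.comp_left, whiskerLeft_fst]
        rw [e, Scheme.Hom.comp_appTop]; rfl
    have hker : (Ideal.span (t : Set Γ((G ⊗ G).left, ⊤))) ≤ RingHom.ker ψ := Ideal.span_le.mpr fun y hy => by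
      show ψ y = 0
      rw [← hpre2 y hy, hψ, sub_eq_zero]
      exact hg _ (Finset.mem_image.mpr ⟨⟨y, hy⟩, Finset.mem_attach _ _, rfl⟩)
    have hmem : δ f ∈ Ideal.span (t : Set Γ((G ⊗ G).left, ⊤)) := by
      have : δ f ∈ I := Ideal.subset_span ⟨f, hf, rfl⟩
      change δ f ∈ Submodule.span _ _ at this
      rwa [hspan] at this
    have h0 : ψ (δ f) = 0 := hker hmem
    rw [hψ, sub_eq_zero] at h0
    exact h0

end Groth.Agent.S11199
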