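import Groth.Statements.S11216
import Groth.Agent.GModLib.SolvableEigen

set_option autoImplicit false
universe u
open CategoryTheory MonoidalCategory CartesianMonoidalCategory MonObj GrpObj AlgebraicGeometry
open scoped TensorProduct
open AGF

namespace Groth.Agent.S11216

open GrpSchLib GrpSchLib.Kunneth GModLib

set_option backward.isDefEq.respectTransparency false
set_option backward.isDefEq.respectTransparency.types false

section

variable {k : Type u} [Field k] [IsAlgClosed k]
  {G H : Over (Spec (CommRingCat.of k))} [GrpObj G] [IsAffine G.left] [Smooth G.hom]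

/-- A subring which is finitely generated over the constants is noetherian. -/
theorem isNoetherianRing_of_fgOver (S : Subring (Fn G)) (hS : AGF.SubringFGOver k G S)
    (hconst : ∀ c : k, algebraMap k (Fn G) c ∈ S) : IsNoetherianRing S := by
  let S' : Subalgebra k (Fn G) := { S with algebraMap_mem' := hconst }
  obtain ⟨s, hs, hle⟩ := hS
  have hfg : S' = Algebra.adjoin k (s : Set (Fn G)) := by
    refine le_antisymm (fun x hx => ?_) (Algebra.adjoin_le hs)
    have := hle hx
    rw [← Subalgebra.mem_toSubring, Algebra.adjoin_eq_ring_closure]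
    exact this
  haveI : Algebra.FiniteType k S' := (Subalgebra.fg_iff_finiteType _).mp ⟨s, hfg.symm⟩
  exact (Algebra.FiniteType.isNoetherianRing k S' : _)

set_option maxHeartbeats 1000000 in
theorem isOpen_range [GrpObj H] [Smooth H.hom] (i : H ⟶ G) (hfg : AGF.SubringFGOver k G (AGF.rTransInv i)) :
    IsOpen (Set.range (PrimeSpectrum.comap (AGF.rTransInv i).subtype)) := by
  classical
  haveI : IsAffineHom G.hom := inferInstance
  haveI : IsReduced G.left := GrpSchLib.isReduced_of_smooth_field G.hom
  haveI : LocallyOfFiniteType G.hom := inferInstance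
  haveI := finiteType_fn (k := k) (G := G)
  haveI : IsNoetherianRing (Fn G) := Algebra.FiniteType.isNoetherianRing k _
  let R := AGF.rTransInv i
  let f : R →+* Fn G := R.subtype
  have hconst : ∀ c : k, algebraMap k (Fn G) c ∈ R := fun c =>
    (isRTransInv_iff_points i _).mpr fun x h => by rw [AlgHom.commutes, AlgHom.commutes]
  haveI := isNoetherianRing_of_fgOver R hfg hconst
  letI : Algebra k R := ((algebraMap k (Fn G)).codRestrict R hconst).toAlgebra
  letI := f.toAlgebra
  haveI : IsScalarTower k R (Fn G) := IsScalarTower.of_algebraMap_eq fun r => rfl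
  haveI : Algebra.FiniteType R (Fn G) := Algebra.FiniteType.of_restrictScalars_finiteType k R _
  have hfp' : (algebraMap R (Fn G)).FinitePresentation :=
    RingHom.finitePresentation_algebraMap.mpr (Algebra.FinitePresentation.of_finiteType.mp inferInstance)
  have hfp : f.FinitePresentation := hfp'
  have hdense : DenseRange (PrimeSpectrum.comap f) := by
    rw [PrimeSpectrum.denseRange_comap_iff_ker_le_nilRadical]
    intro r hr
    rw [show r = 0 from Subtype.ext hr]
    exact Ideal.zero_mem _
  let I := interior (Set.range (PrimeSpectrum.comap f))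
  have hI : I.Nonempty := by
    rw [Set.nonempty_iff_ne_empty]
    intro he
    have hfr := interior_frontier_of_isConstructible (PrimeSpectrum.isConstructible_range_comap hfp)
    rw [frontier, hdense.closure_range, show interior _ = (∅ : Set (PrimeSpectrum R)) from he, Set.diff_empty,
      interior_univ] at hfr
    haveI : Nontrivial R := ⟨⟨0, 1, fun h => zero_ne_one (α := k) (by
      simpa using congrArg (fun r : R => pullFn (1 : VecGrp.pt k k ⟶ G) r.1) h)⟩⟩
    exact Set.univ_nonempty.ne_empty hfr
  -- translations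
  let L : (VecGrp.pt k k ⟶ G) → Fn G →ₐ[k] Fn G := fun a => ev ((toPt G ≫ a) * 𝟙 G)
  have hL : ∀ a y F, pullFn y (L a F) = pullFn (a * y) F := fun a y F => by
    simp only [L]
    rw [pullFn_ev, MonObj.comp_mul, ← Category.assoc, comp_toPt, Category.id_comp, Category.comp_id]
  have hLR : ∀ a, ∀ F ∈ R, L a F ∈ R := fun a F hF => (isRTransInv_iff_points i _).mpr fun x h => by
    rw [hL, hL, ← _root_.mul_assoc]
    exact (isRTransInv_iff_points i F).mp hF _ h
  let τ : (VecGrp.pt k k ⟶ G) → R →+* R := fun a => (L a).toRingHom.restrict R R (hLR a)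
  have hτ : ∀ a b r, τ a (τ b r) = τ (b * a) r := fun a b r => Subtype.ext (eq_of_forall_point fun y => by
    show pullFn y (L a (L b r.1)) = pullFn y (L (b * a) r.1)
    rw [hL, hL, hL, _root_.mul_assoc])
  have hτ1 : τ 1 = RingHom.id R := RingHom.ext fun r => Subtype.ext (eq_of_forall_point fun y => by
    show pullFn y (L 1 r.1) = pullFn y r.1
    rw [hL, _root_.one_mul])
  have hτI : ∀ a q, q ∈ I → PrimeSpectrum.comap (τ a) q ∈ I := by
    intro a q hq
    have hinv : ∀ v, PrimeSpectrum.comap (τ a⁻¹) (PrimeSpectrum.comap (τ a) v) = v := fun v => by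
      rw [← PrimeSpectrum.comap_comp_apply, show (τ a).comp (τ a⁻¹) = RingHom.id R from by
        rw [← hτ1]; exact RingHom.ext fun r => by rw [RingHom.comp_apply, hτ, inv_mul_cancel]]
      simp
    have hinv' : ∀ v, PrimeSpectrum.comap (τ a) (PrimeSpectrum.comap (τ a⁻¹) v) = v := fun v => by
      rw [← PrimeSpectrum.comap_comp_apply, show (τ a⁻¹).comp (τ a) = RingHom.id R from by
        rw [← hτ1]; exact RingHom.ext fun r => by rw [RingHom.comp_apply, hτ, mul_inv_cancel]]
      simp
    let W := PrimeSpectrum.comap (τ a⁻¹) ⁻¹' I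
    have hW : IsOpen W := isOpen_interior.preimage (PrimeSpectrum.continuous_comap _)
    have hWsub : W ⊆ Set.range (PrimeSpectrum.comap f) := fun v hv => by
      obtain ⟨P, hP⟩ := interior_subset (show PrimeSpectrum.comap (τ a⁻¹) v ∈ I from hv)
      refine ⟨PrimeSpectrum.comap (L a).toRingHom P, ?_⟩
      rw [← hinv' v, ← hP, ← PrimeSpectrum.comap_comp_apply, ← PrimeSpectrum.comap_comp_apply]
      rfl
    exact interior_maximal hWsub hW (show PrimeSpectrum.comap (τ a⁻¹) _ ∈ I by rw [hinv]; exact hq)
  -- every closed point goes to the interior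
  haveI : IsJacobsonRing (Fn G) := isJacobsonRing_of_finiteType (A := k) (B := Fn G)
  let Pre := PrimeSpectrum.comap f ⁻¹' I
  have hPre : IsOpen Pre := isOpen_interior.preimage (PrimeSpectrum.continuous_comap _)
  have hclosed : ∀ P : PrimeSpectrum (Fn G), IsClosed ({P} : Set (PrimeSpectrum (Fn G))) →
      ∃ z : VecGrp.pt k k ⟶ G, ∀ F, F ∈ P.asIdeal ↔ pullFn z F = 0 := by
    intro P hP
    haveI := (PrimeSpectrum.isClosed_singleton_iff_isMaximal P).mp hP
    obtain ⟨z, hz⟩ := exists_point_of_isMaximal (G := G) P.asIdeal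
    have : P.asIdeal = RingHom.ker (pullFn z) :=
      Ideal.IsMaximal.eq_of_le ‹_› (RingHom.ker_ne_top _) fun F hF => hz F hF
    exact ⟨z, fun F => by rw [this]; rfl⟩
  obtain ⟨P₀, hP₀, hP₀c⟩ : (Pre ∩ closedPoints (PrimeSpectrum (Fn G))).Nonempty := by
    refine nonempty_inter_closedPoints ?_ hPre.isLocallyClosed
    obtain ⟨q, hq⟩ := hI
    obtain ⟨P, hP⟩ := interior_subset hq
    exact ⟨P, show PrimeSpectrum.comap f P ∈ I from hP ▸ hq⟩
  have hall : Pre = Set.univ := by
    by_contra hne
    obtain ⟨P, hP, hPc⟩ := nonempty_inter_closedPoints (Z := Preᶜ)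
      (Set.nonempty_compl.mpr hne) hPre.isClosed_compl.isLocallyClosed
    obtain ⟨z, hz⟩ := hclosed P hPc
    obtain ⟨z₀, hz₀⟩ := hclosed P₀ hP₀c
    refine hP ?_
    show PrimeSpectrum.comap f P ∈ I
    rw [show PrimeSpectrum.comap f P = PrimeSpectrum.comap (τ (z * z₀⁻¹)) (PrimeSpectrum.comap f P₀) from
      PrimeSpectrum.ext (Ideal.ext fun r => by
        show r.1 ∈ P.asIdeal ↔ L (z * z₀⁻¹) r.1 ∈ P₀.asIdeal
        rw [hz, hz₀, hL, inv_mul_cancel_right])]
    exact hτI _ _ hP₀
  rw [← interior_eq_iff_isOpen]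
  refine Set.Subset.antisymm interior_subset ?_
  rintro _ ⟨P, rfl⟩
  exact (hall ▸ Set.mem_univ P : P ∈ Pre)

end

/-- (b) ⇒ (i): let k be an algebraically closed field, G a linear algebraic group over k (an affine
smooth group scheme over k) and H a closed subgroup of G (a smooth closed subgroup scheme, i : H →
G), with H observable in G and k[G]^H finitely generated over the constants; let X = Spec k[G]^H and
φ : G → X the morphism given by the inclusion k[G]^H ⊆ k[G]. Then the image of φ (the orbit of the
base point) is open in X and every point of X outside the image has codimension at least 2 (its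
prime ideal has height ≥ 2). (The published statement also asserts that G/H maps isomorphically onto
the image, and that finite generation is equivalent to an orbit-closure condition in a
representation; neither is stated here.) -/
theorem result (k : Type u) [Field k] [IsAlgClosed k]
    (G : Over (Spec (CommRingCat.of k))) [GrpObj G] [IsAffine G.left] [Smooth G.hom]
    (H : Over (Spec (CommRingCat.of k))) [GrpObj H] [Smooth H.hom] (i : H ⟶ G) [IsMonHom i]
    [IsClosedImmersion i.left]
    (hobs : AGF.IsObservableIn k i) (hfg : AGF.SubringFGOver k G (AGF.rTransInv i)) :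
    IsOpen (Set.range ⇑(G.left.toSpecΓ ≫ Spec.map (CommRingCat.ofHom (AGF.rTransInv i).subtype)).base) ∧
      ∀ x : ↥(Spec (CommRingCat.of ↥(AGF.rTransInv i))),
        x ∉ Set.range ⇑(G.left.toSpecΓ ≫ Spec.map (CommRingCat.ofHom (AGF.rTransInv i).subtype)).base →
          (2 : ℕ∞) ≤ x.asIdeal.height := by
  classical
  haveI : IsAffineHom G.hom := inferInstance
  haveI : IsReduced G.left := GrpSchLib.isReduced_of_smooth_field G.hom
  haveI : LocallyOfFiniteType G.hom := inferInstance
  haveI := finiteType_fn (k := k) (G := G)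
  haveI : IsNoetherianRing (Fn G) := Algebra.FiniteType.isNoetherianRing k _
  haveI := isNoetherianRing_of_fgOver (AGF.rTransInv i) hfg
    fun c => (isRTransInv_iff_points i _).mpr fun x h => by rw [AlgHom.commutes, AlgHom.commutes]
  let f : AGF.rTransInv i →+* Fn G := (AGF.rTransInv i).subtype
  have hrange : Set.range ⇑(G.left.toSpecΓ ≫ Spec.map (CommRingCat.ofHom (AGF.rTransInv i).subtype)).base =
      Set.range (PrimeSpectrum.comap f) := by
    rw [Scheme.Hom.comp_base, TopCat.coe_comp, Set.range_comp]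
    rw [Set.range_eq_univ.mpr G.left.toSpecΓ.surjective,
      Set.image_univ]
    rfl
  rw [hrange]
  have hopen : IsOpen (Set.range (PrimeSpectrum.comap f)) := isOpen_range i hfg
  refine ⟨hopen, fun x hx => ?_⟩
  change PrimeSpectrum (AGF.rTransInv i) at x
  by_contra hh
  let p := x.asIdeal
  have hp1 : p.height ≤ 1 := (ENat.lt_add_one_iff (by simp)).mp (lt_of_lt_of_eq (not_le.mp hh) one_add_one_eq_two.symm)
  have havoid : ∀ P : PrimeSpectrum (Fn G), ¬ p ≤ P.asIdeal.comap f := fun P hle =>
    hx (hopen.stableUnderGeneralization ((PrimeSpectrum.le_iff_specializes x (PrimeSpectrum.comap f P)).mp hle)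
      ⟨P, rfl⟩)
  -- an element outside every minimal prime of the functions
  obtain ⟨g, hgp, hgmin⟩ : ∃ g ∈ p, ∀ P ∈ minimalPrimes (Fn G), f g ∉ P := by
    by_contra hall
    push_neg at hall
    have hsub : (p : Set (AGF.rTransInv i)) ⊆ ⋃ P ∈ minimalPrimes (Fn G), (P.comap f : Set (AGF.rTransInv i)) :=
      fun g hg => by
        obtain ⟨P, hP, hgP⟩ := hall g hg
        exact Set.mem_biUnion hP hgP
    obtain ⟨P, hP, hle⟩ := (Ideal.subset_union_prime_finite (minimalPrimes.finite_of_isNoetherianRing (Fn G))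
      (f := fun P : Ideal (Fn G) => P.comap f) ⊥ ⊥
      fun P hP _ _ => haveI := hP.1.1; Ideal.IsPrime.comap f).mp hsub
    exact havoid ⟨P, hP.1.1⟩ hle
  have hgA : ∀ r : Fn G, f g * r = 0 → r = 0 := by
    intro r hr
    refine IsReduced.eq_zero r ?_
    rw [← mem_nilradical, nilradical, ← Ideal.sInf_minimalPrimes, Ideal.mem_sInf]
    intro P hP
    exact (hP.1.1.mem_or_mem (x := f g) (y := r) (by rw [hr]; exact P.zero_mem)).resolve_left (hgmin P hP)
  have hgR : g ∈ nonZeroDivisors (AGF.rTransInv i) := mem_nonZeroDivisors_iff_right.mpr fun r hr =>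
    Subtype.ext (hgA r.1 (by rw [_root_.mul_comm]; exact congrArg Subtype.val hr))
  have hpmin : p ∈ (Ideal.span {g}).minimalPrimes := by
    refine ⟨⟨x.isPrime, (Ideal.span_singleton_le_iff_mem _).mpr hgp⟩, fun q hq hqp => ?_⟩
    haveI := hq.1
    by_contra hne
    have hlt : q < p := lt_of_le_not_ge hqp hne
    have h0 : q.height < 1 := lt_of_lt_of_le (Ideal.height_strict_mono_of_isPrime_of_isPrime hlt) hp1
    have hmin : q ∈ minimalPrimes (AGF.rTransInv i) := Ideal.height_eq_zero_iff.mp (Order.lt_one_iff.mp h0)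
    exact Set.disjoint_left.mp (Ideal.disjoint_nonZeroDivisors_of_mem_minimalPrimes hmin)
      (hq.2 (Ideal.mem_span_singleton_self g)) hgR
  -- the other minimal primes over `g`
  let Q : Finset (Ideal (AGF.rTransInv i)) :=
    ((Ideal.span {g}).finite_minimalPrimes_of_isNoetherianRing _).toFinset.erase p
  let Qi : Ideal (AGF.rTransInv i) := ∏ q ∈ Q, q
  have hQ : ¬ Qi ≤ p := fun hle => by
    obtain ⟨q, hq, hqp⟩ := (Ideal.IsPrime.prod_le x.isPrime).mp hle
    obtain ⟨hne, hq⟩ := Finset.mem_erase.mp hq
    rw [Set.Finite.mem_toFinset] at hq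
    exact hne (le_antisymm hqp (hpmin.2 hq.1 hqp))
  have hrad : p * Qi ≤ (Ideal.span {g}).radical := by
    rw [← Ideal.sInf_minimalPrimes]
    refine le_sInf fun q hq => ?_
    by_cases hqp : q = p
    · exact hqp ▸ Ideal.mul_le_left
    · exact Ideal.mul_le_right.trans (Ideal.prod_le_inf.trans
        (Finset.inf_le (f := id) (Finset.mem_erase.mpr ⟨hqp, (Set.Finite.mem_toFinset _).mpr hq⟩)))
  obtain ⟨N, hN⟩ := Ideal.exists_pow_le_of_le_radical_of_fg hrad (IsNoetherian.noetherian _)
  obtain ⟨b, hb, hbp⟩ : ∃ b ∈ Qi ^ N, b ∉ p := SetLike.not_le_iff_exists.mp fun hle =>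
    hQ (x.isPrime.le_of_pow_le hle)
  have hdiv : ∀ y ∈ p ^ N, f (y * b) ∈ Ideal.span {f g} := fun y hy => by
    rw [← Set.image_singleton, ← Ideal.map_span]
    exact Ideal.mem_map_of_mem f (hN (by rw [mul_pow]; exact Ideal.mul_mem_mul hy hb))
  have htop : (p ^ N).map f = ⊤ := by
    rw [Ideal.map_pow]
    have : p.map f = ⊤ := by
      by_contra hne
      obtain ⟨P, hP, hle⟩ := Ideal.exists_le_maximal _ hne
      exact havoid ⟨P, hP.isPrime⟩ (Ideal.map_le_iff_le_comap.mp hle)
    rw [this, Ideal.top_pow]
  have hfb : f b ∈ Ideal.span {f g} := by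
    have hle : (p ^ N).map f * Ideal.span {f b} ≤ Ideal.span {f g} := by
      simp only [← Set.image_singleton (f := f), ← Ideal.map_span, ← Ideal.map_mul]
      refine Ideal.map_le_iff_le_comap.mpr (Ideal.mul_le.mpr fun y hy z hz => ?_)
      obtain ⟨w, rfl⟩ := Ideal.mem_span_singleton'.mp hz
      show f (y * (w * b)) ∈ Ideal.map f (Ideal.span {g})
      rw [Ideal.map_span, Set.image_singleton, mul_left_comm, map_mul]
      exact Ideal.mul_mem_left _ _ (hdiv y hy)
    rw [htop, Ideal.top_mul] at hle
    exact hle (Ideal.mem_span_singleton_self _)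
  obtain ⟨r, hr⟩ := Ideal.mem_span_singleton'.mp hfb
  have hrR : r ∈ AGF.rTransInv i := (isRTransInv_iff_points i r).mpr fun y h => by
    let R' : Fn G →ₐ[k] Fn G := ev (𝟙 G * (toPt G ≫ h ≫ i))
    have hR' : ∀ (y : VecGrp.pt k k ⟶ G) F, pullFn y (R' F) = pullFn (y * (h ≫ i)) F := fun y F => by
      simp only [R']
      rw [pullFn_ev, MonObj.comp_mul, ← Category.assoc, comp_toPt, Category.id_comp, Category.comp_id]
    have hfix : ∀ w : AGF.rTransInv i, R' w.1 = w.1 := fun w => eq_of_forall_point fun y => by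
      rw [hR']; exact (isRTransInv_iff_points i w.1).mp w.2 y h
    have e1 : R' r * f g = r * f g := by
      conv_lhs => rw [show f g = R' g.1 from (hfix g).symm, ← map_mul,
        show r * g.1 = b.1 from hr, hfix b]
      exact hr.symm
    have e2 : R' r = r := sub_eq_zero.mp (hgA _ (by rw [mul_sub, _root_.mul_comm (f g), e1, _root_.mul_comm r, sub_self]))
    rw [← hR', e2]
  have hbg : b = ⟨r, hrR⟩ * g := Subtype.ext hr.symm
  exact hbp (hbg ▸ p.mul_mem_left _ hgp)

end Groth.Agent.S11216
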