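import Groth.Statements.S11219
import Groth.Agent.GModLib.SolvableEigen

set_option autoImplicit false
universe u
open CategoryTheory MonoidalCategory CartesianMonoidalCategory MonObj GrpObj AlgebraicGeometry
open scoped TensorProduct
open AGF

namespace Groth.Agent.S11219

open GrpSchLib GrpSchLib.Kunneth GModLib

set_option backward.isDefEq.respectTransparency false
set_option backward.isDefEq.respectTransparency.types false

variable {k : Type u} [Field k] [IsAlgClosed k]

/-- The proportionality of two functions under translations, on points. -/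
theorem cross_iff {G H : Over (Spec (CommRingCat.of k))} [GrpObj G] [Smooth G.hom] [Smooth H.hom] (i : H ⟶ G)
    (a b : Fn G) :
    ((G ◁ i) ≫ μ[G]).left.appTop a * (fst G H).left.appTop b =
        (fst G H).left.appTop a * ((G ◁ i) ≫ μ[G]).left.appTop b ↔
      ∀ (x : VecGrp.pt k k ⟶ G) (h : VecGrp.pt k k ⟶ H),
        pullFn (x * (h ≫ i)) a * pullFn x b = pullFn x a * pullFn (x * (h ≫ i)) b := by
  haveI := isReduced_prod_pts (G := G) (H := H)
  haveI : LocallyOfFiniteType (G ⊗ H).hom :=
    inferInstanceAs (LocallyOfFiniteType (Limits.pullback.fst G.hom H.hom ≫ G.hom))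
  show ev ((G ◁ i) ≫ μ[G]) a * ev (fst G H) b = ev (fst G H) a * ev ((G ◁ i) ≫ μ[G]) b ↔ _
  have hp : ∀ p : VecGrp.pt k k ⟶ G ⊗ H, p ≫ (G ◁ i) ≫ μ[G] = (p ≫ fst G H) * ((p ≫ snd G H) ≫ i) := fun p => by
    rw [Hom.mul_def, ← Category.assoc p]
    congr 1
    apply CartesianMonoidalCategory.hom_ext <;> simp [-Over.comp_left]
  constructor
  · intro e x h
    have := congrArg (pullFn (lift x h)) e
    simpa only [map_mul, pullFn_ev, hp, lift_fst, lift_snd] using this
  · intro e
    refine eq_of_forall_point fun p => ?_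
    simp only [map_mul, pullFn_ev, hp]
    exact e _ _

variable {G H : Over (Spec (CommRingCat.of k))} [GrpObj G] [GrpObj H] [IsAffine G.left] [Smooth G.hom]
  [ConnectedSpace G.left] [Smooth H.hom] (i : H ⟶ G) [IsMonHom i] [IsClosedImmersion i.left]

set_option maxHeartbeats 1000000 in
theorem fraction_of_observable (hobs : AGF.IsObservableIn k i) (a b : Fn G) (hb : b ≠ 0)
    (hab : ∀ (x : VecGrp.pt k k ⟶ G) (h : VecGrp.pt k k ⟶ H),
      pullFn (x * (h ≫ i)) a * pullFn x b = pullFn x a * pullFn (x * (h ≫ i)) b) :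
    ∃ a' b' : Fn G, AGF.IsRTransInv i a' ∧ AGF.IsRTransInv i b' ∧ b' ≠ 0 ∧ a * b' = a' * b := by
  classical
  haveI : IsAffineHom G.hom := inferInstance
  haveI : IsReduced G.left := GrpSchLib.isReduced_of_smooth_field G.hom
  haveI := isDomain_fn (G := G)
  let R : (VecGrp.pt k k ⟶ H) → Fn G →ₐ[k] Fn G := fun h => ev (𝟙 G * (toPt G ≫ h ≫ i))
  have hR : ∀ h x F, pullFn x (R h F) = pullFn (x * (h ≫ i)) F := fun h x F => by
    simp only [R]
    rw [pullFn_ev, MonObj.comp_mul, ← Category.assoc, comp_toPt, Category.id_comp, Category.comp_id]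
  have habR : ∀ h, a * R h b = R h a * b := fun h => eq_of_forall_point fun x => by
    rw [map_mul, map_mul, hR, hR]
    exact (hab x h).symm
  -- the translates of `b`
  let W : Submodule k (Fn G) := Submodule.span k (Set.range fun h => R h b)
  haveI : Module.Finite k W := by
    obtain ⟨m, M, w, cv, -, -, hcv, hE⟩ := exists_matrix_vec (G := G) b
    haveI : Module.Finite k (Submodule.span k (Set.range w)) :=
      Module.Finite.span_of_finite k (Set.finite_range _)
    refine Submodule.finiteDimensional_of_le (S₂ := Submodule.span k (Set.range w)) (Submodule.span_le.mpr ?_)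
    rintro _ ⟨h, rfl⟩
    have e : R h b = ∑ i', (∑ j, cv j * pullFn (h ≫ i) (M i' j)) • w i' := eq_of_forall_point fun x => by
      have hb : ∀ j, pullFn (x * (h ≫ i)) (w j) = ∑ i', pullFn x (w i') * pullFn (h ≫ i) (M i' j) := fun j => by
        have := congrArg (fun z => (Scheme.ΓSpecIso (CommRingCat.of k)).hom z) (hE _ x (h ≫ i) j)
        simp only [map_sum, map_mul] at this
        exact this
      rw [hR]
      conv_lhs => rw [← hcv]
      simp only [map_sum, map_smul, hb, smul_eq_mul, Finset.mul_sum, Finset.sum_mul]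
      rw [Finset.sum_comm]
      exact Finset.sum_congr rfl fun i' _ => Finset.sum_congr rfl fun j _ => by ring
    show R h b ∈ _
    rw [e]
    exact Submodule.sum_mem _ fun i' _ => Submodule.smul_mem _ _ (Submodule.subset_span ⟨i', rfl⟩)
  have hbW : b ∈ W := Submodule.subset_span ⟨1, eq_of_forall_point fun x => by
    rw [hR, MonObj.one_comp, _root_.mul_one]⟩
  have hRW : ∀ h, ∀ F ∈ W, R h F ∈ W := by
    intro h F hF
    induction hF using Submodule.span_induction with
    | mem F hF =>
      obtain ⟨h', rfl⟩ := hF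
      refine Submodule.subset_span ⟨h * h', eq_of_forall_point fun x => ?_⟩
      rw [hR, hR, hR, MonObj.mul_comp, _root_.mul_assoc]
    | zero => rw [map_zero]; exact W.zero_mem
    | add x y _ _ hx hy => rw [map_add]; exact W.add_mem hx hy
    | smul r x _ hx => rw [map_smul]; exact W.smul_mem r hx
  have hpart : ∀ F ∈ W, ∃ q, a * F = q * b := by
    intro F hF
    induction hF using Submodule.span_induction with
    | mem F hF =>
      obtain ⟨h, rfl⟩ := hF
      exact ⟨_, habR h⟩
    | zero => exact ⟨0, by simp⟩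
    | add x y _ _ hx hy =>
      obtain ⟨p, hp⟩ := hx
      obtain ⟨q, hq⟩ := hy
      exact ⟨p + q, by rw [mul_add, hp, hq, add_mul]⟩
    | smul r x _ hx =>
      obtain ⟨p, hp⟩ := hx
      exact ⟨r • p, by rw [mul_smul_comm, hp, smul_mul_assoc]⟩
  let n := Module.finrank k W
  let bW := Module.finBasis k W
  let bs : Fin n → Fn G := fun s => (bW s : Fn G)
  choose as has using fun s => hpart (bs s) (bW s).2
  let A : (VecGrp.pt k k ⟶ H) → Matrix (Fin n) (Fin n) k := fun h =>
    Matrix.of fun t s => bW.repr ⟨R h (bs s), hRW h _ (bW s).2⟩ t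
  have hA : ∀ h s, R h (bs s) = ∑ t, A h t s • bs t := fun h s => by
    have h3 := congrArg Subtype.val (bW.sum_repr ⟨R h (bs s), hRW h _ (bW s).2⟩)
    rw [Submodule.coe_sum] at h3
    exact h3.symm
  have hAa : ∀ h s, R h (as s) = ∑ t, A h t s • as t := fun h s => by
    have hRb : R h b ≠ 0 := fun h0 => hb (eq_of_forall_point fun x => by
      have := congrArg (pullFn (x * (h ≫ i)⁻¹)) h0
      rwa [hR, inv_mul_cancel_right, map_zero, ← map_zero (pullFn x)] at this)
    refine mul_right_cancel₀ hb (mul_right_cancel₀ hRb ?_)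
    calc R h (as s) * b * R h b = R h (as s * b) * b := by rw [map_mul]; ring
      _ = (R h a * b) * R h (bs s) := by rw [← has, map_mul]; ring
      _ = a * R h (bs s) * R h b := by rw [← habR]; ring
      _ = (∑ t, A h t s • as t) * b * R h b := by
        rw [hA, Finset.mul_sum, Finset.sum_mul (s := Finset.univ) (f := fun t => A h t s • as t)]
        congr 1
        exact Finset.sum_congr rfl fun t _ => by rw [mul_smul_comm, has, smul_mul_assoc]
  -- points at which the functions are independent
  obtain ⟨zp, hz⟩ : ∃ zp : Fin n → (VecGrp.pt k k ⟶ G),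
      (Matrix.of fun l s => pullFn (zp l) (bs s)).det ≠ 0 := by
    let P : Set (Fin n → k) := Set.range fun x : VecGrp.pt k k ⟶ G => fun s => pullFn x (bs s)
    have htop : Submodule.span k P = ⊤ := by
      rw [← Subspace.dualAnnihilator_inj, Submodule.dualAnnihilator_top, eq_bot_iff]
      intro φ hφ
      rw [Submodule.mem_dualAnnihilator] at hφ
      have h0 : ∑ s, φ (Pi.single s 1) • bs s = 0 := eq_of_forall_point fun x => by
        have := hφ (fun s => pullFn x (bs s)) (Submodule.subset_span ⟨x, rfl⟩)
        rw [pi_eq_sum_univ' (fun s => pullFn x (bs s))] at this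
        simp only [map_sum, map_smul, smul_eq_mul] at this
        simp only [map_sum, map_smul, map_zero, smul_eq_mul]
        exact (Finset.sum_congr rfl fun s _ => _root_.mul_comm _ _).trans this
      rw [Submodule.mem_bot]
      refine LinearMap.ext fun v => ?_
      rw [pi_eq_sum_univ' v]
      simp only [map_sum, map_smul, LinearMap.zero_apply]
      refine Finset.sum_congr rfl fun s _ => ?_
      rw [Fintype.linearIndependent_iff.mp (bW.linearIndependent.map' W.subtype (Submodule.ker_subtype W)) _ h0 s]
    obtain ⟨fv, hfv, -, hli⟩ := Submodule.exists_fun_fin_finrank_span_eq k P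
    have hdim : Module.finrank k (Submodule.span k P) = n := by
      rw [htop, finrank_top, Module.finrank_fin_fun]
    choose zp hzp using fun l => hfv l
    refine ⟨fun l => zp (Fin.cast hdim.symm l), ?_⟩
    have hu : IsUnit (Matrix.of fun l s => pullFn (zp (Fin.cast hdim.symm l)) (bs s)) := by
      rw [← Matrix.linearIndependent_rows_iff_isUnit]
      have : (Matrix.of fun l s => pullFn (zp (Fin.cast hdim.symm l)) (bs s)).row = fv ∘ Fin.cast hdim.symm :=
        funext fun l => hzp _
      rw [this]
      exact hli.comp _ (Fin.cast_injective _)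
    exact ((Matrix.isUnit_iff_isUnit_det _).mp hu).ne_zero
  have hn : 0 < n := Module.finrank_pos_iff.mpr ⟨⟨⟨b, hbW⟩, 0, fun h => hb (congrArg Subtype.val h)⟩⟩
  let o : Fin n := ⟨0, hn⟩
  let y : Fin n → (VecGrp.pt k k ⟶ G) := fun l => zp l * (zp o)⁻¹
  let Lt : (VecGrp.pt k k ⟶ G) → Fn G →ₐ[k] Fn G := fun p => ev ((toPt G ≫ p) * 𝟙 G)
  have hLt : ∀ p x F, pullFn x (Lt p F) = pullFn (p * x) F := fun p x F => by
    simp only [Lt]
    rw [pullFn_ev, MonObj.comp_mul, ← Category.assoc, comp_toPt, Category.id_comp, Category.comp_id]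
  let MB : Matrix (Fin n) (Fin n) (Fn G) := Matrix.of fun l s => Lt (y l) (bs s)
  let MA : Matrix (Fin n) (Fin n) (Fn G) := MB.updateRow o as
  have hMBo : MB = MB.updateRow o bs := by
    refine Matrix.ext fun l s => ?_
    rw [Matrix.updateRow_apply]
    split_ifs with hl
    · subst hl
      refine eq_of_forall_point fun x => ?_
      show pullFn x (Lt (y o) (bs s)) = _
      rw [hLt, show y o = 1 from mul_inv_cancel _, _root_.one_mul]
    · rfl
  have hfrac : a * MB.det = MA.det * b := by
    rw [hMBo, ← Matrix.det_updateRow_smul, _root_.mul_comm MA.det b, ← Matrix.det_updateRow_smul]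
    congr 2
    funext s
    simp only [Pi.smul_apply, smul_eq_mul]
    rw [has, _root_.mul_comm]
  have hwB : ∀ x h, pullFn (x * (h ≫ i)) MB.det = (A h).det * pullFn x MB.det := fun x h => by
    rw [AlgHom.map_det, AlgHom.map_det, _root_.mul_comm, ← Matrix.det_mul]
    congr 1
    refine Matrix.ext fun l s => ?_
    show pullFn (x * (h ≫ i)) (Lt (y l) (bs s)) = ∑ t, pullFn x (Lt (y l) (bs t)) * A h t s
    rw [hLt, ← _root_.mul_assoc, ← hR, hA, map_sum]
    exact Finset.sum_congr rfl fun t _ => by rw [map_smul, hLt, smul_eq_mul, _root_.mul_comm]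
  have hwA : ∀ x h, pullFn (x * (h ≫ i)) MA.det = (A h).det * pullFn x MA.det := fun x h => by
    rw [AlgHom.map_det, AlgHom.map_det, _root_.mul_comm, ← Matrix.det_mul]
    congr 1
    refine Matrix.ext fun l s => ?_
    rw [Matrix.mul_apply]
    simp only [AlgHom.mapMatrix_apply, Matrix.map_apply, MA, Matrix.updateRow_apply]
    split_ifs
    · rw [← hR, hAa, map_sum]
      exact Finset.sum_congr rfl fun t _ => by rw [map_smul, smul_eq_mul, _root_.mul_comm]
    · show pullFn (x * (h ≫ i)) (Lt (y l) (bs s)) = ∑ t, pullFn x (Lt (y l) (bs t)) * A h t s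
      rw [hLt, ← _root_.mul_assoc, ← hR, hA, map_sum]
      exact Finset.sum_congr rfl fun t _ => by rw [map_smul, hLt, smul_eq_mul, _root_.mul_comm]
  have hD0 : MB.det ≠ 0 := fun h0 => hz <| by
    have := congrArg (pullFn (zp o)) h0
    rw [AlgHom.map_det, map_zero] at this
    rw [← this]
    congr 1
    refine Matrix.ext fun l s => ?_
    show pullFn (zp l) (bs s) = pullFn (zp o) (Lt (y l) (bs s))
    rw [hLt, show y l * zp o = zp l from inv_mul_cancel_right _ _]
  obtain ⟨g, hg1, hg⟩ := exists_inverse_weight i hobs (fun h => (A h).det) MB.det hD0 hwB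
  refine ⟨MA.det * g, MB.det * g, (isRTransInv_iff_points i _).mpr fun x h => ?_,
    (isRTransInv_iff_points i _).mpr fun x h => ?_, mul_ne_zero hD0 fun h0 => ?_, ?_⟩
  · rw [map_mul, map_mul, hwA, ← hg x h]; ring
  · rw [map_mul, map_mul, hwB, ← hg x h]; ring
  · rw [h0, map_zero] at hg1
    exact zero_ne_one hg1
  · rw [← _root_.mul_assoc, hfrac]; ring

theorem observable_of_fraction
    (hfr : ∀ a b : Fn G, b ≠ 0 →
      (∀ (x : VecGrp.pt k k ⟶ G) (h : VecGrp.pt k k ⟶ H),
        pullFn (x * (h ≫ i)) a * pullFn x b = pullFn x a * pullFn (x * (h ≫ i)) b) →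
      ∃ a' b' : Fn G, AGF.IsRTransInv i a' ∧ AGF.IsRTransInv i b' ∧ b' ≠ 0 ∧ a * b' = a' * b) :
    AGF.IsObservableIn k i := by
  classical
  haveI : IsAffineHom G.hom := inferInstance
  haveI : IsReduced G.left := GrpSchLib.isReduced_of_smooth_field G.hom
  haveI := isDomain_fn (G := G)
  haveI : Smooth (VecGrp.pt k k).hom := S11188.smooth_pt
  obtain ⟨n, z, α, c, h1, hc, hz⟩ := GrpSchLib.HomogeneousQuot.exists_vec_semi G H i
  have hc' : ∀ (x : VecGrp.pt k k ⟶ G) (h : VecGrp.pt k k ⟶ H) (l : Fin (n + 1)),
      pullFn (x * (h ≫ i)) (z l) = pullFn h c * pullFn x (z l) := fun x h l => by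
    simp only [pullFn_apply, hc]
    exact (map_mul _ _ _).trans (_root_.mul_comm _ _)
  obtain ⟨l₀, hl₀⟩ : ∃ l₀, z l₀ ≠ 0 := by
    by_contra hall
    push_neg at hall
    simp [hall] at h1
  choose a' b' ha' hb' hb0 hfrac using fun l => hfr (z l) (z l₀) hl₀ fun x h => by rw [hc', hc']; ring
  obtain ⟨y, hy⟩ : ∃ y : VecGrp.pt k k ⟶ G, pullFn y (z l₀ * ∏ l, b' l) ≠ 0 := by
    by_contra hall
    push_neg at hall
    exact mul_ne_zero hl₀ (Finset.prod_ne_zero_iff.mpr fun l _ => hb0 l)
      (eq_of_forall_point fun p => (hall p).trans (map_zero (pullFn p)).symm)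
  rw [map_mul, map_prod] at hy
  intro gam hgam
  have hfix : ∀ f, AGF.IsRTransInv i f → pullFn (y * gam) f = pullFn y f := fun f hf => by
    have e := (isRTransInv_iff_points gam f).mp (hgam f hf) y (𝟙 _)
    rwa [Category.id_comp] at e
  have key : ∀ l, pullFn (y * gam) (z l) * pullFn y (z l₀) = pullFn y (z l) * pullFn (y * gam) (z l₀) := fun l => by
    have e1 := congrArg (pullFn (y * gam)) (hfrac l)
    have e2 := congrArg (pullFn y) (hfrac l)
    rw [map_mul, map_mul, hfix _ (ha' l), hfix _ (hb' l)] at e1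
    rw [map_mul, map_mul] at e2
    refine mul_right_cancel₀ (Finset.prod_ne_zero_iff.mp (right_ne_zero_of_mul hy) l (Finset.mem_univ l)) ?_
    linear_combination pullFn y (z l₀) * e1 - pullFn (y * gam) (z l₀) * e2
  obtain ⟨h, hh⟩ := (hz _ y (y * gam)).mp fun x q => by
    apply (Scheme.ΓSpecIso (CommRingCat.of k)).commRingCatIsoToRingEquiv.injective
    rw [map_mul, map_mul]
    show pullFn y (z x) * pullFn (y * gam) (z q) = pullFn y (z q) * pullFn (y * gam) (z x)
    refine mul_right_cancel₀ (left_ne_zero_of_mul hy) ?_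
    linear_combination pullFn y (z x) * key q - pullFn y (z q) * key x
  exact ⟨h, by rw [← hh, inv_mul_cancel_left]⟩

/-- Let k be an algebraically closed field, G a linear algebraic group over k (an affine smooth group
scheme over k) and H a closed subgroup of G (a smooth closed subgroup scheme, i : H → G), with G
connected. Then H is observable in G if and only if every right-H-invariant rational function on G
is a quotient of two right-H-invariant global functions: whenever global functions a, b with b ≠ 0
satisfy a(xh)·b(x) = a(x)·b(xh) on G × H, there are right-H-invariant global functions a′, b′ with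
b′ ≠ 0 and a·b′ = a′·b. (The published condition concerns the identity component of G and its
intersection with H; for connected G it reads as stated.) -/
theorem result (k : Type u) [Field k] [IsAlgClosed k]
    (G : Over (Spec (CommRingCat.of k))) [GrpObj G] [IsAffine G.left] [Smooth G.hom]
    (H : Over (Spec (CommRingCat.of k))) [GrpObj H] [Smooth H.hom] (i : H ⟶ G) [IsMonHom i]
    [IsClosedImmersion i.left] [ConnectedSpace G.left] :
    AGF.IsObservableIn k i ↔
      ∀ a b : Γ(G.left, ⊤), b ≠ 0 →
        ((G ◁ i) ≫ μ[G]).left.appTop a * (fst G H).left.appTop b = (fst G H).left.appTop a * ((G ◁ i) ≫ μ[G]).left.appTop b →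
        ∃ a' b' : Γ(G.left, ⊤), AGF.IsRTransInv i a' ∧ AGF.IsRTransInv i b' ∧ b' ≠ 0 ∧ a * b' = a' * b := by
  constructor
  · intro hobs a b hb hab
    exact fraction_of_observable i hobs a b hb ((cross_iff i a b).mp hab)
  · intro hfr
    exact observable_of_fraction i fun a b hb hab => hfr a b hb ((cross_iff i a b).mpr hab)

end Groth.Agent.S11219
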