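import Groth.Statements.S11234
import Groth.Agent.GModLib.SemiInvVec
import Groth.Agent.GrpSchLib.GLnHom
import Groth.Agent.GrpSchLib.Syntomic

set_option autoImplicit false
universe u
open CategoryTheory MonoidalCategory CartesianMonoidalCategory MonObj GrpObj AlgebraicGeometry
open scoped TensorProduct
open AGF

namespace Groth.Agent.S11234

open GrpSchLib GrpSchLib.Kunneth GModLib

set_option backward.isDefEq.respectTransparency false
set_option backward.isDefEq.respectTransparency.types false

variable {k : Type u} [Field k]

theorem isAffine_GLn (n : ℕ) : IsAffine (FrB.GLn n (Spec (CommRingCat.of k))).left := by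
  haveI : IsAffine (FrB.GLZ.{u} n).left := inferInstanceAs (IsAffine (Spec _))
  haveI : IsAffineHom (FrB.GLZ.{u} n).hom := inferInstance
  haveI : IsAffineHom (FrB.GLn n (Spec (CommRingCat.of k))).hom := inferInstanceAs (IsAffineHom (Limits.pullback.snd _ _))
  exact isAffine_of_isAffineHom (FrB.GLn n (Spec (CommRingCat.of k))).hom

theorem smooth_GLn (n : ℕ) : Smooth (FrB.GLn n (Spec (CommRingCat.of k))).hom := by
  haveI : IsNoetherianRing (ULift.{u} ℤ) := isNoetherianRing_of_ringEquiv ℤ ULift.ringEquiv.symm
  haveI : Smooth (FrB.GLZ.{u} n).hom := by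
    refine (HasRingHomProperty.Spec_iff (P := @Smooth)).mpr ?_
    haveI := GrpSchLib.Syntomic.formallySmooth_GLn (ULift.{u} ℤ) n
    haveI : Algebra.FiniteType (ULift.{u} ℤ) (CoordGrp.GLn n (ULift.{u} ℤ)) :=
      @Algebra.FiniteType.of_surjective _ _ _ _ _ _ _ _
        (inferInstance : Algebra.FiniteType (ULift.{u} ℤ) (MvPolynomial (CoordGrp.GLPoly.Idx n) (ULift.{u} ℤ)))
        (CoordGrp.GLn.mk n (ULift.{u} ℤ)) Ideal.Quotient.mk_surjective
    haveI : Algebra.FinitePresentation (ULift.{u} ℤ) (CoordGrp.GLn n (ULift.{u} ℤ)) :=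
      Algebra.FinitePresentation.of_finiteType.mp inferInstance
    exact RingHom.smooth_algebraMap.mpr ⟨inferInstance, inferInstance⟩
  exact MorphismProperty.pullback_snd _ _ inferInstance

/-- Extension of a representation by a cocycle. -/
theorem isRepMatrix_block {G : Over (Spec (CommRingCat.of k))} [GrpObj G] {n : ℕ}
    {M : Matrix (Fin n) (Fin n) (Fn G)} (hM : IsRepMatrix M) (v : Matrix (Fin n) (Fin 1) (Fn G))
    (hv : ∀ (T : Over (Spec (CommRingCat.of k))) (g h : T ⟶ G),
      v.map (ev (g * h)) = M.map (ev g) * v.map (ev h) + v.map (ev g))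
    (hv1 : ∀ T : Over (Spec (CommRingCat.of k)), v.map (ev (1 : T ⟶ G)) = 0) :
    IsRepMatrix (Matrix.reindex finSumFinEquiv finSumFinEquiv (Matrix.fromBlocks M v 0 1)) := by
  refine ⟨fun T g h => ?_, fun T => ?_⟩
  · simp only [Matrix.reindex_apply, ← Matrix.submatrix_map, Matrix.submatrix_mul_equiv, Matrix.fromBlocks_map,
      Matrix.map_zero _ (map_zero _), Matrix.map_one _ (map_zero _) (map_one _), Matrix.fromBlocks_multiply]
    rw [hM.mul, hv]
    simp only [Matrix.mul_zero, Matrix.zero_mul, Matrix.mul_one, Matrix.one_mul, add_zero, zero_add]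
  · simp only [Matrix.reindex_apply, ← Matrix.submatrix_map, Matrix.fromBlocks_map,
      Matrix.map_zero _ (map_zero _), Matrix.map_one _ (map_zero _) (map_one _)]
    rw [hM.one, hv1, Matrix.fromBlocks_one, Matrix.submatrix_one_equiv]

/-- Let k be an algebraically closed field, G a linear algebraic group over k (affine, smooth) and H a
smooth closed subgroup of G. The following are equivalent: (b) every global function on G invariant
under right translation by H is a constant; (c) for every rational G-module E, the H-invariants of E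
coincide with the G-invariants; (e) two homomorphisms from G to a linear algebraic group which agree
on H are equal. (The published list also contains the statement that H is epimorphic in the sense of
its hull under the stabilizer correspondence, and the statement that complementary H-stable
subspaces of a rational G-module are G-stable; this row states the other three.) -/
theorem result (k : Type u) [Field k] [IsAlgClosed k]
    (G : Over (Spec (CommRingCat.of k))) [GrpObj G] [IsAffine G.left] [Smooth G.hom]
    (H : Over (Spec (CommRingCat.of k))) [GrpObj H] [Smooth H.hom] (i : H ⟶ G) [IsMonHom i]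
    [IsClosedImmersion i.left] :
    List.TFAE [
      ∀ f : Γ(G.left, ⊤), ((G ◁ i) ≫ μ[G]).left.appTop f = (fst G H).left.appTop f →
        ∃ c : k, f = G.hom.appTop ((Scheme.ΓSpecIso (CommRingCat.of k)).inv c),
      ∀ (E : Type u) [AddCommGroup E] [Module k E] (ρ : VecGrp.GMod G E),
        ρ.fixedUnder i = ρ.fixedUnder (𝟙 G),
      ∀ (G' : Over (Spec (CommRingCat.of k))) [GrpObj G'] [IsAffine G'.left] [Smooth G'.hom]
        (r s : G ⟶ G') [IsMonHom r] [IsMonHom s], i ≫ r = i ≫ s → r = s] := by
  classical
  haveI : IsAffineHom G.hom := inferInstance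
  haveI : IsReduced G.left := GrpSchLib.isReduced_of_smooth_field G.hom
  haveI : IsReduced H.left := GrpSchLib.isReduced_of_smooth_field H.hom
  tfae_have 1 → 2 := by
    intro h E _ _ ρ
    refine le_antisymm ?_ ?_
    · intro e he B instB instA g
      rw [Category.comp_id]
      let bE := Module.Basis.ofVectorSpace k E
      refine (Algebra.TensorProduct.basis B bE).repr.injective (Finsupp.ext fun l => ?_)
      have hco : ∀ {B B' : Type u} [CommRing B] [Algebra k B] [CommRing B'] [Algebra k B'] (φ : B →ₐ[k] B')
          (x : B ⊗[k] E), φ ((Algebra.TensorProduct.basis B bE).repr x l) =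
            (Algebra.TensorProduct.basis B' bE).repr (VecGrp.Wmap φ x) l := by
        intro B B' _ _ _ _ φ x
        induction x using TensorProduct.induction_on with
        | zero => simp
        | tmul r y => simp [Algebra.TensorProduct.basis_repr_tmul]
        | add x y hx hy => simp only [map_add, Finsupp.add_apply, hx, hy]
      obtain ⟨f, hf⟩ := exists_fn (G := G)
        (fun B _ _ g => (Algebra.TensorProduct.basis B bE).repr (ρ.ρ B g ((1 : B) ⊗ₜ[k] e)) l)
        (fun φ g => by rw [hco, ρ.naturality]; simp)
      have hinv : AGF.IsRTransInv i f := (isRTransInv_iff_points i f).mpr fun x z => by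
        rw [← hf, ← hf, map_mul, LinearEquiv.mul_apply, he k z]
      obtain ⟨c, hc⟩ := h f hinv
      have hc' : ∀ (B : Type u) [CommRing B] [Algebra k B] (g : VecGrp.pt k B ⟶ G),
          pullFn g f = algebraMap k B c := fun B _ _ g => by
        rw [hc]; exact (pullFn g).commutes c
      have e1 := hf B g
      have e2 := hf B (1 : VecGrp.pt k B ⟶ G)
      rw [hc'] at e1 e2
      rw [map_one] at e2
      exact e1.trans e2.symm
    · intro e he B instB instA h
      have := he B (h ≫ i)
      rwa [Category.comp_id] at this
  tfae_have 2 → 1 := by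
    intro hE f hf
    obtain ⟨n, M, w, c, hM, hw, hc, hmat⟩ := exists_matrix_vec (G := G) f
    have hfix : c ∈ hM.gmod.fixedUnder i := by
      intro B _ _ h
      refine (stdB k n B).repr.injective (Finsupp.ext fun a => ?_)
      refine eq_fam_of_points (H := H)
        (fun B _ _ h => (stdB k n B).repr (hM.gmod.ρ B (h ≫ i) ((1 : B) ⊗ₜ[k] c)) a)
        (fun B _ _ h => (stdB k n B).repr ((1 : B) ⊗ₜ[k] c) a) (fun φ g => ?_) (fun φ g => ?_) (fun g => ?_) B h
      · have hco : ∀ x, φ ((stdB k n _).repr x a) = (stdB k n _).repr (VecGrp.Wmap φ x) a := fun x => by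
          induction x using TensorProduct.induction_on with
          | zero => simp
          | tmul r y => simp [Algebra.TensorProduct.basis_repr_tmul]
          | add x y hx hy => simp only [map_add, Finsupp.add_apply, hx, hy]
        rw [hco, hM.gmod.naturality]
        simp
      · simp [Algebra.TensorProduct.basis_repr_tmul]
      · rw [gmod_apply, (mulVec_eq_iff hw hc hmat (g ≫ i)).mpr fun x => (isRTransInv_iff_points i f).mp hf x g]
    rw [hE _ hM.gmod] at hfix
    refine ⟨pullFn (1 : VecGrp.pt k k ⟶ G) f, eq_of_forall_point fun x => ?_⟩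
    show pullFn x f = pullFn x (algebraMap k (Fn G) _)
    rw [AlgHom.commutes]
    have h1 := hfix k x
    rw [Category.comp_id, gmod_apply] at h1
    have h2 := (mulVec_eq_iff hw hc hmat x).mp (by
      simpa using congrArg (TensorProduct.lid k (Fin n → k)) h1) 1
    rw [_root_.one_mul] at h2
    exact h2
  tfae_have 1 → 3 := by
    intro h G' _ _ _ r s _ _ hrs
    haveI : IsReduced G'.left := GrpSchLib.isReduced_of_smooth_field G'.hom
    let d : G ⟶ G' := r * s⁻¹
    have hd : ∀ x : VecGrp.pt k k ⟶ G, x ≫ d = (x ≫ r) * (x ≫ s)⁻¹ := fun x => by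
      rw [MonObj.comp_mul, GrpObj.comp_inv]
    have hd1 : d = 1 := by
      refine GrpSchLib.LineGroups.ext_ev (AlgHom.ext fun f => ?_)
      have hinv : AGF.IsRTransInv i (ev d f) := (isRTransInv_iff_points i _).mpr fun x z => by
        rw [pullFn_ev, pullFn_ev, hd, hd, MonObj.mul_comp, MonObj.mul_comp, Category.assoc, Category.assoc, hrs,
          _root_.mul_inv_rev, _root_.mul_assoc, mul_inv_cancel_left]
      obtain ⟨c, hc⟩ := h (ev d f) hinv
      refine eq_of_forall_point fun x => ?_
      have hc' : ∀ y : VecGrp.pt k k ⟶ G, pullFn y (ev d f) = c := fun y => by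
        rw [hc]; exact (pullFn y).commutes c
      rw [hc', pullFn_ev, MonObj.comp_one, ← hc' 1, pullFn_ev, hd, MonObj.one_comp, MonObj.one_comp, _root_.inv_one,
        _root_.one_mul]
    exact mul_inv_eq_one.mp hd1
  tfae_have 3 → 1 := by
    intro h f hf
    obtain ⟨n, M, w, c, hM, hw, hc, hmat⟩ := exists_matrix_vec (G := G) f
    let c' : Matrix (Fin n) (Fin 1) (Fn G) := Matrix.of fun a _ => algebraMap k (Fn G) (c a)
    let v : Matrix (Fin n) (Fin 1) (Fn G) := M * c' - c'
    have hc' : ∀ {T : Over (Spec (CommRingCat.of k))} (g : T ⟶ G),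
        c'.map (ev g) = Matrix.of fun a _ => algebraMap k (Fn T) (c a) := fun g =>
      Matrix.ext fun a _ => by simp [c']
    have hvmap : ∀ {T : Over (Spec (CommRingCat.of k))} (g : T ⟶ G),
        v.map (ev g) = M.map (ev g) * c'.map (ev g) - c'.map (ev g) := fun g => by
      rw [Matrix.map_sub _ (map_sub _), Matrix.map_mul]
    have hv : ∀ (T : Over (Spec (CommRingCat.of k))) (g h : T ⟶ G),
        v.map (ev (g * h)) = M.map (ev g) * v.map (ev h) + v.map (ev g) := fun T g h => by
      rw [hvmap, hvmap, hvmap, hc', hc', hc', hM.mul, Matrix.mul_sub, ← Matrix.mul_assoc]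
      abel
    have hv1 : ∀ T : Over (Spec (CommRingCat.of k)), v.map (ev (1 : T ⟶ G)) = 0 := fun T => by
      rw [hvmap, hM.one, Matrix.one_mul, sub_self]
    have hR := isRepMatrix_block hM 0 (fun T g h => by simp) (fun T => by simp)
    have hS := isRepMatrix_block hM v hv hv1
    haveI := hR.isMonHom_hom
    haveI := hS.isMonHom_hom
    haveI := isAffine_GLn (k := k) (n + 1)
    haveI := smooth_GLn (k := k) (n + 1)
    have hvi : v.map (ev i) = 0 := Matrix.ext fun a b => eq_of_forall_point fun z => by
      rw [hvmap, hc']
      have e := congrFun ((mulVec_eq_iff hw hc hmat (z ≫ i)).mpr fun x => (isRTransInv_iff_points i f).mp hf x z) a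
      simp only [Matrix.mulVec, dotProduct, Matrix.map_apply] at e
      simp only [Matrix.sub_apply, Matrix.mul_apply, Matrix.map_apply, Matrix.of_apply, map_sub, map_sum, map_mul,
        pullFn_ev, AlgHom.commutes, Algebra.algebraMap_self, RingHom.id_apply, Matrix.zero_apply, map_zero, e,
        sub_self]
    have e := h (FrB.GLn (n + 1) (Spec (CommRingCat.of k))) hR.hom hS.hom (by
      rw [IsRepMatrix.hom, IsRepMatrix.hom, comp_matPt, comp_matPt]
      refine matPt_congr ?_
      simp only [Matrix.reindex_apply, ← Matrix.submatrix_map, Matrix.fromBlocks_map,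
        Matrix.map_zero _ (map_zero _), hvi])
    have e2 := matPt_injective e
    have hv0 : v = 0 := by
      rw [Matrix.reindex_apply, Matrix.reindex_apply] at e2
      have := (Matrix.reindex finSumFinEquiv finSumFinEquiv).injective e2
      exact ((Matrix.fromBlocks_inj.mp this).2.1).symm
    refine ⟨pullFn (1 : VecGrp.pt k k ⟶ G) f, eq_of_forall_point fun x => ?_⟩
    show pullFn x f = pullFn x (algebraMap k (Fn G) _)
    rw [AlgHom.commutes]
    have h1 : (M.map (pullFn x)).mulVec c = c := funext fun a => by
      have := congrArg (fun A => pullFn x (A a 0)) hv0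
      simp only [v, c', Matrix.sub_apply, Matrix.mul_apply, Matrix.of_apply, Matrix.zero_apply, map_zero, map_sub,
        map_sum, map_mul, AlgHom.commutes, Algebra.algebraMap_self, RingHom.id_apply, sub_eq_zero] at this
      exact this
    have h2 := (mulVec_eq_iff hw hc hmat x).mp h1 1
    rw [_root_.one_mul] at h2
    exact h2
  tfae_finish

end Groth.Agent.S11234
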