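import Groth.Statements.S11244
import Groth.Agent.S16130
import Groth.Agent.S5341
import Groth.Agent.EqIntLib.StabFibre
import Groth.Agent.GrpSchLib.FibreDimGrp

set_option autoImplicit false
universe u
open CategoryTheory MonoidalCategory CartesianMonoidalCategory MonObj GrpObj AlgebraicGeometry
open scoped TensorProduct
open AGF

namespace Groth.Agent.S11244

open CategoryTheory.Limits

set_option backward.isDefEq.respectTransparency false
set_option backward.isDefEq.respectTransparency.types false

open EqIntLib

/-- The graph of the orbit map inside the action. -/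
theorem isPullback_orbit {C : Type*} [Category C] [CartesianMonoidalCategory C] {A B P : C} (α : A ⊗ B ⟶ B) (c : P ⟶ B) :
    IsPullback (A ◁ c)
      (lift ((A ◁ c) ≫ α) (CartesianMonoidalCategory.snd A P)) (lift α (CartesianMonoidalCategory.snd A B)) (B ◁ c) :=
  IsPullback.of_isLimit' ⟨by apply CartesianMonoidalCategory.hom_ext <;> simp⟩ (Limits.PullbackCone.IsLimit.mk _
    (fun s => lift (s.fst ≫ CartesianMonoidalCategory.fst A B) (s.snd ≫ CartesianMonoidalCategory.snd B P))
    (fun s => by
      have h := congrArg (fun z => z ≫ CartesianMonoidalCategory.snd B B) s.condition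
      simp at h
      apply CartesianMonoidalCategory.hom_ext <;> simp [h])
    (fun s => by
      have h1 := congrArg (fun z => z ≫ CartesianMonoidalCategory.fst B B) s.condition
      have h2 := congrArg (fun z => z ≫ CartesianMonoidalCategory.snd B B) s.condition
      simp at h1 h2
      have e : lift (s.fst ≫ CartesianMonoidalCategory.fst A B) (s.snd ≫ CartesianMonoidalCategory.snd B P) ≫ (A ◁ c) = s.fst := by
        apply CartesianMonoidalCategory.hom_ext <;> simp [h2]
      apply CartesianMonoidalCategory.hom_ext
      · rw [Category.assoc, lift_fst, ← Category.assoc, e, h1]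
      · simp)
    (fun s m h1 h2 => by
      apply CartesianMonoidalCategory.hom_ext
      · rw [lift_fst, ← h1]; simp
      · rw [lift_snd, ← h2]; simp))

/-- Dimensions of pullbacks along morphisms through a point. -/
theorem dim_eq_of_fac {P F Y K L : Scheme.{u}} {p : P ⟶ F} {q : P ⟶ K} {f : F ⟶ Y} {g : K ⟶ Y} (h : IsPullback p q f g)
    (φ : K ⟶ L) (j : L ⟶ Y) (hφ : φ ≫ j = g) [Subsingleton K] [Subsingleton L] [Nonempty K]
    [LocallyOfFiniteType f] : topologicalKrullDim ↥P = topologicalKrullDim ↥(Limits.pullback f j) := by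
  subst hφ
  haveI : LocallyOfFiniteType q := MorphismProperty.of_isPullback (P := @LocallyOfFiniteType) h ‹_›
  exact FibDim.topologicalKrullDim_baseChange (IsPullback.of_right' h (IsPullback.of_hasPullback f j))

theorem exists_nat_of_add_eq {a b : WithBot ℕ∞} {d : ℕ} (h : a + b = ((d : ℕ∞) : WithBot ℕ∞)) :
    ∃ m n : ℕ, a = ((m : ℕ∞) : WithBot ℕ∞) ∧ b = ((n : ℕ∞) : WithBot ℕ∞) ∧ m + n = d := by
  induction a with
  | bot => simp at h
  | coe a =>
    induction b with
    | bot => simp at h
    | coe b =>
      have h' : a + b = (d : ℕ∞) := WithBot.coe_inj.mp (by rw [WithBot.coe_add]; exact h)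
      obtain ⟨ha, hb⟩ := WithTop.add_ne_top.mp (h' ▸ ENat.coe_ne_top d)
      lift a to ℕ using ha
      lift b to ℕ using hb
      exact ⟨a, b, rfl, rfl, by exact_mod_cast h'⟩

variable {k : Type u} [Field k]

/-- An orbit and its closure have the same dimension. -/
theorem dim_closure_eq {X : Scheme.{u}} (f : X ⟶ Spec (CommRingCat.of k)) [LocallyOfFiniteType f] [QuasiCompact f]
    {R : Set X} (hne : R.Nonempty) (hR : IsLocallyClosed R) :
    topologicalKrullDim ↥(closure R) = topologicalKrullDim ↥R := by
  have hlt := GrpSchLib.OrbitDim.dim_boundary_lt f hne hR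
  have hB : IsClosed (closure R \ R) := ⟨hR.isOpen_coborder⟩
  refine le_antisymm ?_ ((Topology.IsEmbedding.inclusion subset_closure).isInducing.topologicalKrullDim_le)
  rw [VarDim.topologicalKrullDim_set_eq_iSup_deg f isClosed_closure]
  refine iSup_le fun z => ?_
  by_cases hz : z.1 ∈ R
  · have hRW : R = coborder R ∩ closure R := (coborder_inter_closure).symm
    rw [(Homeomorph.setCongr hRW).isHomeomorph.topologicalKrullDim_eq,
      FibDim.topologicalKrullDim_locClosed_eq_iSup_deg f hR.isOpen_coborder isClosed_closure]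
    exact le_iSup (fun w : ↥(coborder R ∩ closure R) => ((VarDim.deg f w.1 : ℕ∞) : WithBot ℕ∞)) ⟨z.1, hRW.le hz⟩
  · refine le_trans ?_ hlt.le
    rw [VarDim.topologicalKrullDim_set_eq_iSup_deg f hB]
    exact le_iSup (fun w : ↥(closure R \ R) => ((VarDim.deg f w.1 : ℕ∞) : WithBot ℕ∞)) ⟨z.1, z.2, hz⟩

variable {G X : Over (Spec (CommRingCat.of k))} [GrpObj G] [LocallyOfFiniteType G.hom] [LocallyOfFiniteType X.hom]
  (a : AlgGrp.Action G X)

theorem lft_stabHom : LocallyOfFiniteType (stabHom a) := by
  have : LocallyOfFiniteType ((GIT.psi a (𝟙 X)).left ≫ (X ⊗ X).hom) := by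
    rw [Over.w]
    exact inferInstanceAs (LocallyOfFiniteType (Limits.pullback.fst G.hom X.hom ≫ G.hom))
  haveI := locallyOfFiniteType_of_comp (GIT.psi a (𝟙 X)).left (X ⊗ X).hom
  infer_instance

/-- The points with small stabiliser form an open set. -/
theorem isOpen_stab_le (n : ℕ) :
    IsOpen {y : X.left | topologicalKrullDim ↥((stabHom a).fiber y) ≤ (n : WithBot ℕ∞)} := by
  haveI := lft_stabHom a
  obtain ⟨s, hs⟩ := exists_section a (𝟙 X.left)
  let e := s ≫ Limits.pullback.fst (stabHom a) (𝟙 X.left)
  have he : e ≫ stabHom a = 𝟙 X.left := by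
    rw [Category.assoc, Limits.pullback.condition, Category.comp_id, hs]
  have key : ∀ y, FlatMor.fibreDimAt (stabHom a) (e y) = topologicalKrullDim ↥((stabHom a).fiber y) := by
    intro y
    have hy : stabHom a (e y) = y := congr($he y)
    haveI : LocallyOfFiniteType (Over.mk (Limits.pullback.snd (stabHom a) (X.left.fromSpecResidueField (stabHom a (e y))))).hom :=
      inferInstanceAs (LocallyOfFiniteType (Limits.pullback.snd (stabHom a) _))
    letI := fibreGrpObj a (X.left.fromSpecResidueField (stabHom a (e y)))
    have h := (S5341.result _ (Over.mk (Limits.pullback.snd (stabHom a)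
      (X.left.fromSpecResidueField (stabHom a (e y)))))).2 ((stabHom a).asFiber (e y))
    refine Eq.trans h ?_
    show topologicalKrullDim ↥((stabHom a).fiber (stabHom a (e y))) = _
    rw [hy]
  simp only [← key]
  exact (FibDim.isOpen_fibreDimAt_le (stabHom a) n).preimage e.continuous

/-- At a rational point the fibre is the stabiliser of the point. -/
theorem dim_stab_fibre (x : 𝟙_ (Over (Spec (CommRingCat.of k))) ⟶ X) :
    topologicalKrullDim ↥((stabHom a).fiber (x.left (IsLocalRing.closedPoint k))) =
      topologicalKrullDim ↥(Limits.pullback (a.orbitMap x).left x.left) := by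
  haveI := lft_stabHom a
  set y := x.left (IsLocalRing.closedPoint k)
  haveI : Subsingleton ↥(Spec (CommRingCat.of k)) := FibDim.subsingleton_spec_field k
  haveI : Subsingleton ↥(𝟙_ (Over (Spec (CommRingCat.of k)))).left := FibDim.subsingleton_spec_field k
  haveI : Nonempty ↥(𝟙_ (Over (Spec (CommRingCat.of k)))).left := ⟨IsLocalRing.closedPoint k⟩
  haveI : Subsingleton ↥(Spec (X.left.residueField y)) := FibDim.subsingleton_spec_field (X.left.residueField y)
  -- the fibre of the stabiliser is the fibre of the orbit map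
  let o := 𝟙_ (Over (Spec (CommRingCat.of k)))
  have hP := IsPullback.of_hasPullback (a.orbitMap x).left x.left
  have hsq := (isPullback_orbit (A := G) (B := X) (P := o) a.act x).map (Over.forget _)
  have hu := (show IsPullback (lift (𝟙 G) (toUnit G)) (a.orbitMap x) (lift ((G ◁ x) ≫ a.act) (CartesianMonoidalCategory.snd G o))
      (lift (𝟙 X) (toUnit X)) from by
        haveI : IsIso (lift (𝟙 G) (toUnit G) : G ⟶ G ⊗ o) := ⟨CartesianMonoidalCategory.fst G o, by simp, by
          apply CartesianMonoidalCategory.hom_ext
          · simp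
          · exact toUnit_unique _ _⟩
        haveI : IsIso (lift (𝟙 X) (toUnit X) : X ⟶ X ⊗ o) := ⟨CartesianMonoidalCategory.fst X o, by simp, by
          apply CartesianMonoidalCategory.hom_ext
          · simp
          · exact toUnit_unique _ _⟩
        refine IsPullback.of_horiz_isIso ⟨?_⟩
        apply CartesianMonoidalCategory.hom_ext
        · simp [AlgGrp.Action.orbitMap, ← Category.assoc, lift_whiskerLeft]
        · exact toUnit_unique _ _) |>.map (Over.forget _)
  have hcomp : lift (𝟙 X) (toUnit X) ≫ (X ◁ x) = lift (𝟙 X) (toUnit X ≫ x) := by simp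
  have hbig := (hP.paste_horiz (hu.paste_horiz hsq))
  have hxd : x.left ≫ (lift (𝟙 X) (toUnit X)).left ≫ (X ◁ x).left = x.left ≫ (lift (𝟙 X) (𝟙 X)).left := by
    rw [← Over.comp_left, ← Over.comp_left, ← Over.comp_left, hcomp, comp_lift, comp_lift, Category.comp_id,
      ← Category.assoc, show x ≫ toUnit X = 𝟙 o from toUnit_unique _ _, Category.id_comp]
  simp only [Over.forget_map] at hbig
  rw [hxd] at hbig
  have hpsi : GIT.psi a (𝟙 X) = lift a.act (CartesianMonoidalCategory.snd G X) := by simp [GIT.psi]
  have hst := IsPullback.of_hasPullback (GIT.psi a (𝟙 X)).left (lift (𝟙 X) (𝟙 X)).left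
  have hF : IsPullback _ (Limits.pullback.snd (a.orbitMap x).left x.left) (stabHom a) x.left :=
    IsPullback.of_right' (hpsi ▸ hbig) hst
  -- pass to the residue field
  let m : Spec (CommRingCat.of k) ⟶ X.left := x.left
  exact (dim_eq_of_fac hF (Spec.map (X.left.descResidueField (Scheme.stalkClosedPointTo m))) _
    (Scheme.descResidueField_stalkClosedPointTo_fromSpecResidueField k X.left m)).symm

/-- Let k be an algebraically closed field, G a linear algebraic group over k (affine, smooth) acting on
an irreducible variety X over k (reduced, separated, of finite type). For a rational point x of X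
let dim G·x be the dimension of the closure of its orbit. Then for every r the set of rational
points x with dim G·x ≤ r is closed: there is a closed subset Z of X whose rational points are
exactly those x. (The second assertion, that the points of maximal orbit dimension form a dense open
subset, follows.) -/
theorem result (k : Type u) [Field k] [IsAlgClosed k]
    (G : Over (Spec (CommRingCat.of k))) [GrpObj G] [IsAffine G.left] [Smooth G.hom]
    (X : Over (Spec (CommRingCat.of k))) [IrreducibleSpace ↥X.left] [IsReduced X.left]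
    [IsSeparated X.hom] [LocallyOfFiniteType X.hom] [QuasiCompact X.hom]
    (a : AlgGrp.Action G X) (r : ℕ) :
    ∃ Z : Set ↥X.left, IsClosed Z ∧
      ∀ x : 𝟙_ (Over (Spec (CommRingCat.of k))) ⟶ X,
        topologicalKrullDim ↥(closure (Set.range ⇑(a.orbitMap x).left.base)) ≤ (r : WithBot ℕ∞) ↔
          Set.range ⇑x.left.base ⊆ Z := by
  classical
  haveI : LocallyOfFiniteType G.hom := inferInstance
  haveI : CompactSpace G.left := (quasiCompact_iff_compactSpace G.hom).mp inferInstance
  haveI : Nonempty G.left := ⟨(η[G] : 𝟙_ _ ⟶ G).left (IsLocalRing.closedPoint k)⟩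
  obtain ⟨η₀, -, -, hd⟩ := VarDim.exists_deg_eq_topologicalKrullDim (p := G.hom)
  set d := VarDim.deg G.hom η₀
  refine ⟨{y | r < d → ¬ topologicalKrullDim ↥((stabHom a).fiber y) ≤ ((d - r - 1 : ℕ) : WithBot ℕ∞)}, ?_, fun x => ?_⟩
  · by_cases hr : r < d
    · simp only [hr, forall_const]
      exact (isOpen_stab_le a _).isClosed_compl
    · simp [hr]
  · have hsum := S16130.result k G X a x
    rw [hd] at hsum
    obtain ⟨m, n, hm, hn, hmn⟩ := exists_nat_of_add_eq hsum.symm
    have hne := GrpSchLib.OrbitDim.nonempty_orbit a x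
    have hR := GrpSchLib.OrbitDim.isLocallyClosed_orbit a x
    rw [dim_closure_eq X.hom hne hR, hm]
    haveI : Subsingleton ↥(Spec (CommRingCat.of k)) := FibDim.subsingleton_spec_field k
    have hrange : ∀ Z : Set X.left, Set.range ⇑x.left.base ⊆ Z ↔ x.left (IsLocalRing.closedPoint k) ∈ Z := fun Z =>
      ⟨fun h => h ⟨_, rfl⟩, by rintro h _ ⟨p, rfl⟩; rwa [Subsingleton.elim (α := Spec (CommRingCat.of k)) p (IsLocalRing.closedPoint k)]⟩
    rw [hrange, Set.mem_ofPred_eq, dim_stab_fibre a x, hn]
    have hc : ∀ u v : ℕ, (((u : ℕ∞) : WithBot ℕ∞) ≤ (v : WithBot ℕ∞)) ↔ u ≤ v := fun u v => by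
      rw [show (v : WithBot ℕ∞) = ((v : ℕ∞) : WithBot ℕ∞) from rfl, WithBot.coe_le_coe, Nat.cast_le]
    rw [hc, hc]
    refine ⟨fun h hr => ?_, fun h => ?_⟩
    · omega
    · by_contra hc
      have := h (by omega)
      omega

end Groth.Agent.S11244
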