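import Groth.Statements.S11283
import Groth.Agent.FormalFib6.Cplt
import Groth.Agent.FComplLib.NilRing
import Mathlib.RingTheory.AdicCompletion.LocalRing
import Mathlib.RingTheory.SimpleModule.Basic
-- import your own Groth.Agent.* helpers here

set_option autoImplicit false
universe u
open Deform

namespace Groth.Agent.S11283

open IsLocalRing

section
variable {A R : Type u} [CommRing A] [CommRing R] [Algebra A R] [IsLocalRing R] [IsNoetherianRing R]

local notation "R̂" => AdicCompletion (maximalIdeal R) R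

theorem mem_map_pow_iff (n : ℕ) (x : R̂) :
    x ∈ (maximalIdeal R ^ n).map (algebraMap R R̂) ↔ AdicCompletion.evalₐ (maximalIdeal R) n x = 0 := by
  constructor
  · intro hx
    induction hx using Submodule.span_induction with
    | mem x hx =>
      obtain ⟨a, ha, rfl⟩ := hx
      rw [AdicCompletion.algebraMap_apply, Algebra.algebraMap_self, RingHom.id_apply,
        AdicCompletion.evalₐ_of, Ideal.Quotient.eq_zero_iff_mem]
      exact ha
    | zero => exact map_zero _
    | add x y _ _ hx hy => rw [map_add, hx, hy, add_zero]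
    | smul r x _ hx => rw [smul_eq_mul, map_mul, hx, mul_zero]
  · intro hx
    rw [← Submodule.restrictScalars_mem R, ← Ideal.smul_top_eq_map,
      AdicCompletion.pow_smul_top_eq_ker_eval (IsNoetherian.noetherian (maximalIdeal R)),
      LinearMap.mem_ker]
    have hIeq : maximalIdeal R ^ n • (⊤ : Submodule R R) = maximalIdeal R ^ n := by
      rw [smul_eq_mul, Ideal.mul_top]
    have : AdicCompletion.evalₐ (maximalIdeal R) n x =
        Ideal.quotientEquivAlgOfEq R hIeq (AdicCompletion.eval (maximalIdeal R) R n x) := rfl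
    rw [this] at hx
    exact (map_eq_zero_iff _ (Ideal.quotientEquivAlgOfEq R hIeq).injective).1 hx

theorem exists_approx (n : ℕ) (x : R̂) :
    ∃ r : R, x - algebraMap R R̂ r ∈ (maximalIdeal R ^ n).map (algebraMap R R̂) := by
  obtain ⟨r, hr⟩ := Ideal.Quotient.mk_surjective (AdicCompletion.evalₐ (maximalIdeal R) n x)
  refine ⟨r, (mem_map_pow_iff n _).2 ?_⟩
  rw [map_sub, sub_eq_zero, ← hr, AdicCompletion.algebraMap_apply, Algebra.algebraMap_self,
    RingHom.id_apply, AdicCompletion.evalₐ_of]

theorem mem_pow_of_algebraMap_mem (n : ℕ) (r : R)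
    (h : algebraMap R R̂ r ∈ (maximalIdeal R ^ n).map (algebraMap R R̂)) : r ∈ maximalIdeal R ^ n := by
  rw [mem_map_pow_iff, AdicCompletion.algebraMap_apply, Algebra.algebraMap_self, RingHom.id_apply,
    AdicCompletion.evalₐ_of, Ideal.Quotient.eq_zero_iff_mem] at h
  exact h

end

section
variable {A B L : Type u} [CommRing A] [CommRing B] [Algebra A B] [AddCommGroup L] [Module B L]

theorem incl_sq_zero (X : Exal.Ext A B L) (z w : L) : X.incl z * X.incl w = 0 := by
  rw [X.isExtension.mul_incl, (X.isExtension.exact _).2 ⟨z, rfl⟩, zero_smul, map_zero]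

theorem isLocalRing_ext (X : Exal.Ext A B L) [IsLocalRing B] : IsLocalRing X.E := by
  haveI : Nontrivial X.E := RingHom.domain_nontrivial X.proj.toRingHom
  haveI : IsLocalHom X.proj.toRingHom := ⟨fun x hx => by
    obtain ⟨y, hy⟩ := X.isExtension.proj_surjective (hx.unit⁻¹ : Bˣ)
    have h1 : X.proj (x * y - 1) = 0 := by
      rw [map_sub, map_mul, map_one, hy]
      exact sub_eq_zero.2 hx.mul_val_inv
    obtain ⟨z, hz⟩ := (X.isExtension.exact _).1 h1
    refine IsUnit.of_mul_eq_one (y * (1 - X.incl z)) ?_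
    rw [← mul_assoc, show x * y = 1 + X.incl z by rw [hz]; ring]
    linear_combination (-1 : X.E) * incl_sq_zero X z z⟩
  exact RingHom.domain_isLocalRing X.proj.toRingHom

theorem isNoetherianRing_ext (X : Exal.Ext A B L) [IsNoetherianRing B] (z₀ : L)
    (hz : ∀ z : L, ∃ b : B, b • z₀ = z) : IsNoetherianRing X.E := by
  have hker : RingHom.ker X.proj.toRingHom = Ideal.span {X.incl z₀} := by
    refine le_antisymm (fun x hx => ?_) ?_
    · obtain ⟨z, rfl⟩ := (X.isExtension.exact x).1 hx
      obtain ⟨b, rfl⟩ := hz z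
      obtain ⟨y, rfl⟩ := X.isExtension.proj_surjective b
      exact Ideal.mem_span_singleton'.2 ⟨y, X.isExtension.mul_incl y z₀⟩
    · rw [Ideal.span_singleton_le_iff_mem]
      exact (X.isExtension.exact _).2 ⟨z₀, rfl⟩
  haveI : IsNoetherianRing (X.E ⧸ RingHom.ker X.proj.toRingHom) :=
    isNoetherianRing_of_ringEquiv B
      (RingHom.quotientKerEquivOfSurjective (f := X.proj.toRingHom) X.isExtension.proj_surjective).symm
  refine Groth.Agent.FComplLib.isNoetherianRing_of_nilpotent (RingHom.ker X.proj.toRingHom)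
    (hker ▸ Submodule.fg_span_singleton _) (m := 2) ?_
  rw [pow_two, hker, Ideal.span_singleton_mul_span_singleton, incl_sq_zero, Ideal.span_singleton_eq_bot]

end

section
variable {A R L : Type u} [CommRing A] [CommRing R] [Algebra A R] [AddCommGroup L] [Module R L]
  [IsSimpleModule R L] [IsLocalRing R] [IsNoetherianRing R]

/-- a power of the maximal ideal of the extension misses the kernel -/
theorem exists_pow_inter {B : Type u} [CommRing B] [Algebra A B] [IsLocalRing B] [IsNoetherianRing B]
    [Algebra R B] [Module B L] [IsScalarTower R B L] (X : Exal.Ext A B L) :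
    haveI := isLocalRing_ext X
    ∃ n, ∀ z : L, X.incl z ∈ maximalIdeal X.E ^ n → z = 0 := by
  haveI := isLocalRing_ext X
  haveI : Nontrivial L := IsSimpleModule.nontrivial R L
  obtain ⟨z₀, hz₀⟩ := exists_ne (0 : L)
  have hz : ∀ z : L, ∃ b : B, b • z₀ = z := fun z => by
    obtain ⟨r, hr⟩ := IsSimpleModule.toSpanSingleton_surjective R hz₀ z
    exact ⟨algebraMap R B r, by rw [algebraMap_smul]; exact hr⟩
  haveI := isNoetherianRing_ext X z₀ hz
  obtain ⟨n, hn⟩ : ∃ n, X.incl z₀ ∉ maximalIdeal X.E ^ n := by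
    by_contra hc
    push Not at hc
    have : X.incl z₀ ∈ (⨅ n, maximalIdeal X.E ^ n) := by
      rw [Submodule.mem_iInf]; exact hc
    rw [Ideal.iInf_pow_eq_bot_of_isLocalRing _ (maximalIdeal.isMaximal X.E).ne_top] at this
    exact hz₀ (X.isExtension.incl_injective (by simpa using this))
  refine ⟨n, fun z hzn => by_contra fun hne => hn ?_⟩
  obtain ⟨r, hr⟩ := IsSimpleModule.toSpanSingleton_surjective R hne z₀
  obtain ⟨y, hy⟩ := X.isExtension.proj_surjective (algebraMap R B r)
  have : X.incl z₀ = y * X.incl z := by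
    rw [X.isExtension.mul_incl, hy, algebraMap_smul, ← hr]
    rfl
  rw [this]
  exact Ideal.mul_mem_left _ _ hzn

theorem smul_zero_of_mem {r : R} (hr : r ∈ maximalIdeal R) (z : L) : r • z = 0 := by
  by_contra hne
  have hz : z ≠ 0 := fun h => hne (by rw [h, smul_zero])
  obtain ⟨s, hs⟩ := IsSimpleModule.toSpanSingleton_surjective R hne z
  have hs' : s • (r • z) = z := hs
  have h0 : (1 - s * r) • z = 0 := by rw [sub_smul, one_smul, mul_smul, hs', sub_self]
  exact hz ((IsUnit.smul_eq_zero (isUnit_one_sub_self_of_mem_nonunits _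
    (Ideal.mul_mem_left _ s hr))).1 h0)

theorem ne_zero_of_pow_inter {B : Type u} [CommRing B] [Algebra A B] [Module B L] (X : Exal.Ext A B L)
    [IsLocalRing X.E] {n : ℕ} (hn : ∀ z : L, X.incl z ∈ maximalIdeal X.E ^ n → z = 0)
    [Nontrivial L] : 1 ≤ n := by
  by_contra h
  obtain ⟨z, hz⟩ := exists_ne (0 : L)
  exact hz (hn z (by rw [show n = 0 by omega, pow_zero, Ideal.one_eq_top]; trivial))

theorem map_maximalIdeal_pow (Y : Exal.Ext A R L) (n : ℕ) :
    haveI := isLocalRing_ext Y
    (maximalIdeal Y.E ^ n).map Y.proj.toRingHom = maximalIdeal R ^ n := by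
  haveI := isLocalRing_ext Y
  rw [Ideal.map_pow, IsLocalRing.map_maximalIdeal_of_surjective _ Y.isExtension.proj_surjective]

variable [Module (AdicCompletion (maximalIdeal R) R) L]
  [IsScalarTower R (AdicCompletion (maximalIdeal R) R) L]

local notation "R̂" => AdicCompletion (maximalIdeal R) R

/-- an extension of the completion is determined by its pullback -/
theorem equiv_of_pullback (X X' : Exal.Ext A R̂ L)
    (ψ : (X.pullback R).Equiv (X'.pullback R)) : Nonempty (X.Equiv X') := by
  haveI := FlatLoc6.isLocalRing_cpl R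
  haveI : IsLocalRing R̂ := FlatLoc6.isLocalRing_cpl R
  haveI : IsNoetherianRing R̂ := FormalFib6.isNoetherianRing_adicCompletion R _
  haveI := isLocalRing_ext X
  haveI := isLocalRing_ext X'
  obtain ⟨n₁, hn₁⟩ := exists_pow_inter (R := R) X
  obtain ⟨n₂, hn₂⟩ := exists_pow_inter (R := R) X'
  let n := max n₁ n₂
  haveI := isLocalRing_ext (X.pullback R)
  let φ : (X.pullback R).E →ₐ[A] X.E := (AlgHom.fst A X.E R).comp (X.fiberProd R).val
  let φ' : (X.pullback R).E →ₐ[A] X'.E :=
    ((AlgHom.fst A X'.E R).comp (X'.fiberProd R).val).comp ψ.toAlgEquiv.toAlgHom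
  have hφ : ∀ p, X.proj (φ p) = algebraMap R R̂ ((X.pullback R).proj p) := fun p => p.2
  have hφ' : ∀ p, X'.proj (φ' p) = algebraMap R R̂ ((X.pullback R).proj p) := fun p => by
    have h := (ψ.toAlgEquiv p).2
    change X'.proj (φ' p) = algebraMap R R̂ ((X'.pullback R).proj (ψ.toAlgEquiv p)) at h
    rw [h, ψ.proj_apply]
  have hφi : ∀ z, φ ((X.pullback R).incl z) = X.incl z := fun z => rfl
  have hφ'i : ∀ z, φ' ((X.pullback R).incl z) = X'.incl z := fun z =>
    congrArg (fun e : (X'.pullback R).E => e.1.1) (ψ.apply_incl z)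
  -- decomposition of an extension along its pullback
  have dec : ∀ (W : Exal.Ext A R̂ L) [IsLocalRing W.E] (θ : (X.pullback R).E →ₐ[A] W.E),
      (∀ p, W.proj (θ p) = algebraMap R R̂ ((X.pullback R).proj p)) →
      (∀ z, θ ((X.pullback R).incl z) = W.incl z) →
      (∀ z : L, W.incl z ∈ maximalIdeal W.E ^ n → z = 0) →
      ∃ I : Ideal W.E, (∀ x ∈ I, W.proj x = 0 → x = 0) ∧
        (∀ p, θ p ∈ I ↔ p ∈ maximalIdeal (X.pullback R).E ^ n) ∧
        (∀ x, ∃ p, x - θ p ∈ I) ∧
        (∀ b ∈ (maximalIdeal R ^ n).map (algebraMap R R̂), ∃ x ∈ I, W.proj x = b) ∧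
        (∀ x ∈ I, W.proj x ∈ (maximalIdeal R ^ n).map (algebraMap R R̂)) := by
    intro W _ θ h1 h2 h3
    let I : Ideal W.E := (maximalIdeal (X.pullback R).E ^ n).map θ.toRingHom
    have hloc : IsLocalHom θ.toRingHom := ⟨fun p hp => by
      haveI : IsLocalHom (algebraMap R R̂) := inferInstance
      have h4 : IsUnit ((X.pullback R).proj p) :=
        IsUnit.of_map (algebraMap R R̂) _ (h1 p ▸ hp.map W.proj)
      obtain ⟨q, hq⟩ := (X.pullback R).isExtension.proj_surjective ↑h4.unit⁻¹
      have h5 : (X.pullback R).proj (p * q - 1) = 0 := by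
        rw [map_sub, map_mul, map_one, hq]
        exact sub_eq_zero.2 h4.mul_val_inv
      obtain ⟨z, hz⟩ := ((X.pullback R).isExtension.exact _).1 h5
      refine IsUnit.of_mul_eq_one (q * (1 - (X.pullback R).incl z)) ?_
      rw [← mul_assoc, show p * q = 1 + (X.pullback R).incl z by rw [hz]; ring]
      linear_combination (-1 : (X.pullback R).E) * incl_sq_zero (X.pullback R) z z⟩
    have hIM : I ≤ maximalIdeal W.E ^ n := by
      rw [show I = _ from Ideal.map_pow _ _ _]
      exact Ideal.pow_right_mono (((local_hom_TFAE θ.toRingHom).out 0 2).1 hloc) n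
    have hI0 : ∀ x ∈ I, W.proj x = 0 → x = 0 := fun x hx hx0 => by
      obtain ⟨z, rfl⟩ := (W.isExtension.exact x).1 hx0
      rw [h3 z (hIM hx), map_zero]
    have hIproj : I.map W.proj.toRingHom = (maximalIdeal R ^ n).map (algebraMap R R̂) := by
      rw [Ideal.map_map, show W.proj.toRingHom.comp θ.toRingHom =
        (algebraMap R R̂).comp (X.pullback R).proj.toRingHom from RingHom.ext h1, ← Ideal.map_map,
        map_maximalIdeal_pow]
    have hsurj : ∀ b ∈ (maximalIdeal R ^ n).map (algebraMap R R̂), ∃ x ∈ I, W.proj x = b := by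
      intro b hb
      rw [← hIproj] at hb
      exact (Ideal.mem_map_iff_of_surjective W.proj.toRingHom W.isExtension.proj_surjective).1 hb
    refine ⟨I, hI0, fun p => ⟨fun hp => ?_, fun hp => Ideal.mem_map_of_mem _ hp⟩, fun x => ?_, hsurj,
      fun x hx => hIproj ▸ Ideal.mem_map_of_mem W.proj.toRingHom hx⟩
    · have hp' : (X.pullback R).proj p ∈ maximalIdeal R ^ n := by
        refine mem_pow_of_algebraMap_mem n _ ?_
        rw [← h1, ← hIproj]
        exact Ideal.mem_map_of_mem _ hp
      rw [← map_maximalIdeal_pow (X.pullback R) n] at hp'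
      obtain ⟨q, hq, hqp⟩ := (Ideal.mem_map_iff_of_surjective (X.pullback R).proj.toRingHom
        (X.pullback R).isExtension.proj_surjective).1 hp'
      have hqp' : (X.pullback R).proj q = (X.pullback R).proj p := hqp
      obtain ⟨z, hz⟩ := ((X.pullback R).isExtension.exact (p - q)).1
        (by rw [map_sub, hqp', sub_self])
      have h0 : θ (p - q) = 0 := hI0 _ (by
          rw [map_sub]; exact sub_mem hp (Ideal.mem_map_of_mem θ.toRingHom hq))
        (by rw [h1, map_sub, hqp', sub_self, map_zero])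
      rw [← hz, h2] at h0
      rw [← map_zero W.incl] at h0
      rw [W.isExtension.incl_injective h0, map_zero] at hz
      rwa [sub_eq_zero.1 hz.symm]
    · obtain ⟨r, hr⟩ := exists_approx n (W.proj x)
      obtain ⟨p, hp⟩ := (X.pullback R).isExtension.proj_surjective r
      obtain ⟨i, hi, hip⟩ := hsurj _ hr
      obtain ⟨z, hz⟩ := (W.isExtension.exact (x - θ p - i)).1
        (by rw [map_sub, map_sub, h1, hp, hip, sub_self])
      refine ⟨p + (X.pullback R).incl z, ?_⟩
      rw [map_add, h2, hz]
      ring_nf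
      exact hi
  obtain ⟨I, hI0, hIφ, hIs, -, hIimg⟩ := dec X φ hφ hφi
    (fun z hz => hn₁ z (Ideal.pow_le_pow_right (le_max_left _ _) hz))
  obtain ⟨I', hI'0, hI'φ, hI's, hI'sur, -⟩ := dec X' φ' hφ' hφ'i
    (fun z hz => hn₂ z (Ideal.pow_le_pow_right (le_max_right _ _) hz))
  have hex : ∀ x : X.E, ∃ x' : X'.E, X'.proj x' = X.proj x ∧
      ∀ p, x - φ p ∈ I → x' - φ' p ∈ I' := by
    intro x
    obtain ⟨p, hp⟩ := hIs x
    have hb := hIimg _ hp
    obtain ⟨y, hy, hy'⟩ := hI'sur _ hb
    refine ⟨φ' p + y, ?_, fun p' hp' => ?_⟩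
    · rw [map_add, hy', hφ', map_sub, hφ]
      abel
    · have h1 : φ (p' - p) ∈ I := by
        rw [map_sub, show φ p' - φ p = (x - φ p) - (x - φ p') by ring]
        exact sub_mem hp hp'
      have h2 : φ' (p' - p) ∈ I' := (hI'φ _).2 ((hIφ _).1 h1)
      rw [show φ' p + y - φ' p' = y - φ' (p' - p) by rw [map_sub]; ring]
      exact sub_mem hy h2
  choose F hFp hFI using hex
  have huniq : ∀ x (x' : X'.E), X'.proj x' = X.proj x → (∀ p, x - φ p ∈ I → x' - φ' p ∈ I') →
      x' = F x := fun x x' h1 h2 => by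
    obtain ⟨p, hp⟩ := hIs x
    refine sub_eq_zero.1 (hI'0 _ ?_ (by rw [map_sub, h1, hFp, sub_self]))
    rw [show x' - F x = (x' - φ' p) - (F x - φ' p) by ring]
    exact sub_mem (h2 p hp) (hFI x p hp)
  have hone : ∀ x p, x - φ p ∈ I → ∀ x' : X'.E, X'.proj x' = X.proj x → x' - φ' p ∈ I' →
      x' = F x := fun x p hp x' h1 h2 => huniq x x' h1 fun p' hp' => by
    have h4 : φ' (p' - p) ∈ I' := by
      refine (hI'φ _).2 ((hIφ _).1 ?_)
      rw [map_sub, show φ p' - φ p = (x - φ p) - (x - φ p') by ring]
      exact sub_mem hp hp'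
    rw [show x' - φ' p' = (x' - φ' p) - φ' (p' - p) by rw [map_sub]; ring]
    exact sub_mem h2 h4
  have hFφ : ∀ p, F (φ p) = φ' p := fun p =>
    (hone (φ p) p (by rw [sub_self]; exact zero_mem _) (φ' p) (by rw [hφ', hφ])
      (by rw [sub_self]; exact zero_mem _)).symm
  let Fh : X.E →ₐ[A] X'.E :=
    { toFun := F
      map_one' := by rw [← map_one φ, hFφ, map_one]
      map_zero' := by rw [← map_zero φ, hFφ, map_zero]
      map_add' := fun x y => by
        obtain ⟨p, hp⟩ := hIs x
        obtain ⟨q, hq⟩ := hIs y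
        refine (hone _ (p + q) ?_ _ (by rw [map_add, map_add, hFp, hFp]) ?_).symm
        · rw [map_add, show x + y - (φ p + φ q) = (x - φ p) + (y - φ q) by ring]
          exact add_mem hp hq
        · rw [map_add, show F x + F y - (φ' p + φ' q) = (F x - φ' p) + (F y - φ' q) by ring]
          exact add_mem (hFI x p hp) (hFI y q hq)
      map_mul' := fun x y => by
        obtain ⟨p, hp⟩ := hIs x
        obtain ⟨q, hq⟩ := hIs y
        refine (hone _ (p * q) ?_ _ (by rw [map_mul, map_mul, hFp, hFp]) ?_).symm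
        · rw [map_mul, show x * y - φ p * φ q = (x - φ p) * y + φ p * (y - φ q) by ring]
          exact add_mem (I.mul_mem_right _ hp) (I.mul_mem_left _ hq)
        · rw [map_mul, show F x * F y - φ' p * φ' q =
            (F x - φ' p) * F y + φ' p * (F y - φ' q) by ring]
          exact add_mem (I'.mul_mem_right _ (hFI x p hp)) (I'.mul_mem_left _ (hFI y q hq))
      commutes' := fun a => by
        show F (algebraMap A X.E a) = algebraMap A X'.E a
        rw [← φ.commutes, hFφ, φ'.commutes] }
  have hincl : ∀ z, Fh (X.incl z) = X'.incl z := fun z => by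
    show F (X.incl z) = X'.incl z
    rw [← hφi, hFφ, hφ'i]
  have hbij : Function.Bijective Fh := by
    refine ⟨(injective_iff_map_eq_zero _).2 fun x hx => ?_, fun y => ?_⟩
    · have h0 : X.proj x = 0 := by
        rw [← hFp, show F x = 0 from hx, map_zero]
      obtain ⟨z, rfl⟩ := (X.isExtension.exact x).1 h0
      rw [hincl, ← map_zero X'.incl] at hx
      rw [X'.isExtension.incl_injective hx, map_zero]
    · obtain ⟨x, hx⟩ := X.isExtension.proj_surjective (X'.proj y)
      obtain ⟨z, hz⟩ := (X'.isExtension.exact (y - Fh x)).1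
        (by rw [map_sub, show X'.proj (Fh x) = _ from hFp x, hx, sub_self])
      exact ⟨x + X.incl z, by rw [map_add, hincl, hz]; ring⟩
  exact ⟨⟨AlgEquiv.ofBijective Fh hbij, hFp, hincl⟩⟩

/-- every extension of the ring extends to the completion -/
theorem exists_extension (Y : Exal.Ext A R L) :
    ∃ X : Exal.Ext A R̂ L, Nonempty ((X.pullback R).Equiv Y) := by
  haveI := isLocalRing_ext Y
  obtain ⟨n, hn⟩ := exists_pow_inter (R := R) Y
  haveI : Nontrivial L := IsSimpleModule.nontrivial R L
  have hn1 : 1 ≤ n := ne_zero_of_pow_inter Y hn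
  have hkill : ∀ r ∈ maximalIdeal R ^ n, ∀ z : L, r • z = 0 := fun r hr z =>
    smul_zero_of_mem (Ideal.pow_le_self (by omega) hr) z
  have hkill' : ∀ b ∈ (maximalIdeal R ^ n).map (algebraMap R R̂), ∀ z : L, b • z = 0 := by
    intro b hb
    induction hb using Submodule.span_induction with
    | mem b hb =>
      obtain ⟨r, hr, rfl⟩ := hb
      intro z
      rw [algebraMap_smul, hkill r hr z]
    | zero => intro z; rw [zero_smul]
    | add b c _ _ hb hc => intro z; rw [add_smul, hb, hc, add_zero]
    | smul t b _ hb => intro z; rw [smul_eq_mul, mul_smul, hb, smul_zero]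
  let q : Y.E →ₐ[A] Y.E ⧸ (maximalIdeal Y.E ^ n) := Ideal.Quotient.mkₐ A _
  let π : Y.E ⧸ (maximalIdeal Y.E ^ n) →ₐ[A] R ⧸ maximalIdeal R ^ n :=
    Ideal.Quotient.liftₐ _ ((Ideal.Quotient.mkₐ A _).comp Y.proj) fun a ha => by
      show Ideal.Quotient.mk _ (Y.proj a) = 0
      rw [Ideal.Quotient.eq_zero_iff_mem, ← map_maximalIdeal_pow Y n]
      exact Ideal.mem_map_of_mem _ ha
  let ev : R̂ →ₐ[A] R ⧸ maximalIdeal R ^ n :=
    (AdicCompletion.evalₐ (maximalIdeal R) n).restrictScalars A
  let S : Subalgebra A ((Y.E ⧸ (maximalIdeal Y.E ^ n)) × R̂) :=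
    AlgHom.equalizer (π.comp (AlgHom.fst A _ _)) (ev.comp (AlgHom.snd A _ _))
  have hS : ∀ v, v ∈ S ↔ π v.1 = ev v.2 := fun v => Iff.rfl
  have hev : ∀ r : R, ev (algebraMap R R̂ r) = Ideal.Quotient.mk _ r := fun r => by
    show AdicCompletion.evalₐ (maximalIdeal R) n (algebraMap R R̂ r) = _
    rw [AdicCompletion.algebraMap_apply, Algebra.algebraMap_self, RingHom.id_apply,
      AdicCompletion.evalₐ_of]
  have hπ : ∀ e, π (q e) = Ideal.Quotient.mk _ (Y.proj e) := fun e => rfl
  have hinj : ∀ e, Y.proj e = 0 → q e = 0 → e = 0 := fun e h1 h2 => by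
    obtain ⟨z, rfl⟩ := (Y.isExtension.exact e).1 h1
    rw [hn z (Ideal.Quotient.eq_zero_iff_mem.1 h2), map_zero]
  have hker : ∀ v, π v = 0 → ∃ z, q (Y.incl z) = v := fun v hv => by
    obtain ⟨e, rfl⟩ := Ideal.Quotient.mk_surjective v
    have hv' : Y.proj e ∈ (maximalIdeal Y.E ^ n).map Y.proj.toRingHom := by
      rw [map_maximalIdeal_pow, ← Ideal.Quotient.eq_zero_iff_mem]
      exact hv
    obtain ⟨d, hd, hde⟩ := (Ideal.mem_map_iff_of_surjective Y.proj.toRingHom
      Y.isExtension.proj_surjective).1 hv'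
    obtain ⟨z, hz⟩ := (Y.isExtension.exact (e - d)).1
      (by rw [map_sub, show Y.proj d = Y.proj e from hde, sub_self])
    refine ⟨z, ?_⟩
    rw [hz]
    exact (Ideal.Quotient.mk_eq_mk_iff_sub_mem _ _).2 (by rw [sub_sub_cancel_left]; exact neg_mem hd)
  let X : Exal.Ext A R̂ L :=
    { E := S
      proj := (AlgHom.snd A _ _).comp S.val
      incl :=
        { toFun := fun z => ⟨(q (Y.incl z), 0), by
            rw [hS, map_zero, hπ, (Y.isExtension.exact _).2 ⟨z, rfl⟩, map_zero]⟩
          map_zero' := by apply Subtype.ext; simp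
          map_add' := fun z w => by apply Subtype.ext; apply Prod.ext <;> simp }
      isExtension :=
        { proj_surjective := fun b => by
            obtain ⟨r, hr⟩ := Ideal.Quotient.mk_surjective (ev b)
            obtain ⟨e, he⟩ := Y.isExtension.proj_surjective r
            exact ⟨⟨(q e, b), by rw [hS, hπ, he, hr]⟩, rfl⟩
          incl_injective := fun z w h => by
            have h' : q (Y.incl z) = q (Y.incl w) := congrArg (fun e : S => e.1.1) h
            apply Y.isExtension.incl_injective
            refine sub_eq_zero.1 (hinj _ ?_ (by rw [map_sub, h', sub_self]))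
            rw [map_sub, (Y.isExtension.exact _).2 ⟨z, rfl⟩, (Y.isExtension.exact _).2 ⟨w, rfl⟩,
              sub_self]
          exact := fun x => by
            constructor
            · intro hx
              have hx0 : x.1.2 = 0 := hx
              obtain ⟨z, hz⟩ := hker x.1.1 (by rw [(hS _).1 x.2, hx0, map_zero])
              exact ⟨z, Subtype.ext (Prod.ext hz hx0.symm)⟩
            · rintro ⟨z, rfl⟩
              rfl
          mul_incl := fun x z => by
            apply Subtype.ext
            apply Prod.ext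
            · show x.1.1 * q (Y.incl z) = q (Y.incl (x.1.2 • z))
              obtain ⟨e, he⟩ := Ideal.Quotient.mk_surjective x.1.1
              obtain ⟨r, hr⟩ := exists_approx n x.1.2
              have hrz : x.1.2 • z = r • z := by
                rw [← algebraMap_smul R̂ r z, ← sub_eq_zero, ← sub_smul]
                exact hkill' _ hr z
              rw [← he, show Ideal.Quotient.mk _ e = q e from rfl, ← map_mul,
                Y.isExtension.mul_incl, hrz]
              have hre : Y.proj e - r ∈ maximalIdeal R ^ n := by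
                rw [← Ideal.Quotient.mk_eq_mk_iff_sub_mem, ← hπ, ← hev]
                have := (hS _).1 x.2
                rw [← he] at this
                rw [show q e = Ideal.Quotient.mk _ e from rfl, this]
                exact sub_eq_zero.1 (by rw [← map_sub]; exact (mem_map_pow_iff n _).1 hr)
              congr 2
              rw [← sub_eq_zero, ← sub_smul]
              exact hkill _ hre z
            · show x.1.2 * 0 = 0
              exact mul_zero _ } }
  refine ⟨X, ⟨Exal.Ext.Equiv.symm ?_⟩⟩
  let Φ : Y.E →ₐ[A] (X.pullback R).E :=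
    AlgHom.codRestrict (AlgHom.prod
      (AlgHom.codRestrict (q.prod ((IsScalarTower.toAlgHom A R R̂).comp Y.proj)) S
        (fun e => by
          rw [hS]
          show π (q e) = ev (algebraMap R R̂ (Y.proj e))
          rw [hπ, hev]))
      Y.proj) (X.fiberProd R) (fun e => rfl)
  refine ⟨AlgEquiv.ofBijective Φ ⟨(injective_iff_map_eq_zero _).2 fun e he => ?_, fun w => ?_⟩,
    fun e => rfl, fun z => ?_⟩
  · exact hinj e (congrArg (fun v : (X.pullback R).E => v.1.2) he)
      (congrArg (fun v : (X.pullback R).E => v.1.1.1.1) he)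
  · obtain ⟨⟨⟨⟨v, b⟩, hvb⟩, r⟩, hw⟩ := w
    obtain ⟨e, he⟩ := Y.isExtension.proj_surjective r
    have hb : b = algebraMap R R̂ r := hw
    obtain ⟨z, hz⟩ := hker (v - q e) (by
      rw [map_sub, hπ, he, show π v = ev b from hvb, hb, hev, sub_self])
    refine ⟨e + Y.incl z, ?_⟩
    apply Subtype.ext
    refine Prod.ext (Subtype.ext (Prod.ext ?_ ?_)) ?_
    · show q (e + Y.incl z) = v
      rw [map_add, hz]
      abel
    · show algebraMap R R̂ (Y.proj (e + Y.incl z)) = b
      rw [map_add, (Y.isExtension.exact _).2 ⟨z, rfl⟩, add_zero, he, hb]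
    · show Y.proj (e + Y.incl z) = r
      rw [map_add, (Y.isExtension.exact _).2 ⟨z, rfl⟩, add_zero, he]
  · apply Subtype.ext
    refine Prod.ext (Subtype.ext (Prod.ext rfl ?_)) ?_
    · show algebraMap R R̂ (Y.proj (Y.incl z)) = 0
      rw [(Y.isExtension.exact _).2 ⟨z, rfl⟩, map_zero]
    · exact (Y.isExtension.exact _).2 ⟨z, rfl⟩

end

/-- Let k be an algebraically closed field, Λ a complete local Noetherian k-algebra with residue field
k, R a local Noetherian Λ-algebra with local structure map and residue field k, and R̂ the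
completion of R at its maximal ideal. Let L be a simple R-module (a one-dimensional k-vector space
on which R acts through its residue field) carrying a compatible R̂-module structure. Then inverse
image of Λ-extensions along R → R̂ induces a bijection o(R̂/Λ) → o(R/Λ) on classes of Λ-extensions
by L: two Λ-extensions of R̂ by L whose inverse images over R are equivalent are equivalent, and
every Λ-extension of R by L is equivalent to the inverse image of one of R̂. -/
theorem result
    {k : Type u} [Field k] [IsAlgClosed k]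
    {Λ : Type u} [CommRing Λ] [Algebra k Λ] [IsLocalRing Λ] [IsNoetherianRing Λ]
    [IsAdicComplete (IsLocalRing.maximalIdeal Λ) Λ]
    (hΛ : ∀ a : Λ, ∃ c : k, a - algebraMap k Λ c ∈ IsLocalRing.maximalIdeal Λ)
    {R : Type u} [CommRing R] [Algebra Λ R] [IsLocalRing R] [IsNoetherianRing R]
    [IsLocalHom (algebraMap Λ R)]
    (hR : ∀ r : R, ∃ c : k, r - algebraMap Λ R (algebraMap k Λ c) ∈ IsLocalRing.maximalIdeal R)
    (L : Type u) [AddCommGroup L] [Module (AdicCompletion (IsLocalRing.maximalIdeal R) R) L] [Module R L]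
    [IsScalarTower R (AdicCompletion (IsLocalRing.maximalIdeal R) R) L] [IsSimpleModule R L] :
    (∀ X X' : Exal.Ext Λ (AdicCompletion (IsLocalRing.maximalIdeal R) R) L,
        Nonempty ((X.pullback R).Equiv (X'.pullback R)) → Nonempty (X.Equiv X')) ∧
    (∀ Y : Exal.Ext Λ R L, ∃ X : Exal.Ext Λ (AdicCompletion (IsLocalRing.maximalIdeal R) R) L,
        Nonempty ((X.pullback R).Equiv Y)) := by
  exact ⟨fun X X' ⟨e⟩ => equiv_of_pullback X X' e, fun Y => exists_extension Y⟩

end Groth.Agent.S11283
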