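import Groth.Statements.S11297
import Groth.Agent.GrassX.Plucker
import Groth.Agent.GrassX.Pull

set_option autoImplicit false
universe u
open CategoryTheory CategoryTheory.Limits AlgebraicGeometry
open Grass

namespace Groth.Agent.S11297

/-- Let k be an algebraically closed field, M a k-vector space of finite dimension N and 1 ≤ n ≤ N. The
Grassmannian of rank-n locally free quotients of M ⊗ O is a projective k-scheme: its Plücker
morphism to the projective space of the n-th exterior power, of dimension C(N, n) - 1, is a closed
embedding. Stated here for any k-scheme X that represents the Grassmann functor on affine k-schemes,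
i.e. comes with bijections, compatible with base change along k-algebra maps A → B, between the
k-morphisms Spec A → X and the A-submodules of A ⊗_k M whose quotient is finite projective of
constant rank n (Mathlib's Grassmannian functor): there is a closed immersion of X over k into
projective space of dimension C(N, n) - 1 over k. (The existence of the representing scheme and its
smoothness of relative dimension n(N - n) with a cover by affine spaces are not restated here; only
projectivity is, and the closed immersion is asserted to exist rather than named as the Plücker
morphism. The published statement has the universal property on all k-schemes; this row assumes it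
on affine ones, which determines X.) -/
theorem result (k : Type u) [Field k] [IsAlgClosed k]
    (M : Type u) [AddCommGroup M] [Module k M] [FiniteDimensional k M] (N n : ℕ)
    (hN : Module.finrank k M = N) (h1 : 1 ≤ n) (hn : n ≤ N) (X : Over (Spec (CommRingCat.of k)))
    (e : ∀ A : CommAlgCat.{u} k,
      (Over.mk (Spec.map (CommRingCat.ofHom (algebraMap k A))) ⟶ X) ≃
        (Module.Grassmannian.functor (R := k) (M := M) n).obj A)
    (he : ∀ (A B : CommAlgCat.{u} k) (φ : A ⟶ B)
      (g : Over.mk (Spec.map (CommRingCat.ofHom (algebraMap k A))) ⟶ X)
      (g' : Over.mk (Spec.map (CommRingCat.ofHom (algebraMap k B))) ⟶ X),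
      g'.left = Spec.map (CommRingCat.ofHom φ.hom.toRingHom) ≫ g.left →
        e B g' = (Module.Grassmannian.functor (R := k) (M := M) n).map φ (e A g)) :
    ∃ c : X.left ⟶ CohB1.ProjSpaceOver (N.choose n - 1) (Spec (CommRingCat.of k)),
      IsClosedImmersion c ∧
        c ≫ CohB1.ProjSpaceOver.toBase (N.choose n - 1) (Spec (CommRingCat.of k)) = X.hom := by
  have hcard : N.choose n - 1 + 1 = Fintype.card (GrassX.Cols N n) := by
    rw [GrassX.card_cols]
    have := Nat.choose_pos hn
    omega
  let w : (Fin N → k) ≃ₗ[k] M :=
    (Module.finBasisOfFinrankEq k M hN).equivFun.symm
  let t : ∀ A : CommAlgCat.{u} k,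
      (Module.Grassmannian.functor (R := k) (M := M) n).obj A ≃
        (Module.Grassmannian.functor (R := k) (M := Fin N → k) n).obj A := fun A =>
    Equiv.ofBijective (GrassX.pull w.toLinearMap w.surjective)
      ⟨GrassX.pull_injective _ _, fun P => GrassX.exists_pull_eq _ w.surjective P (by
        have h : LinearMap.ker ((w.toLinearMap).baseChange A) = ⊥ := by
          rw [LinearMap.ker_eq_bot]
          exact (LinearEquiv.baseChange k A (Fin N → k) M w).injective
        rw [h]
        exact bot_le)⟩
  refine GrassX.exists_plucker ((finCongr hcard).trans (Fintype.equivFin _).symm) (e := fun A => (e A).trans (t A))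
    fun A B φ g g' hg => ?_
  show GrassX.pull w.toLinearMap w.surjective (e B g') = Module.Grassmannian.map φ.hom (GrassX.pull w.toLinearMap w.surjective (e A g))
  rw [he A B φ g g' hg]
  exact (GrassX.map_pull _ _ φ.hom _).symm

end Groth.Agent.S11297
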