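import Groth.Statements.S11316
import Groth.Agent.S10934
import Groth.Agent.S2926
import Groth.Agent.ExtShX.DualX
import Groth.Agent.VarDim.IrredFibres

set_option autoImplicit false
set_option backward.isDefEq.respectTransparency false
set_option backward.isDefEq.respectTransparency.types false
universe u
open CategoryTheory CategoryTheory.Limits AlgebraicGeometry
attribute [local instance] HasDerivedCategory.standard
open ProjDual

namespace Groth.Agent.S11316

/-- Let k be an algebraically closed field and X a closed subscheme of some P^N_k, of dimension n, which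
is Cohen–Macaulay (every local ring of X is Cohen–Macaulay) and equidimensional (every irreducible
component of X has dimension n); let (ω, t) be a dualizing sheaf for X, i.e. ω is coherent, t :
H^n(X, ω) → k is k-linear, and for every coherent F and every k-linear form ψ on H^n(X, F) there is
exactly one φ : F → ω with ψ = t ∘ H^n(φ). Then for every finite locally free O_X-module F for which
the internal Hom functor Hom_{O_X}(F, -) exists (right adjoint of F ⊗ -) and every i ≤ n, the k-dual
of H^i(X, F) is isomorphic to H^(n-i)(X, Hom_{O_X}(F, ω)). (Existence of a k-linear isomorphism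
only; the published statement writes the second module as H^(n-i)(X, F^∨ ⊗ ω) and obtains the
isomorphism from the duality maps θ^i.) -/
theorem result
    (k : Type u) [Field k] [IsAlgClosed k] (N n : ℕ) (X : Scheme.{u}) [X.Over (Spec (CommRingCat.of k))]
    (ι : X ⟶ CohB1.ProjSpace N k) [IsClosedImmersion ι] (hι : ι ≫ CohB1.ProjSpace.toSpec N k = X ↘ Spec (CommRingCat.of k))
    (hn : topologicalKrullDim ↥X = n)
    (hCM : ∀ x : X, LocCoh.IsCohenMacaulayLocalRing (X.presheaf.stalk x))
    (heq : ∀ Z : Set ↥X, Z ∈ irreducibleComponents ↥X → topologicalKrullDim ↥Z = (n : WithBot ℕ∞))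
    (ω : X.Modules) (hω : Coh.IsCoh ω) (t : Coh.HH X ω n →ₗ[k] k)
    (hdual : ∀ F : X.Modules, Coh.IsCoh F → ∀ ψ : Coh.HH X F n →ₗ[k] k,
        ∃! φ : F ⟶ ω, ∀ x : Coh.HH X F n,
          ψ x = t (Sheaf.H.map ((SheafOfModules.toSheaf X.ringCatSheaf).map φ) n x))
    (F : X.Modules) (hF : FlatMod.IsFinLocFree F) [DCoh.HasSheafHom F] (i : ℕ) (hi : i ≤ n) :
    Nonempty (Module.Dual k (Coh.HH X F i) ≃ₗ[k] Coh.HH X ((DCoh.sheafHom F).obj ω) (n - i)) := by
  classical
  haveI : IsProper (CohB1.ProjSpace.toSpec N k) := PnCoh.Chow.isProper_toSpec N k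
  haveI : IsProper (X ↘ Spec (CommRingCat.of k)) := hι ▸ inferInstance
  haveI : HasExt.{u} X.Modules := IsGrothendieckAbelian.hasExt _
  let f := X ↘ Spec (CommRingCat.of k)
  have hclosed : ∀ x : X, IsClosed ({x} : Set ↥X) →
      LocCoh.IsCohenMacaulayLocalRing (X.presheaf.stalk x) ∧ ringKrullDim (X.presheaf.stalk x) = n := fun x hx => by
    refine ⟨hCM x, ?_⟩
    obtain ⟨b, hb, ⟨η, hη, hηd⟩, hmax⟩ := VarDim.exists_deg_add_stalk f x
    have hmaxη : ∀ y, y ⤳ η → y = η := fun y hy =>
      VarDim.eq_of_specializes_of_deg_le f hy (hηd ▸ hmax y (hy.trans hη))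
    have h := heq _ (VarDim.closure_mem_irreducibleComponents hmaxη)
    rw [VarDim.topologicalKrullDim_closure_singleton f η, hηd,
      (VarDim.closedPoint_iff_deg_eq_zero f x).1 hx, zero_add] at h
    rw [hb]
    exact h
  obtain ⟨q₀, hq⟩ := (S10934.result k N n ι hn).1 hclosed _
    (KZ.QuasiProj.flf_of_invertible (InvX.isInvertible_structureModule (X := X)))
  have htop : ∀ G : X.Modules, Coh.IsCoh G → Function.Bijective (Canon.dualityMap k X n ω t G) := by
    intro G hG
    refine ⟨fun φ ψ h => ?_, fun ψ => ?_⟩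
    · obtain ⟨χ, -, hu⟩ := hdual G hG (Canon.dualityMap k X n ω t G φ)
      exact (hu φ fun x => rfl).trans (hu ψ fun x => LinearMap.congr_fun h x).symm
    · obtain ⟨φ, hφ, -⟩ := hdual G hG ψ
      exact ⟨φ, LinearMap.ext fun x => (hφ x).symm⟩
  have hfp := QCoh.isFP_of_isFinLocFree hF
  obtain ⟨e⟩ := (ExtShX.duality_of_vanishing ι hι hω n t htop q₀ (fun q hq' j hj =>
    QCoh.subsingleton_HH_of_iso ((H23.PicMul.comm _ _).some ≪≫ (H23.PicMul.unit _).some) j (hq q hq' j hj)) F
      ⟨QCoh.isQCoh_of_isFP hfp, QCoh.isFT_of_isFP hfp⟩ (n - i)).1 (Nat.sub_le n i)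
  obtain ⟨e'⟩ := PnDual.nonempty_ext_linearEquiv_HH (A := k) hF ω (n - i)
  have hi' : n - (n - i) = i := by omega
  rw [hi'] at e
  exact ⟨(e.symm ≪≫ₗ e').trans (S2926.hhIso k ((AmpleVan.sheafHomIso F).app ω).symm (n - i))⟩

end Groth.Agent.S11316
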