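import Groth.Statements.S11324
import Groth.Agent.ExtShX.Codim
import Groth.Agent.S10829
import Groth.Agent.CurveEmbed.Conic
import Groth.Agent.SmoothReg.Scheme
import Groth.Agent.HilbPoly.PnTwist
import Groth.Agent.H23.PullPush

set_option autoImplicit false
set_option backward.isDefEq.respectTransparency false
set_option backward.isDefEq.respectTransparency.types false
universe u
open CategoryTheory CategoryTheory.Limits AlgebraicGeometry
open ProjDual

namespace Groth.Agent.S11324

/-- Let k be a field, P = P^N_k, ι : X → P a closed immersion, r a natural number with dim X + r ≤ N (so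
X has codimension at least r in P), and ω_P = O_P(-N-1). Then for every i < r the Ext sheaf
Ext^i_{O_P}(ι_* O_X, ω_P) — the i-th right derived functor of the internal Hom functor Hom(ι_* O_X,
-) on O_P-modules (its existence and that of injective resolutions are the stated instance
hypotheses, both true), evaluated at ω_P — is zero. -/
theorem result (k : Type u) [Field k] (N : ℕ)
    {X : Scheme.{u}} (ι : X ⟶ CohB1.ProjSpace N k) [IsClosedImmersion ι] (r : ℕ)
    (hr : topologicalKrullDim ↥X + (r : WithBot ℕ∞) ≤ (N : WithBot ℕ∞))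
    [ModSite.HasSheafHom (O := (CohB1.ProjSpace N k).sheaf) ((Scheme.Modules.pushforward ι).obj (Coh.structureModule X))]
    [HasInjectiveResolutions (ModSite.Mod (CohB1.ProjSpace N k).sheaf)] (i : ℕ) (hi : i < r) :
    IsZero ((ModSite.extSh (O := (CohB1.ProjSpace N k).sheaf)
      ((Scheme.Modules.pushforward ι).obj (Coh.structureModule X)) i).obj
        (Twist.twistProjSpace N k (-((N : ℤ) + 1)))) := by
  haveI : IsIntegral (CohB1.ProjSpace N k) := H23.PnChart.isIntegral_projSpace N k
  haveI := CurveEmbed.smooth_toSpec N k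
  refine ExtShX.isZero_extSh_codim (CohB1.ProjSpace.toSpec N k) (n := N) (c := r)
    (fun p => SmoothReg.isRegularLocalRing_stalk_of_mem_smoothLocus (CohB1.ProjSpace.toSpec N k)
      (by rw [(CohB1.ProjSpace.toSpec N k).smoothLocus_eq_top]; trivial)) ?_ ι ?_ (H23.PullPush.isFinLocFree_of_isInvertible (PnCoh.Finite.isInvertible_twist (𝒜 := CohB1.polyGrading N k)
      (PruferCoh.Xs N k) (PruferCoh.Xs_mem N k) (PruferCoh.iSup_Xs N k) _)) i hi
  · intro Z hZ
    rw [irreducibleComponents_eq_singleton, Set.mem_singleton_iff] at hZ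
    subst hZ
    exact (Homeomorph.Set.univ _).isHomeomorph.topologicalKrullDim_eq.trans (S10829.result k N)
  · intro a
    haveI : Nonempty ↥X := ⟨a⟩
    obtain ⟨d, hd⟩ : ∃ d : ℕ, topologicalKrullDim ↥X ≤ (d : WithBot ℕ∞) ∧ d + r ≤ N := by
      rcases eq_or_ne (topologicalKrullDim ↥X) ⊥ with h | h
      · exact absurd h (Order.krullDim_ne_bot_iff.2 (Set.nonempty_iff_univ_nonempty.1 ‹_› |> fun h => by
          obtain ⟨e, -⟩ := h; exact ⟨⟨closure {e}, isIrreducible_singleton.closure, isClosed_closure⟩⟩))
      · obtain ⟨d, hd⟩ := WithBot.ne_bot_iff_exists.1 h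
        rw [← hd] at hr ⊢
        have hd' : d ≠ ⊤ := by
          rintro rfl
          have h' : ((⊤ : ℕ∞) + (r : ℕ∞)) ≤ (N : ℕ∞) := WithBot.coe_le_coe.1 hr
          rw [top_add] at h'
          exact ENat.natCast_ne_top N (top_le_iff.1 h')
        lift d to ℕ using hd'
        exact ⟨d, le_rfl, by exact_mod_cast hr⟩
    have := ExtShX.deg_map_le (CohB1.ProjSpace.toSpec N k) ι isClosed_univ (Set.mem_univ a)
      ((Topology.IsInducing.subtypeVal.topologicalKrullDim_le).trans hd.1)
    omega

end Groth.Agent.S11324
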