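import Groth.Statements.S11325
import Groth.Agent.ExtShX.LciReg
import Groth.Agent.ExtShX.Dualizing
import Groth.Agent.ExtShX.SmExt
import Groth.Agent.S11905
import Groth.Agent.S10829
import Groth.Agent.CurveEmbed.Conic
import Groth.Agent.H23.PicMul
import Groth.Agent.H23.TopDim
import Groth.Agent.AmpleVan.LiftFibre

set_option autoImplicit false
set_option backward.isDefEq.respectTransparency false
set_option backward.isDefEq.respectTransparency.types false
universe u
open CategoryTheory CategoryTheory.Limits AlgebraicGeometry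
attribute [local instance] HasDerivedCategory.standard
open ProjDual

namespace Groth.Agent.S11325

universe v in
theorem tensor_right_congr {X : Scheme.{v}} (M : X.Modules) {A B : X.Modules} (e : A ≅ B) :
    Nonempty (CohB1.tensorMod M A ≅ CohB1.tensorMod M B) :=
  ⟨(DCoh.tensorBi.obj M).mapIso e⟩


/-- Let k be a field, P = P^N_k and ι : X → P a closed immersion which makes X a local complete
intersection of codimension r in P: every irreducible component of X has dimension N - r, and every
point of X has an affine open neighbourhood U in P on which the ideal of X is generated by r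
sections. Let C be an r-th exterior power of the conormal sheaf of X in P (a locally free O_X-module
of rank one; its internal Hom functor is assumed to exist, which it does) and put M = ι^* O_P(-N-1)
⊗ Hom_{O_X}(C, O_X), that is ω_P ⊗ (∧^r of the conormal sheaf)^∨. Then M is a dualizing sheaf for X:
with n = N - r there is a k-linear map t : H^n(X, M) → k such that for every coherent O_X-module F
and every k-linear form ψ on H^n(X, F) there is exactly one morphism φ : F → M with ψ = t ∘ H^n(φ).
(The published statement says that the dualizing sheaf of X is isomorphic to M, and in particular is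
invertible; by uniqueness of dualizing sheaves this is the same assertion.) -/
theorem result
    (k : Type u) [Field k] (N r : ℕ) (hr : r ≤ N) (X : Scheme.{u}) [X.Over (Spec (CommRingCat.of k))]
    (ι : X ⟶ CohB1.ProjSpace N k) [IsClosedImmersion ι] (hι : ι ≫ CohB1.ProjSpace.toSpec N k = X ↘ Spec (CommRingCat.of k))
    (heq : ∀ Z : Set ↥X, Z ∈ irreducibleComponents ↥X → topologicalKrullDim ↥Z = ((N - r : ℕ) : WithBot ℕ∞))
    (hgen : ∀ x : X, ∃ U : (CohB1.ProjSpace N k).affineOpens, ι.base x ∈ (U : (CohB1.ProjSpace N k).Opens) ∧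
      ∃ f : Fin r → Γ(CohB1.ProjSpace N k, (U : (CohB1.ProjSpace N k).Opens)), ι.ker.ideal U = Ideal.span (Set.range f))
    (C : X.Modules) (hC : ExtPow.IsExtPow r (Omega.conormal ι) C) [DCoh.HasSheafHom C] :
    ∃ t : Coh.HH X (CohB1.tensorMod ((Scheme.Modules.pullback ι).obj (Twist.twistProjSpace N k (-((N : ℤ) + 1))))
        ((DCoh.sheafHom C).obj (Coh.structureModule X))) (N - r) →ₗ[k] k,
      ∀ F : X.Modules, Coh.IsCoh F → ∀ ψ : Coh.HH X F (N - r) →ₗ[k] k,
        ∃! φ : F ⟶ (CohB1.tensorMod ((Scheme.Modules.pullback ι).obj (Twist.twistProjSpace N k (-((N : ℤ) + 1)))) ((DCoh.sheafHom C).obj (Coh.structureModule X))), ∀ x : Coh.HH X F (N - r),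
          ψ x = t (Sheaf.H.map ((SheafOfModules.toSheaf X.ringCatSheaf).map φ) (N - r) x) := by
  classical
  let P := CohB1.ProjSpace N k
  haveI := CurveEmbed.smooth_toSpec N k
  haveI := ExtShX.isLocallyNoetherian_pn (k := k) (r := N)
  haveI : IsLocallyNoetherian X := LocallyOfFiniteType.isLocallyNoetherian ι
  haveI := ExtShX.irreducibleSpace_pn (k := k) (r := N)
  have hP : ∀ Z : Set ↥P, Z ∈ irreducibleComponents ↥P → topologicalKrullDim ↥Z = (N : WithBot ℕ∞) := fun Z hZ => by
    obtain rfl : Z = Set.univ := by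
      rw [irreducibleComponents_eq_singleton] at hZ
      exact hZ
    exact ((Homeomorph.Set.univ _).isHomeomorph.topologicalKrullDim_eq).trans (S10829.result k N)
  have hreg : RegImm.IsRegularImmersionOfCodim RegImm.Kind.regular r ι :=
    ExtShX.LciReg.isRegularImmersionOfCodim (CohB1.ProjSpace.toSpec N k) ι
      (fun q => ExtShX.isRegularLocalRing_stalk_pn q) hP heq (Nat.add_sub_cancel' hr) hgen
  haveI : ∀ M : X.Modules, ModSite.HasSheafHom (O := X.sheaf) M := fun M => ModTensor.hasSheafHom (O := X.sheaf) M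
  haveI : ∀ M : P.Modules, ModSite.HasSheafHom (O := P.sheaf) M := fun M => ModTensor.hasSheafHom (O := P.sheaf) M
  haveI : EnoughInjectives (ModSite.Mod P.sheaf) := IsGrothendieckAbelian.enoughInjectives
  let Ω := Twist.twistProjSpace N k (-((N : ℤ) + 1))
  have hΩi : PicF.IsInvertible Ω := ExtShX.isInvertible_twistPn (k := k) (r := N) _
  have hC' := ExtShX.Fund.isInvertible_extPow_conormal ι hreg hC
  obtain ⟨e⟩ := ExtShX.Fund.nonempty_extSh_iso ι hreg Ω C hC (QCoh.isFP_of_isFinLocFree (H23.PullPush.isFinLocFree_of_isInvertible hC'))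
  obtain ⟨D, -, ⟨d⟩⟩ := H23.PicInv.exists_inverse hC'
  let M₀ := (Scheme.Modules.pullback ι).obj Ω
  -- `Hom(C, M) ≅ M ⊗ D`
  have key : ∀ M : X.Modules, Nonempty ((ModSite.sheafHom (O := X.sheaf) C).obj M ≅ CohB1.tensorMod M D) := fun M => by
    obtain ⟨a⟩ := ExtShX.SmExt.nonempty_sheafHom_tensor_iso hC' (CohB1.tensorMod M D)
    refine ⟨(ModSite.sheafHom (O := X.sheaf) C).mapIso (?_ : M ≅ CohB1.tensorMod (CohB1.tensorMod M D) C) ≪≫ a⟩
    exact ((H23.PicMul.assoc M D C).some ≪≫ (tensor_right_congr M ((H23.PicMul.comm D C).some ≪≫ d)).some ≪≫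
      (H23.PicMul.unit M).some).symm
  let e1 : (DCoh.sheafHom C).obj (Coh.structureModule X) ≅ D :=
    (AmpleVan.sheafHomIso C).app _ ≪≫ ((ChangeRings.siteHomIso (Z := X) C).app _).symm ≪≫ (key _).some ≪≫
      (H23.PicMul.comm _ _).some ≪≫ (H23.PicMul.unit D).some
  let e2 : CohB1.tensorMod M₀ ((DCoh.sheafHom C).obj (Coh.structureModule X)) ≅
      (ModSite.sheafHom (O := X.sheaf) C).obj M₀ :=
    (tensor_right_congr M₀ e1).some ≪≫ (key M₀).some.symm
  have hdim : topologicalKrullDim ↥X ≤ ((N - r : ℕ) : WithBot ℕ∞) := by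
    rw [H23.TopDim.dim_eq_iSup_irreducibleComponents]
    exact iSup₂_le fun Z hZ => (heq Z hZ).le
  obtain ⟨t, ht⟩ := ExtShX.exists_trace_represents (N := N) ι hι (N - r) r (Nat.sub_add_cancel hr) hdim
    ⟨(Scheme.Modules.pushforward ι).mapIso e2 ≪≫ e.symm⟩
  refine ⟨t, fun F hF ψ => ?_⟩
  obtain ⟨φ, hφ, huniq⟩ := (ht F hF).existsUnique ψ
  exact ⟨φ, fun x => (LinearMap.congr_fun hφ x).symm, fun φ' h => huniq φ' (LinearMap.ext fun x => (h x).symm)⟩

end Groth.Agent.S11325
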