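import Groth.Statements.S11328
import Groth.Agent.ExtShX.Stalk
import Groth.Agent.KFlatLib.Scheme.ExtZero

set_option autoImplicit false
set_option backward.isDefEq.respectTransparency false
set_option backward.isDefEq.respectTransparency.types false
universe u
open CategoryTheory AlgebraicGeometry
open Coherent

namespace Groth.Agent.S11328

/-- Let X be a scheme, U an open subscheme, F and G O_X-modules and i ≥ 0. Then the restriction to U of
the Ext sheaf Ext^i_X(F, G) — the i-th right derived functor of the internal Hom functor Hom(F, -)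
on O_X-modules, evaluated at G — is isomorphic to the Ext sheaf Ext^i_U(F|_U, G|_U) formed on U.
(The internal Hom functors and injective resolutions on X and on U are the stated instance
hypotheses, all true; stated for schemes, the published statement being for ringed spaces; existence
of an isomorphism of O_U-modules.) -/
theorem result (X : Scheme.{u}) (U : X.Opens) (F G : X.Modules) (i : ℕ)
    [ModSite.HasSheafHom (O := X.sheaf) F] [HasInjectiveResolutions (ModSite.Mod X.sheaf)]
    [ModSite.HasSheafHom (O := (↑U : Scheme.{u}).sheaf) (F.restrict U.ι)]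
    [HasInjectiveResolutions (ModSite.Mod (↑U : Scheme.{u}).sheaf)] :
    Nonempty ((Scheme.Modules.restrictFunctor U.ι).obj ((ModSite.extSh (O := X.sheaf) F i).obj G) ≅
      (ModSite.extSh (O := (↑U : Scheme.{u}).sheaf) (F.restrict U.ι) i).obj (G.restrict U.ι)) := by
  haveI : HasInjectiveResolutions X.Modules := ‹HasInjectiveResolutions (ModSite.Mod X.sheaf)›
  haveI : HasInjectiveResolutions (↑U : Scheme.{u}).Modules :=
    ‹HasInjectiveResolutions (ModSite.Mod (↑U : Scheme.{u}).sheaf)›
  haveI : EnoughInjectives X.Modules :=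
    SpObjSS.enoughInjectives_of_hasInjectiveResolutions (C := ModSite.Mod X.sheaf)
  haveI : EnoughInjectives (↑U : Scheme.{u}).Modules :=
    SpObjSS.enoughInjectives_of_hasInjectiveResolutions (C := ModSite.Mod (↑U : Scheme.{u}).sheaf)
  let R := Scheme.Modules.restrictFunctor U.ι
  haveI : R.IsLeftAdjoint := ⟨_, ⟨Scheme.Modules.restrictAdjunction U.ι⟩⟩
  haveI : R.IsRightAdjoint := KFlatLib.isRightAdjoint_restrictFunctor U.ι
  haveI : R.Additive := Functor.additive_of_preserves_binary_products _
  haveI : Limits.PreservesFiniteLimits R := by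
    have : Limits.PreservesLimitsOfSize.{0, 0} R := (KFlatLib.lshAdj U.ι).rightAdjoint_preservesLimits
    exact ⟨fun _ => inferInstance⟩
  haveI : Limits.PreservesFiniteColimits R := by
    have : Limits.PreservesColimitsOfSize.{0, 0} R := (Scheme.Modules.restrictAdjunction U.ι).leftAdjoint_preservesColimits
    exact ⟨fun _ => inferInstance⟩
  haveI : R.PreservesInjectiveObjects :=
    ⟨fun {Q} hQ => (KFlatLib.lshAdj U.ι).map_injective Q hQ⟩
  let SX : X.Modules ⥤ X.Modules := ModSite.sheafHom (O := X.sheaf) F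
  let SU : (↑U : Scheme.{u}).Modules ⥤ (↑U : Scheme.{u}).Modules :=
    ModSite.sheafHom (O := (↑U : Scheme.{u}).sheaf) (F.restrict U.ι)
  haveI : SX.Additive := ModSite.sheafHom_additive X.sheaf F
  haveI : SU.Additive := ModSite.sheafHom_additive (↑U : Scheme.{u}).sheaf (F.restrict U.ι)
  let TX : X.Modules ⥤ X.Modules := (ModSite.tensorBi X.sheaf).flip.obj F
  let TU : (↑U : Scheme.{u}).Modules ⥤ (↑U : Scheme.{u}).Modules :=
    (ModSite.tensorBi (↑U : Scheme.{u}).sheaf).flip.obj (F.restrict U.ι)
  let aX : TX ⊣ SX := ModSite.sheafHomAdj (O := X.sheaf) F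
  let aU : TU ⊣ SU := ModSite.sheafHomAdj (O := (↑U : Scheme.{u}).sheaf) (F.restrict U.ι)
  let p : TU ⋙ KFlatLib.lsh U.ι ≅ KFlatLib.lsh U.ι ⋙ TX :=
    Functor.isoWhiskerRight (KFlatLib.projIso U.ι) ((CategoryTheory.evaluation _ _).obj F)
  let e : SX ⋙ R ≅ R ⋙ SU :=
    (((KFlatLib.lshAdj U.ι).comp aX).ofNatIsoLeft p.symm).rightAdjointUniq (aU.comp (KFlatLib.lshAdj U.ι))
  exact ⟨((SiteBase.rightDerivedCompIso SX R i).symm ≪≫ SiteBase.rightDerivedCongr e i ≪≫
    SiteBase.rightDerivedPrecompIso R SU i).app G⟩

end Groth.Agent.S11328
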