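import Groth.Statements.S11333
import Groth.Agent.HyperP1.PurelyInsep
import Groth.Agent.HyperP1.LineMap
import Groth.Agent.CurveLuroth.FF
import Groth.Agent.CurveCohLib.RegularCurve
import Groth.Agent.ZetaCurve.Bridge
-- import your own Groth.Agent.* helpers here

set_option autoImplicit false
set_option backward.isDefEq.respectTransparency false
set_option backward.isDefEq.respectTransparency.types false
set_option linter.style.haveILetI false
set_option maxHeartbeats 1000000
universe u
open CategoryTheory CategoryTheory.Limits AlgebraicGeometry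
open Curves

namespace Groth.Agent.S11333
open Groth.Agent

/-- Let f : X → Y be a finite morphism over k of curves over an algebraically closed field k (integral,
proper over k, of dimension one, all local rings regular), sending the generic point of X to that of
Y, such that the function field extension K(X)/K(Y) is purely inseparable. Then X and Y are
isomorphic as schemes (the isomorphism need not be compatible with the k-structures; existence of an
isomorphism only). -/
theorem result (k : Type u) [Field k] [IsAlgClosed k] (X : Scheme.{u}) [X.Over (Spec (CommRingCat.of k))]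
    [IsIntegral X] [IsProper (X ↘ (Spec (CommRingCat.of k)))] (hdimX : topologicalKrullDim X = 1)
    (hregX : ∀ x : X, IsRegularLocalRing (X.presheaf.stalk x))
    (Y : Scheme.{u}) [Y.Over (Spec (CommRingCat.of k))]
    [IsIntegral Y] [IsProper (Y ↘ (Spec (CommRingCat.of k)))] (hdimY : topologicalKrullDim Y = 1)
    (hregY : ∀ x : Y, IsRegularLocalRing (Y.presheaf.stalk x))
    (f : X ⟶ Y) [IsFinite f] (hf : f ≫ (Y ↘ (Spec (CommRingCat.of k))) = X ↘ (Spec (CommRingCat.of k)))
    (e : f (genericPoint X) = genericPoint Y) :
    letI := ((Y.presheaf.stalkSpecializes (specializes_of_eq e) ≫ f.stalkMap (genericPoint X)).hom).toAlgebra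
    IsPurelyInseparable Y.functionField X.functionField → Nonempty (X ≅ Y) := by
  letI := ((Y.presheaf.stalkSpecializes (specializes_of_eq e) ≫ f.stalkMap (genericPoint X)).hom).toAlgebra
  intro hpi
  haveI : Smooth (X ↘ Spec (CommRingCat.of k)) := CurveCohLib.RegularCurve.smooth_of_regular k fun x _ => hregX x
  haveI : Smooth (Y ↘ Spec (CommRingCat.of k)) := CurveCohLib.RegularCurve.smooth_of_regular k fun x _ => hregY x
  letI := ZetaCurve.ffAlg k X
  letI := ZetaCurve.ffAlg k Y
  let ψ : Y.functionField ⟶ X.functionField :=
    Y.presheaf.stalkSpecializes (specializes_of_eq e) ≫ f.stalkMap (genericPoint X)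
  have hC : ∀ {Z : Scheme.{u}} [Z.Over (Spec (CommRingCat.of k))] [IsIntegral Z],
      CurveLuroth.ffC (Z ↘ Spec (CommRingCat.of k)) =
        CommRingCat.ofHom (@algebraMap k Z.functionField _ _ (ZetaCurve.ffAlg k Z)) := fun {Z} _ _ =>
    Spec.map_injective (by rw [CurveLuroth.spec_ffC, HyperP1.fromSpecStalk_over])
  have hψ : CommRingCat.ofHom (algebraMap k Y.functionField) ≫ ψ =
      CommRingCat.ofHom (algebraMap k X.functionField) := by
    apply Spec.map_injective
    simp only [ψ, Spec.map_comp, Category.assoc, ← HyperP1.fromSpecStalk_over,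
      Scheme.SpecMap_stalkSpecializes_fromSpecStalk_assoc, Scheme.SpecMap_stalkMap_fromSpecStalk_assoc]
    rw [hf]
  have hψc : ∀ c : k, ψ (algebraMap k Y.functionField c) = algebraMap k X.functionField c := fun c => congr($hψ c)
  have hh0 : ∀ (Z : Scheme.{u}) [Z.Over (Spec (CommRingCat.of k))] [IsIntegral Z]
      [IsProper (Z ↘ Spec (CommRingCat.of k))] [Smooth (Z ↘ Spec (CommRingCat.of k))],
      Module.finrank k (Coh.HH Z (Coh.structureModule Z) 0) = 1 := fun Z _ _ _ _ =>
    CurveCohLib.finrank_h0_eq_one k Z
  have hKX := ZetaCurve.isFunctionField k X hdimX (hh0 X)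
  have hKY := ZetaCurve.isFunctionField k Y hdimY (hh0 Y)
  obtain ⟨n, τ, hτ, θ, hθ⟩ : ∃ (n : ℕ) (τ : CommRingCat.of k ⟶ CommRingCat.of k), IsIso τ ∧
      ∃ θ : X.functionField ≅ Y.functionField,
        CommRingCat.ofHom (algebraMap k X.functionField) ≫ θ.hom =
          τ ≫ CommRingCat.ofHom (algebraMap k Y.functionField) := by
    rcases CharP.exists' X.functionField with h0 | ⟨p, hp, hpK⟩
    · haveI := h0
      haveI : CharZero Y.functionField := (RingHom.charZero_iff ψ.hom.injective).2 h0
      haveI : Algebra.IsSeparable Y.functionField X.functionField := inferInstance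
      have hbij : Function.Bijective ψ :=
        ⟨ψ.hom.injective, IsPurelyInseparable.surjective_algebraMap_of_isSeparable Y.functionField X.functionField⟩
      haveI : IsIso ψ := (ConcreteCategory.isIso_iff_bijective ψ).2 hbij
      exact ⟨0, 𝟙 _, inferInstance, (asIso ψ).symm, by
        rw [← hψ, Category.assoc, Iso.symm_hom, asIso_inv, IsIso.hom_inv_id, Category.comp_id, Category.id_comp]⟩
    · haveI := hp
      haveI := hpK
      haveI : CharP k p := (RingHom.charP_iff (algebraMap k X.functionField) (algebraMap k X.functionField).injective p).2 inferInstance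
      haveI : ExpChar k p := .prime hp.out
      haveI : ExpChar X.functionField p := .prime hp.out
      haveI : CharP Y.functionField p := (RingHom.charP_iff ψ.hom ψ.hom.injective p).2 inferInstance
      haveI : ExpChar Y.functionField p := .prime hp.out
      haveI : PerfectRing k p := PerfectField.toPerfectRing p
      obtain ⟨y, hy⟩ := hKY.1
      have hfd : Module.finrank ψ.hom.fieldRange X.functionField ≠ 0 := by
        let L' : IntermediateField k X.functionField :=
          { ψ.hom.fieldRange with algebraMap_mem' := fun c => ⟨_, hψc c⟩ }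
        have hty : Transcendental k (ψ y) := fun h => hy.1 (by
          let ψa : Y.functionField →ₐ[k] X.functionField := { ψ.hom with commutes' := hψc }
          exact (isAlgebraic_algHom_iff ψa ψ.hom.injective).1 h)
        haveI := FFLib.IsFF.finite_adjoin hKX.1 hty
        have hle : IntermediateField.adjoin k ({ψ y} : Set X.functionField) ≤ L' :=
          IntermediateField.adjoin_simple_le_iff.2 ⟨y, rfl⟩
        letI := (IntermediateField.inclusion hle).toRingHom.toAlgebra
        haveI : IsScalarTower (IntermediateField.adjoin k ({ψ y} : Set X.functionField)) L' X.functionField :=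
          IsScalarTower.of_algebraMap_eq fun _ => rfl
        haveI : FiniteDimensional L' X.functionField :=
          Module.Finite.right (IntermediateField.adjoin k ({ψ y} : Set X.functionField)) L' X.functionField
        exact (Module.finrank_pos (R := L') (M := X.functionField)).ne'
      obtain ⟨n, hn⟩ := HyperP1.exists_iterateFrobenius hKX p _ ψ.hom.fieldRange rfl hfd
        (fun c => ⟨_, hψc c⟩) (fun a => by
          obtain ⟨m, b, hb⟩ := IsPurelyInseparable.pow_mem (F := Y.functionField) p a
          exact ⟨m, b, hb⟩)
      let φ : X.functionField →+* ψ.hom.fieldRange :=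
        (iterateFrobenius X.functionField p n).codRestrict _ fun a => by rw [hn]; exact ⟨a, rfl⟩
      have hφ : Function.Bijective φ := ⟨φ.injective, fun b => by
        obtain ⟨a, ha⟩ : (b : X.functionField) ∈ (iterateFrobenius X.functionField p n).fieldRange := hn ▸ b.2
        exact ⟨a, Subtype.ext ha⟩⟩
      let α := RingEquiv.ofBijective ψ.hom.rangeRestrictField
        ⟨ψ.hom.rangeRestrictField.injective, fun b => b.2.imp fun a ha => Subtype.ext ha⟩
      refine ⟨n, CommRingCat.ofHom (iterateFrobenius k p n),
        (ConcreteCategory.isIso_iff_bijective _).2 (bijective_iterateFrobenius k p n),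
        ((RingEquiv.ofBijective φ hφ).trans α.symm).toCommRingCatIso, ?_⟩
      refine CommRingCat.hom_ext (RingHom.ext fun c => ψ.hom.injective ?_)
      refine (congrArg Subtype.val (α.apply_symm_apply (φ (algebraMap k X.functionField c)))).trans ?_
      show iterateFrobenius X.functionField p n (algebraMap k X.functionField c) =
        ψ (algebraMap k Y.functionField (iterateFrobenius k p n c))
      rw [hψc, iterateFrobenius_def, iterateFrobenius_def, map_pow]
  haveI := hτ
  have hθ' : CurveLuroth.ffC (X ↘ Spec (CommRingCat.of k)) ≫ θ.hom =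
      CurveLuroth.ffC ((Y ↘ Spec (CommRingCat.of k)) ≫ Spec.map τ) := by
    apply Spec.map_injective
    rw [hC, hθ, Spec.map_comp, ← HyperP1.fromSpecStalk_over, CurveLuroth.spec_ffC, Category.assoc]
  obtain ⟨g, -⟩ := CurveLuroth.exists_iso_of_functionField (X ↘ Spec (CommRingCat.of k))
    ((Y ↘ Spec (CommRingCat.of k)) ≫ Spec.map τ) (HyperP1.valuationRing_stalk k hdimX)
    (HyperP1.valuationRing_stalk k hdimY) θ hθ'
  exact ⟨g⟩

end Groth.Agent.S11333
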