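import Groth.Statements.S11337
import Groth.Agent.CurveExt.CliffordEq
import Groth.Agent.CurveVA.Canonical
import Groth.Agent.CurveCohLib.RegularCurve
import Groth.Agent.S11336

set_option autoImplicit false
universe u
open CategoryTheory CategoryTheory.Limits AlgebraicGeometry
open Curves

namespace Groth.Agent.S11337

/-- Let k be an algebraically closed field and X a curve over k (an integral scheme, proper over k, of
dimension one, with all local rings regular), and L an invertible O_X-module with an inverse M such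
that H^0(X, L) ≠ 0, H^0(X, Ω_{X/k} ⊗ M) ≠ 0, L is isomorphic neither to O_X nor to Ω_{X/k}, and 2
(dim_k H^0(X, L) - 1) = deg L. Then X is hyperelliptic and L is a multiple of the g^1_2: there is an
invertible module N of degree 2 with two k-linearly independent global sections (a g^1_2) such that
L ≅ N^{⊗ r} with r = dim_k H^0(X, L) - 1. (Only the implication from equality is stated here; the
converse, that on a hyperelliptic curve the effective special multiples of the g^1_2 attain
equality, is not part of this statement.) -/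
theorem result (k : Type u) [Field k] [IsAlgClosed k] (X : Scheme.{u}) [X.Over (Spec (CommRingCat.of k))]
    [IsIntegral X] [IsProper (X ↘ (Spec (CommRingCat.of k)))] (hdim : topologicalKrullDim X = 1)
    (hreg : ∀ x : X, IsRegularLocalRing (X.presheaf.stalk x))
    (L M : X.Modules) (hL : PicF.IsInvertible L) (hM : ClSub.IsInverseOf L M)
    (hs : Nontrivial (Coh.HH X L 0)) (hsp : Nontrivial (Coh.HH X (CohB1.tensorMod (Omega.sheaf (X ↘ (Spec (CommRingCat.of k)))) M) 0))
    (h0 : IsEmpty (L ≅ Coh.structureModule X)) (hK : IsEmpty (L ≅ (Omega.sheaf (X ↘ (Spec (CommRingCat.of k))))))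
    (heq : 2 * (Module.finrank k (Coh.HH X L 0) : ℤ) = Curv2.deg k X L 1 + 2) :
    ∃ (N : X.Modules) (s : Fin 2 → LinSer.Sect X N), LinSer.IsLinSer k X N 2 1 s ∧
      Nonempty (L ≅ CohB1.tensorPow N (Module.finrank k (Coh.HH X L 0) - 1)) := by
  haveI := Groth.Agent.CurveCohLib.RegularCurve.smooth_of_regular k (X := X) fun x _ => hreg x
  haveI := Groth.Agent.CurveCohLib.isNoetherian_of_proper (k := k) (X := X)
  have hΩ := Groth.Agent.CurveFF.canonical_invariants k X hdim
  have hΩI := Groth.Agent.CurveFF.isInvertible_Ωm k X hdim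
  have hM' := Groth.Agent.CurveFF.isInvertible_of_inverse k hdim hL hM
  have hdM := Groth.Agent.CurveFF.deg_inverse k hdim hL hM' hM
  have h2 := Groth.Agent.S11336.result k X hdim hreg L M hL hM hs hsp
  obtain ⟨eM⟩ := hM
  -- strict bounds on the degree
  have hlow : 0 < Curv2.deg k X L 1 := by
    by_contra hc
    push Not at hc
    haveI := hs
    haveI := Groth.Agent.CurveCohLib.finite_HH (k := k) (Groth.Agent.CurveDeg.isCoh_of_isInvertible hL) 0
    obtain ⟨φ, hφ⟩ := Groth.Agent.CurveRR.exists_hom_ne_zero k (P := L) (Module.finrank_pos (R := k)).ne'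
    obtain ⟨h1, h1'⟩ := Groth.Agent.CurveDeg.deg_le_and_isIso k hdim.le Groth.Agent.CurveDeg.isInvertible_structureModule hL φ hφ
    rw [Groth.Agent.CurveDeg.deg_structureModule] at h1 h1'
    haveI := h1' (le_antisymm h1 hc)
    exact h0.false (asIso φ).symm
  have hup : Curv2.deg k X L 1 < 2 * (Curv2.genus k X : ℤ) - 2 := by
    by_contra hc
    push Not at hc
    haveI : Nontrivial (Coh.HH X ((DCoh.tensorBi.obj (Omega.sheaf (X ↘ Spec (CommRingCat.of k)))).obj M) 0) := hsp
    obtain ⟨eM'⟩ : Nonempty (CohB1.tensorMod L M ≅ Coh.structureModule X) := ⟨eM⟩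
    let e₁ : (DCoh.tensorBi.obj L).obj M ≅ Coh.structureModule X := eM
    haveI := (Groth.Agent.CurveCohLib.hhEquiv (k := k) (Groth.Agent.CurveTensor.commIso
      (Omega.sheaf (X ↘ Spec (CommRingCat.of k))) M) 0).symm.toEquiv.nontrivial
    obtain ⟨t, ht⟩ := exists_ne (0 : Coh.HH X ((DCoh.tensorBi.obj M).obj (Omega.sheaf (X ↘ Spec (CommRingCat.of k)))) 0)
    obtain ⟨h1, h1'⟩ := Groth.Agent.CurveDeg.deg_le_and_isIso k hdim.le hL hΩI
      (Groth.Agent.CurveDuality.homOfTwist e₁ _ t) (Groth.Agent.CurveDuality.homOfTwist_ne_zero e₁ ht)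
    have hd : Curv2.deg k X L 1 = Curv2.deg k X (Omega.sheaf (X ↘ Spec (CommRingCat.of k))) 1 :=
      le_antisymm h1 (hΩ.2.le.trans hc)
    haveI := h1' hd
    exact hK.false (asIso (Groth.Agent.CurveDuality.homOfTwist e₁ _ t))
  obtain ⟨r, hr⟩ : ∃ r : ℕ, Module.finrank k (Coh.HH X L 0) = r + 1 :=
    ⟨Module.finrank k (Coh.HH X L 0) - 1, by omega⟩
  have hdr : Curv2.deg k X L 1 = 2 * (r : ℤ) := by rw [hr] at heq; push_cast at heq; omega
  obtain ⟨N, hN, hdN, hN2⟩ := Groth.Agent.CurveExt.Cliff.exists_deg_two k hdim (2 * r) hL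
    (by rw [hdr]; push_cast; ring) (by rw [hr]; push_cast; ring) (by omega) (by push_cast; omega)
  obtain ⟨s, hs'⟩ := Groth.Agent.CurveVA.exists_linIndep (n := 2) k (Groth.Agent.CurveDeg.isCoh_of_isInvertible hN) hN2
  refine ⟨N, s, ⟨hN, hdN, hs'⟩, ?_⟩
  rw [show Module.finrank k (Coh.HH X L 0) - 1 = r by omega]
  exact Groth.Agent.CurveExt.Cliff.nonempty_iso_tensorPow k hdim hN hdN hN2 hL hr hdr (by omega)

end Groth.Agent.S11337
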