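import Groth.Statements.S11341
import Groth.Agent.SurfRR.Index
import Groth.Agent.CurveNondeg.Basic
import Groth.Agent.IntNum.Push
-- import your own Groth.Agent.* helpers here

set_option autoImplicit false
set_option linter.style.haveILetI false
set_option backward.isDefEq.respectTransparency false
set_option backward.isDefEq.respectTransparency.types false
set_option maxHeartbeats 800000
universe u
open CategoryTheory CategoryTheory.Limits AlgebraicGeometry
open Surf

open Groth.Agent.H23.PicMul
open scoped Groth.Agent.H23.PicMul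

namespace Groth.Agent.S11341


/-- Let X be a surface over an algebraically closed field k (an integral scheme of dimension two with
all local rings regular, admitting a closed immersion into some P^n_k over k), let W be the
canonical sheaf of X (a second exterior power of the sheaf of differentials Ω_{X/k}), and let C be a
nonsingular curve of genus g on X: an integral closed subscheme of dimension one with all local
rings regular, with ideal sheaf I ⊆ O_X, g = dim_k H^1(C, O_C). Then 2g - 2 = C.(C + K). Writing
(L·M) for the intersection number χ(O_X) - χ(L) - χ(M) + χ(L ⊗ M) of two invertible modules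
(packaged as FGA.intNum), C.C = (I·I) and C.K = -(I·W), so the formula reads 2g - 2 = (I·I) - (I·W). -/
theorem result (k : Type u) [Field k] [IsAlgClosed k] (X : Scheme.{u}) [X.Over (Spec (CommRingCat.of k))]
    [IsIntegral X] (hdim : topologicalKrullDim X = 2) (hreg : ∀ x : X, IsRegularLocalRing (X.presheaf.stalk x))
    (hproj : ∃ (n : ℕ) (ι : X ⟶ CohB1.ProjSpace n k), IsClosedImmersion ι ∧ ι ≫ CohB1.ProjSpace.toSpec n k = (X ↘ (Spec (CommRingCat.of k))))
    (W : X.Modules) (hW : ExtPow.IsExtPow 2 (Omega.sheaf (X ↘ (Spec (CommRingCat.of k)))) W)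
    (C : Scheme.{u}) (i : C ⟶ X) [IsClosedImmersion i] [IsIntegral C] (hC : topologicalKrullDim C = 1)
    (hCreg : ∀ c : C, IsRegularLocalRing (C.presheaf.stalk c)) :
    letI : C.Over (Spec (CommRingCat.of k)) := ⟨i ≫ (X ↘ (Spec (CommRingCat.of k)))⟩
    2 * (Curv2.genus k C : ℤ) - 2 =
      FGA.intNum k X 2 ![ClSub.idealMod i.ker, ClSub.idealMod i.ker] (Coh.structureModule X) - FGA.intNum k X 2 ![ClSub.idealMod i.ker, W] (Coh.structureModule X) := by
  have hp := hproj
  obtain ⟨n', ι', hι', hιk⟩ := hp
  haveI := hι'
  haveI : IsProper (CohB1.ProjSpace.toSpec n' k) := PnCoh.Chow.isProper_toSpec n' k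
  haveI : IsProper (X ↘ Spec (CommRingCat.of k)) := by rw [← hιk]; infer_instance
  haveI := CurveCohLib.isNoetherian_of_proper (k := k) (X := X)
  haveI : Smooth (X ↘ Spec (CommRingCat.of k)) := SurfRR.smooth_of_regular k hreg
  have hd : topologicalKrullDim X = ((2 : ℕ) : WithBot ℕ∞) := hdim
  letI : C.Over (Spec (CommRingCat.of k)) := ⟨i ≫ (X ↘ (Spec (CommRingCat.of k)))⟩
  haveI : IsProper (C ↘ Spec (CommRingCat.of k)) :=
    show IsProper (i ≫ (X ↘ Spec (CommRingCat.of k))) from inferInstance
  have hC' : topologicalKrullDim C = ((1 : ℕ) : WithBot ℕ∞) := hC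
  have hCart := IntSym.CurveSurface.isEffCartier_ker k hd hreg i hC'
  have hI := (S8914.result i.ker).2 hCart
  have hWi := SurfRR.isInvertible_canonical k hd hproj hW
  rw [SurfRR.intNum_two k hd.le hI hI, SurfRR.intNum_two k hd.le hI hWi]
  have hrr := SurfRR.riemann_roch k hd hproj hW hI
  have hadd := CurveCohLib.euler_additive (k := k) (IntSym.shortExact_toSubscheme i.ker)
    (AmpleVan.isCoh_invertible hI) QCoh.isCoh_structureModule' (ParShLib.isCoh_quotMod i.ker)
  change Curv2.euler k X (Coh.structureModule X) =
    Curv2.euler k X (ClSub.idealMod i.ker) + Curv2.euler k X (ClSub.quotMod i.ker) at hadd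
  obtain ⟨e⟩ := IntSym.CurveSurface.nonempty_quotMod_iso k i
  rw [← CurveCohLib.euler_congr (k := k) e, IntNum.euler_push k i rfl QCoh.isQCoh_structureModule] at hadd
  haveI := CurveCohLib.isNoetherian_of_proper (k := k) (X := C)
  haveI : C.IsSeparated := AmpleVan.isSeparated_of_proper (A := k)
  have hχ : Curv2.euler k C (Coh.structureModule C) = 1 - (Curv2.genus k C : ℤ) := by
    rw [CurveCohLib.euler_eq_sum (k := k) (N := 2) fun j hj =>
      Snapper.subsingleton_HH_of_dim_le hC'.le QCoh.isQCoh_structureModule (by omega)]
    simp [Finset.sum_range_succ, Curv2.genus, CurveNondeg.h0_structure (k := k), sub_eq_add_neg]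
  linarith

end Groth.Agent.S11341
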