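import Groth.Statements.S11349
import Groth.Agent.GenusOneX.AlgClosed
import Groth.Agent.CurveCohLib.RegularCurve

set_option autoImplicit false
set_option backward.isDefEq.respectTransparency false
set_option backward.isDefEq.respectTransparency.types false
set_option maxHeartbeats 1000000
set_option linter.style.haveILetI false
universe u
open CategoryTheory CategoryTheory.Limits AlgebraicGeometry
open Curves

namespace Groth.Agent.S11349

open MonObj
open Groth.Agent Groth.Agent.H23 Groth.Agent.H23.PicMul MonoidalCategory
open scoped Groth.Agent.H23.PicMul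

set_option maxHeartbeats 1600000
set_option linter.style.haveILetI false
set_option backward.isDefEq.respectTransparency false
set_option backward.isDefEq.respectTransparency.types false

attribute [local instance] GenusOneX.fibreOver

/-- Take an algebraically closed field k of characteristic different from 2 and an elliptic curve X over
k — an integral scheme, proper over k, of dimension one, all local rings regular, of genus dim_k
H^1(X, O_X) = 1 — and let P, Q be closed points of X, possibly equal. Then there is an automorphism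
σ of X over k with σ² = id and σ(P) = Q such that R + σ(R) is linearly equivalent to P + Q for every
closed point R; the last condition is written on ideal sheaves of points: I_R ⊗ I_{σ(R)} ≅ I_P ⊗
I_Q. -/
theorem result (k : Type u) [Field k] [IsAlgClosed k] (X : Scheme.{u}) [X.Over (Spec (CommRingCat.of k))]
    [IsIntegral X] [IsProper (X ↘ (Spec (CommRingCat.of k)))] (hdim : topologicalKrullDim X = 1)
    (hreg : ∀ x : X, IsRegularLocalRing (X.presheaf.stalk x)) (hchar : ringChar k ≠ 2) (hg : Curv2.genus k X = 1)
    (P Q : X) (hP : IsClosed ({P} : Set X)) (hQ : IsClosed ({Q} : Set X)) :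
    ∃ σ : X ≅ X, σ.hom ≫ (X ↘ (Spec (CommRingCat.of k))) = (X ↘ (Spec (CommRingCat.of k))) ∧ σ.hom ≫ σ.hom = 𝟙 X ∧ σ.hom P = Q ∧
      ∀ (R R' : X) (hR : IsClosed ({R} : Set X)) (hR' : IsClosed ({R'} : Set X)), σ.hom R = R' →
        Nonempty (CohB1.tensorMod (ClSub.idealMod (Scheme.IdealSheafData.vanishingIdeal ⟨{R}, hR⟩)) (ClSub.idealMod (Scheme.IdealSheafData.vanishingIdeal ⟨{R'}, hR'⟩)) ≅ CohB1.tensorMod (ClSub.idealMod (Scheme.IdealSheafData.vanishingIdeal ⟨{P}, hP⟩)) (ClSub.idealMod (Scheme.IdealSheafData.vanishingIdeal ⟨{Q}, hQ⟩))) := by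
  haveI := CurveCohLib.RegularCurve.smooth_of_regular k (X := X) fun x _ => hreg x
  let p := X ↘ Spec (CommRingCat.of k)
  obtain ⟨hsm, hgc, hg0⟩ := GenusOneX.curve_setup p hdim hg
  haveI := hsm; haveI := hgc
  let o := GenusOneX.point p P hP
  let b := GenusOneX.point p Q hQ
  let r := GenusOneX.refl p hg0 o b
  refine ⟨(Over.forget _).mapIso (GenusOneX.reflIso p hg0 o b), Over.w r,
    congrArg CommaMorphism.left (GenusOneX.refl_refl p hg0 o b), ?_, fun R R' hR hR' hRR => ?_⟩
  · letI := GenusOneX.grpObj p hg0 o.left (Over.w o)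
    have h1 : o ≫ r = b := by
      have h := GenusOneX.comp_refl_mul p hg0 o b o
      conv_lhs at h => arg 1; rw [← GenusOneX.one_eq_origin p hg0 o]
      exact (_root_.one_mul (o ≫ r)).symm.trans h
    have h2 := congrArg (fun m : 𝟙_ (Over (Spec (CommRingCat.of k))) ⟶ Over.mk p => m.left (IsLocalRing.closedPoint k)) h1
    exact (congrArg r.left (GenusOneX.point_left_apply p P hP (IsLocalRing.closedPoint k))).symm.trans
      (h2.trans (GenusOneX.point_left_apply p Q hQ (IsLocalRing.closedPoint k)))
  · let a := GenusOneX.point p R hR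
    have h1 : a ≫ r = GenusOneX.point p R' hR' := GenusOneX.point_ext p (by
      rw [GenusOneX.point_left_apply, Over.comp_left, Scheme.Hom.comp_apply, GenusOneX.point_left_apply]
      exact hRR)
    have h2 := GenusOneX.cl_mul_of_mul_eq p hg0 o a (GenusOneX.point p R' hR') b
      (h1 ▸ GenusOneX.comp_refl_mul p hg0 o b a)
    simp only [a, b, o, GenusOneX.ker_point_eq] at h2
    exact cl_eq_iff.1 (by rw [cl_tensor, cl_tensor, h2, mul_comm])

end Groth.Agent.S11349
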