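import Groth.Statements.S11351
import Groth.Agent.HypX.EllipticInv
import Groth.Agent.HypX.CastelnuovoCover
import Groth.Agent.HypX.Involution
-- import your own Groth.Agent.* helpers here

set_option autoImplicit false
set_option backward.isDefEq.respectTransparency false
set_option backward.isDefEq.respectTransparency.types false
set_option linter.style.haveILetI false
set_option maxHeartbeats 1000000
universe u
open CategoryTheory CategoryTheory.Limits AlgebraicGeometry
open Curves

namespace Groth.Agent.S11351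
open Groth.Agent

/-- Take an algebraically closed field k of characteristic different from 2 and an elliptic curve X over
k (integral, proper over k, of dimension one, all local rings regular, of genus dim_k H^1(X, O_X) =
1), and let f₁, f₂ : X → P^1_k be two finite morphisms over k of degree 2 (the direct image of O_X
is locally free of rank 2). Then there are an automorphism σ of X over k and an automorphism τ of
P^1_k over k such that f₂ ∘ σ = τ ∘ f₁. -/
theorem result (k : Type u) [Field k] [IsAlgClosed k] (X : Scheme.{u}) [X.Over (Spec (CommRingCat.of k))]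
    [IsIntegral X] [IsProper (X ↘ (Spec (CommRingCat.of k)))] (hdim : topologicalKrullDim X = 1)
    (hreg : ∀ x : X, IsRegularLocalRing (X.presheaf.stalk x)) (hchar : ringChar k ≠ 2) (hg : Curv2.genus k X = 1)
    (f₁ f₂ : X ⟶ (CohB1.ProjSpace 1 k)) [IsFinite f₁] [IsFinite f₂]
    (hf₁ : f₁ ≫ CohB1.ProjSpace.toSpec 1 k = (X ↘ (Spec (CommRingCat.of k)))) (hf₂ : f₂ ≫ CohB1.ProjSpace.toSpec 1 k = (X ↘ (Spec (CommRingCat.of k))))
    (hd₁ : FlatMod.IsFinLocFreeOfRank 2 ((Scheme.Modules.pushforward f₁).obj (Coh.structureModule X)))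
    (hd₂ : FlatMod.IsFinLocFreeOfRank 2 ((Scheme.Modules.pushforward f₂).obj (Coh.structureModule X))) :
    ∃ (σ : X ≅ X) (τ : (CohB1.ProjSpace 1 k) ≅ (CohB1.ProjSpace 1 k)), σ.hom ≫ (X ↘ (Spec (CommRingCat.of k))) = (X ↘ (Spec (CommRingCat.of k))) ∧
      τ.hom ≫ CohB1.ProjSpace.toSpec 1 k = CohB1.ProjSpace.toSpec 1 k ∧ σ.hom ≫ f₂ = f₁ ≫ τ.hom := by
  haveI := H23.PnChart.isIntegral_projSpace 1 k
  haveI : IsProper ((CohB1.ProjSpace 1 k) ↘ Spec (CommRingCat.of k)) := PnCoh.Chow.isProper_toSpec 1 k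
  haveI : Smooth ((CohB1.ProjSpace 1 k) ↘ Spec (CommRingCat.of k)) := CurveEmbed.smooth_toSpec 1 k
  letI := ZetaCurve.ffAlg k X
  letI := ZetaCurve.ffAlg k (CohB1.ProjSpace 1 k)
  obtain ⟨hsm, h0X⟩ := HypX.facts_of_regular k X hreg
  haveI := hsm
  have h2 : (2 : k) ≠ 0 := Ring.two_ne_zero hchar
  obtain ⟨⟨-, hfl₁, -⟩, hr₁⟩ := H23.CoverPush.isCover_of_crit f₁ (H23.CoverPush.crit_of_isFinLocFreeOfRank_push f₁ hd₁)
  obtain ⟨⟨-, hfl₂, -⟩, hr₂⟩ := H23.CoverPush.isCover_of_crit f₂ (H23.CoverPush.crit_of_isFinLocFreeOfRank_push f₂ hd₂)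
  haveI := hfl₁
  haveI := hfl₂
  obtain ⟨ψ₁, e₁, hgen₁⟩ := HypX.exists_cover_field hdim h0X f₁ hf₁ hr₁
  obtain ⟨ψ₂, e₂, hgen₂⟩ := HypX.exists_cover_field hdim h0X f₂ hf₂ hr₂
  -- the function field of the line is generated by one element
  obtain ⟨x, hx, -⟩ := HyperP1.exists_coord k (𝟙 (CohB1.ProjSpace 1 k)) (Category.id_comp _)
  have hx1 : Module.finrank (IntermediateField.adjoin k ({x} : Set (CohB1.ProjSpace 1 k).functionField)) (CohB1.ProjSpace 1 k).functionField = 1 := by
    rw [← hx]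
    exact Scheme.Hom.residueDegree_id _
  haveI := Module.finite_of_finrank_eq_succ hx1
  have htop := IntermediateField.eq_of_le_of_finrank_eq' (F := IntermediateField.adjoin k ({x} : Set (CohB1.ProjSpace 1 k).functionField)) le_top (by rw [hx1, IntermediateField.finrank_top])
  have hrange : ∀ ψ : (CohB1.ProjSpace 1 k).functionField →ₐ[k] X.functionField,
      ψ.fieldRange = IntermediateField.adjoin k {ψ x} := fun ψ => by
    rw [AlgHom.fieldRange_eq_map, ← htop, IntermediateField.adjoin_map, Set.image_singleton]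
  obtain ⟨s, hs⟩ := HypX.exists_aut_map_adjoin h2 (ZetaCurve.isFunctionField k X hdim h0X)
    ((ZetaCurve.genus_eq k X hdim h0X).trans hg) (t₁ := ψ₁ x) (t₂ := ψ₂ x) (by rw [← hrange]; exact e₁) (by rw [← hrange]; exact e₂)
  obtain ⟨e, he, hge⟩ := HypX.exists_hom_of_ff k hdim s.toAlgHom
  obtain ⟨e', he', hge'⟩ := HypX.exists_hom_of_ff k hdim s.symm.toAlgHom
  haveI : X.IsSeparated :=
    ⟨by rw [← Limits.terminal.comp_from (X ↘ Spec (CommRingCat.of k))]; infer_instance⟩
  let σ : X ≅ X := ⟨e, e', HypX.hom_ext_generic (by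
      rw [reassoc_of% hge, hge', ← Category.assoc, ← Spec.map_comp, Category.comp_id]
      rw [show CommRingCat.ofHom s.symm.toAlgHom.toRingHom ≫ CommRingCat.ofHom s.toAlgHom.toRingHom = 𝟙 _ from
        CommRingCat.hom_ext (RingHom.ext s.apply_symm_apply), Spec.map_id]
      exact Category.id_comp _), HypX.hom_ext_generic (by
      rw [reassoc_of% hge', hge, ← Category.assoc, ← Spec.map_comp, Category.comp_id]
      rw [show CommRingCat.ofHom s.toAlgHom.toRingHom ≫ CommRingCat.ofHom s.symm.toAlgHom.toRingHom = 𝟙 _ from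
        CommRingCat.hom_ext (RingHom.ext s.symm_apply_apply), Spec.map_id]
      exact Category.id_comp _)⟩
  have hgen : X.fromSpecStalk (genericPoint X) ≫ (e ≫ f₂) =
      Spec.map (CommRingCat.ofHom (s.toAlgHom.comp ψ₂).toRingHom) ≫ (CohB1.ProjSpace 1 k).fromSpecStalk (genericPoint _) := by
    rw [reassoc_of% hge, hgen₂, ← Category.assoc, ← Spec.map_comp]
    rfl
  obtain ⟨τ, hτ, hτf⟩ := HypX.exists_iso_of_range_eq (P1Split.dim_eq k) (P1Split.dim_eq k) hgen₁ hgen (by
    rw [← AlgHom.map_fieldRange, hrange ψ₂, hs, ← hrange ψ₁])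
  exact ⟨σ, τ, he, hτ, hτf.symm⟩

end Groth.Agent.S11351
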