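import Groth.Statements.S11369
import Groth.Agent.GGAmple.Basic
import Groth.Agent.IntNum.CurveAmple
import Groth.Agent.S1530

set_option autoImplicit false
set_option backward.isDefEq.respectTransparency false
set_option backward.isDefEq.respectTransparency.types false
universe u
open CategoryTheory CategoryTheory.Limits AlgebraicGeometry TopologicalSpace
open Variety

namespace Groth.Agent.S11369
open Groth.Agent

/-- Let X be proper over an algebraically closed field k and L an invertible O_X-module generated by its
global sections. If for every integral closed subscheme C of X of dimension one the pullback of L to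
C is ample, then L is ample. -/
theorem result (k : Type u) [Field k] [IsAlgClosed k] (X : Scheme.{u})
    [X.Over (Spec (CommRingCat.of k))] [IsProper (X ↘ (Spec (CommRingCat.of k)))]
    (L : X.Modules) (hL : PicF.IsInvertible L) (hgen : Curv2.IsGloballyGenerated L)
    (hcurves : ∀ C : X.IdealSheafData, IsIntegral C.subscheme →
      topologicalKrullDim (C.support : Set X) = 1 →
        CohB1.IsAmple ((Scheme.Modules.pullback C.subschemeι).obj L)) :
    CohB1.IsAmple L := by
  have hdimC : ∀ C : X.IdealSheafData, topologicalKrullDim (C.support : Set X) = 1 →
      topologicalKrullDim C.subscheme = 1 := fun C h => by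
    rw [IsHomeomorph.topologicalKrullDim_eq _
      C.subschemeι.isClosedEmbedding.isEmbedding.toHomeomorph.isHomeomorph, C.range_subschemeι]
    exact h
  refine GGAmple.isAmple_of_gg (X ↘ Spec (CommRingCat.of k)) hL hgen fun C hC hd => ⟨fun e => ?_⟩
  haveI := hC
  letI : C.subscheme.Over (Spec (CommRingCat.of k)) := ⟨C.subschemeι ≫ (X ↘ Spec (CommRingCat.of k))⟩
  haveI : IsProper (C.subscheme ↘ Spec (CommRingCat.of k)) :=
    inferInstanceAs (IsProper (C.subschemeι ≫ (X ↘ Spec (CommRingCat.of k))))
  have h := (S1530.result k C.subscheme (hdimC C hd) _ (PicClLib.isInvertible_pullback _ hL)).1 (hcurves C hC hd)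
  rw [CurveRR.deg_congr k e 1, CurveDeg.deg_structureModule] at h
  exact lt_irrefl _ h

end Groth.Agent.S11369
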