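import Groth.Statements.S11371
import Groth.Agent.IntSym.Curves
import Groth.Agent.IntSym.Bridge
import Groth.Agent.NakaiMo.Main

set_option autoImplicit false
universe u
open CategoryTheory CategoryTheory.Limits AlgebraicGeometry TopologicalSpace
open Variety

namespace Groth.Agent.S11371

/-- Let X be proper over an algebraically closed field k and L, L' invertible O_X-modules that are
numerically equivalent: (L · C) = (L' · C), i.e. χ(O_C ⊗ L) = χ(O_C ⊗ L'), for every integral closed
subscheme C ⊆ X of dimension one. If L is ample then L' is ample. (The published statement is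
phrased for Cartier divisors; it depends on them only through the associated invertible modules, and
the printed reduction to integral X covers every invertible module.) -/
theorem result (k : Type u) [Field k] [IsAlgClosed k] (X : Scheme.{u})
    [X.Over (Spec (CommRingCat.of k))] [IsProper (X ↘ (Spec (CommRingCat.of k)))]
    (L L' : X.Modules) (hL : PicF.IsInvertible L) (hL' : PicF.IsInvertible L')
    (hnum : ∀ C : X.IdealSheafData, IsIntegral C.subscheme →
      topologicalKrullDim (C.support : Set X) = 1 →
        Curv2.euler k X (CohB1.tensorMod (ClSub.quotMod C) L) =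
          Curv2.euler k X (CohB1.tensorMod (ClSub.quotMod C) L'))
    (hamp : CohB1.IsAmple L) : CohB1.IsAmple L' := by
  haveI := CurveCohLib.isNoetherian_of_proper (k := k) (X := X)
  have hnum' : IntSym.NumEq k L' L := by
    refine IntSym.numEq_of_ideals k (fun C hC hd => ?_) hL' hL
    rw [IntSym.sym_singleton, IntSym.sym_singleton, hnum C hC hd]
  refine NakaiMo.isAmple_of_pos k hL' fun W i _ _ d hd0 hd => ?_
  have hO : Coh.IsCoh ((Coh.push i).obj (Coh.structureModule W)) := QCoh.isCoh_push_structure i
  have hdim := IntSym.dim_push_le i (QCoh.isQCoh_structureModule (X := W)) hd.le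
  rw [← IntSym.sym_replicate, ← List.ofFn_const,
    IntSym.sym_ofFn_eq_of_numEq k (L' := fun _ : Fin d => L) (fun _ => hL') (fun _ => hL) (fun _ => hnum') hO hdim,
    List.ofFn_const, IntSym.sym_replicate]
  obtain ⟨C, -, hs, hdC, ⟨e⟩⟩ := IntSym.exists_ideal k i
  refine (HilbPoly.mult_nonneg_and_pos k hamp d _ hO hdim).2 ?_
  rw [QCoh.support_iso e hO.1, ← hd, ← hdC]
  have hsupp : CohB1.support (ClSub.quotMod C) = (C.support : Set X) := by
    rw [← C.range_subschemeι]
    refine Set.Subset.antisymm (QCoh.support_push_subset C.subschemeι QCoh.isQCoh_structureModule) ?_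
    rintro _ ⟨z, rfl⟩ hz
    haveI : Subsingleton ((ClSub.quotMod C).presheaf.stalk (C.subschemeι z)) := hz
    have h := H23.ClosedPushLen.length_stalk C.subschemeι (Coh.structureModule C.subscheme) z
    rw [Module.length_eq_zero, H23.ClosedPushLen.length_structureModule] at h
    exact absurd (Module.length_eq_zero_iff.1 h.symm) (not_subsingleton _)
  rw [hsupp]

end Groth.Agent.S11371
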