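import Groth.Statements.S11377
import Groth.Agent.CdRed.Basic
import Groth.Agent.AmpleX.Generated
import Groth.Agent.AmpleVan.FinGen
import Groth.Agent.InvX.GenEpi
import Groth.Agent.H23.PicMul
import Groth.Agent.VolLib.Kodaira

set_option autoImplicit false
universe u
open CategoryTheory CategoryTheory.Limits AlgebraicGeometry TopologicalSpace
open CohDim

namespace Groth.Agent.S11377

open Groth.Agent
open Groth.Agent.H23.PicMul

/-- Let S be an integral scheme, separated and of finite type over an algebraically closed field k, with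
all local rings regular, let L be an ample invertible O_S-module with tensor inverse M (so S is
quasi-projective and M^{⊗m} plays the role of O_S(-m)), and let r ≥ 0. If there is m₀ such that
H^i(S, M^{⊗m}) = 0 for every i > r and every m ≥ m₀, then H^i(S, F) = 0 for every i > r and every
coherent O_S-module F. (The published statement takes O_S(1) from a quasi-projective embedding; the
printed proof uses only that F ⊗ O_S(m) is generated by finitely many global sections for m ≫ 0,
which holds for any ample L.) -/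
theorem result (k : Type u) [Field k] [IsAlgClosed k] (S : Scheme.{u})
    [S.Over (Spec (CommRingCat.of k))] [IsSeparated (S ↘ (Spec (CommRingCat.of k)))]
    [LocallyOfFiniteType (S ↘ (Spec (CommRingCat.of k)))] [QuasiCompact (S ↘ (Spec (CommRingCat.of k)))]
    [IsIntegral S] (hreg : ∀ x : S, IsRegularLocalRing (S.presheaf.stalk x))
    (L M : S.Modules) (hL : CohB1.IsAmple L) (hM : ClSub.IsInverseOf M L) (r : ℕ)
    (hneg : ∃ m₀ : ℕ, ∀ m : ℕ, m₀ ≤ m → ∀ i : ℕ, r < i → Subsingleton (Coh.HH S (CohB1.tensorPow M m) i))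
    (F : S.Modules) (hF : Coh.IsCoh F) (i : ℕ) (hi : r < i) :
    Subsingleton (Coh.HH S F i) := by
  haveI := CdRed.isNoetherian k S
  haveI := CdRed.isSeparated_scheme k S
  obtain ⟨m₀, hneg⟩ := hneg
  refine CdRed.vanish k S r (fun G hG => ?_) hF hi
  obtain ⟨n₀, hn₀⟩ := AmpleX.eventually_generated hL hG.1 hG.2
  obtain ⟨G', e, ι, s, hs⟩ := hn₀ (max n₀ m₀) (le_max_left _ _)
  set n := max n₀ m₀
  have hP := InvX.isInvertible_tensorPow hL.1 n
  have hMi : PicF.IsInvertible M := by
    obtain ⟨e₀⟩ : Nonempty (CohB1.tensorMod M L ≅ Coh.structureModule S) := hM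
    exact VolLib.isInvertible_of_inverse hL.1 e₀
  have hQ := InvX.isInvertible_tensorPow hMi n
  have hG' : Coh.IsCoh G' := QCoh.isCoh_of_iso_finite e
    (AmpleVan.isCoh_tensor hG (AmpleVan.isCoh_invertible hP)).1
    fun V hV => QCoh.finite_sections (AmpleVan.isCoh_tensor hG (AmpleVan.isCoh_invertible hP)) hV
  obtain ⟨q, j, hj⟩ := AmpleVan.exists_fin_generatedBy hG' s hs
  obtain ⟨p, hp⟩ := InvX.exists_epi_freeMod hj
  haveI := AmpleVan.isEquivalence_tw hQ
  haveI : (AmpleVan.tw (CohB1.tensorPow M n)).Additive := Functor.additive_of_preserves_binary_products _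
  obtain ⟨c⟩ : Nonempty (CohB1.tensorMod (CohB1.tensorPow L n) (CohB1.tensorPow M n) ≅ Coh.structureModule S) :=
    H23.PicMul.cl_eq_iff.1 (by
      rw [H23.PicMul.cl_tensor, H23.PicMul.cl_tensorPow, H23.PicMul.cl_tensorPow, ← mul_pow, mul_comm,
        ← H23.PicMul.cl_tensor, H23.PicMul.cl_eq_iff.2 hM, ← H23.PicMul.one_def, one_pow])
  obtain ⟨a⟩ := H23.PicMul.assoc G (CohB1.tensorPow L n) (CohB1.tensorPow M n)
  obtain ⟨u⟩ := H23.PicMul.unit G
  let π : (AmpleVan.tw (CohB1.tensorPow M n)).obj (FlatMod.freeMod S q) ⟶ G :=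
    (AmpleVan.tw (CohB1.tensorPow M n)).map (p ≫ e.hom) ≫ a.hom ≫
      (PicGrp.tensorModIso (Iso.refl G) c).hom ≫ u.hom
  haveI := hp
  haveI : Epi (p ≫ e.hom) := epi_comp _ _
  haveI : Epi π := by
    refine @epi_comp _ _ _ _ _ _ inferInstance _ ?_
    exact inferInstance
  refine ⟨_, π, AmpleVan.isCoh_tensor (CurveDeg.isCoh_of_isFinLocFree (KFlatLib.isFinLocFree_freeMod q)) (AmpleVan.isCoh_invertible hQ), inferInstance,
    fun i hi => CdRed.subsingleton_free k S (AmpleVan.tw (CohB1.tensorPow M n)) q i ?_⟩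
  obtain ⟨o⟩ : Nonempty ((AmpleVan.tw (CohB1.tensorPow M n)).obj (Coh.structureModule S) ≅ CohB1.tensorPow M n) :=
    ⟨CurveTensor.structureTensorIso _⟩
  exact QCoh.subsingleton_HH_of_iso o.symm _ (hneg n (le_max_right _ _) i hi)

end Groth.Agent.S11377
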