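import Groth.Statements.S11393
import Mathlib.AlgebraicGeometry.Morphisms.Proper
import Mathlib.CategoryTheory.Limits.ConcreteCategory.Basic
import Mathlib.FieldTheory.IsAlgClosed.Basic
import Mathlib.RingTheory.Idempotents

set_option autoImplicit false
universe u
open CategoryTheory CategoryTheory.Limits AlgebraicGeometry TopologicalSpace
open Variety

namespace Groth.Agent.S11393

/-- Let X be proper over an algebraically closed field k and 𝓘 a quasi-coherent ideal whose closed
subscheme Y is connected (and nonempty); let Y_m be the closed subscheme of 𝓘^{m+1} and A = lim_m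
Γ(Y_m, O_{Y_m}) the ring of formal-regular functions along Y (global sections of the structure sheaf
of the formal completion), formed as the limit in commutative rings along the restriction maps
Γ(Y_{m+1}, O) → Γ(Y_m, O). Then A is a local ring, and every element a of A differs from the image
of some constant c ∈ k by an element whose image in each Γ(Y_m, O_{Y_m}) is nilpotent (so the
residue field of A is k through the structure map). (The published statement also asserts that A is
a complete local ring; that clause is not included here.) -/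
theorem result (k : Type u) [Field k] [IsAlgClosed k] (X : Scheme.{u})
    [X.Over (Spec (CommRingCat.of k))] [IsProper (X ↘ (Spec (CommRingCat.of k)))]
    (𝓘 : X.IdealSheafData) (hY : _root_.IsConnected (𝓘.support : Set X)) :
    IsLocalRing ↑(limit (Functor.ofOpSequence
        (X := fun m : ℕ => Γ((𝓘 ^ (m + 1)).subscheme, ⊤))
        (fun m : ℕ => (Scheme.IdealSheafData.inclusion (Lef.pow_succ_le 𝓘 m)).appTop))) ∧
      ∀ a : ↑(limit (Functor.ofOpSequence
        (X := fun m : ℕ => Γ((𝓘 ^ (m + 1)).subscheme, ⊤))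
        (fun m : ℕ => (Scheme.IdealSheafData.inclusion (Lef.pow_succ_le 𝓘 m)).appTop))),
        ∃ c : k, ∀ m : ℕ, IsNilpotent (Sub.sub (α := ↑Γ((𝓘 ^ (m + 1)).subscheme, ⊤))
          ((limit.π (Functor.ofOpSequence
              (X := fun m : ℕ => Γ((𝓘 ^ (m + 1)).subscheme, ⊤))
              (fun m : ℕ => (Scheme.IdealSheafData.inclusion (Lef.pow_succ_le 𝓘 m)).appTop)) (Opposite.op m)).hom a)
          (((𝓘 ^ (m + 1)).subschemeι ≫ (X ↘ Spec (CommRingCat.of k))).appTop.hom
            ((Scheme.ΓSpecIso (CommRingCat.of k)).inv.hom c))) := by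
  classical
  -- the thickenings
  let Y : ℕ → Scheme.{u} := fun m => (𝓘 ^ (m + 1)).subscheme
  let s : ∀ m, Y m ⟶ Spec (CommRingCat.of k) := fun m => (𝓘 ^ (m + 1)).subschemeι ≫ (X ↘ Spec (CommRingCat.of k))
  let ι₀ : ∀ m, k →+* Γ(Y m, ⊤) := fun m => (s m).appTop.hom.comp (Scheme.ΓSpecIso (CommRingCat.of k)).inv.hom
  have hconn : ∀ m, ConnectedSpace (Y m) := fun m => by
    have hr : _root_.IsConnected (Set.range (𝓘 ^ (m + 1)).subschemeι) := by
      rw [Scheme.IdealSheafData.range_subschemeι, Scheme.IdealSheafData.support_pow_succ]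
      exact hY
    haveI := isConnected_iff_connectedSpace.1 hr
    exact (Topology.IsEmbedding.toHomeomorph (𝓘 ^ (m + 1)).subschemeι.isEmbedding).symm.surjective.connectedSpace
      (Topology.IsEmbedding.toHomeomorph (𝓘 ^ (m + 1)).subschemeι.isEmbedding).symm.continuous
  have hint : ∀ m, (ι₀ m).IsIntegral := fun m => by
    haveI : IsProper (s m) := inferInstance
    exact RingHom.IsIntegral.trans _ _ (RingHom.isIntegral_of_surjective _
      (Scheme.ΓSpecIso (CommRingCat.of k)).symm.commRingCatIsoToRingEquiv.surjective)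
      (isIntegral_appTop_of_universallyClosed (s m))
  have hnt : ∀ m, Nontrivial Γ(Y m, ⊤) := fun m => by
    haveI := hconn m
    obtain ⟨y⟩ : Nonempty (Y m) := inferInstance
    exact ((Y m).presheaf.germ ⊤ y trivial).hom.domain_nontrivial
  -- idempotents are trivial
  have hidem : ∀ m (e : Γ(Y m, ⊤)), IsIdempotentElem e → e = 0 ∨ e = 1 := fun m e he => by
    haveI := hconn m
    have key : ∀ y : Y m, (Y m).presheaf.germ ⊤ y trivial e = 0 ∨ (Y m).presheaf.germ ⊤ y trivial e = 1 := fun y => by
      have h := he.map ((Y m).presheaf.germ ⊤ y trivial).hom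
      by_cases hu : IsUnit ((Y m).presheaf.germ ⊤ y trivial e)
      · exact Or.inr (hu.mul_eq_left.1 h.eq)
      · refine Or.inl ?_
        have hu' := (IsLocalRing.isUnit_or_isUnit_one_sub_self ((Y m).presheaf.germ ⊤ y trivial e)).resolve_left hu
        refine hu'.mul_left_eq_zero.1 ?_
        rw [mul_sub, mul_one, h.eq, sub_self]
    let A := (Y m).basicOpen e
    let B := (Y m).basicOpen (1 - e)
    have hcover : (A : Set (Y m)) ∪ (B : Set (Y m)) = Set.univ := Set.eq_univ_of_forall fun y => by
      rcases IsLocalRing.isUnit_or_isUnit_one_sub_self ((Y m).presheaf.germ ⊤ y trivial e) with h | h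
      · exact Or.inl ((Scheme.mem_basicOpen_top _ _ _).2 h)
      · refine Or.inr ((Scheme.mem_basicOpen_top _ _ _).2 ?_)
        change IsUnit ((Y m).presheaf.germ ⊤ y trivial (1 - e))
        rw [map_sub, map_one]
        exact h
    have hdisj : Disjoint (A : Set (Y m)) (B : Set (Y m)) := Set.disjoint_left.2 fun y hA hB => by
      have hA' : IsUnit ((Y m).presheaf.germ ⊤ y trivial e) := (Scheme.mem_basicOpen_top _ _ _).1 hA
      have hB' : IsUnit ((Y m).presheaf.germ ⊤ y trivial (1 - e)) := (Scheme.mem_basicOpen_top _ _ _).1 hB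
      rw [map_sub, map_one] at hB'
      rcases key y with h | h
      · exact not_isUnit_zero (h ▸ hA')
      · rw [h, sub_self] at hB'
        exact not_isUnit_zero hB'
    have hclopen : IsClopen (A : Set (Y m)) := ⟨by
      rw [← isOpen_compl_iff, show (A : Set (Y m))ᶜ = B from (IsCompl.of_eq
        (Set.disjoint_iff_inter_eq_empty.1 hdisj) hcover).compl_eq]
      exact B.2, A.2⟩
    rcases isClopen_iff.1 hclopen with h | h
    · refine Or.inl (TopCat.Presheaf.section_ext (Y m).sheaf ⊤ e 0 fun y _ => ?_)
      change (Y m).presheaf.germ ⊤ y trivial e = (Y m).presheaf.germ ⊤ y trivial 0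
      rw [map_zero]
      rcases key y with h0 | h0
      · exact h0
      · have : y ∈ (A : Set (Y m)) := (Scheme.mem_basicOpen_top _ _ _).2 (h0 ▸ isUnit_one)
        rw [h] at this
        exact this.elim
    · refine Or.inr (TopCat.Presheaf.section_ext (Y m).sheaf ⊤ e 1 fun y _ => ?_)
      change (Y m).presheaf.germ ⊤ y trivial e = (Y m).presheaf.germ ⊤ y trivial 1
      rw [map_one]
      rcases key y with h0 | h0
      · have : y ∈ (A : Set (Y m)) := by rw [h]; trivial
        have hu : IsUnit ((Y m).presheaf.germ ⊤ y trivial e) := (Scheme.mem_basicOpen_top _ _ _).1 this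
        exact absurd (h0 ▸ hu) not_isUnit_zero
      · exact h0
  -- a nonunit is nilpotent
  have hnil : ∀ m (a : Γ(Y m, ⊤)), ¬ IsUnit a → IsNilpotent a := fun m a hu => by
    letI := (ι₀ m).toAlgebra
    haveI := hnt m
    have ha : IsIntegral k a := hint m a
    obtain ⟨q, hpq, hq⟩ := Polynomial.exists_eq_pow_rootMultiplicity_mul_and_not_dvd (minpoly k a) (minpoly.ne_zero ha) 0
    rw [map_zero, sub_zero] at hpq hq
    have h0 : a ^ (minpoly k a).rootMultiplicity 0 * Polynomial.aeval a q = 0 := by
      have := minpoly.aeval k a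
      rw [hpq, map_mul, map_pow, Polynomial.aeval_X] at this
      exact this
    set n := (minpoly k a).rootMultiplicity 0
    obtain ⟨u, v, huv⟩ : IsCoprime (Polynomial.X ^ n) q :=
      IsCoprime.pow_left ((Polynomial.irreducible_X.coprime_iff_not_dvd).2 hq)
    have h1 : Polynomial.aeval a u * a ^ n + Polynomial.aeval a v * Polynomial.aeval a q = 1 := by
      have := congrArg (Polynomial.aeval a) huv
      rwa [map_add, map_mul, map_mul, map_pow, Polynomial.aeval_X, map_one] at this
    set U := Polynomial.aeval a u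
    set V := Polynomial.aeval a v
    set q' := Polynomial.aeval a q
    have hid : IsIdempotentElem (U * a ^ n) := by
      show U * a ^ n * (U * a ^ n) = U * a ^ n
      linear_combination (U * a ^ n) * h1 - U * V * h0
    rcases hidem m _ hid with h | h
    · rw [h, zero_add] at h1
      exact ⟨n, by linear_combination V * h0 - a ^ n * h1⟩
    · rcases Nat.eq_zero_or_pos n with hn | hn
      · exfalso
        rw [hn, pow_zero, one_mul] at h0
        refine hu ?_
        -- q(a) = 0 with q(0) ≠ 0
        have hc : q.coeff 0 ≠ 0 := fun hc => hq (Polynomial.X_dvd_iff.2 hc)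
        obtain ⟨r, hr⟩ : Polynomial.X ∣ q - Polynomial.C (q.coeff 0) := Polynomial.X_dvd_iff.2 (by simp)
        have h2 := congrArg (Polynomial.aeval a) hr
        rw [map_sub, map_mul, Polynomial.aeval_X, Polynomial.aeval_C, show Polynomial.aeval a q = 0 from h0, zero_sub] at h2
        have h3 : IsUnit (algebraMap k Γ(Y m, ⊤) (q.coeff 0)) := (isUnit_iff_ne_zero.2 hc).map _
        rw [← IsUnit.neg_iff, h2] at h3
        exact isUnit_of_mul_isUnit_left h3
      · exfalso
        refine hu (IsUnit.of_mul_eq_one (U * a ^ (n - 1)) ?_)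
        rw [mul_left_comm, ← pow_succ', show n - 1 + 1 = n by omega]
        exact h
  -- comparing the levels
  set F := Functor.ofOpSequence (X := fun m : ℕ => Γ((𝓘 ^ (m + 1)).subscheme, ⊤))
    (fun m : ℕ => (Scheme.IdealSheafData.inclusion (Lef.pow_succ_le 𝓘 m)).appTop) with hF
  have hunit : ∀ (x : ↑(limit F)) (m : ℕ), IsUnit ((limit.π F (Opposite.op m)).hom x) ↔
      IsUnit ((limit.π F (Opposite.op 0)).hom x) := fun x m => by
    have hw : (F.map (homOfLE (Nat.zero_le m)).op).hom ((limit.π F (Opposite.op m)).hom x) =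
        (limit.π F (Opposite.op 0)).hom x :=
      ConcreteCategory.congr_hom (limit.w F (homOfLE (Nat.zero_le m)).op) x
    rw [← hw]
    refine ⟨fun h => h.map _, fun h => by_contra fun hn => ?_⟩
    obtain ⟨j, hj⟩ := hnil m _ hn
    haveI : Nontrivial ↑(F.obj (Opposite.op 0)) := hnt 0
    have h0 : IsUnit ((F.map (homOfLE (Nat.zero_le m)).op).hom (((limit.π F (Opposite.op m)).hom x) ^ j)) := by
      rw [map_pow]
      exact h.pow j
    rw [show ((limit.π F (Opposite.op m)).hom x) ^ j = 0 from hj, map_zero] at h0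
    exact not_isUnit_zero h0
  have hlimunit : ∀ x : ↑(limit F), IsUnit ((limit.π F (Opposite.op 0)).hom x) → IsUnit x := fun x hx => by
    have hall : ∀ j : ℕᵒᵖ, IsUnit ((limit.π F j).hom x) := fun j => (hunit x j.unop).2 hx
    let v : ∀ j : ℕᵒᵖ, F.obj j := fun j => ↑((hall j).unit⁻¹)
    have hv : ∀ (i j : ℕᵒᵖ) (f : i ⟶ j), (F.map f).hom (v i) = v j := fun i j f => by
      refine (hall j).mul_left_cancel ?_
      have hw : (F.map f).hom ((limit.π F i).hom x) = (limit.π F j).hom x :=
        ConcreteCategory.congr_hom (limit.w F f) x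
      rw [IsUnit.mul_val_inv]
      conv_lhs => rw [← hw]
      rw [← map_mul, IsUnit.mul_val_inv, map_one]
    obtain ⟨(y : ↑(limit F)), hy, -⟩ := (Types.isLimit_iff _).1 ⟨isLimitOfPreserves (forget CommRingCat.{u}) (limit.isLimit F)⟩ v
      (fun {i j} f => hv i j f)
    refine IsUnit.of_mul_eq_one y (Concrete.limit_ext F _ _ fun j => ?_)
    change (limit.π F j).hom (x * y) = (limit.π F j).hom 1
    rw [map_mul, map_one, show (limit.π F j).hom y = v j from hy j]
    exact IsUnit.mul_val_inv _
  haveI : Nontrivial ↑(limit F) := by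
    haveI : Nontrivial ↑(F.obj (Opposite.op 0)) := hnt 0
    exact (limit.π F (Opposite.op 0)).hom.domain_nontrivial
  refine ⟨IsLocalRing.of_nonunits_add fun x y hx hy => ?_, fun a => ?_⟩
  · have hx0 : IsNilpotent ((limit.π F (Opposite.op 0)).hom x) := hnil 0 _ fun h => hx (hlimunit x h)
    have hy0 : IsNilpotent ((limit.π F (Opposite.op 0)).hom y) := hnil 0 _ fun h => hy (hlimunit y h)
    intro hxy
    have h := hxy.map (limit.π F (Opposite.op 0)).hom
    rw [map_add] at h
    haveI : Nontrivial ↑(F.obj (Opposite.op 0)) := hnt 0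
    exact ((Commute.all _ _).isNilpotent_add hx0 hy0).not_isUnit h
  · obtain ⟨c, hc⟩ : ∃ c : k, ¬ IsUnit ((limit.π F (Opposite.op 0)).hom a - (show ↑(F.obj (Opposite.op 0)) from ι₀ 0 c)) := by
      letI := (ι₀ 0).toAlgebra
      haveI := hnt 0
      let a0 : Γ(Y 0, ⊤) := (limit.π F (Opposite.op 0)).hom a
      have ha : IsIntegral k a0 := hint 0 a0
      obtain ⟨c, hc⟩ := IsAlgClosed.exists_root (minpoly k a0) (minpoly.degree_pos ha).ne'
      refine ⟨c, fun hu => ?_⟩
      obtain ⟨q, hq⟩ := Polynomial.dvd_iff_isRoot.2 hc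
      have h := minpoly.aeval k a0
      rw [hq, map_mul, map_sub, Polynomial.aeval_X, Polynomial.aeval_C] at h
      have hq0 : q ≠ 0 := fun h0 => minpoly.ne_zero ha (by rw [hq, h0, mul_zero])
      have h1 := Polynomial.natDegree_le_of_dvd (minpoly.dvd k a0 (hu.mul_right_eq_zero.1 h)) hq0
      have h2 := congrArg Polynomial.natDegree hq
      rw [Polynomial.natDegree_mul (Polynomial.X_sub_C_ne_zero c) hq0, Polynomial.natDegree_X_sub_C] at h2
      omega
    refine ⟨c, fun m => hnil m _ fun hu => hc ?_⟩
    have hw : (F.map (homOfLE (Nat.zero_le m)).op).hom ((limit.π F (Opposite.op m)).hom a) =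
        (limit.π F (Opposite.op 0)).hom a :=
      ConcreteCategory.congr_hom (limit.w F (homOfLE (Nat.zero_le m)).op) a
    have hcst : ∀ n : ℕ, (F.map (homOfLE (Nat.zero_le n)).op).hom (ι₀ n c) = ι₀ 0 c := fun n => by
      induction n with
      | zero =>
        rw [show (homOfLE (Nat.zero_le 0)).op = 𝟙 (Opposite.op 0) from rfl, F.map_id]
        rfl
      | succ n ih =>
        rw [show (homOfLE (Nat.zero_le (n + 1))).op = (homOfLE (Nat.le_succ n)).op ≫ (homOfLE (Nat.zero_le n)).op from rfl,
          F.map_comp, Functor.ofOpSequence_map_homOfLE_succ]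
        refine Eq.trans ?_ ih
        refine congrArg (F.map (homOfLE (Nat.zero_le n)).op).hom ?_
        change (Scheme.IdealSheafData.inclusion (Lef.pow_succ_le 𝓘 n)).appTop
          ((s (n + 1)).appTop ((Scheme.ΓSpecIso (CommRingCat.of k)).inv c)) =
          (s n).appTop ((Scheme.ΓSpecIso (CommRingCat.of k)).inv c)
        rw [← CommRingCat.comp_apply, ← Scheme.Hom.comp_appTop]
        congr 3
        show Scheme.IdealSheafData.inclusion _ ≫ (𝓘 ^ (n + 1 + 1)).subschemeι ≫ _ = _
        rw [← Category.assoc, Scheme.IdealSheafData.inclusion_subschemeι]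
    have h : IsUnit ((F.map (homOfLE (Nat.zero_le m)).op).hom
        ((limit.π F (Opposite.op m)).hom a - (show ↑(F.obj (Opposite.op m)) from ι₀ m c))) := IsUnit.map _ hu
    rw [map_sub, hw, hcst] at h
    exact h

end Groth.Agent.S11393
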