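import Groth.Statements.S11397
import Groth.Agent.Chevalley.CommAff.Finite
import Groth.Agent.Chevalley.BC.GenQuot
import Groth.Agent.EtFound.Descent
-- import your own Groth.Agent.* helpers here

set_option autoImplicit false
set_option backward.isDefEq.respectTransparency false
set_option maxHeartbeats 1000000
set_option linter.style.haveILetI false
universe u
open CategoryTheory MonoidalCategory CartesianMonoidalCategory MonObj GrpObj AlgebraicGeometry CategoryTheory.Limits
open AlgGrp

namespace Groth.Agent.S11397

/-- Over an algebraically closed field k, let G be an algebraic group (a smooth k-group scheme of finite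
type) which is not proper over k. Then G has a smooth closed subgroup scheme which is affine and of
positive dimension. -/
theorem result (k : Type u) [Field k] [IsAlgClosed k]
    (G : Over (Spec (CommRingCat.of k))) [GrpObj G] [Smooth G.hom] [QuasiCompact G.hom] (hG : ¬ IsProper G.hom) :
    ∃ (H : Over (Spec (CommRingCat.of k))) (_ : GrpObj H) (j : H ⟶ G), IsMonHom j ∧ IsClosedImmersion j.left ∧
      Smooth H.hom ∧ IsAffine H.left ∧ 0 < topologicalKrullDim ↥H.left := by
  haveI := GrpSchLib.AntiAffine.isSeparated_grp G
  obtain ⟨N, _, i, Q, _, q, ⟨hi, hic, -, hNa, hq, hqs, hqf, hk, hQp⟩, -, -⟩ := Chevalley.BC.exists_smallest_quot G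
  haveI := hi; haveI := hic; haveI : IsAffine N.left := hNa
  haveI := hq; haveI := hqs; haveI := hqf; haveI := hQp
  haveI : LocallyOfFiniteType N.hom := by rw [← Over.w i]; infer_instance
  haveI : QuasiCompact N.hom := inferInstance
  obtain ⟨N₀, _, c, hc, hcc, hs, hqc, hconn, hcr⟩ := Chevalley.BC.exists_comp N
  haveI := hc; haveI := hcc; haveI := hs; haveI := hqc; haveI := hconn
  haveI : IsAffine N₀.left := isAffine_of_isAffineHom c.left
  refine ⟨N₀, inferInstance, c ≫ i, inferInstance, inferInstanceAs (IsClosedImmersion (c.left ≫ i.left)), hs,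
    inferInstance, ?_⟩
  obtain ⟨n, hn⟩ := Chevalley.CommAff.exists_nat_dim N₀
  rcases Nat.eq_zero_or_pos n with h0 | h0
  · exfalso
    rw [h0] at hn
    haveI := Chevalley.CommAff.subsingleton_of_dim_zero N₀ hn
    haveI : IsFinite N₀.hom := by
      haveI := GrpSchLib.isReduced_of_smooth_field N₀.hom
      exact isFinite_iff_locallyOfFiniteType_of_jacobsonSpace.mpr inferInstance
    haveI : IsFinite N.hom := Chevalley.BC.isFinite_of_comp c hcr
    haveI : IsFinite (snd N G).left := MorphismProperty.pullback_snd (P := @IsFinite) _ _ inferInstance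
    have hp := (Chevalley.BC.isPullback_translate (G := G) i q hk).map (Over.forget (Spec (CommRingCat.of k)))
    haveI : QuasiCompact q.left := by
      haveI : QuasiCompact (q.left ≫ Q.hom) := by rw [Over.w q]; infer_instance
      exact QuasiCompact.of_comp q.left Q.hom
    have hdesc : MorphismProperty.DescendsAlong @IsFinite (@Surjective ⊓ @Flat ⊓ @QuasiCompact : MorphismProperty Scheme.{u}) :=
      EtFound.fpqc_isFinite
    haveI : IsFinite q.left := MorphismProperty.of_isPullback_of_descendsAlong (P := @IsFinite)
      (Q := @Surjective ⊓ @Flat ⊓ @QuasiCompact) hp.flip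
      ⟨⟨(inferInstance : Surjective q.left), (inferInstance : Flat q.left)⟩, (inferInstance : QuasiCompact q.left)⟩
      (show IsFinite (snd N G).left from inferInstance)
    apply hG
    rw [← Over.w q]
    infer_instance
  · rw [hn]
    exact_mod_cast h0

end Groth.Agent.S11397
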