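import Groth.Statements.S11398
import Groth.Agent.LargeNormal.Basic
import Groth.Agent.GrpSchLib.QuotAffine
-- import your own Groth.Agent.* helpers here

set_option autoImplicit false
universe u
open CategoryTheory MonoidalCategory CartesianMonoidalCategory MonObj GrpObj AlgebraicGeometry CategoryTheory.Limits
open AlgGrp

namespace Groth.Agent.S11398

/-- Over an algebraically closed field k, every algebraic group G (a smooth k-group scheme of finite
type) has a largest connected affine normal algebraic subgroup G_aff: a homomorphism and closed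
immersion i : N → G from a smooth, connected, affine k-group scheme, normal in G, through which
every other such subgroup factors. Moreover the quotient G/G_aff has trivial G_aff: for every flat
surjective homomorphism q : G → Q of k-group schemes of finite type with kernel i, every smooth
connected affine normal closed subgroup of Q is the trivial group. -/
theorem result (k : Type u) [Field k] [IsAlgClosed k]
    (G : Over (Spec (CommRingCat.of k))) [GrpObj G] [Smooth G.hom] [QuasiCompact G.hom] :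
    ∃ (N : Over (Spec (CommRingCat.of k))) (_ : GrpObj N) (i : N ⟶ G), (IsMonHom i ∧ IsClosedImmersion i.left ∧ Smooth N.hom ∧
      ConnectedSpace ↥N.left ∧ IsAffine N.left ∧ AlgGrp.IsNormalHom i) ∧
      (∀ (N' : Over (Spec (CommRingCat.of k))) [GrpObj N'] (i' : N' ⟶ G) [IsMonHom i'] [IsClosedImmersion i'.left]
        [Smooth N'.hom] [ConnectedSpace ↥N'.left] [IsAffine N'.left], AlgGrp.IsNormalHom i' → ∃ f : N' ⟶ N, f ≫ i = i') ∧
      (∀ (Q : Over (Spec (CommRingCat.of k))) [GrpObj Q] [LocallyOfFiniteType Q.hom] [QuasiCompact Q.hom] (q : G ⟶ Q) [IsMonHom q]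
        [Surjective q.left] [Flat q.left], AlgGrp.IsKernel i q →
        ∀ (N'' : Over (Spec (CommRingCat.of k))) [GrpObj N''] (i'' : N'' ⟶ Q) [IsMonHom i''] [IsClosedImmersion i''.left]
          [Smooth N''.hom] [ConnectedSpace ↥N''.left] [IsAffine N''.left], AlgGrp.IsNormalHom i'' → IsIso N''.hom) := by
  haveI := GrpSchLib.AntiAffine.isSeparated_grp G
  haveI : IsClosedImmersion η[G].left := by
    haveI : IsClosedImmersion (η[G].left ≫ G.hom) := by
      rw [Over.w η[G]]; exact inferInstanceAs (IsClosedImmersion (𝟙 (Spec (CommRingCat.of k))))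
    exact IsClosedImmersion.of_comp η[G].left G.hom
  let U : Over (Spec (CommRingCat.of k)) := 𝟙_ _
  have hU : IsMonHom (η[G] : U ⟶ G) := by
    refine ⟨?_, ?_⟩
    · show η[U] ≫ η[G] = η[G]
      rw [toUnit_unique η[U] (𝟙 _), Category.id_comp]
    · show μ[U] ≫ η[G] = (η[G] ⊗ₘ η[G]) ≫ μ[G]
      rw [show (η[G] : U ⟶ G) = 1 from MonObj.one_eq_one (M := G), MonObj.comp_one,
        ← CartesianMonoidalCategory.lift_fst_comp_snd_comp, ← Hom.mul_def, MonObj.comp_one, MonObj.comp_one,
        _root_.mul_one]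
  have hUn : AlgGrp.IsNormalHom (η[G] : U ⟶ G) := fun T g n => ⟨toUnit T, by
    rw [toUnit_unique n (toUnit T)]
    show g * (1 : T ⟶ G) * g⁻¹ = (1 : T ⟶ G)
    rw [_root_.mul_one, mul_inv_cancel]⟩
  obtain ⟨N, hN, i, hi, hmax, hquot⟩ := LargeNormal.exists_largest
    (P := fun E _ => IsAffine E.left)
    (hPa := fun N E Q _ _ _ _ _ _ _ _ _ i q _ _ _ _ hk _ hN hQ => (S7982.result k N E Q i q hk).1 hN hQ)
    (hPb := fun E Q _ _ _ _ _ _ q _ _ _ hE => GrpSchLib.isAffine_of_quotient q) (G := G)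
    ⟨U, inferInstance, η[G], ⟨hU, ‹_›, inferInstanceAs (Smooth (𝟙 (Spec (CommRingCat.of k)))),
      (inferInstanceAs (ConnectedSpace ↥(Spec (CommRingCat.of k)))), hUn,
      inferInstanceAs (IsAffine (Spec (CommRingCat.of k)))⟩⟩
  refine ⟨N, hN, i, ⟨hi.hom, hi.closed, hi.smooth, hi.conn, hi.prop, hi.normal⟩,
    fun N' _ i' _ _ _ _ _ hn => hmax N' i' ⟨‹_›, ‹_›, ‹_›, ‹_›, hn, ‹_›⟩, ?_⟩
  intro Q _ _ _ q _ _ _ hk N'' _ i'' _ _ _ _ _ hn
  haveI := hquot Q q hk N'' i'' ⟨‹_›, ‹_›, ‹_›, ‹_›, hn, ‹_›⟩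
  haveI : IsIso (η[N''] : 𝟙_ _ ⟶ N'').left := ((Over.forget _).mapIso (asIso η[N''])).isIso_hom
  have h : η[N''].left ≫ N''.hom = 𝟙 _ := Over.w η[N'']
  exact IsIso.of_isIso_fac_left h

end Groth.Agent.S11398
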