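import Groth.Statements.S11400
import Groth.Agent.Chevalley.BC.AffLib
-- import your own Groth.Agent.* helpers here

set_option autoImplicit false
set_option backward.isDefEq.respectTransparency false
set_option maxHeartbeats 1000000
set_option linter.style.haveILetI false
universe u
open CategoryTheory MonoidalCategory CartesianMonoidalCategory MonObj GrpObj AlgebraicGeometry CategoryTheory.Limits
open AlgGrp

namespace Groth.Agent.S11400

/-- Over an algebraically closed field k, let G be a connected algebraic group (smooth k-group scheme of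
finite type), let i : N → G be its largest connected affine normal algebraic subgroup G_aff (a
homomorphism and closed immersion from a smooth, connected, affine k-group scheme, normal in G,
through which every other such subgroup factors), and let j : Z → G be the scheme-theoretic centre
of G. Then G = Z · G_aff, in the sense that the multiplication morphism Z × G_aff → G is surjective,
and G is commutative exactly when G_aff is. (The published statement also gives G = Z⁰_red · G_aff
and identifies the scheme-theoretic intersection Z ∩ G_aff with the centre of G_aff; those clauses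
are not stated here.) -/
theorem result (k : Type u) [Field k] [IsAlgClosed k]
    (G : Over (Spec (CommRingCat.of k))) [GrpObj G] [Smooth G.hom] [QuasiCompact G.hom] [ConnectedSpace ↥G.left]
    (N : Over (Spec (CommRingCat.of k))) [GrpObj N] (i : N ⟶ G) [IsMonHom i] [IsClosedImmersion i.left]
    [Smooth N.hom] [ConnectedSpace ↥N.left] [IsAffine N.left] (hN : AlgGrp.IsNormalHom i)
    (hNmax : ∀ (N' : Over (Spec (CommRingCat.of k))) [GrpObj N'] (i' : N' ⟶ G) [IsMonHom i'] [IsClosedImmersion i'.left]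
      [Smooth N'.hom] [ConnectedSpace ↥N'.left] [IsAffine N'.left], AlgGrp.IsNormalHom i' → ∃ f : N' ⟶ N, f ≫ i = i')
    (Z : Over (Spec (CommRingCat.of k))) [GrpObj Z] (j : Z ⟶ G) (hZ : Red.IsCentre j) :
    Surjective ((j ⊗ₘ i) ≫ μ[G]).left ∧ (IsCommMonObj G ↔ IsCommMonObj N) := by
  haveI := GrpSchLib.AntiAffine.isSeparated_grp G
  obtain ⟨Q, _, q, hq, hqs, hqf, hk, hQp, -, -⟩ := Chevalley.BC.exists_quot_of_max i hNmax
  haveI := hq; haveI := hqs; haveI := hqf; haveI := hQp
  obtain ⟨Z', _, j', hj', hjc', hZ', I, _, p, hp, hI, hIl, hIq, hpf, hps, hkp⟩ := GrpSchLib.Adjoint.exists_centre_quot G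
  haveI := hj'; haveI := hp; haveI := hI; haveI := hIl; haveI := hIq; haveI := hpf; haveI := hps
  haveI := Chevalley.BC.surjective_comp_affine i hN q hk p
  haveI hs' := Chevalley.BC.surjective_mul_of_kernel i p j' hkp
  have hcen : ∀ (T : Over (Spec (CommRingCat.of k))) (z : T ⟶ Z') (g : T ⟶ G), (z ≫ j') * g = g * (z ≫ j') :=
    fun T z g => by simpa using (hZ'.2.2 T (z ≫ j')).mp ⟨z, rfl⟩ T (𝟙 T) g
  refine ⟨?_, fun hG => ?_, fun hN' => ?_⟩
  · obtain ⟨z, hz⟩ := (hZ.2.2 Z' j').mpr fun X' x h => by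
      simpa [Category.assoc] using hcen X' x h
    haveI : Surjective ((z ▷ N).left ≫ ((j ⊗ₘ i) ≫ μ[G]).left) := by
      rw [← Over.comp_left, show (z ▷ N) ≫ (j ⊗ₘ i) ≫ μ[G] = (j' ⊗ₘ i) ≫ μ[G] by
        rw [← Category.assoc, ← MonoidalCategory.tensorHom_id, MonoidalCategory.tensorHom_comp_tensorHom, hz,
          Category.id_comp]]
      exact hs'
    exact Surjective.of_comp (z ▷ N).left ((j ⊗ₘ i) ≫ μ[G]).left
  · haveI := hG
    haveI : Mono i := Over.mono_of_mono_left _
    exact Chevalley.BC.isCommMonObj_of_mono i fun T a b => mul_comm _ _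
  · haveI := hN'
    haveI : LocallyOfFiniteType N.hom := inferInstance
    let m := (j' ⊗ₘ i) ≫ μ[G]
    haveI : Surjective m.left := hs'
    haveI : IsClosedImmersion j'.left := hjc'
    haveI : LocallyOfFiniteType Z'.hom := by rw [← Over.w j']; infer_instance
    haveI : LocallyOfFiniteType (Z' ⊗ N).hom := inferInstanceAs (LocallyOfFiniteType (pullback.fst Z'.hom N.hom ≫ Z'.hom))
    haveI : LocallyOfFiniteType (G ⊗ G).hom := inferInstanceAs (LocallyOfFiniteType (pullback.fst G.hom G.hom ≫ G.hom))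
    haveI : Smooth (G ⊗ G).hom := inferInstanceAs (Smooth (pullback.fst G.hom G.hom ≫ G.hom))
    haveI : AlgebraicGeometry.IsReduced (G ⊗ G).left := GrpSchLib.isReduced_of_smooth_field (G ⊗ G).hom
    haveI : JacobsonSpace (Z' ⊗ N).left := LocallyOfFiniteType.jacobsonSpace (Z' ⊗ N).hom
    have hlift : ∀ t : 𝟙_ (Over (Spec (CommRingCat.of k))) ⟶ G, ∃ (z : 𝟙_ _ ⟶ Z') (n : 𝟙_ _ ⟶ N),
        t = (z ≫ j') * (n ≫ i) := by
      intro t
      haveI : Subsingleton ↥(Spec (CommRingCat.of k)) := inferInstanceAs (Subsingleton (PrimeSpectrum k))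
      haveI : IsClosedImmersion t.left := by
        haveI : IsClosedImmersion (t.left ≫ G.hom) := by
          rw [Over.w t]; exact inferInstanceAs (IsClosedImmersion (𝟙 (Spec (CommRingCat.of k))))
        exact IsClosedImmersion.of_comp t.left G.hom
      have hc : IsClosed (m.left ⁻¹' Set.range t.left) := t.left.isClosedEmbedding.isClosed_range.preimage m.left.continuous
      obtain ⟨x, hx⟩ := m.left.surjective (t.left (IsLocalRing.closedPoint k))
      obtain ⟨c, hc, hcc⟩ := nonempty_inter_closedPoints (X := (Z' ⊗ N).left)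
        (Z := m.left ⁻¹' Set.range t.left) ⟨x, ⟨_, hx.symm⟩⟩ hc.isLocallyClosed
      obtain ⟨w, hw⟩ := hc
      let y : 𝟙_ (Over (Spec (CommRingCat.of k))) ⟶ Z' ⊗ N :=
        Over.homMk (pointOfClosedPoint (Z' ⊗ N).hom c hcc) (pointOfClosedPoint_comp _ c hcc)
      refine ⟨y ≫ fst _ _, y ≫ snd _ _, ?_⟩
      have e : y ≫ m = t := Over.OverMorphism.ext (ext_of_apply_closedPoint_eq G.hom (Over.w (y ≫ m)) (Over.w t) (by
        refine (congrArg m.left (pointOfClosedPoint_apply (Z' ⊗ N).hom c hcc _)).trans (hw.symm.trans ?_)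
        exact congrArg t.left (Subsingleton.elim (α := ↥(Spec (CommRingCat.of k))) _ _)))
      rw [← e]
      show y ≫ (j' ⊗ₘ i) ≫ μ[G] = _
      rw [Hom.mul_def, ← lift_map, Category.assoc,
        show lift (y ≫ fst Z' N) (y ≫ snd Z' N) = y by rw [← comp_lift, lift_fst_snd, Category.comp_id]]
    refine ⟨?_⟩
    haveI : IsSeparated G.hom := inferInstance
    haveI : LocallyOfFiniteType (((β_ G G).hom ≫ μ[G]).left ≫ G.hom) := by rw [Over.w]; infer_instance
    haveI : JacobsonSpace (G ⊗ G).left := LocallyOfFiniteType.jacobsonSpace (G ⊗ G).hom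
    refine Over.OverMorphism.ext (ext_of_apply_eq G.hom Set.univ isClosed_univ.isLocallyClosed dense_univ ?_
      (by rw [Over.w, Over.w]))
    intro x _ hx
    let t : 𝟙_ (Over (Spec (CommRingCat.of k))) ⟶ G ⊗ G :=
      Over.homMk (pointOfClosedPoint (G ⊗ G).hom x hx) (pointOfClosedPoint_comp _ x hx)
    have htx : t.left (IsLocalRing.closedPoint k) = x := pointOfClosedPoint_apply _ x hx _
    rw [← htx, ← Scheme.Hom.comp_apply, ← Scheme.Hom.comp_apply, ← Over.comp_left, ← Over.comp_left]
    refine congrArg (fun f : 𝟙_ (Over (Spec (CommRingCat.of k))) ⟶ G => f.left (IsLocalRing.closedPoint k)) ?_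
    have e : μ[G] = fst G G * snd G G := by rw [Hom.mul_def, lift_fst_snd, Category.id_comp]
    rw [e, MonObj.comp_mul (β_ G G).hom, braiding_hom_fst, braiding_hom_snd, MonObj.comp_mul, MonObj.comp_mul]
    obtain ⟨z₁, n₁, h₁⟩ := hlift (t ≫ fst G G)
    obtain ⟨z₂, n₂, h₂⟩ := hlift (t ≫ snd G G)
    rw [h₁, h₂]
    have hnn : (n₂ ≫ i) * (n₁ ≫ i) = (n₁ ≫ i) * (n₂ ≫ i) := by
      rw [← MonObj.mul_comp, ← MonObj.mul_comp, mul_comm]
    rw [_root_.mul_assoc, ← _root_.mul_assoc (n₂ ≫ i), ← hcen _ z₁, _root_.mul_assoc, hnn, ← _root_.mul_assoc,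
      ← _root_.mul_assoc, hcen _ z₂, _root_.mul_assoc (z₁ ≫ j'), hcen _ z₂, ← _root_.mul_assoc]
    exact _root_.mul_assoc _ _ _

end Groth.Agent.S11400
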