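import Groth.Statements.S11402
import Groth.Agent.AffToProper.Basic
-- import your own Groth.Agent.* helpers here

set_option autoImplicit false
universe u
open CategoryTheory MonoidalCategory CartesianMonoidalCategory MonObj GrpObj AlgebraicGeometry CategoryTheory.Limits
open AlgGrp

namespace Groth.Agent.S11402

/-- Over an algebraically closed field k, let G be a connected algebraic group (smooth k-group scheme of
finite type), let i : N → G be its largest connected affine normal algebraic subgroup G_aff (a
homomorphism and closed immersion from a smooth, connected, affine k-group scheme, normal in G,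
through which every other such subgroup factors), and let α : G → A be a flat surjective
homomorphism with kernel i onto a proper smooth k-group scheme A (so A = G/G_aff is an abelian
variety). Then α is the Albanese morphism of G: every k-morphism (not necessarily a homomorphism)
from G to an abelian variety B (a proper, smooth, connected k-group scheme) factors uniquely through
α. -/
theorem result (k : Type u) [Field k] [IsAlgClosed k]
    (G : Over (Spec (CommRingCat.of k))) [GrpObj G] [Smooth G.hom] [QuasiCompact G.hom] [ConnectedSpace ↥G.left]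
    (N : Over (Spec (CommRingCat.of k))) [GrpObj N] (i : N ⟶ G) [IsMonHom i] [IsClosedImmersion i.left]
    [Smooth N.hom] [ConnectedSpace ↥N.left] [IsAffine N.left] (hN : AlgGrp.IsNormalHom i)
    (hNmax : ∀ (N' : Over (Spec (CommRingCat.of k))) [GrpObj N'] (i' : N' ⟶ G) [IsMonHom i'] [IsClosedImmersion i'.left]
      [Smooth N'.hom] [ConnectedSpace ↥N'.left] [IsAffine N'.left], AlgGrp.IsNormalHom i' → ∃ f : N' ⟶ N, f ≫ i = i')
    (A : Over (Spec (CommRingCat.of k))) [GrpObj A] [IsProper A.hom] [Smooth A.hom] (α : G ⟶ A) [IsMonHom α]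
    [Surjective α.left] [Flat α.left] (hker : AlgGrp.IsKernel i α)
    (B : Over (Spec (CommRingCat.of k))) [GrpObj B] [IsProper B.hom] [Smooth B.hom] [ConnectedSpace ↥B.left] (f : G ⟶ B) :
    ∃! g : A ⟶ B, α ≫ g = f := by
  haveI : QuasiCompact N.hom := quasiCompact_iff_compactSpace N.hom |>.mpr inferInstance
  haveI := AlbQuotLib.geometricallyIntegral G
  haveI := AlbQuotLib.geometricallyIntegral B
  haveI := GrpSchLib.AntiAffine.isSeparated_grp G
  let c : 𝟙_ (Over (Spec (CommRingCat.of k))) ⟶ B := η[G] ≫ f
  let f' : G ⟶ B := f * (toUnit G ≫ c)⁻¹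
  have hf' : η[G] ≫ f' = η[B] := by
    simp only [f', c, MonObj.comp_mul, GrpObj.comp_inv, ← Category.assoc]
    rw [toUnit_unique (η[G] ≫ toUnit G) (𝟙 _), Category.id_comp]
    exact (mul_inv_cancel _).trans (MonObj.one_eq_one (M := B)).symm
  haveI : IsMonHom f' := S11994.result k G B f' hf'
  haveI : IsMonHom (i ≫ f') := inferInstance
  have hkill : i ≫ f' = 1 := AffToProper.eq_one (i ≫ f')
  have hcov := GrpSchLib.NilpQuot.cover_of_lft α
  obtain ⟨g', hg', -⟩ := hcov.hasLocSec.existsUnique_desc f' fun T a b hab => by
    have h1 : (a⁻¹ * b) ≫ α = 1 := by rw [MonObj.mul_comp, GrpObj.inv_comp, hab, inv_mul_cancel]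
    have h2 := congrArg (· ≫ f') (hker.lift_fst (a⁻¹ * b) (toUnit _) h1)
    simp only [Category.assoc, hkill, MonObj.comp_one, MonObj.mul_comp, GrpObj.inv_comp] at h2
    exact inv_mul_eq_one.mp h2.symm
  refine ⟨g' * (toUnit A ≫ c), ?_, fun g hg => hcov.hasLocSec.hom_ext ?_⟩
  · show α ≫ (g' * (toUnit A ≫ c)) = f
    rw [MonObj.comp_mul, hg', ← Category.assoc, toUnit_unique (α ≫ toUnit A) (toUnit G)]
    exact inv_mul_cancel_right f _
  · rw [hg, MonObj.comp_mul, hg', ← Category.assoc, toUnit_unique (α ≫ toUnit A) (toUnit G)]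
    exact (inv_mul_cancel_right f _).symm

end Groth.Agent.S11402
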