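import Groth.Statements.S11403
import Groth.Agent.Chevalley.BC.AffLib
import Groth.Agent.S14582
-- import your own Groth.Agent.* helpers here

set_option autoImplicit false
set_option backward.isDefEq.respectTransparency false
set_option maxHeartbeats 1000000
set_option linter.style.haveILetI false
universe u
open CategoryTheory MonoidalCategory CartesianMonoidalCategory MonObj GrpObj AlgebraicGeometry CategoryTheory.Limits
open AlgGrp

namespace Groth.Agent.S11403

/-- Over an algebraically closed field k, let G be a connected algebraic group (smooth k-group scheme of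
finite type), let i : N → G be its largest connected affine normal algebraic subgroup G_aff (a
homomorphism and closed immersion from a smooth, connected, affine k-group scheme, normal in G,
through which every other such subgroup factors), and let j : M → G be its largest anti-affine
subgroup scheme G_ant (a homomorphism and closed immersion from a k-group scheme M whose only global
functions are the constants, through which every other such subgroup scheme factors). Then G = G_aff
· G_ant, in the sense that the multiplication morphism G_aff × G_ant → G is surjective, and G_ant is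
the smallest closed subgroup scheme H of G with G = G_aff · H: every such H contains G_ant. (The
published statement adds that the scheme-theoretic intersection of G_aff and G_ant contains
(G_ant)_aff as a normal subgroup of finite index; that clause is not stated here.) -/
theorem result (k : Type u) [Field k] [IsAlgClosed k]
    (G : Over (Spec (CommRingCat.of k))) [GrpObj G] [Smooth G.hom] [QuasiCompact G.hom] [ConnectedSpace ↥G.left]
    (N : Over (Spec (CommRingCat.of k))) [GrpObj N] (i : N ⟶ G) [IsMonHom i] [IsClosedImmersion i.left]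
    [Smooth N.hom] [ConnectedSpace ↥N.left] [IsAffine N.left] (hN : AlgGrp.IsNormalHom i)
    (hNmax : ∀ (N' : Over (Spec (CommRingCat.of k))) [GrpObj N'] (i' : N' ⟶ G) [IsMonHom i'] [IsClosedImmersion i'.left]
      [Smooth N'.hom] [ConnectedSpace ↥N'.left] [IsAffine N'.left], AlgGrp.IsNormalHom i' → ∃ f : N' ⟶ N, f ≫ i = i')
    (M : Over (Spec (CommRingCat.of k))) [GrpObj M] (j : M ⟶ G) [IsMonHom j] [IsClosedImmersion j.left]
    (hM : Function.Bijective ((Scheme.ΓSpecIso (CommRingCat.of k)).inv ≫ M.hom.appTop).hom)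
    (hMmax : ∀ (M' : Over (Spec (CommRingCat.of k))) [GrpObj M'] (j' : M' ⟶ G) [IsMonHom j'] [IsClosedImmersion j'.left],
      Function.Bijective ((Scheme.ΓSpecIso (CommRingCat.of k)).inv ≫ M'.hom.appTop).hom → ∃ f : M' ⟶ M, f ≫ j = j') :
    Surjective ((i ⊗ₘ j) ≫ μ[G]).left ∧
      ∀ (H : Over (Spec (CommRingCat.of k))) [GrpObj H] (h : H ⟶ G) [IsMonHom h] [IsClosedImmersion h.left],
        Surjective ((i ⊗ₘ h) ≫ μ[G]).left → ∃ f : M ⟶ H, f ≫ h = j := by
  obtain ⟨Q, _, q, hq, hqs, hqf, hk, hQp, -, -⟩ := Chevalley.BC.exists_quot_of_max i hNmax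
  haveI := hq; haveI := hqs; haveI := hqf; haveI := hQp
  haveI : LocallyOfFiniteType M.hom := by rw [← Over.w j]; infer_instance
  haveI : QuasiCompact M.hom := by rw [← Over.w j]; infer_instance
  obtain ⟨h1, h2⟩ := S14582.result k G N i hN Q q hk M j hM fun M' _ _ _ j' _ _ h => hMmax M' j' h
  refine ⟨h1, fun H _ h _ _ hs => h2 H h ?_⟩
  haveI := hs
  have e : (h ⊗ₘ i) ≫ μ[G] = ((𝟙 H)⁻¹ ⊗ₘ (𝟙 N)⁻¹) ≫ (β_ H N).hom ≫ ((i ⊗ₘ h) ≫ μ[G]) ≫ (𝟙 G)⁻¹ := by
    simp only [← lift_fst_comp_snd_comp, ← Hom.mul_def, GrpObj.comp_inv, Category.comp_id, MonObj.comp_mul,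
      GrpObj.inv_comp, ← Category.assoc, braiding_hom_fst, braiding_hom_snd, _root_.mul_inv_rev, tensorHom_fst, tensorHom_snd,
      Category.id_comp, _root_.inv_inv, lift_fst, lift_snd]
  haveI : IsIso (𝟙 G : G ⟶ G)⁻¹ := ⟨(𝟙 G)⁻¹, by rw [GrpObj.comp_inv, Category.comp_id, _root_.inv_inv],
    by rw [GrpObj.comp_inv, Category.comp_id, _root_.inv_inv]⟩
  haveI : IsIso (𝟙 H : H ⟶ H)⁻¹ := ⟨(𝟙 H)⁻¹, by rw [GrpObj.comp_inv, Category.comp_id, _root_.inv_inv],
    by rw [GrpObj.comp_inv, Category.comp_id, _root_.inv_inv]⟩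
  haveI : IsIso (𝟙 N : N ⟶ N)⁻¹ := ⟨(𝟙 N)⁻¹, by rw [GrpObj.comp_inv, Category.comp_id, _root_.inv_inv],
    by rw [GrpObj.comp_inv, Category.comp_id, _root_.inv_inv]⟩
  haveI : IsIso ((𝟙 G : G ⟶ G)⁻¹).left := ((Over.forget _).mapIso (asIso (𝟙 G : G ⟶ G)⁻¹)).isIso_hom
  haveI : IsIso (((𝟙 H : H ⟶ H)⁻¹ ⊗ₘ (𝟙 N : N ⟶ N)⁻¹)).left :=
    ((Over.forget _).mapIso (asIso ((𝟙 H : H ⟶ H)⁻¹ ⊗ₘ (𝟙 N : N ⟶ N)⁻¹))).isIso_hom
  haveI : IsIso (β_ H N).hom.left := ((Over.forget _).mapIso (β_ H N)).isIso_hom
  rw [e, Over.comp_left, Over.comp_left, Over.comp_left]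
  infer_instance

end Groth.Agent.S11403
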