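import Groth.Statements.S11407
import Groth.Agent.Chevalley.CommAff.SemiAb
import Groth.Agent.H23.CubeField
-- import your own Groth.Agent.* helpers here

set_option autoImplicit false
set_option backward.isDefEq.respectTransparency false
set_option maxHeartbeats 1000000
set_option linter.style.haveILetI false
universe u
open CategoryTheory MonoidalCategory CartesianMonoidalCategory MonObj GrpObj AlgebraicGeometry CategoryTheory.Limits
open AlgGrp

namespace Groth.Agent.S11407

/-- Over an algebraically closed field k of characteristic p > 0, let G be a connected commutative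
algebraic group (smooth k-group scheme of finite type) which is an extension of an abelian variety A
(a proper, smooth, connected k-group scheme) by a connected unipotent algebraic group U: i : U → G
is a homomorphism and closed immersion from a smooth, connected, affine k-group scheme containing no
non-trivial subtorus (for smooth connected affine groups over an algebraically closed field this is
unipotency), and α : G → A is a flat surjective homomorphism with kernel i. Then the only global
functions on G are the constants if and only if U is the trivial group. -/
theorem result (k : Type u) [Field k] [IsAlgClosed k]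
    (p : ℕ) [Fact p.Prime] [CharP k p]
    (G : Over (Spec (CommRingCat.of k))) [GrpObj G] [Smooth G.hom] [QuasiCompact G.hom] [ConnectedSpace ↥G.left] [IsCommMonObj G]
    (U : Over (Spec (CommRingCat.of k))) [GrpObj U] (i : U ⟶ G) [IsMonHom i] [IsClosedImmersion i.left]
    [Smooth U.hom] [ConnectedSpace ↥U.left] [IsAffine U.left] (hU : Red.HasNoSubtorus k U)
    (A : Over (Spec (CommRingCat.of k))) [GrpObj A] [IsProper A.hom] [Smooth A.hom] [ConnectedSpace ↥A.left]
    (α : G ⟶ A) [IsMonHom α] [Surjective α.left] [Flat α.left] (hker : AlgGrp.IsKernel i α) :
    Function.Bijective ((Scheme.ΓSpecIso (CommRingCat.of k)).inv ≫ G.hom.appTop).hom ↔ IsIso U.hom := by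
  haveI := GrpSchLib.AntiAffine.isSeparated_grp G
  rw [GrpSchLib.AntiAffine.bijective_appTop_iff]
  haveI := Chevalley.CommAff.isCommMonObj_sub i
  constructor
  · intro hG
    obtain ⟨T, _, iT, hiT, hiTc, hT, -, hpow⟩ := Chevalley.CommAff.exists_maxTorus U
    obtain ⟨n, t, hn, ht⟩ := hpow p
    haveI := hiT; haveI := hiTc
    haveI : Mono iT := Over.mono_of_mono_left _
    have hT1 : t ≫ iT = 1 := by
      haveI : IsIso T.hom := hU T iT hT
      haveI : IsIso (toUnit T).left := inferInstanceAs (IsIso T.hom)
      haveI : IsIso ((Over.forget _).map (toUnit T)) := ‹IsIso (toUnit T).left›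
      haveI : IsIso (toUnit T) := isIso_of_reflects_iso _ (Over.forget _)
      have h : iT = 1 := by
        rw [← cancel_epi (inv (toUnit T)), MonObj.comp_one, ← MonObj.one_comp iT]
        congr 1
        rw [← cancel_mono (toUnit T), IsIso.inv_hom_id]
        exact toUnit_unique _ _
      rw [h, MonObj.comp_one]
    haveI := Chevalley.CommAff.isMonHom_pow G n
    have hkill : i ≫ ((𝟙 G) ^ n) = toUnit U ≫ η[G] := by
      rw [Chevalley.BC.comp_pow, Category.comp_id, show i ^ n = ((𝟙 U) ^ n) ≫ i by
        rw [Chevalley.BC.pow_comp, Category.id_comp], ← ht, hT1, MonObj.one_comp]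
      rfl
    obtain ⟨u, -, hu, -⟩ := S3280.result k G U A G α i hker ((𝟙 G) ^ n) hkill
    haveI := Chevalley.CommAff.surjective_pow_antiAffine hG hn
    haveI : Surjective (α.left ≫ u.left) := by rw [← Over.comp_left, hu]; infer_instance
    haveI : Surjective u.left := Surjective.of_comp α.left u.left
    haveI : IsProper G.hom := Chevalley.BC.isProper_of_surjective u
    haveI : IsProper U.hom := by rw [← Over.w i]; infer_instance
    have h1 := Chevalley.BC.id_eq_one_of_affine_proper U
    haveI : IsIso (toUnit U) := ⟨η[U], h1.symm, toUnit_unique _ _⟩
    exact inferInstanceAs (IsIso ((Over.forget _).map (toUnit U)))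
  · intro hUi
    haveI : IsProper U.hom := inferInstance
    haveI : IsProper α.left := by
      haveI : QuasiCompact (α.left ≫ A.hom) := by rw [Over.w α]; infer_instance
      haveI : QuasiCompact α.left := QuasiCompact.of_comp α.left A.hom
      haveI := EtFound.fpqc_isFinite.{u}
      haveI : IsFinite α.left := S7982.property_of_kernel i α hker @IsFinite inferInstance
      infer_instance
    haveI : IsProper G.hom := by rw [← Over.w α]; infer_instance
    haveI := AlbQuotLib.geometricallyIntegral G
    haveI := H23.CubeAb.geometricallyConnected_of_integral G.hom
    exact H23.CubeField.bijective_appTop_of_connected G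

end Groth.Agent.S11407
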