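import Groth.Statements.S11408
import Groth.Agent.Chevalley.AbSubvariety
-- import your own Groth.Agent.* helpers here

set_option autoImplicit false
set_option backward.isDefEq.respectTransparency false
set_option maxHeartbeats 1000000
universe u
open CategoryTheory MonoidalCategory CartesianMonoidalCategory MonObj GrpObj AlgebraicGeometry CategoryTheory.Limits
open AlgGrp

namespace Groth.Agent.S11408

/-- Over an algebraically closed field k, let G be a connected algebraic group (smooth k-group scheme of
finite type) and i : A → G a homomorphism and closed immersion from an abelian variety A (a proper,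
smooth, connected k-group scheme). Then A has a quasi-complement: a smooth, connected, normal closed
subgroup H of G with G = A · H, in the sense that the multiplication A × H → G is surjective, and
with the scheme-theoretic intersection A ∩ H finite over k. (The published statement first records
that A is central in G; that clause is not restated here.) -/
theorem result (k : Type u) [Field k] [IsAlgClosed k]
    (G : Over (Spec (CommRingCat.of k))) [GrpObj G] [Smooth G.hom] [QuasiCompact G.hom] [ConnectedSpace ↥G.left]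
    (A : Over (Spec (CommRingCat.of k))) [GrpObj A] [IsProper A.hom] [Smooth A.hom] [ConnectedSpace ↥A.left]
    (i : A ⟶ G) [IsMonHom i] [IsClosedImmersion i.left] :
    ∃ (H : Over (Spec (CommRingCat.of k))) (_ : GrpObj H) (h : H ⟶ G), IsMonHom h ∧ IsClosedImmersion h.left ∧ Smooth H.hom ∧
      ConnectedSpace ↥H.left ∧ AlgGrp.IsNormalHom h ∧ Surjective ((i ⊗ₘ h) ≫ μ[G]).left ∧
      IsFinite (pullback.fst i.left h.left ≫ A.hom) := by
  obtain ⟨φ, n, _, hn, hφ⟩ := Chevalley.exists_hom i
  obtain ⟨K, _, κ, _, _, -, hk⟩ := GrpSchLib.exists_kernel φ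
  have hκ : κ ≫ φ = 1 := hk.w.trans Hom.one_def.symm
  obtain ⟨N, _, r, _, _, hrs, hsm, hNn⟩ := Chevalley.exists_red_kernel φ κ hk
  haveI := hrs; haveI := hsm
  let h : N ⟶ G := r ≫ κ
  haveI : IsClosedImmersion h.left := inferInstanceAs (IsClosedImmersion (r.left ≫ κ.left))
  haveI hsurj : Surjective ((i ⊗ₘ h) ≫ μ[G]).left := Chevalley.surjective_mul_kernel i hn hφ hk r
  obtain ⟨N₀, _, ι₀, _, hc₀, hf₀, hr₀, hgi₀, -⟩ := GrpSchLib.exists_identityComponent (G := N)
  haveI := hc₀; haveI := hf₀; haveI := hgi₀
  haveI : IsLocallyNoetherian N.left := LocallyOfFiniteType.isLocallyNoetherian N.hom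
  haveI : LocallyOfFinitePresentation ι₀.left := inferInstance
  haveI : IsOpenImmersion ι₀.left := IsOpenImmersion.of_flat_of_mono ι₀.left
  haveI hsm₀ : Smooth N₀.hom := by rw [← Over.w ι₀]; infer_instance
  haveI : ConnectedSpace N₀.left := by
    haveI : IrreducibleSpace N₀.left := GeometricallyIrreducible.irreducibleSpace_of_subsingleton N₀.hom
    infer_instance
  let h₀ : N₀ ⟶ G := ι₀ ≫ h
  haveI : IsClosedImmersion h₀.left := inferInstanceAs (IsClosedImmersion (ι₀.left ≫ h.left))
  -- normality
  have hnorm : AlgGrp.IsNormalHom h₀ := by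
    haveI : GeometricallyIntegral G.hom := AlbQuotLib.geometricallyIntegral G
    haveI : IrreducibleSpace N₀.left := GeometricallyIrreducible.irreducibleSpace_of_subsingleton N₀.hom
    haveI : UniversallyOpen G.hom := inferInstance
    haveI : GeometricallyIrreducible G.hom := inferInstance
    haveI : IrreducibleSpace (G ⊗ N₀).left := by
      show IrreducibleSpace ↥(pullback G.hom N₀.hom)
      infer_instance
    obtain ⟨c, hc⟩ := hNn (G ⊗ N₀) (fst G N₀) (snd G N₀ ≫ ι₀)
    let e : 𝟙_ (Over (Spec (CommRingCat.of k))) ⟶ G ⊗ N₀ := lift η[G] η[N₀]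
    have hce : e ≫ c = η[N] := by
      haveI : Mono h := Over.mono_of_mono_left _
      rw [← cancel_mono h, Category.assoc, ← hc, IsMonHom.one_hom h]
      simp only [MonObj.comp_mul, GrpObj.comp_inv, e, lift_fst, lift_snd_assoc, Category.assoc]
      rw [IsMonHom.one_hom ι₀ |> fun q => (show η[N₀] ≫ ι₀ ≫ r ≫ κ = η[G] by rw [← Category.assoc, q]; exact IsMonHom.one_hom h),
        mul_inv_cancel_right]
    have hrange : Set.range c.left ⊆ Set.range ι₀.left := by
      rw [hr₀]
      refine (isPreconnected_range c.left.continuous).subset_connectedComponent ?_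
      exact ⟨e.left (IsLocalRing.closedPoint k), by rw [← Scheme.Hom.comp_apply, ← Over.comp_left, hce]⟩
    intro T g x
    let d : G ⊗ N₀ ⟶ N₀ := Over.homMk (IsOpenImmersion.lift ι₀.left c.left hrange) (by
      rw [← Over.w ι₀, IsOpenImmersion.lift_fac_assoc, Over.w c])
    have hd : d ≫ ι₀ = c := Over.OverMorphism.ext (IsOpenImmersion.lift_fac _ _ _)
    refine ⟨lift g x ≫ d, ?_⟩
    show _ = (lift g x ≫ d) ≫ ι₀ ≫ h
    rw [Category.assoc, reassoc_of% hd, ← hc]
    simp only [MonObj.comp_mul, GrpObj.comp_inv, lift_fst, lift_snd_assoc, h₀, Category.assoc]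
    rfl
  -- the product with the identity component is surjective
  haveI := Chevalley.isMonHom_mul i h₀
  have hsurj₀ : Surjective ((i ⊗ₘ h₀) ≫ μ[G]).left := by
    haveI : LocallyOfFiniteType N₀.hom := inferInstance
    haveI : QuasiCompact N₀.hom := by rw [← Over.w h₀]; infer_instance
    haveI : LocallyOfFiniteType (A ⊗ N₀).hom := inferInstanceAs (LocallyOfFiniteType (pullback.fst A.hom N₀.hom ≫ A.hom))
    haveI : QuasiCompact (A ⊗ N₀).hom := inferInstanceAs (QuasiCompact (pullback.fst A.hom N₀.hom ≫ A.hom))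
    haveI : IsSeparated G.hom := GrpSchLib.AntiAffine.isSeparated_grp G
    haveI : QuasiCompact (((i ⊗ₘ h₀) ≫ μ[G]).left ≫ G.hom) := by rw [Over.w]; infer_instance
    haveI : QuasiCompact ((i ⊗ₘ h₀) ≫ μ[G]).left := QuasiCompact.of_comp _ G.hom
    have hcl := GrpSchLib.HomClosedRange.isClosed_range ((i ⊗ₘ h₀) ≫ μ[G])
    haveI : GeometricallyIntegral G.hom := AlbQuotLib.geometricallyIntegral G
    haveI : IsIntegral G.left := GeometricallyIntegral.isIntegral_of_subsingleton G.hom
    obtain ⟨z, hz⟩ := ((i ⊗ₘ h) ≫ μ[G]).left.surjective (genericPoint G.left)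
    let w := (snd A N).left z
    haveI : JacobsonSpace N.left := LocallyOfFiniteType.jacobsonSpace N.hom
    haveI : CompactSpace N.left := (quasiCompact_iff_compactSpace N.hom).mp (by rw [← Over.w h]; infer_instance)
    obtain ⟨c, hcw, hcc⟩ := (isClosed_connectedComponent (x := w)).exists_closed_singleton ⟨w, mem_connectedComponent⟩
    let cp : 𝟙_ (Over (Spec (CommRingCat.of k))) ⟶ N :=
      Over.homMk (pointOfClosedPoint N.hom c hcc) (pointOfClosedPoint_comp N.hom c hcc)
    have hcp : cp.left (IsLocalRing.closedPoint k) = c := pointOfClosedPoint_apply ..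
    let t : N ≅ N := GrpSchLib.HomFinite.trans cp⁻¹
    have htc : cp ≫ t.hom = η[N] := by
      simp [t, GrpSchLib.HomFinite.trans, MonObj.comp_mul, toUnit_unique (cp ≫ toUnit N) (𝟙 _), ← Category.assoc,
        MonObj.one_eq_one]
    have hw : t.hom.left w ∈ Set.range ι₀.left := by
      rw [hr₀]
      have hsub := (isConnected_connectedComponent (x := w)).isPreconnected.image _ t.hom.left.continuous.continuousOn
      refine hsub.subset_connectedComponent ⟨c, hcw, ?_⟩ ⟨w, mem_connectedComponent, rfl⟩
      rw [← hcp, ← Scheme.Hom.comp_apply, ← Over.comp_left, htc]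
    obtain ⟨w₀, hw₀⟩ := hw
    let T : G ≅ G := GrpSchLib.HomFinite.trans (cp ≫ h)⁻¹
    have hcomm : (A ◁ t.hom) ≫ (i ⊗ₘ h) ≫ μ[G] = ((i ⊗ₘ h) ≫ μ[G]) ≫ T.hom := by
      have e : (i ⊗ₘ h) ≫ μ[G] = (fst A N ≫ i) * (snd A N ≫ h) := by
        rw [Hom.mul_def, ← lift_map, lift_fst_snd, Category.id_comp]
      rw [e]
      simp only [MonObj.comp_mul, whiskerLeft_fst_assoc, whiskerLeft_snd_assoc, t, T, GrpSchLib.HomFinite.trans,
        MonObj.mul_comp, GrpObj.inv_comp, Category.comp_id, Category.id_comp, Category.assoc, GrpObj.comp_inv,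
        toUnit_unique (((fst A N ≫ i) * (snd A N ≫ h)) ≫ toUnit G) (toUnit _)]
      simp only [← Category.assoc, comp_toUnit]
      rw [← _root_.mul_assoc, Chevalley.abSub_central i (fst A N), _root_.mul_assoc]
    haveI : IsIso T.hom.left := ((Over.forget _).mapIso T).isIso_hom
    haveI : Surjective T.hom.left := inferInstance
    let z' := (A ◁ t.hom).left z
    have hz' : (snd A N).left z' = ι₀.left w₀ := by
      rw [hw₀, ← Scheme.Hom.comp_apply, ← Over.comp_left, whiskerLeft_snd, Over.comp_left, Scheme.Hom.comp_apply]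
    have hsq := (FpqcDescLib.isPullback_whiskerLeft ι₀ A).map (Over.forget _)
    obtain ⟨v₀, hv₀, -⟩ := Scheme.Pullback.exists_preimage_pullback z' w₀ hz'
    let v := hsq.isoPullback.inv v₀
    have hv : (A ◁ ι₀).left v = z' := by
      have := congrArg (fun f => f v₀) hsq.isoPullback_inv_fst
      simp only [Scheme.Hom.comp_apply] at this
      exact this.trans hv₀
    have hgen : genericPoint G.left ∈ Set.range ((i ⊗ₘ h₀) ≫ μ[G]).left := by
      refine ⟨v, ?_⟩
      have e : (i ⊗ₘ h₀) ≫ μ[G] = (A ◁ ι₀) ≫ (i ⊗ₘ h) ≫ μ[G] := by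
        rw [← MonoidalCategory.id_tensorHom A ι₀, MonoidalCategory.tensorHom_comp_tensorHom_assoc, Category.id_comp]
      rw [e, Over.comp_left, Scheme.Hom.comp_apply]
      rw [hv, ← Scheme.Hom.comp_apply, ← Over.comp_left, hcomm, Over.comp_left, Scheme.Hom.comp_apply, hz]
      exact AVSplitLib.map_genericPoint T.hom.left
    refine ⟨fun g => ?_⟩
    exact hcl.closure_subset (closure_mono (Set.singleton_subset_iff.mpr hgen)
      ((genericPoint_specializes g).mem_closure))
  exact ⟨N₀, inferInstance, h₀, inferInstance, inferInstance, hsm₀, inferInstance, hnorm, hsurj₀,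
    Chevalley.isFinite_inter i hn hφ h₀ (by simp only [h₀, h, Category.assoc, hκ, MonObj.comp_one])⟩

end Groth.Agent.S11408
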