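import Groth.Statements.S11413
import Groth.Agent.GrpLimLib.Descend
import Groth.Agent.GrpSchLib.AntiAffineBC
import Groth.Agent.Chevalley.CommAff.AntiAffTools
import Groth.Agent.S14604
import Groth.Agent.ConsPropLib.NoethApprox
-- import your own Groth.Agent.* helpers here

set_option autoImplicit false
set_option backward.isDefEq.respectTransparency false
set_option maxHeartbeats 1000000
set_option linter.style.haveILetI false
universe u
open CategoryTheory MonoidalCategory CartesianMonoidalCategory MonObj GrpObj AlgebraicGeometry CategoryTheory.Limits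
open AlgGrp

namespace Groth.Agent.S11413

/-- Let k be an algebraically closed field of characteristic p > 0 which is algebraic over its prime
field (every element x satisfies x^(p^n) = x for some n ≥ 1), so that k is an algebraic closure of a
finite field. Over such a field k, anti-affine algebraic groups are abelian varieties: every smooth
k-group scheme of finite type whose only global functions are the constants is proper over k. -/
theorem result (k : Type u) [Field k] [IsAlgClosed k]
    (p : ℕ) [Fact p.Prime] [CharP k p] (halg : ∀ x : k, ∃ n : ℕ, 0 < n ∧ x ^ p ^ n = x)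
    (G : Over (Spec (CommRingCat.of k))) [GrpObj G] [Smooth G.hom] [QuasiCompact G.hom]
    (hG : Function.Bijective ((Scheme.ΓSpecIso (CommRingCat.of k)).inv ≫ G.hom.appTop).hom) : IsProper G.hom := by
  classical
  haveI := GrpSchLib.AntiAffine.isSeparated_grp G
  let R := CommRingCat.of k
  let D := ConsPropLib.NoethApprox.diagram R
  haveI : ∀ (i i' : (Finset R)ᵒᵖ) (f : i ⟶ i'), IsAffineHom (D.map f) := fun i i' f =>
    ConsPropLib.NoethApprox.isAffineHom_map R f
  haveI : ∀ {i i' : (Finset R)ᵒᵖ} (f : i ⟶ i'), IsAffineHom (D.map f) := fun {i i'} f => inferInstance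
  haveI : ∀ i, IsAffine (D.obj i) := fun i => ConsPropLib.NoethApprox.isAffine_obj R i
  let c := ConsPropLib.NoethApprox.cone R
  have hc : IsLimit c := ConsPropLib.NoethApprox.isLimit R
  let G' : Over c.pt := G
  letI : GrpObj G' := ‹GrpObj G›
  haveI : LocallyOfFinitePresentation G'.hom := inferInstanceAs (LocallyOfFinitePresentation G.hom)
  haveI : QuasiCompact G'.hom := ‹QuasiCompact G.hom›
  haveI : QuasiSeparated G'.hom := inferInstanceAs (QuasiSeparated G.hom)
  obtain ⟨j, Gj, instj, e, he, hl, hqc, hqs⟩ := GrpLimLib.exists_grp_model hc (ConsPropLib.hasModel hc G'.hom)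
  let A₀ := Algebra.adjoin ℤ ((j.unop : Finset R) : Set R)
  haveI : CharP R p := ‹CharP k p›
  haveI : Finite A₀ := by
    have hint : ∀ x ∈ ((j.unop : Finset R) : Set R), IsIntegral ℤ x := fun x _ => by
      obtain ⟨n, hn, hx⟩ := halg x
      refine ⟨Polynomial.X ^ p ^ n - Polynomial.X, Polynomial.monic_X_pow_sub ?_, ?_⟩
      · rw [Polynomial.degree_X]
        exact_mod_cast Nat.one_lt_pow (by omega) (Fact.out : p.Prime).one_lt
      · simp [Polynomial.eval₂_sub, Polynomial.eval₂_X, Polynomial.eval₂_X_pow]
        exact sub_eq_zero.mpr hx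
    haveI : Module.Finite ℤ A₀ := Algebra.finite_adjoin_of_finite_of_isIntegral (Finset.finite_toSet _) hint
    haveI : AddGroup.FG A₀ := Module.Finite.iff_addGroup_fg.mp inferInstance
    refine AddCommGroup.finite_of_fg_torsion A₀ fun x => ?_
    refine isOfFinAddOrder_iff_nsmul_eq_zero.mpr ⟨p, (Fact.out : p.Prime).pos, Subtype.ext ?_⟩
    show p • (x : R) = 0
    rw [nsmul_eq_mul, CharP.cast_eq_zero, zero_mul]
  haveI : IsDomain A₀ := inferInstanceAs (IsDomain A₀.toSubring)
  letI : Fintype A₀ := Fintype.ofFinite _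
  letI : Field A₀ := Fintype.fieldOfDomain A₀
  let φ : A₀ →+* k := A₀.val.toRingHom
  let G₀ : Over (Spec (CommRingCat.of A₀)) := Gj
  letI : GrpObj G₀ := instj
  haveI : LocallyOfFinitePresentation G₀.hom := hl
  haveI : LocallyOfFiniteType G₀.hom := inferInstance
  haveI : QuasiCompact G₀.hom := hqc
  haveI : QuasiSeparated G₀.hom := hqs
  let e' : G ≅ Red.bc (Spec.map (CommRingCat.ofHom φ)) G₀ := e
  haveI : IsIso e'.hom.left := inferInstanceAs (IsIso ((Over.forget _).map e'.hom))
  have hsnd : pullback.snd G₀.hom (Spec.map (CommRingCat.ofHom φ)) = inv e'.hom.left ≫ G.hom :=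
    (IsIso.eq_inv_comp e'.hom.left).mpr (Over.w e'.hom)
  have hG₀ : Function.Bijective G₀.hom.appTop := by
    refine GrpSchLib.AntiAffine.bijective_of_bijective_snd G₀.hom φ ?_
    rw [hsnd, Scheme.Hom.comp_appTop]
    exact (ConcreteCategory.bijective_of_isIso (inv e'.hom.left).appTop).comp (Chevalley.CommAff.appTop_bijective hG)
  haveI : IsProper G₀.hom := S14604.result A₀ G₀
    ((GrpSchLib.AntiAffine.bijective_appTop_iff G₀.hom).mpr hG₀)
  haveI : IsProper (pullback.snd G₀.hom (Spec.map (CommRingCat.ofHom φ))) := inferInstance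
  have hw : G.hom = e'.hom.left ≫ pullback.snd G₀.hom (Spec.map (CommRingCat.ofHom φ)) := (Over.w e'.hom).symm
  rw [hw]
  infer_instance

end Groth.Agent.S11413
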