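import Groth.Statements.S11416
import Groth.Agent.GModLib.Matrix
import Groth.Agent.GrpSchLib.FaithfulAffine

set_option autoImplicit false
universe u
open CategoryTheory MonoidalCategory CartesianMonoidalCategory MonObj GrpObj AlgebraicGeometry CategoryTheory.Limits
open AlgGrp

namespace Groth.Agent.S11416


open GrpSchLib GrpSchLib.Kunneth

/-- Over an algebraically closed field k, let G be an algebraic group (a smooth k-group scheme of finite
type) and M a rational G-module, not necessarily finite-dimensional: a k-vector space with a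
G-module structure (points of G with values in a k-algebra B act B-linearly on B ⊗ M, naturally in
B) such that every vector lies in a finite-dimensional subspace N with B ⊗ N stable under all
B-points of G. If the representation is faithful, in the sense that every rational point of G acting
as the identity on M is the identity element, then G is affine. -/
theorem result (k : Type u) [Field k] [IsAlgClosed k]
    (G : Over (Spec (CommRingCat.of k))) [GrpObj G] [Smooth G.hom] [QuasiCompact G.hom]
    (M : Type u) [AddCommGroup M] [Module k M] (m : VecGrp.GMod G M)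
    (hlf : ∀ v : M, ∃ N : Submodule k M, v ∈ N ∧ Module.Finite k ↥N ∧
      ∀ (B : Type u) [CommRing B] [Algebra k B] (g : VecGrp.pt k B ⟶ G) (x : VecGrp.W k M B),
        x ∈ Submodule.baseChange B N → m.ρ B g x ∈ Submodule.baseChange B N)
    (hfaith : ∀ g : VecGrp.pt k k ⟶ G, m.ρ k g = 1 → g = 1) :
    IsAffine G.left := by
  classical
  haveI := AntiAffine.isSeparated_grp G
  choose N hvN hfin hst using hlf
  have hex : ∀ v, ∃ (n : ℕ) (X : Matrix (Fin n) (Fin n) (Fn G)), IsRepMatrix X ∧
      ∀ (B : Type u) [CommRing B] [Algebra k B] (g : VecGrp.pt k B ⟶ G), X.map (pullFn g) = 1 →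
        ∀ w ∈ N v, m.ρ B g (TensorProduct.tmul k (1 : B) w) = TensorProduct.tmul k (1 : B) w := fun v => by
    haveI := hfin v
    exact GModLib.exists_matrix_of_stable m (N v) (hst v)
  choose d X hX hXfix using hex
  obtain ⟨F, hF⟩ := RepFamily.exists_detect (G := G) X
  obtain ⟨N₀, B₀, hB, hBiff⟩ := RepFamily.exists_block X hX F
  let H : Over (Spec (CommRingCat.of k)) := FrB.GLn N₀ (Spec (CommRingCat.of k))
  haveI : IsAffine (FrB.GLZ.{u} N₀).left := inferInstanceAs (IsAffine (Spec _))
  haveI : IsAffineHom (FrB.GLZ.{u} N₀).hom := inferInstance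
  haveI : IsAffineHom H.hom := inferInstanceAs (IsAffineHom (pullback.snd _ _))
  haveI : IsAffine H.left := isAffine_of_isAffineHom H.hom
  haveI : LocallyOfFiniteType (FrB.GLZ.{u} N₀).hom := by
    refine (HasRingHomProperty.Spec_iff (P := @LocallyOfFiniteType)).mpr ?_
    refine RingHom.finiteType_algebraMap.mpr ?_
    have h : Algebra.FiniteType (ULift.{u} ℤ) (MvPolynomial (CoordGrp.GLPoly.Idx N₀) (ULift.{u} ℤ)) := inferInstance
    exact @Algebra.FiniteType.of_surjective _ _ _ _ _ _ _ _ h (CoordGrp.GLn.mk N₀ (ULift.{u} ℤ))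
      Ideal.Quotient.mk_surjective
  haveI : LocallyOfFiniteType H.hom := inferInstanceAs (LocallyOfFiniteType (pullback.snd _ _))
  haveI : IsSeparated H.hom := inferInstance
  let ρ : G ⟶ H := hB.hom
  haveI : IsMonHom ρ := hB.isMonHom_hom
  haveI : QuasiCompact (ρ.left ≫ H.hom) := by rw [Over.w ρ]; infer_instance
  haveI : QuasiCompact ρ.left := QuasiCompact.of_comp ρ.left H.hom
  haveI : LocallyOfFiniteType (ρ.left ≫ H.hom) := by rw [Over.w ρ]; infer_instance
  haveI : LocallyOfFiniteType ρ.left := locallyOfFiniteType_of_comp ρ.left H.hom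
  haveI : IsSeparated (ρ.left ≫ H.hom) := by rw [Over.w ρ]; infer_instance
  haveI : IsSeparated ρ.left := IsSeparated.of_comp ρ.left H.hom
  haveI : JacobsonSpace G.left := LocallyOfFiniteType.jacobsonSpace G.hom
  have hker : ∀ g : 𝟙_ (Over (Spec (CommRingCat.of k))) ⟶ G, g ≫ ρ = 1 → g = 1 := by
    intro g hg
    let j : VecGrp.pt k k ⟶ 𝟙_ (Over (Spec (CommRingCat.of k))) := Over.homMk (𝟙 _) (by
      show 𝟙 _ ≫ 𝟙 _ = Spec.map _
      rw [Category.id_comp, Algebra.algebraMap_self, CommRingCat.ofHom_id, Spec.map_id])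
    have h2 : (j ≫ g) ≫ matPt B₀ hB.isUnit = 1 := by
      have e : g ≫ matPt B₀ hB.isUnit = 1 := hg
      rw [Category.assoc, e, MonObj.comp_one]
    rw [comp_matPt] at h2
    have hm : B₀.map (ev (j ≫ g)) = 1 := matPt_injective (hN := isUnit_one) (h2.trans matPt_one.symm)
    have h3 := hF _ (j ≫ g) ((hBiff _ (j ≫ g)).mp hm)
    have h4 : ∀ v : M, m.ρ k (j ≫ g) (TensorProduct.tmul k (1 : k) v) = TensorProduct.tmul k (1 : k) v := fun v => by
      refine hXfix v k (j ≫ g) ?_ v (hvN v)
      have := congrArg (fun A : Matrix _ _ (Fn (VecGrp.pt k k)) =>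
        A.map ⇑(Scheme.ΓSpecIso (CommRingCat.of k)).hom.hom) (h3 v)
      simp only [Matrix.map_map, Matrix.map_one _ (map_zero (Scheme.ΓSpecIso (CommRingCat.of k)).hom.hom) (map_one (Scheme.ΓSpecIso (CommRingCat.of k)).hom.hom)] at this
      exact this
    have h5 : m.ρ k (j ≫ g) = 1 := LinearEquiv.ext fun x => by
      induction x using TensorProduct.induction_on with
      | zero => simp
      | tmul r v =>
        rw [show TensorProduct.tmul k r v = r • TensorProduct.tmul k (1 : k) v by rw [TensorProduct.smul_tmul', smul_eq_mul, _root_.mul_one],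
          map_smul, h4]
        rfl
      | add x y hx hy => rw [map_add, hx, hy]; rfl
    have h6 := hfaith _ h5
    let j' : 𝟙_ (Over (Spec (CommRingCat.of k))) ⟶ VecGrp.pt k k := Over.homMk (𝟙 _) (by
      show 𝟙 _ ≫ Spec.map _ = 𝟙 _
      rw [Category.id_comp, Algebra.algebraMap_self, CommRingCat.ofHom_id, Spec.map_id])
    have e : j' ≫ j = 𝟙 _ := toUnit_unique _ _
    rw [← Category.id_comp g, ← e, Category.assoc, h6, MonObj.comp_one]
  haveI : LocallyQuasiFinite ρ.left := by
    refine HomFinite.locallyQuasiFinite_of_finite_preimage (u := ρ) ?_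
    refine (Set.finite_singleton (η[G].left (IsLocalRing.closedPoint k))).subset ?_
    have hcl : IsClosed ({η[H].left (IsLocalRing.closedPoint k)} : Set H.left) := by
      have h1 := (η[H]).left.isClosedEmbedding.isClosedMap _ (isClosed_discrete (α := ↥(Spec (CommRingCat.of k))) {IsLocalRing.closedPoint k})
      exact (Set.image_singleton (f := (η[H]).left)) ▸ h1
    have heG : IsClosed ({η[G].left (IsLocalRing.closedPoint k)} : Set G.left) := by
      have h1 := (η[G]).left.isClosedEmbedding.isClosedMap _ (isClosed_discrete (α := ↥(Spec (CommRingCat.of k))) {IsLocalRing.closedPoint k})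
      exact (Set.image_singleton (f := (η[G]).left)) ▸ h1
    intro x hx
    by_contra hne
    obtain ⟨z, ⟨hz1, hz2⟩, hz⟩ := nonempty_inter_closedPoints
      (Z := ρ.left ⁻¹' {η[H].left (IsLocalRing.closedPoint k)} ∩ {η[G].left (IsLocalRing.closedPoint k)}ᶜ)
      ⟨x, hx, hne⟩ ((hcl.preimage ρ.left.continuous).isLocallyClosed.inter heG.isOpen_compl.isLocallyClosed)
    let g : 𝟙_ (Over (Spec (CommRingCat.of k))) ⟶ G :=
      Over.homMk (pointOfClosedPoint G.hom z hz) (pointOfClosedPoint_comp G.hom z hz)
    have hgz : g.left (IsLocalRing.closedPoint k) = z :=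
      congrArg Subtype.val ((pointEquivClosedPoint G.hom).apply_symm_apply ⟨z, hz⟩)
    have he : g ≫ ρ = 1 := by
      refine Over.OverMorphism.ext (ext_of_apply_closedPoint_eq H.hom (Over.w _) (Over.w _) ?_)
      show (g ≫ ρ).left (IsLocalRing.closedPoint k) = _
      rw [Over.comp_left, Scheme.Hom.comp_apply, hgz]
      refine (hz1 : _).trans ?_
      rw [← MonObj.one_eq_one]
    exact hz2 (by rw [← hgz, hker g he, ← MonObj.one_eq_one]; rfl)
  haveI : IsFinite ρ.left := HomFinite.isFinite ρ
  exact isAffine_of_isAffineHom ρ.left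

end Groth.Agent.S11416
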