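import Groth.Statements.S11418
import Groth.Agent.Blanchard.Constant

set_option autoImplicit false
universe u
open CategoryTheory MonoidalCategory CartesianMonoidalCategory MonObj GrpObj AlgebraicGeometry CategoryTheory.Limits
open AlgGrp

namespace Groth.Agent.S11418

/-- Over an algebraically closed field k, let G be an affine algebraic group (smooth affine k-group
scheme of finite type) and π : X → Y a principal G-bundle of k-schemes of finite type: G acts on X,
π is G-invariant, faithfully flat, and the square formed by the action, the second projection G × X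
→ X and π is cartesian. Then the map θ sending a G-equivariant morphism f : X → G (for the
conjugation action on G, i.e. f(g·x) = g f(x) g⁻¹ on points) to the automorphism x ↦ f(x)·x is a
bijection onto the bundle automorphisms: every G-equivariant automorphism φ of X with π ∘ φ = π
equals θ(f) for exactly one such f. -/
theorem result (k : Type u) [Field k] [IsAlgClosed k]
    (G X Y : Over (Spec (CommRingCat.of k))) [GrpObj G] [Smooth G.hom] [QuasiCompact G.hom] [IsAffine G.left]
    [LocallyOfFiniteType X.hom] [QuasiCompact X.hom] [LocallyOfFiniteType Y.hom] [QuasiCompact Y.hom]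
    (a : AlgGrp.Action G X) (π : X ⟶ Y) (hinv : a.act ≫ π = snd G X ≫ π) [Flat π.left] [Surjective π.left]
    (hcart : IsPullback (snd G X) a.act π π)
    (φ : X ≅ X) (hφ : φ.hom ≫ π = π) (hφeq : (G ◁ φ.hom) ≫ a.act = a.act ≫ φ.hom) :
    ∃! f : X ⟶ G, (∀ (S : Over (Spec (CommRingCat.of k))) (g : S ⟶ G) (x : S ⟶ X),
        lift g x ≫ a.act ≫ f = g * (x ≫ f) * g⁻¹) ∧ φ.hom = lift f (𝟙 X) ≫ a.act := by
  let l : X ⟶ G ⊗ X := hcart.lift (𝟙 X) φ.hom (by rw [Category.id_comp, hφ])
  have hl1 : l ≫ snd G X = 𝟙 X := hcart.lift_fst _ _ _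
  have hl2 : l ≫ a.act = φ.hom := hcart.lift_snd _ _ _
  have hl : lift (l ≫ fst G X) (𝟙 X) = l := by
    ext1 <;> simp [hl1]
  refine ⟨l ≫ fst G X, ⟨fun S g x => ?_, by rw [hl, hl2]⟩, ?_⟩
  · let y : S ⟶ X := lift g x ≫ a.act
    have h1 : ∀ z : S ⟶ X, lift (z ≫ l ≫ fst G X) z ≫ a.act = z ≫ φ.hom := fun z => by
      have : lift (z ≫ l ≫ fst G X) z = z ≫ l := by ext1 <;> simp [hl1]
      rw [this, Category.assoc, hl2]
    have h2 : y ≫ φ.hom = lift g (x ≫ φ.hom) ≫ a.act := by
      rw [Category.assoc, ← hφeq, ← Category.assoc, lift_whiskerLeft]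
    have key : lift (y ≫ l ≫ fst G X) y = lift (g * (x ≫ l ≫ fst G X) * g⁻¹) y := by
      refine hcart.hom_ext (by simp) ?_
      rw [h1 y, h2, ← h1 x, Blanchard.action_comp, Blanchard.action_comp, inv_mul_cancel_right]
    have := congrArg (· ≫ fst G X) key
    simpa [y, Category.assoc] using this
  · rintro f ⟨-, hf⟩
    have : lift f (𝟙 X) = l := hcart.hom_ext (by simp [hl1]) (by rw [← hf, hl2])
    rw [← this, lift_fst]

end Groth.Agent.S11418
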