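import Groth.Statements.S11420
import Groth.Agent.Blanchard.Constant
import Groth.Agent.H23.Rigid
import Groth.Agent.H23.EquidimFibres

set_option autoImplicit false
universe u
open CategoryTheory MonoidalCategory CartesianMonoidalCategory MonObj GrpObj AlgebraicGeometry CategoryTheory.Limits
open AlgGrp

namespace Groth.Agent.S11420

/-- Over an algebraically closed field k, let X and Y be complete varieties (proper, integral, separated
k-schemes of finite type) and let a connected k-group scheme of finite type G act on X × Y. Then
there are unique actions of G on X and on Y such that the given action is the product action g·(x,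
y) = (g·x, g·y). (This is the form, for actions of connected group schemes, of the identification of
the neutral component of the automorphism group scheme of X × Y with the product of those of X and
Y; the representability of these group schemes is not asserted here.) -/
theorem result (k : Type u) [Field k] [IsAlgClosed k]
    (G X Y : Over (Spec (CommRingCat.of k))) [GrpObj G] [LocallyOfFiniteType G.hom] [QuasiCompact G.hom] [ConnectedSpace ↥G.left]
    [IsProper X.hom] [IsIntegral X.left]
    [IsProper Y.hom] [IsIntegral Y.left]
    (a : AlgGrp.Action G (X ⊗ Y)) :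
    ∃ (b : AlgGrp.Action G X) (c : AlgGrp.Action G Y),
      a.act = lift ((G ◁ fst X Y) ≫ b.act) ((G ◁ snd X Y) ≫ c.act) ∧
      ∀ (b' : AlgGrp.Action G X) (c' : AlgGrp.Action G Y),
        a.act = lift ((G ◁ fst X Y) ≫ b'.act) ((G ◁ snd X Y) ≫ c'.act) → b' = b ∧ c' = c := by
  haveI : GeometricallyIntegral X.hom := H23.EquidimFibres.geometricallyIntegral_of_isAlgClosed (V := X)
  haveI : GeometricallyIntegral Y.hom := H23.EquidimFibres.geometricallyIntegral_of_isAlgClosed (V := Y)
  haveI : IsProper (snd X Y).left := MorphismProperty.pullback_snd _ _ inferInstance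
  haveI : IsProper (fst X Y).left := MorphismProperty.pullback_fst _ _ inferInstance
  have h2 : ∀ U : Y.left.Opens, IsIso ((snd X Y).left.app U) := fun U => by
    rw [ConcreteCategory.isIso_iff_bijective]
    exact H23.Rigid.bijective_app_snd X.hom Y.hom U
  have h1 : ∀ U : X.left.Opens, IsIso ((fst X Y).left.app U) := fun U => by
    have e : (fst X Y).left = (pullbackSymmetry X.hom Y.hom).hom ≫ pullback.snd Y.hom X.hom :=
      (pullbackSymmetry_hom_comp_snd X.hom Y.hom).symm
    rw [e, Scheme.Hom.comp_app]
    haveI : IsIso ((pullback.snd Y.hom X.hom).app U) := by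
      rw [ConcreteCategory.isIso_iff_bijective]
      exact H23.Rigid.bijective_app_snd Y.hom X.hom U
    exact @IsIso.comp_isIso _ _ _ _ _ _ _ ‹_›
      (Scheme.Hom.isIso_app (pullbackSymmetry X.hom Y.hom).hom _ (by simp [Scheme.Hom.opensRange_of_isIso]))
  obtain ⟨b, hb, hbu⟩ := Blanchard.existsUnique_action (fst X Y) h1 a
  obtain ⟨c, hc, hcu⟩ := Blanchard.existsUnique_action (snd X Y) h2 a
  refine ⟨b, c, ?_, fun b' c' e => ⟨hbu b' ?_, hcu c' ?_⟩⟩
  · ext1
    · rw [lift_fst, hb]
    · rw [lift_snd, hc]
  · show _ = a.act ≫ fst X Y
    rw [e, lift_fst]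
  · show _ = a.act ≫ snd X Y
    rw [e, lift_snd]

end Groth.Agent.S11420
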