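import Groth.Statements.S11423
import Groth.Agent.Chevalley.CommAff.AntiAffTools
import Groth.Agent.Chevalley.Val.Aff
import Groth.Agent.GrpSchLib.TopDescent
-- import your own Groth.Agent.* helpers here

set_option autoImplicit false
set_option backward.isDefEq.respectTransparency false
set_option maxHeartbeats 1000000
set_option linter.style.haveILetI false
universe u
open CategoryTheory MonoidalCategory CartesianMonoidalCategory MonObj GrpObj AlgebraicGeometry CategoryTheory.Limits
open AlgGrp

namespace Groth.Agent.S11423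

/-- Over an algebraically closed field k, let G be a connected affine algebraic group (smooth, affine,
connected k-group scheme of finite type), A an abelian variety (proper, smooth, connected k-group
scheme) and π : X → A a principal G-bundle of k-schemes of finite type (G acts on X, π is
G-invariant and faithfully flat, and the square formed by the action, the second projection and π is
cartesian). Suppose π is trivialized by an anti-affine extension of A: there are an algebraic group
𝒢 whose only global functions are the constants, a flat surjective homomorphism φ : 𝒢 → A with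
affine kernel, and a morphism σ : 𝒢 → X with π ∘ σ = φ (a section of the pulled-back bundle). Then π
is homogeneous: for every rational point a of A there is a G-equivariant automorphism of X over the
translation of A by a. (The published statement is the equivalence; only this direction is stated
here.) -/
theorem result (k : Type u) [Field k] [IsAlgClosed k]
    (G X A : Over (Spec (CommRingCat.of k))) [GrpObj G] [Smooth G.hom] [QuasiCompact G.hom] [IsAffine G.left] [ConnectedSpace ↥G.left]
    [LocallyOfFiniteType X.hom] [QuasiCompact X.hom]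
    [GrpObj A] [IsProper A.hom] [Smooth A.hom] [ConnectedSpace ↥A.left]
    (a : AlgGrp.Action G X) (π : X ⟶ A) (hinv : a.act ≫ π = snd G X ≫ π) [Flat π.left] [Surjective π.left]
    (hcart : IsPullback (snd G X) a.act π π)
    (E : Over (Spec (CommRingCat.of k))) [GrpObj E] [Smooth E.hom] [QuasiCompact E.hom]
    (hE : Function.Bijective ((Scheme.ΓSpecIso (CommRingCat.of k)).inv ≫ E.hom.appTop).hom)
    (φ : E ⟶ A) [IsMonHom φ] [Flat φ.left] [Surjective φ.left]
    (Hk : Over (Spec (CommRingCat.of k))) [GrpObj Hk] (h : Hk ⟶ E) [IsMonHom h] (hk : AlgGrp.IsKernel h φ) [IsAffine Hk.left]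
    (σ : E ⟶ X) (hσ : σ ≫ π = φ)
    (t : 𝟙_ (Over (Spec (CommRingCat.of k))) ⟶ A) :
    ∃ ψ : X ≅ X, (G ◁ ψ.hom) ≫ a.act = a.act ≫ ψ.hom ∧
      ψ.hom ≫ π = π ≫ (lift (𝟙 A) (toUnit A ≫ t) ≫ μ[A]) := by
  haveI := GrpSchLib.AntiAffine.isSeparated_grp E
  haveI := GrpSchLib.AntiAffine.isSeparated_grp A
  have hE' := Chevalley.CommAff.appTop_bijective hE
  haveI : IsCommMonObj E := Chevalley.CommAff.isCommMonObj_of_antiAffine hE'
  -- the lifted point
  obtain ⟨e₀, he₀⟩ : ∃ e₀ : 𝟙_ (Over (Spec (CommRingCat.of k))) ⟶ E, e₀ ≫ φ = t := by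
    let P : Over (Spec (CommRingCat.of k)) := Over.mk (pullback.snd φ.left t.left)
    haveI : Nonempty P.left := by
      obtain ⟨y, hy⟩ := φ.left.surjective (t.left (IsLocalRing.closedPoint k))
      obtain ⟨z, -, -⟩ := Scheme.Pullback.exists_preimage_pullback (f := φ.left) (g := t.left) y (IsLocalRing.closedPoint k) hy
      exact ⟨z⟩
    haveI : LocallyOfFiniteType φ.left := by
      haveI : LocallyOfFiniteType (φ.left ≫ A.hom) := by rw [Over.w φ]; infer_instance
      exact locallyOfFiniteType_of_comp φ.left A.hom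
    haveI : LocallyOfFiniteType (pullback.snd φ.left t.left) := MorphismProperty.pullback_snd _ _ inferInstance
    haveI : LocallyOfFiniteType P.hom := this
    obtain ⟨pt, -⟩ := Chevalley.Val.exists_point (C := P) (U := ⊤) (by simp)
    let a₁ : P ⟶ E := Over.homMk (pullback.fst φ.left t.left) (by
      show pullback.fst φ.left t.left ≫ E.hom = pullback.snd φ.left t.left
      rw [← Over.w φ, pullback.condition_assoc, Over.w t]
      exact Category.comp_id _)
    let a₂ : P ⟶ 𝟙_ (Over (Spec (CommRingCat.of k))) := Over.homMk (pullback.snd φ.left t.left) (Category.comp_id _)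
    refine ⟨pt ≫ a₁, ?_⟩
    rw [Category.assoc, show a₁ ≫ φ = a₂ ≫ t from Over.OverMorphism.ext pullback.condition, ← Category.assoc,
      toUnit_unique (pt ≫ a₂) (𝟙 _), Category.id_comp]
  -- pointwise properties of the action
  have hassoc : ∀ {T : Over (Spec (CommRingCat.of k))} (g g' : T ⟶ G) (x : T ⟶ X),
      lift (g * g') x ≫ a.act = lift g (lift g' x ≫ a.act) ≫ a.act := by
    intro T g g' x
    have h := congr(lift (lift g g') x ≫ $(a.mul_act))
    rw [← Category.assoc, lift_whiskerRight, ← Hom.mul_def, lift_lift_associator_hom_assoc,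
      lift_whiskerLeft_assoc] at h
    exact h
  have hpi : ∀ {T : Over (Spec (CommRingCat.of k))} (g : T ⟶ G) (x : T ⟶ X), (lift g x ≫ a.act) ≫ π = x ≫ π := by
    intro T g x
    rw [Category.assoc, hinv, lift_snd_assoc]
  have hfree : ∀ {T : Over (Spec (CommRingCat.of k))} (g g' : T ⟶ G) (x : T ⟶ X),
      lift g x ≫ a.act = lift g' x ≫ a.act → g = g' := by
    intro T g g' x h
    have := hcart.hom_ext (show lift g x ≫ snd G X = lift g' x ≫ snd G X by simp) h
    simpa using congr($this ≫ fst G X)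
  have htrans : ∀ {T : Over (Spec (CommRingCat.of k))} (x y : T ⟶ X), x ≫ π = y ≫ π →
      ∃ g : T ⟶ G, lift g x ≫ a.act = y := by
    intro T x y h
    refine ⟨hcart.lift x y h ≫ fst G X, ?_⟩
    rw [show lift (hcart.lift x y h ≫ fst G X) x = hcart.lift x y h from
      CartesianMonoidalCategory.hom_ext _ _ (lift_fst _ _) ((lift_snd _ _).trans (hcart.lift_fst _ _ _).symm)]
    exact hcart.lift_snd _ _ _
  -- the cover of X
  obtain ⟨m, hmdef⟩ : ∃ m : G ⊗ E ⟶ X, m = (G ◁ σ) ≫ a.act := ⟨_, rfl⟩
  have hm : ∀ {T : Over (Spec (CommRingCat.of k))} (g : T ⟶ G) (e : T ⟶ E), lift g e ≫ m = lift g (e ≫ σ) ≫ a.act := by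
    intro T g e
    rw [hmdef, ← Category.assoc, lift_whiskerLeft]
  have hpb : IsPullback m (snd G E) π φ := by
    refine ⟨⟨by rw [hmdef, Category.assoc, hinv, whiskerLeft_snd_assoc, hσ]⟩,
      ⟨PullbackCone.IsLimit.mk _ (fun c => lift (htrans (c.snd ≫ σ) c.fst
        (by rw [Category.assoc, hσ]; exact c.condition.symm)).choose c.snd) (fun c => ?_) (fun c => lift_snd _ _)
        (fun c n h1 h2 => ?_)⟩⟩
    · rw [hm]
      exact (htrans (c.snd ≫ σ) c.fst (by rw [Category.assoc, hσ]; exact c.condition.symm)).choose_spec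
    · apply CartesianMonoidalCategory.hom_ext
      · rw [lift_fst]
        refine hfree _ _ (c.snd ≫ σ) ?_
        rw [(htrans (c.snd ≫ σ) c.fst (by rw [Category.assoc, hσ]; exact c.condition.symm)).choose_spec, ← hm, ← h2, ← h1]
        congr 1
        apply CartesianMonoidalCategory.hom_ext <;> simp
      · rw [lift_snd, h2]
  have hlm := hpb.map (Over.forget (Spec (CommRingCat.of k)))
  haveI : QuasiCompact φ.left := by
    haveI : QuasiCompact (φ.left ≫ A.hom) := by rw [Over.w φ]; infer_instance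
    exact QuasiCompact.of_comp φ.left A.hom
  haveI : Flat m.left := MorphismProperty.of_isPullback (P := @Flat) hlm.flip (show Flat φ.left from inferInstance)
  haveI : Surjective m.left := MorphismProperty.of_isPullback (P := @Surjective) hlm.flip (show Surjective φ.left from inferInstance)
  haveI : QuasiCompact m.left := MorphismProperty.of_isPullback (P := @QuasiCompact) hlm.flip (show QuasiCompact φ.left from inferInstance)
  have hloc := GrpSchLib.AffToProper.hasLocSec_of_flat_surjective m
  -- the transition function does not depend on E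
  let v : E ⊗ Hk ⟶ E := (snd E Hk ≫ h) * fst E Hk
  have hv : (fst E Hk ≫ σ) ≫ π = (v ≫ σ) ≫ π := by
    rw [Category.assoc, Category.assoc, hσ, MonObj.mul_comp, Category.assoc, hk.w, ← Category.assoc (snd E Hk),
      comp_toUnit, ← Hom.one_def, _root_.one_mul]
  obtain ⟨c, hc⟩ := htrans _ _ hv
  let c₀ : Hk ⟶ G := lift (toUnit Hk ≫ η[E]) (𝟙 Hk) ≫ c
  have hcc : c = snd E Hk ≫ c₀ := Chevalley.CommAff.eq_of_antiAffine_prod hE' c η[E]
  have hshift : ∀ {T : Over (Spec (CommRingCat.of k))} (e : T ⟶ E) (z : T ⟶ Hk),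
      ((z ≫ h) * e) ≫ σ = lift (z ≫ c₀) (e ≫ σ) ≫ a.act := by
    intro T e z
    have := congr(lift e z ≫ $hc)
    rw [hcc, comp_lift_assoc, lift_snd_assoc, lift_fst_assoc, ← Category.assoc (lift e z) v, MonObj.comp_mul,
      lift_snd_assoc, lift_fst] at this
    exact this.symm
  -- descend
  let tw : (𝟙_ (Over (Spec (CommRingCat.of k))) ⟶ E) → (G ⊗ E ⟶ X) :=
    fun e => lift (fst G E) ((toUnit (G ⊗ E) ≫ e) * snd G E) ≫ m
  have htw : ∀ (e : 𝟙_ (Over (Spec (CommRingCat.of k))) ⟶ E) {T : Over (Spec (CommRingCat.of k))} (g : T ⟶ G) (x : T ⟶ E),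
      lift g x ≫ tw e = lift g ((toUnit T ≫ e) * x) ≫ m := by
    intro e T g x
    show lift g x ≫ lift (fst G E) ((toUnit (G ⊗ E) ≫ e) * snd G E) ≫ m = _
    rw [← Category.assoc (lift g x), comp_lift, lift_fst, MonObj.comp_mul, lift_snd, ← Category.assoc (lift g x), comp_toUnit]
  have hdesc : ∀ e : 𝟙_ (Over (Spec (CommRingCat.of k))) ⟶ E, ∃ ψ : X ⟶ X, m ≫ ψ = tw e := by
    intro e
    obtain ⟨ψ, hψ, -⟩ := hloc.existsUnique_desc (tw e) (fun T u u' huu' => by
      obtain ⟨g, x, rfl⟩ : ∃ g x, u = lift g x := ⟨u ≫ fst G E, u ≫ snd G E, by rw [← comp_lift, lift_fst_snd, Category.comp_id]⟩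
      obtain ⟨g', x', rfl⟩ : ∃ g x, u' = lift g x := ⟨u' ≫ fst G E, u' ≫ snd G E, by rw [← comp_lift, lift_fst_snd, Category.comp_id]⟩
      have hφ : x' ≫ φ = x ≫ φ := by
        have := congr($huu' ≫ π)
        rw [Category.assoc (lift g x) m π, Category.assoc (lift g' x') m π, hpb.w, lift_snd_assoc, lift_snd_assoc] at this
        exact this.symm
      let z := hk.lift (x' * x⁻¹) (toUnit T) (by rw [MonObj.mul_comp, GrpObj.inv_comp, hφ, mul_inv_cancel, Hom.one_def])
      have hz : x' = (z ≫ h) * x := by rw [hk.lift_fst, inv_mul_cancel_right]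
      rw [hm, hm, hz, hshift, ← hassoc] at huu'
      rw [htw, htw, hm, hm, hz, mul_left_comm, hshift, ← hassoc, hfree _ _ _ huu'])
    exact ⟨ψ, hψ⟩
  obtain ⟨ψ, hψ⟩ := hdesc e₀
  obtain ⟨ψ', hψ'⟩ := hdesc e₀⁻¹
  have hinvp : ∀ (e e' : 𝟙_ (Over (Spec (CommRingCat.of k))) ⟶ E) (χ χ' : X ⟶ X), m ≫ χ = tw e → m ≫ χ' = tw e' →
      e' * e = 1 → χ ≫ χ' = 𝟙 X := by
    intro e e' χ χ' h1 h2 h3
    refine hloc.hom_ext ?_
    rw [← Category.assoc, h1, Category.assoc, h2, htw, ← _root_.mul_assoc, ← MonObj.comp_mul, h3, MonObj.comp_one,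
      _root_.one_mul, lift_fst_snd, Category.id_comp, Category.comp_id]
  refine ⟨⟨ψ, ψ', hinvp e₀ e₀⁻¹ ψ ψ' hψ hψ' (inv_mul_cancel _), hinvp e₀⁻¹ e₀ ψ' ψ hψ' hψ (mul_inv_cancel _)⟩, ?_, ?_⟩
  · refine (hloc.whiskerLeft G).hom_ext ?_
    have e1 : G ◁ m = lift (fst G (G ⊗ E)) (snd G (G ⊗ E) ≫ m) := CartesianMonoidalCategory.hom_ext _ _ (by simp) (by simp)
    have e2 : ∀ {T : Over (Spec (CommRingCat.of k))} (g g' : T ⟶ G) (x : T ⟶ E),
        lift g (lift g' x ≫ m) ≫ a.act = lift (g * g') x ≫ m := fun g g' x => by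
      rw [hm, hm, hassoc]
    show (G ◁ m) ≫ (G ◁ ψ) ≫ a.act = (G ◁ m) ≫ a.act ≫ ψ
    rw [e1, ← Category.assoc, ← Category.assoc, lift_whiskerLeft, Category.assoc (snd G (G ⊗ E)) m ψ, hψ,
      show snd G (G ⊗ E) = lift (snd G (G ⊗ E) ≫ fst G E) (snd G (G ⊗ E) ≫ snd G E) by
        rw [← comp_lift, lift_fst_snd, Category.comp_id],
      htw, e2, e2, Category.assoc, hψ, htw]
  · refine hloc.hom_ext ?_
    rw [← Category.assoc, hψ, Category.assoc, hpb.w, lift_snd_assoc, MonObj.mul_comp, Category.assoc, he₀,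
      ← Category.assoc m π, hpb.w]
    have e3 : ∀ {T : Over (Spec (CommRingCat.of k))} (y : T ⟶ A),
        y ≫ lift (𝟙 A) (toUnit A ≫ t) ≫ μ[A] = y * (toUnit T ≫ t) := fun y => by
      rw [comp_lift_assoc, Category.comp_id, ← Category.assoc y, comp_toUnit, ← Hom.mul_def]
    rw [e3]
    haveI : GeometricallyIntegral A.hom := AlbQuotLib.geometricallyIntegral A
    haveI : IsCommMonObj A := isCommMonObj_of_isProper_of_geometricallyIntegral A
    exact mul_comm _ _

end Groth.Agent.S11423
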