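import Groth.Statements.S1143
import Groth.Agent.SHSplit.Core
import Groth.Agent.SHSplit.Glue

set_option autoImplicit false
attribute [-instance] CategoryTheory.catToReflQuiver
set_option backward.isDefEq.respectTransparency false
set_option backward.isDefEq.respectTransparency.types false
universe u
open Pi1 TensorProduct

namespace Groth.Agent.S1143

open AlgebraicGeometry CategoryTheory CategoryTheory.Limits in
/-- A finite etale K-scheme that splits over L comes from a finite etale A-scheme (this is the
essential-image part of exactness of the sequence π₁(Spec L) → π₁(Spec K) → π₁(Spec A) → 1; the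
surjectivity and composition parts of the exact sequence are separate facts). Let A be a normal
local domain with fraction field K, let R be a strict henselization of A (with A → R local) and L a
fraction field of R, with compatible algebra structures (A → K → L and A → R → L agree). If V is
finite etale over Spec K and its base change to Spec L is split (a finite disjoint union of copies
of Spec L), then V is isomorphic to the restriction to Spec K of a finite etale cover Y of Spec A
(only the existence of such Y and of an isomorphism is asserted). -/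
theorem result (A : Type u) [CommRing A] [IsDomain A]
    [IsLocalRing A] [IsIntegrallyClosed A] (R : Type u) [CommRing R] [IsLocalRing R] [Algebra A R] [IsLocalHom (algebraMap A R)] [Hensel.IsStrictHenselization A R]
    (K L : Type u) [Field K] [Field L] [Algebra A K] [IsFractionRing A K] [Algebra R L] [IsFractionRing R L]
    [Algebra K L] [Algebra A L] [IsScalarTower A K L] [IsScalarTower A R L]
    (V : FEt.Cat (Spec (CommRingCat.of K)))
    (hV : Pi1.IsSplit ((FEt.restrict (Spec.map (CommRingCat.ofHom (algebraMap K L)))).obj V)) :
    ∃ Y : FEt.Cat (Spec (CommRingCat.of A)),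
      Nonempty ((FEt.restrict (Spec.map (CommRingCat.ofHom (algebraMap A K)))).obj Y ≅ V) := by
  obtain ⟨M, _, _, _, e, he⟩ := SHSplit.exists_ring V
  obtain ⟨ι, _, ⟨Θ⟩⟩ := SHSplit.exists_split e he hV
  letI : Algebra A M := Algebra.compHom M (algebraMap A K)
  haveI : IsScalarTower A K M := IsScalarTower.of_algebraMap_eq' rfl
  obtain ⟨het, hfin⟩ := SHSplit.etale_integralClosure (A := A) R K L (M := M) Θ
  let A' := integralClosure A M
  let fA : Spec (CommRingCat.of A') ⟶ Spec (CommRingCat.of A) := Spec.map (CommRingCat.ofHom (algebraMap A A'))
  have h1 : IsFinite fA := by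
    rw [IsFinite.SpecMap_iff, CommRingCat.hom_ofHom, RingHom.finite_algebraMap]; exact hfin
  have h2 : Etale fA := by
    rw [HasRingHomProperty.Spec_iff (P := @Etale), CommRingCat.hom_ofHom, RingHom.etale_algebraMap]; exact het
  let lift := Algebra.TensorProduct.lift (Algebra.ofId K M) (integralClosure A M).val fun _ _ => Commute.all _ _
  let E := AlgEquiv.ofBijective lift (SHSplit.bijective_lift A K M)
  let i : Spec (CommRingCat.of M) ≅ Spec (CommRingCat.of (K ⊗[A] A')) :=
    Scheme.Spec.mapIso (E.toRingEquiv.toCommRingCatIso).op
  have hi : i.hom ≫ Spec.map (CommRingCat.ofHom (algebraMap K (K ⊗[A] A'))) =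
      Spec.map (CommRingCat.ofHom (algebraMap K M)) := by
    show Spec.map E.toRingEquiv.toCommRingCatIso.hom ≫ _ = _
    rw [← Spec.map_comp]
    congr 1
    ext k
    exact E.commutes k
  let Y : FEt.Cat (Spec (CommRingCat.of A)) := MorphismProperty.Over.mk ⊤ fA ⟨h1, h2⟩
  refine ⟨Y, ⟨(MorphismProperty.Over.isoMk (e ≪≫ i ≪≫ (pullbackSpecIso A K A').symm ≪≫ pullbackSymmetry _ _) ?_).symm⟩⟩
  show (e.hom ≫ i.hom ≫ (pullbackSpecIso A K A').inv ≫ (pullbackSymmetry _ _).hom) ≫ pullback.snd fA _ = V.hom
  simp only [fA, Category.assoc, pullbackSymmetry_hom_comp_snd]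
  rw [pullbackSpecIso_inv_fst', hi, he]

end Groth.Agent.S1143
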