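import Groth.Statements.S11435
import Groth.Agent.GITQuot.OrbitProper

set_option autoImplicit false
universe u
open CategoryTheory MonoidalCategory CartesianMonoidalCategory MonObj GrpObj AlgebraicGeometry Topology
open GIT

namespace Groth.Agent.S11435

/-- Over an algebraically closed field k, let a group scheme G of finite type act on a scheme X of
finite type and let x be a k-rational point of X. Then the orbit morphism ψ_x : G × Spec k → X ×
Spec k, g ↦ (g · x, pt), is proper if and only if the orbit of x (the image of ψ_x) is closed and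
the stabilizer of x (the fibre of ψ_x over (x, pt)) is proper over k. -/
theorem result (k : Type u) [Field k] [IsAlgClosed k]
    (G X : Over (Spec (CommRingCat.of k))) [GrpObj G] [LocallyOfFiniteType G.hom] [QuasiCompact G.hom]
    [LocallyOfFiniteType X.hom] [QuasiCompact X.hom] (a : AlgGrp.Action G X)
    (x : 𝟙_ (Over (Spec (CommRingCat.of k))) ⟶ X) :
    IsProper (GIT.psi a x).left ↔
      IsClosed (Set.range (GIT.psi a x).left.base) ∧
        IsProper (Limits.pullback.snd (GIT.psi a x).left (lift x (𝟙 (𝟙_ (Over (Spec (CommRingCat.of k)))))).left ≫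
          (𝟙_ (Over (Spec (CommRingCat.of k)))).hom) := by
  let I : Over (Spec (CommRingCat.of k)) := 𝟙_ _
  have e : GIT.psi a x ≫ fst X I = fst G I ≫ a.orbitMap x := by
    show lift ((G ◁ x) ≫ a.act) (snd G I) ≫ fst X I = fst G I ≫ lift (𝟙 G) (toUnit G ≫ x) ≫ a.act
    rw [lift_fst, comp_lift_assoc, Category.comp_id, ← Category.assoc (fst G I) (toUnit G)]
    congr 1
    apply CartesianMonoidalCategory.hom_ext
    · simp [I]
    · rw [whiskerLeft_snd, lift_snd, toUnit_unique (fst G I ≫ toUnit G) (snd G I)]
  haveI hG : IsIso (fst G I).left := by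
    haveI : IsIso (fst G I) := ⟨lift (𝟙 G) (toUnit G), by
      rw [comp_lift, Category.comp_id, toUnit_unique (fst G I ≫ toUnit G) (snd G I), lift_fst_snd], lift_fst _ _⟩
    exact inferInstanceAs (IsIso ((Over.forget _).map (fst G I)))
  haveI hX : IsIso (fst X I).left := by
    haveI : IsIso (fst X I) := ⟨lift (𝟙 X) (toUnit X), by
      rw [comp_lift, Category.comp_id, toUnit_unique (fst X I ≫ toUnit X) (snd X I), lift_fst_snd], lift_fst _ _⟩
    exact inferInstanceAs (IsIso ((Over.forget _).map (fst X I)))
  have el : (GIT.psi a x).left ≫ (fst X I).left = (fst G I).left ≫ (a.orbitMap x).left := congrArg Over.Hom.left e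
  have ex : (lift x (𝟙 I)).left ≫ (fst X I).left = x.left := by rw [← Over.comp_left, lift_fst]
  -- the square of stabilisers
  have sq : Limits.HasPullback (GIT.psi a x).left (lift x (𝟙 I)).left := inferInstance
  have P := ((IsPullback.of_hasPullback (GIT.psi a x).left (lift x (𝟙 I)).left).paste_horiz
    (IsPullback.of_horiz_isIso (⟨el.symm⟩ : CommSq (fst G I).left (GIT.psi a x).left (a.orbitMap x).left (fst X I).left)))
  rw [ex] at P
  have hprop : IsProper (GIT.psi a x).left ↔ IsProper (a.orbitMap x).left := by
    rw [← MorphismProperty.cancel_right_of_respectsIso (P := @IsProper) (GIT.psi a x).left (fst X I).left, el,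
      MorphismProperty.cancel_left_of_respectsIso (P := @IsProper)]
  have hclosed : IsClosed (Set.range (GIT.psi a x).left.base) ↔ IsClosed (Set.range (a.orbitMap x).left.base) := by
    rw [← (fst X I).left.homeomorph.isClosed_image]
    refine iff_of_eq (congrArg IsClosed ?_)
    rw [← Set.range_comp]
    show Set.range ((GIT.psi a x).left ≫ (fst X I).left).base = _
    rw [el, Scheme.Hom.comp_base, TopCat.coe_comp]
    exact (fst G I).left.surjective.range_comp _
  have hstab : IsProper (Limits.pullback.snd (GIT.psi a x).left (lift x (𝟙 I)).left ≫ I.hom) ↔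
      IsProper (Limits.pullback.snd (a.orbitMap x).left x.left) := by
    rw [show I.hom = 𝟙 _ from rfl, Category.comp_id, ← P.isoPullback_hom_snd,
      MorphismProperty.cancel_left_of_respectsIso (P := @IsProper)]
  rw [hprop, hclosed, hstab]
  refine ⟨fun h => ⟨(a.orbitMap x).left.isClosedMap.isClosed_range, inferInstance⟩, fun ⟨h₁, h₂⟩ => ?_⟩
  exact Groth.Agent.GITQuot.OrbitProper.isProper_orbitMap a x h₁ h₂

end Groth.Agent.S11435
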