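import Groth.Statements.S11453
import Groth.Agent.PullApart.Basic
import Mathlib.RingTheory.PrincipalIdealDomain
-- import your own Groth.Agent.* helpers here

set_option autoImplicit false
universe u
open scoped Polynomial
open DefT

namespace Groth.Agent.S11453

section Aux

open MvPolynomial in
theorem sub_C_eval_mem {k : Type u} [Field k] (p : Fin 2 → k) (v : MvPolynomial (Fin 2) k) :
    v - C (eval p v) ∈ Ideal.span (Set.range fun l => X l - C (p l)) := by
  induction v using MvPolynomial.induction_on with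
  | C a => simp
  | add a b ha hb =>
    have := add_mem ha hb
    rw [map_add, map_add]
    convert this using 1
    ring
  | mul_X a l ha =>
    have h : a * X l - C (eval p (a * X l)) = (a - C (eval p a)) * X l + C (eval p a) * (X l - C (p l)) := by
      rw [map_mul, eval_X, map_mul]; ring
    rw [h]
    exact add_mem (Ideal.mul_mem_right _ _ ha) (Ideal.mul_mem_left _ _ (Ideal.subset_span ⟨l, rfl⟩))

theorem le_span_of_eval {k : Type u} [Field k] (p : Fin 2 → k) {I : Ideal (MvPolynomial (Fin 2) k)}
    (h : ∀ v ∈ I, MvPolynomial.eval p v = 0) :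
    I ≤ Ideal.span (Set.range fun l => MvPolynomial.X l - MvPolynomial.C (p l)) := fun v hv => by
  simpa [h v hv] using sub_C_eval_mem p v

theorem core (k : Type u) [Field k] [IsAlgClosed k]
    (𝔞 : Ideal (MvPolynomial (Fin 2) k))
    (hsupp : 𝔞.radical = Ideal.span {MvPolynomial.X 0, MvPolynomial.X 1})
    (i j : Fin 2) (hij : i ≠ j) (hu : ∀ l : Fin 2, l = i ∨ l = j) (hj : MvPolynomial.X j ∉ 𝔞) :
    ∃ 𝔞' : Ideal (MvPolynomial (Fin 2) k)[X],
      RingHom.Flat (R := k[X]) (S := (MvPolynomial (Fin 2) k)[X] ⧸ 𝔞')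
        ((Ideal.Quotient.mk 𝔞').comp (Polynomial.mapRingHom (algebraMap k (MvPolynomial (Fin 2) k)))) ∧
      RingHom.Finite (A := k[X]) (B := (MvPolynomial (Fin 2) k)[X] ⧸ 𝔞')
        ((Ideal.Quotient.mk 𝔞').comp (Polynomial.mapRingHom (algebraMap k (MvPolynomial (Fin 2) k)))) ∧
      Ideal.map (Polynomial.evalRingHom (0 : MvPolynomial (Fin 2) k)) 𝔞' = 𝔞 ∧
      ∀ c : k, c ≠ 0 →
        Ideal.map (Polynomial.evalRingHom (MvPolynomial.C c)) 𝔞' ≤ Ideal.span {MvPolynomial.X 0, MvPolynomial.X 1} ∧
        ∃ p : Fin 2 → k, p ≠ 0 ∧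
          Ideal.map (Polynomial.evalRingHom (MvPolynomial.C c)) 𝔞' ≤
            Ideal.span (Set.range (fun i : Fin 2 => MvPolynomial.X i - MvPolynomial.C (p i))) := by
  classical
  let x : MvPolynomial (Fin 2) k := MvPolynomial.X i
  let y : MvPolynomial (Fin 2) k := MvPolynomial.X j
  have hrange : (Set.range fun l : Fin 2 => MvPolynomial.X l - MvPolynomial.C ((0 : Fin 2 → k) l)) =
      {MvPolynomial.X 0, MvPolynomial.X 1} := by
    ext z
    simp [Fin.exists_fin_two, eq_comm]
  have hmem : ∀ l : Fin 2, (MvPolynomial.X l : MvPolynomial (Fin 2) k) ∈ 𝔞.radical := fun l => by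
    rw [hsupp]; fin_cases l <;> exact Ideal.subset_span (by simp)
  obtain ⟨M, hM⟩ := hmem i
  obtain ⟨N, hN⟩ := hmem j
  let h0 : MvPolynomial (Fin 2) k →ₐ[k] k[X] := MvPolynomial.aeval (fun l => if l = i then Polynomial.X else 0)
  have h0x : h0 x = Polynomial.X := by simp [h0, x]
  have h0y : h0 y = 0 := by simp [h0, y, hij.symm]
  have hcong : ∀ v, v - Polynomial.aeval x (h0 v) ∈ Ideal.span {y} := fun v => by
    induction v using MvPolynomial.induction_on with
    | C a =>
      rw [show (MvPolynomial.C a : MvPolynomial (Fin 2) k) = algebraMap k _ a from rfl, AlgHom.commutes,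
        Polynomial.algebraMap_eq, Polynomial.aeval_C, sub_self]
      exact zero_mem _
    | add a b ha hb =>
      have := add_mem ha hb
      rw [map_add, map_add]
      convert this using 1
      ring
    | mul_X a l ha =>
      rw [map_mul, map_mul]
      rcases hu l with rfl | rfl
      · change a * x - Polynomial.aeval x (h0 a) * Polynomial.aeval x (h0 x) ∈ _
        rw [h0x, Polynomial.aeval_X, ← sub_mul]
        exact Ideal.mul_mem_right _ _ ha
      · change a * y - Polynomial.aeval x (h0 a) * Polynomial.aeval x (h0 y) ∈ _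
        rw [h0y, map_zero, mul_zero, sub_zero]
        exact Ideal.mul_mem_left _ _ (Ideal.mem_span_singleton_self _)
  -- the monic generator of the restriction to `y = 0`
  have hsurj : Function.Surjective h0 := fun g => ⟨Polynomial.aeval x g, by
    rw [← Polynomial.aeval_algHom_apply, h0x, Polynomial.aeval_X_left_apply]⟩
  let J : Ideal k[X] := 𝔞.map h0.toRingHom
  have hJM : Polynomial.X ^ M ∈ J := by
    have := Ideal.mem_map_of_mem h0.toRingHom hM
    rwa [map_pow, AlgHom.toRingHom_eq_coe, RingHom.coe_coe, h0x] at this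
  obtain ⟨Q0, hQ0⟩ : ∃ Q, J = Ideal.span {Q} := ⟨_, (Ideal.span_singleton_generator J).symm⟩
  have hQ0ne : Q0 ≠ 0 := by
    rintro rfl
    rw [hQ0, Ideal.mem_span_singleton, zero_dvd_iff] at hJM
    exact pow_ne_zero _ Polynomial.X_ne_zero hJM
  let Q := Q0 * Polynomial.C Q0.leadingCoeff⁻¹
  have hQm : Q.Monic := Polynomial.monic_mul_leadingCoeff_inv hQ0ne
  have hQJ : J = Ideal.span {Q} := by
    rw [hQ0]
    exact (Ideal.span_singleton_mul_right_unit (Polynomial.isUnit_C.2 (isUnit_iff_ne_zero.2
      (inv_ne_zero (Polynomial.leadingCoeff_ne_zero.2 hQ0ne)))) _).symm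
  obtain ⟨q0, hq0, hq0Q⟩ : ∃ q ∈ 𝔞, h0 q = Q :=
    (Ideal.mem_map_iff_of_surjective h0.toRingHom hsurj).1 (show Q ∈ J by rw [hQJ]; exact Ideal.mem_span_singleton_self _)
  have h𝔞0 : ∀ v ∈ 𝔞, MvPolynomial.eval (0 : Fin 2 → k) v = 0 := fun v hv => by
    have hle : Ideal.span {MvPolynomial.X 0, MvPolynomial.X 1} ≤
        RingHom.ker (MvPolynomial.eval (0 : Fin 2 → k)) := by
      rw [Ideal.span_le]; rintro z (rfl | rfl) <;> simp
    exact hle (hsupp ▸ Ideal.le_radical hv)
  let a := Q.natDegree
  have ha : 1 ≤ a := by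
    by_contra h
    have h1 : Q = 1 := Polynomial.eq_one_of_monic_natDegree_zero hQm (by omega)
    have h2 := hcong q0
    rw [hq0Q, h1, map_one, Ideal.mem_span_singleton'] at h2
    obtain ⟨w, hw⟩ := h2
    have h3 := congrArg (MvPolynomial.eval (0 : Fin 2 → k)) hw
    rw [map_mul, map_sub, map_one, h𝔞0 q0 hq0] at h3
    simp [y] at h3
  let ψ : k[X][X] →+* MvPolynomial (Fin 2) k := Polynomial.eval₂RingHom (Polynomial.aeval y).toRingHom x
  -- normal forms
  have hV : ∀ v, ∃ r : k[X], r.degree < Q.degree ∧ ∃ m ∈ 𝔞, ∃ w, v = Polynomial.aeval x r + m + y * w := fun v => by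
    refine ⟨h0 v %ₘ Q, Polynomial.degree_modByMonic_lt _ hQm, Polynomial.aeval x (h0 v /ₘ Q) * q0,
      Ideal.mul_mem_left _ _ hq0, ?_⟩
    obtain ⟨w1, hw1⟩ := Ideal.mem_span_singleton'.1 (hcong v)
    obtain ⟨w2, hw2⟩ := Ideal.mem_span_singleton'.1 (hcong q0)
    rw [hq0Q] at hw2
    refine ⟨w1 - Polynomial.aeval x (h0 v /ₘ Q) * w2, ?_⟩
    have h3 := congrArg (Polynomial.aeval x) (Polynomial.modByMonic_add_div (h0 v) Q)
    rw [map_add, map_mul] at h3
    linear_combination -hw1 - h3 + (Polynomial.aeval x (h0 v /ₘ Q)) * hw2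
  have hnak : ∀ (n : ℕ) v, ∃ R : k[X][X], R.degree < Q.degree ∧ ∃ m ∈ 𝔞, ∃ w, v = ψ R + m + y ^ n * w := fun n => by
    induction n with
    | zero => exact fun v => ⟨0, by rw [Polynomial.degree_zero]; exact bot_lt_iff_ne_bot.2 (by simp [hQm.ne_zero]),
        0, zero_mem _, v, by simp⟩
    | succ n ih =>
      intro v
      obtain ⟨R, hR, m, hm, w, rfl⟩ := ih v
      obtain ⟨r, hr, m', hm', w', rfl⟩ := hV w
      refine ⟨R + Polynomial.C (Polynomial.X ^ n) * r.map Polynomial.C, ?_, m + y ^ n * m',
        add_mem hm (Ideal.mul_mem_left _ _ hm'), w', ?_⟩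
      · refine (Polynomial.degree_add_le _ _).trans_lt (max_lt hR ((Polynomial.degree_mul_le _ _).trans_lt ?_))
        refine lt_of_le_of_lt ?_ hr
        calc _ ≤ (0 : WithBot ℕ) + r.degree :=
              add_le_add Polynomial.degree_C_le Polynomial.degree_map_le
          _ = r.degree := zero_add _
      · have hψr : ψ (r.map Polynomial.C) = Polynomial.aeval x r := by
          simp only [ψ, Polynomial.coe_eval₂RingHom, Polynomial.eval₂_map, Polynomial.aeval_def]
          congr 1
          exact RingHom.ext fun c => by simp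
        have hψC : ψ (Polynomial.C (Polynomial.X ^ n)) = y ^ n := by
          rw [Polynomial.C_pow, map_pow]
          simp [ψ]
        rw [map_add, map_mul, hψr, hψC]
        ring
  obtain ⟨R, hR, m, hm, w, hxa⟩ := hnak N (x ^ a)
  let P : k[X][X] := Polynomial.X ^ a - R
  have hRa : R.degree < (a : WithBot ℕ) := hR.trans_le Polynomial.degree_le_natDegree
  have hP : P.Monic := Polynomial.monic_X_pow_sub hRa
  have hPd : P.natDegree = a := by
    refine Polynomial.natDegree_eq_of_degree_eq_some ?_
    rw [Polynomial.degree_sub_eq_left_of_degree_lt (by rwa [Polynomial.degree_X_pow]), Polynomial.degree_X_pow]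
  let f := ψ P
  have hf : f ∈ 𝔞 := by
    show ψ (Polynomial.X ^ a - R) ∈ _
    rw [map_sub, map_pow, show ψ Polynomial.X = x by simp [ψ], hxa]
    have : m + y ^ N * w ∈ 𝔞 := add_mem hm (Ideal.mul_mem_right _ _ hN)
    convert this using 1
    ring
  have h0ψ : ∀ R' : k[X][X], h0 (ψ R') = R'.map (Polynomial.evalRingHom 0) := fun R' => by
    have h : h0.toRingHom.comp ψ = Polynomial.mapRingHom (Polynomial.evalRingHom 0) := by
      refine Polynomial.ringHom_ext (fun g => ?_) ?_
      · show h0 (ψ (Polynomial.C g)) = Polynomial.map _ (Polynomial.C g)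
        rw [Polynomial.map_C, show ψ (Polynomial.C g) = Polynomial.aeval y g by simp [ψ],
          ← Polynomial.aeval_algHom_apply, h0y]
        simp [Polynomial.aeval_def, Polynomial.eval₂_at_zero, Polynomial.coeff_zero_eq_eval_zero]
      · show h0 (ψ Polynomial.X) = Polynomial.map _ Polynomial.X
        rw [Polynomial.map_X, show ψ Polynomial.X = x by simp [ψ], h0x]
    exact RingHom.congr_fun h R'
  have hf0 : h0 f = Q := by
    have hm0 : (P.map (Polynomial.evalRingHom (0 : k))).Monic := hP.map _
    have hd : (P.map (Polynomial.evalRingHom (0 : k))).natDegree = a := by rw [hP.natDegree_map, hPd]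
    have hdvd : Q ∣ P.map (Polynomial.evalRingHom (0 : k)) := by
      rw [← h0ψ, ← Ideal.mem_span_singleton, ← hQJ]
      exact Ideal.mem_map_of_mem h0.toRingHom hf
    rw [h0ψ]
    exact (Polynomial.eq_of_monic_of_dvd_of_natDegree_le hQm hm0 hdvd hd.le)
  let 𝔟 : Ideal (MvPolynomial (Fin 2) k) := 𝔞.colon {y}
  have hb : ∀ {v}, v ∈ 𝔟 ↔ v * y ∈ 𝔞 := fun {v} => Submodule.mem_colon_singleton
  have h𝔞b : 𝔞 ≤ 𝔟 := fun v hv => hb.2 (Ideal.mul_mem_right _ _ hv)
  have hgen : Ideal.span {f} ⊔ Ideal.span {y} * 𝔟 = 𝔞 := by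
    refine le_antisymm (sup_le ((Ideal.span_singleton_le_iff_mem _).2 hf)
      (Ideal.span_singleton_mul_le_iff.2 fun z hz => by rw [mul_comm]; exact hb.1 hz)) fun h hh => ?_
    have h1 : h0 h ∈ J := Ideal.mem_map_of_mem h0.toRingHom hh
    rw [hQJ, Ideal.mem_span_singleton'] at h1
    obtain ⟨q, hq⟩ := h1
    have h2 := hcong (h - Polynomial.aeval x q * f)
    have h3 : h0 (h - Polynomial.aeval x q * f) = 0 := by
      rw [map_sub, map_mul, hf0, ← Polynomial.aeval_algHom_apply, h0x, Polynomial.aeval_X_left_apply, hq, sub_self]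
    rw [h3, map_zero, sub_zero, Ideal.mem_span_singleton'] at h2
    obtain ⟨w, hw⟩ := h2
    rw [show h = Polynomial.aeval x q * f + y * w by linear_combination -hw]
    refine Submodule.add_mem_sup (Ideal.mul_mem_left _ _ (Ideal.mem_span_singleton_self _))
      (Ideal.mul_mem_mul (Ideal.mem_span_singleton_self _) (hb.2 ?_))
    rw [hw]
    exact sub_mem hh (Ideal.mul_mem_left _ _ hf)
  let φ : MvPolynomial (Fin 2) k →ₐ[k] k[X][X] :=
    MvPolynomial.aeval (fun l => if l = i then Polynomial.X else Polynomial.C Polynomial.X)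
  have hψφ : ∀ v, ψ (φ v) = v := fun v => by
    induction v using MvPolynomial.induction_on with
    | C a => simp [φ, ψ, Polynomial.algebraMap_apply, MvPolynomial.algebraMap_eq]
    | add a b ha hb => rw [map_add, map_add, ha, hb]
    | mul_X a l ha =>
      rw [map_mul, map_mul, ha]
      congr 1
      rcases hu l with rfl | rfl
      · simp [φ, ψ, x]
      · simp [φ, ψ, y, hij.symm]
  have hφψ : ∀ R', φ (ψ R') = R' := fun R' => by
    have h : φ.toRingHom.comp ψ = RingHom.id _ := by
      refine Polynomial.ringHom_ext (fun g => ?_) ?_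
      · show φ (ψ (Polynomial.C g)) = Polynomial.C g
        rw [show ψ (Polynomial.C g) = Polynomial.aeval y g by simp [ψ], ← Polynomial.aeval_algHom_apply,
          show φ y = Polynomial.C Polynomial.X by simp [φ, y, hij.symm]]
        show Polynomial.aeval ((Polynomial.CAlgHom (R := k) (A := k[X])) Polynomial.X) g = Polynomial.CAlgHom (R := k) g
        rw [Polynomial.aeval_algHom_apply, Polynomial.aeval_X_left_apply]
      · show φ (ψ Polynomial.X) = Polynomial.X
        simp [φ, ψ, x]
    exact RingHom.congr_fun h R'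
  have hfne : f ≠ 0 := fun h => hP.ne_zero (by have := hφψ P; rw [show ψ P = 0 from h, map_zero] at this; exact this.symm)
  have hreg : ∀ g : k[X], g ≠ 0 → ∀ v, f ∣ Polynomial.aeval y g * v → f ∣ v := fun g hg v hv => by
    have h1 : P ∣ Polynomial.C g * φ v := by
      have := map_dvd φ hv
      rwa [show φ f = P from hφψ P, map_mul, show Polynomial.aeval y g = ψ (Polynomial.C g) by simp [ψ], hφψ] at this
    have h2 : φ v %ₘ P = 0 := by
      rw [← Polynomial.modByMonic_eq_zero_iff_dvd hP, ← Polynomial.smul_eq_C_mul, Polynomial.smul_modByMonic] at h1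
      exact (smul_eq_zero.1 h1).resolve_left hg
    have h3 := map_dvd ψ ((Polynomial.modByMonic_eq_zero_iff_dvd hP).1 h2)
    rwa [hψφ] at h3
  have hadj : Algebra.adjoin k ({x, y} : Set (MvPolynomial (Fin 2) k)) = ⊤ := by
    rw [← MvPolynomial.adjoin_range_X]
    congr 1
    ext z
    constructor
    · rintro (rfl | rfl) <;> exact ⟨_, rfl⟩
    · rintro ⟨l, rfl⟩; rcases hu l with rfl | rfl <;> simp [x, y]
  have hfb : f ∈ 𝔟 := h𝔞b hf
  refine ⟨Groth.Agent.PullApart.family f y 𝔟, Groth.Agent.PullApart.flat_family hfb (IsRegular.of_ne_zero hfne).left hreg,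
    Groth.Agent.PullApart.finite_family hadj hP rfl (h𝔞b hN), ?_, fun c hc => ⟨?_, ?_⟩⟩
  · rw [Groth.Agent.PullApart.map_family, sub_zero, hgen]
  · rw [Groth.Agent.PullApart.map_family]
    have hb0 : ∀ v ∈ 𝔟, MvPolynomial.eval (0 : Fin 2 → k) v = 0 := fun v hv => by
      by_contra hne
      apply hj
      have hm : Ideal.span {MvPolynomial.X 0, MvPolynomial.X 1} = RingHom.ker (MvPolynomial.eval (0 : Fin 2 → k)) := by
        refine le_antisymm (by rw [Ideal.span_le]; rintro z (rfl | rfl) <;> simp) ?_
        rw [← hrange]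
        exact le_span_of_eval 0 fun v hv => hv
      have hsup : Ideal.span {v} ⊔ 𝔞.radical = ⊤ := by
        rw [hsupp, hm, Ideal.eq_top_iff_one]
        refine Submodule.mem_sup.2 ⟨MvPolynomial.C (MvPolynomial.eval 0 v)⁻¹ * v,
          Ideal.mul_mem_left _ _ (Ideal.mem_span_singleton_self _),
          1 - MvPolynomial.C (MvPolynomial.eval 0 v)⁻¹ * v, ?_, by ring⟩
        rw [RingHom.mem_ker, map_sub, map_one, map_mul, MvPolynomial.eval_C, inv_mul_cancel₀ hne, sub_self]
      have hsup' : Ideal.span {v} ⊔ 𝔞 = ⊤ := by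
        rw [← Ideal.radical_eq_top, Ideal.radical_sup, _root_.eq_top_iff, ← hsup]
        exact le_trans (sup_le_sup Ideal.le_radical le_rfl) Ideal.le_radical
      obtain ⟨u, hu', z, hz, huz⟩ := Submodule.mem_sup.1 ((Ideal.eq_top_iff_one _).1 hsup')
      obtain ⟨d, rfl⟩ := Ideal.mem_span_singleton'.1 hu'
      have : y = d * (v * y) + z * y := by linear_combination -y * huz
      show y ∈ 𝔞
      rw [this]
      exact add_mem (Ideal.mul_mem_left _ _ (hb.1 hv)) (Ideal.mul_mem_right _ _ hz)
    rw [← hrange]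
    refine le_span_of_eval 0 fun v hv => ?_
    have hle : Ideal.span {f} ⊔ Ideal.span {y - MvPolynomial.C c} * 𝔟 ≤
        RingHom.ker (MvPolynomial.eval (0 : Fin 2 → k)) :=
      sup_le ((Ideal.span_singleton_le_iff_mem _).2 (h𝔞0 f hf)) (Ideal.mul_le_right.trans hb0)
    exact hle hv
  · rw [Groth.Agent.PullApart.map_family]
    obtain ⟨x0, hx0⟩ := IsAlgClosed.exists_root (P.map (Polynomial.evalRingHom c)) (fun h => by
      have h1 : (P.map (Polynomial.evalRingHom c)).natDegree = 0 := Polynomial.natDegree_eq_of_degree_eq_some h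
      rw [hP.natDegree_map, hPd] at h1
      omega)
    refine ⟨fun l => if l = i then x0 else c, fun h => hc (by simpa [hij.symm] using congrFun h j), ?_⟩
    refine le_span_of_eval _ fun v hv => ?_
    have hev : (MvPolynomial.eval fun l => if l = i then x0 else c).comp ψ =
        (Polynomial.evalRingHom x0).comp (Polynomial.mapRingHom (Polynomial.evalRingHom c)) := by
      refine Polynomial.ringHom_ext (fun g => ?_) ?_
      · induction g using Polynomial.induction_on' with
        | add p q hp hq => simp only [map_add, hp, hq]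
        | monomial n e => simp [ψ, y, hij.symm, Polynomial.aeval_monomial]
      · simp [ψ, x]
    have hle : Ideal.span {f} ⊔ Ideal.span {y - MvPolynomial.C c} * 𝔟 ≤
        RingHom.ker (MvPolynomial.eval fun l => if l = i then x0 else c) :=
      sup_le ((Ideal.span_singleton_le_iff_mem _).2 ((RingHom.congr_fun hev P).trans hx0))
        (Ideal.mul_le_left.trans ((Ideal.span_singleton_le_iff_mem _).2 (RingHom.mem_ker.2 (by simp [y, hij.symm]))))
    exact hle hv

end Aux

/-- Let k be an algebraically closed field, A = k[x, y], and 𝔞 ⊆ A an ideal of finite colength n ≥ 2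
with radical (x, y), i.e. Spec(A/𝔞) is supported at the origin. Then there is an ideal 𝔞' ⊆ A[t]
defining a family finite and flat over k[t] (A[t]/𝔞' is a finitely generated flat k[t]-module, hence
locally free of rank n) whose fibre at t = 0 is 𝔞 and whose fibre ideal 𝔞_c at every c ≠ 0 is
contained in the maximal ideal of the origin and in the maximal ideal of some other k-point p ≠ (0,
0); so for t ≠ 0 the fibre is supported at two or more distinct points. (The published statement
allows colength 1 and puts the second point at (0, t); for colength 1 every finite flat family has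
one-point fibres, and the family constructed in the published proof has its second piece at the
roots of f(x, t) on the line y = t after a linear change of the coordinates x, y, which need not lie
at x = 0; this row states what that construction yields. The published statement asks the family to
be flat over k[t]; this row asks it to be finite and flat, as the constructed family is — f is monic
in x and (y − t)·y^N lies in the ideal for some N — and as the published proof's count of the
constant fibre length n presupposes; with flatness alone the fibre conditions here could be met by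
adjoining a component that never meets t = 0.) -/
theorem result (k : Type u) [Field k] [IsAlgClosed k]
    (𝔞 : Ideal (MvPolynomial (Fin 2) k)) [Module.Finite k (MvPolynomial (Fin 2) k ⧸ 𝔞)]
    (hn : 2 ≤ Module.finrank k (MvPolynomial (Fin 2) k ⧸ 𝔞))
    (hsupp : 𝔞.radical = Ideal.span {MvPolynomial.X 0, MvPolynomial.X 1}) :
    ∃ 𝔞' : Ideal (MvPolynomial (Fin 2) k)[X],
      RingHom.Flat (R := k[X]) (S := (MvPolynomial (Fin 2) k)[X] ⧸ 𝔞')
        ((Ideal.Quotient.mk 𝔞').comp (Polynomial.mapRingHom (algebraMap k (MvPolynomial (Fin 2) k)))) ∧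
      RingHom.Finite (A := k[X]) (B := (MvPolynomial (Fin 2) k)[X] ⧸ 𝔞')
        ((Ideal.Quotient.mk 𝔞').comp (Polynomial.mapRingHom (algebraMap k (MvPolynomial (Fin 2) k)))) ∧
      Ideal.map (Polynomial.evalRingHom (0 : MvPolynomial (Fin 2) k)) 𝔞' = 𝔞 ∧
      ∀ c : k, c ≠ 0 →
        Ideal.map (Polynomial.evalRingHom (MvPolynomial.C c)) 𝔞' ≤ Ideal.span {MvPolynomial.X 0, MvPolynomial.X 1} ∧
        ∃ p : Fin 2 → k, p ≠ 0 ∧
          Ideal.map (Polynomial.evalRingHom (MvPolynomial.C c)) 𝔞' ≤
            Ideal.span (Set.range (fun i : Fin 2 => MvPolynomial.X i - MvPolynomial.C (p i))) := by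
  by_cases hy : MvPolynomial.X 1 ∈ 𝔞
  · refine core k 𝔞 hsupp 1 0 (by decide) (by decide) fun hx => ?_
    have hle : Ideal.span {MvPolynomial.X 0, MvPolynomial.X 1} ≤ 𝔞 := by
      rw [Ideal.span_le]; rintro z (rfl | rfl) <;> assumption
    have hr : (Set.range fun l : Fin 2 => MvPolynomial.X l - MvPolynomial.C ((0 : Fin 2 → k) l)) =
        {MvPolynomial.X 0, MvPolynomial.X 1} := by
      ext z
      simp [Fin.exists_fin_two, eq_comm]
    have h1 : Module.finrank k (MvPolynomial (Fin 2) k ⧸ 𝔞) ≤ 1 := by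
      refine finrank_le_one (Ideal.Quotient.mk 𝔞 1) fun w => ?_
      obtain ⟨v, rfl⟩ := Ideal.Quotient.mk_surjective w
      refine ⟨MvPolynomial.eval 0 v, ?_⟩
      show Ideal.Quotient.mk 𝔞 (MvPolynomial.eval 0 v • 1) = _
      rw [MvPolynomial.smul_eq_C_mul, mul_one]
      refine (Ideal.Quotient.mk_eq_mk_iff_sub_mem _ _).2 ?_
      rw [← neg_sub]
      exact neg_mem (hle (hr ▸ sub_C_eval_mem 0 v))
    omega
  · exact core k 𝔞 hsupp 0 1 (by decide) (by decide) hy

end Groth.Agent.S11453
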