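import Groth.Statements.S11459
import Groth.Agent.DefTCodim2.Reduce

set_option autoImplicit false
universe u
open DefT

namespace Groth.Agent.S11459

/-- Let C' be a local Artin ring, J ⊊ C' a proper ideal annihilated by the maximal ideal, C = C'/J, A' a
flat C'-algebra of finite type with smooth special fibre, A = A'/JA', and φ an (r+1) × r matrix over
A with 0 → A^r → A^{r+1} → A exact (matrix, then signed maximal minors f_i) A/(f_0, …, f_r) flat
over C, and every prime of A containing (f_0, …, f_r) of height ≥ 2 (codimension 2). Then any ideal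
I' ⊆ A' such that A'/I' is flat over C' and the image of I' in A is (f_0, …, f_r) is generated by
the signed maximal minors of some matrix φ' over A' reducing to φ. -/
theorem result (C' : Type u) [CommRing C'] [IsLocalRing C'] [IsArtinianRing C'] (J : Ideal C')
    (hJ : IsLocalRing.maximalIdeal C' * J = ⊥) (hJne : J ≠ ⊤) (A' : Type u) [CommRing A'] [Algebra C' A'] [Module.Flat C' A']
    [Algebra.FiniteType C' A']
    [Algebra.Smooth (C' ⧸ IsLocalRing.maximalIdeal C') (A' ⧸ (IsLocalRing.maximalIdeal C').map (algebraMap C' A'))]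
    (r : ℕ) (φ : Matrix (Fin (r + 1)) (Fin r) (A' ⧸ J.map (algebraMap C' A')))
    (hφ : Function.Injective φ.mulVecLin ∧
      LinearMap.range φ.mulVecLin = LinearMap.ker (Fintype.linearCombination (A' ⧸ J.map (algebraMap C' A')) (fun i : Fin (r + 1) => (-1 : (A' ⧸ J.map (algebraMap C' A'))) ^ (i : ℕ) * ((φ).submatrix i.succAbove id).det)))
    [Module.Flat (C' ⧸ J) ((A' ⧸ J.map (algebraMap C' A')) ⧸ Ideal.span (Set.range (fun i : Fin (r + 1) => (-1 : (A' ⧸ J.map (algebraMap C' A'))) ^ (i : ℕ) * ((φ).submatrix i.succAbove id).det)))]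
    (hcodim : ∀ p : Ideal (A' ⧸ J.map (algebraMap C' A')), p.IsPrime →
      Ideal.span (Set.range (fun i : Fin (r + 1) => (-1 : (A' ⧸ J.map (algebraMap C' A'))) ^ (i : ℕ) * ((φ).submatrix i.succAbove id).det)) ≤ p → (2 : ℕ∞) ≤ p.height)
    (I' : Ideal A') [Module.Flat C' (A' ⧸ I')]
    (hI' : I'.map (Ideal.Quotient.mk (J.map (algebraMap C' A'))) = Ideal.span (Set.range (fun i : Fin (r + 1) => (-1 : (A' ⧸ J.map (algebraMap C' A'))) ^ (i : ℕ) * ((φ).submatrix i.succAbove id).det))) :
    ∃ φ' : Matrix (Fin (r + 1)) (Fin r) A', φ'.map (Ideal.Quotient.mk (J.map (algebraMap C' A'))) = φ ∧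
      I' = Ideal.span (Set.range (fun i : Fin (r + 1) => (-1 : A') ^ (i : ℕ) * ((φ').submatrix i.succAbove id).det)) := by
  have : IsNoetherianRing A' := Algebra.FiniteType.isNoetherianRing C' A'
  choose φ₁ hφ₁ using fun i j => Ideal.Quotient.mk_surjective (φ i j)
  have hmap : (Matrix.of φ₁).map (Ideal.Quotient.mk (J.map (algebraMap C' A'))) = φ := by
    ext i j; exact hφ₁ i j
  have hex : Groth.Agent.DefTCodim2.ExactMod (Matrix.of φ₁)
      ((IsLocalRing.maximalIdeal C').map (algebraMap C' A')) :=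
    Groth.Agent.DefTCodim2.exactMod_of_exact J hJne (Matrix.of φ₁) (by rw [hmap]; exact hφ.1)
      (by rw [hmap]; exact hφ.2) (by rw [hmap]; exact ‹Module.Flat (C' ⧸ J) _›)
  have hI : I'.map (Ideal.Quotient.mk (J.map (algebraMap C' A'))) =
      (Ideal.span (Set.range (Groth.Agent.McCoy.delta (Matrix.of φ₁)))).map
        (Ideal.Quotient.mk (J.map (algebraMap C' A'))) := by
    rw [hI', Ideal.map_span, ← Set.range_comp]
    refine congrArg (fun f => Ideal.span (Set.range f)) (funext fun i => ?_)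
    show _ = Ideal.Quotient.mk _ (Groth.Agent.McCoy.delta (Matrix.of φ₁) i)
    rw [← Groth.Agent.DefTCodim2.map_delta, hmap]
    rfl
  obtain ⟨φ', h1, h2, -, -⟩ := Groth.Agent.DefTCodim2.exists_lift (Matrix.of φ₁) J hJne hex I' hI
  exact ⟨φ', h1.trans hmap, h2.symm⟩

end Groth.Agent.S11459
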