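import Groth.Statements.S11462
import Groth.Agent.Hartogs.Basic
import Groth.Agent.S2062
import Groth.Agent.ParaFX.Ufd

set_option autoImplicit false
universe u
open CategoryTheory AlgebraicGeometry Opposite
open DefT

namespace Groth.Agent.S11462

set_option backward.isDefEq.respectTransparency false
set_option backward.isDefEq.respectTransparency.types false

/-- Let C be a local Artin ring with maximal ideal m, A a Noetherian C-algebra flat over C such that
Spec(A/mA) is a normal scheme, and U ⊆ X = Spec A an open subset whose closed complement has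
codimension ≥ 2, i.e. every prime of A not in U has height at least 2. Then the restriction map Γ(X,
O_X) → Γ(U, O_X) is bijective. (The published statement assumes only that A is flat over C with
normal special fibre; this row also assumes A Noetherian: for a valuation ring of rank two over a
field, which is normal and flat, the functions on the complement of the closed point are not all
global.) -/
theorem result (C : Type u) [CommRing C]
    [IsLocalRing C] [IsArtinianRing C] (A : Type u) [CommRing A] [IsNoetherianRing A] [Algebra C A]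
    [Module.Flat C A]
    (hnorm : Pi1.IsNormalScheme (Spec (CommRingCat.of (A ⧸ (IsLocalRing.maximalIdeal C).map (algebraMap C A)))))
    (U : (Spec (CommRingCat.of A)).Opens)
    (hU : ∀ p : ↥(Spec (CommRingCat.of A)), p ∉ U → (2 : ℕ∞) ≤ p.asIdeal.height) :
    Function.Bijective ((Spec (CommRingCat.of A)).presheaf.map (homOfLE (le_top : U ≤ ⊤)).op) := by
  refine Groth.Agent.Hartogs.spec_bijective A U fun p hp => ?_
  have hh : (2 : ℕ∞) ≤ p.asIdeal.height := hU p hp
  set S := Localization.AtPrime p.asIdeal
  set I : Ideal A := (IsLocalRing.maximalIdeal C).map (algebraMap C A) with hI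
  obtain ⟨n, hn⟩ := (isArtinianRing_iff_isNilpotent_maximalIdeal C).1 inferInstance
  have hIn : I ^ n = ⊥ := by rw [hI, ← Ideal.map_pow, hn, Ideal.zero_eq_bot, Ideal.map_bot]
  have hIp : I ≤ p.asIdeal := Ideal.IsPrime.le_of_pow_le (hIn.le.trans bot_le)
  haveI : Module.Flat A S := IsLocalization.flat S p.asIdeal.primeCompl
  haveI : Module.Flat C S := Module.Flat.trans C A S
  haveI : IsLocalHom (algebraMap C S) := ⟨fun c hc => by
    by_contra hcu
    have h1 : algebraMap C A c ∈ p.asIdeal :=
      hIp (Ideal.mem_map_of_mem _ ((IsLocalRing.mem_maximalIdeal c).2 hcu))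
    rw [IsScalarTower.algebraMap_apply C A S] at hc
    exact ((IsLocalization.AtPrime.isUnit_to_map_iff S p.asIdeal _).1 hc) h1⟩
  -- the quotient by the nilpotent ideal
  let Q : Ideal S := I.map (algebraMap A S)
  have hQ : (IsLocalRing.maximalIdeal C).map (algebraMap C S) = Q := by
    show _ = Ideal.map _ (Ideal.map _ _)
    rw [Ideal.map_map, ← IsScalarTower.algebraMap_eq C A S]
  have hQn : Q ^ n = ⊥ := by rw [← Ideal.map_pow, hIn, Ideal.map_bot]
  have hQmax : Q ≤ IsLocalRing.maximalIdeal S :=
    IsLocalRing.le_maximalIdeal fun h => bot_ne_top (α := Ideal S) (by rw [← hQn, h, ← Ideal.one_eq_top, one_pow])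
  let B := A ⧸ I
  let p' : Ideal B := p.asIdeal.map (Ideal.Quotient.mk I)
  haveI hp' : p'.IsPrime := Ideal.map_isPrime_of_surjective Ideal.Quotient.mk_surjective (by rwa [Ideal.mk_ker])
  have hsub : Algebra.algebraMapSubmonoid B p.asIdeal.primeCompl = p'.primeCompl := by
    ext b
    constructor
    · rintro ⟨a, ha, rfl⟩ hb
      rcases (Ideal.mem_map_iff_of_surjective _ Ideal.Quotient.mk_surjective).1 hb with ⟨c, hc, hca⟩
      have : a - c ∈ I := Ideal.Quotient.eq.1 hca.symm
      exact ha (by simpa using Ideal.add_mem _ (hIp this) hc)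
    · intro hb
      obtain ⟨a, rfl⟩ := Ideal.Quotient.mk_surjective b
      exact ⟨a, fun ha => hb (Ideal.mem_map_of_mem _ ha), rfl⟩
  haveI : IsLocalization.AtPrime (S ⧸ Q) p' := by
    show IsLocalization p'.primeCompl (S ⧸ Q)
    rw [← hsub]; infer_instance
  let x' : PrimeSpectrum.Top B := (⟨p', hp'⟩ : PrimeSpectrum B)
  have hn' : IsDomain ((Spec.structureSheaf B).presheaf.stalk x') ∧
      IsIntegrallyClosed ((Spec.structureSheaf B).presheaf.stalk x') := hnorm x'
  obtain ⟨hdom, hic⟩ := hn'
  haveI : IsLocalization p'.primeCompl ((Spec.structureSheaf B).presheaf.stalk x') :=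
    StructureSheaf.IsLocalization.to_stalk B x'
  let σ : (S ⧸ Q) ≃+* (Spec.structureSheaf B).presheaf.stalk x' :=
    (IsLocalization.algEquiv p'.primeCompl (S ⧸ Q) ((Spec.structureSheaf B).presheaf.stalk x')).toRingEquiv
  haveI : IsDomain (S ⧸ Q) := σ.toMulEquiv.isDomain _
  haveI : IsIntegrallyClosed (S ⧸ Q) := IsIntegrallyClosed.of_equiv σ.symm
  haveI : Nontrivial (S ⧸ Q) := inferInstance
  haveI : IsLocalRing (S ⧸ Q) := IsLocalRing.of_surjective' (Ideal.Quotient.mk Q) Ideal.Quotient.mk_surjective
  have hdim : (2 : WithBot ℕ∞) ≤ ringKrullDim (S ⧸ Q) := by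
    have hz : PrimeSpectrum.zeroLocus (Q : Set S) = Set.univ :=
      Set.eq_univ_of_forall fun q => Ideal.IsPrime.le_of_pow_le (hQn.le.trans bot_le)
    rw [ringKrullDim_quotient, hz, Order.krullDim_eq_of_orderIso OrderIso.Set.univ, ← ringKrullDim,
      IsLocalization.AtPrime.ringKrullDim_eq_height p.asIdeal S]
    exact WithBot.coe_le_coe.2 hh
  have h2 := Groth.Agent.ParaFX.two_le_depth_of_normal (S ⧸ Q) hdim
  have hkey := Groth.Agent.S2062.result (R := C) (S := S) (M := C) (N := S)
  have e1 : LocCoh.depth S (TensorProduct C S C) = LocCoh.depth S S :=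
    Groth.Agent.Alg6.depth_eq_of_semilinear (RingHom.id S) Function.surjective_id
      (TensorProduct.rid C S).toAddEquiv (fun r z => by
        induction z using TensorProduct.induction_on with
        | zero => simp
        | tmul a b => simp [TensorProduct.smul_tmul', Algebra.smul_def, mul_left_comm, mul_assoc, mul_comm]
        | add a b ha hb => simp only [smul_add, map_add, ha, hb])
  let e : (S ⧸ ((IsLocalRing.maximalIdeal C).map (algebraMap C S) • (⊤ : Submodule S S))) ≃ₗ[S] (S ⧸ Q) :=
    Submodule.quotEquivOfEq _ _ (by rw [hQ, smul_eq_mul, Ideal.mul_top])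
  have e2 : LocCoh.depth S (S ⧸ ((IsLocalRing.maximalIdeal C).map (algebraMap C S) • (⊤ : Submodule S S))) =
      LocCoh.depth (S ⧸ Q) (S ⧸ Q) :=
    Groth.Agent.Alg6.depth_eq_of_semilinear (Ideal.Quotient.mk Q) Ideal.Quotient.mk_surjective e.toAddEquiv
      (fun r z => (e.map_smul r z).trans (Algebra.smul_def r (e z)))
  rw [e1, e2] at hkey
  rw [hkey]
  exact h2.trans le_add_self

end Groth.Agent.S11462
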