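import Groth.Statements.S11469


set_option autoImplicit false
universe u
open scoped TensorProduct
open DefT

namespace Groth.Agent.S11469

set_option backward.isDefEq.respectTransparency false
set_option backward.isDefEq.respectTransparency.types false

/-- Let C' be a local Artin ring with maximal ideal m, J ⊊ C' a proper ideal with mJ = 0, A' a
C'-algebra, M' an A'-module flat over C', and M₀ = M'/mM'. Then (1) every A'-linear endomorphism σ
of M' that is the identity modulo JM' is bijective, and there is exactly one A'-linear τ : M₀ → M₀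
⊗_{C'} J such that, for all x ∈ M' and all z ∈ M' ⊗_{C'} J mapping to σ(x) − x in M', the image of z
in M₀ ⊗_{C'} J is τ applied to the class of x; and (2) every A'-linear τ : M₀ → M₀ ⊗_{C'} J comes in
this way from some such σ. Thus the automorphisms of the extension M' inducing the identity on
M'/JM' correspond to Hom(M₀, M₀ ⊗ J). -/
theorem result (C' : Type u) [CommRing C'] [IsLocalRing C']
    [IsArtinianRing C'] (J : Ideal C') (hJ : IsLocalRing.maximalIdeal C' * J = ⊥) (hJne : J ≠ ⊤)
    (A' : Type u) [CommRing A'] [Algebra C' A'] (M' : Type u) [AddCommGroup M'] [Module A' M'] [Module C' M']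
    [IsScalarTower C' A' M'] [Module.Flat C' M'] :
    (∀ σ : M' →ₗ[A'] M', (∀ x : M', σ x - x ∈ (J.map (algebraMap C' A')) • (⊤ : Submodule A' M')) →
      Function.Bijective σ ∧
        ∃! τ : (M' ⧸ ((IsLocalRing.maximalIdeal C').map (algebraMap C' A')) • (⊤ : Submodule A' M')) →ₗ[A'] ((M' ⧸ ((IsLocalRing.maximalIdeal C').map (algebraMap C' A')) • (⊤ : Submodule A' M')) ⊗[C'] ↥J),
          (∀ (x : M') (z : M' ⊗[C'] ↥J), TensorProduct.rid C' M' (LinearMap.lTensor M' (Submodule.subtype J) z) = σ x - x →
            LinearMap.rTensor ↥J ((Submodule.mkQ (((IsLocalRing.maximalIdeal C').map (algebraMap C' A')) • (⊤ : Submodule A' M'))).restrictScalars C') z =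
              τ (Submodule.mkQ _ x))) ∧
    (∀ τ : (M' ⧸ ((IsLocalRing.maximalIdeal C').map (algebraMap C' A')) • (⊤ : Submodule A' M')) →ₗ[A'] ((M' ⧸ ((IsLocalRing.maximalIdeal C').map (algebraMap C' A')) • (⊤ : Submodule A' M')) ⊗[C'] ↥J),
      ∃ σ : M' →ₗ[A'] M', (∀ x : M', σ x - x ∈ (J.map (algebraMap C' A')) • (⊤ : Submodule A' M')) ∧
          (∀ (x : M') (z : M' ⊗[C'] ↥J), TensorProduct.rid C' M' (LinearMap.lTensor M' (Submodule.subtype J) z) = σ x - x →
            LinearMap.rTensor ↥J ((Submodule.mkQ (((IsLocalRing.maximalIdeal C').map (algebraMap C' A')) • (⊤ : Submodule A' M'))).restrictScalars C') z =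
              τ (Submodule.mkQ _ x))) := by
  classical
  set I : Ideal A' := (IsLocalRing.maximalIdeal C').map (algebraMap C' A') with hI
  set N : Submodule A' M' := I • (⊤ : Submodule A' M') with hN
  have hJm : J ≤ IsLocalRing.maximalIdeal C' := IsLocalRing.le_maximalIdeal hJne
  have hmj : ∀ a ∈ IsLocalRing.maximalIdeal C', ∀ j ∈ J, a * j = 0 := fun a ha j hj =>
    Ideal.mem_bot.1 (hJ ▸ Ideal.mul_mem_mul ha hj)
  -- the inclusion of `M' ⊗ J`
  let ι₀ : M' ⊗[C'] ↥J →ₗ[C'] M' := (TensorProduct.rid C' M').toLinearMap ∘ₗ LinearMap.lTensor M' (Submodule.subtype J)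
  have ι₀t : ∀ (x : M') (j : ↥J), ι₀ (x ⊗ₜ j) = (j : C') • x := fun x j => by simp [ι₀]
  have ι₀inj : Function.Injective ι₀ :=
    (TensorProduct.rid C' M').injective.comp
      (Module.Flat.lTensor_preserves_injective_linearMap (M := M') (Submodule.subtype J) (Submodule.injective_subtype J))
  let ι : M' ⊗[C'] ↥J →ₗ[A'] M' :=
    { toFun := ι₀
      map_add' := ι₀.map_add
      map_smul' := fun a z => by
        induction z using TensorProduct.induction_on with
        | zero => simp
        | tmul x j => rw [TensorProduct.smul_tmul', ι₀t, ι₀t]; exact (smul_comm a (j : C') x).symm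
        | add u v hu hv => simp only [smul_add, map_add, hu, hv, RingHom.id_apply] }
  have ιinj : Function.Injective ι := ι₀inj
  have hrange : LinearMap.range ι = (J.map (algebraMap C' A')) • (⊤ : Submodule A' M') := by
    apply le_antisymm
    · rintro _ ⟨z, rfl⟩
      induction z using TensorProduct.induction_on with
      | zero => simp
      | tmul x j =>
        show ι₀ (x ⊗ₜ j) ∈ _
        rw [ι₀t, ← IsScalarTower.algebraMap_smul A' (j : C') x]
        exact Submodule.smul_mem_smul (Ideal.mem_map_of_mem _ j.2) Submodule.mem_top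
      | add u v hu hv => rw [map_add]; exact add_mem hu hv
    · refine Submodule.smul_le.2 fun a ha x _ => ?_
      induction ha using Submodule.span_induction generalizing x with
      | mem b hb =>
        obtain ⟨j, hj, rfl⟩ := hb
        exact ⟨x ⊗ₜ ⟨j, hj⟩, by show ι₀ _ = _; rw [ι₀t, IsScalarTower.algebraMap_smul]⟩
      | zero => simp
      | add b c _ _ hb hc => rw [add_smul]; exact add_mem (hb x trivial) (hc x trivial)
      | smul r b _ hb => rw [smul_eq_mul, mul_comm, mul_smul]; exact hb (r • x) trivial
  -- multiplication by the maximal ideal kills `M' ⊗ J`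
  have hkill : ∀ a ∈ IsLocalRing.maximalIdeal C', ∀ z : M' ⊗[C'] ↥J, a • z = 0 := fun a ha z => by
    induction z using TensorProduct.induction_on with
    | zero => simp
    | tmul x j =>
      rw [← TensorProduct.tmul_smul, show a • j = 0 from Subtype.ext (hmj a ha j.1 j.2), TensorProduct.tmul_zero]
    | add u v hu hv => rw [smul_add, hu, hv, add_zero]
  have hkillN : ∀ {P : Type u} [AddCommGroup P] [Module A' P] [Module C' P] [IsScalarTower C' A' P],
      (∀ a ∈ IsLocalRing.maximalIdeal C', ∀ z : P, a • z = 0) → ∀ (f : M' →ₗ[A'] P), N ≤ LinearMap.ker f := by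
    intro P _ _ _ _ hP f
    refine Submodule.smul_le.2 fun a ha x _ => ?_
    induction ha using Submodule.span_induction generalizing x with
    | mem b hb =>
      obtain ⟨c, hc, rfl⟩ := hb
      rw [LinearMap.mem_ker, map_smul, IsScalarTower.algebraMap_smul, hP c hc]
    | zero => simp
    | add b c _ _ hb hc => rw [add_smul]; exact add_mem (hb x trivial) (hc x trivial)
    | smul r b _ hb => rw [smul_eq_mul, mul_comm, mul_smul]; exact hb (r • x) trivial
  -- `M' ⊗ J = M₀ ⊗ J`
  let q : M' →ₗ[C'] (M' ⧸ N) := (Submodule.mkQ N).restrictScalars C'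
  let π₀ : M' ⊗[C'] ↥J →ₗ[C'] (M' ⧸ N) ⊗[C'] ↥J := LinearMap.rTensor ↥J q
  let π : M' ⊗[C'] ↥J →ₗ[A'] (M' ⧸ N) ⊗[C'] ↥J := TensorProduct.AlgebraTensorModule.map (Submodule.mkQ N) LinearMap.id
  have hππ : ∀ z, π z = π₀ z := fun z => by
    induction z using TensorProduct.induction_on with
    | zero => simp
    | tmul x j => rfl
    | add u v hu hv => simp only [map_add, hu, hv]
  have πinj : Function.Injective π := by
    -- a left inverse
    let β : ↥J → (M' ⧸ N) →ₗ[A'] M' ⊗[C'] ↥J := fun j => N.liftQ
      { toFun := fun x => x ⊗ₜ j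
        map_add' := fun x y => TensorProduct.add_tmul x y j
        map_smul' := fun a x => rfl } (hkillN hkill _)
    let γ : (M' ⧸ N) ⊗[C'] ↥J →ₗ[C'] M' ⊗[C'] ↥J := TensorProduct.lift
      (LinearMap.mk₂ C' (fun y j => β j y)
        (fun y y' j => map_add (β j) y y')
        (fun c y j => (β j).map_smul_of_tower c y)
        (fun y j j' => by
          induction y using Submodule.Quotient.induction_on with
          | _ x => exact TensorProduct.tmul_add x j j')
        (fun c y j => by
          induction y using Submodule.Quotient.induction_on with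
          | _ x => exact TensorProduct.tmul_smul c x j))
    refine Function.LeftInverse.injective (g := γ) fun z => ?_
    induction z using TensorProduct.induction_on with
    | zero => simp
    | tmul x j => rfl
    | add u v hu hv => simp only [map_add, hu, hv]
  have πsurj : Function.Surjective π := fun w => by
    obtain ⟨z, hz⟩ := LinearMap.rTensor_surjective ↥J (g := q) (Submodule.mkQ_surjective N) w
    exact ⟨z, (hππ z).trans hz⟩
  let πe := LinearEquiv.ofBijective π ⟨πinj, πsurj⟩
  refine ⟨fun σ hσ => ?_, fun τ => ?_⟩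
  · have hd : ∀ x, ∃ z, ι z = σ x - x := fun x => (hrange.ge (hσ x) : _)
    choose δ₀ hδ using hd
    let δ : M' →ₗ[A'] M' ⊗[C'] ↥J :=
      { toFun := δ₀
        map_add' := fun x y => ιinj (by rw [map_add, hδ, hδ, hδ, map_add]; abel)
        map_smul' := fun a x => ιinj (by rw [RingHom.id_apply, map_smul, hδ, hδ, map_smul, smul_sub]) }
    refine ⟨?_, ?_⟩
    · let d : M' →ₗ[A'] M' := ι ∘ₗ δ
      have hσd : ∀ x, σ x = x + d x := fun x => by
        show _ = x + ι (δ₀ x); rw [hδ]; abel
      have hdd : ∀ x, d (d x) = 0 := fun x => by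
        have key : ∀ z, δ (ι z) = 0 := fun z => by
          induction z using TensorProduct.induction_on with
          | zero => simp
          | tmul y j =>
            show δ (ι₀ (y ⊗ₜ j)) = 0
            rw [ι₀t, δ.map_smul_of_tower, hkill _ (hJm j.2)]
          | add u v hu hv => rw [map_add, map_add, hu, hv, add_zero]
        show ι (δ (ι (δ x))) = 0
        rw [key, map_zero]
      refine Function.bijective_iff_has_inverse.2 ⟨fun x => x - d x, fun x => ?_, fun x => ?_⟩
      · simp only [hσd, map_add, hdd]; abel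
      · simp only [hσd, map_sub, hdd]; abel
    · refine ⟨N.liftQ (π ∘ₗ δ) ?_, fun x z hz => ?_, fun τ hτ => ?_⟩
      · refine hkillN (fun a ha z => ?_) _
        obtain ⟨w, rfl⟩ := πsurj z
        rw [← π.map_smul_of_tower, hkill a ha, map_zero]
      · have : z = δ x := ιinj (hz.trans (hδ x).symm)
        subst this
        exact (hππ _).symm
      · refine Submodule.linearMap_qext _ (LinearMap.ext fun x => ?_)
        exact (hτ x (δ x) (hδ x)).symm.trans (hππ _).symm
  · let d : M' →ₗ[A'] M' := ι ∘ₗ πe.symm.toLinearMap ∘ₗ τ ∘ₗ Submodule.mkQ N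
    refine ⟨LinearMap.id + d, fun x => ?_, fun x z hz => ?_⟩
    · rw [← hrange]
      exact ⟨πe.symm (τ (Submodule.mkQ N x)), (add_sub_cancel_left x _).symm⟩
    · have : z = πe.symm (τ (Submodule.mkQ N x)) := ιinj (hz.trans (add_sub_cancel_left x _))
      subst this
      exact (hππ _).symm.trans (πe.apply_symm_apply _)

end Groth.Agent.S11469
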