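import Groth.Statements.S11486
import Groth.Agent.S11388
import Groth.Agent.HorrX.Basic

set_option autoImplicit false
set_option backward.isDefEq.respectTransparency false
set_option backward.isDefEq.respectTransparency.types false
universe u
open VBPn

namespace Groth.Agent.S11486

open CategoryTheory CategoryTheory.Limits AlgebraicGeometry in
/-- Let k be a characteristic-zero algebraically closed field and E a finite locally free O-module of
rank r on P^n_k. Then E splits as a direct sum of twisting sheaves O(a_1) ⊕ ⋯ ⊕ O(a_r) if and only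
if H^i(P^n_k, E ⊗ O(d)) = 0 for every 0 < i < n and every integer d. -/
theorem result (k : Type u) [Field k] [IsAlgClosed k] [CharZero k]
    (n r : ℕ) (E : (CohB1.ProjSpace n k).Modules) (hE : FlatMod.IsFinLocFreeOfRank r E) :
    (∃ a : Fin r → ℤ, Nonempty (E ≅ ∐ fun j : Fin r => Twist.twistProjSpace n k (a j))) ↔
      ∀ (i : ℕ) (d : ℤ), 0 < i → i < n →
        Subsingleton (Coh.HH (CohB1.ProjSpace n k) (CohB1.tensorMod E (Twist.twistProjSpace n k d)) i) := by
  constructor
  · rintro ⟨a, ⟨e⟩⟩ i d h1 h2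
    have hEf : FlatMod.IsFinLocFree E := fun x => let ⟨U, hx, he⟩ := hE x; ⟨U, r, hx, he⟩
    haveI := ExtShX.isLocallyNoetherian_pn (k := k) (r := n)
    have hEc : Coh.IsCoh E := CurveDeg.isCoh_of_isFinLocFree hEf
    exact ((S11388.result k n (by omega) E hEc).1 ⟨r, a, ⟨e⟩⟩).2 d i h1 h2
  · intro h
    have hEf : FlatMod.IsFinLocFree E := fun x => let ⟨U, hx, he⟩ := hE x; ⟨U, r, hx, he⟩
    haveI := H23.PnChart.isIntegral_projSpace n k
    haveI := ExtShX.isLocallyNoetherian_pn (k := k) (r := n)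
    rcases Nat.eq_zero_or_pos n with rfl | hn
    · haveI := HorrX.subsingleton_pn_zero k
      obtain ⟨e⟩ := HorrX.nonempty_iso_free hE
      exact ⟨fun _ => 0, ⟨e ≪≫ Sigma.mapIso fun _ => ExtShX.Horrocks.oneIso⟩⟩
    obtain ⟨r', a, ⟨e⟩⟩ := (S11388.result k n hn E (CurveDeg.isCoh_of_isFinLocFree hEf)).2
      ⟨HorrX.subsingleton_H0_twist_neg k n hn hEf, fun m i h1 h2 => h i m h1 h2⟩
    have h' := HorrX.sigma_lineBundles r' (fun j => Twist.twistProjSpace n k (a j))
      fun j => ExtShX.isInvertible_twistPn _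
    have hr' : FlatMod.IsFinLocFreeOfRank r' (∐ fun j => Twist.twistProjSpace n k (a j)) := by
      have := CurveBundle.isFinLocFreeOfRank_rk h'.1
      rwa [h'.2] at this
    have hE' : FlatMod.IsFinLocFreeOfRank r' E :=
      fun x => let ⟨U, hx, ⟨g⟩⟩ := hr' x; ⟨U, hx, ⟨(Scheme.Modules.restrictFunctor U.ι).mapIso e ≪≫ g⟩⟩
    obtain rfl : r' = r := (CurveBundle.rk_eq hE').symm.trans (CurveBundle.rk_eq hE)
    exact ⟨a, ⟨e⟩⟩

end Groth.Agent.S11486
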