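import Groth.Statements.S11504
import Groth.Agent.OmegaPn.Simple
import Groth.Agent.ExtPow7.Basics

set_option autoImplicit false
set_option backward.isDefEq.respectTransparency false
set_option backward.isDefEq.respectTransparency.types false
universe u
open VBPn

namespace Groth.Agent.S11504

open CategoryTheory CategoryTheory.Limits AlgebraicGeometry in
/-- Let k be an algebraically closed field of characteristic zero. The sheaf of relative differentials
Ω^1 of P^n_k → Spec k is simple: every O-module endomorphism of it is a homothety, i.e. its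
underlying map of abelian sheaves is multiplication by some scalar c ∈ k. The published statement is
for the tangent bundle T, the dual of Ω^1; the two are equivalent since dualising identifies their
endomorphisms. Simplicity implies indecomposability. -/
theorem result (k : Type u) [Field k] [IsAlgClosed k] [CharZero k] (n : ℕ)
    (φ : Omega.sheaf (CohB1.ProjSpace.toSpec n k) ⟶ Omega.sheaf (CohB1.ProjSpace.toSpec n k)) :
    ∃ c : k, (SheafOfModules.toSheaf (CohB1.ProjSpace n k).ringCatSheaf).map φ =
      Coh.smulAb (Omega.sheaf (CohB1.ProjSpace.toSpec n k)) (Coh.toGlobal (CohB1.ProjSpace.toSpec n k) c) := by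
  obtain ⟨e⟩ := OmegaPn.nonempty_iso_Z n k (ExtPow7.isExtPow_one (Omega.sheaf (CohB1.ProjSpace.toSpec n k)))
  obtain ⟨c, hc⟩ := OmegaPn.exists_smul_Z_one (e.inv ≫ φ ≫ e.hom)
  refine ⟨c, ?_⟩
  have hnat : Formal.smulMod k (Omega.sheaf (CohB1.ProjSpace.toSpec n k)) c ≫ e.hom =
      e.hom ≫ Formal.smulMod k (OmegaPn.Z n k 1) c := by
    refine (SheafOfModules.toSheaf _).map_injective ?_
    rw [Functor.map_comp, Functor.map_comp]
    exact PnCoh.Finite.smulAb_comm e.hom _
  have hφ : φ = Formal.smulMod k (Omega.sheaf (CohB1.ProjSpace.toSpec n k)) c := by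
    rw [← cancel_mono e.hom, hnat, ← hc, e.hom_inv_id_assoc]
  rw [hφ]
  rfl

end Groth.Agent.S11504
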