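import Groth.Statements.S11505
import Groth.Agent.SimpleTwo.Line
import Groth.Agent.SimpleTwo.Twist
import Groth.Agent.Lib.InvEnd
import Groth.Agent.CurveCohLib.Proper
import Groth.Agent.PnPic.Ufd
import Groth.Agent.H23.PnChart
import Groth.Agent.CurveEmbed.Conic
import Groth.Agent.S15513

set_option autoImplicit false
set_option backward.isDefEq.respectTransparency false
set_option backward.isDefEq.respectTransparency.types false
universe u
open VBPn

namespace Groth.Agent.S11505

open CategoryTheory CategoryTheory.Limits AlgebraicGeometry in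
/-- Let k be a characteristic-zero algebraically closed field and E a finite locally free O-module of
rank 2 on P^n_k with a second exterior power isomorphic to O(c). Let k₀ be the integer with c + 2k₀
= 0 or c + 2k₀ = −1, so that E ⊗ O(k₀) is the normalised twist, and assume H^0(P^n_k, E ⊗ O(k₀)) =
0. Then every endomorphism of E is a homothety: its underlying map of abelian sheaves is
multiplication by some scalar c' ∈ k. The published statement is for stable bundles of any rank;
this row is the rank-2 case, with stability written as the vanishing of H^0 of the normalised twist,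
which is equivalent to it for rank 2. -/
theorem result (k : Type u) [Field k] [IsAlgClosed k] [CharZero k]
    (n : ℕ) (E : (CohB1.ProjSpace n k).Modules) (hE : FlatMod.IsFinLocFreeOfRank 2 E) (c k₀ : ℤ)
    (hdet : ∃ L : (CohB1.ProjSpace n k).Modules, ExtPow.IsExtPow 2 E L ∧ Nonempty (L ≅ Twist.twistProjSpace n k c))
    (hk₀ : c + 2 * k₀ = 0 ∨ c + 2 * k₀ = -1)
    (h0 : Subsingleton (Coh.HH (CohB1.ProjSpace n k) (CohB1.tensorMod E (Twist.twistProjSpace n k k₀)) 0))
    (φ : E ⟶ E) :
    ∃ c' : k, (SheafOfModules.toSheaf (CohB1.ProjSpace n k).ringCatSheaf).map φ =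
      Coh.smulAb E (Coh.toGlobal (CohB1.ProjSpace.toSpec n k) c') := by
  classical
  open Groth.Agent in
  haveI : IsIntegral (CohB1.ProjSpace n k) := H23.PnChart.isIntegral_projSpace n k
  haveI := PnCoh.Chow.isProper_toSpec n k
  letI : (CohB1.ProjSpace n k).Over (Spec (CommRingCat.of k)) := ⟨CohB1.ProjSpace.toSpec n k⟩
  haveI : IsProper (CohB1.ProjSpace n k ↘ Spec (CommRingCat.of k)) := PnCoh.Chow.isProper_toSpec n k
  haveI := CurveCohLib.isNoetherian_of_proper (k := k) (X := CohB1.ProjSpace n k)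
  haveI := CurveEmbed.smooth_toSpec n k
  have hreg : ∀ x : CohB1.ProjSpace n k, IsRegularLocalRing ((CohB1.ProjSpace n k).presheaf.stalk x) := fun x =>
    SmoothReg.isRegularLocalRing_stalk_of_mem_smoothLocus (CohB1.ProjSpace.toSpec n k)
      (by rw [(CohB1.ProjSpace.toSpec n k).smoothLocus_eq_top]; trivial)
  letI := CurveEnd.kAlgebra (k := k) E
  let f : End E := φ
  obtain ⟨p, hp, hpf⟩ := CurveEnd.exists_aeval_eq_zero (k := k) E 2 hE f
  have hint : _root_.IsIntegral k f := ⟨p, hp, hpf⟩
  by_contra! hns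
  have hnt : Nontrivial (End E) := ⟨⟨𝟙 E, 0, fun h => CurveEnd.not_isZero E 2 two_pos hE ((IsZero.iff_id_eq_zero E).mpr h)⟩⟩
  obtain ⟨a, ha⟩ := IsAlgClosed.exists_root (minpoly k f)
    (minpoly.degree_pos hint).ne'
  obtain ⟨r, hr⟩ := Polynomial.dvd_iff_isRoot.2 ha
  have hr0 : r ≠ 0 := fun h => minpoly.ne_zero hint (by rw [hr, h, mul_zero])
  let g : End E := Polynomial.aeval f r
  have hg : g ≠ 0 := fun h => by
    have hd := minpoly.degree_le_of_ne_zero k f hr0 h
    rw [hr, Polynomial.degree_mul, Polynomial.degree_X_sub_C, Polynomial.degree_eq_natDegree hr0] at hd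
    exact absurd hd (not_le.2 (by exact_mod_cast Nat.lt_one_add_iff.2 le_rfl))
  let ψ : End E := f - algebraMap k (End E) a
  have hψ : ψ ≠ 0 := fun h => hns a (by
    rw [show φ = CurveEnd.smulMod E (Coh.toGlobal (CohB1.ProjSpace.toSpec n k) a) from sub_eq_zero.1 h]
    exact CurveEnd.toSheaf_smulMod E _)
  have hcomp : ψ * g = 0 := by
    have := minpoly.aeval k f
    rwa [hr, map_mul, map_sub, Polynomial.aeval_X, Polynomial.aeval_C] at this
  obtain ⟨K, hK, ⟨s, hs⟩, t, ht⟩ := SimpleTwo.exists_line_of_comp_eq_zero hreg hE g ψ hg hψ hcomp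
  obtain ⟨b, ⟨eK⟩⟩ := PnPic.exists_twist (ι := Fin (n + 1)) (R := k) K hK 0
  let eK' : K ≅ Twist.twistProjSpace n k b := eK
  rcases le_or_gt (-k₀) b with hb | hb
  · obtain ⟨σ, hσ⟩ := SimpleTwo.exists_twist_hom_ne_zero (n := n) (k := k) hb
    haveI := hs
    refine hσ ((cancel_mono (eK'.inv ≫ s)).1 ?_)
    rw [zero_comp]
    exact SimpleTwo.hom_twist_to_eq_zero E k₀ h0 _
  · obtain ⟨σ, hσ⟩ := SimpleTwo.exists_twist_hom_ne_zero (n := n) (k := k) (show b ≤ c + k₀ by omega)
    haveI : Mono σ := InvEnd.mono_of_ne_zero (PnPic.isInvertible_twistProjSpace n k b) (PnPic.isInvertible_twistProjSpace n k _) σ hσ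
    refine ht ((cancel_mono (eK'.hom ≫ σ)).1 ?_)
    rw [zero_comp]
    exact SimpleTwo.hom_to_twist_eq_zero hE hdet k₀ h0 _

end Groth.Agent.S11505
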