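import Groth.Statements.S11506
import Groth.Agent.SimpleTwo.Line
import Groth.Agent.SimpleTwo.Twist
import Groth.Agent.Lib.InvEnd
import Groth.Agent.ParShLib.Rank
import Groth.Agent.H23.PnChart

set_option autoImplicit false
set_option backward.isDefEq.respectTransparency false
set_option backward.isDefEq.respectTransparency.types false
universe u
open VBPn

namespace Groth.Agent.S11506

open CategoryTheory CategoryTheory.Limits AlgebraicGeometry in
/-- Let k be a characteristic-zero algebraically closed field and E a finite locally free O-module of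
rank 2 on P^n_k with a second exterior power isomorphic to O(c), and let k₀ satisfy c + 2k₀ = 0 or c
+ 2k₀ = −1. If every endomorphism of E is a homothety (its underlying map of abelian sheaves is
multiplication by a scalar in k), then H^0(P^n_k, E ⊗ O(k₀)) = 0. The published statement concludes
stability; this row concludes the vanishing of H^0 of the normalised twist, which for rank 2 is
stability. -/
theorem result (k : Type u) [Field k] [IsAlgClosed k] [CharZero k]
    (n : ℕ) (E : (CohB1.ProjSpace n k).Modules) (hE : FlatMod.IsFinLocFreeOfRank 2 E) (c k₀ : ℤ)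
    (hdet : ∃ L : (CohB1.ProjSpace n k).Modules, ExtPow.IsExtPow 2 E L ∧ Nonempty (L ≅ Twist.twistProjSpace n k c))
    (hk₀ : c + 2 * k₀ = 0 ∨ c + 2 * k₀ = -1)
    (hsimple : ∀ φ : E ⟶ E, ∃ c' : k, (SheafOfModules.toSheaf (CohB1.ProjSpace n k).ringCatSheaf).map φ =
      Coh.smulAb E (Coh.toGlobal (CohB1.ProjSpace.toSpec n k) c')) :
    Subsingleton (Coh.HH (CohB1.ProjSpace n k) (CohB1.tensorMod E (Twist.twistProjSpace n k k₀)) 0) := by
  classical
  open Groth.Agent in
  open scoped Groth.Agent.H23.PicMul in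
  haveI : IsIntegral (CohB1.ProjSpace n k) := H23.PnChart.isIntegral_projSpace n k
  by_contra hne
  obtain ⟨L, hL, ⟨eL⟩⟩ := hdet
  have hf : FlatMod.IsFinLocFree E := SimpleTwo.isFinLocFree_of_rank hE
  obtain ⟨e₁⟩ : Nonempty (RefHull.homSh (Twist.twistProjSpace n k (-k₀)) E ≅
      CohB1.tensorMod E (Twist.twistProjSpace n k k₀)) := (PicGrp.cl_eq_cl_iff _ _).1 (by
    rw [SimpleTwo.cl_homSh (H23.PullPush.isFinLocFree_of_isInvertible (PnPic.isInvertible_twistProjSpace n k _)),
      SimpleTwo.cl_dual_twist, neg_neg, H23.PicMul.cl_tensor])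
  have hw := (PicGrp.cl_eq_cl_iff _ _).2 (WedgeX.nonempty_iso_homSh hE (ExtPow7.isExtPow_one E)
    (ExtPow7.isExtPow_one E) hL rfl)
  rw [SimpleTwo.cl_homSh hf, (PicGrp.cl_eq_cl_iff _ _).2 ⟨eL⟩] at hw
  obtain ⟨e₂⟩ : Nonempty (RefHull.homSh E (Twist.twistProjSpace n k (c + k₀)) ≅
      CohB1.tensorMod E (Twist.twistProjSpace n k k₀)) := (PicGrp.cl_eq_cl_iff _ _).1 (by
    rw [SimpleTwo.cl_homSh hf, H23.PicMul.cl_tensor, hw, ← PnPic.cl_twistProjSpace_add, mul_right_comm])
  obtain ⟨s, hs⟩ : ∃ s : Twist.twistProjSpace n k (-k₀) ⟶ E, s ≠ 0 := by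
    by_contra! h
    exact hne (SimpleTwo.subsingleton_of_Γ (SimpleTwo.subsingleton_Γ_of_iso e₁ (SimpleTwo.subsingleton_homSh_of_forall h)))
  obtain ⟨t, ht⟩ : ∃ t : E ⟶ Twist.twistProjSpace n k (c + k₀), t ≠ 0 := by
    by_contra! h
    exact hne (SimpleTwo.subsingleton_of_Γ (SimpleTwo.subsingleton_Γ_of_iso e₂ (SimpleTwo.subsingleton_homSh_of_forall h)))
  obtain ⟨σ, hσ⟩ := SimpleTwo.exists_twist_hom_ne_zero (n := n) (k := k) (show c + k₀ ≤ -k₀ by omega)
  haveI : Mono σ := InvEnd.mono_of_ne_zero (PnPic.isInvertible_twistProjSpace n k _) (PnPic.isInvertible_twistProjSpace n k _) σ hσ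
  haveI : Mono s := SimpleTwo.mono_of_ne_zero_of_isInvertible (PnPic.isInvertible_twistProjSpace n k _) hE s hs
  obtain ⟨a, ha⟩ := hsimple (t ≫ σ ≫ s)
  by_cases ha0 : a = 0
  · rw [ha0, map_zero, Coh.smulAb_zero] at ha
    have h0 : t ≫ σ ≫ s = 0 := (SheafOfModules.toSheaf (CohB1.ProjSpace n k).ringCatSheaf).map_injective
      (ha.trans (Functor.map_zero _ _ _).symm)
    exact ht ((cancel_mono (σ ≫ s)).1 (h0.trans zero_comp.symm))
  · have hmul : Coh.smulAb E (Coh.toGlobal (CohB1.ProjSpace.toSpec n k) a) ≫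
        Coh.smulAb E (Coh.toGlobal (CohB1.ProjSpace.toSpec n k) a⁻¹) = 𝟙 _ := by
      rw [← Coh.smulAb_mul, ← map_mul, inv_mul_cancel₀ ha0, map_one, Coh.smulAb_one]
    haveI : IsSplitMono (Coh.smulAb E (Coh.toGlobal (CohB1.ProjSpace.toSpec n k) a)) := ⟨⟨⟨_, hmul⟩⟩⟩
    haveI : Mono ((SheafOfModules.toSheaf (CohB1.ProjSpace n k).ringCatSheaf).map (t ≫ σ ≫ s)) := by
      exact ha.symm ▸ (inferInstance : Mono (Coh.smulAb E (Coh.toGlobal (CohB1.ProjSpace.toSpec n k) a)))
    haveI : Mono (t ≫ σ ≫ s) := (SheafOfModules.toSheaf (CohB1.ProjSpace n k).ringCatSheaf).mono_of_mono_map this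
    haveI : Mono t := mono_of_mono t (σ ≫ s)
    have := ParShLib.rank_le_of_mono t hE (InvEnd.isFinLocFreeOfRank_one (PnPic.isInvertible_twistProjSpace n k _))
    omega

end Groth.Agent.S11506
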