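import Groth.Statements.S11523
import Mathlib.CategoryTheory.Subobject.ArtinianObject
import Mathlib.CategoryTheory.Subobject.NoetherianObject
import Mathlib.CategoryTheory.Simple
import Mathlib.CategoryTheory.Subobject.Limits
import Mathlib.CategoryTheory.Limits.Preserves.Shapes.Kernels

set_option autoImplicit false
universe v u v' u'
open CategoryTheory CategoryTheory.Limits
open PervT

namespace Groth.Agent.S11523

/-- Let `u : A ⥤ B` be a fully faithful exact functor of abelian categories admitting a left adjoint and
a right adjoint `uStar`. Suppose every object of `A` has finite length (it is both an artinian and a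
noetherian object) and that `u` sends simple objects to simple objects. Then for every object `Y` of
`B` the counit `u (uStar Y) ⟶ Y` of the adjunction `u ⊣ uStar` is a monomorphism. (The published
statement also lists two further conditions equivalent to this one: that for every object `Y` of `B`
the unit `Y ⟶ u (L Y)` of the adjunction `L ⊣ u` of the left adjoint `L` is an epimorphism, and that
the essential image of `u` is stable under subobjects and quotients; this row states only the counit
condition.) -/
theorem result {A : Type u} [Category.{v} A] [Abelian A] {B : Type u'} [Category.{v'} B] [Abelian B]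
    (u : A ⥤ B) [u.Full] [u.Faithful] [PreservesFiniteLimits u] [PreservesFiniteColimits u] [u.IsRightAdjoint]
    (uStar : B ⥤ A) (adj : u ⊣ uStar)
    (hlen : ∀ X : A, IsArtinianObject X ∧ IsNoetherianObject X)
    (hsimple : ∀ X : A, Simple X → Simple (u.obj X)) (Y : B) :
    Mono (adj.counit.app Y) := by
  haveI : PreservesColimits u := adj.leftAdjoint_preservesColimits
  -- every nonzero subobject of the image of a finite length object contains a nonzero image
  have key : ∀ (X : A) (K : B) (k : K ⟶ u.obj X), Mono k → ¬ IsZero K →
      ∃ (T : A) (s : u.obj T ⟶ K), ¬ IsZero T ∧ Mono s := by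
    intro X
    haveI : IsNoetherianObject X := (hlen X).2
    suffices h : ∀ (N : Subobject X) (Y : A) (π : X ⟶ Y), Epi π → kernelSubobject π = N →
        ∀ (K : B) (k : K ⟶ u.obj Y), Mono k → ¬ IsZero K →
          ∃ (T : A) (s : u.obj T ⟶ K), ¬ IsZero T ∧ Mono s from
      h _ X (𝟙 X) inferInstance rfl
    intro N
    refine WellFoundedGT.induction (α := Subobject X)
      (motive := fun N => ∀ (Y : A) (π : X ⟶ Y), Epi π → kernelSubobject π = N →
        ∀ (K : B) (k : K ⟶ u.obj Y), Mono k → ¬ IsZero K →
          ∃ (T : A) (s : u.obj T ⟶ K), ¬ IsZero T ∧ Mono s) N ?_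
    intro N ih Y π hπ hN K k hk hK
    haveI : IsArtinianObject Y := (hlen Y).1
    have hY : ¬ IsZero Y := fun h => hK (IsZero.of_mono k (u.map_isZero h))
    obtain ⟨S, hS⟩ := exists_simple_subobject hY
    let t : (S : A) ⟶ Y := S.arrow
    haveI := hsimple _ hS
    haveI : Mono (u.map t) := inferInstance
    by_cases hP : pullback.fst (u.map t) k = 0
    · -- the subobject embeds in the image of a smaller quotient
      let p : Y ⟶ cokernel t := cokernel.π t
      have hlt : N < kernelSubobject (π ≫ p) := by
        refine lt_of_le_of_ne (hN ▸ le_kernelSubobject _ _ (by simp [reassoc_of% kernelSubobject_arrow_comp π])) fun heq => ?_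
        have h0 : pullback.fst π t ≫ π ≫ p = 0 := by
          rw [pullback.condition_assoc, cokernel.condition, comp_zero]
        have h1 : pullback.fst π t ≫ π = 0 := by
          obtain ⟨r, hr⟩ : ∃ r, r ≫ (kernelSubobject π).arrow = pullback.fst π t := by
            have hle : kernelSubobject (π ≫ p) ≤ kernelSubobject π := (heq.symm.trans hN.symm).le
            exact ⟨factorThruKernelSubobject (π ≫ p) _ h0 ≫ Subobject.ofLE _ _ hle, by simp⟩
          rw [← hr, Category.assoc, kernelSubobject_arrow_comp, comp_zero]
        have ht : t = 0 := by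
          rw [← cancel_epi (pullback.snd π t), comp_zero, ← pullback.condition, h1]
        exact Simple.not_isZero (S : A) (IsZero.of_mono_eq_zero t ht)
      haveI : Mono (k ≫ u.map p) := Preadditive.mono_of_cancel_zero _ fun {W} y hy => by
        let hk' : IsLimit (KernelFork.ofι (u.map t) (by rw [← u.map_comp, cokernel.condition, u.map_zero])) :=
          isLimitForkMapOfIsLimit' u (cokernel.condition t) (Abelian.monoIsKernelOfCokernel (CokernelCofork.ofπ (cokernel.π t) (cokernel.condition t)) (cokernelIsCokernel t))
        obtain ⟨z, hz⟩ : ∃ z : W ⟶ u.obj (S : A), z ≫ u.map t = y ≫ k :=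
          ⟨hk'.lift (KernelFork.ofι (y ≫ k) (by rw [Category.assoc, hy])), hk'.fac _ WalkingParallelPair.zero⟩
        have hz0 : z = 0 := by
          rw [← pullback.lift_fst z y hz, hP, comp_zero]
        rw [hz0, zero_comp] at hz
        exact (cancel_mono k).1 (hz.symm.trans zero_comp.symm)
      exact ih _ hlt _ (π ≫ p) inferInstance rfl K _ this hK
    · haveI : IsIso (pullback.fst (u.map t) k) := isIso_of_mono_of_nonzero hP
      exact ⟨_, inv (pullback.fst (u.map t) k) ≫ pullback.snd (u.map t) k, Simple.not_isZero (S : A), inferInstance⟩
  refine Preadditive.mono_of_kernel_zero ?_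
  by_contra hne
  obtain ⟨T, s, hT, hs⟩ := key _ _ (kernel.ι (adj.counit.app Y)) inferInstance (fun h => hne (h.eq_of_src _ _))
  obtain ⟨φ, hφ⟩ := u.map_surjective (s ≫ kernel.ι (adj.counit.app Y))
  have hφ0 : φ = 0 := by
    apply (adj.homEquiv T Y).symm.injective
    rw [Adjunction.homEquiv_counit, Adjunction.homEquiv_counit, hφ, u.map_zero, zero_comp, Category.assoc,
      kernel.condition, comp_zero]
  rw [hφ0, u.map_zero] at hφ
  haveI : Mono (s ≫ kernel.ι (adj.counit.app Y)) := inferInstance
  have h2 := IsZero.of_mono_eq_zero _ hφ.symm
  exact hT ((IsZero.iff_id_eq_zero T).2 (u.map_injective (h2.eq_of_src _ _)))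

end Groth.Agent.S11523
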