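import Groth.Statements.S1154
import Groth.Agent.PicInsep.Main
import Groth.Agent.H23.PicMul

set_option autoImplicit false
set_option backward.isDefEq.respectTransparency false
set_option backward.isDefEq.respectTransparency.types false
set_option maxHeartbeats 1000000
set_option linter.style.haveILetI false
open CategoryTheory CategoryTheory.Limits AlgebraicGeometry Opposite
universe u
open PicF

namespace Groth.Agent.S1154
open Groth.Agent

/-- Let k have characteristic p > 0, let X be quasi-compact and quasi-separated over k whose ring of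
global functions is k itself (the structure morphism induces an isomorphism on global sections), let
n be prime to p and k'/k purely inseparable. Then every isomorphism class of invertible modules M on
X_{k'} with M^n trivial is the pullback of such a class on X (injectivity of this pullback on
classes being a separate fact). -/
theorem result (k : Type u) [Field k] (p : ℕ) [Fact p.Prime] [CharP k p]
    (X : Scheme.{u}) (f : X ⟶ Spec (CommRingCat.of k)) [CompactSpace X] [QuasiSeparatedSpace X]
    (hH0 : IsIso f.appTop) (n : ℕ) (hn : ¬ p ∣ n) (k' : Type u) [Field k'] [Algebra k k'] [IsPurelyInseparable k k'] :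
    ∀ d : PicF.Cl (pullback f (Spec.map (CommRingCat.ofHom (algebraMap k k')))), (PicF.IsInvertibleCl d ∧ ∃ M : ((pullback f (Spec.map (CommRingCat.ofHom (algebraMap k k'))))).Modules, PicF.cl M = d ∧ Nonempty (CohB1.tensorPow M n ≅ Coh.structureModule ((pullback f (Spec.map (CommRingCat.ofHom (algebraMap k k'))))))) →
      ∃ c : PicF.Cl X, (PicF.IsInvertibleCl c ∧ ∃ M : (X).Modules, PicF.cl M = c ∧ Nonempty (CohB1.tensorPow M n ≅ Coh.structureModule (X))) ∧ PicF.pullCl (pullback.fst f (Spec.map (CommRingCat.ofHom (algebraMap k k')))) c = d := by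
  intro d hd
  obtain ⟨hinv, M, hM, ⟨φ⟩⟩ := hd
  obtain ⟨L, hL, hLinv⟩ := hinv
  have hMinv : PicF.IsInvertible M := by
    obtain ⟨e⟩ := H23.PicMul.cl_eq_iff.1 (hL.trans hM.symm)
    exact H23.PicMul.isInvertible_of_iso e hLinv
  let σ := Spec.map (CommRingCat.ofHom (algebraMap k k'))
  haveI : IsIntegralHom σ := IsIntegralHom.SpecMap_iff.2
    (algebraMap_isIntegral_iff.2 (inferInstance : Algebra.IsIntegral k k'))
  haveI : Flat σ := Flat.SpecMap_iff.2 (RingHom.flat_algebraMap_iff.2 inferInstance)
  haveI : Surjective σ := ⟨fun x => ⟨Classical.arbitrary _, Subsingleton.elim _ _⟩⟩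
  haveI : IsIntegralHom (pullback.fst f σ) := MorphismProperty.pullback_fst (P := @IsIntegralHom) f σ inferInstance
  haveI : Flat (pullback.fst f σ) := MorphismProperty.pullback_fst (P := @Flat) f σ inferInstance
  haveI : Surjective (pullback.fst f σ) := MorphismProperty.pullback_fst (P := @Surjective) f σ inferInstance
  haveI : ExpChar k p := .prime Fact.out
  have hn0 : 0 < n := Nat.pos_of_ne_zero fun e => hn (e ▸ dvd_zero p)
  obtain ⟨L', h1, h2, ⟨e⟩⟩ := PicInsep.exists_descent (p := p) (IsPullback.of_hasPullback f σ) (Fact.out : p.Prime).pos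
    n hn0 ((Fact.out : p.Prime).coprime_iff_not_dvd.2 hn) M hMinv φ
  refine ⟨PicF.cl L', ⟨⟨L', rfl, h1⟩, L', rfl, h2⟩, ?_⟩
  exact (Quot.sound ⟨e⟩ : _ = PicF.cl M).trans hM

end Groth.Agent.S1154
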