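import Groth.Statements.S1170
import Groth.Agent.HilbDLib.SmoothHilb
import Groth.Agent.HilbDLib.Rep
import Groth.Agent.S1167
import Groth.Agent.DimOne.Ample
import Groth.Agent.PicRep.Rep

set_option autoImplicit false
set_option backward.isDefEq.respectTransparency false
set_option backward.isDefEq.respectTransparency.types false
set_option backward.isDefEq.respectTransparency false
set_option backward.isDefEq.respectTransparency.types false
set_option maxHeartbeats 1000000
set_option linter.style.haveILetI false
open CategoryTheory CategoryTheory.Limits AlgebraicGeometry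
universe u
open HilbD

namespace Groth.Agent.S1170
open Groth.Agent

/-- Let X be a smooth proper curve over a field k which stays irreducible after every extension of the
base field. Then for every d the degree-d Hilbert functor of points of X over k is represented by a
scheme which is proper and smooth over k. The published statement has projective in place of proper
(the two agree for curves over a field) and also asserts that the representing scheme is irreducible
of dimension d, which is not asserted here. -/
theorem result (k : Type u) [Field k] (X : Scheme.{u}) (f : X ⟶ Spec (CommRingCat.of k))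
    (hX : Curve.IsSmoothProperCurve k X f) [GeometricallyIrreducible f] (d : ℕ) :
    ∃ (H : Over (Spec (CommRingCat.of k))) (Z : HilbD.Obj f d H), HilbD.IsUniversal f d H Z ∧ IsProper H.hom ∧ Smooth H.hom := by
  classical
  obtain ⟨hp, hs, hi, hdim⟩ := hX
  haveI := hp; haveI := hs; haveI := hi
  letI : X.Over (Spec (CommRingCat.of k)) := ⟨f⟩
  haveI : IsProper (X ↘ Spec (CommRingCat.of k)) := hp
  haveI : Smooth (X ↘ Spec (CommRingCat.of k)) := hs
  haveI : GeometricallyIrreducible (X ↘ Spec (CommRingCat.of k)) := ‹GeometricallyIrreducible f›
  haveI : SmoothOfRelativeDimension 1 f := PicRep.smoothOfRelativeDimension_one k X hdim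
  haveI := CurveCohLib.isNoetherian_of_proper (k := k) (X := X)
  haveI : X.IsSeparated := ⟨by rw [← Limits.terminal.comp_from f]; infer_instance⟩
  have haff : ∀ (e : ℕ) (s : Spec (CommRingCat.of k)) (x : Fin e → X), (∀ i, f.base (x i) = s) →
      ∃ U : X.Opens, IsAffineOpen U ∧ ∀ i, x i ∈ U := fun e s x _ => by
    obtain ⟨U, hU, hT⟩ := DimOne.exists_affine_containing hdim.le (Finset.univ.image x)
    exact ⟨U, hU, fun i => hT _ (Finset.mem_image_of_mem x (Finset.mem_univ i))⟩
  have hrep : ∀ e, HilbD.Representable f e := fun e => HilbDLib.representable (haff e)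
  obtain ⟨H, Z, hZ⟩ := hrep d
  haveI : IsSeparated H.hom := S1167.result f d H Z hZ
  have hsm := HilbDLib.smooth_hilb f hrep hZ
  haveI := hsm
  obtain ⟨m, -, hm⟩ := HilbDLib.exists_powOver_map f hrep d hZ
  haveI := HilbDLib.surjective_of_factorial hm
  haveI : IsProper (HilbDLib.powOver f d).hom := HilbDLib.isProper_powBase f d
  haveI : UniversallyClosed (m.left ≫ H.hom) := by rw [Over.w m]; infer_instance
  haveI : UniversallyClosed H.hom := UniversallyClosed.of_comp_surjective m.left H.hom
  haveI : QuasiCompact H.hom := inferInstance
  exact ⟨H, Z, hZ, ⟨⟩, hsm⟩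

end Groth.Agent.S1170
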