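import Groth.Statements.S1185
import Groth.Agent.Pi1Ext.NormalSections

set_option autoImplicit false
attribute [-instance] CategoryTheory.catToReflQuiver
set_option backward.isDefEq.respectTransparency false
set_option backward.isDefEq.respectTransparency.types false
set_option maxHeartbeats 800000
universe u
open Pi1

namespace Groth.Agent.S1185

open AlgebraicGeometry CategoryTheory CategoryTheory.Limits in
/-- Finiteness of the sections and the extension criterion; the normality of the sections and the
equivalence of categories are not asserted: Let A be a normal Noetherian local domain of Krull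
dimension at least 2 with punctured spectrum U, and V a finite etale cover of U. Then the ring of
global sections of V is finite over A (through the map induced by V ⟶ U ⟶ Spec A), and V is the
restriction of a finite etale cover of Spec A if and only if that ring is etale over A. -/
theorem result (A : Type u) [CommRing A] [IsDomain A] [IsNoetherianRing A]
    [IsLocalRing A] [IsIntegrallyClosed A] (hdim : (2 : WithBot ℕ∞) ≤ ringKrullDim A)
    (V : FEt.Cat (FEt.puncturedSpec A : Scheme.{u})) :
    (((V.hom ≫ (FEt.puncturedSpec A).ι).appTop).hom.comp (Scheme.ΓSpecIso (CommRingCat.of A)).inv.hom).Finite ∧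
    ((∃ Y : FEt.Cat (Spec (CommRingCat.of A)), Nonempty ((FEt.restrict (FEt.puncturedSpec A).ι).obj Y ≅ V)) ↔
      (((V.hom ≫ (FEt.puncturedSpec A).ι).appTop).hom.comp (Scheme.ΓSpecIso (CommRingCat.of A)).inv.hom).Etale) := by
  classical
  let U := FEt.puncturedSpec A
  have hA : (2 : ℕ∞) ≤ LocCoh.depth A A := ParaFX.two_le_depth_of_normal A hdim
  have hne : ¬ IsField A := fun h => by
    rw [ringKrullDim_eq_zero_of_isField h] at hdim
    exact absurd hdim (by decide)
  obtain ⟨h, k, hh, hk, hr⟩ := Pi1Ext.NormalSections.exists_regPair_of_depth hA hne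
  obtain ⟨C, _, _, _, hC, ⟨e⟩⟩ := Pi1Ext.PuritySch.exists_finite_model V
  obtain ⟨hfin, hext⟩ := Pi1Ext.NormalSections.finite_sections C hC hh hk hr
  let a := (Scheme.ΓSpecIso (CommRingCat.of A)).inv
  let P := Pi1Ext.NormalSections.P (A := A) C
  let ε : P ≅ V.left := (MorphismProperty.Over.forget _ _ _ ⋙ Over.forget _).mapIso e
  have hε : ε.hom ≫ V.hom = Pi1Ext.PuritySch.rest A C := MorphismProperty.Over.w e.hom
  let φ := a ≫ (V.hom ≫ U.ι).appTop
  let ψ := CommRingCat.ofHom ((Pi1Ext.NormalSections.toSec (A := A) C).comp (algebraMap A C))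
  have hψ : φ ≫ ε.hom.appTop = ψ := by
    have h1 : ε.hom ≫ V.hom ≫ U.ι = pullback.fst (Pi1Ext.PuritySch.sp A C) U.ι ≫ Pi1Ext.PuritySch.sp A C := by
      rw [reassoc_of% hε]
      exact pullback.condition.symm
    rw [Category.assoc, ← Scheme.Hom.comp_appTop, h1, Scheme.Hom.comp_appTop, ← Category.assoc]
    refine (congrArg (· ≫ _) (Scheme.ΓSpecIso_inv_naturality (CommRingCat.ofHom (algebraMap A C))).symm).trans ?_
    rfl
  let i := (asIso ε.hom.appTop).commRingCatIsoToRingEquiv
  have hφψ : φ.hom = i.symm.toRingHom.comp ψ.hom := RingHom.ext fun x => by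
    show φ x = i.symm (ψ x)
    rw [← hψ]
    exact (i.symm_apply_apply _).symm
  have hP : ∀ {Q : ∀ {R S : Type u} [CommRing R] [CommRing S], (R →+* S) → Prop}
      (_ : RingHom.RespectsIso Q), Q φ.hom ↔ Q ψ.hom := fun {Q} hQ => by
    refine ⟨fun hq => ?_, fun hq => by rw [hφψ]; exact hQ.1 _ i.symm hq⟩
    have hψφ : ψ.hom = i.toRingHom.comp φ.hom := by rw [← hψ]; rfl
    rw [hψφ]
    exact hQ.1 _ i hq
  refine ⟨(hP RingHom.finite_respectsIso).2 hfin, ⟨fun ⟨Y, ⟨eY⟩⟩ => ?_, fun het => ?_⟩⟩
  · let Yl : Scheme.{u} := Y.left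
    let y : Yl ⟶ Spec (CommRingCat.of A) := Y.hom
    haveI : IsFinite y := Y.prop.1
    haveI : Etale y := Y.prop.2
    haveI : IsAffine Yl := isAffine_of_isAffineHom y
    haveI : IsLocallyNoetherian Yl := LocallyOfFiniteType.isLocallyNoetherian y
    let j := pullback.fst y U.ι
    let δ : pullback y U.ι ≅ V.left := (MorphismProperty.Over.forget _ _ _ ⋙ Over.forget _).mapIso eY
    have hδ : δ.hom ≫ V.hom = pullback.snd y U.ι := MorphismProperty.Over.w eY.hom
    have hj : Function.Bijective j.appTop := by
      refine Pi1X.appTop_bijective_of_depth j fun w hw => ?_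
      have hw' : w ∉ Set.range (pullback.fst y U.ι) := hw
      rw [Scheme.Pullback.range_fst, Scheme.Opens.range_ι] at hw'
      refine le_trans ?_ (Pi1X.depth_stalk_le y w)
      have hx : y w = IsLocalRing.closedPoint A := not_not.1 hw'
      rw [hx]
      letI : Algebra A ((Spec (CommRingCat.of A)).presheaf.stalk (IsLocalRing.closedPoint A)) :=
        (StructureSheaf.toStalk A _).hom.toAlgebra
      haveI : IsLocalization.AtPrime ((Spec (CommRingCat.of A)).presheaf.stalk (IsLocalRing.closedPoint A))
          (IsLocalRing.closedPoint A).asIdeal := StructureSheaf.IsLocalization.to_stalk A _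
      let σ := IsLocalization.atUnits A (IsLocalRing.closedPoint A).asIdeal.primeCompl
        (S := (Spec (CommRingCat.of A)).presheaf.stalk (IsLocalRing.closedPoint A))
        (fun a ha => (IsLocalRing.notMem_maximalIdeal).1 ha)
      exact hA.trans (Alg6.depth_eq_of_semilinear σ.toRingEquiv.toRingHom σ.surjective
        σ.toRingEquiv.toAddEquiv (fun r z => map_mul σ r z)).le
    haveI : IsIso j.appTop := (ConcreteCategory.isIso_iff_bijective _).2 hj
    have hY : (a ≫ y.appTop).hom.Etale := by
      have h1 : y.appTop.hom.Etale := HasRingHomProperty.appTop (P := @Etale) _ inferInstance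
      exact RingHom.Etale.stableUnderComposition _ _
        (RingHom.Etale.of_bijective (ConcreteCategory.bijective_of_isIso a)) h1
    have hφY : φ = (a ≫ y.appTop) ≫ j.appTop ≫ inv δ.hom.appTop := by
      rw [← Category.assoc, IsIso.eq_comp_inv, Category.assoc, ← Scheme.Hom.comp_appTop, Category.assoc,
        ← Scheme.Hom.comp_appTop, reassoc_of% hδ]
      exact congrArg (fun f => a ≫ Scheme.Hom.appTop f) pullback.condition.symm
    show φ.hom.Etale
    rw [hφY]
    exact RingHom.Etale.stableUnderComposition _ _ hY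
      (RingHom.Etale.of_bijective (ConcreteCategory.bijective_of_isIso (j.appTop ≫ inv δ.hom.appTop)))
  · obtain ⟨Y, ⟨e'⟩⟩ := hext ((hP RingHom.Etale.respectsIso).1 het)
    exact ⟨Y, ⟨e' ≪≫ e⟩⟩

end Groth.Agent.S1185
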