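import Groth.Statements.S1191
import Groth.Agent.RGLib.Spread

set_option autoImplicit false
universe u
open FlatMor

namespace Groth.Agent.S1191

attribute [local instance] Algebra.TensorProduct.rightAlgebra

open TensorProduct in
/-- For a finitely presented algebra S over R, a finitely presented S-module N and a prime q of S over
p, some element of S outside q maps into every associated prime of the fibre module of N over p that
is not contained in the extension of q to the fibre ring. -/
theorem result {R S : Type u} [CommRing R] [CommRing S] [Algebra R S] [Algebra.FinitePresentation R S]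
    (N : Type u) [AddCommGroup N] [Module S N] [Module R N] [IsScalarTower R S N] [Module.FinitePresentation S N]
    (p : Ideal R) [p.IsPrime] (q : Ideal S) [q.IsPrime] [q.LiesOver p] :
    ∃ g : S, g ∉ q ∧ ∀ r ∈ associatedPrimes (p.Fiber S) (FlatCA.fiberMod p S N),
      ¬ r ≤ FlatCA.fiberIdeal p q → (1 : p.ResidueField) ⊗ₜ[R] g ∈ r := by
  classical
  haveI : IsNoetherianRing (p.Fiber S) := Algebra.FiniteType.isNoetherianRing p.ResidueField _
  haveI : Module.Finite (p.Fiber S) (FlatCA.fiberMod p S N) :=
    inferInstanceAs (Module.Finite (p.Fiber S) ((p.Fiber S) ⊗[S] N))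
  let W := {r // r ∈ associatedPrimes (p.Fiber S) (FlatCA.fiberMod p S N) ∧ ¬ r ≤ FlatCA.fiberIdeal p q}
  haveI : Fintype W := ((associatedPrimes.finite (p.Fiber S) (FlatCA.fiberMod p S N)).subset fun _ h => h.1).fintype
  have hr : ∀ i : W, ∃ s : S, s ∉ q ∧ (1 : p.ResidueField) ⊗ₜ[R] s ∈ i.1 := by
    intro i
    by_contra hne
    push Not at hne
    refine i.2.2 fun b hb => ?_
    obtain ⟨r, hr, s, hs⟩ := Groth.Agent.AssFiber.exists_smul_eq_includeRight p b
    have hs' : (1 : p.ResidueField) ⊗ₜ[R] s ∈ i.1 := hs ▸ Ideal.mul_mem_left _ _ hb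
    have hsq : s ∈ q := by_contra fun h => hne s h hs'
    have hu : IsUnit ((1 : p.ResidueField) ⊗ₜ[R] algebraMap R S r : p.Fiber S) := by
      rw [Algebra.algebraMap_eq_smul_one, ← smul_tmul, ← Algebra.algebraMap_eq_smul_one]
      have hne : algebraMap R p.ResidueField r ≠ 0 := fun h => hr (Ideal.algebraMap_residueField_eq_zero.1 h)
      exact (isUnit_iff_ne_zero.2 hne).map (Algebra.TensorProduct.includeLeftRingHom (R := R) (A := p.ResidueField) (B := S))
    refine (Ideal.unit_mul_mem_iff_mem _ hu).1 ?_
    rw [hs]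
    exact Ideal.mem_map_of_mem _ hsq
  choose s hs hsr using hr
  refine ⟨∏ i, s i, prod_mem (S := q.primeCompl) fun i _ => hs i, fun r hr hrq => ?_⟩
  let i : W := ⟨r, hr, hrq⟩
  rw [← Finset.prod_erase_mul _ _ (Finset.mem_univ i), ← one_mul (1 : p.ResidueField),
    ← Algebra.TensorProduct.tmul_mul_tmul]
  exact Ideal.mul_mem_left _ _ (hsr i)

end Groth.Agent.S1191
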