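import Groth.Statements.S1192
import Groth.Agent.RGLib.FreePiece

set_option autoImplicit false
universe u
open FlatMor

namespace Groth.Agent.S1192

open TensorProduct in
/-- For a finitely presented ring map from R to S, a finitely presented S-module N which is flat over R,
an arbitrary R-module M and a prime q of S over the prime p of R: q is weakly associated to the
S-module N ⊗ M exactly when p is weakly associated to M and the extension of q to the fibre ring
over p is an associated prime of the fibre module of N. -/
theorem result {R S : Type u} [CommRing R] [CommRing S] [Algebra R S] [Algebra.FinitePresentation R S]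
    (N : Type u) [AddCommGroup N] [Module S N] [Module R N] [IsScalarTower R S N] [Module.FinitePresentation S N] [Module.Flat R N]
    (M : Type u) [AddCommGroup M] [Module R M]
    (p : Ideal R) [p.IsPrime] (q : Ideal S) [q.IsPrime] [q.LiesOver p] :
    q ∈ FlatCA.weakAss S (N ⊗[R] M) ↔
      (p ∈ FlatCA.weakAss R M ∧ FlatCA.fiberIdeal p q ∈ associatedPrimes (p.Fiber S) (FlatCA.fiberMod p S N)) := by
  have hpq : ∀ r, r ∈ p ↔ algebraMap R S r ∈ q := fun r => Ideal.mem_of_liesOver q p r
  haveI : Module.Flat R (LocalizedModule q.primeCompl N) := by
    haveI : Module.Flat S (Localization.AtPrime q) := IsLocalization.flat _ q.primeCompl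
    haveI : Module.Flat R (Localization.AtPrime q ⊗[S] N) :=
      Groth.Agent.RGLib.flat_tensor_left R S N (Localization.AtPrime q)
    exact Module.Flat.of_linearEquiv ((LocalizedModule.equivTensorProduct q.primeCompl N).restrictScalars R)
  exact ⟨fun h => ⟨Groth.Agent.RGLib.mem_weakAss_base p q hpq inferInstance h,
      Groth.Agent.RGLib.fiberIdeal_mem_associatedPrimes p q hpq h⟩,
    fun h => Groth.Agent.RGLib.mem_weakAss_tensor_of p q hpq h.1 h.2⟩

end Groth.Agent.S1192
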