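import Groth.Statements.S1196
import Groth.Agent.RGLib.Covering
import Groth.Agent.S1193

set_option autoImplicit false
universe u
open FlatMor

namespace Groth.Agent.S1196

attribute [local instance] Algebra.TensorProduct.rightAlgebra

open TensorProduct IsLocalRing in
/-- Let R → S be a local homomorphism of local rings, essentially of finite presentation, N a finitely
presented S-module flat over R, and S' a flat S-algebra such that every prime of S which is an
associated prime of N/𝔪_R N is the contraction of a prime of S'. Then N → S' ⊗_S N is universally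
injective as a map of R-modules. -/
theorem result {R S S' : Type u} [CommRing R] [IsLocalRing R] [CommRing S] [IsLocalRing S] [CommRing S'] [Algebra R S] [IsLocalHom (algebraMap R S)] [Algebra S S'] [Algebra R S'] [IsScalarTower R S S']
    (hS : FlatCA.EssFinitePresentation R S) [Module.Flat S S']
    (N : Type u) [AddCommGroup N] [Module S N] [Module R N] [IsScalarTower R S N] [Module.FinitePresentation S N] [Module.Flat R N]
    (h : ∀ q ∈ associatedPrimes S (FlatCA.fiberMod (maximalIdeal R) S N),
      ∃ q' : Ideal S', q'.IsPrime ∧ q'.comap (algebraMap S S') = q) :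
    FlatCA.UnivInj R ((TensorProduct.mk S S' N 1).restrictScalars R) := by
  haveI : Algebra.EssFiniteType R S := by
    obtain ⟨S₀, _, _, _, _, T, hfp, hloc⟩ := hS
    haveI := hfp
    haveI := hloc
    haveI : Algebra.EssFiniteType S₀ S := Algebra.EssFiniteType.of_isLocalization S T
    exact Algebra.EssFiniteType.comp R S₀ S
  intro Q _ _
  refine Groth.Agent.RGLib.univInj_mk_of_covering N (fun p _ P hP hq => ?_) Q
  obtain ⟨q, hq, hqp, -⟩ := hq
  obtain rfl : q = IsLocalRing.maximalIdeal S := IsLocalRing.eq_maximalIdeal hq
  obtain rfl : p = IsLocalRing.maximalIdeal R := by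
    rw [← hqp]
    ext r
    exact map_mem_nonunits_iff (algebraMap R S) r
  refine h _ ?_
  rw [Groth.Agent.S1193.associatedPrimes_eq]
  exact ⟨P, hP, rfl⟩

end Groth.Agent.S1196
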