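import Groth.Statements.S1199
import Groth.Agent.CAlgUI.Basic

set_option autoImplicit false
universe u
open FlatMor TensorProduct

namespace Groth.Agent.S1199

open TensorProduct in
/-- Let R → S be a map of Noetherian rings, I an ideal of R and N a finite S-module. Assume that for
every finite R-module Q and every associated prime q of the S-module N ⊗_R Q the ideal IS + q is
proper. Then the canonical map from N to its I-adic completion is universally injective as a map of
R-modules. -/
theorem result {R S : Type u} [CommRing R] [CommRing S] [Algebra R S] [IsNoetherianRing R] [IsNoetherianRing S] (I : Ideal R)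
    (N : Type u) [AddCommGroup N] [Module S N] [Module R N] [IsScalarTower R S N] [Module.Finite S N]
    (h : ∀ (Q : Type u) [AddCommGroup Q] [Module R Q], Module.Finite R Q →
      ∀ q ∈ associatedPrimes S (N ⊗[R] Q), I.map (algebraMap R S) ⊔ q ≠ ⊤) :
    FlatCA.UnivInj R (AdicCompletion.of I N) := by
  classical
  intro Q _ _
  rw [LinearMap.lTensor_inj_iff_rTensor_inj]
  refine (Groth.Agent.CAlgUI.ui_iff_fp (AdicCompletion.of I N)).2 (fun Q _ _ hQ => ?_) Q
  haveI : Module.Finite R Q := inferInstance
  let Φ : AdicCompletion I N ⊗[R] Q →ₗ[R] AdicCompletion I (N ⊗[R] Q) :=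
    TensorProduct.lift (LinearMap.flip
      { toFun := fun m => (AdicCompletion.map I ((TensorProduct.mk R N Q).flip m)).restrictScalars R
        map_add' := fun a b => by
          refine LinearMap.ext fun x => AdicCompletion.ext fun n => ?_
          simp only [map_add, LinearMap.coe_restrictScalars, AdicCompletion.map_val_apply, LinearMap.add_apply,
            AdicCompletion.val_add_apply]
          generalize x.val n = w
          obtain ⟨w, rfl⟩ := Submodule.mkQ_surjective _ w
          rfl
        map_smul' := fun r a => by
          refine LinearMap.ext fun x => AdicCompletion.ext fun n => ?_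
          simp only [map_smul, LinearMap.coe_restrictScalars, AdicCompletion.map_val_apply, LinearMap.smul_apply,
            AdicCompletion.val_smul_apply, RingHom.id_apply]
          generalize x.val n = w
          obtain ⟨w, rfl⟩ := Submodule.mkQ_surjective _ w
          rfl })
  have hΦ : ∀ z, Φ ((AdicCompletion.of I N).rTensor Q z) = AdicCompletion.of I (N ⊗[R] Q) z := by
    intro z
    induction z using TensorProduct.induction_on with
    | zero => simp only [map_zero]
    | add a b ha hb => simp only [map_add, ha, hb]
    | tmul a b => exact AdicCompletion.map_of I _ a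
  rw [injective_iff_map_eq_zero]
  intro z hz
  have h0 : AdicCompletion.of I (N ⊗[R] Q) z = 0 := by rw [← hΦ, hz, map_zero]
  by_contra hne
  haveI : Module.Finite S (N ⊗[R] Q) := by
    obtain ⟨k, π, hπ⟩ := Module.Finite.exists_fin' R Q
    exact Module.Finite.of_surjective ((TensorProduct.AlgebraTensorModule.lTensor S N π).comp
      (TensorProduct.piScalarRight R S N (Fin k)).symm.toLinearMap)
      ((LinearMap.lTensor_surjective N hπ).comp (LinearEquiv.surjective _))
  let J : Ideal S := I.map (algebraMap R S)
  have hmem : ∀ n : ℕ, z ∈ J ^ n • (⊤ : Submodule S (N ⊗[R] Q)) := by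
    intro n
    have h1 : z ∈ I ^ n • (⊤ : Submodule R (N ⊗[R] Q)) := by
      rw [← Submodule.Quotient.mk_eq_zero]
      exact congrArg (fun w : AdicCompletion I (N ⊗[R] Q) => w.val n) h0
    refine Submodule.smul_induction_on h1 (fun r hr w _ => ?_) fun a b ha hb => add_mem ha hb
    rw [← algebraMap_smul S r]
    refine Submodule.smul_mem_smul ?_ trivial
    rw [show J ^ n = (I ^ n).map (algebraMap R S) from (Ideal.map_pow _ _ n).symm]
    exact Ideal.mem_map_of_mem _ hr
  obtain ⟨a, ha⟩ := (J.mem_iInf_smul_pow_eq_bot_iff z).1 ((Submodule.mem_iInf _).2 hmem)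
  obtain ⟨q, hq, hle⟩ := exists_le_isAssociatedPrime_of_isNoetherianRing z hne (R := S)
  refine h Q inferInstance q hq ((Ideal.eq_top_iff_one _).2 ?_)
  have h1 : 1 - (a : S) ∈ q := hle (Submodule.mem_colon_singleton.2 (by
    rw [Submodule.mem_bot, sub_smul, one_smul, ha, sub_self]))
  rw [show (1 : S) = a + (1 - a) by abel]
  exact Submodule.add_mem_sup a.2 h1

end Groth.Agent.S1199
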