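import Groth.Statements.S1200
import Groth.Agent.S1199
import Groth.Agent.CAlgOdd.AssTensor
import Groth.Agent.RGLib.Covering

set_option autoImplicit false
universe u
open FlatMor TensorProduct

namespace Groth.Agent.S1200

attribute [local instance] Algebra.TensorProduct.rightAlgebra

/-- Let R → S be a map of Noetherian rings, I an ideal of R and N a finite S-module which is flat over
R. Assume that for every prime q of S, over p in R, whose extension to the fibre ring over p is an
associated prime of the fibre module of N, the ideal IS + q is proper. Then the canonical map from N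
to its I-adic completion is universally injective as a map of R-modules. -/
theorem result {R S : Type u} [CommRing R] [CommRing S] [Algebra R S] [IsNoetherianRing R] [IsNoetherianRing S] (I : Ideal R)
    (N : Type u) [AddCommGroup N] [Module S N] [Module R N] [IsScalarTower R S N] [Module.Finite S N] [Module.Flat R N]
    (h : ∀ (p : Ideal R) (q : Ideal S) [p.IsPrime] [q.IsPrime] [q.LiesOver p],
      FlatCA.fiberIdeal p q ∈ associatedPrimes (p.Fiber S) (FlatCA.fiberMod p S N) → I.map (algebraMap R S) ⊔ q ≠ ⊤) :
    FlatCA.UnivInj R (AdicCompletion.of I N) := by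
  refine Groth.Agent.S1199.result (S := S) I N fun Q _ _ hQ q hq => ?_
  haveI := hQ
  haveI : q.IsPrime := IsAssociatedPrime.isPrime hq
  let p := q.comap (algebraMap R S)
  haveI : p.IsPrime := Ideal.IsPrime.comap _
  haveI : q.LiesOver p := ⟨rfl⟩
  have h1 := Groth.Agent.CAlgOdd.AssTensor.exists_prime_of_mem (S := S) N Q hq
  obtain ⟨hq', x, hx⟩ := isAssociatedPrime_iff.1 h1
  have h2 : q ∈ FlatCA.ass S (N ⧸ Groth.Agent.AssFiber.pN p (S := S) N) := by
    refine ⟨hq', x, hx.trans ?_⟩
    ext b
    rw [Submodule.mem_colon_singleton, Submodule.mem_bot, Submodule.mem_annihilator_span_singleton]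
  rw [Groth.Agent.AssFiber.ass_quot_eq, Groth.Agent.AssFiber.ass_fiberMod_eq] at h2
  obtain ⟨P, ⟨hP, y, hy⟩, hPq⟩ := h2
  refine h p q ?_
  rw [← hPq]
  have he := Groth.Agent.RGLib.fiberIdeal_comap p P
  refine he.symm ▸ ⟨hP, y, ?_⟩
  have hc : (⊥ : Submodule (p.Fiber S) (FlatCA.fiberMod p S N)).colon {y} = P := by
    rw [hy]
    ext b
    rw [Submodule.mem_colon_singleton, Submodule.mem_bot, Submodule.mem_annihilator_span_singleton]
  rw [hc, hP.radical]

end Groth.Agent.S1200
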