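import Groth.Statements.S1201
import Groth.Agent.RGLib.WeakTensor
import Groth.Agent.RGLib.Nhd

set_option autoImplicit false
universe u
open FlatMor TensorProduct

namespace Groth.Agent.S1201

attribute [local instance] Algebra.TensorProduct.rightAlgebra

/-- Ring form: X = Spec S, S = Spec R: for a finite type R-algebra S, a finite S-module N and a prime q
of S lying over p, the localization N_q is flat over R if and only if N_{q'} is flat over R for
every prime q' ⊆ q lying over p whose extension to the fibre ring over p is an associated prime of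
the fibre module of N (the associated points of the fibre which specialize to q). -/
theorem result {R S : Type u} [CommRing R] [CommRing S] [Algebra R S] [Algebra.FiniteType R S]
    (N : Type u) [AddCommGroup N] [Module S N] [Module R N] [IsScalarTower R S N] [Module.Finite S N]
    (p : Ideal R) [p.IsPrime] (q : Ideal S) [q.IsPrime] [q.LiesOver p] :
    FlatCA.FlatAt R q N ↔ ∀ (q' : Ideal S) [q'.IsPrime], q' ≤ q → q'.LiesOver p →
      FlatCA.fiberIdeal p q' ∈ associatedPrimes (p.Fiber S) (FlatCA.fiberMod p S N) → FlatCA.FlatAt R q' N := by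
  classical
  constructor
  · intro hflat q' _ hle _ _
    haveI : Module.Flat R (LocalizedModule q.primeCompl N) := hflat
    show Module.Flat R (LocalizedModule q'.primeCompl N)
    let Nq := LocalizedModule q.primeCompl N
    have hle' : q.primeCompl ≤ q'.primeCompl := fun x hx h => hx (hle h)
    haveI : Module.Flat S (Localization.AtPrime q') := IsLocalization.flat _ q'.primeCompl
    haveI : Module.Flat R (TensorProduct S (Localization.AtPrime q') Nq) :=
      Groth.Agent.RGLib.flat_tensor_left R S Nq (Localization.AtPrime q')
    let g := IsLocalizedModule.liftOfLE q.primeCompl q'.primeCompl hle' (LocalizedModule.mkLinearMap q.primeCompl N)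
      (LocalizedModule.mkLinearMap q'.primeCompl N)
    exact Module.Flat.of_linearEquiv
      (((LocalizedModule.equivTensorProduct q'.primeCompl Nq).symm.restrictScalars S ≪≫ₗ
        IsLocalizedModule.iso q'.primeCompl g).symm.restrictScalars R)
  · intro h
    haveI : IsNoetherianRing (p.Fiber S) := Algebra.FiniteType.isNoetherianRing p.ResidueField _
    haveI : Module.Finite (p.Fiber S) (FlatCA.fiberMod p S N) :=
      inferInstanceAs (Module.Finite (p.Fiber S) ((p.Fiber S) ⊗[S] N))
    let W := {P // P ∈ associatedPrimes (p.Fiber S) (FlatCA.fiberMod p S N) ∧ P.comap (algebraMap S (p.Fiber S)) ≤ q}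
    haveI : Fintype W := ((associatedPrimes.finite (p.Fiber S) (FlatCA.fiberMod p S N)).subset fun _ h => h.1).fintype
    let q' : W → Ideal S := fun i => i.1.comap (algebraMap S (p.Fiber S))
    haveI hq' : ∀ i, (q' i).IsPrime := fun i => by
      haveI : i.1.IsPrime := IsAssociatedPrime.isPrime i.2.1
      exact Ideal.IsPrime.comap _
    have hpq : ∀ r, r ∈ p ↔ algebraMap R S r ∈ q := fun r => by
      rw [Ideal.over_def q p]
      rfl
    let M : W → Type u := fun i => LocalizedModule (q' i).primeCompl N
    haveI hflat : ∀ i, Module.Flat R (M i) := fun i => by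
      haveI : i.1.IsPrime := IsAssociatedPrime.isPrime i.2.1
      refine h (q' i) i.2.2 ⟨(Groth.Agent.RGLib.comap_comap_fiber p i.1).symm⟩ ?_
      rw [Groth.Agent.RGLib.fiberIdeal_comap]
      exact i.2.1
    haveI : Module.Flat R (∀ i, M i) :=
      Module.Flat.of_linearEquiv (DFinsupp.linearEquivFunOnFintype (R := R) (M := M)).symm
    let u : N →ₗ[S] ∀ i, M i := LinearMap.pi fun i => LocalizedModule.mkLinearMap (q' i).primeCompl N
    have hu : ∀ n, u n ∈ Groth.Agent.AssFiber.pN p (S := S) (∀ i, M i) →
        ∃ c ∉ q, c • n ∈ Groth.Agent.AssFiber.pN p (S := S) N := by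
      intro n hn
      let w := FlatCA.toFiberMod p (S := S) N n
      have hloc : ∀ (i : W) (x : M i), x ∈ Groth.Agent.AssFiber.pN p (S := S) (M i) → ∃ d ∉ q' i,
          ∃ m ∈ Groth.Agent.AssFiber.pN p (S := S) N, d • x = LocalizedModule.mkLinearMap (q' i).primeCompl N m := by
        intro i x hx
        refine Submodule.smul_induction_on hx (fun a ha v _ => ?_) fun x y hx hy => ?_
        · obtain ⟨⟨m, d⟩, hm⟩ := IsLocalizedModule.surj (q' i).primeCompl (LocalizedModule.mkLinearMap (q' i).primeCompl N) v
          refine ⟨d, d.2, a • m, Submodule.smul_mem_smul ha trivial, ?_⟩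
          rw [map_smul, smul_comm]
          exact congrArg (a • ·) hm
        · obtain ⟨d, hd, m, hm, e⟩ := hx
          obtain ⟨d', hd', m', hm', e'⟩ := hy
          refine ⟨d * d', fun h => ((hq' i).mem_or_mem h).elim hd hd', d' • m + d • m',
            add_mem (Submodule.smul_mem _ _ hm) (Submodule.smul_mem _ _ hm'), ?_⟩
          rw [smul_add, map_add, map_smul, map_smul, ← e, ← e', smul_smul, smul_smul, mul_comm d d']
      have hkill : ∀ i : W, ∃ t ∉ q' i, t • w = 0 := by
        intro i
        have hi : u n i ∈ Groth.Agent.AssFiber.pN p (S := S) (M i) :=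
          (Submodule.map_le_iff_le_comap (f := (LinearMap.proj i : (∀ j, M j) →ₗ[S] M i))
            (q := Groth.Agent.AssFiber.pN p (S := S) (M i))).1 (by
            rw [Groth.Agent.AssFiber.pN, Submodule.map_smul'']
            exact Submodule.smul_mono le_rfl le_top) hn
        obtain ⟨d, hd, m, hm, e⟩ := hloc i _ hi
        change d • LocalizedModule.mkLinearMap (q' i).primeCompl N n = _ at e
        rw [← map_smul] at e
        obtain ⟨⟨v, hv⟩, hve⟩ := IsLocalizedModule.exists_of_eq (S := (q' i).primeCompl) e
        change v • d • n = v • m at hve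
        refine ⟨v * d, fun h => ((hq' i).mem_or_mem h).elim hv hd, ?_⟩
        show (v * d) • FlatCA.toFiberMod p (S := S) N n = 0
        rw [← map_smul, mul_smul, hve]
        exact Groth.Agent.AssFiber.toFiberMod_eq_zero_of_mem p N (Submodule.smul_mem _ _ hm)
      obtain ⟨d, hd, hdw⟩ : ∃ d ∉ q, d • w = 0 := by
        by_cases hW : IsEmpty W
        · exact Groth.Agent.RGLib.exists_smul_fibre_eq_zero p q w 0 (zero_smul _ _)
            fun P hP hle _ => hW.false ⟨P, hP, hle⟩
        · obtain ⟨t, htw, ht⟩ : ∃ t : S, t • w = 0 ∧ ∀ i, t ∉ q' i := by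
            by_contra hne
            push Not at hne
            have hsub : ((Submodule.span S {w}).annihilator : Set S) ⊆ ⋃ i ∈ (Finset.univ : Finset W), (q' i : Set S) := by
              intro t ht
              obtain ⟨i, hi⟩ := hne t ((Submodule.mem_annihilator_span_singleton _ t).1 ht)
              exact Set.mem_biUnion (Finset.mem_univ i) hi
            obtain ⟨i, -, hi⟩ := (Ideal.subset_union_prime (s := Finset.univ) (not_isEmpty_iff.1 hW).some
              (not_isEmpty_iff.1 hW).some fun j _ _ _ => hq' j).1 hsub
            obtain ⟨t, ht, htw⟩ := hkill i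
            exact ht (hi ((Submodule.mem_annihilator_span_singleton _ t).2 htw))
          exact Groth.Agent.RGLib.exists_smul_fibre_eq_zero p q w t htw fun P hP hle => ht ⟨P, hP, hle⟩
      have hd0 : FlatCA.toFiberMod p (S := S) N (d • n) = 0 := by rw [map_smul]; exact hdw
      obtain ⟨r, hr, hrn⟩ := Groth.Agent.AssFiber.exists_smul_mem_of_toFiberMod_eq_zero p (S := S) N hd0
      exact ⟨algebraMap R S r * d, fun h => (‹q.IsPrime›.mem_or_mem h).elim (fun h' => hr ((hpq r).2 h')) hd,
        by rwa [mul_smul]⟩
    -- a pure submodule of a flat module is flat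
    show Module.Flat R (LocalizedModule q.primeCompl N)
    rw [Module.Flat.iff_lTensor_preserves_injective_linearMap]
    intro Q' Q _ _ _ _ f hf
    rw [injective_iff_map_eq_zero]
    intro x hx
    let lN := LocalizedModule.mkLinearMap q.primeCompl N
    let lQ' := TensorProduct.AlgebraTensorModule.rTensor R Q' lN
    let lQ := TensorProduct.AlgebraTensorModule.rTensor R Q lN
    obtain ⟨⟨x₀, s⟩, hs⟩ := IsLocalizedModule.surj q.primeCompl lQ' x
    change (s : S) • x = lQ' x₀ at hs
    let fN := TensorProduct.AlgebraTensorModule.lTensor S N f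
    have hsq : lQ (fN x₀) = f.lTensor (LocalizedModule q.primeCompl N) (lQ' x₀) := by
      clear hs
      induction x₀ using TensorProduct.induction_on with
      | zero => simp only [map_zero]
      | add a b ha hb => simp only [map_add, ha, hb]
      | tmul a b => rfl
    have hfs : f.lTensor (LocalizedModule q.primeCompl N) ((s : S) • x) = 0 := by
      have : f.lTensor (LocalizedModule q.primeCompl N) ((s : S) • x) =
          (s : S) • f.lTensor (LocalizedModule q.primeCompl N) x :=
        (TensorProduct.AlgebraTensorModule.lTensor S (LocalizedModule q.primeCompl N) f).map_smul (s : S) x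
      rw [this, hx, smul_zero]
    rw [hs, ← hsq] at hfs
    obtain ⟨⟨d, hd⟩, hd0⟩ := (IsLocalizedModule.eq_zero_iff q.primeCompl lQ).1 hfs
    change d • fN x₀ = 0 at hd0
    rw [← map_smul] at hd0
    let uQ' := TensorProduct.AlgebraTensorModule.rTensor R Q' u
    have hu0 : uQ' (d • x₀) = 0 := by
      refine Module.Flat.lTensor_preserves_injective_linearMap (M := ∀ i, M i) f hf ?_
      have hn : ∀ y, f.lTensor (∀ i, M i) (uQ' y) = TensorProduct.AlgebraTensorModule.rTensor R Q u (fN y) := fun y => by
        induction y using TensorProduct.induction_on with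
        | zero => simp only [map_zero]
        | add a b ha hb => simp only [map_add, ha, hb]
        | tmul a b => rfl
      rw [map_zero, hn, hd0, map_zero]
    obtain ⟨e, he, he0⟩ := Groth.Agent.RGLib.exists_killer_of_fibre_reflects u q p hpq hu Q' _ hu0
    have hzero : lQ' x₀ = 0 := (IsLocalizedModule.eq_zero_iff q.primeCompl lQ').2
      ⟨⟨e * d, fun h => (‹q.IsPrime›.mem_or_mem h).elim he hd⟩, by rw [Submonoid.smul_def, mul_smul]; exact he0⟩
    have hinj := (Module.End.isUnit_iff _).1 (IsLocalizedModule.map_units lQ' s)
    refine hinj.1 ?_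
    show (s : S) • x = (s : S) • 0
    rw [hs, hzero, smul_zero]

end Groth.Agent.S1201
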