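import Groth.Statements.S1203
import Groth.Agent.S1198
import Groth.Agent.S1200
import Groth.Agent.S6338
import Groth.Agent.CAlgUI.Countable

set_option autoImplicit false
universe u
open FlatMor

namespace Groth.Agent.S1203

/-- Let R be a Noetherian ring complete with respect to an ideal I, S a finite type R-algebra and N a
finite S-module which is flat over R, such that N/IN is a projective R/I-module and such that for
every prime q of S, over p in R, whose extension to the fibre ring over p is an associated prime of
the fibre module of N, the ideal IS + q is proper. Then N is a projective R-module. -/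
theorem result {R S : Type u} [CommRing R] [CommRing S] [Algebra R S] [IsNoetherianRing R] (I : Ideal R) [IsAdicComplete I R]
    [Algebra.FiniteType R S]
    (N : Type u) [AddCommGroup N] [Module S N] [Module R N] [IsScalarTower R S N] [Module.Finite S N] [Module.Flat R N]
    [Module.Projective (R ⧸ I) (N ⧸ (I • ⊤ : Submodule R N))]
    (h : ∀ (p : Ideal R) (q : Ideal S) [p.IsPrime] [q.IsPrime] [q.LiesOver p],
      FlatCA.fiberIdeal p q ∈ associatedPrimes (p.Fiber S) (FlatCA.fiberMod p S N) → I.map (algebraMap R S) ⊔ q ≠ ⊤) :
    Module.Projective R N := by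
  haveI : IsNoetherianRing S := Algebra.FiniteType.isNoetherianRing R S
  refine Groth.Agent.CAlgUI.projective_of_flat_ml_countablyGenerated ?_ ?_
  · refine Groth.Agent.S6338.result R (AdicCompletion.of I N) (fun Q _ _ => ?_) (Groth.Agent.S1198.result R I N).2
    exact (LinearMap.lTensor_inj_iff_rTensor_inj _ _).1 (Groth.Agent.S1200.result I N h Q)
  · obtain ⟨n, φ, hφ⟩ := Algebra.FiniteType.iff_quotient_mvPolynomial''.mp ‹Algebra.FiniteType R S›
    obtain ⟨k, g, hg⟩ := Module.Finite.exists_fin (R := S) (M := N)
    refine ⟨Set.range fun x : (Fin n →₀ ℕ) × Fin k => φ (MvPolynomial.monomial x.1 1) • g x.2,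
      Set.countable_range _, eq_top_iff.2 fun x _ => ?_⟩
    obtain ⟨c, rfl⟩ := (Submodule.mem_span_range_iff_exists_fun S).1 (hg.ge (trivial : x ∈ ⊤))
    refine Submodule.sum_mem _ fun j _ => ?_
    obtain ⟨f, hf⟩ := hφ (c j)
    rw [← hf, f.as_sum, map_sum, Finset.sum_smul]
    refine Submodule.sum_mem _ fun d _ => ?_
    rw [show MvPolynomial.monomial d (f.coeff d) = f.coeff d • MvPolynomial.monomial d 1 by
      rw [MvPolynomial.smul_monomial, smul_eq_mul, mul_one], map_smul, smul_assoc]
    exact Submodule.smul_mem _ _ (Submodule.subset_span ⟨(d, j), rfl⟩)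

end Groth.Agent.S1203
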