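import Groth.Statements.S12065
import Groth.Agent.GModLib.CartanImageMain

set_option autoImplicit false
universe u
open CategoryTheory MonoidalCategory CartesianMonoidalCategory MonObj GrpObj AlgebraicGeometry
open SGA3x

set_option backward.isDefEq.respectTransparency false
set_option backward.isDefEq.respectTransparency.types false

namespace Groth.Agent.S12065

/-- Let G and H be smooth connected algebraic groups (not necessarily affine) over an algebraically
closed field k and v : G → H a surjective homomorphism. Let T be a maximal torus of G and C its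
centralizer, and let T′ = v(T), C′ = v(C) be their images: subgroup schemes t′ : T′ → H, c′ : C′ → H
together with flat surjective homomorphisms T → T′ and C → C′ over v. Then C′ is the centralizer of
T′ in H. -/
theorem result (k : Type u) [Field k] [IsAlgClosed k]
    (G H : Over (Spec (CommRingCat.of k))) [GrpObj G] [GrpObj H]
    [Smooth G.hom] [QuasiCompact G.hom] [ConnectedSpace ↥G.left]
    [Smooth H.hom] [QuasiCompact H.hom] [ConnectedSpace ↥H.left]
    (v : G ⟶ H) [IsMonHom v] [Surjective v.left]
    (T : Over (Spec (CommRingCat.of k))) [GrpObj T] (i : T ⟶ G) (hT : Red.IsMaximalTorus i)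
    (C : Over (Spec (CommRingCat.of k))) [GrpObj C] (c : C ⟶ G) (hC : Red.IsCentralizerOf i c)
    (T' : Over (Spec (CommRingCat.of k))) [GrpObj T'] (t' : T' ⟶ H) [IsMonHom t'] [Mono t']
    (wT : T ⟶ T') [IsMonHom wT] [Flat wT.left] [Surjective wT.left] (hwT : wT ≫ t' = i ≫ v)
    (C' : Over (Spec (CommRingCat.of k))) [GrpObj C'] (c' : C' ⟶ H) [IsMonHom c'] [Mono c']
    (wC : C ⟶ C') [IsMonHom wC] [Flat wC.left] [Surjective wC.left] (hwC : wC ≫ c' = c ≫ v) :
    Red.IsCentralizerOf t' c' := by
    obtain ⟨T₁, _, t₁, w₁, ht₁, -, he, hws, hwf⟩ := GModLib.exists_maxTorus_image v i hT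
    haveI := hws; haveI := hwf
    haveI := hT.1; haveI := ht₁.1; haveI := ht₁.2.1
    obtain ⟨q1, q2, q3, -, -⟩ := GModLib.TorusBasic.torus_props hT.2.2.1
    haveI := q1; haveI := q2
    haveI : IsSeparated T'.hom := GrpSchLib.AntiAffine.isSeparated_grp T'
    haveI : IsSeparated T₁.hom := GrpSchLib.AntiAffine.isSeparated_grp T₁
    haveI : QuasiCompact wT.left := by
      haveI : QuasiCompact (wT.left ≫ T'.hom) := by rw [Over.w wT]; infer_instance
      exact QuasiCompact.of_comp wT.left T'.hom
    haveI : QuasiCompact w₁.left := by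
      haveI : QuasiCompact (w₁.left ≫ T₁.hom) := by rw [Over.w w₁]; infer_instance
      exact QuasiCompact.of_comp w₁.left T₁.hom
    obtain ⟨φ, hφ⟩ := GModLib.exists_iso_of_covers wT w₁ t' t₁ (hwT.trans he.symm)
    exact GModLib.isCentralizerOf_image v i hT c hC t' (GModLib.isMaximalTorus_of_iso_source t₁ ht₁ φ t' hφ) wT hwT c' wC hwC

end Groth.Agent.S12065
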