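import Groth.Statements.S12072
import Groth.Agent.GModLib.CartanImageMain

set_option autoImplicit false
universe u
open CategoryTheory MonoidalCategory CartesianMonoidalCategory MonObj GrpObj AlgebraicGeometry
open SGA3x

set_option backward.isDefEq.respectTransparency false
set_option backward.isDefEq.respectTransparency.types false

namespace Groth.Agent.S12072

/-- Let G and H be smooth connected algebraic groups (not necessarily affine) over an algebraically
closed field k and v : G → H a surjective homomorphism. Then the Cartan subgroups of H are the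
images of the Cartan subgroups of G: if C is a Cartan subgroup of G and c′ : C′ → H a subgroup
scheme with a flat surjective homomorphism C → C′ over v (so C′ = v(C)), then C′ is a Cartan
subgroup of H; and every Cartan subgroup C′ of H arises in this way from some Cartan subgroup C of
G. -/
theorem result (k : Type u) [Field k] [IsAlgClosed k]
    (G H : Over (Spec (CommRingCat.of k))) [GrpObj G] [GrpObj H]
    [Smooth G.hom] [QuasiCompact G.hom] [ConnectedSpace ↥G.left]
    [Smooth H.hom] [QuasiCompact H.hom] [ConnectedSpace ↥H.left]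
    (v : G ⟶ H) [IsMonHom v] [Surjective v.left] :
    (∀ (C : Over (Spec (CommRingCat.of k))) [GrpObj C] (c : C ⟶ G), SGA3x.IsCartanOver k c →
      ∀ (C' : Over (Spec (CommRingCat.of k))) [GrpObj C'] (c' : C' ⟶ H) [IsMonHom c'] [Mono c'] (w : C ⟶ C') [IsMonHom w]
        [Flat w.left] [Surjective w.left], w ≫ c' = c ≫ v → SGA3x.IsCartanOver k c') ∧
    (∀ (C' : Over (Spec (CommRingCat.of k))) [GrpObj C'] (c' : C' ⟶ H), SGA3x.IsCartanOver k c' →
      ∃ (C : Over (Spec (CommRingCat.of k))) (_ : GrpObj C) (c : C ⟶ G) (w : C ⟶ C'), SGA3x.IsCartanOver k c ∧ IsMonHom w ∧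
        Flat w.left ∧ Surjective w.left ∧ w ≫ c' = c ≫ v) := by
    refine ⟨fun C _ c hc C' _ c' _ _ w _ _ _ hw => ?_, fun C' _ c' hc' => ?_⟩
    · obtain ⟨-, -, T, _, i, hi, hcen⟩ := hc
      obtain ⟨T', _, t', wT, ht', -, he, hws, hwf⟩ := GModLib.exists_maxTorus_image v i hi
      haveI := hws; haveI := hwf
      exact ⟨inferInstance, inferInstance, T', inferInstance, t', ht',
        GModLib.isCentralizerOf_image v i hi c hcen t' ht' wT he c' w hw⟩
    · obtain ⟨-, -, T', _, i', hi', hcen⟩ := hc'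
      haveI := hi'.1; haveI := hi'.2.1
      obtain ⟨T₀, _, i₀, hi₀, -⟩ := GModLib.exists_maxTorus_all G
      haveI := hi₀.1; haveI := hi₀.2.1
      obtain ⟨T₁, _, t₁, w₁, ht₁, -, he, hws, hwf⟩ :=
        GModLib.exists_maxTorus_image v i₀ (GModLib.isMaximalTorus_of_isMaxTorus hi₀)
      haveI := hws; haveI := hwf; haveI := ht₁.1; haveI := ht₁.2.1
      obtain ⟨M, _, m, hm, hall⟩ := GModLib.exists_maxTorus_all H
      haveI := hm.1; haveI := hm.2.1
      obtain ⟨x, e₁, he₁⟩ := hall T₁ t₁ ht₁.2.2.1
      obtain ⟨y, e₂, he₂⟩ := hall T' i' hi'.2.2.1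
      haveI : IsMonHom (e₂ ≫ m) := he₂ ▸ inferInstance
      haveI : IsMonHom e₂ := GModLib.isMonHom_of_comp e₂ m
      haveI : IsIso e₂ := (GModLib.isMaxTorus_of_isMaximalTorus hi').2.2.2 M (m ≫ GModLib.inner y⁻¹) e₂ hm.2.2.1 (by
        rw [reassoc_of% he₂, GModLib.inner_inner, inv_mul_cancel, GModLib.inner_one, Category.comp_id])
      haveI : IsIso e₁ := (GModLib.isMaxTorus_of_isMaximalTorus ht₁).2.2.2 M (m ≫ GModLib.inner x⁻¹) e₁ hm.2.2.1 (by
        rw [reassoc_of% he₁, GModLib.inner_inner, inv_mul_cancel, GModLib.inner_one, Category.comp_id])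
      have hconj : (e₁ ≫ CategoryTheory.inv e₂) ≫ i' = t₁ ≫ GModLib.inner (y⁻¹ * x) := by
        rw [← GModLib.inner_inner, ← reassoc_of% he₁, Category.assoc]
        congr 1
        rw [IsIso.inv_comp_eq, reassoc_of% he₂, GModLib.inner_inner, inv_mul_cancel, GModLib.inner_one, Category.comp_id]
      haveI : LocallyOfFiniteType v.left := by
        haveI : LocallyOfFiniteType (v.left ≫ H.hom) := by rw [Over.w v]; infer_instance
        exact locallyOfFiniteType_of_comp v.left H.hom
      obtain ⟨g', hg'⟩ := GrpSchLib.exists_point_lift (K := k) v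
        (CartesianMonoidalCategory.toUnit _ ≫ (y⁻¹ * x))
      let g : 𝟙_ (Over (Spec (CommRingCat.of k))) ⟶ G := GModLib.toPt _ ≫ g'
      have hg : g ≫ v = y⁻¹ * x := by
        rw [Category.assoc, hg', ← Category.assoc, toUnit_unique (GModLib.toPt _ ≫ toUnit _) (𝟙 _), Category.id_comp]
      have hmax : AGF.IsMaxTorus (i₀ ≫ GModLib.inner g) :=
        ⟨inferInstance, inferInstance, hi₀.2.2.1, fun T'' _ j _ _ f hT'' hf =>
          hi₀.2.2.2 T'' (j ≫ GModLib.inner g⁻¹) f hT'' (by
            rw [reassoc_of% hf, GModLib.inner_inner, inv_mul_cancel, GModLib.inner_one, Category.comp_id])⟩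
      have hi := GModLib.isMaximalTorus_of_isMaxTorus hmax
      let wT : T₀ ⟶ T' := w₁ ≫ e₁ ≫ CategoryTheory.inv e₂
      have e : wT ≫ i' = (i₀ ≫ GModLib.inner g) ≫ v := by
        simp only [wT, Category.assoc]
        rw [← Category.assoc e₁, hconj, GModLib.inner_comp_hom, hg, reassoc_of% he]
      haveI : IsIso (e₁ ≫ CategoryTheory.inv e₂).left :=
        ((Over.forget _).mapIso (asIso (e₁ ≫ CategoryTheory.inv e₂))).isIso_hom
      haveI : Surjective wT.left := inferInstanceAs (Surjective (w₁.left ≫ (e₁ ≫ CategoryTheory.inv e₂).left))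
      haveI : Flat wT.left := inferInstanceAs (Flat (w₁.left ≫ (e₁ ≫ CategoryTheory.inv e₂).left))
      haveI : IsSeparated G.hom := GrpSchLib.AntiAffine.isSeparated_grp G
      obtain ⟨C, _, c, hc, -, -, -⟩ := GModLib.exists_centralizer_maxTorus (i₀ ≫ GModLib.inner g) hi
      haveI := hc.1; haveI := hc.2.1
      obtain ⟨q1, q2, q3, -, -⟩ := GModLib.TorusBasic.torus_props hi.2.2.1
      haveI := q1; haveI := q2
      haveI : IsSeparated T'.hom := GrpSchLib.AntiAffine.isSeparated_grp T'
      haveI : QuasiCompact wT.left := by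
        haveI : QuasiCompact (wT.left ≫ T'.hom) := by rw [Over.w wT]; infer_instance
        exact QuasiCompact.of_comp wT.left T'.hom
      obtain ⟨w, hw⟩ := (hcen.2.2 C (c ≫ v)).mpr (GModLib.commute_image v _ i' wT
        (FpqcDescLib.covers_of_isCovering (FpqcDescLib.isCovering_of_quasiCompact _)) e c
        ((hc.2.2 C c).mp ⟨𝟙 C, Category.id_comp c⟩))
      obtain ⟨hwm, hws', hwf'⟩ := GModLib.surjective_centralizer_image v _ hi c hc i' hi'.2.2.1 wT e c' hcen w hw
      exact ⟨C, inferInstance, c, w, ⟨hc.1, hc.2.1, T₀, inferInstance, _, hi, hc⟩, hwm, hwf', hws', hw⟩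

end Groth.Agent.S12072
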