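import Groth.Statements.S12074
import Groth.Agent.DepthRel.Fibres
import Groth.Agent.DepthRel.Cohomology

set_option autoImplicit false
universe u
open CategoryTheory CategoryTheory.Limits AlgebraicGeometry
open Lef

namespace Groth.Agent.S12074

open Groth.Agent Groth.Agent.H23.PicMul AlgebraicGeometry CategoryTheory CategoryTheory.Limits

/-- Let A be a Noetherian ring, X a proper A-scheme and 𝓘 a quasi-coherent ideal whose ideal module is
invertible with ample inverse L (so 𝓘 is the ideal of the zero scheme Y of a section t of L and X is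
projective over A). Let F be a coherent O_X-module, flat over A, such that t is F-regular (the map 𝓘
⊗ F → O_X ⊗ F is a monomorphism), and assume that for every point s of Spec A the restriction F_s of
F to the fibre X_s has depth > n at each closed point of the fibre. Then the canonical map from
H^i(X, F), written as H^i(X, O_X ⊗ F), to the inverse limit of the H^i(X, (O_X/𝓘^(m+1)) ⊗ F), the
transition maps being induced by the quotient maps, is injective for i ≤ n and surjective for i < n.
(The published statement is over a Noetherian base scheme and factors this map through the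
cohomology of the formal completion along Y, the comparison of the latter with the inverse limit
being stated for an affine base; this row composes the two over an affine base. The depth hypothesis
is read at the closed points of the fibres, as in the proof. The case F = O_X is a separate row.) -/
theorem result (A : Type u) [CommRing A]
    [IsNoetherianRing A] (X : Scheme.{u}) [X.Over (Spec (CommRingCat.of A))] [IsProper (X ↘ Spec (CommRingCat.of A))]
    (𝓘 : X.IdealSheafData) (L : X.Modules) (hL : ClSub.IsInverseOf L (ClSub.idealMod 𝓘)) (hamp : CohB1.IsAmple L)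
    (F : X.Modules) (hF : Coh.IsCoh F) (hflat : FlatMod.IsFlatOver (X ↘ Spec (CommRingCat.of A)) F)
    (hreg : Mono ((DCoh.tensorBi.map (ClSub.idealModι 𝓘)).app F))
    (n : ℕ)
    (hdepth : ∀ x : X, IsClosed ({((X ↘ Spec (CommRingCat.of A))).asFiber x} : Set ↥(((X ↘ Spec (CommRingCat.of A))).fiber (((X ↘ Spec (CommRingCat.of A))).base x))) →
      (n : ℕ∞) < LocCoh.depth (CInt.fiberStalk (X ↘ Spec (CommRingCat.of A)) x)
        ((CohIII.fiberMod (X ↘ Spec (CommRingCat.of A)) F (((X ↘ Spec (CommRingCat.of A))).base x)).presheaf.stalk (((X ↘ Spec (CommRingCat.of A))).asFiber x)))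
    (i : ℕ) :
    (i ≤ n → ∀ x : Coh.HH X ((DCoh.tensorBi.obj (Coh.structureModule X)).obj F) i,
      (∀ m : ℕ, Sheaf.H.map ((SheafOfModules.toSheaf X.ringCatSheaf).map
        ((DCoh.tensorBi.map (ClSub.toSubscheme (𝓘 ^ (m + 1)))).app F)) i x = 0) → x = 0) ∧
    (i < n → ∀ y : (∀ m : ℕ, Coh.HH X ((DCoh.tensorBi.obj (ClSub.quotMod (𝓘 ^ (m + 1)))).obj F) i),
      (∀ m : ℕ, Sheaf.H.map ((SheafOfModules.toSheaf X.ringCatSheaf).map
        ((DCoh.tensorBi.map (Lef.quotMap (Lef.pow_succ_le 𝓘 m))).app F)) i (y (m + 1)) = y m) →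
      ∃ x : Coh.HH X ((DCoh.tensorBi.obj (Coh.structureModule X)).obj F) i,
        ∀ m : ℕ, Sheaf.H.map ((SheafOfModules.toSheaf X.ringCatSheaf).map
          ((DCoh.tensorBi.map (ClSub.toSubscheme (𝓘 ^ (m + 1)))).app F)) i x = y m) := by
  haveI : IsLocallyNoetherian X := LocallyOfFiniteType.isLocallyNoetherian (X ↘ Spec (CommRingCat.of A))
  haveI : CompactSpace X := hamp.2.1
  obtain ⟨D, hD, ⟨eD⟩⟩ := H23.PicInv.exists_inverse hamp.1
  have hLD : PicF.cl L * PicF.cl D = 1 := by
    rw [← cl_tensor, H23.PicMul.one_def]; exact cl_eq_iff.2 ⟨eD⟩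
  have hLI : PicF.cl L * PicF.cl (ClSub.idealMod 𝓘) = 1 := by
    rw [← cl_tensor, H23.PicMul.one_def]; exact cl_eq_iff.2 hL
  have hI : PicF.IsInvertible (ClSub.idealMod 𝓘) := by
    obtain ⟨e⟩ : Nonempty (D ≅ ClSub.idealMod 𝓘) :=
      cl_eq_iff.1 (left_inv_eq_right_inv (by rw [mul_comm]; exact hLD) hLI)
    exact H23.PicMul.isInvertible_of_iso e hD
  obtain ⟨m₀, hm₀⟩ := DepthRel.exists_vanishing A hamp hL F hF hflat n fun x hx => by
      rw [DepthRel.fibDepth_eq_fibreMod, Nat.cast_succ]
      exact Order.add_one_le_of_lt (hdepth x (DepthRel.isClosed_asFiber_of_isClosed _ hx))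
  haveI := hreg
  haveI hmono := fun m => DepthRel.mono_pow 𝓘 hI F m
  haveI : ((DCoh.tensorBi (X := X)).flip.obj F).Additive := (SheafHomX.adj F).left_adjoint_additive
  refine DepthRel.cohomology_limit 𝓘 (T := (DCoh.tensorBi (X := X)).flip.obj F) n m₀
    (fun m w => DepthRel.shortExact_tensor_toSubscheme (𝓘 ^ (m + 1)) F) (fun m hm j hj => ?_) i
  obtain ⟨-, hcl⟩ := DepthTwist.cl_idealMod_pow 𝓘 hI m
  obtain ⟨u⟩ : Nonempty (CohB1.tensorPow (ClSub.idealMod 𝓘) (m + 1) ≅ ClSub.idealMod (𝓘 ^ (m + 1))) :=
    cl_eq_iff.1 (by rw [cl_tensorPow, hcl])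
  obtain ⟨c⟩ := H23.PicMul.comm F (CohB1.tensorPow (ClSub.idealMod 𝓘) (m + 1))
  exact QCoh.subsingleton_HH_of_iso (c ≪≫ (DCoh.tensorBi.mapIso u).app F) j (hm₀ (m + 1) (by omega) j hj)

end Groth.Agent.S12074
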