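import Groth.Statements.S12085
import Mathlib

set_option autoImplicit false
universe u
open TensorProduct
open CAlg

namespace Groth.Agent.S12085

open MvPolynomial in
theorem chain {A B : Type u} [CommRing A] [CommRing B] [Algebra A B] {n : ℕ} (x : Fin n → B)
    (p : MvPolynomial (Fin n) A) :
    KaehlerDifferential.D A B (aeval x p) =
      ∑ l, aeval x (pderiv l p) • KaehlerDifferential.D A B (x l) := by
  induction p using MvPolynomial.induction_on with
  | C a => simp
  | add p q hp hq => simp [map_add, hp, hq, add_smul, Finset.sum_add_distrib]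
  | mul_X p i hp =>
    simp only [Derivation.leibniz, smul_eq_mul, map_add, map_mul, aeval_X, hp, pderiv_X,
      Pi.single_apply, add_smul, Finset.sum_add_distrib, Finset.smul_sum, mul_smul]
    congr 1
    rw [Finset.sum_eq_single i (fun l _ hl => by simp [Ne.symm hl, hl]) (by simp)]
    simp

open MvPolynomial in
theorem unrGen {A B : Type u} [CommRing A] [CommRing B] [Algebra A B] [Algebra.FiniteType A B]
    {n : ℕ} (x : Fin n → B) (hx : Function.Surjective (aeval x : MvPolynomial (Fin n) A → B))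
    (F : Fin n → MvPolynomial (Fin n) A) (hF : ∀ k, aeval x (F k) = 0)
    (hd : aeval x (Matrix.of fun k l => pderiv l (F k)).det = 1) :
    Algebra.Unramified A B := by
  classical
  let J₀ : Matrix (Fin n) (Fin n) (MvPolynomial (Fin n) A) :=
    Matrix.of fun k l => pderiv l (F k)
  let v : Fin n → Ω[B⁄A] := fun l => KaehlerDifferential.D A B (x l)
  have hzero : ∀ l, v l = 0 := by
    intro l
    have hrow : ∀ k, ∑ m, aeval x (J₀ k m) • v m = 0 := by
      intro k
      have := chain x (F k)
      rw [hF k, map_zero] at this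
      exact this.symm
    calc v l = ∑ m, aeval x ((J₀.adjugate * J₀) l m) • v m := by
          rw [Matrix.adjugate_mul, Finset.sum_eq_single l]
          · rw [Matrix.smul_apply, Matrix.one_apply_eq, smul_eq_mul, mul_one, hd, one_smul]
          · intro m _ hm
            rw [Matrix.smul_apply, Matrix.one_apply_ne (Ne.symm hm), smul_zero, map_zero,
              zero_smul]
          · simp
      _ = ∑ m, ∑ k, aeval x (J₀.adjugate l k) • (aeval x (J₀ k m) • v m) := by
          simp only [Matrix.mul_apply, map_sum, map_mul, Finset.sum_smul, mul_smul]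
      _ = 0 := by
          rw [Finset.sum_comm]
          exact Finset.sum_eq_zero fun k _ => by rw [← Finset.smul_sum, hrow, smul_zero]
  refine { formallyUnramified := ⟨?_⟩, finiteType := inferInstance }
  refine subsingleton_of_forall_eq 0 fun w => ?_
  have hw : w ∈ (⊤ : Submodule B (Ω[B⁄A])) := Submodule.mem_top
  rw [← KaehlerDifferential.span_range_derivation] at hw
  induction hw using Submodule.span_induction with
  | mem y hy =>
    obtain ⟨s, rfl⟩ := hy
    obtain ⟨p, rfl⟩ := hx s
    rw [chain]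
    exact Finset.sum_eq_zero fun l _ =>
      (congrArg (fun z => aeval x (pderiv l p) • z) (hzero l)).trans (smul_zero _)
  | zero => rfl
  | add _ _ _ _ h1 h2 => rw [h1, h2, add_zero]
  | smul t _ _ h1 => rw [h1, smul_zero]

open MvPolynomial in
theorem unr {A : Type u} [CommRing A] {n : ℕ} (F : Fin n → MvPolynomial (Fin n) A)
    (I : Ideal (MvPolynomial (Fin n) A)) (hF : ∀ k, F k ∈ I)
    (hdet : (Matrix.of fun k l => pderiv l (F k)).det - 1 ∈ I) :
    Algebra.Unramified A (MvPolynomial (Fin n) A ⧸ I) := by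
  let x : Fin n → MvPolynomial (Fin n) A ⧸ I := fun l => Ideal.Quotient.mk I (X l)
  have hx : ∀ p, aeval x p = Ideal.Quotient.mk I p := fun p => by
    induction p using MvPolynomial.induction_on with
    | C a => rw [aeval_C]; rfl
    | add p q hp hq => rw [map_add, map_add, hp, hq]
    | mul_X p i hp => rw [map_mul, map_mul, hp, aeval_X]
  refine unrGen x (fun s => ?_) F (fun k => ?_) ?_
  · obtain ⟨p, rfl⟩ := Ideal.Quotient.mk_surjective s
    exact ⟨p, hx p⟩
  · rw [hx]; exact Ideal.Quotient.eq_zero_iff_mem.mpr (hF k)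
  · rw [hx, ← map_one (Ideal.Quotient.mk I), Ideal.Quotient.mk_eq_mk_iff_sub_mem]
    exact hdet

open TensorProduct in
theorem bcQuotient {R₀ R S : Type u} [CommRing R₀] [CommRing R] [CommRing S] [Algebra R₀ R] [Algebra R S] {n : ℕ}
    (π : MvPolynomial (Fin n) R →ₐ[R] S) (hπ : Function.Surjective π) (I₀ : Ideal (MvPolynomial (Fin n) R₀))
    (h : I₀.map (MvPolynomial.map (algebraMap R₀ R)) = RingHom.ker π) :
    Nonempty (R ⊗[R₀] (MvPolynomial (Fin n) R₀ ⧸ I₀) ≃ₐ[R] S) := by
  refine ⟨(Algebra.TensorProduct.tensorQuotientEquiv R (MvPolynomial (Fin n) R₀) R I₀).trans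
    ((Ideal.quotientEquivAlg _ (RingHom.ker π) (MvPolynomial.algebraTensorAlgEquiv R₀ R) ?_).trans
      (Ideal.quotientKerAlgEquivOfSurjective hπ))⟩
  rw [← h]
  refine Eq.trans ?_ (Ideal.map_map _ _).symm
  congr 1
  refine RingHom.ext fun p => ?_
  simp [MvPolynomial.algebraTensorAlgEquiv_tmul]

set_option maxHeartbeats 1000000 in
open MvPolynomial TensorProduct in
theorem main (R : Type u) [CommRing R] (S : Type u) [CommRing S] [Algebra R S]
    [Algebra.FinitePresentation R S] [Algebra.FormallyUnramified R S] :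
    ∃ (R₀ : Type u) (_ : CommRing R₀) (_ : Algebra.FiniteType ℤ R₀) (S₀ : Type u) (_ : CommRing S₀)
      (_ : Algebra R₀ S₀) (_ : Algebra.FinitePresentation R₀ S₀) (_ : Algebra.FormallyUnramified R₀ S₀)
      (_ : Algebra R₀ R), Nonempty (R ⊗[R₀] S₀ ≃ₐ[R] S) := by
  classical
  obtain ⟨n, π, hπ, hfg⟩ := ‹Algebra.FinitePresentation R S›.out
  obtain ⟨rels, hrels⟩ := hfg
  let P := MvPolynomial (Fin n) R
  algebraize [π.toRingHom]
  have : IsScalarTower R P S := IsScalarTower.of_algebraMap_eq fun r => (π.commutes r).symm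
  have hex := KaehlerDifferential.exact_kerCotangentToTensor_mapBaseChange R P S hπ
  have hf : ∀ k : Fin n, ∃ f : P, π f = 0 ∧
      ∀ l, π (pderiv l f) = if l = k then 1 else 0 := by
    intro k
    obtain ⟨c, hc⟩ := (hex ((1 : S) ⊗ₜ[P] KaehlerDifferential.D R P (X k))).mp
      (Subsingleton.elim _ _)
    obtain ⟨⟨f, hf⟩, rfl⟩ := Ideal.toCotangent_surjective _ c
    rw [KaehlerDifferential.kerCotangentToTensor_toCotangent] at hc
    refine ⟨f, hf, fun l => ?_⟩
    let b := Algebra.TensorProduct.basis S (KaehlerDifferential.mvPolynomialBasis R (Fin n))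
    have h1 := DFunLike.congr_fun (congrArg b.repr hc) l
    erw [Algebra.TensorProduct.basis_repr_tmul, Algebra.TensorProduct.basis_repr_tmul] at h1
    simp only [Finsupp.smul_apply, Finsupp.mapRange_apply, one_smul] at h1
    erw [KaehlerDifferential.mvPolynomialBasis_repr_apply,
      KaehlerDifferential.mvPolynomialBasis_repr_apply] at h1
    change algebraMap P S (pderiv l f) = _
    rw [h1, pderiv_X, Pi.single_apply]
    by_cases h : k = l
    · subst h; simp
    · simp [h, Ne.symm h]
  choose f hfπ hfd using hf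
  let Jm : Matrix (Fin n) (Fin n) P := Matrix.of fun k l => pderiv l (f k)
  have hdet : π (Jm.det - 1) = 0 := by
    have h1 : π.toRingHom.mapMatrix Jm = 1 := by
      ext k l
      simp only [RingHom.mapMatrix_apply, Matrix.map_apply, Jm, Matrix.of_apply,
        AlgHom.toRingHom_eq_coe, RingHom.coe_coe, hfd, Matrix.one_apply]
      exact if_congr eq_comm rfl rfl
    have h2 := RingHom.map_det π.toRingHom Jm
    rw [h1, Matrix.det_one] at h2
    rw [map_sub, map_one, sub_eq_zero]
    exact h2
  let R₀ := Algebra.adjoin ℤ ((Finset.univ.biUnion (fun k => (f k).coeffs) ∪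
    rels.biUnion (fun q => q.coeffs) : Finset R) : Set R)
  have hR₀ : Algebra.FiniteType ℤ R₀ := (Subalgebra.fg_iff_finiteType _).mp ⟨_, rfl⟩
  have hlq : ∀ q : {q // q ∈ rels}, ∃ Q : MvPolynomial (Fin n) R₀, Q.map (algebraMap R₀ R) = q.1 := by
    intro q
    have : q.1 ∈ (MvPolynomial.map (σ := Fin n) (algebraMap R₀ R)).range := by
      rw [← SetLike.mem_coe, RingHom.coe_range, MvPolynomial.mem_range_map_iff_coeffs_subset]
      intro c hc
      exact ⟨⟨c, Algebra.subset_adjoin (Finset.mem_coe.mpr (Finset.mem_union_right _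
        (Finset.mem_biUnion.mpr ⟨q.1, q.2, hc⟩)))⟩, rfl⟩
    exact this
  choose Q hQ using hlq
  have hrels' : ∀ q ∈ rels, π q = 0 := fun q hq =>
    RingHom.mem_ker.mp (hrels ▸ Ideal.subset_span hq)
  have hlift : ∀ k, ∃ F : MvPolynomial (Fin n) R₀, F.map (algebraMap R₀ R) = f k := by
    intro k
    have : f k ∈ (MvPolynomial.map (σ := Fin n) (algebraMap R₀ R)).range := by
      rw [← SetLike.mem_coe, RingHom.coe_range, MvPolynomial.mem_range_map_iff_coeffs_subset]
      intro c hc
      exact ⟨⟨c, Algebra.subset_adjoin (Finset.mem_coe.mpr (Finset.mem_union_left _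
        (Finset.mem_biUnion.mpr ⟨k, Finset.mem_univ _, hc⟩)))⟩, rfl⟩
    exact this
  choose F hF using hlift
  let J₀ : Matrix (Fin n) (Fin n) (MvPolynomial (Fin n) R₀) :=
    Matrix.of fun k l => pderiv l (F k)
  let I₀ : Ideal (MvPolynomial (Fin n) R₀) := Ideal.span ((Set.range F ∪ {J₀.det - 1}) ∪ Set.range Q)
  let S₀ := MvPolynomial (Fin n) R₀ ⧸ I₀
  let x : Fin n → S₀ := fun l => Ideal.Quotient.mk I₀ (X l)
  have hunr : Algebra.Unramified R₀ S₀ :=
    unr F I₀ (fun k => Ideal.subset_span (Or.inl (Or.inl ⟨k, rfl⟩))) (Ideal.subset_span (Or.inl (Or.inr rfl)))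
  have hfp : Algebra.FinitePresentation R₀ S₀ :=
    Algebra.FinitePresentation.quotient (Submodule.fg_span
      (((Set.finite_range F).union (Set.finite_singleton _)).union (Set.finite_range Q)))
  refine ⟨R₀, inferInstance, hR₀, S₀, inferInstance, inferInstance, hfp, hunr.formallyUnramified,
    inferInstance, ?_⟩
  refine bcQuotient π hπ I₀ (le_antisymm ?_ ?_)
  · rw [Ideal.map_le_iff_le_comap, Ideal.span_le]
    rintro _ ((⟨k, rfl⟩ | rfl) | ⟨q, rfl⟩) <;> rw [SetLike.mem_coe, Ideal.mem_comap, RingHom.mem_ker]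
    · rw [hF]; exact hfπ k
    · have hJ : (MvPolynomial.map (algebraMap R₀ R)).mapMatrix J₀ = Jm := by
        ext1 k l
        simp [J₀, Jm, ← MvPolynomial.pderiv_map, hF]
      have h2 := RingHom.map_det (MvPolynomial.map (σ := Fin n) (algebraMap R₀ R)) J₀
      rw [hJ] at h2
      rw [map_sub, map_one, h2]
      exact hdet
    · rw [hQ]; exact hrels' q.1 q.2
  · rw [show RingHom.ker π = Ideal.span (rels : Set (MvPolynomial (Fin n) R)) from hrels.symm, Ideal.span_le]
    intro r hr
    rw [SetLike.mem_coe, show r = MvPolynomial.map (algebraMap R₀ R) (Q ⟨r, hr⟩) from (hQ ⟨r, hr⟩).symm]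
    exact Ideal.mem_map_of_mem _ (Ideal.subset_span (Or.inr ⟨_, rfl⟩))

/-- If `R → S` is G-unramified (of finite presentation and formally unramified), then there are a finite
type `ℤ`-algebra `R₀`, a ring map `R₀ → R` and a G-unramified ring map `R₀ → S₀` such that `S ≅ R
⊗_{R₀} S₀` as `R`-algebras (existence of an isomorphism). -/
theorem result (R : Type u) [CommRing R] (S : Type u) [CommRing S]
    [Algebra R S] [Algebra.FinitePresentation R S] [Algebra.FormallyUnramified R S] :
    ∃ (R₀ : Type u) (_ : CommRing R₀) (_ : Algebra.FiniteType ℤ R₀) (S₀ : Type u) (_ : CommRing S₀)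
      (_ : Algebra R₀ S₀) (_ : Algebra.FinitePresentation R₀ S₀) (_ : Algebra.FormallyUnramified R₀ S₀)
      (_ : Algebra R₀ R), Nonempty (R ⊗[R₀] S₀ ≃ₐ[R] S) := by
  exact main R S

end Groth.Agent.S12085
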