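import Groth.Statements.S1209
import Groth.Agent.RGLib.Consequences
import Mathlib.RingTheory.FinitePresentation

set_option autoImplicit false
universe u
open FlatMor

namespace Groth.Agent.S1209

/-- Let R → S be a ring map of finite type and q a prime of S such that the local ring S_q is flat over
R. Then S_q is essentially of finite presentation over R. (The published statement concludes that
S_q is essentially of finite presentation over R_p, where p is the prime of R below q; the two are
equivalent, since R_p is itself a localization of R.) -/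
theorem result {R S : Type u} [CommRing R] [CommRing S] [Algebra R S] [Algebra.FiniteType R S]
    (q : Ideal S) [q.IsPrime] [Module.Flat R (Localization.AtPrime q)] :
    FlatCA.EssFinitePresentation R (Localization.AtPrime q) := by
  classical
  obtain ⟨n, π, hπ⟩ := Algebra.FiniteType.iff_quotient_mvPolynomial''.mp ‹Algebra.FiniteType R S›
  let P := MvPolynomial (Fin n) R
  let q' : Ideal P := q.comap π.toRingHom
  haveI : q'.IsPrime := Ideal.IsPrime.comap _
  let Pq := Localization.AtPrime q'
  let Sq := Localization.AtPrime q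
  let φ : Pq →+* Sq := Localization.localRingHom q' q π.toRingHom rfl
  have hφ : ∀ x : P, φ (algebraMap P Pq x) = algebraMap S Sq (π x) := fun x =>
    Localization.localRingHom_to_map q' q π.toRingHom rfl x
  have hφs : Function.Surjective φ := fun y => by
    obtain ⟨⟨x, s⟩, rfl⟩ := IsLocalization.mk'_surjective q.primeCompl y
    obtain ⟨x', rfl⟩ := hπ x
    obtain ⟨s', hs'⟩ := hπ s
    have hs'q : s' ∈ q'.primeCompl := fun h => s.2 (hs' ▸ h)
    refine ⟨IsLocalization.mk' Pq x' ⟨s', hs'q⟩, (IsLocalization.map_units Sq s).mul_left_injective ?_⟩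
    show φ _ * algebraMap S Sq s = IsLocalization.mk' Sq (π x') s * algebraMap S Sq s
    rw [IsLocalization.mk'_spec, ← hs', ← hφ, ← map_mul, IsLocalization.mk'_spec, hφ]
  letI : Algebra Pq Sq := φ.toAlgebra
  haveI : IsScalarTower R Pq Sq := IsScalarTower.of_algebraMap_eq fun r => by
    rw [IsScalarTower.algebraMap_apply R P Pq]
    show _ = φ _
    rw [hφ, π.commutes, ← IsScalarTower.algebraMap_apply]
  haveI : Algebra.EssFiniteType R Pq := by
    haveI : Algebra.EssFiniteType P Pq := Algebra.EssFiniteType.of_isLocalization _ q'.primeCompl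
    exact Algebra.EssFiniteType.comp R P Pq
  haveI : Module.Finite Pq Sq := Module.Finite.of_surjective (Algebra.linearMap Pq Sq) hφs
  haveI : Module.FinitePresentation Pq Sq := Groth.Agent.RGLib.finitePresentation_of_flat_local (R := R) (B := Pq) Sq
  obtain ⟨b, z, hz⟩ := Submodule.fg_iff_exists_fin_generating_family.1
    (Module.FinitePresentation.fg_ker (Algebra.linearMap Pq Sq) hφs)
  choose a s has using fun i => IsLocalization.exists_mk'_eq q'.primeCompl (z i)
  have hac : ∀ i, ∃ c : P, c ∈ q'.primeCompl ∧ π (c * a i) = 0 := fun i => by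
    have h1 : φ (z i) = 0 :=
      (hz ▸ Submodule.subset_span ⟨i, rfl⟩ : z i ∈ LinearMap.ker (Algebra.linearMap Pq Sq))
    have h2 : algebraMap S Sq (π (a i)) = 0 := by
      rw [← hφ, ← IsLocalization.mk'_spec Pq (a i) (s i), map_mul, has i, h1, zero_mul]
    obtain ⟨c, hc⟩ := (IsLocalization.map_eq_zero_iff q.primeCompl Sq _).1 h2
    obtain ⟨c', hc'⟩ := hπ c
    refine ⟨c', fun h => c.2 ?_, by rw [map_mul, hc', hc]⟩
    rw [← hc']
    exact h
  choose c hcq hca using hac
  let J : Ideal P := Ideal.span (Set.range fun i => c i * a i)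
  have hJ : J ≤ RingHom.ker π.toRingHom := Ideal.span_le.2 (by rintro _ ⟨i, rfl⟩; exact hca i)
  have hJq : ∀ x : P, π x = 0 → algebraMap P Pq x ∈ J.map (algebraMap P Pq) := fun x hx => by
    have h1 : algebraMap P Pq x ∈ Submodule.span Pq (Set.range z) := by
      rw [hz, LinearMap.mem_ker]
      show φ _ = 0
      rw [hφ, hx, map_zero]
    refine (Submodule.span_le.2 ?_) h1
    rintro _ ⟨i, rfl⟩
    have hu : IsUnit (algebraMap P Pq (c i) * algebraMap P Pq (s i)) :=
      (IsLocalization.map_units Pq ⟨c i, hcq i⟩).mul (IsLocalization.map_units Pq (s i))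
    refine (Ideal.unit_mul_mem_iff_mem _ hu).1 ?_
    have h2 : algebraMap P Pq (c i) * algebraMap P Pq (s i) * z i = algebraMap P Pq (c i * a i) := by
      rw [map_mul, ← IsLocalization.mk'_spec Pq (a i) (s i), has i]
      ring
    rw [h2]
    exact Ideal.mem_map_of_mem _ (Ideal.subset_span ⟨i, rfl⟩)
  let f : P ⧸ J →ₐ[R] S := Ideal.Quotient.liftₐ J π (fun x hx => hJ hx)
  letI : Algebra (P ⧸ J) Sq := ((algebraMap S Sq).comp f.toRingHom).toAlgebra
  haveI : IsScalarTower R (P ⧸ J) Sq := IsScalarTower.of_algebraMap_eq (R := R) (S := P ⧸ J) (A := Sq) fun r => by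
    show _ = algebraMap S Sq (f (algebraMap R (P ⧸ J) r))
    rw [f.commutes, ← IsScalarTower.algebraMap_apply]
  refine ⟨P ⧸ J, inferInstance, inferInstance, inferInstance, inferInstance, q'.primeCompl.map (Ideal.Quotient.mk J),
    Algebra.FinitePresentation.quotient (Submodule.fg_span (Set.finite_range _)), ?_⟩
  rw [isLocalization_iff]
  refine ⟨?_, fun y => ?_, fun {x y} hxy => ?_⟩
  · rintro ⟨_, t, ht, rfl⟩
    exact IsLocalization.map_units Sq (M := q.primeCompl) ⟨π t, ht⟩
  · obtain ⟨⟨x, s⟩, hxs⟩ := IsLocalization.surj q.primeCompl y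
    obtain ⟨x', rfl⟩ := hπ x
    obtain ⟨s', hs'⟩ := hπ s
    have hs'q : s' ∈ q'.primeCompl := fun h => s.2 (hs' ▸ h)
    refine ⟨⟨Ideal.Quotient.mk J x', ⟨_, s', hs'q, rfl⟩⟩, ?_⟩
    show y * algebraMap S Sq (π s') = algebraMap S Sq (π x')
    rw [hs']
    exact hxs
  · obtain ⟨x, rfl⟩ := Ideal.Quotient.mk_surjective x
    obtain ⟨y, rfl⟩ := Ideal.Quotient.mk_surjective y
    change algebraMap S Sq (π x) = algebraMap S Sq (π y) at hxy
    obtain ⟨c₀, hc₀⟩ := IsLocalization.exists_of_eq (M := q.primeCompl) hxy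
    obtain ⟨c₁, hc₁⟩ := hπ c₀
    have hc₁q : c₁ ∈ q'.primeCompl := fun h => c₀.2 (hc₁ ▸ h)
    have h3 := hJq (c₁ * (x - y)) (by rw [map_mul, hc₁, map_sub, mul_sub, hc₀, sub_self])
    obtain ⟨d, hd, hdJ⟩ := (IsLocalization.algebraMap_mem_map_algebraMap_iff q'.primeCompl Pq J _).1 h3
    refine ⟨⟨_, d * c₁, mul_mem hd hc₁q, rfl⟩, ?_⟩
    show Ideal.Quotient.mk J (d * c₁) * Ideal.Quotient.mk J x = Ideal.Quotient.mk J (d * c₁) * Ideal.Quotient.mk J y
    rw [← map_mul, ← map_mul, Ideal.Quotient.eq, ← mul_sub, mul_assoc]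
    exact hdJ

end Groth.Agent.S1209
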