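import Groth.Statements.S12095
import Mathlib

set_option autoImplicit false
universe u
open CAlg

namespace Groth.Agent.S12095

open HomogeneousLocalization

variable {R R' S : Type u} [CommRing R] [CommRing R'] [Algebra R R'] [CommRing S] [Algebra R S]
  (𝒜 : ℕ → Submodule R S) [GradedAlgebra 𝒜] (f : S) (hf : f ∈ 𝒜 1) (e : HomogeneousLocalization.Away 𝒜 f ≃+* R')

theorem mem_smul_one {d : ℕ} {a : S} (ha : a ∈ 𝒜 d) : a ∈ 𝒜 (d • 1) := by rwa [smul_eq_mul, mul_one]

/-- Dehomogenisation in degree `d`. -/
noncomputable def mkd (d : ℕ) : 𝒜 d →+ R' :=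
  AddMonoidHom.mk' (fun a => e (Away.mk 𝒜 hf d (a : S) (mem_smul_one 𝒜 a.2))) fun a b => by
    rw [← map_add]
    congr 1
    ext
    rw [val_add, Away.val_mk, Away.val_mk, Away.val_mk, Localization.add_mk_self]
    rfl

theorem mkd_eq (d : ℕ) (a : S) (ha : a ∈ 𝒜 d) (ha' : a ∈ 𝒜 (d • 1)) :
    mkd 𝒜 f hf e d ⟨a, ha⟩ = e (Away.mk 𝒜 hf d a ha') := rfl

theorem mkd_self : mkd 𝒜 f hf e 1 ⟨f, hf⟩ = 1 := by
  rw [mkd_eq 𝒜 f hf e 1 f hf (mem_smul_one 𝒜 hf), ← map_one e]
  congr 1
  ext
  rw [Away.val_mk, val_one]
  have : (⟨f ^ 1, 1, rfl⟩ : Submonoid.powers f) = ⟨f, 1, pow_one f⟩ := Subtype.ext (pow_one f)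
  rw [this]
  exact Localization.mk_self (⟨f, 1, pow_one f⟩ : Submonoid.powers f)

/-- The dehomogenisation `S → R'[T]`. -/
noncomputable def phi : S →+* Polynomial R' :=
  (DirectSum.toSemiring (fun d => (Polynomial.monomial d).toAddMonoidHom.comp (mkd 𝒜 f hf e d))
    (by
      show Polynomial.monomial 0 (e (Away.mk 𝒜 hf 0 (1 : S) _)) = 1
      rw [← Polynomial.monomial_zero_one, ← map_one e]
      congr 2
      ext
      rw [Away.val_mk, val_one, ← Localization.mk_one]
      congr 1
      exact Subtype.ext (pow_zero f))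
    (by
      intro i j a b
      show Polynomial.monomial (i + j) (e (Away.mk 𝒜 hf (i + j) ((a : S) * b) _)) =
        Polynomial.monomial i (e _) * Polynomial.monomial j (e _)
      rw [Polynomial.monomial_mul_monomial, ← map_mul]
      congr 2
      ext
      rw [val_mul, Away.val_mk, Away.val_mk, Away.val_mk, Localization.mk_mul]
      congr 1
      exact Subtype.ext (pow_add f i j))).comp (DirectSum.decomposeRingEquiv 𝒜).toRingHom

theorem phi_of_mem {d : ℕ} {a : S} (ha : a ∈ 𝒜 d) :
    phi 𝒜 f hf e a = Polynomial.monomial d (mkd 𝒜 f hf e d ⟨a, ha⟩) := by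
  simp only [phi, RingHom.coe_comp, Function.comp_apply, RingEquiv.toRingHom_eq_coe, RingHom.coe_coe]
  erw [DirectSum.decompose_of_mem 𝒜 ha, DirectSum.toSemiring_of]
  rfl

theorem phi_algebraMap (he : ∀ r : R, (e.symm (algebraMap R R' r)).val = algebraMap S (Localization.Away f) (algebraMap R S r))
    (r : R) : phi 𝒜 f hf e (algebraMap R S r) = Polynomial.monomial 0 (algebraMap R R' r) := by
  rw [phi_of_mem 𝒜 f hf e (SetLike.algebraMap_mem_graded 𝒜 r),
    mkd_eq 𝒜 f hf e 0 _ _ (mem_smul_one 𝒜 (SetLike.algebraMap_mem_graded 𝒜 r))]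
  congr 1
  apply e.symm.injective
  rw [RingEquiv.symm_apply_apply]
  ext
  rw [he, Away.val_mk, ← Localization.mk_one_eq_algebraMap]
  congr 1
  exact Subtype.ext (pow_zero f)

/-- Let `R'` be an `R`-algebra of finite type, `M` a finite `R'`-module, and `S` an `ℕ`-graded
`R`-algebra with `f ∈ S_1` and a ring isomorphism `e : S_(f) ≅ R'` compatible with the maps from
`R`. Then there is a finite graded `S`-module `N` whose degree-zero localization `N_(f)` (the
elements `n / f^k` of `N_f` with `n` homogeneous of degree `k`) is identified with `M`: an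
`R`-linear bijection `e' : N_(f) → M` with `e'(a · x) = e(a) · e'(x)` for all `a ∈ S_(f)`. (The
published lemma produces `S`, `f` and `N` together from `R'` and `M`; here `N` is produced for any
such `S`, `f`, `e`, which the same construction gives.) -/
theorem result (R R' : Type u) [CommRing R] [CommRing R']
    [Algebra R R'] [Algebra.FiniteType R R']
    (M : Type u) [AddCommGroup M] [Module R' M] [Module R M] [IsScalarTower R R' M] [Module.Finite R' M]
    (S : Type u) [CommRing S] [Algebra R S] (𝒜 : ℕ → Submodule R S) [GradedAlgebra 𝒜] (f : S) (hf : f ∈ 𝒜 1)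
    (e : HomogeneousLocalization.Away 𝒜 f ≃+* R')
    (he : ∀ r : R, (e.symm (algebraMap R R' r)).val = algebraMap S (Localization.Away f) (algebraMap R S r)) :
    ∃ (N : Type u) (_ : AddCommGroup N) (_ : Module S N) (_ : Module R N) (_ : IsScalarTower R S N)
      (ℳ : ℕ → Submodule R N) (_ : DirectSum.Decomposition ℳ) (_ : SetLike.GradedSMul 𝒜 ℳ)
      (Nf : Submodule R (LocalizedModule (Submonoid.powers f) N)) (e' : ↥Nf ≃ₗ[R] M),
      Module.Finite S N ∧
      (∀ x, x ∈ Nf ↔ ∃ k : ℕ, ∃ n ∈ ℳ k, f ^ k • x = LocalizedModule.mk n 1) ∧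
      (∀ (a : HomogeneousLocalization.Away 𝒜 f) (x y : ↥Nf),
        a.val • (x : LocalizedModule (Submonoid.powers f) N) = y → e' y = e a • e' x) := by
  classical
  obtain ⟨g, gen, hgen⟩ := Module.Finite.exists_fin (R := R') (M := M)
  let φ : S →+* Polynomial R' := phi 𝒜 f hf e
  have hφ : ∀ {d : ℕ} {a : S} (ha : a ∈ 𝒜 d), φ a = Polynomial.monomial d (mkd 𝒜 f hf e d ⟨a, ha⟩) :=
    fun ha => phi_of_mem 𝒜 f hf e ha
  letI : Module S (PolynomialModule R' M) := Module.compHom _ φ
  haveI : IsScalarTower R S (PolynomialModule R' M) := IsScalarTower.of_algebraMap_smul fun r x => by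
    show φ (algebraMap R S r) • x = r • x
    rw [phi_algebraMap 𝒜 f hf e he r]
    ext n
    rw [PolynomialModule.monomial_smul_apply, if_pos (Nat.zero_le n), Nat.sub_zero, algebraMap_smul]
    rfl
  let v : Fin g → PolynomialModule R' M := fun i => PolynomialModule.single R' 0 (gen i)
  let N : Submodule S (PolynomialModule R' M) := Submodule.span S (Set.range v)
  haveI : Module.Finite S N := Module.Finite.span_of_finite S (Set.finite_range v)
  let ℳ : ℕ → Submodule R N := fun k =>
    { carrier := {n | ∀ j, j ≠ k → (n : PolynomialModule R' M).coeff j = 0}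
      add_mem' := fun {a b} ha hb j hj => by
        rw [Submodule.coe_add, PolynomialModule.coeff_add, Finsupp.add_apply, ha j hj, hb j hj, add_zero]
      zero_mem' := fun j _ => by simp
      smul_mem' := fun r a ha j hj => by
        show (r • (a : PolynomialModule R' M)).coeff j = 0
        rw [show (r • (a : PolynomialModule R' M)).coeff = r • (a : PolynomialModule R' M).coeff from rfl,
          Finsupp.smul_apply, ha j hj, smul_zero] }
  haveI hgs : SetLike.GradedSMul 𝒜 ℳ := ⟨fun {i j} a n ha hn k hk => by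
    show (φ a • (n : PolynomialModule R' M)).coeff k = 0
    rw [hφ ha, PolynomialModule.monomial_smul_apply]
    split_ifs with hik
    · rw [hn (k - i) (fun h => hk (by show k = i + j; omega)), smul_zero]
    · rfl⟩
  have hvmem : ∀ i, (⟨v i, Submodule.subset_span ⟨i, rfl⟩⟩ : N) ∈ ℳ 0 := fun i j hj => by
    show (PolynomialModule.single R' 0 (gen i)).coeff j = 0
    rw [PolynomialModule.coeff_single, Finsupp.single_eq_of_ne hj]
  have htop : ∀ n : N, n ∈ ⨆ k, ℳ k := by
    rintro ⟨n, hn⟩
    induction hn using Submodule.span_induction with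
    | mem x hx =>
      obtain ⟨i, rfl⟩ := hx
      exact Submodule.mem_iSup_of_mem 0 (hvmem i)
    | zero => exact Submodule.zero_mem _
    | add a b ha hb iha ihb => exact Submodule.add_mem _ iha ihb
    | smul s a ha ih =>
      show s • (⟨a, ha⟩ : N) ∈ ⨆ k, ℳ k
      refine Submodule.iSup_induction ℳ (motive := fun x => s • x ∈ ⨆ k, ℳ k) ih ?_ ?_ ?_
      · intro k x hx
        induction s using DirectSum.Decomposition.inductionOn 𝒜 with
        | zero => rw [zero_smul]; exact Submodule.zero_mem _
        | homogeneous b => exact Submodule.mem_iSup_of_mem _ (SetLike.GradedSMul.smul_mem b.2 hx)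
        | add b c hb hc => rw [add_smul]; exact Submodule.add_mem _ hb hc
      · rw [smul_zero]; exact Submodule.zero_mem _
      · intro x y hx hy; rw [smul_add]; exact Submodule.add_mem _ hx hy
  have hint : DirectSum.IsInternal ℳ := by
    rw [DirectSum.isInternal_submodule_iff_iSupIndep_and_iSup_eq_top]
    refine ⟨fun k => Submodule.disjoint_def.mpr fun x hx hx' => ?_, eq_top_iff.mpr fun x _ => htop x⟩
    have h0 : (x : PolynomialModule R' M).coeff k = 0 := by
      clear hx
      rw [iSup_subtype'] at hx'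
      induction hx' using Submodule.iSup_induction' with
      | mem j y hy => exact hy k (fun h => j.2 h.symm)
      | zero => simp
      | add y z _ _ hy hz => rw [Submodule.coe_add, PolynomialModule.coeff_add, Finsupp.add_apply, hy, hz, add_zero]
    apply Subtype.ext
    rw [Submodule.coe_zero, ← PolynomialModule.coeff_eq_zero]
    ext j
    by_cases hj : j = k
    · rw [hj, h0]; rfl
    · rw [hx j hj]; rfl
  let ψ : S →+* R' := (Polynomial.evalRingHom (1 : R')).comp φ
  have hψ : ∀ {d : ℕ} {a : S} (ha : a ∈ 𝒜 d), ψ a = mkd 𝒜 f hf e d ⟨a, ha⟩ := fun {d a} ha => by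
    show Polynomial.eval 1 (φ a) = _
    rw [hφ ha, Polynomial.eval_monomial, one_pow, mul_one]
  have hψf : ψ f = 1 := (hψ hf).trans (mkd_self 𝒜 f hf e)
  letI : Module S M := Module.compHom M ψ
  let ev : N →ₗ[S] M :=
    { toFun := fun n => PolynomialModule.eval (1 : R') (n : PolynomialModule R' M)
      map_add' := fun a b => by simp
      map_smul' := fun s a => PolynomialModule.eval_smul (φ s) (a : PolynomialModule R' M) 1 }
  have hfk : ∀ (k : ℕ) (m : M), (f ^ k : S) • m = m := fun k m => by
    show ψ (f ^ k) • m = m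
    rw [map_pow, hψf, one_pow, one_smul]
  have hu : ∀ x : Submonoid.powers f, IsUnit (algebraMap S (Module.End S M) (x : S)) := by
    rintro ⟨_, k, rfl⟩
    have : algebraMap S (Module.End S M) (f ^ k) = 1 := LinearMap.ext fun m => hfk k m
    show IsUnit (algebraMap S (Module.End S M) (f ^ k))
    rw [this]; exact isUnit_one
  let L : LocalizedModule (Submonoid.powers f) N →ₗ[S] M := LocalizedModule.lift _ ev hu
  have hL : ∀ n : N, L (LocalizedModule.mk n 1) = ev n := fun n =>
    LinearMap.congr_fun (LocalizedModule.lift_comp (Submonoid.powers f) ev hu) n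
  let Nf : Submodule R (LocalizedModule (Submonoid.powers f) N) :=
    { carrier := {x | ∃ k : ℕ, ∃ n ∈ ℳ k, f ^ k • x = LocalizedModule.mk n 1}
      zero_mem' := ⟨0, 0, Submodule.zero_mem _, by rw [smul_zero, LocalizedModule.zero_mk]⟩
      add_mem' := by
        rintro a b ⟨k, n, hn, hk⟩ ⟨l, n', hn', hl⟩
        refine ⟨k + l, f ^ l • n + f ^ k • n', Submodule.add_mem _ ?_ ?_, ?_⟩
        · have := SetLike.GradedSMul.smul_mem (SetLike.pow_mem_graded l hf) hn
          rwa [smul_eq_mul, mul_one, vadd_eq_add, add_comm l k] at this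
        · have := SetLike.GradedSMul.smul_mem (SetLike.pow_mem_graded k hf) hn'
          rwa [smul_eq_mul, mul_one, vadd_eq_add] at this
        · have h1 : f ^ (k + l) • a = f ^ l • LocalizedModule.mk n 1 := by rw [add_comm, pow_add, mul_smul, hk]
          have h2 : f ^ (k + l) • b = f ^ k • LocalizedModule.mk n' 1 := by rw [pow_add, mul_smul, hl]
          rw [smul_add, h1, h2, LocalizedModule.smul'_mk, LocalizedModule.smul'_mk, LocalizedModule.mk_add_mk]
          simp
      smul_mem' := by
        rintro r a ⟨k, n, hn, hk⟩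
        exact ⟨k, r • n, Submodule.smul_mem _ r hn, by rw [smul_comm, hk, LocalizedModule.smul'_mk]⟩ }
  let L' : Nf →ₗ[R] M :=
    { toFun := fun x => L x
      map_add' := fun a b => by simp
      map_smul' := fun r a => by
        show L (r • (a : LocalizedModule (Submonoid.powers f) N)) = r • L a
        rw [← algebraMap_smul S r (a : LocalizedModule (Submonoid.powers f) N), map_smul]
        show ψ (algebraMap R S r) • L a = r • L a
        rw [show ψ (algebraMap R S r) = Polynomial.eval 1 (φ (algebraMap R S r)) from rfl,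
          phi_algebraMap 𝒜 f hf e he r, Polynomial.eval_monomial, one_pow, mul_one, algebraMap_smul] }
  have hLk : ∀ (k : ℕ) (x : LocalizedModule (Submonoid.powers f) N), L (f ^ k • x) = L x := fun k x => by
    rw [map_smul, hfk]
  have hinj : Function.Injective L' := by
    rw [injective_iff_map_eq_zero]
    rintro ⟨x, hx⟩ h0
    obtain ⟨k, n, hn, hk⟩ := hx
    have h1 : ev n = 0 := by rw [← hL, ← hk, hLk]; exact h0
    have hn' : (n : PolynomialModule R' M) = PolynomialModule.single R' k ((n : PolynomialModule R' M).coeff k) := by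
      ext j
      rw [PolynomialModule.coeff_single]
      by_cases hj : j = k
      · rw [hj, Finsupp.single_eq_same]
      · rw [hn j hj, Finsupp.single_eq_of_ne hj]
    have h2 : PolynomialModule.eval (1 : R') (n : PolynomialModule R' M) = 0 := h1
    rw [hn', PolynomialModule.eval_single, one_pow, one_smul] at h2
    have hn0 : n = 0 := Subtype.ext (by rw [hn', h2, PolynomialModule.single_zero, Submodule.coe_zero])
    rw [hn0, LocalizedModule.zero_mk] at hk
    have hb := ((Module.End.isUnit_iff _).mp (IsLocalizedModule.map_units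
      (LocalizedModule.mkLinearMap (Submonoid.powers f) N) (⟨f ^ k, ⟨k, rfl⟩⟩ : ↥(Submonoid.powers f)))).1
    exact Subtype.ext (hb (a₁ := x) (a₂ := 0) (by rw [map_zero]; exact hk))
  have hsurj : Function.Surjective L' := by
    intro m
    have hm : m ∈ Submodule.span R' (Set.range gen) := hgen ▸ Submodule.mem_top
    obtain ⟨c, rfl⟩ := (Submodule.mem_span_range_iff_exists_fun R').mp hm
    show _ ∈ LinearMap.range L'
    refine Submodule.sum_mem _ fun i _ => ?_
    obtain ⟨d, a, ha, hza⟩ := HomogeneousLocalization.Away.mk_surjective 𝒜 hf (e.symm (c i))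
    have ha' : a ∈ 𝒜 d := by simpa using ha
    let n : N := a • ⟨v i, Submodule.subset_span ⟨i, rfl⟩⟩
    have hn : n ∈ ℳ d := by
      have := SetLike.GradedSMul.smul_mem ha' (hvmem i)
      rwa [vadd_eq_add, add_zero] at this
    refine ⟨⟨LocalizedModule.mk n ⟨f ^ d, d, rfl⟩, d, n, hn, ?_⟩, ?_⟩
    · rw [LocalizedModule.smul'_mk]
      exact LocalizedModule.mk_cancel (s := (⟨f ^ d, d, rfl⟩ : Submonoid.powers f)) (m := n)
    · show L (LocalizedModule.mk n ⟨f ^ d, d, rfl⟩) = c i • gen i
      rw [← hLk d, LocalizedModule.smul'_mk]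
      rw [show LocalizedModule.mk (f ^ d • n) (⟨f ^ d, d, rfl⟩ : Submonoid.powers f) = LocalizedModule.mk n 1 from
        LocalizedModule.mk_cancel (s := (⟨f ^ d, d, rfl⟩ : Submonoid.powers f)) (m := n), hL]
      show PolynomialModule.eval (1 : R') (φ a • v i) = _
      rw [PolynomialModule.eval_smul, PolynomialModule.eval_single, one_pow, one_smul]
      show ψ a • gen i = _
      rw [hψ ha', mkd_eq 𝒜 f hf e d a ha' ha, hza, RingEquiv.apply_symm_apply]
  refine ⟨N, inferInstance, inferInstance, inferInstance, inferInstance, ℳ, hint.chooseDecomposition, hgs, Nf,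
    LinearEquiv.ofBijective L' ⟨hinj, hsurj⟩, inferInstance, fun x => Iff.rfl, ?_⟩
  intro a x y hxy
  obtain ⟨d, s, hs, rfl⟩ := HomogeneousLocalization.Away.mk_surjective 𝒜 hf a
  have hs' : s ∈ 𝒜 d := by simpa using hs
  show L y = e _ • L x
  have h1 : f ^ d • (y : LocalizedModule (Submonoid.powers f) N) = s • (x : LocalizedModule (Submonoid.powers f) N) := by
    rw [← hxy, HomogeneousLocalization.Away.val_mk, ← smul_assoc, Localization.smul_mk,
      show Localization.mk (f ^ d • s) (⟨f ^ d, d, rfl⟩ : Submonoid.powers f) = algebraMap S _ s from by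
        rw [← Localization.mk_one_eq_algebraMap, Localization.mk_eq_mk_iff, Localization.r_iff_exists]
        exact ⟨1, by simp⟩, algebraMap_smul]
  rw [← hLk d, h1, map_smul]
  show ψ s • L x = _
  rw [hψ hs', mkd_eq 𝒜 f hf e d s hs' hs]

end Groth.Agent.S12095
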