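import Groth.Statements.S12098
import Mathlib
import Groth.Agent.H1DAway.Basic

set_option autoImplicit false
set_option linter.style.haveILetI false
universe u
open CategoryTheory CategoryTheory.Limits
attribute [local instance] HasDerivedCategory.standard
open DRing

namespace Groth.Agent.S12098

open TensorProduct

set_option backward.isDefEq.respectTransparency false
set_option backward.isDefEq.respectTransparency.types false

lemma exists_f {R : Type u} [CommRing R] (p : Ideal R) [p.IsPrime] (P Q : DRing.Cx R)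
    (hP : H1DAway.Bfp P) (hQ : H1DAway.Bfp Q) (hP0 : Homotopy (𝟙 P) 0) (hQ0 : Homotopy (𝟙 Q) 0)
    (aP bP aQ bQ : ℤ) (_ : DRing.VanishesOutside P aP bP) (_ : DRing.VanishesOutside Q aQ bQ) :
    ∃ f : R, f ∉ p ∧
      (∀ i ∈ Finset.Icc aP bP,
        Module.Free (Localization.Away f) (Localization.Away f ⊗[R] P.X i) ∧
        Module.Free (Localization.Away f)
          (Localization.Away f ⊗[R] LinearMap.range (P.d i (i + 1)).hom)) ∧
      (∀ i ∈ Finset.Icc aQ bQ,
        Module.Free (Localization.Away f) (Localization.Away f ⊗[R] Q.X i) ∧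
        Module.Free (Localization.Away f)
          (Localization.Away f ⊗[R] LinearMap.range (Q.d i (i + 1)).hom)) := by
  haveI := fun i => (hP.2 i).1
  haveI := fun i => (hP.2 i).2
  haveI := fun i => (hQ.2 i).1
  haveI := fun i => (hQ.2 i).2
  haveI := fun i => (H1DAway.range_finite_projective hP hP0 i).1.1
  haveI := fun i => (H1DAway.range_finite_projective hP hP0 i).1.2
  haveI := fun i => (H1DAway.range_finite_projective hQ hQ0 i).1.1
  haveI := fun i => (H1DAway.range_finite_projective hQ hQ0 i).1.2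
  obtain ⟨f₁, h₁, g₁⟩ := H1DAway.exists_free_away_finset p (Finset.Icc aP bP) (fun i => P.X i)
  obtain ⟨f₂, h₂, g₂⟩ := H1DAway.exists_free_away_finset p (Finset.Icc aP bP)
    (fun i => LinearMap.range (P.d i (i + 1)).hom)
  obtain ⟨f₃, h₃, g₃⟩ := H1DAway.exists_free_away_finset p (Finset.Icc aQ bQ) (fun i => Q.X i)
  obtain ⟨f₄, h₄, g₄⟩ := H1DAway.exists_free_away_finset p (Finset.Icc aQ bQ)
    (fun i => LinearMap.range (Q.d i (i + 1)).hom)
  have hp : p.IsPrime := inferInstance
  refine ⟨f₁ * f₂ * (f₃ * f₄), ?_, fun i hi => ⟨?_, ?_⟩, fun i hi => ⟨?_, ?_⟩⟩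
  · exact hp.mul_notMem (hp.mul_notMem h₁ h₂) (hp.mul_notMem h₃ h₄)
  · haveI := g₁ i hi
    exact H1DAway.free_away_of_dvd (P.X i) (dvd_mul_of_dvd_left (dvd_mul_right f₁ f₂) _)
  · haveI := g₂ i hi
    exact H1DAway.free_away_of_dvd _ (dvd_mul_of_dvd_left (dvd_mul_left f₂ f₁) _)
  · haveI := g₃ i hi
    exact H1DAway.free_away_of_dvd (Q.X i) (dvd_mul_of_dvd_right (dvd_mul_right f₃ f₄) _)
  · haveI := g₄ i hi
    exact H1DAway.free_away_of_dvd _ (dvd_mul_of_dvd_right (dvd_mul_left f₄ f₃) _)

lemma free_extendScalars {R : Type u} [CommRing R] {S : Type u} [CommRing S] [alg : Algebra R S]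
    (M : ModuleCat.{u} R) (h : Module.Free S (S ⊗[R] M)) :
    Module.Free S ((ModuleCat.extendScalars.{u} (algebraMap R S)).obj M) := by
  have key : ∀ a : Algebra R S, a = alg → (letI := a; Module.Free S (S ⊗[R] M)) := by
    rintro a rfl; exact h
  exact key (algebraMap R S).toAlgebra (Algebra.algebra_ext _ _ fun _ => rfl)

lemma finite_extendScalars {R : Type u} [CommRing R] {S : Type u} [CommRing S] [alg : Algebra R S]
    (M : ModuleCat.{u} R) [Module.Finite R M] :
    Module.Finite S ((ModuleCat.extendScalars.{u} (algebraMap R S)).obj M) := by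
  letI : Algebra R S := (algebraMap R S).toAlgebra
  exact inferInstanceAs (Module.Finite S (S ⊗[R] M))

lemma contractible_free {R : Type u} [CommRing R] {K : DRing.Cx R} (hK : H1DAway.Bfp K)
    (h : Homotopy (𝟙 K) 0) (a b : ℤ) (hv : DRing.VanishesOutside K a b) (f : R)
    (hf : ∀ i ∈ Finset.Icc a b,
      Module.Free (Localization.Away f) (Localization.Away f ⊗[R] K.X i) ∧
      Module.Free (Localization.Away f)
        (Localization.Away f ⊗[R] LinearMap.range (K.d i (i + 1)).hom)) :
    let P := ((ModuleCat.extendScalars (algebraMap R (Localization.Away f))).mapHomologicalComplex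
      (ComplexShape.up ℤ)).obj K
    (∃ a' b' : ℤ, DRing.VanishesOutside P a' b') ∧ DRing.TermwiseFiniteFree P ∧
      (∀ i : ℤ, Module.Free (Localization.Away f) (LinearMap.range (P.d i (i + 1)).hom)) ∧
      Nonempty (Homotopy (𝟙 P) 0) := by
  intro P
  let F := ModuleCat.extendScalars.{u} (algebraMap R (Localization.Away f))
  have hz : ∀ i, i ∉ Finset.Icc a b → Limits.IsZero (K.X i) := fun i hi =>
    hv i (by rw [Finset.mem_Icc] at hi; omega)
  have hzP : ∀ i, i ∉ Finset.Icc a b → Limits.IsZero (P.X i) := fun i hi => F.map_isZero (hz i hi)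
  refine ⟨⟨a, b, fun i hi => hzP i (by rw [Finset.mem_Icc]; omega)⟩, fun i => ?_, fun i => ?_, ?_⟩
  · haveI := (hK.2 i).1
    refine ⟨finite_extendScalars (K.X i), ?_⟩
    by_cases hi : i ∈ Finset.Icc a b
    · exact free_extendScalars (K.X i) (hf i hi).1
    · haveI := ModuleCat.subsingleton_of_isZero (hzP i hi)
      infer_instance
  · by_cases hi : i ∈ Finset.Icc a b
    · obtain ⟨-, s, t, hs, ht⟩ := H1DAway.range_finite_projective hK h i
      let B := ModuleCat.of R (LinearMap.range (K.d i (i + 1)).hom)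
      let π : K.X i ⟶ B := ModuleCat.ofHom (K.d i (i + 1)).hom.rangeRestrict
      let ι : B ⟶ K.X (i + 1) := ModuleCat.ofHom (LinearMap.range (K.d i (i + 1)).hom).subtype
      let σ : B ⟶ K.X i := ModuleCat.ofHom s
      let τ : K.X (i + 1) ⟶ B := ModuleCat.ofHom t
      have e₁ : σ ≫ π = 𝟙 B := ModuleCat.hom_ext hs
      have e₂ : ι ≫ τ = 𝟙 B := ModuleCat.hom_ext ht
      have e₃ : π ≫ ι = K.d i (i + 1) := rfl
      have f₁ : Function.Surjective (F.map π).hom := fun x => ⟨(F.map σ).hom x, by
        rw [← ModuleCat.comp_apply, ← F.map_comp, e₁, F.map_id]; rfl⟩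
      have f₂ : Function.LeftInverse (F.map τ).hom (F.map ι).hom := fun x => by
        rw [← ModuleCat.comp_apply, ← F.map_comp, e₂, F.map_id]; rfl
      have hr : LinearMap.range (P.d i (i + 1)).hom = LinearMap.range (F.map ι).hom := by
        show LinearMap.range (F.map (K.d i (i + 1))).hom = _
        rw [← e₃, F.map_comp, ModuleCat.hom_comp, LinearMap.range_comp_of_range_eq_top _
          (LinearMap.range_eq_top.2 f₁)]
      rw [hr]
      haveI : Module.Free (Localization.Away f) (F.obj B) := free_extendScalars B (hf i hi).2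
      exact Module.Free.of_equiv (LinearEquiv.ofInjective (F.map ι).hom f₂.injective)
    · haveI := ModuleCat.subsingleton_of_isZero (hzP i hi)
      have : (P.d i (i + 1)).hom = 0 := LinearMap.ext fun x => by
        rw [Subsingleton.elim x 0, map_zero, LinearMap.zero_apply]
      rw [this, LinearMap.range_zero]
      infer_instance
  · refine ⟨(Homotopy.ofEq ?_).trans ((F.mapHomotopy h).trans (Homotopy.ofEq ?_))⟩
    · exact ((F.mapHomologicalComplex _).map_id K).symm
    · exact (F.mapHomologicalComplex _).map_zero K K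

/-- Let `p ⊆ R` be a prime and `M•`, `N•` bounded complexes whose terms are finite projective
`R`-modules and which are isomorphic in `D(R)`. Then for some `f ∉ p` the localized complexes `M•_f`
and `N•_f` become isomorphic once a finite direct sum of trivial complexes is added to each: `M•_f ⊕
P•` and `N•_f ⊕ Q•` are isomorphic as complexes, with `P•`, `Q•` finite direct sums of copies of `0
→ R_f = R_f → 0` (placed in arbitrary degrees), expressed here as: bounded, with finite free terms
and free boundary modules, and with null-homotopic identity. -/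
theorem result (R : Type u) [CommRing R] (p : Ideal R) [p.IsPrime]
    (M N : DRing.Cx R) (a b : ℤ) (hM : DRing.VanishesOutside M a b) (hN : DRing.VanishesOutside N a b)
    (hMp : DRing.TermwiseFiniteProjective M) (hNp : DRing.TermwiseFiniteProjective N)
    (h : Nonempty (DRing.toD M ≅ DRing.toD N)) :
    ∃ f : R, f ∉ p ∧ ∃ P Q : DRing.Cx (Localization.Away f),
      ((∃ a' b' : ℤ, DRing.VanishesOutside P a' b') ∧ DRing.TermwiseFiniteFree P ∧
          (∀ i : ℤ, Module.Free (Localization.Away f) (LinearMap.range (P.d i (i + 1)).hom)) ∧ Nonempty (Homotopy (𝟙 P) 0)) ∧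
      ((∃ a' b' : ℤ, DRing.VanishesOutside Q a' b') ∧ DRing.TermwiseFiniteFree Q ∧
          (∀ i : ℤ, Module.Free (Localization.Away f) (LinearMap.range (Q.d i (i + 1)).hom)) ∧ Nonempty (Homotopy (𝟙 Q) 0)) ∧
      Nonempty ((((ModuleCat.extendScalars (algebraMap R (Localization.Away f))).mapHomologicalComplex (ComplexShape.up ℤ)).obj M) ⊞ P ≅ (((ModuleCat.extendScalars (algebraMap R (Localization.Away f))).mapHomologicalComplex (ComplexShape.up ℤ)).obj N) ⊞ Q) := by
  obtain ⟨α⟩ := h
  have hMb : Groth.Agent.H1DAway.Bfp M := ⟨⟨a, b, hM⟩, hMp⟩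
  have hNb : Groth.Agent.H1DAway.Bfp N := ⟨⟨a, b, hN⟩, hNp⟩
  obtain ⟨v, w, ⟨h₁⟩, ⟨h₂⟩⟩ := Groth.Agent.H1DAway.exists_homotopy_inverse hMb hNb α
  obtain ⟨P, Q, hP, hQ, ⟨hP0⟩, ⟨hQ0⟩, ⟨e⟩⟩ :=
    Groth.Agent.H1DAway.exists_iso_biprod hMb hNb v w h₁ h₂
  obtain ⟨⟨aP, bP, hPv⟩, hPp⟩ := id hP
  obtain ⟨⟨aQ, bQ, hQv⟩, hQp⟩ := id hQ
  obtain ⟨f, hf, hfr⟩ := exists_f p P Q hP hQ hP0 hQ0 aP bP aQ bQ hPv hQv
  let G := ((ModuleCat.extendScalars (algebraMap R (Localization.Away f))).mapHomologicalComplex
    (ComplexShape.up ℤ))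
  refine ⟨f, hf, G.obj P, G.obj Q,
    contractible_free hP hP0 aP bP hPv f hfr.1,
    contractible_free hQ hQ0 aQ bQ hQv f hfr.2, ⟨?_⟩⟩
  haveI : G.Additive := inferInstance
  haveI : Limits.PreservesBinaryBiproducts G := Limits.preservesBinaryBiproducts_of_preservesBiproducts G
  exact (G.mapBiprod M P).symm ≪≫ G.mapIso e ≪≫ G.mapBiprod N Q

end Groth.Agent.S12098
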