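import Groth.Statements.S12112
import Groth.Agent.Bounded.ClosedReg

set_option autoImplicit false
set_option backward.isDefEq.respectTransparency false
set_option backward.isDefEq.respectTransparency.types false
set_option linter.style.haveILetI false
set_option maxHeartbeats 800000
universe u
open CategoryTheory CategoryTheory.Limits AlgebraicGeometry
open Pic13

namespace Groth.Agent.S12112

/-- Let k be an algebraically closed field, i : X ⟶ P^n_k a closed k-immersion, O_X(1) = i^*O(1), and F,
G coherent O_X-modules with a short exact sequence 0 → F(-1) → F → G → 0 and G m-regular. Then (i)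
H^q(X, F(n')) = 0 for q ≥ 2 and n' ≥ m - q; (ii) h^1(F(n' - 1)) ≥ h^1(F(n')) for n' ≥ m - 1, h^1
being the dimension over k; (iii) H^1(X, F(n')) = 0 for n' ≥ (m - 1) + h^1(F(m - 1)); in particular
F is (m + h^1(F(m - 1)))-regular. (The published statement takes F(-1) → F given by a section of
O_X(1); the printed argument uses only the short exact sequence and its twists, so any short exact
sequence of this shape is allowed here.) -/
theorem result (k : Type u) [Field k] [IsAlgClosed k] (n : ℕ) (X : Scheme.{u})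
    [X.Over (Spec (CommRingCat.of k))] (i : X ⟶ CohB1.ProjSpace n k) [IsClosedImmersion i]
    (hi : i ≫ CohB1.ProjSpace.toSpec n k = X ↘ Spec (CommRingCat.of k))
    (F G : X.Modules) (hF : Coh.IsCoh F) (hG : Coh.IsCoh G)
    (f : Pic13.twistOn k i F (-1) ⟶ F) (g : F ⟶ G) (hfg : f ≫ g = 0) (hS : (ShortComplex.mk f g hfg).ShortExact)
    (m : ℤ) (hGm : Pic13.IsMRegular k i G m) :
    (∀ (q : ℕ) (n' : ℤ), 2 ≤ q → m - q ≤ n' → Subsingleton (Coh.HH X (Pic13.twistOn k i F n') q)) ∧
    (∀ n' : ℤ, m - 1 ≤ n' →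
      Module.finrank k (Coh.HH X (Pic13.twistOn k i F n') 1) ≤ Module.finrank k (Coh.HH X (Pic13.twistOn k i F (n' - 1)) 1)) ∧
    (∀ n' : ℤ, (m - 1) + (Module.finrank k (Coh.HH X (Pic13.twistOn k i F (m - 1)) 1) : ℤ) ≤ n' →
      Subsingleton (Coh.HH X (Pic13.twistOn k i F n') 1)) ∧
    Pic13.IsMRegular k i F (m + Module.finrank k (Coh.HH X (Pic13.twistOn k i F (m - 1)) 1)) := by
  haveI : IsNoetherian (CohB1.ProjSpace n k) := Proj16.isNoetherian_proj _
  letI : (Proj (CohB1.polyGrading n k)).Over (Spec (CommRingCat.of k)) := S11296.projOver k n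
  obtain ⟨G', ⟨T⟩⟩ := Bounded.exists_setup_push i hF hG f g hfg hS m
    ((Bounded.isMRegular_push_iff i hi hG m).2 hGm)
  have h2 : ∀ (q : ℕ) (n' : ℤ), 2 ≤ q → m - q ≤ n' → Subsingleton (Coh.HH X (Pic13.twistOn k i F n') q) := by
    intro q n' hq hn'
    obtain ⟨e⟩ := Bounded.nonempty_HH_twistOn i hi hF n' q
    exact @Equiv.subsingleton _ _ e.toEquiv (RegDescent.subsingleton_high T q hq n' hn')
  have h3 : ∀ n' : ℤ, (m - 1) + (Module.finrank k (Coh.HH X (Pic13.twistOn k i F (m - 1)) 1) : ℤ) ≤ n' →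
      Subsingleton (Coh.HH X (Pic13.twistOn k i F n') 1) := by
    intro n' hn'
    obtain ⟨e⟩ := Bounded.nonempty_HH_twistOn i hi hF n' 1
    rw [← Bounded.finrank_h1_push i hi hF] at hn'
    exact @Equiv.subsingleton _ _ e.toEquiv (RegDescent.subsingleton_one T n' hn')
  refine ⟨h2, fun n' hn' => ?_, h3, fun q hq => ?_⟩
  · rw [← Bounded.finrank_h1_push i hi hF, ← Bounded.finrank_h1_push i hi hF]
    exact RegDescent.h1_le T n' hn'
  · rcases Nat.lt_or_ge q 2 with h | h
    · obtain rfl : q = 1 := by omega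
      exact h3 _ (by omega)
    · exact h2 q _ h (by omega)

end Groth.Agent.S12112
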