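import Groth.Statements.S12113
import Groth.Agent.BiextRigid.Basic

set_option autoImplicit false
universe u
open CategoryTheory CategoryTheory.Limits MonoidalCategory CartesianMonoidalCategory MonObj AlgebraicGeometry
open SGA7

namespace Groth.Agent.S12113

/-- Group schemes, fppf site: over a base scheme S, let P and G be S-group schemes with G commutative,
and let u : G → E, v : E → P and u' : G → E', v' : E' → P be homomorphisms forming sequences 1 → G →
E → P → 1 and 1 → G → E' → P → 1 exact for the fppf topology. Suppose every morphism of S-schemes P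
×_S P → G trivial on P × e_P and on e_P × P is trivial. Let f : E → E' be a morphism of S-schemes
over P (f ≫ v' = v) and under G (u ≫ f = u'), preserving the unit section, and compatible with left
and right translations by G: for all points g of G and x of E with values in any S-scheme, f(u(g) x)
= u'(g) f(x) and f(x u(g)) = f(x) u'(g). Then f is a homomorphism of S-group schemes: such
extensions have no non-multiplicative morphisms of their underlying rigidified bitorsors. (The
published statement is for sheaves of groups on an arbitrary topos and phrased as full faithfulness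
of the functor from extensions to rigidified bitorsors; this row is the case of representable
sheaves on the fppf site of S, with G commutative so that the defect of multiplicativity descends to
P ×_S P as in the printed argument. Morphisms to a group scheme form a group; trivial means equal to
its unit.) -/
theorem result (S : Scheme.{u})
    (P G E E' : Over S) [GrpObj P] [GrpObj G] [GrpObj E] [GrpObj E'] [IsCommMonObj G]
    (u : G ⟶ E) (v : E ⟶ P) (hex : NonAbH1.IsExactSeq Scheme.fppfPrecoverage u v)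
    (u' : G ⟶ E') (v' : E' ⟶ P) (hex' : NonAbH1.IsExactSeq Scheme.fppfPrecoverage u' v')
    (hPP : ∀ c : P ⊗ P ⟶ G, lift (𝟙 P) (toUnit P ≫ η[P]) ≫ c = 1 → lift (toUnit P ≫ η[P]) (𝟙 P) ≫ c = 1 → c = 1)
    (f : E ⟶ E') (hv : f ≫ v' = v) (hu : u ≫ f = u') (h1 : η[E] ≫ f = η[E'])
    (hl : ∀ (T : Over S) (g : T ⟶ G) (x : T ⟶ E), ((g ≫ u) * x) ≫ f = (g ≫ u') * (x ≫ f))
    (hr : ∀ (T : Over S) (g : T ⟶ G) (x : T ⟶ E), (x * (g ≫ u)) ≫ f = (x ≫ f) * (g ≫ u')) :
    IsMonHom f := by
  obtain ⟨iu, iv, huv, hpb, hlt⟩ := hex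
  obtain ⟨iu', iv', huv', hpb', -⟩ := hex'
  have hinj : ∀ {T : Over S} (g g' : T ⟶ G), g ≫ u' = g' ≫ u' → g = g' := by
    intro T g g' hg
    have := hpb'.hom_ext (k := lift (1 : T ⟶ E') g) (l := lift (1 : T ⟶ E') g') (by simp)
      (by rw [BiextRigid.lift_whisker_mul, BiextRigid.lift_whisker_mul, hg])
    simpa using congrArg (fun k => k ≫ snd E' G) this
  have hker : ∀ {T : Over S} (x : T ⟶ E') , x ≫ v' = 1 → ∃ g : T ⟶ G, g ≫ u' = x := by
    intro T x hx
    have h0 : (1 : T ⟶ E') ≫ v' = x ≫ v' := by rw [hx, MonObj.one_comp]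
    refine ⟨hpb'.lift _ _ h0 ≫ snd E' G, ?_⟩
    have e : hpb'.lift _ _ h0 = lift (1 : T ⟶ E') (hpb'.lift _ _ h0 ≫ snd E' G) :=
      CartesianMonoidalCategory.hom_ext _ _ (by rw [lift_fst, hpb'.lift_fst]) (by rw [lift_snd])
    have h2 := hpb'.lift_snd _ _ h0
    rw [e, BiextRigid.lift_whisker_mul, _root_.one_mul] at h2
    exact h2
  have hcoset : ∀ {T : Over S} (x x' : T ⟶ E), x ≫ v = x' ≫ v → ∃ g : T ⟶ G, x * (g ≫ u) = x' := by
    intro T x x' hx
    refine ⟨hpb.lift _ _ hx ≫ snd E G, ?_⟩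
    have e : hpb.lift _ _ hx = lift x (hpb.lift _ _ hx ≫ snd E G) :=
      CartesianMonoidalCategory.hom_ext _ _ (by rw [lift_fst, hpb.lift_fst]) (by rw [lift_snd])
    have h2 := hpb.lift_snd _ _ hx
    rw [e, BiextRigid.lift_whisker_mul] at h2
    exact h2
  have hfv : ∀ {T : Over S} (x : T ⟶ E), (x ≫ f) ≫ v' = x ≫ v := fun x => by
    rw [Category.assoc, hv]
  obtain ⟨d, hd⟩ := hker (((fst E E * snd E E) ≫ f) * ((fst E E ≫ f) * (snd E E ≫ f))⁻¹) (by
    rw [MonObj.mul_comp _ _ v', GrpObj.inv_comp _ v', MonObj.mul_comp _ _ v', hfv, hfv, hfv, MonObj.mul_comp _ _ v]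
    exact _root_.mul_inv_cancel _)
  have hd' : ∀ {T : Over S} (x y : T ⟶ E), (lift x y ≫ d) ≫ u' =
      ((x * y) ≫ f) * ((x ≫ f) * (y ≫ f))⁻¹ := by
    intro T x y
    rw [Category.assoc, hd]
    simp [comp_mul, GrpObj.comp_inv, ← Category.assoc]
  have hw : BiextRigid.LocEpi v := BiextRigid.locEpi_of_isLocallyTrivialFor v hlt
  obtain ⟨c, hc⟩ := (hw.tensor hw).desc d (by
    intro T a a' haa
    have h₁ : (a ≫ fst E E) ≫ v = (a' ≫ fst E E) ≫ v := by
      have := congrArg (fun k => k ≫ fst P P) haa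
      simpa using this
    have h₂ : (a ≫ snd E E) ≫ v = (a' ≫ snd E E) ≫ v := by
      have := congrArg (fun k => k ≫ snd P P) haa
      simpa using this
    set x := a ≫ fst E E
    set y := a ≫ snd E E
    obtain ⟨g, hg⟩ := hcoset x _ h₁
    obtain ⟨h, hh⟩ := hcoset y _ h₂
    obtain ⟨g', hg'⟩ := hcoset y ((g ≫ u) * y) (by
      rw [MonObj.mul_comp (g ≫ u) y v, Category.assoc g u v, huv, MonObj.comp_one, _root_.one_mul])
    rw [show a = lift x y by ext <;> simp [x, y], show a' = lift (a' ≫ fst E E) (a' ≫ snd E E) by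
      ext <;> simp, ← hg, ← hh]
    apply hinj
    rw [hd', hd']
    have e1 : x * (g ≫ u) * (y * (h ≫ u)) = x * y * ((g' * h) ≫ u) := by
      rw [MonObj.mul_comp g' h u, _root_.mul_assoc x y, ← _root_.mul_assoc y, hg']
      simp only [_root_.mul_assoc]
    have e2 : (g ≫ u') * (y ≫ f) = (y ≫ f) * (g' ≫ u') := by
      rw [← hl, ← hg', hr]
    rw [e1, hr, hr, hr, MonObj.mul_comp g' h u']
    have e3 : (x ≫ f) * (g ≫ u') * ((y ≫ f) * (h ≫ u')) =
        (x ≫ f) * (y ≫ f) * ((g' ≫ u') * (h ≫ u')) := by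
      rw [_root_.mul_assoc, ← _root_.mul_assoc (g ≫ u'), e2]
      simp only [_root_.mul_assoc]
    rw [e3]
    group)
  have hc1 : ∀ {T : Over S} (x : T ⟶ E), lift x 1 ≫ d = 1 := by
    intro T x
    apply hinj
    rw [hd', _root_.mul_one, MonObj.one_comp u']
    show (x ≫ f) * ((x ≫ f) * (1 ≫ f))⁻¹ = 1
    rw [show (1 : T ⟶ E) ≫ f = 1 by
      show (toUnit T ≫ η[E]) ≫ f = toUnit T ≫ η[E']; rw [Category.assoc, h1], _root_.mul_one, _root_.mul_inv_cancel]
  have hc2 : ∀ {T : Over S} (x : T ⟶ E), lift 1 x ≫ d = 1 := by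
    intro T x
    apply hinj
    rw [hd', _root_.one_mul, MonObj.one_comp u']
    show (x ≫ f) * ((1 ≫ f) * (x ≫ f))⁻¹ = 1
    rw [show (1 : T ⟶ E) ≫ f = 1 by
      show (toUnit T ≫ η[E]) ≫ f = toUnit T ≫ η[E']; rw [Category.assoc, h1], _root_.one_mul, _root_.mul_inv_cancel]
  have hc0 : c = 1 := by
    refine hPP c (hw.hom_ext ?_) (hw.hom_ext ?_)
    · rw [MonObj.comp_one, ← hc1 (𝟙 E), ← hc, ← Category.assoc, ← Category.assoc]
      refine congrArg (· ≫ c) ?_
      ext <;> simp [MonObj.one_eq_one]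
    · rw [MonObj.comp_one, ← hc2 (𝟙 E), ← hc, ← Category.assoc, ← Category.assoc]
      refine congrArg (· ≫ c) ?_
      ext <;> simp [MonObj.one_eq_one]
  refine { one_hom := h1, mul_hom := ?_ }
  have hd0 : d = 1 := by rw [← hc, hc0, MonObj.comp_one]
  have := hd' (fst E E) (snd E E)
  rw [hd0, MonObj.comp_one, MonObj.one_comp, eq_comm, mul_inv_eq_one] at this
  simpa [MonObj.mul_eq_mul, comp_mul, ← Category.assoc] using this

end Groth.Agent.S12113
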