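import Groth.Statements.S12121
import Groth.Agent.H1Sk.Spread

set_option autoImplicit false
universe u
open EGA4

namespace Groth.Agent.S12121

/-- Let A be a Noetherian ring, M a finite A-module (a coherent sheaf on X = Spec A) and k ≥ 1. Then M
has property (S_k) — depth M_p ≥ min(k, dim M_p) at every prime p — if and only if, for every basic
open set D(g) of X, every integer r < k and every M_g-regular sequence f_1, …, f_r in A_g, the
module M_g/(f_1, …, f_r)M_g has no embedded associated primes, i.e. no associated prime of it
strictly contains another one. (The published statement quantifies over all open subsets of a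
locally Noetherian scheme; both sides being local, over an affine scheme the basic open sets
suffice.) -/
theorem result (k : ℕ) (hk : 1 ≤ k) (A : Type u) [CommRing A] [IsNoetherianRing A]
    (M : Type u) [AddCommGroup M] [Module A M] [Module.Finite A M] :
    LocCoh.HasSk k A M ↔
      ∀ (g : A) (rs : List (Localization.Away g)), rs.length < k →
        RingTheory.Sequence.IsWeaklyRegular (LocalizedModule (Submonoid.powers g) M) rs →
        ∀ p ∈ associatedPrimes (Localization.Away g)
            (LocalizedModule (Submonoid.powers g) M ⧸
              (Ideal.ofList rs • (⊤ : Submodule (Localization.Away g) (LocalizedModule (Submonoid.powers g) M)))),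
          ∀ q ∈ associatedPrimes (Localization.Away g)
            (LocalizedModule (Submonoid.powers g) M ⧸
              (Ideal.ofList rs • (⊤ : Submodule (Localization.Away g) (LocalizedModule (Submonoid.powers g) M)))),
            p ≤ q → p = q := by
  constructor
  · intro h g rs hrs hreg p hp q hq hpq
    haveI : Module.Finite (Localization.Away g) (LocalizedModule (Submonoid.powers g) M) :=
      Module.Finite.of_isLocalizedModule (Submonoid.powers g) (LocalizedModule.mkLinearMap (Submonoid.powers g) M)
    exact Groth.Agent.H1Sk.eq_of_le_of_hasSk
      ((Groth.Agent.Alg6.hasSk_localization_iff (Submonoid.powers g) M k).2 fun q _ _ => h q) rs hrs hreg hp hq hpq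
  · intro h p _
    by_contra hlt
    rw [not_le, lt_min_iff] at hlt
    obtain ⟨r, hr⟩ : ∃ r : ℕ, LocCoh.depth (Localization.AtPrime p) (LocalizedModule p.primeCompl M) = r := by
      refine ⟨(LocCoh.depth (Localization.AtPrime p) (LocalizedModule p.primeCompl M)).toNat,
        (ENat.coe_toNat fun htop => ?_).symm⟩
      rw [htop] at hlt
      exact (not_le.2 hlt.1) (by exact_mod_cast (le_top : (k : ℕ∞) ≤ ⊤))
    rw [hr] at hlt
    obtain ⟨g, rs, hlen, hreg, P, hP, Q, hQ, hle, hne⟩ :=
      Groth.Agent.H1Sk.exists_embedded p r hr (by exact_mod_cast hlt.2)
    exact hne (h g rs (by rw [hlen]; exact_mod_cast hlt.1) hreg Q hQ P hP hle)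

end Groth.Agent.S12121
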