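import Groth.Statements.S12126
import Groth.Agent.H1AltFormula.OneStep
import Mathlib.RingTheory.Adjoin.FG
import Mathlib.RingTheory.AlgebraicIndependent.TranscendenceBasis

set_option autoImplicit false
universe u
open CAlg

namespace Groth.Agent.S12126

/-- The dimension formula for `q ∩ C` in the subalgebra `C`. -/
def AltOK {R : Type u} [CommRing R] [IsLocalRing R] {S : Type u} [CommRing S] [Algebra R S]
    (C : Subalgebra R S) (q : Ideal S) [q.LiesOver (IsLocalRing.maximalIdeal R)] : Prop :=
  ∀ (_ : (q.comap C.val).LiesOver (IsLocalRing.maximalIdeal R)),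
    ((q.comap C.val).height : Cardinal.{u}) + Algebra.trdeg (R ⧸ IsLocalRing.maximalIdeal R) (C ⧸ q.comap C.val) =
      ((IsLocalRing.maximalIdeal R).height : Cardinal.{u}) + Algebra.trdeg R C

theorem altOK_bot {R : Type u} [CommRing R] [IsDomain R] [IsLocalRing R] {S : Type u} [CommRing S] [IsDomain S]
    [Algebra R S] [FaithfulSMul R S] {C : Subalgebra R S} (q : Ideal S) [q.LiesOver (IsLocalRing.maximalIdeal R)]
    (hC : C = ⊥) : AltOK C q := by
  subst hC
  intro hl
  let e : R ≃+* (⊥ : Subalgebra R S) := RingEquiv.ofBijective (algebraMap R (⊥ : Subalgebra R S))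
    ⟨fun a b h => FaithfulSMul.algebraMap_injective R S (congrArg Subtype.val h), fun z => by
      obtain ⟨r, hr⟩ := Algebra.mem_bot.1 z.2
      exact ⟨r, Subtype.ext hr⟩⟩
  have he : (q.comap (⊥ : Subalgebra R S).val) = (IsLocalRing.maximalIdeal R).comap (e.symm : (⊥ : Subalgebra R S) →+* R) := by
    ext z
    obtain ⟨r, rfl⟩ := e.surjective z
    simp only [Ideal.mem_comap, RingHom.coe_coe, RingEquiv.symm_apply_apply]
    rw [Ideal.LiesOver.over (P := q) (p := IsLocalRing.maximalIdeal R), Ideal.mem_comap]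
    rfl
  have h1 : (q.comap (⊥ : Subalgebra R S).val).height = (IsLocalRing.maximalIdeal R).height := by
    rw [he]
    exact RingEquiv.height_comap e.symm _
  haveI : Algebra.IsAlgebraic R (⊥ : Subalgebra R S) := ⟨fun z => by
    obtain ⟨r, rfl⟩ := e.surjective z
    exact isAlgebraic_algebraMap r⟩
  haveI : Algebra.IsAlgebraic (R ⧸ IsLocalRing.maximalIdeal R) ((⊥ : Subalgebra R S) ⧸ q.comap (⊥ : Subalgebra R S).val) := by
    haveI := hl
    haveI : Nontrivial (R ⧸ IsLocalRing.maximalIdeal R) := Ideal.Quotient.nontrivial_iff.2 Ideal.IsPrime.ne_top'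
    refine ⟨fun z => ?_⟩
    obtain ⟨y, rfl⟩ := Ideal.Quotient.mk_surjective z
    obtain ⟨r, rfl⟩ := e.surjective y
    exact isAlgebraic_algebraMap (Ideal.Quotient.mk (IsLocalRing.maximalIdeal R) r)
  rw [h1, trdeg_eq_zero, trdeg_eq_zero]

theorem altOK_top {R : Type u} [CommRing R] [IsLocalRing R] {S : Type u} [CommRing S] [Algebra R S]
    (q : Ideal S) [q.IsPrime] [q.LiesOver (IsLocalRing.maximalIdeal R)] (h : AltOK (⊤ : Subalgebra R S) q) :
    (q.height : Cardinal.{u}) + Algebra.trdeg (R ⧸ IsLocalRing.maximalIdeal R) (S ⧸ q) =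
      ((IsLocalRing.maximalIdeal R).height : Cardinal.{u}) + Algebra.trdeg R S := by
  let e : (⊤ : Subalgebra R S) ≃ₐ[R] S := Subalgebra.topEquiv
  haveI hl : (q.comap (⊤ : Subalgebra R S).val).LiesOver (IsLocalRing.maximalIdeal R) :=
    ⟨by rw [Ideal.LiesOver.over (P := q) (p := IsLocalRing.maximalIdeal R)]; rfl⟩
  have h1 : (q.comap (⊤ : Subalgebra R S).val).height = q.height := RingEquiv.height_comap e.toRingEquiv q
  let eq : ((⊤ : Subalgebra R S) ⧸ q.comap (⊤ : Subalgebra R S).val) ≃ₐ[R] S ⧸ q :=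
    Ideal.quotientEquivAlg _ _ e (by
      show q = (q.comap (⊤ : Subalgebra R S).val).map (e : (⊤ : Subalgebra R S) →+* S)
      exact (Ideal.map_comap_of_surjective (e : (⊤ : Subalgebra R S) →+* S) e.surjective q).symm)
  let eq' : ((⊤ : Subalgebra R S) ⧸ q.comap (⊤ : Subalgebra R S).val) ≃ₐ[R ⧸ IsLocalRing.maximalIdeal R] S ⧸ q :=
    { eq.toRingEquiv with
      commutes' := fun z => by
        obtain ⟨r, rfl⟩ := Ideal.Quotient.mk_surjective z
        exact eq.commutes r }
  have := h hl
  rwa [h1, e.trdeg_eq, eq'.trdeg_eq] at this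

/-- The step, for abstract rings. -/
theorem step_aux {R : Type u} [CommRing R] [IsNoetherianRing R] [IsLocalRing R]
    {S : Type u} [CommRing S] [Algebra R S]
    (hcat : ∀ A' : Subalgebra R (Polynomial S), A'.FG →
      ∀ (m' : Ideal A') [m'.IsMaximal], m'.LiesOver (IsLocalRing.maximalIdeal R) →
        CAlg.IsCatenary (Localization.AtPrime m'))
    {C D : Type u} [CommRing C] [IsDomain C] [CommRing D] [IsDomain D] [Algebra R C] [Algebra.FiniteType R C]
    [Algebra C D] [FaithfulSMul C D] (ι : C →ₐ[R] S) (hι : Function.Injective ι)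
    (π : MvPolynomial (Fin 1) C →ₐ[C] D) (hπ : Function.Surjective π)
    (qC : Ideal C) [qC.IsPrime] [qC.LiesOver (IsLocalRing.maximalIdeal R)] (qD : Ideal D) [qD.IsPrime] [qD.LiesOver qC] :
    (qD.height : Cardinal.{u}) + Algebra.trdeg (C ⧸ qC) (D ⧸ qD) =
      (qC.height : Cardinal.{u}) + Algebra.trdeg C D := by
  haveI : IsNoetherianRing C := Algebra.FiniteType.isNoetherianRing R C
  let e1 : MvPolynomial (Fin 1) C ≃ₐ[R] Polynomial C :=
    ((MvPolynomial.renameEquiv C (Equiv.ofUnique (Fin 1) PUnit.{1})).trans (MvPolynomial.pUnitAlgEquiv C)).restrictScalars R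
  let j : MvPolynomial (Fin 1) C →ₐ[R] Polynomial S := (Polynomial.mapAlgHom ι).comp e1.toAlgHom
  have hj : Function.Injective j := (Polynomial.map_injective ι.toRingHom hι).comp e1.injective
  haveI : Algebra.FiniteType R (MvPolynomial (Fin 1) C) := Algebra.FiniteType.trans (S := C) inferInstance inferInstance
  have hfg : (AlgHom.range j).FG := by
    rw [← Algebra.map_top]
    exact Subalgebra.FG.map j Algebra.FiniteType.out
  let e : MvPolynomial (Fin 1) C ≃ₐ[R] AlgHom.range j := AlgEquiv.ofInjective j hj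
  haveI : (qD.comap π.toRingHom).IsPrime := Ideal.comap_isPrime _ _
  obtain ⟨M, hM, hle⟩ := Ideal.exists_le_maximal (qD.comap π.toRingHom) Ideal.IsPrime.ne_top'
  let m' : Ideal (AlgHom.range j) := M.comap (e.symm : AlgHom.range j →+* MvPolynomial (Fin 1) C)
  haveI : m'.IsMaximal := Ideal.comap_isMaximal_of_surjective _ e.symm.surjective
  have hm' : m'.LiesOver (IsLocalRing.maximalIdeal R) := by
    refine ⟨le_antisymm (fun r hr => ?_) (IsLocalRing.le_maximalIdeal (Ideal.comap_ne_top _ (Ideal.IsMaximal.ne_top inferInstance)))⟩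
    show e.symm (algebraMap R (AlgHom.range j) r) ∈ M
    rw [AlgEquiv.commutes]
    refine hle ?_
    show π (algebraMap R (MvPolynomial (Fin 1) C) r) ∈ qD
    rw [IsScalarTower.algebraMap_apply R C (MvPolynomial (Fin 1) C), AlgHom.commutes, ← Ideal.mem_comap]
    show algebraMap R C r ∈ qD.under C
    rw [← Ideal.LiesOver.over (P := qD) (p := qC)]
    show r ∈ qC.under R
    rw [← Ideal.LiesOver.over (P := qC) (p := IsLocalRing.maximalIdeal R)]
    exact hr
  letI algT : Algebra (MvPolynomial (Fin 1) C) (Localization.AtPrime m') :=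
    ((algebraMap (AlgHom.range j) (Localization.AtPrime m')).comp e.toRingEquiv.toRingHom).toAlgebra
  haveI : IsLocalization.AtPrime (Localization.AtPrime m') M := by
    have h := IsLocalization.isLocalization_of_base_ringEquiv m'.primeCompl (Localization.AtPrime m') e.symm.toRingEquiv
    have hc : Submonoid.map (e.symm.toRingEquiv : AlgHom.range j →* MvPolynomial (Fin 1) C) m'.primeCompl = M.primeCompl := by
      ext z
      constructor
      · rintro ⟨w, hw, rfl⟩
        exact hw
      · intro hz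
        refine ⟨e z, ?_, e.symm_apply_apply z⟩
        show e.symm (e z) ∉ M
        rwa [e.symm_apply_apply]
    show IsLocalization M.primeCompl (Localization.AtPrime m')
    rw [← hc]
    exact h
  exact H1AltFormula.trdeg_formula_one C π hπ qC qD M hle (Localization.AtPrime m') (hcat _ hfg m' hm')

/-- Additivity. -/
theorem add_step {R : Type u} [CommRing R] [IsLocalRing R] {C D : Type u} [CommRing C] [IsDomain C] [CommRing D]
    [IsDomain D] [IsDomain R] [Algebra R C] [Algebra R D] [Algebra C D] [IsScalarTower R C D] [FaithfulSMul R C]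
    [FaithfulSMul C D] (qC : Ideal C) [qC.IsPrime] [qC.LiesOver (IsLocalRing.maximalIdeal R)]
    (qD : Ideal D) [qD.IsPrime] [qD.LiesOver qC] [qD.LiesOver (IsLocalRing.maximalIdeal R)]
    (hstep : (qD.height : Cardinal.{u}) + Algebra.trdeg (C ⧸ qC) (D ⧸ qD) =
      (qC.height : Cardinal.{u}) + Algebra.trdeg C D)
    (ih : (qC.height : Cardinal.{u}) + Algebra.trdeg (R ⧸ IsLocalRing.maximalIdeal R) (C ⧸ qC) =
      ((IsLocalRing.maximalIdeal R).height : Cardinal.{u}) + Algebra.trdeg R C) :
    (qD.height : Cardinal.{u}) + Algebra.trdeg (R ⧸ IsLocalRing.maximalIdeal R) (D ⧸ qD) =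
      ((IsLocalRing.maximalIdeal R).height : Cardinal.{u}) + Algebra.trdeg R D := by
  haveI : IsScalarTower (R ⧸ IsLocalRing.maximalIdeal R) (C ⧸ qC) (D ⧸ qD) :=
    IsScalarTower.of_algebraMap_eq fun z => by
      obtain ⟨r, rfl⟩ := Ideal.Quotient.mk_surjective z
      exact congrArg (Ideal.Quotient.mk qD) (IsScalarTower.algebraMap_apply R C D r)
  haveI : FaithfulSMul (C ⧸ qC) (D ⧸ qD) :=
    (faithfulSMul_iff_algebraMap_injective _ _).2 ((injective_iff_map_eq_zero _).2 fun z hz => by
      obtain ⟨c, rfl⟩ := Ideal.Quotient.mk_surjective z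
      rw [Ideal.Quotient.eq_zero_iff_mem, Ideal.LiesOver.over (P := qD) (p := qC)]
      exact (Ideal.Quotient.eq_zero_iff_mem (I := qD)).1 hz)
  haveI : FaithfulSMul (R ⧸ IsLocalRing.maximalIdeal R) (C ⧸ qC) :=
    (faithfulSMul_iff_algebraMap_injective _ _).2 ((injective_iff_map_eq_zero _).2 fun z hz => by
      obtain ⟨c, rfl⟩ := Ideal.Quotient.mk_surjective z
      rw [Ideal.Quotient.eq_zero_iff_mem, Ideal.LiesOver.over (P := qC) (p := IsLocalRing.maximalIdeal R)]
      exact (Ideal.Quotient.eq_zero_iff_mem (I := qC)).1 hz)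
  rw [← trdeg_add_eq (R := R ⧸ IsLocalRing.maximalIdeal R) (S := C ⧸ qC) (A := D ⧸ qD),
    ← trdeg_add_eq (R := R) (S := C) (A := D), add_comm (Algebra.trdeg _ (C ⧸ qC)), ← add_assoc, hstep,
    add_right_comm, ih, add_assoc]

theorem altOK_step {R : Type u} [CommRing R] [IsDomain R] [IsNoetherianRing R] [IsLocalRing R]
    {S : Type u} [CommRing S] [IsDomain S] [Algebra R S] [FaithfulSMul R S]
    (q : Ideal S) [q.IsPrime] [q.LiesOver (IsLocalRing.maximalIdeal R)]
    (hqm : q.comap (algebraMap R S) = IsLocalRing.maximalIdeal R)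
    (hcat : ∀ A' : Subalgebra R (Polynomial S), A'.FG →
      ∀ (m' : Ideal A') [m'.IsMaximal], m'.LiesOver (IsLocalRing.maximalIdeal R) →
        CAlg.IsCatenary (Localization.AtPrime m'))
    (C : Subalgebra R S) (hC : C.FG) (x : S) (D : Subalgebra R S) (hD : D = C ⊔ Algebra.adjoin R {x})
    (ih : AltOK C q) : AltOK D q := by
  intro hlD
  have hCD : C ≤ D := hD ▸ le_sup_left
  have hxD : x ∈ D := hD ▸ (le_sup_right : Algebra.adjoin R {x} ≤ C ⊔ Algebra.adjoin R {x}) (Algebra.self_mem_adjoin_singleton R x)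
  letI : Algebra C D := (Subalgebra.inclusion hCD).toRingHom.toAlgebra
  haveI : IsScalarTower R C D := IsScalarTower.of_algebraMap_eq fun r => rfl
  haveI : Algebra.FiniteType R C := (Subalgebra.fg_iff_finiteType C).1 hC
  haveI : FaithfulSMul C D := (faithfulSMul_iff_algebraMap_injective C D).2 fun a b h =>
    Subtype.ext (congrArg (fun z : D => (z : S)) h)
  haveI : FaithfulSMul R C := (faithfulSMul_iff_algebraMap_injective R C).2 fun a b h =>
    FaithfulSMul.algebraMap_injective R S (congrArg (fun z : C => (z : S)) h)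
  haveI hlC : (q.comap C.val).LiesOver (IsLocalRing.maximalIdeal R) := ⟨hqm.symm⟩
  haveI hlCD : (q.comap D.val).LiesOver (q.comap C.val) := ⟨rfl⟩
  let π : MvPolynomial (Fin 1) C →ₐ[C] D := MvPolynomial.aeval fun _ => ⟨x, hxD⟩
  have hπ : Function.Surjective π := by
    intro z
    have hle : D ≤ (Subalgebra.map D.val (AlgHom.range (π.restrictScalars R))) := by
      refine (le_of_eq hD).trans (sup_le (fun c hc => ⟨Subalgebra.inclusion hCD ⟨c, hc⟩, ⟨MvPolynomial.C ⟨c, hc⟩, ?_⟩, rfl⟩)
        (Algebra.adjoin_le (Set.singleton_subset_iff.2 ⟨⟨x, hxD⟩, ⟨MvPolynomial.X 0, ?_⟩, rfl⟩)))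
      · exact MvPolynomial.aeval_C (fun _ => (⟨x, hxD⟩ : D)) _
      · exact MvPolynomial.aeval_X (fun _ => (⟨x, hxD⟩ : D)) 0
    obtain ⟨w, ⟨g, hg⟩, hw⟩ := hle z.2
    exact ⟨g, hg.trans (Subtype.ext hw)⟩
  exact add_step (q.comap C.val) (q.comap D.val)
    (step_aux (R := R) (S := S) hcat C.val Subtype.val_injective π hπ (q.comap C.val) (q.comap D.val)) (ih hlC)

/-- Let A be a Noetherian local domain with maximal ideal m and residue field k, B a domain containing A
which is an A-algebra of finite type, q a prime ideal of B over m and k' the residue field of B_q.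
If for every sub-A-algebra A' of finite type of the polynomial ring B[T] and every maximal ideal m'
of A' lying over m the local ring A'_{m'} is catenary, then ht(q) + trdeg_k k' = dim(A) + trdeg_A B,
stated with heights and transcendence degrees as cardinals (the transcendence degree of B over A is
that of the fraction fields, and that of k' over k is that of B/q over A/m). -/
theorem result (R : Type u) [CommRing R] [IsDomain R]
    [IsNoetherianRing R] [IsLocalRing R] (S : Type u) [CommRing S] [IsDomain S] [Algebra R S]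
    [FaithfulSMul R S] [Algebra.FiniteType R S] (q : Ideal S) [q.IsPrime]
    [q.LiesOver (IsLocalRing.maximalIdeal R)]
    (hcat : ∀ A' : Subalgebra R (Polynomial S), A'.FG →
      ∀ (m' : Ideal A') [m'.IsMaximal], m'.LiesOver (IsLocalRing.maximalIdeal R) →
        CAlg.IsCatenary (Localization.AtPrime m')) :
    (q.height : Cardinal.{u}) + Algebra.trdeg (R ⧸ IsLocalRing.maximalIdeal R) (S ⧸ q) =
      ((IsLocalRing.maximalIdeal R).height : Cardinal.{u}) + Algebra.trdeg R S := by
  classical
  have hqm : q.comap (algebraMap R S) = IsLocalRing.maximalIdeal R :=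
    (Ideal.LiesOver.over (P := q) (p := IsLocalRing.maximalIdeal R)).symm
  obtain ⟨s, hs⟩ := (inferInstance : Algebra.FiniteType R S).out
  have hind : ∀ t : Finset S, AltOK (Algebra.adjoin R (t : Set S)) q := by
    intro t
    induction t using Finset.induction_on with
    | empty => exact altOK_bot q (by simp)
    | insert x t _ ih =>
      exact altOK_step q hqm hcat (Algebra.adjoin R (t : Set S)) ⟨t, rfl⟩ x (Algebra.adjoin R _) (by
        rw [Finset.coe_insert, Set.insert_eq, Set.union_comm, Algebra.adjoin_union]) ih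
  have h := hind s
  rw [hs] at h
  exact altOK_top q h

end Groth.Agent.S12126
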