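import Groth.Statements.S12134
import Groth.Agent.GrFlat5.Piece
import Mathlib.LinearAlgebra.TensorProduct.RightExactness
import Mathlib.LinearAlgebra.TensorProduct.Quotient
import Mathlib.RingTheory.IsTensorProduct
import Mathlib.RingTheory.Spectrum.Prime.Topology
import Mathlib.AlgebraicGeometry.Morphisms.Immersion

set_option autoImplicit false
universe u
open scoped TensorProduct
open EGA43

namespace Groth.Agent.S12134

section

open TensorProduct PrimeSpectrum AlgebraicGeometry CategoryTheory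

/-- The stratum `V(p) ∩ D(f)`. -/
def stratum {A₀ : Type u} [CommRing A₀] (p : Ideal A₀) (f : A₀) : Set (PrimeSpectrum A₀) :=
  zeroLocus (p : Set A₀) ∩ (basicOpen f : Set (PrimeSpectrum A₀))

/-- Later strata avoid the earlier basic opens. -/
def IsLayered {A₀ : Type u} [CommRing A₀] {m : ℕ} (p : Fin m → Ideal A₀) (f : Fin m → A₀) : Prop :=
  ∀ i j, i < j → Disjoint (stratum (p j) (f j)) (basicOpen (f i) : Set (PrimeSpectrum A₀))

theorem IsLayered.disjoint {A₀ : Type u} [CommRing A₀] {m : ℕ} {p : Fin m → Ideal A₀} {f : Fin m → A₀}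
    (h : IsLayered p f) {i j : Fin m} (hij : i ≠ j) :
    Disjoint (stratum (p i) (f i)) (stratum (p j) (f j)) := by
  rcases lt_or_gt_of_ne hij with hlt | hlt
  · exact ((h i j hlt).mono_right Set.inter_subset_right).symm
  · exact (h j i hlt).mono_right Set.inter_subset_right

theorem IsLayered.inter {A₀ : Type u} [CommRing A₀] {m : ℕ} {p : Fin m → Ideal A₀} {f : Fin m → A₀}
    (h : IsLayered p f) (i : Fin m) :
    (basicOpen (f i) : Set (PrimeSpectrum A₀)) ∩ (⋃ j, ⋃ (_ : i ≤ j), stratum (p j) (f j)) =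
      stratum (p i) (f i) := by
  ext x
  simp only [Set.mem_inter_iff, Set.mem_iUnion, exists_prop]
  constructor
  · rintro ⟨hx, j, hij, hj⟩
    rcases hij.eq_or_lt with rfl | hlt
    · exact hj
    · exact absurd hx (Set.disjoint_left.mp (h i j hlt) hj)
  · exact fun hx => ⟨hx.2, i, le_rfl, hx⟩

theorem range_stratum {A₀ : Type u} [CommRing A₀] (p : Ideal A₀) (f : A₀) :
    Set.range (Spec.map (CommRingCat.ofHom
      (algebraMap A₀ (Localization.Away (Ideal.Quotient.mk p f))))) = stratum p f := by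
  change Set.range (PrimeSpectrum.comap (algebraMap A₀ (Localization.Away (Ideal.Quotient.mk p f)))) = _
  rw [IsScalarTower.algebraMap_eq A₀ (A₀ ⧸ p), comap_comp, Set.range_comp,
    localization_away_comap_range _ (Ideal.Quotient.mk p f), ← Ideal.Quotient.algebraMap_eq]
  ext x
  constructor
  · rintro ⟨y, hy, rfl⟩
    refine ⟨?_, hy⟩
    intro a ha
    show algebraMap A₀ (A₀ ⧸ p) a ∈ y.asIdeal
    rw [Ideal.Quotient.algebraMap_eq, Ideal.Quotient.eq_zero_iff_mem.mpr ha]
    exact zero_mem _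
  · rintro ⟨hxp, hxf⟩
    have hx : x ∈ zeroLocus (RingHom.ker (Ideal.Quotient.mk p) : Set A₀) := by
      rw [Ideal.mk_ker]; exact hxp
    rw [← range_comap_of_surjective _ (Ideal.Quotient.mk p) Ideal.Quotient.mk_surjective] at hx
    obtain ⟨y, rfl⟩ := hx
    exact ⟨y, hxf, rfl⟩

/-- The quotient of two nested submodules after base change is projective as soon as both quotients
of the module are. -/
theorem projective_piece {A₀ T M : Type u} [CommRing A₀] [CommRing T] [Algebra A₀ T] [AddCommGroup M]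
    [Module A₀ M] (P Q : Submodule A₀ M) (hQP : Q ≤ P)
    (hP : Module.Projective T (T ⊗[A₀] (M ⧸ P))) (hQ : Module.Projective T (T ⊗[A₀] (M ⧸ Q))) :
    Module.Projective T ↥(Submodule.map (LinearMap.range (LinearMap.baseChange T Q.subtype)).mkQ
      (LinearMap.range (LinearMap.baseChange T P.subtype))) := by
  have hker : ∀ S : Submodule A₀ M, LinearMap.ker (LinearMap.baseChange T S.mkQ) =
      LinearMap.range (LinearMap.baseChange T S.subtype) := fun S => by
    ext x
    exact lTensor_exact T (LinearMap.exact_subtype_mkQ S) S.mkQ_surjective x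
  let e : ∀ S : Submodule A₀ M, ((T ⊗[A₀] M) ⧸ LinearMap.range (LinearMap.baseChange T S.subtype)) ≃ₗ[T]
      T ⊗[A₀] (M ⧸ S) := fun S =>
    (Submodule.quotEquivOfEq _ _ (hker S).symm).trans (LinearMap.quotKerEquivOfSurjective _
      (LinearMap.lTensor_surjective T S.mkQ_surjective))
  haveI := Module.Projective.of_equiv (e P).symm
  haveI := Module.Projective.of_equiv (e Q).symm
  have hle : LinearMap.range (LinearMap.baseChange T Q.subtype) ≤
      LinearMap.range (LinearMap.baseChange T P.subtype) := by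
    rw [← Submodule.subtype_comp_inclusion Q P hQP, LinearMap.baseChange_comp]
    exact LinearMap.range_comp_le_range _ _
  let q := Submodule.factor hle
  obtain ⟨s, hs⟩ := Module.projective_lifting_property q LinearMap.id (Submodule.factor_surjective hle)
  have hq : ∀ z, q z = 0 ↔ z ∈ Submodule.map (LinearMap.range (LinearMap.baseChange T Q.subtype)).mkQ
      (LinearMap.range (LinearMap.baseChange T P.subtype)) := fun z => by
    obtain ⟨z, rfl⟩ := Submodule.mkQ_surjective _ z
    rw [← Submodule.mem_comap, Submodule.comap_map_mkQ, sup_eq_right.mpr hle]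
    exact Submodule.Quotient.mk_eq_zero _
  refine Module.Projective.of_split (Submodule.subtype _)
    (LinearMap.codRestrict _ (LinearMap.id - s ∘ₗ q) fun z => (hq _).mp ?_)
    (LinearMap.ext fun z => Subtype.ext ?_)
  · simp only [LinearMap.sub_apply, LinearMap.comp_apply, LinearMap.id_apply, map_sub]
    rw [show q (s (q z)) = q z from LinearMap.congr_fun hs (q z), sub_self]
  · show (z : (T ⊗[A₀] M) ⧸ _) - s (q z) = _
    rw [(hq z).mpr z.2, map_zero, sub_zero]
    rfl

/-- Generic projectivity on `V(p)` of all `M / Jᵏ M`. -/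
theorem exists_good {A₀ B₀ : Type u} [CommRing A₀] [IsNoetherianRing A₀] [CommRing B₀] [Algebra A₀ B₀]
    [Algebra.FiniteType A₀ B₀] (J : Ideal B₀) (M : Type u) [AddCommGroup M] [Module B₀ M] [Module A₀ M]
    [IsScalarTower A₀ B₀ M] [Module.Finite B₀ M] (p : Ideal A₀) [p.IsPrime] :
    ∃ g : A₀, g ∉ p ∧ ∀ (T : Type u) [CommRing T] [Algebra A₀ T] [Algebra (A₀ ⧸ p) T]
      [IsScalarTower A₀ (A₀ ⧸ p) T], IsUnit (algebraMap A₀ T g) →
      ∀ k, Module.Projective T (T ⊗[A₀] (M ⧸ (J ^ k • ⊤ : Submodule B₀ M).restrictScalars A₀)) := by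
  let P := p.map (algebraMap A₀ B₀)
  let M₁ := M ⧸ (P • ⊤ : Submodule B₀ M)
  letI : Module (B₀ ⧸ P) M₁ := inferInstance
  letI : Algebra (A₀ ⧸ p) (B₀ ⧸ P) := inferInstance
  letI : Module (A₀ ⧸ p) M₁ := Module.compHom M₁ (algebraMap (A₀ ⧸ p) (B₀ ⧸ P))
  haveI : IsScalarTower (A₀ ⧸ p) (B₀ ⧸ P) M₁ := .of_algebraMap_smul fun _ _ => rfl
  haveI : IsScalarTower A₀ (A₀ ⧸ p) M₁ := .of_algebraMap_smul fun a x => by
    show algebraMap (A₀ ⧸ p) (B₀ ⧸ P) (Ideal.Quotient.mk p a) • x = a • x
    rw [← IsScalarTower.algebraMap_smul B₀ a x, ← IsScalarTower.algebraMap_smul (B₀ ⧸ P) (algebraMap A₀ B₀ a) x]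
    rfl
  haveI : Module.Finite B₀ M₁ := Module.Finite.of_surjective _ (Submodule.mkQ_surjective _)
  haveI : Module.Finite (B₀ ⧸ P) M₁ := Module.Finite.of_restrictScalars_finite B₀ _ _
  haveI : Algebra.FiniteType (A₀ ⧸ p) (B₀ ⧸ P) := Algebra.FiniteType.of_restrictScalars_finiteType A₀ _ _
  let J₁ := J.map (Ideal.Quotient.mk P)
  obtain ⟨g, hg, hproj⟩ := GrFlat5.exists_projective_quot (R := A₀ ⧸ p) (B := B₀ ⧸ P) (M := M₁) J₁
  obtain ⟨g, rfl⟩ := Ideal.Quotient.mk_surjective g
  refine ⟨g, fun h => hg (Ideal.Quotient.eq_zero_iff_mem.mpr h), fun T _ _ _ _ hu k => ?_⟩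
  let X := M ⧸ (J ^ k • ⊤ : Submodule B₀ M).restrictScalars A₀
  let Y := M₁ ⧸ (J₁ ^ k • ⊤ : Submodule (B₀ ⧸ P) M₁)
  haveI := hproj T (by rwa [← Ideal.Quotient.algebraMap_eq, ← IsScalarTower.algebraMap_apply]) k
  let π₀ : M →ₗ[A₀] Y :=
    ((Submodule.mkQ (J₁ ^ k • ⊤ : Submodule (B₀ ⧸ P) M₁)).restrictScalars A₀).comp
      ((Submodule.mkQ (P • ⊤ : Submodule B₀ M)).restrictScalars A₀)
  have hJ : (J₁ ^ k • ⊤ : Submodule (B₀ ⧸ P) M₁).restrictScalars B₀ =
      Submodule.map (Submodule.mkQ (P • ⊤ : Submodule B₀ M)) (J ^ k • ⊤) := by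
    rw [show J₁ ^ k = (J ^ k).map (algebraMap B₀ (B₀ ⧸ P)) from (Ideal.map_pow _ _ _).symm,
      Ideal.smul_restrictScalars, Submodule.restrictScalars_top, Submodule.map_smul'',
      Submodule.map_top, Submodule.range_mkQ]
  have hker : ∀ m, π₀ m = 0 ↔ m ∈ (P • ⊤ : Submodule B₀ M) ⊔ J ^ k • ⊤ := fun m => by
    rw [← Submodule.comap_map_mkQ, Submodule.mem_comap, ← hJ]
    exact Submodule.Quotient.mk_eq_zero _
  let π : X →ₗ[A₀] Y := Submodule.liftQ _ π₀ fun m hm => (hker m).mpr (Submodule.mem_sup_right hm)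
  have hπ : Function.Surjective π := fun y => by
    obtain ⟨y, rfl⟩ := Submodule.mkQ_surjective _ y
    obtain ⟨y, rfl⟩ := Submodule.mkQ_surjective _ y
    exact ⟨Submodule.Quotient.mk y, rfl⟩
  have hπker : LinearMap.ker π = p • ⊤ := by
    have hP : (P • ⊤ : Submodule B₀ M).restrictScalars A₀ = p • (⊤ : Submodule A₀ M) := by
      rw [Ideal.smul_restrictScalars, Submodule.restrictScalars_top]
    show LinearMap.ker (Submodule.liftQ _ π₀ _) = _
    rw [Submodule.ker_liftQ]
    have h0 : LinearMap.ker π₀ = p • (⊤ : Submodule A₀ M) ⊔ (J ^ k • ⊤ : Submodule B₀ M).restrictScalars A₀ := by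
      rw [← hP, ← Submodule.restrictScalars_sup]
      ext m
      exact hker m
    rw [h0, Submodule.map_sup, Submodule.mkQ_map_self, sup_bot_eq, Submodule.map_smul'', Submodule.map_top,
      Submodule.range_mkQ]
  have hbc : IsBaseChange (A₀ ⧸ p) π := by
    let e₁ : ((A₀ ⧸ p) ⊗[A₀] X) ≃ₗ[A₀] Y :=
      (TensorProduct.quotTensorEquivQuotSMul X p).trans
        ((Submodule.quotEquivOfEq _ _ hπker.symm).trans (π.quotKerEquivOfSurjective hπ))
    have he₁ : ∀ x, e₁ (1 ⊗ₜ[A₀] x) = π x := fun x => by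
      show (π.quotKerEquivOfSurjective hπ) ((Submodule.quotEquivOfEq _ _ hπker.symm)
        ((TensorProduct.quotTensorEquivQuotSMul X p) ((Ideal.Quotient.mk p 1) ⊗ₜ[A₀] x))) = π x
      rw [TensorProduct.quotTensorEquivQuotSMul_mk_tmul, one_smul]
      rfl
    exact IsBaseChange.of_equiv
      ⟨⟨⟨e₁, map_add e₁⟩, fun c x => by
        obtain ⟨a, rfl⟩ := Ideal.Quotient.mk_surjective c
        show e₁ (algebraMap A₀ (A₀ ⧸ p) a • x) = algebraMap A₀ (A₀ ⧸ p) a • e₁ x
        rw [IsScalarTower.algebraMap_smul, IsScalarTower.algebraMap_smul, map_smul]⟩,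
        e₁.invFun, e₁.left_inv, e₁.right_inv⟩ he₁
  exact Module.Projective.of_equiv (hbc.comp (TensorProduct.isBaseChange (A₀ ⧸ p) Y T)).equiv.symm

theorem flat_piece {A₀ B₀ : Type u} [CommRing A₀] [CommRing B₀] [Algebra A₀ B₀] (J : Ideal B₀)
    (M : Type u) [AddCommGroup M] [Module B₀ M] [Module A₀ M] [IsScalarTower A₀ B₀ M]
    (p : Ideal A₀) (g f : A₀) (hgf : g ∣ f)
    (hgood : ∀ (T : Type u) [CommRing T] [Algebra A₀ T] [Algebra (A₀ ⧸ p) T]
      [IsScalarTower A₀ (A₀ ⧸ p) T], IsUnit (algebraMap A₀ T g) →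
      ∀ k, Module.Projective T (T ⊗[A₀] (M ⧸ (J ^ k • ⊤ : Submodule B₀ M).restrictScalars A₀)))
    (n : ℕ) : Module.Flat (Localization.Away (Ideal.Quotient.mk p f))
      ↥(Submodule.map
          (LinearMap.range (LinearMap.baseChange (Localization.Away (Ideal.Quotient.mk p f))
            ((J ^ (n + 1) • (⊤ : Submodule B₀ M)).restrictScalars A₀).subtype)).mkQ
          (LinearMap.range (LinearMap.baseChange (Localization.Away (Ideal.Quotient.mk p f))
            ((J ^ n • (⊤ : Submodule B₀ M)).restrictScalars A₀).subtype))) := by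
  have hu : IsUnit (algebraMap A₀ (Localization.Away (Ideal.Quotient.mk p f)) g) := by
    rw [IsScalarTower.algebraMap_apply A₀ (A₀ ⧸ p), Ideal.Quotient.algebraMap_eq]
    exact isUnit_of_dvd_unit (map_dvd _ (map_dvd _ hgf))
      (IsLocalization.Away.algebraMap_isUnit (Ideal.Quotient.mk p f))
  haveI := projective_piece (T := Localization.Away (Ideal.Quotient.mk p f))
    ((J ^ n • (⊤ : Submodule B₀ M)).restrictScalars A₀)
    ((J ^ (n + 1) • (⊤ : Submodule B₀ M)).restrictScalars A₀)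
    (Submodule.restrictScalars_mono _ (Submodule.smul_mono_left (Ideal.pow_le_pow_right n.le_succ)))
    (hgood _ hu n) (hgood _ hu (n + 1))
  infer_instance

theorem exists_strata {A₀ B₀ : Type u} [CommRing A₀] [IsNoetherianRing A₀] [CommRing B₀] [Algebra A₀ B₀]
    [Algebra.FiniteType A₀ B₀] (J : Ideal B₀) (M : Type u) [AddCommGroup M] [Module B₀ M] [Module A₀ M]
    [IsScalarTower A₀ B₀ M] [Module.Finite B₀ M] (I : Ideal A₀) :
    ∃ (m : ℕ) (p : Fin m → Ideal A₀) (f : Fin m → A₀),
      (∀ i, (p i).IsPrime ∧ ∀ n : ℕ, Module.Flat (Localization.Away (Ideal.Quotient.mk (p i) (f i)))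
        ↥(Submodule.map
            (LinearMap.range (LinearMap.baseChange (Localization.Away (Ideal.Quotient.mk (p i) (f i)))
              ((J ^ (n + 1) • (⊤ : Submodule B₀ M)).restrictScalars A₀).subtype)).mkQ
            (LinearMap.range (LinearMap.baseChange (Localization.Away (Ideal.Quotient.mk (p i) (f i)))
              ((J ^ n • (⊤ : Submodule B₀ M)).restrictScalars A₀).subtype)))) ∧
      (⋃ i, stratum (p i) (f i)) = zeroLocus (I : Set A₀) ∧ IsLayered p f := by
  induction I using IsNoetherian.induction with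
  | _ I ih =>
    by_cases hI : I = ⊤
    · refine ⟨0, Fin.elim0, Fin.elim0, fun i => i.elim0, ?_, fun i => i.elim0⟩
      rw [Set.iUnion_of_empty, hI, Submodule.top_coe, zeroLocus_univ]
    obtain ⟨p₀, hp₀⟩ := Ideal.nonempty_minimalPrimes hI
    haveI : p₀.IsPrime := hp₀.1.1
    obtain ⟨g, hg, hgood⟩ := exists_good J M p₀
    have hfin : (Ideal.minimalPrimes I).Finite := Ideal.finite_minimalPrimes_of_isNoetherianRing A₀ I
    have hex : ∀ q ∈ hfin.toFinset.erase p₀, ∃ a ∈ q, a ∉ p₀ := fun q hq => by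
      rw [Finset.mem_erase, Set.Finite.mem_toFinset] at hq
      exact SetLike.not_le_iff_exists.mp fun hle => hq.1 (le_antisymm hle (hp₀.2 hq.2.1 hle))
    choose! a ha ha' using hex
    let f₀ := g * ∏ q ∈ hfin.toFinset.erase p₀, a q
    have hf₀ : f₀ ∉ p₀ := fun h => by
      rcases ‹p₀.IsPrime›.mem_or_mem h with h | h
      · exact hg h
      · obtain ⟨q, hq, hmem⟩ := (‹p₀.IsPrime›.prod_mem_iff).mp h
        exact ha' q hq hmem
    have hS : ∀ x : PrimeSpectrum A₀, x ∈ stratum p₀ f₀ ↔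
        x ∈ zeroLocus (I : Set A₀) ∧ f₀ ∉ x.asIdeal := fun x => by
      refine ⟨fun h => ⟨fun y hy => h.1 (hp₀.1.2 hy), h.2⟩, fun h => ⟨?_, h.2⟩⟩
      obtain ⟨q, hq, hqx⟩ := Ideal.exists_minimalPrimes_le (show I ≤ x.asIdeal from h.1)
      by_cases hqp : q = p₀
      · exact hqp ▸ hqx
      · exfalso
        have hmem : q ∈ hfin.toFinset.erase p₀ :=
          Finset.mem_erase.mpr ⟨hqp, hfin.mem_toFinset.mpr hq⟩
        exact h.2 (x.asIdeal.mul_mem_left g (x.isPrime.prod_mem_iff.mpr ⟨q, hmem, hqx (ha q hmem)⟩))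
    have hlt : I < I ⊔ Ideal.span {f₀} := lt_of_le_of_ne le_sup_left fun h => hf₀
      (hp₀.1.2 (h.symm ▸ Ideal.mem_sup_right (Ideal.mem_span_singleton_self f₀)))
    obtain ⟨m, p, f, hp, hunion, hlay⟩ := ih _ hlt
    have hZ : ∀ x, x ∈ ⋃ i, stratum (p i) (f i) ↔ x ∈ zeroLocus (I : Set A₀) ∧ f₀ ∈ x.asIdeal := fun x => by
      rw [hunion]
      rw [PrimeSpectrum.zeroLocus_sup, PrimeSpectrum.zeroLocus_span, Set.mem_inter_iff]
      exact and_congr_right fun _ => Set.singleton_subset_iff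
    refine ⟨m + 1, Fin.cons p₀ p, Fin.cons f₀ f, Fin.cases ?zero (fun i => hp i), ?union, ?layer⟩
    case zero => exact ⟨(inferInstance : p₀.IsPrime), flat_piece J M p₀ g f₀ (dvd_mul_right g _) hgood⟩
    case union =>
      ext x
      rw [Set.mem_iUnion, Fin.exists_fin_succ]
      simp only [Fin.cons_zero, Fin.cons_succ, ← Set.mem_iUnion, hS, hZ]
      constructor
      · rintro (h | h) <;> exact h.1
      · intro h
        by_cases hx : f₀ ∈ x.asIdeal
        · exact Or.inr ⟨h, hx⟩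
        · exact Or.inl ⟨h, hx⟩
    case layer =>
      intro i j hij
      induction j using Fin.cases with
      | zero => exact absurd hij (Fin.not_lt_zero i)
      | succ j =>
        induction i using Fin.cases with
        | zero =>
          simp only [Fin.cons_zero, Fin.cons_succ]
          exact Set.disjoint_left.mpr fun x hx h0 => h0 ((hZ x).mp (Set.mem_iUnion.mpr ⟨j, hx⟩)).2
        | succ i =>
          simp only [Fin.cons_succ]
          exact hlay i j (Fin.succ_lt_succ_iff.mp hij)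

end

open AlgebraicGeometry CategoryTheory in
/-- Suppose A₀ is a Noetherian ring and B₀ is a finitely generated A₀-algebra; fix an ideal J₀ ⊆ B₀ and
a finite B₀-module M₀. Then Spec A₀ admits finitely many affine subschemes S_1, …, S_m — presented
as immersions Spec A_i → Spec A₀ — whose underlying sets are mutually disjoint with union all of
Spec A₀, such that each S_i is open in S_i ∪ S_{i+1} ∪ … ∪ S_m, and such that for each i, setting
N_i = A_i ⊗_{A₀} M₀, the graded module associated to the J₀-adic filtration on N_i is A_i-flat.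
Concretely, for every n the A_i-module J₀ⁿN_i / J₀ⁿ⁺¹N_i is flat, where this quotient is encoded as
the image of J₀ⁿN_i inside N_i / J₀ⁿ⁺¹N_i, and J₀ⁿN_i denotes the image in N_i of A_i ⊗_{A₀} J₀ⁿM₀. -/
theorem result {A₀ : Type u} [CommRing A₀] [IsNoetherianRing A₀]
    {B₀ : Type u} [CommRing B₀] [Algebra A₀ B₀] [Algebra.FiniteType A₀ B₀] (J₀ : Ideal B₀)
    (M₀ : Type u) [AddCommGroup M₀] [Module B₀ M₀] [Module A₀ M₀] [IsScalarTower A₀ B₀ M₀]
    [Module.Finite B₀ M₀] :
    ∃ (m : ℕ) (A : Fin m → Type u) (_ : ∀ i, CommRing (A i)) (_ : ∀ i, Algebra A₀ (A i)),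
      (∀ i, IsImmersion (Spec.map (CommRingCat.ofHom (algebraMap A₀ (A i))))) ∧
      (∀ i j, i ≠ j → Disjoint (Set.range (Spec.map (CommRingCat.ofHom (algebraMap A₀ (A i)))))
        (Set.range (Spec.map (CommRingCat.ofHom (algebraMap A₀ (A j)))))) ∧
      (⋃ i, Set.range (Spec.map (CommRingCat.ofHom (algebraMap A₀ (A i)))) = Set.univ) ∧
      (∀ i, ∃ U : Set (Spec (CommRingCat.of A₀)), IsOpen U ∧
        U ∩ (⋃ j, ⋃ (_ : i ≤ j), Set.range (Spec.map (CommRingCat.ofHom (algebraMap A₀ (A j))))) =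
          Set.range (Spec.map (CommRingCat.ofHom (algebraMap A₀ (A i))))) ∧
      ∀ i (n : ℕ), Module.Flat (A i)
        ↥(Submodule.map
            (LinearMap.range (LinearMap.baseChange (A i)
              ((J₀ ^ (n + 1) • (⊤ : Submodule B₀ M₀)).restrictScalars A₀).subtype)).mkQ
            (LinearMap.range (LinearMap.baseChange (A i)
              ((J₀ ^ n • (⊤ : Submodule B₀ M₀)).restrictScalars A₀).subtype))) := by
  obtain ⟨m, p, f, hp, hunion, hdisj⟩ := exists_strata J₀ M₀ (⊥ : Ideal A₀)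
  haveI : ∀ i, (p i).IsPrime := fun i => (hp i).1
  refine ⟨m, fun i => Localization.Away (Ideal.Quotient.mk (p i) (f i)), fun i => inferInstance,
    fun i => inferInstance, fun i => ?_, fun i j hij => ?_, ?_, fun i => ?_, fun i n => ?_⟩
  · rw [IsScalarTower.algebraMap_eq A₀ (A₀ ⧸ p i), CommRingCat.ofHom_comp, Spec.map_comp]
    haveI : IsClosedImmersion (Spec.map (CommRingCat.ofHom (algebraMap A₀ (A₀ ⧸ p i)))) :=
      IsClosedImmersion.spec_of_surjective _ Ideal.Quotient.mk_surjective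
    haveI : IsOpenImmersion (Spec.map (CommRingCat.ofHom
        (algebraMap (A₀ ⧸ p i) (Localization.Away (Ideal.Quotient.mk (p i) (f i)))))) :=
      IsOpenImmersion.of_isLocalization (Ideal.Quotient.mk (p i) (f i))
    infer_instance
  · rw [range_stratum, range_stratum]
    exact hdisj.disjoint hij
  · refine Eq.trans ?_ (hunion.trans PrimeSpectrum.zeroLocus_bot)
    exact Set.iUnion_congr fun i => range_stratum (p i) (f i)
  · refine ⟨((PrimeSpectrum.basicOpen (f i) : TopologicalSpace.Opens (PrimeSpectrum A₀)) :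
      Set (PrimeSpectrum A₀)), (PrimeSpectrum.basicOpen (f i)).isOpen, ?_⟩
    refine Eq.trans ?_ ((hdisj.inter i).trans (range_stratum (p i) (f i)).symm)
    exact congrArg _ (Set.iUnion_congr fun j => Set.iUnion_congr fun _ => range_stratum (p j) (f j))
  · exact (hp i).2 n

end Groth.Agent.S12134
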