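import Groth.Statements.S12145
import Groth.Agent.Proj16.RLPsi

set_option autoImplicit false
set_option backward.isDefEq.respectTransparency false
set_option backward.isDefEq.respectTransparency.types false
universe u
open CategoryTheory CategoryTheory.Limits AlgebraicGeometry TopologicalSpace Opposite
open scoped HomogeneousIdeal
noncomputable section
open EGA2

namespace Groth.Agent.S12145

/-- Let q : X → Y be a morphism with Y affine, L an invertible O_X-module, 𝒮L = ⊕_{n≥0} L^{⊗n} its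
graded symmetric algebra (whose Proj, presented with its charts, is identified with X by its
structure morphism pL), 𝒮 a quasi-coherent positively graded O_Y-algebra with S = Γ(Y, 𝒮), ψ : q^*𝒮
→ 𝒮L a graded homomorphism given as a graded q-morphism u = ψ♭ : 𝒮 → q_*𝒮L, P = Proj(𝒮), and r =
r_{L,ψ} : G(ψ) → P the associated morphism on its open of definition G(ψ) ⊆ Proj(𝒮L). Then r is
everywhere defined, i.e. G(ψ) = X, if and only if for every x ∈ X there are an integer n > 0 and s ∈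
S_n such that the section t = ψ♭(s) of L^{⊗n} does not vanish at x (x has an affine neighbourhood V
over which 𝒮L(V)_n = Γ(V, L^{⊗n}) lies in the ideal generated by t|V). -/
theorem result {Y X P PL : Scheme.{u}} (q : X ⟶ Y)
    (L : X.Modules) (hL : PicF.IsInvertible L) (hLq : Coh.IsQCoh L)
    (𝒮 : RelProj.QCGrAlg Y) (𝒮L : RelProj.QCGrAlg X) (j : L ⟶ 𝒮L.toModule) (hj : RelProj.IsGrSymAlg L 𝒮L j)
    (u : RelProj.QGrHom q 𝒮 𝒮L)
    (p : P ⟶ Y) (chart : ∀ (U : Y.Opens) (hU : IsAffineOpen U), (((p ⁻¹ᵁ U : P.Opens) : Scheme.{u}) ≅ Proj (𝒮.deg U hU)))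
    (hP : RelProj.IsRelProj 𝒮 p chart)
    (pL : PL ⟶ X) (chartL : ∀ (U : X.Opens) (hU : IsAffineOpen U), (((pL ⁻¹ᵁ U : PL.Opens) : Scheme.{u}) ≅ Proj (𝒮L.deg U hU)))
    (hPL : RelProj.IsRelProj 𝒮L pL chartL)
    (hY : IsAffineOpen (⊤ : Y.Opens)) :
    RelProj.domQ u pL chartL = ⊤ ↔
      ∀ x : X, ∃ (n : ℕ) (_ : 0 < n) (s : 𝒮.presheaf.obj (op ⊤)) (_ : s ∈ 𝒮.deg ⊤ hY n)
        (V : X.Opens) (hV : IsAffineOpen V), x ∈ V ∧
          ((𝒮L.deg V hV n : AddSubgroup (𝒮L.presheaf.obj (op V))) : Set (𝒮L.presheaf.obj (op V))) ⊆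
            (Ideal.span {(u.appLE ⊤ V (le_top.trans (Scheme.Hom.preimage_top q).ge)).hom s} : Set (𝒮L.presheaf.obj (op V))) := by
  constructor
  · intro htop x
    haveI : IsIso pL := SymX.isIso_relProj hL hLq hj pL chartL hPL
    have hx' : (CategoryTheory.inv pL) x ∈ RelProj.domQ u pL chartL := htop ▸ Opens.mem_top _
    have hpx : pL ((CategoryTheory.inv pL) x) = x := by
      rw [← Scheme.Hom.comp_apply, IsIso.inv_hom_id]; rfl
    obtain ⟨W, hW, hle, z, n, s, hn, hs, hz, hzs⟩ :=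
      Proj16.exists_mem_basicOpen_of_mem_domQ (g := q) u hY hPL hx' (Set.mem_univ _)
    obtain ⟨V, hV, i, hxV, hsub⟩ := Proj16.exists_affine_deg_le hL hLq hj hPL hW hn
      ((u.gradedAt ⊤ hY W hW hle).2 hs) z hzs
    rw [hz, hpx] at hxV
    refine ⟨n, hn, s, hs, V, hV, hxV, hsub.trans (le_of_eq ?_)⟩
    have e : (u.appLE ⊤ V (le_top.trans (Scheme.Hom.preimage_top q).ge)).hom s =
        𝒮L.res hW hV i (u.gradedAt ⊤ hY W hW hle s) := by
      have := GradedRingHom.congr_fun (Proj16.gradedAt_res u hY hY le_rfl hW hV i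
        hle (le_top.trans (Scheme.Hom.preimage_top q).ge)) s
      refine Eq.trans ?_ this.symm
      show _ = (u.appLE ⊤ V _).hom (𝒮.presheaf.map (homOfLE (le_refl (⊤ : Y.Opens))).op s)
      rw [show (homOfLE (le_refl (⊤ : Y.Opens))).op = 𝟙 _ from rfl, 𝒮.presheaf.map_id]
      rfl
    rw [e]
    rfl
  · intro h
    refine top_unique fun y _ => ?_
    obtain ⟨n, hn, s, hs, V, hV, hxV, hsub⟩ := h (pL y)
    obtain ⟨z, hz⟩ := (Proj16.opensRange_emb (p := pL) (chart := chartL) V hV).ge hxV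
    have hzf : z ∈ Proj.basicOpen (𝒮L.deg V hV)
        (u.gradedAt ⊤ hY V hV (le_top.trans (Scheme.Hom.preimage_top q).ge) s) :=
      (Proj16.basicOpen_eq_top_of_deg_le hLq hj hV hsub).ge (Opens.mem_top z)
    exact hz ▸ Proj16.emb_mem_domQ u hY hV _ hn s hs z hzf

end Groth.Agent.S12145
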