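import Groth.Statements.S12146
import Groth.Agent.Proj16.RLPsi
import Groth.Agent.GrModX.MapProps

set_option autoImplicit false
set_option backward.isDefEq.respectTransparency false
set_option backward.isDefEq.respectTransparency.types false
universe u
open CategoryTheory CategoryTheory.Limits AlgebraicGeometry TopologicalSpace Opposite
open scoped HomogeneousIdeal
noncomputable section
open EGA2

namespace Groth.Agent.S12146

lemma isNilpotent_iff {A σ : Type u} [CommRing A] [SetLike σ A] [AddSubgroupClass σ A] {𝒜 : ℕ → σ} [GradedRing 𝒜]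
    {d : ℕ} (hd : 0 < d) {f : A} (hf : f ∈ 𝒜 d) : IsNilpotent f ↔ ∀ y : Proj 𝒜, y ∉ Proj.basicOpen 𝒜 f := by
  refine ⟨fun ⟨k, hk⟩ y hy => hy (y.isPrime.mem_of_pow_mem k (hk ▸ zero_mem _)), fun h => ?_⟩
  rw [← mem_nilradical, nilradical_eq_sInf, Submodule.mem_sInf]
  intro P hP
  by_contra hfP
  have hle := Ideal.toIdeal_homogeneousCore_le 𝒜 P
  exact h ⟨Ideal.homogeneousCore 𝒜 P, Ideal.IsPrime.homogeneousCore hP,
    fun hirr => hfP (hle (hirr (HomogeneousIdeal.mem_irrelevant_of_mem _ hd hf)))⟩ fun hm => hfP (hle hm)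

/-- Let q : X → Y be a morphism with Y affine, L an invertible O_X-module, 𝒮L = ⊕_{n≥0} L^{⊗n} its
graded symmetric algebra (whose Proj, presented with its charts, is identified with X by its
structure morphism pL), 𝒮 a quasi-coherent positively graded O_Y-algebra with S = Γ(Y, 𝒮), ψ : q^*𝒮
→ 𝒮L a graded homomorphism given as a graded q-morphism u = ψ♭ : 𝒮 → q_*𝒮L, P = Proj(𝒮), and r =
r_{L,ψ} : G(ψ) → P the associated morphism on its open of definition G(ψ) ⊆ Proj(𝒮L). Then r is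
dominant if and only if for every n > 0, every s ∈ S_n such that ψ♭(s) ∈ Γ(X, L^{⊗n}) is locally
nilpotent (as a section of the algebra 𝒮L: each point of X has an affine neighbourhood V with
ψ♭(s)|V nilpotent in 𝒮L(V)) is nilpotent. -/
theorem result {Y X P PL : Scheme.{u}} (q : X ⟶ Y)
    (L : X.Modules) (hL : PicF.IsInvertible L) (hLq : Coh.IsQCoh L)
    (𝒮 : RelProj.QCGrAlg Y) (𝒮L : RelProj.QCGrAlg X) (j : L ⟶ 𝒮L.toModule) (hj : RelProj.IsGrSymAlg L 𝒮L j)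
    (u : RelProj.QGrHom q 𝒮 𝒮L)
    (p : P ⟶ Y) (chart : ∀ (U : Y.Opens) (hU : IsAffineOpen U), (((p ⁻¹ᵁ U : P.Opens) : Scheme.{u}) ≅ Proj (𝒮.deg U hU)))
    (hP : RelProj.IsRelProj 𝒮 p chart)
    (pL : PL ⟶ X) (chartL : ∀ (U : X.Opens) (hU : IsAffineOpen U), (((pL ⁻¹ᵁ U : PL.Opens) : Scheme.{u}) ≅ Proj (𝒮L.deg U hU)))
    (hPL : RelProj.IsRelProj 𝒮L pL chartL)
    (r : ((RelProj.domQ u pL chartL : PL.Opens) : Scheme.{u}) ⟶ P)
    (hr : RelProj.IsProjQMapOn u p chart pL chartL (RelProj.domQ u pL chartL) r)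
    (hY : IsAffineOpen (⊤ : Y.Opens)) :
    IsDominant r ↔
      ∀ (n : ℕ), 0 < n → ∀ s ∈ 𝒮.deg ⊤ hY n,
        (∀ x : X, ∃ (V : X.Opens) (_ : IsAffineOpen V), x ∈ V ∧ IsNilpotent ((u.appLE ⊤ V (le_top.trans (Scheme.Hom.preimage_top q).ge)).hom s)) →
          IsNilpotent s := by
  have hq : ∀ V : X.Opens, V ≤ q ⁻¹ᵁ ⊤ := fun V => le_top.trans (Scheme.Hom.preimage_top q).ge
  constructor
  · intro hdom n hn s hs hloc
    refine (isNilpotent_iff hn hs).mpr fun y hy => ?_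
    obtain ⟨_, hxo, x, rfl⟩ := mem_closure_iff.mp (hdom.denseRange (RelProj.emb p chart ⊤ hY y))
      (((RelProj.emb p chart ⊤ hY) ''ᵁ Proj.basicOpen (𝒮.deg ⊤ hY) s : P.Opens) : Set P)
      (Opens.isOpen _) ⟨y, hy, rfl⟩
    obtain ⟨V, hV, hxV, hnil⟩ := hloc (pL x.1)
    obtain ⟨z, hz⟩ := (Proj16.opensRange_emb (p := pL) (chart := chartL) V hV).ge hxV
    have hzs := (Proj16.apply_mem_image_iff u hY hV (hq V) hn s hs hP hPL r hr x z hz).mp hxo
    exact (isNilpotent_iff hn ((u.gradedAt ⊤ hY V hV (hq V)).2 hs)).mp hnil z hzs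
  · intro h
    refine ⟨fun y => mem_closure_iff.mpr fun o ho hyo => ?_⟩
    obtain ⟨w, hw⟩ : y ∈ (RelProj.emb p chart ⊤ hY).opensRange :=
      (Proj16.opensRange_emb (p := p) (chart := chart) ⊤ hY).ge (Opens.mem_top (p y))
    subst hw
    obtain ⟨f, d, hd, hf, hwf, hfo⟩ := GrModX.exists_basicOpen_le (𝒮.deg ⊤ hY)
      (V := RelProj.emb p chart ⊤ hY ⁻¹ᵁ ⟨o, ho⟩) (y := w) hyo
    have hne : ¬ IsNilpotent f := fun hn => (isNilpotent_iff hd hf).mp hn w hwf
    obtain ⟨x₀, hx₀⟩ := not_forall.mp fun hall => hne (h d hd f hf hall)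
    push Not at hx₀
    obtain ⟨_, ⟨V, hV, rfl⟩, hxV, -⟩ := X.isBasis_affineOpens.exists_subset_of_mem_open
      (Set.mem_univ x₀) isOpen_univ
    obtain ⟨z, hz⟩ := not_forall.mp fun hall => hx₀ V hV hxV
      ((isNilpotent_iff hd ((u.gradedAt ⊤ hY V hV (hq V)).2 hf)).mpr hall)
    rw [not_not] at hz
    have hmem := Proj16.emb_mem_domQ (p' := pL) (chart' := chartL) u hY hV (hq V) hd f hf z hz
    obtain ⟨y', hy', hyy⟩ := (Proj16.apply_mem_image_iff u hY hV (hq V) hd f hf hP hPL r hr ⟨_, hmem⟩ z rfl).mpr hz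
    exact ⟨_, hfo hy', ⟨_, hmem⟩, hyy.symm⟩

end Groth.Agent.S12146
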