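import Groth.Statements.S12148
import Groth.Agent.Proj16.RLPsiComp

set_option autoImplicit false
set_option backward.isDefEq.respectTransparency false
set_option backward.isDefEq.respectTransparency.types false
universe u
open CategoryTheory CategoryTheory.Limits AlgebraicGeometry TopologicalSpace Opposite
open scoped HomogeneousIdeal
noncomputable section
open EGA2

namespace Groth.Agent.S12148

/-- Let q : X → Y be a morphism, L an invertible O_X-module with 𝒮L = ⊕ L^{⊗n} (whose Proj, with its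
charts, is X), v : 𝒯 → 𝒮 a graded homomorphism of quasi-coherent positively graded O_Y-algebras, ψ♭
= u : 𝒮 → q_*𝒮L a graded q-morphism and ψ'♭ = u' its composite with v; let r = r_{L,ψ} : G(ψ) →
Proj(𝒮) and r' = r_{L,ψ'} : G(ψ') → Proj(𝒯) be the associated morphisms. If v is (TN)-surjective
(there is n with v : 𝒯_k → 𝒮_k surjective for every k ≥ n, on sections over affine opens) and r' is
dominant, then r is dominant. -/
theorem result {Y X P PL P' : Scheme.{u}} (q : X ⟶ Y)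
    (L : X.Modules) (hL : PicF.IsInvertible L) (hLq : Coh.IsQCoh L)
    (𝒮 : RelProj.QCGrAlg Y) (𝒮L : RelProj.QCGrAlg X) (j : L ⟶ 𝒮L.toModule) (hj : RelProj.IsGrSymAlg L 𝒮L j)
    (u : RelProj.QGrHom q 𝒮 𝒮L)
    (p : P ⟶ Y) (chart : ∀ (U : Y.Opens) (hU : IsAffineOpen U), (((p ⁻¹ᵁ U : P.Opens) : Scheme.{u}) ≅ Proj (𝒮.deg U hU)))
    (hP : RelProj.IsRelProj 𝒮 p chart)
    (pL : PL ⟶ X) (chartL : ∀ (U : X.Opens) (hU : IsAffineOpen U), (((pL ⁻¹ᵁ U : PL.Opens) : Scheme.{u}) ≅ Proj (𝒮L.deg U hU)))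
    (hPL : RelProj.IsRelProj 𝒮L pL chartL)
    (r : ((RelProj.domQ u pL chartL : PL.Opens) : Scheme.{u}) ⟶ P)
    (hr : RelProj.IsProjQMapOn u p chart pL chartL (RelProj.domQ u pL chartL) r)
    (𝒯 : RelProj.QCGrAlg Y) (v : 𝒯.toQCAlg ⟶ 𝒮.toQCAlg) (hv : RelProj.IsGradedHom v)
    (u' : RelProj.QGrHom q 𝒯 𝒮L) (hu' : ∀ U : Y.Opens, u'.app U = v.hom.app (op U) ≫ u.app U)
    (p' : P' ⟶ Y) (chart' : ∀ (U : Y.Opens) (hU : IsAffineOpen U), (((p' ⁻¹ᵁ U : P'.Opens) : Scheme.{u}) ≅ Proj (𝒯.deg U hU)))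
    (hP' : RelProj.IsRelProj 𝒯 p' chart')
    (r' : ((RelProj.domQ u' pL chartL : PL.Opens) : Scheme.{u}) ⟶ P')
    (hr' : RelProj.IsProjQMapOn u' p' chart' pL chartL (RelProj.domQ u' pL chartL) r')
    (hTN : ∃ n : ℕ, ∀ k, n ≤ k → ∀ (U : Y.Opens) (hU : IsAffineOpen U), ∀ y ∈ 𝒮.deg U hU k,
      ∃ x ∈ 𝒯.deg U hU k, (v.hom.app (op U)).hom x = y) (hdom : IsDominant r') :
    IsDominant r := by
  obtain ⟨n, hn⟩ := hTN
  have hle := Proj16.domQ_comp_le (chartL := chartL) u v hv u' hu'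
  obtain ⟨π, hπ, -⟩ := (Proj16.existsUnique_projQMapOn (RelProj.QGrHom.ofHom v hv) hP' hP).1
  have hci : IsClosedImmersion π := Proj16.projQMapOn_of_charts v hv hP hP' π hπ @IsClosedImmersion
    fun U hU d f hd hf => IsClosedImmersion.spec_of_surjective _
      (Proj16.awayMap_surjective_of_ge _ hd hf n fun k hk => hn k hk U hU)
  obtain ⟨k, hk, hk'⟩ := Proj16.exists_comp u v hv u' hu' hP hPL r hr r' hr' π hπ hle
  have hι : Function.Surjective (RelProj.domQ (RelProj.QGrHom.ofHom v hv) p chart).ι := fun y =>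
    ⟨⟨y, (Proj16.domQ_eq_top v hv hP n hn).ge (Opens.mem_top y)⟩, rfl⟩
  haveI : IsDominant k := by
    refine ⟨?_⟩
    have hd : Dense (Set.range (π ∘ k)) := by
      have e : (π ∘ k : _ → P') = r' := funext fun x => congrArg (fun m : _ ⟶ P' => m x) hk'
      rw [e]; exact hdom.denseRange
    intro x
    rw [π.isClosedEmbedding.isEmbedding.isInducing.closure_eq_preimage_closure_image, Set.mem_preimage,
      ← Set.range_comp]
    exact hd _
  refine ⟨?_⟩
  refine Dense.mono ?_ (hι.denseRange.comp k.denseRange (Scheme.Hom.continuous _))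
  rintro _ ⟨x, rfl⟩
  exact ⟨PL.homOfLE hle x, (congrArg (fun m : _ ⟶ P => m x) hk).symm⟩

end Groth.Agent.S12148
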