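import Groth.Statements.S12149
import Groth.Agent.Proj16.RLPsiComp

set_option autoImplicit false
set_option backward.isDefEq.respectTransparency false
set_option backward.isDefEq.respectTransparency.types false
universe u
open CategoryTheory CategoryTheory.Limits AlgebraicGeometry TopologicalSpace Opposite
open scoped HomogeneousIdeal
noncomputable section
open EGA2

namespace Groth.Agent.S12149

/-- Let q : X → Y be a morphism, L an invertible O_X-module with 𝒮L = ⊕ L^{⊗n} (whose Proj, with its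
charts, is X), v : 𝒯 → 𝒮 a graded homomorphism of quasi-coherent positively graded O_Y-algebras, ψ♭
= u : 𝒮 → q_*𝒮L a graded q-morphism and ψ'♭ = u' its composite with v; let r = r_{L,ψ} : G(ψ) →
Proj(𝒮) and r' = r_{L,ψ'} : G(ψ') → Proj(𝒯) be the associated morphisms. If v is (TN)-injective
(there is n with v injective on 𝒯_k for every k ≥ n, on sections over affine opens) and r is
dominant, then r' is dominant. -/
theorem result {Y X P PL P' : Scheme.{u}} (q : X ⟶ Y)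
    (L : X.Modules) (hL : PicF.IsInvertible L) (hLq : Coh.IsQCoh L)
    (𝒮 : RelProj.QCGrAlg Y) (𝒮L : RelProj.QCGrAlg X) (j : L ⟶ 𝒮L.toModule) (hj : RelProj.IsGrSymAlg L 𝒮L j)
    (u : RelProj.QGrHom q 𝒮 𝒮L)
    (p : P ⟶ Y) (chart : ∀ (U : Y.Opens) (hU : IsAffineOpen U), (((p ⁻¹ᵁ U : P.Opens) : Scheme.{u}) ≅ Proj (𝒮.deg U hU)))
    (hP : RelProj.IsRelProj 𝒮 p chart)
    (pL : PL ⟶ X) (chartL : ∀ (U : X.Opens) (hU : IsAffineOpen U), (((pL ⁻¹ᵁ U : PL.Opens) : Scheme.{u}) ≅ Proj (𝒮L.deg U hU)))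
    (hPL : RelProj.IsRelProj 𝒮L pL chartL)
    (r : ((RelProj.domQ u pL chartL : PL.Opens) : Scheme.{u}) ⟶ P)
    (hr : RelProj.IsProjQMapOn u p chart pL chartL (RelProj.domQ u pL chartL) r)
    (𝒯 : RelProj.QCGrAlg Y) (v : 𝒯.toQCAlg ⟶ 𝒮.toQCAlg) (hv : RelProj.IsGradedHom v)
    (u' : RelProj.QGrHom q 𝒯 𝒮L) (hu' : ∀ U : Y.Opens, u'.app U = v.hom.app (op U) ≫ u.app U)
    (p' : P' ⟶ Y) (chart' : ∀ (U : Y.Opens) (hU : IsAffineOpen U), (((p' ⁻¹ᵁ U : P'.Opens) : Scheme.{u}) ≅ Proj (𝒯.deg U hU)))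
    (hP' : RelProj.IsRelProj 𝒯 p' chart')
    (r' : ((RelProj.domQ u' pL chartL : PL.Opens) : Scheme.{u}) ⟶ P')
    (hr' : RelProj.IsProjQMapOn u' p' chart' pL chartL (RelProj.domQ u' pL chartL) r')
    (hTN : ∃ n : ℕ, ∀ k, n ≤ k → ∀ (U : Y.Opens) (hU : IsAffineOpen U), ∀ x ∈ 𝒯.deg U hU k,
      (v.hom.app (op U)).hom x = 0 → x = 0) (hdom : IsDominant r) :
    IsDominant r' := by
  obtain ⟨n, hn⟩ := hTN
  have hle := Proj16.domQ_comp_le (chartL := chartL) u v hv u' hu'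
  obtain ⟨π, hπ, -⟩ := (Proj16.existsUnique_projQMapOn (RelProj.QGrHom.ofHom v hv) hP' hP).1
  haveI : IsDominant π := Proj16.projQMapOn_of_charts v hv hP hP' π hπ @IsDominant fun U hU d f hd hf => by
    refine ⟨(PrimeSpectrum.denseRange_comap_iff_ker_le_nilRadical _).mpr ?_⟩
    intro x hx
    rw [show x = 0 from (Proj16.awayMap_injective_of_ge _ hd hf n fun k hk => hn k hk U hU)
      ((RingHom.mem_ker.mp hx).trans (map_zero _).symm)]
    exact zero_mem _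
  obtain ⟨k, hk, hk'⟩ := Proj16.exists_comp u v hv u' hu' hP hPL r hr r' hr' π hπ hle
  haveI : IsDominant k := by
    refine ⟨fun y => mem_closure_iff.mpr fun o ho hyo => ?_⟩
    obtain ⟨_, ⟨w, hw, rfl⟩, x, hx⟩ := mem_closure_iff.mp (hdom.denseRange y.1)
      ((RelProj.domQ (RelProj.QGrHom.ofHom v hv) p chart).ι '' o)
      ((RelProj.domQ (RelProj.QGrHom.ofHom v hv) p chart).ι.isOpenEmbedding.isOpenMap _ ho) ⟨y, hyo, rfl⟩
    refine ⟨w, hw, ⟨⟨x.1, Proj16.mem_domQ_of_apply_mem u v hv u' hu' hP hPL r hr x (hx ▸ w.2)⟩, ?_⟩⟩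
    apply (RelProj.domQ (RelProj.QGrHom.ofHom v hv) p chart).ι.isOpenEmbedding.injective
    refine Eq.trans ?_ hx
    rw [← Scheme.Hom.comp_apply, hk, Scheme.Hom.comp_apply]
    exact congrArg r (Subtype.ext (congrArg (fun m : _ ⟶ PL => m _) (Scheme.homOfLE_ι PL hle)))
  exact hk' ▸ (inferInstance : IsDominant (k ≫ π))

end Groth.Agent.S12149
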