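import Groth.Statements.S12150
import Groth.Agent.Proj16.RLPsiImm

set_option autoImplicit false
set_option backward.isDefEq.respectTransparency false
set_option backward.isDefEq.respectTransparency.types false
universe u
open CategoryTheory CategoryTheory.Limits AlgebraicGeometry TopologicalSpace Opposite
open scoped HomogeneousIdeal
noncomputable section
open EGA2

namespace Groth.Agent.S12150

/-- Let q : X → Y be a morphism with Y affine, L an invertible O_X-module with 𝒮L = ⊕ L^{⊗n} (whose Proj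
is X), 𝒮 a quasi-coherent positively graded O_Y-algebra with S = Γ(Y, 𝒮), ψ♭ = u : 𝒮 → q_*𝒮L a
graded q-morphism and r = r_{L,ψ} : G(ψ) → P = Proj(𝒮). For a family s_a ∈ S_{n_a} (n_a > 0) put f_a
= ψ♭(s_a) ∈ Γ(X, L^{⊗n_a}) and let X_{f_a} be the open where f_a does not vanish; conditions: (i)
the X_{f_a} cover X; (ii) the X_{f_a} are affine; (iii) every function t on X_{f_a} is of the form
ψ♭(s') f_a^{-m} with m > 0 and s' ∈ S_{m n_a} (that is, t f_a^m = ψ♭(s') in 𝒮L(X_{f_a})). Then r is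
everywhere defined (G(ψ) = X) and an immersion if and only if there is a family (s_a) satisfying
(i), (ii) and (iii). -/
theorem result {Y X P PL : Scheme.{u}} (q : X ⟶ Y)
    (L : X.Modules) (hL : PicF.IsInvertible L) (hLq : Coh.IsQCoh L)
    (𝒮 : RelProj.QCGrAlg Y) (𝒮L : RelProj.QCGrAlg X) (j : L ⟶ 𝒮L.toModule) (hj : RelProj.IsGrSymAlg L 𝒮L j)
    (u : RelProj.QGrHom q 𝒮 𝒮L)
    (p : P ⟶ Y) (chart : ∀ (U : Y.Opens) (hU : IsAffineOpen U), (((p ⁻¹ᵁ U : P.Opens) : Scheme.{u}) ≅ Proj (𝒮.deg U hU)))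
    (hP : RelProj.IsRelProj 𝒮 p chart)
    (pL : PL ⟶ X) (chartL : ∀ (U : X.Opens) (hU : IsAffineOpen U), (((pL ⁻¹ᵁ U : PL.Opens) : Scheme.{u}) ≅ Proj (𝒮L.deg U hU)))
    (hPL : RelProj.IsRelProj 𝒮L pL chartL)
    (r : ((RelProj.domQ u pL chartL : PL.Opens) : Scheme.{u}) ⟶ P)
    (hr : RelProj.IsProjQMapOn u p chart pL chartL (RelProj.domQ u pL chartL) r)
    (hY : IsAffineOpen (⊤ : Y.Opens)) :
    (RelProj.domQ u pL chartL = ⊤ ∧ IsImmersion r) ↔
      ∃ (ι : Type u) (n : ι → ℕ) (s : ι → 𝒮.presheaf.obj (op ⊤)) (XT : ι → X.Opens),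
        (∀ a, 0 < n a ∧ s a ∈ 𝒮.deg ⊤ hY (n a)) ∧
        (∀ a, XT a = (⨆ V : {V : X.affineOpens //
          ((𝒮L.deg V.1 V.2 (n a) : AddSubgroup (𝒮L.presheaf.obj (op (V.1 : X.Opens)))) : Set (𝒮L.presheaf.obj (op (V.1 : X.Opens)))) ⊆
            (Ideal.span {(u.appLE ⊤ (V.1 : X.Opens) (le_top.trans (Scheme.Hom.preimage_top q).ge)).hom (s a)} : Set (𝒮L.presheaf.obj (op (V.1 : X.Opens))))},
          (V.1.1 : X.Opens))) ∧
        (⨆ a, XT a) = ⊤ ∧ (∀ a, IsAffineOpen (XT a)) ∧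
        (∀ (a : ι) (t : X.presheaf.obj (op (XT a))), ∃ (m : ℕ) (_ : 0 < m) (s' : 𝒮.presheaf.obj (op ⊤)) (_ : s' ∈ 𝒮.deg ⊤ hY (m * n a)),
            (𝒮L.str.app (op (XT a))).hom t * ((u.appLE ⊤ (XT a) (le_top.trans (Scheme.Hom.preimage_top q).ge)).hom (s a)) ^ m =
              (u.appLE ⊤ (XT a) (le_top.trans (Scheme.Hom.preimage_top q).ge)).hom s') := by
  have hle : ∀ V : X.Opens, V ≤ q ⁻¹ᵁ ⊤ := fun V => le_top.trans (Scheme.Hom.preimage_top q).ge
  constructor
  · rintro ⟨htop, himm⟩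
    let O := r.coborderRange
    have hmem : ∀ x, r x ∈ O := fun x => subset_coborder ⟨x, rfl⟩
    have hcl : ∀ D : P.Opens, D ≤ O → IsClosedImmersion (r ∣_ D) := by
      intro D hD
      refine IsClosedImmersion.of_isPreimmersion _ ?_
      rw [morphismRestrict_base, Set.range_restrictPreimage]
      exact (isClosed_preimage_val_coborder (s := Set.range r)).preimage (continuous_inclusion hD)
    have key := fun a : Proj16.Index (p := p) (chart := chart) hY O =>
      Proj16.of_isClosedImmersion_restrict hL hLq hj u hP hPL r hr hY a.2.1 a.1.2 a.2.2.1 (hcl _ a.2.2.2)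
    choose hT hsurj using key
    refine ⟨Proj16.Index (p := p) (chart := chart) hY O, fun a => a.1.1.down, fun a => a.1.2,
      fun a => Proj16.nonvanishing q u hY a.1.1.down a.1.2, fun a => ⟨a.2.1, a.2.2.1⟩, fun a => rfl,
      Proj16.family_of hL hLq hj u hP hPL r hr hY htop O hmem, hT, fun a t => ?_⟩
    exact (Proj16.awayMap_surjective_iff hL hLq hj u hPL hY (hT a) (hle _) a.2.1 a.1.2 a.2.2.1
      (Proj16.basicOpen_eq_top_of_affine hL hLq hj u hP hPL r hr hY a.2.1 a.1.2 a.2.2.1 (hT a))).mp (hsurj a) t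
  · rintro ⟨ι, n, s, XT, hs, hXT, hcov, hT, h3⟩
    obtain rfl : XT = fun a => Proj16.nonvanishing q u hY (n a) (s a) := funext hXT
    obtain ⟨htop, hran⟩ := Proj16.of_family hL hLq hj u hP hPL r hr hY n s hs hcov
    refine ⟨htop, ?_⟩
    haveI : MorphismProperty.RespectsRight @IsImmersion @IsOpenImmersion :=
      ⟨fun i hi f hf => by haveI := hi; haveI := hf; infer_instance⟩
    refine IsZariskiLocalAtTarget.of_range_subset_iSup (P := @IsImmersion) _ hran fun a => ?_
    refine (Proj16.restrict_iff_nonvanishing hL hLq hj u hP hPL r hr hY (hs a).1 (s a) (hs a).2 @IsImmersion (hT a)).mpr ?_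
    haveI := IsClosedImmersion.spec_of_surjective (CommRingCat.ofHom (HomogeneousLocalization.Away.map
      (u.gradedAt ⊤ hY _ (hT a) (hle _)) (s a))) ((Proj16.awayMap_surjective_iff hL hLq hj u hPL hY (hT a) (hle _)
        (hs a).1 (s a) (hs a).2
        (Proj16.basicOpen_eq_top_of_affine hL hLq hj u hP hPL r hr hY (hs a).1 (s a) (hs a).2 (hT a))).mpr (h3 a))
    infer_instance

end Groth.Agent.S12150
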