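import Groth.Statements.S12155
import Groth.Agent.ConeX.ProjCone

set_option autoImplicit false
set_option backward.isDefEq.respectTransparency false
set_option backward.isDefEq.respectTransparency.types false
universe u
open CategoryTheory CategoryTheory.Limits AlgebraicGeometry TopologicalSpace Opposite
open scoped HomogeneousIdeal
open Groth.Agent HomogeneousLocalization
noncomputable section
open EGA2

namespace Groth.Agent.S12155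

/-- Let q : Y' → Y be a morphism, φ : 𝒮 → q_*𝒮' a graded q-morphism of quasi-coherent positively graded
algebras with 𝒮_0 = O_Y, 𝒮'_0 = O_{Y'}, φ̂ : 𝒮[z] → q_*𝒮'[z] its extension with φ̂(z) = z, Ĉ =
Proj(𝒮[z]), Ĉ' = Proj(𝒮'[z]) the projective cones with pointed cones Ê, Ê', and Φ̂ = Proj(φ̂) :
G(φ̂) → Ĉ. Then Φ̂⁻¹(Ê) ⊆ Ê'; moreover if Proj(φ) is everywhere defined on Proj(𝒮'), then Φ̂ is
everywhere defined on Ĉ' and Φ̂⁻¹(Ê) = Ê'. -/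
theorem result {Y Y' PC PC' : Scheme.{u}} (q : Y' ⟶ Y)
    (𝒮 : RelProj.QCGrAlg Y) (𝒮' : RelProj.QCGrAlg Y') (h0 : RelCone.StrZeroBij 𝒮) (h0' : RelCone.StrZeroBij 𝒮')
    (u : RelProj.QGrHom q 𝒮 𝒮')
    (𝒮h : RelProj.QCGrAlg Y) (ι : 𝒮.toQCAlg ⟶ 𝒮h.toQCAlg) (z : 𝒮h.presheaf.obj (op ⊤))
    (hz : RelCone.IsPolyOver 𝒮 𝒮h ι z)
    (pC : PC ⟶ Y) (chartC : ∀ (U : Y.Opens) (hU : IsAffineOpen U), (((pC ⁻¹ᵁ U : PC.Opens) : Scheme.{u}) ≅ Proj (𝒮h.deg U hU)))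
    (hC : RelProj.IsRelProj 𝒮h pC chartC)
    (𝒮h' : RelProj.QCGrAlg Y') (ι' : 𝒮'.toQCAlg ⟶ 𝒮h'.toQCAlg) (z' : 𝒮h'.presheaf.obj (op ⊤))
    (hz' : RelCone.IsPolyOver 𝒮' 𝒮h' ι' z')
    (pC' : PC' ⟶ Y') (chartC' : ∀ (U : Y'.Opens) (hU : IsAffineOpen U), (((pC' ⁻¹ᵁ U : PC'.Opens) : Scheme.{u}) ≅ Proj (𝒮h'.deg U hU)))
    (hC' : RelProj.IsRelProj 𝒮h' pC' chartC')
    (uh : RelProj.QGrHom q 𝒮h 𝒮h')
    (huh : ∀ U : Y.Opens, ι.hom.app (op U) ≫ uh.app U = u.app U ≫ ι'.hom.app (op (q ⁻¹ᵁ U)))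
    (huhz : (uh.app ⊤).hom z = RelCone.restrictTop 𝒮h' z' (q ⁻¹ᵁ ⊤))
    (Φh : ((RelProj.domQ uh pC' chartC' : PC'.Opens) : Scheme.{u}) ⟶ PC)
    (hΦh : RelProj.IsProjQMapOn uh pC chartC pC' chartC' (RelProj.domQ uh pC' chartC') Φh)
    {P' : Scheme.{u}} (p' : P' ⟶ Y') (chart' : ∀ (U : Y'.Opens) (hU : IsAffineOpen U), (((p' ⁻¹ᵁ U : P'.Opens) : Scheme.{u}) ≅ Proj (𝒮'.deg U hU)))
    (hP' : RelProj.IsRelProj 𝒮' p' chart') :
    (RelProj.domQ uh pC' chartC').ι ''ᵁ (Φh ⁻¹ᵁ RelCone.pointedProjCone 𝒮 hz pC chartC) ≤ RelCone.pointedProjCone 𝒮' hz' pC' chartC' ∧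
      (RelProj.domQ u p' chart' = ⊤ →
        RelProj.domQ uh pC' chartC' = ⊤ ∧
          (RelProj.domQ uh pC' chartC').ι ''ᵁ (Φh ⁻¹ᵁ RelCone.pointedProjCone 𝒮 hz pC chartC) = RelCone.pointedProjCone 𝒮' hz' pC' chartC') := by
  have eÊ := ConeX.pointed_eq_domQ hz hC
  have eÊ' := ConeX.pointed_eq_domQ hz' hC'
  let w := Proj16.compRight u ι' hz'.graded
  have hwA := ConeX.comp_ι_eq hz hz' u uh huh
  have hwB := ConeX.compRight_eq u ι' hz'.graded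
  have hle : (RelProj.domQ uh pC' chartC').ι ''ᵁ (Φh ⁻¹ᵁ RelCone.pointedProjCone 𝒮 hz pC chartC) ≤
      RelCone.pointedProjCone 𝒮' hz' pC' chartC' := by
    rintro _ ⟨x, hx, rfl⟩
    replace hx : Φh x ∈ RelCone.pointedProjCone 𝒮 hz pC chartC := hx
    rw [eÊ] at hx
    rw [eÊ']
    exact Proj16.domQ_comp_le' u (RelProj.QGrHom.ofHom ι' hz'.graded) w (Category.id_comp q) hwB hC'
      (Proj16.mem_domQ_comp (RelProj.QGrHom.ofHom ι hz.graded) uh w (Category.comp_id q) hwA hC hC' Φh hΦh hx)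
  refine ⟨hle, fun htop => ?_⟩
  obtain ⟨⟨r', hr', -⟩, -⟩ := Proj16.existsUnique_projQMapOn (RelProj.QGrHom.ofHom ι' hz'.graded) hP' hC'
  have hw : ∀ x ∈ RelProj.domQ (RelProj.QGrHom.ofHom ι' hz'.graded) pC' chartC', x ∈ RelProj.domQ w pC' chartC' :=
    fun x hx => Proj16.mem_domQ_comp u (RelProj.QGrHom.ofHom ι' hz'.graded) w (Category.id_comp q) hwB hP' hC' r' hr'
      (x := ⟨x, hx⟩) (by rw [htop]; trivial)
  have hwle := Proj16.domQ_comp_le' (RelProj.QGrHom.ofHom ι hz.graded) uh w (Category.comp_id q) hwA hC'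
  have hdom : RelProj.domQ uh pC' chartC' = ⊤ := by
    refine top_unique fun x _ => ?_
    by_cases hx : x ∈ RelProj.domQ (RelProj.QGrHom.ofHom ι' hz'.graded) pC' chartC'
    · exact hwle (hw x hx)
    · obtain ⟨_, ⟨U', hU', rfl⟩, hxU, -⟩ := Y'.isBasis_affineOpens.exists_subset_of_mem_open
        (Set.mem_univ (pC' x)) isOpen_univ
      obtain ⟨y, rfl⟩ := (Proj16.opensRange_emb (p := pC') (chart := chartC') U' hU').ge hxU
      exact ConeX.mem_domQ_of_mem_zOpen hz uh huhz hC' hU' y (ConeX.mem_zOpen_of_notMem hz' hC' hU' y hx)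
  refine ⟨hdom, le_antisymm hle fun x hx => ?_⟩
  rw [eÊ'] at hx
  have hxw := hw x hx
  obtain ⟨P₀, p₀, chart₀, hP₀⟩ := Proj16.exists_isRelProj 𝒮
  obtain ⟨⟨r, hr, -⟩, -⟩ := Proj16.existsUnique_projQMapOn (RelProj.QGrHom.ofHom ι hz.graded) hP₀ hC
  obtain ⟨⟨rw', hrw, -⟩, -⟩ := Proj16.existsUnique_projQMapOn w hP₀ hC'
  refine ⟨⟨x, hdom.ge trivial⟩, ?_, rfl⟩
  show Φh _ ∈ RelCone.pointedProjCone 𝒮 hz pC chartC
  rw [eÊ]
  exact Proj16.apply_mem_domQ (RelProj.QGrHom.ofHom ι hz.graded) uh w (Category.comp_id q) hwA hP₀ hC hC' r hr Φh hΦh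
    rw' hrw (x := ⟨x, hdom.ge trivial⟩) hxw

end Groth.Agent.S12155
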