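import Groth.Statements.S12156
import Groth.Agent.ConeX.ProjCone

set_option autoImplicit false
set_option backward.isDefEq.respectTransparency false
set_option backward.isDefEq.respectTransparency.types false
universe u
open CategoryTheory CategoryTheory.Limits AlgebraicGeometry TopologicalSpace Opposite
open scoped HomogeneousIdeal
open Groth.Agent HomogeneousLocalization
noncomputable section
open EGA2

namespace Groth.Agent.S12156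

/-- Let q : Y' → Y be a morphism, φ : 𝒮 → q_*𝒮' a graded q-morphism of quasi-coherent positively graded
algebras with 𝒮_0 = O_Y, 𝒮'_0 = O_{Y'}, φ̂ : 𝒮[z] → q_*𝒮'[z] its extension with φ̂(z) = z, Ĉ =
Proj(𝒮[z]), Ĉ' = Proj(𝒮'[z]) the projective cones with pointed cones Ê, Ê', and Φ̂ = Proj(φ̂) :
G(φ̂) → Ĉ; let X = Proj(𝒮), X' = Proj(𝒮'), Proj(φ) : G(φ) → X on its open of definition G(φ) ⊆ X',
and p̂ : Ê → X, p̂' : Ê' → X' the canonical retractions. Then p̂'(Φ̂⁻¹(Ê)) ⊆ G(φ) and on Φ̂⁻¹(Ê) the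
composites p̂ ∘ Φ̂ and Proj(φ) ∘ p̂' agree (stated on T-valued points: a : T → Ê' and b : T → G(φ̂)
agreeing in Ĉ' with Φ̂ ∘ b = c : T → Ê). -/
theorem result {Y Y' PC PC' : Scheme.{u}} (q : Y' ⟶ Y)
    (𝒮 : RelProj.QCGrAlg Y) (𝒮' : RelProj.QCGrAlg Y') (h0 : RelCone.StrZeroBij 𝒮) (h0' : RelCone.StrZeroBij 𝒮')
    (u : RelProj.QGrHom q 𝒮 𝒮')
    (𝒮h : RelProj.QCGrAlg Y) (ι : 𝒮.toQCAlg ⟶ 𝒮h.toQCAlg) (z : 𝒮h.presheaf.obj (op ⊤))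
    (hz : RelCone.IsPolyOver 𝒮 𝒮h ι z)
    (pC : PC ⟶ Y) (chartC : ∀ (U : Y.Opens) (hU : IsAffineOpen U), (((pC ⁻¹ᵁ U : PC.Opens) : Scheme.{u}) ≅ Proj (𝒮h.deg U hU)))
    (hC : RelProj.IsRelProj 𝒮h pC chartC)
    (𝒮h' : RelProj.QCGrAlg Y') (ι' : 𝒮'.toQCAlg ⟶ 𝒮h'.toQCAlg) (z' : 𝒮h'.presheaf.obj (op ⊤))
    (hz' : RelCone.IsPolyOver 𝒮' 𝒮h' ι' z')
    (pC' : PC' ⟶ Y') (chartC' : ∀ (U : Y'.Opens) (hU : IsAffineOpen U), (((pC' ⁻¹ᵁ U : PC'.Opens) : Scheme.{u}) ≅ Proj (𝒮h'.deg U hU)))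
    (hC' : RelProj.IsRelProj 𝒮h' pC' chartC')
    (uh : RelProj.QGrHom q 𝒮h 𝒮h')
    (huh : ∀ U : Y.Opens, ι.hom.app (op U) ≫ uh.app U = u.app U ≫ ι'.hom.app (op (q ⁻¹ᵁ U)))
    (huhz : (uh.app ⊤).hom z = RelCone.restrictTop 𝒮h' z' (q ⁻¹ᵁ ⊤))
    (Φh : ((RelProj.domQ uh pC' chartC' : PC'.Opens) : Scheme.{u}) ⟶ PC)
    (hΦh : RelProj.IsProjQMapOn uh pC chartC pC' chartC' (RelProj.domQ uh pC' chartC') Φh)
    {P P' : Scheme.{u}} (p : P ⟶ Y) (chart : ∀ (U : Y.Opens) (hU : IsAffineOpen U), (((p ⁻¹ᵁ U : P.Opens) : Scheme.{u}) ≅ Proj (𝒮.deg U hU)))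
    (hP : RelProj.IsRelProj 𝒮 p chart)
    (p' : P' ⟶ Y') (chart' : ∀ (U : Y'.Opens) (hU : IsAffineOpen U), (((p' ⁻¹ᵁ U : P'.Opens) : Scheme.{u}) ≅ Proj (𝒮'.deg U hU)))
    (hP' : RelProj.IsRelProj 𝒮' p' chart')
    (Φ : ((RelProj.domQ u p' chart' : P'.Opens) : Scheme.{u}) ⟶ P)
    (hΦ : RelProj.IsProjQMapOn u p chart p' chart' (RelProj.domQ u p' chart') Φ)
    (r : ((RelCone.pointedProjCone 𝒮 hz pC chartC : PC.Opens) : Scheme.{u}) ⟶ P)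
    (hr : RelProj.IsProjQMapOn (RelProj.QGrHom.ofHom ι hz.graded) p chart pC chartC (RelCone.pointedProjCone 𝒮 hz pC chartC) r)
    (r' : ((RelCone.pointedProjCone 𝒮' hz' pC' chartC' : PC'.Opens) : Scheme.{u}) ⟶ P')
    (hr' : RelProj.IsProjQMapOn (RelProj.QGrHom.ofHom ι' hz'.graded) p' chart' pC' chartC' (RelCone.pointedProjCone 𝒮' hz' pC' chartC') r')
    (T : Scheme.{u}) (a : T ⟶ ((RelCone.pointedProjCone 𝒮' hz' pC' chartC' : PC'.Opens) : Scheme.{u}))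
    (b : T ⟶ ((RelProj.domQ uh pC' chartC' : PC'.Opens) : Scheme.{u}))
    (c : T ⟶ ((RelCone.pointedProjCone 𝒮 hz pC chartC : PC.Opens) : Scheme.{u}))
    (hab : a ≫ (RelCone.pointedProjCone 𝒮' hz' pC' chartC').ι = b ≫ (RelProj.domQ uh pC' chartC').ι) (hbc : b ≫ Φh = c ≫ (RelCone.pointedProjCone 𝒮 hz pC chartC).ι) :
    Set.range (a ≫ r').base ⊆ ((RelProj.domQ u p' chart' : P'.Opens) : Set P') ∧
      ∀ d : T ⟶ ((RelProj.domQ u p' chart' : P'.Opens) : Scheme.{u}),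
        a ≫ r' = d ≫ (RelProj.domQ u p' chart').ι → c ≫ r = d ≫ Φ := by
  have eÊ := ConeX.pointed_eq_domQ hz hC
  have eÊ' := ConeX.pointed_eq_domQ hz' hC'
  let vι := RelProj.QGrHom.ofHom ι hz.graded
  let vι' := RelProj.QGrHom.ofHom ι' hz'.graded
  let w := Proj16.compRight u ι' hz'.graded
  have hwA := ConeX.comp_ι_eq hz hz' u uh huh
  have hwB := ConeX.compRight_eq u ι' hz'.graded
  obtain ⟨r₀, hr₀, hr₀c⟩ := Proj16.exists_transport vι eÊ r hr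
  obtain ⟨r₀', hr₀', hr₀c'⟩ := Proj16.exists_transport vι' eÊ' r' hr'
  let c₀ : T ⟶ ((RelProj.domQ vι pC chartC : PC.Opens) : Scheme.{u}) := c ≫ PC.homOfLE eÊ.le
  have hc₀ : c₀ ≫ (RelProj.domQ vι pC chartC).ι = c ≫ (RelCone.pointedProjCone 𝒮 hz pC chartC).ι := by
    rw [Category.assoc, Scheme.homOfLE_ι]
  let a₀ : T ⟶ ((RelProj.domQ vι' pC' chartC' : PC'.Opens) : Scheme.{u}) := a ≫ PC'.homOfLE eÊ'.le
  have ha₀ : a₀ ≫ (RelProj.domQ vι' pC' chartC').ι = a ≫ (RelCone.pointedProjCone 𝒮' hz' pC' chartC').ι := by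
    rw [Category.assoc, Scheme.homOfLE_ι]
  obtain ⟨⟨rw', hrw, -⟩, -⟩ := Proj16.existsUnique_projQMapOn w hP hC'
  have hb : ∀ t, ((RelProj.domQ uh pC' chartC').ι (b t)) ∈ RelProj.domQ w pC' chartC' := fun t => by
    refine Proj16.mem_domQ_comp vι uh w (Category.comp_id q) hwA hC hC' Φh hΦh (x := b t) ?_
    rw [← Scheme.Hom.comp_apply, hbc, ← hc₀, Scheme.Hom.comp_apply]
    exact (c₀ t).2
  let d₀ : T ⟶ ((RelProj.domQ w pC' chartC' : PC'.Opens) : Scheme.{u}) :=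
    IsOpenImmersion.lift (RelProj.domQ w pC' chartC').ι (b ≫ (RelProj.domQ uh pC' chartC').ι) (by
      rw [Scheme.Opens.range_ι]
      rintro _ ⟨t, rfl⟩
      rw [Scheme.Hom.comp_apply]
      exact hb t)
  have hd₀ : d₀ ≫ (RelProj.domQ w pC' chartC').ι = b ≫ (RelProj.domQ uh pC' chartC').ι := IsOpenImmersion.lift_fac _ _ _
  have hd₀' : d₀ ≫ (RelProj.domQ w pC' chartC').ι = a₀ ≫ (RelProj.domQ vι' pC' chartC').ι := by
    rw [hd₀, ha₀, hab]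
  have e1 : c₀ ≫ r₀ = d₀ ≫ rw' := Proj16.comp_eq vι uh w (Category.comp_id q) hwA hP hC hC' r₀ hr₀ Φh hΦh rw' hrw
    b c₀ d₀ hd₀ (hc₀.trans hbc.symm)
  refine ⟨?_, fun d hd => ?_⟩
  · rintro _ ⟨t, rfl⟩
    show (a ≫ r') t ∈ RelProj.domQ u p' chart'
    rw [← hr₀c' a a₀ ha₀, Scheme.Hom.comp_apply]
    refine Proj16.apply_mem_domQ u vι' w (Category.id_comp q) hwB hP hP' hC' Φ hΦ r₀' hr₀' rw' hrw ?_
    show (RelProj.domQ vι' pC' chartC').ι (a₀ t) ∈ RelProj.domQ w pC' chartC'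
    rw [← Scheme.Hom.comp_apply, ← hd₀', Scheme.Hom.comp_apply]
    exact (d₀ t).2
  · rw [← hr₀c c c₀ hc₀, e1]
    exact (Proj16.comp_eq u vι' w (Category.id_comp q) hwB hP hP' hC' Φ hΦ r₀' hr₀' rw' hrw a₀ d d₀ hd₀'
      (hd.symm.trans (hr₀c' a a₀ ha₀).symm)).symm

end Groth.Agent.S12156
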