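import Groth.Statements.S12157
import Groth.Agent.ConeX.ProjCone

set_option autoImplicit false
set_option backward.isDefEq.respectTransparency false
set_option backward.isDefEq.respectTransparency.types false
universe u
open CategoryTheory CategoryTheory.Limits AlgebraicGeometry TopologicalSpace Opposite
open scoped HomogeneousIdeal
open Groth.Agent HomogeneousLocalization
noncomputable section
open EGA2 Groth.Agent HomogeneousLocalization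

namespace Groth.Agent.S12157

/-- Let q : Y' → Y be a morphism, φ : 𝒮 → q_*𝒮' a graded q-morphism of quasi-coherent positively graded
algebras with 𝒮_0 = O_Y, 𝒮'_0 = O_{Y'}, φ̂ : 𝒮[z] → q_*𝒮'[z] its extension with φ̂(z) = z, Ĉ =
Proj(𝒮[z]), Ĉ' = Proj(𝒮'[z]) the projective cones with pointed cones Ê, Ê', and Φ̂ = Proj(φ̂) :
G(φ̂) → Ĉ; let Φ = Spec(φ) : C' = Spec(𝒮') → C = Spec(𝒮) be the morphism of affine cones and i : C →
Ĉ, i' : C' → Ĉ' the canonical open immersions. Then i'(C') ⊆ G(φ̂) and the square formed by Φ, i', i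
and Φ̂ commutes. -/
theorem result {Y Y' PC PC' : Scheme.{u}} (q : Y' ⟶ Y)
    (𝒮 : RelProj.QCGrAlg Y) (𝒮' : RelProj.QCGrAlg Y') (h0 : RelCone.StrZeroBij 𝒮) (h0' : RelCone.StrZeroBij 𝒮')
    (u : RelProj.QGrHom q 𝒮 𝒮')
    (𝒮h : RelProj.QCGrAlg Y) (ι : 𝒮.toQCAlg ⟶ 𝒮h.toQCAlg) (z : 𝒮h.presheaf.obj (op ⊤))
    (hz : RelCone.IsPolyOver 𝒮 𝒮h ι z)
    (pC : PC ⟶ Y) (chartC : ∀ (U : Y.Opens) (hU : IsAffineOpen U), (((pC ⁻¹ᵁ U : PC.Opens) : Scheme.{u}) ≅ Proj (𝒮h.deg U hU)))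
    (hC : RelProj.IsRelProj 𝒮h pC chartC)
    (𝒮h' : RelProj.QCGrAlg Y') (ι' : 𝒮'.toQCAlg ⟶ 𝒮h'.toQCAlg) (z' : 𝒮h'.presheaf.obj (op ⊤))
    (hz' : RelCone.IsPolyOver 𝒮' 𝒮h' ι' z')
    (pC' : PC' ⟶ Y') (chartC' : ∀ (U : Y'.Opens) (hU : IsAffineOpen U), (((pC' ⁻¹ᵁ U : PC'.Opens) : Scheme.{u}) ≅ Proj (𝒮h'.deg U hU)))
    (hC' : RelProj.IsRelProj 𝒮h' pC' chartC')
    (uh : RelProj.QGrHom q 𝒮h 𝒮h')
    (huh : ∀ U : Y.Opens, ι.hom.app (op U) ≫ uh.app U = u.app U ≫ ι'.hom.app (op (q ⁻¹ᵁ U)))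
    (huhz : (uh.app ⊤).hom z = RelCone.restrictTop 𝒮h' z' (q ⁻¹ᵁ ⊤))
    (Φh : ((RelProj.domQ uh pC' chartC' : PC'.Opens) : Scheme.{u}) ⟶ PC)
    (hΦh : RelProj.IsProjQMapOn uh pC chartC pC' chartC' (RelProj.domQ uh pC' chartC') Φh)
    (Φc : 𝒮'.toQCAlg.spec ⟶ 𝒮.toQCAlg.spec) (hΦc : RelSpec.IsSpecQMap u.toQHom Φc)
    (i : 𝒮.toQCAlg.spec ⟶ PC) (hi : RelCone.IsConeImm 𝒮 hz pC chartC i)
    (i' : 𝒮'.toQCAlg.spec ⟶ PC') (hi' : RelCone.IsConeImm 𝒮' hz' pC' chartC' i') :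
    Set.range i'.base ⊆ ((RelProj.domQ uh pC' chartC' : PC'.Opens) : Set PC') ∧
      ∀ i'' : 𝒮'.toQCAlg.spec ⟶ ((RelProj.domQ uh pC' chartC' : PC'.Opens) : Scheme.{u}),
        i'' ≫ (RelProj.domQ uh pC' chartC').ι = i' → i'' ≫ Φh = Φc ≫ i := by
  constructor
  · rintro _ ⟨x, rfl⟩
    obtain ⟨_, ⟨U', hU', rfl⟩, hxU, -⟩ := Y'.isBasis_affineOpens.exists_subset_of_mem_open
      (Set.mem_univ (pC' (i' x))) isOpen_univ
    obtain ⟨y, hy⟩ := (Proj16.opensRange_emb (p := pC') (chart := chartC') U' hU').ge hxU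
    rw [← hy]
    exact ConeX.mem_domQ_of_mem_zOpen hz uh huhz hC' hU' y
      ((ConeX.mem_range_coneImm_iff hz' hC' hi' hU' y).mp (hy ▸ ⟨x, rfl⟩))
  intro i'' hi''
  have hex : ∀ x : 𝒮'.toQCAlg.spec, ∃ (U : Y.Opens) (hU : IsAffineOpen U) (U' : Y'.Opens) (hU' : IsAffineOpen U')
      (_ : U' ≤ q ⁻¹ᵁ U), x ∈ (𝒮'.toQCAlg.ι U' hU').opensRange := by
    intro x
    obtain ⟨U, hU, U', hU', hy, hle⟩ := RelSpecX.exists_pair q (𝒮'.toQCAlg.π x)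
    exact ⟨U, hU, U', hU', hle, (𝒮'.toQCAlg.π_preimage U' hU').le hy⟩
  choose U hU U' hU' hle hx using hex
  let 𝒰 : 𝒮'.toQCAlg.spec.OpenCover :=
    { I₀ := 𝒮'.toQCAlg.spec
      X := fun x => Spec (𝒮'.presheaf.obj (op (U' x)))
      f := fun x => 𝒮'.toQCAlg.ι (U' x) (hU' x)
      mem₀ := by
        rw [Scheme.ofArrows_mem_precoverage_iff]
        exact ⟨fun x => ⟨x, hx x⟩, fun x => inferInstance⟩ }
  refine 𝒰.hom_ext _ _ fun x => ?_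
  show 𝒮'.toQCAlg.ι (U' x) (hU' x) ≫ i'' ≫ Φh = 𝒮'.toQCAlg.ι (U' x) (hU' x) ≫ Φc ≫ i
  rw [reassoc_of% (hΦc (U x) (hU x) (U' x) (hU' x) (hle x)), hi (U x) (hU x)]
  let χ := uh.gradedAt (U x) (hU x) (U' x) (hU' x) (hle x)
  let zU := RelCone.restrictTop 𝒮h z (U x)
  let zU' := RelCone.restrictTop 𝒮h' z' (U' x)
  have hχ : χ zU = zU' := ConeX.appLE_z uh huhz (hle x)
  have main : ∀ (t : 𝒮h'.presheaf.obj (op (U' x))) (ht : t ∈ 𝒮h'.deg (U' x) (hU' x) 1)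
      (ρ : Away (𝒮h'.deg (U' x) (hU' x)) t →+* 𝒮'.presheaf.obj (op (U' x))),
      t = χ zU →
      (∀ (n : ℕ) (b : 𝒮h'.presheaf.obj (op (U' x))) (hb : b ∈ 𝒮h'.deg (U' x) (hU' x) (n • 1)),
        ρ (Away.mk _ ht n b hb) = hz'.evalOne (U' x) (hU' x) b) →
      ∀ e : Spec (𝒮'.presheaf.obj (op (U' x))) ⟶ ((RelProj.domQ uh pC' chartC' : PC'.Opens) : Scheme.{u}),
        e ≫ (RelProj.domQ uh pC' chartC').ι = Spec.map (CommRingCat.ofHom ρ) ≫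
          Proj.awayι (𝒮h'.deg (U' x) (hU' x)) t ht one_pos ≫ RelProj.emb pC' chartC' (U' x) (hU' x) →
        e ≫ Φh = Spec.map (u.appLE (U x) (U' x) (hle x)) ≫ Spec.map (CommRingCat.ofHom (hz.awayZToBase (U x) (hU x))) ≫
          Proj.awayι (𝒮h.deg (U x) (hU x)) zU (hz.deg_z (U x) (hU x)) one_pos ≫ RelProj.emb pC chartC (U x) (hU x) := by
    rintro _ ht ρ rfl hρ e he
    let j : Proj16.PairElt q 𝒮h := ⟨U x, hU x, U' x, hU' x, hle x, 1, one_pos, zU, hz.deg_z (U x) (hU x)⟩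
    have h1 : e = Spec.map (CommRingCat.ofHom ρ) ≫ Proj16.domChart chartC' uh j := by
      rw [← cancel_mono (RelProj.domQ uh pC' chartC').ι, Category.assoc, Proj16.domChart_ι, he]
    have h2 : Proj16.domChart chartC' uh j ≫ Φh = Proj16.locMor chartC χ one_pos zU (hz.deg_z (U x) (hU x)) :=
      hΦh (U x) (hU x) (U' x) (hU' x) (hle x) 1 one_pos zU (hz.deg_z (U x) (hU x)) _
    rw [h1, Category.assoc, h2, ← Spec.map_comp_assoc, ← Spec.map_comp_assoc]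
    congr 2
    refine CommRingCat.hom_ext (RingHom.ext fun w => ?_)
    obtain ⟨n, b, hb, rfl⟩ := w.mk_surjective (𝒮h.deg (U x) (hU x)) (hz.deg_z (U x) (hU x))
    show ρ (Away.map χ zU (Away.mk _ (hz.deg_z (U x) (hU x)) n b hb)) =
      (u.appLE (U x) (U' x) (hle x)).hom (hz.awayZToBase (U x) (hU x) (Away.mk _ (hz.deg_z (U x) (hU x)) n b hb))
    rw [hz.awayZToBase_of_val (U x) (hU x) _ b n (Away.val_mk _ _ _ _ _), Away.map_mk]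
    exact (hρ n _ _).trans (ConeX.evalOne_appLE hz hz' u uh huh huhz (hU x) (hU' x) (hle x) b)
  rw [← Category.assoc]
  exact main zU' (hz'.deg_z (U' x) (hU' x)) (hz'.awayZToBase (U' x) (hU' x)) hχ.symm
    (fun n b hb => hz'.awayZToBase_of_val (U' x) (hU' x) _ b n (Away.val_mk _ _ _ _ _))
    _ (by rw [Category.assoc, hi'', hi' (U' x) (hU' x)])

end Groth.Agent.S12157
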