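import Groth.Statements.S12158
import Groth.Agent.ConeX.ProjCone

set_option autoImplicit false
set_option backward.isDefEq.respectTransparency false
set_option backward.isDefEq.respectTransparency.types false
universe u
open CategoryTheory CategoryTheory.Limits AlgebraicGeometry TopologicalSpace Opposite
open scoped HomogeneousIdeal
open Groth.Agent HomogeneousLocalization
noncomputable section
open EGA2

namespace Groth.Agent.S12158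

/-- Let q : Y' → Y be a morphism, φ : 𝒮 → q_*𝒮' a graded q-morphism of quasi-coherent positively graded
algebras with 𝒮_0 = O_Y, 𝒮'_0 = O_{Y'}, φ̂ : 𝒮[z] → q_*𝒮'[z] its extension with φ̂(z) = z, Ĉ =
Proj(𝒮[z]), Ĉ' = Proj(𝒮'[z]) the projective cones with pointed cones Ê, Ê', and Φ̂ = Proj(φ̂) :
G(φ̂) → Ĉ; let Proj(φ) : G(φ) → X = Proj(𝒮) be the morphism induced by φ on G(φ) ⊆ X' = Proj(𝒮'),
and j : X → Ĉ, j' : X' → Ĉ' the canonical closed immersions at infinity (Proj of the graded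
retractions 𝒮[z] → 𝒮, 𝒮'[z] → 𝒮' killing z). Then j'(G(φ)) ⊆ G(φ̂) and the square formed by Proj(φ),
j', j and Φ̂ commutes. -/
theorem result {Y Y' PC PC' : Scheme.{u}} (q : Y' ⟶ Y)
    (𝒮 : RelProj.QCGrAlg Y) (𝒮' : RelProj.QCGrAlg Y') (h0 : RelCone.StrZeroBij 𝒮) (h0' : RelCone.StrZeroBij 𝒮')
    (u : RelProj.QGrHom q 𝒮 𝒮')
    (𝒮h : RelProj.QCGrAlg Y) (ι : 𝒮.toQCAlg ⟶ 𝒮h.toQCAlg) (z : 𝒮h.presheaf.obj (op ⊤))
    (hz : RelCone.IsPolyOver 𝒮 𝒮h ι z)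
    (pC : PC ⟶ Y) (chartC : ∀ (U : Y.Opens) (hU : IsAffineOpen U), (((pC ⁻¹ᵁ U : PC.Opens) : Scheme.{u}) ≅ Proj (𝒮h.deg U hU)))
    (hC : RelProj.IsRelProj 𝒮h pC chartC)
    (𝒮h' : RelProj.QCGrAlg Y') (ι' : 𝒮'.toQCAlg ⟶ 𝒮h'.toQCAlg) (z' : 𝒮h'.presheaf.obj (op ⊤))
    (hz' : RelCone.IsPolyOver 𝒮' 𝒮h' ι' z')
    (pC' : PC' ⟶ Y') (chartC' : ∀ (U : Y'.Opens) (hU : IsAffineOpen U), (((pC' ⁻¹ᵁ U : PC'.Opens) : Scheme.{u}) ≅ Proj (𝒮h'.deg U hU)))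
    (hC' : RelProj.IsRelProj 𝒮h' pC' chartC')
    (uh : RelProj.QGrHom q 𝒮h 𝒮h')
    (huh : ∀ U : Y.Opens, ι.hom.app (op U) ≫ uh.app U = u.app U ≫ ι'.hom.app (op (q ⁻¹ᵁ U)))
    (huhz : (uh.app ⊤).hom z = RelCone.restrictTop 𝒮h' z' (q ⁻¹ᵁ ⊤))
    (Φh : ((RelProj.domQ uh pC' chartC' : PC'.Opens) : Scheme.{u}) ⟶ PC)
    (hΦh : RelProj.IsProjQMapOn uh pC chartC pC' chartC' (RelProj.domQ uh pC' chartC') Φh)
    {P P' : Scheme.{u}} (p : P ⟶ Y) (chart : ∀ (U : Y.Opens) (hU : IsAffineOpen U), (((p ⁻¹ᵁ U : P.Opens) : Scheme.{u}) ≅ Proj (𝒮.deg U hU)))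
    (hP : RelProj.IsRelProj 𝒮 p chart)
    (p' : P' ⟶ Y') (chart' : ∀ (U : Y'.Opens) (hU : IsAffineOpen U), (((p' ⁻¹ᵁ U : P'.Opens) : Scheme.{u}) ≅ Proj (𝒮'.deg U hU)))
    (hP' : RelProj.IsRelProj 𝒮' p' chart')
    (Φ : ((RelProj.domQ u p' chart' : P'.Opens) : Scheme.{u}) ⟶ P)
    (hΦ : RelProj.IsProjQMapOn u p chart p' chart' (RelProj.domQ u p' chart') Φ)
    (θ : 𝒮h.toQCAlg ⟶ 𝒮.toQCAlg) (hθ : RelProj.IsGradedHom θ) (hθι : ι ≫ θ = 𝟙 _)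
    (hθz : (θ.hom.app (op ⊤)).hom z = 0)
    (jX : P ⟶ PC) (hjX : RelProj.IsProjQMap (RelProj.QGrHom.ofHom θ hθ) pC chartC p chart jX)
    (θ' : 𝒮h'.toQCAlg ⟶ 𝒮'.toQCAlg) (hθ' : RelProj.IsGradedHom θ') (hθι' : ι' ≫ θ' = 𝟙 _)
    (hθz' : (θ'.hom.app (op ⊤)).hom z' = 0)
    (jX' : P' ⟶ PC') (hjX' : RelProj.IsProjQMap (RelProj.QGrHom.ofHom θ' hθ') pC' chartC' p' chart' jX')
    (T : Scheme.{u}) (d : T ⟶ ((RelProj.domQ u p' chart' : P'.Opens) : Scheme.{u}))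
    (e : T ⟶ ((RelProj.domQ uh pC' chartC' : PC'.Opens) : Scheme.{u}))
    (hde : d ≫ (RelProj.domQ u p' chart').ι ≫ jX' = e ≫ (RelProj.domQ uh pC' chartC').ι) :
    jX'.base '' ((RelProj.domQ u p' chart' : P'.Opens) : Set P') ⊆ ((RelProj.domQ uh pC' chartC' : PC'.Opens) : Set PC') ∧ e ≫ Φh = d ≫ Φ ≫ jX := by
  let vθ := RelProj.QGrHom.ofHom θ hθ
  let vθ' := RelProj.QGrHom.ofHom θ' hθ'
  let w := Proj16.compRight uh θ' hθ'
  have hθ1 : ∀ (U : Y.Opens) (a : 𝒮.presheaf.obj (op U)), (θ.hom.app (op U)).hom ((ι.hom.app (op U)).hom a) = a :=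
    fun U a => congr($(NatTrans.congr_app (congrArg RelSpec.QCAlg.Hom.hom hθι) (op U)).hom a)
  have hθ1' : ∀ (U : Y'.Opens) (a : 𝒮'.presheaf.obj (op U)), (θ'.hom.app (op U)).hom ((ι'.hom.app (op U)).hom a) = a :=
    fun U a => congr($(NatTrans.congr_app (congrArg RelSpec.QCAlg.Hom.hom hθι') (op U)).hom a)
  have hθ0 : ∀ U : Y.Opens, (θ.hom.app (op U)).hom (RelCone.restrictTop 𝒮h z U) = 0 := fun U => by
    show (𝒮h.presheaf.map (homOfLE le_top).op ≫ θ.hom.app (op U)).hom z = 0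
    rw [θ.hom.naturality, CommRingCat.comp_apply, hθz, map_zero]
  have hθ0' : ∀ U : Y'.Opens, (θ'.hom.app (op U)).hom (RelCone.restrictTop 𝒮h' z' U) = 0 := fun U => by
    show (𝒮h'.presheaf.map (homOfLE le_top).op ≫ θ'.hom.app (op U)).hom z' = 0
    rw [θ'.hom.naturality, CommRingCat.comp_apply, hθz', map_zero]
  have key : ∀ (U : Y.Opens) (_ : IsAffineOpen U) (U'' : Y'.Opens) (hle : U'' ≤ q ⁻¹ᵁ U) (x : 𝒮h.presheaf.obj (op U)),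
      (θ'.hom.app (op U'')).hom ((uh.appLE U U'' hle).hom x) = (u.appLE U U'' hle).hom ((θ.hom.app (op U)).hom x) := by
    intro U hU U'' hle x
    refine congrArg (fun k : 𝒮h.presheaf.obj (op U) →+* 𝒮'.presheaf.obj (op U'') => k x)
      (ConeX.hom_ext' hz U hU (F := (θ'.hom.app (op U'')).hom.comp (uh.appLE U U'' hle).hom)
        (G := (u.appLE U U'' hle).hom.comp (θ.hom.app (op U)).hom) (fun a => ?_) ?_)
    · simp only [RingHom.comp_apply]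
      rw [ConeX.appLE_ι u uh huh hle, hθ1', hθ1]
    · simp only [RingHom.comp_apply]
      rw [ConeX.appLE_z uh huhz hle, hθ0', hθ0, map_zero]
  have hwB := ConeX.compRight_eq uh θ' hθ'
  have hwA : ∀ (U : Y.Opens) (hU : IsAffineOpen U) (U₁ : Y.Opens) (hU₁ : IsAffineOpen U₁) (hle : U₁ ≤ (𝟙 Y) ⁻¹ᵁ U)
      (U'' : Y'.Opens) (hU'' : IsAffineOpen U'') (hle' : U'' ≤ q ⁻¹ᵁ U₁) (hle'' : U'' ≤ q ⁻¹ᵁ U)
      (x : 𝒮h.presheaf.obj (op U)),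
      w.gradedAt U hU U'' hU'' hle'' x = u.gradedAt U₁ hU₁ U'' hU'' hle' (vθ.gradedAt U hU U₁ hU₁ hle x) := by
    intro U hU U₁ hU₁ hle U'' hU'' hle' hle'' x
    show ((uh.app U ≫ θ'.hom.app (op (q ⁻¹ᵁ U))) ≫ 𝒮'.presheaf.map (homOfLE hle'').op).hom x =
      ((θ.hom.app (op U) ≫ 𝒮.presheaf.map (homOfLE hle).op) ≫ u.toQHom.appLE U₁ U'' hle').hom x
    rw [Category.assoc, ← θ'.hom.naturality, Category.assoc]
    refine Eq.trans (key U hU U'' hle'' x) ?_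
    exact congrArg (fun m => (θ.hom.app (op U) ≫ m).hom x) (u.toQHom.map_appLE (show U₁ ≤ U from hle) hle').symm
  obtain ⟨hθtop, hjX2⟩ := hjX
  obtain ⟨hθtop', hjX2'⟩ := hjX'
  have hj₀ := Proj16.isProjQMapOn_of_isProjQMap θ hθ hP (h := jX) ⟨hθtop, hjX2⟩
  have hj₀' := Proj16.isProjQMapOn_of_isProjQMap θ' hθ' hP' (h := jX') ⟨hθtop', hjX2'⟩
  obtain ⟨⟨rw', hrw, -⟩, -⟩ := Proj16.existsUnique_projQMapOn w hC hP'
  let j₀ := (RelProj.domQ vθ p chart).ι ≫ jX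
  let j₀' := (RelProj.domQ vθ' p' chart').ι ≫ jX'
  have hwd : RelProj.domQ u p' chart' ≤ RelProj.domQ w p' chart' := fun x hx =>
    Proj16.mem_domQ_comp vθ u w (Category.comp_id q) hwA hP hP' Φ hΦ (x := ⟨x, hx⟩) (by rw [hθtop]; trivial)
  refine ⟨?_, ?_⟩
  · rintro _ ⟨x, hx, rfl⟩
    exact Proj16.apply_mem_domQ uh vθ' w (Category.id_comp q) hwB hC hC' hP' Φh hΦh j₀' hj₀' rw' hrw
      (x := ⟨x, hθtop'.ge trivial⟩) (hwd hx)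
  · let c₀ : T ⟶ ((RelProj.domQ vθ p chart : P.Opens) : Scheme.{u}) :=
      IsOpenImmersion.lift (RelProj.domQ vθ p chart).ι (d ≫ Φ) (by rw [Scheme.Opens.range_ι, hθtop]; exact fun _ _ => trivial)
    have hc₀ : c₀ ≫ (RelProj.domQ vθ p chart).ι = d ≫ Φ := IsOpenImmersion.lift_fac _ _ _
    let a₀ : T ⟶ ((RelProj.domQ vθ' p' chart' : P'.Opens) : Scheme.{u}) :=
      IsOpenImmersion.lift (RelProj.domQ vθ' p' chart').ι (d ≫ (RelProj.domQ u p' chart').ι)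
        (by rw [Scheme.Opens.range_ι, hθtop']; exact fun _ _ => trivial)
    have ha₀ : a₀ ≫ (RelProj.domQ vθ' p' chart').ι = d ≫ (RelProj.domQ u p' chart').ι := IsOpenImmersion.lift_fac _ _ _
    let d₀ := d ≫ P'.homOfLE hwd
    have hd₀ : d₀ ≫ (RelProj.domQ w p' chart').ι = d ≫ (RelProj.domQ u p' chart').ι := by
      rw [Category.assoc, Scheme.homOfLE_ι]
    have e1 : c₀ ≫ j₀ = d₀ ≫ rw' :=
      Proj16.comp_eq vθ u w (Category.comp_id q) hwA hC hP hP' j₀ hj₀ Φ hΦ rw' hrw d c₀ d₀ hd₀ hc₀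
    have e2 : e ≫ Φh = d₀ ≫ rw' :=
      Proj16.comp_eq uh vθ' w (Category.id_comp q) hwB hC hC' hP' Φh hΦh j₀' hj₀' rw' hrw a₀ e d₀
        (hd₀.trans ha₀.symm) (by rw [reassoc_of% ha₀, hde])
    rw [e2, ← e1, reassoc_of% hc₀]

end Groth.Agent.S12158
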