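import Groth.Statements.S12193
import Groth.Agent.AlgSpDec.RedImage
import Groth.Agent.AlgSpLib.EtaleSmoothLocal
import Groth.Agent.AlgSpLib.WeakAssUnit

set_option autoImplicit false
universe u
open CategoryTheory CategoryTheory.Limits AlgebraicGeometry
open AlgSp

namespace Groth.Agent.S12193

set_option backward.isDefEq.respectTransparency false
set_option backward.isDefEq.respectTransparency.types false

/-- Let X be a reduced algebraic space over S, f : X → Y a morphism of algebraic spaces over S, and Z →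
Y the scheme theoretic image of f. Then forming the scheme theoretic image commutes with etale base
change: for every etale morphism V → Y of algebraic spaces and cartesian squares X ×_Y V, Z ×_Y V,
the closed subspace Z ×_Y V → V is the scheme theoretic image of X ×_Y V → V. -/
theorem result {S : Scheme.{u}} {X Y Z V XV ZV : AlgSp.Space S} (f : X ⟶ Y)
    (i : Z ⟶ Y) (hX : AlgSp.IsReducedSp X.obj) (hZ : AlgSp.IsSchImage f.hom i.hom) (b : V ⟶ Y)
    (hb : AlgSp.IsEtaleMor b.hom) (f₁ : XV ⟶ X) (fV : XV ⟶ V) (i₁ : ZV ⟶ Z) (iV : ZV ⟶ V)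
    (sqX : IsPullback f₁.hom fV.hom f.hom b.hom) (sqZ : IsPullback i₁.hom iV.hom i.hom b.hom) :
    AlgSp.IsSchImage fV.hom iV.hom := by
  have hred : ∀ {A B : AlgSp.Space S} (g : A.obj ⟶ B.obj), AlgSp.IsEtaleMor g → AlgSp.IsReducedSp B.obj →
      AlgSp.IsReducedSp A.obj := by
    intro A B g hg hB
    obtain ⟨W, a, ha, has⟩ := A.property.atlas
    exact ⟨W, a, ha, has, Groth.Agent.AlgSpDec.isReduced_chart hB (hg a ha)⟩
  have hZred := Groth.Agent.AlgSpDec.isRedInduced_of_schImage Y.property hX hZ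
  obtain ⟨hic, hrange, hZr⟩ := hZred
  have hopen : IsOpenMap (AlgSp.Points.map b.hom) := by
    obtain ⟨W, c, hc, hcs⟩ := V.property.atlas
    intro A hA
    have hsurj := Groth.Agent.AlgSpLib.surjective_ofPt hcs
    have h2 := Groth.Agent.AlgSpLib.isOpenMap_ofPt (hb c hc) _ (hA.preimage (AlgSp.Points.continuous_ofPt c))
    have e : AlgSp.Points.map b.hom '' A = AlgSp.Points.ofPt (c ≫ b.hom) '' (AlgSp.Points.ofPt c ⁻¹' A) := by
      ext y
      constructor
      · rintro ⟨v, hv, rfl⟩
        obtain ⟨w, rfl⟩ := hsurj v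
        exact ⟨w, hv, (AlgSp.Points.map_ofPt c b.hom w).symm⟩
      · rintro ⟨w, hw, rfl⟩
        exact ⟨_, hw, AlgSp.Points.map_ofPt c b.hom w⟩
    rw [e]
    exact h2
  have hXV : AlgSp.IsReducedSp XV.obj :=
    hred f₁.hom (Groth.Agent.AlgSpLib.isEtaleMor_of_isPullback sqX.flip V.property Y.property X.property hb) hX
  have hZV : AlgSp.IsReducedSp ZV.obj :=
    hred i₁.hom (Groth.Agent.AlgSpLib.isEtaleMor_of_isPullback sqZ.flip V.property Y.property Z.property hb) hZr
  have hiV : AlgSp.RepWith @IsClosedImmersion iV.hom := Groth.Agent.AlgSpLib.repWith_of_isPullback sqZ hic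
  have hpre : ∀ {A P : AlgSp.Space S} (g : A ⟶ Y) (g₁ : P ⟶ A) (gV : P ⟶ V),
      IsPullback g₁.hom gV.hom g.hom b.hom →
      Set.range (AlgSp.Points.map gV.hom) = AlgSp.Points.map b.hom ⁻¹' Set.range (AlgSp.Points.map g.hom) := by
    intro A P g g₁ gV sq
    ext v
    constructor
    · rintro ⟨p, rfl⟩
      exact ⟨AlgSp.Points.map g₁.hom p, by rw [← AlgSp.Points.map_comp, ← AlgSp.Points.map_comp, sq.w]⟩
    · rintro ⟨a, ha⟩
      obtain ⟨p, -, hp⟩ := Groth.Agent.AlgSpLib.exists_point_of_isPullback sq ha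
      exact ⟨p, hp⟩
  have hr : Set.range (AlgSp.Points.map iV.hom) = closure (Set.range (AlgSp.Points.map fV.hom)) := by
    rw [hpre i i₁ iV sqZ, hpre f f₁ fV sqX, hrange,
      hopen.preimage_closure_eq_closure_preimage (AlgSp.Points.continuous_map _)]
  refine ⟨hiV, Groth.Agent.AlgSpDec.exists_factor_reduced hXV fV.hom hiV (hr ▸ subset_closure),
    fun Z' i' hZ' hi' hf' => ?_⟩
  refine Groth.Agent.AlgSpDec.exists_factor_reduced hZV iV.hom hi' (hr ▸ closure_minimal ?_ ?_)
  · obtain ⟨f'', hf''⟩ := hf'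
    rintro _ ⟨x, rfl⟩
    exact ⟨AlgSp.Points.map f'' x, by rw [← AlgSp.Points.map_comp, hf'']⟩
  · exact (Groth.Agent.AlgSpPts.isClosedMap_map (Groth.Agent.AlgSpLib.repWith_mono
      (fun _ _ e (_ : IsClosedImmersion e) => inferInstanceAs (UniversallyClosed e)) _ hi')).isClosed_range

end Groth.Agent.S12193
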