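import Groth.Statements.S12195
import Groth.Agent.AlgSpLib.InfLocal

set_option autoImplicit false
universe u
open CategoryTheory CategoryTheory.Limits AlgebraicGeometry
open AlgSp

namespace Groth.Agent.S12195

/-- Let a : F ⟶ G be a representable, surjective and etale morphism of fppf sheaves on (Sch/S) and b : G
⟶ H a morphism such that a ≫ b is formally smooth. Consider a solid infinitesimal lifting square for
b: a square-zero thickening T = Spec (A/I) ⊂ T' = Spec A of affine schemes over S, a morphism T ⟶ G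
and a morphism T' ⟶ H making the square commute. Then for every point t of T' there exist an affine
scheme U', an etale morphism U' ⟶ T' whose image contains t, and a morphism U' ⟶ G lying over T' ⟶ H
whose restriction to T ×_{T'} U' agrees with the given T ⟶ G (stated for every scheme V mapping
compatibly to T and U'). (The published statement is for transformations of arbitrary presheaves of
sets on (Sch/S)_fppf; this row takes fppf sheaves, the case of algebraic spaces.) -/
theorem result {S : Scheme.{u}} {F G H : AlgSp.Sp S} (a : F ⟶ G)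
    (b : G ⟶ H) (ha : AlgSp.RepWith @Etale a) (ha' : AlgSp.RepWith @Surjective a)
    (hab : AlgSp.IsFormallySmoothMor (a ≫ b)) (sq : AlgSp.InfSq b) (t : ↥sq.ptT'.left) :
    ∃ (U' : Over S) (g : U' ⟶ sq.ptT') (l : (AlgSp.yon S).obj U' ⟶ G),
      IsAffine U'.left ∧ Etale g.left ∧ (∃ u : ↥U'.left, g.left u = t) ∧
        l ≫ b = (AlgSp.yon S).map g ≫ sq.bot ∧
          ∀ (V : Over S) (p : V ⟶ sq.ptT) (q : V ⟶ U'), p ≫ sq.j = q ≫ g →
            (AlgSp.yon S).map q ≫ l = (AlgSp.yon S).map p ≫ sq.top := by
  obtain ⟨ι, W, φ, het, hsurj, hlift⟩ := Groth.Agent.AlgSpLib.exists_local_lift ha ha' hab sq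
  obtain ⟨i, w, hw⟩ := hsurj t
  obtain ⟨V, r, hV, hr, v, hv⟩ : ∃ (V : AlgebraicGeometry.Scheme.{u}) (r : V ⟶ (W i).left),
      IsAffine V ∧ IsOpenImmersion r ∧ ∃ v, r v = w := by
    obtain ⟨j, v, hv⟩ := (W i).left.affineOpenCover.openCover.exists_eq w
    exact ⟨_, (W i).left.affineOpenCover.f j, inferInstance,
      (W i).left.affineOpenCover.openCover.map_prop j, v, hv⟩
  obtain ⟨x, hx, hxb⟩ := hlift i
  let e : Over.mk (r ≫ (W i).hom) ⟶ W i := Over.homMk r rfl
  have : Etale (φ i).left := het i
  refine ⟨_, e ≫ φ i, (AlgSp.yon S).map e ≫ x, hV, inferInstanceAs (Etale (r ≫ (φ i).left)),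
    ⟨v, ?_⟩, ?_, fun V' p q hpq => ?_⟩
  · show (r ≫ (φ i).left) v = t
    rw [Scheme.Hom.comp_apply, hv, hw]
  · rw [Category.assoc, hxb, Functor.map_comp, Category.assoc]
  · refine Groth.Agent.AlgSpLib.hom_ext_of_affines _ _ fun C c => ?_
    rw [← Category.assoc, ← Category.assoc, ← Category.assoc, ← Functor.map_comp, ← Functor.map_comp,
      ← Functor.map_comp]
    refine hx C _ _ _ ?_
    simp only [Category.assoc, hpq]

end Groth.Agent.S12195
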