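import Groth.Statements.S12199
import Groth.Agent.AlgSpDec.PointLocusInst
import Groth.Agent.AlgSpDec.QfLocus

set_option autoImplicit false
universe u
open CategoryTheory CategoryTheory.Limits AlgebraicGeometry MonoidalCategory MonObj
open AlgSp

namespace Groth.Agent.S12199

set_option backward.isDefEq.respectTransparency false
set_option backward.isDefEq.respectTransparency.types false

open AlgSp Groth.Agent.AlgSpLib Groth.Agent.AlgSpPts Groth.Agent.AlgSpDec

/-- Let B be an algebraic space over S and G a group algebraic space over B with unit section e : B → G,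
and suppose G is locally of finite type over B. Under this assumption, G → B is unramified exactly
when it is unramified at e(b) for every point b of |B|, and G → B is locally quasi-finite exactly
when it is quasi-finite at e(b) for every point b of |B|. Here 'unramified (resp. quasi-finite) at a
point' is the some-chart-diagram form: there are etale charts of G and B and a compatible morphism
of schemes which is unramified (resp. locally quasi-finite of finite type) on an open neighbourhood
of a point over e(b). -/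
theorem result (S : Scheme.{u}) (B : AlgSp.Sp S) (hB : AlgSp.IsAlgSpace B)
    (G : Over B) [GrpObj G] (hG : AlgSp.IsAlgSpace G.left) (hlft : AlgSp.LocP @LocallyOfFiniteType G.hom) :
    (AlgSp.LocP (@LocallyOfFiniteType ⊓ @FormallyUnramified) G.hom ↔
        ∀ b : AlgSp.Points B, AlgSp.HasAtMor
          (fun U _ h u => ∃ W : U.Opens, u ∈ W ∧ LocallyOfFiniteType (W.ι ≫ h) ∧ FormallyUnramified (W.ι ≫ h))
          G.hom (AlgSp.Points.map (η[G]).left b)) ∧
    (AlgSp.LocP (@LocallyQuasiFinite ⊓ @LocallyOfFiniteType) G.hom ↔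
        ∀ b : AlgSp.Points B, AlgSp.HasAtMor
          (fun U _ h u => ∃ W : U.Opens, u ∈ W ∧ LocallyQuasiFinite (W.ι ≫ h) ∧ LocallyOfFiniteType (W.ι ≫ h))
          G.hom (AlgSp.Points.map (η[G]).left b)) := by
  let Γ := GrpGroupoid.groupoid G
  have main : ∀ {Q : ∀ {X Y : Scheme.{u}}, (X ⟶ Y) → X → Prop} (_ : PointLocus.PtProp @Q)
      {P : MorphismProperty Scheme.{u}}
      (_ : ∀ {X Y : Scheme.{u}} (h : X ⟶ Y) [LocallyOfFiniteType h], P h ↔ ∀ x, Q h x),
      LocP P G.hom ↔ ∀ b : Points B, PointLocus.At @Q G.hom (Points.map (η[G]).left b) := by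
    intro Q hQ P hP
    rw [PointLocus.locP_iff hQ hP hG hB hlft]
    refine ⟨fun h b => h _, fun h x => (PointLocus.at_translate hQ Γ hG hB hlft x).2 ?_⟩
    rw [Points.map_comp]
    exact h _
  refine ⟨(main PointLocus.ptProp_unram (fun h _ => PointLocus.unram_iff_forall h)).trans (forall_congr' fun b => ?_),
    (main PointLocus.ptProp_lqf (fun h _ => PointLocus.lqf_iff_forall h)).trans (forall_congr' fun b => ?_)⟩
  · constructor
    · rintro ⟨U, V, a, b, h, u, ha, hb, w, hu, W, hW, h2⟩
      haveI : LocallyOfFiniteType h.left := hlft a b h ha hb w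
      exact ⟨U, V, a, b, h, u, ha, hb, w, hu, W, hW, inferInstance, h2⟩
    · rintro ⟨U, V, a, b, h, u, ha, hb, w, hu, W, hW, -, h2⟩
      exact ⟨U, V, a, b, h, u, ha, hb, w, hu, W, hW, h2⟩
  · refine ⟨fun hx => QfLocus.qf_of_fibreDim_zero hlft hx, ?_⟩
    rintro ⟨U, V, a, b, h, u, ha, hb, w, hu, O, huO, hOq, hOl⟩
    refine ⟨U, V, a, b, h, u, ha, hb, w, hu, ?_⟩
    haveI : LocallyOfFiniteType h.left := hlft a b h ha hb w
    have h1 := fibreDimAt_etale_comp O.ι h.left (⟨u, huO⟩ : O.toScheme)
    rw [fibreDimAt_eq_zero_of_lqf (O.ι ≫ h.left)] at h1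
    exact h1.symm

end Groth.Agent.S12199
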