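import Groth.Statements.S12210
import Groth.Agent.S2851
import Groth.Agent.ProConsLib.Image

set_option autoImplicit false
set_option backward.isDefEq.respectTransparency false
set_option backward.isDefEq.respectTransparency.types false
universe u
open CategoryTheory CategoryTheory.Limits AlgebraicGeometry
open Divisors

namespace Groth.Agent.S12210

/-- Let X be locally Noetherian and U an open subscheme whose inclusion is an affine morphism. If ξ is a
point outside U which is maximal under generization among points outside U (a generic point of an
irreducible component of the complement) and ξ lies in the closure of U, then the local ring of X at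
ξ has dimension exactly one. (The case X separated and U an affine open is the corresponding special
case, since then the inclusion of U is affine.) -/
theorem result (X : Scheme.{u}) [IsLocallyNoetherian X]
    (U : X.Opens) [IsAffineHom U.ι] (ξ : X) (hξ : ξ ∉ U) (hgen : ∀ y : X, y ∉ U → y ⤳ ξ → y = ξ)
    (hcl : ξ ∈ closure (U : Set X)) :
    ringKrullDim (X.presheaf.stalk ξ) = 1 := by
  haveI : QuasiCompact U.ι := inferInstance
  obtain ⟨z, -, hz⟩ := Groth.Agent.ProConsLib.exists_specializes_of_mem_closure_image_scheme
    (X := (U : Scheme.{u})) (E := Set.univ)
    (Groth.Agent.ProConsLib.isProConstructible_of_isLocallyClosed isOpen_univ.isLocallyClosed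
      fun V hV => by rw [Set.univ_inter]; exact hV.isCompact)
    U.ι (y := ξ) (by rwa [Set.image_univ, Scheme.Opens.range_ι])
  have hle := Groth.Agent.S2851.result X U ξ hξ hgen
  refine le_antisymm hle ?_
  by_contra hlt
  have h0 : Ring.KrullDimLE 0 (X.presheaf.stalk ξ) := by
    rw [Ring.krullDimLE_iff]
    have h1 := not_le.1 hlt
    generalize ringKrullDim (X.presheaf.stalk ξ) = d at h1 ⊢
    induction d with
    | bot => exact bot_le
    | coe d =>
      induction d with
      | top => exact absurd h1 (not_lt.2 (WithBot.coe_le_coe.2 le_top))
      | coe n =>
        have h2 : n < 1 := by exact_mod_cast h1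
        obtain rfl : n = 0 := by omega
        exact le_rfl
  have hmem : U.ι.base z ∈ Set.range (X.fromSpecStalk ξ).base := by
    rw [Scheme.range_fromSpecStalk]
    exact hz
  obtain ⟨q, hq⟩ := hmem
  have hqc : q = IsLocalRing.closedPoint (X.presheaf.stalk ξ) :=
    PrimeSpectrum.ext (IsLocalRing.eq_maximalIdeal (Ideal.IsPrime.isMaximal' q.2))
  rw [hqc, Scheme.fromSpecStalk_closedPoint] at hq
  apply hξ
  rw [hq]
  exact z.2

end Groth.Agent.S12210
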