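import Groth.Statements.S6007
import Groth.Prelude.Def_GmPts
import Groth.Agent.S5427
import Groth.Agent.H23.AMonFree

set_option autoImplicit false
universe u
open CategoryTheory AlgebraicGeometry MonoidalCategory CartesianMonoidalCategory MonObj GrpObj
open SGA1t

namespace Groth.Agent.S6007

section
set_option backward.isDefEq.respectTransparency.types false
theorem DSmap_comp' {M N P : Type} [AddCommGroup M] [AddCommGroup N] [AddCommGroup P] (S : Scheme.{u})
    (φ : M →+ N) (ψ : N →+ P) : Red.DSmap S ψ ≫ Red.DSmap S φ = Red.DSmap S (ψ.comp φ) := by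
  rw [Red.DSmap, Red.DSmap, Red.DSmap, ← Functor.map_comp]
  congr 1
  ext1
  simp only [Red.diagMap, Over.comp_left]
  change Spec.map _ ≫ Spec.map _ = Spec.map _
  rw [← Spec.map_comp]
  congr 1
  ext1
  exact RingHom.ext fun x => by
    induction x using MonoidAlgebra.induction_linear with
    | zero => simp
    | add a b ha hb => simp only [map_add, ha, hb]
    | single m c => simp

end

open CategoryTheory.Limits in
/-- For a scheme S and an integer n ≥ 1 the Kummer sequence 1 → μ_n → G_m → G_m → 1 over S is exact for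
the fpqc topology. Here G_m = D_S(Z), μ_n = D_S(Z/n) mapped into G_m by the diagonalisable-group
morphism induced by Z → Z/n, and G_m → G_m is the n-th power map, the character of D_S(Z) attached
to n; exactness means that both maps are homomorphisms with trivial composite, that (g, z) ↦ (g, gz)
identifies G_m ×_S μ_n with the fibre product of the n-th power map with itself, and that the n-th
power map acquires sections on the members of some fpqc covering family of its target. -/
theorem result {S : Scheme.{u}} (n : ℕ) (hn : 0 < n) :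
    NonAbH1.IsExactSeq Scheme.fpqcPrecoverage
      (Red.DSmap S (Int.castAddHom (ZMod n))) (Red.chi S (n : ℤ)) := by
  haveI : NeZero n := ⟨by omega⟩
  let u := Red.DSmap S (Int.castAddHom (ZMod n))
  let v : Red.Gm S ⟶ Red.Gm S := Red.chi S (n : ℤ)
  haveI hu : IsMonHom u := Groth.Agent.S5427.isMonHom_DSmap S _
  haveI hv : IsMonHom v := Groth.Agent.S5427.isMonHom_DSmap S _
  have hmonoD : ∀ {Z : Over S} (a b : Z ⟶ Red.DS S (ZMod n)), a ≫ u = b ≫ u → a = b := by
    intro Z a b h
    haveI : IsClosedImmersion u.left := Groth.Agent.S5427.isClosedImmersion_DSmap S _ ZMod.intCast_surjective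
    ext1
    exact (cancel_mono u.left).1 (congrArg Over.Hom.left h)
  have hcoord : ∀ {M : Type} [AddCommGroup M] (φ : ℤ →+ M) {T : Over S} (x : T ⟶ Red.DS S M),
      Red.gmFn (x ≫ Red.DSmap S φ) = (x.left ≫ pullback.fst (Red.diag (ULift.{u} ℤ) M).hom (GmPts.toBaseZ S)).appTop
        ((Scheme.ΓSpecIso (CommRingCat.of (MonoidAlgebra (ULift.{u} ℤ) (Multiplicative M)))).inv
          (MonoidAlgebra.single (Multiplicative.ofAdd (φ 1)) 1)) := by
    intro M _ φ T x
    have h1 : (x ≫ Red.DSmap S φ).left ≫ pullback.fst GmPts.GmZ.hom (GmPts.toBaseZ S) =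
        (x.left ≫ pullback.fst (Red.diag (ULift.{u} ℤ) M).hom (GmPts.toBaseZ S)) ≫ (Red.diagMap (ULift.{u} ℤ) φ).left := by
      rw [Over.comp_left, Category.assoc, Category.assoc]
      exact congrArg (x.left ≫ ·) (pullback.lift_fst _ _ _)
    unfold Red.gmFn
    rw [h1, Scheme.Hom.comp_appTop]
    refine congrArg (fun z => (x.left ≫ pullback.fst (Red.diag (ULift.{u} ℤ) M).hom (GmPts.toBaseZ S)).appTop z) ?_
    show (Spec.map (CommRingCat.ofHom _)).appTop (Red.gmCoord) = _
    rw [Red.gmCoord]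
    rw [← CommRingCat.comp_apply, ← Scheme.ΓSpecIso_inv_naturality, CommRingCat.comp_apply]
    refine congrArg (Scheme.ΓSpecIso _).inv ?_
    simp
  have hpow : ∀ {T : Over S} (t : T ⟶ Red.Gm S), GmPts.unitOfPt (t ≫ v) = GmPts.unitOfPt t ^ (n : ℤ) := by
    intro T t
    ext
    rw [GmPts.val_unitOfPt]
    refine (hcoord (zmultiplesHom ℤ (n : ℤ)) t).trans ?_
    simp only [zmultiplesHom_apply, one_smul]
    show GmPts.ringHomOfPt t (GmPts.tPow (n : ℤ)) = _
    rw [← GmPts.ringHomOfUnit_unitOfPt, GmPts.ringHomOfUnit_tPow]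
  have hker : ∀ {T : Over S} (t : T ⟶ Red.Gm S), t ≫ v = 1 → ∃ z : T ⟶ Red.DS S (ZMod n), z ≫ u = t := by
    intro T t ht
    have hw : GmPts.unitOfPt t ^ n = 1 := by
      rw [← zpow_natCast, ← hpow, ht, GmPts.unitOfPt_one]
    let χ : ZMod n →+ Additive (Γ(T.left, ⊤))ˣ :=
      ZMod.lift n ⟨zmultiplesHom _ (Additive.ofMul (GmPts.unitOfPt t)), by
        simp only [zmultiplesHom_apply, natCast_zsmul, ← ofMul_pow, hw, ofMul_one]⟩
    let ρ : MonoidAlgebra (ULift.{u} ℤ) (Multiplicative (ZMod n)) →+* Γ(T.left, ⊤) :=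
      MonoidAlgebra.liftNCRingHom ((Int.castRingHom _).comp (ULift.ringEquiv : ULift.{u} ℤ ≃+* ℤ).toRingHom)
        ((Units.coeHom _).comp (AddMonoidHom.toMultiplicativeLeft χ)) (fun _ _ => Commute.all _ _)
    let p := ΓSpec.adjunction.homEquiv T.left (Opposite.op (CommRingCat.of (MonoidAlgebra (ULift.{u} ℤ) (Multiplicative (ZMod n)))))
      (CommRingCat.ofHom ρ).op
    let z : T ⟶ Red.DS S (ZMod n) :=
      Over.homMk (pullback.lift p T.hom (specULiftZIsTerminal.hom_ext _ _)) (pullback.lift_snd _ _ _)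
    refine ⟨z, GmPts.gmFn_injective ?_⟩
    show Red.gmFn (z ≫ u) = Red.gmFn t
    rw [hcoord, show z.left ≫ pullback.fst _ _ = p from pullback.lift_fst _ _ _]
    refine (congrArg (fun k => k (MonoidAlgebra.single (Multiplicative.ofAdd (((1 : ℤ) : ZMod n))) 1))
      (ΓSpecIso_inv_ΓSpec_adjunction_homEquiv (CommRingCat.ofHom ρ))).trans ?_
    show ρ _ = _
    simp only [ρ, MonoidAlgebra.liftNCRingHom_single, map_one, _root_.one_mul, MonoidHom.comp_apply]
    show (((χ ((1 : ℤ) : ZMod n)).toMul : (Γ(T.left, ⊤))ˣ) : Γ(T.left, ⊤)) = _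
    simp only [χ, ZMod.lift_coe, zmultiplesHom_apply, one_smul]
    rfl
  have huv : u ≫ v = 1 := by
    refine GmPts.gmFn_injective ?_
    show Red.gmFn (u ≫ v) = Red.gmFn (1 : Red.DS S (ZMod n) ⟶ Red.Gm S)
    have : u ≫ v = 𝟙 _ ≫ Red.DSmap S ((Int.castAddHom (ZMod n)).comp (zmultiplesHom ℤ (n : ℤ))) := by
      rw [Category.id_comp]
      exact Groth.Agent.S6007.DSmap_comp' S _ _
    rw [this, hcoord, GmPts.gmFn_one]
    rw [show ((Int.castAddHom (ZMod n)).comp (zmultiplesHom ℤ (n : ℤ))) 1 = 0 by simp]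
    exact (congrArg _ (map_one _)).trans (map_one _)
  have hμ : (Red.Gm S ◁ u) ≫ μ[Red.Gm S] = fst (Red.Gm S) (Red.DS S (ZMod n)) * (snd _ _ ≫ u) := by
    rw [Hom.mul_def]
    congr 1
  have hw' : fst (Red.Gm S) (Red.DS S (ZMod n)) ≫ v = ((Red.Gm S ◁ u) ≫ μ[Red.Gm S]) ≫ v := by
    rw [hμ, MonObj.mul_comp, Category.assoc, huv, MonObj.comp_one, _root_.mul_one]
  have hdiv : ∀ {T : Over S} (a b : T ⟶ Red.Gm S), a ≫ v = b ≫ v → ∃ z : T ⟶ Red.DS S (ZMod n), z ≫ u = a⁻¹ * b :=
    fun a b h => hker _ (by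
      rw [MonObj.mul_comp (a⁻¹) b v]
      rw [GrpObj.inv_comp a v]
      rw [h, _root_.inv_mul_cancel])
  refine ⟨hu, hv, huv, ⟨⟨hw'⟩, ⟨PullbackCone.IsLimit.mk hw' (fun s => lift s.fst (hdiv s.fst s.snd s.condition).choose) (fun s => lift_fst _ _)
      (fun s => ?_) (fun s m h1 h2 => ?_)⟩⟩, ?_⟩
  · rw [hμ, MonObj.comp_mul, lift_fst, lift_snd_assoc, (hdiv s.fst s.snd s.condition).choose_spec, mul_inv_cancel_left]
  · refine CartesianMonoidalCategory.hom_ext _ _ (h1.trans (lift_fst _ _).symm) (hmonoD _ _ ?_)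
    rw [hμ, MonObj.comp_mul, h1] at h2
    rw [lift_snd, (hdiv s.fst s.snd s.condition).choose_spec, Category.assoc, ← h2, inv_mul_cancel_left]
  · refine ⟨Presieve.singleton v.left, ?_, fun S' f hf => ?_⟩
    · have hff := (flat_and_surjective_SpecMap_iff (CommRingCat.ofHom
        (MonoidAlgebra.mapDomainRingHom (ULift.{u} ℤ) (AddMonoidHom.toMultiplicative (zmultiplesHom ℤ (n : ℤ)))))).mpr
        (Groth.Agent.H23.AMonFree.faithfullyFlat (zmultiplesHom ℤ (n : ℤ)) (Int.divModEquiv n).symm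
          (fun a b z => by simp [Int.divModEquiv]; ring) (ULift.{u} ℤ))
      haveI : Flat v.left := MorphismProperty.baseChange_map (P := @Flat) _ _ hff.1
      haveI : Surjective v.left := MorphismProperty.baseChange_map (P := @Surjective) _ _ hff.2
      haveI : QuasiCompact v.left := MorphismProperty.baseChange_map (P := @QuasiCompact) _ _
        (inferInstanceAs (QuasiCompact (Spec.map (CommRingCat.ofHom _))))
      exact v.left.singleton_mem_fpqcPrecoverage
    · cases hf
      exact ⟨𝟙 _, Category.id_comp _⟩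

end Groth.Agent.S6007
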