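import Groth.Statements.S12213
import Groth.Agent.S6007
import Groth.Agent.H23.AMonFree

set_option autoImplicit false
universe u
open CategoryTheory AlgebraicGeometry MonoidalCategory CartesianMonoidalCategory MonObj GrpObj
open EtCoh

namespace Groth.Agent.S12213

/-- For a scheme S and an integer n ≥ 1 the Kummer sequence 1 → μ_n → G_m → G_m → 1 over S, the last map
being the n-th power, is a short exact sequence for the fppf topology. Here G_m = D_S(ℤ), μ_n =
D_S(ℤ/n) mapped into G_m by the morphism of diagonalisable groups induced by ℤ → ℤ/n, and exactness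
means: both maps are homomorphisms with trivial composite, (g, z) ↦ (g, gz) identifies G_m ×_S μ_n
with the fibre product of the n-th power map with itself, and the n-th power map acquires sections
on the members of some fppf covering family of its target. (For n = 0 the sequence is not exact; n ≥
1 is assumed.) -/
theorem result {S : Scheme.{u}} (n : ℕ) (hn : 0 < n) :
    NonAbH1.IsExactSeq Scheme.fppfPrecoverage
      (Red.DSmap S (Int.castAddHom (ZMod n))) (Red.chi S (n : ℤ)) := by
  obtain ⟨hu, hv, huv, hpb, -⟩ := Groth.Agent.S6007.result (S := S) n hn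
  refine ⟨hu, hv, huv, hpb, ?_⟩
  haveI : NeZero n := ⟨by omega⟩
  let R := MonoidAlgebra (ULift.{u} ℤ) (Multiplicative ℤ)
  let φ : R →+* R := MonoidAlgebra.mapDomainRingHom (ULift.{u} ℤ) (AddMonoidHom.toMultiplicative (zmultiplesHom ℤ (n : ℤ)))
  have hff := (flat_and_surjective_SpecMap_iff (CommRingCat.ofHom φ)).mpr
    (Groth.Agent.H23.AMonFree.faithfullyFlat (zmultiplesHom ℤ (n : ℤ)) (Int.divModEquiv n).symm
      (fun a b z => by simp [Int.divModEquiv]; ring) (ULift.{u} ℤ))
  haveI : IsNoetherianRing (ULift.{u} ℤ) :=
    isNoetherianRing_of_ringEquiv ℤ (ULift.ringEquiv : ULift.{u} ℤ ≃+* ℤ).symm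
  haveI : IsNoetherianRing R := Algebra.FiniteType.isNoetherianRing (ULift.{u} ℤ) R
  have hfp : φ.FinitePresentation := by
    refine RingHom.FinitePresentation.of_finiteType.mp (RingHom.FiniteType.of_comp_finiteType (f := algebraMap (ULift.{u} ℤ) R) ?_)
    have h : φ.comp (algebraMap (ULift.{u} ℤ) R) = algebraMap (ULift.{u} ℤ) R := RingHom.ext fun c => by
      simp [φ, R, MonoidAlgebra.coe_algebraMap]
    rw [h]
    exact RingHom.finiteType_algebraMap.mpr inferInstance
  let v : Red.Gm S ⟶ Red.Gm S := Red.chi S (n : ℤ)
  haveI : Flat v.left := MorphismProperty.baseChange_map (P := @Flat) _ _ hff.1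
  haveI : Surjective v.left := MorphismProperty.baseChange_map (P := @Surjective) _ _ hff.2
  haveI : LocallyOfFinitePresentation v.left := MorphismProperty.baseChange_map (P := @LocallyOfFinitePresentation) _ _
    ((HasRingHomProperty.Spec_iff (P := @LocallyOfFinitePresentation)).mpr hfp)
  refine ⟨Presieve.singleton v.left, v.left.singleton_mem_fppfPrecoverage, fun S' f hf => ?_⟩
  cases hf
  exact ⟨𝟙 _, Category.id_comp _⟩

end Groth.Agent.S12213
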