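import Groth.Statements.S1222
import Groth.Agent.FlatPure.Tfae
import Groth.Agent.S1224
import Mathlib.Tactic.TFAE

set_option autoImplicit false
attribute [-instance] CategoryTheory.catToReflQuiver
set_option backward.isDefEq.respectTransparency false
set_option backward.isDefEq.respectTransparency.types false
universe u
open FlatMor

namespace Groth.Agent.S1222

/-- Ring form, X = Spec B affine hence separated over Spec A: let B be a finite type A-algebra and N a
finite B-module such that for every prime p of A the fibre module of N over p has finite support.
Then the following are equivalent: N is pure relative to Spec A; the scheme-theoretic support of N,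
namely B modulo the annihilator of N, is finite over A; N is universally pure relative to Spec A. -/
theorem result {A B : Type u} [CommRing A] [CommRing B] [Algebra A B] [Algebra.FiniteType A B]
    (N : Type u) [AddCommGroup N] [Module B N] [Module A N] [IsScalarTower A B N] [Module.Finite B N]
    (hfin : ∀ (p : Ideal A) [p.IsPrime], (Module.support (p.Fiber B) (FlatCA.fiberMod p B N)).Finite) :
    [FlatCA.IsPure A B N, Module.Finite A (B ⧸ Module.annihilator B N), FlatCA.IsUnivPure A B N].TFAE := by
  tfae_have 1 → 2 := fun h => by
    let C := B ⧸ Module.annihilator B N
    have htor : Module.IsTorsionBySet B N (Module.annihilator B N : Set B) :=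
      fun n a => Module.mem_annihilator.1 a.2 n
    letI : Module C N := htor.module
    haveI : IsScalarTower B C N := htor.isScalarTower
    exact Groth.Agent.FlatPure.finite_support_of_isPure (C := C) Ideal.Quotient.mk_surjective Ideal.mk_ker hfin h
  tfae_have 2 → 3 := fun h => haveI := h; Groth.Agent.S1224.result N
  tfae_have 3 → 1 := fun h p _ => by
    intro A' B' N' _ _ _ _ _ _ _ _ _ _ _ _ _ _ f t' t _ _ P _ _ himp
    exact h p A' B' N' f t' t P himp
  tfae_finish

end Groth.Agent.S1222
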