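import Groth.Statements.S12221
import Groth.Agent.GradExt.Canon
import Groth.Agent.GradExt.FlatGr

set_option autoImplicit false
universe u
open CategoryTheory AlgebraicGeometry Opposite
open Algz

namespace Groth.Agent.S12221

/-- Let A be a Noetherian ring, I ⊆ 𝔞 ideals, U the complement of V(𝔞) in Spec A and (F_n) an object of
Coh(U, IO_U), indexed here from 0. Assume that for some Noetherian local ring R with maximal ideal 𝔪
and some ring map φ : R → A we have (1) I = 𝔪A, (2) for every point y of U lying in V(I) the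
completed stalk F_y^∧ is flat as an R-module (through R → A → O_{U,y} → O_{U,y}^∧), and (3) the
cohomology groups H^0(U, F_0), H^1(U, F_0) are finitely generated over A. Then (F_n) has a canonical
extension to Spec A. -/
theorem result (A : Type u) [CommRing A] [IsNoetherianRing A] (I 𝔞 : Ideal A) (hI𝔞 : I ≤ 𝔞)
    (G : ℕᵒᵖ ⥤ (↑(LocCoh.puncturedOpen A 𝔞) : Scheme.{u}).Modules) (hG : Formal.IsCohFormal I G)
    (R : Type u) [CommRing R] [IsNoetherianRing R] [IsLocalRing R] (φ : R →+* A)
    (h1 : I = Ideal.map φ (IsLocalRing.maximalIdeal R))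
    (h2 : ∀ (y : (↑(LocCoh.puncturedOpen A 𝔞) : Scheme.{u})), (LocCoh.puncturedOpen A 𝔞).ι.base y ∈ PrimeSpectrum.zeroLocus (R := A) I →
      letI : Module R ↥(Algz.hatStalk I G y) := Module.compHom ↥(Algz.hatStalk I G y)
        ((algebraMap ((↑(LocCoh.puncturedOpen A 𝔞) : Scheme.{u}).presheaf.stalk y) (Algz.hatRing I y)).comp ((Algz.toStalk A (↑(LocCoh.puncturedOpen A 𝔞) : Scheme.{u}) y).comp φ));
      Module.Flat R ↥(Algz.hatStalk I G y))
    (h3 : Module.Finite A (Coh.HH (↑(LocCoh.puncturedOpen A 𝔞) : Scheme.{u}) (G.obj (op 0)) 0) ∧ Module.Finite A (Coh.HH (↑(LocCoh.puncturedOpen A 𝔞) : Scheme.{u}) (G.obj (op 0)) 1)) :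
    Algz.CanonicallyExtends A I (LocCoh.puncturedOpen A 𝔞) G := by
  classical
  subst h1
  refine Groth.Agent.GradExt.canonicallyExtends_of_indep (J := Ideal.map φ (IsLocalRing.maximalIdeal R)) _ hG
    le_rfl (fun x _ => rfl) (fun n => ?_) h3.1 h3.2
  obtain ⟨s, b, hb, hbI⟩ := Groth.Agent.GradExt.exists_indep_gens_flat (R := R) (n + 1)
  refine ⟨s, fun j => φ (b j), ?_, fun x hx => ?_⟩
  · rw [← Ideal.map_pow, ← hb]
    exact ((Ideal.map_span φ (Set.range b)).trans (by rw [← Set.range_comp]; rfl)).symm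
  let I := Ideal.map φ (IsLocalRing.maximalIdeal R)
  let ψ := Groth.Agent.GradExt.hatHom (LocCoh.puncturedOpen A 𝔞) I x
  letI : Algebra R (Algz.hatRing I x) := (ψ.comp φ).toAlgebra
  letI : Module R ↥(Algz.hatStalk I G x) := Module.compHom _ (ψ.comp φ)
  haveI : IsScalarTower R (Algz.hatRing I x) ↥(Algz.hatStalk I G x) :=
    IsScalarTower.of_algebraMap_smul fun _ _ => rfl
  haveI : Module.Flat R ↥(Algz.hatStalk I G x) :=
    h2 x (show ((Ideal.map φ (IsLocalRing.maximalIdeal R) : Ideal A) : Set A) ⊆ _ from hx)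
  have hI : ∀ k, ((IsLocalRing.maximalIdeal R ^ k).map (algebraMap R (Algz.hatRing I x))) = I.map ψ ^ k := fun k => by
    rw [Ideal.map_pow, show I.map ψ = (IsLocalRing.maximalIdeal R).map (ψ.comp φ) from Ideal.map_map φ ψ]
    rfl
  intro w hw j
  have key := hbI ↥(Algz.hatStalk I G x) w ?_ j
  · rw [Ideal.map_id] at key
    have := (Ideal.smul_restrictScalars (IsLocalRing.maximalIdeal R)
      (⊤ : Submodule (Algz.hatRing I x) ↥(Algz.hatStalk I G x))).ge (by rwa [Submodule.restrictScalars_top])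
    rw [← pow_one (IsLocalRing.maximalIdeal R), hI, pow_one] at this
    exact this
  · rw [Ideal.map_id]
    have := (Ideal.smul_restrictScalars (IsLocalRing.maximalIdeal R ^ (n + 1 + 1))
      (⊤ : Submodule (Algz.hatRing I x) ↥(Algz.hatStalk I G x))).le
      (show _ ∈ Submodule.restrictScalars R _ by rw [hI]; exact hw)
    rw [Submodule.restrictScalars_top] at this
    exact this

end Groth.Agent.S12221
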