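import Groth.Statements.S12226
import Groth.Agent.ZClosLib.ClosedDepth
import Groth.Agent.ZClosLib.Local
import Groth.Agent.S1575

set_option autoImplicit false
set_option linter.style.haveILetI false
set_option backward.isDefEq.respectTransparency false
set_option backward.isDefEq.respectTransparency.types false
universe u
open CategoryTheory CategoryTheory.Limits AlgebraicGeometry TopologicalSpace
open LocCoh

namespace Groth.Agent.S12226

/-- Let j : U → X be the inclusion of an open subscheme of a Noetherian scheme X and F a coherent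
O_X-module such that F' = j_*(F|_U) is coherent. Then (a) for every point x of X outside U the stalk
F'_x has depth at least 2 over O_{X,x}, and (b) F → F' is the unique map with these properties: for
every coherent O_X-module G and every map φ : F → G whose restriction to U is an isomorphism and
such that depth(G_x) ≥ 2 for all x outside U, there is exactly one map ψ : G → F' whose composite
with φ is the canonical map F → j_*(F|_U), and this ψ is an isomorphism. (The compatibility of this
construction with flat base change is not part of this statement.) -/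
theorem result (X : Scheme.{u}) [IsNoetherian X] (U : X.Opens)
    (F : X.Modules) (hF : Coh.IsCoh F) (hF' : Coh.IsCoh ((Coh.push U.ι).obj (F.restrict U.ι))) :
    (∀ x : ↥X, x ∉ U → (2 : ℕ∞) ≤ LocCoh.depth (X.presheaf.stalk x)
        (((Coh.push U.ι).obj (F.restrict U.ι)).presheaf.stalk x)) ∧
    ∀ (G : X.Modules) (hG : Coh.IsCoh G) (φ : F ⟶ G),
      IsIso ((Scheme.Modules.restrictFunctor U.ι).map φ) →
      (∀ x : ↥X, x ∉ U → (2 : ℕ∞) ≤ LocCoh.depth (X.presheaf.stalk x) (G.presheaf.stalk x)) →
        (∃! ψ : G ⟶ (Coh.push U.ι).obj (F.restrict U.ι),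
            φ ≫ ψ = (Scheme.Modules.restrictAdjunction U.ι).unit.app F) ∧
          ∀ ψ : G ⟶ (Coh.push U.ι).obj (F.restrict U.ι),
            φ ≫ ψ = (Scheme.Modules.restrictAdjunction U.ι).unit.app F → IsIso ψ := by
  have hU' : IsClosed ((U : Set X)ᶜ) := U.2.isClosed_compl
  let Z : Set X := (U : Set X)ᶜ
  have hZ : StableUnderSpecialization Z := hU'.stableUnderSpecialization
  refine ⟨fun x hx => ?_, fun G hG φ hφ hd => ?_⟩
  · have hcl : ZClos.IsZClosed Z ((Coh.push U.ι).obj (F.restrict U.ι)) := by
      refine Groth.Agent.ZClosLib.isZClosed_iff_forall_bijective.2 fun T V _ => ?_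
      have hTU : U ≤ T.U := fun y hy hyT => T.2 hyT hy
      refine Groth.Agent.ZClosLib.res_bijective_of_eq F (U.ι.image_mono (U.ι.preimage_mono inf_le_left)) ?_
      rw [ZClos.ι_image_preimage, ZClos.ι_image_preimage]
      exact le_inf inf_le_left (le_inf inf_le_right (inf_le_left.trans hTU))
    haveI : IsIso (ZClos.rhoApp Z ((Coh.push U.ι).obj (F.restrict U.ι))) := hcl
    have hat : ZClos.IsZClosedAt Z ((Coh.push U.ι).obj (F.restrict U.ι)) x := by
      haveI : IsIso (Scheme.Modules.Hom.mapPresheaf (ZClos.rhoApp Z ((Coh.push U.ι).obj (F.restrict U.ι)))) :=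
        Functor.map_isIso (Scheme.Modules.toPresheaf X) _
      exact ConcreteCategory.bijective_of_isIso ((TopCat.Presheaf.stalkFunctor Ab.{u} x).map
        (Scheme.Modules.Hom.mapPresheaf (ZClos.rhoApp Z ((Coh.push U.ι).obj (F.restrict U.ι)))))
    exact (Groth.Agent.ZClosLib.isZClosedAt_iff_depth hF' hZ x).1 hat x specializes_rfl hx
  · haveI := hφ
    haveI hη : IsIso ((Scheme.Modules.restrictAdjunction U.ι).unit.app G) := by
      refine Groth.Agent.ZClosLib.isIso_of_good (ZClos.resPushUnit U |>.app G) (fun _ => True)
        (fun V x hx => ⟨V, le_refl _, hx, trivial⟩) fun V _ => ?_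
      exact (Groth.Agent.ZClosLib.unit_app_bijective_iff U G V).2
        (Groth.Agent.S1575.result X G hG U hd V)
    let adj := Scheme.Modules.restrictAdjunction U.ι
    have key : ∀ ψ : G ⟶ (Coh.push U.ι).obj (F.restrict U.ι), φ ≫ ψ = adj.unit.app F ↔
        ψ = adj.unit.app G ≫ (Scheme.Modules.pushforward U.ι).map
          (inv ((Scheme.Modules.restrictFunctor U.ι).map φ)) := fun ψ => by
      refine Iff.trans ?_ (adj.homEquiv G (F.restrict U.ι)).symm.injective.eq_iff
      rw [show (adj.homEquiv G (F.restrict U.ι)).symm (adj.unit.app G ≫ (Scheme.Modules.pushforward U.ι).map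
          (inv ((Scheme.Modules.restrictFunctor U.ι).map φ))) = inv ((Scheme.Modules.restrictFunctor U.ι).map φ) from
        (adj.homEquiv G (F.restrict U.ι)).symm_apply_eq.2 (Adjunction.homEquiv_unit adj ..).symm,
        ← cancel_epi ((Scheme.Modules.restrictFunctor U.ι).map φ)
          (g := (adj.homEquiv G (F.restrict U.ι)).symm ψ),
        IsIso.hom_inv_id, ← Adjunction.homEquiv_naturality_left_symm,
        (adj.homEquiv F (F.restrict U.ι)).symm_apply_eq, Adjunction.homEquiv_unit]
      exact Iff.of_eq (congrArg (φ ≫ ψ = ·) (by exact ((congrArg (adj.unit.app F ≫ ·)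
        ((Scheme.Modules.pushforward U.ι).map_id _)).trans (Category.comp_id _)).symm))
    refine ⟨⟨_, (key _).2 rfl, fun ψ h => (key ψ).1 h⟩, fun ψ h => ?_⟩
    rw [(key ψ).1 h]
    exact IsIso.comp_isIso' hη inferInstance

end Groth.Agent.S12226
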