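import Groth.Statements.S1223
import Groth.Agent.RGLib.GeomIntegral

set_option autoImplicit false
universe u
open FlatMor TensorProduct

namespace Groth.Agent.S1223

attribute [local instance] Algebra.TensorProduct.rightAlgebra

/-- Ring form, X = Spec B affine: a finite type, flat A-algebra B with geometrically integral fibres is
universally pure relative to Spec A. -/
theorem result {A B : Type u} [CommRing A] [CommRing B] [Algebra A B] [Algebra.FiniteType A B] [Module.Flat A B]
    (h : FlatCA.GeomIntegralFibres A B) : FlatCA.IsUnivPure A B B := by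
  intro p _ A' B' N' _ _ _ _ _ _ _ _ _ _ _ _ _ _ f t' t _ _ P _ himp
  obtain ⟨hpo, hbc, hle, -, hP, hass, hno⟩ := himp
  haveI := hpo
  haveI : Algebra.IsPushout A A' B B' := Algebra.IsPushout.symm inferInstance
  have hdom : ∀ (q : Ideal A') [q.IsPrime], IsDomain (q.Fiber B') := by
    intro q _
    haveI := Groth.Agent.RGLib.isDomain_tensor_field h q.ResidueField
    exact ((Algebra.TensorProduct.congr (AlgEquiv.refl (R := A') (A₁ := q.ResidueField)) (Algebra.IsPushout.equiv A A' B B').symm).toRingEquiv.trans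
      (Algebra.TensorProduct.cancelBaseChange A A' A' q.ResidueField B).toRingEquiv).toMulEquiv.isDomain _
  haveI : Module.Flat A' B' :=
    Module.Flat.of_linearEquiv (Algebra.IsPushout.equiv A A' B B').symm.toLinearEquiv
  haveI := hdom t'
  haveI := hdom t
  let eN : N' ≃ₗ[B'] B' := hbc.equiv.symm.trans (TensorProduct.AlgebraTensorModule.rid B B' B')
  let e : FlatCA.fiberMod t' B' N' ≃ₗ[t'.Fiber B'] t'.Fiber B' :=
    (TensorProduct.AlgebraTensorModule.congr (LinearEquiv.refl (t'.Fiber B') (t'.Fiber B')) eN).trans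
      (TensorProduct.AlgebraTensorModule.rid B' (t'.Fiber B') (t'.Fiber B'))
  obtain ⟨hpr, x, hx⟩ := hass
  have hbot : FlatCA.fiberIdeal t' P = ⊥ := by
    rw [eq_bot_iff]
    intro a ha
    rw [hx] at ha
    obtain ⟨n, hn⟩ := ha
    rw [Submodule.mem_colon_singleton, Submodule.mem_bot] at hn
    have hne : e x ≠ 0 := fun h0 => hpr.ne_top ((Ideal.eq_top_iff_one _).2 (by
      rw [hx]
      refine ⟨1, ?_⟩
      rw [pow_one, Submodule.mem_colon_singleton, Submodule.mem_bot, e.map_eq_zero_iff.1 h0, smul_zero]))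
    have h1 := congrArg e hn
    rw [map_smul, map_zero, smul_eq_mul, mul_eq_zero] at h1
    exact (Submodule.mem_bot _).2 (eq_zero_of_pow_eq_zero (h1.resolve_right hne))
  have hPt : P ≤ t'.map (algebraMap A' B') := by
    intro b hb
    have h0 : algebraMap B' (t'.Fiber B') b ∈ FlatCA.fiberIdeal t' (⊥ : Ideal B') := by
      have : algebraMap B' (t'.Fiber B') b ∈ FlatCA.fiberIdeal t' P := Ideal.mem_map_of_mem _ hb
      rw [hbot] at this
      rw [FlatCA.fiberIdeal, Ideal.map_bot]
      exact this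
    obtain ⟨r, hr, hmem⟩ := Groth.Agent.RGLib.exists_mul_mem_sup_of_mem_fiberIdeal t' ⊥ h0
    rw [bot_sup_eq] at hmem
    have h2 := (Groth.Agent.AssFiber.isSMulRegular_quot t' (S := B') B' (s := algebraMap A' B' r) ⟨r, hr, rfl⟩).right_eq_zero_of_smul
      (x := Submodule.Quotient.mk b) (by
        rw [← Submodule.Quotient.mk_smul, Submodule.Quotient.mk_eq_zero, smul_eq_mul, Groth.Agent.AssFiber.pN, Ideal.smul_eq_mul, Ideal.mul_top]
        exact hmem)
    rwa [Submodule.Quotient.mk_eq_zero, Groth.Agent.AssFiber.pN, Ideal.smul_eq_mul, Ideal.mul_top] at h2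
  haveI : ((⊥ : Ideal (t.Fiber B')).comap (algebraMap B' (t.Fiber B'))).IsPrime := by
    haveI : (⊥ : Ideal (t.Fiber B')).IsPrime := Ideal.isPrime_bot
    exact Ideal.IsPrime.comap _
  refine hno ((⊥ : Ideal (t.Fiber B')).comap (algebraMap B' (t.Fiber B'))) (hPt.trans ?_) ⟨?_⟩
  · refine (Ideal.map_mono hle).trans (Ideal.map_le_iff_le_comap.2 fun a ha => ?_)
    haveI : (⊥ : Ideal (t.Fiber B')).IsPrime := Ideal.isPrime_bot
    have := (SetLike.ext_iff.1 (Groth.Agent.RGLib.comap_comap_fiber t (⊥ : Ideal (t.Fiber B'))) a).2 ha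
    exact this
  · haveI : (⊥ : Ideal (t.Fiber B')).IsPrime := Ideal.isPrime_bot
    exact (Groth.Agent.RGLib.comap_comap_fiber t (⊥ : Ideal (t.Fiber B'))).symm

end Groth.Agent.S1223
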