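import Groth.Statements.S12231
import Groth.Agent.FlatDevBC.Dim
import Groth.Agent.FlatClosed.Basic

set_option autoImplicit false
attribute [-instance] CategoryTheory.catToReflQuiver
set_option backward.isDefEq.respectTransparency false
set_option backward.isDefEq.respectTransparency.types false
universe u
open TensorProduct
open FlatMor

namespace Groth.Agent.S12231
open CategoryTheory AlgebraicGeometry

/-- All schemes are affine here, as in the ambient rendering of a one-step dévissage. Let R → S be a
ring map of finite type, N a finite S-module, p a prime of R and (C, D, G, n) a one-step dévissage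
of N/S/R over p — C a finitely presented quotient of S with a finite C-module G identified with N
over S, D an R-algebra smooth of relative dimension n with geometrically irreducible fibres and a
finite map D → C over R, n the dimension of the support of the fibre module of N over p. Let R → R'
be a ring map, p' a prime of R' over p, and let S', C', D' be the base changes of S, C, D to R'
(pushout squares, with the R'-algebra maps S' → C' ← D' induced from S → C ← D) and N' = N ⊗_S S',
G' = G ⊗_C C' (base-change maps f, g). Then (C', D', G', n) is a one-step dévissage of N'/S'/R' over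
p'. -/
theorem result
    (R S : Type u) [CommRing R] [CommRing S] [Algebra R S] [Algebra.FiniteType R S]
    (N : Type u) [AddCommGroup N] [Module S N] [Module R N] [IsScalarTower R S N] [Module.Finite S N]
    (p : Ideal R) [p.IsPrime]
    (C D G : Type u) [CommRing C] [CommRing D] [Algebra S C] [Algebra R C] [IsScalarTower R S C]
    [Algebra R D] [Algebra D C] [IsScalarTower R D C] [AddCommGroup G] [Module C G] [Module S G]
    [IsScalarTower S C G] (n : ℕ)
    (h : FlatCA.IsOneStepDevissage R S N p C D G n)
    (R' : Type u) [CommRing R'] [Algebra R R'] (p' : Ideal R') [p'.IsPrime] [p'.LiesOver p]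
    (S' C' D' : Type u) [CommRing S'] [CommRing C'] [CommRing D']
    [Algebra R' S'] [Algebra R S'] [Algebra S S'] [IsScalarTower R R' S'] [IsScalarTower R S S']
    [Algebra.IsPushout R R' S S']
    [Algebra R' C'] [Algebra R C'] [Algebra C C'] [IsScalarTower R R' C'] [IsScalarTower R C C']
    [Algebra.IsPushout R R' C C']
    [Algebra R' D'] [Algebra R D'] [Algebra D D'] [IsScalarTower R R' D'] [IsScalarTower R D D']
    [Algebra.IsPushout R R' D D']
    [Algebra S' C'] [IsScalarTower R' S' C'] [Algebra S C'] [IsScalarTower S S' C'] [IsScalarTower S C C']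
    [Algebra D' C'] [IsScalarTower R' D' C'] [Algebra D C'] [IsScalarTower D D' C'] [IsScalarTower D C C']
    (N' : Type u) [AddCommGroup N'] [Module S' N'] [Module R' N'] [IsScalarTower R' S' N']
    [Module S N'] [IsScalarTower S S' N'] (f : N →ₗ[S] N') (hf : IsBaseChange S' f)
    (G' : Type u) [AddCommGroup G'] [Module C' G'] [Module S' G'] [IsScalarTower S' C' G']
    [Module C G'] [IsScalarTower C C' G'] (g : G →ₗ[C] G') (hg : IsBaseChange C' g) :
    FlatCA.IsOneStepDevissage R' S' N' p' C' D' G' n := by
  obtain ⟨⟨e⟩, hsurj, hfp, hfin, hfinG, hsm, hgi, hdim⟩ := h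
  haveI := hfp
  haveI := hfin
  haveI := hfinG
  haveI : Algebra.IsPushout R S R' S' := Algebra.IsPushout.symm inferInstance
  haveI : Algebra.IsPushout R C R' C' := Algebra.IsPushout.symm inferInstance
  haveI : Algebra.IsPushout R D R' D' := Algebra.IsPushout.symm inferInstance
  haveI : Algebra.IsPushout S C S' C' := Groth.Agent.FlatClosed.isPushout_cancel R S C R' S' C'
  haveI : Algebra.IsPushout D C D' C' := Groth.Agent.FlatClosed.isPushout_cancel R D C R' D' C'
  haveI : Algebra.IsPushout S S' C C' := Algebra.IsPushout.symm inferInstance
  haveI : Algebra.IsPushout D D' C C' := Algebra.IsPushout.symm inferInstance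
  refine ⟨?_, ?_, ?_, ?_, ?_, ?_, ?_, ?_⟩
  · letI : Module S G' := Module.compHom G' (algebraMap S C')
    haveI : IsScalarTower S C' G' := IsScalarTower.of_algebraMap_smul fun _ _ => rfl
    haveI : IsScalarTower S S' G' := IsScalarTower.to₁₂₄ S S' C' G'
    haveI : IsScalarTower S C G' := IsScalarTower.to₁₂₄ S C C' G'
    have hG := Groth.Agent.FlatClosed.isBaseChange_restrict S S' C C' G G' g hg
    have hG' : IsBaseChange S' ((g.restrictScalars S).comp e.toLinearMap) :=
      IsBaseChange.of_equiv ((TensorProduct.AlgebraTensorModule.congr (LinearEquiv.refl S' S') e).trans hG.equiv)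
        (fun x => by simp [hG.equiv_tmul])
    exact ⟨hf.equiv.symm.trans hG'.equiv⟩
  · intro c
    obtain ⟨x, rfl⟩ := (Algebra.IsPushout.equiv S S' C C').surjective c
    induction x using TensorProduct.induction_on with
    | zero => exact ⟨0, by rw [map_zero, map_zero]⟩
    | tmul a b =>
      obtain ⟨s, rfl⟩ := hsurj b
      refine ⟨a * algebraMap S S' s, ?_⟩
      rw [Algebra.IsPushout.equiv_tmul, map_mul, ← IsScalarTower.algebraMap_apply S S' C',
        ← IsScalarTower.algebraMap_apply S C C']
    | add x y hx hy =>
      obtain ⟨a, ha⟩ := hx
      obtain ⟨b, hb⟩ := hy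
      exact ⟨a + b, by rw [map_add, map_add, ha, hb]⟩
  · exact Algebra.FinitePresentation.equiv (Algebra.IsPushout.equiv S S' C C')
  · exact Module.Finite.equiv (Algebra.IsPushout.equiv D D' C C').toLinearEquiv
  · exact Module.Finite.equiv hg.equiv
  · haveI := smoothOfRelativeDimension_isStableUnderBaseChange (n := n)
    have hp := isPullback_SpecMap_of_isPushout _ _ _ _
      (CommRingCat.isPushout_iff_isPushout.mpr (inferInstance : Algebra.IsPushout R D R' D'))
    exact MorphismProperty.of_isPullback (P := @SmoothOfRelativeDimension n) hp hsm
  · have hp := isPullback_SpecMap_of_isPushout _ _ _ _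
      (CommRingCat.isPushout_iff_isPushout.mpr (inferInstance : Algebra.IsPushout R D R' D'))
    exact MorphismProperty.of_isPullback (P := @GeometricallyIrreducible) hp hgi
  · haveI : Algebra.IsPushout R R' S S' := Algebra.IsPushout.symm inferInstance
    rw [Groth.Agent.FlatDevBC.supportDim_fiber_baseChange f hf p p']
    exact hdim

end Groth.Agent.S12231
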