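import Groth.Statements.S12233
import Mathlib
import Groth.Agent.LocalCrit.Flatness

set_option autoImplicit false
universe u
open scoped TensorProduct
open CAlg

namespace Groth.Agent.S12233

open TensorProduct

/-- Descent of an element of `N ⊗ M` to `(N ∩ K) ⊗ M` when `K ⊇ I F`. -/
theorem exists_mem_comap {R : Type u} [CommRing R] (I : Ideal R) (M : Type u) [AddCommGroup M] [Module R M]
    (hK : LocalCrit.KeepsInjective I M) {F : Type u} [AddCommGroup F] [Module R F] (N K : Submodule R F)
    (hIK : I • ⊤ ≤ K) (v : N ⊗[R] M) (hv : N.subtype.rTensor M v ∈ Set.range (K.subtype.rTensor M)) :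
    ∃ v', (K.comap N.subtype).subtype.rTensor M v' = v := by
  obtain ⟨w, hv⟩ := hv
  let g : (↥N ⧸ K.comap N.subtype) →ₗ[R] F ⧸ K := Submodule.mapQ _ _ N.subtype le_rfl
  have hg : Function.Injective g := by
    rw [← LinearMap.ker_eq_bot]
    simp [g, Submodule.ker_mapQ]
  have hT : Module.IsTorsionBySet R (F ⧸ K) I := by
    rintro y ⟨a, ha⟩
    obtain ⟨y, rfl⟩ := K.mkQ_surjective y
    rw [← map_smul, Submodule.mkQ_apply, Submodule.Quotient.mk_eq_zero]
    exact hIK (Submodule.smul_mem_smul ha Submodule.mem_top)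
  have hT' : Module.IsTorsionBySet R (↥N ⧸ K.comap N.subtype) I := fun y a =>
    hg (by rw [map_smul, map_zero]; exact @hT (g y) a)
  have h1 : (K.comap N.subtype).mkQ.rTensor M v = 0 := by
    apply hK g hT' hT hg
    rw [map_zero, ← LinearMap.comp_apply, ← LinearMap.rTensor_comp, Submodule.mapQ_mkQ,
      LinearMap.rTensor_comp, LinearMap.comp_apply, ← hv, ← LinearMap.comp_apply, ← LinearMap.rTensor_comp,
      show K.mkQ ∘ₗ K.subtype = 0 from LinearMap.ext fun x => (Submodule.Quotient.mk_eq_zero K).2 x.2,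
      LinearMap.rTensor_zero, LinearMap.zero_apply]
  exact (rTensor_exact M (LinearMap.exact_subtype_mkQ _) (Submodule.mkQ_surjective _) v).1 h1

/-- The kernel after tensoring with a flat module. -/
theorem exists_of_rTensor_eq_zero {R : Type u} [CommRing R] {X Y G : Type u} [AddCommGroup X] [Module R X]
    [AddCommGroup Y] [Module R Y] [AddCommGroup G] [Module R G] [Module.Flat R G] (u : X →ₗ[R] Y)
    (z : X ⊗[R] G) (hz : u.rTensor G z = 0) : ∃ t, (LinearMap.ker u).subtype.rTensor G t = z :=
  (Module.Flat.rTensor_exact G (LinearMap.exact_subtype_ker_map u) z).1 hz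

/-- Vanishing on the kernel after a flat base change. -/
theorem eq_zero_of_lTensor_eq_zero {T S' : Type u} [CommRing T] [CommRing S'] [Algebra T S'] [Module.Flat T S']
    {X Y Z : Type u} [AddCommGroup X] [Module T X] [AddCommGroup Y] [Module T Y] [AddCommGroup Z]
    (u : X →ₗ[T] Y) (Φ : S' ⊗[T] X →+ Z) (h : ∀ k, u k = 0 → ∀ s : S', Φ (s ⊗ₜ k) = 0)
    (z : S' ⊗[T] X) (hz : u.lTensor S' z = 0) : Φ z = 0 := by
  obtain ⟨z, rfl⟩ := (Module.Flat.lTensor_exact S' (LinearMap.exact_subtype_ker_map u) z).1 hz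
  clear hz
  induction z using TensorProduct.induction_on with
  | zero => simp
  | add a b ha hb => rw [map_add, map_add, ha, hb, add_zero]
  | tmul s k => exact h _ k.2 s

/-- Vanishing on the kernel of a base changed map after a flat base change. -/
theorem eq_zero_of_map_eq_zero {R T S' : Type u} [CommRing R] [CommRing T] [CommRing S'] [Algebra R T] [Algebra T S']
    [Module.Flat T S'] {P N N' Z : Type u} [AddCommGroup P] [Module R P] [Module T P] [IsScalarTower R T P]
    [AddCommGroup N] [Module R N] [AddCommGroup N'] [Module R N'] [AddCommGroup Z] (g : N →ₗ[R] N')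
    (Φ : S' ⊗[T] (P ⊗[R] N) →+ Z)
    (h : ∀ k, AlgebraTensorModule.map (LinearMap.id : P →ₗ[T] P) g k = 0 → ∀ s : S', Φ (s ⊗ₜ k) = 0)
    (z : S' ⊗[T] (P ⊗[R] N)) (hz : (AlgebraTensorModule.map (LinearMap.id : P →ₗ[T] P) g).lTensor S' z = 0) :
    Φ z = 0 :=
  eq_zero_of_lTensor_eq_zero _ Φ h z hz

/-- The kernel of `IR' ⊗ M → R' ⊗ M` is generated by that of `I ⊗ M → M` when `M ⧸ I M` is flat. -/
theorem mem_span_tor {R R' : Type u} [CommRing R] [CommRing R'] [Algebra R R'] (I : Ideal R) (M : Type u)
    [AddCommGroup M] [Module R M] (hK : LocalCrit.KeepsInjective I M)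
    (z : ↥(I.map (algebraMap R R')) ⊗[R] M)
    (hz : ((I.map (algebraMap R R')).subtype.restrictScalars R).rTensor M z = 0) :
    z ∈ Submodule.span R' ((Algebra.idealMap R' I).rTensor M ''
      (LinearMap.ker ((I.subtype).rTensor M) : Set (↥I ⊗[R] M))) := by
  classical
  obtain ⟨G, _, _, _, p, hp⟩ : ∃ (G : Type u) (_ : AddCommGroup G) (_ : Module R G) (_ : Module.Free R G)
      (p : G →ₗ[R] R'), Function.Surjective p :=
    ⟨R' →₀ R, inferInstance, inferInstance, inferInstance, Finsupp.linearCombination R (id : R' → R'),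
      Finsupp.linearCombination_id_surjective R R'⟩
  let IG : Submodule R G := I • ⊤
  have hmap : Submodule.map p IG = (I.map (algebraMap R R')).restrictScalars R := by
    rw [Submodule.map_smul'', Submodule.map_top, LinearMap.range_eq_top.2 hp, Ideal.smul_top_eq_map]
  let q : IG →ₗ[R] ↥(I.map (algebraMap R R')) :=
    { toFun := fun x => ⟨p x, hmap.le ⟨x, x.2, rfl⟩⟩
      map_add' := fun x y => Subtype.ext (map_add p _ _)
      map_smul' := fun a x => Subtype.ext (map_smul p a _) }
  have hqs : Function.Surjective q := fun y => by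
    obtain ⟨x, hx, hxy⟩ := hmap.ge y.2
    exact ⟨⟨x, hx⟩, Subtype.ext hxy⟩
  obtain ⟨w, rfl⟩ := LinearMap.rTensor_surjective M hqs z
  have hpq : ((I.map (algebraMap R R')).subtype.restrictScalars R) ∘ₗ q = p ∘ₗ IG.subtype := rfl
  rw [← LinearMap.comp_apply, ← LinearMap.rTensor_comp, hpq, LinearMap.rTensor_comp, LinearMap.comp_apply] at hz
  have hexp : Function.Exact (LinearMap.ker p).subtype p := LinearMap.exact_subtype_ker_map p
  obtain ⟨v, hv⟩ := (rTensor_exact (M := ↥(LinearMap.ker p)) (f := (LinearMap.ker p).subtype) (g := p) M hexp hp _).1 hz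
  let N : Submodule R G := LinearMap.ker p
  obtain ⟨v', hv'⟩ := exists_mem_comap I M hK N IG le_rfl v ⟨w, hv.symm⟩
  let j : ↥(IG.comap N.subtype) →ₗ[R] IG :=
    LinearMap.codRestrict IG (N.subtype ∘ₗ (IG.comap N.subtype).subtype) fun x => x.2
  have hqj : q ∘ₗ j = 0 := LinearMap.ext fun x => Subtype.ext (LinearMap.mem_ker.1 x.1.2)
  let σ₀ : ↥I ⊗[R] G →ₗ[R] IG :=
    LinearMap.codRestrict _ ((TensorProduct.lid R G).toLinearMap ∘ₗ I.subtype.rTensor G) (by
      intro x
      induction x using TensorProduct.induction_on with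
      | zero => simp
      | tmul a b =>
        simp only [LinearMap.comp_apply, LinearMap.rTensor_tmul, Submodule.subtype_apply,
          LinearEquiv.coe_coe, TensorProduct.lid_tmul]
        exact Submodule.smul_mem_smul a.2 Submodule.mem_top
      | add x y hx hy => rw [map_add]; exact add_mem hx hy)
  have hσ₀ : Function.Surjective σ₀ := by
    rintro ⟨x, hx⟩
    induction hx using Submodule.smul_induction_on' with
    | smul a ha y hy => exact ⟨(⟨a, ha⟩ : I) ⊗ₜ y, by ext; simp [σ₀]⟩
    | add x hx y hy hx' hy' =>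
      obtain ⟨a, ha⟩ := hx'; obtain ⟨b, hb⟩ := hy'
      exact ⟨a + b, by ext; simp [ha, hb]⟩
  let σ : (↥I ⊗[R] M) ⊗[R] G →ₗ[R] IG ⊗[R] M :=
    σ₀.rTensor M ∘ₗ (TensorProduct.rightComm R ↥I M G).toLinearMap
  have hσ : Function.Surjective σ :=
    (LinearMap.rTensor_surjective M hσ₀).comp (TensorProduct.rightComm R ↥I M G).surjective
  obtain ⟨w', hw'⟩ := hσ (w - j.rTensor M v')
  have hw0 : IG.subtype.rTensor M (σ w') = 0 := by
    rw [hw', map_sub, ← LinearMap.comp_apply (IG.subtype.rTensor M), ← LinearMap.rTensor_comp,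
      LinearMap.subtype_comp_codRestrict, LinearMap.rTensor_comp, LinearMap.comp_apply, hv', hv, sub_self]
  have hκ : IG.subtype.rTensor M ∘ₗ σ = (TensorProduct.comm R M G).toLinearMap ∘ₗ
      ((TensorProduct.lid R M).toLinearMap.rTensor G) ∘ₗ (I.subtype.rTensor M).rTensor G := by
    refine TensorProduct.ext_threefold fun a b m => ?_
    simp [σ, σ₀, smul_tmul]
  have hw1 : (I.subtype.rTensor M).rTensor G w' = 0 := by
    rw [← LinearMap.comp_apply (IG.subtype.rTensor M), hκ] at hw0
    simp only [LinearMap.comp_apply, LinearEquiv.coe_coe, LinearEquiv.map_eq_zero_iff] at hw0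
    exact ((TensorProduct.lid R M).rTensor G).map_eq_zero_iff.1 hw0
  obtain ⟨t, ht⟩ := exists_of_rTensor_eq_zero (I.subtype.rTensor M) w' hw1
  have hgen : ∀ (x : ↥I ⊗[R] M) (y : G),
      q.rTensor M (σ (x ⊗ₜ y)) = p y • (Algebra.idealMap R' I).rTensor M x := by
    intro x y
    induction x using TensorProduct.induction_on with
    | zero => simp
    | add a b ha hb => simp only [TensorProduct.add_tmul, map_add, ha, hb, smul_add]
    | tmul a m =>
      rw [LinearMap.rTensor_tmul, TensorProduct.smul_tmul']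
      show q (σ₀ (a ⊗ₜ y)) ⊗ₜ[R] m = _
      congr 1
      refine Subtype.ext ?_
      show p ((a : R) • y) = p y * algebraMap R R' (a : R)
      rw [map_smul, Algebra.smul_def, mul_comm]
  have hfin : q.rTensor M w = q.rTensor M (σ w') := by
    rw [hw', map_sub, ← LinearMap.comp_apply (q.rTensor M), ← LinearMap.rTensor_comp, hqj,
      LinearMap.rTensor_zero, LinearMap.zero_apply, sub_zero]
  rw [hfin, ← ht]
  clear ht hw1 hw0 hw' hfin
  induction t using TensorProduct.induction_on with
  | zero => simp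
  | add a b ha hb => simp only [map_add]; exact add_mem ha hb
  | tmul x y =>
    rw [LinearMap.rTensor_tmul, Submodule.subtype_apply, hgen]
    exact Submodule.smul_mem _ _ (Submodule.subset_span ⟨x, x.2, rfl⟩)

/-- Let R → S, R → R', S → S' and R' → S' be local homomorphisms of Noetherian local rings forming a
commutative square, I ⊊ R an ideal, M a finite S-module, I' = IR' and M' = M ⊗_S S' (given through a
base-change map f : M → M'). Assume (1) S' is a localization of S ⊗_R R' via the induced map, (2)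
M/IM is flat over R/I, and (3) the map Tor_1^R(M, R/I) → Tor_1^{R'}(M', R'/I') is zero — with
Tor_1(−, R/I) computed as the kernel of I ⊗_R M → M, this says that every element of that kernel
goes to zero under the natural map I ⊗_R M → I' ⊗_{R'} M'. Then M' is flat over R'. -/
theorem result
    (R S R' S' : Type u) [CommRing R] [CommRing S] [CommRing R'] [CommRing S']
    [IsLocalRing R] [IsLocalRing S] [IsLocalRing R'] [IsLocalRing S']
    [IsNoetherianRing R] [IsNoetherianRing S] [IsNoetherianRing R'] [IsNoetherianRing S']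
    [Algebra R S] [Algebra R R'] [Algebra S S'] [Algebra R' S'] [Algebra R S']
    [IsScalarTower R S S'] [IsScalarTower R R' S']
    [IsLocalHom (algebraMap R S)] [IsLocalHom (algebraMap R R')] [IsLocalHom (algebraMap S S')]
    [IsLocalHom (algebraMap R' S')]
    (I : Ideal R) (hI : I ≠ ⊤) (M : Type u) [AddCommGroup M] [Module S M] [Module R M] [IsScalarTower R S M]
    [Module.Finite S M]
    (M' : Type u) [AddCommGroup M'] [Module S' M'] [Module R' M'] [IsScalarTower R' S' M']
    [Module S M'] [IsScalarTower S S' M'] [Module R M'] [IsScalarTower R R' M'] [IsScalarTower R S M']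
    (f : M →ₗ[S] M') (hf : IsBaseChange S' f)
    (h1 : ∃ W : Submonoid (S ⊗[R] R'),
      letI : Algebra (S ⊗[R] R') S' :=
        (Algebra.TensorProduct.lift (IsScalarTower.toAlgHom R S S') (IsScalarTower.toAlgHom R R' S')
          (fun s r => Commute.all _ _)).toRingHom.toAlgebra;
      IsLocalization W S')
    (h2 : Module.Flat (R ⧸ I) ((R ⧸ I) ⊗[R] M))
    (h3 : ∀ x : ↥I ⊗[R] M, (Submodule.subtype I).rTensor M x = 0 →
      (TensorProduct.mapOfCompatibleSMul R' R R ↥(I.map (algebraMap R R')) M')
        ((TensorProduct.map (Algebra.idealMap R' I) (f.restrictScalars R)) x) = 0) :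
    Module.Flat R' M' := by
  classical
  obtain ⟨W, hW⟩ := h1
  letI : Algebra (S ⊗[R] R') S' :=
    (Algebra.TensorProduct.lift (IsScalarTower.toAlgHom R S S') (IsScalarTower.toAlgHom R R' S')
      (fun s r => Commute.all _ _)).toRingHom.toAlgebra
  haveI := hW
  letI : Algebra R' (S ⊗[R] R') := Algebra.TensorProduct.rightAlgebra
  let T := S ⊗[R] R'
  have hT : ∀ (s : S) (a : R'), algebraMap T S' (s ⊗ₜ[R] a) = algebraMap S S' s * algebraMap R' S' a :=
    fun s a => Algebra.TensorProduct.lift_tmul _ _ _ s a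
  haveI : IsScalarTower S T S' := IsScalarTower.of_algebraMap_eq fun s => by
    rw [Algebra.TensorProduct.algebraMap_apply, Algebra.algebraMap_self, RingHom.id_apply, hT, map_one, mul_one]
  haveI : IsScalarTower R' T S' := IsScalarTower.of_algebraMap_eq fun a => by
    show algebraMap R' S' a = algebraMap T S' ((1 : S) ⊗ₜ[R] a)
    rw [hT, map_one, one_mul]
  haveI : Module.Flat T S' := IsLocalization.flat S' W
  haveI : Module.Finite S' M' := Module.Finite.equiv hf.equiv
  let I' := I.map (algebraMap R R')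
  -- `P = M ⊗_R R'`, of which `M'` is a localization
  let P := T ⊗[S] M
  let ε : P ≃ₗ[R'] R' ⊗[R] M := Algebra.IsPushout.cancelBaseChange R R' S T M
  let c : ∀ (N : Type u) [AddCommGroup N] [Module R N] [Module R' N] [IsScalarTower R R' N],
      P ⊗[R'] N ≃ₗ[R'] N ⊗[R] M := fun N _ _ _ _ =>
    (TensorProduct.comm R' P N).trans ((ε.lTensor N).trans
      (AlgebraTensorModule.cancelBaseChange R R' R' N M))
  have hc : ∀ (N : Type u) [AddCommGroup N] [Module R N] [Module R' N] [IsScalarTower R R' N] (m : M) (n : N),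
      c N (((1 : T) ⊗ₜ[S] m) ⊗ₜ[R'] n) = n ⊗ₜ[R] m := fun N _ _ _ _ m n => by
    have := Algebra.IsPushout.cancelBaseChange_tmul R R' S T (M := M) m
    simp only [c, ε, LinearEquiv.trans_apply, TensorProduct.comm_tmul, LinearEquiv.lTensor_tmul]
    rw [this]
    simp
  let e : ∀ (N : Type u) [AddCommGroup N] [Module R' N], S' ⊗[T] (P ⊗[R'] N) ≃ₗ[R'] M' ⊗[R'] N := fun N _ _ =>
    ((AlgebraTensorModule.assoc R' T S' S' P N).symm.restrictScalars R').trans
      (AlgebraTensorModule.congr
        (((AlgebraTensorModule.cancelBaseChange S T S' S' M).trans hf.equiv).restrictScalars R')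
        (LinearEquiv.refl R' N))
  have he1 : ∀ (N : Type u) [AddCommGroup N] [Module R' N] (s : S') (m : M) (n : N),
      e N (s ⊗ₜ[T] (((1 : T) ⊗ₜ[S] m) ⊗ₜ[R'] n)) = (s • f m) ⊗ₜ[R'] n := fun N _ _ s m n => by
    simp [e, IsBaseChange.equiv_tmul]
    erw [AlgebraTensorModule.cancelBaseChange_tmul, one_smul, hf.equiv_tmul]
  have hspan : ∀ p : P, p ∈ Submodule.span R' (Set.range fun m : M => (1 : T) ⊗ₜ[S] m) := by
    intro p
    induction p using TensorProduct.induction_on with
    | zero => exact zero_mem _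
    | add a b ha hb => exact add_mem ha hb
    | tmul t m =>
      induction t using TensorProduct.induction_on with
      | zero => rw [TensorProduct.zero_tmul]; exact zero_mem _
      | add a b ha hb => rw [TensorProduct.add_tmul]; exact add_mem ha hb
      | tmul s a =>
        have : (s ⊗ₜ[R] a : T) ⊗ₜ[S] m = a • ((1 : T) ⊗ₜ[S] (s • m)) := by
          rw [← TensorProduct.smul_tmul, TensorProduct.smul_tmul']
          congr 1
          rw [Algebra.smul_def, Algebra.smul_def]
          show s ⊗ₜ[R] a = ((1 : S) ⊗ₜ[R] a) * ((s ⊗ₜ[R] (1 : R')) * 1)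
          simp
        rw [this]
        exact Submodule.smul_mem _ _ (Submodule.subset_span ⟨_, rfl⟩)
  have hext : ∀ (N X : Type u) [AddCommGroup N] [Module R' N] [AddCommGroup X] [Module R' X]
      (φ ψ : P ⊗[R'] N →ₗ[R'] X),
      (∀ m n, φ (((1 : T) ⊗ₜ[S] m) ⊗ₜ[R'] n) = ψ (((1 : T) ⊗ₜ[S] m) ⊗ₜ[R'] n)) → φ = ψ := by
    intro N X _ _ _ _ φ ψ h
    refine TensorProduct.ext' fun p n => ?_
    exact LinearMap.eqOn_span (f := φ ∘ₗ (TensorProduct.mk R' P N).flip n)
      (g := ψ ∘ₗ (TensorProduct.mk R' P N).flip n) (by rintro _ ⟨m, rfl⟩; exact h m n) (hspan p)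
  have he : ∀ {N N' : Type u} [AddCommGroup N] [Module R' N] [AddCommGroup N'] [Module R' N']
      (g : N →ₗ[R'] N') z, g.lTensor M' (e N z) =
        e N' ((AlgebraTensorModule.map (LinearMap.id : P →ₗ[T] P) g).lTensor S' z) := by
    intro N N' _ _ _ _ g z
    induction z using TensorProduct.induction_on with
    | zero => simp
    | add a b ha hb => simp only [map_add, ha, hb]
    | tmul s w =>
      have := hext N (M' ⊗[R'] N')
        (g.lTensor M' ∘ₗ (e N).toLinearMap ∘ₗ ((TensorProduct.mk T S' (P ⊗[R'] N) s).restrictScalars R'))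
        ((e N').toLinearMap ∘ₗ ((TensorProduct.mk T S' (P ⊗[R'] N') s).restrictScalars R') ∘ₗ g.lTensor P)
        (fun m n => by simp [he1])
      exact LinearMap.congr_fun this w
  -- tensoring with `P` keeps injectivity over `I'`
  have hKM : LocalCrit.KeepsInjective I M := @LocalCrit.keepsInjective_of_flat R _ I M _ _ h2
  have hK : LocalCrit.KeepsInjective I' M' := by
    intro N N' _ _ _ _ g hN hN' hg
    letI : Module R N := Module.compHom N (algebraMap R R')
    letI : Module R N' := Module.compHom N' (algebraMap R R')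
    haveI : IsScalarTower R R' N := IsScalarTower.of_compHom R R' N
    haveI : IsScalarTower R R' N' := IsScalarTower.of_compHom R R' N'
    have hN₀ : Module.IsTorsionBySet R N I := fun x a => by
      show ((a : R)) • x = 0
      rw [← algebraMap_smul R' (a : R) x]
      exact @hN x ⟨_, Ideal.mem_map_of_mem _ a.2⟩
    have hN₀' : Module.IsTorsionBySet R N' I := fun x a => by
      show ((a : R)) • x = 0
      rw [← algebraMap_smul R' (a : R) x]
      exact @hN' x ⟨_, Ideal.mem_map_of_mem _ a.2⟩
    have hinj : Function.Injective ((g.restrictScalars R).rTensor M) := hKM _ hN₀ hN₀' hg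
    have hcg : ∀ z, (g.restrictScalars R).rTensor M (c N z) = c N' (g.lTensor P z) := by
      intro z
      have := hext N (N' ⊗[R] M) (AlgebraTensorModule.map g (LinearMap.id : M →ₗ[R] M) ∘ₗ (c N).toLinearMap)
        ((c N').toLinearMap ∘ₗ g.lTensor P)
        (fun m n => by simp [hc])
      exact LinearMap.congr_fun this z
    have hP : Function.Injective (g.lTensor P) := fun a b hab =>
      (c N).injective (hinj (by
        have := congrArg (c N') hab
        rwa [← hcg, ← hcg] at this))
    have hS : Function.Injective ((AlgebraTensorModule.map (LinearMap.id : P →ₗ[T] P) g).lTensor S') :=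
      Module.Flat.lTensor_preserves_injective_linearMap _ hP
    rw [← LinearMap.lTensor_inj_iff_rTensor_inj]
    intro a b hab
    obtain ⟨a, rfl⟩ := (e N).surjective a
    obtain ⟨b, rfl⟩ := (e N).surjective b
    rw [he, he] at hab
    exact congrArg _ (hS ((e N').injective hab))
  -- the kernel of `I' ⊗ M' → M'`
  have hI' : Function.Injective ((I'.subtype).rTensor M') := by
    rw [← LinearMap.lTensor_inj_iff_rTensor_inj, ← LinearMap.ker_eq_bot, eq_bot_iff]
    intro y hy
    obtain ⟨z, rfl⟩ := (e I').surjective y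
    let u : P ⊗[R'] I' →ₗ[T] P ⊗[R'] R' := AlgebraTensorModule.map (LinearMap.id : P →ₗ[T] P) I'.subtype
    have hz : u.lTensor S' z = 0 := by
      refine (e R').injective ?_
      rw [← he, map_zero]
      exact hy
    rw [Submodule.mem_bot]
    suffices key : ∀ k : P ⊗[R'] I', u k = 0 → ∀ s : S', e I' (s ⊗ₜ[T] k) = 0 by
      let Φ : S' ⊗[T] (P ⊗[R'] I') →+ M' ⊗[R'] I' := AddMonoidHom.mk' (fun x => e I' x) fun a b => map_add (e I') a b
      exact eq_zero_of_map_eq_zero I'.subtype Φ key z hz
    intro k hk0 s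
    let Θ : I' ⊗[R] M →ₗ[R'] I' ⊗[R'] M' :=
      TensorProduct.mapOfCompatibleSMul R' R R' I' M' ∘ₗ
        AlgebraTensorModule.map (LinearMap.id : I' →ₗ[R'] I') (f.restrictScalars R)
    have hk : Θ (c I' k) = 0 := by
      have h0 : (I'.subtype.restrictScalars R).rTensor M (c I' k) = 0 := by
        have := hext I' (R' ⊗[R] M) (AlgebraTensorModule.map I'.subtype (LinearMap.id : M →ₗ[R] M) ∘ₗ (c I').toLinearMap)
          ((c R').toLinearMap ∘ₗ I'.subtype.lTensor P) (fun m n => by simp [hc])
        refine (LinearMap.congr_fun this k).trans ?_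
        show c R' (u k) = 0
        rw [hk0, map_zero]
      have hmem := mem_span_tor I M hKM _ h0
      refine LinearMap.mem_ker.1 ((Submodule.span_le (p := LinearMap.ker Θ)).2 ?_ hmem)
      rintro _ ⟨t, ht, rfl⟩
      refine LinearMap.mem_ker.2 (Eq.trans ?_ (h3 t (LinearMap.mem_ker.1 ht)))
      show TensorProduct.mapOfCompatibleSMul R' R R' I' M'
          (TensorProduct.map LinearMap.id (f.restrictScalars R) ((Algebra.idealMap R' I).rTensor M t)) =
        TensorProduct.mapOfCompatibleSMul R' R R I' M' _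
      rw [LinearMap.rTensor, ← LinearMap.comp_apply (TensorProduct.map _ _), ← TensorProduct.map_comp]
      rfl
    have hkey : ∀ x, e I' ((1 : S') ⊗ₜ[T] x) = TensorProduct.comm R' _ _ (Θ (c I' x)) := by
      intro x
      have := hext I' (M' ⊗[R'] I')
        ((e I').toLinearMap ∘ₗ ((TensorProduct.mk T S' (P ⊗[R'] I') 1).restrictScalars R'))
        ((TensorProduct.comm R' I' M').toLinearMap ∘ₗ Θ ∘ₗ (c I').toLinearMap)
        (fun m n => by simp [he1, hc, Θ])
      exact LinearMap.congr_fun this x
    have h1k : (1 : S') ⊗ₜ[T] k = 0 :=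
      (e I').injective (by rw [hkey, hk, map_zero, map_zero])
    have : s ⊗ₜ[T] k = s • ((1 : S') ⊗ₜ[T] k) := by
      rw [TensorProduct.smul_tmul', smul_eq_mul, mul_one]
    rw [this, h1k, smul_zero, map_zero]
  refine LocalCrit.flat_of_le_jacobson (B := S') I' ?_ hI' hK
  refine le_trans (Ideal.map_le_iff_le_comap.2 fun x hx => ?_) (IsLocalRing.maximalIdeal_le_jacobson _)
  intro hu
  have hx' : IsUnit x := isUnit_of_map_unit (algebraMap R' S') x hu
  have hle : I' ≤ IsLocalRing.maximalIdeal R' :=
    Ideal.map_le_iff_le_comap.2 fun a ha ha' => hI (I.eq_top_of_isUnit_mem ha (isUnit_of_map_unit _ a ha'))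
  exact (hle hx) hx'

end Groth.Agent.S12233
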