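import Groth.Statements.S12244
import Groth.Agent.FlatDevBC.At

set_option autoImplicit false
attribute [-instance] CategoryTheory.catToReflQuiver
set_option backward.isDefEq.respectTransparency false
set_option backward.isDefEq.respectTransparency.types false
universe u
open FlatMor

namespace Groth.Agent.S12244
open CategoryTheory AlgebraicGeometry

open TensorProduct in
/-- All schemes are affine. Let R → S be of finite type, N a finite S-module, p ⊆ R and q ⊆ S primes, 𝒟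
a complete dévissage of N/S/R over p in the prelude's algebraic form and 𝒜 a datum making it a
complete dévissage at q (primes qB_i ⊆ B_i over p with purely transcendental residue fields, unique
primes qA_i ⊆ A_i over them, threaded through q and through the maps B_i → A_{i+1}, relative
dimensions d_i of R → B_i equal to the local dimension of the fibre support of M_i at qB_i). Let R →
R' be a ring map and p' a prime over p with κ(p) → κ(p') bijective, S' the base change of S, N' = N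
⊗_S S', and q' a prime of S' over q and over p'. Let 𝒟' be a complete dévissage of N'/S'/R' over p'
of the same length whose rings A'_i, B'_i (i below the length) are base changes of A_i, B_i along R
→ R' compatibly with B_i → A_i, B_i → A_{i+1}, S → A_0 and S' → A'_0, and whose modules M'_i are
base changes of M_i along A_i → A'_i compatibly with N ≅ M_0 and N' ≅ M'_0. Assume moreover that at
every index at or beyond the length the ring B'_i has a prime over p' and A'_i a prime over that one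
(the structure's families run over all natural numbers and constrain nothing at those indices, while
a datum at a point asks for such primes at every index; the condition touches only this
unconstrained tail and holds, for instance, when the tail repeats the last genuine step — without it
the zero ring could sit there and no datum would exist). Then 𝒟' is a complete dévissage at q' with
the same relative dimensions: there is a datum 𝒜' for (𝒟', q') with d' = d whose primes qB'_i, qA'_i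
lie over qB_i, qA_i for every step i below the length. -/
theorem result
    (R S : Type u) [CommRing R] [CommRing S] [Algebra R S] [Algebra.FiniteType R S]
    (N : Type u) [AddCommGroup N] [Module S N] [Module.Finite S N]
    (p : Ideal R) [p.IsPrime] (q : Ideal S) [q.IsPrime] (𝒟 : FlatCA.CompleteDevissage R S N p)
    (𝒜 : FlatCA.CompleteDevissageAt R S N p q 𝒟)
    (R' : Type u) [CommRing R'] [Algebra R R'] (p' : Ideal R') [p'.IsPrime] [hp' : p'.LiesOver p]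
    (hκ : Function.Bijective (Ideal.ResidueField.mapₐ p p' (Algebra.ofId R R') hp'.over))
    (S' : Type u) [CommRing S'] [Algebra R' S'] [Algebra R S'] [Algebra S S'] [IsScalarTower R R' S']
    [IsScalarTower R S S'] [Algebra.IsPushout R R' S S']
    (N' : Type u) [AddCommGroup N'] [Module S' N'] [Module S N'] [IsScalarTower S S' N']
    (f : N →ₗ[S] N') (hf : IsBaseChange S' f)
    (q' : Ideal S') [q'.IsPrime] [q'.LiesOver q] [q'.LiesOver p']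
    (𝒟' : FlatCA.CompleteDevissage R' S' N' p') (hn : 𝒟'.n = 𝒟.n)
    (htail : ∀ i, 𝒟.n ≤ i → ∃ (Q : Ideal (𝒟'.B i)) (P : Ideal (𝒟'.A i)),
      Q.IsPrime ∧ P.IsPrime ∧ Q.LiesOver p' ∧ P.LiesOver Q)
    [aA : ∀ i : Fin 𝒟.n, Algebra (𝒟.A i) (𝒟'.A i)] [rA : ∀ i : Fin 𝒟.n, Algebra R (𝒟'.A i)]
      [∀ i : Fin 𝒟.n, IsScalarTower R (R') (𝒟'.A i)] [∀ i : Fin 𝒟.n, IsScalarTower R (𝒟.A i) (𝒟'.A i)]
      [aB : ∀ i : Fin 𝒟.n, Algebra (𝒟.B i) (𝒟'.B i)] [rB : ∀ i : Fin 𝒟.n, Algebra R (𝒟'.B i)]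
      [∀ i : Fin 𝒟.n, IsScalarTower R (R') (𝒟'.B i)] [∀ i : Fin 𝒟.n, IsScalarTower R (𝒟.B i) (𝒟'.B i)]
      [bA : ∀ i : Fin 𝒟.n, Algebra (𝒟.B i) (𝒟'.A i)] [∀ i : Fin 𝒟.n, IsScalarTower (𝒟.B i) (𝒟.A i) (𝒟'.A i)]
      [∀ i : Fin 𝒟.n, IsScalarTower (𝒟.B i) (𝒟'.B i) (𝒟'.A i)]
      [bA' : ∀ i : Fin 𝒟.n, Algebra (𝒟.B i) (𝒟'.A (i + 1))]
      [∀ i : Fin 𝒟.n, IsScalarTower (𝒟.B i) (𝒟'.B i) (𝒟'.A (i + 1))]
      [sA : Algebra S (𝒟'.A 0)] [IsScalarTower S (S') (𝒟'.A 0)]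
      [mA : ∀ i : Fin 𝒟.n, Module (𝒟.A i) (𝒟'.M i)] [∀ i : Fin 𝒟.n, IsScalarTower (𝒟.A i) (𝒟'.A i) (𝒟'.M i)]
      (gM : ∀ i : Fin 𝒟.n, 𝒟.M i →ₗ[𝒟.A i] 𝒟'.M i)
    (hbc : (letI := aA ⟨0, 𝒟.pos⟩; IsScalarTower S (𝒟.A 0) (𝒟'.A 0)) ∧
      (∀ x : N, 𝒟'.isoN (f x) = gM ⟨0, 𝒟.pos⟩ (𝒟.isoN x)) ∧
      (∀ (i : Fin 𝒟.n) (h : (i : ℕ) + 1 < 𝒟.n),
        letI := aA ⟨i + 1, h⟩; IsScalarTower (𝒟.B i) (𝒟.A (i + 1)) (𝒟'.A (i + 1))) ∧
      ∀ i : Fin 𝒟.n,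
        Algebra.IsPushout R R' (𝒟.A i) (𝒟'.A i) ∧ Algebra.IsPushout R R' (𝒟.B i) (𝒟'.B i) ∧
        IsBaseChange (𝒟'.A i) (gM i)) :
    ∃ 𝒜' : FlatCA.CompleteDevissageAt R' S' N' p' q' 𝒟', 𝒜'.d = 𝒜.d ∧
      ∀ i : Fin 𝒟.n, (𝒜'.qB i).LiesOver (𝒜.qB i) ∧ (𝒜'.qA i).LiesOver (𝒜.qA i) := by
  obtain ⟨h0, hiso, hstep, hpo⟩ := hbc
  haveI := 𝒜.hqA
  haveI := 𝒜.hqB
  haveI := 𝒜.overA
  haveI := 𝒜.overB
  haveI hpA : ∀ i : Fin 𝒟.n, Algebra.IsPushout R R' (𝒟.A i) (𝒟'.A i) := fun i => (hpo i).1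
  haveI hpB : ∀ i : Fin 𝒟.n, Algebra.IsPushout R R' (𝒟.B i) (𝒟'.B i) := fun i => (hpo i).2.1
  have hQ : ∀ i, ∃ (Q : Ideal (𝒟'.B i)) (P : Ideal (𝒟'.A i)), Q.IsPrime ∧ P.IsPrime ∧ Q.LiesOver p' ∧ P.LiesOver Q ∧
      ∀ h : i < 𝒟.n, (letI := aB ⟨i, h⟩; Q.LiesOver (𝒜.qB i)) ∧ (letI := aA ⟨i, h⟩; P.LiesOver (𝒜.qA i)) := by
    intro i
    by_cases h : i < 𝒟.n
    · obtain ⟨j, rfl⟩ : ∃ j : Fin 𝒟.n, (j : ℕ) = i := ⟨⟨i, h⟩, rfl⟩
      haveI : (𝒜.qA j).LiesOver p := Ideal.LiesOver.trans (𝒜.qA j) (𝒜.qB j) p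
      obtain ⟨Q, hQp, hQy, hQp'⟩ := Groth.Agent.FlatDevBC.exists_prime_over p p' hκ (T' := 𝒟'.B j) (𝒜.qB j)
      obtain ⟨P, hPp, hPy, hPp'⟩ := Groth.Agent.FlatDevBC.exists_prime_over p p' hκ (T' := 𝒟'.A j) (𝒜.qA j)
      haveI : (P.comap (algebraMap (𝒟'.B j) (𝒟'.A j))).LiesOver (𝒜.qB j) := ⟨by
        show 𝒜.qB j = (P.comap (algebraMap (𝒟'.B j) (𝒟'.A j))).comap (algebraMap (𝒟.B j) (𝒟'.B j))
        rw [Ideal.comap_comap, ← IsScalarTower.algebraMap_eq, IsScalarTower.algebraMap_eq (𝒟.B j) (𝒟.A j) (𝒟'.A j),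
          ← Ideal.comap_comap]
        exact (Ideal.LiesOver.over (p := 𝒜.qB j) (P := 𝒜.qA j)).trans
          (congrArg (Ideal.comap (algebraMap (𝒟.B j) (𝒟.A j))) hPy.over)⟩
      haveI : (P.comap (algebraMap (𝒟'.B j) (𝒟'.A j))).LiesOver p' := ⟨by
        show p' = (P.comap (algebraMap (𝒟'.B j) (𝒟'.A j))).comap (algebraMap R' (𝒟'.B j))
        rw [Ideal.comap_comap, ← IsScalarTower.algebraMap_eq]
        exact hPp'.over⟩
      exact ⟨Q, P, hQp, hPp, hQp', ⟨Groth.Agent.FlatDevBC.eq_of_liesOver p p' hκ (𝒜.qB j) Q _⟩, fun _ => ⟨hQy, hPy⟩⟩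
    · obtain ⟨Q, P, h1, h2, h3, h4⟩ := htail i (not_lt.1 h)
      exact ⟨Q, P, h1, h2, h3, h4, fun h' => absurd h' h⟩
  choose qB qA hqBp hqAp hqBo hqAo hqo using hQ
  haveI := hqBp
  haveI := hqAp
  haveI := hqBo
  haveI := hqAo
  haveI hoB : ∀ i : Fin 𝒟.n, (qB i).LiesOver (𝒜.qB i) := fun i => (hqo i i.2).1
  haveI hoA : ∀ i : Fin 𝒟.n, (qA i).LiesOver (𝒜.qA i) := fun i => (hqo i i.2).2
  haveI hoAp : ∀ i, (qA i).LiesOver p' := fun i => Ideal.LiesOver.trans (qA i) (qB i) p'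
  refine ⟨{ qB := qB, qA := qA, d := 𝒜.d, pureTrans := ?_, uniq := ?_, q0 := ?_, qStep := ?_,
            relDim := ?_, locDim := ?_ }, rfl, fun i => ⟨hoB i, hoA i⟩⟩
  · intro i hi
    obtain ⟨j, rfl⟩ : ∃ j : Fin 𝒟.n, (j : ℕ) = i := ⟨⟨i, hn ▸ hi⟩, rfl⟩
    exact Groth.Agent.FlatDevBC.purelyTranscendental_baseChange p p' hκ (𝒜.qB j) (qB j) (𝒜.pureTrans j j.2)
  · intro i hi Q _ hQ
    obtain ⟨j, rfl⟩ : ∃ j : Fin 𝒟.n, (j : ℕ) = i := ⟨⟨i, hn ▸ hi⟩, rfl⟩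
    haveI : (Q.comap (algebraMap (𝒟.A j) (𝒟'.A j))).LiesOver (𝒜.qB j) := ⟨by
      show 𝒜.qB j = (Q.comap (algebraMap (𝒟.A j) (𝒟'.A j))).comap (algebraMap (𝒟.B j) (𝒟.A j))
      rw [Ideal.comap_comap, ← IsScalarTower.algebraMap_eq, IsScalarTower.algebraMap_eq (𝒟.B j) (𝒟'.B j) (𝒟'.A j),
        ← Ideal.comap_comap]
      exact (hoB j).over.trans (congrArg (Ideal.comap (algebraMap (𝒟.B j) (𝒟'.B j))) hQ.over)⟩
    haveI : Q.LiesOver (𝒜.qA j) := ⟨(𝒜.uniq j j.2 _ inferInstance).symm⟩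
    haveI : Q.LiesOver p' := Ideal.LiesOver.trans Q (qB j) p'
    exact Groth.Agent.FlatDevBC.eq_of_liesOver p p' hκ (𝒜.qA j) Q (qA j)
  · haveI : ((qA 0).comap (algebraMap S' (𝒟'.A 0))).LiesOver q := ⟨by
      show q = ((qA 0).comap (algebraMap S' (𝒟'.A 0))).comap (algebraMap S S')
      rw [Ideal.comap_comap, ← IsScalarTower.algebraMap_eq]
      letI := aA ⟨0, 𝒟.pos⟩
      haveI := h0
      rw [IsScalarTower.algebraMap_eq S (𝒟.A 0) (𝒟'.A 0), ← Ideal.comap_comap]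
      exact 𝒜.q0.symm.trans (congrArg (Ideal.comap (algebraMap S (𝒟.A 0))) (hoA ⟨0, 𝒟.pos⟩).over)⟩
    haveI : ((qA 0).comap (algebraMap S' (𝒟'.A 0))).LiesOver p' := ⟨by
      show p' = ((qA 0).comap (algebraMap S' (𝒟'.A 0))).comap (algebraMap R' S')
      rw [Ideal.comap_comap, ← IsScalarTower.algebraMap_eq]
      exact (hoAp 0).over⟩
    exact Groth.Agent.FlatDevBC.eq_of_liesOver p p' hκ q _ q'
  · intro i hi
    obtain ⟨j, rfl⟩ : ∃ j : Fin 𝒟.n, (j : ℕ) = i := ⟨⟨i, by omega⟩, rfl⟩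
    have hj : (j : ℕ) + 1 < 𝒟.n := by omega
    letI := aA ⟨j + 1, hj⟩
    haveI := hstep j hj
    haveI : ((qA (j + 1)).comap (algebraMap (𝒟'.B j) (𝒟'.A (j + 1)))).LiesOver (𝒜.qB j) := ⟨by
      show 𝒜.qB j = ((qA (j + 1)).comap (algebraMap (𝒟'.B j) (𝒟'.A (j + 1)))).comap (algebraMap (𝒟.B j) (𝒟'.B j))
      rw [Ideal.comap_comap, ← IsScalarTower.algebraMap_eq, IsScalarTower.algebraMap_eq (𝒟.B j) (𝒟.A (j + 1)) (𝒟'.A (j + 1)),
        ← Ideal.comap_comap]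
      exact (𝒜.qStep j hj).symm.trans
        (congrArg (Ideal.comap (algebraMap (𝒟.B j) (𝒟.A (j + 1)))) (hoA ⟨j + 1, hj⟩).over)⟩
    haveI : ((qA (j + 1)).comap (algebraMap (𝒟'.B j) (𝒟'.A (j + 1)))).LiesOver p' := ⟨by
      show p' = ((qA (j + 1)).comap (algebraMap (𝒟'.B j) (𝒟'.A (j + 1)))).comap (algebraMap R' (𝒟'.B j))
      rw [Ideal.comap_comap, ← IsScalarTower.algebraMap_eq]
      exact (hoAp (j + 1)).over⟩
    exact Groth.Agent.FlatDevBC.eq_of_liesOver p p' hκ (𝒜.qB j) _ (qB j)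
  · intro i hi
    obtain ⟨j, rfl⟩ : ∃ j : Fin 𝒟.n, (j : ℕ) = i := ⟨⟨i, hn ▸ hi⟩, rfl⟩
    haveI := smoothOfRelativeDimension_isStableUnderBaseChange (n := 𝒜.d j)
    haveI : Algebra.IsPushout R (𝒟.B j) R' (𝒟'.B j) := Algebra.IsPushout.symm inferInstance
    have hp := isPullback_SpecMap_of_isPushout _ _ _ _
      (CommRingCat.isPushout_iff_isPushout.mpr (inferInstance : Algebra.IsPushout R (𝒟.B j) R' (𝒟'.B j)))
    exact MorphismProperty.of_isPullback (P := @SmoothOfRelativeDimension (𝒜.d j)) hp (𝒜.relDim j j.2)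
  · intro i hi
    obtain ⟨j, rfl⟩ : ∃ j : Fin 𝒟.n, (j : ℕ) = i := ⟨⟨i, hn ▸ hi⟩, rfl⟩
    haveI := 𝒟.finiteBA j j.2
    haveI := 𝒟.finiteM j j.2
    haveI : Module.Finite (𝒟.B j) (𝒟.M j) := Module.Finite.trans (𝒟.A j) (𝒟.M j)
    haveI : Algebra.IsPushout R (𝒟.B j) R' (𝒟'.B j) := Algebra.IsPushout.symm inferInstance
    haveI : Algebra.IsPushout R (𝒟.A j) R' (𝒟'.A j) := Algebra.IsPushout.symm inferInstance
    haveI : Algebra.IsPushout (𝒟.B j) (𝒟.A j) (𝒟'.B j) (𝒟'.A j) :=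
      Groth.Agent.FlatClosed.isPushout_cancel R (𝒟.B j) (𝒟.A j) R' (𝒟'.B j) (𝒟'.A j)
    haveI : Algebra.IsPushout (𝒟.B j) (𝒟'.B j) (𝒟.A j) (𝒟'.A j) := Algebra.IsPushout.symm inferInstance
    letI : Module (𝒟.B j) (𝒟'.M j) := Module.compHom _ (algebraMap (𝒟.B j) (𝒟'.A j))
    haveI : IsScalarTower (𝒟.B j) (𝒟'.A j) (𝒟'.M j) := IsScalarTower.of_algebraMap_smul fun _ _ => rfl
    haveI : IsScalarTower (𝒟.B j) (𝒟'.B j) (𝒟'.M j) := IsScalarTower.to₁₂₄ (𝒟.B j) (𝒟'.B j) (𝒟'.A j) (𝒟'.M j)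
    haveI : IsScalarTower (𝒟.B j) (𝒟.A j) (𝒟'.M j) := IsScalarTower.to₁₂₄ (𝒟.B j) (𝒟.A j) (𝒟'.A j) (𝒟'.M j)
    exact Groth.Agent.FlatDevBC.localDim_baseChange p p' hκ ((gM j).restrictScalars (𝒟.B j))
      (Groth.Agent.FlatClosed.isBaseChange_restrict (𝒟.B j) (𝒟'.B j) (𝒟.A j) (𝒟'.A j) (𝒟.M j) (𝒟'.M j) (gM j) (hpo j).2.2)
      (𝒜.qB j) (qB j) _ (𝒜.locDim j j.2)

end Groth.Agent.S12244
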