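import Groth.Statements.S12245
import Groth.Agent.OneStepEt.Nhd
import Groth.Agent.OneStepEt.Dim

set_option autoImplicit false
attribute [-instance] CategoryTheory.catToReflQuiver
set_option backward.isDefEq.respectTransparency false
set_option backward.isDefEq.respectTransparency.types false
universe u
open FlatMor

namespace Groth.Agent.S12245

open TensorProduct AlgebraicGeometry in
set_option maxHeartbeats 3200000 in
/-- All schemes are affine. Let R → S be of finite type, N a finite S-module, p ⊆ R and q ⊆ S primes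
with q over p, and (C, D, G, n; z, y) a one-step dévissage of N/S/R at q (one-step dévissage over p;
z a prime of C over q and over the prime y of D, unique over y; κ(y)/κ(p) purely transcendental;
local dimension of the fibre support at q equal to n). Let (R, p) → (R', p') and (D, y) → (D', y')
be elementary étale ring maps at those primes (étale, prime over prime, trivial residue field
extension) with D' an R'-algebra compatibly with D and R, and y' over p'. Then there are: an
elementary étale ring map (R', p') → (R'', p''); an R''-algebra D'' which is an affine open of the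
base change of D' to R'' (an open immersion on spectra out of a pushout T of D' along R' → R''),
compatibly with D' and R'', with a prime y'' over y' and over p''; the base change C'' of C along D
→ D'' with a prime z'' over z and y'' and the base change G'' of G to C''; an elementary étale ring
map (S, q) → (S'', q'') with S'' an R''-algebra compatibly with R → S and a surjection S'' → C''
compatible with S → C and with D'' → C'' over R'', z'' lying over q''; and the base change N'' of N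
to S'' — such that (C'', D'', G'', n; z'', y'') is a one-step dévissage of N''/S''/R'' at q''
(including the four pointed conditions). -/
theorem result
    (R S : Type u) [CommRing R] [CommRing S] [Algebra R S] [Algebra.FiniteType R S]
    (N : Type u) [AddCommGroup N] [Module S N] [Module R N] [IsScalarTower R S N] [Module.Finite S N]
    (p : Ideal R) [p.IsPrime] (q : Ideal S) [q.IsPrime] [q.LiesOver p]
    (C D G : Type u) [CommRing C] [CommRing D] [Algebra S C] [Algebra R C] [IsScalarTower R S C]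
    [Algebra R D] [Algebra D C] [IsScalarTower R D C] [AddCommGroup G] [Module C G] [Module S G]
    [IsScalarTower S C G] (n : ℕ)
    (h : FlatCA.IsOneStepDevissage R S N p C D G n)
    (z : Ideal C) [z.IsPrime] (y : Ideal D) [y.IsPrime] [z.LiesOver q] [z.LiesOver y] [y.LiesOver p]
    (h1 : ∃ (ξ : PrimeSpectrum (p.Fiber S)) (hξ : ξ ∈ Module.support (p.Fiber S) (FlatCA.fiberMod p S N)),
      ξ.asIdeal = FlatCA.fiberIdeal p q ∧
      FlatMor.localDim (Module.support (p.Fiber S) (FlatCA.fiberMod p S N)) ⟨ξ, hξ⟩ = n)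
    (h3 : ∀ (z₁ : Ideal C) [z₁.IsPrime], z₁.LiesOver y → z₁ = z)
    (h4 : FlatCA.PurelyTranscendental p y)
    (R' : Type u) [CommRing R'] [Algebra R R'] (p' : Ideal R') [p'.IsPrime] (hR' : FlatCA.IsEtaleNhd R R' p p')
    (D' : Type u) [CommRing D'] [Algebra D D'] [Algebra R' D'] [Algebra R D'] [IsScalarTower R R' D']
    [IsScalarTower R D D'] (y' : Ideal D') [y'.IsPrime] (hD' : FlatCA.IsEtaleNhd D D' y y') [y'.LiesOver p'] :
    ∃ (R'' : Type u) (_ : CommRing R'') (_ : Algebra R' R'') (_ : Algebra R R'') (_ : IsScalarTower R R' R'')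
      (p'' : Ideal R'') (_ : p''.IsPrime),
      FlatCA.IsEtaleNhd R' R'' p' p'' ∧
    ∃ (T : Type u) (_ : CommRing T) (_ : Algebra R' T) (_ : Algebra R'' T) (_ : Algebra D' T)
      (_ : IsScalarTower R' R'' T) (_ : IsScalarTower R' D' T),
      Algebra.IsPushout R' R'' D' T ∧
    ∃ (D'' : Type u) (_ : CommRing D'') (_ : Algebra T D'') (_ : Algebra D' D'') (_ : Algebra R'' D'')
      (_ : Algebra D D'') (_ : Algebra R D'') (_ : IsScalarTower D' T D'') (_ : IsScalarTower R'' T D'')
      (_ : IsScalarTower D D' D'') (_ : IsScalarTower R R'' D'') (_ : IsScalarTower R D D'')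
      (y'' : Ideal D'') (_ : y''.IsPrime) (_ : y''.LiesOver y') (_ : y''.LiesOver p''),
      IsOpenImmersion (Spec.map (CommRingCat.ofHom (algebraMap T D''))) ∧
    ∃ (C'' : Type u) (_ : CommRing C'') (_ : Algebra C C'') (_ : Algebra D'' C'') (_ : Algebra D C'')
      (_ : Algebra R'' C'') (_ : IsScalarTower D D'' C'') (_ : IsScalarTower D C C'') (_ : IsScalarTower R'' D'' C'')
      (z'' : Ideal C'') (_ : z''.IsPrime) (_ : z''.LiesOver z) (_ : z''.LiesOver y''),
      Algebra.IsPushout D D'' C C'' ∧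
    ∃ (G'' : Type u) (_ : AddCommGroup G'') (_ : Module C'' G'') (_ : Module C G'') (_ : IsScalarTower C C'' G'')
      (gG : G →ₗ[C] G''), IsBaseChange C'' gG ∧
    ∃ (S'' : Type u) (_ : CommRing S'') (_ : Algebra S S'') (_ : Algebra R'' S'') (_ : Algebra R S'')
      (_ : IsScalarTower R S S'') (_ : IsScalarTower R R'' S'') (q'' : Ideal S'') (_ : q''.IsPrime)
      (_ : Algebra S'' C'') (_ : Algebra S C'') (_ : IsScalarTower S S'' C'') (_ : IsScalarTower S C C'')
      (_ : IsScalarTower R'' S'' C'') (_ : Module S'' G'') (_ : IsScalarTower S'' C'' G''),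
      FlatCA.IsEtaleNhd S S'' q q'' ∧ z''.LiesOver q'' ∧
    ∃ (N'' : Type u) (_ : AddCommGroup N'') (_ : Module S'' N'') (_ : Module S N'') (_ : IsScalarTower S S'' N'')
      (_ : Module R'' N'') (_ : IsScalarTower R'' S'' N'') (gN : N →ₗ[S] N''), IsBaseChange S'' gN ∧
      FlatCA.IsOneStepDevissage R'' S'' N'' p'' C'' D'' G'' n ∧
      (∃ (ξ : PrimeSpectrum (p''.Fiber S'')) (hξ : ξ ∈ Module.support (p''.Fiber S'') (FlatCA.fiberMod p'' S'' N'')),
        ξ.asIdeal = FlatCA.fiberIdeal p'' q'' ∧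
        FlatMor.localDim (Module.support (p''.Fiber S'') (FlatCA.fiberMod p'' S'' N'')) ⟨ξ, hξ⟩ = n) ∧
      (∀ (z₂ : Ideal C'') [z₂.IsPrime], z₂.LiesOver y'' → z₂ = z'') ∧
      FlatCA.PurelyTranscendental p'' y'' := by
  open Groth.Agent.DevExist in
  obtain ⟨⟨eNG⟩, hsurj, hfpC, hfinC, hfinG, hrel, hgi, hdim⟩ := h
  haveI := hfpC; haveI := hfinC; haveI := hfinG
  have hR'2 := hR'
  obtain ⟨heR', hp', hκ'⟩ := hR'2
  have hD'2 := hD'
  obtain ⟨heD', hy', hκD⟩ := hD'2
  haveI := heR'; haveI := hp'; haveI := heD'; haveI := hy'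
  obtain ⟨R₃, _, _, p₃, _, hR₃, w, y₃, _, hy₃p, hwy, hT, hrel₃, hGI⟩ :=
    Groth.Agent.OneStepEt.exists_geomNhd n hrel p y h4 R' p' hR' D' y' hD'
  letI := Algebra.TensorProduct.rightAlgebra (R := R') (A := R₃) (B := D')
  let T := R₃ ⊗[R'] D'
  haveI : IsScalarTower R' D' T := Algebra.TensorProduct.right_isScalarTower
  letI : Algebra R R₃ := ((algebraMap R' R₃).comp (algebraMap R R')).toAlgebra
  haveI : IsScalarTower R R' R₃ := IsScalarTower.of_algebraMap_eq' rfl
  letI : Algebra D T := ((algebraMap D' T).comp (algebraMap D D')).toAlgebra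
  haveI : IsScalarTower D D' T := IsScalarTower.of_algebraMap_eq' rfl
  haveI : IsScalarTower R D T := IsScalarTower.of_algebraMap_eq fun r => by
    show algebraMap R R₃ r ⊗ₜ[R'] (1 : D') = (1 : R₃) ⊗ₜ[R'] algebraMap D D' (algebraMap R D r)
    rw [← IsScalarTower.algebraMap_apply R D D', IsScalarTower.algebraMap_apply R R' D',
      IsScalarTower.algebraMap_apply R R' R₃, Algebra.algebraMap_eq_smul_one (A := R₃),
      Algebra.algebraMap_eq_smul_one (A := D'), TensorProduct.smul_tmul]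
  have hR₃R : FlatCA.IsEtaleNhd R R₃ p p₃ := isEtaleNhd_trans (p₁ := p') hR' hR₃
  have hTD : FlatCA.IsEtaleNhd D T y y₃ := isEtaleNhd_trans (p₁ := y') hD' hT
  have hR₃2 := hR₃R
  obtain ⟨heR₃, hp₃, hκ₃⟩ := hR₃2
  have hT2 := hTD
  obtain ⟨heT, hy₃, hκT⟩ := hT2
  haveI := heR₃; haveI := hp₃; haveI := heT; haveI := hy₃; haveI := hy₃p
  haveI : y₃.LiesOver y' := hT.2.1
  haveI : Algebra.Smooth R₃ T := smooth_of_smoothRelDim n hrel₃
  -- the quotient
  let C₃ := T ⊗[D] C
  letI : Algebra C C₃ := Algebra.TensorProduct.rightAlgebra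
  haveI : IsScalarTower R C C₃ := IsScalarTower.of_algebraMap_eq fun r => by
    show (algebraMap R T r) ⊗ₜ[D] (1 : C) = (1 : T) ⊗ₜ[D] algebraMap R C r
    rw [IsScalarTower.algebraMap_apply R D T, IsScalarTower.algebraMap_apply R D C,
      Algebra.algebraMap_eq_smul_one (A := T), Algebra.algebraMap_eq_smul_one (A := C) (algebraMap R D r),
      TensorProduct.smul_tmul]
  haveI : IsScalarTower R₃ T C₃ := IsScalarTower.of_algebraMap_eq (R := R₃) (S := T) (A := C₃) fun _ => rfl
  haveI : IsScalarTower R R₃ C₃ := IsScalarTower.of_algebraMap_eq (R := R) (S := R₃) (A := C₃) fun r => by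
    show algebraMap R T r ⊗ₜ[D] (1 : C) = algebraMap R₃ T (algebraMap R R₃ r) ⊗ₜ[D] (1 : C)
    rw [← IsScalarTower.algebraMap_apply]
  haveI : IsScalarTower D C C₃ := IsScalarTower.of_algebraMap_eq fun b => by
    show (algebraMap D T b) ⊗ₜ[D] (1 : C) = (1 : T) ⊗ₜ[D] algebraMap D C b
    rw [Algebra.algebraMap_eq_smul_one (A := T), Algebra.algebraMap_eq_smul_one (A := C), TensorProduct.smul_tmul]
  haveI : Algebra.IsPushout D T C C₃ := TensorProduct.isPushout
  letI : Algebra S C₃ := ((algebraMap C C₃).comp (algebraMap S C)).toAlgebra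
  haveI : IsScalarTower S C C₃ := IsScalarTower.of_algebraMap_eq' rfl
  obtain ⟨z₃, hz₃, hz₃z, hz₃y⟩ := Groth.Agent.FlatDevBC.exists_prime_over (R := D) (R' := T) (T := C) (T' := C₃)
    y y₃ hκT z
  haveI := hz₃; haveI := hz₃z; haveI := hz₃y
  have huniq₃ : ∀ (Q : Ideal C₃) [Q.IsPrime], Q.LiesOver y₃ → Q = z₃ := fun Q _ hQ => by
    haveI := hQ
    haveI : Q.LiesOver z := ⟨by
      refine (h3 (Q.comap (algebraMap C C₃)) ⟨?_⟩).symm
      show y = (Q.comap (algebraMap C C₃)).comap (algebraMap D C)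
      rw [Ideal.comap_comap, ← IsScalarTower.algebraMap_eq, IsScalarTower.algebraMap_eq D T C₃,
        ← Ideal.comap_comap, show Q.comap (algebraMap T C₃) = y₃ from hQ.over.symm]
      exact hy₃.over⟩
    exact Groth.Agent.FlatDevBC.eq_of_liesOver (R := D) (R' := T) (T := C) (T' := C₃) y y₃ hκT z Q z₃
  haveI : Module.Finite T C₃ := inferInstanceAs (Module.Finite T (T ⊗[D] C))
  haveI : Algebra.IsIntegral T C₃ := Algebra.IsIntegral.of_finite T C₃
  haveI : Algebra.Etale C C₃ := etale_rightAlgebra D T C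
  obtain ⟨c, hcz, S₀, _, _, _, _, _, _, _, _, _, hS₀et, hS₀push⟩ := exists_lift_away R R₃ S C C₃ hsurj z₃
  haveI := hS₀et; haveI := hS₀push
  let Cc := Localization.Away c
  obtain ⟨e, d, hd, hcd⟩ := Groth.Agent.DevEtale.exists_dvd_of_unique y₃ z₃ huniq₃ c hcz
  -- shrinking
  let h₀ : T := w * d
  have hh : h₀ ∉ y₃ := fun hh' => (Ideal.IsPrime.mem_or_mem ‹y₃.IsPrime› hh').elim hwy hd
  let U : Set (PrimeSpectrum R₃) := PrimeSpectrum.comap (algebraMap R₃ T) '' (PrimeSpectrum.basicOpen h₀ : Set _)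
  have hU : IsOpen U :=
    PrimeSpectrum.isOpenMap_comap_of_hasGoingDown_of_finitePresentation _ (PrimeSpectrum.basicOpen h₀).isOpen
  obtain ⟨_, ⟨g₀, rfl⟩, hg₀, hsub⟩ := PrimeSpectrum.isTopologicalBasis_basic_opens.exists_subset_of_mem_open
    (show (⟨p₃, inferInstance⟩ : PrimeSpectrum R₃) ∈ U from
      ⟨⟨y₃, inferInstance⟩, hh, PrimeSpectrum.ext hy₃p.over.symm⟩) hU
  have hg₀ : g₀ ∉ p₃ := hg₀
  let g : R₃ := 1 * g₀
  have hg : g ∉ p₃ := by simpa [g] using hg₀
  let eT : T := h₀ * algebraMap R₃ T g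
  have heT' : eT ∉ y₃ := fun hh' =>
    (Ideal.IsPrime.mem_or_mem ‹y₃.IsPrime› hh').elim hh fun h' => hg (hy₃p.over.symm ▸ h')
  have hwe : w ∣ eT := (dvd_mul_right w d).trans (dvd_mul_right h₀ _)
  have hde : d ∣ eT := (dvd_mul_left d w).trans (dvd_mul_right h₀ _)
  let R₄ := Localization.Away g
  let T₄ := Localization.Away eT
  have hgT : IsUnit (((algebraMap T T₄).comp (algebraMap R₃ T)) g) :=
    isUnit_of_dvd_unit (map_dvd (algebraMap T T₄) (dvd_mul_left (algebraMap R₃ T g) h₀))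
      (IsLocalization.Away.algebraMap_isUnit eT)
  letI : Algebra R₄ T₄ := (IsLocalization.Away.lift g hgT).toAlgebra
  haveI : IsScalarTower R₃ R₄ T₄ := IsScalarTower.of_algebraMap_eq fun r => by
    show algebraMap R₃ T₄ r = IsLocalization.Away.lift g hgT (algebraMap R₃ R₄ r)
    rw [IsLocalization.Away.lift_eq, RingHom.comp_apply, ← IsScalarTower.algebraMap_apply]
  haveI : IsScalarTower R R₄ T₄ := IsScalarTower.of_algebraMap_eq fun r => by
    rw [IsScalarTower.algebraMap_apply R R₃ R₄, ← IsScalarTower.algebraMap_apply R₃ R₄ T₄,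
      ← IsScalarTower.algebraMap_apply R R₃ T₄]
  haveI : IsScalarTower R' R₄ T₄ := IsScalarTower.of_algebraMap_eq fun r => by
    rw [IsScalarTower.algebraMap_apply R' R₃ R₄, ← IsScalarTower.algebraMap_apply R₃ R₄ T₄,
      ← IsScalarTower.algebraMap_apply R' R₃ T₄]
  obtain ⟨hp₄0, hp₄p0⟩ := Groth.Agent.FlatDevLoc.isPrime_map_away (T' := R₄) g p₃ hg
  let p₄ : Ideal R₄ := p₃.map (algebraMap R₃ R₄)
  haveI : p₄.IsPrime := hp₄0
  haveI hp₄p : p₄.LiesOver p₃ := hp₄p0
  obtain ⟨hy₄0, hy₄y0⟩ := Groth.Agent.FlatDevLoc.isPrime_map_away (T' := T₄) eT y₃ heT'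
  let y₄ : Ideal T₄ := y₃.map (algebraMap T T₄)
  haveI : y₄.IsPrime := hy₄0
  haveI hy₄y : y₄.LiesOver y₃ := hy₄y0
  haveI : y₄.LiesOver p₄ := ⟨Groth.Agent.FlatDevLoc.eq_of_comap_away g _ _ (by
    show p₄.comap (algebraMap R₃ R₄) = (y₄.comap (algebraMap R₄ T₄)).comap (algebraMap R₃ R₄)
    rw [Ideal.comap_comap, ← IsScalarTower.algebraMap_eq, IsScalarTower.algebraMap_eq R₃ T T₄, ← Ideal.comap_comap,
      show y₄.comap (algebraMap T T₄) = y₃ from hy₄y.over.symm, show p₄.comap (algebraMap R₃ R₄) = p₃ from hp₄p.over.symm]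
    exact hy₃p.over)⟩
  haveI : y₄.LiesOver y' := Ideal.LiesOver.trans y₄ y₃ y'
  have hirr : FlatCA.GeomIrredFibres R₄ T₄ :=
    geomIrred_shrink w hGI 1 g₀ h₀ hsub hwe R₄ T₄
  have hrel₄ : FlatCA.SmoothRelDim n R₄ T₄ := Groth.Agent.FlatDevLoc.smoothRelDim_away g n hrel₃ eT
  have hR₄ : FlatCA.IsEtaleNhd R' R₄ p' p₄ := isEtaleNhd_trans (p₁ := p₃) hR₃ (isEtaleNhd_away R₄ g p₃ p₄)
  have hR₄R : FlatCA.IsEtaleNhd R R₄ p p₄ := isEtaleNhd_trans (p₁ := p₃) hR₃R (isEtaleNhd_away R₄ g p₃ p₄)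
  obtain ⟨heR₄, hp₄, hκ₄⟩ := hR₄R
  obtain ⟨heT₄, hy₄, hκy⟩ : FlatCA.IsEtaleNhd D T₄ y y₄ :=
    isEtaleNhd_trans (p₁ := y₃) hTD (isEtaleNhd_away T₄ eT y₃ y₄)
  haveI := heR₄; haveI := hp₄; haveI := heT₄; haveI := hy₄
  -- the open piece of the base change
  letI := Algebra.TensorProduct.rightAlgebra (R := R') (A := R₄) (B := D')
  let T₅ := R₄ ⊗[R'] D'
  haveI : IsScalarTower R' D' T₅ := Algebra.TensorProduct.right_isScalarTower
  haveI : IsScalarTower R' D' T₄ := IsScalarTower.of_algebraMap_eq fun r => by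
    rw [IsScalarTower.algebraMap_apply R' T T₄, IsScalarTower.algebraMap_apply R' D' T,
      ← IsScalarTower.algebraMap_apply D' T T₄]
  let π₄ : T₅ →ₐ[R₄] T₄ := Algebra.TensorProduct.lift (Algebra.ofId R₄ T₄) (IsScalarTower.toAlgHom R' D' T₄)
    fun _ _ => Commute.all _ _
  letI : Algebra T₅ T₄ := π₄.toRingHom.toAlgebra
  haveI : IsScalarTower R₄ T₅ T₄ := IsScalarTower.of_algebraMap_eq fun a => (π₄.commutes a).symm
  haveI : IsScalarTower D' T₅ T₄ := IsScalarTower.of_algebraMap_eq fun b => by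
    show algebraMap D' T₄ b = Algebra.TensorProduct.lift _ _ _ ((1 : R₄) ⊗ₜ[R'] b)
    rw [Algebra.TensorProduct.lift_tmul, map_one, one_mul]
    rfl
  have hopen : IsOpenImmersion (Spec.map (CommRingCat.ofHom (algebraMap T₅ T₄))) := by
    refine Groth.Agent.OneStepEt.isOpenImmersion_piece g eT (RingHom.ext fun t => ?_)
    induction t using TensorProduct.induction_on with
    | zero => simp
    | tmul a b =>
      show π₄ (Algebra.TensorProduct.map (IsScalarTower.toAlgHom R' R₃ R₄) (AlgHom.id R' D') (a ⊗ₜ[R'] b)) = _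
      rw [Algebra.TensorProduct.map_tmul, Algebra.TensorProduct.lift_tmul]
      show algebraMap R₄ T₄ (algebraMap R₃ R₄ a) * algebraMap D' T₄ b = algebraMap T T₄ (a ⊗ₜ[R'] b)
      rw [← IsScalarTower.algebraMap_apply R₃ R₄ T₄, IsScalarTower.algebraMap_apply R₃ T T₄,
        IsScalarTower.algebraMap_apply D' T T₄, ← map_mul]
      refine congrArg (algebraMap T T₄) ?_
      show (a ⊗ₜ[R'] (1 : D')) * ((1 : R₃) ⊗ₜ[R'] b) = a ⊗ₜ[R'] b
      rw [Algebra.TensorProduct.tmul_mul_tmul, mul_one, one_mul]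
    | add a b ha hb => simp only [map_add, ha, hb]
  -- the new quotient and ambient ring
  let e₃ : C₃ := algebraMap T C₃ eT
  let gC : C₃ := algebraMap R₃ C₃ g
  have hgC : gC ∣ e₃ := by
    refine dvd_trans (dvd_of_eq ?_) (map_dvd (algebraMap T C₃) (dvd_mul_left (algebraMap R₃ T g) h₀))
    exact IsScalarTower.algebraMap_apply R₃ T C₃ g
  have hce : c ∣ e₃ := (dvd_mul_right c e).trans ((dvd_of_eq hcd).trans (map_dvd (algebraMap T C₃) hde))
  let A₄ := Localization.Away (algebraMap C₃ Cc (e₃ * gC))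
  haveI : IsLocalization.Away (c * (e₃ * gC)) A₄ := IsLocalization.Away.mul' Cc A₄ c (e₃ * gC)
  haveI : IsLocalization.Away e₃ A₄ := Groth.Agent.FlatDevLoc.away_of_dvd e₃ (c * (e₃ * gC))
    (dvd_mul_of_dvd_right (dvd_mul_right e₃ gC) c) 3
    (by rw [pow_succ', sq]; exact mul_dvd_mul hce (mul_dvd_mul_left e₃ hgC))
  haveI : IsLocalization (Algebra.algebraMapSubmonoid C₃ (Submonoid.powers eT)) A₄ := by
    rw [Algebra.algebraMapSubmonoid, Submonoid.map_powers]
    exact (inferInstance : IsLocalization.Away e₃ A₄)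
  letI : Algebra T₄ A₄ := (IsLocalization.Away.lift eT (g := algebraMap T A₄) (by
    rw [IsScalarTower.algebraMap_apply T C₃ A₄]
    exact IsLocalization.Away.algebraMap_isUnit e₃)).toAlgebra
  haveI : IsScalarTower T T₄ A₄ := IsScalarTower.of_algebraMap_eq fun x => (IsLocalization.Away.lift_eq eT _ x).symm
  haveI : Algebra.IsPushout T T₄ C₃ A₄ :=
    (Algebra.isPushout_of_isLocalization (Submonoid.powers eT) _ _ _).symm
  haveI : IsScalarTower D T₄ A₄ := IsScalarTower.of_algebraMap_eq fun b => by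
    rw [IsScalarTower.algebraMap_apply D T T₄, ← IsScalarTower.algebraMap_apply T T₄ A₄,
      ← IsScalarTower.algebraMap_apply D T A₄]
  haveI : Algebra.IsPushout D T₄ C A₄ := isPushout_trans D T T₄ C C₃ A₄
  have hsurj₀ : Function.Surjective (algebraMap S₀ Cc) := surjective_of_isPushout S S₀ C Cc hsurj
  obtain ⟨s, hs⟩ := hsurj₀ (algebraMap C₃ Cc e₃)
  let s' : S₀ := s * algebraMap R₃ S₀ g
  have hs' : algebraMap S₀ Cc s' = algebraMap C₃ Cc (e₃ * gC) := by
    show algebraMap S₀ Cc (s * algebraMap R₃ S₀ g) = _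
    rw [map_mul (algebraMap S₀ Cc) s, map_mul (algebraMap C₃ Cc) e₃, hs, ← IsScalarTower.algebraMap_apply R₃ S₀ Cc,
      ← IsScalarTower.algebraMap_apply R₃ C₃ Cc]
  let S₅ := Localization.Away s'
  letI : Algebra S₅ A₄ := (IsLocalization.Away.lift s' (g := algebraMap S₀ A₄) (by
    rw [IsScalarTower.algebraMap_apply S₀ Cc A₄, hs']
    exact IsLocalization.Away.algebraMap_isUnit _)).toAlgebra
  haveI : IsScalarTower S₀ S₅ A₄ := IsScalarTower.of_algebraMap_eq fun x => (IsLocalization.Away.lift_eq s' _ x).symm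
  haveI : Algebra.IsPushout S₀ S₅ Cc A₄ := by
    haveI : IsLocalization (Algebra.algebraMapSubmonoid Cc (Submonoid.powers s')) A₄ := by
      rw [Algebra.algebraMapSubmonoid, Submonoid.map_powers, hs']
      infer_instance
    exact (Algebra.isPushout_of_isLocalization (Submonoid.powers s') _ _ _).symm
  haveI : IsScalarTower S S₅ A₄ := IsScalarTower.of_algebraMap_eq fun x => by
    rw [IsScalarTower.algebraMap_apply S S₀ S₅, ← IsScalarTower.algebraMap_apply S₀ S₅ A₄,
      ← IsScalarTower.algebraMap_apply S S₀ A₄]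
  haveI : Algebra.IsPushout S S₅ C A₄ := isPushout_trans S S₀ S₅ C Cc A₄
  haveI : Algebra.Etale S₀ S₅ := Algebra.Etale.of_isLocalizationAway s'
  haveI : Algebra.Etale S S₅ := Algebra.Etale.comp S S₀ S₅
  have hu5 : IsUnit (algebraMap R₃ S₅ g) := by
    rw [IsScalarTower.algebraMap_apply R₃ S₀ S₅]
    exact isUnit_of_dvd_unit (map_dvd (algebraMap S₀ S₅) (dvd_mul_left _ s)) (IsLocalization.Away.algebraMap_isUnit s')
  letI : Algebra R₄ S₅ := (IsLocalization.Away.lift g hu5).toAlgebra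
  haveI : IsScalarTower R₃ R₄ S₅ := IsScalarTower.of_algebraMap_eq fun r => (IsLocalization.Away.lift_eq g hu5 r).symm
  haveI : IsScalarTower R R₄ S₅ := IsScalarTower.of_algebraMap_eq fun r => by
    rw [IsScalarTower.algebraMap_apply R R₃ R₄, ← IsScalarTower.algebraMap_apply R₃ R₄ S₅,
      ← IsScalarTower.algebraMap_apply R R₃ S₅]
  letI : Algebra R₄ A₄ := ((algebraMap T₄ A₄).comp (algebraMap R₄ T₄)).toAlgebra
  haveI : IsScalarTower R₄ T₄ A₄ := IsScalarTower.of_algebraMap_eq' rfl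
  haveI : IsScalarTower R₄ S₅ A₄ := IsScalarTower.of_algebraMap_eq' (IsLocalization.ringHom_ext (Submonoid.powers g)
    (RingHom.ext fun r => by
      show algebraMap T₄ A₄ (algebraMap R₄ T₄ (algebraMap R₃ R₄ r)) = algebraMap S₅ A₄ (algebraMap R₄ S₅ (algebraMap R₃ R₄ r))
      rw [← IsScalarTower.algebraMap_apply R₃ R₄ T₄, ← IsScalarTower.algebraMap_apply R₃ R₄ S₅,
        IsScalarTower.algebraMap_apply R₃ T T₄, ← IsScalarTower.algebraMap_apply T T₄ A₄,
        ← IsScalarTower.algebraMap_apply R₃ T A₄, IsScalarTower.algebraMap_apply R₃ S₀ S₅,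
        ← IsScalarTower.algebraMap_apply S₀ S₅ A₄, ← IsScalarTower.algebraMap_apply R₃ S₀ A₄]))
  -- the points
  obtain ⟨zz, hzz, hzzz, hzzy⟩ := Groth.Agent.FlatDevBC.exists_prime_over (R := D) (R' := T₄) (T := C) (T' := A₄)
    y y₄ hκy z
  haveI := hzz; haveI := hzzz; haveI := hzzy
  let q₅ : Ideal S₅ := zz.comap (algebraMap S₅ A₄)
  haveI : q₅.IsPrime := Ideal.IsPrime.comap _
  have hsurj₅ : Function.Surjective (algebraMap S₅ A₄) := surjective_of_isPushout S S₅ C A₄ hsurj
  have hq0 : z.comap (algebraMap S C) = q := (Ideal.LiesOver.over (p := q) (P := z)).symm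
  have hres : ResBij (algebraMap S S₅) q q₅ := by
    refine ResBij.of_comp (g := algebraMap S₅ A₄) (c := zz) ?_
      (resBij_of_surjectiveOnStalks (RingHom.surjectiveOnStalks_of_surjective hsurj₅) q₅ zz rfl)
    rw [← IsScalarTower.algebraMap_eq, IsScalarTower.algebraMap_eq S C A₄]
    refine ResBij.comp (b := z) (resBij_of_surjectiveOnStalks
      (RingHom.surjectiveOnStalks_of_surjective hsurj) q z hq0.symm) ?_
    exact ⟨hzzz.over, Groth.Agent.FlatDevBC.residueField_bijective (R := D) (R' := T₄) (T := C) (T' := A₄)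
      y y₄ hκy z zz⟩
  have hS₅ : FlatCA.IsEtaleNhd S S₅ q q₅ := isEtaleNhd_of_resBij hres
  haveI : q₅.LiesOver q := hS₅.2.1
  haveI : zz.LiesOver p₄ := Ideal.LiesOver.trans zz y₄ p₄
  haveI hq₅p : q₅.LiesOver p₄ := ⟨by
    show p₄ = (zz.comap (algebraMap S₅ A₄)).comap (algebraMap R₄ S₅)
    rw [Ideal.comap_comap, ← IsScalarTower.algebraMap_eq]
    exact Ideal.over_def zz p₄⟩
  haveI : zz.LiesOver q₅ := ⟨rfl⟩
  -- the modules
  obtain ⟨G₄, _, _, _, _, gG, hgG⟩ : ∃ (G₄ : Type u) (_ : AddCommGroup G₄) (_ : Module A₄ G₄) (_ : Module C G₄)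
      (_ : IsScalarTower C A₄ G₄) (gG : G →ₗ[C] G₄), IsBaseChange A₄ gG :=
    ⟨A₄ ⊗[C] G, inferInstance, inferInstance, inferInstance, inferInstance,
      TensorProduct.mk C A₄ G 1, TensorProduct.isBaseChange C G A₄⟩
  letI : Module S₅ G₄ := Module.compHom G₄ (algebraMap S₅ A₄)
  haveI : IsScalarTower S₅ A₄ G₄ := IsScalarTower.of_algebraMap_smul fun _ _ => rfl
  letI : Module S G₄ := Module.compHom G₄ (algebraMap S A₄)
  haveI : IsScalarTower S A₄ G₄ := IsScalarTower.of_algebraMap_smul (R := S) (A := A₄) (M := G₄) fun _ _ => rfl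
  haveI : IsScalarTower S S₅ G₄ := IsScalarTower.to₁₂₄ S S₅ A₄ G₄
  haveI : IsScalarTower S C G₄ := IsScalarTower.to₁₂₄ S C A₄ G₄
  letI : Module R₄ G₄ := Module.compHom G₄ (algebraMap R₄ S₅)
  haveI : IsScalarTower R₄ S₅ G₄ := IsScalarTower.of_algebraMap_smul fun _ _ => rfl
  let gN : N →ₗ[S] G₄ := (gG.restrictScalars S).comp eNG.toLinearMap
  have hgS : IsBaseChange S₅ (gG.restrictScalars S) :=
    Groth.Agent.FlatClosed.isBaseChange_restrict S S₅ C A₄ G G₄ gG hgG
  have hgN : IsBaseChange S₅ gN := IsBaseChange.of_equiv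
    ((TensorProduct.AlgebraTensorModule.congr (LinearEquiv.refl S₅ S₅) eNG).trans hgS.equiv) fun x => by
    show hgS.equiv ((1 : S₅) ⊗ₜ[S] eNG x) = gG (eNG x)
    rw [IsBaseChange.equiv_tmul, one_smul]
    rfl
  obtain ⟨hdim₅, hloc₅⟩ := Groth.Agent.OneStepEt.supportDim_localDim_move (R := R) (R' := R₄) gN hgN p q p₄ hκ₄ q₅ n hdim h1
  refine ⟨R₄, inferInstance, inferInstance, inferInstance, inferInstance, p₄, inferInstance, hR₄, T₅, inferInstance,
    inferInstance, inferInstance, inferInstance, inferInstance, inferInstance, TensorProduct.isPushout,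
    T₄, inferInstance, inferInstance, inferInstance, inferInstance, inferInstance, inferInstance, inferInstance,
    inferInstance, inferInstance, inferInstance, inferInstance, y₄, inferInstance, inferInstance, inferInstance,
    hopen, A₄, inferInstance, inferInstance, inferInstance, inferInstance, inferInstance, inferInstance,
    inferInstance, inferInstance, zz, inferInstance, hzzz, hzzy, inferInstance,
    G₄, inferInstance, inferInstance, inferInstance, inferInstance, gG, hgG,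
    S₅, inferInstance, inferInstance, inferInstance, inferInstance, inferInstance, inferInstance, q₅, inferInstance,
    inferInstance, inferInstance, inferInstance, inferInstance, inferInstance, inferInstance, inferInstance,
    hS₅, inferInstance,
    G₄, inferInstance, inferInstance, inferInstance, inferInstance, inferInstance, inferInstance, gN, hgN,
    ⟨⟨LinearEquiv.refl S₅ G₄⟩, hsurj₅, Algebra.FinitePresentation.equiv (Algebra.IsPushout.equiv S S₅ C A₄),
      Module.Finite.equiv (Algebra.IsPushout.equiv D T₄ C A₄).toLinearEquiv, Module.Finite.equiv hgG.equiv,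
      hrel₄, hirr, hdim₅⟩, hloc₅, fun z₂ _ hz₂ => ?_,
    Groth.Agent.FlatDevLoc.purelyTranscendental_of_bijective p p₄ hκ₄ y y₄ ((bijective_mapₐ_iff y y₄).1 hκy) h4⟩
  haveI := hz₂
  haveI : (z₂.comap (algebraMap C A₄)).LiesOver y := ⟨by
    show y = (z₂.comap (algebraMap C A₄)).comap (algebraMap D C)
    rw [Ideal.comap_comap, ← IsScalarTower.algebraMap_eq, IsScalarTower.algebraMap_eq D T₄ A₄,
      ← Ideal.comap_comap, show z₂.comap (algebraMap T₄ A₄) = y₄ from hz₂.over.symm]
    exact hy₄.over⟩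
  haveI : z₂.LiesOver z := ⟨(h3 (z₂.comap (algebraMap C A₄)) inferInstance).symm⟩
  exact Groth.Agent.FlatDevBC.eq_of_liesOver (R := D) (R' := T₄) (T := C) (T' := A₄) y y₄ hκy z z₂ zz

end Groth.Agent.S12245
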