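import Groth.Statements.S1225
import Groth.Agent.RGLib.AssSpec

set_option autoImplicit false
universe u
open FlatMor TensorProduct

namespace Groth.Agent.S1225

attribute [local instance] Algebra.TensorProduct.rightAlgebra

open IsLocalRing in
/-- Ring form, X = Spec B affine: let A be a local ring, B a finite type A-algebra and N a finite
B-module which is flat over A and pure along the closed fibre. Then a B-linear map φ from N to any
B-module is injective if and only if its localization at q is injective for every prime q of B over
𝔪_A whose extension to the closed fibre ring is an associated prime of the closed fibre module. -/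
theorem result {A B : Type u} [CommRing A] [IsLocalRing A] [CommRing B] [Algebra A B] [Algebra.FiniteType A B]
    (N : Type u) [AddCommGroup N] [Module B N] [Module A N] [IsScalarTower A B N] [Module.Finite B N] [Module.Flat A N]
    (hpure : FlatCA.IsPureAlong A B N (maximalIdeal A))
    (N' : Type u) [AddCommGroup N'] [Module B N'] (φ : N →ₗ[B] N') :
    Function.Injective φ ↔ ∀ (q : Ideal B) [q.IsPrime], q.LiesOver (maximalIdeal A) →
      FlatCA.fiberIdeal (maximalIdeal A) q ∈ associatedPrimes ((maximalIdeal A).Fiber B) (FlatCA.fiberMod (maximalIdeal A) B N) →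
      Function.Injective (LocalizedModule.map q.primeCompl φ) := by
  constructor
  · intro hφ q _ _ _
    exact IsLocalizedModule.map_injective q.primeCompl (LocalizedModule.mkLinearMap q.primeCompl N)
      (LocalizedModule.mkLinearMap q.primeCompl N') φ hφ
  · intro h
    rw [injective_iff_map_eq_zero]
    intro x hx
    by_contra hne
    have hann : (Submodule.span B {x}).annihilator ≠ ⊤ := fun e => hne (by
      have := (Submodule.mem_annihilator_span_singleton x 1).1 (e ▸ Submodule.mem_top)
      rwa [one_smul] at this)
    obtain ⟨Q, hQ⟩ := Ideal.nonempty_minimalPrimes hann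
    haveI := hQ.1.1
    let p' := Q.comap (algebraMap A B)
    haveI : p'.IsPrime := Ideal.IsPrime.comap _
    haveI : Module.Flat A (LocalizedModule Q.primeCompl N) := by
      haveI : Module.Flat B (Localization.AtPrime Q) := IsLocalization.flat _ Q.primeCompl
      haveI : Module.Flat A (TensorProduct B (Localization.AtPrime Q) N) :=
        Groth.Agent.RGLib.flat_tensor_left A B N (Localization.AtPrime Q)
      exact Module.Flat.of_linearEquiv ((LocalizedModule.equivTensorProduct Q.primeCompl N).restrictScalars A)
    have hass : FlatCA.fiberIdeal p' Q ∈ associatedPrimes (p'.Fiber B) (FlatCA.fiberMod p' B N) := by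
      refine Groth.Agent.RGLib.fiberIdeal_mem_associatedPrimes (M := A) p' Q (fun r => Iff.rfl) ?_
      refine ⟨TensorProduct.tmul A x 1, ?_⟩
      have he : (Submodule.span B {TensorProduct.tmul A x (1 : A)}).annihilator = (Submodule.span B {x}).annihilator := by
        ext b
        rw [Submodule.mem_annihilator_span_singleton, Submodule.mem_annihilator_span_singleton, TensorProduct.smul_tmul']
        constructor
        · intro h0
          have := congrArg (TensorProduct.rid A N) h0
          rwa [map_zero, TensorProduct.rid_tmul, one_smul] at this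
        · intro h0
          rw [h0, TensorProduct.zero_tmul]
      rw [he]
      exact hQ
    obtain ⟨t, ht, htm⟩ : ∃ t : Ideal B, ∃ _ : t.IsPrime, Q ≤ t ∧ t.LiesOver (maximalIdeal A) := by
      by_contra hno
      push Not at hno
      refine hpure A B N LinearMap.id p' (maximalIdeal A) Q ⟨inferInstance, ⟨⟨rfl⟩, ?_⟩⟩
        ⟨inferInstance, ?_, IsLocalRing.le_maximalIdeal ‹p'.IsPrime›.ne_top, ⟨rfl⟩, ⟨rfl⟩, hass,
          fun P' hP' hle hover => hno P' hP' hle hover⟩
      · refine ⟨RingHom.injective _, fun y => ?_⟩
        obtain ⟨a, rfl⟩ := Ideal.algebraMap_residueField_surjective (maximalIdeal A) y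
        exact ⟨algebraMap A _ a, AlgHom.commutes _ a⟩
      · exact IsBaseChange.of_equiv (TensorProduct.lid B N) fun y => by simp
    haveI := htm.2
    haveI : Module.Flat A (LocalizedModule t.primeCompl N) := by
      haveI : Module.Flat B (Localization.AtPrime t) := IsLocalization.flat _ t.primeCompl
      haveI : Module.Flat A (TensorProduct B (Localization.AtPrime t) N) :=
        Groth.Agent.RGLib.flat_tensor_left A B N (Localization.AtPrime t)
      exact Module.Flat.of_linearEquiv ((LocalizedModule.equivTensorProduct t.primeCompl N).restrictScalars A)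
    haveI : Q.LiesOver p' := ⟨rfl⟩
    obtain ⟨P, hP, hQP, -⟩ := Groth.Agent.RGLib.exists_assoc_specialization (maximalIdeal A) p' Q hass t htm.1
      (show FlatCA.FlatAt A t N from inferInstanceAs (Module.Flat A (LocalizedModule t.primeCompl N)))
    haveI : P.IsPrime := IsAssociatedPrime.isPrime hP
    let q := P.comap (algebraMap B ((maximalIdeal A).Fiber B))
    haveI : q.IsPrime := Ideal.IsPrime.comap _
    have hinj := h q ⟨(Groth.Agent.RGLib.comap_comap_fiber (maximalIdeal A) P).symm⟩ (by
      rw [Groth.Agent.RGLib.fiberIdeal_comap]; exact hP)
    have h0 : LocalizedModule.mkLinearMap q.primeCompl N x = 0 := by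
      refine hinj ?_
      rw [LocalizedModule.mkLinearMap_apply, LocalizedModule.map_mk, hx, map_zero, LocalizedModule.zero_mk]
    obtain ⟨⟨d, hd⟩, hd0⟩ := (IsLocalizedModule.eq_zero_iff q.primeCompl (LocalizedModule.mkLinearMap q.primeCompl N)).1 h0
    exact hd (hQP (hQ.1.2 ((Submodule.mem_annihilator_span_singleton x d).2 hd0)))

end Groth.Agent.S1225
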