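import Groth.Statements.S1226
import Groth.Agent.FlatPure.QuasiFinite

set_option autoImplicit false
attribute [-instance] CategoryTheory.catToReflQuiver
set_option backward.isDefEq.respectTransparency false
set_option backward.isDefEq.respectTransparency.types false
universe u
open FlatMor

namespace Groth.Agent.S1226

/-- Ring form, X = Spec B affine: let B be a finite type A-algebra, N a finite B-module and p a prime of
A; let A' be an A-algebra with a prime p' over p such that A' is of finite type over A and
quasi-finite at p', and let B', N' be the base changes of B, N. If N is pure along the fibre over p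
then N' is pure along the fibre over p'. -/
theorem result {A B : Type u} [CommRing A] [CommRing B] [Algebra A B] [Algebra.FiniteType A B]
    (N : Type u) [AddCommGroup N] [Module B N] [Module.Finite B N] (p : Ideal A) [p.IsPrime]
    (A' B' N' : Type u) [CommRing A'] [CommRing B'] [Algebra A A'] [Algebra B B'] [Algebra A' B'] [Algebra A B']
    [IsScalarTower A B B'] [IsScalarTower A A' B'] [Algebra.IsPushout A B A' B']
    [AddCommGroup N'] [Module B' N'] [Module B N'] [IsScalarTower B B' N'] (f : N →ₗ[B] N') (hf : IsBaseChange B' f)
    (p' : Ideal A') [p'.IsPrime] [p'.LiesOver p] [Algebra.FiniteType A A'] [Algebra.QuasiFiniteAt A p']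
    (h : FlatCA.IsPureAlong A B N p) : FlatCA.IsPureAlong A' B' N' p' := by
  intro A'' B'' N'' _ _ _ _ _ _ _ _ _ _ _ _ _ _ g t' t _ _ P _ hnhd himp
  obtain ⟨hpo, hbc, hle, htp, hPt', hass, hno⟩ := himp
  haveI := hnhd.1; haveI := htp; haveI := hPt'; haveI := hpo
  letI : Algebra A A'' := ((algebraMap A' A'').comp (algebraMap A A')).toAlgebra
  haveI : IsScalarTower A A' A'' := IsScalarTower.of_algebraMap_eq' rfl
  letI : Algebra B B'' := ((algebraMap B' B'').comp (algebraMap B B')).toAlgebra
  haveI : IsScalarTower B B' B'' := IsScalarTower.of_algebraMap_eq' rfl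
  letI : Algebra A B'' := ((algebraMap A' B'').comp (algebraMap A A')).toAlgebra
  haveI : IsScalarTower A A' B'' := IsScalarTower.of_algebraMap_eq' rfl
  haveI : IsScalarTower A A'' B'' := IsScalarTower.of_algebraMap_eq fun a => by
    show algebraMap A' B'' (algebraMap A A' a) = algebraMap A'' B'' (algebraMap A' A'' (algebraMap A A' a))
    rw [← IsScalarTower.algebraMap_apply A' A'' B'']
  haveI : IsScalarTower A B' B'' := IsScalarTower.to₁₃₄ A A' B' B''
  haveI : IsScalarTower A B B'' := IsScalarTower.to₁₂₄ A B B' B''
  letI : Module B N'' := Module.compHom N'' (algebraMap B B')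
  haveI : IsScalarTower B B' N'' := IsScalarTower.of_algebraMap_smul fun _ _ => rfl
  haveI : IsScalarTower B B'' N'' := IsScalarTower.to₁₃₄ B B' B'' N''
  haveI h1 : Algebra.IsPushout A' A'' B' B'' := Algebra.IsPushout.symm inferInstance
  haveI : Algebra.IsPushout A A' B B' := Algebra.IsPushout.symm inferInstance
  haveI : Algebra.IsPushout A A'' B B'' :=
    (Algebra.IsPushout.comp_iff (R := A) (S := A') (R' := B) (S' := B') (T := A'') (T' := B'')).2 h1
  haveI : Algebra.IsPushout A B A'' B'' := Algebra.IsPushout.symm inferInstance
  haveI : t.LiesOver p := Ideal.LiesOver.trans t p' p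
  have hqf : Algebra.QuasiFiniteAt A t := by
    letI : Algebra (Localization.AtPrime p') (Localization.AtPrime t) :=
      (Localization.localRingHom p' t (algebraMap A' A'') htp.over).toAlgebra
    haveI : IsScalarTower A' (Localization.AtPrime p') (Localization.AtPrime t) :=
      IsScalarTower.of_algebraMap_eq fun r => by
        rw [RingHom.algebraMap_toAlgebra, Localization.localRingHom_to_map,
          ← IsScalarTower.algebraMap_apply A' A'' (Localization.AtPrime t)]
    haveI : IsScalarTower A (Localization.AtPrime p') (Localization.AtPrime t) :=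
      IsScalarTower.to₁₃₄ A A' (Localization.AtPrime p') (Localization.AtPrime t)
    haveI : Algebra.QuasiFinite (Localization.AtPrime p') (Localization.AtPrime t) :=
      Algebra.QuasiFinite.of_restrictScalars A' (Localization.AtPrime p') (Localization.AtPrime t)
    exact Algebra.QuasiFinite.trans A (Localization.AtPrime p') (Localization.AtPrime t)
  haveI : Algebra.FiniteType A A'' := Algebra.FiniteType.trans (S := A') inferInstance inferInstance
  obtain ⟨A₁, B₁, N₁, _, _, _, _, _, _, _, _, _, _, _, _, _, _, f₁, s', s, _, _, Q, _, him, _, he⟩ :=
    Groth.Agent.FlatPure.hasImpurity_etaleNhd (A := A) (B := B) (N := N) p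
      ⟨A'', B'', N'', inferInstance, inferInstance, inferInstance, inferInstance, inferInstance, inferInstance,
        inferInstance, inferInstance, inferInstance, inferInstance, inferInstance, inferInstance, inferInstance,
        inferInstance, (g.restrictScalars B).comp f, t', t, inferInstance, inferInstance, P, inferInstance,
        ⟨inferInstance, hf.comp hbc, hle, inferInstance, hPt', hass, hno⟩, inferInstance, inferInstance, hqf⟩
  exact h A₁ B₁ N₁ f₁ s' s Q he him

end Groth.Agent.S1226
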