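import Groth.Statements.S12261
import Groth.Agent.ArtFunLib.HilbTangent
import Groth.Agent.S12248
import Groth.Agent.CurveKS.HomFinite
import Groth.Agent.ZClosLib.CohDescent
import Groth.Agent.PnCoh.Chow.Proper
import Groth.Agent.ParShLib.ResStalk
-- import your own Groth.Agent.* helpers here

set_option autoImplicit false
universe u
open CategoryTheory CategoryTheory.Limits AlgebraicGeometry
open Deform

namespace Groth.Agent.S12261
set_option backward.isDefEq.respectTransparency false
set_option backward.isDefEq.respectTransparency.types false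

/-- Let k be an algebraically closed field, Y a separated k-scheme of finite type and X ⊆ Y the closed
subscheme of a quasi-coherent ideal sheaf I₀; assume X is projective over k, i.e. X admits a closed
immersion over k into some projective space P^n_k. Then the local Hilbert functor of X in Y (closed
subschemes of Y ×_k Spec A flat over Spec A restricting to X on the closed fibre, for A local
Artinian with residue field k) is prorepresentable by a complete local Noetherian k-algebra with
residue field k. (The published statement assumes only that the space of global sections of the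
normal sheaf of X in Y is finite-dimensional, X projective being the named instance; this row states
the projective case.) -/
theorem result
    {k : Type u} [Field k] [IsAlgClosed k] (Y : Scheme.{u}) (y : Y ⟶ Spec (CommRingCat.of k))
    [LocallyOfFiniteType y] [IsSeparated y] [QuasiCompact y] (I₀ : Y.IdealSheafData)
    (hproj : ∃ (n : ℕ) (c : I₀.subscheme ⟶ CohB1.ProjSpaceOver n (Spec (CommRingCat.of k))),
      IsClosedImmersion c ∧ c ≫ CohB1.ProjSpaceOver.toBase n (Spec (CommRingCat.of k)) = I₀.subschemeι ≫ y) :
    ArtFun.IsProrepresentable (ArtFun.localHilb Y y I₀) := by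
  obtain ⟨T⟩ := Groth.Agent.ArtFunLib.nonempty_tangentStr (F := ArtFun.localHilb Y y I₀)
    (ArtFunLib.HilbPatch.h0 y) (ArtFunLib.HilbPatch.conditions y).2.1
  letI := T
  obtain ⟨h0, h2, h1, h4⟩ := ArtFunLib.HilbPatch.conditions y (I₀ := I₀)
  refine (Groth.Agent.S12248.result (ArtFun.localHilb Y y I₀) h0).2 ⟨h1, h2, ?_, h4⟩
  letI : Y.Over (Spec (CommRingCat.of k)) := ⟨y⟩
  letI : I₀.subscheme.Over (Spec (CommRingCat.of k)) := ⟨I₀.subschemeι ≫ y⟩
  haveI : I₀.subschemeι.IsOver (Spec (CommRingCat.of k)) := ⟨rfl⟩
  obtain ⟨n, c, hc, hcy⟩ := hproj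
  haveI := hc
  haveI : IsProper (CohB1.ProjSpace.toSpec n (ULift.{u} ℤ)) := PnCoh.Chow.isProper_toSpec n _
  haveI : IsProper (CohB1.ProjSpaceOver.toBase n (Spec (CommRingCat.of k))) :=
    MorphismProperty.pullback_snd _ _ inferInstance
  haveI : IsProper (I₀.subscheme ↘ Spec (CommRingCat.of k)) := by
    show IsProper (I₀.subschemeι ≫ y)
    rw [← hcy]
    infer_instance
  haveI : IsLocallyNoetherian Y := LocallyOfFiniteType.isLocallyNoetherian y
  haveI : IsLocallyNoetherian I₀.subscheme := LocallyOfFiniteType.isLocallyNoetherian I₀.subschemeι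
  have hQ : Coh.IsCoh (ClSub.quotMod I₀) := ParShLib.isCoh_quotMod I₀
  have hI : Coh.IsCoh (ClSub.idealMod I₀) := QCoh.isCoh_kernel QCoh.isCoh_structureModule' hQ _
  haveI : Module.Finite k ((Scheme.Modules.pullback I₀.subschemeι).obj (ClSub.idealMod I₀) ⟶
      Coh.structureModule I₀.subscheme) :=
    CurveKS.finite_hom k (ZClosLib.isCoh_pullback I₀.subschemeι hI) QCoh.isCoh_structureModule'
  let adj := Scheme.Modules.pullbackPushforwardAdjunction I₀.subschemeι
  haveI : Module.Finite k (ClSub.idealMod I₀ ⟶ ClSub.quotMod I₀) := Module.Finite.of_surjective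
    (((Linear.leftComp k _ (adj.unit.app (ClSub.idealMod I₀)))).comp
      ((Scheme.Modules.pushforward I₀.subschemeι).mapLinearMap k (X := (Scheme.Modules.pullback I₀.subschemeι).obj (ClSub.idealMod I₀))
        (Y := Coh.structureModule I₀.subscheme)))
    (fun φ => ⟨(adj.homEquiv _ _).symm φ, ((adj.homEquiv_unit _ _ _).symm.trans ((adj.homEquiv _ _).apply_symm_apply φ))⟩)
  obtain ⟨Ψ, hΨ⟩ := ArtFunLib.HilbTangent.exists_linearMap y (I₀ := I₀) rfl
  exact Module.Finite.of_injective Ψ hΨ

end Groth.Agent.S12261
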