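import Groth.Statements.S12271
import Groth.Agent.HilbRepTangent.Bounds
import Groth.Agent.ArtFunLib.HilbNormal
import Groth.Agent.ArtFunLib.HilbNormalFinite
import Groth.Agent.ArtFunLib.HilbObsLci
import Groth.Agent.PnCoh.Chow.Proper
-- import your own Groth.Agent.* helpers here

set_option autoImplicit false
set_option backward.isDefEq.respectTransparency false
set_option backward.isDefEq.respectTransparency.types false
universe u
open CategoryTheory CategoryTheory.Limits AlgebraicGeometry
attribute [local instance] HasDerivedCategory.standard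
open Deform Groth.Agent

namespace Groth.Agent.S12271
set_option backward.isDefEq.respectTransparency false
set_option backward.isDefEq.respectTransparency.types false

/-- Let k be an algebraically closed field, Y a separated k-scheme of finite type and i : X → Y a
regular closed immersion over k (its ideal is locally generated by a regular sequence) with X
projective over k; let N = Hom_{O_X}(I/I², O_X) be the normal sheaf (sheaf Hom of the conormal sheaf
of i, as a right adjoint, assumed to exist). Let R̄ be a complete local Noetherian k-algebra with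
residue field k prorepresenting the local Hilbert functor of X in Y (closed subschemes of Y ×_k Spec
A flat over A restricting to X, X ⊆ Y given by the kernel ideal of i), i.e. carrying a universal
family — the formal universal deformation of X in Y. Then dim R̄ ≤ h⁰(X, N); h⁰(X, N) ≤ dim R̄ +
h¹(X, N); and dim R̄ = h⁰(X, N) if and only if X is unobstructed in Y, i.e. the local Hilbert
functor takes every surjection B → A of local Artinian k-algebras with residue field k to a
surjective map. (The published statement writes the second bound as h⁰(N) − h¹(N) ≤ dim R̄.) -/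
theorem result
    {k : Type u} [Field k] [IsAlgClosed k] (Y : Scheme.{u}) (y : Y ⟶ Spec (CommRingCat.of k))
    [LocallyOfFiniteType y] [IsSeparated y] [QuasiCompact y]
    (X : Scheme.{u}) [X.Over (Spec (CommRingCat.of k))] (i : X ⟶ Y) [IsClosedImmersion i] (hi : i ≫ y = X ↘ (Spec (CommRingCat.of k)))
    (hreg : Mor2.IsRegularClosedImmersion i)
    (hproj : ∃ (n : ℕ) (c : X ⟶ CohB1.ProjSpaceOver n (Spec (CommRingCat.of k))),
      IsClosedImmersion c ∧ c ≫ CohB1.ProjSpaceOver.toBase n (Spec (CommRingCat.of k)) = X ↘ (Spec (CommRingCat.of k)))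
    [DCoh.HasSheafHom (Omega.conormal i)]
    (R : ArtFun.ProRep (ArtFun.localHilb Y y i.ker)) :
    ringKrullDim R.ring.carrier ≤ ((Module.finrank k (Coh.HH X ((DCoh.sheafHom (Omega.conormal i)).obj (Coh.structureModule X)) 0) : ℕ∞) : WithBot ℕ∞) ∧
      ((Module.finrank k (Coh.HH X ((DCoh.sheafHom (Omega.conormal i)).obj (Coh.structureModule X)) 0) : ℕ∞) : WithBot ℕ∞) ≤ ringKrullDim R.ring.carrier + ((Module.finrank k (Coh.HH X ((DCoh.sheafHom (Omega.conormal i)).obj (Coh.structureModule X)) 1) : ℕ∞) : WithBot ℕ∞) ∧
      (ringKrullDim R.ring.carrier = ((Module.finrank k (Coh.HH X ((DCoh.sheafHom (Omega.conormal i)).obj (Coh.structureModule X)) 0) : ℕ∞) : WithBot ℕ∞) ↔ ArtFun.IsSmoothFunctor (ArtFun.localHilb Y y i.ker)) := by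
  letI : Y.Over (Spec (CommRingCat.of k)) := ⟨y⟩
  letI : i.IsOver (Spec (CommRingCat.of k)) := ⟨hi⟩
  haveI : IsProper (X ↘ Spec (CommRingCat.of k)) := by
    obtain ⟨n, c, hc, hcX⟩ := hproj
    haveI := hc
    haveI : IsProper (CohB1.ProjSpace.toSpec n (ULift.{u} ℤ)) := PnCoh.Chow.isProper_toSpec n _
    haveI : IsProper (CohB1.ProjSpaceOver.toBase n (Spec (CommRingCat.of k))) :=
      MorphismProperty.pullback_snd _ _ inferInstance
    rw [← hcX]
    infer_instance
  haveI := ArtFunLib.HilbNormalFinite.finite (k := k) i hreg 1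
  have hobs := ArtFunLib.HilbObsLci.hasObsTheory y i i.ker rfl hi (ArtFunLib.HilbObsLci.h1_of_regular i hreg)
  obtain ⟨e⟩ := ArtFunLib.HilbNormal.nonempty_H0_normal (k := k) i
  have hE : ∀ A, Function.Bijective (R.family.app A) := R.universal
  have hnat : ∀ {A B : ArtFun.Art k k} (f : A ⟶ B) (φ : ArtFun.HomSet R.ring.carrier R.ring.res A),
      R.family.app B (ArtFun.HomSet.map f φ) = (ArtFun.localHilb Y y i.ker).map f (R.family.app A φ) :=
    fun f φ => R.family.natural f φ
  have hedim := HilbRepTangent.finrank_cotangent_eq_hom y rfl i.ker R.ring.res (fun A => R.family.app A) hE hnat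
  have hob' := HilbRepTangent.hasObsTheory_of_bijective (fun A => R.family.app A) hE hnat hobs
  obtain ⟨h1, h2, -⟩ := HilbRepTangent.bounds R.ring.res hob'
  rw [hedim, ← e.finrank_eq] at h1 h2
  refine ⟨h1, h2, fun hd B A μ hμ u => ?_, fun hs => ?_⟩
  · obtain ⟨φ, rfl⟩ := (hE A).2 u
    obtain ⟨ψ, hψ⟩ := HilbRepTangent.isSmoothFunctor_of_regular R.ring (by rw [hedim, ← e.finrank_eq]; exact hd) μ hμ φ
    exact ⟨R.family.app B ψ, (hnat μ ψ).symm.trans (congrArg (R.family.app A) hψ)⟩
  · haveI := HilbRepTangent.isRegularLocalRing_of_smooth R.ring.res fun B A μ hμ φ => by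
      obtain ⟨u, hu⟩ := hs μ hμ (R.family.app A φ)
      obtain ⟨ψ, rfl⟩ := (hE B).2 u
      exact ⟨ψ, (hE A).1 ((hnat μ ψ).trans hu)⟩
    rw [← (isRegularLocalRing_iff R.ring.carrier).1 inferInstance,
      IsLocalRing.spanFinrank_maximalIdeal_eq_finrank_cotangentSpace, hedim, ← e.finrank_eq]
    rfl

end Groth.Agent.S12271
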