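import Groth.Statements.S12272
import Groth.Agent.ArtFunLib.HilbTangentSurj
import Groth.Agent.ArtFunLib.HilbNormal
import Groth.Agent.ArtFunLib.HilbInjective
-- import your own Groth.Agent.* helpers here

set_option autoImplicit false
universe u
open CategoryTheory CategoryTheory.Limits AlgebraicGeometry
attribute [local instance] HasDerivedCategory.standard
open Deform

namespace Groth.Agent.S12272
set_option backward.isDefEq.respectTransparency false
set_option backward.isDefEq.respectTransparency.types false

/-- Let k be an algebraically closed field, Y a separated k-scheme of finite type and i : X → Y a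
regular closed immersion over k with X projective over k; let N = Hom_{O_X}(I/I², O_X) be the normal
sheaf (sheaf Hom of the conormal sheaf of i, as a right adjoint, assumed to exist). Then X is rigid
in Y, meaning that for every local Artinian k-algebra A with residue field k there is at most one
closed subscheme of Y ×_k Spec A flat over Spec A restricting to X on the closed fibre (necessarily
X ×_k Spec A), if and only if H⁰(X, N) = 0. -/
theorem result
    {k : Type u} [Field k] [IsAlgClosed k] (Y : Scheme.{u}) (y : Y ⟶ Spec (CommRingCat.of k))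
    [LocallyOfFiniteType y] [IsSeparated y] [QuasiCompact y]
    (X : Scheme.{u}) [X.Over (Spec (CommRingCat.of k))] (i : X ⟶ Y) [IsClosedImmersion i] (hi : i ≫ y = X ↘ (Spec (CommRingCat.of k)))
    (hreg : Mor2.IsRegularClosedImmersion i)
    (hproj : ∃ (n : ℕ) (c : X ⟶ CohB1.ProjSpaceOver n (Spec (CommRingCat.of k))),
      IsClosedImmersion c ∧ c ≫ CohB1.ProjSpaceOver.toBase n (Spec (CommRingCat.of k)) = X ↘ (Spec (CommRingCat.of k)))
    [DCoh.HasSheafHom (Omega.conormal i)] :
    (∀ A : ArtFun.Art k k, Subsingleton ((ArtFun.localHilb Y y i.ker).obj A)) ↔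
      Subsingleton (Coh.HH X ((DCoh.sheafHom (Omega.conormal i)).obj (Coh.structureModule X)) 0) := by
  letI : Y.Over (Spec (CommRingCat.of k)) := ⟨y⟩
  letI : i.IsOver (Spec (CommRingCat.of k)) := ⟨hi⟩
  obtain ⟨e⟩ := ArtFunLib.HilbNormal.nonempty_H0_normal (k := k) i
  constructor
  · intro h
    haveI : Subsingleton (ClSub.idealMod i.ker ⟶ ClSub.quotMod i.ker) := ⟨fun φ φ' => by
      obtain ⟨I, hI⟩ := ArtFunLib.HilbTangent.exists_of_hom y φ
      obtain ⟨I', hI'⟩ := ArtFunLib.HilbTangent.exists_of_hom y φ'
      obtain rfl := (h (ArtFun.Art.dual k k)).elim I I'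
      exact ArtFunLib.HilbTangent.isVal_unique y hI hI'⟩
    exact e.toEquiv.subsingleton
  · intro h A
    have h1 : Subsingleton (ClSub.idealMod i.ker ⟶ ClSub.quotMod i.ker) := e.toEquiv.symm.subsingleton
    have hs : Function.Surjective (ArtFun.Art.toBase A) := fun c => ⟨algebraMap k A c, by
      exact (ArtFun.Art.toBase A).toAlgHom.commutes c⟩
    refine ⟨fun I I' => ArtFunLib.HilbInjective.injective Y y i.ker h1 (ArtFun.Art.toBase A) hs ?_⟩
    exact (ArtFunLib.HilbPatch.h0 y (I₀ := i.ker)).2.elim _ _

end Groth.Agent.S12272
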