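import Groth.Statements.S12276
import Groth.Agent.ArtFunLib.FibreTorsor
import Groth.Agent.ArtFunLib.HilbPatch
import Groth.Agent.ArtFunLib.HilbTangentSurj
import Groth.Agent.ArtFunLib.HilbNormal
-- import your own Groth.Agent.* helpers here

set_option autoImplicit false
set_option backward.isDefEq.respectTransparency false
set_option backward.isDefEq.respectTransparency.types false
universe u
open CategoryTheory CategoryTheory.Limits AlgebraicGeometry
open scoped TensorProduct
attribute [local instance] HasDerivedCategory.standard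
open DefT Groth.Agent

namespace Groth.Agent.S12276
set_option backward.isDefEq.respectTransparency false
set_option backward.isDefEq.respectTransparency.types false

/-- Let k be a field, X₀ a k-scheme and Y₀ ⊆ X₀ the closed subscheme cut out by a quasi-coherent ideal
sheaf I, regarded as a k-scheme through X₀, with normal sheaf N₀ = Hom_{O_{Y₀}}(I/I², O_{Y₀}) (the
sheaf Hom, assumed to exist as the right adjoint of tensoring with I/I²). Let C' → C be a surjection
of local Artinian k-algebras with residue field k whose kernel J is annihilated by the maximal ideal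
of C', and let Y ⊆ X₀ ×_k Spec C be a closed subscheme, flat over Spec C, whose pull-back to the
closed fibre X₀ is Y₀. If Y has at least one extension over C' inside X₀ ×_k Spec C' (a closed
subscheme flat over Spec C' whose pull-back to X₀ ×_k Spec C is Y), then the set of all such
extensions is in bijection with H^0(Y₀, N₀) ⊗_k J. (The published statement allows the ambient
deformation of X₀ over C' to be arbitrary, allows local Artin rings that are not k-algebras, and
says that the set of extensions is a pseudotorsor under H^0(Y₀, N₀ ⊗ J); this row is the case of the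
trivial ambient deformation X₀ ×_k Spec C' over local Artinian k-algebras and asserts only the
existence of a bijection.) -/
theorem result
    {k : Type u} [Field k] (X₀ : Scheme.{u}) [X₀.Over (Spec (CommRingCat.of k))]
    (I₀ : X₀.IdealSheafData) [I₀.subscheme.Over (Spec (CommRingCat.of k))]
    (hY : I₀.subscheme ↘ Spec (CommRingCat.of k) = I₀.subschemeι ≫ (X₀ ↘ Spec (CommRingCat.of k)))
    [DCoh.HasSheafHom (Omega.conormal I₀.subschemeι)]
    {C' C : ArtFun.Art k k} (p : C' ⟶ C) (hp : ArtFun.Art.IsSemismallExt p)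
    (I : (ArtFun.localHilb X₀ (X₀ ↘ Spec (CommRingCat.of k)) I₀).obj C)
    (hne : ∃ I' : (ArtFun.localHilb X₀ (X₀ ↘ Spec (CommRingCat.of k)) I₀).obj C',
      (ArtFun.localHilb X₀ (X₀ ↘ Spec (CommRingCat.of k)) I₀).map p I' = I) :
    Nonempty ({I' : (ArtFun.localHilb X₀ (X₀ ↘ Spec (CommRingCat.of k)) I₀).obj C' //
        (ArtFun.localHilb X₀ (X₀ ↘ Spec (CommRingCat.of k)) I₀).map p I' = I} ≃
      (Coh.HH I₀.subscheme ((DCoh.sheafHom (Omega.conormal I₀.subschemeι)).obj (Coh.structureModule I₀.subscheme)) 0 ⊗[k]
        ↥(RingHom.ker p.toAlgHom))) := by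
  letI : I₀.subschemeι.IsOver (Spec (CommRingCat.of k)) := ⟨hY.symm⟩
  obtain ⟨u₀, hu₀⟩ := hne
  obtain ⟨e⟩ := ArtFunLib.FibreTorsor.nonempty_fibre_equiv
    (F := ArtFun.localHilb X₀ (X₀ ↘ Spec (CommRingCat.of k)) I₀)
    (ArtFunLib.HilbPatch.h0 (X₀ ↘ Spec (CommRingCat.of k)))
    (fun hB hf => ArtFunLib.HilbPatch.bijective_cmp (X₀ ↘ Spec (CommRingCat.of k)) hB hf) p hp I u₀ hu₀
  choose f hf using ArtFunLib.HilbTangent.exists_val (X₀ ↘ Spec (CommRingCat.of k)) (I₀ := I₀)
  have hbij : Function.Bijective f := by
    refine ⟨fun a b h => ArtFunLib.HilbTangent.isVal_inj _ (hf a) (h ▸ hf b), fun φ => ?_⟩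
    obtain ⟨a, ha⟩ := ArtFunLib.HilbTangent.exists_of_hom (X₀ ↘ Spec (CommRingCat.of k)) φ
    exact ⟨a, ArtFunLib.HilbTangent.isVal_unique _ (hf a) ha⟩
  obtain ⟨eN⟩ := ArtFunLib.HilbNormal.nonempty_H0_normal (k := k) I₀.subschemeι
  haveI := ArtFunLib.HilbObs.finite_ker hp
  let b := Module.finBasis k ↥(RingHom.ker p.toAlgHom)
  refine ⟨e.trans ((Equiv.piCongrRight fun _ => (Equiv.ofBijective f hbij).trans ?_).trans
    ((TensorProduct.congr (LinearEquiv.refl k _) b.equivFun).trans (TensorProduct.piScalarRight k k _ _)).symm.toEquiv)⟩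
  exact (Equiv.cast (by rw [Scheme.IdealSheafData.ker_subschemeι])).trans eN.symm.toEquiv

end Groth.Agent.S12276
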