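import Groth.Statements.S12483
import Groth.Agent.ExtShX.ExtAdj
import Groth.Agent.ExtShX.Resolution
import Groth.Agent.H9Misc.SupportsSS

set_option autoImplicit false
set_option backward.isDefEq.respectTransparency false
set_option backward.isDefEq.respectTransparency.types false
universe u
open CategoryTheory CategoryTheory.Limits AlgebraicGeometry
open Coherent

namespace Groth.Agent.S12483

/-- Let `X` be a scheme, `A` an `O_X`-module which is finite locally free (every point has an open
neighbourhood over which `A` is isomorphic to some `O^n`) and for which the internal Hom functor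
`Hom_{O_X}(A, -)` exists (right adjoint of `A ⊗ -`), `B` any `O_X`-module and `p ≥ 0`. Then
`Ext^p_{O_X}(X; A, B)`, the Ext group computed in the category of `O_X`-modules, is isomorphic to
`H^p(X, Hom_{O_X}(A, B))`. (Existence of an isomorphism of abelian groups only; the published
isomorphisms are canonical, the edge maps of the local-to-global spectral sequence for Ext. The
published statement is for an arbitrary ringed space; this row is the case of a scheme.) -/
theorem result (X : Scheme.{u}) [HasExt.{u} X.Modules]
    (A B : X.Modules) (hA : FlatMod.IsFinLocFree A) [DCoh.HasSheafHom A] (p : ℕ) :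
    Nonempty (Abelian.Ext A B p ≃+ Coh.HH X ((DCoh.sheafHom A).obj B) p) := by
  haveI : EnoughInjectives X.Modules := inferInstance
  let e : (DCoh.tensorBi.obj A : X.Modules ⥤ X.Modules) ≅ DCoh.tensorBi.flip.obj A :=
    ((KFlatLib.tensorBiFlipIso X).app A).symm
  let adj' : (DCoh.tensorBi.flip.obj A : X.Modules ⥤ X.Modules) ⊣ DCoh.sheafHom A :=
    (DCoh.sheafHomAdj A).ofNatIsoLeft e
  haveI : ModSite.HasSheafHom (O := X.sheaf) A := ⟨_, ⟨adj'⟩⟩
  let r : DCoh.sheafHom A ≅ ExtShX.SH A :=
    adj'.rightAdjointUniq (ModSite.sheafHomAdj (O := X.sheaf) A)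
  obtain ⟨a⟩ := ExtShX.nonempty_ext_sheafHom_addEquiv hA (Coh.structureModule X) B p
  let u : CohB1.tensorMod (Coh.structureModule X) A ≅ A := (ExtShX.unitLeftIso X).app A
  let v : Abelian.Ext A B p ≃+ Abelian.Ext (CohB1.tensorMod (Coh.structureModule X) A) B p :=
    ((((Abelian.extFunctor (C := X.Modules) p).mapIso u.op).app B)).addCommGroupIsoToAddEquiv
  let w := (((Abelian.extFunctor (C := X.Modules) p).obj (Opposite.op (Coh.structureModule X))).mapIso
    (r.app B).symm).addCommGroupIsoToAddEquiv
  obtain ⟨q⟩ := SiteBase.nonempty_ext_unit_addEquiv (R := ModSite.ringSh X.sheaf) ((DCoh.sheafHom A).obj B) p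
  exact ⟨v.trans (a.trans (w.trans q))⟩

end Groth.Agent.S12483
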