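import Groth.Statements.S12280
import Groth.Agent.HilbRepTangent.Regular
import Groth.Agent.ArtFunLib.HilbRegSmooth
import Groth.Agent.ArtFunLib.HilbConormal
import Groth.Agent.ArtFunLib.HilbNormal
import Groth.Agent.S12483
import Groth.Agent.PnCoh.Chow.Proper
-- import your own Groth.Agent.* helpers here

set_option autoImplicit false
universe u
open CategoryTheory CategoryTheory.Limits AlgebraicGeometry
open scoped TensorProduct
attribute [local instance] HasDerivedCategory.standard
open DefT

namespace Groth.Agent.S12280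
set_option backward.isDefEq.respectTransparency false
set_option backward.isDefEq.respectTransparency.types false

/-- Let k be an algebraically closed field, X = P^n_k, and (H, Z) a Hilbert scheme of X over k: H is a
locally Noetherian k-scheme and Z ⊆ X ×_k H a closed subscheme, proper and flat over H, such that
every closed subscheme of X ×_k T proper and flat over a locally Noetherian k-scheme T is the
pull-back of Z along a unique k-morphism T → H. Let Y ⊆ X be a closed subscheme, regarded as a
k-scheme through X, with ideal sheaf I and normal sheaf N = Hom_{O_Y}(I/I², O_Y) (the sheaf Hom,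
assumed to exist as the right adjoint of tensoring with I/I²), and let y ∈ H be the k-point
classifying Y (the pull-back of Z along Spec k → H is Y). If Y → X is a regular closed immersion (Y
is a local complete intersection in X) and H^1(Y, N) = 0, then H is nonsingular at y: the local ring
O_{H,y} is regular, and its dimension equals dim_k H^0(Y, N). -/
theorem result
    {k : Type u} [Field k] [IsAlgClosed k] (n : ℕ)
    (H : Over (Spec (CommRingCat.of k))) (Z : FGA.HilbSet (CohB1.ProjSpaceOver.toBase n (Spec (CommRingCat.of k))) H) (hH : FGA.HilbRepresentedBy (CohB1.ProjSpaceOver.toBase n (Spec (CommRingCat.of k))) H Z)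
    (Y : Scheme.{u}) [Y.Over (Spec (CommRingCat.of k))] (i : Y ⟶ CohB1.ProjSpaceOver n (Spec (CommRingCat.of k))) [IsClosedImmersion i]
    (hi : i ≫ CohB1.ProjSpaceOver.toBase n (Spec (CommRingCat.of k)) = Y ↘ Spec (CommRingCat.of k))
    (hreg : Mor2.IsRegularClosedImmersion i)
    [DCoh.HasSheafHom (Omega.conormal i)]
    (y : Over.mk (𝟙 (Spec (CommRingCat.of k))) ⟶ H)
    (hy : FGA.hilbPull (CohB1.ProjSpaceOver.toBase n (Spec (CommRingCat.of k))) y Z.1 = i.ker.comap (pullback.fst (CohB1.ProjSpaceOver.toBase n (Spec (CommRingCat.of k))) (Over.mk (𝟙 (Spec (CommRingCat.of k)))).hom))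
    (h1 : Subsingleton (Coh.HH Y ((DCoh.sheafHom (Omega.conormal i)).obj (Coh.structureModule Y)) 1)) :
    IsRegularLocalRing (H.left.presheaf.stalk (y.left.base (IsLocalRing.closedPoint k))) ∧
      ringKrullDim (H.left.presheaf.stalk (y.left.base (IsLocalRing.closedPoint k))) = (Module.finrank k (Coh.HH Y ((DCoh.sheafHom (Omega.conormal i)).obj (Coh.structureModule Y)) 0) : WithBot ℕ∞) := by
  letI : (CohB1.ProjSpaceOver n (Spec (CommRingCat.of k))).Over (Spec (CommRingCat.of k)) :=
    ⟨CohB1.ProjSpaceOver.toBase n (Spec (CommRingCat.of k))⟩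
  letI : i.IsOver (Spec (CommRingCat.of k)) := ⟨hi⟩
  haveI : HasExt.{u} Y.Modules := hasExt_of_enoughInjectives.{u} _
  haveI : IsProper (CohB1.ProjSpace.toSpec n (ULift.{u} ℤ)) := PnCoh.Chow.isProper_toSpec n _
  haveI : IsProper (CohB1.ProjSpaceOver.toBase n (Spec (CommRingCat.of k))) :=
    MorphismProperty.pullback_snd _ _ inferInstance
  obtain ⟨e1⟩ := Groth.Agent.S12483.result Y (Omega.conormal i) (Coh.structureModule Y)
    (ExtShX.Fund.isFinLocFree_conormal i hreg) 1
  have hExt : Subsingleton (Abelian.Ext.{u} (Omega.conormal i) (Coh.structureModule Y) 1) := e1.toEquiv.subsingleton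
  have hsm := ArtFunLib.HilbRegSmooth.isSmooth_of_immersion (CohB1.ProjSpaceOver.toBase n (Spec (CommRingCat.of k)))
    i hreg hExt
  obtain ⟨e⟩ := ArtFunLib.HilbNormal.nonempty_H0_normal (k := k) i
  have hfin := HilbRepTangent.exists_finrank_eq (CohB1.ProjSpaceOver.toBase n (Spec (CommRingCat.of k))) rfl
    H Z hH i.ker y hy
  obtain ⟨alg, hN, ev, E, hE, hnat⟩ := HilbRepTangent.exists_pointed (CohB1.ProjSpaceOver.toBase n (Spec (CommRingCat.of k)))
    H Z hH i.ker y hy
  letI := alg
  haveI := hN
  have hreg' : IsRegularLocalRing (H.left.presheaf.stalk (y.left.base (IsLocalRing.closedPoint k))) :=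
    HilbRepTangent.isRegularLocalRing_of_smooth ev fun B A μ hμ φ => by
      obtain ⟨u, hu⟩ := hsm μ hμ (E A φ)
      obtain ⟨ψ, rfl⟩ := (hE B).2 u
      exact ⟨ψ, (hE A).1 ((hnat μ ψ).trans hu)⟩
  refine ⟨hreg', ?_⟩
  rw [← (isRegularLocalRing_iff _).1 hreg', IsLocalRing.spanFinrank_maximalIdeal_eq_finrank_cotangentSpace, hfin,
    e.finrank_eq]

end Groth.Agent.S12280
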