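import Groth.Statements.S12314
-- import your own Groth.Agent.* helpers here

set_option autoImplicit false
universe u
open CategoryTheory CategoryTheory.Limits AlgebraicGeometry MonObj
open SGA7

namespace Groth.Agent.S12314

/-- Let R be a henselian discrete valuation ring with fraction field K and residue field k, Ω a
separable closure of K, W a valuation subring of Ω lying over R, A and C abelian varieties over K
(proper, geometrically integral commutative group schemes), and u : C → A an isogeny, in the form: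
there are a homomorphism v : A → C and an integer n > 0 with v ∘ u = n and u ∘ v = n. Let ℓ be a
prime invertible in k and consider the ℓ-adic Tate modules of the Ω-points of C and A; call an
element fixed when all its components are fixed by the inertia group at W (for such ℓ the fixed part
is the inertia invariants). Then T_ℓ(u) maps the fixed part of T_ℓ(C) into the fixed part of T_ℓ(A)
and induces an isogeny between them: T_ℓ(u) is injective, and n times every fixed element of T_ℓ(A)
is the image of a fixed element of T_ℓ(C). (The case of a prime equal to the residue characteristic,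
where the fixed part is defined through the Néron model, is not stated.) -/
theorem result (R K Ω : Type u) [CommRing R] [IsDomain R] [IsDiscreteValuationRing R] [HenselianLocalRing R]
    [Field K] [Algebra R K] [IsFractionRing R K] [Field Ω] [Algebra K Ω] [IsSepClosure K Ω]
    (W : ValuationSubring Ω) (hW : SGA7.LiesOver K R W)
    (A C : Over (Spec (CommRingCat.of K))) [GrpObj A] [IsCommMonObj A] [IsProper A.hom] [GeometricallyIntegral A.hom]
    [GrpObj C] [IsCommMonObj C] [IsProper C.hom] [GeometricallyIntegral C.hom]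
    (u : C ⟶ A) [IsMonHom u] (v : A ⟶ C) [IsMonHom v] (n : ℕ) (hn : 0 < n)
    (huv : u ≫ v = (𝟙 C) ^ n) (hvu : v ≫ u = (𝟙 A) ^ n)
    (l : ℕ) (hl : l.Prime) (hlp : (l : IsLocalRing.ResidueField R) ≠ 0) :
    (∀ z : AbDual.TateMod C l (SGA7.pt Ω),
      (∀ (τ : Ω ≃ₐ[K] Ω) (m : ℕ), SGA7.IsInertia W τ →
        SGA7.galAct τ (AbDual.TateMod.component C l (SGA7.pt Ω) m z).toMul =
          (AbDual.TateMod.component C l (SGA7.pt Ω) m z).toMul) →
      (∀ (τ : Ω ≃ₐ[K] Ω) (m : ℕ), SGA7.IsInertia W τ →
        SGA7.galAct τ (AbDual.TateMod.component A l (SGA7.pt Ω) m (AbDual.tateMap u z)).toMul =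
          (AbDual.TateMod.component A l (SGA7.pt Ω) m (AbDual.tateMap u z)).toMul)) ∧
    (∀ z : AbDual.TateMod C l (SGA7.pt Ω), AbDual.tateMap (l := l) (T := SGA7.pt Ω) u z = 0 → z = 0) ∧
    (∀ y : AbDual.TateMod A l (SGA7.pt Ω),
      (∀ (τ : Ω ≃ₐ[K] Ω) (m : ℕ), SGA7.IsInertia W τ →
        SGA7.galAct τ (AbDual.TateMod.component A l (SGA7.pt Ω) m y).toMul =
          (AbDual.TateMod.component A l (SGA7.pt Ω) m y).toMul) →
      ∃ z : AbDual.TateMod C l (SGA7.pt Ω),
        (∀ (τ : Ω ≃ₐ[K] Ω) (m : ℕ), SGA7.IsInertia W τ →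
        SGA7.galAct τ (AbDual.TateMod.component C l (SGA7.pt Ω) m z).toMul =
          (AbDual.TateMod.component C l (SGA7.pt Ω) m z).toMul) ∧
        AbDual.tateMap (l := l) (T := SGA7.pt Ω) u z = n • y) := by
  have huv' : ∀ {T : Over (Spec (CommRingCat.of K))} (x : T ⟶ C), (x ≫ u) ≫ v = x ^ n := by
    intro T x
    rw [Category.assoc, huv, MonObj.comp_pow, Category.comp_id]
  have hvu' : ∀ {T : Over (Spec (CommRingCat.of K))} (x : T ⟶ A), (x ≫ v) ≫ u = x ^ n := by
    intro T x
    rw [Category.assoc, hvu, MonObj.comp_pow, Category.comp_id]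
  refine ⟨?_, ?_, ?_⟩
  · intro z hz τ m hτ
    rw [AbDual.tateMap_component]
    show SGA7.specAut τ ≫ _ ≫ u = _ ≫ u
    rw [← Category.assoc]
    exact congrArg (· ≫ u) (hz τ m hτ)
  · intro z hz
    have key : ∀ m, n • (z : ℕ → Additive (SGA7.pt Ω ⟶ C)) m = 0 := by
      intro m
      have h1 := congrArg (fun y => (AbDual.TateMod.component A l (SGA7.pt Ω) m y).toMul) hz
      simp only [AbDual.tateMap_component, map_zero, toMul_zero] at h1
      have h2 := huv' ((AbDual.TateMod.component C l (SGA7.pt Ω) m z).toMul)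
      rw [h1, MonObj.one_comp] at h2
      apply Additive.toMul.injective
      exact h2.symm
    obtain ⟨a, n', hn', rfl⟩ := Nat.exists_eq_pow_mul_and_not_dvd hn.ne' l hl.ne_one
    refine AbDual.TateMod.ext fun m => ?_
    have hpow : ∀ (a : ℕ), (l ^ a) • (z : ℕ → Additive (SGA7.pt Ω ⟶ C)) (m + a) =
        (z : ℕ → Additive (SGA7.pt Ω ⟶ C)) m := by
      intro a
      induction a with
      | zero => simp
      | succ a ih =>
        rw [pow_succ, mul_smul, ← Nat.add_assoc, z.compat, ih]
    have h1 : n' • (z : ℕ → Additive (SGA7.pt Ω ⟶ C)) m = 0 := by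
      rw [← hpow a, smul_smul, mul_comm]
      exact key (m + a)
    have h2 : (l ^ m) • (z : ℕ → Additive (SGA7.pt Ω ⟶ C)) m = 0 := z.torsion m
    have hc : Nat.Coprime n' (l ^ m) :=
      (Nat.Coprime.pow_right m ((hl.coprime_iff_not_dvd.mpr hn').symm))
    have hd : addOrderOf ((z : ℕ → Additive (SGA7.pt Ω ⟶ C)) m) ∣ Nat.gcd n' (l ^ m) :=
      Nat.dvd_gcd (addOrderOf_dvd_of_nsmul_eq_zero h1) (addOrderOf_dvd_of_nsmul_eq_zero h2)
    rw [hc, Nat.dvd_one, AddMonoid.addOrderOf_eq_one_iff] at hd
    simpa using hd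
  · intro y hy
    refine ⟨AbDual.tateMap (l := l) (T := SGA7.pt Ω) v y, ?_, ?_⟩
    · intro τ m hτ
      rw [AbDual.tateMap_component]
      show SGA7.specAut τ ≫ _ ≫ v = _ ≫ v
      rw [← Category.assoc]
      exact congrArg (· ≫ v) (hy τ m hτ)
    · refine AbDual.TateMod.ext fun m => ?_
      rw [AddSubgroup.coe_nsmul, Pi.smul_apply]
      apply Additive.toMul.injective
      rw [toMul_nsmul]
      exact hvu' _

end Groth.Agent.S12314
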