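import Groth.Statements.S1238
import Groth.Agent.RGLib.Harvest

set_option autoImplicit false
universe u
open FlatMor

namespace Groth.Agent.S1238

/-- Ring form, X = Spec S, S = Spec R affine: let R be a ring with finitely many weakly associated
primes and S a finite type R-algebra. Then the set of primes q of S with S_q flat over R is open in
Spec S, and every such q has a basic open neighbourhood D(g) with S_g flat and of finite
presentation over R. -/
theorem result {R S : Type u} [CommRing R] [CommRing S] [Algebra R S] [Algebra.FiniteType R S]
    (hR : (FlatCA.weakAss R R).Finite) :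
    IsOpen {q : PrimeSpectrum S | Module.Flat R (Localization.AtPrime q.asIdeal)} ∧
    ∀ (q : Ideal S) [q.IsPrime], Module.Flat R (Localization.AtPrime q) → ∃ g : S, g ∉ q ∧
      Algebra.FinitePresentation R (Localization.Away g) ∧ Module.Flat R (Localization.Away g) := by
  classical
  refine ⟨Groth.Agent.RGLib.isOpen_flatLocus_finiteType hR S, fun q _ hq => ?_⟩
  obtain ⟨n, f, hf⟩ := Algebra.FiniteType.iff_quotient_mvPolynomial''.mp ‹Algebra.FiniteType R S›
  let P := MvPolynomial (Fin n) R
  letI : Algebra P S := f.toRingHom.toAlgebra
  haveI : IsScalarTower R P S := IsScalarTower.of_algebraMap_eq fun r => (f.commutes r).symm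
  haveI : Module.Finite P S := Module.Finite.of_surjective (Algebra.linearMap P S) hf
  have h0 : Module.Flat R (LocalizedModule (q.comap (algebraMap P S)).primeCompl S) :=
    (Groth.Agent.RGLib.flat_localized_comap_iff (A := R) hf q).2 hq
  obtain ⟨g, hg, h1, h2, -⟩ := Groth.Agent.RGLib.exists_nhd (A := R) S hR (q.comap (algebraMap P S)) h0
  let Sg := Localization.Away (algebraMap P S g)
  refine ⟨algebraMap P S g, hg, ?_, ?_⟩
  · let Pg := Localization.Away g
    let φ : Pg →+* Sg := Localization.awayMap (algebraMap P S) g
    have hφ : ∀ x, φ (algebraMap P Pg x) = algebraMap S Sg (algebraMap P S x) := fun x =>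
      IsLocalization.map_eq _ x
    letI : Algebra Pg Sg := φ.toAlgebra
    haveI : IsScalarTower P Pg Sg := IsScalarTower.of_algebraMap_eq fun x => by
      show _ = φ _
      rw [hφ, ← IsScalarTower.algebraMap_apply]
    have hφs : Function.Surjective φ := fun y => by
      obtain ⟨⟨s, t⟩, rfl⟩ := IsLocalization.mk'_surjective (Submonoid.powers (algebraMap P S g)) y
      obtain ⟨s', rfl⟩ := hf s
      obtain ⟨_, k, rfl⟩ := t
      refine ⟨IsLocalization.mk' Pg s' (⟨g ^ k, k, rfl⟩ : Submonoid.powers g),
        (IsLocalization.map_units Sg (⟨_, k, rfl⟩ : Submonoid.powers (algebraMap P S g))).mul_left_injective ?_⟩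
      show φ _ * algebraMap S Sg ((algebraMap P S g) ^ k) = _
      rw [← map_pow (algebraMap P S), ← hφ, ← map_mul, IsLocalization.mk'_spec, hφ]
      refine (IsLocalization.mk'_spec Sg (algebraMap P S s') (⟨_, k, rfl⟩ : Submonoid.powers (algebraMap P S g))).symm.trans ?_
      simp only [map_pow]
      rfl
    haveI : IsLocalizedModule (Submonoid.powers g) ((Algebra.linearMap S Sg).restrictScalars P) := by
      haveI : IsLocalizedModule (Algebra.algebraMapSubmonoid S (Submonoid.powers g)) (Algebra.linearMap S Sg) := by
        rw [Algebra.algebraMapSubmonoid_powers]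
        exact (isLocalizedModule_iff_isLocalization' _ _).2 inferInstance
      exact IsLocalizedModule.restrictScalars _ _
    haveI : Module.FinitePresentation Pg Sg := Module.FinitePresentation.of_equiv
      ((IsLocalizedModule.iso (Submonoid.powers g) ((Algebra.linearMap S Sg).restrictScalars P)).extendScalarsOfIsLocalization
        (Submonoid.powers g) Pg)
    haveI : Algebra.FinitePresentation P Pg := IsLocalization.Away.finitePresentation g
    haveI : Algebra.FinitePresentation R Pg := Algebra.FinitePresentation.trans R P Pg
    have hk : (RingHom.ker φ).FG := by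
      have := Module.FinitePresentation.fg_ker (Algebra.linearMap Pg Sg) hφs
      rwa [show LinearMap.ker (Algebra.linearMap Pg Sg) = RingHom.ker φ from Submodule.ext fun x => Iff.rfl] at this
    let φA : Pg →ₐ[R] Sg :=
      { toRingHom := φ
        commutes' := fun r => by
          show φ (algebraMap R Pg r) = algebraMap R Sg r
          rw [IsScalarTower.algebraMap_apply R P Pg, hφ, ← IsScalarTower.algebraMap_apply R P S, ← IsScalarTower.algebraMap_apply] }
    exact Algebra.FinitePresentation.of_surjective (f := φA) hφs hk
  · haveI : IsLocalizedModule (Submonoid.powers g) ((Algebra.linearMap S Sg).restrictScalars P) := by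
      haveI : IsLocalizedModule (Algebra.algebraMapSubmonoid S (Submonoid.powers g)) (Algebra.linearMap S Sg) := by
        rw [Algebra.algebraMapSubmonoid_powers]
        exact (isLocalizedModule_iff_isLocalization' _ _).2 inferInstance
      exact IsLocalizedModule.restrictScalars _ _
    exact Module.Flat.of_linearEquiv
      ((IsLocalizedModule.iso (Submonoid.powers g) ((Algebra.linearMap S Sg).restrictScalars P)).restrictScalars R).symm

end Groth.Agent.S1238
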