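import Groth.Statements.S12422
import Groth.Agent.SmoothCrit.Omega
import Groth.Agent.SmoothReg.Omega
import Groth.Agent.CurveCohLib.RegularCurve
import Groth.Agent.SmoothReg.Scheme
import Groth.Agent.FlatDvr.FibreStalk
-- import your own Groth.Agent.* helpers here

set_option autoImplicit false
set_option backward.isDefEq.respectTransparency false
set_option backward.isDefEq.respectTransparency.types false
set_option linter.style.haveILetI false
set_option maxHeartbeats 1000000
universe u
open CategoryTheory CategoryTheory.Limits AlgebraicGeometry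
open NonsingVar

namespace Groth.Agent.S12422
open Groth.Agent

/-- Let k be an algebraically closed field, X an irreducible scheme which is separated and of finite
type over k, n = dim X, and (Ω, d) a sheaf of relative differentials of X over k, i.e. d : O_X → Ω a
universal k-derivation. Then Ω is locally free of rank n if and only if every local ring of X is
regular (X is a nonsingular variety over k). -/
theorem result (k : Type u) [Field k] [IsAlgClosed k] (n : ℕ)
    (X : Scheme.{u}) [X.Over (Spec (CommRingCat.of k))] [IrreducibleSpace ↥X]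
    [IsSeparated (X ↘ (Spec (CommRingCat.of k)))] [LocallyOfFiniteType (X ↘ (Spec (CommRingCat.of k)))]
    [QuasiCompact (X ↘ (Spec (CommRingCat.of k)))]
    (hn : topologicalKrullDim ↥X = (n : WithBot ℕ∞))
    (Ω : X.Modules) (d : OmegaSh.Der (X ↘ (Spec (CommRingCat.of k))) Ω) (hd : OmegaSh.IsUniversal d) :
    FlatMod.IsFinLocFreeOfRank n Ω ↔ ∀ x : ↥X, IsRegularLocalRing ↑(X.presheaf.stalk x) := by
  let p := X ↘ Spec (CommRingCat.of k)
  haveI : QuasiSeparated p := inferInstance
  haveI : IsNoetherianRing (CommRingCat.of k) := inferInstanceAs (IsNoetherianRing k)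
  haveI := LocallyOfFiniteType.isLocallyNoetherian p
  haveI : LocallyOfFinitePresentation p := inferInstance
  obtain ⟨α, hα, -⟩ := hd _ (OmegaSh.dOmega p)
  obtain ⟨β, hβ, -⟩ := OmegaUniv.isUniversal_dOmega p _ d
  obtain ⟨γ, -, hγ⟩ := hd _ d
  obtain ⟨δ, -, hδ⟩ := OmegaUniv.isUniversal_dOmega p _ (OmegaSh.dOmega p)
  have h1 : α ≫ β = 𝟙 Ω := (hγ (α ≫ β) ((show _ = (d.postcomp α.val).postcomp β.val from rfl).trans
    ((congrArg (fun D => D.postcomp β.val) hα).trans hβ))).trans (hγ (𝟙 Ω) rfl).symm
  have h2 : β ≫ α = 𝟙 _ := (hδ (β ≫ α) ((show _ = ((OmegaSh.dOmega p).postcomp β.val).postcomp α.val from rfl).trans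
    ((congrArg (fun D => D.postcomp α.val) hβ).trans hα))).trans (hδ (𝟙 _) rfl).symm
  let e : Ω ≅ Omega.sheaf p := ⟨α, β, h1, h2⟩
  constructor
  · intro H
    have hcl : ∀ x : X, IsClosed ({x} : Set X) → IsRegularLocalRing (X.presheaf.stalk x) := fun x hx => by
      obtain ⟨U, hxU, ⟨t⟩⟩ := H x
      obtain ⟨hfree, hfin, hrk⟩ := SmoothCrit.free_stalk_of_restrict p
        (((Scheme.Modules.restrictFunctor U.ι).mapIso e).symm ≪≫ t) hxU
      let K' := (Spec (CommRingCat.of k)).presheaf.stalk (p x)
      letI : Field K' := IsField.toField ⟨⟨0, 1, zero_ne_one⟩, mul_comm, fun {a} ha => by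
        obtain ⟨u, hu⟩ := (FlatDvr.eq_zero_or_isUnit_stalk_field k (p x) a).resolve_left ha
        exact ⟨↑u⁻¹, by rw [← hu]; exact u.mul_inv⟩⟩
      letI : Algebra K' (X.presheaf.stalk x) := (p.stalkMap x).hom.toAlgebra
      have hsurj : Function.Surjective (algebraMap K' (IsLocalRing.ResidueField (X.presheaf.stalk x))) := fun z => by
        obtain ⟨c, hc⟩ := CurveSection.surjective_resMap k hx z
        refine ⟨(Spec (CommRingCat.of k)).presheaf.germ ⊤ (p x) trivial ((Scheme.ΓSpecIso (CommRingCat.of k)).inv c), ?_⟩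
        rw [← hc]
        show X.residue x (p.stalkMap x _) = X.residue x (X.presheaf.germ ⊤ x trivial _)
        exact congrArg (X.residue x) (p.germ_stalkMap_apply ⊤ x trivial _)
      haveI : Algebra.FormallyEtale K' (IsLocalRing.ResidueField (X.presheaf.stalk x)) := by
        rw [Algebra.FormallyEtale.iff_of_surjective hsurj,
          (RingHom.injective_iff_ker_eq_bot _).mp (algebraMap K' _).injective]
        exact Ideal.bot_mul ⊥
      haveI := hfree
      haveI := hfin
      haveI : IsNoetherianRing (X.presheaf.stalk x) := inferInstance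
      refine IsRegularLocalRing.of_spanFinrank_maximalIdeal_le _ (le_of_eq ?_)
      rw [IsLocalRing.spanFinrank_maximalIdeal_eq_finrank_cotangentSpace_of_fg (IsNoetherian.noetherian _),
        SmoothReg.finrank_cotangentSpace_eq (k := K'), hrk, SmoothReg.ringKrullDim_stalk_closedPoint p hx, hn]
    haveI := CurveCohLib.RegularCurve.smooth_of_regular k hcl
    exact fun x => SmoothReg.isRegularLocalRing_stalk_of_mem_smoothLocus p ((p.smoothLocus_eq_top).ge trivial)
  · intro hreg x
    haveI := CurveCohLib.RegularCurve.smooth_of_regular k fun x _ => hreg x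
    haveI := SmoothCrit.smoothOfRelativeDimension_dim p n hn
    obtain ⟨U, m, hxU, ⟨t⟩⟩ := S5018.result p ((S1488.result p).1 inferInstance).2 _ _ (OmegaUniv.isUniversal_dOmega p) x
    obtain rfl : n = m :=
      (SmoothCrit.free_stalk_of_smooth p n x).2.2.symm.trans (SmoothCrit.free_stalk_of_restrict p t hxU).2.2
    exact ⟨U, hxU, ⟨(Scheme.Modules.restrictFunctor U.ι).mapIso e ≪≫ t⟩⟩

end Groth.Agent.S12422
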