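import Groth.Statements.S12431
import Groth.Agent.CurveExt.UnipotentTwo
import Groth.Agent.S12430
import Groth.Agent.CurveCohLib.RegularCurve

set_option autoImplicit false
universe u
open CategoryTheory CategoryTheory.Limits AlgebraicGeometry
open Curves

namespace Groth.Agent.S12431

/-- Uniqueness, e = 0 case: let C be an elliptic curve over an algebraically closed field k — integral,
proper over k, of dimension one, all local rings regular, of genus 1 — and let E and E′ be locally
free O_C-modules of rank 2 which are normalized (H^0(C, E) ≠ 0 while H^0(C, E ⊗ M) = 0 for every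
invertible M of negative degree; likewise for E′), indecomposable (not isomorphic to a direct sum of
two invertible modules) and of degree 0, where deg E = χ(E) − 2χ(O_C). Then E and E′ are isomorphic:
there is exactly one elliptic ruled surface with invariant e = 0 and indecomposable E. -/
theorem result (k : Type u) [Field k] [IsAlgClosed k] (C : Scheme.{u}) [C.Over (Spec (CommRingCat.of k))]
    [IsIntegral C] [IsProper (C ↘ (Spec (CommRingCat.of k)))] (hdimC : topologicalKrullDim C = 1)
    (hregC : ∀ x : C, IsRegularLocalRing (C.presheaf.stalk x)) (hg : Curv2.genus k C = 1)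
    (E : C.Modules) (hE : FlatMod.IsFinLocFreeOfRank 2 E)
    (hE0 : Nontrivial (Coh.HH C E 0))
    (hEneg : ∀ M : C.Modules, PicF.IsInvertible M → Curv2.deg k C M 1 < 0 → Subsingleton (Coh.HH C (CohB1.tensorMod E M) 0))
    (hEind : ∀ L₁ L₂ : C.Modules, PicF.IsInvertible L₁ → PicF.IsInvertible L₂ → IsEmpty (E ≅ L₁ ⊞ L₂))
    (hEdeg : Curv2.deg k C E 2 = 0)
    (E' : C.Modules) (hE' : FlatMod.IsFinLocFreeOfRank 2 E')
    (hE'0 : Nontrivial (Coh.HH C E' 0))
    (hE'neg : ∀ M : C.Modules, PicF.IsInvertible M → Curv2.deg k C M 1 < 0 → Subsingleton (Coh.HH C (CohB1.tensorMod E' M) 0))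
    (hE'ind : ∀ L₁ L₂ : C.Modules, PicF.IsInvertible L₁ → PicF.IsInvertible L₂ → IsEmpty (E' ≅ L₁ ⊞ L₂))
    (hE'deg : Curv2.deg k C E' 2 = 0) :
    Nonempty (E ≅ E') := by
  haveI := Groth.Agent.CurveCohLib.RegularCurve.smooth_of_regular k (X := C) fun x _ => hregC x
  haveI := Groth.Agent.CurveCohLib.isNoetherian_of_proper (k := k) (X := C)
  haveI : ConnectedSpace C := inferInstance
  have hO := Groth.Agent.CurveCohLib.finrank_h0_eq_one k C
  have hOI : PicF.IsInvertible (Coh.structureModule C) := Groth.Agent.CurveDeg.isInvertible_structureModule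
  have hOf := Groth.Agent.CurveStable.isFinLocFree_of_rank (Groth.Agent.InvEnd.isFinLocFreeOfRank_one hOI)
  have key : ∀ (V : C.Modules), FlatMod.IsFinLocFreeOfRank 2 V → Nontrivial (Coh.HH C V 0) →
      (∀ M : C.Modules, PicF.IsInvertible M → Curv2.deg k C M 1 < 0 → Subsingleton (Coh.HH C (CohB1.tensorMod V M) 0)) →
      (∀ L₁ L₂ : C.Modules, PicF.IsInvertible L₁ → PicF.IsInvertible L₂ → IsEmpty (V ≅ L₁ ⊞ L₂)) →
      Curv2.deg k C V 2 = 0 →
      ∃ (i : Coh.structureModule C ⟶ V) (p : V ⟶ Coh.structureModule C) (w : i ≫ p = 0),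
        (ShortComplex.mk i p w).ShortExact ∧ ¬ IsSplitEpi p := by
    intro V hV hV0 hVneg hVind hVdeg
    have hpos : Module.finrank k (Coh.HH C V 0) ≠ 0 := by
      haveI := hV0
      haveI := Groth.Agent.S0002.result k C V (Groth.Agent.CurveStable.coh_of_free k
        (Groth.Agent.CurveStable.isFinLocFree_of_rank hV)) 0
      exact Module.finrank_pos.ne'
    obtain ⟨s, hs⟩ := Groth.Agent.CurveRR.exists_hom_ne_zero k hpos
    have hQ := Groth.Agent.S12430.result k C hdimC hregC V hV hV0 hVneg s hs
    have hQ1 := Groth.Agent.InvEnd.isFinLocFreeOfRank_one hQ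
    have hQf := Groth.Agent.CurveStable.isFinLocFree_of_rank hQ1
    haveI : Mono s := Groth.Agent.CurveSection.mono_of_ne_zero k hdimC.le hOf
      (Groth.Agent.CurveBundle.rk_eq (Groth.Agent.InvEnd.isFinLocFreeOfRank_one hOI))
      (Groth.Agent.CurveStable.isFinLocFree_of_rank hV) s hs
    have hS := Groth.Agent.CurveSlope.shortExact_cokernel_of_mono s
    have hns : ¬ IsSplitEpi (cokernel.π s) := fun h => by
      haveI := h
      exact (hVind _ _ hOI hQ).false (ShortComplex.Splitting.ofExactOfSection _ hS.exact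
        (section_ (cokernel.π s)) (IsSplitEpi.id (cokernel.π s)) inferInstance).isoBinaryBiproduct
    obtain ⟨a, ha⟩ : ∃ a : Coh.structureModule C ⟶ cokernel s, a ≠ 0 := by
      by_contra hc
      push Not at hc
      exact hns (Groth.Agent.CurveExt.isSplitEpi_of_hom_eq_zero k hO hdimC hg hS hOf hQf hc)
    have hd := Groth.Agent.CurveSlope.dg_add k _ _ _ hS (Groth.Agent.CurveStable.coh_of_free k hOf)
      (Groth.Agent.CurveStable.coh_of_free k (Groth.Agent.CurveStable.isFinLocFree_of_rank hV))
      (Groth.Agent.CurveStable.coh_of_free k hQf)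
    rw [← Groth.Agent.CurveSlope.deg_eq_dg k hV, hVdeg,
      ← Groth.Agent.CurveSlope.deg_eq_dg k (Groth.Agent.InvEnd.isFinLocFreeOfRank_one hOI),
      ← Groth.Agent.CurveSlope.deg_eq_dg k hQ1, Groth.Agent.CurveDeg.deg_structureModule] at hd
    haveI := (Groth.Agent.CurveDeg.deg_le_and_isIso k hdimC.le hOI hQ a ha).2
      (by rw [Groth.Agent.CurveDeg.deg_structureModule]; omega)
    refine ⟨s, cokernel.π s ≫ inv a, by rw [cokernel.condition_assoc, zero_comp],
      ShortComplex.shortExact_of_iso (S₁ := ShortComplex.mk s (cokernel.π s) (cokernel.condition s))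
        (ShortComplex.isoMk (Iso.refl _) (Iso.refl _) (asIso a).symm (by simp) (by simp)) hS, fun h => hns ?_⟩
    haveI := h
    exact IsSplitEpi.mk' ⟨inv a ≫ section_ (cokernel.π s ≫ inv a), by
      rw [Category.assoc, ← cancel_mono (inv a), Category.assoc, Category.assoc, IsSplitEpi.id]
      simp⟩
  obtain ⟨i, p, w, hS, hns⟩ := key E hE hE0 hEneg hEind hEdeg
  obtain ⟨i', p', w', hS', hns'⟩ := key E' hE' hE'0 hE'neg hE'ind hE'deg
  exact Groth.Agent.CurveExt.nonempty_iso_of_selfExt k hO hdimC hg i p w hS hns i' p' w' hS' hns'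

end Groth.Agent.S12431
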