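import Groth.Statements.S12437
import Mathlib

set_option autoImplicit false
universe u
open Cubic

namespace Groth.Agent.S12437

section

open MvPolynomial

variable {D : Type u} [CommRing D] [IsDomain D]

/-- a quadratic polynomial over a domain with coprime coefficients and nonsquare discriminant -/
theorem irreducible_quadratic (A B C : D) (hA : A ≠ 0) (hdisc : ∀ w, B ^ 2 - 4 * A * C ≠ w ^ 2)
    (hcop : ∀ p, p ∣ A → p ∣ B → p ∣ C → IsUnit p) :
    Irreducible (Polynomial.C A * Polynomial.X ^ 2 + Polynomial.C B * Polynomial.X + Polynomial.C C) := by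
  set f := Polynomial.C A * Polynomial.X ^ 2 + Polynomial.C B * Polynomial.X + Polynomial.C C
  have hdeg : f.natDegree = 2 := Polynomial.natDegree_quadratic hA
  have hf0 : f ≠ 0 := fun h => by simp [h] at hdeg
  have c2 : f.coeff 2 = A := by simp [f]
  have c1 : f.coeff 1 = B := by simp [f]
  have c0 : f.coeff 0 = C := by simp [f]
  refine ⟨fun h => by have := Polynomial.natDegree_eq_zero_of_isUnit h; omega, fun P Q h => ?_⟩
  have hP : P ≠ 0 := fun h0 => hf0 (by rw [h, h0, zero_mul])
  have hQ : Q ≠ 0 := fun h0 => hf0 (by rw [h, h0, mul_zero])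
  have hsum : P.natDegree + Q.natDegree = 2 := by rw [← Polynomial.natDegree_mul hP hQ, ← h, hdeg]
  have hconst : ∀ P Q : Polynomial D, f = P * Q → P.natDegree = 0 → IsUnit P := by
    intro P Q h hd
    have hP := Polynomial.eq_C_of_natDegree_eq_zero hd
    rw [hP] at h ⊢
    refine Polynomial.isUnit_C.2 (hcop _ ⟨Q.coeff 2, ?_⟩ ⟨Q.coeff 1, ?_⟩ ⟨Q.coeff 0, ?_⟩)
    · rw [← c2, h, Polynomial.coeff_C_mul]
    · rw [← c1, h, Polynomial.coeff_C_mul]
    · rw [← c0, h, Polynomial.coeff_C_mul]
  by_cases h0 : P.natDegree = 0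
  · exact Or.inl (hconst P Q h h0)
  by_cases h2 : Q.natDegree = 0
  · exact Or.inr (hconst Q P (by rw [h, mul_comm]) h2)
  exfalso
  obtain ⟨p, q, hpq⟩ : ∃ p q, P = Polynomial.C p * Polynomial.X + Polynomial.C q :=
    ⟨_, _, Polynomial.eq_X_add_C_of_natDegree_le_one (by omega)⟩
  obtain ⟨r, s, hrs⟩ : ∃ r s, Q = Polynomial.C r * Polynomial.X + Polynomial.C s :=
    ⟨_, _, Polynomial.eq_X_add_C_of_natDegree_le_one (by omega)⟩
  have e : f = Polynomial.C (p * r) * Polynomial.X ^ 2 + Polynomial.C (p * s + q * r) * Polynomial.X +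
      Polynomial.C (q * s) := by rw [h, hpq, hrs]; simp; ring
  have a2 : A = p * r := by
    rw [← c2, e]; simp only [Polynomial.coeff_add, Polynomial.coeff_C_mul_X_pow, Polynomial.coeff_C_mul_X, Polynomial.coeff_C]; simp
  have a1 : B = p * s + q * r := by
    rw [← c1, e]; simp only [Polynomial.coeff_add, Polynomial.coeff_C_mul_X_pow, Polynomial.coeff_C_mul_X, Polynomial.coeff_C]; simp
  have a0 : C = q * s := by rw [← c0, e]; simp
  exact hdisc (p * s - q * r) (by rw [a2, a1, a0]; ring)

/-- a linear polynomial over a domain with coprime coefficients -/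
theorem irreducible_linear' (A B : D) (hA : A ≠ 0) (hcop : ∀ p, p ∣ A → p ∣ B → IsUnit p) :
    Irreducible (Polynomial.C A * Polynomial.X + Polynomial.C B) := by
  set f := Polynomial.C A * Polynomial.X + Polynomial.C B
  have hdeg : f.natDegree = 1 := Polynomial.natDegree_linear hA
  have hf0 : f ≠ 0 := fun h => by simp [h] at hdeg
  have c1 : f.coeff 1 = A := by simp [f]
  have c0 : f.coeff 0 = B := by simp [f]
  refine ⟨fun h => by have := Polynomial.natDegree_eq_zero_of_isUnit h; omega, fun P Q h => ?_⟩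
  have hP : P ≠ 0 := fun h0 => hf0 (by rw [h, h0, zero_mul])
  have hQ : Q ≠ 0 := fun h0 => hf0 (by rw [h, h0, mul_zero])
  have hsum : P.natDegree + Q.natDegree = 1 := by rw [← Polynomial.natDegree_mul hP hQ, ← h, hdeg]
  have hconst : ∀ P Q : Polynomial D, f = P * Q → P.natDegree = 0 → IsUnit P := by
    intro P Q h hd
    have hP := Polynomial.eq_C_of_natDegree_eq_zero hd
    rw [hP] at h ⊢
    refine Polynomial.isUnit_C.2 (hcop _ ⟨Q.coeff 1, ?_⟩ ⟨Q.coeff 0, ?_⟩)
    · rw [← c1, h, Polynomial.coeff_C_mul]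
    · rw [← c0, h, Polynomial.coeff_C_mul]
  by_cases h0 : P.natDegree = 0
  · exact Or.inl (hconst P Q h h0)
  · exact Or.inr (hconst Q P (by rw [h, mul_comm]) (by omega))

variable (k : Type u) [Field k] [IsAlgClosed k] [CharZero k]

omit [IsAlgClosed k] [CharZero k] in
theorem irreducible_sum_two : Irreducible (X 0 + X 1 : MvPolynomial (Fin 2) k) := by
  have h : finSuccEquiv k 1 (X 0 + X 1 : MvPolynomial (Fin 2) k) =
      Polynomial.C 1 * Polynomial.X + Polynomial.C (X 0) := by
    rw [show (X 1 : MvPolynomial (Fin 2) k) = X (Fin.succ 0) from rfl, map_add, finSuccEquiv_X_zero,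
      finSuccEquiv_X_succ, map_one, one_mul]
  rw [← MulEquiv.irreducible_iff (finSuccEquiv k 1).toMulEquiv]
  show Irreducible (finSuccEquiv k 1 _)
  rw [h]
  exact irreducible_linear' 1 _ one_ne_zero fun p hp _ => isUnit_of_dvd_one hp

omit [IsAlgClosed k] [CharZero k] in
theorem irreducible_e2 : Irreducible (X 0 * X 1 + X 0 * X 2 + X 1 * X 2 : MvPolynomial (Fin 3) k) := by
  have h : finSuccEquiv k 2 (X 0 * X 1 + X 0 * X 2 + X 1 * X 2 : MvPolynomial (Fin 3) k) =
      Polynomial.C (X 0 + X 1) * Polynomial.X + Polynomial.C (X 0 * X 1) := by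
    rw [show (X 1 : MvPolynomial (Fin 3) k) = X (Fin.succ 0) from rfl,
      show (X 2 : MvPolynomial (Fin 3) k) = X (Fin.succ 1) from rfl]
    simp only [map_add, map_mul, finSuccEquiv_X_zero, finSuccEquiv_X_succ]
    ring
  rw [← MulEquiv.irreducible_iff (finSuccEquiv k 2).toMulEquiv]
  show Irreducible (finSuccEquiv k 2 _)
  rw [h]
  refine irreducible_linear' _ _ (irreducible_sum_two k).ne_zero fun p h1 h2 => ?_
  refine ((irreducible_sum_two k).dvd_iff.1 h1).resolve_right fun ha => ?_
  have h3 := map_dvd (MvPolynomial.eval ![(1 : k), -1]) (ha.dvd.trans h2)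
  simp at h3

theorem exists_point : ∃ w : k, w ^ 2 + w + 1 = 0 := by
  obtain ⟨w, hw⟩ := IsAlgClosed.exists_root (Polynomial.C (1 : k) * Polynomial.X ^ 2 + Polynomial.C 1 * Polynomial.X +
    Polynomial.C 1) (by rw [Polynomial.degree_quadratic one_ne_zero]; norm_num)
  exact ⟨w, by simpa using hw⟩

/-- `e₁'`, `e₂'`, `e₃'`, `e₄'` in four variables -/
noncomputable def e (i : Fin 4) : MvPolynomial (Fin 4) k :=
  ![X 0 + X 1 + X 2 + X 3,
    X 0 * X 1 + X 0 * X 2 + X 0 * X 3 + X 1 * X 2 + X 1 * X 3 + X 2 * X 3,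
    X 0 * X 1 * X 2 + X 0 * X 1 * X 3 + X 0 * X 2 * X 3 + X 1 * X 2 * X 3,
    X 0 * X 1 * X 2 * X 3] i

/-- the eliminant -/
noncomputable def elim : MvPolynomial (Fin 4) k := e k 1 * e k 2 - e k 0 * e k 3

theorem irreducible_elim : Irreducible (elim k) := by
  set a : MvPolynomial (Fin 3) k := X 0 + X 1 + X 2 with ha
  set b : MvPolynomial (Fin 3) k := X 0 * X 1 + X 0 * X 2 + X 1 * X 2 with hb
  set c : MvPolynomial (Fin 3) k := X 0 * X 1 * X 2 with hc
  have h : finSuccEquiv k 3 (elim k) = Polynomial.C (a * b - c) * Polynomial.X ^ 2 +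
      Polynomial.C (b ^ 2) * Polynomial.X + Polynomial.C (b * c) := by
    simp only [elim, e, Matrix.cons_val]
    rw [show (X 1 : MvPolynomial (Fin 4) k) = X (Fin.succ 0) from rfl,
      show (X 2 : MvPolynomial (Fin 4) k) = X (Fin.succ 1) from rfl,
      show (X 3 : MvPolynomial (Fin 4) k) = X (Fin.succ 2) from rfl]
    simp only [map_add, map_sub, map_mul, map_pow, finSuccEquiv_X_zero, finSuccEquiv_X_succ, ha, hb, hc]
    ring
  obtain ⟨w, hw⟩ := exists_point k
  have hpc : ¬ b ∣ c := fun hd => by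
    have h1 := map_dvd (MvPolynomial.eval ![(1 : k), w, w ^ 2]) hd
    have h0 : (MvPolynomial.eval ![(1 : k), w, w ^ 2]) b = 0 := by
      simp [hb]; linear_combination w * hw
    rw [h0, zero_dvd_iff] at h1
    simp [hc] at h1
    rw [h1] at hw
    simp at hw
  have hbp : Prime b := (irreducible_e2 k).prime
  have hA : ¬ b ∣ a * b - c := fun hd => hpc (by simpa using dvd_sub (dvd_mul_left b a) hd)
  rw [← MulEquiv.irreducible_iff (finSuccEquiv k 3).toMulEquiv]
  show Irreducible (finSuccEquiv k 3 _)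
  rw [h]
  refine irreducible_quadratic _ _ _ (fun h0 => hA (h0 ▸ dvd_zero b)) (fun v hv => ?_) fun p h1 h2 _ => ?_
  · have hb0 := hbp.ne_zero
    have hv' : b * (b ^ 3 - 4 * (a * b - c) * c) = v ^ 2 := by rw [← hv]; ring
    obtain ⟨v', rfl⟩ := hbp.dvd_of_dvd_pow (Dvd.intro _ hv')
    have h3 : b ^ 3 - 4 * (a * b - c) * c = b * v' ^ 2 := mul_left_cancel₀ hb0 (by rw [hv']; ring)
    have h4 : b ∣ 4 * (c * c) := ⟨v' ^ 2 + 4 * a * c - b ^ 2, by linear_combination h3⟩
    rcases hbp.dvd_or_dvd h4 with h5 | h5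
    · refine hbp.not_unit (isUnit_of_dvd_unit h5 ?_)
      rw [show (4 : MvPolynomial (Fin 3) k) = MvPolynomial.C 4 by rw [map_ofNat]]
      exact (isUnit_iff_ne_zero.2 (by norm_num : (4 : k) ≠ 0)).map _
    · exact hpc ((hbp.dvd_or_dvd h5).elim id id)
  · obtain ⟨i, -, hi⟩ := (dvd_prime_pow hbp 2).1 h2
    rcases i with _ | i
    · rw [pow_zero] at hi; exact hi.symm.isUnit isUnit_one
    · exact absurd ((dvd_pow_self b (Nat.succ_ne_zero i)).trans (hi.symm.dvd.trans h1)) hA

/-- restriction to `e₁' = 0` -/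
noncomputable def psi : MvPolynomial (Fin 5) k →ₐ[k] MvPolynomial (Fin 4) k :=
  aeval ![-(X 0 + X 1 + X 2), X 0, X 1, X 2, X 3]

/-- the inclusion of the first four variables -/
noncomputable def incl : MvPolynomial (Fin 4) k →ₐ[k] MvPolynomial (Fin 5) k := rename Fin.castSucc

theorem irreducible_conic :
    Irreducible (X 0 ^ 2 + X 0 * X 1 + X 0 * X 2 + X 1 ^ 2 + X 1 * X 2 + X 2 ^ 2 : MvPolynomial (Fin 4) k) := by
  have h : finSuccEquiv k 3 (X 0 ^ 2 + X 0 * X 1 + X 0 * X 2 + X 1 ^ 2 + X 1 * X 2 + X 2 ^ 2 : MvPolynomial (Fin 4) k) =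
      Polynomial.C 1 * Polynomial.X ^ 2 + Polynomial.C (X 0 + X 1) * Polynomial.X +
        Polynomial.C (X 0 ^ 2 + X 0 * X 1 + X 1 ^ 2) := by
    rw [show (X 1 : MvPolynomial (Fin 4) k) = X (Fin.succ 0) from rfl,
      show (X 2 : MvPolynomial (Fin 4) k) = X (Fin.succ 1) from rfl]
    simp only [map_add, map_mul, map_pow, finSuccEquiv_X_zero, finSuccEquiv_X_succ, map_one]
    ring
  rw [← MulEquiv.irreducible_iff (finSuccEquiv k 3).toMulEquiv]
  show Irreducible (finSuccEquiv k 3 _)
  rw [h]
  refine irreducible_quadratic _ _ _ one_ne_zero (fun w hw => ?_) fun p hp _ _ => isUnit_of_dvd_one hp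
  let ev : MvPolynomial (Fin 3) k →ₐ[k] Polynomial k := aeval ![Polynomial.X, 1, 0]
  have h1 := congrArg ev hw
  simp only [ev, map_sub, map_mul, map_pow, map_add, map_one, map_ofNat, aeval_X, Matrix.cons_val] at h1
  set v : Polynomial k := (aeval ![Polynomial.X, 1, 0] : MvPolynomial (Fin 3) k →ₐ[k] Polynomial k) w
  have h1' : Polynomial.C (-3 : k) * Polynomial.X ^ 2 + Polynomial.C (-2) * Polynomial.X + Polynomial.C (-3) =
      v ^ 2 := by rw [← h1]; simp [map_ofNat]; ring
  obtain ⟨y, hy⟩ := IsAlgClosed.exists_root (Polynomial.C (-3 : k) * Polynomial.X ^ 2 + Polynomial.C (-2) * Polynomial.X +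
    Polynomial.C (-3)) (by rw [Polynomial.degree_quadratic (by norm_num)]; norm_num)
  have hy' : -3 * y ^ 2 + -2 * y + -3 = 0 := by simpa using hy
  have hv : v.eval y = 0 := by
    rw [h1', Polynomial.IsRoot, Polynomial.eval_pow] at hy
    exact eq_zero_of_pow_eq_zero hy
  have h3 := congrArg (fun p => (Polynomial.derivative p).eval y) h1'
  simp [Polynomial.derivative_pow, hv] at h3
  have h8 : (8 : k) = 0 := by linear_combination -3 * hy' + (3 * y + 1) / 2 * h3
  norm_num at h8

omit [IsAlgClosed k] [CharZero k] in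
theorem ker_psi (p : MvPolynomial (Fin 5) k) (hp : psi k p = 0) : incl k (e k 0) ∣ p := by
  let r : MvPolynomial (Fin 4) k →ₐ[k] MvPolynomial (Fin 5) k := rename Fin.succ
  have hq : (Ideal.Quotient.mk (Ideal.span {incl k (e k 0)})).comp (r.comp (psi k)).toRingHom =
      Ideal.Quotient.mk (Ideal.span {incl k (e k 0)}) := by
    refine MvPolynomial.ringHom_ext (fun c => by simp [r, psi]) fun i => ?_
    fin_cases i
    · simp only [RingHom.comp_apply, AlgHom.toRingHom_eq_coe, RingHom.coe_coe, AlgHom.comp_apply, psi, aeval_X]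
      rw [Ideal.Quotient.mk_eq_mk_iff_sub_mem, Ideal.mem_span_singleton]
      refine ⟨-1, ?_⟩
      simp [r, incl, e]
      ring
    all_goals simp [r, psi]
  have h := RingHom.congr_fun hq p
  simp only [RingHom.comp_apply, AlgHom.toRingHom_eq_coe, RingHom.coe_coe, AlgHom.comp_apply, hp, map_zero] at h
  exact Ideal.mem_span_singleton.1 (Ideal.Quotient.eq_zero_iff_mem.1 h.symm)

omit [IsAlgClosed k] [CharZero k] in
theorem esymm_two : esymm (Fin 5) k 2 = incl k (e k 1) + X 4 * incl k (e k 0) := by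
  rw [esymm_eq_multiset_esymm, show (Finset.univ : Finset (Fin 5)).val = ↑([0, 1, 2, 3, 4] : List (Fin 5)) from rfl]
  simp [Multiset.esymm, ← Multiset.cons_coe, Multiset.powersetCard_cons, Multiset.powersetCard_one, incl, e]
  ring

omit [IsAlgClosed k] [CharZero k] in
theorem esymm_four : esymm (Fin 5) k 4 = incl k (e k 3) + X 4 * incl k (e k 2) := by
  rw [esymm_eq_multiset_esymm, show (Finset.univ : Finset (Fin 5)).val = ↑([0, 1, 2, 3, 4] : List (Fin 5)) from rfl]
  simp [Multiset.esymm, ← Multiset.cons_coe, Multiset.powersetCard_cons, Multiset.powersetCard_one, incl, e]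
  ring

/-- no minimal prime lies over `e₁' = 0` -/
theorem not_mem_minimal (P : Ideal (MvPolynomial (Fin 5) k))
    (hP : P ∈ (Ideal.span ({esymm (Fin 5) k 2, esymm (Fin 5) k 4} : Set (MvPolynomial (Fin 5) k))).minimalPrimes) :
    incl k (e k 0) ∉ P := by
  intro ha
  haveI := hP.1.1
  have hI : ∀ x ∈ ({esymm (Fin 5) k 2, esymm (Fin 5) k 4} : Set (MvPolynomial (Fin 5) k)), x ∈ P :=
    fun x hx => hP.1.2 (Ideal.subset_span hx)
  have h2 := hI _ (Set.mem_insert _ _)
  have h4 := hI _ (Set.mem_insert_of_mem _ rfl)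
  rw [esymm_two] at h2
  rw [esymm_four] at h4
  have he2 : incl k (e k 1) ∈ P := (P.add_mem_iff_left (P.mul_mem_left _ ha)).1 h2
  set q : MvPolynomial (Fin 4) k := X 0 ^ 2 + X 0 * X 1 + X 0 * X 2 + X 1 ^ 2 + X 1 * X 2 + X 2 ^ 2
  haveI : (Ideal.span {q}).IsPrime :=
    (Ideal.span_singleton_prime (irreducible_conic k).ne_zero).2 (irreducible_conic k).prime
  set P₁ := (⊥ : Ideal (MvPolynomial (Fin 4) k)).comap (psi k) with hP₁
  set P₂ := (Ideal.span {q}).comap (psi k) with hP₂
  haveI : P₁.IsPrime := Ideal.comap_isPrime _ _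
  haveI : P₂.IsPrime := Ideal.comap_isPrime _ _
  have hpa : psi k (incl k (e k 0)) = 0 := by simp [psi, incl, e]; ring
  have hpe : psi k (incl k (e k 1)) = -q := by simp [psi, incl, e, q]; ring
  have h01 : ⊥ < P₁ := by
    refine bot_lt_iff_ne_bot.2 fun h0 => ?_
    have : incl k (e k 0) ∈ P₁ := by rw [hP₁, Ideal.mem_comap, hpa]; exact zero_mem _
    rw [h0, Ideal.mem_bot] at this
    have h := congrArg (MvPolynomial.eval ![(1 : k), 0, 0, 0, 0]) this
    simp [incl, e] at h
  have h12 : P₁ < P₂ := by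
    refine lt_of_le_of_ne (Ideal.comap_mono bot_le) fun h => ?_
    have : incl k (e k 1) ∈ P₂ := by
      rw [hP₂, Ideal.mem_comap, hpe, Ideal.mem_span_singleton]; exact dvd_neg.2 dvd_rfl
    rw [← h, hP₁, Ideal.mem_comap, hpe, Ideal.mem_bot, neg_eq_zero] at this
    exact (irreducible_conic k).ne_zero this
  have h23 : P₂ < P := by
    refine lt_of_le_of_ne (fun p hp => ?_) fun h => ?_
    · rw [hP₂, Ideal.mem_comap, Ideal.mem_span_singleton] at hp
      obtain ⟨r, hr⟩ := hp
      have hd : incl k (e k 0) ∣ p + incl k (e k 1) * rename Fin.succ r := by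
        refine ker_psi k _ ?_
        have : psi k (rename Fin.succ r) = r := by
          rw [psi, aeval_rename]
          convert aeval_X_left_apply r
          funext i; fin_cases i <;> rfl
        rw [map_add, map_mul, hr, hpe, this]; ring
      obtain ⟨z, hz⟩ := hd
      have : p = incl k (e k 0) * z - incl k (e k 1) * rename Fin.succ r := by rw [← hz]; ring
      rw [this]
      exact sub_mem (P.mul_mem_right _ ha) (P.mul_mem_right _ he2)
    · obtain ⟨w, hw⟩ := exists_point k
      rw [← h, hP₂, Ideal.mem_comap, Ideal.mem_span_singleton] at h4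
      have h5 := map_dvd (MvPolynomial.eval ![w, w ^ 2, (0 : k), 1]) h4
      have hq0 : MvPolynomial.eval ![w, w ^ 2, (0 : k), 1] q = 0 := by
        simp [q]; linear_combination w ^ 2 * hw
      rw [hq0, zero_dvd_iff] at h5
      simp [psi, incl, e] at h5
      rcases h5 with h5 | h5
      · exact one_ne_zero (α := k) (by linear_combination h5 + hw)
      · rw [h5] at hw; simp at hw
  have hh : P.height ≤ 2 := by
    refine (Ideal.height_le_card_of_mem_minimalPrimes_span (Set.toFinite _) hP).trans ?_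
    exact_mod_cast (Set.ncard_insert_le _ _).trans_eq (by rw [Set.ncard_singleton])
  have a1 := Ideal.height_add_one_le_of_lt_of_isPrime h01
  have a2 := Ideal.height_add_one_le_of_lt_of_isPrime h12
  have a3 := Ideal.height_add_one_le_of_lt_of_isPrime h23
  have : (3 : ℕ∞) ≤ P.height := by
    refine le_trans (le_trans ?_ (add_le_add_left (le_trans (add_le_add_left a1 1) a2) 1)) a3
    simp
    norm_num
  exact absurd (this.trans hh) (by norm_num)

end

/-- Over an algebraically closed field k of characteristic zero, the closed subscheme V(σ₂, σ₄) of A^5_k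
cut out by the elementary symmetric polynomials of degrees 2 and 4 in five variables — the affine
cone over the surface H = V_+(σ₂, σ₄) ⊂ P^4_k — is irreducible: the radical of the ideal (σ₂, σ₄) of
k[X_0, …, X_4] is a prime ideal. -/
theorem result (k : Type u) [Field k] [IsAlgClosed k] [CharZero k] :
    (Ideal.span ({MvPolynomial.esymm (Fin 5) k 2, MvPolynomial.esymm (Fin 5) k 4} :
      Set (MvPolynomial (Fin 5) k))).radical.IsPrime := by
  classical
  set I := Ideal.span ({MvPolynomial.esymm (Fin 5) k 2, MvPolynomial.esymm (Fin 5) k 4} :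
    Set (MvPolynomial (Fin 5) k)) with hI
  haveI : (Ideal.span {elim k}).IsPrime :=
    (Ideal.span_singleton_prime (irreducible_elim k).ne_zero).2 (irreducible_elim k).prime
  let D := MvPolynomial (Fin 4) k ⧸ Ideal.span {elim k}
  let π : MvPolynomial (Fin 4) k →ₐ[k] D := Ideal.Quotient.mkₐ k _
  let F := FractionRing D
  let ρ : MvPolynomial (Fin 4) k →ₐ[k] F := (IsScalarTower.toAlgHom k D F).comp π
  have hρ : ∀ p, ρ p = 0 ↔ elim k ∣ p := fun p => by
    simp only [ρ, AlgHom.comp_apply, IsScalarTower.toAlgHom_apply]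
    rw [map_eq_zero_iff _ (IsFractionRing.injective D F), ← Ideal.mem_span_singleton,
      ← Ideal.Quotient.eq_zero_iff_mem]
    rfl
  obtain ⟨w, hw⟩ := exists_point k
  have he0 : ρ (e k 0) ≠ 0 := fun h => by
    -- the eliminant does not divide the linear form
    have hd := (hρ _).1 h
    have h1 := map_dvd (MvPolynomial.eval ![(1 : k), w, w ^ 2, 0]) hd
    have hq := map_dvd (MvPolynomial.eval ![(1 : k), 0, 0, 0]) hd
    simp [elim, e] at hq
  let t : F := -ρ (e k 1) / ρ (e k 0)
  let Φ : MvPolynomial (Fin 5) k →ₐ[k] F := MvPolynomial.aeval (Fin.snoc (fun i => ρ (MvPolynomial.X i)) t)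
  have hΦi : ∀ p, Φ (incl k p) = ρ p := fun p => by
    rw [incl, MvPolynomial.aeval_rename]
    conv_rhs => rw [MvPolynomial.aeval_unique ρ]
    congr 1
    refine MvPolynomial.algHom_ext fun i => ?_
    simp
  have hΦt : Φ (MvPolynomial.X 4) = t := by
    show MvPolynomial.aeval _ (MvPolynomial.X (Fin.last 4)) = t
    rw [MvPolynomial.aeval_X, Fin.snoc_last]
  have ht : ρ (e k 1) + t * ρ (e k 0) = 0 := by simp only [t]; rw [div_mul_cancel₀ _ he0, add_neg_cancel]
  have hel : ρ (e k 1) * ρ (e k 2) - ρ (e k 0) * ρ (e k 3) = 0 := by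
    rw [← map_mul, ← map_mul, ← map_sub]; exact (hρ _).2 dvd_rfl
  set P₀ := RingHom.ker Φ.toRingHom
  haveI hP₀ : P₀.IsPrime := RingHom.ker_isPrime _
  have hle : I ≤ P₀ := Ideal.span_le.2 (by
    rintro x (rfl | rfl) <;> rw [SetLike.mem_coe, RingHom.mem_ker]
    · show Φ (MvPolynomial.esymm (Fin 5) k 2) = 0
      rw [esymm_two, map_add, map_mul, hΦi, hΦi, hΦt]; exact ht
    · show Φ (MvPolynomial.esymm (Fin 5) k 4) = 0
      rw [esymm_four, map_add, map_mul, hΦi, hΦi, hΦt]
      refine (mul_eq_zero.1 (?_ : ρ (e k 0) * _ = 0)).resolve_left he0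
      linear_combination ρ (e k 2) * ht - hel)
  have hmin : ∀ P ∈ I.minimalPrimes, P = P₀ := by
    intro P hP
    haveI := hP.1.1
    have ha := not_mem_minimal k P hP
    have he : MvPolynomial.esymm (Fin 5) k 2 ∈ P := hP.1.2 (Ideal.subset_span (Set.mem_insert _ _))
    have h4 : MvPolynomial.esymm (Fin 5) k 4 ∈ P := hP.1.2 (Ideal.subset_span (Set.mem_insert_of_mem _ rfl))
    rw [esymm_two] at he
    rw [esymm_four] at h4
    -- clearing the last variable
    have hclear : ∀ p, ∃ (N : ℕ) (q : MvPolynomial (Fin 4) k), incl k (e k 0) ^ N * p - incl k q ∈ P ∧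
        ρ (e k 0) ^ N * Φ p = ρ q := by
      intro p
      induction p using MvPolynomial.induction_on with
      | C c => exact ⟨0, MvPolynomial.C c, by simp [incl], by simp [Φ, ← MvPolynomial.algebraMap_eq]⟩
      | add p q hp hq =>
        obtain ⟨N, p', h1, h1'⟩ := hp
        obtain ⟨M, q', h2, h2'⟩ := hq
        refine ⟨N + M, e k 0 ^ M * p' + e k 0 ^ N * q', ?_, ?_⟩
        · have := add_mem (P.mul_mem_left (incl k (e k 0) ^ M) h1) (P.mul_mem_left (incl k (e k 0) ^ N) h2)
          convert this using 1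
          simp only [map_add, map_mul, map_pow]; ring
        · simp only [map_add, map_mul, map_pow, ← h1', ← h2']; ring
      | mul_X p i hp =>
        obtain ⟨N, p', h1, h1'⟩ := hp
        induction i using Fin.lastCases with
        | last =>
          refine ⟨N + 1, -(e k 1) * p', ?_, ?_⟩
          · have := add_mem (P.mul_mem_left (MvPolynomial.X (Fin.last 4) * incl k (e k 0)) h1)
              (P.mul_mem_right (incl k p') he)
            convert this using 1
            simp only [map_mul, map_neg, show Fin.last 4 = (4 : Fin 5) from rfl]; ring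
          · simp only [map_mul, map_neg, ← h1', show Fin.last 4 = (4 : Fin 5) from rfl, hΦt]
            linear_combination ρ (e k 0) ^ N * Φ p * ht
        | cast i =>
          have hX : MvPolynomial.X i.castSucc = incl k (MvPolynomial.X i) := by simp [incl]
          refine ⟨N, p' * MvPolynomial.X i, ?_, ?_⟩
          · convert P.mul_mem_right (MvPolynomial.X i.castSucc) h1 using 1
            rw [map_mul, ← hX]; ring
          · rw [map_mul, map_mul, hX, hΦi, ← h1']; ring
    have hPle : P₀ ≤ P := by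
      intro p hp
      obtain ⟨N, q, h1, h1'⟩ := hclear p
      rw [show Φ p = 0 from hp, mul_zero] at h1'
      obtain ⟨r, rfl⟩ := (hρ q).1 h1'.symm
      have hH : incl k (elim k) ∈ P := by
        have := sub_mem (P.mul_mem_left (incl k (e k 2)) he) (P.mul_mem_left (incl k (e k 0)) h4)
        convert this using 1
        simp only [elim, map_sub, map_mul]; ring
      have hqP : incl k (elim k * r) ∈ P := by rw [map_mul]; exact P.mul_mem_right _ hH
      have := add_mem h1 hqP
      rw [sub_add_cancel] at this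
      exact (Ideal.IsPrime.mem_or_mem inferInstance this).resolve_left fun h =>
        ha (Ideal.IsPrime.mem_of_pow_mem inferInstance N h)
    exact le_antisymm (hP.2 ⟨hP₀, hle⟩ hPle) hPle
  have hrad : I.radical = P₀ := by
    refine le_antisymm ((Ideal.IsPrime.radical_le_iff hP₀).2 hle) fun p hp => ?_
    rw [← Ideal.sInf_minimalPrimes, Submodule.mem_sInf]
    intro P hP
    rw [hmin P hP]; exact hp
  rw [hrad]
  exact hP₀

end Groth.Agent.S12437
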