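import Groth.Statements.S12439
import Mathlib
import Groth.Agent.NoetherNormZ.Adapted
import Groth.Agent.VarDim.Basic

set_option autoImplicit false
universe u
open Variety

namespace Groth.Agent.S12439

open MvPolynomial NoetherNormZ in
/-- the quotient by the first `j` variables is a polynomial ring -/
noncomputable def quotInitEquiv (k : Type u) [Field k] (d j : ℕ) (hj : j ≤ d) :
    (MvPolynomial (Fin d) k ⧸ initIdeal k d j) ≃ₐ[k] MvPolynomial (Fin (d - j)) k := by
  classical
  refine AlgEquiv.ofAlgHom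
    (Ideal.Quotient.liftₐ _ (aeval fun l : Fin d => if hl : (l : ℕ) < j then (0 : MvPolynomial (Fin (d - j)) k)
      else X ⟨(l : ℕ) - j, by omega⟩) ?_)
    (aeval fun l : Fin (d - j) => Ideal.Quotient.mk _ (X (⟨(l : ℕ) + j, by omega⟩ : Fin d))) ?_ ?_
  · intro a ha
    refine (Ideal.span_le.2 ?_ : initIdeal k d j ≤ RingHom.ker _) ha
    rintro _ ⟨l, hl, rfl⟩
    simp [show (l : ℕ) < j from hl]
  · refine MvPolynomial.algHom_ext fun l => ?_
    simp only [AlgHom.comp_apply, aeval_X, AlgHom.id_apply]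
    erw [Ideal.Quotient.lift_mk]
    simp
  · refine Ideal.Quotient.algHom_ext _ (MvPolynomial.algHom_ext fun l => ?_)
    simp only [AlgHom.comp_apply, AlgHom.id_apply]
    erw [Ideal.Quotient.lift_mk]
    by_cases hl : (l : ℕ) < j
    · simp [hl]
      exact (Ideal.Quotient.eq_zero_iff_mem.2 (Ideal.subset_span (Set.mem_image_of_mem _ (show l ∈ {m : Fin d | (m : ℕ) < j} from hl)))).symm
    · simp [hl]
      congr 2
      exact Fin.ext (by simp; omega)

open NoetherNormZ in
theorem isPrime_initIdeal (k : Type u) [Field k] (d j : ℕ) (hj : j ≤ d) : (initIdeal k d j).IsPrime := by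
  rw [← Ideal.Quotient.isDomain_iff_prime]
  exact (quotInitEquiv k d j hj).injective.isDomain

open NoetherNormZ in
theorem ringKrullDim_quotInit (k : Type u) [Field k] (d j : ℕ) (hj : j ≤ d) :
    ringKrullDim (MvPolynomial (Fin d) k ⧸ initIdeal k d j) = ((d - j : ℕ) : WithBot ℕ∞) := by
  rw [ringKrullDim_eq_of_ringEquiv (quotInitEquiv k d j hj).toRingEquiv, MvPolynomial.ringKrullDim_of_isNoetherianRing,
    ringKrullDim_eq_zero_of_field, zero_add, Nat.card_fin]

open NoetherNormZ in
/-- one step up, below a given prime -/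
theorem exists_step {k A : Type u} [Field k] [CommRing A] [Algebra k A] {d j : ℕ} (hj : j + 1 ≤ d)
    (φ : MvPolynomial (Fin d) k →ₐ[k] A) (hφ : φ.toRingHom.IsIntegral) (Q q : Ideal A) [Q.IsPrime] [q.IsPrime]
    (hQ : Q.comap φ = initIdeal k d j) (hQq : Q ≤ q) (hle : initIdeal k d (j + 1) ≤ q.comap φ) :
    ∃ Q' : Ideal A, Q'.IsPrime ∧ Q ≤ Q' ∧ Q' ≤ q ∧ Q'.comap φ = initIdeal k d (j + 1) := by
  let R := MvPolynomial (Fin d) k ⧸ initIdeal k d j
  haveI hprime := isPrime_initIdeal k d j (by omega)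
  haveI : IsIntegrallyClosed R := IsIntegrallyClosed.of_equiv (quotInitEquiv k d j (by omega)).symm.toRingEquiv
  let ψ : R →+* A ⧸ Q := Ideal.quotientMap Q φ.toRingHom (le_of_eq hQ.symm)
  letI : Algebra R (A ⧸ Q) := ψ.toAlgebra
  haveI : FaithfulSMul R (A ⧸ Q) := (faithfulSMul_iff_algebraMap_injective _ _).2
    (Ideal.quotientMap_injective' (le_of_eq hQ))
  haveI : Algebra.IsIntegral R (A ⧸ Q) := ⟨(RingHom.IsIntegral.tower_top (Ideal.Quotient.mk (initIdeal k d j)) ψ (by
    rw [Ideal.quotientMap_comp_mk]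
    exact hφ.trans _ _ (RingHom.isIntegral_of_surjective _ Ideal.Quotient.mk_surjective)))⟩
  haveI := isPrime_initIdeal k d (j + 1) hj
  have hsub : initIdeal k d j ≤ initIdeal k d (j + 1) :=
    Ideal.span_mono (Set.image_mono fun l hl => Nat.lt_succ_of_lt hl)
  let p' : Ideal R := (initIdeal k d (j + 1)).map (Ideal.Quotient.mk _)
  haveI : p'.IsPrime := Ideal.map_isPrime_of_surjective Ideal.Quotient.mk_surjective (by simpa using hsub)
  let qb : Ideal (A ⧸ Q) := q.map (Ideal.Quotient.mk Q)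
  haveI : qb.IsPrime := Ideal.map_isPrime_of_surjective Ideal.Quotient.mk_surjective (by simpa using hQq)
  have hqb : qb.comap (Ideal.Quotient.mk Q) = q := by
    rw [Ideal.comap_map_of_surjective _ Ideal.Quotient.mk_surjective, sup_eq_left]
    exact le_of_eq_of_le (by rw [← RingHom.ker_eq_comap_bot, Ideal.mk_ker]) hQq
  have hp' : p'.comap (Ideal.Quotient.mk _) = initIdeal k d (j + 1) := by
    rw [Ideal.comap_map_of_surjective _ Ideal.Quotient.mk_surjective, sup_eq_left]
    exact le_of_eq_of_le (by rw [← RingHom.ker_eq_comap_bot, Ideal.mk_ker]) hsub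
  haveI : qb.LiesOver (qb.under R) := ⟨rfl⟩
  obtain ⟨P, hPle, hP, hPo⟩ := Ideal.exists_ideal_le_liesOver_of_le (p := p') (q := qb.under R) qb (by
    rw [← Ideal.comap_le_comap_iff_of_surjective _ Ideal.Quotient.mk_surjective, hp']
    rw [Ideal.under_def, Ideal.comap_comap]
    show _ ≤ qb.comap (ψ.comp (Ideal.Quotient.mk _))
    rw [Ideal.quotientMap_comp_mk, ← Ideal.comap_comap, hqb]
    exact hle)
  refine ⟨P.comap (Ideal.Quotient.mk Q), Ideal.comap_isPrime _ _, ?_, hqb ▸ Ideal.comap_mono hPle, ?_⟩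
  · exact le_of_eq_of_le (by rw [← RingHom.ker_eq_comap_bot, Ideal.mk_ker]) (Ideal.comap_mono bot_le)
  · rw [← hp', hPo.over, Ideal.under_def, Ideal.comap_comap]
    show _ = P.comap (ψ.comp (Ideal.Quotient.mk _))
    rw [Ideal.quotientMap_comp_mk]
    rfl

/-- Let k be a field, A an integral domain which is a finitely generated k-algebra of Krull dimension d,
and q_{h(1)} ⊊ … ⊊ q_{h(r)} a chain of prime ideals with dim A/q_{h(i)} = d − h(i), where 0 ≤ h(i) ≤
d. Then (1) there is a finite injective k-algebra homomorphism φ : k[T_1, …, T_d] → A with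
φ⁻¹(q_{h(i)}) = (T_1, …, T_{h(i)}) for every i (variables indexed from 0 below: the ideal generated
by the T_l with l < h(i)); and (2) for every such φ the given chain extends to a chain of primes q_0
⊊ … ⊊ q_d of A with φ⁻¹(q_j) = (T_1, …, T_j) for all j ≤ d. -/
theorem result (k A : Type u) [Field k]
    [CommRing A] [IsDomain A] [Algebra k A] [Algebra.FiniteType k A] (d : ℕ) (hd : ringKrullDim A = (d : WithBot ℕ∞))
    (r : ℕ) (q : Fin r → PrimeSpectrum A) (hq : StrictMono q) (h : Fin r → ℕ) (hh : ∀ i, h i ≤ d)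
    (hdim : ∀ i, ringKrullDim (A ⧸ (q i).asIdeal) = ((d - h i : ℕ) : WithBot ℕ∞)) :
    (∃ φ : MvPolynomial (Fin d) k →ₐ[k] A, φ.toRingHom.Finite ∧ Function.Injective φ ∧
      ∀ i, (q i).asIdeal.comap φ = Ideal.span (MvPolynomial.X '' {l : Fin d | (l : ℕ) < h i})) ∧
    (∀ φ : MvPolynomial (Fin d) k →ₐ[k] A, φ.toRingHom.Finite → Function.Injective φ →
      (∀ i, (q i).asIdeal.comap φ = Ideal.span (MvPolynomial.X '' {l : Fin d | (l : ℕ) < h i})) →
      ∃ Q : ℕ → PrimeSpectrum A,
        (∀ j, j ≤ d → (Q j).asIdeal.comap φ = Ideal.span (MvPolynomial.X '' {l : Fin d | (l : ℕ) < j})) ∧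
        (∀ j, j < d → Q j < Q (j + 1)) ∧ (∀ i, Q (h i) = q i)) := by
  classical
  have hint : ∀ (φ : MvPolynomial (Fin d) k →ₐ[k] A), Function.Injective φ → φ.toRingHom.IsIntegral → ∀ i,
      ∀ j ≤ d, (q i).asIdeal.comap φ = NoetherNormZ.initIdeal k d j → j = h i := by
    intro φ hinj hφ i j hj hc
    let ψ : (MvPolynomial (Fin d) k ⧸ NoetherNormZ.initIdeal k d j) →+* A ⧸ (q i).asIdeal :=
      Ideal.quotientMap _ φ.toRingHom (le_of_eq hc.symm)
    letI := ψ.toAlgebra
    haveI : FaithfulSMul (MvPolynomial (Fin d) k ⧸ NoetherNormZ.initIdeal k d j) (A ⧸ (q i).asIdeal) :=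
      (faithfulSMul_iff_algebraMap_injective _ _).2 (Ideal.quotientMap_injective' (le_of_eq hc))
    haveI : Algebra.IsIntegral (MvPolynomial (Fin d) k ⧸ NoetherNormZ.initIdeal k d j) (A ⧸ (q i).asIdeal) :=
      ⟨(RingHom.IsIntegral.tower_top (Ideal.Quotient.mk _) ψ (by
        rw [Ideal.quotientMap_comp_mk]
        exact hφ.trans _ _ (RingHom.isIntegral_of_surjective _ Ideal.Quotient.mk_surjective)))⟩
    have h1 := VarDim.ringKrullDim_eq_of_isIntegral (R := MvPolynomial (Fin d) k ⧸ NoetherNormZ.initIdeal k d j)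
      (S := A ⧸ (q i).asIdeal)
    rw [hdim i, ringKrullDim_quotInit k d j hj] at h1
    have h2 : d - h i = d - j := by exact_mod_cast h1
    have := hh i
    omega
  refine ⟨?_, ?_⟩
  · obtain ⟨s, ν, hνinj, hνfin⟩ := exists_finite_inj_algHom_of_fg k A
    have hsd : s = d := by
      letI := ν.toRingHom.toAlgebra
      haveI : Module.Finite (MvPolynomial (Fin s) k) A := hνfin
      haveI : Algebra.IsIntegral (MvPolynomial (Fin s) k) A := Algebra.IsIntegral.of_finite _ _
      haveI : FaithfulSMul (MvPolynomial (Fin s) k) A := (faithfulSMul_iff_algebraMap_injective _ _).2 hνinj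
      have h1 := VarDim.ringKrullDim_eq_of_isIntegral (R := MvPolynomial (Fin s) k) (S := A)
      rw [hd, MvPolynomial.ringKrullDim_of_isNoetherianRing, ringKrullDim_eq_zero_of_field, zero_add, Nat.card_fin] at h1
      exact_mod_cast h1.symm
    subst hsd
    obtain ⟨φ', hφi, hφinj, hφc⟩ := NoetherNormZ.exists_adapted s (fun i => (q i).asIdeal.comap ν)
      (fun i => Ideal.IsPrime.ne_top (Ideal.comap_isPrime ν _))
      (fun i j => (le_total i j).imp (fun hij => Ideal.comap_mono (hq.monotone hij)) fun hij => Ideal.comap_mono (hq.monotone hij))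
    refine ⟨ν.comp φ', NoetherNormZ.finite_of_isIntegral (hφi.trans _ _ hνfin.to_isIntegral), hνinj.comp hφinj, fun i => ?_⟩
    obtain ⟨j, hj, hc⟩ := hφc i
    have hc' : (q i).asIdeal.comap (ν.comp φ') = NoetherNormZ.initIdeal k s j := hc
    rw [hc', hint (ν.comp φ') (hνinj.comp hφinj) (hφi.trans _ _ hνfin.to_isIntegral) i j hj hc']
    rfl
  · intro φ hfin hinj hc
    have hc : ∀ i, (q i).asIdeal.comap φ = NoetherNormZ.initIdeal k d (h i) := hc
    letI := φ.toRingHom.toAlgebra
    haveI : Algebra.IsIntegral (MvPolynomial (Fin d) k) A := ⟨hfin.to_isIntegral⟩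
    have hlt : ∀ i i', i < i' → h i < h i' := by
      intro i i' hii
      have h1 : (q i).asIdeal.comap φ < (q i').asIdeal.comap φ :=
        Ideal.IsIntegral.comap_lt_comap (R := MvPolynomial (Fin d) k) (hq hii)
      rw [hc, hc] at h1
      by_contra hle
      exact h1.not_ge (Ideal.span_mono (Set.image_mono fun l hl => lt_of_lt_of_le hl (not_lt.1 hle)))
    have hmono : StrictMono h := fun i i' => hlt i i'
    suffices H : ∀ J ≤ d, ∃ Q : ℕ → PrimeSpectrum A,
        (∀ j, j ≤ J → (Q j).asIdeal.comap φ = NoetherNormZ.initIdeal k d j) ∧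
        (∀ j, j < J → Q j ≤ Q (j + 1)) ∧ (∀ i, h i ≤ J → Q (h i) = q i) ∧ ∀ i, J ≤ h i → Q J ≤ q i by
      obtain ⟨Q, hQc, hQm, hQh, -⟩ := H d le_rfl
      refine ⟨Q, hQc, fun j hj => (hQm j hj).lt_of_ne fun he => ?_, fun i => hQh i (hh i)⟩
      have h1 : NoetherNormZ.initIdeal k d j = NoetherNormZ.initIdeal k d (j + 1) := by
        rw [← hQc j hj.le, ← hQc (j + 1) hj, he]
      have h2 := ringKrullDim_quotInit k d j hj.le
      rw [h1, ringKrullDim_quotInit k d (j + 1) hj] at h2
      have h3 : d - (j + 1) = d - j := by exact_mod_cast h2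
      omega
    intro J
    induction J with
    | zero =>
      intro _
      refine ⟨fun _ => ⟨⊥, Ideal.isPrime_bot⟩, fun j hj => ?_, fun j hj => absurd hj (Nat.not_lt_zero j),
        fun i hi => ?_, fun i _ => bot_le⟩
      · rw [Nat.le_zero.1 hj, NoetherNormZ.initIdeal_zero]
        exact (RingHom.injective_iff_ker_eq_bot _).1 hinj
      · refine PrimeSpectrum.ext (Ideal.eq_bot_of_comap_eq_bot (R := MvPolynomial (Fin d) k) ?_).symm
        show (q i).asIdeal.comap φ = ⊥
        rw [hc, Nat.le_zero.1 hi, NoetherNormZ.initIdeal_zero]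
    | succ J ih =>
      intro hJ
      obtain ⟨Q, hQc, hQm, hQh, hQle⟩ := ih (by omega)
      obtain ⟨Q', hQ', hQQ', hQ'q, hQ'c⟩ : ∃ Q' : Ideal A, Q'.IsPrime ∧ (Q J).asIdeal ≤ Q' ∧
          (∀ i, J + 1 ≤ h i → Q' ≤ (q i).asIdeal ∧ (h i = J + 1 → Q' = (q i).asIdeal)) ∧
          Q'.comap φ = NoetherNormZ.initIdeal k d (J + 1) := by
        by_cases hex : ∃ i, J + 1 ≤ h i
        · obtain ⟨i₀, hi₀, hmin⟩ := Set.Finite.exists_minimalFor id {i | J + 1 ≤ h i} (Set.toFinite _) hex
          have hle : ∀ i, J + 1 ≤ h i → i₀ ≤ i := fun i hi => by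
            rcases le_total i₀ i with h1 | h1
            · exact h1
            · exact hmin hi h1
          rcases eq_or_lt_of_le (show J + 1 ≤ h i₀ from hi₀) with he | hlt'
          · refine ⟨(q i₀).asIdeal, inferInstance, hQle i₀ (by omega), fun i hi => ⟨hq.monotone (hle i hi), fun hi' => ?_⟩,
              by rw [hc, ← he]⟩
            rw [hmono.injective (hi'.trans he)]
          · obtain ⟨Q', hp, h1, h2, h3⟩ := exists_step hJ φ hfin.to_isIntegral (Q J).asIdeal (q i₀).asIdeal
              (hQc J le_rfl) (hQle i₀ (by omega)) (by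
                rw [hc]; exact Ideal.span_mono (Set.image_mono fun l hl => show (l : ℕ) < _ from lt_of_lt_of_le (show (l : ℕ) < J + 1 from hl) hi₀))
            refine ⟨Q', hp, h1, fun i hi => ⟨h2.trans (hq.monotone (hle i hi)), fun hi' => ?_⟩, h3⟩
            have := hmono.monotone (hle i hi)
            omega
        · haveI := isPrime_initIdeal k d (J + 1) hJ
          obtain ⟨Q', hge, hp, h3⟩ := Ideal.exists_ideal_over_prime_of_isIntegral_of_isPrime
            (NoetherNormZ.initIdeal k d (J + 1)) (Q J).asIdeal (by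
              show (Q J).asIdeal.comap φ ≤ _
              rw [hQc J le_rfl]; exact Ideal.span_mono (Set.image_mono fun l hl => Nat.lt_succ_of_lt hl))
          exact ⟨Q', hp, hge, fun i hi => absurd ⟨i, hi⟩ hex, h3⟩
      refine ⟨Function.update Q (J + 1) ⟨Q', hQ'⟩, fun j hj => ?_, fun j hj => ?_, fun i hi => ?_, fun i hi => ?_⟩
      · rcases eq_or_lt_of_le hj with rfl | hj'
        · rw [Function.update_self]; exact hQ'c
        · rw [Function.update_of_ne hj'.ne]; exact hQc j (by omega)
      · rw [Function.update_of_ne (by omega : j ≠ J + 1)]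
        rcases eq_or_lt_of_le (Nat.lt_succ_iff.1 hj) with rfl | hj'
        · rw [Function.update_self]; exact hQQ'
        · rw [Function.update_of_ne (by omega : j + 1 ≠ J + 1)]; exact hQm j hj'
      · rcases eq_or_lt_of_le hi with he | hi'
        · rw [he, Function.update_self]
          exact PrimeSpectrum.ext ((hQ'q i he.ge).2 he)
        · rw [Function.update_of_ne hi'.ne]; exact hQh i (by omega)
      · rw [Function.update_self]; exact (hQ'q i hi).1

end Groth.Agent.S12439
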