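import Groth.Statements.S12460
import Groth.Statements.S12460
set_option linter.style.haveILetI false

set_option autoImplicit false
universe u
open CategoryTheory AlgebraicGeometry
open Props

namespace Groth.Agent.S12460

/-- (1) ⇔ (3) ⇔ (4): let X be a locally Noetherian scheme. Then X is J-2 — for every morphism Y → X
locally of finite type the set of points y with O_{Y,y} a regular local ring is open in Y — if and
only if for every affine open U of X the ring Γ(X, U) is J-2 (every finite type algebra over it has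
open regular locus), if and only if every point of X lies in such an affine open. (Schemes Y over X
are taken in the universe of X.) -/
theorem result (X : Scheme.{u}) [IsLocallyNoetherian X] :
    ((∀ (Y : Scheme.{u}) (g : Y ⟶ X), LocallyOfFiniteType g →
        IsOpen {y : Y | IsRegularLocalRing (Y.presheaf.stalk y)}) ↔
      ∀ U : X.affineOpens, EGA4.IsJ2 Γ(X, U)) ∧
    ((∀ (Y : Scheme.{u}) (g : Y ⟶ X), LocallyOfFiniteType g →
        IsOpen {y : Y | IsRegularLocalRing (Y.presheaf.stalk y)}) ↔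
      ∀ x : X, ∃ U : X.affineOpens, x ∈ (U : X.Opens) ∧ EGA4.IsJ2 Γ(X, U)) := by
  have hstalk : ∀ (R : CommRingCat.{u}) (p : PrimeSpectrum R),
      IsRegularLocalRing ((Spec R).presheaf.stalk p) ↔ p ∈ EGA4.regLocus R := fun R p =>
    ⟨fun h => by
      haveI := h
      exact IsRegularLocalRing.of_ringEquiv (Spec.stalkIso R p).commRingCatIsoToRingEquiv,
    fun h => by
      haveI : IsRegularLocalRing (Localization.AtPrime p.asIdeal) := h
      exact IsRegularLocalRing.of_ringEquiv (Spec.stalkIso R p).commRingCatIsoToRingEquiv.symm⟩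
  have himm : ∀ {Y : Scheme.{u}} {Z : Scheme.{u}} (j : Z ⟶ Y) [IsOpenImmersion j] (p : Z),
      IsRegularLocalRing (Y.presheaf.stalk (j.base p)) ↔ IsRegularLocalRing (Z.presheaf.stalk p) := by
    intro Y Z j _ p
    exact ⟨fun h => by haveI := h; exact IsRegularLocalRing.of_ringEquiv (asIso (j.stalkMap p)).commRingCatIsoToRingEquiv,
      fun h => by haveI := h; exact IsRegularLocalRing.of_ringEquiv (asIso (j.stalkMap p)).commRingCatIsoToRingEquiv.symm⟩
  have h1 : (∀ (Y : Scheme.{u}) (g : Y ⟶ X), LocallyOfFiniteType g →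
        IsOpen {y : Y | IsRegularLocalRing (Y.presheaf.stalk y)}) → ∀ U : X.affineOpens, EGA4.IsJ2 Γ(X, U) := by
    intro H U S _ _ hS
    let φ : Γ(X, U) ⟶ CommRingCat.of S := CommRingCat.ofHom (algebraMap Γ(X, U) S)
    haveI : LocallyOfFiniteType (Spec.map φ) := by
      rw [HasRingHomProperty.Spec_iff (P := @LocallyOfFiniteType)]
      exact RingHom.finiteType_algebraMap.mpr hS
    haveI : IsOpenImmersion U.2.fromSpec := U.2.isOpenImmersion_fromSpec
    have := H (Spec (CommRingCat.of S)) (Spec.map φ ≫ U.2.fromSpec)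
      (MorphismProperty.comp_mem @LocallyOfFiniteType (Spec.map φ) U.2.fromSpec inferInstance inferInstance)
    have heq : {y : Spec (CommRingCat.of S) | IsRegularLocalRing ((Spec (CommRingCat.of S)).presheaf.stalk y)} =
        EGA4.regLocus S := Set.ext fun y => hstalk (CommRingCat.of S) y
    rw [heq] at this
    exact this
  have h2 : (∀ x : X, ∃ U : X.affineOpens, x ∈ (U : X.Opens) ∧ EGA4.IsJ2 Γ(X, U)) →
      ∀ (Y : Scheme.{u}) (g : Y ⟶ X), LocallyOfFiniteType g →
        IsOpen {y : Y | IsRegularLocalRing (Y.presheaf.stalk y)} := by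
    intro H Y g hg
    haveI := hg
    rw [isOpen_iff_forall_mem_open]
    intro y hy
    obtain ⟨U, hxU, hU⟩ := H (g.base y)
    obtain ⟨V, hV, hyV, hVU⟩ := exists_isAffineOpen_mem_and_subset (x := y) (U := g ⁻¹ᵁ (U : X.Opens)) hxU
    letI := (g.appLE U V hVU).hom.toAlgebra
    have hft : (g.appLE U V hVU).hom.FiniteType := g.finiteType_appLE U.2 hV hVU
    have hop : IsOpen (EGA4.regLocus Γ(Y, V)) := hU Γ(Y, V) hft
    refine ⟨hV.fromSpec.base '' EGA4.regLocus Γ(Y, V), ?_, hV.fromSpec.isOpenEmbedding.isOpenMap _ hop, ?_⟩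
    · rintro _ ⟨p, hp, rfl⟩
      exact (himm hV.fromSpec p).mpr ((hstalk _ p).mpr hp)
    · have : y ∈ Set.range hV.fromSpec.base := by rw [hV.range_fromSpec]; exact hyV
      obtain ⟨p, rfl⟩ := this
      exact ⟨p, (hstalk _ p).mp ((himm hV.fromSpec p).mp hy), rfl⟩
  have h3 : (∀ U : X.affineOpens, EGA4.IsJ2 Γ(X, U)) →
      ∀ x : X, ∃ U : X.affineOpens, x ∈ (U : X.Opens) ∧ EGA4.IsJ2 Γ(X, U) := fun H x => by
    obtain ⟨V, hV, hxV, -⟩ := exists_isAffineOpen_mem_and_subset (x := x) (U := (⊤ : X.Opens)) trivial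
    exact ⟨⟨V, hV⟩, hxV, H _⟩
  exact ⟨⟨h1, fun H => h2 (h3 H)⟩, ⟨fun H => h3 (h1 H), h2⟩⟩

end Groth.Agent.S12460
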