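import Groth.Statements.S1248
import Groth.Agent.FlatPure.Contract
import Groth.Agent.Hensel.NbhdPoints

set_option autoImplicit false
attribute [-instance] CategoryTheory.catToReflQuiver
set_option backward.isDefEq.respectTransparency false
set_option backward.isDefEq.respectTransparency.types false
universe u
open FlatMor

namespace Groth.Agent.S1248

open IsLocalRing in
/-- Ring form, X = Spec B affine: let B be a finite type A-algebra, N a finite B-module and p a prime of
A. If there is an impurity of N above p whose base change ring A' is a henselization of the local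
ring A_p (compatibly with A → A_p) and whose point t is the maximal ideal, then there is an impurity
of N above p for which (A', t) is an elementary étale ring map at p. -/
theorem result {A B : Type u} [CommRing A] [CommRing B] [Algebra A B] [Algebra.FiniteType A B]
    (N : Type u) [AddCommGroup N] [Module B N] [Module.Finite B N] (p : Ideal A) [p.IsPrime]
    (h : FlatCA.HasImpurity A B N p (fun A' _ _ t => ∃ (_ : IsLocalRing A') (_ : Algebra (Localization.AtPrime p) A')
        (_ : IsScalarTower A (Localization.AtPrime p) A') (_ : IsLocalHom (algebraMap (Localization.AtPrime p) A')),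
        Hensel.IsHenselization (Localization.AtPrime p) A' ∧ t = maximalIdeal A')) :
    FlatCA.HasImpurity A B N p (fun A' _ _ t => ∃ _ : t.IsPrime, FlatCA.IsEtaleNhd A A' p t) := by
  classical
  obtain ⟨A', B', N', _, _, _, _, _, _, _, _, _, _, _, _, _, _, f, t', t, _, _, P, _, himp,
    ⟨_, _, _, _, hh, htmax⟩⟩ := h
  haveI := hh
  obtain ⟨e, he⟩ := Groth.Agent.Hensel.exists_algEquiv_henz_residueField A p A'
  obtain ⟨a, ha, l, hl, hP⟩ := Groth.Agent.FlatPure.exists_witness himp
  obtain ⟨-, -, -, htp, -⟩ := id himp
  haveI := htp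
  have hfin : ∀ L : List A', ∃ M : Groth.Agent.Hensel.Nbhd A p.ResidueField,
      ∀ x ∈ L, ∃ b : M.B, e (Groth.Agent.Hensel.Henz.ofB M b) = x := by
    intro L
    induction L with
    | nil =>
      obtain ⟨M, -, -⟩ := Groth.Agent.Hensel.Henz.exists_ofB (R := A) (K := p.ResidueField) 0
      exact ⟨M, by simp⟩
    | cons x L ih =>
      obtain ⟨M, hM⟩ := ih
      obtain ⟨M', b, hb⟩ := Groth.Agent.Hensel.Henz.exists_ofB (e.symm x)
      obtain ⟨P₀, α, β, hα, hβ⟩ := M.exists_hom₂ M'
      refine ⟨P₀, fun z hz => ?_⟩
      rcases List.mem_cons.1 hz with rfl | hz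
      · refine ⟨β b, ?_⟩
        rw [← AlgHom.comp_apply, Groth.Agent.Hensel.Henz.ofB_comp β hβ, hb, AlgEquiv.apply_symm_apply]
      · obtain ⟨w, hw⟩ := hM z hz
        refine ⟨α w, ?_⟩
        rw [← AlgHom.comp_apply, Groth.Agent.Hensel.Henz.ofB_comp α hα, hw]
  obtain ⟨M, hM⟩ := hfin (a :: l.map Prod.fst)
  let φ : M.B →ₐ[A] A' := e.toAlgHom.comp (Groth.Agent.Hensel.Henz.ofB M)
  letI : Algebra M.B A' := φ.toRingHom.toAlgebra
  haveI : IsScalarTower A M.B A' := IsScalarTower.of_algebraMap_eq fun x => (φ.commutes x).symm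
  let w : Ideal M.B := t.comap (algebraMap M.B A')
  haveI : w.IsPrime := Ideal.IsPrime.comap _
  haveI : t.LiesOver w := ⟨rfl⟩
  haveI : w.LiesOver p := Ideal.LiesOver.tower_bot t w p
  have hker : RingHom.ker M.toK = w := by
    ext x
    show x ∈ RingHom.ker M.toK ↔ Groth.Agent.Hensel.Henz.ofB M x ∈ t.comap e.toAlgHom.toRingHom
    rw [htmax, he, Groth.Agent.Hensel.maximalIdeal_henz_residueField, RingHom.mem_ker, RingHom.mem_ker,
      Groth.Agent.Hensel.Henz.proj_ofB]
  obtain ⟨a'', ha''⟩ := hM a List.mem_cons_self
  obtain ⟨B'', N'', _, _, _, _, _, _, _, _, _, _, _, _, f'', P'', _, himp''⟩ :=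
    Groth.Agent.FlatPure.impurity_contract himp a l hl hP M.B a'' ha''
      (fun x hx => hM x.1 (List.mem_cons_of_mem _ (List.mem_map_of_mem hx))) w le_rfl
      (fun hm => ha (ha'' ▸ Ideal.mem_comap.1 hm))
  have hov : w.LiesOver p := inferInstance
  exact ⟨M.B, B'', N'', inferInstance, inferInstance, inferInstance, inferInstance, inferInstance, inferInstance,
    inferInstance, inferInstance, inferInstance, inferInstance, inferInstance, inferInstance, inferInstance,
    inferInstance, f'', t'.comap (algebraMap M.B A'), w, Ideal.IsPrime.comap _, inferInstance, P'', inferInstance,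
    himp'', inferInstance, inferInstance, hov, Groth.Agent.Hensel.bijective_of_point M.toK w hker hov.over⟩

end Groth.Agent.S1248
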