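import Groth.Statements.S12482
import Mathlib

set_option autoImplicit false
universe u
open Dual

namespace Groth.Agent.S12482


open RingTheory.Sequence

variable {A : Type u} [CommRing A]

/-- A relation of a weakly regular sequence has its coefficients in the ideal it generates. -/
lemma coeff_mem : ∀ (p : ℕ) (x : Fin p → A), IsWeaklyRegular A (List.ofFn x) →
    ∀ c : Fin p → A, ∑ i, c i * x i = 0 → ∀ i, c i ∈ Ideal.span (Set.range x) := by
  intro p
  induction p with
  | zero => exact fun _ _ _ _ i => i.elim0
  | succ p ih =>
    intro x hx c hc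
    rw [List.ofFn_succ', List.concat_eq_append, isWeaklyRegular_append_iff] at hx
    obtain ⟨hx₁, hx₂⟩ := hx
    let y : Fin p → A := fun i => x i.castSucc
    have hle : Ideal.span (Set.range y) ≤ Ideal.span (Set.range x) :=
      Ideal.span_mono (Set.range_comp_subset_range _ _)
    have hlist : Ideal.ofList (List.ofFn y) = Ideal.span (Set.range y) := by
      show Ideal.span {a | a ∈ List.ofFn y} = _
      congr 1
      ext a
      exact List.mem_ofFn
    rw [Fin.sum_univ_castSucc] at hc
    have hlast : c (Fin.last p) ∈ Ideal.span (Set.range y) := by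
      have h1 : x (Fin.last p) * c (Fin.last p) ∈ Ideal.span (Set.range y) := by
        rw [show x (Fin.last p) * c (Fin.last p) = -∑ i, c (Fin.castSucc i) * y i from
          eq_neg_of_add_eq_zero_left (by linear_combination hc)]
        exact neg_mem (sum_mem fun i _ => Ideal.mul_mem_left _ _
          (Ideal.subset_span (Set.mem_range_self i)))
      rw [isWeaklyRegular_cons_iff] at hx₂
      have h2 := (isSMulRegular_on_quot_iff_lsmul_comap_le _ _).1 hx₂.1
      have key : ∀ a : A, a ∈ (Ideal.ofList (List.ofFn y)) • (⊤ : Submodule A A) ↔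
          a ∈ Ideal.span (Set.range y) := fun a => by
        rw [hlist, smul_eq_mul, Ideal.mul_top]
      exact (key _).1 (h2 ((key _).2 h1))
    obtain ⟨d, hd⟩ := Submodule.mem_span_range_iff_exists_fun A |>.1 hlast
    have hrel : ∑ i, (c (Fin.castSucc i) + d i * x (Fin.last p)) * y i = 0 := by
      simp only [add_mul, Finset.sum_add_distrib]
      rw [show ∑ i, d i * x (Fin.last p) * y i = c (Fin.last p) * x (Fin.last p) by
        rw [← hd, Finset.sum_mul]
        exact Finset.sum_congr rfl fun i _ => by rw [smul_eq_mul]; ring]
      exact hc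
    intro i
    induction i using Fin.lastCases with
    | last => exact hle hlast
    | cast i =>
      have := hle (ih y hx₁ _ hrel i)
      exact (Ideal.add_mem_iff_left _ (Ideal.mul_mem_left _ _
        (Ideal.subset_span (Set.mem_range_self _)))).1 this


/-- Let `A` be a commutative ring, `x_1, …, x_p` a sequence of elements of `A` such that each `x_i` is a
non-zero-divisor on `A/(x_1, …, x_{i-1})`, and `J` the ideal generated by the `x_i`. Then `J/J²` is
a free `(A/J)`-module with basis the classes of the `x_i`: there is a basis of `J/J²` over `A/J`,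
indexed by `1, …, p`, whose `i`-th vector is the class of `x_i`. (The other assertions of the
published statement, on the Koszul complex and on Ext and Tor against `A/J`, are stated separately.) -/
theorem result (A : Type u) [CommRing A] (p : ℕ) (x : Fin p → A)
    (hreg : RingTheory.Sequence.IsWeaklyRegular A (List.ofFn x)) :
    ∃ b : Module.Basis (Fin p) (A ⧸ Ideal.span (Set.range x)) (Ideal.span (Set.range x)).Cotangent,
      ∀ i, b i = (Ideal.span (Set.range x)).toCotangent ⟨x i, Ideal.subset_span (Set.mem_range_self i)⟩ := by
  classical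
  let J := Ideal.span (Set.range x)
  let f : Fin p → J.Cotangent := fun i =>
    J.toCotangent ⟨x i, Ideal.subset_span (Set.mem_range_self i)⟩
  have hli : LinearIndependent (A ⧸ J) f := by
    rw [Fintype.linearIndependent_iff]
    intro g hg i
    choose a ha using fun i => Ideal.Quotient.mk_surjective (g i)
    let z : J := ∑ i, a i • (⟨x i, Ideal.subset_span (Set.mem_range_self i)⟩ : J)
    have hz : J.toCotangent z = 0 := by
      rw [map_sum, ← hg]
      refine Finset.sum_congr rfl fun i _ => ?_
      rw [map_smul, ← ha i]
      exact (IsScalarTower.algebraMap_smul (A ⧸ J) (a i) (f i)).symm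
    rw [Ideal.toCotangent_eq_zero, pow_two] at hz
    have hz' : (z : A) ∈ J * Ideal.span (Set.range x) := hz
    obtain ⟨b, hb, hbz⟩ := (Submodule.mem_ideal_smul_span_iff_exists_sum J x (z : A)).1
      (by rwa [smul_eq_mul])
    have hrel : ∑ i, (a i - b i) * x i = 0 := by
      rw [Finsupp.sum_fintype _ _ (fun i => by simp)] at hbz
      have h1 : ∑ i, b i * x i = ∑ i, a i * x i := by
        simpa [z, smul_eq_mul, Submodule.coe_sum] using hbz
      simp only [sub_mul, Finset.sum_sub_distrib, h1, sub_self]
    rw [← ha i, Ideal.Quotient.eq_zero_iff_mem]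
    have := add_mem (coeff_mem p x hreg _ hrel i) (hb i)
    simpa using this
  have hspan : ⊤ ≤ Submodule.span (A ⧸ J) (Set.range f) := by
    rintro v -
    obtain ⟨⟨w, hw⟩, rfl⟩ := J.toCotangent_surjective v
    obtain ⟨c, hc⟩ := (Submodule.mem_span_range_iff_exists_fun A).1 hw
    have : (⟨w, hw⟩ : J) = ∑ i, c i • (⟨x i, Ideal.subset_span (Set.mem_range_self i)⟩ : J) :=
      Subtype.ext (by simp [← hc, Submodule.coe_sum, smul_eq_mul])
    rw [this, map_sum]
    refine sum_mem fun i _ => ?_
    rw [map_smul, ← IsScalarTower.algebraMap_smul (A ⧸ J) (c i)]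
    exact Submodule.smul_mem _ _ (Submodule.subset_span (Set.mem_range_self i))
  exact ⟨Module.Basis.mk hli hspan, fun i => Module.Basis.mk_apply _ _ i⟩

end Groth.Agent.S12482
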