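import Groth.Statements.S12500
import Groth.Agent.S7785
import Groth.Agent.S11397
import Groth.Agent.S7976
import Groth.Agent.S10830
import Groth.Agent.GrpSchLib.Cartier
import Groth.Agent.GrpSchLib.SmoothReduced
import Groth.Agent.GeomField.Connected
import Groth.Agent.PTorsLib.SymVec

set_option autoImplicit false
set_option backward.isDefEq.respectTransparency false
set_option backward.isDefEq.respectTransparency.types false
set_option maxHeartbeats 1000000
set_option linter.style.haveILetI false
universe u
open CategoryTheory AlgebraicGeometry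
open Neron

namespace Groth.Agent.S12500
open Groth.Agent AlgebraicGeometry CategoryTheory.Limits

/-- Let k be an algebraically closed field and G a k-group scheme whose underlying scheme is integral,
separated and of finite type over k and has dimension one. Then either G is isomorphic to G_a as a
k-group scheme, or G is isomorphic to G_m as a k-group scheme, or G is proper over k and its group
law is commutative. (The published third alternative says G is an elliptic curve, i.e. a smooth
proper curve of genus one whose group-variety law is the elliptic-curve addition with origin the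
identity; this row records properness and the commutativity that the printed proof establishes.) -/
theorem result (k : Type u) [Field k] [IsAlgClosed k]
    (G : Over (Spec (CommRingCat.of k))) [GrpObj G] [IsIntegral G.left]
    [IsSeparated G.hom] [LocallyOfFiniteType G.hom] [QuasiCompact G.hom]
    (hdim : topologicalKrullDim ↥G.left = 1) :
    Nonempty (Grp.mk G ≅ Grp.mk (Red.Ga (Spec (CommRingCat.of k)))) ∨
      Nonempty (Grp.mk G ≅ Grp.mk (Red.Gm (Spec (CommRingCat.of k)))) ∨
      (IsProper G.hom ∧ IsCommMonObj G) := by
  haveI : Smooth G.hom := GrpSchLib.smooth_of_isReduced_of_isAlgClosed G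
  by_cases hp : IsProper G.hom
  · right; right
    refine ⟨hp, ?_⟩
    haveI : GeometricallyReduced G.hom := GrpSchLib.geometricallyReduced_of_smooth G.hom
    letI : G.left.Over (Spec (CommRingCat.of k)) := ⟨G.hom⟩
    haveI : GeometricallyConnected G.hom := by
      have hb : Function.Bijective (algebraMap k (SeparableClosure k)) :=
        ⟨(algebraMap k (SeparableClosure k)).injective, IsSepClosed.algebraMap_surjective k _⟩
      haveI : IsIso (Spec.map (CommRingCat.ofHom (algebraMap k (SeparableClosure k)))) := by
        haveI : IsIso (CommRingCat.ofHom (algebraMap k (SeparableClosure k))) :=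
          (RingEquiv.toCommRingCatIso (RingEquiv.ofBijective _ hb)).isIso_hom
        infer_instance
      haveI : ConnectedSpace ↥(Curv2.bc k G.left (SeparableClosure k)) :=
        let e := (asIso (pullback.fst (G.left ↘ Spec (CommRingCat.of k))
          (Spec.map (CommRingCat.ofHom (algebraMap k (SeparableClosure k)))))).hom.homeomorph
        e.symm.surjective.connectedSpace e.symm.continuous
      exact GeomField.geometricallyConnected_of_separableClosure (X := G.left) ‹_›
    exact S7785.result G
  obtain ⟨H, _, j, hj, hjc, hHs, hHa, hdimH⟩ := S11397.result k G hp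
  haveI := hjc; haveI := hHa
  have hsurj : Surjective j.left := by
    rw [surjective_iff, ← Set.range_eq_univ]
    by_contra hne
    set Z := Set.range j.left with hZ
    have hZc : IsClosed Z := j.left.isClosedEmbedding.isClosed_range
    have hlt : topologicalKrullDim Z < 1 :=
      hdim ▸ S10830.result G.left (by rw [hdim]; decide) Z hZc hne
    rw [← j.left.isClosedEmbedding.isEmbedding.toHomeomorph.isHomeomorph.topologicalKrullDim_eq] at hlt
    revert hlt hdimH
    generalize topologicalKrullDim ↥H.left = d
    intro h0 h1
    cases d with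
    | bot => exact absurd h0 (by simp)
    | coe d =>
      rw [show (0 : WithBot ℕ∞) = ((0 : ℕ∞) : WithBot ℕ∞) from rfl, WithBot.coe_lt_coe] at h0
      rw [show (1 : WithBot ℕ∞) = ((1 : ℕ∞) : WithBot ℕ∞) from rfl, WithBot.coe_lt_coe, Order.lt_one_iff] at h1
      exact absurd h1 h0.ne'
  haveI := hsurj
  haveI : IsIso j.left := isIso_of_isClosedImmersion_of_surjective j.left
  haveI : IsAffine G.left := .of_isIso (inv j.left)
  obtain ⟨A, _, _, ⟨e⟩⟩ := GrpSchLib.AffineHopf.exists_hopf G
  haveI : IsMonHom e.hom.hom.hom := e.hom.hom.isMonHom_hom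
  haveI : IsIso e.hom.hom.hom := inferInstanceAs (IsIso ((Grp.forget _).map e.hom))
  haveI : IsIso e.hom.hom.hom.left := inferInstanceAs (IsIso ((Over.forget _).map e.hom.hom.hom))
  haveI : Algebra.FiniteType k A := by
    have hhom : (GrpSchLib.AffineHopf.sp k A).hom = e.hom.hom.hom.left ≫ G.hom := (Over.w e.hom.hom.hom).symm
    haveI : LocallyOfFiniteType (Spec.map (CommRingCat.ofHom (algebraMap k A))) := by
      show LocallyOfFiniteType (GrpSchLib.AffineHopf.sp k A).hom
      rw [hhom]; infer_instance
    exact RingHom.finiteType_algebraMap.1 ((HasRingHomProperty.Spec_iff (P := @LocallyOfFiniteType)).1 this)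
  haveI : IsIntegral (Spec (CommRingCat.of A)) :=
    IsIntegral.of_isIso (asIso e.hom.hom.hom.left).inv
  haveI : IsDomain A :=
    (Scheme.ΓSpecIso (CommRingCat.of A)).commRingCatIsoToRingEquiv.toMulEquiv.isDomain_iff.1 inferInstance
  have hd : ringKrullDim A = 1 := by
    rw [← PrimeSpectrum.topologicalKrullDim_eq_ringKrullDim, ← hdim]
    exact IsHomeomorph.topologicalKrullDim_eq _ (asIso e.hom.hom.hom.left).hom.homeomorph.isHomeomorph
  rcases S7976.result k A (fun x hx => IsIdempotentElem.iff_eq_zero_or_one.1 hx) hd with hb | hb
  · obtain ⟨b⟩ := hb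
    obtain ⟨d⟩ := GrpSchLib.AffineHopf.nonempty_DS_iso k ℤ
    exact Or.inr (Or.inl ⟨e.symm ≪≫ GrpSchLib.AffineHopf.spIso b.symm ≪≫ d⟩)
  · obtain ⟨b⟩ := hb
    obtain ⟨c⟩ := PTorsLib.nonempty_vec_symm k
    obtain ⟨d⟩ := PTorsLib.nonempty_Ga_iso k
    exact Or.inl ⟨e.symm ≪≫ GrpSchLib.AffineHopf.spIso b.symm ≪≫ GrpSchLib.AffineHopf.spIso c ≪≫ d⟩

end Groth.Agent.S12500
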