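import Groth.Statements.S12540
import Groth.Agent.GrpSchLib.TopDescent
import Groth.Agent.MorLib.UnivHomeo
import Groth.Agent.AlgSpPts.Sep
import Groth.Agent.S0593
import Mathlib.AlgebraicGeometry.Morphisms.Smooth

set_option autoImplicit false
universe u
open CategoryTheory MonoidalCategory CartesianMonoidalCategory MonObj GrpObj AlgebraicGeometry
open AlgGrp

namespace Groth.Agent.S12540

open CategoryTheory.Limits in
theorem isUnivHomeo_of_universallyOpen {X Y : Scheme.{u}} (f : X ⟶ Y) [UniversallyOpen f]
    [UniversallyInjective f] [Surjective f] : FlatMor.IsUnivHomeo f := by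
  intro X' Y' i₁ i₂ f' h
  have : UniversallyOpen f' := MorphismProperty.of_isPullback (P := @UniversallyOpen) h.flip ‹_›
  have : UniversallyInjective f' :=
    MorphismProperty.of_isPullback (P := @UniversallyInjective) h.flip ‹_›
  have : Surjective f' := MorphismProperty.of_isPullback (P := @Surjective) h.flip ‹_›
  exact ⟨f'.continuous, f'.isOpenMap, ⟨f'.injective, f'.surjective⟩⟩

theorem universallyOpen_of_comp_surjective {X Y Z : Scheme.{u}} (f : X ⟶ Y) (g : Y ⟶ Z)
    [Surjective f] [UniversallyOpen (f ≫ g)] : UniversallyOpen g := by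
  constructor
  intro Y' Z' i₁ i₂ g' hg U hU
  have hX := (IsPullback.of_hasPullback f i₁).flip.paste_horiz hg
  have hopen : IsOpenMap (Limits.pullback.snd f i₁ ≫ g') := UniversallyOpen.out _ _ _ hX
  have := hopen _ (hU.preimage (Limits.pullback.snd f i₁).continuous)
  rwa [Scheme.Hom.comp_base, TopCat.coe_comp, Set.image_comp,
    Set.image_preimage_eq U (Limits.pullback.snd f i₁).surjective] at this

section

variable {S : Scheme.{u}} {G H X : Over S} [GrpObj G] [GrpObj H] {i : H ⟶ G} {a : AlgGrp.Action G X}
  {o : 𝟙_ (Over S) ⟶ X} (hX : AGF.IsQuotient i X a o)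

include hX in
theorem exists_eq_mul {T : Over S} {g₁ g₂ : T ⟶ G} (h : g₁ ≫ a.orbitMap o = g₂ ≫ a.orbitMap o) :
    ∃ t : T ⟶ H, g₁ * (t ≫ i) = g₂ := by
  let w := hX.2.2.2.lift g₁ g₂ h
  have h1 : w ≫ fst G H = g₁ := hX.2.2.2.lift_fst _ _ _
  refine ⟨w ≫ snd G H, ?_⟩
  have e : w ≫ (G ◁ i) = lift g₁ ((w ≫ snd G H) ≫ i) := by
    apply CartesianMonoidalCategory.hom_ext <;> simp [h1]
  rw [Hom.mul_def, ← e, Category.assoc]
  exact hX.2.2.2.lift_snd _ _ _

include hX in
theorem mul_comp_orbit {T : Over S} (g : T ⟶ G) (t : T ⟶ H) :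
    (g * (t ≫ i)) ≫ a.orbitMap o = g ≫ a.orbitMap o := by
  have e : lift g t ≫ (G ◁ i) = lift g (t ≫ i) := by
    apply CartesianMonoidalCategory.hom_ext <;> simp
  rw [Hom.mul_def, ← e, Category.assoc, Category.assoc, ← Category.assoc (G ◁ i), ← hX.2.2.2.w,
    lift_fst_assoc]

end

/-- Over an algebraically closed field k, let G be an algebraic group (a smooth k-group scheme of finite
type), h : H → G a closed subgroup scheme, and h' : H' → H a closed subgroup scheme of H which is
reduced with the same underlying space as H (the reduced subgroup scheme H_red; it is a subgroup of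
G through h' ≫ h). Let X, with its G-action and base point, be the quotient G/H, and X' the quotient
G/H' (each locally of finite type over k, with flat surjective orbit map identifying G × H with G
×_X G, respectively G × H' with G ×_{X'} G). Then X is affine if and only if X' is affine. (The
published statement adds the same equivalence with the identity component of H_red; that clause is
not stated here.) -/
theorem result (k : Type u) [Field k] [IsAlgClosed k]
    (G : Over (Spec (CommRingCat.of k))) [GrpObj G] [Smooth G.hom] [QuasiCompact G.hom]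
    (H : Over (Spec (CommRingCat.of k))) [GrpObj H] (h : H ⟶ G) [IsMonHom h] [IsClosedImmersion h.left]
    (H' : Over (Spec (CommRingCat.of k))) [GrpObj H'] (h' : H' ⟶ H) [IsMonHom h'] [IsClosedImmersion h'.left]
    [Surjective h'.left] [IsReduced H'.left]
    (X : Over (Spec (CommRingCat.of k))) (a : AlgGrp.Action G X) (o : 𝟙_ (Over (Spec (CommRingCat.of k))) ⟶ X)
    (hX : AGF.IsQuotient h X a o)
    (X' : Over (Spec (CommRingCat.of k))) (a' : AlgGrp.Action G X') (o' : 𝟙_ (Over (Spec (CommRingCat.of k))) ⟶ X')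
    (hX' : AGF.IsQuotient (h' ≫ h) X' a' o') :
    IsAffine X.left ↔ IsAffine X'.left := by
  haveI : LocallyOfFiniteType G.hom := inferInstance
  let q := a.orbitMap o
  let q' := a'.orbitMap o'
  haveI := hX.1
  haveI := hX'.1
  haveI : Flat q.left := hX.2.1
  haveI : Surjective q.left := hX.2.2.1
  haveI : Flat q'.left := hX'.2.1
  haveI : Surjective q'.left := hX'.2.2.1
  haveI : IsLocallyNoetherian X.left := LocallyOfFiniteType.isLocallyNoetherian X.hom
  haveI : IsLocallyNoetherian X'.left := LocallyOfFiniteType.isLocallyNoetherian X'.hom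
  haveI : LocallyOfFiniteType (q.left ≫ X.hom) := by rw [Over.w q]; infer_instance
  haveI : LocallyOfFiniteType q.left := locallyOfFiniteType_of_comp q.left X.hom
  haveI : LocallyOfFiniteType (q'.left ≫ X'.hom) := by rw [Over.w q']; infer_instance
  haveI : LocallyOfFiniteType q'.left := locallyOfFiniteType_of_comp q'.left X'.hom
  have hloc : GrpSchLib.TopDescent.HasLocSec Scheme.fppfTopology q' := by
    refine ⟨Sieve.generate (Presieve.singleton q'.left),
      Precoverage.generate_mem_toGrothendieck q'.left.singleton_mem_fppfPrecoverage, ?_⟩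
    rintro T _ ⟨_, b, _, ⟨⟩, rfl⟩
    exact ⟨b, rfl⟩
  obtain ⟨f, hf, -⟩ := hloc.existsUnique_desc q fun T g₁ g₂ hg => by
    obtain ⟨t, rfl⟩ := exists_eq_mul hX' hg
    rw [← Category.assoc t h' h]
    exact (mul_comp_orbit hX g₁ (t ≫ h')).symm
  have hfl : q'.left ≫ f.left = q.left := by rw [← Over.comp_left, hf]
  haveI : Surjective f.left := by
    haveI : Surjective (q'.left ≫ f.left) := hfl ▸ inferInstance
    exact Surjective.of_comp q'.left f.left
  haveI : UniversallyOpen f.left := by
    haveI : UniversallyOpen (q'.left ≫ f.left) := hfl ▸ inferInstance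
    exact universallyOpen_of_comp_surjective q'.left f.left
  haveI : UniversallyInjective f.left := by
    refine ((tfae_universallyInjective f.left).out 0 1 rfl rfl).mpr fun K _ x₁ x₂ hx => ?_
    let c₁ := Limits.pullback.snd q'.left x₁
    let c₂ := Limits.pullback.snd q'.left x₂
    let c := Limits.pullback.fst c₁ c₂ ≫ c₁
    obtain ⟨z, -⟩ := c.surjective (IsLocalRing.closedPoint K)
    let e := (Limits.pullback c₁ c₂).fromSpecResidueField z
    let φ := e ≫ c
    haveI : Surjective φ := ⟨fun p => ⟨IsLocalRing.closedPoint _, Subsingleton.elim (α := PrimeSpectrum K) _ _⟩⟩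
    haveI : Flat φ := inferInstance
    haveI : Epi φ := Flat.epi_of_flat_of_surjective φ
    let m₁ := (e ≫ Limits.pullback.fst c₁ c₂) ≫ Limits.pullback.fst q'.left x₁
    let m₂ := (e ≫ Limits.pullback.snd c₁ c₂) ≫ Limits.pullback.fst q'.left x₂
    have hm₁ : m₁ ≫ q'.left = φ ≫ x₁ := by
      have h2 : c₁ ≫ x₁ = Limits.pullback.fst q'.left x₁ ≫ q'.left := Limits.pullback.condition.symm
      simp only [m₁, φ, c, Category.assoc, h2]
    have hm₂ : m₂ ≫ q'.left = φ ≫ x₂ := by
      have h2 : c₂ ≫ x₂ = Limits.pullback.fst q'.left x₂ ≫ q'.left := Limits.pullback.condition.symm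
      have h3 : c = Limits.pullback.snd c₁ c₂ ≫ c₂ := Limits.pullback.condition
      simp only [m₂, φ, h3, Category.assoc, h2]
    have hq : m₂ ≫ q.left = m₁ ≫ q.left := by
      have hx' : x₁ ≫ f.left = x₂ ≫ f.left := hx
      rw [← hfl, reassoc_of% hm₁, reassoc_of% hm₂, hx']
    let T : Over (Spec (CommRingCat.of k)) := Over.mk (m₁ ≫ G.hom)
    let g₁ : T ⟶ G := Over.homMk m₁ rfl
    let g₂ : T ⟶ G := Over.homMk m₂ (by
      show m₂ ≫ G.hom = m₁ ≫ G.hom
      rw [← Over.w q, reassoc_of% hq])
    obtain ⟨t, ht⟩ := exists_eq_mul hX (g₁ := g₁) (g₂ := g₂) (Over.OverMorphism.ext hq.symm)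
    haveI : IsReduced T.left := inferInstanceAs (IsReduced (Spec _))
    let j := Limits.pullback.snd h'.left t.left
    haveI : IsIso j := isIso_of_isClosedImmersion_of_surjective _
    let t' : T ⟶ H' := Over.homMk (inv j ≫ Limits.pullback.fst h'.left t.left) (by
      rw [← Over.w h', Category.assoc, Limits.pullback.condition_assoc]
      simp [j])
    have ht' : t' ≫ h' = t := by
      ext : 1
      show (inv j ≫ Limits.pullback.fst h'.left t.left) ≫ h'.left = t.left
      rw [Category.assoc, Limits.pullback.condition]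
      simp [j]
    rw [← ht', Category.assoc] at ht
    have hq' : g₁ ≫ q' = g₂ ≫ q' := by
      rw [← ht]; exact (mul_comp_orbit hX' g₁ t').symm
    rw [← cancel_epi φ, ← hm₁, ← hm₂]
    exact congrArg CommaMorphism.left hq'
  have hu := isUnivHomeo_of_universallyOpen f.left
  haveI := Groth.Agent.MorLib.isAffineHom_of_isUnivHomeo hu
  haveI := Groth.Agent.MorLib.universallyClosed_of_isUnivHomeo hu
  exact ⟨fun _ => isAffine_of_isAffineHom f.left, fun _ => S0593.result _ _ f.left⟩

end Groth.Agent.S12540
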