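import Groth.Statements.S12552
import Mathlib.LinearAlgebra.FiniteDimensional.Lemmas
import Mathlib.LinearAlgebra.FiniteDimensional.Basic
import Mathlib.LinearAlgebra.Dimension.OrzechProperty
import Mathlib.LinearAlgebra.Dimension.Constructions
-- import your own Groth.Agent.* helpers here

set_option autoImplicit false
universe u
open GIT

namespace Groth.Agent.S12552

open Module

theorem rado {K W : Type*} [Field K] [AddCommGroup W] [Module K W] [FiniteDimensional K W]
    [DecidableEq W] {J : Type*} [Fintype J] [DecidableEq J] (A : J → Finset W)
    (h : ∀ T : Finset J,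
      T.card ≤ finrank K (T.sup fun j => Submodule.span K (A j : Set W) : Submodule K W)) :
    ∃ f : J → W, (∀ j, f j ∈ A j) ∧ LinearIndependent K f := by
  suffices H : ∀ n (A : J → Finset W), ∑ j, (A j).card ≤ n →
      (∀ T : Finset J, T.card ≤ finrank K
        (T.sup fun j => Submodule.span K (A j : Set W) : Submodule K W)) →
      ∃ f : J → W, (∀ j, f j ∈ A j) ∧ LinearIndependent K f from H _ A le_rfl h
  intro n
  induction n using Nat.strong_induction_on with
  | _ n ih =>
    intro A hn h
    by_cases hbig : ∃ j, ∃ a ∈ A j, ∃ b ∈ A j, a ≠ b
    · obtain ⟨j, a, ha, b, hb, hab⟩ := hbig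
      -- one of the two deletions keeps the condition
      have key : ∀ a ∈ A j, (∀ T : Finset J, T.card ≤ finrank K
          (T.sup fun i => Submodule.span K (Function.update A j ((A j).erase a) i : Set W) :
            Submodule K W)) ∨
          ∃ T : Finset J, j ∉ T ∧ finrank K
            ((T.sup fun i => Submodule.span K (A i : Set W)) ⊔
              Submodule.span K (((A j).erase a : Finset W) : Set W) : Submodule K W) ≤ T.card := by
        intro a _
        by_contra hc
        push Not at hc
        obtain ⟨⟨T, hT⟩, hall⟩ := hc
        by_cases hjT : j ∈ T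
        · have := hall (T.erase j) (T.notMem_erase j)
          rw [← Finset.insert_erase hjT, Finset.sup_insert, Function.update_self,
            Finset.card_insert_of_notMem (T.notMem_erase j), sup_comm] at hT
          have he : ((T.erase j).sup fun i =>
              Submodule.span K (Function.update A j ((A j).erase a) i : Set W)) =
              (T.erase j).sup fun i => Submodule.span K (A i : Set W) := by
            refine Finset.sup_congr rfl fun i hi => ?_
            rw [Function.update_of_ne (Finset.ne_of_mem_erase hi)]
          rw [he] at hT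
          omega
        · have he : (T.sup fun i =>
              Submodule.span K (Function.update A j ((A j).erase a) i : Set W)) =
              T.sup fun i => Submodule.span K (A i : Set W) := by
            refine Finset.sup_congr rfl fun i hi => ?_
            rw [Function.update_of_ne]
            rintro rfl
            exact hjT hi
          rw [he] at hT
          exact absurd (h T) (by omega)
      have fin : ∀ a ∈ A j, (∀ T : Finset J, T.card ≤ finrank K
          (T.sup fun i => Submodule.span K (Function.update A j ((A j).erase a) i : Set W) :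
            Submodule K W)) → ∃ f : J → W, (∀ j, f j ∈ A j) ∧ LinearIndependent K f := by
        intro a ha hA
        have hlt : ∑ i, (Function.update A j ((A j).erase a) i).card < n := by
          refine lt_of_lt_of_le (Finset.sum_lt_sum (fun i _ => ?_) ⟨j, Finset.mem_univ j, ?_⟩) hn
          · by_cases hij : i = j
            · subst hij
              rw [Function.update_self]
              exact Finset.card_le_card (Finset.erase_subset _ _)
            · rw [Function.update_of_ne hij]
          · rw [Function.update_self]
            exact Finset.card_erase_lt_of_mem ha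
        obtain ⟨f, hf, hli⟩ := ih _ hlt _ le_rfl hA
        refine ⟨f, fun i => ?_, hli⟩
        have := hf i
        by_cases hij : i = j
        · subst hij
          rw [Function.update_self] at this
          exact Finset.mem_of_mem_erase this
        · rwa [Function.update_of_ne hij] at this
      rcases key a ha with h1 | ⟨T₁, hj₁, h1⟩
      · exact fin a ha h1
      rcases key b hb with h2 | ⟨T₂, hj₂, h2⟩
      · exact fin b hb h2
      exfalso
      let V : Finset J → Submodule K W := fun T => T.sup fun i => Submodule.span K (A i : Set W)
      let U₁ : Submodule K W := V T₁ ⊔ Submodule.span K (((A j).erase a : Finset W) : Set W)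
      let U₂ : Submodule K W := V T₂ ⊔ Submodule.span K (((A j).erase b : Finset W) : Set W)
      have hsup : V (insert j (T₁ ∪ T₂)) ≤ U₁ ⊔ U₂ := by
        refine Finset.sup_le fun i hi => ?_
        rcases Finset.mem_insert.1 hi with rfl | hi
        · rw [Submodule.span_le]
          intro x hx
          by_cases hxa : x = a
          · subst hxa
            exact Submodule.mem_sup_right (Submodule.mem_sup_right
              (Submodule.subset_span (Finset.mem_coe.2 (Finset.mem_erase.2 ⟨hab, hx⟩))))
          · exact Submodule.mem_sup_left (Submodule.mem_sup_right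
              (Submodule.subset_span (Finset.mem_coe.2 (Finset.mem_erase.2 ⟨hxa, hx⟩))))
        · rcases Finset.mem_union.1 hi with hi | hi
          · exact le_sup_of_le_left (le_sup_of_le_left (Finset.le_sup (f := fun i =>
              Submodule.span K (A i : Set W)) hi))
          · exact le_sup_of_le_right (le_sup_of_le_left (Finset.le_sup (f := fun i =>
              Submodule.span K (A i : Set W)) hi))
      have hinf : V (T₁ ∩ T₂) ≤ U₁ ⊓ U₂ :=
        le_inf (le_sup_of_le_left (Finset.sup_mono Finset.inter_subset_left))
          (le_sup_of_le_left (Finset.sup_mono Finset.inter_subset_right))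
      have e := Submodule.finrank_sup_add_finrank_inf_eq U₁ U₂
      have e1 := Submodule.finrank_mono hsup
      have e2 := Submodule.finrank_mono hinf
      have e3 := h (insert j (T₁ ∪ T₂))
      have e4 := h (T₁ ∩ T₂)
      rw [Finset.card_insert_of_notMem (by simp [hj₁, hj₂])] at e3
      have e5 := Finset.card_union_add_card_inter T₁ T₂
      simp only [V, U₁, U₂] at e e1 e2
      omega
    · push Not at hbig
      have hne : ∀ j, (A j).Nonempty := fun j => by
        by_contra hc
        rw [Finset.not_nonempty_iff_eq_empty] at hc
        have := h {j}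
        simp [hc] at this
      choose f hf using hne
      refine ⟨f, hf, linearIndependent_iff_card_le_finrank_span.2 ?_⟩
      refine le_trans (le_trans Finset.card_univ.ge (h Finset.univ)) (Submodule.finrank_mono ?_)
      refine Finset.sup_le fun j _ => Submodule.span_mono ?_
      intro x hx
      exact ⟨j, hbig j _ (hf j) _ hx⟩

theorem exists_bases {K V : Type*} [Field K] [AddCommGroup V] [Module K V] [FiniteDimensional K V]
    {ι : Type*} [Fintype ι] [DecidableEq ι] (x : ι → V) (w : ι → ℕ) (k : ℕ)
    (htot : ∑ i, w i = k * finrank K V)
    (hU : ∀ U : Finset ι, ∑ i ∈ U, w i ≤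
      k * finrank K (Submodule.span K (x '' (U : Set ι)))) :
    ∃ S : Fin k → Finset ι,
      (∀ c, (S c).card = finrank K V ∧ LinearIndependent K (fun j : S c => x j)) ∧
      ∀ j, (Finset.univ.filter fun c => j ∈ S c).card = w j := by
  classical
  let A : (Σ i, Fin (w i)) → Finset (Fin k → V) := fun t =>
    Finset.univ.image fun c : Fin k => Pi.single c (x t.1)
  have h : ∀ T : Finset (Σ i, Fin (w i)), T.card ≤ finrank K
      (T.sup fun t => Submodule.span K (A t : Set (Fin k → V)) : Submodule K (Fin k → V)) := by
    intro T
    let U : Finset ι := T.image Sigma.fst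
    let L : Submodule K V := Submodule.span K (x '' (U : Set ι))
    let φ : (Fin k → L) →ₗ[K] (Fin k → V) := LinearMap.compLeft L.subtype (Fin k)
    have hφ : Function.Injective φ := fun a b hab => funext fun c =>
      Subtype.ext (congrFun hab c)
    have hle : LinearMap.range φ ≤ T.sup fun t => Submodule.span K (A t : Set (Fin k → V)) := by
      rintro _ ⟨g, rfl⟩
      rw [← Finset.univ_sum_single (φ g)]
      refine Submodule.sum_mem _ fun c _ => ?_
      have hL : L ≤ (T.sup fun t => Submodule.span K (A t : Set (Fin k → V))).comap
          (LinearMap.single K (fun _ : Fin k => V) c) := by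
        rw [Submodule.span_le]
        rintro _ ⟨i, hi, rfl⟩
        obtain ⟨t, ht, rfl⟩ := Finset.mem_image.1 hi
        exact Finset.le_sup (f := fun t => Submodule.span K (A t : Set (Fin k → V))) ht
          (Submodule.subset_span (Finset.mem_coe.2 (Finset.mem_image.2 ⟨c, Finset.mem_univ c, rfl⟩)))
      exact hL (g c).2
    have h2 := Submodule.finrank_mono hle
    rw [LinearMap.finrank_range_of_inj hφ, Module.finrank_pi_fintype] at h2
    simp only [Finset.sum_const, Finset.card_univ, Fintype.card_fin, smul_eq_mul] at h2
    refine le_trans ?_ (le_trans (hU U) h2)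
    calc T.card ≤ (U.sigma fun i => (Finset.univ : Finset (Fin (w i)))).card :=
          Finset.card_le_card fun t ht =>
            Finset.mem_sigma.2 ⟨Finset.mem_image_of_mem _ ht, Finset.mem_univ _⟩
      _ = ∑ i ∈ U, w i := by simp
  obtain ⟨f, hf, hli⟩ := rado A h
  have hc : ∀ t, ∃ c : Fin k, (Pi.single c (x t.1) : Fin k → V) = f t := fun t => by
    obtain ⟨c, _, hc⟩ := Finset.mem_image.1 (hf t)
    exact ⟨c, hc⟩
  choose c hc using hc
  have hinj : ∀ t t' : Σ i, Fin (w i), t.1 = t'.1 → c t = c t' → t = t' := fun t t' h1 h2 =>
    hli.injective (by rw [← hc t, ← hc t', h1, h2])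
  let S : Fin k → Finset ι := fun a => (Finset.univ.filter fun t => c t = a).image Sigma.fst
  have hS : ∀ j a, j ∈ S a ↔ ∃ r : Fin (w j), c ⟨j, r⟩ = a := by
    intro j a
    simp only [S, Finset.mem_image, Finset.mem_filter, Finset.mem_univ, true_and]
    constructor
    · rintro ⟨⟨j', r⟩, h1, rfl⟩
      exact ⟨r, h1⟩
    · rintro ⟨r, hr⟩
      exact ⟨⟨j, r⟩, hr, rfl⟩
  have hind : ∀ a, LinearIndependent K (fun j : S a => x j) := by
    intro a
    have : ∀ j : S a, ∃ r : Fin (w j), c ⟨j.1, r⟩ = a := fun j => (hS _ _).1 j.2
    choose r hr using this
    refine LinearIndependent.of_comp (LinearMap.single K (fun _ : Fin k => V) a) ?_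
    have := hli.comp (fun j : S a => (⟨j.1, r j⟩ : Σ i, Fin (w i)))
      (fun p q hpq => Subtype.ext (congrArg Sigma.fst hpq))
    convert this using 1
    · funext j
      simp only [Function.comp_apply]
      rw [← hc, hr]
      rfl
    all_goals rfl
  have hcount : ∀ j, (Finset.univ.filter fun a => j ∈ S a).card = w j := by
    intro j
    have : (Finset.univ.filter fun a => j ∈ S a) =
        Finset.univ.image fun r : Fin (w j) => c ⟨j, r⟩ := by
      ext a
      simp [hS]
    rw [this, Finset.card_image_of_injective _ fun r r' hr => ?_, Finset.card_univ, Fintype.card_fin]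
    exact eq_of_heq (Sigma.mk.inj (hinj ⟨j, r⟩ ⟨j, r'⟩ rfl hr)).2
  refine ⟨S, fun a => ⟨?_, hind a⟩, hcount⟩
  have hle : ∀ a, (S a).card ≤ finrank K V := fun a => by
    simpa using (hind a).fintype_card_le_finrank
  have hsum : ∑ a, (S a).card = k * finrank K V := by
    rw [← htot, ← Finset.sum_congr rfl fun j _ => hcount j]
    simp only [Finset.card_eq_sum_ones, Finset.sum_filter]
    rw [Finset.sum_comm]
    simp
  refine (Finset.sum_eq_sum_iff_of_le fun a _ => hle a).1 ?_ a (Finset.mem_univ a)
  rw [hsum]
  simp

theorem sum_card_filter_mem {ι : Type*} [DecidableEq ι] (C : Finset ι) (P : Multiset (Finset ι)) :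
    ∑ j ∈ C, Multiset.card (P.filter fun S => j ∈ S) = (P.map fun S => (S ∩ C).card).sum := by
  induction P using Multiset.induction with
  | empty => simp
  | cons S P ih =>
    simp only [Multiset.filter_cons, Multiset.card_add, Finset.sum_add_distrib, ih,
      Multiset.map_cons, Multiset.sum_cons]
    congr 1
    rw [Finset.inter_comm, ← Finset.filter_mem_eq_inter, Finset.card_filter]
    refine Finset.sum_congr rfl fun j _ => ?_
    split <;> simp


/-- Let V be a finite-dimensional vector space over a field K and x_0, …, x_m non-zero vectors, a
configuration of m + 1 points of P(V); a set S of dim V indices with (x_j)_(j ∈ S) linearly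
independent is a determinant section non-zero at the configuration. Then the configuration is stable
(for every subspace L with 0 ≠ L ≠ V, the number of i with x_i ∈ L times dim V is less than dim L ·
(m + 1)) if and only if there are integers N ≥ N_0 > 0 such that for each index i some non-empty
finite multiset of such sets S contains every index j ≠ i exactly N times and the index i exactly N
− N_0 times (a monomial in the determinant sections, non-zero at the configuration, of multidegree
(N, …, N − N_0, …, N) with the N − N_0 in place i). -/
theorem result (K : Type u) [Field K]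
    (V : Type u) [AddCommGroup V] [Module K V] [FiniteDimensional K V]
    (m : ℕ) (x : Fin (m + 1) → V) (hx : ∀ i, x i ≠ 0) :
    (∀ L : Submodule K V, L ≠ ⊥ → L ≠ ⊤ →
        Set.ncard {i : Fin (m + 1) | x i ∈ L} * Module.finrank K V < Module.finrank K L * (m + 1)) ↔
      ∃ N N₀ : ℕ, 0 < N₀ ∧ N₀ ≤ N ∧
        ∀ i : Fin (m + 1), ∃ P : Multiset (Finset (Fin (m + 1))), P ≠ 0 ∧
          (∀ S ∈ P, S.card = Module.finrank K V ∧ LinearIndependent K (fun j : S => x j)) ∧
          ∀ j : Fin (m + 1),
            Multiset.card (P.filter (fun S => j ∈ S)) = if j = i then N - N₀ else N := by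
  classical
  constructor
  · intro hst
    set d := Module.finrank K V with hd
    have hd0 : 0 < d := by
      rw [hd, Module.finrank_pos_iff_exists_ne_zero]
      exact ⟨x 0, hx 0⟩
    refine ⟨d * (d + 1), d, hd0, Nat.le_mul_of_pos_right d (Nat.succ_pos d), fun i => ?_⟩
    obtain ⟨k, hk⟩ : ∃ k, k + 1 = (m + 1) * (d + 1) := ⟨(m + 1) * (d + 1) - 1,
      Nat.succ_pred_eq_of_pos (Nat.mul_pos (Nat.succ_pos m) (Nat.succ_pos d))⟩
    let w : Fin (m + 1) → ℕ := fun j => if j = i then d * (d + 1) - d else d * (d + 1)
    have hw : ∀ j, w j ≤ d * (d + 1) := fun j => by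
      simp only [w]; split <;> omega
    have htot : ∑ j, w j = k * d := by
      have hsplit : ∀ j, w j + (if j = i then d else 0) = d * (d + 1) := fun j => by
        simp only [w]
        split
        · exact Nat.sub_add_cancel (Nat.le_mul_of_pos_right d (Nat.succ_pos d))
        · simp
      have h1 : ∑ j, w j + d = (m + 1) * (d * (d + 1)) := by
        have := Finset.sum_congr (rfl : (Finset.univ : Finset (Fin (m + 1))) = Finset.univ)
          fun j _ => hsplit j
        rw [Finset.sum_add_distrib] at this
        simpa using this
      have h2 : (k + 1) * d = (m + 1) * (d * (d + 1)) := by rw [hk]; ring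
      rw [Nat.add_mul, one_mul] at h2
      omega
    have hU : ∀ U : Finset (Fin (m + 1)), ∑ j ∈ U, w j ≤
        k * Module.finrank K (Submodule.span K (x '' (U : Set (Fin (m + 1))))) := by
      intro U
      set L := Submodule.span K (x '' (U : Set (Fin (m + 1)))) with hL
      by_cases hbot : L = ⊥
      · have : U = ∅ := by
          rw [Finset.eq_empty_iff_forall_notMem]
          intro j hj
          have : x j ∈ L := Submodule.subset_span ⟨j, hj, rfl⟩
          rw [hbot] at this
          exact hx j this
        simp [this]
      by_cases htop : L = ⊤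
      · rw [htop, finrank_top, ← hd]
        calc ∑ j ∈ U, w j ≤ ∑ j, w j := Finset.sum_le_sum_of_subset (Finset.subset_univ U)
          _ = k * d := htot
      have h1 := hst L hbot htop
      have h2 : U.card ≤ Set.ncard {i : Fin (m + 1) | x i ∈ L} := by
        rw [← Set.ncard_coe_finset]
        exact Set.ncard_le_ncard (fun j hj => Submodule.subset_span ⟨j, hj, rfl⟩) (Set.toFinite _)
      have h3 : ∑ j ∈ U, w j ≤ U.card * (d * (d + 1)) := by
        simpa using Finset.sum_le_sum (s := U) fun j _ => hw j
      have h4 : Module.finrank K L ≤ d := Submodule.finrank_le L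
      set l := Module.finrank K L
      have h5 : U.card * d + 1 ≤ l * (m + 1) :=
        lt_of_le_of_lt (Nat.mul_le_mul_right d h2) h1
      have h6 := Nat.mul_le_mul_right (d + 1) h5
      have h7 : l * ((m + 1) * (d + 1)) = l * k + l := by rw [← hk]; ring
      nlinarith
    obtain ⟨S, hS, hcount⟩ := exists_bases x w k htot hU
    refine ⟨(Finset.univ : Finset (Fin k)).val.map S, ?_, ?_, fun j => ?_⟩
    · intro h
      have hk0 : k = 0 := by simpa using congrArg Multiset.card h
      subst hk0
      have : d + 1 ≤ (m + 1) * (d + 1) := Nat.le_mul_of_pos_left _ (Nat.succ_pos m)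
      omega
    · intro T hT
      obtain ⟨c, _, rfl⟩ := Multiset.mem_map.1 hT
      exact hS c
    · rw [Multiset.filter_map, Multiset.card_map]
      exact hcount j
  · rintro ⟨N, N₀, hN₀, hN, hP⟩ L hbot htop
    set d := Module.finrank K V with hd
    let C : Finset (Fin (m + 1)) := Finset.univ.filter fun i => x i ∈ L
    have hC : Set.ncard {i : Fin (m + 1) | x i ∈ L} = C.card := by
      rw [← Set.ncard_coe_finset]; congr 1; ext; simp [C]
    rw [hC]
    have hi : ∃ i, i ∉ C := by
      by_contra hc
      push Not at hc
      obtain ⟨P, hP0, hPb, -⟩ := hP 0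
      obtain ⟨S, hS⟩ := Multiset.exists_mem_of_ne_zero hP0
      obtain ⟨hcard, hli⟩ := hPb S hS
      refine htop (eq_top_iff.2 ?_)
      rw [← hli.span_eq_top_of_card_eq_finrank' (by simpa using hcard)]
      rw [Submodule.span_le]
      rintro _ ⟨j, rfl⟩
      simpa [C] using hc j
    obtain ⟨i, hi⟩ := hi
    obtain ⟨P, -, hPb, hPc⟩ := hP i
    have h1 : C.card * N ≤ Multiset.card P * Module.finrank K L := by
      have e := sum_card_filter_mem C P
      rw [Finset.sum_congr rfl fun j hj => (hPc j).trans (if_neg fun (h : j = i) => hi (h ▸ hj))] at e
      simp only [Finset.sum_const, smul_eq_mul] at e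
      rw [e]
      refine le_trans (Multiset.sum_le_card_nsmul _ (Module.finrank K L) ?_) (by simp)
      intro a ha
      obtain ⟨S, hS, rfl⟩ := Multiset.mem_map.1 ha
      have hli := (hPb S hS).2
      have hli' : LinearIndependent K (fun j : (S ∩ C : Finset _) =>
          (⟨x j, by have := (Finset.mem_inter.1 j.2).2; simpa [C] using this⟩ : L)) := by
        refine LinearIndependent.of_comp L.subtype ?_
        exact hli.comp (fun j : (S ∩ C : Finset _) => ⟨j.1, (Finset.mem_inter.1 j.2).1⟩)
          (fun p q h => Subtype.ext (congrArg Subtype.val h :))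
      have := hli'.fintype_card_le_finrank
      rwa [Fintype.card_coe] at this
    have h2 : Multiset.card P * d + N₀ = (m + 1) * N := by
      have e := sum_card_filter_mem Finset.univ P
      rw [Finset.sum_congr rfl fun j _ => hPc j] at e
      have e2 : (P.map fun S => (S ∩ Finset.univ).card) = P.map fun _ => d :=
        Multiset.map_congr rfl fun S hS => by simpa using (hPb S hS).1
      rw [e2, Multiset.map_const', Multiset.sum_replicate, smul_eq_mul] at e
      have e3 : ∑ j : Fin (m + 1), ((if j = i then N - N₀ else N) + if j = i then N₀ else 0) =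
          ∑ _j : Fin (m + 1), N := Finset.sum_congr rfl fun j _ => by
        split
        · exact Nat.sub_add_cancel hN
        · simp
      rw [Finset.sum_add_distrib, e] at e3
      simpa using e3
    have hl : 0 < Module.finrank K L := by
      rw [Nat.pos_iff_ne_zero, ne_eq, Submodule.finrank_eq_zero]
      exact hbot
    refine Nat.lt_of_mul_lt_mul_right (a := N) ?_
    have h3 := Nat.mul_le_mul_right d h1
    nlinarith [Nat.mul_pos hl hN₀]

end Groth.Agent.S12552
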