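import Groth.Statements.S1256
import Groth.Agent.DevExist.Cover
import Groth.Agent.FlatPure.Cover2

set_option autoImplicit false
attribute [-instance] CategoryTheory.catToReflQuiver
set_option backward.isDefEq.respectTransparency false
set_option backward.isDefEq.respectTransparency.types false
universe u
open FlatMor

namespace Groth.Agent.S1256

/-- Ring form, X = Spec B and S = Spec A affine: let B be a finite type A-algebra, N a finite B-module
and p a prime of A. Then there is an étale A-algebra A' with a prime p' over p having the same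
residue field such that, for the base changes B_{A'}, N_{A'} (any models), there are finitely many
étale B_{A'}-algebras C_i with base changes N_i of N_{A'}, each N_i/C_i/A' admitting a complete
dévissage over p', such that every prime of B_{A'} over p' is the contraction of a prime of some
C_i. -/
theorem result {A B : Type u} [CommRing A] [CommRing B] [Algebra A B] [Algebra.FiniteType A B]
    (N : Type u) [AddCommGroup N] [Module B N] [Module.Finite B N] (p : Ideal A) [p.IsPrime] :
    ∃ (A' : Type u) (_ : CommRing A') (_ : Algebra A A') (p' : Ideal A') (_ : p'.IsPrime), FlatCA.IsEtaleNhd A A' p p' ∧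
      ∀ (BA NA : Type u) [CommRing BA] [Algebra B BA] [Algebra A' BA] [Algebra A BA] [IsScalarTower A B BA] [IsScalarTower A A' BA]
        [Algebra.IsPushout A B A' BA]
        [AddCommGroup NA] [Module BA NA] [Module B NA] [IsScalarTower B BA NA]
        (fA : N →ₗ[B] NA), IsBaseChange BA fA →
        ∃ (k : ℕ) (C : Fin k → Type u) (_ : ∀ i, CommRing (C i)) (_ : ∀ i, Algebra BA (C i)) (_ : ∀ i, Algebra A' (C i))
          (_ : ∀ i, IsScalarTower A' BA (C i))
          (Nc : Fin k → Type u) (_ : ∀ i, AddCommGroup (Nc i)) (_ : ∀ i, Module (C i) (Nc i)) (_ : ∀ i, Module BA (Nc i))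
          (_ : ∀ i, IsScalarTower BA (C i) (Nc i)) (g : ∀ i, NA →ₗ[BA] Nc i),
          (∀ i, Algebra.Etale BA (C i) ∧ IsBaseChange (C i) (g i) ∧ Nonempty (FlatCA.CompleteDevissage A' (C i) (Nc i) p')) ∧
          ∀ (Q : Ideal BA) [Q.IsPrime], Q.LiesOver p' → ∃ (i : Fin k) (Q' : Ideal (C i)), Q'.IsPrime ∧ Q'.comap (algebraMap BA (C i)) = Q := by
  obtain ⟨A', _, _, p', _, hA', ι, _, S', _, _, _, _, _, _, hS, hl⟩ := DevExist.exists_devOn_fibre (R := A) (S := B) N p
  refine ⟨A', inferInstance, inferInstance, p', inferInstance, hA', fun BA NA => ?_⟩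
  intro _ _ _ _ _ _ _ _ _ _ _ fA hfA
  obtain ⟨heA, hp', hκ⟩ := hA'
  haveI := heA; haveI := hp'
  haveI : Algebra.IsPushout A A' B BA := Algebra.IsPushout.symm inferInstance
  haveI : Algebra.Etale B BA := FlatPure.etale_of_isPushout (R := A) (S := B) (R' := A') (S' := BA)
  let e := (Fintype.equivFin ι).symm
  let π : ∀ i, BA →ₐ[A] S' i := fun i =>
    Algebra.pushoutDesc BA (IsScalarTower.toAlgHom A A' (S' i)) (IsScalarTower.toAlgHom A B (S' i))
      fun _ _ => mul_comm _ _
  letI aC : ∀ j, Algebra BA (S' (e j)) := fun j => (π (e j)).toRingHom.toAlgebra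
  haveI t1 : ∀ j, IsScalarTower A' BA (S' (e j)) := fun j => IsScalarTower.of_algebraMap_eq fun a => by
    show _ = π (e j) (algebraMap A' BA a)
    rw [Algebra.pushoutDesc_left]
    rfl
  haveI t2 : ∀ j, IsScalarTower B BA (S' (e j)) := fun j => IsScalarTower.of_algebraMap_eq fun a => by
    show _ = π (e j) (algebraMap B BA a)
    rw [Algebra.pushoutDesc_right]
    rfl
  let g : ∀ j, NA →ₗ[BA] TensorProduct BA (S' (e j)) NA := fun j => TensorProduct.mk BA (S' (e j)) NA 1
  have hg : ∀ j, IsBaseChange (S' (e j)) (g j) := fun j => TensorProduct.isBaseChange BA NA (S' (e j))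
  refine ⟨Fintype.card ι, fun j => S' (e j), fun j => inferInstance, aC, fun j => inferInstance, t1,
    fun j => TensorProduct BA (S' (e j)) NA, fun j => inferInstance, fun j => inferInstance, fun j => inferInstance,
    fun j => inferInstance, g, fun j => ⟨?_, hg j, ?_⟩, fun Q _ hQ => ?_⟩
  · haveI := (hS (e j)).1
    exact Algebra.Etale.of_restrictScalars B BA (S' (e j))
  · haveI : IsScalarTower B (S' (e j)) (TensorProduct BA (S' (e j)) NA) := inferInstance
    haveI : IsScalarTower B BA (TensorProduct BA (S' (e j)) NA) := IsScalarTower.to₁₂₄ B BA (S' (e j)) _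
    exact (hS (e j)).2 _ (((g j).restrictScalars B).comp fA) (hfA.comp (hg j))
  · haveI := hQ
    let q : Ideal B := Q.comap (algebraMap B BA)
    haveI : q.IsPrime := Ideal.IsPrime.comap _
    haveI hq : q.LiesOver p := ⟨by
      show p = (Q.comap (algebraMap B BA)).comap (algebraMap A B)
      rw [Ideal.comap_comap, ← IsScalarTower.algebraMap_eq, IsScalarTower.algebraMap_eq A A' BA, ← Ideal.comap_comap,
        show Q.comap (algebraMap A' BA) = p' from hQ.over.symm]
      exact hp'.over⟩
    obtain ⟨i, Q', hQ', hQ'q, hQ'p⟩ := hl ⟨q, inferInstance⟩ hq hq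
    obtain ⟨j, rfl⟩ := e.surjective i
    haveI := hQ'; haveI := hQ'p
    refine ⟨j, Q', hQ', ?_⟩
    let z : Ideal BA := Q'.comap (algebraMap BA (S' (e j)))
    haveI : z.IsPrime := Ideal.IsPrime.comap _
    haveI : z.LiesOver q := ⟨by
      show q = (Q'.comap (algebraMap BA (S' (e j)))).comap (algebraMap B BA)
      rw [Ideal.comap_comap, ← IsScalarTower.algebraMap_eq]
      exact hQ'q.symm⟩
    haveI : z.LiesOver p' := ⟨by
      show p' = (Q'.comap (algebraMap BA (S' (e j)))).comap (algebraMap A' BA)
      rw [Ideal.comap_comap, ← IsScalarTower.algebraMap_eq]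
      exact hQ'p.over⟩
    haveI : Q.LiesOver q := ⟨rfl⟩
    exact FlatDevBC.eq_of_liesOver (R := A) (R' := A') (T := B) (T' := BA) p p' hκ q z Q

end Groth.Agent.S1256
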