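import Groth.Statements.S1260
import Groth.Agent.FlatEtNhd.Near

set_option autoImplicit false
attribute [-instance] CategoryTheory.catToReflQuiver
set_option backward.isDefEq.respectTransparency false
set_option backward.isDefEq.respectTransparency.types false
universe u
open FlatMor

namespace Groth.Agent.S1260

open TensorProduct in
/-- Ring form, X = Spec S and S = Spec R affine: let S be a finitely presented R-algebra, N a finite
S-module and p a prime of R with N_q flat over R for all primes q of S over p. Then there is an
étale R-algebra R' with a prime p' over p having the same residue field such that, writing A for the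
local ring of R' at p' and S_A, N_A for the base changes: every prime Q of S_A over the maximal
ideal of A has a basic open neighbourhood D(g) on which N_A is finitely presented over (S_A)_g and
flat over A. -/
theorem result {R S : Type u} [CommRing R] [CommRing S] [Algebra R S] [Algebra.FinitePresentation R S]
    (N : Type u) [AddCommGroup N] [Module S N] [Module R N] [IsScalarTower R S N] [Module.Finite S N]
    (p : Ideal R) [p.IsPrime] (hflat : ∀ (q : Ideal S) [q.IsPrime], q.LiesOver p → FlatCA.FlatAt R q N) :
    ∃ (R' : Type u) (_ : CommRing R') (_ : Algebra R R') (p' : Ideal R') (_ : p'.IsPrime), FlatCA.IsEtaleNhd R R' p p' ∧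
      ∀ (SA NA : Type u) [CommRing SA] [Algebra R SA] [Algebra S SA] [Algebra (Localization.AtPrime p') SA]
        [IsScalarTower R S SA] [IsScalarTower R (Localization.AtPrime p') SA]
        [Algebra.IsPushout R S (Localization.AtPrime p') SA]
        [AddCommGroup NA] [Module SA NA] [Module S NA] [IsScalarTower S SA NA]
        [Module (Localization.AtPrime p') NA] [IsScalarTower (Localization.AtPrime p') SA NA]
        (f : N →ₗ[S] NA), IsBaseChange SA f →
        ∀ (Q : Ideal SA) [Q.IsPrime], Q.LiesOver (IsLocalRing.maximalIdeal (Localization.AtPrime p')) →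
        ∃ g : SA, g ∉ Q ∧
          Module.FinitePresentation (Localization.Away g) (LocalizedModule (Submonoid.powers g) NA) ∧
          Module.Flat (Localization.AtPrime p') (LocalizedModule (Submonoid.powers g) NA) := by
  obtain ⟨R', S', _, _, _, _, _, _, _, _, p', _, hR, hS, hG, hlift⟩ :=
    Groth.Agent.FlatEtNhd.exists_goodOn_fibre N p hflat
  haveI := hS
  refine ⟨R', inferInstance, inferInstance, p', inferInstance, hR,
    fun SA NA _ _ _ _ _ _ _ _ _ _ _ _ _ f hf Q _ hQ => ?_⟩
  obtain ⟨hm, -⟩ := Groth.Agent.FlatEtNhd.bijective_residue_localRing p p' hR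
  have hq : (Q.comap (algebraMap S SA)).LiesOver p := ⟨by
    haveI := hm
    show p = (Q.comap (algebraMap S SA)).comap (algebraMap R S)
    rw [Ideal.comap_comap, ← IsScalarTower.algebraMap_eq,
      IsScalarTower.algebraMap_eq R (Localization.AtPrime p') SA, ← Ideal.comap_comap,
      show Q.comap (algebraMap (Localization.AtPrime p') SA) = IsLocalRing.maximalIdeal _ from hQ.over.symm]
    exact hm.over⟩
  obtain ⟨Q', hQ', hQ'q, hQ'p⟩ := hlift ⟨Q.comap (algebraMap S SA), Ideal.IsPrime.comap _⟩ hq hq
  haveI := hQ'
  obtain ⟨g, hg, hfp, hfl⟩ :=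
    Groth.Agent.FlatEtNhd.exists_near_of_lift p p' hR hG SA NA f hf (Q.comap (algebraMap S SA)) Q' hQ'p hQ'q
  exact ⟨g, hg Q ⟨rfl⟩ hQ, hfp, hfl⟩

end Groth.Agent.S1260
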