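import Groth.Statements.S1262
import Groth.Agent.S1201

set_option autoImplicit false
universe u
open FlatMor TensorProduct

namespace Groth.Agent.S1262

attribute [local instance] Algebra.TensorProduct.rightAlgebra

/-- Ring form, X = Spec S affine: let S be a finite type R-algebra, N a finite S-module and p a prime of
R. Then the set of points x of the fibre Spec(κ(p) ⊗ S) such that N is flat over R at the prime of S
under x is open in the fibre. -/
theorem result {R S : Type u} [CommRing R] [CommRing S] [Algebra R S] [Algebra.FiniteType R S]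
    (N : Type u) [AddCommGroup N] [Module S N] [Module R N] [IsScalarTower R S N] [Module.Finite S N]
    (p : Ideal R) [p.IsPrime] :
    IsOpen {x : PrimeSpectrum (p.Fiber S) |
      FlatCA.FlatAt R (x.asIdeal.comap (Algebra.TensorProduct.includeRight (R := R) (A := p.ResidueField) (B := S)).toRingHom) N} := by
  haveI : IsNoetherianRing (p.Fiber S) := Groth.Agent.RGLib.isNoetherianRing_fiber p
  haveI : Module.Finite (p.Fiber S) (FlatCA.fiberMod p S N) :=
    inferInstanceAs (Module.Finite (p.Fiber S) ((p.Fiber S) ⊗[S] N))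
  let Bad : Set (Ideal (p.Fiber S)) :=
    {P | P ∈ associatedPrimes (p.Fiber S) (FlatCA.fiberMod p S N) ∧
      ∀ _ : (P.comap (algebraMap S (p.Fiber S))).IsPrime, ¬ FlatCA.FlatAt R (P.comap (algebraMap S (p.Fiber S))) N}
  have hfin : Bad.Finite := (associatedPrimes.finite (p.Fiber S) (FlatCA.fiberMod p S N)).subset fun _ h => h.1
  rw [← isClosed_compl_iff]
  have hclosed : IsClosed (⋃ P ∈ Bad, PrimeSpectrum.zeroLocus (P : Set (p.Fiber S))) :=
    hfin.isClosed_biUnion fun P _ => PrimeSpectrum.isClosed_zeroLocus _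
  convert hclosed using 1
  ext x
  let q := x.asIdeal.comap (algebraMap S (p.Fiber S))
  haveI : q.IsPrime := Ideal.IsPrime.comap _
  haveI : q.LiesOver p := ⟨(Groth.Agent.RGLib.comap_comap_fiber p x.asIdeal).symm⟩
  have hq := Groth.Agent.S1201.result N p q
  simp only [Set.mem_compl_iff, Set.mem_ofPred_eq, Set.mem_iUnion, PrimeSpectrum.mem_zeroLocus, exists_prop]
  show ¬ FlatCA.FlatAt R q N ↔ _
  rw [hq]
  constructor
  · intro h
    push Not at h
    obtain ⟨q', hq', hle, hq'p, hass, hnot⟩ := h
    refine ⟨FlatCA.fiberIdeal p q', ⟨hass, fun hpr hf => hnot ?_⟩, ?_⟩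
    · have he : (FlatCA.fiberIdeal p q').comap (algebraMap S (p.Fiber S)) = q' := by
        refine le_antisymm (fun s hs => ?_) Ideal.le_comap_map
        obtain ⟨r, hr, hmem⟩ := Groth.Agent.RGLib.exists_mul_mem_sup_of_mem_fiberIdeal p q' hs
        have hpq' : ∀ r, r ∈ p ↔ algebraMap R S r ∈ q' := fun r => by
          rw [Ideal.over_def q' p]
          rfl
        rw [sup_eq_left.2 (Ideal.map_le_iff_le_comap.2 fun a ha => (hpq' a).1 ha)] at hmem
        exact (hq'.mem_or_mem hmem).resolve_left fun h' => hr ((hpq' r).2 h')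
      convert hf using 1 <;> simp only [he]
    · exact Ideal.map_le_iff_le_comap.2 hle
  · rintro ⟨P, ⟨hP, hbad⟩, hPx⟩ h
    haveI : P.IsPrime := IsAssociatedPrime.isPrime hP
    haveI : (P.comap (algebraMap S (p.Fiber S))).IsPrime := Ideal.IsPrime.comap _
    refine hbad ‹_› (h _ (Ideal.comap_mono hPx) ⟨(Groth.Agent.RGLib.comap_comap_fiber p P).symm⟩ ?_)
    rw [Groth.Agent.RGLib.fiberIdeal_comap]
    exact hP

end Groth.Agent.S1262
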