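import Groth.Statements.S12627
import Groth.Agent.EllTan.Basic
import Groth.Agent.S7785
import Groth.Agent.GrpSchLib.CommCat
import Groth.Agent.H23.EquidimFibres

set_option autoImplicit false
set_option backward.isDefEq.respectTransparency false
set_option backward.isDefEq.respectTransparency.types false
set_option maxHeartbeats 1000000
set_option linter.style.haveILetI false
universe u
open CategoryTheory CategoryTheory.Limits MonoidalCategory CartesianMonoidalCategory MonObj GrpObj AlgebraicGeometry
open AbVar

namespace Groth.Agent.S12627

open Groth.Agent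

/-- Let `k` be an algebraically closed field and `E₁`, `E₂` elliptic curves over `k`, i.e. group schemes
over `Spec k` whose underlying schemes are proper, smooth, integral and one-dimensional. If `φ, φ' :
E₁ → E₂` are homomorphisms with `φ` finite, surjective and étale (a separable isogeny) and `φ'` not
étale (the zero homomorphism or an inseparable isogeny), then their sum under the group law of `E₂`
— the composite of `(φ, φ')` with the multiplication of `E₂` — is finite, surjective and étale, i.e.
again a separable isogeny. (The published statement is for arbitrary morphisms `φ, φ'` and takes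
`φ'` inseparable; this row takes homomorphisms, the case its proof treats — a morphism of elliptic
curves is a homomorphism followed by a translation, which changes neither the hypotheses nor the
conclusion — and allows `φ'` to be the zero map, that case being immediate.) -/
theorem result (k : Type u) [Field k] [IsAlgClosed k]
    (E₁ E₂ : Over (Spec (CommRingCat.of k)))
    [GrpObj E₁] [IsProper E₁.hom] [Smooth E₁.hom] [IsIntegral E₁.left] (hE₁ : topologicalKrullDim E₁.left = 1)
    [GrpObj E₂] [IsProper E₂.hom] [Smooth E₂.hom] [IsIntegral E₂.left] (hE₂ : topologicalKrullDim E₂.left = 1)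
    (φ φ' : E₁ ⟶ E₂) [IsMonHom φ] [IsMonHom φ'] [IsFinite φ.left] [Surjective φ.left] [Etale φ.left]
    (hφ' : ¬ Etale φ'.left) :
    IsFinite (φ * φ').left ∧ Surjective (φ * φ').left ∧ Etale (φ * φ').left := by
  let f := φ * φ'
  haveI : GeometricallyIntegral E₂.hom := H23.EquidimFibres.geometricallyIntegral_of_isAlgClosed
  haveI : GeometricallyConnected E₂.hom := ⟨fun K _ y Z g₁ g₂ h =>
    haveI := GeometricallyIntegral.geometrically_isIntegral (f := E₂.hom) y g₁ g₂ h
    show ConnectedSpace Z from { toNonempty := inferInstance }⟩
  haveI : IsCommMonObj E₂ := S7785.result E₂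
  haveI : IsMonHom (φ * φ') := GrpSchLib.CommCat.isMonHom_mul φ φ'
  haveI : LocallyOfFiniteType φ.left := inferInstance
  have hkill : ∀ t : GrpSchLib.specOver k (TrivSqZeroExt k k) ⟶ E₁,
      GrpSchLib.specHom (TrivSqZeroExt.fstHom k k k) ≫ t = 1 → t ≫ φ' = 1 := by
    by_cases h : ∃ t : GrpSchLib.specOver k (TrivSqZeroExt k k) ⟶ E₁,
        GrpSchLib.specHom (TrivSqZeroExt.fstHom k k k) ≫ t = 1 ∧ t ≫ φ' = 1 ∧ t ≠ 1
    · obtain ⟨t₀, h₀, hk₀, hne⟩ := h
      intro t ht
      obtain ⟨σ, rfl⟩ := EllTan.exists_scale hE₁ t₀ t h₀ ht hne
      rw [Category.assoc, hk₀, MonObj.comp_one]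
    · push Not at h
      haveI := EllTan.formallyUnramified_of_tangent φ' h
      exact absurd (EllTan.isogeny_of_formallyUnramified hE₁ hE₂ φ').2.2 hφ'
  haveI : FormallyUnramified (φ * φ').left := by
    refine EllTan.formallyUnramified_of_tangent (φ * φ') fun t ht hk => ?_
    rw [MonObj.comp_mul, hkill t ht, _root_.mul_one] at hk
    exact EllTan.eq_one_of_formallyUnramified φ t ht hk
  exact EllTan.isogeny_of_formallyUnramified hE₁ hE₂ (φ * φ')

end Groth.Agent.S12627
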