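import Groth.Statements.S1263
import Groth.Agent.FlatEtNhd.AlgAway

set_option autoImplicit false
attribute [-instance] CategoryTheory.catToReflQuiver
set_option backward.isDefEq.respectTransparency false
set_option backward.isDefEq.respectTransparency.types false
universe u
open FlatMor

namespace Groth.Agent.S1263

/-- Ring form, X = Spec S and S = Spec R affine: let S be a finite type R-algebra and q a prime of S
over p with S_q flat over R. Then there is an étale R-algebra R' with a prime p' over p having the
same residue field such that, writing A for the local ring of R' at p' and S_A for the base change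
(any model): some g ∈ S_A outside every prime over both q and the maximal ideal of A has (S_A)_g
flat and of finite presentation over A. -/
theorem result {R S : Type u} [CommRing R] [CommRing S] [Algebra R S] [Algebra.FiniteType R S]
    (p : Ideal R) [p.IsPrime] (q : Ideal S) [q.IsPrime] [q.LiesOver p] (hflat : Module.Flat R (Localization.AtPrime q)) :
    ∃ (R' : Type u) (_ : CommRing R') (_ : Algebra R R') (p' : Ideal R') (_ : p'.IsPrime), FlatCA.IsEtaleNhd R R' p p' ∧
      ∀ (SA : Type u) [CommRing SA] [Algebra R SA] [Algebra S SA] [Algebra (Localization.AtPrime p') SA]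
        [IsScalarTower R S SA] [IsScalarTower R (Localization.AtPrime p') SA]
        [Algebra.IsPushout R S (Localization.AtPrime p') SA],
        ∃ g : SA, (∀ (Q : Ideal SA) [Q.IsPrime], Q.LiesOver q → Q.LiesOver (IsLocalRing.maximalIdeal (Localization.AtPrime p')) → g ∉ Q) ∧
          Module.Flat (Localization.AtPrime p') (Localization.Away g) ∧
          Algebra.FinitePresentation (Localization.AtPrime p') (Localization.Away g) := by
  classical
  obtain ⟨n, φ, hφ⟩ := Algebra.FiniteType.iff_quotient_mvPolynomial''.1 ‹Algebra.FiniteType R S›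
  let P := MvPolynomial (Fin n) R
  letI : Algebra P S := φ.toRingHom.toAlgebra
  haveI : IsScalarTower R P S := IsScalarTower.of_algebraMap_eq fun r => (φ.commutes r).symm
  let qP := q.comap (algebraMap P S)
  haveI : qP.IsPrime := Ideal.IsPrime.comap _
  haveI hqP : qP.LiesOver p := ⟨by
    show p = (q.comap (algebraMap P S)).comap (algebraMap R P)
    rw [Ideal.comap_comap, ← IsScalarTower.algebraMap_eq]
    exact Ideal.over_def q p⟩
  haveI : Module.Finite P S := Module.Finite.of_surjective (Algebra.linearMap P S) hφ
  have h0 : FlatCA.FlatAt R q S := by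
    haveI := hflat
    exact Module.Flat.of_linearEquiv ((IsLocalizedModule.linearEquiv q.primeCompl
      (LocalizedModule.mkLinearMap q.primeCompl S) (Algebra.linearMap S (Localization.AtPrime q))).restrictScalars R)
  have hflatP : FlatCA.FlatAt R qP S := (Groth.Agent.DevFree.flatAt_iff_of_surjective R hφ qP q rfl).2 h0
  obtain ⟨R', S', _, _, _, _, _, _, _, _, p', q', _, _, hR, hS, hover, hG⟩ :=
    Groth.Agent.FlatEtNhd.exists_good (S := P) S p qP hflatP
  haveI := hS.1
  refine ⟨R', inferInstance, inferInstance, p', inferInstance, hR, fun SA _ _ _ _ _ _ _ => ?_⟩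
  let A := Localization.AtPrime p'
  letI : Algebra P SA := ((algebraMap S SA).comp (algebraMap P S)).toAlgebra
  haveI : IsScalarTower P S SA := IsScalarTower.of_algebraMap_eq' rfl
  obtain ⟨PA, _, _, _, _, _, _, _, _, _, hP, hPfp, hsurj, hf⟩ :=
    Groth.Agent.FlatEtNhd.exists_quotient_model (R := R) (A := A) (P := P) (S := S) (SA := SA) hφ
  haveI := hP; haveI := hPfp
  let f : S →ₗ[P] SA := (IsScalarTower.toAlgHom P S SA).toLinearMap
  obtain ⟨g, hg, hfp, hfl⟩ := Groth.Agent.FlatEtNhd.exists_near_of_lift (S := P) p p' hR hG PA SA f hf qP q' hover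
    hS.2.choose.over.symm
  refine ⟨algebraMap PA SA g, fun Q _ hQ hQm h => ?_, ?_⟩
  · refine hg (Q.comap (algebraMap PA SA)) ⟨?_⟩ ⟨?_⟩ h
    · show q.comap (algebraMap P S) = (Q.comap (algebraMap PA SA)).comap (algebraMap P PA)
      rw [Ideal.comap_comap, ← IsScalarTower.algebraMap_eq, IsScalarTower.algebraMap_eq P S SA, ← Ideal.comap_comap]
      exact congrArg _ hQ.over
    · show IsLocalRing.maximalIdeal A = (Q.comap (algebraMap PA SA)).comap (algebraMap A PA)
      rw [Ideal.comap_comap, ← IsScalarTower.algebraMap_eq]
      exact hQm.over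
  · exact Groth.Agent.FlatEtNhd.algebra_flat_fp_away hsurj g hfp hfl

end Groth.Agent.S1263
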