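import Groth.Statements.S1268
import Groth.Agent.FlatEtOpen.Spread
import Groth.Agent.FlatEtProj.Point
import Groth.Agent.DevExist.Nhd

set_option autoImplicit false
attribute [-instance] CategoryTheory.catToReflQuiver
set_option backward.isDefEq.respectTransparency false
set_option backward.isDefEq.respectTransparency.types false
universe u
open FlatMor

namespace Groth.Agent.S1268

open AlgebraicGeometry CategoryTheory TensorProduct in
/-- Ring form, X = Spec S and S = Spec R affine: let S be a finitely presented R-algebra, N a finitely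
presented S-module and q a prime of S over p with N_q flat over R. Then there is an étale R-algebra
R' with a prime p' over p having the same residue field such that, for the base changes S', N' of S,
N to R' (any models), there is an S'-algebra C with Spec C → Spec S' an open immersion (an affine
open U' of X ×_S S'), containing a point lying over both q and p' (there is exactly one such point
of X ×_S S'), such that C ⊗_{S'} N' (the sections of the pulled-back module over U') is a projective
R'-module. -/
theorem result {R S : Type u} [CommRing R] [CommRing S] [Algebra R S] [Algebra.FinitePresentation R S]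
    (N : Type u) [AddCommGroup N] [Module S N] [Module R N] [IsScalarTower R S N] [Module.FinitePresentation S N]
    (p : Ideal R) [p.IsPrime] (q : Ideal S) [q.IsPrime] [q.LiesOver p] (hflat : FlatCA.FlatAt R q N) :
    ∃ (R' : Type u) (_ : CommRing R') (_ : Algebra R R') (p' : Ideal R') (_ : p'.IsPrime), FlatCA.IsEtaleNhd R R' p p' ∧
      ∀ (S' N' : Type u) [CommRing S'] [Algebra R S'] [Algebra S S'] [Algebra R' S'] [IsScalarTower R S S'] [IsScalarTower R R' S']
        [Algebra.IsPushout R S R' S']
        [AddCommGroup N'] [Module S' N'] [Module S N'] [IsScalarTower S S' N']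
        (f : N →ₗ[S] N'), IsBaseChange S' f →
        ∃ (C : Type u) (_ : CommRing C) (_ : Algebra S' C) (_ : Algebra R' C) (_ : IsScalarTower R' S' C)
          (x' : Ideal C) (_ : x'.IsPrime),
          IsOpenImmersion (Spec.map (CommRingCat.ofHom (algebraMap S' C))) ∧
          (x'.comap (algebraMap S' C)).LiesOver q ∧ (x'.comap (algebraMap S' C)).LiesOver p' ∧
          Module.Projective R' (RestrictScalars R' C (C ⊗[S'] N')) := by
  obtain ⟨R', S', _, _, _, _, _, _, _, _, p', q', _, _, hR, hS, hover, hG⟩ :=
    Groth.Agent.FlatEtProj.exists_pgood N p q hflat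
  obtain ⟨heS, hq', -⟩ := hS
  haveI := heS; haveI := hR.1; haveI := hq'; haveI := hover
  let T := R' ⊗[R] S
  letI : Algebra S T := Algebra.TensorProduct.rightAlgebra
  haveI : IsScalarTower R S T := Algebra.TensorProduct.right_isScalarTower
  haveI : Algebra.Etale S T := Groth.Agent.DevExist.etale_rightAlgebra R R' S
  let π : T →ₐ[R'] S' := Algebra.TensorProduct.lift (Algebra.ofId R' S') (IsScalarTower.toAlgHom R S S')
    fun _ _ => Commute.all _ _
  letI : Algebra T S' := π.toRingHom.toAlgebra
  haveI : IsScalarTower R' T S' := IsScalarTower.of_algebraMap_eq fun a => (π.commutes a).symm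
  haveI : IsScalarTower S T S' := IsScalarTower.of_algebraMap_eq fun s => by
    show algebraMap S S' s = Algebra.TensorProduct.lift _ _ _ ((1 : R') ⊗ₜ[R] s)
    rw [Algebra.TensorProduct.lift_tmul, map_one, one_mul]
    rfl
  haveI : Algebra.Etale T S' := Algebra.Etale.of_restrictScalars S T S'
  let NT := T ⊗[S] N
  let M := S' ⊗[S] N
  haveI : SMulCommClass R' S S' := ⟨fun a s c => by simp only [Algebra.smul_def]; ring⟩
  haveI : SMulCommClass T S S' := ⟨fun a s c => by simp only [Algebra.smul_def]; ring⟩
  haveI : IsScalarTower R' S' M := inferInstance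
  let mkM : N →ₗ[S] M := TensorProduct.mk S S' N 1
  have hmk : IsBaseChange S' mkM := TensorProduct.isBaseChange S N S'
  haveI : Module.Projective R' M := hG M mkM hmk
  have hNT : IsBaseChange T (TensorProduct.mk S T N 1) := TensorProduct.isBaseChange S N T
  let h : NT →ₗ[T] M := hNT.lift mkM
  have hh : IsBaseChange S' h := IsBaseChange.of_comp hNT (by
    rw [show ((h.restrictScalars S) ∘ₗ TensorProduct.mk S T N 1) = mkM from
      LinearMap.ext fun n => hNT.lift_eq mkM n]
    exact hmk)
  haveI : Algebra.FinitePresentation R' T := inferInstance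
  obtain ⟨c₀, c, hf, hcq, hsub, hinj⟩ :=
    Groth.Agent.FlatEtOpen.exists_spread (R' := R') (T := T) (S' := S') M p' q'
  let R'' := Localization.Away c₀
  obtain ⟨hp0, hpp0⟩ := Groth.Agent.FlatDevLoc.isPrime_map_away (T' := R'') c₀ p' hf
  let p'' : Ideal R'' := p'.map (algebraMap R' R'')
  haveI : p''.IsPrime := hp0
  haveI : p''.LiesOver p' := hpp0
  have hloc := Groth.Agent.DevExist.isEtaleNhd_away R'' c₀ p' p''
  obtain ⟨hκe, hκp, hκ⟩ := id hloc
  refine ⟨R'', inferInstance, inferInstance, p'', inferInstance,
    Groth.Agent.DevExist.isEtaleNhd_trans (p₁ := p') hR hloc, ?_⟩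
  intro S'' N'' _ _ _ _ _ _ _ _ _ _ _ g hg
  letI : Algebra R' S'' := ((algebraMap R'' S'').comp (algebraMap R' R'')).toAlgebra
  haveI : IsScalarTower R' R'' S'' := IsScalarTower.of_algebraMap_eq' rfl
  haveI : IsScalarTower R R' S'' := IsScalarTower.of_algebraMap_eq fun r => by
    show algebraMap R S'' r = algebraMap R'' S'' (algebraMap R' R'' (algebraMap R R' r))
    rw [← IsScalarTower.algebraMap_apply R R' R'', ← IsScalarTower.algebraMap_apply R R'' S'']
  let σ : T →ₐ[R'] S'' := Algebra.TensorProduct.lift (Algebra.ofId R' S'') (IsScalarTower.toAlgHom R S S'')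
    fun _ _ => Commute.all _ _
  letI : Algebra T S'' := σ.toRingHom.toAlgebra
  haveI : IsScalarTower R' T S'' := IsScalarTower.of_algebraMap_eq fun a => (σ.commutes a).symm
  haveI : IsScalarTower S T S'' := IsScalarTower.of_algebraMap_eq fun s => by
    show algebraMap S S'' s = Algebra.TensorProduct.lift _ _ _ ((1 : R') ⊗ₜ[R] s)
    rw [Algebra.TensorProduct.lift_tmul, map_one, one_mul]
    rfl
  haveI : Algebra.IsPushout R R' S T := TensorProduct.isPushout (R := R) (S := R') (T := S)
  haveI : IsScalarTower R T S'' := IsScalarTower.to₁₃₄ R R' T S''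
  haveI hRS : Algebra.IsPushout R R'' S S'' := Algebra.IsPushout.symm inferInstance
  haveI : Algebra.IsPushout R' R'' T S'' :=
    (Algebra.IsPushout.comp_iff (R := R) (S := R') (R' := S) (S' := T) (T := R'') (T' := S'')).1 hRS
  letI : Module T N'' := Module.compHom N'' (algebraMap T S'')
  haveI : IsScalarTower T S'' N'' := IsScalarTower.of_algebraMap_smul fun _ _ => rfl
  haveI : IsScalarTower S T N'' := IsScalarTower.to₁₂₄ S T S'' N''
  let g' : NT →ₗ[T] N'' := hNT.lift g
  have hg' : IsBaseChange S'' g' := IsBaseChange.of_comp hNT (by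
    rw [show ((g'.restrictScalars S) ∘ₗ TensorProduct.mk S T N 1) = g from
      LinearMap.ext fun n => hNT.lift_eq g n]
    exact hg)
  have hproj := Groth.Agent.FlatEtOpen.projective_open_model (R' := R') (Rf := R'') (T := T) (U := S'') g' hg' M h hh c hsub
    (fun r hr => hinj _ fun hmem => hr.ne_top (Ideal.eq_top_of_isUnit_mem _ hmem
      (IsLocalization.Away.algebraMap_isUnit c₀)))
    (Localization.Away (algebraMap T S'' c))
  let qT : Ideal T := q'.comap (algebraMap T S')
  haveI : qT.LiesOver p' := ⟨by
    show p' = (q'.comap (algebraMap T S')).comap (algebraMap R' T)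
    rw [Ideal.comap_comap, ← IsScalarTower.algebraMap_eq]
    exact hover.over⟩
  obtain ⟨y, hy, hyq, hyp⟩ := Groth.Agent.FlatDevBC.exists_prime_over (R := R') (R' := R'') (T := T) (T' := S'')
    p' p'' hκ qT
  haveI := hy; haveI := hyp
  let C := Localization.Away (algebraMap T S'' c)
  have hcy : algebraMap T S'' c ∉ y := fun hmem => hcq (by
    have hmem' : c ∈ qT := by
      rw [hyq.over]
      exact hmem
    exact hmem')
  obtain ⟨hx', hx'y⟩ := Groth.Agent.FlatDevLoc.isPrime_map_away (T' := C) (algebraMap T S'' c) y hcy
  refine ⟨C, inferInstance, inferInstance, inferInstance, inferInstance, y.map (algebraMap S'' C), hx',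
    IsOpenImmersion.of_isLocalization (algebraMap T S'' c), ⟨?_⟩, ⟨?_⟩, hproj⟩
  · show q = ((y.map (algebraMap S'' C)).under S'').comap (algebraMap S S'')
    rw [← hx'y.over, IsScalarTower.algebraMap_eq S T S'', ← Ideal.comap_comap]
    show q = (y.under T).comap (algebraMap S T)
    rw [← hyq.over]
    show q = (q'.comap (algebraMap T S')).comap (algebraMap S T)
    rw [Ideal.comap_comap, ← IsScalarTower.algebraMap_eq]
    exact hq'.over
  · show p'' = ((y.map (algebraMap S'' C)).comap (algebraMap S'' C)).comap (algebraMap R'' S'')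
    rw [← Ideal.under_def, ← Ideal.under_def, ← hx'y.over]
    exact hyp.over

end Groth.Agent.S1268
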