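import Groth.Statements.S12682
import Groth.Agent.Proj16.RLSigma
import Groth.Agent.Proj16.RelBasic

set_option autoImplicit false
set_option backward.isDefEq.respectTransparency false
set_option backward.isDefEq.respectTransparency.types false
universe u
open CategoryTheory CategoryTheory.Limits AlgebraicGeometry TopologicalSpace Opposite
open scoped HomogeneousIdeal
noncomputable section
open Mor Groth.Agent

namespace Groth.Agent.S12682

/-- Let f : X → Y be a quasi-compact morphism, L an invertible O_X-module with graded symmetric algebra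
𝒮L = ⊕_{n≥0} L^{⊗n} (whose relative Proj PL, given with its charts, is identified with X by its
structure morphism), 𝒜 any quasi-coherent graded O_Y-algebra, u : 𝒜 → f_*𝒮L a graded f-morphism (the
adjoint of a homomorphism of graded O_X-algebras ψ : f^*𝒜 → ⊕ L^{⊗d}), P = Proj(𝒜) → Y with its
charts, and r = r_{L,ψ} : U(ψ) → P the induced morphism on its open of definition U(ψ) ⊆ PL. If U(ψ)
is all of PL and r is an immersion, then L is ample relative to f. -/
theorem result {X Y P PL : Scheme.{u}} (f : X ⟶ Y) [QuasiCompact f]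
    (L : X.Modules) (hL : PicF.IsInvertible L) (hLq : Coh.IsQCoh L)
    (𝒮L : RelProj.QCGrAlg X) (jL : L ⟶ 𝒮L.toModule) (hjL : RelProj.IsGrSymAlg L 𝒮L jL)
    (pL : PL ⟶ X) (chartL : ∀ (U : X.Opens) (hU : IsAffineOpen U), (((pL ⁻¹ᵁ U : PL.Opens) : Scheme.{u}) ≅ Proj (𝒮L.deg U hU)))
    (hPL : RelProj.IsRelProj 𝒮L pL chartL)
    (𝒜 : RelProj.QCGrAlg Y) (u : RelProj.QGrHom f 𝒜 𝒮L)
    (p : P ⟶ Y) (chart : ∀ (U : Y.Opens) (hU : IsAffineOpen U), (((p ⁻¹ᵁ U : P.Opens) : Scheme.{u}) ≅ Proj (𝒜.deg U hU)))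
    (hP : RelProj.IsRelProj 𝒜 p chart)
    (r : ((RelProj.domQ u pL chartL : PL.Opens) : Scheme.{u}) ⟶ P)
    (hr : RelProj.IsProjQMapOn u p chart pL chartL (RelProj.domQ u pL chartL) r)
    (htop : RelProj.domQ u pL chartL = ⊤) (himm : IsImmersion r) :
    RelAmple.IsRelAmple f L := by
  haveI := himm
  have hemb : Topology.IsEmbedding r.base := r.isEmbedding
  have key : ∀ {U : Y.Opens} (_hU : IsAffineOpen U) {n : ℕ} (_hn : 0 < n) (a : Γ(CohB1.tensorPow L n, f ⁻¹ᵁ U))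
      {s : 𝒜.presheaf.obj (op U)}, (u.app U).hom s = SymX.elt jL a → ∀ {V : X.Opens} (hV : IsAffineOpen V) (hle : V ≤ f ⁻¹ᵁ U) (z : Proj (𝒮L.deg V hV)),
      (z ∈ Proj.basicOpen (𝒮L.deg V hV) (u.gradedAt U _hU V hV hle s) ↔
        pL (RelProj.emb pL chartL V hV z) ∈ AmpleX.locus a) := fun hU _ hn a s hs' V hV hle z => by
    rw [Proj16.gradedAt_eq_map, hs']
    exact SymX.mem_basicOpen_elt_iff hL hLq hjL hPL hn hV hle a z
  haveI : IsIso pL := SymX.isIso_relProj hL hLq hjL pL chartL hPL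
  haveI : IsSeparated p := Proj16.isSeparated hP
  haveI : IsSeparated (r ≫ p) := inferInstance
  haveI : IsSeparated f := by
    haveI : IsIso (RelProj.domQ u pL chartL).ι := by rw [htop, ← Scheme.topIso_hom]; infer_instance
    have e := (Proj16.existsUnique_projQMapOn u hP hPL).2 r hr
    have : IsSeparated ((RelProj.domQ u pL chartL).ι ≫ pL ≫ f) := e ▸ (inferInstanceAs (IsSeparated (r ≫ p)))
    rw [MorphismProperty.cancel_left_of_respectsIso (P := @IsSeparated), MorphismProperty.cancel_left_of_respectsIso (P := @IsSeparated)] at this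
    exact this
  haveI : IsIso pL := SymX.isIso_relProj hL hLq hjL pL chartL hPL
  refine AmpleX.isRelAmple_of_sections hL fun x => ?_
  obtain ⟨_, ⟨U, hU, rfl⟩, hxU, -⟩ :=
    Y.isBasis_affineOpens.exists_subset_of_mem_open (Set.mem_univ (f x)) isOpen_univ
  refine ⟨U, hxU, f.isCompact_preimage hU.isCompact, fun x' hx' => ?_⟩
  obtain ⟨_, ⟨T, hT, rfl⟩, hxT, hTsub⟩ := X.isBasis_affineOpens.exists_subset_of_mem_open
    (a := x') (u := ((f ⁻¹ᵁ U : X.Opens) : Set X)) hx' (f ⁻¹ᵁ U).isOpen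
  have hpx : pL ((CategoryTheory.inv pL) x') = x' := by
    rw [← Scheme.Hom.comp_apply, IsIso.inv_hom_id]; rfl
  have hy : (CategoryTheory.inv pL) x' ∈ RelProj.domQ u pL chartL := htop ▸ Opens.mem_top _
  obtain ⟨O, hO, hOT⟩ := hemb.isInducing.isOpen_iff.mp
    (((RelProj.domQ u pL chartL).ι ⁻¹ᵁ pL ⁻¹ᵁ T).isOpen)
  have hyO : r ⟨_, hy⟩ ∈ O := (Set.ext_iff.mp hOT ⟨_, hy⟩).mpr (show pL ((CategoryTheory.inv pL) x') ∈ T from hpx.symm ▸ hxT)
  have hyU : p (r ⟨_, hy⟩) ∈ U := by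
    have e := congrArg (fun k : (RelProj.domQ u pL chartL : Scheme.{u}) ⟶ Y => k ⟨_, hy⟩)
      ((Proj16.existsUnique_projQMapOn u hP hPL).2 r hr)
    refine (show p (r ⟨_, hy⟩) = f (pL ((CategoryTheory.inv pL) x')) from e) ▸ ?_
    rw [hpx]; exact hx'
  obtain ⟨w, hw⟩ := (Proj16.opensRange_emb (p := p) (chart := chart) U hU).ge hyU
  obtain ⟨s, n, hn, hs, hws, hsO⟩ := GrModX.exists_basicOpen_le (𝒜.deg U hU)
    (V := RelProj.emb p chart U hU ⁻¹ᵁ ⟨O, hO⟩) (y := w) (show RelProj.emb p chart U hU w ∈ O from hw.symm ▸ hyO)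
  obtain ⟨a, ha⟩ := SymX.exists_elt_eq hL hLq hjL _ (Proj16.isHomOn_app u hU hs)
  have hmem : ∀ (y : (RelProj.domQ u pL chartL : Scheme.{u})),
      r y ∈ (RelProj.emb p chart U hU) ''ᵁ Proj.basicOpen (𝒜.deg U hU) s ↔ pL y.1 ∈ AmpleX.locus a := by
    intro y
    constructor
    · intro hy'
      have hyq : f (pL y.1) ∈ U := by
        obtain ⟨y', -, hyy⟩ := hy'
        have e := congrArg (fun k : (RelProj.domQ u pL chartL : Scheme.{u}) ⟶ Y => k y)
          ((Proj16.existsUnique_projQMapOn u hP hPL).2 r hr)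
        exact (show p (r y) = f (pL y.1) from e) ▸ (Proj16.opensRange_emb (p := p) (chart := chart) U hU).le ⟨y', hyy⟩
      obtain ⟨_, ⟨V, hV, rfl⟩, hyV, hVsub⟩ := X.isBasis_affineOpens.exists_subset_of_mem_open
        (a := pL y.1) (u := ((f ⁻¹ᵁ U : X.Opens) : Set X)) hyq (f ⁻¹ᵁ U).isOpen
      obtain ⟨z, hz⟩ := (Proj16.opensRange_emb (p := pL) (chart := chartL) V hV).ge hyV
      rw [← hz]
      exact (key hU hn a ha.symm hV hVsub z).mp
        ((Proj16.apply_mem_image_iff u hU hV hVsub hn s hs hP hPL r hr y z hz).mp hy')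
    · intro hy'
      obtain ⟨_, ⟨V, hV, rfl⟩, hyV, hVsub⟩ := X.isBasis_affineOpens.exists_subset_of_mem_open
        (a := pL y.1) (u := ((f ⁻¹ᵁ U : X.Opens) : Set X)) (AmpleX.locus_le a hy') (f ⁻¹ᵁ U).isOpen
      obtain ⟨z, hz⟩ := (Proj16.opensRange_emb (p := pL) (chart := chartL) V hV).ge hyV
      refine (Proj16.apply_mem_image_iff u hU hV hVsub hn s hs hP hPL r hr y z hz).mpr
        ((key hU hn a ha.symm hV hVsub z).mpr ?_)
      rw [hz]; exact hy'
  have hle : AmpleX.locus a ≤ T := fun z hz => by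
    have hpz : pL ((CategoryTheory.inv pL) z) = z := by
      rw [← Scheme.Hom.comp_apply, IsIso.inv_hom_id]; rfl
    have hz' : (CategoryTheory.inv pL) z ∈ RelProj.domQ u pL chartL := htop ▸ Opens.mem_top _
    obtain ⟨v, hv, hvz⟩ := (hmem ⟨_, hz'⟩).mpr (show pL ((CategoryTheory.inv pL) z) ∈ AmpleX.locus a from hpz.symm ▸ hz)
    have h1 : pL ((CategoryTheory.inv pL) z) ∈ T := (Set.ext_iff.mp hOT ⟨_, hz'⟩).mp (show r _ ∈ O from hvz ▸ hsO hv)
    exact hpz ▸ h1
  refine ⟨n, hn, a, hpx ▸ (hmem ⟨_, hy⟩).mp ⟨w, hws, hw⟩, ?_⟩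
  rw [← inf_eq_right.mpr hle]
  exact AmpleX.isAffineOpen_inf_locus (InvX.isInvertible_tensorPow hL n) hT a hTsub

end Groth.Agent.S12682
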