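import Groth.Statements.S1269
import Groth.Agent.FlatEtOpen.Local

set_option autoImplicit false
attribute [-instance] CategoryTheory.catToReflQuiver
set_option backward.isDefEq.respectTransparency false
set_option backward.isDefEq.respectTransparency.types false
universe u
open FlatMor

namespace Groth.Agent.S1269

open AlgebraicGeometry CategoryTheory TensorProduct in
/-- Ring form, X = Spec S and S = Spec R affine: let S be a finite type R-algebra, N a finite S-module
and q a prime of S over p with N_q flat over R. Then there is an étale R-algebra R' with a prime p'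
over p having the same residue field such that, writing A for the local ring of R' at p' and S_A,
N_A for the base changes (any models), there is an S_A-algebra C with Spec C → Spec S_A an open
immersion (an affine open U'), containing a point lying over q and over the maximal ideal of A, such
that C ⊗_{S_A} N_A is a free A-module. -/
theorem result {R S : Type u} [CommRing R] [CommRing S] [Algebra R S] [Algebra.FiniteType R S]
    (N : Type u) [AddCommGroup N] [Module S N] [Module R N] [IsScalarTower R S N] [Module.Finite S N]
    (p : Ideal R) [p.IsPrime] (q : Ideal S) [q.IsPrime] [q.LiesOver p] (hflat : FlatCA.FlatAt R q N) :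
    ∃ (R' : Type u) (_ : CommRing R') (_ : Algebra R R') (p' : Ideal R') (_ : p'.IsPrime), FlatCA.IsEtaleNhd R R' p p' ∧
      ∀ (SA NA : Type u) [CommRing SA] [Algebra R SA] [Algebra S SA] [Algebra (Localization.AtPrime p') SA]
        [IsScalarTower R S SA] [IsScalarTower R (Localization.AtPrime p') SA]
        [Algebra.IsPushout R S (Localization.AtPrime p') SA]
        [AddCommGroup NA] [Module SA NA] [Module S NA] [IsScalarTower S SA NA]
        (f : N →ₗ[S] NA), IsBaseChange SA f →
        ∃ (C : Type u) (_ : CommRing C) (_ : Algebra SA C) (_ : Algebra (Localization.AtPrime p') C)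
          (_ : IsScalarTower (Localization.AtPrime p') SA C) (x' : Ideal C) (_ : x'.IsPrime),
          IsOpenImmersion (Spec.map (CommRingCat.ofHom (algebraMap SA C))) ∧
          (x'.comap (algebraMap SA C)).LiesOver q ∧
          (x'.comap (algebraMap SA C)).LiesOver (IsLocalRing.maximalIdeal (Localization.AtPrime p')) ∧
          Module.Free (Localization.AtPrime p') (RestrictScalars (Localization.AtPrime p') C (C ⊗[SA] NA)) := by
  obtain ⟨R', S', _, _, _, _, _, _, _, _, p', q', _, _, hR, hS, hover, hG⟩ :=
    Groth.Agent.FlatEtNhd.exists_good N p q hflat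
  obtain ⟨heS, hq', -⟩ := hS
  haveI := heS; haveI := hR.1; haveI := hq'
  refine ⟨R', inferInstance, inferInstance, p', inferInstance, hR, fun SA NA _ _ _ _ _ _ _ _ _ _ _ f hf => ?_⟩
  obtain ⟨C, _, _, _, _, _, _, hC, -, hfree, -, hlift⟩ :=
    Groth.Agent.FlatEtNhd.exists_etale_model (R := R) p' hG SA NA f hf
  obtain ⟨x, hx, hxq, hxm, -⟩ := hlift q' inferInstance hover
  haveI := hx; haveI := hC
  haveI := Groth.Agent.FlatEtOpen.finiteType_of_isPushout (R := R) (A := Localization.AtPrime p') (S := S) (SA := SA)
  haveI := Groth.Agent.FlatEtOpen.finite_of_isBaseChange hf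
  obtain ⟨B, _, _, _, _, x', hx', hopen, hcomap, hB⟩ :=
    Groth.Agent.FlatEtOpen.exists_open_free (Localization.AtPrime p') NA x hfree
  refine ⟨B, inferInstance, inferInstance, inferInstance, inferInstance, x', hx', hopen, ⟨?_⟩, ⟨?_⟩, hB⟩
  · show q = (x'.comap (algebraMap SA B)).comap (algebraMap S SA)
    rw [hcomap, Ideal.comap_comap, ← IsScalarTower.algebraMap_eq, hxq]
    exact hq'.over
  · show IsLocalRing.maximalIdeal (Localization.AtPrime p') =
      (x'.comap (algebraMap SA B)).comap (algebraMap (Localization.AtPrime p') SA)
    rw [hcomap, Ideal.comap_comap, ← IsScalarTower.algebraMap_eq]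
    exact hxm.over

end Groth.Agent.S1269
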