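import Groth.Statements.S1271
import Groth.Agent.FittEtale.Basic
import Mathlib.RingTheory.Unramified.LocalStructure

set_option autoImplicit false
universe u
open FlatMor

namespace Groth.Agent.S1271

/-- Let A → B be an étale ring map, a ∈ A a nonzerodivisor and J a finitely generated ideal of B with
V(J) ⊆ V(aB), i.e. a lies in the radical of J. Then for every prime q of B there exist a finitely
generated ideal I of A with V(I) ⊆ V(a), an element g of B outside q, and a finitely generated ideal
J' of the localization B_g such that the extension of I to B_g equals the product of the extension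
of J with J'. -/
theorem result {A B : Type u} [CommRing A] [CommRing B] [Algebra A B] [Algebra.Etale A B]
    (a : A) (ha : a ∈ nonZeroDivisors A) (J : Ideal B) (hJ : J.FG) (hJa : algebraMap A B a ∈ J.radical)
    (q : Ideal B) [q.IsPrime] :
    ∃ (I : Ideal A) (g : B) (J' : Ideal (Localization.Away g)), I.FG ∧ a ∈ I.radical ∧ g ∉ q ∧ J'.FG ∧
      I.map (algebraMap A (Localization.Away g)) = J.map (algebraMap B (Localization.Away g)) * J' := by
  classical
  haveI : Algebra.IsEtaleAt A q := inferInstance
  obtain ⟨g, hgq, hst⟩ := Algebra.IsEtaleAt.exists_isStandardEtale (R := A) q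
  let P := hst.nonempty_standardEtalePresentation.some
  let e : Localization.Away g ≃ₐ[A] Localization.Away (AdjoinRoot.mk P.P.f P.P.g) :=
    P.equivRing.trans P.P.equivAwayAdjoinRoot
  let C := AdjoinRoot P.P.f
  haveI : Module.Free A C := P.P.monic_f.free_adjoinRoot
  haveI : Module.Finite A C := P.P.monic_f.finite_adjoinRoot
  let h : C := AdjoinRoot.mk P.P.f P.P.g
  haveI : Algebra.FormallyUnramified A (Localization.Away g) := inferInstance
  haveI : Algebra.FormallyUnramified A (Localization.Away h) := Algebra.FormallyUnramified.of_equiv e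
  let K : Ideal (Localization.Away h) :=
    (J.map (algebraMap B (Localization.Away g))).map e.toAlgHom.toRingHom
  obtain ⟨N, hN⟩ := hJa
  obtain ⟨J₀, hJ₀, hJ₀K⟩ := Groth.Agent.FittEtale.exists_fg_map (Submonoid.powers h) (Localization.Away h) K
    ((hJ.map _).map _)
  let J₁ : Ideal C := J₀ ⊔ Ideal.span {algebraMap A C a ^ N}
  have hJ₁ : J₁.FG := Submodule.FG.sup hJ₀ ⟨{algebraMap A C a ^ N}, by simp⟩
  have haK : algebraMap A (Localization.Away h) a ^ N ∈ K := by
    have h1 : algebraMap A (Localization.Away g) a ^ N ∈ J.map (algebraMap B (Localization.Away g)) := by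
      rw [IsScalarTower.algebraMap_apply A B (Localization.Away g), ← map_pow]
      exact Ideal.mem_map_of_mem _ hN
    have h2 := Ideal.mem_map_of_mem e.toAlgHom.toRingHom h1
    rw [map_pow] at h2
    rwa [show e.toAlgHom.toRingHom (algebraMap A (Localization.Away g) a) = algebraMap A (Localization.Away h) a from
      e.commutes a] at h2
  have hmap : J₁.map (algebraMap C (Localization.Away h)) = K := by
    rw [Ideal.map_sup, hJ₀K, Ideal.map_span, Set.image_singleton, map_pow, ← IsScalarTower.algebraMap_apply]
    exact sup_eq_left.2 ((Ideal.span_singleton_le_iff_mem _).2 haK)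
  obtain ⟨J', hJ', hJ'fg⟩ := Groth.Agent.FittEtale.exists_mul_eq (A := A) h J₁
  haveI := Groth.Agent.FittEtale.finitePresentation_quotient (A := A) J₁ hJ₁
  refine ⟨Fitt.ideal A (C ⧸ J₁) 0, g, J'.map e.symm.toAlgHom.toRingHom, Groth.Agent.FittX.ideal_fg 0, ?_, hgq,
    (hJ'fg inferInstance).map _, ?_⟩
  · refine Ideal.mem_radical_of_pow_mem (Groth.Agent.FittEtale.mem_radical_ideal_zero (a ^ N) fun m => ?_)
    obtain ⟨c, rfl⟩ := Ideal.Quotient.mk_surjective m
    rw [Algebra.smul_def, IsScalarTower.algebraMap_apply A C (C ⧸ J₁), Ideal.Quotient.algebraMap_eq, ← map_mul,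
      Ideal.Quotient.eq_zero_iff_mem, map_pow]
    exact Ideal.mul_mem_right _ _ (Submodule.mem_sup_right (Ideal.mem_span_singleton_self _))
  · have h3 := congrArg (Ideal.map e.symm.toAlgHom.toRingHom) hJ'
    rw [Ideal.map_mul, hmap, Ideal.map_map] at h3
    rw [show e.symm.toAlgHom.toRingHom.comp (algebraMap A (Localization.Away h)) = algebraMap A (Localization.Away g) from
      e.symm.toAlgHom.comp_algebraMap] at h3
    rw [h3]
    congr 1
    show ((J.map _).map _).map _ = _
    rw [Ideal.map_map (f := e.toAlgHom.toRingHom)]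
    rw [show e.symm.toAlgHom.toRingHom.comp e.toAlgHom.toRingHom = RingHom.id _ from
      RingHom.ext fun z => e.symm_apply_apply z, Ideal.map_id]

end Groth.Agent.S1271
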