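import Groth.Statements.S1277
import Groth.Agent.FlatClosed.Basic

set_option autoImplicit false
set_option backward.isDefEq.respectTransparency false
set_option backward.isDefEq.respectTransparency.types false
universe u
open FlatMor

namespace Groth.Agent.S1277

open IsLocalRing in
/-- Let A be a local ring, A → B a local homomorphism of local rings, B → C a flat local homomorphism of
local rings, M a B-module and N = M ⊗_B C. For every local homomorphism of local rings A → A', with
base changes B' = B ⊗_A A', M', C' = C ⊗_A A', N' (any models): M' is flat over A' at every prime of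
B' containing 𝔪_{A'}B' + 𝔪_B B' if and only if N' is flat over A' at every prime of C' containing
𝔪_{A'}C' + 𝔪_C C'. -/
theorem result {A B C : Type u} [CommRing A] [IsLocalRing A] [CommRing B] [IsLocalRing B] [CommRing C] [IsLocalRing C]
    [Algebra A B] [IsLocalHom (algebraMap A B)] [Algebra B C] [IsLocalHom (algebraMap B C)] [Algebra A C] [IsScalarTower A B C] [Module.Flat B C]
    (M : Type u) [AddCommGroup M] [Module B M] (N : Type u) [AddCommGroup N] [Module C N] [Module B N] [IsScalarTower B C N]
    (g : M →ₗ[B] N) (hg : IsBaseChange C g)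
    (A' : Type u) [CommRing A'] [IsLocalRing A'] [Algebra A A'] [IsLocalHom (algebraMap A A')]
    (B' M' : Type u) [CommRing B'] [Algebra B B'] [Algebra A' B'] [Algebra A B'] [IsScalarTower A B B'] [IsScalarTower A A' B']
        [Algebra.IsPushout A B A' B']
        [AddCommGroup M'] [Module B' M'] [Module B M'] [IsScalarTower B B' M'] [Module A' M'] [IsScalarTower A' B' M']
        (fB : M →ₗ[B] M') (hfB : IsBaseChange B' fB)
    (C' N' : Type u) [CommRing C'] [Algebra C C'] [Algebra A' C'] [Algebra A C'] [IsScalarTower A C C'] [IsScalarTower A A' C']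
        [Algebra.IsPushout A C A' C']
        [AddCommGroup N'] [Module C' N'] [Module C N'] [IsScalarTower C C' N'] [Module A' N'] [IsScalarTower A' C' N']
        (fC : N →ₗ[C] N') (hfC : IsBaseChange C' fC) :
    FlatCA.FlatAboveClosedPoints B A' B' M' ↔ FlatCA.FlatAboveClosedPoints C A' C' N' := by
  obtain ⟨φ, hφB, hφA⟩ := Groth.Agent.FlatClosed.exists_pushout_map A B C A' B' C'
  letI : Algebra B' C' := φ.toAlgebra
  letI : Algebra B C' := ((algebraMap C C').comp (algebraMap B C)).toAlgebra
  haveI : IsScalarTower B C C' := IsScalarTower.of_algebraMap_eq' rfl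
  haveI : IsScalarTower B B' C' := IsScalarTower.of_algebraMap_eq' hφB.symm
  haveI : IsScalarTower A' B' C' := IsScalarTower.of_algebraMap_eq' hφA.symm
  haveI : Algebra.IsPushout B C B' C' := Groth.Agent.FlatClosed.isPushout_cancel A B C A' B' C'
  haveI : Algebra.IsPushout B B' C C' := Algebra.IsPushout.symm inferInstance
  haveI : Module.Flat B' C' := Module.Flat.isBaseChange B B' C C' (Algebra.IsPushout.out (R := B) (S := B') (R' := C) (S' := C'))
  letI : Module B' N' := Module.compHom N' (algebraMap B' C')
  letI : Module B N' := Module.compHom N' (algebraMap B C')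
  haveI : IsScalarTower B' C' N' := IsScalarTower.of_algebraMap_smul fun _ _ => rfl
  haveI : IsScalarTower B C' N' := IsScalarTower.of_algebraMap_smul fun _ _ => rfl
  haveI : IsScalarTower B B' N' := IsScalarTower.to₁₂₄ B B' C' N'
  haveI : IsScalarTower B C N' := IsScalarTower.to₁₂₄ B C C' N'
  haveI : IsScalarTower A' B' N' := IsScalarTower.to₁₂₄ A' B' C' N'
  let h : M' →ₗ[B'] N' := hfB.lift ((fC.restrictScalars B).comp g)
  have hcomp : (h.restrictScalars B).comp fB = (fC.restrictScalars B).comp g := hfB.lift_comp _
  have hh : IsBaseChange C' h := IsBaseChange.of_comp hfB (by rw [hcomp]; exact hg.comp hfC)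
  constructor
  · intro H q' _ hq'
    haveI : q'.LiesOver (q'.comap (algebraMap B' C')) := ⟨rfl⟩
    refine (Groth.Agent.DevEtale.flatAt_iff_of_flat A' h hh (q'.comap (algebraMap B' C')) q').1 (H _ ?_)
    refine sup_le ?_ ?_
    · rw [Ideal.map_le_iff_le_comap, Ideal.comap_comap, ← IsScalarTower.algebraMap_eq,
        ← Ideal.map_le_iff_le_comap]
      exact le_sup_left.trans hq'
    · rw [Ideal.map_le_iff_le_comap, Ideal.comap_comap, ← IsScalarTower.algebraMap_eq,
        IsScalarTower.algebraMap_eq B C C', ← Ideal.comap_comap, ← Ideal.map_le_iff_le_comap]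
      refine le_trans ?_ (Ideal.map_le_iff_le_comap.1 (le_sup_right.trans hq'))
      exact ((IsLocalRing.local_hom_TFAE (algebraMap B C)).out 0 2 rfl rfl).1 inferInstance
  · intro H q _ hq
    obtain ⟨q', hq'p, hq'q, hC⟩ := Groth.Agent.FlatClosed.exists_prime_over B B' C C' q (le_sup_right.trans hq)
    haveI : q'.LiesOver q := ⟨hq'q.symm⟩
    refine (Groth.Agent.DevEtale.flatAt_iff_of_flat A' h hh q q').2 (H q' (sup_le ?_ hC))
    rw [IsScalarTower.algebraMap_eq A' B' C', ← Ideal.map_map, Ideal.map_le_iff_le_comap, hq'q]
    exact le_sup_left.trans hq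

end Groth.Agent.S1277
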