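import Groth.Statements.S1278
import Groth.Agent.FlatClosed.Basic

set_option autoImplicit false
set_option backward.isDefEq.respectTransparency false
set_option backward.isDefEq.respectTransparency.types false
universe u
open FlatMor

namespace Groth.Agent.S1278

open IsLocalRing in
/-- Let A be a local ring and B → C a finite local homomorphism of local A-algebras (A → B local), and N
a C-module, viewed also as a B-module. For every local homomorphism of local rings A → A', with base
changes B', C' of B, C and base changes M' (of N over B') and N' (of N over C'): M' is flat over A'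
at every prime of B' containing 𝔪_{A'}B' + 𝔪_B B' if and only if N' is flat over A' at every prime
of C' containing 𝔪_{A'}C' + 𝔪_C C'. -/
theorem result {A B C : Type u} [CommRing A] [IsLocalRing A] [CommRing B] [IsLocalRing B] [CommRing C] [IsLocalRing C]
    [Algebra A B] [IsLocalHom (algebraMap A B)] [Algebra B C] [IsLocalHom (algebraMap B C)] [Algebra A C] [IsScalarTower A B C] [Module.Finite B C]
    (N : Type u) [AddCommGroup N] [Module C N] [Module B N] [IsScalarTower B C N]
    (A' : Type u) [CommRing A'] [IsLocalRing A'] [Algebra A A'] [IsLocalHom (algebraMap A A')]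
    (B' M' : Type u) [CommRing B'] [Algebra B B'] [Algebra A' B'] [Algebra A B'] [IsScalarTower A B B'] [IsScalarTower A A' B']
        [Algebra.IsPushout A B A' B']
        [AddCommGroup M'] [Module B' M'] [Module B M'] [IsScalarTower B B' M'] [Module A' M'] [IsScalarTower A' B' M']
        (fB : N →ₗ[B] M') (hfB : IsBaseChange B' fB)
    (C' N' : Type u) [CommRing C'] [Algebra C C'] [Algebra A' C'] [Algebra A C'] [IsScalarTower A C C'] [IsScalarTower A A' C']
        [Algebra.IsPushout A C A' C']
        [AddCommGroup N'] [Module C' N'] [Module C N'] [IsScalarTower C C' N'] [Module A' N'] [IsScalarTower A' C' N']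
        (fC : N →ₗ[C] N') (hfC : IsBaseChange C' fC) :
    FlatCA.FlatAboveClosedPoints B A' B' M' ↔ FlatCA.FlatAboveClosedPoints C A' C' N' := by
  obtain ⟨φ, hφB, hφA⟩ := Groth.Agent.FlatClosed.exists_pushout_map A B C A' B' C'
  letI : Algebra B' C' := φ.toAlgebra
  letI : Algebra B C' := ((algebraMap C C').comp (algebraMap B C)).toAlgebra
  haveI : IsScalarTower B C C' := IsScalarTower.of_algebraMap_eq' rfl
  haveI : IsScalarTower B B' C' := IsScalarTower.of_algebraMap_eq' hφB.symm
  haveI : IsScalarTower A' B' C' := IsScalarTower.of_algebraMap_eq' hφA.symm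
  haveI : Algebra.IsPushout B C B' C' := Groth.Agent.FlatClosed.isPushout_cancel A B C A' B' C'
  haveI : Algebra.IsPushout B B' C C' := Algebra.IsPushout.symm inferInstance
  haveI : Module.Finite B' C' :=
    Module.Finite.equiv (Algebra.IsPushout.equiv B B' C C').toLinearEquiv
  haveI : Algebra.IsIntegral B' C' := Algebra.IsIntegral.of_finite B' C'
  haveI : Algebra.IsIntegral B C := Algebra.IsIntegral.of_finite B C
  letI : Module B' N' := Module.compHom N' (algebraMap B' C')
  letI : Module B N' := Module.compHom N' (algebraMap B C')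
  haveI : IsScalarTower B' C' N' := IsScalarTower.of_algebraMap_smul fun _ _ => rfl
  haveI : IsScalarTower B C' N' := IsScalarTower.of_algebraMap_smul fun _ _ => rfl
  haveI : IsScalarTower B B' N' := IsScalarTower.to₁₂₄ B B' C' N'
  haveI : IsScalarTower B C N' := IsScalarTower.to₁₂₄ B C C' N'
  haveI : IsScalarTower A' B' N' := IsScalarTower.to₁₂₄ A' B' C' N'
  have hN := Groth.Agent.FlatClosed.isBaseChange_restrict B B' C C' N N' fC hfC
  let e : M' ≃ₗ[B'] N' := hfB.equiv.symm ≪≫ₗ hN.equiv
  constructor
  · intro H Q _ hQ
    refine (Groth.Agent.FlatClosed.flatAt_restrict_iff A' (D := B') (C := C') (Q.comap (algebraMap B' C'))).1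
      ((Groth.Agent.FlatClosed.flatAt_equiv A' e (Q.comap (algebraMap B' C'))).1 (H _ ?_)) Q rfl
    refine sup_le ?_ ?_
    · rw [Ideal.map_le_iff_le_comap, Ideal.comap_comap, ← IsScalarTower.algebraMap_eq,
        ← Ideal.map_le_iff_le_comap]
      exact le_sup_left.trans hQ
    · rw [Ideal.map_le_iff_le_comap, Ideal.comap_comap, ← IsScalarTower.algebraMap_eq,
        IsScalarTower.algebraMap_eq B C C', ← Ideal.comap_comap, ← Ideal.map_le_iff_le_comap]
      refine le_trans ?_ (Ideal.map_le_iff_le_comap.1 (le_sup_right.trans hQ))
      exact ((IsLocalRing.local_hom_TFAE (algebraMap B C)).out 0 2 rfl rfl).1 inferInstance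
  · intro H q _ hq
    refine (Groth.Agent.FlatClosed.flatAt_equiv A' e q).2
      ((Groth.Agent.FlatClosed.flatAt_restrict_iff A' (D := B') (C := C') q).2 fun Q _ hQ => H Q (sup_le ?_ ?_))
    · rw [IsScalarTower.algebraMap_eq A' B' C', ← Ideal.map_map, Ideal.map_le_iff_le_comap, hQ]
      exact le_sup_left.trans hq
    · rw [Ideal.map_le_iff_le_comap]
      let m := (Q.comap (algebraMap C C')).comap (algebraMap B C)
      have hm : IsLocalRing.maximalIdeal B ≤ m := by
        show IsLocalRing.maximalIdeal B ≤ (Q.comap (algebraMap C C')).comap (algebraMap B C)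
        rw [Ideal.comap_comap, ← IsScalarTower.algebraMap_eq, IsScalarTower.algebraMap_eq B B' C',
          ← Ideal.comap_comap, hQ]
        exact Ideal.map_le_iff_le_comap.1 (le_sup_right.trans hq)
      have hmax : m.IsMaximal := by
        have : m ≠ ⊤ := (Ideal.IsPrime.comap _).ne_top
        rw [← (IsLocalRing.maximalIdeal.isMaximal B).eq_of_le this hm]
        infer_instance
      exact (IsLocalRing.eq_maximalIdeal
        (Ideal.isMaximal_of_isIntegral_of_isMaximal_comap (Q.comap (algebraMap C C')) hmax)).ge

end Groth.Agent.S1278
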