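import Groth.Statements.S1285
import Groth.Agent.FlatDevDim.Basic

set_option autoImplicit false
attribute [-instance] CategoryTheory.catToReflQuiver
set_option backward.isDefEq.respectTransparency false
set_option backward.isDefEq.respectTransparency.types false
universe u
open FlatMor

namespace Groth.Agent.S1285

/-- Let (C, D, G) be a one-step dévissage of N/S/R over the prime p (see FlatCA.IsOneStepDevissage), and
suppose pD is prime (the generic point of the fibre of Spec D). Then there are r > 0 and a D-linear
map α from D^r to G which becomes bijective after base change to the residue field of pD; moreover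
for every such α the support of the fibre module over p of the cokernel of α has dimension strictly
less than that of the fibre module of N. -/
theorem result {R S : Type u} [CommRing R] [CommRing S] [Algebra R S] [Algebra.FiniteType R S]
    (N : Type u) [AddCommGroup N] [Module S N] [Module R N] [IsScalarTower R S N] [Module.Finite S N] (p : Ideal R) [p.IsPrime]
    (C D G : Type u) [CommRing C] [CommRing D] [Algebra S C] [Algebra R C] [IsScalarTower R S C]
    [Algebra R D] [Algebra D C] [IsScalarTower R D C] [AddCommGroup G] [Module C G] [Module S G] [IsScalarTower S C G]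
    [Module D G] [IsScalarTower D C G] [Module R G] [IsScalarTower R D G]
    (n : ℕ) (h : FlatCA.IsOneStepDevissage R S N p C D G n) [(p.map (algebraMap R D)).IsPrime] :
    (∃ (r : ℕ) (α : (Fin r → D) →ₗ[D] G), 0 < r ∧ Function.Bijective (α.baseChange (p.map (algebraMap R D)).ResidueField)) ∧
    ∀ (r : ℕ) (α : (Fin r → D) →ₗ[D] G), Function.Bijective (α.baseChange (p.map (algebraMap R D)).ResidueField) →
      Module.supportDim (p.Fiber D) (FlatCA.fiberMod p D (G ⧸ LinearMap.range α)) < (n : WithBot ℕ∞) := by
  obtain ⟨⟨e⟩, hsurj, -, hfin, hfinG, hsm, -, hdim⟩ := h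
  haveI := hfin
  haveI := hfinG
  haveI : Module.Finite D G := Module.Finite.trans C G
  haveI : Algebra.IsIntegral D C := Algebra.IsIntegral.of_finite D C
  let P := p.map (algebraMap R D)
  have hann : Module.annihilator S N = Module.annihilator S G := e.annihilator_eq
  have hker : RingHom.ker (algebraMap S C) ≤ Module.annihilator S N := fun s hs => by
    rw [hann, Module.mem_annihilator]
    intro g
    rw [← IsScalarTower.algebraMap_smul C s g, RingHom.mem_ker.1 hs, zero_smul]
  let Qf : Ideal S → Ideal C := fun q => q.map (algebraMap S C)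
  have hQp : ∀ q : Ideal S, q.IsPrime → Module.annihilator S N ≤ q → (Qf q).IsPrime := fun q hq ha =>
    Ideal.map_isPrime_of_surjective hsurj (hker.trans ha)
  have hQc : ∀ q : Ideal S, Module.annihilator S N ≤ q → (Qf q).comap (algebraMap S C) = q := fun q ha => by
    show (q.map (algebraMap S C)).comap (algebraMap S C) = q
    rw [Ideal.comap_map_of_surjective _ hsurj]
    exact sup_eq_left.2 ((le_of_eq rfl).trans (hker.trans ha))
  have hQann : ∀ q : Ideal S, Module.annihilator S N ≤ q → Module.annihilator C G ≤ Qf q := fun q ha c hc => by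
    obtain ⟨s, rfl⟩ := hsurj c
    refine Ideal.mem_map_of_mem _ (ha ?_)
    rw [hann, Module.mem_annihilator]
    intro g
    rw [← IsScalarTower.algebraMap_smul C s g]
    exact Module.mem_annihilator.1 hc g
  let φ : ∀ q : Ideal S, q.IsPrime → Module.annihilator S N ≤ q → Ideal D := fun q _ _ =>
    (Qf q).comap (algebraMap D C)
  have hφp : ∀ q hq ha, (φ q hq ha).IsPrime := fun q hq ha => by
    haveI := hQp q hq ha
    exact Ideal.IsPrime.comap _
  have hover : ∀ q hq ha, (φ q hq ha).comap (algebraMap R D) = q.comap (algebraMap R S) := fun q hq ha => by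
    show ((Qf q).comap (algebraMap D C)).comap (algebraMap R D) = _
    rw [Ideal.comap_comap, ← IsScalarTower.algebraMap_eq R D C, IsScalarTower.algebraMap_eq R S C,
      ← Ideal.comap_comap, hQc q ha]
  have hmono : ∀ q₁ h₁ a₁ q₂ h₂ a₂, q₁ < q₂ → φ q₁ h₁ a₁ < φ q₂ h₂ a₂ := fun q₁ h₁ a₁ q₂ h₂ a₂ hlt => by
    haveI := hQp q₁ h₁ a₁
    refine Ideal.IsIntegral.comap_lt_comap (I := Qf q₁) (J := Qf q₂)
      (lt_of_le_of_ne (Ideal.map_mono hlt.le) fun he => hlt.ne ?_)
    rw [← hQc q₁ a₁, he, hQc q₂ a₂]
  have hne₀ : Module.supportDim (p.Fiber S) (FlatCA.fiberMod p S N) ≠ ⊥ := by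
    rw [hdim]
    exact (WithBot.natCast_ne_bot n)
  obtain ⟨x, hx⟩ : (Module.support (p.Fiber S) (FlatCA.fiberMod p S N)).Nonempty := by
    by_contra hh
    apply hne₀
    rw [Set.not_nonempty_iff_eq_empty] at hh
    rw [Module.supportDim, hh]
    exact Order.krullDim_eq_bot
  let q := ((PrimeSpectrum.primesOverOrderIsoFiber R S p).symm x).1
  have hq := ((PrimeSpectrum.primesOverOrderIsoFiber R S p).symm x).2
  have ha : Module.annihilator S N ≤ q := (Groth.Agent.FlatDevDim.mem_support_of_mem_fiber p x hx).2
  let y : p.primesOver D := ⟨φ q hq.1 ha, hφp q hq.1 ha, ⟨((hover q hq.1 ha).trans hq.2.over.symm).symm⟩⟩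
  haveI : Nontrivial (p.Fiber D) :=
    PrimeSpectrum.nonempty_iff_nontrivial.1 ⟨PrimeSpectrum.primesOverOrderIsoFiber R D p y⟩
  haveI : P.LiesOver p := ⟨le_antisymm Ideal.le_comap_map (fun r hr => by
    have := Ideal.map_le_iff_le_comap.2 (le_of_eq y.2.2.over) hr
    rw [y.2.2.over]
    exact this)⟩
  have hn := Groth.Agent.FlatDevDim.ringKrullDim_fiber R D p n hsm
  have hPG : (⟨P, inferInstance⟩ : PrimeSpectrum D) ∈ Module.support D G := by
    by_contra hnot
    refine (ne_of_lt (Groth.Agent.FlatDevDim.supportDim_fiber_lt p n hn φ hφp hover hmono ?_)) hdim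
    intro q hq ha he
    apply hnot
    rw [Module.mem_support_iff_of_finite]
    intro d hd
    show d ∈ P
    rw [show P = φ q hq ha from he.symm]
    refine hQann q ha ?_
    rw [Module.mem_annihilator] at hd ⊢
    intro g
    rw [IsScalarTower.algebraMap_smul]
    exact hd g
  refine ⟨Groth.Agent.FlatDevDim.exists_bijective_baseChange P hPG, fun r α hα => ?_⟩
  have hnot := Groth.Agent.FlatDevDim.notMem_support_coker P α hα.2
  refine Groth.Agent.FlatDevDim.supportDim_fiber_lt p n hn (S := D) (N := G ⧸ LinearMap.range α)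
    (fun q _ _ => q) (fun q hq _ => hq) (fun q _ _ => rfl) (fun _ _ _ _ _ _ hlt => hlt) ?_
  intro q hq ha he
  apply hnot
  rw [Module.mem_support_iff_of_finite]
  exact ha.trans (le_of_eq he)

end Groth.Agent.S1285
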