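import Groth.Statements.S1288
import Groth.Agent.NagataLib.Birat
-- import your own Groth.Agent.* helpers here

set_option autoImplicit false
set_option linter.style.haveILetI false
set_option backward.isDefEq.respectTransparency false
set_option backward.isDefEq.respectTransparency.types false
universe u
open FlatMor

namespace Groth.Agent.S1288

open AlgebraicGeometry CategoryTheory Limits in
/-- Let S be quasi-compact and quasi-separated, g : U → S separated and of finite type, V ⊆ U a
quasi-compact open, and j : V → Y a quasi-compact open immersion over S into a scheme Y proper over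
S. Then there are a blow-up b : Y' → Y in a finite type ideal with support disjoint from j(V), an
open V' of Y' containing b⁻¹(j(V)), and a proper morphism h : V' → U which extends V → U: on
b⁻¹(j(V)) it is the identification with V followed by the inclusion of V in U. -/
theorem result {U S Y : Scheme.{u}} [CompactSpace S] [QuasiSeparatedSpace S]
    (g : U ⟶ S) [IsSeparated g] [LocallyOfFiniteType g] [QuasiCompact g]
    (V : U.Opens) (hV : IsCompact (V : Set U)) (j : (V : Scheme.{u}) ⟶ Y) [IsOpenImmersion j] [QuasiCompact j]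
    (πY : Y ⟶ S) [IsProper πY] (hj : j ≫ πY = V.ι ≫ g) :
    ∃ (𝓘 : Y.IdealSheafData) (Y' : Scheme.{u}) (b : Y' ⟶ Y), BlowUp.IsBlowUp b 𝓘 ∧ BlowUp.IsAdmissibleFor j.opensRange 𝓘 ∧
      ∃ (V' : Y'.Opens) (hle : b ⁻¹ᵁ j.opensRange ≤ V') (h : (V' : Scheme.{u}) ⟶ U),
        IsProper h ∧
        ∃ k : ((b ⁻¹ᵁ j.opensRange : Y'.Opens) : Scheme.{u}) ⟶ V,
          k ≫ j = (b ∣_ j.opensRange) ≫ j.opensRange.ι ∧ Y'.homOfLE hle ≫ h = k ≫ V.ι := by
  haveI : CompactSpace Y := QuasiCompact.compactSpace_of_compactSpace πY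
  haveI : QuasiSeparatedSpace Y := quasiSeparatedSpace_of_quasiSeparated πY
  let r : pullback g πY ⟶ Y := pullback.snd g πY
  let t : (V : Scheme.{u}) ⟶ pullback g πY := pullback.lift V.ι j hj.symm
  have ht : t ≫ r = j := pullback.lift_snd _ _ _
  haveI : QuasiCompact t := by
    haveI : QuasiCompact (t ≫ r) := by rw [ht]; infer_instance
    exact QuasiCompact.of_comp t r
  obtain ⟨h1, h2⟩ := Groth.Agent.NagataLib.closure_graph r j t ht
  haveI := h1
  haveI := h2
  let φ : t.image ⟶ Y := t.imageι ≫ r
  have hOc : IsCompact (j.opensRange : Set Y) := by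
    show IsCompact (Set.range j)
    haveI : CompactSpace (V : Scheme.{u}) := isCompact_iff_compactSpace.mp hV
    exact isCompact_range j.continuous
  haveI : IsProper (t.imageι ≫ pullback.fst g πY) := by
    haveI : IsProper (pullback.fst g πY) := MorphismProperty.pullback_fst _ _ inferInstance
    infer_instance
  obtain ⟨K, hK, hrange⟩ := Groth.Agent.NagataLib.exists_adm_openImmersion φ j.opensRange hOc
  haveI := hK
  let q := Groth.Agent.ZRLim.Bir.q φ K
  let P := Groth.Agent.ZRLim.Bir.pull φ K
  let h : (q.opensRange : Scheme.{u}) ⟶ U :=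
    q.isoOpensRange.inv ≫ P.π ≫ (t.imageι ≫ pullback.fst g πY)
  have hle : K.π ⁻¹ᵁ j.opensRange ≤ q.opensRange := fun w hw => hrange w hw
  refine ⟨K.1, K.obj, K.π, K.isBlowUp, K.isAdmissible, q.opensRange, hle, h, ?_,
    (K.π ∣_ j.opensRange) ≫ j.isoOpensRange.inv, ?_, ?_⟩
  · haveI : IsProper P.π := inferInstance
    infer_instance
  · rw [Category.assoc, Scheme.Hom.isoOpensRange_inv_comp]
  · let v := K.π ∣_ j.opensRange
    let k := v ≫ j.isoOpensRange.inv
    let m := K.obj.homOfLE hle ≫ q.isoOpensRange.inv ≫ P.π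
    have hm : m ≫ φ = v ≫ j.opensRange.ι := by
      simp only [m, P, q, Category.assoc, ← Groth.Agent.ZRLim.Bir.q_π φ K]
      rw [Scheme.Hom.isoOpensRange_inv_comp_assoc, Scheme.homOfLE_ι_assoc]
      exact (morphismRestrict_ι _ _).symm
    have hk : (k ≫ t.toImage) ≫ φ = v ≫ j.opensRange.ι := by
      simp only [k, φ, Category.assoc, Scheme.Hom.toImage_imageι_assoc, ht,
        Scheme.Hom.isoOpensRange_inv_comp]
    have e : m = k ≫ t.toImage :=
      (Groth.Agent.ZRLim.Bir.eq_comp_sec' φ m v hm).trans
        (Groth.Agent.ZRLim.Bir.eq_comp_sec' φ _ v hk).symm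
    calc K.obj.homOfLE hle ≫ h = m ≫ t.imageι ≫ pullback.fst g πY := by
          simp only [m, h, Category.assoc]
      _ = k ≫ V.ι := by
          rw [e, Category.assoc, Scheme.Hom.toImage_imageι_assoc, pullback.lift_fst]

end Groth.Agent.S1288
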