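import Groth.Statements.S12880
import Groth.Agent.ExtShX.Affine
import Groth.Agent.ExtShX.Stalk
import Groth.Agent.SheafHomX.Coherent

set_option autoImplicit false
set_option backward.isDefEq.respectTransparency false
set_option backward.isDefEq.respectTransparency.types false
universe u
open CategoryTheory CategoryTheory.Limits TopologicalSpace AlgebraicGeometry
open Coherent

namespace Groth.Agent.S12880

/-- Let X be a locally Noetherian scheme, Y a closed subset with open complement U, and F, G coherent
O_X-modules such that the support of F is contained in Y (no point of U has a non-zero stalk of F).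
Then for every i the local Ext sheaf with supports ℰxt^i_Y(F, G) is coherent. (Internal Hom of F and
injective resolutions of O_X-modules are the stated instance hypotheses, both true.) -/
theorem result (X : Scheme.{u}) [IsLocallyNoetherian X] (U : X.Opens)
    (F G : X.Modules) (hF : Coh.IsCoh F) (hG : Coh.IsCoh G)
    (hsupp : ∀ x ∈ CohB1.support F, x ∉ (U : Set X))
    [ModSite.HasSheafHom (O := X.sheaf) F] [HasInjectiveResolutions (ModSite.Mod X.sheaf)] (i : ℕ) :
    Coh.IsCoh ((ModSite.extZSh (O := X.sheaf) U F i).obj G) := by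
  haveI : HasInjectiveResolutions X.Modules := ‹HasInjectiveResolutions (ModSite.Mod X.sheaf)›
  let SH : X.Modules ⥤ X.Modules := ModSite.sheafHom (O := X.sheaf) F
  haveI : SH.Additive := ModSite.sheafHom_additive X.sheaf F
  have hfp := Groth.Agent.KZ.LFRes.isFP_of_isCoh hF
  have hnull : ∀ N : X.Modules, ModSite.IsNullOn X.sheaf U (SH.obj N) := by
    intro N
    rw [ExtSupp.isNullOn_iff]
    intro V g x
    refine TopCat.Presheaf.section_ext (⟨(SH.obj N).presheaf, (SH.obj N).isSheaf⟩ : TopCat.Sheaf Ab.{u} X) V x 0 fun y hy => ?_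
    have hF0 : Subsingleton (F.presheaf.stalk y) := by
      by_contra h
      exact hsupp y h (leOfHom g hy)
    haveI := hF0
    refine (Groth.Agent.ExtShX.evL_bijective F hfp N y).1 ?_
    exact LinearMap.ext fun v => by rw [Subsingleton.elim v 0, map_zero, map_zero]
  have hiso : ∀ N : X.Modules, IsIso ((ModSite.sectOnι X.sheaf U).app (SH.obj N)) := by
    intro N
    have hz : (ModSite.restrPushOverAdj X.sheaf U).unit.app (SH.obj N) = 0 :=
      (Functor.map_isZero (ModSite.pushOver X.sheaf U) (hnull N)).eq_of_tgt _ _
    show IsIso (kernel.ι ((ModSite.restrPushOverAdj X.sheaf U).unit.app (SH.obj N)))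
    exact ⟨kernel.lift _ (𝟙 _) (by rw [hz]; exact comp_zero), by
      rw [← cancel_mono (kernel.ι _), Category.assoc, kernel.lift_ι, Category.comp_id, Category.id_comp], kernel.lift_ι _ _ _⟩
  let T : X.Modules ⥤ X.Modules := ModSite.sectOn X.sheaf U
  haveI : T.Additive := ModSite.sectOn_additive X.sheaf U
  let e : SH ⋙ T ≅ SH := NatIso.ofComponents (fun N => @asIso _ _ _ _ _ (hiso N))
    (fun {N N'} p => (ModSite.sectOnι X.sheaf U).naturality (SH.map p))
  exact Groth.Agent.SheafHomX.isCoh_of_iso ((Groth.Agent.SiteBase.rightDerivedCongr e i).app G).symm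
    (Groth.Agent.ExtShX.isCoh_extSh hF hG i)

end Groth.Agent.S12880
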