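import Groth.Statements.S1290
import Groth.Agent.RGLib.Harvest

set_option autoImplicit false
universe u
open FlatMor

namespace Groth.Agent.S1290

/-- Ring form, X = Spec S, S = Spec R affine: let R be a ring with finitely many weakly associated
primes, S a finite type R-algebra and N a finite S-module. Then the set U of primes q of S with N_q
flat over R is open in Spec S, and every q in U has a basic open neighbourhood D(g) on which N is
flat over R and finitely presented relative to R (finitely presented over a polynomial ring over R
surjecting onto S_g). -/
theorem result {R S : Type u} [CommRing R] [CommRing S] [Algebra R S] [Algebra.FiniteType R S]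
    (hR : (FlatCA.weakAss R R).Finite)
    (N : Type u) [AddCommGroup N] [Module S N] [Module R N] [IsScalarTower R S N] [Module.Finite S N] :
    IsOpen {q : PrimeSpectrum S | FlatCA.FlatAt R q.asIdeal N} ∧
    ∀ (q : Ideal S) [q.IsPrime], FlatCA.FlatAt R q N → ∃ g : S, g ∉ q ∧
      Module.Flat R (LocalizedModule (Submonoid.powers g) N) ∧
      FlatCA.RelFinitePresentation R (Localization.Away g) (LocalizedModule (Submonoid.powers g) N) := by
  classical
  refine ⟨Groth.Agent.RGLib.isOpen_flatLocus_finiteType hR N, fun q _ hq => ?_⟩
  obtain ⟨n, f, hf⟩ := Algebra.FiniteType.iff_quotient_mvPolynomial''.mp ‹Algebra.FiniteType R S›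
  let P := MvPolynomial (Fin n) R
  letI : Algebra P S := f.toRingHom.toAlgebra
  haveI : IsScalarTower R P S := IsScalarTower.of_algebraMap_eq fun r => (f.commutes r).symm
  letI : Module P N := Module.compHom N (algebraMap P S)
  haveI : IsScalarTower P S N := IsScalarTower.of_algebraMap_smul fun _ _ => rfl
  haveI : IsScalarTower R P N := IsScalarTower.of_algebraMap_smul fun r x => by
    show algebraMap P S (algebraMap R P r) • x = r • x
    rw [← IsScalarTower.algebraMap_apply, algebraMap_smul]
  haveI : Module.Finite P S := Module.Finite.of_surjective (Algebra.linearMap P S) hf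
  haveI : Module.Finite P N := Module.Finite.trans S N
  have h0 : Module.Flat R (LocalizedModule (q.comap (algebraMap P S)).primeCompl N) :=
    (Groth.Agent.RGLib.flat_localized_comap_iff (A := R) hf q).2 hq
  obtain ⟨g, hg, h1, h2, -⟩ := Groth.Agent.RGLib.exists_nhd (A := R) N hR (q.comap (algebraMap P S)) h0
  let Sg := Localization.Away (algebraMap P S g)
  let L := LocalizedModule (Submonoid.powers (algebraMap P S g)) N
  haveI : IsLocalizedModule (Submonoid.powers g)
      ((LocalizedModule.mkLinearMap (Submonoid.powers (algebraMap P S g)) N).restrictScalars P) := by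
    haveI : IsLocalizedModule (Algebra.algebraMapSubmonoid S (Submonoid.powers g))
        (LocalizedModule.mkLinearMap (Submonoid.powers (algebraMap P S g)) N) := by
      rw [Algebra.algebraMapSubmonoid_powers]
      infer_instance
    exact IsLocalizedModule.restrictScalars _ _
  haveI : Module.Flat R (LocalizedModule (Submonoid.powers g) N) := h2
  haveI hflat : Module.Flat R L := Module.Flat.of_linearEquiv
    ((IsLocalizedModule.iso (Submonoid.powers g)
      ((LocalizedModule.mkLinearMap (Submonoid.powers (algebraMap P S g)) N).restrictScalars P)).restrictScalars R).symm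
  haveI : Algebra.FiniteType R Sg := by
    haveI : Algebra.FiniteType S Sg := IsLocalization.finiteType_of_monoid_fg (Submonoid.powers (algebraMap P S g)) Sg
    exact Algebra.FiniteType.trans ‹Algebra.FiniteType R S› this
  haveI : IsScalarTower R Sg L := IsScalarTower.of_algebraMap_smul fun r x => by
    rw [IsScalarTower.algebraMap_apply R S Sg, algebraMap_smul, algebraMap_smul]
  obtain ⟨m, φ, hφ, hfp⟩ := Groth.Agent.RGLib.finitePresentation_of_flat (A := R) (S := Sg) hR L
  exact ⟨algebraMap P S g, hg, hflat, m, φ, hφ, hfp⟩

end Groth.Agent.S1290
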