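import Groth.Statements.S12901
import Groth.Agent.LineLift.System
import Groth.Agent.Algz7.AlgAmple
import Groth.Agent.FComplLib.AffSysCompl
import Groth.Agent.FComplLib.IdealComap
import Groth.Agent.AmpleX.RelAffine

set_option autoImplicit false
set_option backward.isDefEq.respectTransparency false
set_option backward.isDefEq.respectTransparency.types false
set_option linter.style.haveILetI false
attribute [-instance] CategoryTheory.catToReflQuiver
universe u
open CategoryTheory AlgebraicGeometry
open FSch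

namespace Groth.Agent.S12901

/-- Let A be a complete Noetherian local ring with maximal ideal m, and 𝔛 a formal scheme proper and
flat over A, presented as an adic system X_0 → X_1 → ⋯ over the thickenings Spec(A/m^{n+1}) (the
structure morphism is adic with proper level 0, and every level X_n → Spec(A/m^{n+1}) is flat). If
X_0 is projective (it carries an ample invertible sheaf) and H^2(X_0, O_{X_0}) = 0, then 𝔛 is the
m-adic completion of a projective A-scheme: there are a proper A-scheme X carrying an ample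
invertible sheaf and an isomorphism of systems, over the base, between 𝔛 and the completion of X
along the pulled-back ideal. -/
theorem result (A : Type u) [CommRing A] [IsLocalRing A]
    [IsNoetherianRing A] [IsAdicComplete (IsLocalRing.maximalIdeal A) A]
    (𝔛 : FSch.Sys.{u}) (f : 𝔛 ⟶ FSch.completionAlong (Spec (CommRingCat.of A)) (FSch.idealSpec A (IsLocalRing.maximalIdeal A)))
    (hf : FSch.IsProperHom f) (hflat : ∀ n : ℕ, Flat ((f : FSch.Hom _ _).app n))
    (hproj : ∃ L₀ : (𝔛.X 0).Modules, CohB1.IsAmple L₀)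
    (hH2 : Subsingleton (Coh.HH (𝔛.X 0) (Coh.structureModule (𝔛.X 0)) 2)) :
    ∃ (X : Scheme.{u}) (g : X ⟶ (Spec (CommRingCat.of A))) (L : X.Modules), IsProper g ∧ CohB1.IsAmple L ∧
      ∃ (h : FSch.PowCompat g ((FSch.idealSpec A (IsLocalRing.maximalIdeal A)).comap g) (FSch.idealSpec A (IsLocalRing.maximalIdeal A)))
        (e : 𝔛 ≅ FSch.completionAlong X ((FSch.idealSpec A (IsLocalRing.maximalIdeal A)).comap g)),
        e.hom ≫ FSch.completionMap g ((FSch.idealSpec A (IsLocalRing.maximalIdeal A)).comap g) (FSch.idealSpec A (IsLocalRing.maximalIdeal A)) h = f := by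
  obtain ⟨had, hp₀⟩ := hf
  let m := IsLocalRing.maximalIdeal A
  let K := FSch.idealSpec A m
  let T := FSch.completionAlong (Spec (CommRingCat.of A)) K
  have hcl : ∀ n, IsClosedImmersion (CohB1.specQuot m n) := fun n => (Groth.Agent.FComplLib.spfData A m).cl n
  have hkerq : ∀ n, (CohB1.specQuot m n).ker = K ^ (n + 1) := fun n => (Groth.Agent.FComplLib.spfData A m).ker n
  let σ : ∀ n, T.X n ⟶ Spec (CommRingCat.of (A ⧸ m ^ (n + 1))) := fun n =>
    haveI := hcl n
    IsClosedImmersion.lift (CohB1.specQuot m n) (FSch.completionToX _ K n)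
      (((hkerq n).trans (Scheme.IdealSheafData.ker_subschemeι _).symm).le)
  have hσ : ∀ n, σ n ≫ CohB1.specQuot m n = FSch.completionToX _ K n := fun n =>
    haveI := hcl n
    IsClosedImmersion.lift_fac _ _ _
  haveI hσi : ∀ n, IsIso (σ n) := fun n =>
    haveI := hcl n
    IsClosedImmersion.isIso_lift _ _ ((hkerq n).trans (Scheme.IdealSheafData.ker_subschemeι _).symm)
  have hσt : ∀ n, T.ι n ≫ σ (n + 1) = σ n ≫ CohB1.specQuotTrans m n := fun n => by
    haveI := hcl (n + 1)
    rw [← cancel_mono (CohB1.specQuot m (n + 1)), Category.assoc, Category.assoc, hσ,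
      CohB1.specQuotTrans_specQuot, hσ]
    exact Scheme.IdealSheafData.inclusion_subschemeι _
  let p : ∀ n, 𝔛.X n ⟶ Spec (CommRingCat.of (A ⧸ m ^ (n + 1))) := fun n => (f : FSch.Hom _ _).app n ≫ σ n
  have cart : ∀ n, IsPullback (𝔛.ι n) (p n) (p (n + 1)) (CohB1.specQuotTrans m n) := fun n =>
    (had n).paste_vert (IsPullback.of_vert_isIso ⟨hσt n⟩)
  let S : Groth.Agent.AmpleVan.AdicSys A m := ⟨𝔛.X, p, 𝔛.ι, cart⟩
  have hflat' : ∀ n, Flat (p n) := fun n => by
    haveI := hflat n
    haveI : Flat (σ n) := inferInstance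
    exact MorphismProperty.comp_mem _ _ _ ‹Flat ((f : FSch.Hom _ _).app n)› this
  haveI := hp₀
  haveI hpp : IsProper (S.p 0) := MorphismProperty.comp_mem _ _ _ hp₀ (inferInstance : IsProper (σ 0))
  haveI : (𝔛.X 0).IsSeparated := by
    haveI : IsProper (p 0) := hpp
    haveI : IsSeparated (Limits.terminal.from (Spec (CommRingCat.of (A ⧸ m ^ (0 + 1))))) := inferInstance
    haveI : IsSeparated (p 0 ≫ Limits.terminal.from _) := inferInstance
    exact ⟨by rwa [Limits.terminal.comp_from] at this⟩
  obtain ⟨L₀, hL₀⟩ := hproj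
  obtain ⟨L, hL, ⟨a₀⟩, hLt⟩ := Groth.Agent.LineLift.exists_system A cart hflat' hH2 L₀ hL₀.1
  obtain ⟨Y, g, M, e, hg, -, hMa, hpb, he, -⟩ := Groth.Agent.Algz7.exists_algebraization_ample m S hpp L hL hLt
    (Groth.Agent.AmpleX.isAmple_of_iso a₀.symm hL₀)
  haveI : ∀ n, IsClosedImmersion (e n) := fun n => MorphismProperty.of_isPullback (hpb n).flip (hcl n)
  have hker : ∀ n, (K.comap g ^ (n + 1)).subschemeι.ker = (e n).ker := fun n => by
    haveI := hcl n
    rw [Scheme.IdealSheafData.ker_subschemeι, Groth.Agent.FComplLib.ker_of_isPullback (hpb n), hkerq n,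
      Groth.Agent.FComplLib.comap_pow]
  let τ : ∀ n, 𝔛.X n ⟶ (FSch.completionAlong Y (K.comap g)).X n := fun n =>
    IsClosedImmersion.lift (K.comap g ^ (n + 1)).subschemeι (e n) (hker n).le
  have hτ : ∀ n, τ n ≫ (K.comap g ^ (n + 1)).subschemeι = e n := fun n => IsClosedImmersion.lift_fac _ _ _
  haveI : ∀ n, IsIso (τ n) := fun n => IsClosedImmersion.isIso_lift _ _ (hker n)
  let eh : 𝔛 ⟶ FSch.completionAlong Y (K.comap g) := FSch.Hom.mk τ fun n => by
    rw [← cancel_mono (K.comap g ^ (n + 1 + 1)).subschemeι, Category.assoc, Category.assoc, hτ]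
    refine Eq.trans ?_ ((he n).trans ?_)
    · exact (congrArg (τ n ≫ ·) (Scheme.IdealSheafData.inclusion_subschemeι _)).trans (hτ n)
    · rfl
  let ei : FSch.completionAlong Y (K.comap g) ⟶ 𝔛 := FSch.Hom.mk (fun n => inv (τ n)) fun n => by
    rw [IsIso.inv_comp_eq, ← Category.assoc, IsIso.eq_comp_inv]
    exact (eh.comm n).symm
  refine ⟨Y, g, M, hg, hMa, fun n => Groth.Agent.FComplLib.powCompat g K (n + 1),
    ⟨eh, ei, FSch.Hom.ext (funext fun n => IsIso.hom_inv_id (τ n)),
      FSch.Hom.ext (funext fun n => IsIso.inv_hom_id (τ n))⟩, ?_⟩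
  refine FSch.Hom.ext (funext fun n => ?_)
  rw [← cancel_mono (FSch.completionToX _ K n)]
  refine (Category.assoc _ _ _).trans ?_
  refine (congrArg (τ n ≫ ·) (Scheme.IdealSheafData.subschemeMap_subschemeι _ _ _ (Scheme.IdealSheafData.le_map_iff_comap_le.mpr (Groth.Agent.FComplLib.powCompat g K (n + 1))))).trans ?_
  refine (Category.assoc _ _ _).symm.trans ?_
  refine (congrArg (· ≫ g) (hτ n)).trans ?_
  refine (hpb n).w.trans ?_
  exact (Category.assoc _ _ _).trans (congrArg ((f : FSch.Hom _ _).app n ≫ ·) (hσ n))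

end Groth.Agent.S12901
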