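import Groth.Statements.S12903
import Groth.Agent.InjQCoh7.Basic
import Groth.Agent.ExtShX.Injective
import Groth.Agent.OmegaLib.IdealMod

set_option autoImplicit false
set_option backward.isDefEq.respectTransparency false
set_option backward.isDefEq.respectTransparency.types false
universe u
open CategoryTheory CategoryTheory.Limits AlgebraicGeometry Opposite
open Coherent

namespace Groth.Agent.S12903

/-- Let X be a scheme, j : U → X a quasi-compact open immersion with closed complement Z, F a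
quasi-coherent O_X-module, V an affine open of X and I a finitely generated ideal of Γ(V, O_X)
cutting out Z ∩ V (a point of V lies outside U if and only if it lies in no basic open X_f with f ∈
I). Then a section s of F over V belongs to the subsheaf Γ_Z(F) of sections supported in Z (the
kernel of F → j_*(F|_U)) if and only if I^n s = 0 for some n. -/
theorem result {U X : Scheme.{u}} (j : U ⟶ X) [IsOpenImmersion j] [QuasiCompact j]
    (F : X.Modules) (hF : Coh.IsQCoh F) (V : X.Opens) (hV : IsAffineOpen V)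
    (I : Ideal (X.ringCatSheaf.obj.obj (op V))) (hI : I.FG)
    (hZ : ∀ x : X, x ∈ V → (x ∉ Set.range j.base ↔ ∀ f ∈ I, x ∉ X.basicOpen (f : Γ(X, V))))
    (s : F.val.obj (op V)) :
    s ∈ Set.range ((((CxOX.gammaZι j).app F).val.app (op V)).hom) ↔ ∃ n : ℕ, ∀ a ∈ I ^ n, a • s = 0 := by
  let W : X.Opens := j ''ᵁ (j ⁻¹ᵁ V)
  have hWV : W ≤ V := j.image_preimage_le V
  have hmem : ∀ z, z ∈ W ↔ z ∈ V ∧ z ∈ Set.range j.base := fun z => by
    show z ∈ j ''ᵁ (j ⁻¹ᵁ V) ↔ _
    rw [Scheme.Hom.image_preimage_eq_opensRange_inf]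
    exact ⟨fun h => ⟨h.2, h.1⟩, fun h => ⟨h.2, h.1⟩⟩
  have key : s ∈ Set.range ((((CxOX.gammaZι j).app F).val.app (op V)).hom) ↔
      F.presheaf.map (homOfLE hWV).op s = 0 := by
    constructor
    · rintro ⟨t, rfl⟩
      exact congr(($(Limits.kernel.condition ((Scheme.Modules.restrictAdjunction j).unit.app F))).app V t)
    · intro h
      exact ⟨OmegaSh.kerLift ((Scheme.Modules.restrictAdjunction j).unit.app F) V s h,
        OmegaSh.ι_kerLift ((Scheme.Modules.restrictAdjunction j).unit.app F) V s h⟩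
  rw [key]
  constructor
  · intro h
    let J : Ideal Γ(X, V) := LinearMap.ker (LinearMap.toSpanSingleton Γ(X, V) Γ(F, V) s)
    have hrad : I ≤ J.radical := fun f hf => by
      have hle : X.basicOpen (f : Γ(X, V)) ≤ W := fun z hz =>
        (hmem z).2 ⟨X.basicOpen_le _ hz, by_contra fun hn => (hZ z (X.basicOpen_le _ hz)).1 hn f hf hz⟩
      obtain ⟨n, hn⟩ := Groth.Agent.QCoh.exists_pow_smul_eq_zero hF hV (f : Γ(X, V)) s (by
        rw [← Groth.Agent.ExtShX.res_res' F hle hWV s, h, map_zero])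
      exact ⟨n, hn⟩
    obtain ⟨n, hn⟩ := Ideal.exists_pow_le_of_le_radical_of_fg (R := Γ(X, V)) (I := I) (J := J) hrad hI
    exact ⟨n, fun a ha => hn ha⟩
  · rintro ⟨n, hn⟩
    refine Groth.Agent.InjQCoh7.eq_zero_of_cover (fun f : I => X.basicOpen (f.1 : Γ(X, V)))
      (fun z hz => ?_) _ fun f z hz hzf => ?_
    · obtain ⟨hzV, hzU⟩ := (hmem z).1 hz
      by_contra hno
      exact (hZ z hzV).2 (fun f hf hzf => hno (TopologicalSpace.Opens.mem_iSup.2 ⟨⟨f, hf⟩, hzf⟩)) hzU
    · have h0 := Groth.Agent.InjQCoh7.map_zero_of_smul F (f.1 : Γ(X, V)) s n (hn _ (Ideal.pow_mem_pow f.2 n))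
      rw [TopCat.Presheaf.germ_res_apply, ← TopCat.Presheaf.germ_res_apply F.presheaf
        (homOfLE (X.basicOpen_le (f.1 : Γ(X, V)))) z hzf s, h0]
      exact map_zero _

end Groth.Agent.S12903
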