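import Groth.Statements.S12912
import Groth.Agent.CurveNondeg.Basic
import Groth.Agent.S0843

set_option autoImplicit false
universe u
open CategoryTheory CategoryTheory.Limits AlgebraicGeometry
open Curves

namespace Groth.Agent.S12912

/-- Let k be an algebraically closed field and X a curve over k (integral, proper over k, of dimension
one) with a closed immersion i : X → P^r_k over k whose image lies in no hyperplane: every nonzero
global section of O(1) on P^r_k pulls back to a nonzero global section of i^* O(1). Then deg i^*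
O(1) ≥ r. -/
theorem result (k : Type u) [Field k] [IsAlgClosed k] (r : ℕ)
    (X : Scheme.{u}) [X.Over (Spec (CommRingCat.of k))] [IsIntegral X] [IsProper (X ↘ (Spec (CommRingCat.of k)))]
    (hdim : topologicalKrullDim X = 1)
    (i : X ⟶ CohB1.ProjSpace r k) [IsClosedImmersion i]
    (hi : i ≫ CohB1.ProjSpace.toSpec r k = (X ↘ (Spec (CommRingCat.of k))))
    (hplane : ∀ s : LinSer.Sect (CohB1.ProjSpace r k) (Twist.twistProjSpace r k 1), s ≠ 0 →
      OmegaSh.pullSect i (Twist.twistProjSpace r k 1) ⊤ s ≠ 0) :
    (r : ℤ) ≤ Curv2.deg k X ((Scheme.Modules.pullback i).obj (Twist.twistProjSpace r k 1)) 1 := by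
  letI : (CohB1.ProjSpace r k).Over (Spec (CommRingCat.of k)) := ⟨CohB1.ProjSpace.toSpec r k⟩
  have hN : PicF.IsInvertible (Twist.twistProjSpace r k 1) :=
    PnCoh.Finite.isInvertible_twist (fun j : ULift.{u} (Fin (r + 1)) => MvPolynomial.X j.down)
      (fun j => ProjPt.X_mem j.down) (by
        refine top_le_iff.1 ((AmpleEmbed.iSup_basicOpen_X r k).ge.trans (iSup_le fun j => ?_))
        exact le_iSup_of_le (ULift.up j) le_rfl) (1 : ℤ)
  have hM := PicClLib.isInvertible_pullback i hN
  obtain ⟨φ⟩ := S0843.result k r 1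
  have h0 : Module.finrank k (Coh.HH (CohB1.ProjSpace r k) (Twist.twistProjSpace r k 1) 0) = r + 1 :=
    φ.finrank_eq.trans (CurveNondeg.finrank_forms k r)
  have hle := CurveNondeg.finrank_le_of_pullElt k i hi hN hplane
  rw [h0] at hle
  haveI := CurveCohLib.isNoetherian_of_proper (k := k) (X := X)
  haveI := CurveCohLib.finite_HH (k := k) (CurveDeg.isCoh_of_isInvertible hM) 0
  obtain ⟨t, ht⟩ := Module.finrank_pos_iff_exists_ne_zero.1
    (show 0 < Module.finrank k (Coh.HH X ((Scheme.Modules.pullback i).obj (Twist.twistProjSpace r k 1)) 0) by omega)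
  let e := Sheaf.H.equiv₀ (Coh.toAb ((Scheme.Modules.pullback i).obj (Twist.twistProjSpace r k 1))) isTerminalTop
  have hs : (show Γ((Scheme.Modules.pullback i).obj (Twist.twistProjSpace r k 1), ⊤) from e t) ≠ 0 :=
    fun h => ht (e.injective (h.trans (map_zero e).symm))
  have hb := CurveNondeg.h0_le_deg_add k hdim hM hs
  rw [CurveNondeg.h0_structure k (X := X)] at hb
  omega

end Groth.Agent.S12912
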