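import Groth.Statements.S1293
import Groth.Agent.RGLib.LocalGlobal

set_option autoImplicit false
universe u
open FlatMor TensorProduct

namespace Groth.Agent.S1293

open TensorProduct in
/-- Let B be a finitely presented A-algebra, T ⊆ B a multiplicative subset and N a finitely presented
T⁻¹B-module which admits a pure spreadout (FlatCA.HasPureSpreadout). Then (1) every x ∈ N has a
content ideal, i.e. a smallest ideal I of A with x ∈ IN; and (2) every A-linear map u from N to a
flat A-module M such that u ⊗ A/𝔪 is injective for every maximal ideal 𝔪 of A is universally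
injective over A. -/
theorem result {A B : Type u} [CommRing A] [CommRing B] [Algebra A B] [Algebra.FinitePresentation A B]
    (T : Submonoid B) (N : Type u) [AddCommGroup N] [Module (Localization T) N] [Module A N] [IsScalarTower A (Localization T) N]
    [Module.FinitePresentation (Localization T) N] (h : FlatCA.HasPureSpreadout A B T N) :
    (∀ x : N, ∃ I : Ideal A, x ∈ I • (⊤ : Submodule A N) ∧ ∀ J : Ideal A, x ∈ J • (⊤ : Submodule A N) → I ≤ J) ∧
    ∀ (M : Type u) [AddCommGroup M] [Module A M] [Module.Flat A M] (u : N →ₗ[A] M),
      (∀ (m : Ideal A) [m.IsMaximal], Function.Injective (u.lTensor (A ⧸ m))) → FlatCA.UnivInj A u := by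
  classical
  obtain ⟨C, _, _, _, _, _, _, _, _, _, _, N', _, _, _, _, g, -, -, hbc, hproj, hUI⟩ := h
  haveI := hproj
  haveI : SMulCommClass A (Localization T) N :=
    ⟨fun a l x => by rw [← algebraMap_smul (Localization T) a (l • x), ← algebraMap_smul (Localization T) a x, smul_comm]⟩
  have hnum : ∀ x : N, ∃ t : T, ∃ x' : N', algebraMap B (Localization T) t • x = g x' := by
    intro x
    induction x using hbc.inductionOn with
    | zero => exact ⟨1, 0, by rw [smul_zero, map_zero]⟩
    | tmul n => exact ⟨1, n, by rw [Submonoid.coe_one, map_one, one_smul]⟩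
    | smul l x hx =>
      obtain ⟨t, x', hx'⟩ := hx
      obtain ⟨⟨b, s⟩, hs⟩ := IsLocalization.surj T l
      refine ⟨s * t, algebraMap B C b • x', ?_⟩
      rw [Submonoid.coe_mul, map_mul, map_smul, ← algebraMap_smul (Localization T) (algebraMap B C b),
        ← IsScalarTower.algebraMap_apply, ← hs, ← hx', smul_smul, smul_smul]
      congr 1
      ring
    | add x y hx hy =>
      obtain ⟨t, x', hx'⟩ := hx
      obtain ⟨s, y', hy'⟩ := hy
      refine ⟨t * s, algebraMap B C s • x' + algebraMap B C t • y', ?_⟩
      rw [map_add, map_smul, map_smul, ← algebraMap_smul (Localization T) (algebraMap B C s),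
        ← algebraMap_smul (Localization T) (algebraMap B C t), ← IsScalarTower.algebraMap_apply,
        ← IsScalarTower.algebraMap_apply, ← hx', ← hy', Submonoid.coe_mul, map_mul, smul_add, smul_smul, smul_smul]
      congr 2
      ring
  refine ⟨fun x => ?_, fun M _ _ _ u hu => ?_⟩
  · obtain ⟨t, x', hx'⟩ := hnum x
    obtain ⟨σ, hσ⟩ := Module.projective_def'.1 hproj
    let I : Ideal A := Ideal.span (Set.range fun n => σ x' n)
    have hstab : ∀ (J : Ideal A) (l : Localization T) (y : N), y ∈ J • (⊤ : Submodule A N) → l • y ∈ J • (⊤ : Submodule A N) := by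
      intro J l y hy
      refine Submodule.smul_induction_on hy (fun r hr v _ => ?_) fun a b ha hb => by rw [smul_add]; exact add_mem ha hb
      rw [smul_comm]
      exact Submodule.smul_mem_smul hr trivial
    have hu' : IsUnit (algebraMap B (Localization T) t) := IsLocalization.map_units _ t
    refine ⟨I, ?_, fun J hJ => ?_⟩
    · have h1 : g x' ∈ I • (⊤ : Submodule A N) := by
        have h2 : x' ∈ I • (⊤ : Submodule A N') := by
          have h3 : Finsupp.linearCombination A id (σ x') = x' := LinearMap.congr_fun hσ x'
          rw [← h3, Finsupp.linearCombination_apply]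
          exact Submodule.sum_mem _ fun n _ => Submodule.smul_mem_smul (Ideal.subset_span ⟨n, rfl⟩) trivial
        exact (Submodule.map_le_iff_le_comap.1 (by
          rw [Submodule.map_smul'']; exact Submodule.smul_mono le_rfl le_top) :
          I • (⊤ : Submodule A N') ≤ (I • (⊤ : Submodule A N)).comap (g.restrictScalars A)) h2
      have h4 := hstab I (↑hu'.unit⁻¹) _ h1
      rwa [← hx', smul_smul, IsUnit.val_inv_mul, one_smul] at h4
    · have h1 : g x' ∈ J • (⊤ : Submodule A N) := hx' ▸ hstab J _ x hJ
      have h2 : x' ∈ J • (⊤ : Submodule A N') := by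
        have hq : (g.restrictScalars A).lTensor (A ⧸ J) ((Ideal.Quotient.mk J 1) ⊗ₜ[A] x') =
            (g.restrictScalars A).lTensor (A ⧸ J) 0 := by
          apply (TensorProduct.quotTensorEquivQuotSMul N J).injective
          rw [LinearMap.lTensor_tmul, map_zero, map_zero, TensorProduct.quotTensorEquivQuotSMul_mk_tmul, one_smul,
            Submodule.Quotient.mk_eq_zero]
          exact h1
        have h3 := congrArg (TensorProduct.quotTensorEquivQuotSMul N' J) (hUI (A ⧸ J) hq)
        rwa [map_zero, TensorProduct.quotTensorEquivQuotSMul_mk_tmul, one_smul, Submodule.Quotient.mk_eq_zero] at h3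
      refine Ideal.span_le.2 ?_
      rintro _ ⟨n, rfl⟩
      have h5 : σ x' ∈ J • (⊤ : Submodule A (N' →₀ A)) :=
        (Submodule.map_le_iff_le_comap.1 (by
          rw [Submodule.map_smul'']; exact Submodule.smul_mono le_rfl le_top) :
          J • (⊤ : Submodule A N') ≤ (J • (⊤ : Submodule A (N' →₀ A))).comap σ) h2
      show σ x' n ∈ J
      refine Submodule.smul_induction_on h5 (fun r hr d _ => ?_) fun a b ha hb => ?_
      · rw [Finsupp.smul_apply, smul_eq_mul]
        exact J.mul_mem_right _ hr
      · rw [Finsupp.add_apply]
        exact add_mem ha hb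
  · intro Q _ _
    rw [injective_iff_map_eq_zero]
    intro z hz
    let mul : Localization T → (N →ₗ[A] N) := fun l => (LinearMap.lsmul (Localization T) N l).restrictScalars A
    have hz' : ∃ t : T, ∃ z' : Q ⊗[A] N', (mul (algebraMap B (Localization T) t)).lTensor Q z = (g.restrictScalars A).lTensor Q z' := by
      clear hz
      induction z using TensorProduct.induction_on with
      | zero => exact ⟨1, 0, by rw [map_zero, map_zero]⟩
      | tmul a x =>
        obtain ⟨t, x', hx'⟩ := hnum x
        exact ⟨t, a ⊗ₜ x', congrArg (a ⊗ₜ[A] ·) hx'⟩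
      | add a b ha hb =>
        obtain ⟨t, a', ha'⟩ := ha
        obtain ⟨s, b', hb'⟩ := hb
        let mC : C → (N' →ₗ[A] N') := fun c => (LinearMap.lsmul C N' c).restrictScalars A
        have hmg : ∀ (c : B) (w : Q ⊗[A] N'), (g.restrictScalars A).lTensor Q ((mC (algebraMap B C c)).lTensor Q w) =
            (mul (algebraMap B (Localization T) c)).lTensor Q ((g.restrictScalars A).lTensor Q w) := fun c w => by
          rw [← LinearMap.comp_apply, ← LinearMap.lTensor_comp, ← LinearMap.comp_apply, ← LinearMap.lTensor_comp]
          congr 2
          ext y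
          show g (algebraMap B C c • y) = algebraMap B (Localization T) c • g y
          rw [map_smul, ← algebraMap_smul (Localization T) (algebraMap B C c), ← IsScalarTower.algebraMap_apply]
        have hmm : ∀ (c d : B) (w : Q ⊗[A] N), (mul (algebraMap B (Localization T) (c * d))).lTensor Q w =
            (mul (algebraMap B (Localization T) c)).lTensor Q ((mul (algebraMap B (Localization T) d)).lTensor Q w) := fun c d w => by
          rw [← LinearMap.comp_apply, ← LinearMap.lTensor_comp]
          congr 2
          ext y
          show algebraMap B (Localization T) (c * d) • y = _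
          rw [map_mul, mul_smul]
          rfl
        refine ⟨t * s, (mC (algebraMap B C s)).lTensor Q a' + (mC (algebraMap B C t)).lTensor Q b', ?_⟩
        rw [map_add (LinearMap.lTensor Q (g.restrictScalars A)), hmg, hmg, ← ha', ← hb', map_add, Submonoid.coe_mul,
          ← hmm (s : B) (t : B), ← hmm (t : B) (s : B), mul_comm (s : B)]
    obtain ⟨t, z', hz'⟩ := hz'
    obtain ⟨w, hw⟩ := IsLocalization.map_units (Localization T) t
    let v := mul ↑w⁻¹
    have hzv : z = v.lTensor Q ((g.restrictScalars A).lTensor Q z') := by
      rw [← hz', ← LinearMap.comp_apply, ← LinearMap.lTensor_comp,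
        show v.comp (mul (algebraMap B (Localization T) t)) = LinearMap.id from ?_, LinearMap.lTensor_id, LinearMap.id_apply]
      ext y
      show (↑w⁻¹ : Localization T) • algebraMap B (Localization T) t • y = y
      rw [← hw, smul_smul, Units.inv_mul, one_smul]
    have hinj := Groth.Agent.RGLib.lTensor_injective_of_projective ((u.comp v).comp (g.restrictScalars A)) (fun m _ => by
      rw [LinearMap.lTensor_comp, LinearMap.lTensor_comp]
      refine ((hu m).comp ?_).comp (hUI (A ⧸ m))
      refine Function.LeftInverse.injective (g := (mul (↑w : Localization T)).lTensor (A ⧸ m)) fun y => ?_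
      rw [← LinearMap.comp_apply, ← LinearMap.lTensor_comp,
        show (mul (↑w : Localization T)).comp v = LinearMap.id from ?_, LinearMap.lTensor_id, LinearMap.id_apply]
      ext y
      show (↑w : Localization T) • (↑w⁻¹ : Localization T) • y = y
      rw [smul_smul, Units.mul_inv, one_smul]) Q
    have h0 : z' = 0 := hinj (a₂ := 0) (by
      rw [map_zero, LinearMap.lTensor_comp, LinearMap.lTensor_comp, LinearMap.comp_apply, LinearMap.comp_apply, ← hzv]
      exact hz)
    rw [hzv, h0, map_zero, map_zero]

end Groth.Agent.S1293
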