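import Groth.Statements.S1294
import Groth.Agent.RGLib.PureLocal

set_option autoImplicit false
universe u
open FlatMor TensorProduct

namespace Groth.Agent.S1294

open IsLocalRing in
/-- Let B be a finitely presented A-algebra, T ⊆ B a multiplicative subset and N a finitely presented
T⁻¹B-module. Then for every prime p of A there is a finitely generated ideal I of A_p contained in
its maximal ideal such that, writing A₁ = A_p/I, B₁ = B ⊗_A A₁, T₁ for the image of T in B₁ and N₁
for the base change of N (a T₁⁻¹B₁-module; any models), the base-changed data admits a pure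
spreadout over A₁. -/
theorem result {A B : Type u} [CommRing A] [CommRing B] [Algebra A B] [Algebra.FinitePresentation A B]
    (T : Submonoid B) (N : Type u) [AddCommGroup N] [Module (Localization T) N] [Module B N] [Module A N]
    [IsScalarTower B (Localization T) N] [IsScalarTower A (Localization T) N] [IsScalarTower A B N]
    [Module.FinitePresentation (Localization T) N] (p : Ideal A) [p.IsPrime] :
    ∃ I : Ideal (Localization.AtPrime p), I.FG ∧ I ≤ maximalIdeal (Localization.AtPrime p) ∧
      ∀ (B₁ N₁ : Type u) [CommRing B₁] [Algebra B B₁] [Algebra (Localization.AtPrime p ⧸ I) B₁] [Algebra A B₁]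
        [IsScalarTower A B B₁] [IsScalarTower A (Localization.AtPrime p ⧸ I) B₁]
        [Algebra.IsPushout A B (Localization.AtPrime p ⧸ I) B₁]
        [AddCommGroup N₁] [Module (Localization (T.map (algebraMap B B₁))) N₁] [Module (Localization.AtPrime p ⧸ I) N₁]
        [IsScalarTower (Localization.AtPrime p ⧸ I) (Localization (T.map (algebraMap B B₁))) N₁]
        [Module B N₁] [IsScalarTower B (Localization (T.map (algebraMap B B₁))) N₁]
        [Module A N₁] [IsScalarTower A (Localization.AtPrime p ⧸ I) N₁] [IsScalarTower A B N₁]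
        (h : N →ₗ[B] N₁), IsBaseChange (Localization.AtPrime p ⧸ I) (h.restrictScalars A) →
        FlatCA.HasPureSpreadout (Localization.AtPrime p ⧸ I) B₁ (T.map (algebraMap B B₁)) N₁ := by
  classical
  obtain ⟨N0, _, _, _, g0, _⟩ := Groth.Agent.RGLib.exists_fp_model T N
  let : Module A N0 := Module.compHom N0 (algebraMap A B)
  haveI : IsScalarTower A B N0 := IsScalarTower.of_algebraMap_smul fun _ _ => rfl
  let W := {q' // q' ∈ Groth.Agent.RGLib.fibreAss p B N0 ∧ ∃ t ∈ T, t ∈ q'}
  haveI : Fintype W := ((Groth.Agent.RGLib.fibreAss_finite N0 p).subset fun _ h => h.1).fintype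
  choose c hcT hcq using fun i : W => i.2.2
  let g1 := ∏ i, c i
  have hg1 : g1 ∈ T := prod_mem fun i _ => hcT i
  let G := LocalizedModule (Submonoid.powers g1) N0
  let Sg := Localization.Away g1
  haveI : Algebra.FinitePresentation A Sg :=
    haveI : Algebra.FinitePresentation B Sg := IsLocalization.Away.finitePresentation g1
    Algebra.FinitePresentation.trans A B Sg
  haveI : IsScalarTower A Sg G := IsScalarTower.of_algebraMap_smul fun r x => by
    rw [IsScalarTower.algebraMap_apply A B Sg, algebraMap_smul, algebraMap_smul]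
  obtain ⟨P, f, hPfg, hPp, hf, hfree⟩ := Groth.Agent.FlatSyz5.exists_free_piece (R := A) (S := Sg) G p ‹_›
  let I := P.map (algebraMap A (Localization.AtPrime p))
  have hI : I ≤ IsLocalRing.maximalIdeal (Localization.AtPrime p) :=
    (Ideal.map_mono hPp).trans (Localization.AtPrime.map_eq_maximalIdeal (I := p)).le
  refine ⟨I, hPfg.map _, hI, ?_⟩
  intro B₁ N₁ _ _ _ _ _ _ _ _ _ _ _ _ _ _ _ _ h hbc
  haveI : Nontrivial (Localization.AtPrime p ⧸ I) :=
    Ideal.Quotient.nontrivial_iff.2 fun e => (IsLocalRing.maximalIdeal.isMaximal _).ne_top (top_le_iff.1 (e.ge.trans hI))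
  haveI : IsLocalRing (Groth.Agent.RGLib.LocQuot p P) :=
    IsLocalRing.of_surjective' (Ideal.Quotient.mk I) Ideal.Quotient.mk_surjective
  haveI : Module.Free (Groth.Agent.RGLib.LocQuot p P) (TensorProduct A (Groth.Agent.RGLib.LocQuot p P) G) :=
    hfree (Groth.Agent.RGLib.LocQuot p P) (fun x hx => Ideal.Quotient.eq_zero_iff_mem.2 (Ideal.mem_map_of_mem _ hx))
      (Groth.Agent.RGLib.isUnit_algebraMap_locQuot p P hf)
  refine Groth.Agent.RGLib.hasPureSpreadout_of_free (A1 := Groth.Agent.RGLib.LocQuot p P) T g0 g1 hg1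
    (fun t ht X _ _ => ?_) N₁ h hbc
  refine Groth.Agent.RGLib.rTensor_lsmul_injective p P hPp G _ (fun γ s₀ hs₀ hst => ?_) X
  refine Groth.Agent.RGLib.reflect_localized_of_notMem p g1 t (fun q' hq' hgq htq => hgq ?_) γ s₀ hs₀ hst
  haveI hq'p : q'.IsPrime := by
    obtain ⟨P₁, hP₁, rfl⟩ := hq'
    haveI : P₁.IsPrime := IsAssociatedPrime.isPrime hP₁
    exact Ideal.IsPrime.comap _
  exact Ideal.prod_mem _ (Finset.mem_univ (⟨q', hq', t, ht, htq⟩ : W)) (hcq ⟨q', hq', t, ht, htq⟩)

end Groth.Agent.S1294
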