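import Groth.Statements.S1295
import Groth.Agent.FlatStage.Finish

set_option autoImplicit false
attribute [-instance] CategoryTheory.catToReflQuiver
set_option backward.isDefEq.respectTransparency false
set_option backward.isDefEq.respectTransparency.types false
universe u
open FlatMor

namespace Groth.Agent.S1295

/-- Ring form, X = Spec B and the S_i = Spec A_i affine: let A be the colimit of a directed system of
rings (A_i), p a prime of A with contractions p_i, B a finitely presented A-algebra and N a finitely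
presented B-module which is pure along the fibre over p and flat over A at every prime of B over p.
Then for some index i there are a finitely presented A_i-algebra B_i with B ≅ B_i ⊗_{A_i} A and a
finitely presented B_i-module N_i with N ≅ N_i ⊗_{B_i} B, such that N_i is pure along the fibre over
p_i and flat over A_i at every prime of B_i over p_i. -/
theorem result {ι : Type u} [Preorder ι] (G : ι → Type u) [∀ i, CommRing (G i)]
    (g : ∀ i j, i ≤ j → G i →+* G j) {A : Type u} [CommRing A] [∀ i, Algebra (G i) A] (hcolim : FlatCA.IsDirectedColimitRing G g A)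
    {B : Type u} [CommRing B] [Algebra A B] [Algebra.FinitePresentation A B]
    (N : Type u) [AddCommGroup N] [Module B N] [Module A N] [IsScalarTower A B N] [Module.FinitePresentation B N]
    (p : Ideal A) [p.IsPrime] (hpure : FlatCA.IsPureAlong A B N p)
    (hflat : ∀ (q : Ideal B) [q.IsPrime], q.LiesOver p → FlatCA.FlatAt A q N) :
    ∃ (i : ι) (Bi Ni : Type u) (_ : CommRing Bi) (_ : Algebra (G i) Bi) (_ : Algebra Bi B) (_ : Algebra (G i) B)
      (_ : IsScalarTower (G i) A B) (_ : IsScalarTower (G i) Bi B)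
      (_ : AddCommGroup Ni) (_ : Module Bi Ni) (_ : Module (G i) Ni) (_ : IsScalarTower (G i) Bi Ni)
      (_ : Module Bi N) (_ : IsScalarTower Bi B N) (f : Ni →ₗ[Bi] N),
      Algebra.FinitePresentation (G i) Bi ∧ Algebra.IsPushout (G i) Bi A B ∧ Module.FinitePresentation Bi Ni ∧ IsBaseChange B f ∧
      FlatCA.IsPureAlong (G i) Bi Ni (p.comap (algebraMap (G i) A)) ∧
      ∀ (q : Ideal Bi) [q.IsPrime], q.LiesOver (p.comap (algebraMap (G i) A)) → FlatCA.FlatAt (G i) q Ni := by
  obtain ⟨C, _, _, hC, B₂, _, _, _, _, _, _, hpo, hfp, N₂, _, _, _, _, hfpN, _, _, l, hl, hflat₂, hpure₂⟩ :=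
    FlatStage.exists_good_model N p hpure hflat
  haveI := hC; haveI := hpo; haveI := hfp; haveI := hfpN
  obtain ⟨Z, _, hZN, hZ₀, hz⟩ : ∃ (Z : Type u) (_ : CommRing Z), IsNoetherianRing Z ∧ Nonempty (Z ≃+* ℤ) ∧
      ∀ {R : Type u} [CommRing R] (f₁ f₂ : Z →+* R), f₁ = f₂ :=
    ⟨ULift.{u} ℤ, inferInstance, isNoetherianRing_of_ringEquiv ℤ (ULift.ringEquiv (R := ℤ)).symm,
      ⟨ULift.ringEquiv (R := ℤ)⟩, fun f₁ f₂ => RingHom.ext fun x => RingHom.congr_fun
        (RingHom.ext_int (f₁.comp (ULift.ringEquiv (R := ℤ)).symm.toRingHom)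
          (f₂.comp (ULift.ringEquiv (R := ℤ)).symm.toRingHom)) x.down⟩
  haveI := hZN
  obtain ⟨eZ⟩ := hZ₀
  letI : Algebra Z A := ((Int.castRingHom A).comp eZ.toRingHom).toAlgebra
  letI : Algebra Z C := ((Int.castRingHom C).comp eZ.toRingHom).toAlgebra
  letI : ∀ i, Algebra Z (G i) := fun i => ((Int.castRingHom (G i)).comp eZ.toRingHom).toAlgebra
  haveI : ∀ i, IsScalarTower Z (G i) A := fun i =>
    IsScalarTower.of_algebraMap_eq' (R := Z) (S := G i) (A := A) (hz _ _)
  haveI : Algebra.FiniteType Z C :=
    Algebra.FiniteType.of_restrictScalars_finiteType ℤ Z C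
  let φ : C →ₐ[Z] A := { algebraMap C A with commutes' := fun z => RingHom.congr_fun (hz ((algebraMap C A).comp (algebraMap Z C)) (algebraMap Z A)) z }
  let D : Subalgebra Z A := φ.range
  haveI : Algebra.FiniteType Z D := Algebra.FiniteType.of_surjective φ.rangeRestrict φ.rangeRestrict_surjective
  let g' : ∀ i j, i ≤ j → G i →ₐ[Z] G j := fun i j h =>
    { g i j h with commutes' := fun z => RingHom.congr_fun (hz ((g i j h).comp (algebraMap Z (G i))) (algebraMap Z (G j))) z }
  have hcolim' : FlatCA.IsDirectedColimitRing G (fun i j h => (g' i j h).toRingHom) A := hcolim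
  obtain ⟨j, hDj, -, hjA⟩ := FlatSyz5.exists_lift_stage D ((Subalgebra.fg_iff_finiteType D).2 inferInstance) G g' hcolim'
  letI : Algebra C (G j) := ((algebraMap D (G j)).comp φ.rangeRestrict.toRingHom).toAlgebra
  haveI := hjA
  haveI : IsScalarTower C (G j) A := IsScalarTower.of_algebraMap_eq fun c => by
    show algebraMap C A c = algebraMap (G j) A (algebraMap D (G j) (φ.rangeRestrict c))
    rw [← IsScalarTower.algebraMap_apply D (G j) A]
    rfl
  exact ⟨j, FlatStage.finish (Gj := G j) l hl p hflat₂ hpure₂⟩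

end Groth.Agent.S1295
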