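import Groth.Statements.S1296
import Groth.Agent.FlatPure.Contract

set_option autoImplicit false
attribute [-instance] CategoryTheory.catToReflQuiver
set_option backward.isDefEq.respectTransparency false
set_option backward.isDefEq.respectTransparency.types false
universe u
open FlatMor

namespace Groth.Agent.S1296

/-- Ring form, X = Spec B affine, T = Spec A' with A' the colimit of a directed system of A-algebras
A'_i: let B be a finite type A-algebra, N a finite B-module, p a prime of A, and suppose given an
impurity of N above p with base change ring A' and points t' ⊆ t. Then for some index i there is an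
impurity of N above p whose base change ring is A'_i (up to an A-isomorphism) and whose point t
corresponds to the contraction of t to A'_i. -/
theorem result {A B : Type u} [CommRing A] [CommRing B] [Algebra A B] [Algebra.FiniteType A B]
    (N : Type u) [AddCommGroup N] [Module B N] [Module.Finite B N] (p : Ideal A) [p.IsPrime]
    {ι : Type u} [Preorder ι] (G : ι → Type u) [∀ i, CommRing (G i)] [∀ i, Algebra A (G i)]
    (g : ∀ i j, i ≤ j → G i →ₐ[A] G j)
    (A' : Type u) [CommRing A'] [Algebra A A'] [∀ i, Algebra (G i) A'] [∀ i, IsScalarTower A (G i) A']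
    (hcolim : FlatCA.IsDirectedColimitRing G (fun i j h => (g i j h).toRingHom) A')
    (B' N' : Type u) [CommRing B'] [Algebra B B'] [Algebra A' B'] [Algebra A B'] [IsScalarTower A B B'] [IsScalarTower A A' B']
    [AddCommGroup N'] [Module B' N'] [Module B N'] [IsScalarTower B B' N'] [Module A' N'] [IsScalarTower A' B' N']
    (f : N →ₗ[B] N') (t' t : Ideal A') [t'.IsPrime] [t.IsPrime] (P : Ideal B') [P.IsPrime]
    (himp : FlatCA.IsImpurity A B N p A' B' N' f t' t P) :
    ∃ i : ι, FlatCA.HasImpurity A B N p (fun A'' _ _ t'' => ∃ e : A'' ≃ₐ[A] G i, t''.map e = t.comap (algebraMap (G i) A')) := by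
  classical
  obtain ⟨hdir, hne, -, -, hcompat, hsurj, -⟩ := hcolim
  haveI := hdir; haveI := hne
  have hfin : ∀ L : List A', ∃ i, ∀ x ∈ L, x ∈ Set.range (algebraMap (G i) A') := by
    intro L
    induction L with
    | nil => exact ⟨Classical.arbitrary ι, by simp⟩
    | cons x L ih =>
      obtain ⟨i, hi⟩ := ih
      obtain ⟨j, y, hy⟩ := hsurj x
      obtain ⟨k, hik, hjk⟩ := directed_of (· ≤ ·) i j
      refine ⟨k, fun z hz => ?_⟩
      rcases List.mem_cons.1 hz with rfl | hz
      · exact ⟨g j k hjk y, (RingHom.congr_fun (hcompat j k hjk) y).trans hy⟩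
      · obtain ⟨w, hw⟩ := hi z hz
        exact ⟨g i k hik w, (RingHom.congr_fun (hcompat i k hik) w).trans hw⟩
  obtain ⟨a, ha, l, hl, hP⟩ := Groth.Agent.FlatPure.exists_witness himp
  obtain ⟨i, hi⟩ := hfin (a :: l.map Prod.fst)
  obtain ⟨-, -, -, htp, -⟩ := id himp
  haveI := htp
  obtain ⟨a'', ha''⟩ := hi a List.mem_cons_self
  let w : Ideal (G i) := t.comap (algebraMap (G i) A')
  haveI : w.IsPrime := Ideal.IsPrime.comap _
  haveI : t.LiesOver w := ⟨rfl⟩
  haveI : w.LiesOver p := Ideal.LiesOver.tower_bot t w p
  obtain ⟨B'', N'', _, _, _, _, _, _, _, _, _, _, _, _, f'', P'', _, himp''⟩ :=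
    Groth.Agent.FlatPure.impurity_contract himp a l hl hP (G i) a'' ha''
      (fun x hx => hi x.1 (List.mem_cons_of_mem _ (List.mem_map_of_mem hx))) w le_rfl
      (fun hm => ha (ha'' ▸ Ideal.mem_comap.1 hm))
  refine ⟨i, G i, B'', N'', inferInstance, inferInstance, inferInstance, inferInstance, inferInstance, inferInstance,
    inferInstance, inferInstance, inferInstance, inferInstance, inferInstance, inferInstance, inferInstance,
    inferInstance, f'', t'.comap (algebraMap (G i) A'), w, Ideal.IsPrime.comap _, inferInstance, P'', inferInstance,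
    himp'', AlgEquiv.refl, ?_⟩
  exact Ideal.map_id w

end Groth.Agent.S1296
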