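import Groth.Statements.S13043
import Groth.Agent.H1AffCompl.Basic
import Mathlib

set_option autoImplicit false
universe u
open CoPerf

namespace Groth.Agent.S13043

open TopologicalSpace Topology

/-- A dense open of a Noetherian affine scheme contains the minimal primes. -/
theorem mem_of_dense {A : Type u} [CommRing A] [IsNoetherianRing A] (U : Set (PrimeSpectrum A)) (hU : IsOpen U)
    (hd : Dense U) (q : PrimeSpectrum A) (hq : q.asIdeal ∈ minimalPrimes A) : q ∈ U := by
  classical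
  have hfin : (minimalPrimes A).Finite := minimalPrimes.finite_of_isNoetherianRing A
  have hex : ∀ p ∈ hfin.toFinset, ∃ f : A, f ∉ q.asIdeal ∧ (p ≠ q.asIdeal → f ∈ p) := fun p hp => by
    by_cases h : p = q.asIdeal
    · exact ⟨1, q.2.one_notMem, fun h' => absurd h h'⟩
    · obtain ⟨f, hf, hf'⟩ := SetLike.not_le_iff_exists.1
        (fun hle => h (le_antisymm hle (hq.2 (hfin.mem_toFinset.1 hp).1 hle)))
      exact ⟨f, hf', fun _ => hf⟩
  choose! f hf hfp using hex
  have hg : (∏ p ∈ hfin.toFinset, f p) ∉ q.asIdeal := fun h => by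
    obtain ⟨p, hp, hp'⟩ := (Ideal.IsPrime.prod_mem_iff (p := q.asIdeal)).1 h
    exact hf p hp hp'
  obtain ⟨u, hug, huU⟩ := hd.inter_open_nonempty _ (PrimeSpectrum.basicOpen (∏ p ∈ hfin.toFinset, f p)).2
    ⟨q, hg⟩
  obtain ⟨p, hp, hpu⟩ := Ideal.exists_minimalPrimes_le (bot_le : ⊥ ≤ u.asIdeal)
  have hpq : p = q.asIdeal := by
    by_contra hne
    exact hug (hpu (Ideal.mem_of_dvd _ (Finset.dvd_prod_of_mem f (hfin.mem_toFinset.2 hp))
      (hfp p (hfin.mem_toFinset.2 hp) hne)))
  exact ((PrimeSpectrum.le_iff_specializes q u).1 (show q.asIdeal ≤ u.asIdeal from hpq ▸ hpu)).mem_open hU huU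

/-- A closed set of a Noetherian sober space is the closure of its maximal points, finitely many. -/
theorem exists_maximal {T : Type u} [TopologicalSpace T] [NoetherianSpace T] [QuasiSober T] (Z : Set T)
    (hZ : IsClosed Z) : ∃ S0 : Set T, S0.Finite ∧
      (∀ x ∈ Z, (∀ y ∈ Z, y ⤳ x → x ⤳ y) → ∃ s ∈ S0, s ⤳ x ∧ x ⤳ s) ∧
      ∀ x ∈ Z, ∃ s ∈ Z, s ⤳ x ∧ ∀ y ∈ Z, y ⤳ s → s ⤳ y := by
  classical
  obtain ⟨F, hFf, hFc, hFi, hFu⟩ := NoetherianSpace.exists_finite_set_isClosed_irreducible hZ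
  let gen : F → T := fun t => (hFi t.1 t.2).genericPoint
  have hcl : ∀ t : F, closure {gen t} = t.1 := fun t =>
    (hFi t.1 t.2).closure_genericPoint (hFc t.1 t.2)
  have hgen : ∀ t : F, gen t ∈ Z := fun t => by
    rw [hFu]
    exact ⟨t.1, t.2, hcl t ▸ subset_closure rfl⟩
  have hdom : ∀ x ∈ Z, ∃ t : F, gen t ⤳ x := fun x hx => by
    rw [hFu] at hx
    obtain ⟨t, ht, hxt⟩ := hx
    exact ⟨⟨t, ht⟩, specializes_iff_mem_closure.2 (by rw [hcl ⟨t, ht⟩]; exact hxt)⟩
  haveI := hFf.to_subtype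
  refine ⟨Set.range gen, Set.finite_range _, fun x hx hmax => ?_, fun x hx => ?_⟩
  · obtain ⟨t, ht⟩ := hdom x hx
    exact ⟨_, ⟨t, rfl⟩, ht, hmax _ (hgen t) ht⟩
  · obtain ⟨t, ht⟩ := hdom x hx
    obtain ⟨m, htm, hm⟩ := (Set.toFinite {t' : F | t.1 ⊆ t'.1}).exists_maximalFor (fun t' : F => t'.1) _
      ⟨t, le_refl (t.1 : Set T)⟩
    refine ⟨gen m, hgen m, (specializes_iff_mem_closure.2 ?_).trans ht, fun y hy hys => ?_⟩
    · rw [hcl m]; exact htm (hcl t ▸ subset_closure rfl)
    · obtain ⟨t', ht'⟩ := hdom y hy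
      have h1 : m.1 ⊆ t'.1 := by
        rw [← hcl m, ← hcl t']
        exact closure_minimal (Set.singleton_subset_iff.2 (specializes_iff_mem_closure.1 (ht'.trans hys))) isClosed_closure
      have h2 : t'.1 ⊆ m.1 := hm (j := t') (subset_trans htm h1) h1
      refine (specializes_iff_mem_closure.2 ?_ : gen m ⤳ gen t').trans ht'
      rw [hcl m]
      exact h2 (hcl t' ▸ subset_closure rfl)


open AlgebraicGeometry in
/-- For a Noetherian scheme S that is separated, and a dense open subset U ⊆ S that is not empty, only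
finitely many open subsets V ⊇ U have an affine inclusion morphism V → S, and among them there is
one contained in all the others (a least element for inclusion). -/
theorem result
    (S : Scheme.{u}) [IsNoetherian S] [S.IsSeparated] (U : S.Opens)
    (hne : (U : Set S).Nonempty) (hU : Dense (U : Set S)) :
    Set.Finite {V : S.Opens | U ≤ V ∧ IsAffineHom V.ι} ∧
      ∃ V₀ : S.Opens, (U ≤ V₀ ∧ IsAffineHom V₀.ι) ∧
        ∀ V : S.Opens, U ≤ V → IsAffineHom V.ι → V₀ ≤ V := by
  classical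
  obtain ⟨S0, hS0, hmax, -⟩ := exists_maximal ((U : Set S)ᶜ) U.2.isClosed_compl
  have key : ∀ V : S.Opens, U ≤ V → IsAffineHom V.ι → ∀ x ∉ V, ∃ s ∈ S0, s ∉ V ∧ s ⤳ x := by
    intro V hUV hV x hx
    obtain ⟨S1, -, -, hex⟩ := exists_maximal ((V : Set S)ᶜ) V.2.isClosed_compl
    obtain ⟨z, hz, hzx, hzmax⟩ := hex x hx
    obtain ⟨s, hs, hsz, hzs⟩ := hmax z (fun h => hz (hUV h)) fun y hy hyz => by
      by_cases hyV : y ∈ V
      · exfalso
        obtain ⟨_, ⟨W, hW, rfl⟩, hzW, -⟩ := S.isBasis_affineOpens.exists_subset_of_mem_open (Set.mem_univ z) isOpen_univ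
        have hyW : y ∈ W := hyz.mem_open W.2 hzW
        haveI : IsNoetherianRing Γ(S, W) := IsLocallyNoetherian.component_noetherian ⟨W, hW⟩
        let e := hW.fromSpec
        haveI : IsOpenImmersion e := hW.isOpenImmersion_fromSpec
        obtain ⟨p, rfl⟩ : z ∈ Set.range e := hW.range_fromSpec.symm ▸ hzW
        obtain ⟨q, rfl⟩ : y ∈ Set.range e := hW.range_fromSpec.symm ▸ hyW
        have hqp : q.asIdeal ≤ p.asIdeal :=
          (PrimeSpectrum.le_iff_specializes q p).2 (e.isOpenEmbedding.isInducing.specializes_iff.1 hyz)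
        haveI := hV
        have hVW : IsAffineOpen (e ⁻¹ᵁ V) := by
          rw [← e.isAffineOpen_iff_of_isOpenImmersion, Scheme.Hom.image_preimage_eq_opensRange_inf,
            hW.opensRange_fromSpec]
          have := (IsAffineOpen.preimage hW V.ι).image_of_isOpenImmersion V.ι
          rwa [Scheme.Hom.image_preimage_eq_opensRange_inf, Scheme.Opens.opensRange_ι, inf_comm] at this
        have h1 := H1AffCompl.height_le_one (e ⁻¹ᵁ V) hVW p.asIdeal (hp := p.2) hz fun r hr hrV => by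
          have h2 := hzmax (e r) hrV ((((PrimeSpectrum.le_iff_specializes r p).1 hr)).map e.continuous)
          exact le_antisymm hr ((PrimeSpectrum.le_iff_specializes p r).2
            (e.isOpenEmbedding.isInducing.specializes_iff.1 h2))
        have hlt : q.asIdeal < p.asIdeal := lt_of_le_of_ne hqp fun h => hz (by
          have : q = p := PrimeSpectrum.ext h
          exact this ▸ hyV)
        have h0 : q.asIdeal.height = 0 := by
          haveI := p.2
          have h3 := Ideal.height_le_iff.1 h1 q.asIdeal q.2 hlt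
          exact Order.lt_one_iff.1 h3
        refine hy (mem_of_dense (e ⁻¹' U) (U.2.preimage e.continuous)
          (hU.preimage e.isOpenEmbedding.isOpenMap) q (by haveI := q.2; exact Ideal.height_eq_zero_iff.1 h0))
      · exact hzmax y hyV hyz
    exact ⟨s, hs, fun hsV => hz (by exact (hzs.mem_open V.2 hsV)), hsz.trans hzx⟩
  have hfin : Set.Finite {V : S.Opens | U ≤ V ∧ IsAffineHom V.ι} := by
    haveI := hS0.to_subtype
    refine Set.Finite.of_finite_image (f := fun V : S.Opens => {s : S0 | s.1 ∉ V}) (Set.toFinite _) ?_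
    rintro V ⟨hV, hVa⟩ V' ⟨hV', hVa'⟩ h
    have h' : ∀ s : S0, s.1 ∉ V ↔ s.1 ∉ V' := fun s => Iff.of_eq (congrArg (s ∈ ·) h)
    ext x
    constructor
    · intro hx
      by_contra hx'
      obtain ⟨s, hs, hsV, hsx⟩ := key V' hV' hVa' x hx'
      exact (h' ⟨s, hs⟩).2 hsV (hsx.mem_open V.2 hx)
    · intro hx
      by_contra hx'
      obtain ⟨s, hs, hsV, hsx⟩ := key V hV hVa x hx'
      exact (h' ⟨s, hs⟩).1 hsV (hsx.mem_open V'.2 hx)
  refine ⟨hfin, hfin.toFinset.inf id, ⟨Finset.le_inf fun V hV => (hfin.mem_toFinset.1 hV).1, ?_⟩,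
    fun V hUV hVa => Finset.inf_le (f := id) (hfin.mem_toFinset.2 ⟨hUV, hVa⟩)⟩
  have hiff : ∀ V : S.Opens, IsAffineHom V.ι ↔ ∀ W : S.Opens, IsAffineOpen W → IsAffineOpen (V ⊓ W) := by
    intro V
    constructor
    · intro h W hW
      have := (IsAffineOpen.preimage hW V.ι).image_of_isOpenImmersion V.ι
      rwa [Scheme.Hom.image_preimage_eq_opensRange_inf, Scheme.Opens.opensRange_ι] at this
    · intro h
      refine ⟨fun W hW => ?_⟩
      rw [← V.ι.isAffineOpen_iff_of_isOpenImmersion, Scheme.Hom.image_preimage_eq_opensRange_inf,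
        Scheme.Opens.opensRange_ι]
      exact h W hW
  refine Finset.inf_induction (p := fun V : S.Opens => IsAffineHom V.ι) ((hiff ⊤).2 fun W hW => by rwa [top_inf_eq]) (fun V₁ h₁ V₂ h₂ => ?_)
    fun V hV => (hfin.mem_toFinset.1 hV).2
  refine (hiff _).2 fun W hW => ?_
  have := IsAffineOpen.inf ((hiff V₁).1 h₁ W hW) ((hiff V₂).1 h₂ W hW)
  rwa [inf_inf_inf_comm, inf_idem] at this

end Groth.Agent.S13043
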