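import Groth.Statements.S13044
import Mathlib

set_option autoImplicit false
set_option backward.isDefEq.respectTransparency false
universe u
open MaxMod

namespace Groth.Agent.S13044

open CategoryTheory Limits AlgebraicGeometry
theorem factor {Γ P W W' : Scheme.{u}} (i : Γ ⟶ P) [IsClosedImmersion i] (g : W ⟶ P) (q : W' ⟶ W)
    [IsSchemeTheoreticallyDominant q] (h : W' ⟶ Γ) (e : h ≫ i = q ≫ g) :
    ∃ g' : W ⟶ Γ, g' ≫ i = g := by
  have hle : (pullback.snd i g).ker ≤ (𝟙 W : W ⟶ W).ker := by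
    refine le_trans (Scheme.Hom.le_ker_comp (pullback.lift h q e) (pullback.snd i g)) ?_
    rw [pullback.lift_snd, q.ker_eq_bot]
    exact bot_le
  refine ⟨IsClosedImmersion.lift (pullback.snd i g) (𝟙 W) hle ≫ pullback.fst i g, ?_⟩
  rw [Category.assoc, pullback.condition, ← Category.assoc, IsClosedImmersion.lift_fac, Category.id_comp]

theorem dominant_generic (R K : Type u) [CommRing R] [IsDomain R] [Field K] [Algebra R K]
    [IsFractionRing R K] : IsDominant (Spec.map (CommRingCat.ofHom (algebraMap R K))) := by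
  constructor
  exact PrimeSpectrum.denseRange_comap_iff_ker_le_nilRadical _ |>.2
    (((RingHom.injective_iff_ker_eq_bot _).1 (IsFractionRing.injective R K)).le.trans bot_le)

/-- Let R be a discrete valuation ring with fraction field K, let Y be a flat separated R-scheme and let
Γ → Y ×_R Y be a closed subscheme, with projections p₁, p₂ : Γ → Y, such that Γ is flat over R
(equivalently, Γ is the schematic closure of its generic fibre) and p₁, p₂ are flat. If for every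
scheme T over Spec K the relation on the T-valued points of Y defined by the T-valued points of Γ is
an equivalence relation, then for every scheme T over Spec R that relation is an equivalence
relation: Γ is a flat equivalence relation on Y. -/
theorem result
    (R K : Type u) [CommRing R] [IsDomain R] [IsDiscreteValuationRing R]
    [Field K] [Algebra R K] [IsFractionRing R K]
    (Y Γ : Scheme.{u}) (f : Y ⟶ Spec (CommRingCat.of R)) [IsSeparated f] [Flat f]
    (p₁ p₂ : Γ ⟶ Y) (h : p₁ ≫ f = p₂ ≫ f)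
    (hΓ : IsClosedImmersion (pullback.lift p₁ p₂ h))
    [Flat (p₁ ≫ f)] [Flat p₁] [Flat p₂]
    (hK : ∀ (T : Scheme.{u}) (t : T ⟶ Spec (CommRingCat.of R)),
      (∃ s : T ⟶ Spec (CommRingCat.of K), t = s ≫ Spec.map (CommRingCat.ofHom (algebraMap R K))) →
      _root_.Equivalence fun a b : {a : T ⟶ Y // a ≫ f = t} =>
        ∃ c : T ⟶ Γ, c ≫ p₁ = a.1 ∧ c ≫ p₂ = b.1) :
    ∀ (T : Scheme.{u}) (t : T ⟶ Spec (CommRingCat.of R)),
      _root_.Equivalence fun a b : {a : T ⟶ Y // a ≫ f = t} =>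
        ∃ c : T ⟶ Γ, c ≫ p₁ = a.1 ∧ c ≫ p₂ = b.1 := by
  intro T t
  let η : Spec (CommRingCat.of K) ⟶ Spec (CommRingCat.of R) := Spec.map (CommRingCat.ofHom (algebraMap R K))
  haveI : IsDominant η := dominant_generic R K
  haveI : IsSchemeTheoreticallyDominant η := .of_isDominant η
  haveI := hΓ
  -- extension from the generic fibre
  have ext : ∀ {W : Scheme.{u}} (w : W ⟶ Spec (CommRingCat.of R)) [Flat w] (a b : W ⟶ Y)
      (ha : a ≫ f = w) (hb : b ≫ f = w),
      (∃ c : pullback η w ⟶ Γ, c ≫ p₁ = pullback.snd η w ≫ a ∧ c ≫ p₂ = pullback.snd η w ≫ b) →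
      ∃ c : W ⟶ Γ, c ≫ p₁ = a ∧ c ≫ p₂ = b := by
    intro W w _ a b ha hb ⟨c, hc1, hc2⟩
    obtain ⟨g, hg⟩ := factor (pullback.lift p₁ p₂ h) (pullback.lift a b (ha.trans hb.symm))
      (pullback.snd η w) c (pullback.hom_ext (by simp [hc1]) (by simp [hc2]))
    refine ⟨g, ?_, ?_⟩
    · have := congrArg (· ≫ pullback.fst f f) hg
      simpa using this
    · have := congrArg (· ≫ pullback.snd f f) hg
      simpa using this
  have hKW : ∀ {W : Scheme.{u}} (w : W ⟶ Spec (CommRingCat.of R)),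
      ∃ s : pullback η w ⟶ Spec (CommRingCat.of K), pullback.snd η w ≫ w = s ≫ η :=
    fun w => ⟨pullback.fst η w, pullback.condition.symm⟩
  obtain ⟨δ, hδ1, hδ2⟩ := ext f (𝟙 Y) (𝟙 Y) (Category.id_comp _) (Category.id_comp _)
    ((hK _ _ (hKW f)).refl ⟨pullback.snd η f ≫ 𝟙 Y, by simp⟩)
  obtain ⟨σ, hσ1, hσ2⟩ := ext (p₁ ≫ f) p₂ p₁ h.symm rfl
    ((hK _ _ (hKW (p₁ ≫ f))).symm (x := ⟨pullback.snd η (p₁ ≫ f) ≫ p₁, Category.assoc _ _ _⟩)
      (y := ⟨pullback.snd η (p₁ ≫ f) ≫ p₂, by rw [Category.assoc, h]⟩) ⟨pullback.snd η _, rfl, rfl⟩)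
  let u₁ := pullback.fst p₂ p₁
  let u₂ := pullback.snd p₂ p₁
  have hu : u₁ ≫ p₂ = u₂ ≫ p₁ := pullback.condition
  haveI : Flat (u₁ ≫ p₁ ≫ f) := by
    haveI : Flat u₁ := MorphismProperty.pullback_fst p₂ p₁ inferInstance
    infer_instance
  obtain ⟨τ, hτ1, hτ2⟩ := ext (u₁ ≫ p₁ ≫ f) (u₁ ≫ p₁) (u₂ ≫ p₂) (Category.assoc _ _ _)
    (by rw [Category.assoc, ← h, ← Category.assoc, ← hu, Category.assoc, ← h])
    ((hK _ _ (hKW (u₁ ≫ p₁ ≫ f))).trans
      (x := ⟨pullback.snd η _ ≫ u₁ ≫ p₁, by simp⟩) (y := ⟨pullback.snd η _ ≫ u₁ ≫ p₂, by simp [h]⟩)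
      (z := ⟨pullback.snd η _ ≫ u₂ ≫ p₂, by
        simp only [Category.assoc]
        congr 1
        rw [← h, ← Category.assoc, ← hu, Category.assoc, ← h]⟩)
      ⟨pullback.snd η _ ≫ u₁, by simp, by simp⟩
      ⟨pullback.snd η _ ≫ u₂, by simp [hu], by simp⟩)
  refine ⟨fun a => ⟨a.1 ≫ δ, by simp [hδ1], by simp [hδ2]⟩, ?_, ?_⟩
  · rintro a b ⟨c, hc1, hc2⟩
    exact ⟨c ≫ σ, by simp [hσ1, hc2], by simp [hσ2, hc1]⟩
  · rintro a b d ⟨c, hc1, hc2⟩ ⟨c', hc1', hc2'⟩
    let l := pullback.lift c c' (hc2.trans hc1'.symm)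
    refine ⟨l ≫ τ, ?_, ?_⟩
    · simp [hτ1, l, u₁, hc1]
    · simp [hτ2, l, u₂, hc2']

end Groth.Agent.S13044
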