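import Groth.Statements.S13047
import Groth.Agent.H1PrePerf.Basic
import Mathlib.RingTheory.Ideal.Operations

set_option autoImplicit false
universe u
open FrobAlg

namespace Groth.Agent.S13047

open Polynomial in
/-- Let p be an odd prime, R a commutative ring of characteristic p and u, v ∈ R with uv = 0, such that
for every N ≥ 1 an element of R lying in (v^n) + (u^N) for all n lies in (u^N) (v-adic separatedness
of R/(u^N)). Let B = R[α]/(uα, α² − v²), an R-algebra of characteristic p, with Frobenius twists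
B^{p^i/R} = R ⊗_{F^i,R} B and preperfection B^{p^∞/R} = lim_i B^{p^i/R} along the relative Frobenius
maps. Then the structure map R → B^{p^∞/R} is bijective: the preperfection of B is R. (The published
statement is for R = F_p[[u, v]]/(uv), where B arises as the preperfection of R[x, y, 1/(x − y)]/(xy
− u), so that the second preperfection of that algebra is R although the first is not perfect; the
printed computation uses only the hypotheses listed here, which that R satisfies.) -/
theorem result
    (p : ℕ) [Fact p.Prime] (hp : p ≠ 2) (R : Type u) [CommRing R] [CharP R p]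
    (u v : R) (huv : u * v = 0)
    (hsep : ∀ N : ℕ, 1 ≤ N → ∀ g : R,
      (∀ n : ℕ, g ∈ Ideal.span {v ^ n} ⊔ Ideal.span {u ^ N}) → g ∈ Ideal.span {u ^ N})
    [CharP (R[X] ⧸ Ideal.span {(C u * X : R[X]), X ^ 2 - C (v ^ 2)}) p] :
    Function.Bijective
      (algebraMap R ↥(W4c1imperftorsors.prePerf p R
        (R[X] ⧸ Ideal.span {(C u * X : R[X]), X ^ 2 - C (v ^ 2)}))) := by
  obtain ⟨m, hm⟩ : Odd p := (Fact.out : p.Prime).odd_of_ne_two hp
  have hm0 : m ≠ 0 := fun h => (Fact.out : p.Prime).ne_one (by omega)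
  constructor
  · intro r r' h
    have h0 : algebraMap R (W4c1imperftorsors.Twist p R (H1PrePerf.B R u v) 0) r = algebraMap R _ r' :=
      congrFun (congrArg Subtype.val h) 0
    refine sub_eq_zero.1 (H1PrePerf.coef_zero p R u v hp huv 0 (b := 0) ?_)
    rw [map_sub, h0, sub_self, map_zero, zero_mul, zero_add]
  intro x
  choose a b hx using fun i => H1PrePerf.exists_rep p R u v i (x.1 i)
  have hstep : ∀ i, a (i + 1) = a i ∧
      b (i + 1) * ((v ^ 2) ^ p ^ i) ^ m - b i ∈ Ideal.span {u ^ p ^ i} := by
    intro i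
    have hc : W4c1imperftorsors.relFrob p R (H1PrePerf.B R u v) i (x.1 (i + 1)) = x.1 i :=
      (Algebra.mem_iInf.1 x.2) i
    rw [hx i, hx (i + 1), map_add, map_mul, AlgHom.commutes, AlgHom.commutes,
      H1PrePerf.relFrob_al p R u v hm i, ← mul_assoc, ← map_mul] at hc
    have hd : algebraMap R _ (a (i + 1) - a i) +
        algebraMap R _ (b (i + 1) * ((v ^ 2) ^ p ^ i) ^ m - b i) * H1PrePerf.al p R u v i = 0 := by
      rw [map_sub, map_sub]
      linear_combination hc
    have ha := H1PrePerf.coef_zero p R u v hp huv i hd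
    rw [ha, map_zero, zero_add] at hd
    exact ⟨sub_eq_zero.1 ha, H1PrePerf.coef_mem p R u v i hd⟩
  have hb : ∀ n i, b i ∈ Ideal.span {v ^ n} ⊔ Ideal.span {u ^ p ^ i} := by
    intro n
    induction n with
    | zero =>
      intro i
      rw [pow_zero, Ideal.span_singleton_one, top_sup_eq]
      trivial
    | succ n ih =>
      intro i
      obtain ⟨s, hs, t, ht, hst⟩ := Submodule.mem_sup.1 (ih (i + 1))
      have hvc : v ∣ ((v ^ 2) ^ p ^ i) ^ m :=
        dvd_trans (dvd_trans (dvd_pow_self v two_ne_zero)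
          (dvd_pow_self _ (pow_pos (Fact.out : p.Prime).pos i).ne')) (dvd_pow_self _ hm0)
      have h1 : s * ((v ^ 2) ^ p ^ i) ^ m ∈ Ideal.span {v ^ (n + 1)} := by
        rw [pow_succ, Ideal.mem_span_singleton]
        exact mul_dvd_mul (Ideal.mem_span_singleton.1 hs) hvc
      have h2 : t * ((v ^ 2) ^ p ^ i) ^ m ∈ Ideal.span {u ^ p ^ i} := by
        refine Ideal.mul_mem_right _ _ (Ideal.mem_span_singleton.2 (dvd_trans ?_ (Ideal.mem_span_singleton.1 ht)))
        exact pow_dvd_pow u (Nat.pow_le_pow_right (Fact.out : p.Prime).pos i.le_succ)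
      refine Submodule.mem_sup.2 ⟨_, h1, _, Submodule.sub_mem _ h2 (hstep i).2, ?_⟩
      rw [← hst]
      ring
  have ha : ∀ i, a i = a 0 := by
    intro i
    induction i with
    | zero => rfl
    | succ i ih => exact (hstep i).1.trans ih
  refine ⟨a 0, Subtype.ext (funext fun i => ?_)⟩
  obtain ⟨c, hc⟩ := Ideal.mem_span_singleton'.1
    (hsep (p ^ i) (Nat.one_le_pow _ _ (Fact.out : p.Prime).pos) (b i) fun n => hb n i)
  rw [hx i, ha i, ← hc, map_mul, mul_assoc, H1PrePerf.u_al, mul_zero, add_zero]
  rfl

end Groth.Agent.S13047
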