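import Groth.Statements.S13068
import Groth.Agent.ZetaCurve.PicCount
import Groth.Agent.S11036
import Groth.Agent.S11038
-- import your own Groth.Agent.* helpers here

set_option autoImplicit false
set_option backward.isDefEq.respectTransparency false
set_option backward.isDefEq.respectTransparency.types false
set_option linter.style.haveILetI false
set_option maxHeartbeats 1000000
universe u
open CategoryTheory AlgebraicGeometry
open Zeta

namespace Groth.Agent.S13068
open Groth.Agent

/-- Let X be a smooth, geometrically connected, projective curve of genus g over F_q (here: smooth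
proper geometrically irreducible, of dimension one). Then Z(X, t) = f(t) / ((1 − t)(1 − qt)) with f
∈ ℤ[t] of degree ≤ 2g, f(0) = 1 and f(1) = h, where h is the number of isomorphism classes of line
bundles of degree zero on X (the number of k-points of the Jacobian). -/
theorem result (k : Type u) [Field k] [Finite k]
    (X : Scheme.{u}) [X.Over (Spec (CommRingCat.of k))]
    (hX : Curve.IsSmoothProperCurve k X (X ↘ Spec (CommRingCat.of k)))
    [GeometricallyIrreducible (X ↘ Spec (CommRingCat.of k))] :
    ∃ P : Polynomial ℤ, P.natDegree ≤ 2 * Curv2.genus k X ∧ P.coeff 0 = 1 ∧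
      P.eval 1 = Nat.card {c : PicF.Cl X // ∃ L : X.Modules, PicF.cl L = c ∧ PicF.IsInvertible L ∧
          Curv2.deg k X L 1 = 0} ∧
      Zeta.zetaFun (X ↘ Spec (CommRingCat.of k)) *
          ((1 - PowerSeries.X) * (1 - PowerSeries.C (Nat.card k : ℚ) * PowerSeries.X)) =
        ((P.map (Int.castRingHom ℚ) : Polynomial ℚ) : PowerSeries ℚ) := by
  obtain ⟨hp, hs, hi, hdim⟩ := hX
  haveI := hp
  haveI := hs
  haveI := hi
  letI := Groth.Agent.ZetaCurve.ffAlg k X
  have h0 := Groth.Agent.ZetaCurve.h0_of_geometricallyIrreducible k X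
  have hK := Groth.Agent.ZetaCurve.isFunctionField k X hdim h0
  obtain ⟨P, hP⟩ := Groth.Agent.S11036.result k X.functionField hK
  obtain ⟨D, hD⟩ := Groth.Agent.FFLib.exists_deg_one hK
  haveI := Groth.Agent.FFLib.finite_pic0 (k := k) hK.1
  letI := Fintype.ofFinite (Groth.Agent.FFLib.Pic0 k X.functionField)
  refine ⟨P, ?_, ?_, ?_, ?_⟩
  · rw [← Groth.Agent.ZetaCurve.genus_eq k X hdim h0, Polynomial.natDegree_le_iff_coeff_eq_zero]
    intro n hn
    rw [← Polynomial.coeff_coe, hP]
    exact Groth.Agent.FFLib.numerZ_vanish hK hD n hn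
  · rw [← Polynomial.coeff_coe, hP,
      Groth.Agent.FFLib.constantCoeff_numerZ hK.1]
  · rw [Groth.Agent.S11038.result k X.functionField hK P hP]
    exact_mod_cast (Groth.Agent.ZetaCurve.picDeg_facts k X hdim 0).2.2.symm
  · rw [Groth.Agent.ZetaCurve.zetaFun_eq k X hdim hK.1, Polynomial.polynomial_map_coe, hP, FunFld.numerZ]
    simp only [map_mul, map_sub, map_one, PowerSeries.map_X, PowerSeries.map_C, map_natCast, eq_intCast, Int.cast_natCast]
    ring

end Groth.Agent.S13068
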