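import Groth.Statements.S13080
import Groth.Agent.SGA1Q.Properties
-- import your own Groth.Agent.* helpers here

set_option autoImplicit false
set_option backward.isDefEq.respectTransparency false
set_option backward.isDefEq.respectTransparency.types false
set_option linter.style.haveILetI false
set_option maxHeartbeats 1000000
universe u
open CategoryTheory AlgebraicGeometry Limits
open Zeta

namespace Groth.Agent.S13080
open Groth.Agent

/-- Let G be a finite group acting by algebraic automorphisms over k on a scheme X of finite type over k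
admitting a quotient p : X → X/G, H ⊆ G a subgroup and Y ⊆ X an open subset preserved by H such that
X is the disjoint union of the translates Y g over the cosets of G mod H. Then the natural morphism
Y/H → X/G is an isomorphism: Y → X/G is a quotient of Y by H. The action of H on Y is pinned by
compatibility with the inclusion Y → X; the coset condition is stated as: the translates of Y cover
X, and g(Y) is disjoint from Y for g ∉ H. -/
theorem result {k : Type u} [Field k] {G : Type u} [Group G]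
    [Finite G] {X XG : Scheme.{u}} (fX : X ⟶ Spec (CommRingCat.of k)) [LocallyOfFiniteType fX]
    [QuasiCompact fX] (ρ : G →* Aut X) (hρ : ∀ g, (ρ g).hom ≫ fX = fX) (p : X ⟶ XG)
    (hP : SGA1.IsQuot ρ p) (H : Subgroup G) (Y : X.Opens)
    (hcov : ∀ x : X, ∃ g : G, x ∈ (ρ g).hom.base '' (Y : Set X))
    (hdisj : ∀ g : G, g ∉ H → Disjoint ((ρ g).hom.base '' (Y : Set X)) (Y : Set X))
    (ρY : H →* Aut (Y : Scheme.{u})) (hρY : ∀ h : H, (ρY h).hom ≫ Y.ι = Y.ι ≫ (ρ (h : G)).hom) :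
    SGA1.IsQuot ρY (Y.ι ≫ p) := by
  classical
  have hcomp : ∀ a b : G, (ρ (a * b)).hom = (ρ b).hom ≫ (ρ a).hom := fun a b => by rw [map_mul]; rfl
  have hmemY : ∀ h : G, h ∈ H → ∀ y ∈ Y, (ρ h).hom y ∈ Y := fun h hh y hy => by
    have e := congrArg (fun f : (Y : Scheme.{u}) ⟶ X => f ⟨y, hy⟩) (hρY ⟨h, hh⟩)
    exact (show ((ρY ⟨h, hh⟩).hom ⟨y, hy⟩).1 = (ρ h).hom y from e) ▸ ((ρY ⟨h, hh⟩).hom ⟨y, hy⟩).2
  have hopen : IsOpen ((Y : Set X)ᶜ) := by
    have : (Y : Set X)ᶜ = ⋃ g : {g : G // g ∉ H}, (ρ g.1).hom '' (Y : Set X) := by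
      ext x
      constructor
      · intro hx
        obtain ⟨g, y, hy, rfl⟩ := hcov x
        exact Set.mem_iUnion.2 ⟨⟨g, fun hg => hx (hmemY g hg y hy)⟩, y, hy, rfl⟩
      · intro hx
        obtain ⟨g, hg⟩ := Set.mem_iUnion.1 hx
        exact Set.disjoint_left.1 (hdisj g.1 g.2) hg
    rw [this]
    exact isOpen_iUnion fun g => (ρ g.1).hom.isOpenEmbedding.isOpenMap _ Y.2
  let Z : X.Opens := ⟨(Y : Set X)ᶜ, hopen⟩
  haveI : IsClosedImmersion Y.ι := IsClosedImmersion.of_isPreimmersion _ (by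
    rw [Scheme.Opens.range_ι]; exact ⟨hopen⟩)
  haveI := hP.affine
  have hinv : ∀ h : H, (ρY h).hom ≫ Y.ι ≫ p = Y.ι ≫ p := fun h => by
    rw [← Category.assoc, hρY, Category.assoc, hP.inv]
  refine ⟨inferInstance, hinv, fun U => ?_, fun U s => ?_⟩
  · rw [injective_iff_map_eq_zero]
    intro a ha
    refine hP.injective U (Eq.trans ?_ (map_zero _).symm)
    refine TopCat.Presheaf.section_ext X.sheaf _ _ _ fun x hx => ?_
    rw [map_zero]
    obtain ⟨g, y, hy, rfl⟩ := hcov x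
    have hyU : y ∈ p ⁻¹ᵁ U := by
      show p y ∈ U
      rw [← hP.inv g]; exact hx
    refine (ConcreteCategory.bijective_of_isIso ((ρ g).hom.stalkMap y)).1 ?_
    rw [map_zero]
    refine (Scheme.Hom.germ_stalkMap_apply (ρ g).hom (p ⁻¹ᵁ U) y hx _).trans ?_
    have hfix := (hP.range_iff U ((p.app U).hom a)).1 ⟨a, rfl⟩ g
    rw [Scheme.Hom.appLE] at hfix
    have e1 := congrArg (X.presheaf.germ (p ⁻¹ᵁ U) y hyU) hfix
    rw [CommRingCat.comp_apply, TopCat.Presheaf.germ_res_apply] at e1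
    refine e1.trans ?_
    let y' : (Y : Scheme.{u}) := ⟨y, hy⟩
    refine (ConcreteCategory.bijective_of_isIso (Y.ι.stalkMap y')).1 ?_
    rw [map_zero]
    refine (Scheme.Hom.germ_stalkMap_apply Y.ι (p ⁻¹ᵁ U) y' hyU _).trans ?_
    refine (congrArg _ (show (Y.ι.app (p ⁻¹ᵁ U)).hom ((p.app U).hom a) = 0 from ha)).trans (map_zero _)
  · let V := p ⁻¹ᵁ U
    let σ : G → Γ(X, V) →+* Γ(X, V) := fun g =>
      ((ρ g).hom.appLE V V (SGA1.preimage_le_of_inv ρ p hP.inv g U)).hom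
    have hσ : ∀ a b r, σ (a * b) r = σ b (σ a r) := fun a b r => by
      have e := Scheme.Hom.appLE_comp_appLE (ρ b).hom (ρ a).hom V V V
        (SGA1.preimage_le_of_inv ρ p hP.inv a U) (SGA1.preimage_le_of_inv ρ p hP.inv b U)
      simp only [← hcomp] at e
      exact (ConcreteCategory.congr_hom e r).symm
    have hext : ∀ a b : Γ(X, V), Y.ι.app V a = Y.ι.app V b → Z.ι.app V a = Z.ι.app V b → a = b := by
      intro a b h1 h2
      refine TopCat.Presheaf.section_ext X.sheaf _ _ _ fun x hx => ?_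
      by_cases hxy : x ∈ Y
      · let y' : (Y : Scheme.{u}) := ⟨x, hxy⟩
        refine (ConcreteCategory.bijective_of_isIso (Y.ι.stalkMap y')).1 ?_
        exact (Scheme.Hom.germ_stalkMap_apply Y.ι V y' hx a).trans
          ((congrArg _ h1).trans (Scheme.Hom.germ_stalkMap_apply Y.ι V y' hx b).symm)
      · let y' : (Z : Scheme.{u}) := ⟨x, hxy⟩
        refine (ConcreteCategory.bijective_of_isIso (Z.ι.stalkMap y')).1 ?_
        exact (Scheme.Hom.germ_stalkMap_apply Z.ι V y' hx a).trans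
          ((congrArg _ h2).trans (Scheme.Hom.germ_stalkMap_apply Z.ι V y' hx b).symm)
    have hrel : ∀ (O O' : X.Opens) (g : G) (l : (O : Scheme.{u}) ⟶ (O' : Scheme.{u}))
        (hl : l ≫ O'.ι = O.ι ≫ (ρ g).hom) (r : Γ(X, V)), ∃ hle,
        O.ι.app V (σ g r) = l.appLE (O'.ι ⁻¹ᵁ V) (O.ι ⁻¹ᵁ V) hle (O'.ι.app V r) := fun O O' g l hl r => by
      have hle : O.ι ⁻¹ᵁ V ≤ l ⁻¹ᵁ (O'.ι ⁻¹ᵁ V) := by
        rw [← Scheme.Hom.comp_preimage l, hl, Scheme.Hom.comp_preimage]
        exact O.ι.preimage_mono (SGA1.preimage_le_of_inv ρ p hP.inv g U)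
      refine ⟨hle, ?_⟩
      simp only [σ, Scheme.Hom.app_eq_appLE]
      rw [← CommRingCat.comp_apply, ← CommRingCat.comp_apply, Scheme.Hom.appLE_comp_appLE,
        Scheme.Hom.appLE_comp_appLE]
      simp only [hl]
    have hzero : ∀ (O : X.Opens) (g : G), (∀ y ∈ O, (ρ g).hom y ∈ Z) → ∀ r : Γ(X, V), Z.ι.app V r = 0 →
        O.ι.app V (σ g r) = 0 := fun O g hg r hr => by
      let l := IsOpenImmersion.lift Z.ι (O.ι ≫ (ρ g).hom) (by
        rintro _ ⟨y, rfl⟩
        rw [Scheme.Opens.range_ι]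
        exact hg y.1 y.2)
      obtain ⟨hle, e⟩ := hrel O Z g l (IsOpenImmersion.lift_fac _ _ _) r
      rw [e, hr, map_zero]
    constructor
    · rintro ⟨a, rfl⟩ h
      exact SGA1Q.appLE_app_of_inv (ρ := ρY) hinv U h a
    intro hs
    obtain ⟨e₀, he1, he2⟩ : ∃ e₀ : Γ(X, V), Y.ι.app V e₀ = s ∧ Z.ι.app V e₀ = 0 := by
      let O : Bool → X.Opens := fun b => if b then Y.ι ''ᵁ (Y.ι ⁻¹ᵁ V) else Z.ι ''ᵁ (Z.ι ⁻¹ᵁ V)
      let sec : ∀ b, Γ(X, O b) := fun b => match b with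
        | true => (show Γ(X, Y.ι ''ᵁ (Y.ι ⁻¹ᵁ V)) from s)
        | false => (0 : Γ(X, Z.ι ''ᵁ (Z.ι ⁻¹ᵁ V)))
      have hdj : (Y.ι ''ᵁ (Y.ι ⁻¹ᵁ V)) ⊓ (Z.ι ''ᵁ (Z.ι ⁻¹ᵁ V)) = ⊥ := eq_bot_iff.2 fun x ⟨⟨a, _, ha⟩, ⟨b, _, hb⟩⟩ =>
        (b.2 (show b.1 ∈ (Y : Set X) from (show b.1 = a.1 from hb.trans ha.symm) ▸ a.2)).elim
      have hle : ∀ b, O b ≤ V := fun b => by cases b <;> (rintro x ⟨y, hy, rfl⟩; exact hy)
      obtain ⟨e₀, he, -⟩ := X.sheaf.existsUnique_gluing' O V (fun b => homOfLE (hle b)) (fun x hx => by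
        by_cases hxy : x ∈ Y
        · exact TopologicalSpace.Opens.mem_iSup.2 ⟨true, ⟨⟨x, hxy⟩, hx, rfl⟩⟩
        · exact TopologicalSpace.Opens.mem_iSup.2 ⟨false, ⟨⟨x, hxy⟩, hx, rfl⟩⟩) sec (fun a b => by
        have : a = b ∨ O a ⊓ O b = ⊥ := by
          cases a <;> cases b
          · exact Or.inl rfl
          · exact Or.inr (inf_comm _ _ |>.trans hdj)
          · exact Or.inr hdj
          · exact Or.inl rfl
        rcases this with rfl | h0
        · rfl
        · have : Subsingleton Γ(X, O a ⊓ O b) := by rw [h0]; infer_instance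
          exact this.elim _ _)
      exact ⟨e₀, by rw [Scheme.Opens.ι_app]; exact he true, by rw [Scheme.Opens.ι_app]; exact he false⟩
    have hHinv : ∀ h : G, h ∈ H → σ h e₀ = e₀ := fun h hh => by
      refine hext _ _ ?_ ?_
      · obtain ⟨hle, e⟩ := hrel Y Y h (ρY ⟨h, hh⟩).hom (hρY ⟨h, hh⟩) e₀
        rw [e, he1]
        exact hs ⟨h, hh⟩
      · rw [hzero Z h (fun y hy hy' => hy ?_) e₀ he2, he2]
        have := hmemY h⁻¹ (H.inv_mem hh) _ hy'
        rwa [← Scheme.Hom.comp_apply, ← hcomp, inv_mul_cancel, map_one] at this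
    let F : G ⧸ H → Γ(X, V) := fun c => Quotient.liftOn' c (fun a => σ a⁻¹ e₀) fun a b hab => by
      have hh : (a⁻¹ * b)⁻¹ ∈ H := H.inv_mem (QuotientGroup.leftRel_apply.1 hab)
      show σ a⁻¹ e₀ = σ b⁻¹ e₀
      conv_lhs => rw [← hHinv _ hh, ← hσ]
      congr 2
      group
    haveI := Fintype.ofFinite (G ⧸ H)
    have ht : ∀ g, σ g (∑ c, F c) = ∑ c, F c := fun g => by
      rw [map_sum]
      refine Fintype.sum_equiv (MulAction.toPerm g⁻¹) _ _ fun c => ?_
      induction c using QuotientGroup.induction_on with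
      | H a =>
        show σ g (σ a⁻¹ e₀) = σ (g⁻¹ * a)⁻¹ e₀
        rw [← hσ, mul_inv_rev, inv_inv]
    obtain ⟨a, ha⟩ := (hP.range_iff U _).2 ht
    refine ⟨a, ?_⟩
    show Y.ι.app V ((p.app U).hom a) = s
    rw [ha, map_sum, Finset.sum_eq_single (QuotientGroup.mk 1 : G ⧸ H)]
    · show Y.ι.app V (σ 1⁻¹ e₀) = s
      rw [hHinv _ (H.inv_mem H.one_mem), he1]
    · intro c _ hc
      induction c using QuotientGroup.induction_on with
      | H b =>
        refine hzero Y b⁻¹ (fun y hy => Set.disjoint_left.1 (hdisj b⁻¹ fun hb => hc ?_) ⟨y, hy, rfl⟩) e₀ he2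
        exact QuotientGroup.eq.2 (by simpa using hb)
    · intro h; exact absurd (Finset.mem_univ _) h

end Groth.Agent.S13080
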