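import Groth.Statements.S13081
import Groth.Agent.SGA1Q.Properties

set_option autoImplicit false
universe u
open CategoryTheory AlgebraicGeometry Limits
open Zeta

namespace Groth.Agent.S13081

/-- Let G be a finite group acting by algebraic automorphisms over k on a scheme X of finite type over k
admitting a quotient X → X/G, and H a normal subgroup of G. Then X/H carries an induced action of
G/H and its quotient by this action is X/G: the induced morphism r : X/H → X/G is a quotient of X/H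
by G/H. The induced action ρ̄ is pinned by p_H ≫ ρ̄(ḡ) = ρ(g) ≫ p_H and r by p_H ≫ r = p. -/
theorem result {k : Type u} [Field k] {G : Type u} [Group G]
    [Finite G] {X XG XH : Scheme.{u}} (fX : X ⟶ Spec (CommRingCat.of k)) [LocallyOfFiniteType fX]
    [QuasiCompact fX] (ρ : G →* Aut X) (hρ : ∀ g, (ρ g).hom ≫ fX = fX) (p : X ⟶ XG)
    (hP : SGA1.IsQuot ρ p) (H : Subgroup G) [H.Normal] (pH : X ⟶ XH)
    (hPH : SGA1.IsQuot (ρ.comp H.subtype) pH) (ρbar : G ⧸ H →* Aut XH)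
    (hρbar : ∀ g : G, pH ≫ (ρbar (QuotientGroup.mk g)).hom = (ρ g).hom ≫ pH)
    (r : XH ⟶ XG) (hr : pH ≫ r = p) :
    SGA1.IsQuot ρbar r := by
  haveI := hPH.affine
  have : Surjective pH := ⟨SGA1Q.surjective hPH⟩
  have hepi : Epi pH := SGA1Q.epi_of_surjective_of_injective _ (SGA1Q.surjective hPH) hPH.injective
  have haffr : IsAffineHom r := (SGA1Q.isAffineHom_iff_of_isQuot hPH hr).1 hP.affine
  have hinv : ∀ c : G ⧸ H, (ρbar c).hom ≫ r = r := by
    intro c
    induction c using QuotientGroup.induction_on with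
    | H g =>
      rw [← cancel_epi pH, ← Category.assoc, hρbar, Category.assoc, hr, hP.inv]
  subst hr
  have happ : ∀ U : XG.Opens, ((pH ≫ r).app U).hom = (pH.app (r ⁻¹ᵁ U)).hom.comp (r.app U).hom := by
    intro U
    rw [Scheme.Hom.comp_app]
    rfl
  refine ⟨haffr, hinv, fun U => ?_, fun U s => ?_⟩
  · have h := hP.injective U
    rw [happ] at h
    exact Function.Injective.of_comp (f := (pH.app (r ⁻¹ᵁ U)).hom) h
  constructor
  · rintro ⟨t, rfl⟩ c
    exact SGA1Q.appLE_app_of_inv (ρ := ρbar) hinv U c t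
  intro hs
  have hfix : ∀ g : G, ((ρ g).hom.appLE ((pH ≫ r) ⁻¹ᵁ U) ((pH ≫ r) ⁻¹ᵁ U)
      (SGA1.preimage_le_of_inv ρ (pH ≫ r) hP.inv g U)).hom ((pH.app (r ⁻¹ᵁ U)).hom s) = (pH.app (r ⁻¹ᵁ U)).hom s := by
    intro g
    have h1 : pH.app (r ⁻¹ᵁ U) ≫ (ρ g).hom.appLE (pH ⁻¹ᵁ (r ⁻¹ᵁ U)) (pH ⁻¹ᵁ (r ⁻¹ᵁ U))
        (SGA1.preimage_le_of_inv ρ (pH ≫ r) hP.inv g U) =
        (ρbar (QuotientGroup.mk g)).hom.appLE (r ⁻¹ᵁ U) (r ⁻¹ᵁ U) (SGA1.preimage_le_of_inv ρbar r hinv _ U) ≫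
          pH.app (r ⁻¹ᵁ U) := by
      rw [Scheme.Hom.app_eq_appLE]
      erw [Scheme.Hom.appLE_comp_appLE, Scheme.Hom.appLE_comp_appLE]
      exact SGA1Q.appLE_congr_hom (hρbar g).symm _ _
    refine (congr($(h1).hom s)).trans ?_
    exact congrArg (pH.app (r ⁻¹ᵁ U)).hom (hs _)
  obtain ⟨t, ht⟩ := (hP.range_iff U _).2 hfix
  refine ⟨t, hPH.injective _ ?_⟩
  rw [happ] at ht
  exact ht

end Groth.Agent.S13081
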