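import Groth.Statements.S13116
import Groth.Agent.InvUfdLib.Semilocal
import Groth.Agent.PicClLib.Basic

set_option autoImplicit false
universe u
open HilbChow

namespace Groth.Agent.S13116

set_option backward.isDefEq.respectTransparency false
set_option backward.isDefEq.respectTransparency.types false

open CategoryTheory CategoryTheory.Limits AlgebraicGeometry in
/-- Let k be a field, X an integral scheme smooth over k that is a closed subscheme of a projective
space over k, R a discrete valuation ring containing k, Z a subscheme of X ×_k Spec R which is
finite over Spec R, and L an invertible module on X. Then the pullback of L to Z along Z → X ×_k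
Spec R → X is isomorphic to the structure sheaf of Z (an isomorphism exists; none is singled out). -/
theorem result
    {k : Type u} [Field k] {X : Scheme.{u}} (sX : X ⟶ Spec (CommRingCat.of k))
    [IsIntegral X] [Smooth sX] (hproj : RelProj.IsHProjective sX)
    (R : Type u) [CommRing R] [IsDomain R] [IsDiscreteValuationRing R] [Algebra k R]
    {Z : Scheme.{u}}
    (i : Z ⟶ pullback sX (Spec.map (CommRingCat.ofHom (algebraMap k R)))) [IsImmersion i]
    [IsFinite (i ≫ pullback.snd sX (Spec.map (CommRingCat.ofHom (algebraMap k R))))]
    (L : X.Modules) (hL : PicF.IsInvertible L) :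
    Nonempty ((Scheme.Modules.pullback
        (i ≫ pullback.fst sX (Spec.map (CommRingCat.ofHom (algebraMap k R))))).obj L ≅
      Coh.structureModule Z) := by
  classical
  set g := i ≫ pullback.fst sX (Spec.map (CommRingCat.ofHom (algebraMap k R)))
  set f := i ≫ pullback.snd sX (Spec.map (CommRingCat.ofHom (algebraMap k R)))
  set M := (Scheme.Modules.pullback g).obj L
  have hM : PicF.IsInvertible M := Groth.Agent.PicClLib.isInvertible_pullback g hL
  haveI : IsAffine Z := isAffine_of_isAffineHom f
  let F : Set Z := {z | IsClosed ({z} : Set Z)}
  have hFsub : F ⊆ f ⁻¹' {IsLocalRing.closedPoint R} := fun z hz => by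
    have h1 : IsClosed ({f z} : Set (Spec (CommRingCat.of R))) := by
      have := f.isClosedMap _ hz
      rwa [Set.image_singleton] at this
    have h2 := (PrimeSpectrum.isClosed_singleton_iff_isMaximal (f z)).1 h1
    exact PrimeSpectrum.ext (IsLocalRing.eq_maximalIdeal h2)
  have hF : F.Finite := ((f.finite_preimage_singleton _)).subset hFsub
  obtain ⟨O, s, hFO, hs⟩ := Groth.Agent.InvUfdLib.exists_frame_finset hM (isAffineOpen_top Z) F hF
    (fun _ _ => trivial) (fun x hx y hy hxy => (Set.mem_singleton_iff.1 (hxy.mem_closed hx (Set.mem_singleton x))).symm)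
  have hO : O = ⊤ := eq_top_iff.2 fun z _ => by
    obtain ⟨w, hw, hwc⟩ := (isClosed_closure (s := ({z} : Set Z))).exists_closed_singleton
      (Set.singleton_nonempty z).closure
    exact (specializes_iff_mem_closure.2 hw).mem_open O.isOpen (hFO hwc)
  subst hO
  exact Groth.Agent.InvUfdLib.nonempty_iso_of_frame hs

end Groth.Agent.S13116
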