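import Groth.Statements.S13118
import Groth.Agent.DetNorm.Tensor
-- import your own Groth.Agent.* helpers here

set_option autoImplicit false
universe u
open scoped TensorProduct
open HilbChow

namespace Groth.Agent.S13118

/-- Let A → B be a ring homomorphism making B a finite locally free A-module of constant rank n, and let
M₁, M₂ be locally free B-modules of rank 1. Then, as A-modules, ∧ⁿ_A B ⊗_A ∧ⁿ_A(M₁ ⊗_B M₂) ≅ ∧ⁿ_A M₁
⊗_A ∧ⁿ_A M₂. (The published statement gives a specific, canonical isomorphism and covers any finite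
family M₁, …, M_r, with the (r−1)-st tensor power of ∧ⁿ_A B; this row asserts only that an
isomorphism exists, for two modules, the case from which the general one follows by induction.)
Locally free of rank r is expressed as finitely generated projective with all localisations at
primes of rank r. -/
theorem result
    (A B : Type u) [CommRing A] [CommRing B] [Algebra A B] [Module.Finite A B] [Module.Projective A B]
    (n : ℕ) (hn : ∀ q : PrimeSpectrum A, Module.finrank (Localization.AtPrime q.asIdeal) (LocalizedModule q.asIdeal.primeCompl B) = n)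
    (M₁ M₂ : Type u) [AddCommGroup M₁] [Module B M₁] [Module A M₁] [IsScalarTower A B M₁]
    [AddCommGroup M₂] [Module B M₂] [Module A M₂] [IsScalarTower A B M₂]
    [Module.Finite B M₁] [Module.Projective B M₁] [Module.Finite B M₂] [Module.Projective B M₂]
    (h₁ : ∀ q : PrimeSpectrum B, Module.finrank (Localization.AtPrime q.asIdeal) (LocalizedModule q.asIdeal.primeCompl M₁) = 1)
    (h₂ : ∀ q : PrimeSpectrum B, Module.finrank (Localization.AtPrime q.asIdeal) (LocalizedModule q.asIdeal.primeCompl M₂) = 1) :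
    Nonempty ((⋀[A]^n B) ⊗[A] (⋀[A]^n (M₁ ⊗[B] M₂)) ≃ₗ[A] (⋀[A]^n M₁) ⊗[A] (⋀[A]^n M₂)) := by
  classical
  open Groth.Agent.DetNorm in
  have hdata : ∀ q : PrimeSpectrum A, ∃ a ∉ q.asIdeal, ∃ (u : (Fin n → A) →ₗ[A] B) (v : B →ₗ[A] (Fin n → A))
      (e₁ : M₁) (p₁ : M₁ →ₗ[B] B) (e₂ : M₂) (p₂ : M₂ →ₗ[B] B), u ∘ₗ v = a • LinearMap.id ∧
        v ∘ₗ u = a • LinearMap.id ∧ IsGen (algebraMap A B a) e₁ p₁ ∧ IsGen (algebraMap A B a) e₂ p₂ := by
    intro q
    obtain ⟨a, ha, u, v, huv, hvu⟩ := exists_approx q.asIdeal n (hn q)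
    obtain ⟨a₁, ha₁, e₁, p₁, hg₁⟩ := exists_isGen (A := A) h₁ q.asIdeal
    obtain ⟨a₂, ha₂, e₂, p₂, hg₂⟩ := exists_isGen (A := A) h₂ q.asIdeal
    have hscale : ∀ {M : Type u} [AddCommGroup M] [Module B M] {x y : B} {e : M} {p : M →ₗ[B] B},
        IsGen x e p → IsGen (y * x) e (y • p) := fun {M} _ _ {x y e p} h =>
      ⟨fun m => by rw [LinearMap.smul_apply, smul_eq_mul, mul_smul, h.1, ← mul_smul],
        by rw [LinearMap.smul_apply, smul_eq_mul, h.2]⟩
    refine ⟨a₁ * a₂ * a, q.isPrime.mul_notMem (q.isPrime.mul_notMem ha₁ ha₂) ha, (a₁ * a₂) • u, v, e₁,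
      algebraMap A B (a₂ * a) • p₁, e₂, algebraMap A B (a₁ * a) • p₂, ?_, ?_, ?_, ?_⟩
    · rw [LinearMap.smul_comp, huv, smul_smul]
    · rw [LinearMap.comp_smul, hvu, smul_smul]
    · have := hscale (y := algebraMap A B (a₂ * a)) hg₁
      rwa [← map_mul, show a₂ * a * a₁ = a₁ * a₂ * a by ring] at this
    · have := hscale (y := algebraMap A B (a₁ * a)) hg₂
      rwa [← map_mul, show a₁ * a * a₂ = a₁ * a₂ * a by ring] at this
  choose a ha u v e₁ p₁ e₂ p₂ huv hvu hg₁ hg₂ using hdata
  have htop : Ideal.span (Set.range a) = ⊤ := by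
    by_contra h
    obtain ⟨m, hm, hle⟩ := Ideal.exists_le_maximal _ h
    exact ha ⟨m, hm.isPrime⟩ (hle (Ideal.subset_span ⟨_, rfl⟩))
  obtain ⟨t, ht⟩ := Submodule.mem_span_finite_of_mem_span ((Ideal.eq_top_iff_one _).1 htop)
  choose g hg using fun z : (t : Set A) => ht.1 z.2
  have hspan : Ideal.span (Set.range fun z : (t : Set A) => a (g z)) = ⊤ := by
    rw [show (Set.range fun z : (t : Set A) => a (g z)) = (t : Set A) by
      rw [show (fun z : (t : Set A) => a (g z)) = Subtype.val from funext hg, Subtype.range_coe]]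
    exact (Ideal.eq_top_iff_one _).2 ht.2
  let m := Fintype.card (t : Set A)
  let σ : Fin m → PrimeSpectrum A := fun i => g ((Fintype.equivFin (t : Set A)).symm i)
  have hspan' : Ideal.span (Set.range fun i => a (σ i)) = ⊤ := by
    rw [show (Set.range fun i => a (σ i)) = Set.range fun z : (t : Set A) => a (g z) from
      (Fintype.equivFin (t : Set A)).symm.surjective.range_comp (fun z => a (g z))]
    exact hspan
  have hpow : ∀ N, ∃ r : Fin m → A, ∑ i, r i * a (σ i) ^ N = 1 := fun N => by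
    have h := Ideal.span_pow_eq_top _ hspan' N
    rw [← Set.range_comp] at h
    obtain ⟨r, hr⟩ := Submodule.mem_span_range_iff_exists_fun A |>.1 ((Ideal.eq_top_iff_one _).1 h)
    exact ⟨r, hr⟩
  obtain ⟨r, hr⟩ := hpow n
  obtain ⟨r', hr'⟩ := hpow (2 * n)
  exact Groth.Agent.DetNorm.nonempty_equiv_of_data (Groth.Agent.DetNorm.dual_comm h₁) (fun i => a (σ i)) r r'
    hr hr' (fun i => u (σ i)) (fun i => v (σ i)) (fun i => huv _) (fun i => hvu _)
    (fun i => e₁ (σ i)) (fun i => p₁ (σ i)) (fun i => hg₁ _) (fun i => e₂ (σ i)) (fun i => p₂ (σ i)) (fun i => hg₂ _)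

end Groth.Agent.S13118
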