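import Groth.Statements.S13119
import Groth.Agent.DetNorm.Rank
import Groth.Agent.DetNorm.Power
-- import your own Groth.Agent.* helpers here

set_option autoImplicit false
universe u
open scoped TensorProduct
open HilbChow

namespace Groth.Agent.S13119

/-- Let A → B be a ring homomorphism making B a finite locally free A-module of constant rank n, and
take a B-module M that is locally free of rank k, with k at least 1. Then, as A-modules, ∧^{nk}_A M
≅ (∧ⁿ_A B)^{⊗(k−1)} ⊗_A ∧ⁿ_A(∧^k_B M). (The published statement gives a specific, canonical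
isomorphism, allows k = 0 with the exponent k − 1 read in the Picard group, and has a companion
formula for duals; this row asserts only that an isomorphism exists, for k ≥ 1, since with a
natural-number exponent k = 0 would change the meaning, and omits the dual formula.) Locally free of
rank r is expressed as finitely generated projective with all localisations at primes of rank r. -/
theorem result
    (A B : Type u) [CommRing A] [CommRing B] [Algebra A B] [Module.Finite A B] [Module.Projective A B]
    (n : ℕ) (hn : ∀ q : PrimeSpectrum A, Module.finrank (Localization.AtPrime q.asIdeal) (LocalizedModule q.asIdeal.primeCompl B) = n)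
    (M : Type u) [AddCommGroup M] [Module B M] [Module A M] [IsScalarTower A B M]
    [Module.Finite B M] [Module.Projective B M] (k : ℕ) (hk : 1 ≤ k)
    (hM : ∀ q : PrimeSpectrum B, Module.finrank (Localization.AtPrime q.asIdeal) (LocalizedModule q.asIdeal.primeCompl M) = k) :
    Nonempty ((⋀[A]^(n * k) M) ≃ₗ[A]
      (TensorPower A (k - 1) (⋀[A]^n B)) ⊗[A] (⋀[A]^n (⋀[B]^k M))) := by
  classical
  open Groth.Agent.DetNorm in
  have hdata : ∀ q : PrimeSpectrum A, ∃ a ∉ q.asIdeal, ∃ (u : (Fin n → A) →ₗ[A] B) (v : B →ₗ[A] (Fin n → A))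
      (U : (Fin k → B) →ₗ[B] M) (V : M →ₗ[B] (Fin k → B)), u ∘ₗ v = a • LinearMap.id ∧
        v ∘ₗ u = a • LinearMap.id ∧ U ∘ₗ V = algebraMap A B a • LinearMap.id ∧
        V ∘ₗ U = algebraMap A B a • LinearMap.id := by
    intro q
    obtain ⟨a, ha, u, v, huv, hvu⟩ := exists_approx q.asIdeal n (hn q)
    obtain ⟨b, hb, U, V, hUV, hVU⟩ := exists_basis_rank (A := A) k hM q.asIdeal
    refine ⟨a * b, q.isPrime.mul_notMem ha hb, u, b • v, U, algebraMap A B a • V, ?_, ?_, ?_, ?_⟩
    · rw [LinearMap.comp_smul, huv, smul_smul, mul_comm]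
    · rw [LinearMap.smul_comp, hvu, smul_smul, mul_comm]
    · rw [LinearMap.comp_smul, hUV, smul_smul, map_mul]
    · rw [LinearMap.smul_comp, hVU, smul_smul, map_mul]
  choose a ha u v U V huv hvu hUV hVU using hdata
  have htop : Ideal.span (Set.range a) = ⊤ := by
    by_contra h
    obtain ⟨m, hm, hle⟩ := Ideal.exists_le_maximal _ h
    exact ha ⟨m, hm.isPrime⟩ (hle (Ideal.subset_span ⟨_, rfl⟩))
  obtain ⟨t, ht⟩ := Submodule.mem_span_finite_of_mem_span ((Ideal.eq_top_iff_one _).1 htop)
  choose g hg using fun z : (t : Set A) => ht.1 z.2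
  let σ : Fin (Fintype.card (t : Set A)) → PrimeSpectrum A := fun i => g ((Fintype.equivFin (t : Set A)).symm i)
  have hspan : Ideal.span (Set.range fun i => a (σ i)) = ⊤ := by
    rw [show (Set.range fun i => a (σ i)) = Set.range fun z : (t : Set A) => a (g z) from
      (Fintype.equivFin (t : Set A)).symm.surjective.range_comp (fun z => a (g z)),
      show (Set.range fun z : (t : Set A) => a (g z)) = (t : Set A) by
        rw [show (fun z : (t : Set A) => a (g z)) = Subtype.val from funext hg, Subtype.range_coe]]
    exact (Ideal.eq_top_iff_one _).2 ht.2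
  exact Groth.Agent.DetNorm.nonempty_equiv_of_local_bases k hk (fun i => a (σ i)) hspan
    (fun i => u (σ i)) (fun i => v (σ i)) (fun i => huv _) (fun i => hvu _)
    (fun i => U (σ i)) (fun i => V (σ i)) (fun i => hUV _) (fun i => hVU _)

end Groth.Agent.S13119
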