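import Groth.Statements.S13155
import Mathlib

set_option autoImplicit false
universe u
open CAlg

namespace Groth.Agent.S13155

/-- Let R be a discrete valuation ring of characteristic zero with uniformizer π, and A a Noetherian
integrally closed domain which is an R-algebra with injective structure map and in which πA is a
prime ideal (X = Spec A is normal, flat over R, with integral special fibre). Let m ≥ 1 and let f ∈
A be invertible in A[1/π] (so Z^m = f defines a μ_m-torsor over the generic fibre), such that S =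
A[1/π][Z]/(Z^m − f) is an integral domain and, writing B for the integral closure of A in S (the
normalization of X in that cover), πB is a prime ideal of B (the normalization has integral special
fibre). Then f is, up to a unit of A, an m-th power of a power of π: f = π^{mq}·u with q ≥ 0 and u ∈
A^×, so that the cover extends to the μ_m-torsor Z^m = u over all of X. (The published statement is
the existence and uniqueness of the extending μ_m-torsor over a normal faithfully flat R-scheme with
integral fibres, R containing a primitive m-th root of unity; this row is the affine computation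
that carries the proof.) -/
theorem result (R : Type u) [CommRing R]
    [IsDomain R] [IsDiscreteValuationRing R] [CharZero R] (ϖ : R) (hϖ : Irreducible ϖ)
    (A : Type u) [CommRing A] [IsDomain A] [IsNoetherianRing A] [IsIntegrallyClosed A] [Algebra R A]
    (hinj : Function.Injective (algebraMap R A)) (hprime : (Ideal.span {algebraMap R A ϖ}).IsPrime)
    (m : ℕ) (hm : 0 < m) (f : A) (hf : IsUnit (algebraMap A (Localization.Away (algebraMap R A ϖ)) f))
    [IsDomain (AdjoinRoot (Polynomial.X ^ m - Polynomial.C (algebraMap A (Localization.Away (algebraMap R A ϖ)) f)))]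
    (hsp : (Ideal.span {algebraMap A (integralClosure A
        (AdjoinRoot (Polynomial.X ^ m - Polynomial.C (algebraMap A (Localization.Away (algebraMap R A ϖ)) f))))
          (algebraMap R A ϖ)}).IsPrime) :
    ∃ (q : ℕ) (u : Aˣ), f = algebraMap R A ϖ ^ (m * q) * (u : A) := by
  classical
  set ϖ' := algebraMap R A ϖ with hϖ'
  set Af := Localization.Away ϖ'
  have hne : ϖ' ≠ 0 := fun h => hϖ.ne_zero (hinj (h.trans (map_zero _).symm))
  have hp : Prime ϖ' := (Ideal.span_singleton_prime hne).1 hprime
  obtain ⟨n, h, hh⟩ : ∃ (n : ℕ) (h : A), f * h = ϖ' ^ n := by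
    obtain ⟨g, hg⟩ := hf.exists_right_inv
    obtain ⟨⟨r, s, n, hs⟩, hrs⟩ := IsLocalization.surj (Submonoid.powers ϖ') g
    refine ⟨n, r, IsLocalization.injective Af (Submonoid.powers_le.2 (mem_nonZeroDivisors_of_ne_zero hne)) ?_⟩
    rw [map_mul, ← hrs, ← mul_assoc, hg, one_mul]
    exact congrArg _ hs.symm
  have key : ∀ (n : ℕ) (f h : A), f * h = ϖ' ^ n → ∃ (a : ℕ) (u : Aˣ), f = ϖ' ^ a * (u : A) := by
    intro n
    induction n with
    | zero => intro f h e; exact ⟨0, (IsUnit.of_mul_eq_one h (by simpa using e)).unit, by simp⟩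
    | succ n ih =>
      intro f h e
      rcases hp.dvd_or_dvd (a := f) (b := h) ⟨ϖ' ^ n, by rw [e, pow_succ']⟩ with ⟨g, rfl⟩ | ⟨g, rfl⟩
      · obtain ⟨a, u, rfl⟩ := ih g h (mul_left_cancel₀ hne (by rw [← mul_assoc, e, pow_succ']))
        exact ⟨a + 1, u, by rw [pow_succ', mul_assoc]⟩
      · exact ih f g (mul_left_cancel₀ hne (by rw [mul_left_comm, e, pow_succ']))
  obtain ⟨a, u, rfl⟩ := key n f h hh
  refine ⟨a / m, u, ?_⟩
  suffices hr : a % m = 0 by rw [Nat.mul_div_cancel' (Nat.dvd_of_mod_eq_zero hr)]
  by_contra hr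
  generalize hc : algebraMap A (Localization.Away ϖ') (ϖ' ^ a * (u : A)) = c at *
  set S := AdjoinRoot (Polynomial.X ^ m - Polynomial.C c)
  set B := integralClosure A S
  set q := a / m
  set r := a % m
  have hr' : r < m := Nat.mod_lt _ hm
  have hπu : IsUnit (algebraMap A S ϖ') := by
    rw [IsScalarTower.algebraMap_apply A Af S]
    exact (IsLocalization.Away.algebraMap_isUnit ϖ').map _
  obtain ⟨v, hv⟩ := hπu.exists_left_inv
  let W : S := v ^ q * AdjoinRoot.root _
  have hroot : (AdjoinRoot.root _ : S) ^ m = algebraMap A S (ϖ' ^ a * (u : A)) := by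
    have h := AdjoinRoot.eval₂_root (Polynomial.X ^ m - Polynomial.C c)
    rw [Polynomial.eval₂_sub, Polynomial.eval₂_pow, Polynomial.eval₂_X, Polynomial.eval₂_C, sub_eq_zero] at h
    rw [h, IsScalarTower.algebraMap_apply A Af S]
    exact congrArg _ hc.symm
  have hW : W ^ m = algebraMap A S (ϖ' ^ r * (u : A)) := by
    have ha : a = m * q + r := (Nat.div_add_mod a m).symm
    rw [mul_pow, hroot, ha, map_mul, map_mul, map_pow, map_pow, pow_add, ← pow_mul, mul_comm q m,
      ← mul_assoc, ← mul_assoc, ← mul_pow, hv, one_pow, one_mul]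
  have hWint : IsIntegral A W := IsIntegral.of_pow hm (hW ▸ isIntegral_algebraMap)
  let WB : B := ⟨W, hWint⟩
  let P : Ideal B := Ideal.span {algebraMap A B ϖ'}
  have hWB : WB ^ m = algebraMap A B (ϖ' ^ r * (u : A)) := Subtype.ext hW
  have hmem : WB ∈ P := by
    refine hsp.mem_of_pow_mem m ?_
    rw [hWB, map_mul, map_pow]
    exact P.mul_mem_right _ (P.pow_mem_of_mem (Ideal.mem_span_singleton_self _) r (Nat.pos_of_ne_zero hr))
  obtain ⟨W', hW'⟩ := Ideal.mem_span_singleton.1 hmem
  refine hsp.ne_top (Ideal.span_singleton_eq_top.2 ?_)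
  have h1 : algebraMap A B ϖ' ^ r * (algebraMap A B ϖ' ^ (m - r) * W' ^ m) = algebraMap A B ϖ' ^ r * algebraMap A B (u : A) := by
    rw [← mul_assoc, ← pow_add, Nat.add_sub_cancel' hr'.le, ← mul_pow, ← hW', hWB, map_mul, map_pow]
  have hπB : algebraMap A B ϖ' ≠ 0 := fun h0 => hπu.ne_zero (congrArg Subtype.val h0)
  have h2 := mul_left_cancel₀ (pow_ne_zero r hπB) h1
  refine isUnit_of_dvd_unit ?_ (u.isUnit.map (algebraMap A B))
  rw [← h2]
  exact dvd_mul_of_dvd_left (dvd_pow_self _ (Nat.sub_ne_zero_of_lt hr')) _

end Groth.Agent.S13155
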