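import Groth.Statements.S13158
import Mathlib

set_option autoImplicit false
universe u
open CAlg

namespace Groth.Agent.S13158

/-- Let R be a discrete valuation ring of characteristic zero whose maximal ideal contains the prime
number p, let n ≥ 1, and let λ be a nonzero element of R such that λ^(p^(n−1)(p−1)) divides p (the
condition v(p) ≥ p^(n−1)(p−1)·v(λ) under which the polynomial ((1 + λT)^(p^n) − 1)/λ^(p^n) has
coefficients in R). Let A be an integrally closed integral domain which is a faithfully flat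
R-algebra. Then for every unit x of A, λ^(p^n) divides x^(p^n) − 1 in A if and only if λ divides x −
1 in A. -/
theorem result (R : Type u) [CommRing R]
    [IsDomain R] [IsDiscreteValuationRing R] [CharZero R] (p n : ℕ) [Fact p.Prime] (hn : 1 ≤ n)
    (hp : (p : R) ∈ IsLocalRing.maximalIdeal R) (lam : R) (hlam : lam ≠ 0)
    (hstar : lam ^ (p ^ (n - 1) * (p - 1)) ∣ (p : R))
    (A : Type u) [CommRing A] [IsDomain A] [IsIntegrallyClosed A] [Algebra R A] [Module.FaithfullyFlat R A]
    (x : Aˣ) :
    (algebraMap R A lam ^ p ^ n ∣ (x : A) ^ p ^ n - 1) ↔ (algebraMap R A lam ∣ (x : A) - 1) := by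
  classical
  have hPF : p.Prime := Fact.out
  set N := p ^ n with hN
  have hexp : ∀ k j : ℕ, p ^ (j + k) - p ^ j ≤ k * (p ^ (j + k - 1) * (p - 1)) := by
    intro k j
    induction k with
    | zero => simp
    | succ k ih =>
      have h1 : p ^ (j + (k + 1)) = p ^ (j + k) * (p - 1) + p ^ (j + k) := by
        rw [show j + (k + 1) = j + k + 1 by omega, pow_succ, ← Nat.mul_add_one, Nat.sub_add_cancel hPF.one_le]
      have h2 : p ^ j ≤ p ^ (j + k) := Nat.pow_le_pow_right hPF.pos (by omega)
      have h3 : k * (p ^ (j + k - 1) * (p - 1)) ≤ k * (p ^ (j + k) * (p - 1)) :=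
        Nat.mul_le_mul_left _ (Nat.mul_le_mul_right _ (Nat.pow_le_pow_right hPF.pos (by omega)))
      rw [h1, show j + (k + 1) - 1 = j + k by omega, Nat.succ_mul]
      omega
  have hdiv : ∀ i : ℕ, ∃ b : R, 1 ≤ i → i ≤ N → (N.choose i : R) * lam ^ i = lam ^ N * b := by
    intro i
    by_cases hi : 1 ≤ i ∧ i ≤ N
    swap
    · exact ⟨0, fun h1 h2 => absurd ⟨h1, h2⟩ hi⟩
    obtain ⟨j, m, hm, rfl⟩ := Nat.exists_eq_pow_mul_and_not_dvd (n := i) (by omega) p hPF.ne_one
    have hj : j ≤ n := by
      have h : p ^ j ≤ p ^ n := le_trans (Nat.le_mul_of_pos_right _ (Nat.pos_of_ne_zero fun h => hm (by simp [h]))) hi.2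
      exact (Nat.pow_le_pow_iff_right hPF.one_lt).1 h
    have h1 : p ^ (n - j) ∣ N.choose (p ^ j * m) := by
      have h2 : p ^ n ∣ N.choose (p ^ j * m) * (p ^ j * m) := by
        have h3 := Nat.add_one_mul_choose_eq (N - 1) (p ^ j * m - 1)
        rw [Nat.sub_add_cancel (Nat.one_le_pow _ _ hPF.pos), Nat.sub_add_cancel hi.1] at h3
        exact ⟨_, h3.symm⟩
      have h4 : p ^ (n - j) * p ^ j ∣ (N.choose (p ^ j * m) * m) * p ^ j := by
        rw [← pow_add, Nat.sub_add_cancel hj]
        rwa [mul_assoc, mul_comm m]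
      exact (Nat.Coprime.pow_left _ ((hPF.coprime_iff_not_dvd).2 hm)).dvd_of_dvd_mul_right
        (Nat.dvd_of_mul_dvd_mul_right (pow_pos hPF.pos _) h4)
    obtain ⟨c, hc⟩ := h1
    have h5 : lam ^ N ∣ (p : R) ^ (n - j) * lam ^ (p ^ j * m) := by
      refine dvd_trans ?_ (mul_dvd_mul_right (pow_dvd_pow_of_dvd hstar (n - j)) _)
      rw [← pow_mul, ← pow_add]
      refine pow_dvd_pow _ ?_
      have h6 := hexp (n - j) j
      rw [Nat.add_sub_cancel' hj, mul_comm (n - j)] at h6
      have h7 : p ^ j ≤ p ^ j * m := Nat.le_mul_of_pos_right _ (Nat.pos_of_ne_zero fun h => hm (by simp [h]))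
      omega
    obtain ⟨d, hd⟩ := h5
    refine ⟨(c : R) * d, fun _ _ => ?_⟩
    rw [hc, Nat.cast_mul, Nat.cast_pow, mul_left_comm, ← hd]
    ring
  choose b hb using hdiv
  set L := algebraMap R A lam with hL
  have hL0 : L ≠ 0 := fun h => hlam ((FaithfulSMul.algebraMap_injective R A) (h.trans (map_zero _).symm))
  have hbA : ∀ i ∈ Finset.Icc 1 N, (N.choose i : A) * L ^ i = L ^ N * algebraMap R A (b i) := by
    intro i hi
    rw [Finset.mem_Icc] at hi
    have h := congrArg (algebraMap R A) (hb i hi.1 hi.2)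
    rwa [map_mul, map_mul, map_pow, map_pow, map_natCast] at h
  have hbinom : ∀ {B : Type u} [CommRing B] (φ : A →+* B) (y : B),
      (1 + φ L * y) ^ N - 1 = φ L ^ N * ∑ i ∈ Finset.Icc 1 N, φ (algebraMap R A (b i)) * y ^ i := by
    intro B _ φ y
    rw [add_comm 1, add_pow, Finset.range_eq_Ico, Finset.sum_eq_sum_Ico_succ_bot (Nat.succ_pos _),
      show Finset.Ico (0 + 1) (N + 1) = Finset.Icc 1 N by ext; simp]
    simp only [pow_zero, one_pow, mul_one, Nat.choose_zero_right, Nat.cast_one, add_sub_cancel_left,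
      Finset.mul_sum]
    refine Finset.sum_congr rfl fun i hi => ?_
    have h := congrArg φ (hbA i hi)
    rw [map_mul, map_mul, map_pow, map_pow, map_natCast] at h
    rw [mul_pow]
    linear_combination y ^ i * h
  have hN1 : 1 ≤ N := Nat.one_le_pow _ _ hPF.pos
  constructor
  · rintro ⟨c, hc⟩
    let F := FractionRing A
    let φ := algebraMap A F
    have hφ0 : φ L ≠ 0 := fun h => hL0 ((IsFractionRing.injective A F) (h.trans (map_zero _).symm))
    let y : F := (φ x - 1) / φ L
    have hy : φ L * y = φ x - 1 := mul_div_cancel₀ _ hφ0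
    have hroot : ∑ i ∈ Finset.Icc 1 N, φ (algebraMap R A (b i)) * y ^ i = φ c := by
      refine mul_left_cancel₀ (pow_ne_zero N hφ0) ?_
      rw [← hbinom φ y, hy, add_sub_cancel, ← map_pow, ← map_pow, ← map_one φ, ← map_sub, hc, map_mul]
    have hbN : algebraMap R A (b N) = 1 := by
      refine mul_left_cancel₀ (pow_ne_zero N hL0) ?_
      rw [← hbA N (by simp [hN1]), Nat.choose_self, Nat.cast_one, one_mul, mul_one]
    let H : Polynomial A :=
      (∑ i ∈ Finset.Ico 1 N, Polynomial.C (algebraMap R A (b i)) * Polynomial.X ^ i) - Polynomial.C c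
    have hdeg : H.degree < N := by
      refine (Polynomial.degree_sub_le _ _).trans_lt (max_lt ?_ ?_)
      · refine (Polynomial.degree_sum_le _ _).trans_lt ((Finset.sup_lt_iff (WithBot.bot_lt_coe _)).2 fun i hi => ?_)
        exact (Polynomial.degree_C_mul_X_pow_le i _).trans_lt (WithBot.coe_lt_coe.2 (Finset.mem_Ico.1 hi).2)
      · exact Polynomial.degree_C_le.trans_lt (WithBot.coe_lt_coe.2 hN1)
    have hint : IsIntegral A y := by
      refine ⟨Polynomial.X ^ N + H, Polynomial.monic_X_pow_add hdeg, ?_⟩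
      rw [← Finset.insert_Ico_right_eq_Ico_add_one hN1 |>.trans (by ext; simp : Finset.Ico 1 (N + 1) = Finset.Icc 1 N),
        Finset.sum_insert (by simp), hbN, map_one, one_mul] at hroot
      simp only [H, Polynomial.eval₂_add, Polynomial.eval₂_sub, Polynomial.eval₂_finset_sum, Polynomial.eval₂_mul,
        Polynomial.eval₂_C, Polynomial.eval₂_X_pow]
      linear_combination hroot
    obtain ⟨y', hy'⟩ := (isIntegrallyClosed_iff F).1 inferInstance hint
    refine ⟨y', IsFractionRing.injective A F ?_⟩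
    rw [map_sub, map_one, map_mul]
    show φ x - 1 = φ L * φ y'
    rw [show φ y' = y from hy', hy]
  · rintro ⟨y, hy⟩
    have hx : (x : A) = 1 + L * y := by rw [← hy]; ring
    have h := hbinom (RingHom.id A) y
    rw [RingHom.id_apply] at h
    rw [hx, h]
    exact dvd_mul_right _ _

end Groth.Agent.S13158
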