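import Groth.Statements.S13161
import Mathlib.RingTheory.Localization.BaseChange

set_option autoImplicit false
universe u
open scoped TensorProduct
open CAlg

namespace Groth.Agent.S13161

/-- Let R be a discrete valuation ring with fraction field K, A an R-algebra which is semireflexive as
an R-module (the map to its double dual is injective: every nonzero a ∈ A has an R-linear form f : A
→ R with f(a) ≠ 0), and B an A-algebra which is finitely generated as an A-module and flat over R.
Suppose B ⊗ K is semireflexive as a module over A ⊗ K, which for such B amounts to: every nonzero b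
∈ B has an A-linear map g : B → A ⊗_R K with g(b) ≠ 0. Then B is semireflexive as an R-module: every
nonzero b ∈ B has an R-linear form h : B → R with h(b) ≠ 0. (The published statement phrases the
hypothesis on B_K as an A_K-module; for B flat over R and finite over A this is the elementwise
condition used here.) -/
theorem result (R : Type u) [CommRing R] [IsDomain R]
    [IsDiscreteValuationRing R] (K : Type u) [Field K] [Algebra R K] [IsFractionRing R K]
    (A B : Type u) [CommRing A] [CommRing B] [Algebra R A] [Algebra R B] [Algebra A B] [IsScalarTower R A B]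
    [Module.Finite A B] [Module.Flat R B]
    (hA : ∀ a : A, a ≠ 0 → ∃ f : A →ₗ[R] R, f a ≠ 0)
    (hBK : ∀ b : B, b ≠ 0 → ∃ g : B →ₗ[A] A ⊗[R] K, g b ≠ 0) :
    ∀ b : B, b ≠ 0 → ∃ h : B →ₗ[R] R, h b ≠ 0 := by
  classical
  intro b hb
  obtain ⟨g, hg⟩ := hBK b hb
  obtain ⟨s, hs⟩ := Module.Finite.fg_top (R := A) (M := B)
  haveI : IsLocalization (Algebra.algebraMapSubmonoid A (nonZeroDivisors R)) (A ⊗[R] K) :=
    inferInstance
  obtain ⟨r, hr⟩ := IsLocalization.exist_integer_multiples_of_finset (Algebra.algebraMapSubmonoid A (nonZeroDivisors R)) (s.image g)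
  let P : Submodule A (A ⊗[R] K) := LinearMap.range (Algebra.linearMap A (A ⊗[R] K))
  have hle : ∀ x : B, ((r : A) • g) x ∈ P := by
    intro x
    have hx : x ∈ Submodule.span A (s : Set B) := hs ▸ Submodule.mem_top
    have : Submodule.span A (s : Set B) ≤ P.comap ((r : A) • g) := Submodule.span_le.2 fun y hy => by
      obtain ⟨w, hw⟩ := hr (g y) (Finset.mem_image_of_mem g hy)
      exact ⟨w, hw⟩
    exact this hx
  have hinj : Function.Injective (algebraMap A (A ⊗[R] K)) := by
    refine IsLocalization.injective _ (M := Algebra.algebraMapSubmonoid A (nonZeroDivisors R)) ?_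
    rintro _ ⟨t, ht, rfl⟩
    refine mem_nonZeroDivisors_iff_right.2 fun z hz => ?_
    by_contra h0
    obtain ⟨f, hf⟩ := hA z h0
    apply hf
    have : f (t • z) = 0 := by rw [Algebra.smul_def, mul_comm, hz, map_zero]
    rw [map_smul, smul_eq_mul] at this
    exact (mul_eq_zero.1 this).resolve_left (nonZeroDivisors.ne_zero ht)
  let e : A ≃ₗ[A] ↥P := LinearEquiv.ofInjective (Algebra.linearMap A (A ⊗[R] K)) hinj
  let g' : B →ₗ[A] A := e.symm.toLinearMap ∘ₗ LinearMap.codRestrict P ((r : A) • g) hle
  have hu : IsUnit (algebraMap A (A ⊗[R] K) (r : A)) := IsLocalization.map_units _ r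
  have hne : g' b ≠ 0 := by
    intro h0
    apply hg
    have h1 : LinearMap.codRestrict P ((r : A) • g) hle b = 0 := e.symm.map_eq_zero_iff.1 h0
    have h2 : (r : A) • g b = 0 := congrArg Subtype.val h1
    rw [Algebra.smul_def] at h2
    exact hu.mul_right_eq_zero.1 h2
  obtain ⟨f, hf⟩ := hA _ hne
  exact ⟨f ∘ₗ g'.restrictScalars R, hf⟩

end Groth.Agent.S13161
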