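import Groth.Statements.S13169
import Groth.Agent.Lib.TwistCover

set_option autoImplicit false
universe u
open AlgebraicGeometry
open ZeroCyc

namespace Groth.Agent.S13169

/-- Let B be a graded R-algebra generated by homogeneous elements f_1, …, f_s of positive degrees d_1,
…, d_s, let l be the least common multiple of the d_i and X = Proj B. For n = a l with a ≥ 1, the
twisting sheaf O_X(n) is ample and is generated by its global sections b/1, b ∈ B_n. -/
theorem result {R A : Type u} [CommRing R] [CommRing A] [Algebra R A] (𝒜 : ℕ → Submodule R A) [GradedAlgebra 𝒜]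
    {s : ℕ} (f : Fin s → A) (deg : Fin s → ℕ) (hdeg : ∀ i, 0 < deg i) (hf : ∀ i, f i ∈ 𝒜 (deg i))
    (hgen : Algebra.adjoin R (Set.range f) = ⊤) (a : ℕ) (ha : 0 < a) :
    CohB1.IsAmple (Twist.twist 𝒜 ((a * Finset.univ.lcm deg : ℕ) : ℤ)) ∧
      ProjUP.GeneratedBy (Twist.twist 𝒜 ((a * Finset.univ.lcm deg : ℕ) : ℤ))
        (fun b : 𝒜 (a * Finset.univ.lcm deg) =>
          (Twist.globalOf 𝒜 b : ProjUP.Γm (Twist.twist 𝒜 ((a * Finset.univ.lcm deg : ℕ) : ℤ)))) := by
  have hcov := Groth.Agent.S13168.result 𝒜 f deg hdeg hf hgen a ha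
  have hl : 0 < Finset.univ.lcm deg := Nat.pos_of_ne_zero (Finset.lcm_ne_zero_iff.2 fun i _ => (hdeg i).ne')
  have : CompactSpace (Proj 𝒜) := by
    have hc : (⨆ i : Fin s, Proj.basicOpen 𝒜 (f i)) = ⊤ :=
      Proj.iSup_basicOpen_eq_top' 𝒜 f (fun i => ⟨_, hf i⟩) (eq_top_iff.2 fun x hxt => by
        clear hxt
        have hx : x ∈ Algebra.adjoin R (Set.range f) := hgen ▸ Algebra.mem_top
        induction hx using Algebra.adjoin_induction with
        | mem c hc => exact Algebra.subset_adjoin hc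
        | algebraMap r => exact Subalgebra.algebraMap_mem _ (⟨algebraMap R A r, SetLike.algebraMap_mem_graded 𝒜 r⟩ : 𝒜 0)
        | add _ _ _ _ h h' => exact add_mem h h'
        | mul _ _ _ _ h h' => exact mul_mem h h')
    constructor
    rw [show (Set.univ : Set (Proj 𝒜)) = ⋃ i, ((Proj.basicOpen 𝒜 (f i) : (Proj 𝒜).Opens) : Set (Proj 𝒜)) from by
      rw [← TopologicalSpace.Opens.coe_iSup, hc]; rfl]
    exact isCompact_iUnion fun i => (Proj.isAffineOpen_basicOpen 𝒜 (f i) (hf i) (hdeg i)).isCompact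
  exact ⟨Groth.Agent.TwistCover.isAmple_of_cover (Nat.mul_pos ha hl) hcov, Groth.Agent.TwistCover.generatedBy_of_cover hcov⟩

end Groth.Agent.S13169
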