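import Groth.Statements.S13177
import Groth.Agent.SGA1Q.Radicial

set_option autoImplicit false
universe u
open CategoryTheory CategoryTheory.Limits AlgebraicGeometry
open ZeroCyc

namespace Groth.Agent.S13177

/-- Let a finite group G act on a scheme X with quotient q : X → Y (affine, G-invariant, O_Y = the
invariant sections), let i : Z → X be a G-stable closed subscheme with the induced action and r : Z
→ W a quotient of Z by G, and let q(Z) be the scheme-theoretic image of Z in Y. Then the morphism W
→ q(Z) through which Z → q(Z) factors via r is a schematically dominant universal homeomorphism.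
(The published statement assumes the quotient of X exists; here both quotients are hypotheses.) -/
theorem result {X Y Z W : Scheme.{u}} {G : Type u} [Group G] [Finite G]
    (ρ : G →* Aut X) (q : X ⟶ Y) (hquot : SGA1.IsQuot ρ q)
    (i : Z ⟶ X) [IsClosedImmersion i] (ρZ : G →* Aut Z) (hρZ : ∀ σ : G, (ρZ σ).hom ≫ i = i ≫ (ρ σ).hom)
    (r : Z ⟶ W) (hr : SGA1.IsQuot ρZ r)
    (m : W ⟶ (i ≫ q).ker.subscheme) (hm : r ≫ m ≫ (i ≫ q).ker.subschemeι = i ≫ q) :
    FlatMor.IsUnivHomeo m ∧ IsSchemeTheoreticallyDominant m := by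
  have : IsIntegralHom q := SGA1Q.isIntegralHom hquot
  have : Surjective r := ⟨SGA1Q.surjective hr⟩
  have hfac : r ≫ m = (i ≫ q).toImage := by
    rw [← cancel_mono (i ≫ q).ker.subschemeι, Category.assoc, hm]
    exact (i ≫ q).toImage_imageι.symm
  have hc : UniversallyClosed (r ≫ m ≫ (i ≫ q).ker.subschemeι) := by rw [hm]; infer_instance
  have : UniversallyClosed (r ≫ m) := by
    rw [← Category.assoc] at hc
    exact MorphismProperty.of_postcomp (W := @UniversallyClosed) (W' := @IsSeparated) (r ≫ m)
      (i ≫ q).ker.subschemeι inferInstance hc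
  have : UniversallyClosed m := UniversallyClosed.of_comp_surjective r m
  have : IsDominant (r ≫ m) := hfac ▸ inferInstance
  have : Surjective m := ⟨fun y => by
    have hd := (r ≫ m).denseRange.closure_range
    rw [(r ≫ m).isClosedMap.isClosed_range.closure_eq] at hd
    obtain ⟨x, hx⟩ := hd.ge (Set.mem_univ y)
    exact ⟨r x, hx⟩⟩
  have : UniversallyInjective m := SGA1Q.universallyInjective_of_quot hr m fun Ω _ _ a b hab => by
    have h1 := congrArg (· ≫ (i ≫ q).ker.subschemeι) hab
    simp only [Category.assoc, hm] at h1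
    obtain ⟨g, hg⟩ := SGA1Q.exists_smul_of_geometric hquot Ω (a ≫ i) (b ≫ i) (by simpa only [Category.assoc] using h1)
    refine ⟨g, ?_⟩
    rw [← cancel_mono i, Category.assoc, hρZ, ← Category.assoc, hg]
  refine ⟨Groth.Agent.MorLib.isUnivHomeo_of_universallyClosed m, ⟨le_bot_iff.1 ?_⟩⟩
  refine (Scheme.Hom.le_ker_comp r m).trans ?_
  rw [hfac]
  have hq : QuasiCompact (i ≫ q) := inferInstance
  refine Scheme.IdealSheafData.le_of_iSup_eq_top (fun U : Y.affineOpens => ⟨(i ≫ q).imageι ⁻¹ᵁ U.1, U.2.preimage _⟩) ?_ fun U => ?_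
  · exact top_le_iff.1 fun y _ => by
      obtain ⟨U, hU, hy, -⟩ := exists_isAffineOpen_mem_and_subset (x := (i ≫ q).imageι y) (U := ⊤) trivial
      exact TopologicalSpace.Opens.mem_iSup.2 ⟨⟨U, hU⟩, hy⟩
  · rw [Scheme.Hom.ker_apply, (RingHom.injective_iff_ker_eq_bot _).1 (Scheme.Hom.toImage_app_injective (i ≫ q) U)]
    exact bot_le

end Groth.Agent.S13177
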