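import Groth.Statements.S13179
import Groth.Agent.SGA1Q.QuotNorm
import Groth.Agent.S4418
import Groth.Agent.S4419

set_option autoImplicit false
universe u
open CategoryTheory CategoryTheory.Limits AlgebraicGeometry
open ZeroCyc

namespace Groth.Agent.S13179

/-- Let S be a Noetherian scheme, X → S projective and G a finite group acting on X by S-automorphisms.
Then a quotient q : X → X/G by G exists (affine, G-invariant, O_{X/G} = invariant sections) with X/G
→ S projective. -/
theorem result {X S : Scheme.{u}} (f : X ⟶ S) [IsNoetherian S]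
    {G : Type u} [Group G] [Finite G] (ρ : G →* Aut X) (hρ : ∀ σ : G, (ρ σ).hom ≫ f = f)
    (hf : RelProj.IsProjective f) :
    ∃ (Y : Scheme.{u}) (q : X ⟶ Y) (h : Y ⟶ S), q ≫ h = f ∧ SGA1.IsQuot ρ q ∧ RelProj.IsProjective h := by
  obtain ⟨hqp, hprop⟩ := Groth.Agent.S4418.result f hf
  haveI := hprop
  obtain ⟨Y, q, h, hh, hq, hY⟩ := SGA1Q.exists_quasiProjective_quotient f ρ hρ hqp
  refine ⟨Y, q, h, hh, hq, ?_⟩
  haveI : IsSeparated h := (SGA1Q.isSeparated_iff_of_isQuot hq hh).1 inferInstance
  haveI : LocallyOfFiniteType h := hY.1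
  haveI : QuasiCompact h := hY.2.1
  haveI : Surjective q := ⟨SGA1Q.surjective hq⟩
  haveI : UniversallyClosed (q ≫ h) := by rw [hh]; infer_instance
  haveI : UniversallyClosed h := UniversallyClosed.of_comp_surjective (f := q) (g := h)
  haveI : IsProper h := ⟨⟩
  exact Groth.Agent.S4419.result (Or.inr inferInstance) h hY

end Groth.Agent.S13179
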