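import Groth.Statements.S13181
import Groth.Agent.ProjInv.Basic

set_option autoImplicit false
universe u
open CategoryTheory CategoryTheory.Limits AlgebraicGeometry
open ZeroCyc

namespace Groth.Agent.S13181

/-- Over an affine base Spec R, let B be a graded R-algebra generated by its degree-one part and let a
finite group G act on B by graded R-algebra automorphisms, with ring of invariants C = B^G (graded
by C_n = B_n ∩ B^G, given here as a graded ring with an injective graded map ι onto the invariants).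
Let ρ be the induced action of G on X = Proj B (on each chart D_+(σf) → D_+(f) it is Spec of b/f^k ↦
σ(b)/σ(f)^k) and π : Proj B → Proj C the morphism induced by ι (on D_+(ι c) → D_+(c) it is Spec of
C_(c) → B_(ι c)). Then π is a quotient of X by G: affine, G-invariant, with O_{Proj C} the
G-invariant sections of O_X. (The published statement is over a general base scheme with a
quasi-coherent graded algebra and includes the existence of the quotient; this row is its
affine-local content, with ρ and π characterised chartwise.) -/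
theorem result {R A : Type u} [CommRing R] [CommRing A] [Algebra R A] (𝒜 : ℕ → Submodule R A) [GradedAlgebra 𝒜]
    (hgen : Algebra.adjoin R (𝒜 1 : Set A) = ⊤)
    {G : Type u} [Group G] [Finite G] [MulSemiringAction G A]
    (hGR : ∀ (σ : G) (r : R), σ • algebraMap R A r = algebraMap R A r)
    (hGdeg : ∀ (σ : G) (i : ℕ) (a : A), a ∈ 𝒜 i → σ • a ∈ 𝒜 i)
    {C : Type u} [CommRing C] [Algebra R C] (𝒞 : ℕ → Submodule R C) [GradedAlgebra 𝒞]
    (ι : C →ₐ[R] A) (hι : Function.Injective ι)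
    (hιdeg : ∀ (i : ℕ) (a : A), a ∈ (𝒞 i).map ι.toLinearMap ↔ (a ∈ 𝒜 i ∧ ∀ σ : G, σ • a = a))
    (ρ : G →* Aut (Proj 𝒜))
    (hρ : ∀ (σ : G) (n : ℕ) (f : A) (hn : 0 < n) (hf : f ∈ 𝒜 n)
      (θ : CommRingCat.of (HomogeneousLocalization.Away 𝒜 f) ⟶ CommRingCat.of (HomogeneousLocalization.Away 𝒜 (σ • f))),
      (algebraMap (HomogeneousLocalization.Away 𝒜 (σ • f)) (Localization.Away (σ • f))).comp θ.hom =
        (Localization.awayMap (MulSemiringAction.toRingHom G A σ) f).comp
          (algebraMap (HomogeneousLocalization.Away 𝒜 f) (Localization.Away f)) →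
      Proj.awayι 𝒜 (σ • f) (hGdeg σ n f hf) hn ≫ (ρ σ).inv = Spec.map θ ≫ Proj.awayι 𝒜 f hf hn)
    (π : Proj 𝒜 ⟶ Proj 𝒞)
    (hπ : ∀ (n : ℕ) (c : C) (hn : 0 < n) (hc : c ∈ 𝒞 n)
      (θ : CommRingCat.of (HomogeneousLocalization.Away 𝒞 c) ⟶ CommRingCat.of (HomogeneousLocalization.Away 𝒜 (ι c))),
      (algebraMap (HomogeneousLocalization.Away 𝒜 (ι c)) (Localization.Away (ι c))).comp θ.hom =
        (Localization.awayMap ι.toRingHom c).comp
          (algebraMap (HomogeneousLocalization.Away 𝒞 c) (Localization.Away c)) →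
      Proj.awayι 𝒜 (ι c) ((hιdeg n (ι c)).mp (Submodule.mem_map_of_mem hc)).1 hn ≫ π =
        Spec.map θ ≫ Proj.awayι 𝒞 c hc hn) :
    SGA1.IsQuot ρ π := by
  classical
  let gι : 𝒞 →+*ᵍ 𝒜 := ⟨ι.toRingHom, fun {i x} hx => ((hιdeg i (ι x)).1 (Submodule.mem_map_of_mem hx)).1⟩
  let gσ : G → (𝒜 →+*ᵍ 𝒜) := fun σ => ⟨MulSemiringAction.toRingHom G A σ, fun {i x} hx => hGdeg σ i x hx⟩
  have hιmem : ∀ {n : ℕ} {c : C}, c ∈ 𝒞 n → ι c ∈ 𝒜 n ∧ ∀ σ : G, σ • ι c = ι c := fun hc =>
    (hιdeg _ _).1 (Submodule.mem_map_of_mem hc)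
  have hπc : ∀ (n : ℕ) (c : C) (hn : 0 < n) (hc : c ∈ 𝒞 n),
      Proj.awayι 𝒜 (ι c) (hιmem hc).1 hn ≫ π =
        Spec.map (CommRingCat.ofHom (HomogeneousLocalization.Away.map gι c)) ≫ Proj.awayι 𝒞 c hc hn :=
    fun n c hn hc => hπ n c hn hc (CommRingCat.ofHom (HomogeneousLocalization.Away.map gι c))
      (RingHom.ext fun z => ProjInv.val_map gι c z)
  have hσc : ∀ (σ : G) (n : ℕ) (f : A) (hn : 0 < n) (hf : f ∈ 𝒜 n) (g : A) (hg : σ • f = g),
      ∃ θ : CommRingCat.of (HomogeneousLocalization.Away 𝒜 f) ⟶ CommRingCat.of (HomogeneousLocalization.Away 𝒜 g),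
        (∀ z, (θ.hom z).val = Localization.awayLift ((algebraMap A (Localization.Away g)).comp
          (MulSemiringAction.toRingHom G A σ)) f (by
            show IsUnit (algebraMap A _ (σ • f))
            rw [hg]; exact IsLocalization.Away.algebraMap_isUnit g) z.val) ∧
        Proj.awayι 𝒜 g (hg ▸ hGdeg σ n f hf) hn ≫ (ρ σ).inv = Spec.map θ ≫ Proj.awayι 𝒜 f hf hn := by
    intro σ n f hn hf g hg
    subst hg
    refine ⟨CommRingCat.ofHom (HomogeneousLocalization.Away.map (gσ σ) f), fun z => ?_,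
      hρ σ n f hn hf _ (RingHom.ext fun z => ProjInv.val_map (gσ σ) f z)⟩
    refine (ProjInv.val_map (gσ σ) f z).trans ?_
    refine congrFun (congrArg DFunLike.coe (IsLocalization.ringHom_ext (Submonoid.powers f)
      (RingHom.ext fun a => ?_))) z.val
    simp only [Localization.awayMap, IsLocalization.Away.map, Localization.awayLift, IsLocalization.Away.lift,
      IsLocalization.map, RingHom.coe_comp, Function.comp_apply]
    show _ = IsLocalization.lift _ (algebraMap A (Localization.Away f) a)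
    erw [IsLocalization.lift_eq]
  -- the charts of invariant elements cover
  have hcov : ∀ x : ↥(Proj 𝒜), ∃ (n : ℕ) (c : C), 0 < n ∧ c ∈ 𝒞 n ∧ x ∈ Proj.basicOpen 𝒜 (ι c) := by
    intro x
    obtain ⟨a, ha, hax⟩ : ∃ a ∈ 𝒜 1, a ∉ x.asHomogeneousIdeal.toIdeal := by
      by_contra h
      push Not at h
      refine x.not_irrelevant_le ?_
      change (HomogeneousIdeal.irrelevant 𝒜).toIdeal ≤ x.asHomogeneousIdeal.toIdeal
      exact (HomogeneousIdeal.toIdeal_irrelevant_le _).2 fun i hi b hb => ProjInv.mem_of_generated 𝒜 hgen _ h hi hb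
    haveI := x.isPrime
    obtain ⟨k, e, hk, he, hinv, hex⟩ := ProjInv.exists_invariant_notMem 𝒜 hGdeg x.asHomogeneousIdeal.toIdeal ha hax
    obtain ⟨c, hc, rfl⟩ := Submodule.mem_map.1 ((hιdeg (k * 1) e).2 ⟨he, hinv⟩)
    exact ⟨k * 1, c, by omega, hc, hex⟩
  have hcovC : ∀ y : ↥(Proj 𝒞), ∃ (n : ℕ) (c : C), 0 < n ∧ c ∈ 𝒞 n ∧ y ∈ Proj.basicOpen 𝒞 c := by
    intro y
    by_contra h
    push Not at h
    refine y.not_irrelevant_le ?_
    change (HomogeneousIdeal.irrelevant 𝒞).toIdeal ≤ y.asHomogeneousIdeal.toIdeal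
    exact (HomogeneousIdeal.toIdeal_irrelevant_le _).2 fun i hi b hb => by_contra fun hbx => h i b hi hb hbx
  have hpre : ∀ (n : ℕ) (c : C) (hn : 0 < n) (hc : c ∈ 𝒞 n),
      π ⁻¹ᵁ Proj.basicOpen 𝒞 c = Proj.basicOpen 𝒜 (ι c) := by
    intro n c hn hc
    ext x
    obtain ⟨m, d, hm, hd, hxd⟩ := hcov x
    rw [← Proj.opensRange_awayι 𝒜 (ι d) (hιmem hd).1 hm] at hxd
    obtain ⟨y, rfl⟩ := hxd
    show π (Proj.awayι 𝒜 (ι d) (hιmem hd).1 hm y) ∈ Proj.basicOpen 𝒞 c ↔
      y ∈ Proj.awayι 𝒜 (ι d) (hιmem hd).1 hm ⁻¹ᵁ Proj.basicOpen 𝒜 (ι c)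
    rw [← Scheme.Hom.comp_apply, hπc m d hm hd, Scheme.Hom.comp_apply]
    change Spec.map (CommRingCat.ofHom (HomogeneousLocalization.Away.map gι d)) y ∈
      Proj.awayι 𝒞 d hd hm ⁻¹ᵁ Proj.basicOpen 𝒞 c ↔ _
    rw [Proj.awayι_preimage_basicOpen 𝒞 hd hm hc hn, Proj.awayι_preimage_basicOpen 𝒜 (hιmem hd).1 hm (hιmem hc).1 hn]
    show (HomogeneousLocalization.Away.map gι d) (HomogeneousLocalization.Away.isLocalizationElem hd hc) ∉ y.asIdeal ↔ _
    have e : (HomogeneousLocalization.Away.map gι d) (HomogeneousLocalization.Away.isLocalizationElem hd hc) =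
        HomogeneousLocalization.Away.isLocalizationElem (hιmem hd).1 (hιmem hc).1 := by
      apply HomogeneousLocalization.val_injective
      rw [HomogeneousLocalization.Away.isLocalizationElem, HomogeneousLocalization.Away.map_mk]
      simp [gι]
      try rfl
    rw [e]
    rfl
  have haff : IsAffineHom π := by
    refine isAffineHom_of_forall_exists_isAffineOpen π fun y => ?_
    obtain ⟨n, c, hn, hc, hy⟩ := hcovC y
    refine ⟨Proj.basicOpen 𝒞 c, hy, Proj.isAffineOpen_basicOpen 𝒞 _ hc hn, ?_⟩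
    rw [hpre n c hn hc]
    exact Proj.isAffineOpen_basicOpen 𝒜 _ (hιmem hc).1 hn
  have hinv' : ∀ σ : G, (ρ σ).inv ≫ π = π := by
    intro σ
    refine Scheme.Cover.hom_ext (Scheme.Cover.mkOfCovers (Σ n : {n : ℕ // 0 < n}, 𝒞 n.1)
      (fun i => Spec (CommRingCat.of (HomogeneousLocalization.Away 𝒜 (ι (i.2 : C)))))
      (fun i => Proj.awayι 𝒜 _ (hιmem i.2.2).1 i.1.2) (fun x => ?_) fun i => inferInstance) _ _ fun i => ?_
    · obtain ⟨n, c, hn, hc, hx⟩ := hcov x
      rw [← Proj.opensRange_awayι 𝒜 (ι c) (hιmem hc).1 hn] at hx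
      obtain ⟨y, hy⟩ := hx
      exact ⟨⟨⟨n, hn⟩, ⟨c, hc⟩⟩, y, hy⟩
    · obtain ⟨⟨n, hn⟩, ⟨c, hc⟩⟩ := i
      obtain ⟨θ, hθ, hθ'⟩ := hσc σ n (ι c) hn (hιmem hc).1 (ι c) ((hιmem hc).2 σ)
      show Proj.awayι 𝒜 (ι c) _ hn ≫ (ρ σ).inv ≫ π = Proj.awayι 𝒜 (ι c) _ hn ≫ π
      rw [← Category.assoc, hθ', Category.assoc, hπc n c hn hc, ← Category.assoc, ← Spec.map_comp]
      congr 2
      ext z : 2
      apply HomogeneousLocalization.val_injective
      show (θ.hom (HomogeneousLocalization.Away.map gι c z)).val = (HomogeneousLocalization.Away.map gι c z).val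
      obtain ⟨m, a, ha, rfl⟩ := HomogeneousLocalization.Away.mk_surjective 𝒞 hc z
      rw [hθ, HomogeneousLocalization.Away.map_mk, HomogeneousLocalization.Away.val_mk, Localization.mk_eq_mk']
      simp only [Localization.awayLift, IsLocalization.Away.lift]
      refine (IsLocalization.lift_mk'_spec _ _ _ _).2 ?_
      show algebraMap A _ (σ • ι a) = algebraMap A _ (σ • (ι c) ^ m) * _
      rw [(hιmem ha).2 σ, smul_pow', (hιmem hc).2 σ, mul_comm]
      exact (IsLocalization.mk'_spec _ _ _).symm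
  have hinv : ∀ σ : G, (ρ σ).hom ≫ π = π := fun σ => by
    conv_lhs => rw [← hinv' σ]
    exact (ρ σ).hom_inv_id_assoc π
  refine SGA1Q.isQuot_of_affine_cover haff hinv fun y => ?_
  obtain ⟨n, c, hn, hc, hy⟩ := hcovC y
  refine ⟨(Proj.awayι 𝒞 c hc hn).opensRange, isAffineOpen_opensRange _,
    (Proj.opensRange_awayι 𝒞 c hc hn).symm ▸ hy, ?_⟩
  choose θ hθ hθ' using fun σ => hσc σ n (ι c) hn (hιmem hc).1 (ι c) ((hιmem hc).2 σ)
  refine ProjInv.invariants_of_chart ρ π hinv (CommRingCat.ofHom (HomogeneousLocalization.Away.map gι c))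
    (Proj.awayι 𝒜 (ι c) (hιmem hc).1 hn) (Proj.awayι 𝒞 c hc hn) (hπc n c hn hc) ?_ ?_ θ hθ' ?_
  · rw [Proj.opensRange_awayι, Proj.opensRange_awayι, hpre n c hn hc]
  · intro z₁ z₂ h
    obtain ⟨m₁, a, ha, rfl⟩ := HomogeneousLocalization.Away.mk_surjective 𝒞 hc z₁
    obtain ⟨m₂, b, hb, rfl⟩ := HomogeneousLocalization.Away.mk_surjective 𝒞 hc z₂
    have h' := congrArg HomogeneousLocalization.val h
    simp only [CommRingCat.hom_ofHom, HomogeneousLocalization.Away.map_mk, HomogeneousLocalization.Away.val_mk] at h'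
    rw [Localization.mk_eq_mk_iff, Localization.r_iff_exists] at h'
    obtain ⟨⟨_, k, rfl⟩, hk⟩ := h'
    apply HomogeneousLocalization.val_injective
    rw [HomogeneousLocalization.Away.val_mk, HomogeneousLocalization.Away.val_mk, Localization.mk_eq_mk_iff,
      Localization.r_iff_exists]
    exact ⟨⟨_, k, rfl⟩, hι (by simpa [gι] using hk)⟩
  · intro z hz
    cases nonempty_fintype G
    obtain ⟨m, a, ha, rfl⟩ := HomogeneousLocalization.Away.mk_surjective 𝒜 (hιmem hc).1 z
    have hex : ∀ σ : G, ∃ k : ℕ, ι c ^ k * σ • a = ι c ^ k * a := by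
      intro σ
      have h' := congrArg HomogeneousLocalization.val (hz σ)
      rw [hθ, HomogeneousLocalization.Away.val_mk, Localization.mk_eq_mk'] at h'
      simp only [Localization.awayLift, IsLocalization.Away.lift] at h'
      rw [IsLocalization.lift_mk'_spec] at h'
      change algebraMap A _ (σ • a) = algebraMap A _ (σ • ι c ^ m) * _ at h'
      rw [smul_pow', (hιmem hc).2 σ, mul_comm] at h'
      erw [IsLocalization.mk'_spec] at h'
      exact IsLocalization.Away.exists_of_eq (S := Localization.Away (ι c)) (ι c) h'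
    choose k hk using hex
    let K := Finset.univ.sup k
    have ha' : ι c ^ K * a ∈ 𝒜 ((K + m) • n) := by
      have := SetLike.mul_mem_graded (SetLike.pow_mem_graded K (hιmem hc).1) ha
      rwa [← add_smul] at this
    obtain ⟨a₀, ha₀, he⟩ := Submodule.mem_map.1 ((hιdeg _ _).2 ⟨ha', fun σ => by
      rw [smul_mul', smul_pow', (hιmem hc).2 σ, ← Nat.sub_add_cancel (show k σ ≤ K from Finset.le_sup (Finset.mem_univ σ)),
        pow_add, mul_assoc, hk σ, mul_assoc]⟩)
    refine ⟨HomogeneousLocalization.Away.mk 𝒞 hc (K + m) a₀ ha₀, ?_⟩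
    apply HomogeneousLocalization.val_injective
    simp only [CommRingCat.hom_ofHom, HomogeneousLocalization.Away.map_mk, HomogeneousLocalization.Away.val_mk,
      Localization.mk_eq_mk_iff, Localization.r_iff_exists]
    refine ⟨1, ?_⟩
    have he' : ι a₀ = ι c ^ K * a := he
    simp [gι, he', pow_add]
    ring

end Groth.Agent.S13181
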