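import Groth.Statements.S13182
import Groth.Agent.Lib.TwistEmbed

set_option autoImplicit false
set_option maxHeartbeats 1000000
universe u
open CategoryTheory CategoryTheory.Limits AlgebraicGeometry
open ZeroCyc

namespace Groth.Agent.S13182

/-- Let B be a graded R-algebra generated by homogeneous elements f_1, …, f_s of positive degrees d_1,
…, d_s, let l be the least common multiple of the d_i and X = Proj B. For n = a l with a ≥ max(1, s
− 1) there is a closed immersion i of X into a projective space over R, over Spec R, with O_X(n) ≅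
i^*O(1); in particular O_X(n) is very ample relative to Spec R. (The published statement takes for i
the canonical morphism into P(B_n) given by the sections B_n; this row asserts only a closed
immersion into some projective space P^N over R with an isomorphism O_X(n) ≅ i^*O(1).) -/
theorem result {R A : Type u} [CommRing R] [CommRing A] [Algebra R A] (𝒜 : ℕ → Submodule R A) [GradedAlgebra 𝒜]
    {s : ℕ} (f : Fin s → A) (deg : Fin s → ℕ) (hdeg : ∀ i, 0 < deg i) (hf : ∀ i, f i ∈ 𝒜 (deg i))
    (hgen : Algebra.adjoin R (Set.range f) = ⊤) (a : ℕ) (ha : 0 < a) (has : s - 1 ≤ a) :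
    ∃ (N : ℕ) (i : Proj 𝒜 ⟶ CohB1.ProjSpaceOver N (Spec (CommRingCat.of R))), IsClosedImmersion i ∧
      i ≫ pullback.snd (CohB1.ProjSpace.toSpec N (ULift.{u} ℤ)) (specULiftZIsTerminal.from (Spec (CommRingCat.of R))) =
        Proj.toSpecZero 𝒜 ≫ Spec.map (CommRingCat.ofHom (algebraMap R (𝒜 0))) ∧
      Nonempty (Twist.twist 𝒜 ((a * Finset.univ.lcm deg : ℕ) : ℤ) ≅
        (Scheme.Modules.pullback i).obj (Twist.twistOver N (Spec (CommRingCat.of R)) 1)) := by
  classical
  have hcov := Groth.Agent.S13168.result 𝒜 f deg hdeg hf hgen a ha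
  set l := Finset.univ.lcm deg with hldef
  have hl : 0 < l := Nat.pos_of_ne_zero (Finset.lcm_ne_zero_iff.2 fun i _ => (hdeg i).ne')
  have hbound : (s - 1) * (l - 1) ≤ a * l := Nat.mul_le_mul has (Nat.sub_le _ _)
  have h0 : ∀ c ∈ 𝒜 0, ∃ r : R, algebraMap R A r = c := by
    intro c hc
    have h := Groth.Agent.ZeroCycLib.le_span_monomials 𝒜 f deg hf hgen 0 hc
    rw [show {e : Fin s → ℕ | ∑ i, e i * deg i = 0} = {0} from ?_] at h
    · simp only [Set.image_singleton, Pi.zero_apply, pow_zero, Finset.prod_const_one, Submodule.mem_span_singleton] at h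
      obtain ⟨r, rfl⟩ := h
      exact ⟨r, by rw [Algebra.algebraMap_eq_smul_one]⟩
    · ext e
      simp only [Set.mem_ofPred_eq, Set.mem_singleton_iff, Finset.sum_eq_zero_iff, Finset.mem_univ, true_implies,
        mul_eq_zero, funext_iff, Pi.zero_apply]
      exact forall_congr' fun i => or_iff_left (hdeg i).ne'
  have hfg : (𝒜 (a * l)).FG := by
    have hfin : {e : Fin s → ℕ | ∑ i, e i * deg i = a * l}.Finite := by
      refine (Set.Finite.pi (fun _ : Fin s => Set.finite_Iic (a * l))).subset fun e he i _ => ?_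
      exact (Nat.le_mul_of_pos_right _ (hdeg i)).trans
        ((Finset.single_le_sum (f := fun i => e i * deg i) (fun _ _ => Nat.zero_le _) (Finset.mem_univ i)).trans he.le)
    have hle := Groth.Agent.ZeroCycLib.le_span_monomials 𝒜 f deg hf hgen (a * l)
    refine Submodule.fg_def.2 ⟨(fun e : Fin s → ℕ => ∏ i, f i ^ e i) '' {e | ∑ i, e i * deg i = a * l}, hfin.image _, le_antisymm
      (Submodule.span_le.2 ?_) hle⟩
    rintro _ ⟨e, he, rfl⟩
    exact he ▸ Groth.Agent.ZeroCycLib.monomial_mem 𝒜 f deg hf e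
  have hmul : ∀ k : ℕ, 𝒜 ((k + 1) • (a * l)) ≤ 𝒜 (a * l) * 𝒜 (k • (a * l)) := fun k => by
    have h := Groth.Agent.TwistCover.mul_pow_decomp 𝒜 f deg hdeg hf hgen (a * l) hbound (k * a)
    rw [← hldef, mul_assoc] at h
    simpa [add_comm, add_mul, smul_eq_mul] using h
  have : Algebra.FiniteType (𝒜 0) A := by
    refine ⟨⟨Finset.univ.image f, eq_top_iff.2 fun x hxt => ?_⟩⟩
    clear hxt
    have hx : x ∈ Algebra.adjoin R (Set.range f) := hgen ▸ Algebra.mem_top
    induction hx using Algebra.adjoin_induction with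
    | mem c hc => exact Algebra.subset_adjoin (by simpa using hc)
    | algebraMap r => exact Subalgebra.algebraMap_mem _ (⟨algebraMap R A r, SetLike.algebraMap_mem_graded 𝒜 r⟩ : 𝒜 0)
    | add _ _ _ _ h h' => exact add_mem h h'
    | mul _ _ _ _ h h' => exact mul_mem h h'
  have : IsClosedImmersion (Spec.map (CommRingCat.ofHom (algebraMap R (𝒜 0)))) :=
    IsClosedImmersion.spec_of_surjective _ fun c => by
      obtain ⟨r, hr⟩ := h0 c.1 c.2
      exact ⟨r, Subtype.ext hr⟩
  exact Groth.Agent.TwistEmbed.exists_embedding (a * l) (Nat.mul_pos ha hl) h0 hmul hfg hcov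

end Groth.Agent.S13182
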