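import Groth.Statements.S13183
import Groth.Agent.Lib.TwistEmbed

set_option autoImplicit false
universe u
open CategoryTheory CategoryTheory.Limits AlgebraicGeometry
open ZeroCyc

namespace Groth.Agent.S13183

/-- Let B be a graded R-algebra of finite type, generated by elements of degrees between 1 and d, such
that X = Proj B is covered by the opens D_+(g), g ∈ B_1. For n ≥ d, n ≥ 1, there is a closed
immersion i of X into a projective space over R, over Spec R, with O_X(n) ≅ i^*O(1); in particular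
O_X(n) is very ample relative to Spec R. (The published statement assumes neither finite generation
nor that the generators have positive degree, and its target is P(B_n) with i the canonical morphism
given by B_n; a closed immersion into a projective space of finite type over R needs X proper over
R, so B is taken of finite type with generators of positive degree; existence of the isomorphism
only.) -/
theorem result {R A : Type u} [CommRing R] [CommRing A] [Algebra R A] (𝒜 : ℕ → Submodule R A) [GradedAlgebra 𝒜]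
    (d : ℕ) (hgen : Algebra.adjoin R (⋃ i ∈ Finset.Icc 1 d, (𝒜 i : Set A)) = ⊤)
    (hcov : (⨆ g : 𝒜 1, Proj.basicOpen 𝒜 (g : A)) = ⊤) [Algebra.FiniteType R A] (n : ℕ) (hn : d ≤ n) (hn1 : 0 < n) :
    ∃ (N : ℕ) (i : Proj 𝒜 ⟶ CohB1.ProjSpaceOver N (Spec (CommRingCat.of R))), IsClosedImmersion i ∧
      i ≫ pullback.snd (CohB1.ProjSpace.toSpec N (ULift.{u} ℤ)) (specULiftZIsTerminal.from (Spec (CommRingCat.of R))) =
        Proj.toSpecZero 𝒜 ≫ Spec.map (CommRingCat.ofHom (algebraMap R (𝒜 0))) ∧
      Nonempty (Twist.twist 𝒜 (n : ℤ) ≅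
        (Scheme.Modules.pullback i).obj (Twist.twistOver N (Spec (CommRingCat.of R)) 1)) := by
  classical
  obtain ⟨G, hG⟩ := (inferInstance : Algebra.FiniteType R A).out
  have hfin : ∀ x ∈ Algebra.adjoin R (⋃ i ∈ Finset.Icc 1 d, (𝒜 i : Set A)),
      ∃ t : Finset A, (t : Set A) ⊆ (⋃ i ∈ Finset.Icc 1 d, (𝒜 i : Set A)) ∧ x ∈ Algebra.adjoin R (t : Set A) := by
    intro x hx
    induction hx using Algebra.adjoin_induction with
    | mem c hc => exact ⟨{c}, by simpa using hc, Algebra.subset_adjoin (by simp)⟩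
    | algebraMap r => exact ⟨∅, by simp, Subalgebra.algebraMap_mem _ _⟩
    | add a b _ _ ha hb =>
      obtain ⟨t, ht, hat⟩ := ha
      obtain ⟨t', ht', hbt⟩ := hb
      exact ⟨t ∪ t', by rw [Finset.coe_union]; exact Set.union_subset ht ht', add_mem (Algebra.adjoin_mono (by simp) hat) (Algebra.adjoin_mono (by simp) hbt)⟩
    | mul a b _ _ ha hb =>
      obtain ⟨t, ht, hat⟩ := ha
      obtain ⟨t', ht', hbt⟩ := hb
      exact ⟨t ∪ t', by rw [Finset.coe_union]; exact Set.union_subset ht ht', mul_mem (Algebra.adjoin_mono (by simp) hat) (Algebra.adjoin_mono (by simp) hbt)⟩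
  choose t ht hmem using fun x : A => hfin x (hgen ▸ Algebra.mem_top)
  let F := G.biUnion t
  let f : Fin F.card → A := fun i => (F.equivFin.symm i).1
  have hrange : Set.range f = (F : Set A) := by
    ext x
    exact ⟨fun ⟨i, hi⟩ => hi ▸ (F.equivFin.symm i).2, fun hx => ⟨F.equivFin ⟨x, hx⟩, by simp [f]⟩⟩
  have hFU : ∀ x ∈ F, ∃ j ∈ Finset.Icc 1 d, x ∈ 𝒜 j := fun x hx => by
    obtain ⟨y, -, hy⟩ := Finset.mem_biUnion.1 hx
    simpa using ht y hy
  choose deg hdeg hf using fun i => hFU (f i) (F.equivFin.symm i).2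
  have hgen' : Algebra.adjoin R (Set.range f) = ⊤ := by
    rw [eq_top_iff, ← hG, hrange]
    exact Algebra.adjoin_le fun x hx => Algebra.adjoin_mono
      (Finset.coe_subset.2 (Finset.subset_biUnion_of_mem t hx)) (hmem x)
  have hd1 : ∀ i, 1 ≤ deg i := fun i => (Finset.mem_Icc.1 (hdeg i)).1
  have h0 : ∀ c ∈ 𝒜 0, ∃ r : R, algebraMap R A r = c := by
    intro c hc
    have h := Groth.Agent.ZeroCycLib.le_span_monomials 𝒜 f deg hf hgen' 0 hc
    rw [show {e : Fin F.card → ℕ | ∑ i, e i * deg i = 0} = {0} from ?_] at h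
    · simp only [Set.image_singleton, Pi.zero_apply, pow_zero, Finset.prod_const_one, Submodule.mem_span_singleton] at h
      obtain ⟨r, rfl⟩ := h
      exact ⟨r, by rw [Algebra.algebraMap_eq_smul_one]⟩
    · ext e
      simp only [Set.mem_ofPred_eq, Set.mem_singleton_iff, Finset.sum_eq_zero_iff, Finset.mem_univ, true_implies,
        mul_eq_zero, funext_iff, Pi.zero_apply]
      exact forall_congr' fun i => or_iff_left (Nat.one_le_iff_ne_zero.1 (hd1 i))
  have : IsClosedImmersion (Spec.map (CommRingCat.ofHom (algebraMap R (𝒜 0)))) :=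
    IsClosedImmersion.spec_of_surjective _ fun c => by
      obtain ⟨r, hr⟩ := h0 c.1 c.2
      exact ⟨r, Subtype.ext hr⟩
  have : IsScalarTower R (𝒜 0) A := ⟨fun r a b => by show ((r • a : 𝒜 0) : A) * b = r • ((a : A) * b); rw [Submodule.coe_smul, smul_mul_assoc]⟩
  have : Algebra.FiniteType (𝒜 0) A := Algebra.FiniteType.of_restrictScalars_finiteType R (𝒜 0) A
  refine Groth.Agent.TwistEmbed.exists_embedding_of_degree_one f deg hf hgen' n hn1
    (fun i => (Finset.mem_Icc.1 (hdeg i)).2.trans hn) fun x => ?_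
  obtain ⟨g, hg⟩ := TopologicalSpace.Opens.mem_iSup.1 (hcov.ge (trivial : x ∈ (⊤ : (Proj 𝒜).Opens)))
  by_contra! h
  refine hg ((Submodule.span_le.2 ?_) (Groth.Agent.ZeroCycLib.le_span_monomials 𝒜 f deg hf hgen' 1 g.2) :
    (g : A) ∈ (x.asHomogeneousIdeal.toIdeal.restrictScalars R))
  rintro _ ⟨e, he, rfl⟩
  obtain ⟨i, hi⟩ : ∃ i, e i * deg i ≠ 0 := by
    by_contra! h'
    simp [Finset.sum_eq_zero (fun i _ => h' i)] at he
  have hle : e i * deg i ≤ 1 :=
    (Finset.single_le_sum (f := fun i => e i * deg i) (fun _ _ => Nat.zero_le _) (Finset.mem_univ i)).trans he.le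
  have h1 : e i * deg i = 1 := le_antisymm hle (Nat.one_le_iff_ne_zero.2 hi)
  refine Ideal.prod_mem _ (Finset.mem_univ i) ?_
  rw [Nat.eq_one_of_mul_eq_one_right h1, pow_one]
  exact not_not.1 (h i (Nat.eq_one_of_mul_eq_one_left h1))

end Groth.Agent.S13183
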