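import Groth.Statements.S13200
import Groth.Agent.FormCat.HenselDomain
import Groth.Agent.FormalFib6.Quot
import Groth.Agent.PopescuLib.LocalCompletion
import Groth.Agent.CplFib6.GRingStable
import Groth.Agent.FlatLoc6.GeomProp
import Groth.Agent.AnLocal.Henselian
import Mathlib

set_option autoImplicit false
universe u
open Hensel

namespace Groth.Agent.S13200

/-- Let R be an excellent local ring which is strictly henselian (henselian with separably closed
residue field), and let R^ denote its completion at the maximal ideal. An element Δ of R is a prime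
element of R exactly when its image in R^ is a prime element of R^. -/
theorem result
    (R : Type u) [CommRing R] [HenselianLocalRing R] [IsSepClosed (IsLocalRing.ResidueField R)]
    (hR : EGA4.IsExcellent R) (Δ : R) :
    Prime Δ ↔ Prime (algebraMap R (AdicCompletion (IsLocalRing.maximalIdeal R) R) Δ) := by
  classical
  haveI : IsNoetherianRing R := hR.1
  haveI := Groth.Agent.FlatLoc6.faithfullyFlat_cpl R
  haveI := Groth.Agent.FlatLoc6.isLocalRing_cpl R
  let φ := algebraMap R (EGA4.Cpl R)
  have hinj : Function.Injective φ := FaithfulSMul.algebraMap_injective R (EGA4.Cpl R)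
  have hcontr : (Ideal.span {φ Δ}).comap φ = Ideal.span {Δ} := by
    rw [← Set.image_singleton, ← Ideal.map_span]
    exact Ideal.comap_map_eq_self_of_faithfullyFlat _
  constructor
  · intro hΔ
    haveI hP : (Ideal.span {Δ}).IsPrime := (Ideal.span_singleton_prime hΔ.ne_zero).mpr hΔ
    let B := R ⧸ Ideal.span {Δ}
    haveI : IsDomain B := Ideal.Quotient.isDomain _
    haveI : IsLocalRing B := IsLocalRing.of_surjective' _ Ideal.Quotient.mk_surjective
    haveI : HenselianLocalRing B := Groth.Agent.AnLocal.henselianLocalRing_of_surjective' (Ideal.Quotient.mk (Ideal.span {Δ})) Ideal.Quotient.mk_surjective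
    have hG : CAlg.IsGRing B := Groth.Agent.CplFib6.isGRing_of_finiteType hR.2.2.1 B
    have hreg := Groth.Agent.PopescuLib.isRegularHom_completion_of_isGRing hG
    have hgn : EGA4.HasGeomNormalFormalFibres B := fun p _ k' _ _ hk' => by
      haveI := (hreg.2 p).2 k' hk'
      exact Groth.Agent.FlatLoc6.isNormalRing_of_isRegularRing _
    haveI := Groth.Agent.FormCat.isDomain_cpl_of_henselian B hgn
    obtain ⟨e⟩ := Groth.Agent.FormalFib6.exists_cplQuotEquiv R B Ideal.Quotient.mk_surjective
    let e1 : (EGA4.Cpl R ⧸ (Ideal.span {Δ}).map φ) ≃+* TensorProduct R B (EGA4.Cpl R) :=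
      (Algebra.TensorProduct.quotIdealMapEquivTensorQuot (EGA4.Cpl R) (Ideal.span {Δ})).toRingEquiv.trans
        (Algebra.TensorProduct.comm R (EGA4.Cpl R) B).toRingEquiv
    haveI : IsDomain (EGA4.Cpl R ⧸ (Ideal.span {Δ}).map φ) :=
      Function.Injective.isDomain (f := (e1.trans e.toRingEquiv).toRingHom) (e1.trans e.toRingEquiv).injective
    have hp : ((Ideal.span {Δ}).map φ).IsPrime := (Ideal.Quotient.isDomain_iff_prime _).mp inferInstance
    rw [Ideal.map_span, Set.image_singleton] at hp
    exact (Ideal.span_singleton_prime ((map_ne_zero_iff φ hinj).mpr hΔ.ne_zero)).mp hp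
  · intro hΔ
    have h0 : Δ ≠ 0 := fun h => hΔ.ne_zero (by rw [h, map_zero])
    refine (Ideal.span_singleton_prime h0).mp ?_
    rw [← hcontr]
    haveI : (Ideal.span {φ Δ}).IsPrime := (Ideal.span_singleton_prime hΔ.ne_zero).mpr hΔ
    exact Ideal.IsPrime.comap φ

end Groth.Agent.S13200
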