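import Groth.Statements.S13202
import Groth.Agent.S17730
import Groth.Agent.Hensel.TensorHenzFinite
import Groth.Agent.Hensel.HenselizationProps

set_option autoImplicit false
universe u
open Hensel

namespace Groth.Agent.S13202

open IsLocalRing TensorProduct in
theorem prime_of_mem (R : Type u) [CommRing R] [IsNoetherianRing R]
    {Δ₀ : R} (h : ∀ (p : Ideal R) [p.IsPrime], Δ₀ ∈ p →
        ∀ (T : Type u) [CommRing T] [IsLocalRing T] [Algebra (Localization.AtPrime p) T]
          [IsLocalHom (algebraMap (Localization.AtPrime p) T)]
          [Hensel.IsStrictHenselization (Localization.AtPrime p) T],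
          Prime (algebraMap (Localization.AtPrime p) T (algebraMap R (Localization.AtPrime p) Δ₀)))
    (R' : Type u) [CommRing R'] [Algebra R R'] [Algebra.Smooth R R'] (q : Ideal R') [q.IsPrime]
    (T : Type u) [CommRing T] [IsLocalRing T] [Algebra (Localization.AtPrime q) T]
    [IsLocalHom (algebraMap (Localization.AtPrime q) T)]
    [Hensel.IsStrictHenselization (Localization.AtPrime q) T] (hΔ : algebraMap R R' Δ₀ ∈ q) :
    Prime (algebraMap (Localization.AtPrime q) T
      (algebraMap R' (Localization.AtPrime q) (algebraMap R R' Δ₀))) := by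
  classical
  let p := q.comap (algebraMap R R')
  haveI : q.LiesOver p := ⟨rfl⟩
  let Rh := Groth.Agent.Hensel.StrictHenz (Localization.AtPrime p)
  letI : Algebra R' T :=
    ((algebraMap (Localization.AtPrime q) T).comp (algebraMap R' (Localization.AtPrime q))).toAlgebra
  haveI : IsScalarTower R' (Localization.AtPrime q) T := IsScalarTower.of_algebraMap_eq' rfl
  letI : Algebra R T := ((algebraMap R' T).comp (algebraMap R R')).toAlgebra
  haveI : IsScalarTower R R' T := IsScalarTower.of_algebraMap_eq' rfl
  letI : Algebra R Rh :=
    ((algebraMap (Localization.AtPrime p) Rh).comp (algebraMap R (Localization.AtPrime p))).toAlgebra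
  haveI : IsScalarTower R (Localization.AtPrime p) Rh := IsScalarTower.of_algebraMap_eq' rfl
  haveI : HenselianLocalRing T := Hensel.IsStrictHenselization.henselian (R := Localization.AtPrime q)
  haveI : HenselianLocalRing Rh := Hensel.IsStrictHenselization.henselian (R := Localization.AtPrime p)
  haveI hTc := (Hensel.IsStrictHenselization.isSepClosure (R := Localization.AtPrime q) (S := T)).sep_closed
  have hRsep : IsSepClosure (ResidueField (Localization.AtPrime p)) (ResidueField Rh) :=
    Hensel.IsStrictHenselization.isSepClosure
  haveI := hRsep.sep_closed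
  haveI := hRsep.separable
  have hf : (maximalIdeal T).comap (algebraMap R T) = p := by
    rw [IsScalarTower.algebraMap_eq R R' T, ← Ideal.comap_comap, Groth.Agent.Hensel.comap_algebraMap_atPrime R' q T]
  obtain ⟨F, hF, hFl⟩ := Groth.Agent.Hensel.exists_localization_lift (p := p) (algebraMap R T) hf
  letI : Algebra (ResidueField (Localization.AtPrime p)) (ResidueField T) := (ResidueField.map F).toAlgebra
  let τ : ResidueField Rh →ₐ[ResidueField (Localization.AtPrime p)] ResidueField T := IsSepClosed.lift
  obtain ⟨g, hg, hgl, -⟩ := Groth.Agent.Hensel.strict_lift (p := p) (Rh := Rh) (algebraMap R T) hf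
    τ.toRingHom (fun r => (τ.commutes (residue _ (algebraMap R (Localization.AtPrime p) r))).trans
      (congrArg (residue T) (RingHom.congr_fun hF r)))
  letI : Algebra Rh T := g.toAlgebra
  haveI : IsScalarTower R Rh T := IsScalarTower.of_algebraMap_eq' hg.symm
  haveI : IsLocalHom (algebraMap Rh T) := hgl
  haveI : IsNoetherianRing Rh :=
    (Groth.Agent.Hensel.isHenzLike_of_isStrictHenselization (Localization.AtPrime p) Rh).isNoetherianRing_iff.mp
      inferInstance
  let P := Groth.Agent.Hensel.tensorPrime R R' Rh T
  haveI := Groth.Agent.Hensel.liesOver_tensorPrime R R' p q Rh T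
  let E := Groth.Agent.Hensel.StrictHenz (Localization.AtPrime P)
  obtain ⟨e, he⟩ := Groth.Agent.Hensel.strict_tensor R R' p q Rh T E
  have hprime : Prime (algebraMap R Rh Δ₀) := h p hΔ Rh
  have hPle : (maximalIdeal Rh).map (algebraMap Rh (Rh ⊗[R] R')) ≤ P :=
    Ideal.map_le_iff_le_comap.mpr (Ideal.over_def P (maximalIdeal Rh)).le
  have hE := Groth.Agent.S17730.result Rh (Rh ⊗[R] R') E P hPle (algebraMap R Rh Δ₀) hprime
  have h1 := (MulEquiv.prime_iff e.toMulEquiv).mpr hE
  have h2 : e (algebraMap (Localization.AtPrime P) E (algebraMap (Rh ⊗[R] R') (Localization.AtPrime P)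
      (algebraMap Rh (Rh ⊗[R] R') (algebraMap R Rh Δ₀)))) = algebraMap R T Δ₀ := by
    refine (he _).trans ?_
    show Groth.Agent.Hensel.tensorPt R R' Rh T (algebraMap R Rh Δ₀ ⊗ₜ[R] (1 : R')) = _
    rw [Algebra.TensorProduct.lift_tmul, map_one, mul_one]
    exact RingHom.congr_fun hg Δ₀
  have h3 : Prime (algebraMap R T Δ₀) := h2 ▸ h1
  exact h3

/-- Let R be a Noetherian regular ring (every localization at a prime ideal is a regular local ring) and
Δ ∈ R. The element Δ is étale-universally prime — meaning that for every prime ideal p of R
containing Δ and every strict henselization T of R_p, the image of Δ in T is a prime element —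
exactly when for every smooth R-algebra R', every prime ideal q of R' and every strict henselization
T of R'_q, the image of Δ in T is either invertible or a prime element. (Smooth R-algebras and their
strict henselizations are taken in the universe of R.) -/
theorem result
    (R : Type u) [CommRing R] [IsNoetherianRing R]
    (hreg : ∀ (p : Ideal R) [p.IsPrime], IsRegularLocalRing (Localization.AtPrime p)) (Δ : R) :
    (∀ (p : Ideal R) [p.IsPrime], Δ ∈ p →
        ∀ (T : Type u) [CommRing T] [IsLocalRing T] [Algebra (Localization.AtPrime p) T]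
          [IsLocalHom (algebraMap (Localization.AtPrime p) T)]
          [Hensel.IsStrictHenselization (Localization.AtPrime p) T],
          Prime (algebraMap (Localization.AtPrime p) T (algebraMap R (Localization.AtPrime p) Δ))) ↔
    (∀ (R' : Type u) [CommRing R'] [Algebra R R'] [Algebra.Smooth R R'] (q : Ideal R') [q.IsPrime]
        (T : Type u) [CommRing T] [IsLocalRing T] [Algebra (Localization.AtPrime q) T]
          [IsLocalHom (algebraMap (Localization.AtPrime q) T)]
          [Hensel.IsStrictHenselization (Localization.AtPrime q) T],
        IsUnit (algebraMap (Localization.AtPrime q) T (algebraMap R' (Localization.AtPrime q) (algebraMap R R' Δ))) ∨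
          Prime (algebraMap (Localization.AtPrime q) T (algebraMap R' (Localization.AtPrime q) (algebraMap R R' Δ)))) := by
  constructor
  · intro h R' _ _ _ q _ T _ _ _ _ _
    by_cases hΔq : algebraMap R R' Δ ∈ q
    · exact Or.inr (prime_of_mem R h R' q T hΔq)
    · refine Or.inl (IsUnit.map _ ?_)
      exact IsLocalization.map_units (Localization.AtPrime q) (⟨algebraMap R R' Δ, hΔq⟩ : q.primeCompl)
  · intro h p _ hΔ T _ _ _ _ _
    rcases h R p T with hu | hp
    · exfalso
      have h1 := isUnit_of_map_unit (algebraMap (Localization.AtPrime p) T) _ hu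
      rw [IsLocalization.AtPrime.isUnit_to_map_iff (Localization.AtPrime p) p] at h1
      exact h1 hΔ
    · exact hp

end Groth.Agent.S13202
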