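import Groth.Statements.S19894
import Groth.Agent.S0596
import Groth.Agent.CplFib6.CplFinite
import Groth.Agent.PSLib.Regular
import Groth.Agent.PSQuad.Translate

set_option autoImplicit false
universe u
open IsLocalRing
open Hensel

namespace Groth.Agent.S19894

open MvPowerSeries in
/-- Let R be a strictly henselian (henselian with separably closed residue field) excellent Noetherian
local domain which is a unique factorization domain and whose completion R^ at the maximal ideal is
also a unique factorization domain; let Δ ≠ 0 and t₁, t₂ be elements of the maximal ideal of R with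
t₁ t₂ = Δ, and let C be a local R-algebra, essentially of finite type over R with local structure
map, given with a ring isomorphism ψ from the completion C^ of C onto R^[[u,v]]/(uv − Δ) compatible
with the structure maps from R. Then there are an R-algebra homomorphism g : C → R and a ring
homomorphism ĝ : C^ → R^ inducing g (ĝ restricted to C is g followed by R → R^) such that ĝ(ψ⁻¹(u))
generates the ideal t₁R^ and ĝ(ψ⁻¹(v)) generates t₂R^. (This is the local-ring form of the statement
that, for a base scheme S with étale local ring R at a geometric point s̄, an S-scheme X of finite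
presentation and a closed point x of the geometric fibre whose completed étale local ring is
presented as R^[[u,v]]/(uv − Δ), some étale neighbourhood of s̄ carries a section of X through x
sending u, v to generators of (t₁), (t₂); the retraction g of the local ring C of X ×_S Spec R at x
is such a section by finite presentation. The source assumes S excellent and smooth-factorial and
takes R^ to be factorial; here the properties of R that the argument uses are assumed directly, so
that the statement covers in particular every strictly henselian excellent regular local ring. The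
published statement allows Δ = 0; this one assumes Δ ≠ 0.) -/
theorem result
    (R : Type u) [CommRing R] [IsNoetherianRing R] [IsDomain R] [UniqueFactorizationMonoid R] [HenselianLocalRing R]
    [IsSepClosed (ResidueField R)] (hR : EGA4.IsExcellent R)
    [IsDomain (AdicCompletion (maximalIdeal R) R)] [UniqueFactorizationMonoid (AdicCompletion (maximalIdeal R) R)]
    (Δ t₁ t₂ : R) (hΔ : Δ ≠ 0) (ht₁ : t₁ ∈ maximalIdeal R) (ht₂ : t₂ ∈ maximalIdeal R) (ht : t₁ * t₂ = Δ)
    (C : Type u) [CommRing C] [IsLocalRing C] [Algebra R C] [IsLocalHom (algebraMap R C)]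
    [Algebra.EssFiniteType R C]
    (ψ : AdicCompletion (maximalIdeal C) C ≃+*
      (MvPowerSeries (Fin 2) (AdicCompletion (maximalIdeal R) R) ⧸
        Ideal.span {(X 0 * X 1 - MvPowerSeries.C (algebraMap R (AdicCompletion (maximalIdeal R) R) Δ) :
          MvPowerSeries (Fin 2) (AdicCompletion (maximalIdeal R) R))}))
    (hψ : ψ.toRingHom.comp ((algebraMap C (AdicCompletion (maximalIdeal C) C)).comp (algebraMap R C)) =
      (Ideal.Quotient.mk _).comp ((MvPowerSeries.C : AdicCompletion (maximalIdeal R) R →+*
        MvPowerSeries (Fin 2) (AdicCompletion (maximalIdeal R) R)).comp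
          (algebraMap R (AdicCompletion (maximalIdeal R) R)))) :
    ∃ (g : C →ₐ[R] R) (ĝ : AdicCompletion (maximalIdeal C) C →+* AdicCompletion (maximalIdeal R) R),
      ĝ.comp (algebraMap C (AdicCompletion (maximalIdeal C) C)) =
        (algebraMap R (AdicCompletion (maximalIdeal R) R)).comp g.toRingHom ∧
      Ideal.span {ĝ (ψ.symm (Ideal.Quotient.mk _ (X 0)))} =
        Ideal.span {algebraMap R (AdicCompletion (maximalIdeal R) R) t₁} ∧
      Ideal.span {ĝ (ψ.symm (Ideal.Quotient.mk _ (X 1)))} =
        Ideal.span {algebraMap R (AdicCompletion (maximalIdeal R) R) t₂} := by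
  obtain ⟨-, -, hG, -⟩ := hR
  haveI : IsNoetherianRing C := Algebra.EssFiniteType.isNoetherianRing R C
  let T := AdicCompletion (maximalIdeal R) R
  let T' := AdicCompletion (maximalIdeal C) C
  haveI : IsLocalRing T := FlatLoc6.isLocalRing_cpl R
  haveI : IsLocalRing T' := FlatLoc6.isLocalRing_cpl C
  haveI : IsNoetherianRing T := FlatLoc6.isNoetherianRing_cpl R
  haveI : IsAdicComplete (maximalIdeal T) T := CplFib6.isAdicComplete_cpl R
  have fgR : (maximalIdeal R).FG := IsNoetherian.noetherian _
  have fgC : (maximalIdeal C).FG := IsNoetherian.noetherian _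
  have hmT : maximalIdeal T = (maximalIdeal R).map (algebraMap R T) := AdicCompletion.maximalIdeal_eq_map_of_fg fgR
  have hmT' : maximalIdeal T' = (maximalIdeal C).map (algebraMap C T') := AdicCompletion.maximalIdeal_eq_map_of_fg fgC
  -- the formal section
  let s : Fin 2 → T := ![algebraMap R T t₁, algebraMap R T t₂]
  have hs : ∀ i, s i ∈ maximalIdeal T := fun i => by
    rw [hmT]
    fin_cases i
    · exact Ideal.mem_map_of_mem _ ht₁
    · exact Ideal.mem_map_of_mem _ ht₂
  obtain ⟨ε, hε⟩ := PSLib.exists_algHom (R := T) (maximalIdeal T) s hs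
  have hεC : ∀ x : T, ε (MvPowerSeries.C x) = x := fun x => by
    rw [MvPowerSeries.c_eq_algebraMap]
    exact ε.commutes x
  let ε' := Ideal.Quotient.lift (Ideal.span {(X 0 * X 1 - MvPowerSeries.C (algebraMap R T Δ) :
          MvPowerSeries (Fin 2) T)}) ε.toRingHom (fun f hf => by
    obtain ⟨c, rfl⟩ := Ideal.mem_span_singleton.1 hf
    show ε _ = 0
    rw [map_mul, map_sub, map_mul, hε, hε, hεC]
    simp [s, ← map_mul, ht])
  let g₀' : T' →+* T := ε'.comp ψ.toRingHom
  have hg₀'_alg : ∀ r : R, g₀' (algebraMap C T' (algebraMap R C r)) = algebraMap R T r := fun r => by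
    show ε' (ψ.toRingHom _) = _
    have := RingHom.congr_fun hψ r
    simp only [RingHom.comp_apply] at this
    rw [this]
    exact hεC _
  have hsurj : Function.Surjective g₀' := fun y => by
    refine ⟨ψ.symm (Ideal.Quotient.mk _ (MvPowerSeries.C y)), ?_⟩
    show ε' (ψ (ψ.symm _)) = _
    rw [ψ.apply_symm_apply]
    exact hεC y
  haveI : IsLocalHom g₀' := IsLocalHom.of_surjective _ hsurj
  let g₀ : C →ₐ[R] T := { toRingHom := g₀'.comp (algebraMap C T'), commutes' := hg₀'_alg }
  have hg₀m : ∀ c ∈ maximalIdeal C, g₀ c ∈ maximalIdeal T := fun c hc => by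
    refine map_nonunit g₀' _ ?_
    rw [hmT']
    exact Ideal.mem_map_of_mem _ hc
  -- the order of approximation
  have hclosed : ∀ (D : Ideal T) (x : T), (∀ N, x ∈ D ⊔ maximalIdeal T ^ N) → x ∈ D := fun D x hx => by
    by_contra hxD
    haveI : Nontrivial (T ⧸ D) := Ideal.Quotient.nontrivial_iff.2 fun h => hxD (h ▸ Submodule.mem_top)
    haveI : IsLocalRing (T ⧸ D) := IsLocalRing.of_surjective' (Ideal.Quotient.mk D) Ideal.Quotient.mk_surjective
    apply hxD
    rw [← Ideal.Quotient.eq_zero_iff_mem, ← Ideal.mem_bot,
      ← Ideal.iInf_pow_eq_bot_of_isLocalRing (maximalIdeal (T ⧸ D)) (maximalIdeal.isMaximal _).ne_top,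
      Ideal.mem_iInf]
    intro N
    have h2 := Ideal.mem_map_of_mem (Ideal.Quotient.mk D) (hx N)
    rw [Ideal.map_sup, Ideal.map_quotient_self, bot_sup_eq, Ideal.map_pow] at h2
    haveI : IsLocalHom (Ideal.Quotient.mk D) := IsLocalHom.of_surjective _ Ideal.Quotient.mk_surjective
    exact Ideal.pow_right_mono (((local_hom_TFAE (Ideal.Quotient.mk D)).out 0 2).mp (by infer_instance)) N h2
  have hΔT : algebraMap R T Δ ≠ 0 := fun h => hΔ
    (AdicCompletion.of_injective (maximalIdeal R) R (h.trans (map_zero _).symm))
  have ht1ne : algebraMap R T t₁ ≠ 0 := fun h => hΔT (by rw [← ht, map_mul, h, zero_mul])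
  haveI : Finite {a : Associates T // a ∣ Associates.mk (algebraMap R T Δ)} := by
    haveI := UniqueFactorizationMonoid.fintypeSubtypeDvd (Associates.mk (algebraMap R T Δ))
      (Associates.mk_ne_zero.2 hΔT)
    exact Finite.of_fintype _
  obtain ⟨N, hN1, hN⟩ : ∃ N, 1 ≤ N ∧ ∀ u v : T, u * v = algebraMap R T Δ →
      u - algebraMap R T t₁ ∈ maximalIdeal T ^ N → Ideal.span {u} = Ideal.span {algebraMap R T t₁} := by
    classical
    have hA : ∀ a : {a : Associates T // a ∣ Associates.mk (algebraMap R T Δ)}, ∃ N, ∀ u : T, Associates.mk u = a.1 →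
        u - algebraMap R T t₁ ∈ maximalIdeal T ^ N → Ideal.span {u} = Ideal.span {algebraMap R T t₁} := by
      intro a
      obtain ⟨u₀, hu₀⟩ := Associates.mk_surjective a.1
      have hsp : ∀ u : T, Associates.mk u = a.1 → Ideal.span {u} = Ideal.span {u₀} := fun u hu =>
        Ideal.span_singleton_eq_span_singleton.2 (Associates.mk_eq_mk_iff_associated.1 (hu.trans hu₀.symm))
      by_cases heq : Ideal.span {u₀} = Ideal.span {algebraMap R T t₁}
      · exact ⟨0, fun u hu _ => (hsp u hu).trans heq⟩
      · have : ∃ N, ∀ w ∈ Ideal.span {u₀}, w - algebraMap R T t₁ ∈ maximalIdeal T ^ N →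
            Ideal.span {w} = Ideal.span {u₀} → False := by
          by_contra hcon
          push Not at hcon
          refine heq (le_antisymm ?_ ?_)
          · rw [Ideal.span_singleton_le_iff_mem]
            refine hclosed _ _ fun N => ?_
            obtain ⟨w, hw, hwN, hws, -⟩ := hcon N
            have hu : u₀ ∈ Ideal.span {w} := hws ▸ Ideal.mem_span_singleton_self u₀
            obtain ⟨c, rfl⟩ := Ideal.mem_span_singleton.1 hu
            rw [show w * c = algebraMap R T t₁ * c + (w - algebraMap R T t₁) * c by ring]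
            exact add_mem (Ideal.mem_sup_left (Ideal.mul_mem_right _ _ (Ideal.mem_span_singleton_self _)))
              (Ideal.mem_sup_right (Ideal.mul_mem_right _ _ hwN))
          · rw [Ideal.span_singleton_le_iff_mem]
            refine hclosed _ _ fun N => ?_
            obtain ⟨w, hw, hwN, hws, -⟩ := hcon N
            rw [show algebraMap R T t₁ = w + -(w - algebraMap R T t₁) by ring]
            exact add_mem (Ideal.mem_sup_left hw) (Ideal.mem_sup_right (neg_mem hwN))
        obtain ⟨N, hN⟩ := this
        exact ⟨N, fun u hu hd => (hN u (hsp u hu ▸ Ideal.mem_span_singleton_self u) hd (hsp u hu)).elim⟩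
    choose Nf hNf using hA
    letI := Fintype.ofFinite {a : Associates T // a ∣ Associates.mk (algebraMap R T Δ)}
    refine ⟨(Finset.univ.sup Nf) + 1, Nat.le_add_left 1 _, fun u v huv hd => ?_⟩
    refine hNf ⟨Associates.mk u, Associates.mk_dvd_mk.2 ⟨v, huv.symm⟩⟩ u rfl (Ideal.pow_le_pow_right ?_ hd)
    exact (Finset.le_sup (Finset.mem_univ _)).trans (Nat.le_add_right _ 1)
  -- approximation on a finite type model
  let B := Algebra.EssFiniteType.subalgebra R C
  haveI : Algebra.FinitePresentation R B := Algebra.FinitePresentation.of_finiteType.1 inferInstance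
  obtain ⟨n, φ, hφ, hker⟩ := Algebra.FinitePresentation.out (R := R) (A := B)
  obtain ⟨m, F, hF⟩ := Submodule.fg_iff_exists_fin_generating_family.1 hker
  let g₀B : B →ₐ[R] T := g₀.comp B.val
  let a : Fin n → T := fun i => g₀B (φ (MvPolynomial.X i))
  have ha : ∀ q : MvPolynomial (Fin n) R, MvPolynomial.aeval a q = g₀B (φ q) := fun q => by
    refine AlgHom.congr_fun (φ₁ := MvPolynomial.aeval a) (φ₂ := g₀B.comp φ) ?_ q
    exact MvPolynomial.algHom_ext fun i => by simp [a]
  obtain ⟨b, hb, hab⟩ := S0596.result R hG n m F a (fun j => by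
    rw [MvPolynomial.eval_map, ← MvPolynomial.aeval_def, ha,
      show φ (F j) = 0 from hF.le (Submodule.subset_span ⟨j, rfl⟩), map_zero]) N
  let h : B →ₐ[R] R := AlgHom.liftOfSurjective φ hφ (MvPolynomial.aeval b) (fun q hq => by
    have hle : RingHom.ker φ.toRingHom ≤ RingHom.ker (MvPolynomial.aeval b : MvPolynomial (Fin n) R →ₐ[R] R).toRingHom :=
      hF.ge.trans (Submodule.span_le.2 (by
        rintro _ ⟨j, rfl⟩
        show MvPolynomial.aeval b (F j) = 0
        rw [MvPolynomial.aeval_def, Algebra.algebraMap_self]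
        exact hb j))
    exact hle hq)
  let J : Ideal T := maximalIdeal T ^ N
  let π := Ideal.Quotient.mkₐ R J
  have hcongB : ∀ x : B, π (algebraMap R T (h x)) = π (g₀B x) := fun x => by
    obtain ⟨q, rfl⟩ := hφ x
    rw [AlgHom.liftOfSurjective_apply, ← ha]
    refine AlgHom.congr_fun (φ₁ := π.comp ((IsScalarTower.toAlgHom R R T).comp (MvPolynomial.aeval b)))
      (φ₂ := π.comp (MvPolynomial.aeval a)) ?_ q
    refine MvPolynomial.algHom_ext fun i => ?_
    show Ideal.Quotient.mk J _ = Ideal.Quotient.mk J _
    rw [Ideal.Quotient.eq]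
    have h1 := neg_mem (hab i)
    rw [neg_sub, Ideal.map_pow, ← hmT] at h1
    simpa using h1
  have hJle : J ≤ maximalIdeal T := Ideal.pow_le_self (by omega)
  have hunit : ∀ y : Algebra.EssFiniteType.submonoid R C, IsUnit (h y) := fun y => by
    have h1 : IsUnit (g₀B y) := ((IsLocalization.map_units C y).map g₀ :)
    by_contra h2
    have h3 : algebraMap R T (h y) ∈ maximalIdeal T := hmT ▸ Ideal.mem_map_of_mem _ h2
    have h4 : algebraMap R T (h y) - g₀B y ∈ J := Ideal.Quotient.eq.1 (hcongB y)
    have : g₀B y ∈ maximalIdeal T := by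
      simpa using sub_mem h3 (hJle h4)
    exact this h1
  let g : C →ₐ[R] R := IsLocalization.liftAlgHom (f := h) hunit
  have hcong : ∀ c : C, algebraMap R T (g c) - g₀ c ∈ J := by
    have h1 : (π.toRingHom.comp ((algebraMap R T).comp g.toRingHom)) = π.toRingHom.comp g₀.toRingHom := by
      refine IsLocalization.ringHom_ext (Algebra.EssFiniteType.submonoid R C) (RingHom.ext fun x => ?_)
      show π (algebraMap R T (g (algebraMap B C x))) = π (g₀ (algebraMap B C x))
      rw [IsLocalization.liftAlgHom_apply, IsLocalization.lift_eq]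
      exact hcongB x
    exact fun c => Ideal.Quotient.eq.1 (RingHom.congr_fun h1 c)
  have hgloc : ∀ c ∈ maximalIdeal C, g c ∈ maximalIdeal R := fun c hc => by
    by_contra hu
    have h1 : IsUnit (algebraMap R T (g c)) := (not_not.1 hu : IsUnit (g c)).map _
    refine (?_ : algebraMap R T (g c) ∈ maximalIdeal T) h1
    simpa using add_mem (hJle (hcong c)) (hg₀m c hc)
  letI : Algebra C R := g.toRingHom.toAlgebra
  haveI : IsLocalHom (algebraMap C R) := ⟨fun c hc => by
    by_contra hu
    exact hgloc c hu hc⟩
  obtain ⟨inst, tow⟩ := CplFib6.exists_cplMap C R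
  letI : Algebra T' T := inst
  haveI : IsScalarTower C T' T := tow
  refine ⟨g, algebraMap T' T, ?_, ?_⟩
  · rw [← IsScalarTower.algebraMap_eq, IsScalarTower.algebraMap_eq C R T]
    rfl
  have hall : ∀ x : T', algebraMap T' T x - g₀' x ∈ J := fun x => by
    obtain ⟨c, hc⟩ := CplFib6.exists_sub_mem_pow C N x
    have h1 : algebraMap T' T (x - algebraMap C T' c) ∈ J := by
      have h2 := Ideal.mem_map_of_mem (algebraMap T' T) hc
      rw [Ideal.map_map, ← IsScalarTower.algebraMap_eq, IsScalarTower.algebraMap_eq C R T, ← Ideal.map_map,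
        Ideal.map_pow, Ideal.map_pow] at h2
      refine Ideal.pow_right_mono ?_ N h2
      rw [hmT]
      exact Ideal.map_mono (Ideal.map_le_iff_le_comap.2 hgloc)
    have h3 : g₀' (x - algebraMap C T' c) ∈ J := by
      have h4 := Ideal.mem_map_of_mem g₀' hc
      rw [Ideal.map_pow, Ideal.map_pow, ← hmT'] at h4
      exact Ideal.pow_right_mono (((local_hom_TFAE g₀').out 0 2).mp (by infer_instance)) N h4
    have h5 : algebraMap T' T (algebraMap C T' c) - g₀' (algebraMap C T' c) ∈ J := by
      rw [← IsScalarTower.algebraMap_apply, IsScalarTower.algebraMap_apply C R T]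
      exact hcong c
    rw [map_sub] at h1 h3
    convert add_mem (sub_mem h1 h3) h5 using 1
    ring
  let u := ψ.symm (Ideal.Quotient.mk _ (X 0))
  let v := ψ.symm (Ideal.Quotient.mk _ (X 1))
  have huv : algebraMap T' T u * algebraMap T' T v = algebraMap R T Δ := by
    have h1 : u * v = algebraMap C T' (algebraMap R C Δ) := by
      rw [← map_mul ψ.symm, ← map_mul, RingEquiv.symm_apply_eq,
        (Ideal.Quotient.eq (x := X 0 * X 1) (y := MvPowerSeries.C (algebraMap R T Δ))).2 (Ideal.mem_span_singleton_self _)]
      exact (RingHom.congr_fun hψ Δ).symm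
    rw [← map_mul, h1, ← IsScalarTower.algebraMap_apply, IsScalarTower.algebraMap_apply C R T]
    show algebraMap R T (g (algebraMap R C Δ)) = _
    rw [AlgHom.commutes, Algebra.algebraMap_self, RingHom.id_apply]
  have hgu : g₀' u = algebraMap R T t₁ := by
    show ε' (ψ (ψ.symm _)) = _
    rw [ψ.apply_symm_apply]
    exact hε 0
  have hu := hN _ _ huv (hgu ▸ hall u)
  refine ⟨hu, ?_⟩
  obtain ⟨c, hc⟩ := Ideal.span_singleton_eq_span_singleton.1 hu.symm
  change Ideal.span {algebraMap T' T v} = Ideal.span {algebraMap R T t₂}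
  rw [← hc, mul_assoc, ← ht, map_mul] at huv
  rw [Ideal.span_singleton_eq_span_singleton]
  exact ⟨c, by rw [mul_comm]; exact mul_left_cancel₀ ht1ne huv⟩

end Groth.Agent.S19894
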