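import Groth.Statements.S13209
import Groth.Agent.AlgSpDec.LqfSplitZ

set_option autoImplicit false
set_option backward.isDefEq.respectTransparency false
set_option backward.isDefEq.respectTransparency.types false
set_option maxHeartbeats 1000000
set_option linter.style.haveILetI false
universe u
open CategoryTheory CategoryTheory.Limits AlgebraicGeometry
open Neron

set_option backward.isDefEq.respectTransparency false
set_option backward.isDefEq.respectTransparency.types false
set_option maxHeartbeats 1000000

open CategoryTheory.Limits Groth.Agent.AlgSpLib Groth.Agent.AlgSpDec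

namespace Groth.Agent.S13209

/-- Let S be a scheme, U ⊆ S a schematically dense open subscheme and N → S a smooth S-scheme with the
Néron mapping property for schemes with respect to U: for every smooth S-scheme Y, composition with
the projection Y ×_S U → Y is a bijection from S-morphisms Y → N onto S-morphisms Y ×_S U → N
(equivalently, onto U-morphisms Y ×_S U → N ×_S U). Then N also has the Néron mapping property with
respect to smooth algebraic spaces: for every algebraic space F over S (an fppf sheaf of sets on
S-schemes with representable diagonal and an étale surjective chart from a scheme) whose structure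
map to h_S is smooth, composition with the first projection F × h_U → F is a bijection from
morphisms of sheaves F → h_N onto morphisms F × h_U → h_N. -/
theorem result
    {S : Scheme.{u}} (U : S.Opens) (hU : CInt.IsSchematicallyDense U) (N : Over S) [Smooth N.hom]
    (hN : ∀ Y : Over S, Smooth Y.hom →
      Function.Bijective (fun g : Y ⟶ N => (Over.mapPullbackAdj U.ι).counit.app Y ≫ g))
    (F : AlgSp.Sp S) (hF : AlgSp.IsAlgSpace F)
    (sF : F ⟶ (AlgSp.yon S).obj (Over.mk (𝟙 S))) (hsm : AlgSp.LocP @Smooth sF) :
    Function.Bijective (fun φ : F ⟶ (AlgSp.yon S).obj N =>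
      (Limits.prod.fst : F ⨯ (AlgSp.yon S).obj (Over.mk U.ι) ⟶ F) ≫ φ) := by
  obtain ⟨V, a, hae, has⟩ := hF.atlas
  haveI : Sheaf.IsLocallySurjective a := isLocallySurjective_of_etale_surjective hae has
  haveI : Epi a := (Sheaf.isLocallySurjective_iff_epi a).1 inferInstance
  let Pt : Over S := Over.mk (𝟙 S)
  obtain ⟨h, hh⟩ := (AlgSp.yon S).map_surjective (a ≫ sF)
  haveI hVs : Smooth V.hom := by
    have hs : Smooth h.left := hsm a (𝟙 _) h hae (AlgSp.repWith_id _ Pt) (by rw [hh, Category.comp_id])
    have e : h.left = V.hom := (Category.comp_id _).symm.trans (Over.w h)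
    exact e ▸ hs
  have hr : AlgSp.Representable a := hae.rep
  let R := hr.pullback a
  let t : R ⟶ V := hr.fst' a
  let r : R ⟶ V := hr.snd a
  haveI hte : Etale r.left := hae.property_snd a
  haveI hRs : Smooth R.hom := by
    haveI : Smooth (r.left ≫ V.hom) := inferInstance
    exact Over.w r ▸ this
  have sq : IsPullback ((AlgSp.yon S).map t) ((AlgSp.yon S).map r) a a := hr.isPullback' a
  let W : Over S := Over.mk U.ι
  let Y₀ : Over S → Over S := fun Y => (Over.map U.ι).obj ((Over.pullback U.ι).obj Y)
  let c : ∀ Y : Over S, Y₀ Y ⟶ Y := fun Y => (Over.mapPullbackAdj U.ι).counit.app Y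
  let d : ∀ Y : Over S, Y₀ Y ⟶ W := fun Y => Over.homMk ((Over.pullback U.ι).obj Y).hom rfl
  have hW : ∀ {T : Over S} (x y : T ⟶ W), x = y := fun x y => by
    apply Over.OverMorphism.ext
    rw [← cancel_mono U.ι]
    exact (Over.w x).trans (Over.w y).symm
  let b : (AlgSp.yon S).obj (Y₀ V) ⟶ F ⨯ (AlgSp.yon S).obj W :=
    prod.lift ((AlgSp.yon S).map (c V) ≫ a) ((AlgSp.yon S).map (d V))
  haveI : Sheaf.IsLocallySurjective b := isLocallySurjective_of_lifts b fun T ξ => by
    obtain ⟨T', k, x, hk, hx⟩ := exists_fppf_lift_of_locallySurjective a (ξ ≫ prod.fst)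
    obtain ⟨x, rfl⟩ := (AlgSp.yon S).map_surjective x
    obtain ⟨w, hw⟩ := (AlgSp.yon S).map_surjective ((AlgSp.yon S).map k ≫ ξ ≫ prod.snd)
    let l : T' ⟶ Y₀ V := Over.homMk (pullback.lift x.left w.left ((Over.w x).trans (Over.w w).symm))
      (by
        show pullback.lift x.left w.left _ ≫ pullback.snd V.hom U.ι ≫ U.ι = T'.hom
        rw [pullback.lift_snd_assoc]
        exact Over.w w)
    have hlc : l ≫ c V = x := by
      apply Over.OverMorphism.ext
      show pullback.lift x.left w.left _ ≫ ((Over.mapPullbackAdj U.ι).counit.app V).left = x.left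
      simp
    refine ⟨T', k, (AlgSp.yon S).map l, hk, prod.hom_ext ?_ ?_⟩
    · simp only [b, Category.assoc, prod.lift_fst]
      rw [← Functor.map_comp_assoc, hlc, hx]
    · simp only [b, Category.assoc, prod.lift_snd]
      rw [← Functor.map_comp, hW (l ≫ d V) w, hw]
  haveI : Epi b := (Sheaf.isLocallySurjective_iff_epi b).1 inferInstance
  have hbf : b ≫ prod.fst = (AlgSp.yon S).map (c V) ≫ a := prod.lift_fst _ _
  constructor
  · intro φ₁ φ₂ h12
    obtain ⟨v₁, hv₁⟩ := (AlgSp.yon S).map_surjective (a ≫ φ₁)
    obtain ⟨v₂, hv₂⟩ := (AlgSp.yon S).map_surjective (a ≫ φ₂)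
    have hc : c V ≫ v₁ = c V ≫ v₂ := (AlgSp.yon S).map_injective (by
      rw [Functor.map_comp, Functor.map_comp, hv₁, hv₂, ← Category.assoc, ← Category.assoc _ _ φ₂, ← hbf,
        Category.assoc, Category.assoc]
      exact congrArg (b ≫ ·) h12)
    have hv : v₁ = v₂ := (hN V hVs).1 hc
    rw [← cancel_epi a, ← hv₁, ← hv₂, hv]
  · intro ψ
    obtain ⟨g, hg⟩ := (AlgSp.yon S).map_surjective (b ≫ ψ)
    obtain ⟨v, hv⟩ := (hN V hVs).2 g
    have key : ∀ (q : R ⟶ V), c R ≫ q = (Over.map U.ι).map ((Over.pullback U.ι).map q) ≫ c V := fun q =>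
      ((Over.mapPullbackAdj U.ι).counit.naturality q).symm
    have hRv : t ≫ v = r ≫ v := (hN R hRs).1 (by
      simp only
      show c R ≫ t ≫ v = c R ≫ r ≫ v
      rw [reassoc_of% (key t), reassoc_of% (key r)]
      show _ ≫ c V ≫ v = _ ≫ c V ≫ v
      rw [show c V ≫ v = g from hv]
      apply (AlgSp.yon S).map_injective
      rw [Functor.map_comp, Functor.map_comp, hg, ← Category.assoc, ← Category.assoc _ _ ψ]
      congr 1
      apply prod.hom_ext
      · simp only [b, Category.assoc, prod.lift_fst]
        rw [← Functor.map_comp_assoc, ← Functor.map_comp_assoc, ← key t, ← key r, Functor.map_comp,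
          Functor.map_comp, Category.assoc, Category.assoc, sq.w]
      · simp only [b, Category.assoc, prod.lift_snd]
        rw [← Functor.map_comp, ← Functor.map_comp, hW (_ ≫ d V) ((Over.map U.ι).map ((Over.pullback U.ι).map r) ≫ d V)])
    obtain ⟨φ, hφ⟩ := exists_desc_of_kernelPair sq ((AlgSp.yon S).map v) (by
      rw [← Functor.map_comp, ← Functor.map_comp, hRv])
    refine ⟨φ, ?_⟩
    simp only
    rw [← cancel_epi b, ← hg, ← hv, Functor.map_comp, ← hφ, ← Category.assoc, hbf, Category.assoc]

end Groth.Agent.S13209
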