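import Groth.Statements.S13210
import Groth.Agent.AlgSpLib.Rep
-- import your own Groth.Agent.* helpers here

set_option autoImplicit false
universe u
open CategoryTheory CategoryTheory.Limits AlgebraicGeometry
open AlgGrp

namespace Groth.Agent.S13210

/-- Let S be a scheme, F an algebraic space over S which is separated over S, and G a finite group
acting on F by S-automorphisms. If i : Z → F exhibits the fppf sheaf Z as the sub-sheaf of G-fixed
points of F (i is G-invariant and every G-invariant morphism W → F factors uniquely through i), then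
Z is an algebraic space and i is a closed immersion (representable by closed immersions). (The
published statement also treats a locally separated F, whose fixed points form a subspace, and
compatibility with base change; this row states only the separated case.) -/
theorem result
    {S : Scheme.{u}} (F : AlgSp.Sp S) (hF : AlgSp.IsAlgSpace F) (hsep : AlgSp.IsSeparatedSp F)
    (G : Type u) [Group G] [Finite G] (ρ : G →* Aut F)
    (Z : AlgSp.Sp S) (i : Z ⟶ F) (hi : ∀ g : G, i ≫ (ρ g).hom = i)
    (huniv : ∀ (W : AlgSp.Sp S) (x : W ⟶ F), (∀ g : G, x ≫ (ρ g).hom = x) → ∃! z : W ⟶ Z, z ≫ i = x) :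
    AlgSp.IsAlgSpace Z ∧ AlgSp.RepWith @IsClosedImmersion i := by
  classical
  haveI := Fintype.ofFinite G
  suffices key : ∀ s : Finset G, ∃ (Y : AlgSp.Sp S) (j : Y ⟶ F), Mono j ∧ AlgSp.RepWith @IsClosedImmersion j ∧
      (∀ g ∈ s, j ≫ (ρ g).hom = j) ∧
      ∀ (W : AlgSp.Sp S) (x : W ⟶ F), (∀ g ∈ s, x ≫ (ρ g).hom = x) → ∃ z : W ⟶ Y, z ≫ j = x by
    obtain ⟨Y, j, hjm, hj, hfix, hlift⟩ := key Finset.univ
    haveI := hjm
    obtain ⟨a, ha⟩ := hlift Z i fun g _ => hi g
    obtain ⟨b, hb, -⟩ := huniv Y j fun g => hfix g (Finset.mem_univ g)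
    have hba : b ≫ a = 𝟙 Y := by
      rw [← cancel_mono j, Category.assoc, ha, hb, Category.id_comp]
    have hab : a ≫ b = 𝟙 Z := (huniv Z i hi).unique (by rw [Category.assoc, hb, ha]) (Category.id_comp i)
    haveI : IsIso a := ⟨b, hab, hba⟩
    have hz : AlgSp.RepWith @IsClosedImmersion i :=
      ha ▸ AlgSpLib.repWith_comp (AlgSpLib.repWith_of_isIso _ a) hj
    exact ⟨AlgSpLib.isAlgSpace_of_representable i hz.1 hF, hz⟩
  intro s
  induction s using Finset.induction with
  | empty =>
    exact ⟨F, 𝟙 F, inferInstance, AlgSpLib.repWith_of_isIso _ _, fun g hg => absurd hg (Finset.notMem_empty g),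
      fun W x _ => ⟨x, Category.comp_id x⟩⟩
  | insert g s _ ih =>
    obtain ⟨Y, j, hjm, hj, hfix, hlift⟩ := ih
    haveI := hjm
    let gr : F ⟶ F ⨯ F := prod.lift (𝟙 F) (ρ g).hom
    let e : pullback (Limits.diag F) gr ⟶ F := pullback.snd _ _
    have hefix : e ≫ (ρ g).hom = e := by
      have h := pullback.condition (f := Limits.diag F) (g := gr)
      have h1 := h =≫ prod.fst
      have h2 := h =≫ prod.snd
      simp only [Category.assoc, prod.lift_fst, prod.lift_snd, gr, Category.comp_id] at h1 h2
      exact h2.symm.trans h1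
    refine ⟨pullback j e, pullback.fst j e ≫ j, inferInstance,
      AlgSpLib.repWith_comp (AlgSpLib.repWith_fst j (AlgSpLib.repWith_snd gr hsep)) hj, fun g' hg' => ?_, fun W x hx => ?_⟩
    · rcases Finset.mem_insert.1 hg' with rfl | hg'
      · rw [pullback.condition, Category.assoc, hefix]
      · rw [Category.assoc, hfix g' hg']
    · obtain ⟨z, hz⟩ := hlift W x fun g' hg' => hx g' (Finset.mem_insert_of_mem hg')
      have hg := hx g (Finset.mem_insert_self g s)
      let w : W ⟶ pullback (Limits.diag F) gr := pullback.lift x x (by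
        ext <;> simp [gr, hg])
      exact ⟨pullback.lift z w (hz.trans (pullback.lift_snd _ _ _).symm),
        by rw [← Category.assoc, pullback.lift_fst, hz]⟩

end Groth.Agent.S13210
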