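import Groth.Statements.S1327
import Groth.Agent.H1Sect.Flat

set_option autoImplicit false
universe u
open FlatMor

namespace Groth.Agent.S1327

open AlgebraicGeometry CategoryTheory Limits in
open AlgebraicGeometry CategoryTheory in
theorem isGeomReducedAt_of_geometricallyReduced {k : Type u} [Field k] {F : Scheme.{u}}
    (t : F ⟶ Spec (CommRingCat.of k)) (h : GeometricallyReduced t) (w : F) : FBase.IsGeomReducedAt t w := by
  intro K _ _ z _
  haveI : AlgebraicGeometry.IsReduced (FBase.bc t K) := pullback_of_geometrically h.geometrically_isReduced _ _
  infer_instance

open AlgebraicGeometry CategoryTheory Limits in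
/-- Let f be flat and of finite presentation with a section s, and let y be a point of the target whose
fibre is geometrically reduced. Then the section components of (f, s) contain an open neighbourhood
of the connected component of s y in the fibre over y. -/
theorem result {X Y : Scheme.{u}} (f : X ⟶ Y) (s : Y ⟶ X) (hs : s ≫ f = 𝟙 Y)
    [LocallyOfFinitePresentation f] [QuasiCompact f] [QuasiSeparated f] [Flat f] (y : Y)
    (hy : GeometricallyReduced (f.fiberToSpecResidueField y)) :
    connectedComponentIn (f ⁻¹' {y}) (s y) ⊆ interior (MoreMor.sectionComponents f s) := by
  refine Groth.Agent.H1Sect.subset_interior_flat f s hs y fun x' _ => ?_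
  exact isGeomReducedAt_of_geometricallyReduced (k := Y.residueField y) (f.fiberToSpecResidueField y) hy x'

end Groth.Agent.S1327
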