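import Groth.Statements.S13341
import Mathlib

set_option autoImplicit false
set_option backward.isDefEq.respectTransparency false
set_option backward.isDefEq.respectTransparency.types false
open CategoryTheory
universe u
open FCompl

namespace Groth.Agent.S13341

open AlgebraicGeometry CategoryTheory.Limits in
/-- Formal schemes are presented as locally Noetherian adic systems of thickenings and the fibre product
is taken levelwise (it presents the fibre product of formal schemes since one factor is adic over
the base). Let 𝔖 be a locally Noetherian formal system, 𝔛 and 𝔜 locally Noetherian formal systems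
over 𝔖 such that 𝔛 or 𝔜 is of finite type over 𝔖, and 𝔜 separated over 𝔖 at level 0. Then for every
𝔖-morphism f : 𝔛 → 𝔜 the graph morphism 𝔛 → 𝔛 ×_𝔖 𝔜 is a closed immersion: adic, with level 0 a
closed immersion. -/
theorem result {𝔛 𝔜 𝔖 : FSch.Sys.{u}} (h𝔖 : 𝔖.IsLocNoethFormal) (h𝔛 : 𝔛.IsLocNoethFormal)
    (h𝔜 : 𝔜.IsLocNoethFormal) (p : 𝔛 ⟶ 𝔖) (q : 𝔜 ⟶ 𝔖) (hpq : FSch.IsFiniteTypeHom p ∨ FSch.IsFiniteTypeHom q)
    (hq : IsSeparated ((q : FSch.Hom 𝔜 𝔖).app 0)) (f : 𝔛 ⟶ 𝔜) (w : f ≫ q = p) :
    FSch.IsClosedImmHom (FSch.graph f p q w) := by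
  refine ⟨fun n => ?_, ?_⟩
  · haveI : IsClosedImmersion (𝔛.ι n) := (h𝔛.1 n).1
    haveI : IsClosedImmersion (𝔜.ι n) := (h𝔜.1 n).1
    refine IsPullback.of_isLimit' ⟨((FSch.graph f p q w : FSch.Hom _ _).comm n).symm⟩
      (PullbackCone.IsLimit.mk _ (fun s => s.snd ≫ pullback.fst _ _) (fun s => ?_) (fun s => ?_) ?_)
    · have h := congrArg (· ≫ pullback.fst _ _) s.condition
      simp only [FSch.graph, FSch.pullbackSys, pullback.map, Category.assoc, pullback.lift_fst, Category.comp_id] at h
      rw [Category.assoc]
      exact h.symm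
    · have h1 := congrArg (· ≫ pullback.fst _ _) s.condition
      have h2 := congrArg (· ≫ pullback.snd _ _) s.condition
      simp only [FSch.graph, FSch.pullbackSys, pullback.map, Category.assoc, pullback.lift_fst, pullback.lift_snd,
        Category.comp_id] at h1 h2
      apply pullback.hom_ext
      · simp only [FSch.graph, Category.assoc, pullback.lift_fst, Category.comp_id]
      · simp only [FSch.graph, Category.assoc, pullback.lift_snd]
        rw [← cancel_mono (𝔜.ι n), Category.assoc, Category.assoc, (f : FSch.Hom _ _).comm n, ← reassoc_of% h1]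
        exact h2
    · intro s m hm1 hm2
      rw [← hm2, Category.assoc]
      simp [FSch.graph]
  · haveI := hq
    haveI : IsSeparated (pullback.fst ((p : FSch.Hom _ _).app 0) ((q : FSch.Hom _ _).app 0)) :=
      MorphismProperty.pullback_fst _ _ inferInstance
    haveI : IsClosedImmersion (((FSch.graph f p q w : FSch.Hom _ _).app 0) ≫
        pullback.fst ((p : FSch.Hom _ _).app 0) ((q : FSch.Hom _ _).app 0)) := by
      simp only [FSch.graph, pullback.lift_fst]; infer_instance
    exact IsClosedImmersion.of_comp _ (pullback.fst ((p : FSch.Hom _ _).app 0) ((q : FSch.Hom _ _).app 0))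

end Groth.Agent.S13341
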