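import Groth.Statements.S13372
import Groth.Agent.GaExt.PerfectBase
import Groth.Agent.PervTLib.ExtReal
import Groth.Agent.S13380
-- import your own Groth.Agent.* helpers here

set_option autoImplicit false
universe u
open GaDual

namespace Groth.Agent.S13372

open CategoryTheory AlgebraicGeometry Opposite MonoidalCategory CartesianMonoidalCategory in
open scoped MonObj in
open Groth.Agent.GaExt Groth.Agent.GrpSchLib Groth.Agent.Adeq2Lib Groth.Agent.Adeq2Lib.AffVan in
/-- Every extension has an additive lift of the universal point. -/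
theorem exists_additive (p : ℕ) [Fact p.Prime] (R : Type u) [CommRing R] [CharP R p]
    (hF : Function.Surjective (frobenius R p))
    (E : GmExt (CGrpSh.pts Scheme.fppfPrecoverage (Red.Ga (Spec (CommRingCat.of R))))) :
    ∃ y, E.qs _ y = ptSec (𝟙 (Red.Ga (Spec (CommRingCat.of R)))) ∧
      ∀ (T : Over (Spec (CommRingCat.of R))) (a b : T ⟶ Red.Ga (Spec (CommRingCat.of R))),
        sT E y (a * b) = sT E y a + sT E y b := by
  obtain ⟨m₁, hm₁, hline⟩ := exists_line (R := R)
  obtain ⟨y₀, hy₀⟩ := exists_lift_good (A := Polynomial R) E (Ch (cR R) (Polynomial R)).hom p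
    (good_polynomial hF) (fun T v => nsmul_sect v) (ptSec (chPt (R := R) (Polynomial.X : Polynomial R)))
  have hy₁ : E.qs _ (rA E.F m₁ y₀) = ptSec (𝟙 (Red.Ga (Spec (CommRingCat.of R)))) := by
    rw [E.qs_res]
    refine (congrArg (rA _ m₁) hy₀).trans ?_
    rw [ptSec_res]
    exact congrArg ptSec hm₁
  obtain ⟨y, hy, hone⟩ := exists_normal E hy₁
  let M := MvPolynomial (Fin 2) R
  obtain ⟨c, hc⟩ := exists_defect E hy (chPt (R := R) (MvPolynomial.X 0 : M))
    (chPt (R := R) (MvPolynomial.X 1 : M))
  let hh : Mˣ := (chUnit (cR R) M).symm c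
  have key : ∀ (B : Type u) [CommRing B] [Algebra R B] (g : M →ₐ[R] B),
      E.inc _ (chUnit (cR R) B (Units.map g.toRingHom.toMonoidHom hh)) =
        sT E y (chPt (g (MvPolynomial.X 0))) + sT E y (chPt (g (MvPolynomial.X 1))) -
          sT E y (chPt (g (MvPolynomial.X 0) + g (MvPolynomial.X 1))) := by
    intro B _ _ g
    rw [← E.inc_chMap, MulEquiv.apply_symm_apply, hc, map_sub, map_add, sT_res, sT_res, sT_res,
      MonObj.comp_mul, chMap_chPt, chMap_chPt, chPt_add]
  have hinj : ∀ (B : Type u) [CommRing B] [Algebra R B],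
      Function.Injective (fun d : Bˣ => E.inc _ (chUnit (cR R) B d)) := fun B _ _ a b h =>
    (chUnit (cR R) B).injective (E.inc_injective _ h)
  have h0 : MvPolynomial.aeval ![(MvPolynomial.X 0 : M), 0] (hh : M) = 1 := by
    refine congrArg Units.val (hinj M (a₁ := Units.map (MvPolynomial.aeval ![(MvPolynomial.X 0 : M), 0]).toRingHom.toMonoidHom hh)
      (a₂ := 1) ?_)
    show E.inc _ _ = E.inc _ _
    rw [key, map_one, E.inc_one, MvPolynomial.aeval_X, MvPolynomial.aeval_X]
    simp only [Matrix.cons_val_zero, Matrix.cons_val_one, add_zero, chPt_zero, hone, sub_self]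
  have hsymm : MvPolynomial.aeval ![(MvPolynomial.X 1 : M), MvPolynomial.X 0] (hh : M) = hh := by
    refine congrArg Units.val (hinj M (a₁ := Units.map (MvPolynomial.aeval ![(MvPolynomial.X 1 : M), MvPolynomial.X 0]).toRingHom.toMonoidHom hh)
      (a₂ := hh) ?_)
    show E.inc _ _ = E.inc _ _
    rw [key, MulEquiv.apply_symm_apply, hc, MvPolynomial.aeval_X, MvPolynomial.aeval_X]
    simp only [Matrix.cons_val_zero, Matrix.cons_val_one]
    rw [chPt_add, mul_comm (chPt (R := R) (MvPolynomial.X 1 : M)) (chPt (R := R) (MvPolynomial.X 0 : M)), add_comm]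
  let x : Fin 3 → MvPolynomial (Fin 3) R := MvPolynomial.X
  have hcoc : MvPolynomial.aeval ![x 1, x 2] (hh : M) * MvPolynomial.aeval ![x 0, x 1 + x 2] (hh : M) =
      MvPolynomial.aeval ![x 0 + x 1, x 2] (hh : M) * MvPolynomial.aeval ![x 0, x 1] (hh : M) := by
    let φ : ∀ a b : MvPolynomial (Fin 3) R, (MvPolynomial (Fin 3) R)ˣ := fun a b =>
      Units.map (MvPolynomial.aeval ![a, b]).toRingHom.toMonoidHom hh
    refine congrArg Units.val (hinj _ (a₁ := φ (x 1) (x 2) * φ (x 0) (x 1 + x 2))
      (a₂ := φ (x 0 + x 1) (x 2) * φ (x 0) (x 1)) ?_)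
    show E.inc _ _ = E.inc _ _
    simp only [φ, map_mul, E.inc_mul, key]
    simp only [M, MvPolynomial.aeval_X, Matrix.cons_val_zero, Matrix.cons_val_one, add_assoc]
    abel
  obtain ⟨f, hf, hfh⟩ := S13380.result p R hF (hh : M) hh.isUnit h0 hsymm hcoc
  obtain ⟨f, rfl⟩ := hf
  refine ⟨y + rA E.F m₁ (E.inc _ (chUnit (cR R) (Polynomial R) f)), ?_, fun T a b => ?_⟩
  · rw [map_add, hy, E.qs_res, E.qs_inc, map_zero, add_zero]
  have hS : ∀ {B : Type u} [CommRing B] [Algebra R B] (q : B),
      sT E (y + rA E.F m₁ (E.inc _ (chUnit (cR R) (Polynomial R) f))) (chPt (R := R) q) =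
        sT E y (chPt (R := R) q) + E.inc _ (chUnit (cR R) B (Units.map (Polynomial.aeval q).toRingHom.toMonoidHom f)) := by
    intro B _ _ q
    show rA E.F _ (_ + _) = _
    rw [map_add, rA_comp, hline, E.inc_chMap]
    rfl
  have huniv : sT E (y + rA E.F m₁ (E.inc _ (chUnit (cR R) (Polynomial R) f)))
        (chPt (R := R) (MvPolynomial.X 0 : M) * chPt (MvPolynomial.X 1 : M)) =
      sT E (y + rA E.F m₁ (E.inc _ (chUnit (cR R) (Polynomial R) f))) (chPt (R := R) (MvPolynomial.X 0 : M)) +
        sT E (y + rA E.F m₁ (E.inc _ (chUnit (cR R) (Polynomial R) f))) (chPt (R := R) (MvPolynomial.X 1 : M)) := by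
    rw [← chPt_add, hS, hS, hS]
    have hu : Units.map (Polynomial.aeval (MvPolynomial.X 0 + MvPolynomial.X 1 : M)).toRingHom.toMonoidHom f =
        Units.map (Polynomial.aeval (MvPolynomial.X 0 : M)).toRingHom.toMonoidHom f *
          Units.map (Polynomial.aeval (MvPolynomial.X 1 : M)).toRingHom.toMonoidHom f * hh := Units.ext hfh
    rw [hu]
    simp only [map_mul, E.inc_mul]
    rw [show E.inc _ (chUnit (cR R) M hh) = sT E y (chPt (MvPolynomial.X 0 : M)) +
      sT E y (chPt (MvPolynomial.X 1 : M)) - sT E y (chPt (MvPolynomial.X 0 + MvPolynomial.X 1 : M)) by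
        rw [MulEquiv.apply_symm_apply, hc, chPt_add]]
    abel
  obtain ⟨m, rfl, rfl⟩ := exists_pair a b
  have h := congrArg (rA E.F m) huniv
  rw [map_add, sT_res, sT_res, sT_res, MonObj.comp_mul] at h
  exact h

open CategoryTheory AlgebraicGeometry in
/-- For a commutative ring R of prime characteristic p with surjective Frobenius, the group Ext^1 of the
additive group by the multiplicative group, computed in the category of abelian sheaves on the big
fppf site of Spec R, vanishes. -/
theorem result (p : ℕ) [Fact p.Prime] (R : Type u) [CommRing R]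
    [CharP R p] (hF : Function.Surjective (frobenius R p)) :
    Subsingleton (CGrpSh.ExtS Scheme.fppfPrecoverage
      (Red.Ga (Spec (CommRingCat.of R))) (Red.Gm (Spec (CommRingCat.of R))) 1) := by
  exact GaExt.subsingleton_extS (fun E => exists_additive p R hF E)
    (fun x => Groth.Agent.PervTLib.exists_shortExact_extClass x)

end Groth.Agent.S13372
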