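import Groth.Statements.S13375
import Mathlib
-- import your own Groth.Agent.* helpers here

set_option autoImplicit false
set_option backward.isDefEq.respectTransparency false
set_option backward.isDefEq.respectTransparency.types false
universe u v
open CechDer

namespace Groth.Agent.S13375

open CategoryTheory CategoryTheory.Limits ZeroObject

variable {V : Type u} [Category.{v} V] [Abelian V]

/-- Two compatible maps into an injective extend to a common map. -/
theorem extend {A B X I : V} [Injective I] (a : A ⟶ X) (b : B ⟶ X) (u : A ⟶ I) (v : B ⟶ I)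
    (h : ∀ {T : V} (p : T ⟶ A) (q : T ⟶ B), p ≫ a = q ≫ b → p ≫ u = q ≫ v) :
    ∃ f : X ⟶ I, a ≫ f = u ∧ b ≫ f = v := by
  let m : A ⊞ B ⟶ X := biprod.desc a b
  have hk : kernel.ι m ≫ biprod.desc u v = 0 := by
    have h2 : kernel.ι m ≫ m = 0 := kernel.condition m
    generalize kernel.ι m = k at h2 ⊢
    have h1 : (k ≫ biprod.fst) ≫ a = (-(k ≫ biprod.snd)) ≫ b := by
      rw [Preadditive.neg_comp, eq_neg_iff_add_eq_zero, ← h2]
      simp [m, biprod.desc_eq]
    have h3 := h _ _ h1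
    rw [biprod.desc_eq, Preadditive.comp_add, ← Category.assoc, ← Category.assoc, h3, Preadditive.neg_comp]
    exact neg_add_cancel _
  let φ : Abelian.coimage m ⟶ I := cokernel.desc _ (biprod.desc u v) hk
  have key : ∀ (g : X ⟶ I), Abelian.factorThruCoimage m ≫ g = φ → m ≫ g = biprod.desc u v := fun g hg => by
    have h3 : m ≫ g = Abelian.coimage.π m ≫ Abelian.factorThruCoimage m ≫ g := by
      rw [← Category.assoc, Abelian.coimage.fac]
    rw [h3, hg]
    exact cokernel.π_desc _ _ _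
  obtain ⟨g, hg⟩ : ∃ g : X ⟶ I, Abelian.factorThruCoimage m ≫ g = φ :=
    ⟨_, Injective.comp_factorThru φ (Abelian.factorThruCoimage m)⟩
  exact ⟨g, by simpa [m] using biprod.inl ≫= key g hg, by simpa [m] using biprod.inr ≫= key g hg⟩

variable {C I : CochainComplex V ℕ}

theorem refine_cycle (hC : ∀ n, 0 < n → C.ExactAt n) (n : ℕ) {T : V} (z : T ⟶ C.X (n + 1))
    (hz : z ≫ C.d (n + 1) (n + 2) = 0) :
    ∃ (T' : V) (ρ : T' ⟶ T) (_ : Epi ρ) (w : T' ⟶ C.X n), ρ ≫ z = w ≫ C.d n (n + 1) :=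
  ((C.exactAt_iff' n (n + 1) (n + 2) (by simp) (by simp)).1 (hC _ n.succ_pos)).exact_up_to_refinements z hz

/-- A degree `n` map sends cocycles to cocycles. -/
def Inv (n : ℕ) (f : C.X n ⟶ I.X n) : Prop :=
  ∀ {T : V} (z : T ⟶ C.X n), z ≫ C.d n (n + 1) = 0 → z ≫ f ≫ I.d n (n + 1) = 0

theorem inv_succ (hC : ∀ n, 0 < n → C.ExactAt n) {n : ℕ} {f : C.X n ⟶ I.X n} {f' : C.X (n + 1) ⟶ I.X (n + 1)}
    (h : C.d n (n + 1) ≫ f' = f ≫ I.d n (n + 1)) : Inv (n + 1) f' := fun z hz => by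
  obtain ⟨T', ρ, hρ, w, hw⟩ := refine_cycle hC n z hz
  rw [← cancel_epi ρ, comp_zero, ← Category.assoc, hw, Category.assoc, ← Category.assoc (C.d _ _), h]
  simp

theorem inv_zero {f : C.X 0 ⟶ I.X 0} (G : C.cycles 0 ⟶ I.cycles 0)
    (h : C.iCycles 0 ≫ f = G ≫ I.iCycles 0) : Inv 0 f := fun z hz => by
  rw [← C.liftCycles_i z 1 (by simp) hz, Category.assoc, ← Category.assoc (C.iCycles 0), h]
  simp

/-- Build a chain map degree by degree. -/
theorem build (hC : ∀ n, 0 < n → C.ExactAt n) (P : ∀ n, (C.X n ⟶ I.X n) → Prop) (f₀ : C.X 0 ⟶ I.X 0)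
    (h₀ : P 0 f₀) (i₀ : Inv 0 f₀)
    (step : ∀ n f, P n f → Inv n f → ∃ f', P (n + 1) f' ∧ C.d n (n + 1) ≫ f' = f ≫ I.d n (n + 1)) :
    ∃ F : C ⟶ I, F.f 0 = f₀ ∧ ∀ n, P n (F.f n) := by
  let S : ℕ → Type v := fun n => { f : C.X n ⟶ I.X n // P n f ∧ Inv n f }
  let next : ∀ n, S n → S (n + 1) := fun n f =>
    ⟨(step n f.1 f.2.1 f.2.2).choose, (step n f.1 f.2.1 f.2.2).choose_spec.1,
      inv_succ hC (step n f.1 f.2.1 f.2.2).choose_spec.2⟩
  let fam : ∀ n, S n := fun n => Nat.rec ⟨f₀, h₀, i₀⟩ next n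
  refine ⟨⟨fun n => (fam n).1, ?_⟩, rfl, fun n => (fam n).2.1⟩
  rintro i _ rfl
  exact (step i (fam i).1 (fam i).2.1 (fam i).2.2).choose_spec.2.symm

/-- The map of degree zero cocycles given by a map of degree zero cohomology. -/
noncomputable def cyc (g : C.homology 0 ⟶ I.homology 0) : C.cycles 0 ⟶ I.cycles 0 :=
  C.homologyπ 0 ≫ g ≫ I.isoHomologyπ₀.inv

theorem cyc_π (g : C.homology 0 ⟶ I.homology 0) : cyc g ≫ I.homologyπ 0 = C.homologyπ 0 ≫ g := by
  show (C.homologyπ 0 ≫ g ≫ I.isoHomologyπ₀.inv) ≫ I.isoHomologyπ₀.hom = _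
  simp only [Category.assoc, Iso.inv_hom_id, Category.comp_id]

theorem homologyMap_zero_eq {g : C.homology 0 ⟶ I.homology 0} (F : C ⟶ I)
    (h : C.iCycles 0 ≫ F.f 0 = cyc g ≫ I.iCycles 0) : HomologicalComplex.homologyMap F 0 = g := by
  have h1 : HomologicalComplex.cyclesMap F 0 = cyc g := by
    rw [← cancel_mono (I.iCycles 0), HomologicalComplex.cyclesMap_i, h]
  rw [← cancel_epi (C.homologyπ 0), HomologicalComplex.homologyπ_naturality, h1, cyc_π]

theorem cyc_naturality {C' I' : CochainComplex V ℕ} (j : C' ⟶ C) (k : I' ⟶ I)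
    (g' : C'.homology 0 ⟶ I'.homology 0) (g : C.homology 0 ⟶ I.homology 0)
    (h : HomologicalComplex.homologyMap j 0 ≫ g = g' ≫ HomologicalComplex.homologyMap k 0) :
    HomologicalComplex.cyclesMap j 0 ≫ cyc g = cyc g' ≫ HomologicalComplex.cyclesMap k 0 := by
  haveI : Mono (I.homologyπ 0) := inferInstanceAs (Mono I.isoHomologyπ₀.hom)
  rw [← cancel_mono (I.homologyπ 0), Category.assoc, Category.assoc, cyc_π,
    ← HomologicalComplex.homologyπ_naturality, ← Category.assoc (cyc g'), cyc_π,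
    ← HomologicalComplex.homologyπ_naturality_assoc, h, Category.assoc]


open CategoryTheory CategoryTheory.Limits in
/-- In an abelian category, given two degreewise left exact sequences of nonnegatively graded cochain
complexes 0 → C' → C → C'' and 0 → I' → I → I'', each complex exact in positive degrees and the I's
termwise injective, every commutative ladder of maps g', g, g'' between their degree-zero
cohomologies is induced by chain maps f' : C' → I', f : C → I, f'' : C'' → I'' commuting with the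
given maps of complexes. -/
theorem result {V : Type u} [Category.{v} V]
    [Abelian V] (C' C C'' I' I I'' : CochainComplex V ℕ)
    (jC : C' ⟶ C) (πC : C ⟶ C'') (jI : I' ⟶ I) (πI : I ⟶ I'')
    (mC : ∀ n, Mono (jC.f n)) (wC : ∀ n, jC.f n ≫ πC.f n = 0)
    (exC : ∀ n, (ShortComplex.mk (jC.f n) (πC.f n) (wC n)).Exact)
    (mI : ∀ n, Mono (jI.f n)) (wI : ∀ n, jI.f n ≫ πI.f n = 0)
    (exI : ∀ n, (ShortComplex.mk (jI.f n) (πI.f n) (wI n)).Exact)
    (hC' : ∀ n, 0 < n → C'.ExactAt n) (hC : ∀ n, 0 < n → C.ExactAt n) (hC'' : ∀ n, 0 < n → C''.ExactAt n)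
    (hI' : ∀ n, 0 < n → I'.ExactAt n) (hI : ∀ n, 0 < n → I.ExactAt n) (hI'' : ∀ n, 0 < n → I''.ExactAt n)
    (injI' : ∀ n, Injective (I'.X n)) (injI : ∀ n, Injective (I.X n)) (injI'' : ∀ n, Injective (I''.X n))
    (g' : C'.homology 0 ⟶ I'.homology 0) (g : C.homology 0 ⟶ I.homology 0)
    (g'' : C''.homology 0 ⟶ I''.homology 0)
    (hg1 : HomologicalComplex.homologyMap jC 0 ≫ g = g' ≫ HomologicalComplex.homologyMap jI 0)
    (hg2 : HomologicalComplex.homologyMap πC 0 ≫ g'' = g ≫ HomologicalComplex.homologyMap πI 0) :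
    ∃ (f' : C' ⟶ I') (f : C ⟶ I) (f'' : C'' ⟶ I''),
      jC ≫ f = f' ≫ jI ∧ πC ≫ f'' = f ≫ πI ∧
      HomologicalComplex.homologyMap f' 0 = g' ∧ HomologicalComplex.homologyMap f 0 = g ∧
      HomologicalComplex.homologyMap f'' 0 = g'' := by
  haveI := injI'; haveI := injI; haveI := injI''; haveI := mC
  obtain ⟨a₀, -, ha₀⟩ := extend (0 : (0 : V) ⟶ C'.X 0) (C'.iCycles 0) (0 : (0 : V) ⟶ I'.X 0)
    (cyc g' ≫ I'.iCycles 0) fun p q h => by
      rw [comp_zero] at h ⊢
      rw [← cancel_mono (C'.iCycles 0) |>.1 (h.symm.trans zero_comp.symm) |>.symm, zero_comp]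
  obtain ⟨f', hf'₀, -⟩ := build hC' (fun _ _ => True) a₀ trivial (inv_zero _ ha₀) fun n f _ hf => by
    obtain ⟨e, -, he⟩ := extend (0 : (0 : V) ⟶ C'.X (n + 1)) (C'.d n (n + 1)) (0 : (0 : V) ⟶ I'.X (n + 1))
      (f ≫ I'.d n (n + 1)) fun p q h => by
        rw [comp_zero] at h ⊢
        exact (hf q h.symm).symm
    exact ⟨e, trivial, he⟩
  subst hf'₀
  obtain ⟨b₀, hb, hb₀⟩ := extend (jC.f 0) (C.iCycles 0) (f'.f 0 ≫ jI.f 0) (cyc g ≫ I.iCycles 0)
    fun p q h => by
      have hp : p ≫ C'.d 0 1 = 0 := by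
        rw [← cancel_mono (jC.f 1), zero_comp, Category.assoc, ← jC.comm, ← Category.assoc, h]; simp
      rw [← C'.liftCycles_i p 1 (by simp) hp] at h ⊢
      rw [Category.assoc, ← HomologicalComplex.cyclesMap_i, ← Category.assoc, cancel_mono] at h
      rw [← h, Category.assoc, reassoc_of% ha₀, Category.assoc, ← HomologicalComplex.cyclesMap_i jI,
        reassoc_of% (cyc_naturality jC jI g' g hg1)]
  obtain ⟨f, hf₀, hf⟩ := build hC (fun n e => jC.f n ≫ e = f'.f n ≫ jI.f n) b₀ hb (inv_zero _ hb₀)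
    fun n e he hi => by
      obtain ⟨e', h1, h2⟩ := extend (jC.f (n + 1)) (C.d n (n + 1)) (f'.f (n + 1) ≫ jI.f (n + 1))
        (e ≫ I.d n (n + 1)) fun p q h => by
          have hp : p ≫ C'.d (n + 1) (n + 2) = 0 := by
            rw [← cancel_mono (jC.f (n + 2)), zero_comp, Category.assoc, ← jC.comm, ← Category.assoc, h]; simp
          obtain ⟨T', ρ, hρ, w, hw⟩ := refine_cycle hC' n p hp
          have h3 : (ρ ≫ q - w ≫ jC.f n) ≫ C.d n (n + 1) = 0 := by
            rw [Preadditive.sub_comp, Category.assoc, ← h, Category.assoc, jC.comm, reassoc_of% hw, sub_self]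
          have h4 := hi _ h3
          rw [Preadditive.sub_comp, sub_eq_zero, Category.assoc, Category.assoc, reassoc_of% he, jI.comm,
            f'.comm_assoc] at h4
          rw [← cancel_epi ρ, h4, reassoc_of% hw]
      exact ⟨e', h1, h2⟩
  subst hf₀
  obtain ⟨c₀, hc, hc₀⟩ := extend (πC.f 0) (C''.iCycles 0) (f.f 0 ≫ πI.f 0) (cyc g'' ≫ I''.iCycles 0)
    fun p q h => by
      have hp : (p ≫ C.d 0 1) ≫ πC.f 1 = 0 := by
        rw [Category.assoc, ← πC.comm, ← Category.assoc, h]; simp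
      haveI : Mono (ShortComplex.mk (jC.f 1) (πC.f 1) (wC 1)).f := mC 1
      obtain ⟨c', hc'⟩ := (exC 1).lift' (p ≫ C.d 0 1) hp
      dsimp at hc'
      have hc'd : c' ≫ C'.d 1 2 = 0 := by
        rw [← cancel_mono (jC.f 2), zero_comp, Category.assoc, ← jC.comm, ← Category.assoc, hc']; simp
      obtain ⟨T', ρ, hρ, w, hw⟩ := refine_cycle hC' 0 c' hc'd
      have h3 : (ρ ≫ p - w ≫ jC.f 0) ≫ C.d 0 1 = 0 := by
        rw [Preadditive.sub_comp, Category.assoc, ← hc', Category.assoc, jC.comm, reassoc_of% hw, sub_self]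
      let z := C.liftCycles (ρ ≫ p - w ≫ jC.f 0) 1 (by simp) h3
      have hz : z ≫ C.iCycles 0 = ρ ≫ p - w ≫ jC.f 0 := C.liftCycles_i _ _ _ _
      have hq : ρ ≫ q = z ≫ HomologicalComplex.cyclesMap πC 0 := by
        rw [← cancel_mono (C''.iCycles 0), Category.assoc, Category.assoc, HomologicalComplex.cyclesMap_i,
          ← h, reassoc_of% hz, Preadditive.sub_comp, Category.assoc, Category.assoc, wC, comp_zero, sub_zero]
      rw [← cancel_epi ρ, reassoc_of% hq, reassoc_of% (cyc_naturality πC πI g g'' hg2),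
        HomologicalComplex.cyclesMap_i, ← reassoc_of% hb₀, reassoc_of% hz, Preadditive.sub_comp,
        Category.assoc, Category.assoc, reassoc_of% hb, wI, comp_zero, comp_zero, sub_zero]
  obtain ⟨f'', hf''₀, hf''⟩ := build hC'' (fun n e => πC.f n ≫ e = f.f n ≫ πI.f n) c₀ hc (inv_zero _ hc₀)
    fun n e he hi => by
      obtain ⟨e', h1, h2⟩ := extend (πC.f (n + 1)) (C''.d n (n + 1)) (f.f (n + 1) ≫ πI.f (n + 1))
        (e ≫ I''.d n (n + 1)) fun p q h => by
          have hp : (p ≫ C.d (n + 1) (n + 2)) ≫ πC.f (n + 2) = 0 := by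
            rw [Category.assoc, ← πC.comm, ← Category.assoc, h]; simp
          haveI : Mono (ShortComplex.mk (jC.f (n + 2)) (πC.f (n + 2)) (wC (n + 2))).f := mC (n + 2)
          obtain ⟨c', hc'⟩ := (exC (n + 2)).lift' (p ≫ C.d (n + 1) (n + 2)) hp
          dsimp at hc'
          have hc'd : c' ≫ C'.d (n + 2) (n + 3) = 0 := by
            rw [← cancel_mono (jC.f (n + 3)), zero_comp, Category.assoc, ← jC.comm, ← Category.assoc, hc']; simp
          obtain ⟨T₁, ρ₁, hρ₁, w, hw⟩ := refine_cycle hC' (n + 1) c' hc'd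
          have h3 : (ρ₁ ≫ p - w ≫ jC.f (n + 1)) ≫ C.d (n + 1) (n + 2) = 0 := by
            rw [Preadditive.sub_comp, Category.assoc, ← hc', Category.assoc, jC.comm, reassoc_of% hw, sub_self]
          obtain ⟨T₂, ρ₂, hρ₂, z, hz⟩ := refine_cycle hC n _ h3
          have h5 : (ρ₂ ≫ ρ₁ ≫ q - z ≫ πC.f n) ≫ C''.d n (n + 1) = 0 := by
            rw [Preadditive.sub_comp, Category.assoc, Category.assoc, ← h, Category.assoc, πC.comm,
              ← reassoc_of% hz, Preadditive.sub_comp, Category.assoc, Category.assoc, wC, comp_zero,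
              sub_zero, sub_self]
          have h6 := hi _ h5
          rw [Preadditive.sub_comp, sub_eq_zero, Category.assoc, Category.assoc, Category.assoc,
            reassoc_of% he, πI.comm, f.comm_assoc, ← reassoc_of% hz, Preadditive.sub_comp,
            Category.assoc, Category.assoc, reassoc_of% (hf (n + 1)), wI, comp_zero, comp_zero, sub_zero] at h6
          rw [← cancel_epi ρ₁, ← cancel_epi ρ₂, h6]
      exact ⟨e', h1, h2⟩
  subst hf''₀
  exact ⟨f', f, f'', HomologicalComplex.hom_ext _ _ hf, HomologicalComplex.hom_ext _ _ hf'',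
    homologyMap_zero_eq f' ha₀, homologyMap_zero_eq f hb₀, homologyMap_zero_eq f'' hc₀⟩

end Groth.Agent.S13375
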