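import Groth.Statements.S13383
import Groth.Agent.GaExt.Split
import Groth.Agent.GaExt.Zariski
import Groth.Agent.GaChar.Units
import Groth.Agent.PervTLib.ExtReal
-- import your own Groth.Agent.* helpers here

set_option autoImplicit false
universe u
open GaDual

namespace Groth.Agent.S13383

open CategoryTheory Limits AlgebraicGeometry MonoidalCategory CartesianMonoidalCategory Opposite in
open scoped MonObj in
open Groth.Agent.GaExt Groth.Agent.GrpSchLib Groth.Agent.Adeq2Lib Groth.Agent.Adeq2Lib.AffVan in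
/-- A normalised lift of the universal point over a reduced base is additive. -/
theorem additive (X : Scheme.{u}) [IsReduced X] (E : GmExt (CGrpSh.pts Scheme.fppfPrecoverage (Red.Ga X)))
    {y : E.F.obj.obj (op (Red.Ga X))} (hy : E.qs _ y = ptSec (𝟙 (Red.Ga X)))
    (h1 : ∀ T : Over X, sT E y (1 : T ⟶ Red.Ga X) = 0) (T : Over X) (a b : T ⟶ Red.Ga X) :
    sT E y (a * b) = sT E y a + sT E y b := by
  let n : Type u := ULift.{u} (Fin 2)
  let V : Over X := Over.mk (𝔸(n; X) ↘ X)
  let pr : n → (V ⟶ Red.Ga X) := fun i => GaPts.ptOfFn (T := V) (AffineSpace.coord X i)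
  let r : V ⟶ V := Over.homMk (GaChar.retr n X) (GaChar.retr_over _ _)
  have hr : ∀ i, r ≫ pr i = 1 := fun i => by
    apply GaPts.gaFn_injective
    show Red.gaFn (r ≫ pr i) = Red.gaFn (1 : V ⟶ Red.Ga X)
    rw [GaPts.gaFn_comp, GaPts.gaFn_ptOfFn, GaPts.gaFn_one]
    exact GaChar.retr_coord _ _ _
  obtain ⟨c, hc⟩ := exists_defect E hy (pr ⟨0⟩) (pr ⟨1⟩)
  have hc0 : E.inc V c = 0 := by
    have h2 : Units.map r.left.appTop.hom.toMonoidHom c = c :=
      Units.ext (GaChar.retr_unit n X _ c.isUnit)
    have h3 : r ≫ (pr ⟨0⟩ * pr ⟨1⟩) = 1 := by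
      rw [MonObj.comp_mul, hr, hr]
      exact mul_one (1 : V ⟶ Red.Ga X)
    rw [← h2, ← E.inc_res, hc, map_sub, map_add, sT_res, sT_res, sT_res, h3, hr, hr]
    erw [h1]
    rw [add_zero, sub_zero]
  let m : T ⟶ V := Over.homMk (AffineSpace.homOfVector T.hom
    (fun i : n => ![Red.gaFn a, Red.gaFn b] i.down)) (AffineSpace.homOfVector_over _ _)
  have hm : ∀ i, Red.gaFn (m ≫ pr i) = ![Red.gaFn a, Red.gaFn b] i.down := fun i => by
    rw [GaPts.gaFn_comp, GaPts.gaFn_ptOfFn]
    exact AffineSpace.homOfVector_appTop_coord _ _ _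
  have ha : m ≫ pr ⟨0⟩ = a := GaPts.gaFn_injective (by simpa using hm ⟨0⟩)
  have hb : m ≫ pr ⟨1⟩ = b := GaPts.gaFn_injective (by simpa using hm ⟨1⟩)
  have h := congrArg (rA E.F m) (hc.symm.trans hc0)
  rw [map_zero, map_sub, map_add, sT_res, sT_res, sT_res, MonObj.comp_mul, ha, hb, sub_eq_zero] at h
  exact h.symm


open CategoryTheory AlgebraicGeometry in
/-- Let X be a reduced scheme such that every invertible module on the total space of the additive group
over X (the affine line over X) is trivial. Then Ext^1 of the additive group by the multiplicative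
group, computed in abelian sheaves on the big fppf site of X, vanishes. (The published statement
concludes H^1(X, Hom-sheaf(G_a, G_m)) = 0, which follows from this Ext^1 vanishing; this row states
the Ext^1 vanishing.) -/
theorem result (X : Scheme.{u}) [IsReduced X]
    (hPic : ∀ L : (Red.Ga X).left.Modules, PicF.IsInvertible L →
      Nonempty (L ≅ Coh.structureModule (Red.Ga X).left)) :
    Subsingleton (CGrpSh.ExtS Scheme.fppfPrecoverage (Red.Ga X) (Red.Gm X) 1) := by
  refine GaExt.subsingleton_extS (fun E => ?_) (fun x => Groth.Agent.PervTLib.exists_shortExact_extClass x)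
  obtain ⟨ι, U, hU, hl⟩ := GaExt.exists_lift_opens E (Red.Ga X) (GaExt.ptSec (𝟙 (Red.Ga X)))
  choose y hy using hl
  obtain ⟨y₀, hy₀⟩ := GaExt.exists_lift_of_pic E (Red.Ga X) hPic _ U hU y hy
  obtain ⟨y', hy', h1⟩ := GaExt.exists_normal E hy₀
  exact ⟨y', hy', additive X E hy' h1⟩

end Groth.Agent.S13383
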