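import Groth.Statements.S13390
import Groth.Agent.SymGraded.Point

set_option autoImplicit false
universe u
open scoped TensorProduct
open ZeroCyc

namespace Groth.Agent.S13390

/-- Let A be a commutative ring, B a graded A-algebra generated by its degree-one part B_1 with B_1 a
finitely generated A-module, and d ≥ 0. Inside the d-fold tensor power T^d_A(B) let C_k be the
A-span of the pure tensors b_1 ⊗ ⋯ ⊗ b_d with all b_i ∈ B_k, let C = Σ_k C_k (the A-subalgebra
generated by these pure tensors; Proj C is the d-fold fibre product of X = Proj B over S = Spec A)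
and let D = C ∩ TS^d_A(B) be its subring of symmetric tensors, graded by D_k = C_k ∩ TS^d_A(B), so
that Proj D is the symmetric product Sym^d(X/S). Then Proj D is covered in degree one: every t ∈ D_k
with k ≥ 1 has some power t^m, m ≥ 1, in the ideal of D generated by D_1. -/
theorem result {A B : Type u} [CommRing A] [CommRing B] [Algebra A B]
    (𝒜 : ℕ → Submodule A B) [GradedAlgebra 𝒜] (hgen : Algebra.adjoin A (𝒜 1 : Set B) = ⊤) (hfg : (𝒜 1).FG) (d : ℕ)
    (D : Subalgebra A (⨂[A] _ : Fin d, B))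
    (hD : D = Algebra.adjoin A {t | ∃ (k : ℕ) (b : Fin d → B), (∀ i, b i ∈ 𝒜 k) ∧ t = PiTensorProduct.tprod A b}
      ⊓ SymTen.TS A B d)
    (k : ℕ) (hk : 0 < k) (t : ⨂[A] _ : Fin d, B) (htD : t ∈ D)
    (htk : t ∈ Submodule.span A {s | ∃ b : Fin d → B, (∀ i, b i ∈ 𝒜 k) ∧ s = PiTensorProduct.tprod A b}) :
    ∃ m : ℕ, 0 < m ∧ (⟨t, htD⟩ : D) ^ m ∈
      Ideal.span {x : D | (x : ⨂[A] _ : Fin d, B) ∈
        Submodule.span A {s | ∃ b : Fin d → B, (∀ i, b i ∈ 𝒜 1) ∧ s = PiTensorProduct.tprod A b}} := by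
  classical
  by_contra hne
  push Not at hne
  obtain ⟨R, _, _, _, χ, hJ, ht⟩ := SymGraded.exists_point hD _ (⟨t, htD⟩ : D) hne
  obtain ⟨b, hb, hc⟩ := SymGraded.exists_pureT_ne_zero χ hgen hk (t := Subalgebra.inclusion (hD.le.trans inf_le_left) ⟨t, htD⟩) htk ht
  obtain ⟨e, he⟩ := SymGraded.exists_orbitSum_ne_zero χ hb hc
  refine he (hJ ⟨_, hD.ge (SymGraded.orbitSum_mem hb e)⟩ (Ideal.subset_span ?_))
  exact Submodule.sum_mem _ fun f _ => Submodule.subset_span
    (show PiTensorProduct.tprod A (fun i => b (f i)) ∈ {s | ∃ c : Fin d → B, (∀ i, c i ∈ 𝒜 1) ∧ s = PiTensorProduct.tprod A c} from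
      ⟨_, fun i => hb (f i), rfl⟩)

end Groth.Agent.S13390
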