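import Groth.Statements.S13414
import Groth.Agent.HLocCd.Setup
-- import your own Groth.Agent.* helpers here

set_option autoImplicit false
universe u
open CategoryTheory CategoryTheory.Limits AlgebraicGeometry
open HLoc2

namespace Groth.Agent.S13414

/-- Let `k` be an algebraically closed field of characteristic zero, `R₀` an excellent normal henselian
local `k`-domain of Krull dimension two with residue field `k`, `K` a finite extension of its
fraction field, `O_K` the integral closure of `R₀` in `K`, and `X` the open subscheme of `Spec O_K`
of non-closed points; let `U` be a nonempty open subscheme of `X`. Assume, as holds in this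
situation, that `K` has etale cohomological dimension at most 2 and that the residue field of every
closed point of `U` has cohomological dimension at most 1. (The published text asserts both facts
for this situation without proof; this row carries them as hypotheses.) Then `H^r(U, G_m) = 0` for
every `r ≥ 4`. (The published item also contains a four-term exact sequence involving the Brauer
groups of `K` and of its completions, which is not restated here.) -/
theorem result
    (k : Type u) [Field k] [IsAlgClosed k] [CharZero k]
    (R₀ : Type u) [CommRing R₀] [IsDomain R₀] [HenselianLocalRing R₀] [Algebra k R₀]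
    [IsIntegrallyClosed R₀] (hexc : EGA4.IsExcellent R₀) (hdim : ringKrullDim R₀ = 2)
    (hres : Function.Surjective (fun a : k => IsLocalRing.residue R₀ (algebraMap k R₀ a)))
    (K : Type u) [Field K] [Algebra R₀ K] [Algebra (FractionRing R₀) K]
    [IsScalarTower R₀ (FractionRing R₀) K] [FiniteDimensional (FractionRing R₀) K]
    (U : (Spec (CommRingCat.of ↥(integralClosure R₀ K))).Opens)
    (hU : ∀ x : ↥(Spec (CommRingCat.of ↥(integralClosure R₀ K))), x ∈ U →
      ¬ IsClosed ({x} : Set ↥(Spec (CommRingCat.of ↥(integralClosure R₀ K)))))
    (hne : Nonempty ↥(↑U : Scheme.{u}))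
    (hcdK : EtCoh.CohDimLE (Spec (CommRingCat.of K)) 2)
    (hcdv : ∀ x : ↥(↑U : Scheme.{u}), IsClosed ({x} : Set ↥(↑U : Scheme.{u})) →
      EtCoh.CohDimLE (Spec ((↑U : Scheme.{u}).residueField x)) 1)
    (r : ℕ) (hr : 4 ≤ r) :
    Subsingleton (EtCoh.H (↑U : Scheme.{u}) (EtCoh.Gm (↑U : Scheme.{u})) r) := by
  exact (by
    obtain ⟨⟨hN, hred⟩, hd, hinv, hcd⟩ := HLocCd.punctured_germ k R₀ hexc hdim K U hU hne hcdK hcdv
    haveI := hN
    haveI := hred
    refine subsingleton_of_forall_eq 0 fun x => ?_
    have key : ∀ n : ℕ, 0 < n → ∀ x : EtCoh.H U.toScheme (EtCoh.Gm U.toScheme) r, n • x = 0 → x = 0 := by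
      intro n
      induction n using Nat.strong_induction_on with
      | _ n ih =>
        intro hn x hx
        rcases (show n = 1 ∨ 1 < n by omega) with rfl | h1
        · rwa [one_smul] at hx
        obtain ⟨ℓ, hℓ, m, rfl⟩ := Nat.exists_prime_and_dvd (n := n) (by omega)
        have hm : 0 < m := Nat.pos_of_mul_pos_left hn
        refine ih m (lt_mul_of_one_lt_left hm hℓ.one_lt) hm x ?_
        exact (Groth.Agent.S3246.result U.toScheme ℓ hℓ 3 (CdDim.cohDimLEAt_of_cohDimLE hcd ℓ hℓ)).2
          (hinv ℓ hℓ.ne_zero) r (by omega) _ ⟨1, by rw [pow_one, smul_smul, hx]⟩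
    have ht := Groth.Agent.S3242.result U.toScheme hd r (by omega) x
    exact key _ ht.addOrderOf_pos x (addOrderOf_nsmul_eq_zero x))

end Groth.Agent.S13414
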