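import Groth.Statements.S13422
import Groth.Agent.NeronHDLib.EqLocus

set_option autoImplicit false
universe u
open CategoryTheory AlgebraicGeometry
open NeronHD

namespace Groth.Agent.S13422

/-- Let S be a locally Noetherian scheme over a field of characteristic 0, S₀ ⊆ S a scheme-theoretically
dense open, and N a smooth S-scheme with the weak Néron mapping property for S₀ ⊆ S: for every étale
S-scheme U, restriction to S₀ is a bijection from S-morphisms U → N onto S₀-morphisms U|S₀ → N|S₀.
Then N has the uniqueness half of the Néron mapping property: for every smooth S-scheme Z,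
restriction of S-morphisms Z → N to S₀ is injective. (Case of schemes of a statement about algebraic
spaces.) -/
theorem result {k : Type u} [Field k] [CharZero k] {S : Scheme.{u}} (σ : S ⟶ Spec (CommRingCat.of k)) [IsLocallyNoetherian S] (S₀ : S.Opens) (hS₀ : CInt.IsSchematicallyDense S₀)
    (N : Over S) [Smooth N.hom]
    (hN : ∀ U : Over S, Etale U.hom → Function.Bijective (fun g : U ⟶ N => (Over.pullback S₀.ι).map g))
    (Z : Over S) [Smooth Z.hom] :
    Function.Injective (fun g : Z ⟶ N => (Over.pullback S₀.ι).map g) := by
  intro g g' hgg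
  have h₀ := congrArg (fun m => m.left ≫ Limits.pullback.fst N.hom S₀.ι) hgg
  simp [Over.pullback] at h₀
  refine Over.OverMorphism.ext
    (NeronHDLib.hom_ext_of_etale_points σ S₀ hS₀ Z.hom N.hom g.left g'.left g.w g'.w ?_ ?_)
  · have h := congrArg (Limits.pullback.lift (Z.hom ⁻¹ᵁ S₀).ι (Z.hom ∣_ S₀)
      (morphismRestrict_ι Z.hom S₀).symm ≫ ·) h₀
    simp only [Limits.pullback.lift_fst] at h
    exact ((Limits.pullback.lift_fst_assoc _ _ _ _).symm.trans h).trans (Limits.pullback.lift_fst_assoc _ _ _ _)
  · intro S' s hs l hl
    let U : Over S := Over.mk s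
    let h : U ⟶ Z := Over.homMk l hl
    have hh : h ≫ g = h ≫ g' := (hN U hs).1 (by
      simp only [Functor.map_comp]
      exact congrArg ((Over.pullback S₀.ι).map h ≫ ·) hgg)
    exact congrArg (fun m => m.left) hh

end Groth.Agent.S13422
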