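import Groth.Statements.S13423
import Groth.Agent.S2755
import Groth.Agent.GrpSchLib.UnramifiedFibre
import Groth.Agent.UnramMisc.QFSmooth
import Groth.Agent.WeilExt.Extend

set_option backward.isDefEq.respectTransparency false
set_option backward.isDefEq.respectTransparency.types false

set_option autoImplicit false
universe u
open CategoryTheory AlgebraicGeometry
open NeronHD

namespace Groth.Agent.S13423

/-- Let S be a reduced, locally Noetherian scheme over a field of characteristic 0 whose local rings are
all geometrically unibranch, and let f : X → S be quasi-finite (locally of finite type,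
quasi-compact, with finite discrete fibres), separated and dominant, with X connected and nonempty,
such that every fibre X_s over the residue field k(s) is smooth. Then f is étale. (Case of schemes
of a statement about algebraic spaces.) -/
theorem result {k : Type u} [Field k] [CharZero k] {S : Scheme.{u}} (σ : S ⟶ Spec (CommRingCat.of k)) [IsLocallyNoetherian S] [IsReduced S]
    (hS : ∀ s : S, CAlg2.IsGeomUnibranch (S.presheaf.stalk s))
    {X : Scheme.{u}} (f : X ⟶ S) [LocallyOfFiniteType f] [QuasiCompact f] [LocallyQuasiFinite f] [IsSeparated f] [IsDominant f]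
    [ConnectedSpace X]
    (hfib : ∀ s : S, Smooth (Limits.pullback.snd f (S.fromSpecResidueField s))) :
    Etale f := by
  have hd : ∀ s : S, IsDomain (S.presheaf.stalk s) := fun s => by
    have : _root_.IsReduced (S.presheaf.stalk s) := inferInstance
    have h : IsDomain (CAlg2.red (S.presheaf.stalk s)) := (hS s).1.1
    exact ((Ideal.quotEquivOfEq (nilradical_eq_zero (S.presheaf.stalk s))).trans
      (RingEquiv.quotientBot (S.presheaf.stalk s))).toMulEquiv.symm.isDomain _
  -- the image lands in one integral clopen component, which is everything as the map is dominant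
  have hint : IsIntegral S := by
    choose W hsW hW hst using WeilExt.exists_integral_component hd
    have key : ∀ s t : S, t ∈ W s → W t ≤ W s := fun s t ht r hr => by
      have := hW t
      have hg : ∀ a ∈ W t, (W t).ι (genericPoint (W t).toScheme) ⤳ a := fun a ha =>
        (genericPoint_specializes (α := ↥(W t).toScheme) ⟨a, ha⟩).map (W t).ι.continuous
      exact hst s _ r ((hg t (hsW t)).mem_open (W s).2 ht) (hg r hr)
    have hcl : ∀ s, IsClopen (W s : Set S) := fun s => ⟨by
      rw [← isOpen_compl_iff, isOpen_iff_forall_mem_open]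
      intro t ht
      refine ⟨W t, fun r hr hrs => ht ?_, (W t).2, hsW t⟩
      have := hW r
      let γ := (W r).ι (genericPoint (W r).toScheme)
      have hγ : γ ⤳ r := (genericPoint_specializes (α := ↥(W r).toScheme) ⟨r, hsW r⟩).map (W r).ι.continuous
      -- `W r` is contained in both
      have hγt : γ ∈ W t := hγ.mem_open (W t).2 hr
      have hγs : γ ∈ W s := hγ.mem_open (W s).2 hrs
      have := hW t
      let γt := (W t).ι (genericPoint (W t).toScheme)
      have hgt : ∀ a ∈ W t, γt ⤳ a := fun a ha =>
        (genericPoint_specializes (α := ↥(W t).toScheme) ⟨a, ha⟩).map (W t).ι.continuous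
      exact hst s γt t ((hgt γ hγt).mem_open (W s).2 hγs) (hgt t (hsW t)), (W s).2⟩
    obtain ⟨x₀⟩ := (inferInstance : Nonempty X)
    have hpre : (f ⁻¹ᵁ W (f x₀) : Set X) = Set.univ :=
      ((hcl (f x₀)).preimage f.continuous).eq_univ ⟨x₀, hsW _⟩
    have huniv : W (f x₀) = ⊤ := top_unique fun s _ =>
      (hcl (f x₀)).1.closure_subset_iff.2 (Set.range_subset_iff.2 fun x => Set.eq_univ_iff_forall.1 hpre x)
        (f.denseRange s)
    have := hW (f x₀)
    have : IsIso (W (f x₀)).ι := by rw [huniv]; exact inferInstanceAs (IsIso S.topIso.hom)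
    have : Nonempty S := ⟨f x₀⟩
    exact isIntegral_of_isOpenImmersion (inv (W (f x₀)).ι)
  have hunr : FormallyUnramified f := by
    refine GrpSchLib.formallyUnramified_of_fibres f fun s => ?_
    have : Smooth (f.fiberToSpecResidueField s) := hfib s
    have : LocallyQuasiFinite (f.fiberToSpecResidueField s) :=
      inferInstanceAs (LocallyQuasiFinite (Limits.pullback.snd f (S.fromSpecResidueField s)))
    have := UnramMisc.etale_of_smooth_of_locallyQuasiFinite (f.fiberToSpecResidueField s)
    infer_instance
  have hη : ∃ x : X, f.base x = genericPoint S := by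
    obtain ⟨U, hU, hηU, -⟩ := exists_isAffineOpen_mem_and_subset (x := genericPoint S) (U := ⊤) trivial
    let V := f ⁻¹ᵁ U
    have : CompactSpace V.toScheme := isCompact_iff_compactSpace.mp (f.isCompact_preimage hU.isCompact)
    have : IsLocallyNoetherian X := LocallyOfFiniteType.isLocallyNoetherian f
    have : IsNoetherian V.toScheme := { }
    have hcl : genericPoint S ∈ closure (Set.range (V.ι ≫ f)) := by
      refine mem_closure_iff.2 fun O hO hηO => ?_
      obtain ⟨_, ⟨x, rfl⟩, hxO, hxU⟩ := Dense.exists_mem_open f.denseRange (hO.inter U.2) ⟨_, hηO, hηU⟩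
      exact ⟨_, hxO, ⟨⟨x, hxU⟩, rfl⟩⟩
    have hfin := TopologicalSpace.NoetherianSpace.finite_irreducibleComponents (α := V.toScheme)
    have hsub : Set.range (V.ι ≫ f) ⊆ ⋃ C ∈ irreducibleComponents V.toScheme, closure ((V.ι ≫ f) '' C) := by
      rintro _ ⟨v, rfl⟩
      exact Set.mem_biUnion (irreducibleComponent_mem_irreducibleComponents v)
        (subset_closure ⟨v, mem_irreducibleComponent, rfl⟩)
    obtain ⟨C, hC, hηC⟩ := Set.mem_iUnion₂.1
      (closure_minimal hsub (hfin.isClosed_biUnion fun C _ => isClosed_closure) hcl)
    obtain ⟨γ, hγ⟩ : ∃ γ, IsGenericPoint γ C :=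
      QuasiSober.sober hC.1 (isClosed_of_mem_irreducibleComponents C hC)
    refine ⟨V.ι γ, ((genericPoint_specializes ((V.ι ≫ f) γ)).antisymm ?_).eq.symm⟩
    refine specializes_iff_mem_closure.2 ?_
    rw [(hγ.image (V.ι ≫ f).continuous).def]
    exact hηC
  exact (S2755.result f hS hη).1

end Groth.Agent.S13423
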