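import Groth.Statements.S13425
import Groth.Agent.Triage.ZMTBir
import Groth.Agent.Triage.GenFinite
import Groth.Agent.UnramMisc.QFSmooth
import Mathlib.AlgebraicGeometry.AlgClosed.Basic
import Mathlib.AlgebraicGeometry.Morphisms.UniversallyInjective
import Mathlib.AlgebraicGeometry.Morphisms.FlatMono

set_option backward.isDefEq.respectTransparency false
set_option backward.isDefEq.respectTransparency.types false

set_option autoImplicit false
universe u
open CategoryTheory AlgebraicGeometry
open NeronHD

namespace Groth.Agent.S13425

/-- Let k be a characteristic-zero algebraically closed field and X, Y integral schemes, separated and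
of finite type over k, with Y normal, and let f : X → Y be a dominant k-morphism which is injective
on k-rational points. Then f is an open immersion. (Case of schemes of a statement about algebraic
spaces.) -/
theorem result {k : Type u} [Field k] [IsAlgClosed k] [CharZero k]
    {X Y : Scheme.{u}} (sX : X ⟶ Spec (CommRingCat.of k)) (sY : Y ⟶ Spec (CommRingCat.of k))
    [IsIntegral X] [IsIntegral Y] [IsSeparated sX] [IsSeparated sY]
    [LocallyOfFiniteType sX] [QuasiCompact sX] [LocallyOfFiniteType sY] [QuasiCompact sY]
    (hY : Pi1.IsNormalScheme Y)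
    (f : X ⟶ Y) (hf : f ≫ sY = sX) [IsDominant f]
    (hinj : ∀ a b : Spec (CommRingCat.of k) ⟶ X, a ≫ sX = 𝟙 _ → b ≫ sX = 𝟙 _ → a ≫ f = b ≫ f → a = b) :
    IsOpenImmersion f := by
  have : LocallyOfFiniteType (f ≫ sY) := by rw [hf]; infer_instance
  have : LocallyOfFiniteType f := locallyOfFiniteType_of_comp f sY
  have : QuasiCompact (f ≫ sY) := by rw [hf]; infer_instance
  have : QuasiCompact f := QuasiCompact.of_comp f sY
  have : IsSeparated (f ≫ sY) := by rw [hf]; infer_instance
  have : IsSeparated f := IsSeparated.of_comp f sY
  have : IsLocallyNoetherian Y := LocallyOfFiniteType.isLocallyNoetherian sY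
  -- the diagonal is surjective on closed points, hence surjective
  have hsurj : Surjective (Limits.pullback.diagonal f) := by
    let sP : Limits.pullback f f ⟶ Spec (CommRingCat.of k) := Limits.pullback.fst f f ≫ sX
    have : LocallyOfFiniteType sP := inferInstanceAs (LocallyOfFiniteType (_ ≫ _))
    have : JacobsonSpace (Limits.pullback f f : Scheme.{u}) := LocallyOfFiniteType.jacobsonSpace sP
    have hsub : closedPoints (Limits.pullback f f : Scheme.{u}) ⊆ Set.range (Limits.pullback.diagonal f) := by
      intro p hp
      let t := pointOfClosedPoint sP p hp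
      have ht : t ≫ sP = 𝟙 _ := pointOfClosedPoint_comp sP p hp
      have hab := hinj (t ≫ Limits.pullback.fst f f) (t ≫ Limits.pullback.snd f f)
        (by rw [Category.assoc]; exact ht)
        (by rw [Category.assoc, ← hf, ← Limits.pullback.condition_assoc, hf]; exact ht)
        (by rw [Category.assoc, Category.assoc, Limits.pullback.condition])
      have htd : (t ≫ Limits.pullback.fst f f) ≫ Limits.pullback.diagonal f = t := by
        apply Limits.pullback.hom_ext <;> simp [hab]
      refine ⟨(t ≫ Limits.pullback.fst f f) (IsLocalRing.closedPoint k), ?_⟩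
      exact (congrArg (fun m => m (IsLocalRing.closedPoint k)) htd).trans (pointOfClosedPoint_apply sP p hp _)
    refine ⟨fun p => ?_⟩
    have hcl := closure_mono hsub
    rw [closure_closedPoints, (Limits.pullback.diagonal f).isClosedEmbedding.isClosed_range.closure_eq] at hcl
    exact hcl (Set.mem_univ p)
  have : UniversallyInjective f := (UniversallyInjective.iff_diagonal f).2 hsurj
  have : LocallyQuasiFinite f := LocallyQuasiFinite.of_injective f.injective
  have hgen : f (genericPoint X) = genericPoint Y := Triage.GenFinite.map_genericPoint f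
  refine Triage.ZMTBir.isOpenImmersion_of_birational (fun y => (hY y).2) f hgen ?_
  -- generic smoothness
  have : LocallyOfFinitePresentation f := inferInstance
  have hξ : genericPoint X ∈ f.smoothLocus := by
    rw [Scheme.Hom.mem_smoothLocus]
    let := (Triage.GenFinite.isField_stalk hgen).toField
    let := (Triage.GenFinite.isField_stalk (X := X) rfl).toField
    let φ : k →+* Y.presheaf.stalk (f (genericPoint X)) :=
      ((Y.presheaf.germ ⊤ (f (genericPoint X)) trivial).hom).comp
        (sY.appTop.hom.comp (Scheme.ΓSpecIso (CommRingCat.of k)).inv.hom)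
    have : CharZero (Y.presheaf.stalk (f (genericPoint X))) := charZero_of_injective_ringHom φ.injective
    have := LocallyOfFiniteType.stalkMap f (genericPoint X)
    algebraize [(f.stalkMap (genericPoint X)).hom]
    exact Algebra.FormallySmooth.of_perfectField
  let U := f.smoothLocus
  have : Smooth (U.ι ≫ f) := by
    rw [← Scheme.Hom.smoothLocus_eq_top_iff, ← Scheme.Hom.preimage_smoothLocus_eq, eq_top_iff]
    exact fun q _ => q.2
  have : Etale (U.ι ≫ f) := UnramMisc.etale_of_smooth_of_locallyQuasiFinite _
  have : UniversallyInjective (U.ι ≫ f) :=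
    MorphismProperty.comp_mem _ _ _ (inferInstanceAs (UniversallyInjective U.ι)) inferInstance
  have : IsIso (Limits.pullback.diagonal (U.ι ≫ f)) :=
    (isIso_iff_isOpenImmersion_and_surjective _).2
      ⟨inferInstance, (UniversallyInjective.iff_diagonal _).1 inferInstance⟩
  have : Mono (U.ι ≫ f) := (Limits.pullback.isIso_diagonal_iff _).1 this
  have : IsOpenImmersion (U.ι ≫ f) := IsOpenImmersion.of_flat_of_mono _
  let u : U.toScheme := ⟨genericPoint X, hξ⟩
  have h : IsIso ((U.ι ≫ f).stalkMap u) := inferInstance
  rw [Scheme.Hom.stalkMap_comp] at h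
  exact @IsIso.of_isIso_comp_right _ _ _ _ _ _ _ (inferInstance : IsIso (U.ι.stalkMap u)) h

end Groth.Agent.S13425
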