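import Groth.Statements.S13428
import Groth.Agent.NeronHDLib.EtaleExtend
import Groth.Agent.S5435
import Mathlib.AlgebraicGeometry.Morphisms.FlatMono

set_option backward.isDefEq.respectTransparency false
set_option backward.isDefEq.respectTransparency.types false

set_option autoImplicit false
universe u
open CategoryTheory AlgebraicGeometry
open NeronHD

namespace Groth.Agent.S13428

/-- Let S be a normal Noetherian scheme over a field of characteristic 0 and S₀ ⊆ S a
scheme-theoretically dense open. Let N be a smooth, separated and quasi-compact S-scheme with the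
Néron mapping property for S₀ ⊆ S (restriction to S₀ of S-morphisms from smooth S-schemes is
bijective) such that N|S₀ → S₀ is étale, so that N is a quasi-projective Néron model of the
quasi-projective étale S₀-scheme N|S₀. If M is a separated, quasi-compact, étale S-scheme and φ : M
→ N is an S-morphism restricting to an isomorphism over S₀ (so M is another quasi-projective étale
extension of N|S₀, and φ is its canonical map to the Néron model), then φ is an open immersion.
(Case of schemes of the published statement.) -/
theorem result {k : Type u} [Field k] [CharZero k] {S : Scheme.{u}} (σ : S ⟶ Spec (CommRingCat.of k)) [IsNoetherian S] (hS : Pi1.IsNormalScheme S) (S₀ : S.Opens) (hS₀ : CInt.IsSchematicallyDense S₀)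
    (N : Over S) [Smooth N.hom] [IsSeparated N.hom] [QuasiCompact N.hom]
    (hN : ∀ Z : Over S, Smooth Z.hom → Function.Bijective (fun g : Z ⟶ N => (Over.pullback S₀.ι).map g))
    [Etale ((Over.pullback S₀.ι).obj N).hom]
    (M : Over S) [Etale M.hom] [IsSeparated M.hom] [QuasiCompact M.hom]
    (φ : M ⟶ N) [IsIso ((Over.pullback S₀.ι).map φ)] :
    IsOpenImmersion φ.left := by
  have hd : Dense (S₀ : Set S) := dense_iff_inter_open.2 fun V hV hne =>
    S5435.dense_of_isSchematicallyDense hS₀ ⟨V, hV⟩ hne
  let O : N.left.Opens := N.hom ⁻¹ᵁ S₀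
  have hO : Dense (O : Set N.left) := hd.preimage N.hom.isOpenMap
  have : Etale (Limits.pullback.snd N.hom S₀.ι) :=
    ‹Etale ((Over.pullback S₀.ι).obj N).hom›
  have : Etale (N.hom ∣_ S₀) := by
    rw [← (isPullback_morphismRestrict N.hom S₀).flip.isoPullback_hom_snd]
    infer_instance
  have : Etale (O.ι ≫ N.hom) := by
    rw [← morphismRestrict_ι]
    infer_instance
  have : Etale N.hom := NeronHDLib.etale_of_etale_dense N.hom O hO
  have : Etale (φ.left ≫ N.hom) := by rw [Over.w φ]; infer_instance
  have : Etale φ.left := Etale.of_comp φ.left N.hom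
  have : IsSeparated (φ.left ≫ N.hom) := by rw [Over.w φ]; infer_instance
  have : IsSeparated φ.left := IsSeparated.of_comp φ.left N.hom
  -- the diagonal is surjective
  let t : Limits.pullback φ.left φ.left ⟶ S := Limits.pullback.fst φ.left φ.left ≫ M.hom
  have : Etale t := inferInstanceAs (Etale (_ ≫ _))
  let P₀ := t ⁻¹ᵁ S₀
  have hP₀ : Dense (P₀ : Set ↥(Limits.pullback φ.left φ.left)) := hd.preimage t.isOpenMap
  have ha : (P₀.ι ≫ Limits.pullback.fst φ.left φ.left) ≫ M.hom = (t ∣_ S₀) ≫ S₀.ι := by
    rw [morphismRestrict_ι, Category.assoc]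
  have hb : (P₀.ι ≫ Limits.pullback.snd φ.left φ.left) ≫ M.hom = (t ∣_ S₀) ≫ S₀.ι := by
    rw [← ha, Category.assoc, Category.assoc, ← Over.w φ, Limits.pullback.condition_assoc]
  have hmono : Mono ((Over.pullback S₀.ι).map φ).left := inferInstance
  have heq : P₀.ι ≫ Limits.pullback.fst φ.left φ.left =
      P₀.ι ≫ Limits.pullback.snd φ.left φ.left := by
    have h : Limits.pullback.lift _ _ ha = Limits.pullback.lift _ _ hb := by
      rw [← cancel_mono ((Over.pullback S₀.ι).map φ).left]
      apply Limits.pullback.hom_ext <;> simp [Over.pullback, Limits.pullback.condition]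
    exact ((Limits.pullback.lift_fst _ _ ha).symm.trans (congrArg (· ≫ _) h)).trans
      (Limits.pullback.lift_fst _ _ hb)
  have hsurj : Surjective (Limits.pullback.diagonal φ.left) := by
    refine ⟨fun p => ?_⟩
    have hcl : IsClosed (Set.range (Limits.pullback.diagonal φ.left)) :=
      (Limits.pullback.diagonal φ.left).isClosedEmbedding.isClosed_range
    have hsub : (P₀ : Set ↥(Limits.pullback φ.left φ.left)) ⊆
        Set.range (Limits.pullback.diagonal φ.left) := by
      intro x hx
      have : (P₀.ι ≫ Limits.pullback.fst φ.left φ.left) ≫ Limits.pullback.diagonal φ.left = P₀.ι := by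
        apply Limits.pullback.hom_ext <;> simp [heq]
      exact ⟨_, congrArg (fun m => m ⟨x, hx⟩) this⟩
    exact hcl.closure_subset_iff.2 hsub (hP₀ p)
  have : IsIso (Limits.pullback.diagonal φ.left) :=
    (isIso_iff_isOpenImmersion_and_surjective _).2 ⟨inferInstance, hsurj⟩
  have : Mono φ.left := (Limits.pullback.isIso_diagonal_iff φ.left).1 this
  exact IsOpenImmersion.of_flat_of_mono φ.left

end Groth.Agent.S13428
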