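import Groth.Statements.S13429
import Groth.Agent.NeronHDLib.NormalizationFinite
import Groth.Agent.NeronHDLib.EtaleExtend
import Groth.Agent.NeronHDLib.TorsorTransfer
import Groth.Agent.SchDenseLib.FlatNoeth
import Groth.Agent.SchDenseLib.Hom
import Groth.Agent.S5435
import Mathlib.AlgebraicGeometry.ZariskisMainTheorem

set_option backward.isDefEq.respectTransparency false
set_option backward.isDefEq.respectTransparency.types false

set_option autoImplicit false
universe u
open CategoryTheory AlgebraicGeometry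
open NeronHD

namespace Groth.Agent.S13429

theorem isLFP_of_isLocallyNoetherian {X Y : Scheme.{u}} (f : X ⟶ Y) [IsLocallyNoetherian Y]
    [LocallyOfFiniteType f] : LocallyOfFinitePresentation f := inferInstance

/-- Let S be a normal Noetherian scheme over a field of characteristic 0, S₀ ⊆ S a scheme-theoretically
dense open, and N₀ → S₀ separated, quasi-compact and étale (a quasi-projective étale S₀-scheme).
Then N₀ has a quasi-projective Néron model: there exist a separated, quasi-compact, étale S-scheme N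
and an isomorphism of S₀-schemes N|S₀ ≅ N₀ such that N has the Néron mapping property for S₀ ⊆ S,
i.e. for every smooth S-scheme Z restriction to S₀ is a bijection from S-morphisms Z → N onto
S₀-morphisms Z|S₀ → N|S₀ (this determines N up to unique isomorphism). (Case of schemes, with smooth
test schemes, of the published statement.) -/
theorem result {k : Type u} [Field k] [CharZero k] {S : Scheme.{u}} (σ : S ⟶ Spec (CommRingCat.of k)) [IsNoetherian S] (hS : Pi1.IsNormalScheme S) (S₀ : S.Opens) (hS₀ : CInt.IsSchematicallyDense S₀)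
    (N₀ : Over (S₀ : Scheme.{u})) [Etale N₀.hom] [IsSeparated N₀.hom] [QuasiCompact N₀.hom] :
    ∃ (N : Over S) (e : (Over.pullback S₀.ι).obj N ≅ N₀), Etale N.hom ∧ IsSeparated N.hom ∧ QuasiCompact N.hom ∧
      ∀ Z : Over S, Smooth Z.hom → Function.Bijective (fun g : Z ⟶ N => (Over.pullback S₀.ι).map g) := by
  let f : N₀.left ⟶ S := N₀.hom ≫ S₀.ι
  let ν := f.fromNormalization
  let j := f.toNormalization
  have hfin : IsFinite ν := NeronHDLib.isFinite_fromNormalization f hS
  have hT : Pi1.IsNormalScheme f.normalization := NeronHDLib.isNormalScheme_normalization f hS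
  have : LocallyOfFinitePresentation ν := isLFP_of_isLocallyNoetherian ν
  have : IsOpenImmersion j := inferInstance
  have hjν : j ≫ ν = f := f.toNormalization_fromNormalization
  let T₀ := ν ⁻¹ᵁ S₀
  let R := j.opensRange
  let N' : f.normalization.Opens :=
    ν.smoothLocus ⊓ ⟨(closure ((T₀ : Set f.normalization) \ R))ᶜ, isClosed_closure.isOpen_compl⟩
  have hRT₀ : ∀ a, j a ∈ T₀ := fun a => by
    show ν (j a) ∈ S₀
    rw [← Scheme.Hom.comp_apply, hjν]
    exact (N₀.hom a).2
  have hRN : ∀ a, j a ∈ N' := fun a => by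
    refine ⟨?_, fun hc => ?_⟩
    · have : a ∈ (j ≫ ν).smoothLocus := by
        have : Smooth (j ≫ ν) := by rw [hjν]; infer_instance
        rw [Scheme.Hom.smoothLocus_eq_top]; trivial
      rwa [← Scheme.Hom.preimage_smoothLocus_eq] at this
    · obtain ⟨p, hp, hp'⟩ := mem_closure_iff.1 hc R R.2 ⟨a, rfl⟩
      exact hp'.2 hp
  have hN'R : ∀ p ∈ N', p ∈ T₀ → p ∈ R := fun p hp hp₀ => by
    by_contra h
    exact hp.2 (subset_closure ⟨hp₀, h⟩)
  let N : Over S := Over.mk (N'.ι ≫ ν)
  let j' : N₀.left ⟶ (N' : Scheme.{u}) := IsOpenImmersion.lift N'.ι j (by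
    rw [Scheme.Opens.range_ι]; rintro _ ⟨a, rfl⟩; exact hRN a)
  have hj' : j' ≫ N'.ι = j := IsOpenImmersion.lift_fac _ _ _
  have : IsOpenImmersion (j' ≫ N'.ι) := by rw [hj']; infer_instance
  have : IsOpenImmersion j' := IsOpenImmersion.of_comp j' N'.ι
  let g : N₀.left ⟶ Limits.pullback N.hom S₀.ι := Limits.pullback.lift j' N₀.hom
    (by show j' ≫ N'.ι ≫ ν = _; rw [reassoc_of% hj', hjν])
  have : IsOpenImmersion (g ≫ Limits.pullback.fst N.hom S₀.ι) := by
    rw [Limits.pullback.lift_fst]; infer_instance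
  have : IsOpenImmersion g := IsOpenImmersion.of_comp g (Limits.pullback.fst N.hom S₀.ι)
  have : Surjective g := by
    refine ⟨fun p => ?_⟩
    let q := Limits.pullback.fst N.hom S₀.ι p
    have hq : N'.ι q ∈ T₀ := by
      show (N'.ι ≫ ν) q ∈ S₀
      have : (Limits.pullback.fst N.hom S₀.ι ≫ N.hom) p =
          (Limits.pullback.snd N.hom S₀.ι ≫ S₀.ι) p := by rw [Limits.pullback.condition]
      exact (show (N'.ι ≫ ν) q = _ from this) ▸ (Limits.pullback.snd N.hom S₀.ι p).2
    obtain ⟨a, ha⟩ := hN'R _ q.2 hq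
    refine ⟨a, (Limits.pullback.fst N.hom S₀.ι).isOpenEmbedding.injective
      (N'.ι.isOpenEmbedding.injective ?_)⟩
    rw [← Scheme.Hom.comp_apply, Limits.pullback.lift_fst]
    exact (congrArg (fun m => m a) hj').trans ha
  have : IsIso g := (isIso_iff_isOpenImmersion_and_surjective g).2 ⟨inferInstance, inferInstance⟩
  have hd : Dense (S₀ : Set S) := dense_iff_inter_open.2 fun V hV hne =>
    S5435.dense_of_isSchematicallyDense hS₀ ⟨V, hV⟩ hne
  have hsm : Smooth N.hom := by
    show Smooth (N'.ι ≫ ν)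
    rw [← Scheme.Hom.smoothLocus_eq_top_iff, ← Scheme.Hom.preimage_smoothLocus_eq, eq_top_iff]
    exact fun q _ => q.2.1
  have het : Etale N.hom := by
    have : Etale (Limits.pullback.snd N.hom S₀.ι) := by
      have h : inv g ≫ N₀.hom = Limits.pullback.snd N.hom S₀.ι := by
        rw [IsIso.inv_comp_eq, Limits.pullback.lift_snd]
      rw [← h]; infer_instance
    have : Etale (N.hom ∣_ S₀) := by
      rw [← (isPullback_morphismRestrict N.hom S₀).flip.isoPullback_hom_snd]
      infer_instance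
    have : Etale ((N.hom ⁻¹ᵁ S₀).ι ≫ N.hom) := by
      rw [← morphismRestrict_ι]; infer_instance
    exact NeronHDLib.etale_of_etale_dense N.hom (N.hom ⁻¹ᵁ S₀) (hd.preimage N.hom.isOpenMap)
  have hsep : IsSeparated N.hom := inferInstanceAs (IsSeparated (N'.ι ≫ ν))
  have : IsLocallyNoetherian f.normalization := LocallyOfFiniteType.isLocallyNoetherian ν
  have hqc : QuasiCompact N.hom := inferInstanceAs (QuasiCompact (N'.ι ≫ ν))
  refine ⟨N, (Over.isoMk (asIso g) (Limits.pullback.lift_snd _ _ _)).symm, het, hsep, hqc, fun Z hZ => ?_⟩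
  have : IsLocallyNoetherian Z.left := LocallyOfFiniteType.isLocallyNoetherian Z.hom
  have hdZ : CInt.IsSchematicallyDense (Z.hom ⁻¹ᵁ S₀) :=
    SchDenseLib.preimage_of_isLocallyNoetherian Z.hom S₀ hS₀
  have hdense : Dense ((Z.hom ⁻¹ᵁ S₀ : Z.left.Opens) : Set Z.left) := hd.preimage Z.hom.isOpenMap
  rw [NeronHDLib.bijective_map_iff_uniqueExt]
  refine ⟨fun x x' h => Over.OverMorphism.ext
    (SchDenseLib.hom_ext hdZ (N'.ι ≫ ν) x.left x'.left (x.w.trans x'.w.symm) h), fun y hy => ?_⟩
  obtain ⟨x, hx, hxy⟩ := NeronHDLib.exists_extension_of_isIntegralHom ν Z.hom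
    (NeronHDLib.isNormalScheme_of_smooth Z.hom hS) _ hdense (y ≫ N'.ι)
    ((Category.assoc _ _ _).trans hy)
  have hr : Set.range x ⊆ Set.range N'.ι := by
    rw [Scheme.Opens.range_ι]
    rintro _ ⟨z, rfl⟩
    refine ⟨NeronHDLib.range_subset_smoothLocus ν hT Z.hom x hx ⟨z, rfl⟩, fun hc => ?_⟩
    have hopen : IsOpen (Set.range x) := (NeronHDLib.isOpenMap_to_finite ν hT Z.hom x hx).isOpen_range
    obtain ⟨_, ⟨z', rfl⟩, hT₀', hnR⟩ := mem_closure_iff.1 hc _ hopen ⟨z, rfl⟩
    have hz' : z' ∈ Z.hom ⁻¹ᵁ S₀ := by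
      show Z.hom z' ∈ S₀
      rw [← hx]
      exact hT₀'
    have hxz : N'.ι (y ⟨z', hz'⟩) = x z' :=
      (congrArg (fun m => m (⟨z', hz'⟩ : (Z.hom ⁻¹ᵁ S₀ : Z.left.Opens))) hxy).symm
    exact hnR (hN'R _ (hxz ▸ (y ⟨z', hz'⟩).2) hT₀')
  let l := IsOpenImmersion.lift N'.ι x hr
  have hl : l ≫ N'.ι = x := IsOpenImmersion.lift_fac _ _ _
  refine ⟨Over.homMk l (by show l ≫ N'.ι ≫ ν = Z.hom; rw [reassoc_of% hl, hx]), ?_⟩
  show _ ≫ l = y
  rw [← cancel_mono N'.ι, Category.assoc, hl, hxy]

end Groth.Agent.S13429
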