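import Groth.Statements.S1343
import Groth.Agent.CMOpen5.Affine
import Groth.Agent.AlgSpPts.Sep
import Groth.Agent.FlatLocus.Basic
import Groth.Agent.FibDim.AffineSpaceFibre
import Groth.Agent.Synt29.Standard
import Mathlib.AlgebraicGeometry.Morphisms.UniversallyOpen

set_option autoImplicit false
set_option linter.style.haveILetI false
set_option backward.isDefEq.respectTransparency false
attribute [-instance] CategoryTheory.catToReflQuiver
universe u
open FlatMor

namespace Groth.Agent.S1343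

open AlgebraicGeometry CategoryTheory in
theorem eq_fibreDim {X S : Scheme.{u}} (f : X ⟶ S) [LocallyOfFinitePresentation f] (x : X) (n d : ℕ)
    (hd : FlatMor.fibreDimAt f x = d) (W : X.Opens) (g : W.toScheme ⟶ 𝔸(ULift.{u} (Fin n); S))
    [Flat g] [LocallyQuasiFinite g] (hx : x ∈ W) (hg : g ≫ (𝔸(ULift.{u} (Fin n); S) ↘ S) = W.ι ≫ f) : n = d := by
  let π := 𝔸(ULift.{u} (Fin n); S) ↘ S
  haveI : LocallyOfFiniteType (g ≫ π) := by rw [hg]; infer_instance
  haveI : LocallyOfFiniteType g := locallyOfFiniteType_of_comp g π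
  let w : W.toScheme := ⟨x, hx⟩
  have hdim : FlatMor.fibreDimAt f x = FlatMor.fibreDimAt (g ≫ π) w := by
    rw [← Groth.Agent.Synt29.fibreDimAt_comp_openImmersion f (g ≫ π) W.ι (𝟙 S) (by rw [hg, Category.comp_id]) w]
    rfl
  obtain ⟨z, hzw, hfz, hmax, he⟩ := Groth.Agent.FibDim.exists_fibMax_generization (g ≫ π) w
  have hgz : Groth.Agent.FibDim.FibMax π (g z) := fun v hv hvf => by
    obtain ⟨z', hz', hz'v⟩ := (Flat.generalizingMap g) hv
    have : z' = z := hmax z' hz' (by
      show π (g z') = π (g z)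
      rw [hz'v, hvf])
    rw [← hz'v, this]
  rw [hd] at hdim
  rw [he, Groth.Agent.FibDim.rd_comp, Groth.Agent.FibDim.rd_affineSpace_fibMax n hgz,
    Groth.Agent.FibDim.rd_eq_zero_of_quasiFinite g z, add_zero] at hdim
  exact_mod_cast hdim.symm

open AlgebraicGeometry CategoryTheory Limits in
/-- (1) ⇔ (3): let f be flat and locally of finite presentation and let x be a point whose fibre has
local dimension d at x. Then f is Cohen–Macaulay at x if and only if some open neighbourhood of x
admits a flat, locally quasi-finite morphism to affine d-space over the base, compatible with the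
structure morphisms. -/
theorem result {X S : Scheme.{u}} (f : X ⟶ S) [Flat f] [LocallyOfFinitePresentation f]
    (x : X) (d : ℕ) (hd : FlatMor.fibreDimAt f x = d) :
    MoreMor.IsCMAt f x ↔ ∃ (U : X.Opens) (g : (U : Scheme.{u}) ⟶ 𝔸(ULift.{u} (Fin d); S)), x ∈ U ∧
      g ≫ (𝔸(ULift.{u} (Fin d); S) ↘ S) = U.ι ≫ f ∧ Flat g ∧ LocallyQuasiFinite g := by
  constructor
  · intro h
    obtain ⟨n, U, hx, g, hg, hqf, hfl⟩ := (Groth.Agent.CMOpen5.isCMAt_iff f x).1 h
    haveI := hqf
    haveI : LocallyOfFinitePresentation (g ≫ (𝔸(ULift.{u} (Fin n); S) ↘ S)) := by rw [hg]; infer_instance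
    haveI : LocallyOfFinitePresentation g := Groth.Agent.AlgSpPts.locallyOfFinitePresentation_of_comp g (𝔸(ULift.{u} (Fin n); S) ↘ S)
    let O : U.toScheme.Opens := ⟨_, Groth.Agent.FlatLocus.isOpen_flat_locus g⟩
    let W : X.Opens := U.ι ''ᵁ O
    have hWU : W ≤ U := U.ι_image_le O
    let j : W.toScheme ⟶ U.toScheme := X.homOfLE hWU
    have hj : ∀ w : W.toScheme, j w ∈ O := fun w => by
      obtain ⟨o, ho, hoe⟩ := w.2
      have : j w = o := U.ι.isOpenEmbedding.injective
        ((congrArg (fun φ : W.toScheme ⟶ X => φ w) (X.homOfLE_ι hWU)).trans hoe.symm)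
      exact this ▸ ho
    haveI hjflat : Flat (j ≫ g) := by
      refine (Flat.iff_flat_stalkMap _).2 fun w => ?_
      rw [Scheme.Hom.stalkMap_comp, CommRingCat.hom_comp]
      exact RingHom.Flat.comp (hj w) ((Flat.iff_flat_stalkMap j).1 inferInstance w)
    have hxW : x ∈ W := ⟨⟨x, hx⟩, hfl, rfl⟩
    obtain rfl : n = d := by
      refine Groth.Agent.S1343.eq_fibreDim f x n d hd W (j ≫ g) hxW ?_
      rw [Category.assoc, hg, ← Category.assoc]
      exact congrArg (· ≫ f) (X.homOfLE_ι hWU)
    exact ⟨W, j ≫ g, hxW, by rw [Category.assoc, hg, ← Category.assoc]; exact congrArg (· ≫ f) (X.homOfLE_ι hWU),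
      hjflat, inferInstance⟩
  · rintro ⟨U, g, hx, hg, hfl, hqf⟩
    exact (Groth.Agent.CMOpen5.isCMAt_iff f x).2 ⟨d, U, hx, g, hg, hqf, (Flat.iff_flat_stalkMap g).1 hfl _⟩

end Groth.Agent.S1343
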