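import Groth.Statements.S13430
import Mathlib.AlgebraicGeometry.Morphisms.Smooth

set_option backward.isDefEq.respectTransparency false

set_option autoImplicit false
universe u
open CategoryTheory MonoidalCategory CartesianMonoidalCategory MonObj GrpObj AlgebraicGeometry
open NeronHD

namespace Groth.Agent.S13430

/-- The implication ⇐: let S be a locally Noetherian scheme over a field of characteristic 0 and S₀ ⊆ S
a scheme-theoretically dense open. Let G be a smooth group scheme over S and N a smooth S-scheme,
both with the Néron mapping property for S₀ ⊆ S (restriction to S₀ of S-morphisms from smooth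
S-schemes is bijective), and let a be an action of G on N over S whose translation map G ×_S N → N
×_S N, (g, x) ↦ (g·x, x), restricts to an isomorphism over S₀, so that N|S₀ is a pseudo-torsor under
G|S₀ and a is the unique extension of that action. If N → S is surjective, then the translation map
is an isomorphism: N is a pseudo-torsor under G over all of S (and then a torsor for the étale
topology, N → S being smooth and surjective). (Case of schemes of a statement about group algebraic
spaces; the converse 'torsor ⇒ surjective' presumes local triviality.) -/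
theorem result {k : Type u} [Field k] [CharZero k] {S : Scheme.{u}} (σ : S ⟶ Spec (CommRingCat.of k)) [IsLocallyNoetherian S] (S₀ : S.Opens) (hS₀ : CInt.IsSchematicallyDense S₀)
    (G : Over S) [GrpObj G] [Smooth G.hom]
    (hG : ∀ Z : Over S, Smooth Z.hom → Function.Bijective (fun g : Z ⟶ G => (Over.pullback S₀.ι).map g))
    (N : Over S) [Smooth N.hom] [Surjective N.hom]
    (hN : ∀ Z : Over S, Smooth Z.hom → Function.Bijective (fun g : Z ⟶ N => (Over.pullback S₀.ι).map g))
    (a : AlgGrp.Action G N)
    (h0 : IsIso ((Over.pullback S₀.ι).map (lift a.act (snd G N)))) :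
    NonAbH1.IsPseudoTorsorSch a := by
  have h1 : Smooth (G ⊗ N).hom := by
    show Smooth (Limits.pullback.fst G.hom N.hom ≫ G.hom)
    infer_instance
  have h2 : Smooth (N ⊗ N).hom := by
    show Smooth (Limits.pullback.fst N.hom N.hom ≫ N.hom)
    infer_instance
  let F := Over.pullback S₀.ι
  let θ := lift a.act (snd G N)
  have : IsIso (F.map θ) := h0
  obtain ⟨ψ, hψ⟩ := (hG (N ⊗ N) h2).2 (inv (F.map θ) ≫ F.map (fst G N))
  let X : N ⊗ N ⟶ G ⊗ N := lift ψ (snd N N)
  have hψ' : F.map θ ≫ F.map ψ = F.map (fst G N) := by
    rw [show F.map ψ = inv (F.map θ) ≫ F.map (fst G N) from hψ, IsIso.hom_inv_id_assoc]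
  have hθX : θ ≫ X = 𝟙 _ := by
    ext1
    · have := (hG (G ⊗ N) h1).1 (a₁ := θ ≫ ψ) (a₂ := fst G N) (by simpa [F] using hψ')
      simpa [X] using this
    · simp [θ, X]
  have hX : F.map X ≫ F.map θ = 𝟙 _ := by
    rw [← cancel_epi (F.map θ), ← Category.assoc, ← F.map_comp, hθX]
    simp
  refine ⟨X, hθX, ?_⟩
  ext1
  · apply (hN (N ⊗ N) h2).1
    have := congrArg (· ≫ F.map (fst N N)) hX
    rw [Category.assoc, ← F.map_comp, show θ ≫ fst N N = a.act from lift_fst _ _, Category.id_comp] at this
    simpa [F] using this
  · simp [X]

end Groth.Agent.S13430
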