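import Groth.Statements.S13431
import Groth.Agent.NeronHDLib.TorsorTransfer

set_option backward.isDefEq.respectTransparency false

set_option autoImplicit false
universe u
open CategoryTheory MonoidalCategory CartesianMonoidalCategory MonObj GrpObj AlgebraicGeometry
open NeronHD

namespace Groth.Agent.S13431

open NeronHDLib in
theorem uniqueExt_congr {S : Scheme.{u}} (S₀ : S.Opens) (N X Y : Over S) [Smooth N.hom]
    [Surjective N.hom] (F : ∀ T : Over S, (T ⟶ N) → ((T ⟶ X) ≃ (T ⟶ Y)))
    (hF : ∀ (T T' : Over S) (j : T' ⟶ T) (t : T ⟶ N) (x : T ⟶ X),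
      F T' (j ≫ t) (j ≫ x) = j ≫ F T t x)
    (h : ∀ Z : Over S, Smooth Z.hom → UniqueExt S₀ Z X) (Z : Over S) [Smooth Z.hom] :
    UniqueExt S₀ Z Y := by
  let Z' : Over S := Over.mk (Limits.pullback.fst Z.hom N.hom ≫ Z.hom)
  let π : Z' ⟶ Z := Over.homMk (Limits.pullback.fst Z.hom N.hom) rfl
  let s : Z' ⟶ N := Over.homMk (Limits.pullback.snd Z.hom N.hom) Limits.pullback.condition.symm
  have : Smooth π.left := inferInstanceAs (Smooth (Limits.pullback.fst Z.hom N.hom))
  have : Surjective π.left := inferInstanceAs (Surjective (Limits.pullback.fst Z.hom N.hom))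
  have key : ∀ (T : Over S), Smooth T.hom → (T ⟶ Z') → UniqueExt S₀ T Y := fun T hT t =>
    UniqueExt.of_equiv S₀ (fun T' j => F T' (j ≫ t ≫ s)) (fun T₁ T₂ j j₁ x => by
      simpa only [Category.assoc] using hF T₁ T₂ j (j₁ ≫ t ≫ s) x) (h T hT)
  have hZ' : Smooth Z'.hom := inferInstanceAs (Smooth (Limits.pullback.fst Z.hom N.hom ≫ Z.hom))
  have hP : Smooth (Over.mk (Limits.pullback.fst π.left π.left ≫ Z'.hom)).hom := by
    show Smooth (Limits.pullback.fst π.left π.left ≫ Z'.hom)
    infer_instance
  exact UniqueExt.descend S₀ π (key Z' hZ' (𝟙 _))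
    (key _ hP (Over.homMk (Limits.pullback.fst π.left π.left) rfl))

/-- Let S be a locally Noetherian scheme over a field of characteristic 0 and S₀ ⊆ S a
scheme-theoretically dense open. Let G be a smooth group scheme over S and N a smooth S-scheme with
N → S surjective, equipped with an action of G making N a pseudo-torsor: the translation map G ×_S N
→ N ×_S N, (g, x) ↦ (g·x, x), is an isomorphism. Then G has the Néron mapping property for S₀ ⊆ S
(restriction to S₀ of S-morphisms from smooth S-schemes is bijective) if and only if N has it. (The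
published statement says 'G-torsor' with torsor defined as an action whose translation map is an
isomorphism; for N empty that holds and N has the mapping property while G need not, so surjectivity
of N → S — which gives étale-local sections — is assumed here, as the published proof uses. Case of
schemes of a statement about algebraic spaces.) -/
theorem result {k : Type u} [Field k] [CharZero k] {S : Scheme.{u}} (σ : S ⟶ Spec (CommRingCat.of k)) [IsLocallyNoetherian S] (S₀ : S.Opens) (hS₀ : CInt.IsSchematicallyDense S₀)
    (G : Over S) [GrpObj G] [Smooth G.hom]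
    (N : Over S) [Smooth N.hom] [Surjective N.hom]
    (a : AlgGrp.Action G N) (ha : NonAbH1.IsPseudoTorsorSch a) :
    (∀ Z : Over S, Smooth Z.hom → Function.Bijective (fun g : Z ⟶ G => (Over.pullback S₀.ι).map g)) ↔
    (∀ Z : Over S, Smooth Z.hom → Function.Bijective (fun g : Z ⟶ N => (Over.pullback S₀.ι).map g)) := by
  have : IsIso (lift a.act (snd G N)) := ha
  let θ := lift a.act (snd G N)
  let F : ∀ T : Over S, (T ⟶ N) → ((T ⟶ G) ≃ (T ⟶ N)) := fun T t =>
    { toFun := fun g => lift g t ≫ a.act
      invFun := fun x => lift x t ≫ inv θ ≫ fst G N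
      left_inv := fun g => by
        have h : lift (lift g t ≫ a.act) t = lift g t ≫ θ := by
          simp [θ, comp_lift]
        simp [h]
      right_inv := fun x => by
        have h : lift (lift x t ≫ inv θ ≫ fst G N) t = lift x t ≫ inv θ := by
          ext1
          · simp
          · have e : inv θ ≫ snd G N = snd N N := by
              rw [IsIso.inv_comp_eq]; simp [θ]
            simp [e]
        have e : inv θ ≫ a.act = fst N N := by rw [IsIso.inv_comp_eq]; simp [θ]
        simp [h, e] }
  have hF : ∀ (T T' : Over S) (j : T' ⟶ T) (t : T ⟶ N) (g : T ⟶ G),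
      F T' (j ≫ t) (j ≫ g) = j ≫ F T t g := fun T T' j t g => by
    simp [F, ← comp_lift]
  simp only [NeronHDLib.bijective_map_iff_uniqueExt]
  refine ⟨fun h Z hZ => uniqueExt_congr S₀ N G N F hF h Z,
    fun h Z hZ => uniqueExt_congr S₀ N N G (fun T t => (F T t).symm) ?_ h Z⟩
  intro T T' j t x
  rw [Equiv.symm_apply_eq, hF, Equiv.apply_symm_apply]

end Groth.Agent.S13431
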