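import Groth.Statements.S13432
import Groth.Agent.NeronHDLib.NormalExtend
import Groth.Agent.NeronHDLib.TorsorTransfer
import Groth.Agent.SchDenseLib.FlatNoeth
import Groth.Agent.SchDenseLib.Hom
import Groth.Agent.S5435

set_option backward.isDefEq.respectTransparency false
set_option backward.isDefEq.respectTransparency.types false

set_option autoImplicit false
universe u
open CategoryTheory AlgebraicGeometry
open NeronHD

namespace Groth.Agent.S13432

/-- Let S be a normal Noetherian scheme over a field of characteristic 0 and S₀ ⊆ S a
scheme-theoretically dense open. Let π : T → S be finite with T normal, and let N ⊆ T be the open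
subscheme where π is smooth (equivalently étale, π being finite). Then N → S has the Néron mapping
property for S₀ ⊆ S: for every smooth S-scheme Z, restriction to S₀ is a bijection from S-morphisms
Z → N onto S₀-morphisms Z|S₀ → N|S₀. (In the published statement T is the normal finite S-scheme
compactifying a given quasi-projective étale S-scheme and N is the maximal quasi-projective étale
scheme containing it; that origin of T plays no role in this part of the proof, so any finite T → S
with T normal is allowed here. Case of schemes, with smooth test schemes, of a statement about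
algebraic spaces.) -/
theorem result {k : Type u} [Field k] [CharZero k] {S : Scheme.{u}} (σ : S ⟶ Spec (CommRingCat.of k)) [IsNoetherian S] (hS : Pi1.IsNormalScheme S) (S₀ : S.Opens) (hS₀ : CInt.IsSchematicallyDense S₀)
    {T : Scheme.{u}} (π : T ⟶ S) [IsFinite π] [LocallyOfFinitePresentation π] (hT : Pi1.IsNormalScheme T) :
    ∀ Z : Over S, Smooth Z.hom → Function.Bijective (fun g : Z ⟶ Over.mk (π.smoothLocus.ι ≫ π) => (Over.pullback S₀.ι).map g) := by
  intro Z hZ
  have : IsLocallyNoetherian Z.left := LocallyOfFiniteType.isLocallyNoetherian Z.hom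
  have hd : CInt.IsSchematicallyDense (Z.hom ⁻¹ᵁ S₀) :=
    SchDenseLib.preimage_of_isLocallyNoetherian Z.hom S₀ hS₀
  have hdense : Dense ((Z.hom ⁻¹ᵁ S₀ : Z.left.Opens) : Set Z.left) :=
    dense_iff_inter_open.2 fun V hV hne => S5435.dense_of_isSchematicallyDense hd ⟨V, hV⟩ hne
  rw [NeronHDLib.bijective_map_iff_uniqueExt]
  refine ⟨fun x x' h => Over.OverMorphism.ext
    (SchDenseLib.hom_ext hd (π.smoothLocus.ι ≫ π) x.left x'.left (x.w.trans x'.w.symm) h), fun y hy => ?_⟩
  obtain ⟨x, hx, hxy⟩ := NeronHDLib.exists_extension_of_isIntegralHom π Z.hom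
    (NeronHDLib.isNormalScheme_of_smooth Z.hom hS) _ hdense (y ≫ π.smoothLocus.ι)
    ((Category.assoc _ _ _).trans hy)
  have hr : Set.range x ⊆ Set.range π.smoothLocus.ι := by
    rw [Scheme.Opens.range_ι]
    exact NeronHDLib.range_subset_smoothLocus π hT Z.hom x hx
  let l := IsOpenImmersion.lift π.smoothLocus.ι x hr
  have hl : l ≫ π.smoothLocus.ι = x := IsOpenImmersion.lift_fac _ _ _
  refine ⟨Over.homMk l (by simp [reassoc_of% hl, hx]), ?_⟩
  show _ ≫ l = y
  rw [← cancel_mono π.smoothLocus.ι, Category.assoc, hl, hxy]

end Groth.Agent.S13432
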