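import Groth.Statements.S1344
import Groth.Agent.S9374
import Groth.Agent.FibDim.LocDim
import Groth.Agent.CycLib.Flat
import Groth.Agent.Synt29.Standard
import Groth.Agent.FlatDevLoc.Basic

set_option autoImplicit false
set_option backward.isDefEq.respectTransparency false
attribute [-instance] CategoryTheory.catToReflQuiver
universe u
open FlatMor

namespace Groth.Agent.S1344

open AlgebraicGeometry CategoryTheory Limits in
/-- Let f be locally of finite type between locally Noetherian schemes and Cohen–Macaulay at every
point. Then for every point x of the source with image y, the local dimension of the source at x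
equals the local dimension of the target at y plus the local dimension at x of the fibre over y. -/
theorem result {X Y : Scheme.{u}} (f : X ⟶ Y) [IsLocallyNoetherian X] [IsLocallyNoetherian Y] [LocallyOfFiniteType f]
    (hf : ∀ x : X, MoreMor.IsCMAt f x) (x : X) :
    FlatMor.localDim ↑X x = FlatMor.localDim ↑Y (f x) + FlatMor.fibreDimAt f x := by
  haveI : LocallyOfFinitePresentation f := LocallyOfFinitePresentation.iff_locallyOfFiniteType.2 ‹_›
  haveI : Flat f := (Flat.iff_flat_stalkMap f).2 fun z => (hf z).1
  obtain ⟨z, -, -, hz, -⟩ := Groth.Agent.FibDim.exists_fibreDimAt_eq f x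
  let d : ℕ := Groth.Agent.FibDim.rd f z
  have hz' : FlatMor.fibreDimAt f x = ((d : ℕ∞) : WithBot ℕ∞) := hz
  let U : X.Opens := ⟨(fun w : ↑X => FlatMor.fibreDimAt f w) ⁻¹' {FlatMor.fibreDimAt f x},
    (Groth.Agent.S9374.result f hf).isOpen_fiber _⟩
  let h : U.toScheme ⟶ Y := U.ι ≫ f
  haveI : IsLocallyNoetherian U.toScheme := isLocallyNoetherian_of_isOpenImmersion U.ι
  have hU : ∀ u : U.toScheme, FlatMor.fibreDimAt h u = ((d : ℕ∞) : WithBot ℕ∞) := fun u => by
    rw [← Groth.Agent.Synt29.fibreDimAt_comp_openImmersion f h U.ι (𝟙 Y) (Category.comp_id h).symm u, ← hz']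
    exact u.2
  have hrel : Cyc.HasRelDim h d := by
    refine (Groth.Agent.CycLib.hasRelDim_iff h).2 fun w hw => ?_
    have := hU w
    rw [Groth.Agent.FibDim.fibreDimAt_eq_rd h hw] at this
    exact_mod_cast this
  have key := Groth.Agent.FibDim.localDim_eq_add h hrel (⟨x, rfl⟩ : U.toScheme)
  rw [Groth.Agent.FlatDevLoc.localDim_of_isOpenEmbedding U.ι U.ι.isOpenEmbedding] at key
  rw [hz']
  exact key

end Groth.Agent.S1344
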