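import Groth.Statements.S13461
import Groth.Agent.CurveNondeg.Basic
import Groth.Agent.CurveBC.Main
import Groth.Agent.CurveVA.Vanish
import Groth.Agent.PnPic.Twist
import Groth.Agent.S0843
import Groth.Agent.S18464
import Groth.Agent.H23.PicMul

set_option autoImplicit false
universe u
open CategoryTheory CategoryTheory.Limits AlgebraicGeometry TopologicalSpace
open Curves Groth.Agent.H23.PicMul
set_option linter.style.haveILetI false
set_option backward.isDefEq.respectTransparency false

namespace Groth.Agent.S13461

/-- Let k be a field and X a smooth proper geometrically connected curve over k (proper, smooth and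
geometrically connected over k, of dimension one) of genus dim_k H^1(X, O_X) = 4, and let i : X →
P^3_k be a closed immersion over k whose pullback of O(1) is isomorphic to the sheaf of
differentials Ω_{X/k} (X is canonically embedded, hence not hyperelliptic). Then X lies on a quadric
surface: there is a nonzero global section Q of O_{P^3_k}(2) whose pullback along i is the zero
section of i^*O(2). (The published statement goes on to assert that X is the complete intersection
of such a quadric with a cubic surface; this row states only the existence of the quadric.) -/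
theorem result (k : Type u) [Field k] (X : Scheme.{u}) [X.Over (Spec (CommRingCat.of k))]
    [IsProper (X ↘ (Spec (CommRingCat.of k)))] [Smooth (X ↘ (Spec (CommRingCat.of k)))] [GeometricallyConnected (X ↘ (Spec (CommRingCat.of k)))]
    (hdim : topologicalKrullDim X = 1) (hg : Curv2.genus k X = 4)
    (i : X ⟶ CohB1.ProjSpace 3 k) [IsClosedImmersion i] (hi : i ≫ CohB1.ProjSpace.toSpec 3 k = X ↘ (Spec (CommRingCat.of k)))
    (hcan : Nonempty ((Scheme.Modules.pullback i).obj (Twist.twistProjSpace 3 k 1) ≅ Omega.sheaf (X ↘ (Spec (CommRingCat.of k))))) :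
    ∃ Q : Γ(Twist.twistProjSpace 3 k 2, ⊤), Q ≠ 0 ∧
      OmegaSh.pullSect i (Twist.twistProjSpace 3 k 2) ⊤ Q = 0 := by
  haveI := CurveCohLib.isNoetherian_of_proper (k := k) (X := X)
  have h0 : Module.finrank k (Coh.HH X (Coh.structureModule X) 0) = 1 :=
    CurveBC.finrank_h0_of_geometricallyConnected k X
  haveI := CurveBC.isIntegral_of_h0 k X h0
  have hΩ := CurveBC.isInvertible_omega k X hdim h0
  obtain ⟨hΩ0, hΩd⟩ := CurveBC.canonical_invariants k X hdim h0
  obtain ⟨φ⟩ := hcan
  let M := Twist.twistProjSpace 3 k (2 : ℤ)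
  have hM : PicF.IsInvertible M := PnPic.isInvertible_twistProjSpace 3 k 2
  let N := (Scheme.Modules.pullback i).obj M
  have hN : PicF.IsInvertible N := PicClLib.isInvertible_pullback i hM
  let W := CohB1.tensorMod (Omega.sheaf (X ↘ Spec (CommRingCat.of k))) (Omega.sheaf (X ↘ Spec (CommRingCat.of k)))
  obtain ⟨ψ⟩ : Nonempty (N ≅ W) := by
    refine cl_eq_iff.1 ?_
    show PicF.pullCl i (PicF.cl M) = _
    rw [show M = Twist.twistProjSpace 3 k ((1 : ℤ) + 1) from rfl, ← PnPic.cl_twistProjSpace_add,
      pullCl_mul]
    show PicF.cl ((Scheme.Modules.pullback i).obj _) * PicF.cl ((Scheme.Modules.pullback i).obj _) = _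
    rw [cl_eq_iff.2 ⟨φ⟩, ← cl_tensor]
  have hWd : Curv2.deg k X W 1 = 12 := by
    refine (CurveRR.deg_tensor k hdim hΩ hΩ).trans ?_
    rw [hΩd, hg]
    norm_num
  have hNd : Curv2.deg k X N 1 = 12 := (CurveRR.deg_congr k ψ 1).trans hWd
  haveI := CurveVA.subsingleton_h1_of_deg k hdim h0 hN (by rw [hNd, hg]; norm_num)
  have hN9 : Module.finrank k (Coh.HH X N 0) = 9 := by
    have h2 := CurveRR.euler_eq_h0_sub_h1 k hdim.le (ProjUPX.isQCoh_of_isInvertible hN)
    have h3 := CurveRR.euler_eq_h0_sub_h1 k hdim.le (QCoh.isQCoh_structureModule (X := X))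
    rw [Module.finrank_zero_of_subsingleton (R := k) (M := Coh.HH X N 1)] at h2
    unfold Curv2.deg at hNd
    unfold Curv2.genus at hg
    push_cast at hNd
    omega
  obtain ⟨θ⟩ := S0843.result k 3 2
  have hM10 : Module.finrank k (Coh.HH (CohB1.ProjSpace 3 k) M 0) = 10 := by
    refine θ.finrank_eq.trans ?_
    rw [(S18464.finite_finrank_homogeneous k 3 2).2]
    decide
  by_contra hne
  have h1 := CurveNondeg.finrank_le_of_pullElt k i hi hM fun s hs he => hne ⟨s, hs, he⟩
  rw [hM10] at h1
  change 10 ≤ Module.finrank k (Coh.HH X N 0) at h1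
  omega

end Groth.Agent.S13461
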