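import Groth.Statements.S13469
import Groth.Agent.CharLift.Norm
import Groth.Agent.ExtEquiv.Basic
import Groth.Agent.GrpSchLib.AffineHopfClosed
import Groth.Agent.Chevalley.CommAff.Scheme
import Mathlib.RingTheory.HopfAlgebra.GroupLike
import Mathlib.GroupTheory.FiniteAbelian.Basic

set_option autoImplicit false
universe u
open GmDual

namespace Groth.Agent.S13469

open CategoryTheory AlgebraicGeometry MonObj WithConv TensorProduct
open Groth.Agent.GrpSchLib.AffineHopf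

section

variable {k : Type u} [Field k] {A : Type u} [CommRing A] [HopfAlgebra k A]

/-- The coordinate of the multiplicative group. -/
noncomputable def tc : MonoidAlgebra k (Multiplicative ℤ) := MonoidAlgebra.single (Multiplicative.ofAdd (1 : ℤ)) 1

/-- The homomorphism attached to a group-like element. -/
noncomputable def charHom (g : GroupLike k A) : MonoidAlgebra k (Multiplicative ℤ) →ₐc[k] A :=
  let gm : Multiplicative ℤ →* A := (GroupLike.valMonoidHom k A).comp (zpowersHom (GroupLike k A) g)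
  BialgHom.ofAlgHom (MonoidAlgebra.lift k A (Multiplicative ℤ) gm)
    (MonoidAlgebra.algHom_ext (fun m => by simp [gm, (zpowersHom (GroupLike k A) g m).2.counit_eq_one])
      (Subsingleton.elim _ _))
    (MonoidAlgebra.algHom_ext
      (fun m => by simp [gm, (zpowersHom (GroupLike k A) g m).2.comul_eq_tmul_self, MonoidAlgebra.comul_single])
      (Subsingleton.elim _ _))

theorem charHom_tc (g : GroupLike k A) : charHom g tc = g.1 := by
  simp [charHom, tc]

theorem algHom_ext_tc {c c' : MonoidAlgebra k (Multiplicative ℤ) →ₐ[k] A} (h : c tc = c' tc) : c = c' := by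
  refine MonoidAlgebra.algHom_ext (fun m => ?_) (Subsingleton.elim _ _)
  have key : c.toMonoidHom.comp (MonoidAlgebra.of k (Multiplicative ℤ)) =
      c'.toMonoidHom.comp (MonoidAlgebra.of k (Multiplicative ℤ)) := MonoidHom.ext_mint h
  exact DFunLike.congr_fun key m

theorem conv_tc (f g : WithConv (MonoidAlgebra k (Multiplicative ℤ) →ₐ[k] A)) :
    (f * g).ofConv tc = f.ofConv tc * g.ofConv tc := by
  have h : Coalgebra.comul (R := k) (tc : MonoidAlgebra k (Multiplicative ℤ)) = tc ⊗ₜ[k] tc :=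
    (MonoidAlgebra.isGroupLikeElem_single_one (Multiplicative.ofAdd (1 : ℤ))).comul_eq_tmul_self
  rw [AlgHom.convMul_apply, h, Algebra.TensorProduct.lift_tmul]

end

open CategoryTheory AlgebraicGeometry MonObj in
/-- Let k be a field and i : H → G a homomorphism of affine commutative k-group schemes of finite type
which is a closed immersion. Then the restriction map Ĝ(k) → Ĥ(k) on characters defined over k
(morphisms of abelian sheaves on the big fppf site of Spec k from the sheaf of points to the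
multiplicative group, restricted along i) has finite cokernel: its image is a subgroup of finite
index. -/
theorem result (k : Type u) [Field k]
    (H G : Over (Spec (CommRingCat.of k))) [GrpObj H] [IsCommMonObj H] [GrpObj G] [IsCommMonObj G]
    [IsAffine H.left] [LocallyOfFiniteType H.hom] [IsAffine G.left] [LocallyOfFiniteType G.hom]
    (i : H ⟶ G) [IsMonHom i] [IsClosedImmersion i.left] :
    (Preadditive.leftComp (CGrpSh2.Gm Scheme.fppfPrecoverage (Spec (CommRingCat.of k)))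
      (CGrpSh.ptsMap Scheme.fppfPrecoverage i)).range.FiniteIndex := by
  classical
  let K₀ := Scheme.fppfPrecoverage.{u}
  obtain ⟨A, _, _, ⟨eH⟩⟩ := exists_hopf H
  obtain ⟨B, _, _, ⟨eG⟩⟩ := exists_hopf G
  obtain ⟨eD⟩ := nonempty_DS_iso k ℤ
  haveI : IsMonHom eH.hom.hom.hom := eH.hom.hom.isMonHom_hom
  haveI : IsMonHom eH.inv.hom.hom := eH.inv.hom.isMonHom_hom
  haveI : IsMonHom eG.hom.hom.hom := eG.hom.hom.isMonHom_hom
  haveI : IsMonHom eG.inv.hom.hom := eG.inv.hom.isMonHom_hom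
  haveI : IsMonHom eD.hom.hom.hom := eD.hom.hom.isMonHom_hom
  haveI : IsMonHom eD.inv.hom.hom := eD.inv.hom.isMonHom_hom
  have eH1 : eH.hom.hom.hom ≫ eH.inv.hom.hom = 𝟙 _ := congrArg (fun z => z.hom.hom) eH.hom_inv_id
  have eH2 : eH.inv.hom.hom ≫ eH.hom.hom.hom = 𝟙 _ := congrArg (fun z => z.hom.hom) eH.inv_hom_id
  have eG1 : eG.hom.hom.hom ≫ eG.inv.hom.hom = 𝟙 _ := congrArg (fun z => z.hom.hom) eG.hom_inv_id
  have eG2 : eG.inv.hom.hom ≫ eG.hom.hom.hom = 𝟙 _ := congrArg (fun z => z.hom.hom) eG.inv_hom_id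
  have eD1 : eD.hom.hom.hom ≫ eD.inv.hom.hom = 𝟙 _ := congrArg (fun z => z.hom.hom) eD.hom_inv_id
  have eD2 : eD.inv.hom.hom ≫ eD.hom.hom.hom = 𝟙 _ := congrArg (fun z => z.hom.hom) eD.inv_hom_id
  haveI : IsIso eH.hom.hom.hom := ⟨_, eH1, eH2⟩
  haveI : IsIso eG.hom.hom.hom := ⟨_, eG1, eG2⟩
  haveI : IsIso eG.inv.hom.hom := ⟨_, eG2, eG1⟩
  haveI : IsIso eD.inv.hom.hom := ⟨_, eD2, eD1⟩
  haveI : IsIso eH.hom.hom.hom.left := inferInstanceAs (IsIso ((Over.forget _).map eH.hom.hom.hom))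
  haveI : IsIso eG.inv.hom.hom.left := inferInstanceAs (IsIso ((Over.forget _).map eG.inv.hom.hom))
  haveI : Coalgebra.IsCocomm k B := Groth.Agent.Chevalley.CommAff.isCocomm_of_iso eG.hom.hom.hom
  haveI : Algebra.FiniteType k A := RingHom.finiteType_algebraMap.mp
    ((HasRingHomProperty.Spec_iff (P := @LocallyOfFiniteType)).mp (by
      have h : LocallyOfFiniteType (sp k A).hom := by
        rw [← Over.w eH.hom.hom.hom]; infer_instance
      exact h))
  obtain ⟨π, hπ⟩ := exists_bialgHom (eH.hom.hom.hom ≫ i ≫ eG.inv.hom.hom)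
  have hsurj : Function.Surjective π := by
    refine surjective_of_isClosedImmersion (π : B →ₐ[k] A) ?_
    rw [← hπ, Over.comp_left, Over.comp_left]
    infer_instance
  -- the value of a character at the coordinate
  let ev : (CGrpSh.pts K₀ H ⟶ CGrpSh2.Gm K₀ (Spec (CommRingCat.of k))) → A := fun Φ =>
    (Spec.mapMulEquiv.symm ((Φ.hom.app (Opposite.op (sp k A))
      (ULift.up (Additive.ofMul eH.hom.hom.hom))).down.toMul ≫ eD.inv.hom.hom)).ofConv tc
  have ev_mul : ∀ Φ Φ', ev (Φ + Φ') = ev Φ * ev Φ' := by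
    intro Φ Φ'
    show (Spec.mapMulEquiv.symm (((Φ.hom.app (Opposite.op (sp k A)) (ULift.up (Additive.ofMul eH.hom.hom.hom))).down.toMul *
      (Φ'.hom.app (Opposite.op (sp k A)) (ULift.up (Additive.ofMul eH.hom.hom.hom))).down.toMul) ≫
        eD.inv.hom.hom)).ofConv tc = _
    rw [MonObj.mul_comp, map_mul, conv_tc]
  have ev_pts : ∀ (χ : H ⟶ Red.Gm (Spec (CommRingCat.of k))) [IsMonHom χ] (c : MonoidAlgebra k (Multiplicative ℤ) →ₐ[k] A),
      eH.hom.hom.hom ≫ χ ≫ eD.inv.hom.hom = spMap c → ev (CGrpSh.ptsMap K₀ χ) = c tc := by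
    intro χ _ c hc
    show (Spec.mapMulEquiv.symm ((eH.hom.hom.hom ≫ χ) ≫ eD.inv.hom.hom)).ofConv tc = c tc
    rw [Category.assoc, hc, spMap_eq_mapMulEquiv, MulEquiv.symm_apply_apply]
  have ev_gl : ∀ Φ, IsGroupLikeElem k (ev Φ) := by
    intro Φ
    obtain ⟨χ, _, rfl⟩ := Groth.Agent.ExtEquiv.exists_ptsMap K₀ Φ
    obtain ⟨c, hc⟩ := exists_bialgHom (eH.hom.hom.hom ≫ χ ≫ eD.inv.hom.hom)
    rw [ev_pts χ (c : MonoidAlgebra k (Multiplicative ℤ) →ₐ[k] A) hc]
    exact (MonoidAlgebra.isGroupLikeElem_single_one _).map c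
  have ev_inj : Function.Injective ev := by
    intro Φ Φ' he
    obtain ⟨χ, _, rfl⟩ := Groth.Agent.ExtEquiv.exists_ptsMap K₀ Φ
    obtain ⟨χ', _, rfl⟩ := Groth.Agent.ExtEquiv.exists_ptsMap K₀ Φ'
    obtain ⟨c, hc⟩ := exists_eq_spMap (eH.hom.hom.hom ≫ χ ≫ eD.inv.hom.hom)
    obtain ⟨c', hc'⟩ := exists_eq_spMap (eH.hom.hom.hom ≫ χ' ≫ eD.inv.hom.hom)
    rw [ev_pts χ c hc, ev_pts χ' c' hc'] at he
    have : χ = χ' := by
      rw [← cancel_epi eH.hom.hom.hom, ← cancel_mono eD.inv.hom.hom, Category.assoc, Category.assoc, hc, hc',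
        algHom_ext_tc he]
    subst this
    rfl
  let Θ : (CGrpSh.pts K₀ H ⟶ CGrpSh2.Gm K₀ (Spec (CommRingCat.of k))) →+ Additive (GroupLike k A) :=
    AddMonoidHom.mk' (fun Φ => Additive.ofMul ⟨ev Φ, ev_gl Φ⟩) fun Φ Φ' =>
      congrArg Additive.ofMul (GroupLike.ext (ev_mul Φ Φ'))
  have hΘ : Function.Injective Θ := fun Φ Φ' h =>
    ev_inj (congrArg GroupLike.val (Additive.ofMul.injective h))
  haveI : Group.FG (GroupLike k A) := Groth.Agent.CharLift.fg_groupLike A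
  haveI : Module.Finite ℤ (Additive (GroupLike k A)) := Module.Finite.iff_addGroup_fg.mpr inferInstance
  haveI : Module.Finite ℤ (CGrpSh.pts K₀ H ⟶ CGrpSh2.Gm K₀ (Spec (CommRingCat.of k))) :=
    Module.Finite.of_injective Θ.toIntLinearMap hΘ
  set R := (Preadditive.leftComp (CGrpSh2.Gm K₀ (Spec (CommRingCat.of k))) (CGrpSh.ptsMap K₀ i)).range with hR
  have htors : ∀ Φ, ∃ n : ℕ, 0 < n ∧ n • Φ ∈ R := by
    intro Φ
    obtain ⟨n, g, hn, hg, hgh⟩ := Groth.Agent.CharLift.exists_groupLike_lift_pow π (ev_gl Φ) (hsurj _)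
    let ψ : G ⟶ Red.Gm (Spec (CommRingCat.of k)) :=
      eG.inv.hom.hom ≫ spMap (charHom ⟨g, hg⟩ : MonoidAlgebra k (Multiplicative ℤ) →ₐ[k] B) ≫ eD.hom.hom.hom
    haveI : IsMonHom ψ := inferInstanceAs (IsMonHom (eG.inv.hom.hom ≫
      spMap (charHom ⟨g, hg⟩ : MonoidAlgebra k (Multiplicative ℤ) →ₐ[k] B) ≫ eD.hom.hom.hom))
    refine ⟨n, hn, CGrpSh.ptsMap K₀ ψ, ev_inj ?_⟩
    show ev (CGrpSh.ptsMap K₀ i ≫ CGrpSh.ptsMap K₀ ψ) = ev (n • Φ)
    have h1 : eH.hom.hom.hom ≫ (i ≫ ψ) ≫ eD.inv.hom.hom =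
        spMap ((π : B →ₐ[k] A).comp (charHom ⟨g, hg⟩ : MonoidAlgebra k (Multiplicative ℤ) →ₐ[k] B)) := by
      simp only [ψ, Category.assoc, eD1]
      erw [Category.comp_id]
      rw [reassoc_of% hπ, spMap_comp]
    rw [← CGrpSh.ptsMap_comp, ev_pts (i ≫ ψ) _ h1]
    show π (charHom ⟨g, hg⟩ tc) = _
    rw [charHom_tc, hgh]
    exact (congrArg (fun z => (Additive.toMul z).val) (map_nsmul Θ n Φ)).symm
  have hQ : ∀ q : (CGrpSh.pts K₀ H ⟶ CGrpSh2.Gm K₀ (Spec (CommRingCat.of k))) ⧸ R, IsOfFinAddOrder q := by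
    intro q
    induction q using QuotientAddGroup.induction_on with
    | H Φ =>
      obtain ⟨n, hn, hΦ⟩ := htors Φ
      refine isOfFinAddOrder_iff_nsmul_eq_zero.mpr ⟨n, hn, ?_⟩
      rw [← QuotientAddGroup.mk_nsmul, QuotientAddGroup.eq_zero_iff]
      exact hΦ
  haveI : AddGroup.FG (CGrpSh.pts K₀ H ⟶ CGrpSh2.Gm K₀ (Spec (CommRingCat.of k))) :=
    Module.Finite.iff_addGroup_fg.mp inferInstance
  haveI : Finite ((CGrpSh.pts K₀ H ⟶ CGrpSh2.Gm K₀ (Spec (CommRingCat.of k))) ⧸ R) :=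
    AddCommGroup.finite_of_fg_torsion _ hQ
  exact AddSubgroup.finiteIndex_of_finite_quotient

end Groth.Agent.S13469
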