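import Groth.Statements.S13470
import Groth.Agent.CharLift.Basic
import Groth.Agent.ExtEquiv.Basic
import Groth.Agent.GrpSchLib.AffineHopfClosed
import Groth.Agent.Chevalley.CommAff.Scheme
import Mathlib.RingTheory.HopfAlgebra.GroupLike

set_option autoImplicit false
universe u
open GmDual

namespace Groth.Agent.S13470

open CategoryTheory AlgebraicGeometry MonObj in
/-- Let k be an algebraically closed field and i : H → G a homomorphism of affine commutative k-group
schemes of finite type which is a closed immersion. Then the restriction map Ĝ(k) → Ĥ(k) on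
characters defined over k (morphisms of abelian sheaves on the big fppf site of Spec k from the
sheaf of points to the multiplicative group, restricted along i) is surjective. -/
theorem result (k : Type u) [Field k] [IsAlgClosed k]
    (H G : Over (Spec (CommRingCat.of k))) [GrpObj H] [IsCommMonObj H] [GrpObj G] [IsCommMonObj G]
    [IsAffine H.left] [LocallyOfFiniteType H.hom] [IsAffine G.left] [LocallyOfFiniteType G.hom]
    (i : H ⟶ G) [IsMonHom i] [IsClosedImmersion i.left] :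
    Function.Surjective (Preadditive.leftComp (CGrpSh2.Gm Scheme.fppfPrecoverage (Spec (CommRingCat.of k)))
      (CGrpSh.ptsMap Scheme.fppfPrecoverage i)) := by
  intro Φ
  obtain ⟨χ, hχ, rfl⟩ := Groth.Agent.ExtEquiv.exists_ptsMap Scheme.fppfPrecoverage Φ
  obtain ⟨A, _, _, ⟨eH⟩⟩ := Groth.Agent.GrpSchLib.AffineHopf.exists_hopf H
  obtain ⟨B, _, _, ⟨eG⟩⟩ := Groth.Agent.GrpSchLib.AffineHopf.exists_hopf G
  obtain ⟨eD⟩ := Groth.Agent.GrpSchLib.AffineHopf.nonempty_DS_iso k ℤ
  haveI : IsMonHom eH.hom.hom.hom := eH.hom.hom.isMonHom_hom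
  haveI : IsMonHom eH.inv.hom.hom := eH.inv.hom.isMonHom_hom
  haveI : IsMonHom eG.hom.hom.hom := eG.hom.hom.isMonHom_hom
  haveI : IsMonHom eG.inv.hom.hom := eG.inv.hom.isMonHom_hom
  haveI : IsMonHom eD.hom.hom.hom := eD.hom.hom.isMonHom_hom
  haveI : IsMonHom eD.inv.hom.hom := eD.inv.hom.isMonHom_hom
  have eH1 : eH.hom.hom.hom ≫ eH.inv.hom.hom = 𝟙 _ := congrArg (fun z => z.hom.hom) eH.hom_inv_id
  have eH2 : eH.inv.hom.hom ≫ eH.hom.hom.hom = 𝟙 _ := congrArg (fun z => z.hom.hom) eH.inv_hom_id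
  have eG1 : eG.hom.hom.hom ≫ eG.inv.hom.hom = 𝟙 _ := congrArg (fun z => z.hom.hom) eG.hom_inv_id
  have eG2 : eG.inv.hom.hom ≫ eG.hom.hom.hom = 𝟙 _ := congrArg (fun z => z.hom.hom) eG.inv_hom_id
  have eD2 : eD.inv.hom.hom ≫ eD.hom.hom.hom = 𝟙 _ := congrArg (fun z => z.hom.hom) eD.inv_hom_id
  haveI : IsIso eH.hom.hom.hom := ⟨_, eH1, eH2⟩
  haveI : IsIso eG.hom.hom.hom := ⟨_, eG1, eG2⟩
  haveI : IsIso eG.inv.hom.hom := ⟨_, eG2, eG1⟩
  haveI : Coalgebra.IsCocomm k B := Groth.Agent.Chevalley.CommAff.isCocomm_of_iso eG.hom.hom.hom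
  obtain ⟨π, hπ⟩ := Groth.Agent.GrpSchLib.AffineHopf.exists_bialgHom (eH.hom.hom.hom ≫ i ≫ eG.inv.hom.hom)
  obtain ⟨c, hc⟩ := Groth.Agent.GrpSchLib.AffineHopf.exists_bialgHom (eH.hom.hom.hom ≫ χ ≫ eD.inv.hom.hom)
  haveI : IsIso eH.hom.hom.hom.left := inferInstanceAs (IsIso ((Over.forget _).map eH.hom.hom.hom))
  haveI : IsIso eG.inv.hom.hom.left := inferInstanceAs (IsIso ((Over.forget _).map eG.inv.hom.hom))
  have hsurj : Function.Surjective π := by
    refine Groth.Agent.GrpSchLib.AffineHopf.surjective_of_isClosedImmersion (π : B →ₐ[k] A) ?_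
    rw [← hπ, Over.comp_left, Over.comp_left]
    infer_instance
  have hh : IsGroupLikeElem k (c (MonoidAlgebra.single (Multiplicative.ofAdd (1 : ℤ)) (1 : k))) :=
    (MonoidAlgebra.isGroupLikeElem_single_one _).map c
  obtain ⟨g, hg, hπg⟩ := Groth.Agent.CharLift.exists_groupLike_lift
    ((π : B →ₐc[k] A) : B →ₗc[k] A) hh (hsurj _)
  let gl : Multiplicative ℤ →* GroupLike k B := zpowersHom (GroupLike k B) ⟨g, hg⟩
  let gm : Multiplicative ℤ →* B :=
    { toFun := fun n => (gl n).val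
      map_one' := by simp
      map_mul' := fun a b => by simp }
  let c' : MonoidAlgebra k (Multiplicative ℤ) →ₐc[k] B :=
    BialgHom.ofAlgHom (MonoidAlgebra.lift k B (Multiplicative ℤ) gm)
      (MonoidAlgebra.algHom_ext (fun m => by simp [gm, (gl m).2.counit_eq_one]) (Subsingleton.elim _ _))
      (MonoidAlgebra.algHom_ext (fun m => by simp [gm, (gl m).2.comul_eq_tmul_self, MonoidAlgebra.comul_single])
        (Subsingleton.elim _ _))
  have hcc : ((π : B →ₐ[k] A)).comp (c' : MonoidAlgebra k (Multiplicative ℤ) →ₐ[k] B) =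
      (c : MonoidAlgebra k (Multiplicative ℤ) →ₐ[k] A) := by
    refine MonoidAlgebra.algHom_ext (fun m => ?_) (Subsingleton.elim _ _)
    have key : ((π : B →ₐ[k] A).toMonoidHom.comp gm : Multiplicative ℤ →* A) =
        (c : MonoidAlgebra k (Multiplicative ℤ) →ₐ[k] A).toMonoidHom.comp (MonoidAlgebra.of k (Multiplicative ℤ)) := by
      refine MonoidHom.ext_mint ?_
      show π (gl (Multiplicative.ofAdd 1)).val = _
      simp only [gl, zpowersHom_apply, toAdd_ofAdd, zpow_one]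
      exact hπg
    have h := DFunLike.congr_fun key m
    simpa [c', gm] using h
  let ψ : G ⟶ Red.Gm (Spec (CommRingCat.of k)) :=
    eG.inv.hom.hom ≫ Groth.Agent.GrpSchLib.AffineHopf.spMap (c' : MonoidAlgebra k (Multiplicative ℤ) →ₐ[k] B) ≫
      eD.hom.hom.hom
  haveI : IsMonHom ψ := inferInstanceAs (IsMonHom (eG.inv.hom.hom ≫
    Groth.Agent.GrpSchLib.AffineHopf.spMap (c' : MonoidAlgebra k (Multiplicative ℤ) →ₐ[k] B) ≫ eD.hom.hom.hom))
  refine ⟨CGrpSh.ptsMap Scheme.fppfPrecoverage ψ, ?_⟩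
  show CGrpSh.ptsMap Scheme.fppfPrecoverage i ≫ CGrpSh.ptsMap Scheme.fppfPrecoverage ψ = _
  rw [← CGrpSh.ptsMap_comp]
  have hfin : i ≫ ψ = χ := by
    rw [← cancel_epi eH.hom.hom.hom]
    show eH.hom.hom.hom ≫ i ≫ eG.inv.hom.hom ≫ _ ≫ _ = _
    rw [reassoc_of% hπ, ← Category.assoc, Groth.Agent.GrpSchLib.AffineHopf.spMap_comp, hcc, ← hc]
    simp only [Category.assoc, eD2]
    erw [Category.comp_id]
  subst hfin
  rfl

end Groth.Agent.S13470
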