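import Groth.Statements.S13497
import Groth.Agent.RGammaD.H0
import Groth.Agent.AdicLib.Basic
import Groth.Agent.H9Misc.DRingTel
import Groth.Agent.H9Misc.TBMod

set_option autoImplicit false
universe u
open CategoryTheory CategoryTheory.Limits
attribute [local instance] HasDerivedCategory.standard
open LocCoh

namespace Groth.Agent.S13497

set_option backward.isDefEq.respectTransparency false
set_option linter.style.haveILetI false


/-- Let I and J be ideals of a Noetherian ring A which is I-adically complete, and M a finite A-module.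
Then H^0 of the derived I-adic completion of RGamma_J(M) is the filtered colimit (union) of the
submodules H^0_{V(J')}(M) of J'-power torsion elements of M, over the ideals J' contained in J with
V(J') ∩ V(I) = V(J) ∩ V(I), that is with J contained in the radical of J' + I. Precisely: the map on
H^0 induced by the completion of RGamma_J(M) -> M is injective, and its range is the image of that
union under M -> H^0(M^) (H^0 of the completion unit of M in degree 0). RGamma_J is the total right
derived functor of the J-power torsion functor (which is RGamma_{V(J)} since A is Noetherian); its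
existence, and that of derived I-completion, are instance hypotheses. -/
theorem result (A : Type u) [CommRing A] [IsNoetherianRing A] (I J : Ideal A) [IsAdicComplete I A] [DRing.HasRgammaI J] [DRing.HasDerivedCompletion I] (M : Type u) [AddCommGroup M] [Module A M] [Module.Finite A M] : Function.Injective ((DerivedCategory.homologyFunctor (ModuleCat.{u} A) 0).map ((ObjectProperty.ι (DRing.IsDerivedComplete I)).map ((DRing.derivedCompletion I).map ((DRing.RgammaIε J).app (Dual.inD A M))))).hom ∧ Set.range ((DerivedCategory.homologyFunctor (ModuleCat.{u} A) 0).map ((ObjectProperty.ι (DRing.IsDerivedComplete I)).map ((DRing.derivedCompletion I).map ((DRing.RgammaIε J).app (Dual.inD A M))))).hom = (fun s : M => ((DerivedCategory.homologyFunctor (ModuleCat.{u} A) 0).map (DRing.toDerivedCompletion I (Dual.inD A M))).hom (((DerivedCategory.singleFunctorCompHomologyFunctorIso (ModuleCat.{u} A) 0).inv.app (ModuleCat.of A M)).hom s)) '' {s : M | ∃ J' : Ideal A, J' ≤ J ∧ J ≤ (J' ⊔ I).radical ∧ s ∈ DRing.torsionSub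 J' M} := by
  obtain ⟨sI, hsI⟩ := IsNoetherian.noetherian I
  obtain ⟨sJ, hsJ⟩ := IsNoetherian.noetherian J
  let fs := sI.toList
  let gs := sJ.toList
  have hfs : Ideal.span {x : A | x ∈ fs} = I := by
    rw [show {x : A | x ∈ fs} = (sI : Set A) from Set.ext fun x => Finset.mem_toList]
    exact hsI
  have hgs : Ideal.span {x : A | x ∈ gs} = J := by
    rw [show {x : A | x ∈ gs} = (sJ : Set A) from Set.ext fun x => Finset.mem_toList]
    exact hsJ
  let M' := ModuleCat.of A M
  haveI : Module.Finite A M' := inferInstanceAs (Module.Finite A M)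
  let E := RGammaD.powSys I M' ⋙ RGammaD.cechF gs
  let K := (Functor.const ℕᵒᵖ).obj M' ⋙ RGammaD.cechF gs
  let C := RGammaD.quotSys I M' ⋙ RGammaD.cechF gs
  let a : E ⟶ K := Functor.whiskerRight (RGammaD.powNat I M') (RGammaD.cechF gs)
  let b : K ⟶ C := Functor.whiskerRight (RGammaD.quotNat I M') (RGammaD.cechF gs)
  choose w hw using RGammaD.shortExact_powQuot I M'
  have hS := fun n => H1CechLC.cxSC_shortExact (hw n) gs
  have hE : RGammaD.PZ (E ⋙ RGammaD.konR fs) :=
    (RGammaD.pzk_cech M' fs hfs gs 0).of_iso (Functor.isoWhiskerRight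
      (Functor.isoWhiskerLeft E (CategoryTheory.shiftFunctorZero (DRing.Cx A) ℤ) ≪≫ Functor.rightUnitor E) _)
  have hbij := fun (W : Dual.D A) (hW : DRing.IsDerivedComplete I W) =>
    RGammaD.bijective_fibMap a b (fun n => (H1CechLC.cxSC (ShortComplex.mk _ _ (w n)) gs).zero) (fun n => hS n) fs
      (fun f hf => hfs ▸ Ideal.subset_span hf) hE hW
  obtain ⟨eK, heK⟩ := RGammaD.exists_fibConst gs M'
  have hC : DRing.IsDerivedComplete I (DerivedCategory.Q.obj (RGammaD.fib C)) :=
    RGammaD.isDerivedComplete_fib C fun f hf n => ⟨n, RGammaD.smul_id_extCech_eq_zero (fun x => by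
      obtain ⟨m, rfl⟩ := Submodule.mkQ_surjective _ x
      exact (Submodule.Quotient.mk_eq_zero _).2
        (Submodule.smul_mem_smul (Ideal.pow_mem_pow hf n) Submodule.mem_top)) gs⟩
  choose θ hθ using RGammaD.exists_cechIso J gs hgs
  let H := DerivedCategory.homologyFunctor (ModuleCat.{u} A) 0
  let S := DerivedCategory.singleFunctor (ModuleCat.{u} A) 0
  let ι0 := DerivedCategory.singleFunctorCompHomologyFunctorIso (ModuleCat.{u} A) 0
  let fac := DerivedCategory.homologyFunctorFactors (ModuleCat.{u} A) 0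
  let Mn := fun n : ℕ => (RGammaD.quotSys I M').obj (Opposite.op n)
  let qn : ∀ n, M' ⟶ Mn n := fun n => (RGammaD.quotNat I M').app (Opposite.op n)
  let ε := (DRing.RgammaIε J).app (Dual.inD A M)
  let η : (DRing.RgammaI J).obj (Dual.inD A M) ⟶ DerivedCategory.Q.obj (RGammaD.fib C) :=
    ((θ M').symm ≪≫ eK).hom ≫ DerivedCategory.Q.map (RGammaD.fibMap b)
  have hη : ∀ W : Dual.D A, DRing.IsDerivedComplete I W →
      Function.Bijective (fun φ : DerivedCategory.Q.obj (RGammaD.fib C) ⟶ W => η ≫ φ) := fun W hW => by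
    have e : (fun φ : DerivedCategory.Q.obj (RGammaD.fib C) ⟶ W => η ≫ φ) =
        ((θ M').symm ≪≫ eK).symm.homFromEquiv ∘ (fun φ => DerivedCategory.Q.map (RGammaD.fibMap b) ≫ φ) :=
      funext fun φ => Category.assoc _ _ _
    exact e ▸ (Equiv.bijective _).comp (hbij W hW)
  obtain ⟨a', ha'⟩ := RGammaD.exists_iso_completion η hC hη
  haveI : IsAdicComplete I M := AdicLib.isAdicComplete_of_finite I M
  have hM : DRing.IsDerivedComplete I (Dual.inD A M) :=
    (H9Misc.DRingTel.isDerivedComplete_inD_iff I M).2 fun f hf => H9Misc.TBMod.tbm_of_isAdicComplete I hf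
  obtain ⟨e0, he0⟩ := RGammaD.exists_iso_completion (𝟙 (Dual.inD A M)) hM fun W hW => by
    have : (fun φ : Dual.inD A M ⟶ W => 𝟙 (Dual.inD A M) ≫ φ) = id := funext fun φ => Category.id_comp φ
    rw [this]
    exact Function.bijective_id
  let u0 := DRing.toDerivedCompletion I (Dual.inD A M)
  have hu0 : u0 = e0.inv := (Category.comp_id u0).symm.trans ((congrArg (u0 ≫ ·) e0.hom_inv_id.symm).trans
    ((Category.assoc _ _ _).symm.trans ((congrArg (· ≫ e0.inv) he0).trans (Category.id_comp _))))
  let g := (ObjectProperty.ι (DRing.IsDerivedComplete I)).map ((DRing.derivedCompletion I).map ε)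
  have hg : DRing.toDerivedCompletion I _ ≫ g = ε ≫ u0 :=
    ((DRing.derivedCompletionAdj I).unit.naturality ε).symm
  let h := a'.inv ≫ g ≫ e0.hom
  have hh : η ≫ h = ε := by
    refine ((congrArg (· ≫ h) ha'.symm).trans (Category.assoc _ _ _)).trans ?_
    refine (congrArg (DRing.toDerivedCompletion I _ ≫ ·) (a'.hom_inv_id_assoc _)).trans ?_
    refine (Category.assoc _ _ _).symm.trans ((congrArg (· ≫ e0.hom) hg).trans ?_)
    exact (Category.assoc _ _ _).trans ((congrArg (ε ≫ ·) he0).trans (Category.comp_id ε))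
  have hcn : ∀ n, η ≫ DerivedCategory.Q.map (RGammaD.comp0 C n) =
      (θ M').inv ≫ DerivedCategory.Q.map ((RGammaD.cechF gs).map (qn n)) := fun n => by
    have e1 : RGammaD.fibMap b ≫ RGammaD.comp0 C n = RGammaD.comp0 K n ≫ b.app (Opposite.op n) := by
      rw [RGammaD.comp0, RGammaD.comp0, reassoc_of% RGammaD.fibMap_fst b, RGammaD.prodMap_π, Category.assoc]
    show ((_ ≫ eK.hom) ≫ DerivedCategory.Q.map (RGammaD.fibMap b)) ≫ _ = _
    rw [Category.assoc, Category.assoc, ← Functor.map_comp, e1, Functor.map_comp, reassoc_of% heK n,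
      CategoryTheory.Functor.map_id, Category.id_comp]
    rfl
  have hCn : ∀ n, DRing.IsDerivedComplete I (S.obj (Mn n)) := fun n f hf =>
    RGammaD.cg_of_pow_smul_eq_zero (K := DerCA.extCech (Mn n) ([] : List A)) n
      (RGammaD.smul_id_extCech_eq_zero (fun x => by
        obtain ⟨m, rfl⟩ := Submodule.mkQ_surjective _ x
        exact (Submodule.Quotient.mk_eq_zero _).2
          (Submodule.smul_mem_smul (Ideal.pow_mem_pow hf n) Submodule.mem_top)) [])
  have hkey : ∀ n, h ≫ S.map (qn n) = DerivedCategory.Q.map (RGammaD.comp0 C n) ≫ (RGammaD.cechQ gs).app (Mn n) :=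
    fun n => (hη _ (hCn n)).1 (by
      refine ((Category.assoc _ _ _).symm.trans (congrArg (· ≫ _) hh)).trans ?_
      refine Eq.trans ?_ ((congrArg (· ≫ _) (hcn n)).symm.trans (Category.assoc _ _ _))
      refine Eq.trans ?_ (Category.assoc _ _ _).symm
      refine Eq.trans ?_ (congrArg ((θ M').inv ≫ ·) ((RGammaD.cechQ gs).naturality (qn n)).symm)
      refine Eq.trans ?_ (Category.assoc _ _ _)
      exact congrArg (· ≫ S.map (qn n)) ((congrArg ((θ M').inv ≫ ·) (hθ M').symm).trans ((θ M').inv_hom_id_assoc _)).symm)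
  -- degree zero
  let φ : H.obj (DerivedCategory.Q.obj (RGammaD.fib C)) → M' := fun z => (ι0.app M').hom (H.map h z)
  let σ := fun n => HomologicalComplex.homologyMap ((RGammaD.cechToSingle gs).app (Mn n)) 0
  let j : ∀ n, (((HomologicalComplex.single (ModuleCat.{u} A) (ComplexShape.up ℤ) 0).obj (Mn n)).homology 0) ≅ Mn n :=
    fun n => (fac.app _).symm ≪≫ ι0.app (Mn n)
  have hmk : ∀ (n : ℕ) (z : H.obj (DerivedCategory.Q.obj (RGammaD.fib C))), qn n (φ z) =
      (j n).hom (σ n (HomologicalComplex.homologyMap (RGammaD.comp0 C n) 0 ((fac.app _).hom z))) := by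
    intro n z
    have e1 : H.map h ≫ (ι0.app M').hom ≫ qn n = H.map (h ≫ S.map (qn n)) ≫ (ι0.app (Mn n)).hom := by
      rw [H.map_comp h (S.map (qn n)), Category.assoc]
      exact congrArg (H.map h ≫ ·) (ι0.hom.naturality (qn n)).symm
    have e2 : ∀ {P Q' : DRing.Cx A} (m : P ⟶ Q') (x : H.obj (DerivedCategory.Q.obj P)),
        H.map (DerivedCategory.Q.map m) x = (fac.app Q').inv (HomologicalComplex.homologyMap m 0 ((fac.app P).hom x)) := by
      intro P Q' m x
      refine (Iso.hom_inv_id_apply (fac.app Q') _).symm.trans ?_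
      exact congrArg (fac.app Q').inv (ConcreteCategory.congr_hom (fac.hom.naturality m) x)
    refine (ConcreteCategory.congr_hom e1 z).trans ?_
    refine congrArg (ι0.app (Mn n)).hom ?_
    refine (congrArg (fun t => H.map t z) (hkey n)).trans ?_
    refine (ConcreteCategory.congr_hom (H.map_comp _ _) z).trans ?_
    refine (congrArg (H.map ((RGammaD.cechQ gs).app (Mn n))) (e2 _ z)).trans ?_
    show H.map (DerivedCategory.Q.map ((RGammaD.cechToSingle gs).app (Mn n)) ≫ 𝟙 _) _ = _
    rw [Category.comp_id, e2, Iso.inv_hom_id_apply]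
    rfl
  have hjinj : ∀ n, Function.Injective (j n).hom := fun n => (j n).toLinearEquiv.injective
  have hσ := fun n => RGammaD.homologyMap_cechToSingle_zero (Mn n) gs
  obtain ⟨hext, hlift⟩ := RGammaD.homology_fib_zero C fun n p hp =>
    Groth.Agent.LC.ExtCech.isZero_extCech_X_neg _ gs p hp
  have hφ : Function.Injective φ := fun z z' hzz =>
    (fac.app _).toLinearEquiv.injective (hext _ _ fun n => (hσ n).1 (hjinj n ((hmk n z).symm.trans ((congrArg (qn n) hzz).trans (hmk n z')))))
  have hmem : ∀ (n : ℕ) (x : M), qn n x = 0 ↔ x ∈ (I ^ n • ⊤ : Submodule A M) := fun n x =>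
    Submodule.Quotient.mk_eq_zero _
  have htors : ∀ s : M, (∃ z, φ z = s) ↔ ∀ n : ℕ, ∀ g ∈ gs, ∃ k : ℕ, g ^ k • qn n s = 0 := by
    intro s
    constructor
    · rintro ⟨z, rfl⟩ n g hg
      obtain ⟨e⟩ := RGammaD.hd_iso (DerCA.extCech (Mn n) gs) 0
      obtain ⟨k, hk⟩ := H9Misc.ExtCechTors.tors_extCech (Mn n) gs hg 0
        (HomologicalComplex.homologyMap (RGammaD.comp0 C n) 0 ((fac.app _).hom z))
      refine ⟨k, ?_⟩
      rw [hmk, ← map_smul, ← map_smul]
      exact (congrArg (fun t => (j n).hom (σ n t)) hk).trans (by rw [map_zero, map_zero])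
    · intro hs
      choose c hc using fun n => (hσ n).2 ((j n).inv (qn n s)) fun g hg => by
        obtain ⟨k, hk⟩ := hs n g hg
        exact ⟨k, by rw [← map_smul, hk, map_zero]⟩
      obtain ⟨z, hz⟩ := hlift c fun n => (hσ n).1 (by
        let tq := (RGammaD.quotSys I M').map (homOfLE (Nat.le_succ n)).op
        have e3 : σ n (HomologicalComplex.homologyMap (RGammaD.tr C (Nat.le_succ n)) 0 (c (n + 1))) =
            HomologicalComplex.homologyMap ((HomologicalComplex.single (ModuleCat.{u} A) (ComplexShape.up ℤ) 0).map tq)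
              0 (σ (n + 1) (c (n + 1))) := by
          have := congrArg (fun t => HomologicalComplex.homologyMap t 0) ((RGammaD.cechToSingle gs).naturality tq)
          simp only [HomologicalComplex.homologyMap_comp] at this
          exact ConcreteCategory.congr_hom this (c (n + 1))
        refine e3.trans ?_
        rw [hc (n + 1)]
        refine Eq.trans ?_ (hc n).symm
        have e4 : (j (n + 1)).inv ≫ HomologicalComplex.homologyMap
            ((HomologicalComplex.single (ModuleCat.{u} A) (ComplexShape.up ℤ) 0).map tq) 0 = tq ≫ (j n).inv := by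
          rw [Iso.inv_comp_eq, ← Category.assoc, Iso.eq_comp_inv]
          show _ ≫ fac.inv.app _ ≫ ι0.hom.app _ = (fac.inv.app _ ≫ ι0.hom.app _) ≫ tq
          refine (Category.assoc _ _ _).symm.trans ((congrArg (· ≫ _) (fac.inv.naturality _)).trans ?_)
          refine (Category.assoc _ _ _).trans ((congrArg (fac.inv.app _ ≫ ·) (ι0.hom.naturality tq)).trans ?_)
          exact (Category.assoc _ _ _).symm
        refine (ConcreteCategory.congr_hom e4 (qn (n + 1) s)).trans ?_
        rfl)
      refine ⟨(fac.app _).inv z, ((IsHausdorff.eq_iff_smodEq (I := I) (M := M)).2 fun n => ?_)⟩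
      rw [SModEq.sub_mem, ← hmem, map_sub, sub_eq_zero, hmk, Iso.inv_hom_id_apply, hz n, hc n, Iso.inv_hom_id_apply]
  have hgen : ∀ g ∈ gs, g ∈ J := fun g hg => hgs ▸ Ideal.subset_span hg
  have hunion : ∀ s : M, (∀ n : ℕ, ∀ g ∈ gs, ∃ k : ℕ, g ^ k • qn n s = 0) ↔
      ∃ J' : Ideal A, J' ≤ J ∧ J ≤ (J' ⊔ I).radical ∧ s ∈ DRing.torsionSub J' M := by
    intro s
    constructor
    · intro hs
      refine ⟨J ⊓ LinearMap.ker (LinearMap.toSpanSingleton A M s), inf_le_left, ?_, ⟨1, fun x hx => ?_⟩⟩
      · obtain ⟨c, hc⟩ := Ideal.exists_pow_inf_eq_pow_smul I (Submodule.span A {s} : Submodule A M)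
        rw [← hgs, Ideal.span_le]
        intro g hg
        obtain ⟨m, hm⟩ := hs (c + 1) g hg
        rw [← map_smul, hmem] at hm
        have hmem2 : g ^ m • s ∈ I ^ (c + 1) • (⊤ : Submodule A M) ⊓ Submodule.span A {s} :=
          ⟨hm, Submodule.smul_mem _ _ (Submodule.mem_span_singleton_self s)⟩
        rw [hc (c + 1) (by omega), show c + 1 - c = 1 by omega, pow_one] at hmem2
        obtain ⟨i, hi, his⟩ := Submodule.mem_smul_span_singleton.1
          (Submodule.smul_mono le_rfl inf_le_right hmem2)
        refine ⟨m + 1, ?_⟩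
        rw [pow_succ', show g * g ^ m = g * (g ^ m - i) + g * i by ring]
        refine Submodule.add_mem_sup ⟨?_, ?_⟩ (Ideal.mul_mem_left _ _ hi)
        · exact Ideal.mul_mem_right _ _ (hgs ▸ Ideal.subset_span hg)
        · show (g * (g ^ m - i)) • s = 0
          rw [mul_smul, sub_smul, his, sub_self, smul_zero]
      · rw [pow_one] at hx
        exact hx.2
    · rintro ⟨J', -, hJ', l, hl⟩ n g hg
      obtain ⟨m, hm⟩ := hJ' (hgen g hg)
      refine ⟨m * (l + n), ?_⟩
      rw [← map_smul, hmem, pow_mul]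
      obtain ⟨x, hx, y, hy, hxy⟩ := Submodule.mem_sup.1
        (Ideal.sup_pow_add_le_pow_sup_pow (Ideal.pow_mem_pow hm (l + n)))
      rw [← hxy, add_smul, hl x hx, zero_add]
      exact Submodule.smul_mem_smul hy Submodule.mem_top
  have hgh : g = a'.hom ≫ h ≫ e0.inv := by
    simp only [h, Category.assoc, Iso.hom_inv_id_assoc, Iso.hom_inv_id, Category.comp_id]
  let P : M → H.obj ((DRing.derivedCompletion I).obj (Dual.inD A M)).obj :=
    fun s => H.map u0 ((ι0.inv.app M').hom s)
  have hP : Function.Injective P := by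
    have : IsIso u0 := hu0 ▸ inferInstance
    exact (asIso (H.map u0)).toLinearEquiv.injective.comp (ι0.app M').symm.toLinearEquiv.injective
  let α := (H.mapIso a').toLinearEquiv
  have hgz : ∀ z, H.map g z = P (φ (α z)) := fun z => by
    show H.map g z = H.map u0 ((ι0.inv.app M').hom ((ι0.app M').hom (H.map h (α z))))
    erw [Iso.hom_inv_id_apply (ι0.app M')]
    rw [hgh, hu0, H.map_comp, H.map_comp]
    rfl
  refine ⟨fun z z' hzz => α.injective (hφ (hP (by rw [← hgz, ← hgz]; exact hzz))), Set.ext fun y => ⟨?_, ?_⟩⟩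
  · rintro ⟨z, rfl⟩
    exact ⟨φ (α z), (hunion _).1 ((htors _).1 ⟨α z, rfl⟩), (hgz z).symm⟩
  · rintro ⟨s, hs, rfl⟩
    obtain ⟨z, rfl⟩ := (htors s).2 ((hunion s).2 hs)
    obtain ⟨z', rfl⟩ := α.surjective z
    exact ⟨z', hgz z'⟩

end Groth.Agent.S13497
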