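import Groth.Statements.S13501
import Groth.Agent.EtTorLib.ColimConstr

set_option autoImplicit false
universe u
open CategoryTheory CategoryTheory.Limits AlgebraicGeometry Opposite
open EtPBC

namespace Groth.Agent.S13501

/-- Let X be a quasi-compact and quasi-separated scheme and F a torsion abelian sheaf on X_et. If Hom(F,
-) commutes with filtered colimits (of shape any small filtered category in the universe of the
sheaf category's morphisms), then F is constructible. This is the converse of the compactness of
constructible sheaves. -/
theorem result (X : Scheme.{u}) [CompactSpace X]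
    [QuasiSeparatedSpace X] (F : EtCoh.Ab X) (hF : EtCoh.IsTorsion F)
    (hc : ∀ (J : Type (u + 1)) [SmallCategory J] [IsFiltered J],
      PreservesColimitsOfShape J (coyoneda.obj (op F))) :
    EtPBC.IsConstructible F := by
  let P : EtCoh.Ab X → Prop := fun _ => True
  have hP : EtTorLib.Good P := ⟨fun _ _ => trivial, fun _ => trivial, fun _ _ => trivial, fun _ _ => trivial⟩
  obtain ⟨hcol⟩ := EtTorLib.exists_isColimit hP hF fun U hU s n hn hs => by
    haveI : NeZero n := ⟨hn.ne'⟩
    obtain ⟨h, hh⟩ := EtTorLib.exists_hom_gen s hs
    haveI := hU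
    exact ⟨_, h, EtTorLib.gen U n, S0133.result X U (ZMod n), trivial, hh⟩
  haveI := EtTorLib.isFiltered_idx (F := F) hP
  haveI := hc (EtTorLib.Idx P F)
  obtain ⟨i, g, hg⟩ := Types.jointly_surjective _ (isColimitOfPreserves (coyoneda.obj (op F)) hcol) (𝟙 F)
  let r : F ⟶ i.p.E := g
  have hr : r ≫ i.m = 𝟙 F := hg
  let a := 𝟙 i.p.E - i.m ≫ r
  let e : cokernel a ≅ F :=
    { hom := cokernel.desc a i.m (by simp [a, hr])
      inv := r ≫ cokernel.π a
      hom_inv_id := by
        refine (cancel_epi (cokernel.π a)).1 ?_
        rw [cokernel.π_desc_assoc, Category.comp_id]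
        have h : a ≫ cokernel.π a = 0 := cokernel.condition a
        conv_lhs at h => arg 1; simp only [a]
        rw [Preadditive.sub_comp, Category.id_comp, Category.assoc] at h
        exact (sub_eq_zero.1 h).symm
      inv_hom_id := by rw [Category.assoc, cokernel.π_desc, hr] }
  exact EtFound.isConstructible_of_iso e (EtFound.isConstructible_cokernel a i.p.isConstructible i.p.isConstructible)

end Groth.Agent.S13501
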