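import Groth.Statements.S13504
import Groth.Agent.EtTorLib.ColimConstr
import Groth.Agent.EtTorLib.InjTors
import Groth.Agent.EtLC12.QcqsAcyclic

set_option autoImplicit false
universe u
open CategoryTheory CategoryTheory.Limits AlgebraicGeometry
open EtPBC

namespace Groth.Agent.S13504

set_option backward.isDefEq.respectTransparency.types false

/-- Let X be a quasi-compact and quasi-separated scheme. For every constructible abelian sheaf F on the
small étale site of X, every q > 0 and every class α in H^q(X, F) there are a constructible abelian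
sheaf G and a monomorphism u : F → G such that H^q(u) sends α to 0. -/
theorem result (X : Scheme.{u}) [CompactSpace X] [QuasiSeparatedSpace X]
    (F : EtCoh.Ab X) (hF : EtPBC.IsConstructible F) (q : ℕ) (hq : 0 < q) (α : EtCoh.H X F q) :
    ∃ (G : EtCoh.Ab X) (u : F ⟶ G), EtPBC.IsConstructible G ∧ Mono u ∧
      (EtCoh.HF X q).map u α = 0 := by
  obtain ⟨n, hn, hFn⟩ := EtFound.exists_killedBy X hF
  obtain ⟨q, rfl⟩ := Nat.exists_eq_succ_of_ne_zero hq.ne'
  let I := Injective.under F
  let K := kernel (n • 𝟙 I)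
  let u : F ⟶ K := kernel.lift _ (Injective.ι F) (by
    rw [Preadditive.comp_nsmul, Category.comp_id, ← Category.id_comp (Injective.ι F), ← Preadditive.nsmul_comp,
      hFn, zero_comp])
  haveI : Mono u := mono_of_mono_fac (kernel.lift_ι (n • 𝟙 I) (Injective.ι F) _)
  have hK : EtCoh.IsTorsion K := fun U s x => ⟨U, 𝟙 U, ⟨x, rfl⟩, isOfFinAddOrder_iff_nsmul_eq_zero.2
    ⟨n, hn, (EtFound.killedBy_iff_nsmul n K).2 (by
      refine (cancel_mono (kernel.ι (n • 𝟙 I))).1 ?_
      rw [zero_comp, Preadditive.nsmul_comp, Category.id_comp]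
      refine Eq.trans ?_ (kernel.condition (n • 𝟙 I))
      rw [Preadditive.comp_nsmul, Category.comp_id]) U _⟩⟩
  let P : EtCoh.Ab X → Prop := fun _ => True
  have hP : EtTorLib.Good P := ⟨fun _ _ => trivial, fun _ => trivial, fun _ _ => trivial, fun _ _ => trivial⟩
  obtain ⟨hcol⟩ := EtTorLib.exists_isColimit hP hK fun U hU s m hm hs => by
    haveI : NeZero m := ⟨hm.ne'⟩
    obtain ⟨h, hh⟩ := EtTorLib.exists_hom_gen s hs
    haveI := hU
    exact ⟨_, h, EtTorLib.gen U m, S0133.result X U (ZMod m), trivial, hh⟩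
  haveI := EtTorLib.isFiltered_idx (F := K) hP
  obtain ⟨i, g, hg⟩ := (EtFound.isCpt_of_isConstructible hF).exists_stage hcol u
  haveI := EtLC12.QcqsAcyclic.preservesColimitsOfShape_HF X (q + 1) (EtTorLib.Idx P K)
  have hcl := isColimitOfPreserves (forget AddCommGrpCat.{u + 1}) (isColimitOfPreserves (EtCoh.HF X (q + 1)) hcol)
  have hsub : Subsingleton ((EtCoh.HF X (q + 1)).obj K) := EtTorLib.subsingleton_H_kernel_nsmul I hn q
  let a : (EtCoh.HF X (q + 1)).obj i.p.E := (EtCoh.HF X (q + 1)).map g α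
  obtain ⟨j, f, hf⟩ := (Types.FilteredColimit.isColimit_eq_iff' hcl a (0 : (EtCoh.HF X (q + 1)).obj i.p.E)).1
    (@Subsingleton.elim _ hsub _ _)
  refine ⟨j.p.E, g ≫ f.1, j.p.isConstructible, ?_, ?_⟩
  · haveI : Mono ((g ≫ f.1) ≫ j.m) := by
      have e : (g ≫ f.1) ≫ j.m = u := (Category.assoc _ _ _).trans ((congrArg (g ≫ ·) f.2).trans hg)
      rw [e]
      infer_instance
    exact mono_of_mono (g ≫ f.1) j.m
  · rw [Functor.map_comp]
    change (EtCoh.HF X (q + 1)).map f.1 a = 0
    exact hf.trans (map_zero ((EtCoh.HF X (q + 1)).map f.1).hom)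

end Groth.Agent.S13504
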