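import Groth.Statements.S1351
import Groth.Agent.RGLib.Consequences

set_option autoImplicit false
universe u
open FlatMor TensorProduct

namespace Groth.Agent.S1351

/-- Let A be a valuation ring, A → B a local homomorphism of local rings essentially of finite type, and
u : N → M a B-linear map of finite B-modules with M flat over A. If u is injective after tensoring
with the residue field of A (that is, modulo the maximal ideal of A), then u is injective and its
cokernel is flat over A. -/
theorem result {A B : Type u} [CommRing A] [IsDomain A] [ValuationRing A] [CommRing B] [IsLocalRing B]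
    [Algebra A B] [IsLocalHom (algebraMap A B)] [Algebra.EssFiniteType A B]
    {N M : Type u} [AddCommGroup N] [Module B N] [Module A N] [IsScalarTower A B N] [Module.Finite B N]
    [AddCommGroup M] [Module B M] [Module A M] [IsScalarTower A B M] [Module.Finite B M] [Module.Flat A M]
    (u : N →ₗ[B] M)
    (hu : Function.Injective (Submodule.mapQ (IsLocalRing.maximalIdeal A • ⊤ : Submodule A N) (IsLocalRing.maximalIdeal A • ⊤ : Submodule A M) (u.restrictScalars A)
      (fun n hn => Submodule.smul_top_le_comap_smul_top _ _ hn))) :
    Function.Injective u ∧ Module.Flat A (M ⧸ LinearMap.range u) := by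
  have hu' := Groth.Agent.RGLib.lTensor_residue_injective (u.restrictScalars A) fun x hx => by
    rw [← Submodule.Quotient.mk_eq_zero]
    refine hu ?_
    rw [map_zero, Submodule.mapQ_apply, Submodule.Quotient.mk_eq_zero]
    exact hx
  obtain ⟨h1, _, h3⟩ := Groth.Agent.RGLib.main u hu'
  refine ⟨fun x y hxy => ?_, Groth.Agent.RGLib.flat_coker_of_lTensor_injective (u.restrictScalars A)
    ((LinearMap.range u).mkQ.restrictScalars A) (LinearMap.exact_map_mkQ_range u) (Submodule.mkQ_surjective _) h1⟩
  have h2 := h1 A (show (u.restrictScalars A).lTensor A ((1 : A) ⊗ₜ[A] x) = (u.restrictScalars A).lTensor A ((1 : A) ⊗ₜ[A] y) by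
    rw [LinearMap.lTensor_tmul, LinearMap.lTensor_tmul, LinearMap.restrictScalars_apply, LinearMap.restrictScalars_apply, hxy])
  simpa using congrArg (TensorProduct.lid A N) h2

end Groth.Agent.S1351
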