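import Groth.Statements.S13523
import Groth.Agent.FibSiteLib.CechLocal
import Groth.Agent.FibSiteLib.CechSection

set_option autoImplicit false
universe u
open CategoryTheory CategoryTheory.Limits Opposite TopologicalSpace
open FibDesc

namespace Groth.Agent.S13523

/-- A surjective local homeomorphism `f : X ⟶ S` of topological spaces is universally of cohomological
1-descent for abelian sheaves. -/
theorem result {X S : TopCat.{u}} (f : X ⟶ S)
    (hf : IsLocalHomeomorph f) (hsurj : Function.Surjective f) : FibDesc.IsUnivCohDescentMap f := by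
  intro S' g
  have hl : ∀ s : S', ∃ (W : Opens S') (σ : TopCat.of W ⟶ X),
      s ∈ W ∧ σ ≫ f = TopCat.ofHom ⟨Subtype.val, continuous_subtype_val⟩ ≫ g := by
    intro s
    obtain ⟨x, hx⟩ := hsurj (g s)
    obtain ⟨e, hxe, he⟩ := hf x
    refine ⟨⟨g ⁻¹' e.target, e.open_target.preimage g.hom.continuous⟩,
      TopCat.ofHom ⟨fun t => e.symm (g t.1),
        e.continuousOn_symm.comp_continuous (g.hom.continuous.comp continuous_subtype_val) fun t => t.2⟩, ?_, ?_⟩
    · show g s ∈ e.target
      rw [← hx, he]
      exact e.map_source hxe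
    · ext t
      show f (e.symm (g t.1)) = g t.1
      rw [he]
      exact e.right_inv t.2
  choose W σ hs hσ using hl
  refine Groth.Agent.FibSiteLib.CechLocal.isCohDescentMap_of_openCover (pullback.snd f g) W ?_ fun s => ?_
  · exact TopologicalSpace.Opens.ext (Set.eq_univ_of_forall fun s =>
      SetLike.mem_coe.2 (Opens.mem_iSup.2 ⟨s, hs s⟩))
  · exact Groth.Agent.FibSiteLib.CechSection.isCohDescentMap_of_section _
      (pullback.lift (pullback.lift (σ s) (TopCat.ofHom ⟨Subtype.val, continuous_subtype_val⟩) (hσ s)) (𝟙 _)
        (by rw [pullback.lift_snd, Category.id_comp]))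
      (pullback.lift_snd _ _ _)

end Groth.Agent.S13523
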