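import Groth.Statements.S13532
import Groth.Agent.S1608
import Groth.Agent.FlatDense.Basic
-- import your own Groth.Agent.* helpers here

set_option autoImplicit false
set_option backward.isDefEq.respectTransparency false
set_option backward.isDefEq.respectTransparency.types false
set_option linter.style.haveILetI false
set_option maxHeartbeats 1000000
universe u
open CategoryTheory CategoryTheory.Limits AlgebraicGeometry
open ResProp

namespace Groth.Agent.S13532
open Groth.Agent

/-- A morphism of finite type between locally Noetherian schemes which is birational (an isomorphism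
over a dense open of the target whose preimage is dense in the source) has finite fibres over all
points of the target of codimension at most 1, i.e. whose local ring has Krull dimension at most 1. -/
theorem result {X Y : Scheme.{u}}
    [IsLocallyNoetherian X] [IsLocallyNoetherian Y] (f : Y ⟶ X) [LocallyOfFiniteType f] [QuasiCompact f]
    (U : X.Opens) (hU : Dense (U : Set X)) (hU' : Dense ((f ⁻¹ᵁ U : Y.Opens) : Set Y)) (hiso : IsIso (f ∣_ U))
    (x : X) (hx : ringKrullDim (X.presheaf.stalk x) ≤ 1) :
    (f.base ⁻¹' {x}).Finite := by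
  have hgen : ∀ Z ∈ irreducibleComponents (Y : Type u), ∀ η : Y, IsGenericPoint η Z → f.QuasiFiniteAt η := by
    intro Z hZ η hη
    have hηU : η ∈ f ⁻¹ᵁ U := FlatDense.mem_of_dense_of_max_scheme _ hU' fun y' hy' => by
      have hsub : Z ⊆ closure {y'} := by
        rw [← hη.def]
        exact closure_minimal (by simpa using specializes_iff_mem_closure.1 hy') isClosed_closure
      have he : closure {y'} = Z := le_antisymm (hZ.2 isIrreducible_singleton.closure hsub) hsub
      exact (show IsGenericPoint y' Z from he).eq hη
    haveI := hiso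
    haveI hl : LocallyQuasiFinite (f ∣_ U ≫ U.ι) :=
      MorphismProperty.comp_mem @LocallyQuasiFinite (f ∣_ U) U.ι inferInstance inferInstance
    have h1 : ((f ⁻¹ᵁ U).ι ≫ f).QuasiFiniteAt ⟨η, hηU⟩ := by
      rw [← morphismRestrict_ι f U]
      exact @Scheme.Hom.quasiFiniteAt _ _ (f ∣_ U ≫ U.ι) hl _
    exact (Scheme.Hom.quasiFiniteAt_comp_iff_of_isOpenImmersion (f := (f ⁻¹ᵁ U).ι) (g := f)
      (x := (⟨η, hηU⟩ : (f ⁻¹ᵁ U).toScheme))).1 h1
  have hq : ∀ y : Y, f.base y = x → f.QuasiFiniteAt y := fun y hy => S1608.result f x hx hgen y hy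
  have hmem : ∀ c : f.fiber x, f.base (f.fiberι x c) = x := fun c => by
    have : f.fiberι x c ∈ Set.range (f.fiberι x) := ⟨c, rfl⟩
    rw [Scheme.Hom.range_fiberι] at this
    exact this
  haveI : CompactSpace (f.fiber x) := inferInstance
  haveI : DiscreteTopology (f.fiber x) := discreteTopology_iff_isOpen_singleton.2 fun c => by
    have key : ∀ (z : Y), f.QuasiFiniteAt z → ∀ (x' : X), f z = x' → ∀ c' : f.fiber x',
        f.fiberι x' c' = z → IsOpen ({c'} : Set (f.fiber x')) := by
      intro z hz _ he c' hc'
      subst he
      have hc : c' = f.asFiber z := (f.fiberι (f z)).isEmbedding.injective (by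
        rw [hc', Scheme.Hom.fiberι_asFiber])
      rw [hc]
      exact Scheme.Hom.quasiFiniteAt_iff_isOpen_singleton_asFiber.1 hz
    exact key _ (hq _ (hmem c)) x (hmem c) c rfl
  haveI : Finite (f.fiber x) := finite_of_compact_of_discrete
  rw [← Scheme.Hom.range_fiberι f x]
  exact Set.finite_range _

end Groth.Agent.S13532
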