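import Groth.Statements.S15153
import Mathlib

set_option autoImplicit false
universe u
open TensorProduct
open HilbZeta

namespace Groth.Agent.S15153

open Module in
/-- the span of a family of vectors in coordinate space has dimension at least `m` iff a minor is nonzero -/
theorem le_finrank_span_iff {L : Type u} [Field L] {ι κ : Type} [Fintype ι] [DecidableEq ι] [Fintype κ]
    (v : κ → ι → L) (m : ℕ) :
    m ≤ finrank L (Submodule.span L (Set.range v)) ↔
      ∃ (f : Fin m → κ) (e : Fin m → ι), (Matrix.of fun a b => v (f b) (e a)).det ≠ 0 := by
  classical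
  constructor
  · intro hm
    obtain ⟨g, hg, -, hli⟩ := Submodule.exists_fun_fin_finrank_span_eq L (Set.range v)
    choose f₀ hf₀ using hg
    let f : Fin m → κ := fun a => f₀ (Fin.castLE hm a)
    have hli' : LinearIndependent L (fun a => v (f a)) := by
      rw [show (fun a => v (f a)) = g ∘ Fin.castLE hm from funext fun a => hf₀ _]
      exact hli.comp _ (Fin.castLE_injective hm)
    let B : Matrix ι (Fin m) L := Matrix.of fun i b => v (f b) i
    have hr : B.rank = m := by
      rw [Matrix.rank_eq_finrank_span_cols, show B.col = fun a => v (f a) from rfl, finrank_span_eq_card hli',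
        Fintype.card_fin]
    rw [← Matrix.rank_transpose, Matrix.rank_eq_finrank_span_cols] at hr
    obtain ⟨g', hg', -, hli''⟩ := Submodule.exists_fun_fin_finrank_span_eq L (Set.range B.transpose.col)
    choose e₀ he₀ using hg'
    refine ⟨f, fun a => e₀ (Fin.cast hr.symm a), fun hdet => ?_⟩
    obtain ⟨c, hc, hcv⟩ := Matrix.exists_vecMul_eq_zero_iff.2 hdet
    have hrow : LinearIndependent L fun a => B.transpose.col (e₀ (Fin.cast hr.symm a)) := by
      rw [show (fun a => B.transpose.col (e₀ (Fin.cast hr.symm a))) = g' ∘ Fin.cast hr.symm from funext fun a => he₀ _]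
      exact hli''.comp _ (Fin.cast_injective hr.symm)
    refine hc (funext (Fintype.linearIndependent_iff.1 hrow c ?_))
    funext b
    have := congrFun hcv b
    simpa [Matrix.vecMul, dotProduct, B, Finset.sum_apply] using this
  · rintro ⟨f, e, hdet⟩
    have hli : LinearIndependent L (fun b => v (f b)) := by
      refine LinearIndependent.of_comp (LinearMap.funLeft L L e) ?_
      exact Matrix.linearIndependent_cols_of_det_ne_zero hdet
    calc m = finrank L (Submodule.span L (Set.range fun b => v (f b))) := by
          rw [finrank_span_eq_card hli, Fintype.card_fin]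
      _ ≤ _ := Submodule.finrank_mono (Submodule.span_mono (Set.range_comp_subset_range f v))

/-- Let A be a Noetherian commutative ring, S a commutative A-algebra and Q an S-module which is finite
and flat as an A-module. For a prime p of A with residue field κ(p), multiplication by an element of
S induces a κ(p)-linear endomorphism of the fibre κ(p) ⊗_A Q; let φ(p) be the κ(p)-dimension of the
span of these endomorphisms, which is the colength of the annihilator of the fibre module κ(p) ⊗_A Q
in the fibre algebra κ(p) ⊗_A S (the length of the smallest subscheme of the fibre carrying it).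
Then p ↦ φ(p) is a constructible function: for every n the primes with φ(p) = n form a constructible
subset of Spec A. (The published statement is for a coherent sheaf, flat and finite over a
Noetherian base, on a family of reduced curve singularities with a section, and its function of the
base point is this colength; the curve hypotheses play no role and the row is the affine form over
any Noetherian ring.) -/
theorem result (A : Type u) [CommRing A] [IsNoetherianRing A]
    (S : Type u) [CommRing S] [Algebra A S]
    (Q : Type u) [AddCommGroup Q] [Module A Q] [Module S Q] [IsScalarTower A S Q]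
    [Module.Finite A Q] [Module.Flat A Q] (n : ℕ) :
    Topology.IsConstructible {p : PrimeSpectrum A |
      Module.finrank p.asIdeal.ResidueField
        (Submodule.span p.asIdeal.ResidueField
          (Set.range fun s : S =>
            LinearMap.baseChange p.asIdeal.ResidueField (DistribSMul.toLinearMap A Q s))) = n} := by
  classical
  haveI : Module.FinitePresentation A Q := Module.finitePresentation_of_finite A Q
  haveI : Module.Projective A Q := Module.Flat.projective_of_finitePresentation
  obtain ⟨N, π, hπ⟩ := Module.Finite.exists_fin' A Q
  obtain ⟨ι, hι⟩ := Module.projective_lifting_property π LinearMap.id hπ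
  let L : S →ₗ[A] (Q →ₗ[A] Q) := (Algebra.lsmul A A Q).toLinearMap
  have hL : ∀ s, L s = DistribSMul.toLinearMap A Q s := fun s => rfl
  obtain ⟨r, e, he⟩ := Submodule.fg_iff_exists_fin_generating_family.1 (IsNoetherian.noetherian (LinearMap.range L))
  let B : Fin r → Fin N × Fin N → A := fun l ij => ι (e l (π (Pi.single ij.2 1))) ij.1
  let U : ℕ → Set (PrimeSpectrum A) := fun m => ⋃ f : Fin m → Fin r, ⋃ g : Fin m → Fin N × Fin N,
    ↑(PrimeSpectrum.basicOpen (Matrix.of fun a b => B (f b) (g a)).det)
  have hU : ∀ m, Topology.IsConstructible (U m) := fun m =>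
    Topology.IsConstructible.iUnion fun f => Topology.IsConstructible.iUnion fun g =>
      PrimeSpectrum.isRetrocompact_basicOpen.isConstructible (PrimeSpectrum.basicOpen _).isOpen
  suffices h : ∀ (p : PrimeSpectrum A) (m : ℕ), m ≤ Module.finrank p.asIdeal.ResidueField
      (Submodule.span p.asIdeal.ResidueField
        (Set.range fun s : S =>
          LinearMap.baseChange p.asIdeal.ResidueField (DistribSMul.toLinearMap A Q s))) ↔ p ∈ U m by
    convert (hU n).sdiff (hU (n + 1)) using 1
    ext p
    rw [Set.mem_setOf_eq, Set.mem_sdiff, ← h, ← h]
    omega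
  intro p m
  set κ := p.asIdeal.ResidueField
  -- finitely many generators
  have hspan : Submodule.span κ (Set.range fun s : S => LinearMap.baseChange κ (DistribSMul.toLinearMap A Q s)) =
      Submodule.span κ (Set.range fun l => LinearMap.baseChange κ (e l)) := by
    refine le_antisymm (Submodule.span_le.2 ?_) (Submodule.span_le.2 ?_)
    · rintro _ ⟨s, rfl⟩
      have hs : L s ∈ Submodule.span A (Set.range e) := he.ge ⟨s, rfl⟩
      obtain ⟨c, hc⟩ := (Submodule.mem_span_range_iff_exists_fun A).1 hs
      show LinearMap.baseChange κ (L s) ∈ _
      rw [← hc, ← LinearMap.baseChangeHom_apply (A := κ), map_sum]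
      refine Submodule.sum_mem _ fun l _ => ?_
      rw [map_smul, ← algebraMap_smul κ (c l)]
      exact Submodule.smul_mem _ _ (Submodule.subset_span ⟨l, rfl⟩)
    · rintro _ ⟨l, rfl⟩
      obtain ⟨s, hs⟩ := he.le (Submodule.subset_span ⟨l, rfl⟩)
      exact Submodule.subset_span ⟨s, by show LinearMap.baseChange κ (L s) = _; rw [hs]⟩
  -- matrix entries
  let P := TensorProduct.piScalarRight A κ κ (Fin N)
  let Θ : Module.End κ (κ ⊗[A] Q) →ₗ[κ] (Fin N × Fin N → κ) :=
    { toFun := fun u ij => P (LinearMap.baseChange κ ι (u (LinearMap.baseChange κ π (1 ⊗ₜ[A] Pi.single ij.2 1)))) ij.1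
      map_add' := fun u u' => funext fun ij => by simp
      map_smul' := fun c u => funext fun ij => by simp }
  have hΘe : ∀ l, Θ (LinearMap.baseChange κ (e l)) = fun ij => algebraMap A κ (B l ij) := fun l => funext fun ij => by
    simp [Θ, P, B, Algebra.smul_def]
  have hinj : Function.Injective Θ := by
    rw [injective_iff_map_eq_zero]
    intro u hu
    have hid : ∀ z, LinearMap.baseChange κ π (LinearMap.baseChange κ ι z) = z := fun z => by
      rw [← LinearMap.comp_apply, ← LinearMap.baseChange_comp, hι, LinearMap.baseChange_id, LinearMap.id_apply]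
    have hW : (LinearMap.baseChange κ ι).comp (u.comp (LinearMap.baseChange κ π)) = 0 := by
      refine TensorProduct.AlgebraTensorModule.ext fun c x => ?_
      rw [pi_eq_sum_univ' x, TensorProduct.tmul_sum, map_sum, map_sum]
      refine Finset.sum_congr rfl fun j _ => ?_
      rw [TensorProduct.tmul_smul, LinearMap.map_smul_of_tower, LinearMap.map_smul_of_tower]
      congr 1
      rw [show c ⊗ₜ[A] (Pi.single j 1 : Fin N → A) = c • ((1 : κ) ⊗ₜ[A] (Pi.single j 1 : Fin N → A)) by
        rw [TensorProduct.smul_tmul', smul_eq_mul, mul_one], map_smul, map_smul]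
      congr 1
      refine P.injective (funext fun i => ?_)
      have := congrFun hu (i, j)
      simpa [Θ] using this
    refine LinearMap.ext fun z => ?_
    have h1 := LinearMap.congr_fun hW (LinearMap.baseChange κ ι z)
    rw [LinearMap.comp_apply, LinearMap.comp_apply, hid, LinearMap.zero_apply] at h1
    rw [LinearMap.zero_apply, ← hid (u z), h1, map_zero]
  rw [hspan]
  rw [(Submodule.equivMapOfInjective Θ hinj _).finrank_eq, Submodule.map_span, ← Set.range_comp,
    show Θ ∘ (fun l => LinearMap.baseChange κ (e l)) = fun l ij => algebraMap A κ (B l ij) from funext hΘe,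
    le_finrank_span_iff]
  simp only [U, Set.mem_iUnion, SetLike.mem_coe, PrimeSpectrum.mem_basicOpen]
  refine exists_congr fun f => exists_congr fun g => ?_
  rw [← Ideal.algebraMap_residueField_eq_zero (I := p.asIdeal), not_iff_not, RingHom.map_det]
  rfl

end Groth.Agent.S15153
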