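import Groth.Statements.S13533
import Mathlib
import Groth.Agent.S15153

set_option autoImplicit false
universe u
open ResProp

namespace Groth.Agent.S13533

open Module in
/-- image of a coordinate vector in the fibre at a prime -/
noncomputable def red {A : Type u} [CommRing A] {N : ℕ} (p : Ideal A) [p.IsPrime] :
    (Fin N → A) →ₗ[A] (Fin N → p.ResidueField) :=
  (Algebra.linearMap A p.ResidueField).compLeft (Fin N)

theorem red_apply {A : Type u} [CommRing A] {N : ℕ} (p : Ideal A) [p.IsPrime] (x : Fin N → A) (i : Fin N) :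
    red p x i = algebraMap A p.ResidueField (x i) := rfl

open Module in
/-- the rank at `p` of a family -/
noncomputable def rk {A : Type u} [CommRing A] {N : ℕ} (p : Ideal A) [p.IsPrime] {ι : Type} (w : ι → Fin N → A) : ℕ :=
  finrank p.ResidueField (Submodule.span p.ResidueField (Set.range fun i => red p (w i)))

open Module in
theorem lt_rk_iff {A : Type u} [CommRing A] {N : ℕ} (p : Ideal A) [p.IsPrime] {ι : Type} [Fintype ι]
    (w : ι → Fin N → A) (t : ℕ) :
    t < rk p w ↔ ∃ (f : Fin (t + 1) → ι) (e : Fin (t + 1) → Fin N),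
      (Matrix.of fun a b => w (f b) (e a)).det ∉ p := by
  rw [rk, ← Nat.succ_le_iff, S15153.le_finrank_span_iff]
  refine exists_congr fun f => exists_congr fun e => ?_
  conv_rhs => rw [← Ideal.algebraMap_residueField_eq_zero (I := p), RingHom.map_det]
  rfl

open Module in
theorem rk_sum_eq {A : Type u} [CommRing A] {N : ℕ} (p : Ideal A) [p.IsPrime] {ι κ : Type}
    (w : ι → Fin N → A) (v : κ → Fin N → A) :
    rk p (Sum.elim w v) = finrank p.ResidueField
      ↥(Submodule.span p.ResidueField (Set.range fun i => red p (w i)) ⊔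
        Submodule.span p.ResidueField (Set.range fun i => red p (v i))) := by
  rw [rk, ← Submodule.span_union, ← Set.Sum.elim_range,
    show (fun i => red p (Sum.elim w v i)) = Sum.elim (fun i => red p (w i)) (fun i => red p (v i)) from
      funext fun i => by cases i <;> rfl]

open Module in
/-- **shortening a basic family** -/
theorem exists_shorter {A : Type u} [CommRing A] [IsNoetherianRing A] {N l n k : ℕ} (hn : 1 ≤ n)
    (w : Fin l → Fin N → A) (v : Fin (n + 1) → Fin N → A)
    (hv : ∀ p : PrimeSpectrum A, ∀ h : ℕ, p.asIdeal.height = h → h ≤ k →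
      rk p.asIdeal w + min (n + 1) (k + 1 - h) ≤ rk p.asIdeal (Sum.elim w v)) :
    ∃ v' : Fin n → Fin N → A, ∀ p : PrimeSpectrum A, ∀ h : ℕ, p.asIdeal.height = h → h ≤ k →
      rk p.asIdeal w + min n (k + 1 - h) ≤ rk p.asIdeal (Sum.elim w v') := by
  classical
  let comb : (Fin n → A) → Fin n → Fin N → A := fun a i => v i.castSucc + a i • v (Fin.last n)
  let Crit : Set (PrimeSpectrum A) := {p | ∃ h : ℕ, p.asIdeal.height = h ∧ h ≤ k ∧ k + 1 - h ≤ n ∧
      rk p.asIdeal (Sum.elim w v) = rk p.asIdeal w + (k + 1 - h)}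
  have hfin : Crit.Finite := by
    have hcov : Crit ⊆ ⋃ c ∈ Finset.range (2 * N + k + n + 2), {p : PrimeSpectrum A | p.asIdeal ∈
        (Ideal.span (Set.range fun fe : (Fin (c + 1) → Fin l ⊕ Fin (n + 1)) × (Fin (c + 1) → Fin N) =>
          (Matrix.of fun a b => Sum.elim w v (fe.1 b) (fe.2 a)).det)).minimalPrimes} := by
      rintro p ⟨h, hh, hhk, hkn, hcrit⟩
      have hN : rk p.asIdeal (Sum.elim w v) ≤ N := (Submodule.finrank_le _).trans (by rw [finrank_fin_fun])
      refine Set.mem_biUnion (x := rk p.asIdeal (Sum.elim w v)) (Finset.mem_range.2 (by omega)) ?_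
      set c := rk p.asIdeal (Sum.elim w v) with hc
      refine ⟨⟨p.2, Ideal.span_le.2 ?_⟩, fun q hq hqp => ?_⟩
      · rintro _ ⟨⟨f, e⟩, rfl⟩
        by_contra hnot
        exact absurd ((lt_rk_iff p.asIdeal (Sum.elim w v) c).2 ⟨f, e, hnot⟩) (lt_irrefl c)
      · haveI := hq.1
        by_contra hne
        have hlt : q < p.asIdeal := lt_of_le_not_ge hqp hne
        have hq1 := Ideal.height_strict_mono_of_isPrime hlt
        rw [hh] at hq1
        obtain ⟨h', hh'⟩ := ENat.ne_top_iff_exists.1 (ne_top_of_lt hq1)
        have hh'' : h' < h := by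
          rw [← hh'] at hq1
          exact_mod_cast hq1
        have hbig := hv ⟨q, hq.1⟩ h' hh'.symm (by omega)
        have hw : rk p.asIdeal w ≤ rk q w := by
          by_contra hcon
          obtain ⟨f, e, hdet⟩ := (lt_rk_iff p.asIdeal w _).1 (not_le.1 hcon)
          exact absurd ((lt_rk_iff q w _).2 ⟨f, e, fun h => hdet (hqp h)⟩) (lt_irrefl _)
        have hcq : rk q (Sum.elim w v) ≤ c := by
          by_contra hcon
          obtain ⟨f, e, hdet⟩ := (lt_rk_iff q (Sum.elim w v) c).1 (not_le.1 hcon)
          exact hdet (hq.2 (Ideal.subset_span ⟨(f, e), rfl⟩))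
        have hbig' : rk q w + min (n + 1) (k + 1 - h') ≤ rk q (Sum.elim w v) := hbig
        omega
    refine Set.Finite.subset (Set.Finite.biUnion (Finset.finite_toSet _) fun c _ => ?_) hcov
    exact ((Ideal.finite_minimalPrimes_of_isNoetherianRing A _).preimage fun a _ b _ h => PrimeSpectrum.ext h)
  -- one prime: a linear condition
  have hone : ∀ p : PrimeSpectrum A, p ∈ Crit → ∃ (c : Fin n → p.asIdeal.ResidueField) (c' : p.asIdeal.ResidueField),
      (c ≠ 0 ∨ c' ≠ 0) ∧ ∀ a : Fin n → A, (∑ i, c i * algebraMap A _ (a i)) - c' ≠ 0 →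
        rk p.asIdeal (Sum.elim w v) ≤ rk p.asIdeal (Sum.elim w (comb a)) := by
    intro p hp
    obtain ⟨h, hh, hhk, hkn, hcrit⟩ := hp
    set κ := p.asIdeal.ResidueField
    let Sw := Submodule.span κ (Set.range fun i => red p.asIdeal (w i))
    have hdep : ¬ LinearIndependent κ fun i : Fin (n + 1) => Sw.mkQ (red p.asIdeal (v i)) := by
      intro hli
      have h1 : Submodule.span κ (Set.range fun i : Fin (n + 1) => Sw.mkQ (red p.asIdeal (v i))) =
          (Sw ⊔ Submodule.span κ (Set.range fun i => red p.asIdeal (v i))).map Sw.mkQ := by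
        rw [Submodule.map_sup, Submodule.mkQ_map_self, bot_sup_eq, Submodule.map_span, ← Set.range_comp]
        rfl
      have h2 := finrank_span_eq_card hli
      rw [h1, Fintype.card_fin] at h2
      have h3 := (Sw.mkQ.domRestrict (Sw ⊔ Submodule.span κ (Set.range fun i => red p.asIdeal (v i)))).finrank_range_add_finrank_ker
      rw [LinearMap.range_domRestrict, h2, ← rk_sum_eq, hcrit] at h3
      have h4 : finrank κ (LinearMap.ker (Sw.mkQ.domRestrict (Sw ⊔ Submodule.span κ (Set.range fun i => red p.asIdeal (v i))))) =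
          rk p.asIdeal w := by
        rw [LinearMap.ker_domRestrict, Submodule.ker_mkQ]
        exact (Submodule.comapSubtypeEquivOfLe le_sup_left).finrank_eq
      omega
    obtain ⟨g, hg, i₀, hi₀⟩ := Fintype.not_linearIndependent_iff.1 hdep
    refine ⟨fun i => g i.castSucc, g (Fin.last n), ?_, fun a ha => ?_⟩
    · rcases Fin.eq_castSucc_or_eq_last i₀ with ⟨i, rfl⟩ | rfl
      · exact Or.inl fun h => hi₀ (congrFun h i)
      · exact Or.inr hi₀
    rw [rk_sum_eq, rk_sum_eq]
    refine Submodule.finrank_mono (sup_le le_sup_left (Submodule.span_le.2 ?_))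
    set T := Sw ⊔ Submodule.span κ (Set.range fun i => red p.asIdeal (comb a i))
    have hcomb : ∀ i, red p.asIdeal (comb a i) = red p.asIdeal (v i.castSucc) + algebraMap A κ (a i) • red p.asIdeal (v (Fin.last n)) := by
      intro i
      simp only [comb, map_add, map_smul, algebraMap_smul]
    have hrel : ∑ i, g i • red p.asIdeal (v i) ∈ T := by
      refine Submodule.mem_sup_left ?_
      rw [← Submodule.ker_mkQ Sw, LinearMap.mem_ker, map_sum]
      simpa only [map_smul] using hg
    have hlast : red p.asIdeal (v (Fin.last n)) ∈ T := by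
      have h5 : (∑ i, g i.castSucc * algebraMap A κ (a i) - g (Fin.last n)) • red p.asIdeal (v (Fin.last n)) ∈ T := by
        have h6 : (∑ i, g i.castSucc * algebraMap A κ (a i) - g (Fin.last n)) • red p.asIdeal (v (Fin.last n)) =
            ∑ i, g i.castSucc • red p.asIdeal (comb a i) - ∑ i, g i • red p.asIdeal (v i) := by
          simp only [hcomb, smul_add, smul_smul, Finset.sum_add_distrib, Fin.sum_univ_castSucc, sub_smul, Finset.sum_smul]
          abel
        rw [h6]
        exact T.sub_mem (T.sum_mem fun i _ => T.smul_mem _ (Submodule.mem_sup_right (Submodule.subset_span ⟨i, rfl⟩))) hrel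
      exact (T.smul_mem_iff ha).1 h5
    rintro _ ⟨i, rfl⟩
    rcases Fin.eq_castSucc_or_eq_last i with ⟨i, rfl⟩ | rfl
    · have := T.sub_mem (Submodule.mem_sup_right (Submodule.subset_span ⟨i, rfl⟩) : red p.asIdeal (comb a i) ∈ T)
        (T.smul_mem (algebraMap A κ (a i)) hlast)
      rwa [hcomb, add_sub_cancel_right] at this
    · exact hlast
  choose c c' hcne hgood using hone
  -- simultaneous choice
  have hmain : ∀ F : Finset (PrimeSpectrum A), ∃ a : Fin n → A, ∀ p ∈ F, ∀ hp : p ∈ Crit,
      (∑ i, c p hp i * algebraMap A _ (a i)) - c' p hp ≠ 0 := by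
    intro F
    induction F using Finset.strongInduction with
    | _ F ih =>
      rcases F.eq_empty_or_nonempty with rfl | hne
      · exact ⟨0, fun p hp => absurd hp (Finset.notMem_empty p)⟩
      obtain ⟨p₀, hp₀, hmin⟩ := Set.Finite.exists_minimalFor id (↑F : Set (PrimeSpectrum A)) F.finite_toSet hne
      obtain ⟨a, ha⟩ := ih (F.erase p₀) (Finset.erase_ssubset hp₀)
      by_cases hbad : ∃ hp : p₀ ∈ Crit, (∑ i, c p₀ hp i * algebraMap A _ (a i)) - c' p₀ hp = 0
      · obtain ⟨hp, hz⟩ := hbad
        obtain ⟨i₀, hi₀⟩ : ∃ i, c p₀ hp i ≠ 0 := by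
          by_contra! h0
          simp only [h0, zero_mul, Finset.sum_const_zero, zero_sub, neg_eq_zero] at hz
          exact (hcne p₀ hp).elim (fun h => h (_root_.funext h0)) fun h => h hz
        have hx : ∀ q ∈ F.erase p₀, ∃ x, x ∈ q.asIdeal ∧ x ∉ p₀.asIdeal := fun q hq =>
          SetLike.not_le_iff_exists.1 fun hle => (Finset.mem_erase.1 hq).1
            (le_antisymm hle (hmin (Finset.mem_of_mem_erase hq) hle))
        choose x hxq hxp using hx
        let lam := ∏ q ∈ (F.erase p₀).attach, x q.1 q.2
        refine ⟨a + Pi.single i₀ lam, fun p hp' hpC => ?_⟩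
        by_cases hpe : p = p₀
        · subst hpe
          have hlam : algebraMap A p.asIdeal.ResidueField lam ≠ 0 := by
            rw [Ne, Ideal.algebraMap_residueField_eq_zero, p.2.prod_mem_iff]
            rintro ⟨q, -, hq⟩
            exact hxp q.1 q.2 hq
          have h7 : (∑ i, c p hpC i * algebraMap A _ ((a + Pi.single i₀ lam : Fin n → A) i)) - c' p hpC =
              c p hpC i₀ * algebraMap A _ lam := by
            simp only [Pi.add_apply, map_add, mul_add, Finset.sum_add_distrib]
            rw [add_sub_right_comm, hz, zero_add, Finset.sum_eq_single i₀]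
            · rw [Pi.single_eq_same]
            · exact fun j _ hj => by rw [Pi.single_eq_of_ne hj, map_zero, mul_zero]
            · exact fun h => absurd (Finset.mem_univ i₀) h
          rw [h7]
          exact mul_ne_zero hi₀ hlam
        · have hmem : p ∈ F.erase p₀ := Finset.mem_erase.2 ⟨hpe, hp'⟩
          have hlam : algebraMap A p.asIdeal.ResidueField lam = 0 := by
            rw [Ideal.algebraMap_residueField_eq_zero, p.2.prod_mem_iff]
            exact ⟨⟨p, hmem⟩, Finset.mem_attach _ _, hxq p hmem⟩
          have h8 : ∀ i, algebraMap A p.asIdeal.ResidueField ((a + Pi.single i₀ lam : Fin n → A) i) = algebraMap A _ (a i) := by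
            intro i
            rw [Pi.add_apply, map_add]
            rcases eq_or_ne i i₀ with rfl | hi
            · rw [Pi.single_eq_same, hlam, add_zero]
            · rw [Pi.single_eq_of_ne hi, map_zero, add_zero]
          simp only [h8]
          exact ha p hmem hpC
      · refine ⟨a, fun p hp' hpC => ?_⟩
        by_cases hpe : p = p₀
        · subst hpe
          exact fun h0 => hbad ⟨hpC, h0⟩
        · exact ha p (Finset.mem_erase.2 ⟨hpe, hp'⟩) hpC
  obtain ⟨a, ha⟩ := hmain hfin.toFinset
  refine ⟨comb a, fun p h hh hhk => ?_⟩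
  have hb := hv p h hh hhk
  by_cases hcrit : p ∈ Crit
  · have := hgood p hcrit a (ha p (hfin.mem_toFinset.2 hcrit) hcrit)
    omega
  · have hge : rk p.asIdeal (Sum.elim w v) ≤ rk p.asIdeal (Sum.elim w (comb a)) + 1 := by
      rw [rk_sum_eq, rk_sum_eq]
      set κ := p.asIdeal.ResidueField
      set T := Submodule.span κ (Set.range fun i => red p.asIdeal (w i)) ⊔ Submodule.span κ (Set.range fun i => red p.asIdeal (comb a i))
      refine (Submodule.finrank_mono (t := T ⊔ Submodule.span κ {red p.asIdeal (v (Fin.last n))}) (sup_le (le_sup_left.trans le_sup_left) (Submodule.span_le.2 ?_))).trans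
        ((Submodule.finrank_add_le_finrank_add_finrank _ _).trans (Nat.add_le_add_left ((finrank_span_le_card _).trans (by simp)) _))
      rintro _ ⟨i, rfl⟩
      rcases Fin.eq_castSucc_or_eq_last i with ⟨i, rfl⟩ | rfl
      · have h1 : red p.asIdeal (comb a i) = red p.asIdeal (v i.castSucc) + algebraMap A κ (a i) • red p.asIdeal (v (Fin.last n)) := by
          simp only [comb, map_add, map_smul, algebraMap_smul]
        show red p.asIdeal (v i.castSucc) ∈ T ⊔ _
        rw [show red p.asIdeal (v i.castSucc) = red p.asIdeal (comb a i) - algebraMap A κ (a i) • red p.asIdeal (v (Fin.last n)) by rw [h1, add_sub_cancel_right]]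
        exact Submodule.sub_mem _ (Submodule.mem_sup_left (Submodule.mem_sup_right (Submodule.subset_span ⟨i, rfl⟩)))
          (Submodule.mem_sup_right (Submodule.smul_mem _ _ (Submodule.mem_span_singleton_self _)))
      · exact Submodule.mem_sup_right (Submodule.mem_span_singleton_self _)
    have hne : ¬ (k + 1 - h ≤ n ∧ rk p.asIdeal (Sum.elim w v) = rk p.asIdeal w + (k + 1 - h)) :=
      fun hc => hcrit ⟨h, hh, hhk, hc.1, hc.2⟩
    omega

open Module in
/-- vectors independent modulo the relations at all primes of small height -/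
theorem exists_basic {A : Type u} [CommRing A] [IsNoetherianRing A] {N l k : ℕ} (w : Fin l → Fin N → A)
    (hw : ∀ p : PrimeSpectrum A, p.asIdeal.height ≤ (k : ℕ∞) → rk p.asIdeal w + (k + 1) ≤ N) :
    ∃ v : Fin N → A, ∀ p : PrimeSpectrum A, p.asIdeal.height ≤ (k : ℕ∞) →
      rk p.asIdeal w < rk p.asIdeal (Sum.elim w fun _ : Fin 1 => v) := by
  classical
  rcases isEmpty_or_nonempty {p : PrimeSpectrum A // p.asIdeal.height ≤ (k : ℕ∞)} with hemp | ⟨⟨p₀, hp₀⟩⟩
  · exact ⟨0, fun p hp => (hemp.false ⟨p, hp⟩).elim⟩
  have hN : 1 ≤ N := by have := hw p₀ hp₀; omega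
  suffices H : ∀ j, j + 1 ≤ N → ∃ v : Fin (N - j) → Fin N → A, ∀ p : PrimeSpectrum A, ∀ h : ℕ, p.asIdeal.height = h → h ≤ k →
      rk p.asIdeal w + min (N - j) (k + 1 - h) ≤ rk p.asIdeal (Sum.elim w v) by
    obtain ⟨v, hv⟩ := H (N - 1) (by omega)
    have h1 : N - (N - 1) = 1 := by omega
    refine ⟨v (Fin.cast h1.symm 0), fun p hp => ?_⟩
    obtain ⟨h, hh⟩ := ENat.ne_top_iff_exists.1 (ne_top_of_le_ne_top (ENat.coe_ne_top k) hp)
    have hhk : h ≤ k := by rw [← hh] at hp; exact_mod_cast hp
    have h2 := hv p h hh.symm hhk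
    have h3 : rk p.asIdeal (Sum.elim w v) ≤ rk p.asIdeal (Sum.elim w fun _ : Fin 1 => v (Fin.cast h1.symm 0)) := by
      refine Submodule.finrank_mono (Submodule.span_mono ?_)
      rintro _ ⟨i | i, rfl⟩
      · exact ⟨Sum.inl i, rfl⟩
      · exact ⟨Sum.inr 0, congrArg (fun x => red p.asIdeal (v x)) (Fin.ext (by have := i.isLt; simp; omega))⟩
    omega
  intro j
  induction j with
  | zero =>
    intro _
    refine ⟨fun i => Pi.single i 1, fun p h hh hhk => ?_⟩
    have htop : rk p.asIdeal (Sum.elim w fun i : Fin (N - 0) => Pi.single i 1) = N := by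
      rw [rk_sum_eq, eq_top_iff.2 (le_trans ?_ le_sup_right), finrank_top, finrank_fin_fun]
      rw [← (Pi.basisFun p.asIdeal.ResidueField (Fin N)).span_eq]
      refine Submodule.span_mono ?_
      rintro _ ⟨i, rfl⟩
      refine ⟨i, funext fun x => ?_⟩
      show red p.asIdeal (Pi.single i 1) x = _
      rw [red_apply, Pi.basisFun_apply]
      rcases eq_or_ne x i with rfl | hx
      · simp
      · simp [hx]
    have h1 := hw p (by rw [hh]; exact_mod_cast hhk)
    omega
  | succ j ih =>
    intro hj
    obtain ⟨v, hv⟩ := ih (by omega)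
    have e : N - j = N - (j + 1) + 1 := by omega
    have hv' : ∀ p : PrimeSpectrum A, ∀ h : ℕ, p.asIdeal.height = h → h ≤ k →
        rk p.asIdeal w + min (N - (j + 1) + 1) (k + 1 - h) ≤
          rk p.asIdeal (Sum.elim w fun i => v (Fin.cast e.symm i)) := fun p h hh hhk => by
      refine (le_of_eq (by rw [e])).trans ((hv p h hh hhk).trans (Submodule.finrank_mono (Submodule.span_mono ?_)))
      rintro _ ⟨i | i, rfl⟩
      · exact ⟨Sum.inl i, rfl⟩
      · exact ⟨Sum.inr (Fin.cast e i), rfl⟩
    exact exists_shorter (by omega) w _ hv'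

open Module in
theorem rk_congr {A : Type u} [CommRing A] {N : ℕ} (p : Ideal A) [p.IsPrime] {ι κ : Type}
    (w : ι → Fin N → A) (v : κ → Fin N → A) (h : Set.range w = Set.range v) : rk p w = rk p v := by
  rw [rk, rk, show (fun i => red p (w i)) = red p ∘ w from rfl, show (fun i => red p (v i)) = red p ∘ v from rfl,
    Set.range_comp, Set.range_comp, h]

open Module in
theorem rk_sum_le {A : Type u} [CommRing A] {N : ℕ} (p : Ideal A) [p.IsPrime] {ι κ : Type} [Fintype κ]
    (w : ι → Fin N → A) (v : κ → Fin N → A) : rk p (Sum.elim w v) ≤ rk p w + Fintype.card κ := by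
  rw [rk_sum_eq]
  exact (Submodule.finrank_add_le_finrank_add_finrank _ _).trans
    (Nat.add_le_add_left (finrank_range_le_card _) _)

open Module in
/-- the fibre of `π : A^N → M` at a prime where `M` is free of rank `r` -/
theorem exists_fibre {A : Type u} [CommRing A] {N l r : ℕ} (p : Ideal A) [p.IsPrime] {M : Type u} [AddCommGroup M]
    [Module A M] (π : (Fin N → A) →ₗ[A] M) (hπ : Function.Surjective π) (w : Fin l → Fin N → A)
    (hw : Submodule.span A (Set.range w) = LinearMap.ker π)
    (g : M →ₗ[A] (Fin r → Localization.AtPrime p)) [IsLocalizedModule p.primeCompl g] :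
    ∃ Ψ : (Fin N → p.ResidueField) →ₗ[p.ResidueField] (Fin r → p.ResidueField),
      (∀ x i, Ψ (red p x) i = IsLocalRing.residue (Localization.AtPrime p) (g (π x) i)) ∧
      LinearMap.range Ψ = ⊤ ∧ LinearMap.ker Ψ = Submodule.span p.ResidueField (Set.range fun i => red p (w i)) := by
  classical
  set R := Localization.AtPrime p
  set κ := p.ResidueField
  have hres : ∀ a : A, IsLocalRing.residue R (algebraMap A R a) = algebraMap A κ a := fun a =>
    (IsScalarTower.algebraMap_apply A R κ a).symm
  let res : (Fin r → R) →ₗ[A] (Fin r → κ) := (IsScalarTower.toAlgHom A R κ).toLinearMap.compLeft (Fin r)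
  let ψ : (Fin N → A) →ₗ[A] (Fin r → κ) := res ∘ₗ g ∘ₗ π
  let Ψ : (Fin N → κ) →ₗ[κ] (Fin r → κ) := Fintype.linearCombination κ fun i => ψ (Pi.single i 1)
  have hΨ : ∀ x, Ψ (red p x) = ψ x := by
    intro x
    conv_rhs => rw [pi_eq_sum_univ' x, map_sum]
    rw [Fintype.linearCombination_apply]
    refine Finset.sum_congr rfl fun i _ => ?_
    rw [map_smul, red_apply, algebraMap_smul]
  have hψ : ∀ x i, ψ x i = IsLocalRing.residue R (g (π x) i) := fun x i => rfl
  refine ⟨Ψ, fun x i => by rw [hΨ, hψ], ?_, le_antisymm ?_ (Submodule.span_le.2 ?_)⟩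
  · rw [eq_top_iff]
    rintro z -
    rw [pi_eq_sum_univ' z]
    refine Submodule.sum_mem _ fun i _ => Submodule.smul_mem _ _ ?_
    obtain ⟨⟨m, s⟩, hs⟩ := IsLocalizedModule.surj p.primeCompl g (Pi.single i (1 : R))
    obtain ⟨x, rfl⟩ := hπ m
    have hs0 : algebraMap A κ (s : A) ≠ 0 := fun h => s.2 (Ideal.algebraMap_residueField_eq_zero.1 h)
    have h1 : algebraMap A κ (s : A) • (Pi.single i 1 : Fin r → κ) = Ψ (red p x) := by
      funext j
      rw [hΨ, hψ, show g (π x) = s • (Pi.single i (1 : R) : Fin r → R) from hs.symm]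
      rcases eq_or_ne j i with rfl | hji
      · simp [Submonoid.smul_def, Algebra.smul_def, hres]
      · simp [Submonoid.smul_def, hji]
    exact (Submodule.smul_mem_iff _ hs0).1 (h1 ▸ LinearMap.mem_range_self Ψ _)
  · intro z hz
    rw [LinearMap.mem_ker] at hz
    choose y hy using fun i => IsLocalRing.residue_surjective (R := R) (z i)
    obtain ⟨b, hb⟩ := IsLocalization.exist_integer_multiples_of_finite p.primeCompl y
    choose x hx using hb
    set S := Submodule.span κ (Set.range fun i => red p (w i))
    have hb0 : algebraMap A κ (b : A) ≠ 0 := fun h => b.2 (Ideal.algebraMap_residueField_eq_zero.1 h)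
    have hxz : red p x = algebraMap A κ (b : A) • z := funext fun i => by
      rw [red_apply, Pi.smul_apply, smul_eq_mul, ← hres, hx, Algebra.smul_def, map_mul, hres, hy]
    refine (S.smul_mem_iff hb0).1 ?_
    rw [← hxz]
    have hψ0 : ∀ i, g (π x) i ∈ IsLocalRing.maximalIdeal R := fun i => by
      rw [← IsLocalRing.residue_eq_zero_iff, ← hψ, ← hΨ, hxz, map_smul, hz, smul_zero]
      rfl
    let L := (p • ⊤ : Submodule A M).localized' R p.primeCompl g
    have hL : g (π x) ∈ L := by
      rw [pi_eq_sum_univ' (g (π x))]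
      refine Submodule.sum_mem _ fun i _ => ?_
      suffices hJ : IsLocalRing.maximalIdeal R ≤ L.colon {(Pi.single i (1 : R) : Fin r → R)} from
        Submodule.mem_colon_singleton.1 (hJ (hψ0 i))
      rw [← Localization.AtPrime.map_eq_maximalIdeal, Ideal.map_le_iff_le_comap]
      intro a ha
      rw [Ideal.mem_comap, Submodule.mem_colon_singleton]
      obtain ⟨⟨m, t⟩, ht⟩ := IsLocalizedModule.surj p.primeCompl g (Pi.single i (1 : R))
      refine ⟨a • m, Submodule.smul_mem_smul ha trivial, t, ?_⟩
      rw [IsLocalizedModule.mk'_eq_iff, map_smul, ← ht, algebraMap_smul, smul_comm]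
    obtain ⟨m, hm, t, hmt⟩ := hL
    rw [IsLocalizedModule.mk'_eq_iff, Submonoid.smul_def, ← map_smul] at hmt
    obtain ⟨c, hc⟩ := IsLocalizedModule.exists_of_eq (S := p.primeCompl) hmt
    have hm' : ((c : A) * (t : A)) • π x ∈ (p • ⊤ : Submodule A (Fin N → A)).map π := by
      rw [Submodule.map_smul'', Submodule.map_top, LinearMap.range_eq_top.2 hπ, mul_smul]
      rw [Submonoid.smul_def, Submonoid.smul_def] at hc
      rw [← hc]
      exact Submodule.smul_mem _ _ hm
    obtain ⟨y', hy', hπy⟩ := hm'
    have hker : ((c : A) * (t : A)) • x - y' ∈ Submodule.span A (Set.range w) := by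
      rw [hw, LinearMap.mem_ker, map_sub, map_smul, hπy, sub_self]
    have hred0 : red p y' = 0 := by
      refine Submodule.smul_induction_on hy' (fun a ha n _ => ?_) (fun n n' h h' => by rw [map_add, h, h', add_zero])
      rw [map_smul, ← algebraMap_smul κ a, Ideal.algebraMap_residueField_eq_zero.2 ha, zero_smul]
    have hred : red p (((c : A) * (t : A)) • x - y') ∈ S := by
      obtain ⟨cs, hcs⟩ := (Submodule.mem_span_range_iff_exists_fun A).1 hker
      rw [← hcs, map_sum]
      exact S.sum_mem fun i _ => by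
        rw [map_smul, ← algebraMap_smul κ (cs i)]
        exact S.smul_mem _ (Submodule.subset_span ⟨i, rfl⟩)
    rw [map_sub, hred0, sub_zero, map_smul, ← algebraMap_smul κ ((c : A) * (t : A))] at hred
    refine (S.smul_mem_iff ?_).1 hred
    exact fun h => (p.primeCompl.mul_mem c.2 t.2) (Ideal.algebraMap_residueField_eq_zero.1 h)
  · rintro _ ⟨i, rfl⟩
    have h0 : π (w i) = 0 := LinearMap.mem_ker.1 (hw ▸ Submodule.subset_span ⟨i, rfl⟩)
    rw [SetLike.mem_coe, LinearMap.mem_ker, hΨ]
    show res (g (π (w i))) = 0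
    rw [h0, map_zero, map_zero]

open Module in
/-- vectors with independent residues are part of a basis over a local ring -/
theorem exists_split {R : Type u} [CommRing R] [IsLocalRing R] {r j k : ℕ} (hjk : j + k = r)
    (u : Fin j → Fin r → R) (hu : LinearIndependent (IsLocalRing.ResidueField R) fun i x => IsLocalRing.residue R (u i x)) :
    LinearIndependent R u ∧ Nonempty (((Fin r → R) ⧸ Submodule.span R (Set.range u)) ≃ₗ[R] (Fin k → R)) := by
  classical
  set κ := IsLocalRing.ResidueField R
  set ub : Fin j → Fin r → κ := fun i x => IsLocalRing.residue R (u i x)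
  obtain ⟨C, hC⟩ := (Submodule.span κ (Set.range ub)).exists_isCompl
  have hCd : finrank κ C = k := by
    have h1 := Submodule.finrank_add_eq_of_isCompl hC
    rw [finrank_span_eq_card hu, Fintype.card_fin, finrank_fin_fun] at h1
    omega
  let bC : Basis (Fin k) κ C := (finBasis κ C).reindex (finCongr hCd)
  choose d hd using fun (i : Fin k) x => IsLocalRing.residue_surjective (R := R) ((bC i : Fin r → κ) x)
  let e : Fin j ⊕ Fin k ≃ Fin r := finSumFinEquiv.trans (finCongr hjk)
  let Mx : Matrix (Fin r) (Fin r) R := Matrix.of fun x y => Sum.elim u d (e.symm y) x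
  have hunit : IsUnit Mx.det := by
    by_contra hnu
    have h0 : IsLocalRing.residue R Mx.det = 0 := (IsLocalRing.residue_eq_zero_iff _).2 hnu
    rw [RingHom.map_det] at h0
    obtain ⟨v, hv, hv0⟩ := Matrix.exists_mulVec_eq_zero_iff.2 h0
    have hli : LinearIndependent κ (Sum.elim ub fun i => (bC i : Fin r → κ)) := by
      refine hu.sum_type (bC.linearIndependent.map' C.subtype C.ker_subtype) ?_
      rw [show (fun i => (bC i : Fin r → κ)) = C.subtype ∘ bC from rfl, Set.range_comp, ← Submodule.map_span, bC.span_eq, Submodule.map_subtype_top]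
      exact hC.disjoint
    have hli' := hli.comp _ e.symm.injective
    refine hv (funext (Fintype.linearIndependent_iff.1 hli' v ?_))
    funext x
    have h1 := congrFun hv0 x
    rw [Pi.zero_apply] at h1 ⊢
    rw [← h1, Finset.sum_apply]
    simp only [Matrix.mulVec, dotProduct, Pi.smul_apply, smul_eq_mul]
    refine Finset.sum_congr rfl fun y _ => ?_
    rw [mul_comm]
    congr 1
    show Sum.elim ub (fun i => (bC i : Fin r → κ)) (e.symm y) x = IsLocalRing.residue R (Sum.elim u d (e.symm y) x)
    rcases e.symm y with i | i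
    · rfl
    · exact (hd i x).symm
  let Φ : (Fin r → R) ≃ₗ[R] (Fin r → R) := Matrix.toLinearEquiv' Mx (Matrix.invertibleOfIsUnitDet Mx hunit)
  have hΦ : ∀ i, u i = Φ (Pi.single (e (Sum.inl i)) 1) := fun i => by
    funext x
    show _ = (Mx.mulVec (Pi.single (e (Sum.inl i)) 1)) x
    rw [Matrix.mulVec_single_one]
    simp [Mx]
  have hli : LinearIndependent R u := by
    rw [show u = Φ.toLinearMap ∘ fun i => (Pi.single (e (Sum.inl i)) (1 : R) : Fin r → R) from funext hΦ]
    refine LinearIndependent.map' ?_ _ Φ.ker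
    rw [Fintype.linearIndependent_iff]
    intro c hc q
    have h2 := congrFun hc (e (Sum.inl q))
    simpa [Finset.sum_apply, Pi.single_apply, e.injective.eq_iff] using h2
  refine ⟨hli, ?_⟩
  let P : (Fin r → R) →ₗ[R] (Fin k → R) := (LinearMap.funLeft R R fun i => e (Sum.inr i)) ∘ₗ Φ.symm.toLinearMap
  have hPs : Function.Surjective P := (LinearMap.funLeft_surjective_of_injective R R _ (e.injective.comp Sum.inr_injective)).comp Φ.symm.surjective
  have hker : LinearMap.ker P = Submodule.span R (Set.range u) := by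
    refine le_antisymm (fun z hz => ?_) (Submodule.span_le.2 ?_)
    · obtain ⟨y, rfl⟩ := Φ.surjective z
      have hy : ∀ i, y (e (Sum.inr i)) = 0 := fun i => by
        have := congrFun (LinearMap.mem_ker.1 hz) i
        simpa [P, LinearMap.funLeft_apply] using this
      rw [pi_eq_sum_univ' y, ← e.sum_comp, map_sum, Fintype.sum_sum_type]
      simp only [hy, zero_smul, map_zero, Finset.sum_const_zero, add_zero]
      refine Submodule.sum_mem _ fun i _ => ?_
      rw [map_smul, ← hΦ]
      exact Submodule.smul_mem _ _ (Submodule.subset_span ⟨i, rfl⟩)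
    · rintro _ ⟨i, rfl⟩
      rw [SetLike.mem_coe, LinearMap.mem_ker, hΦ]
      funext q
      simp [P, LinearMap.funLeft_apply]
  exact ⟨(Submodule.quotEquivOfEq _ _ hker.symm).trans (LinearMap.quotKerEquivOfSurjective P hPs)⟩

/-- Let k ≤ r, let A be a Noetherian ring none of whose associated primes has height greater than k, and
let M be a finitely generated A-module which is free of rank r at every prime of height at most k.
Then M has a free submodule N of rank r - k such that M/N is free of rank k at every prime of height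
at most k. Freeness of a given rank is expressed by linear isomorphisms with coordinate modules.
(The published statement has no hypothesis on the associated primes of A; for A = ℤ[X]/(X², 2X), M =
A/(X), k = 0 and r = 1 every other hypothesis holds while X annihilates M, so M contains no free
submodule of rank 1. The printed argument produces an element of M that is part of a basis at every
prime of height at most k; the submodule it generates is free exactly when its annihilator vanishes
at the associated primes of A, which the added hypothesis guarantees.) -/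
theorem result (A : Type u) [CommRing A] [IsNoetherianRing A]
    (M : Type u) [AddCommGroup M] [Module A M] [Module.Finite A M] (k r : ℕ) (hkr : k ≤ r)
    (hAss : ∀ p ∈ associatedPrimes A A, p.height ≤ k)
    (hM : ∀ p : PrimeSpectrum A, p.asIdeal.height ≤ k →
      Nonempty (LocalizedModule p.asIdeal.primeCompl M ≃ₗ[Localization.AtPrime p.asIdeal]
        (Fin r → Localization.AtPrime p.asIdeal))) :
    ∃ N : Submodule A M, Nonempty (N ≃ₗ[A] (Fin (r - k) → A)) ∧
      ∀ p : PrimeSpectrum A, p.asIdeal.height ≤ k →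
        Nonempty (LocalizedModule p.asIdeal.primeCompl (M ⧸ N) ≃ₗ[Localization.AtPrime p.asIdeal]
          (Fin k → Localization.AtPrime p.asIdeal)) := by
  classical
  obtain ⟨N, π, hπ⟩ := Module.Finite.exists_fin' A M
  obtain ⟨l, w, hw⟩ := Submodule.fg_iff_exists_fin_generating_family.1 (IsNoetherian.noetherian (LinearMap.ker π))
  have hloc : ∀ p : PrimeSpectrum A, p.asIdeal.height ≤ (k : ℕ∞) →
      ∃ g : M →ₗ[A] (Fin r → Localization.AtPrime p.asIdeal), IsLocalizedModule p.asIdeal.primeCompl g := fun p hp =>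
    ⟨((hM p hp).some.restrictScalars A).toLinearMap ∘ₗ LocalizedModule.mkLinearMap p.asIdeal.primeCompl M,
      IsLocalizedModule.of_linearEquiv _ _ _⟩
  have hrank : ∀ p : PrimeSpectrum A, p.asIdeal.height ≤ (k : ℕ∞) → rk p.asIdeal w + r = N := fun p hp => by
    obtain ⟨g, hg⟩ := hloc p hp
    obtain ⟨Ψ, -, hr, hk⟩ := exists_fibre p.asIdeal π hπ w hw g
    have h1 := Ψ.finrank_range_add_finrank_ker
    rw [hr, finrank_top, hk, Module.finrank_fin_fun, Module.finrank_fin_fun] at h1
    rw [rk]; omega
  have hchain : ∀ j, j ≤ r - k → ∃ v : Fin j → Fin N → A, ∀ p : PrimeSpectrum A, p.asIdeal.height ≤ (k : ℕ∞) →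
      rk p.asIdeal (Sum.elim w v) = rk p.asIdeal w + j := by
    intro j
    induction j with
    | zero => exact fun _ => ⟨Fin.elim0, fun p _ => rk_congr _ _ _ (by simp [Set.Sum.elim_range])⟩
    | succ j ih =>
      intro hj
      obtain ⟨v, hv⟩ := ih (by omega)
      let w' : Fin (l + j) → Fin N → A := Sum.elim w v ∘ finSumFinEquiv.symm
      have hw' : ∀ q : Ideal A, ∀ _ : q.IsPrime, rk q w' = rk q (Sum.elim w v) := fun q _ =>
        rk_congr _ _ _ (EquivLike.range_comp _ _)
      obtain ⟨z, hz⟩ := exists_basic (k := k) w' fun p hp => by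
        rw [hw' _ p.2, hv p hp]
        have := hrank p hp
        omega
      refine ⟨Fin.snoc v z, fun p hp => ?_⟩
      have h1 := hz p hp
      rw [hw' _ p.2, hv p hp] at h1
      have h2 := rk_sum_le p.asIdeal w (Fin.snoc v z : Fin (j + 1) → Fin N → A)
      rw [Fintype.card_fin] at h2
      have h3 : rk p.asIdeal (Sum.elim w' fun _ : Fin 1 => z) = rk p.asIdeal (Sum.elim w (Fin.snoc v z : Fin (j + 1) → Fin N → A)) := by
        refine rk_congr _ _ _ ?_
        rw [Set.Sum.elim_range, Set.Sum.elim_range, EquivLike.range_comp, Set.Sum.elim_range, Fin.range_snoc,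
          Set.range_const, Set.union_assoc, Set.insert_eq, Set.union_comm (Set.range v)]
      omega
  obtain ⟨v, hv⟩ := hchain (r - k) le_rfl
  have hloc' : ∀ p : PrimeSpectrum A, p.asIdeal.height ≤ (k : ℕ∞) →
      ∃ g : M →ₗ[A] (Fin r → Localization.AtPrime p.asIdeal), IsLocalizedModule p.asIdeal.primeCompl g ∧
        LinearIndependent (Localization.AtPrime p.asIdeal) (fun i => g (π (v i))) ∧
        Nonempty (((Fin r → Localization.AtPrime p.asIdeal) ⧸ Submodule.span (Localization.AtPrime p.asIdeal)
          (Set.range fun i => g (π (v i)))) ≃ₗ[Localization.AtPrime p.asIdeal] (Fin k → Localization.AtPrime p.asIdeal)) := by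
    intro p hp
    obtain ⟨g, hg⟩ := hloc p hp
    obtain ⟨Ψ, hΨ, hr, hk⟩ := exists_fibre p.asIdeal π hπ w hw g
    refine ⟨g, hg, exists_split (by omega) _ ?_⟩
    rw [linearIndependent_iff_card_eq_finrank_span, Fintype.card_fin, Set.finrank]
    have h1 : Submodule.span p.asIdeal.ResidueField (Set.range fun i x => IsLocalRing.residue (Localization.AtPrime p.asIdeal) (g (π (v i)) x)) =
        (Submodule.span p.asIdeal.ResidueField (Set.range fun i => red p.asIdeal (w i)) ⊔
          Submodule.span p.asIdeal.ResidueField (Set.range fun i => red p.asIdeal (v i))).map Ψ := by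
      rw [Submodule.map_sup, ← hk, Submodule.map_span Ψ (Set.range fun i => red p.asIdeal (v i)),
        show (LinearMap.ker Ψ).map Ψ = ⊥ from (Submodule.eq_bot_iff _).2 (by rintro _ ⟨z, hz, rfl⟩; exact hz), bot_sup_eq, ← Set.range_comp]
      exact congrArg _ (congrArg Set.range (funext fun i => funext fun x => (hΨ (v i) x).symm))
    refine Eq.trans ?_ (congrArg (fun S : Submodule p.asIdeal.ResidueField (Fin r → p.asIdeal.ResidueField) => Module.finrank p.asIdeal.ResidueField S) h1).symm
    set T := Submodule.span p.asIdeal.ResidueField (Set.range fun i => red p.asIdeal (w i)) ⊔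
      Submodule.span p.asIdeal.ResidueField (Set.range fun i => red p.asIdeal (v i))
    have h2 := (Ψ.domRestrict T).finrank_range_add_finrank_ker
    rw [LinearMap.range_domRestrict, LinearMap.ker_domRestrict, ← rk_sum_eq, hv p hp] at h2
    have h3 : Module.finrank p.asIdeal.ResidueField ((LinearMap.ker Ψ).comap T.subtype) = rk p.asIdeal w := by
      rw [(Submodule.comapSubtypeEquivOfLe (by rw [hk]; exact le_sup_left : LinearMap.ker Ψ ≤ T)).finrank_eq, hk]
      rfl
    omega
  refine ⟨Submodule.span A (Set.range fun i => π (v i)), ⟨(Module.Basis.span ?_).equivFun⟩, fun p hp => ?_⟩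
  · rw [Fintype.linearIndependent_iff]
    intro c hc i
    by_contra hne
    obtain ⟨P, hP, hle⟩ := exists_le_isAssociatedPrime_of_isNoetherianRing A (c i) hne
    haveI := hP.isPrime
    obtain ⟨g, hg, hli, -⟩ := hloc' ⟨P, hP.isPrime⟩ (hAss P hP)
    have h1 := Fintype.linearIndependent_iff.1 hli (fun i => algebraMap A _ (c i)) (by
      have h2 := congrArg g hc
      rw [map_sum, map_zero] at h2
      simpa only [map_smul, algebraMap_smul] using h2) i
    obtain ⟨⟨m, hm⟩, hmc⟩ := (IsLocalization.map_eq_zero_iff P.primeCompl _ _).1 h1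
    exact hm (hle (Submodule.mem_colon_singleton.2 ((Submodule.mem_bot A).2 hmc)))
  · obtain ⟨g, hg, -, ⟨eq⟩⟩ := hloc' p hp
    set R := Localization.AtPrime p.asIdeal
    set Nv := Submodule.span A (Set.range fun i => π (v i))
    have hspan : Nv.localized' R p.asIdeal.primeCompl g = Submodule.span R (Set.range fun i => g (π (v i))) := by
      rw [Submodule.localized'_span, ← Set.range_comp]
      rfl
    let f' := Nv.toLocalizedQuotient' R p.asIdeal.primeCompl g
    let e₁ := (IsLocalizedModule.iso p.asIdeal.primeCompl f').extendScalarsOfIsLocalization p.asIdeal.primeCompl R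
    exact ⟨(e₁.trans (Submodule.quotEquivOfEq _ _ hspan)).trans eq⟩

end Groth.Agent.S13533
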