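import Groth.Statements.S1355
import Groth.Agent.EtResidue.Basic
import Groth.Agent.GeomField.Connected
import Groth.Agent.ConsPropLib.Fibre

set_option autoImplicit false
set_option backward.isDefEq.respectTransparency false
set_option backward.isDefEq.respectTransparency.types false
attribute [-instance] CategoryTheory.catToReflQuiver
universe u
open FlatMor

namespace Groth.Agent.S1355

open AlgebraicGeometry CategoryTheory Limits in
/-- Let f : X → S and s a point of S. The fibre of f over s is geometrically connected if and only if
for every étale morphism U → S and every point u over s, the fibre over u of the base change of f to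
U is connected. -/
theorem result {X S : Scheme.{u}} (f : X ⟶ S) (s : S) :
    GeometricallyConnected (f.fiberToSpecResidueField s) ↔
      ∀ (U : Scheme.{u}) (g : U ⟶ S) (u : U), Etale g → g u = s → ConnectedSpace ↑((pullback.snd f g).fiber u) := by
  constructor
  · intro hg U g u _ hgu
    subst hgu
    obtain ⟨e, he, -⟩ := Groth.Agent.ConsPropLib.exists_fibre_pullback (IsPullback.of_hasPullback f g) u
    exact hg.geometrically_connectedSpace (Spec.map (g.residueFieldMap u)) e _ he
  · intro h
    letI : (f.fiber s).Over (Spec (CommRingCat.of (S.residueField s))) := ⟨f.fiberToSpecResidueField s⟩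
    refine Groth.Agent.GeomField.geometricallyConnected_of_finiteSeparable (X := f.fiber s) (k := S.residueField s)
      fun k' _ _ _ _ => ?_
    obtain ⟨U, g, u, hu, het, he'⟩ := Groth.Agent.EtResidue.exists_etale_nbhd S s k'
    have hcon := h U g u het hu
    subst hu
    obtain ⟨e, he, -⟩ := Groth.Agent.ConsPropLib.exists_fibre_pullback (IsPullback.of_hasPullback f g) u
    letI : Algebra (S.residueField (g u)) (U.residueField u) :=
      ((S.residueFieldCongr (rfl : g u = g u)).inv ≫ g.residueFieldMap u).hom.toAlgebra
    obtain ⟨θ⟩ := he'
    let i : U.residueField u ≅ CommRingCat.of k' := θ.symm.toRingEquiv.toCommRingCatIso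
    have hk : CommRingCat.ofHom (algebraMap (S.residueField (g u)) k') = g.residueFieldMap u ≫ i.hom := by
      ext z
      exact (θ.symm.commutes z).symm
    let m : Spec (CommRingCat.of k') ⟶ Spec (U.residueField u) := Spec.map i.hom
    let e' : (pullback.snd f g).fiber u ≅ pullback (f.fiberToSpecResidueField (g u))
        (Spec.map (CommRingCat.ofHom (algebraMap (S.residueField (g u)) k'))) :=
      he.isoPullback ≪≫ (asIso (pullback.map _ _ _ _ (𝟙 _) m (𝟙 _) (by simp)
        (by rw [Category.comp_id]; exact (congrArg Spec.map hk).trans (Spec.map_comp _ _)))).symm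
    exact e'.hom.homeomorph.connectedSpace_iff.1 hcon

end Groth.Agent.S1355
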