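import Groth.Statements.S13578
import Groth.Agent.ArtinRees13.Main

set_option autoImplicit false
universe u
open CategoryTheory CategoryTheory.Limits MonoidalCategory
attribute [local instance] HasDerivedCategory.standard
open DTen Pretriangulated

namespace Groth.Agent.S13578

/-- Let `A` be a Noetherian commutative ring (the derived tensor product on `D(A)` being assumed to
exist and to be computed by K-flat complexes), `I` an ideal and `M` a finite `A`-module. Then there
is an integer `n > 0` such that the inclusion `I^n M ⟶ M`, viewed in `D(A)` in degree `0`, factors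
through the canonical morphism `I ⊗^L M ⟶ M` (the map `I ⊗^L M ⟶ A ⊗^L M` induced by `I ⊆ A`,
followed by the unit isomorphism). -/
theorem result (A : Type u) [CommRing A] [IsNoetherianRing A]
    [DTen.HasLTen A] [DTen.KFlatComputes A] (I : Ideal A) (M : Type u) [AddCommGroup M] [Module A M]
    [Module.Finite A M] :
    ∃ (n : ℕ) (_ : 0 < n)
      (g : DerivedCategory.Q.obj ((HomologicalComplex.single (ModuleCat.{u} A) (ComplexShape.up ℤ) 0).obj
              (ModuleCat.of A ↥(I ^ n • (⊤ : Submodule A M)))) ⟶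
            (DTen.LTen₂ A).obj (DerivedCategory.Q.obj ((HomologicalComplex.single (ModuleCat.{u} A) (ComplexShape.up ℤ) 0).obj
              (ModuleCat.of A ↥I)),
              DerivedCategory.Q.obj ((HomologicalComplex.single (ModuleCat.{u} A) (ComplexShape.up ℤ) 0).obj
              (ModuleCat.of A M)))),
      g ≫ (DTen.LTen₂ A).map (Prod.mkHom
              (DerivedCategory.Q.map ((HomologicalComplex.single (ModuleCat.{u} A) (ComplexShape.up ℤ) 0).map
                (ModuleCat.ofHom I.subtype)))
              (𝟙 _)) ≫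
          (DTen.unitL A).app (DerivedCategory.Q.obj ((HomologicalComplex.single (ModuleCat.{u} A) (ComplexShape.up ℤ) 0).obj
              (ModuleCat.of A M))) =
        DerivedCategory.Q.map ((HomologicalComplex.single (ModuleCat.{u} A) (ComplexShape.up ℤ) 0).map
          (ModuleCat.ofHom (I ^ n • (⊤ : Submodule A M)).subtype)) := by
  haveI : DTen.HasLTen₃ A := KFlatLib.hasLTen₃ A
  haveI : IsIso (DTen.unitL A) := (KFlatLib.isSymMonoidal A).isIso_unitL
  set MD := (ArtinRees13.S A).obj (ModuleCat.of A M)
  let IA : ModuleCat.of A ↥I ⟶ ModuleCat.of A A := ModuleCat.ofHom I.subtype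
  let j : (DTen.LTen₂ A).obj ((ArtinRees13.S A).obj (ModuleCat.of A ↥I), MD) ⟶ MD :=
    (DTen.LTen₂ A).map (Prod.mkHom ((ArtinRees13.S A).map IA) (𝟙 MD)) ≫ (DTen.unitL A).app MD
  obtain ⟨C, w, δ, hT⟩ := distinguished_cocone_triangle j
  have hC : ∀ f ∈ I, (f * f) • 𝟙 C = 0 := fun f hf => by
    let mf : ModuleCat.of A A ⟶ ModuleCat.of A ↥I :=
      ModuleCat.ofHom (LinearMap.toSpanSingleton A I ⟨f, hf⟩)
    let v := (DTen.LTen₂ A).map (Prod.mkHom ((ArtinRees13.S A).map mf) (𝟙 MD))
    refine ArtinRees13.cone_killed hT f (inv ((DTen.unitL A).app MD) ≫ v) ?_ ?_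
    · have e : v ≫ (DTen.LTen₂ A).map (Prod.mkHom ((ArtinRees13.S A).map IA) (𝟙 MD)) =
          f • 𝟙 _ := by
        rw [← Functor.map_comp, ← ArtinRees13.LTen_map_smul]
        congr 1
        refine Prod.ext ?_ (Category.comp_id _)
        change (ArtinRees13.S A).map mf ≫ (ArtinRees13.S A).map IA = _
        rw [← Functor.map_comp, show mf ≫ IA = f • 𝟙 _ from by
          ext; change (1 : A) * f = f * 1; rw [one_mul, mul_one], ArtinRees13.S_map_smul, CategoryTheory.Functor.map_id]
      simp only [j, Category.assoc]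
      erw [reassoc_of% e]
      rw [Linear.smul_comp]
      erw [Category.id_comp]
      rw [Linear.comp_smul, IsIso.inv_hom_id]
    · simp only [j, Category.assoc, IsIso.hom_inv_id_assoc]
      rw [← Functor.map_comp, ← ArtinRees13.LTen_map_smul]
      congr 1
      refine Prod.ext ?_ (Category.comp_id _)
      change (ArtinRees13.S A).map IA ≫ (ArtinRees13.S A).map mf = _
      rw [← Functor.map_comp, show IA ≫ mf = f • 𝟙 _ from by
        ext x; change (x : A) * f = f * x; rw [mul_comm], ArtinRees13.S_map_smul, CategoryTheory.Functor.map_id]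
  obtain ⟨s, hs⟩ := (IsNoetherian.noetherian I : I.FG)
  obtain ⟨n, hn⟩ := ArtinRees13.induction_aux s
    (fun f hf => hC f (hs ▸ Ideal.subset_span hf)) w
  rw [show Ideal.span (s : Set A) = I from hs] at hn
  have hle : I ^ (n + 1) • (⊤ : Submodule A M) ≤ I ^ n • (⊤ : Submodule A M) :=
    Submodule.smul_mono_left (Ideal.pow_le_pow_right (Nat.le_succ n))
  have hz : (ArtinRees13.S A).map (ModuleCat.ofHom (I ^ (n + 1) • (⊤ : Submodule A M)).subtype) ≫ w = 0 := by
    rw [show ModuleCat.ofHom (I ^ (n + 1) • (⊤ : Submodule A M)).subtype =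
      ModuleCat.ofHom (Submodule.inclusion hle) ≫ ModuleCat.ofHom (I ^ n • (⊤ : Submodule A M)).subtype from rfl,
      Functor.map_comp, Category.assoc, hn, comp_zero]
  obtain ⟨g, hg⟩ := Triangle.coyoneda_exact₂ _ hT _ hz
  exact ⟨n + 1, Nat.succ_pos n, g, hg.symm⟩

end Groth.Agent.S13578
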