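import Groth.Statements.S13589
import Groth.Agent.PerfGen7.EquivPerfect
import Groth.Agent.S13576

set_option autoImplicit false
universe u
open CategoryTheory CategoryTheory.Limits MonoidalCategory
attribute [local instance] HasDerivedCategory.standard
open DTen

namespace Groth.Agent.S13589


set_option linter.style.haveILetI false
set_option backward.isDefEq.respectTransparency false

namespace InvEquiv

open CategoryTheory CategoryTheory.Limits MonoidalCategory
open Groth.Agent Groth.Agent.KFlatLib Groth.Agent.PerfGen7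

variable {A : Type u} [CommRing A]

lemma exists_single_degree (m : Ideal A) [m.IsMaximal] (X : Dual.D A) (a b : ℤ)
    (hbd : ∀ i : ℤ, (i < a ∨ b < i) → Subsingleton (Dual.HD A X i))
    (hm : ∀ r ∈ m, r • 𝟙 X = 0) (hneg : ∀ i : ℤ, i < 0 → Subsingleton (X ⟶ X⟦i⟧)) :
    ∃ t : ℤ, ∀ i : ℤ, i ≠ t → Subsingleton (Dual.HD A X i) := by
  classical
  letI : Field (A ⧸ m) := Ideal.Quotient.field m
  let S := (Finset.Icc a b).filter fun i => Nontrivial (Dual.HD A X i)
  have hS : ∀ i, i ∉ S → Subsingleton (Dual.HD A X i) := fun i hi => by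
    by_cases hab : a ≤ i ∧ i ≤ b
    · exact not_nontrivial_iff_subsingleton.1 fun h => hi (Finset.mem_filter.2 ⟨Finset.mem_Icc.2 hab, h⟩)
    · exact hbd i (by omega)
  rcases S.eq_empty_or_nonempty with hS0 | hne
  · exact ⟨0, fun i _ => hS i (by simp [hS0])⟩
  let t := S.max' hne
  let s := S.min' hne
  refine ⟨t, fun i hi => hS i fun hmem => ?_⟩
  have h1 : s ≤ i := S.min'_le i hmem
  have h2 : i ≤ t := S.le_max' i hmem
  have hst : s - t < 0 := by omega
  haveI : X.IsLE t := (DerivedCategory.isLE_iff _ _).2 fun j hj =>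
    @ModuleCat.isZero_of_subsingleton _ _ _ (hS j fun hj' => absurd (S.le_max' j hj') (by omega))
  haveI : X.IsGE s := (DerivedCategory.isGE_iff _ _).2 fun j hj =>
    @ModuleCat.isZero_of_subsingleton _ _ _ (hS j fun hj' => absurd (S.min'_le j hj') (by omega))
  haveI : DerivedCategory.IsGE (X⟦s - t⟧) t :=
    DerivedCategory.TStructure.t.isGE_shift X s (s - t) t (by omega)
  obtain ⟨e₁⟩ := exists_homologyMapLEquiv t X (X⟦s - t⟧)
  obtain ⟨e₂⟩ := exists_hdShiftLEquiv X (s - t) t s (by omega)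
  let Mt := Dual.HD A X t
  let Ms := Dual.HD A X s
  have hkill : ∀ j : ℤ, Module.IsTorsionBySet A (Dual.HD A X j) (m : Set A) := fun j z r => by
    have h := hm r.1 r.2
    have h' : ((DerivedCategory.homologyFunctor (ModuleCat.{u} A) j).map ((r : A) • 𝟙 X)).hom z = 0 := by
      rw [h, Functor.map_zero]
      rfl
    rw [Functor.map_smul, CategoryTheory.Functor.map_id] at h'
    exact h'
  letI := (hkill t).module
  letI := (hkill s).module
  haveI : Nontrivial (Dual.HD A X t) := (Finset.mem_filter.1 (S.max'_mem hne)).2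
  haveI : Nontrivial (Dual.HD A X s) := (Finset.mem_filter.1 (S.min'_mem hne)).2
  haveI : IsScalarTower A (A ⧸ m) (Dual.HD A X t) := (hkill t).isScalarTower
  haveI : IsScalarTower A (A ⧸ m) (Dual.HD A X s) := (hkill s).isScalarTower
  let B := Module.Basis.ofVectorSpace (A ⧸ m) (Dual.HD A X t)
  obtain ⟨ix⟩ := B.index_nonempty
  obtain ⟨y, hy⟩ := exists_ne (0 : Dual.HD A X s)
  let f : Dual.HD A X t →ₗ[A] Dual.HD A X s := ((B.coord ix).smulRight y).restrictScalars A
  have hf : f (B ix) = y := by simp [f]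
  haveI := hneg (s - t) hst
  haveI : Subsingleton (Dual.HD A X t →ₗ[A] Dual.HD A X s) :=
    ((LinearEquiv.congrRight e₂).symm.trans e₁.symm).toEquiv.subsingleton
  exact hy (hf.symm.trans (by rw [Subsingleton.elim f 0, LinearMap.zero_apply]))

theorem main (A : Type u) [CommRing A]
    [IsNoetherianRing A] [DTen.HasLTen A] [DTen.KFlatComputes A]
    (P : ObjectProperty (Dual.D A))
    (hP : ∀ K : Dual.D A, P K ↔
      ((∀ i : ℤ, Module.Finite A (Dual.HD A K i)) ∧ ∃ a b : ℤ, ∀ i : ℤ, (i < a ∨ b < i) → Subsingleton (Dual.HD A K i)))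
    [P.IsTriangulated]
    (F : P.FullSubcategory ⥤ P.FullSubcategory) [F.CommShift ℤ] [F.IsTriangulated] [F.IsEquivalence]
    [F.Additive] [F.Linear A]
    (hA : P (DTen.unit A)) :
    DTen.IsInvertible A (F.obj ⟨DTen.unit A, hA⟩).obj := by
  haveI := hasRHom (A := A)
  haveI := hasLTen₃ A
  haveI := isSymMonoidal A
  let U : P.FullSubcategory := ⟨DTen.unit A, hA⟩
  let L := (F.obj U).obj
  let lι : ∀ Z W : P.FullSubcategory, (Z ⟶ W) ≃ₗ[A] (Z.obj ⟶ W.obj) := fun Z W =>
    LinearEquiv.ofBijective (P.ι.mapLinearMap A)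
      ((Functor.FullyFaithful.ofFullyFaithful P.ι).map_bijective Z W)
  let lF : ∀ Z W : P.FullSubcategory, (Z ⟶ W) ≃ₗ[A] (F.obj Z ⟶ F.obj W) := fun Z W =>
    LinearEquiv.ofBijective (F.mapLinearMap A)
      ((Functor.FullyFaithful.ofFullyFaithful F).map_bijective Z W)
  let hom : ∀ (X Y : P.FullSubcategory) (i : ℤ),
      (X.obj ⟶ Y.obj⟦i⟧) ≃ₗ[A] ((F.obj X).obj ⟶ (F.obj Y).obj⟦i⟧) := fun X Y i =>
    (Linear.homCongr A (Iso.refl X.obj) ((P.ι.commShiftIso i).app Y).symm).trans
      ((lι X (Y⟦i⟧)).symm.trans ((lF X (Y⟦i⟧)).trans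
        ((Linear.homCongr A (Iso.refl (F.obj X)) ((F.commShiftIso i).app Y)).trans
          ((lι (F.obj X) ((F.obj Y)⟦i⟧)).trans
            (Linear.homCongr A (Iso.refl (F.obj X).obj) ((P.ι.commShiftIso i).app (F.obj Y)))))))
  let eU : ∀ (Y : Dual.D A) (i : ℤ), (DTen.unit A ⟶ Y⟦i⟧) ≃ₗ[A] Dual.HD A Y i := fun Y i =>
    (Linear.homCongr A ((shiftFunctorZero (Dual.D A) ℤ).app (DTen.unit A)).symm (Iso.refl _)).trans
      ((exists_homUnitLEquiv (Y⟦i⟧) 0 0 (add_zero 0)).some.trans
        (exists_hdShiftLEquiv Y i 0 i (add_zero i)).some)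
  obtain ⟨hfinL, a, b, hbdL⟩ := (hP L).1 (F.obj U).property
  haveI : L.IsGE a := (DerivedCategory.isGE_iff _ _).2 fun j hj =>
    @ModuleCat.isZero_of_subsingleton _ _ _ (hbdL j (Or.inl hj))
  haveI : L.IsLE b := (DerivedCategory.isLE_iff _ _).2 fun j hj =>
    @ModuleCat.isZero_of_subsingleton _ _ _ (hbdL j (Or.inr hj))
  have hLp : DRing.IsPerfect A L := by
    refine EquivPerfect.isPerfect_of_hom_residue L a b hfinL fun m hm => ?_
    haveI := hm
    let k := ModuleCat.of A (A ⧸ m)
    let Sk := Dual.inD A (A ⧸ m)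
    have hz : ∀ i : ℤ, i ≠ 0 → Subsingleton (Dual.HD A Sk i) := fun i hi =>
      ModuleCat.subsingleton_of_isZero (by
        rcases lt_or_gt_of_ne hi with h | h
        · exact DerivedCategory.isZero_of_isGE _ 0 i h
        · exact DerivedCategory.isZero_of_isLE _ 0 i h)
    have hk : P Sk := (hP Sk).2 ⟨fun i => by
      by_cases hi : i = 0
      · subst hi
        obtain ⟨e⟩ := exists_hdSingleLEquiv k 0
        haveI : Module.Finite A k := inferInstanceAs (Module.Finite A (A ⧸ m))
        exact Module.Finite.equiv e.symm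
      · haveI := hz i hi
        infer_instance, 0, 0, fun i hi => hz i (by omega)⟩
    let K₀ : P.FullSubcategory := ⟨Sk, hk⟩
    let X := F.objPreimage K₀
    let eX : (F.obj X).obj ≅ Sk := P.ι.mapIso (F.objObjPreimageIso K₀)
    let hom' : ∀ i : ℤ, (X.obj ⟶ X.obj⟦i⟧) ≃ₗ[A] (Sk ⟶ Sk⟦i⟧) := fun i =>
      (hom X X i).trans (Linear.homCongr A eX ((shiftFunctor (Dual.D A) i).mapIso eX))
    haveI : Sk.IsLE 0 := inferInstance
    haveI : Sk.IsGE 0 := inferInstance
    obtain ⟨-, a', b', hbd'⟩ := (hP X.obj).1 X.property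
    have hmX : ∀ r ∈ m, r • 𝟙 X.obj = 0 := fun r hr => by
      obtain ⟨e⟩ := exists_homologyMapLEquiv 0 Sk Sk
      obtain ⟨g⟩ := exists_hdSingleLEquiv k 0
      have hs : r • 𝟙 Sk = 0 := by
        apply e.injective
        rw [map_zero]
        refine LinearMap.ext fun z => g.injective ?_
        rw [map_smul, LinearMap.smul_apply, LinearMap.zero_apply, map_zero, map_smul]
        obtain ⟨w, hw⟩ := Ideal.Quotient.mk_surjective (show A ⧸ m from g (e (𝟙 Sk) z))
        change r • (show A ⧸ m from g (e (𝟙 Sk) z)) = 0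
        rw [← hw, Algebra.smul_def, Ideal.Quotient.algebraMap_eq, Ideal.Quotient.eq_zero_iff_mem.2 hr, zero_mul]
      let h0 : ((X.obj ⟶ X.obj) ≃ₗ[A] (Sk ⟶ Sk)) :=
        (Linear.homCongr A (Iso.refl _) ((shiftFunctorZero (Dual.D A) ℤ).app X.obj).symm).trans ((hom' 0).trans
          (Linear.homCongr A (Iso.refl _) ((shiftFunctorZero (Dual.D A) ℤ).app Sk)))
      apply h0.injective
      rw [map_zero, map_smul]
      have hall : ∀ f : Sk ⟶ Sk, r • f = 0 := fun f => by
        rw [← Category.comp_id f, ← Linear.comp_smul, hs, comp_zero]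
      exact hall _
    obtain ⟨t, ht⟩ := exists_single_degree m X.obj a' b' hbd' hmX fun i hi => by
      haveI : DerivedCategory.IsGE (Sk⟦i⟧) (-i) :=
        DerivedCategory.TStructure.t.isGE_shift Sk 0 i (-i) (by omega)
      haveI : Subsingleton (Sk ⟶ Sk⟦i⟧) := subsingleton_of_forall_eq 0 fun f =>
        DerivedCategory.TStructure.t.zero f 0 (-i) (by omega)
      exact (hom' i).toEquiv.subsingleton
    refine ⟨-t, fun j hj => ?_⟩
    let eS : (DerivedCategory.singleFunctor (ModuleCat.{u} A) j).obj k ≅ (F.obj X).obj⟦-j⟧ :=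
      (((DerivedCategory.singleFunctors (ModuleCat.{u} A)).shiftIso (-j) j 0 (by omega)).app k).symm ≪≫
        (shiftFunctor (Dual.D A) (-j)).mapIso eX.symm
    haveI : Subsingleton (Dual.HD A X.obj (-j)) := ht (-j) (by omega)
    exact ((Linear.homCongr A (Iso.refl L) eS).trans
      ((hom U X (-j)).symm.trans (eU X.obj (-j)))).toEquiv.subsingleton
  let Q := (DTen.RHomR A L).obj L
  let eQ : ∀ i : ℤ, Dual.HD A Q i ≃ₗ[A] Dual.HD A (DTen.unit A) i := fun i =>
    (exists_hdRHomShiftLEquiv L L i).some.trans ((hom U U i).symm.trans (eU (DTen.unit A) i))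
  obtain ⟨u0⟩ := exists_hdSingleLEquiv (ModuleCat.of A A) 0
  let eUn : ∀ i : ℤ, Dual.HD A (DTen.unit A) i ≃ₗ[A] Dual.HD A (Dual.inD A A) i := fun i =>
    ((DerivedCategory.homologyFunctor (ModuleCat.{u} A) i).mapIso (RankOne.unitIso A).symm).toLinearEquiv
  obtain ⟨eR⟩ := RankOne.iso_of_hd Q 0 (fun j hj => by
    haveI : Subsingleton (Dual.HD A (Dual.inD A A) j) := ModuleCat.subsingleton_of_isZero (by
      rcases lt_or_gt_of_ne (show j ≠ 0 by omega) with h | h
      · exact DerivedCategory.isZero_of_isGE _ 0 j h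
      · exact DerivedCategory.isZero_of_isLE _ 0 j h)
    exact ((eQ j).trans (eUn j)).toEquiv.subsingleton) (((eQ 0).trans (eUn 0)).trans u0)
  let L' := (DTen.RHomR A L).obj (DTen.unit A)
  haveI := isIso_evalTen_of_isPerfect_source L (DTen.unit A) L hLp
  haveI : IsIso (DTen.unitR A) := DTen.IsSymMonoidal.isIso_unitR
  let e : (DTen.LTen₂ A).obj (L, L') ≅ DTen.unit A :=
    asIso (DTen.evalTen L (DTen.unit A) L) ≪≫
      (DTen.RHomR A L).mapIso ((asIso (DTen.unitR A)).app L) ≪≫ eR ≪≫
      (shiftFunctorZero (Dual.D A) ℤ).app (DTen.unit A)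
  haveI := Groth.Agent.S13576.result A L L'
  exact ⟨L', ⟨e⟩, ⟨asIso ((DTen.symm A).app (L, L')) ≪≫ e⟩⟩

end InvEquiv


/-- Let `A` be a Noetherian commutative ring and `F` an `A`-linear triangulated equivalence from
`D^b_{Coh}(A)` (the full subcategory of `D(A)` of objects with bounded cohomology consisting of
finite `A`-modules, a triangulated subcategory) to itself. Then `F(A)` is an invertible object of
`D(A)`: there is an object `L` with `F(A) ⊗^L L ≅ A` and `L ⊗^L F(A) ≅ A`. The membership of `A[0]`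
in `D^b_{Coh}(A)` and the fact that this subcategory is triangulated are taken as (true) hypotheses.
(The published statement asks only for an `A`-linear equivalence of categories; this row takes the
equivalence compatible with shifts and distinguished triangles, which is what the published proof
uses and how the result is applied.) -/
theorem result (A : Type u) [CommRing A]
    [IsNoetherianRing A] [DTen.HasLTen A] [DTen.KFlatComputes A]
    (P : ObjectProperty (Dual.D A))
    (hP : ∀ K : Dual.D A, P K ↔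
      ((∀ i : ℤ, Module.Finite A (Dual.HD A K i)) ∧ ∃ a b : ℤ, ∀ i : ℤ, (i < a ∨ b < i) → Subsingleton (Dual.HD A K i)))
    [P.IsTriangulated]
    (F : P.FullSubcategory ⥤ P.FullSubcategory) [F.CommShift ℤ] [F.IsTriangulated] [F.IsEquivalence]
    [F.Additive] [F.Linear A]
    (hA : P (DTen.unit A)) :
    DTen.IsInvertible A (F.obj ⟨DTen.unit A, hA⟩).obj := by
  exact InvEquiv.main A P hP F hA

end Groth.Agent.S13589
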