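import Groth.Statements.S13602
import Groth.Agent.AffineNhd.Union

set_option autoImplicit false
universe u
open CategoryTheory AlgebraicGeometry
open SymProd CategoryTheory.Limits

namespace Groth.Agent.S13602

/-- Let f : X ⟶ S be a morphism of schemes satisfying (AF): every finite set of points of X over a
single point of S lies in an affine open of X. Then for every d ≥ 0 and every point x of the d-fold
fibre power X ×_S ⋯ ×_S X, some affine open of the fibre power contains the whole orbit of x under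
the symmetric group on d letters permuting the factors. (With the existence of a quotient by a
finite group whose orbits lie in affine opens, this is the existence of the symmetric power
Sym^d(X/S) for X/S satisfying (AF).) -/
theorem result {X S : Scheme.{u}} (f : X ⟶ S) (hAF : SymProd.IsAF f)
    (d : ℕ) (x : ↥(SymProd.fibPow f d)) :
    ∃ U : (SymProd.fibPow f d).Opens, IsAffineOpen U ∧
      ∀ σ : Equiv.Perm (Fin d), (SymProd.permHom f d σ).base x ∈ U := by
  classical
  let s : S := (WidePullback.base (fun _ : Fin d => f)).base x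
  let pr : Fin d → (SymProd.fibPow f d ⟶ X) := fun i => WidePullback.π (fun _ : Fin d => f) i
  have hpr : ∀ i, pr i ≫ f = WidePullback.base (fun _ : Fin d => f) := fun i => WidePullback.π_arrow _ i
  let T : Finset X := Finset.univ.image fun i : Fin d => (pr i) x
  have hT : ∀ y ∈ T, f y = s := fun y hy => by
    obtain ⟨i, -, rfl⟩ := Finset.mem_image.1 hy
    rw [← Scheme.Hom.comp_apply, hpr]
  obtain ⟨U, hU, hUT⟩ := hAF s T hT
  obtain ⟨V, hV, hsV, -⟩ := exists_isAffineOpen_mem_and_subset (x := s) (U := ⊤) trivial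
  obtain ⟨h, hle, hmem⟩ := Groth.Agent.AffineNhd.exists_basicOpen_finset hU T hUT (f ⁻¹ᵁ V)
    fun y hy => show f y ∈ V from (hT y hy).symm ▸ hsV
  let U' : X.Opens := X.basicOpen h
  have hU' : IsAffineOpen U' := hU.basicOpen h
  let base := WidePullback.base (fun _ : Fin d => f)
  let O : (SymProd.fibPow f d).Opens := base ⁻¹ᵁ V ⊓ (Finset.univ.inf fun i : Fin d => pr i ⁻¹ᵁ U')
  have hOi : ∀ (i : Fin d) (z : SymProd.fibPow f d), z ∈ O → pr i z ∈ U' := fun i z hz =>
    (Finset.inf_le (Finset.mem_univ i) : Finset.univ.inf (fun i : Fin d => pr i ⁻¹ᵁ U') ≤ pr i ⁻¹ᵁ U') hz.2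
  let g : (U' : Scheme.{u}) ⟶ (V : Scheme.{u}) := f.resLE V U' hle
  have hg : g ≫ V.ι = U'.ι ≫ f := Scheme.Hom.resLE_comp_ι _ _
  haveI : IsAffine (V : Scheme.{u}) := hV
  haveI : IsAffine (U' : Scheme.{u}) := hU'
  haveI : IsAffine (widePullback (V : Scheme.{u}) (fun _ : Fin d => (U' : Scheme.{u})) (fun _ => g)) := by
    haveI : ∀ j, IsAffine ((WidePullbackShape.wideCospan (V : Scheme.{u}) (fun _ : Fin d => (U' : Scheme.{u})) (fun _ => g)).obj j) := by
      rintro (_ | j)
      · exact inferInstanceAs (IsAffine (V : Scheme.{u}))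
      · exact inferInstanceAs (IsAffine (U' : Scheme.{u}))
    exact Scheme.isAffine_of_isLimit _ (limit.isLimit (WidePullbackShape.wideCospan (V : Scheme.{u}) (fun _ : Fin d => (U' : Scheme.{u})) (fun _ => g)))
  let q : ∀ i : Fin d, (O : Scheme.{u}) ⟶ (U' : Scheme.{u}) := fun i =>
    IsOpenImmersion.lift U'.ι (O.ι ≫ pr i) (by
      rintro _ ⟨z, rfl⟩
      rw [Scheme.Opens.range_ι]
      exact hOi i z.1 z.2)
  have hq : ∀ i, q i ≫ U'.ι = O.ι ≫ pr i := fun i => IsOpenImmersion.lift_fac _ _ _
  let qb : (O : Scheme.{u}) ⟶ (V : Scheme.{u}) := base.resLE V O inf_le_left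
  have hqb : qb ≫ V.ι = O.ι ≫ base := Scheme.Hom.resLE_comp_ι _ _
  let a : (O : Scheme.{u}) ⟶ widePullback (V : Scheme.{u}) (fun _ : Fin d => (U' : Scheme.{u})) (fun _ => g) :=
    WidePullback.lift qb q fun i => by
      rw [← cancel_mono V.ι, Category.assoc, hg, reassoc_of% (hq i), hpr, hqb]
  let b₀ : widePullback (V : Scheme.{u}) (fun _ : Fin d => (U' : Scheme.{u})) (fun _ => g) ⟶ SymProd.fibPow f d :=
    WidePullback.lift (WidePullback.base (fun _ : Fin d => g) ≫ V.ι) (fun i => WidePullback.π (fun _ : Fin d => g) i ≫ U'.ι)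
      fun i => by rw [Category.assoc, ← hg, WidePullback.π_arrow_assoc]
  have hb₀ : Set.range b₀ ⊆ Set.range O.ι := by
    rintro _ ⟨z, rfl⟩
    rw [Scheme.Opens.range_ι]
    refine ⟨?_, ?_⟩
    · show (b₀ ≫ base) z ∈ V
      rw [WidePullback.lift_base]
      exact (WidePullback.base (fun _ : Fin d => g) z).2
    · rw [SetLike.mem_coe, ← SetLike.mem_coe, TopologicalSpace.Opens.coe_finset_inf]
      simp only [Finset.mem_univ, Set.iInf_eq_iInter, Set.iInter_true, Set.mem_iInter, Finset.inf_eq_iInf, Function.comp]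
      intro i
      show (b₀ ≫ pr i) z ∈ U'
      rw [WidePullback.lift_π]
      exact (WidePullback.π (fun _ : Fin d => g) i z).2
  let b := IsOpenImmersion.lift O.ι b₀ hb₀
  have hb : b ≫ O.ι = b₀ := IsOpenImmersion.lift_fac _ _ _
  haveI : IsIso a := ⟨b, by
    rw [← cancel_mono O.ι, Category.assoc, hb, Category.id_comp]
    refine WidePullback.hom_ext _ _ _ (fun i => ?_) ?_
    · rw [Category.assoc, WidePullback.lift_π, WidePullback.lift_π_assoc, hq]
    · rw [Category.assoc, WidePullback.lift_base, WidePullback.lift_base_assoc, hqb], by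
    refine WidePullback.hom_ext _ _ _ (fun i => ?_) ?_
    · rw [Category.id_comp, Category.assoc, WidePullback.lift_π, ← cancel_mono U'.ι, Category.assoc, hq,
        reassoc_of% hb, WidePullback.lift_π]
    · rw [Category.id_comp, Category.assoc, WidePullback.lift_base, ← cancel_mono V.ι, Category.assoc, hqb,
        reassoc_of% hb, WidePullback.lift_base]⟩
  refine ⟨O, show IsAffine (O : Scheme.{u}) from IsAffine.of_isIso a, fun σ => ⟨?_, ?_⟩⟩
  · show (SymProd.permHom f d σ ≫ base) x ∈ V
    rw [show SymProd.permHom f d σ ≫ base = base from WidePullback.lift_base _ _ _ _]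
    exact hsV
  · rw [SetLike.mem_coe, ← SetLike.mem_coe, TopologicalSpace.Opens.coe_finset_inf]
    simp only [Finset.mem_univ, Set.iInf_eq_iInter, Set.iInter_true, Set.mem_iInter, Finset.inf_eq_iInf, Function.comp]
    intro i
    show (SymProd.permHom f d σ ≫ pr i) x ∈ U'
    rw [SymProd.permHom_π]
    exact hmem _ (Finset.mem_image.2 ⟨σ.symm i, Finset.mem_univ _, rfl⟩)

end Groth.Agent.S13602
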