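import Groth.Statements.S13615
import Groth.Agent.ModWLib.ConstrSerre

set_option autoImplicit false
open CategoryTheory CategoryTheory.Limits AlgebraicGeometry Opposite
universe u
open EtModW

namespace Groth.Agent.S13615

/-- Let X be a Noetherian scheme, i : A → X a closed immersion and j : U → X an open immersion whose
images are complementary, Λ a Noetherian ring, I an ideal of Λ and F = (F_n) an inverse system of
constructible sheaves of Λ-modules on the small etale site of X with I^(n+1) F_n = 0 for all n. Then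
F is AR I-adic (receives a morphism with kernel and cokernel null up to translation from an I-adic
system of constructible sheaves) if and only if both restricted systems (j^* F_n)_n on U and (i^*
F_n)_n on A are AR I-adic in the same sense. -/
theorem result
    (Λ : Type (u + 1)) [CommRing Λ] [IsNoetherianRing Λ] (I : Ideal Λ)
    {X A U : Scheme.{u}} [IsNoetherian X] (i : A ⟶ X) [IsClosedImmersion i] (j : U ⟶ X) [IsOpenImmersion j]
    (hAU : Set.range (fun a => i.base a) = (Set.range (fun t => j.base t))ᶜ)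
    (F : ARSys.PS (EtModW.Mod Λ X)) (hc : ∀ n : ℕ, EtModW.IsConstructible Λ (F.obj (op n)))
    (hk : ARSys.TermKilled I F) :
    (ARSys.TermKilled I F ∧ ∃ (Y : ARSys.PS (EtModW.Mod Λ X)) (v : Y ⟶ F), ARSys.IsAdic I Y ∧ (∀ n : ℕ, EtModW.IsConstructible Λ (Y.obj (op n))) ∧ ARSys.IsARIso v) ↔
      ((ARSys.TermKilled I (F ⋙ EtModW.pull Λ j) ∧ ∃ (Y : ARSys.PS (EtModW.Mod Λ U)) (v : Y ⟶ (F ⋙ EtModW.pull Λ j)), ARSys.IsAdic I Y ∧ (∀ n : ℕ, EtModW.IsConstructible Λ (Y.obj (op n))) ∧ ARSys.IsARIso v) ∧ (ARSys.TermKilled I (F ⋙ EtModW.pull Λ i) ∧ ∃ (Y : ARSys.PS (EtModW.Mod Λ A)) (v : Y ⟶ (F ⋙ EtModW.pull Λ i)), ARSys.IsAdic I Y ∧ (∀ n : ℕ, EtModW.IsConstructible Λ (Y.obj (op n))) ∧ ARSys.IsARIso v)) := by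
  constructor
  · rintro ⟨hT, Y, v, hY, hYc, hv⟩
    exact ⟨⟨ModWLib.termKilled_map hT, Y ⋙ EtModW.pull Λ j, Functor.whiskerRight v _,
        ModWLib.isAdic_map (ModWLib.pullPushModAdj Λ j) hY, fun n => ModWLib.isConstructible_pull j (hYc n),
        ModWLib.isARIso_map (EtModW.pull Λ j) hv⟩,
      ⟨ModWLib.termKilled_map hT, Y ⋙ EtModW.pull Λ i, Functor.whiskerRight v _,
        ModWLib.isAdic_map (ModWLib.pullPushModAdj Λ i) hY, fun n => ModWLib.isConstructible_pull i (hYc n),
        ModWLib.isARIso_map (EtModW.pull Λ i) hv⟩⟩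
  · rintro ⟨⟨hTj, Yj, vj, hYj, -, hvj⟩, ⟨hTi, Yi, vi, hYi, -, hvi⟩⟩
    let W : Bool → Scheme.{u} := fun b => cond b U A
    let g : ∀ b, W b ⟶ X := fun b => match b with
      | true => j
      | false => i
    refine ⟨hk, ModWLib.exists_adic_of_reflect (D := fun b => EtModW.Mod Λ (W b)) (fun b => EtModW.pull Λ (g b))
      (ModWLib.kerCokerClosed_isConstructible Λ X) (fun f _ _ h => ModWLib.eq_zero_of_pulls W g ?_ f h)
      (IsNoetherian.noetherian I) hk hc ?_⟩
    · intro x
      by_cases hx : x ∈ Set.range (fun t => j.base t)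
      · exact ⟨true, hx⟩
      · exact ⟨false, hAU.symm.le hx⟩
    · intro b
      cases b
      · exact ⟨hTi, Yi, vi, hYi, hvi⟩
      · exact ⟨hTj, Yj, vj, hYj, hvj⟩

end Groth.Agent.S13615
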