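import Groth.Statements.S13616
import Groth.Agent.ModWLib.ConstrSerre

set_option autoImplicit false
open CategoryTheory CategoryTheory.Limits AlgebraicGeometry Opposite
universe u
open EtModW

namespace Groth.Agent.S13616

/-- Let X be a Noetherian scheme, (g_i : U_i → X) a finite jointly surjective family of etale morphisms
with every U_i Noetherian (a finite etale covering of X by quasi-compact members), Λ a Noetherian
ring, I an ideal of Λ and F = (F_n) an inverse system of constructible sheaves of Λ-modules on the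
small etale site of X with I^(n+1) F_n = 0 for all n. Then F is AR I-adic (receives a morphism with
kernel and cokernel null up to translation from an I-adic system of constructible sheaves) if and
only if each pulled-back system (g_i^* F_n)_n on U_i is AR I-adic in the same sense. (The members of
the covering are taken Noetherian, the setting in which the criterion used by the argument applies.) -/
theorem result
    (Λ : Type (u + 1)) [CommRing Λ] [IsNoetherianRing Λ] (I : Ideal Λ)
    {X : Scheme.{u}} [IsNoetherian X] {m : ℕ} (U : Fin m → Scheme.{u}) [∀ i, IsNoetherian (U i)]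
    (g : ∀ i, U i ⟶ X) [∀ i, Etale (g i)]
    (hsurj : (⋃ i, Set.range (fun t => (g i).base t)) = Set.univ)
    (F : ARSys.PS (EtModW.Mod Λ X)) (hc : ∀ n : ℕ, EtModW.IsConstructible Λ (F.obj (op n)))
    (hk : ARSys.TermKilled I F) :
    (ARSys.TermKilled I F ∧ ∃ (Y : ARSys.PS (EtModW.Mod Λ X)) (v : Y ⟶ F), ARSys.IsAdic I Y ∧ (∀ n : ℕ, EtModW.IsConstructible Λ (Y.obj (op n))) ∧ ARSys.IsARIso v) ↔ ∀ i : Fin m, (ARSys.TermKilled I (F ⋙ EtModW.pull Λ (g i)) ∧ ∃ (Y : ARSys.PS (EtModW.Mod Λ (U i))) (v : Y ⟶ (F ⋙ EtModW.pull Λ (g i))), ARSys.IsAdic I Y ∧ (∀ n : ℕ, EtModW.IsConstructible Λ (Y.obj (op n))) ∧ ARSys.IsARIso v) := by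
  constructor
  · rintro ⟨hT, Y, v, hY, hYc, hv⟩ i
    exact ⟨ModWLib.termKilled_map hT, Y ⋙ EtModW.pull Λ (g i), Functor.whiskerRight v _,
        ModWLib.isAdic_map (ModWLib.pullPushModAdj Λ (g i)) hY, fun n => ModWLib.isConstructible_pull (g i) (hYc n),
        ModWLib.isARIso_map (EtModW.pull Λ (g i)) hv⟩
  · intro h
    refine ⟨hk, ModWLib.exists_adic_of_reflect (D := fun i => EtModW.Mod Λ (U i)) (fun i => EtModW.pull Λ (g i))
      (ModWLib.kerCokerClosed_isConstructible Λ X) (fun f _ _ h => ModWLib.eq_zero_of_pulls U g ?_ f h)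
      (IsNoetherian.noetherian I) hk hc fun i => ?_⟩
    · exact fun x => Set.mem_iUnion.1 (hsurj.ge (Set.mem_univ x))
    · obtain ⟨hT, Y, v, hY, -, hv⟩ := h i
      exact ⟨hT, Y, v, hY, hv⟩

end Groth.Agent.S13616
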