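import Groth.Statements.S13617
import Groth.Agent.ModWLib.ConstrSerre

set_option autoImplicit false
open CategoryTheory CategoryTheory.Limits AlgebraicGeometry Opposite
universe u
open EtModW

namespace Groth.Agent.S13617

/-- Let X be a connected Noetherian scheme, Λ a Noetherian ring, I an ideal of Λ and F = (F_n) an
inverse system of sheaves of Λ-modules on the small etale site of X with every F_n constructible and
locally constant of finite type and with I^(n+1) F_n = 0 for all n. Then F is AR I-adic (receives a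
morphism with kernel and cokernel null up to translation from an I-adic system of constructible
sheaves) if and only if there is at least one geometric point s of X whose stalk system (F_n,s)_n is
an AR I-adic system of Λ-modules (termwise killed by I^(n+1) and receiving a morphism with null
kernel and cokernel from an I-adic system of finitely generated Λ-modules). -/
theorem result
    (Λ : Type (u + 1)) [CommRing Λ] [IsNoetherianRing Λ] (I : Ideal Λ)
    {X : Scheme.{u}} [IsNoetherian X] [ConnectedSpace X]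
    (F : ARSys.PS (EtModW.Mod Λ X)) (hc : ∀ n : ℕ, EtModW.IsConstructible Λ (F.obj (op n)))
    (hl : ∀ n : ℕ, EtModW.IsFTLocConst Λ (F.obj (op n))) (hk : ARSys.TermKilled I F) :
    (ARSys.TermKilled I F ∧ ∃ (Y : ARSys.PS (EtModW.Mod Λ X)) (v : Y ⟶ F), ARSys.IsAdic I Y ∧ (∀ n : ℕ, EtModW.IsConstructible Λ (Y.obj (op n))) ∧ ARSys.IsARIso v) ↔
      ∃ (Ω : Type u) (_ : Field Ω) (_ : IsSepClosed Ω) (s : Spec (CommRingCat.of Ω) ⟶ X),
        (ARSys.TermKilled I (F ⋙ EtModW.stalk Λ s) ∧ ∃ (Y : ARSys.PS (ModuleCat.{u + 1} Λ)) (v : Y ⟶ F ⋙ EtModW.stalk Λ s), ARSys.IsAdic I Y ∧ (∀ n : ℕ, Module.Finite Λ (Y.obj (op n))) ∧ ARSys.IsARIso v) := by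
  constructor
  · rintro ⟨hT, Y, v, hY, hYc, hv⟩
    obtain ⟨Ω, _, _, s, -⟩ := EtFound.exists_geomPoint (Classical.arbitrary X)
    exact ⟨Ω, inferInstance, inferInstance, s, ModWLib.termKilled_map hT, Y ⋙ EtModW.stalk Λ s,
      Functor.whiskerRight v _, ModWLib.isAdic_map (Scheme.pointSmallEtale s).skyscraperSheafAdjunction hY,
      fun n => ModWLib.finite_stalk_of_isConstructible s (hYc n), ModWLib.isARIso_map (EtModW.stalk Λ s) hv⟩
  · rintro ⟨Ω, _, _, s, hT, Y, v, hY, -, hv⟩
    obtain ⟨Z, w, hZ, hZl, hw⟩ := ModWLib.exists_adic_of_reflect (ι := Unit) (D := fun _ => ModuleCat.{u + 1} Λ)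
      (fun _ => EtModW.stalk Λ s) (ModWLib.kerCokerClosed_isFTLocConst Λ X)
      (fun f hF hG h => ModWLib.eq_zero_of_stalk f hF hG s (h ())) (IsNoetherian.noetherian I) hk hl
      (fun _ => ⟨hT, Y, v, hY, hv⟩)
    exact ⟨hk, Z, w, hZ, fun n => ModWLib.isConstructible_of_isFTLocConst (hZl n), hw⟩

end Groth.Agent.S13617
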