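import Groth.Statements.S13618
import Groth.Agent.ModWLib.Noeth
import Groth.Agent.ARLib.Noeth
import Groth.Agent.ARLib.AdicCat

set_option autoImplicit false
open CategoryTheory CategoryTheory.Limits AlgebraicGeometry Opposite
universe u
open EtModW

namespace Groth.Agent.S13618

/-- For a Noetherian scheme X, a Noetherian coefficient ring Λ and an ideal I of Λ, let w : F → G be a
morphism between I-adic inverse systems of constructible sheaves of Λ-modules on the small etale
site of X. Then the kernel and the cokernel of w in the abelian category of inverse systems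
(computed termwise) are AR I-adic: I^(n+1) kills their n-th terms and each receives a morphism with
kernel and cokernel null up to translation from an I-adic system of constructible sheaves.
Consequently AR I-adic systems form an abelian subcategory of the category of systems up to
translation. (The published statement is for objects isomorphic up to translation to I-adic systems
and morphisms up to translation; its argument first reduces to I-adic systems and a genuine morphism
of systems, the case stated here.) -/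
theorem result
    (Λ : Type (u + 1)) [CommRing Λ] [IsNoetherianRing Λ] (I : Ideal Λ)
    {X : Scheme.{u}} [IsNoetherian X]
    (F G : ARSys.PS (EtModW.Mod Λ X)) (hF : ARSys.IsAdic I F) (hG : ARSys.IsAdic I G)
    (hFc : ∀ n : ℕ, EtModW.IsConstructible Λ (F.obj (op n)))
    (hGc : ∀ n : ℕ, EtModW.IsConstructible Λ (G.obj (op n))) (w : F ⟶ G) :
    (ARSys.TermKilled I (kernel w) ∧ ∃ (Y : ARSys.PS (EtModW.Mod Λ X)) (v : Y ⟶ (kernel w)), ARSys.IsAdic I Y ∧ (∀ n : ℕ, EtModW.IsConstructible Λ (Y.obj (op n))) ∧ ARSys.IsARIso v) ∧ (ARSys.TermKilled I (cokernel w) ∧ ∃ (Y : ARSys.PS (EtModW.Mod Λ X)) (v : Y ⟶ (cokernel w)), ARSys.IsAdic I Y ∧ (∀ n : ℕ, EtModW.IsConstructible Λ (Y.obj (op n))) ∧ ARSys.IsARIso v) := by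
  have hF' : ARSys.IsARAdicNoeth I F :=
    ⟨ARLib.isARAdic_of_isAdic hF, fun n => ModWLib.isNoetherianObject_of_isConstructible (hFc n)⟩
  have hG' : ARSys.IsARAdicNoeth I G :=
    ⟨ARLib.isARAdic_of_isAdic hG, fun n => ModWLib.isNoetherianObject_of_isConstructible (hGc n)⟩
  obtain ⟨hk, hc⟩ := ARLib.isARAdicNoeth_kernel_cokernel w hF' hG'
  have key : ∀ {H : ARSys.PS (EtModW.Mod Λ X)}, ARSys.IsARAdic I H → (∀ n : ℕ, EtModW.IsConstructible Λ (H.obj (op n))) →
      ∃ (Y : ARSys.PS (EtModW.Mod Λ X)) (v : Y ⟶ H), ARSys.IsAdic I Y ∧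
        (∀ n : ℕ, EtModW.IsConstructible Λ (Y.obj (op n))) ∧ ARSys.IsARIso v := fun {H} hH hHc =>
    ModWLib.exists_adic_of_reflect (ι := Unit) (D := fun _ => EtModW.Mod Λ X) (fun _ => 𝟭 _)
      (ModWLib.kerCokerClosed_isConstructible Λ X) (fun f _ _ h => h ()) (IsNoetherian.noetherian I) hH.1 hHc
      (fun _ => hH)
  let ev := fun n : ℕ => (evaluation ℕᵒᵖ (EtModW.Mod Λ X)).obj (op n)
  refine ⟨⟨hk.1.1, key hk.1 fun n => ?_⟩, ⟨hc.1.1, key hc.1 fun n => ?_⟩⟩
  · exact ModWLib.isConstructible_of_iso (PreservesKernel.iso (ev n) w).symm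
      (ModWLib.isConstructible_kernel _ (hFc n) (hGc n))
  · exact ModWLib.isConstructible_of_iso (PreservesCokernel.iso (ev n) w).symm
      (ModWLib.isConstructible_cokernel _ (hFc n) (hGc n))

end Groth.Agent.S13618
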