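import Groth.Statements.S13619
import Groth.Agent.ModWLib.Noeth
import Groth.Agent.ARLib.Noeth
import Groth.Agent.ARLib.AdicCat

set_option autoImplicit false
set_option linter.style.haveILetI false
open CategoryTheory CategoryTheory.Limits AlgebraicGeometry Opposite
universe u
open EtModW

namespace Groth.Agent.S13619

/-- For a Noetherian scheme X, a Noetherian coefficient ring Λ and an ideal I of Λ, let F be an I-adic
inverse system of constructible sheaves of Λ-modules on the small etale site of X. Then every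
increasing sequence Z_0 ≤ Z_1 ≤ … of subobjects of F in the abelian category of inverse systems, all
of whose underlying systems are AR I-adic (termwise killed by I^(n+1) and receiving a morphism with
null kernel and cokernel from an I-adic system of constructible sheaves), becomes constant up to
translation: there is k₀ such that for every k ≥ k₀ the inclusion of Z_k into Z_(k+1) has kernel and
cokernel null up to translation. (The published statement is for AR-injective maps into an AR I-adic
object; replacing each by the image of a representing morphism of systems and F by an I-adic system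
gives the case of genuine subobjects stated here.) -/
theorem result
    (Λ : Type (u + 1)) [CommRing Λ] [IsNoetherianRing Λ] (I : Ideal Λ)
    {X : Scheme.{u}} [IsNoetherian X]
    (F : ARSys.PS (EtModW.Mod Λ X)) (hF : ARSys.IsAdic I F)
    (hFc : ∀ n : ℕ, EtModW.IsConstructible Λ (F.obj (op n)))
    (Z : ℕ →o Subobject F)
    (hZ : ∀ k : ℕ, (ARSys.TermKilled I (Subobject.underlying.obj (Z k) : ARSys.PS (EtModW.Mod Λ X)) ∧ ∃ (Y : ARSys.PS (EtModW.Mod Λ X)) (v : Y ⟶ (Subobject.underlying.obj (Z k) : ARSys.PS (EtModW.Mod Λ X))), ARSys.IsAdic I Y ∧ (∀ n : ℕ, EtModW.IsConstructible Λ (Y.obj (op n))) ∧ ARSys.IsARIso v)) :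
    ∃ k₀ : ℕ, ∀ k : ℕ, k₀ ≤ k → ARSys.IsARIso (Subobject.ofLE (Z k) (Z (k + 1)) (Z.monotone (Nat.le_succ k))) := by
  choose hT Y v hY hYc hv using hZ
  let a : ∀ k, Y k ⟶ F := fun k => v k ≫ (Z k).arrow
  let S : ℕ → Subobject F := fun k => imageSubobject (a k)
  have hle : ∀ k, S k ≤ Z k := fun k => imageSubobject_le (a k) (v k) rfl
  let w : ∀ k, Y k ⟶ (S k : ARSys.PS (EtModW.Mod Λ X)) := fun k => factorThruImageSubobject (a k)
  haveI hwe : ∀ k, Epi (w k) := fun k => inferInstanceAs (Epi (factorThruImageSubobject (a k)))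
  have hwv : ∀ k, w k ≫ Subobject.ofLE _ _ (hle k) = v k := fun k => by
    rw [← cancel_mono (Z k).arrow, Category.assoc, Subobject.ofLE_arrow]
    exact imageSubobject_arrow_comp _
  have hw : ∀ k, ARSys.IsARIso (w k) := fun k => by
    have h := hv k
    rw [← hwv k] at h
    refine ⟨ModWLib.isARNull_of_iso (kernelCompMono (w k) (Subobject.ofLE _ _ (hle k))) h.1, 0, fun n => ?_⟩
    exact (((evaluation ℕᵒᵖ (EtModW.Mod Λ X)).obj (op n)).map_isZero (isZero_cokernel_of_epi (w k))).eq_of_tgt _ _
  have hι : ∀ k, ARSys.IsARIso (Subobject.ofLE _ _ (hle k)) := fun k =>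
    ARLib.isARIso_of_precomp (hw k) ((hwv k).symm ▸ hv k)
  have hS : Monotone S := monotone_nat_of_le_succ fun k => by
    obtain ⟨r, hr⟩ := (hv (k + 1)).2
    have h0 : (v k ≫ Subobject.ofLE _ _ (Z.monotone (Nat.le_succ k))) ≫ cokernel.π (v (k + 1)) = 0 := by
      refine ARLib.hom_ext fun n => ?_
      have := ARLib.isStrict_of_isAdic (hY k) n (n + r) (Nat.le_add_right n r)
      rw [← cancel_epi (ARSys.tr (Y k) (Nat.le_add_right n r))]
      refine ((((v k ≫ Subobject.ofLE _ _ (Z.monotone (Nat.le_succ k))) ≫ cokernel.π (v (k + 1))).naturality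
        (homOfLE (Nat.le_add_right n r)).op).trans ((congrArg (_ ≫ ·) (hr n)).trans ?_))
      exact comp_zero.trans comp_zero.symm
    let i := Abelian.monoLift (kernel.ι (cokernel.π (v (k + 1)))) (v k ≫ Subobject.ofLE _ _ (Z.monotone (Nat.le_succ k)))
      (by
        have hd : v (k + 1) ≫ cokernel.π (kernel.ι (cokernel.π (v (k + 1)))) = 0 := by
          conv_lhs => arg 1; rw [← Abelian.image.fac (v (k + 1))]
          exact (Category.assoc _ _ _).trans ((congrArg (_ ≫ ·) (cokernel.condition _)).trans comp_zero)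
        rw [← cokernel.π_desc (v (k + 1)) _ hd, ← Category.assoc]
        exact (congrArg (· ≫ _) h0).trans zero_comp)
    let Fac : MonoFactorisation (v (k + 1)) :=
      { I := (S (k + 1) : ARSys.PS (EtModW.Mod Λ X)), m := Subobject.ofLE _ _ (hle (k + 1)), e := w (k + 1),
        fac := hwv (k + 1) }
    have e1 : ((Abelian.imageIsoImage (v (k + 1))).hom ≫ image.lift Fac) ≫ Subobject.ofLE _ _ (hle (k + 1)) =
        kernel.ι (cokernel.π (v (k + 1))) := by
      rw [Category.assoc, show image.lift Fac ≫ Subobject.ofLE _ _ (hle (k + 1)) = image.ι (v (k + 1)) from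
        image.lift_fac Fac]
      exact (Abelian.imageStrongEpiMonoFactorisation (v (k + 1))).toMonoIsImage.lift_fac
        (Image.monoFactorisation (v (k + 1)))
    refine imageSubobject_le _ (i ≫ (Abelian.imageIsoImage (v (k + 1))).hom ≫ image.lift Fac) ?_
    rw [← Subobject.ofLE_arrow (hle (k + 1)), ← Category.assoc, Category.assoc i, e1]
    show (i ≫ kernel.ι (cokernel.π (v (k + 1)))) ≫ (Z (k + 1)).arrow = v k ≫ (Z k).arrow
    rw [Abelian.monoLift_comp, Category.assoc, Subobject.ofLE_arrow]
  obtain ⟨k₀, hk₀⟩ := ARLib.strict_chain_stabilizes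
    (J := I) ⟨hF, fun n => ModWLib.isNoetherianObject_of_isConstructible (hFc n)⟩ ⟨S, hS⟩ (fun k =>
      ARLib.isStrict_of_epi (w k) (ARLib.isStrict_of_isAdic (hY k)))
  refine ⟨k₀, fun k hk => ARLib.isARIso_of_precomp (hι k) ?_⟩
  have e : S k = S (k + 1) := (hk₀ k hk).trans (hk₀ (k + 1) (by omega)).symm
  have h2 : Subobject.ofLE _ _ (hle k) ≫ Subobject.ofLE _ _ (Z.monotone (Nat.le_succ k)) =
      (Subobject.isoOfEq _ _ e).hom ≫ Subobject.ofLE _ _ (hle (k + 1)) := by
    rw [← cancel_mono (Z (k + 1)).arrow]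
    simp
  rw [h2]
  refine ⟨ModWLib.isARNull_of_iso (kernelIsIsoComp _ _).symm (hι (k + 1)).1,
    ModWLib.isARNull_of_iso (cokernelEpiComp _ _).symm (hι (k + 1)).2⟩

end Groth.Agent.S13619
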