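import Groth.Statements.S13620
import Groth.Agent.ModWLib.Stalk
import Groth.Agent.ARLib.Strict
import Groth.Agent.ARLib.Adic

set_option autoImplicit false
open CategoryTheory CategoryTheory.Limits AlgebraicGeometry Opposite
universe u
open EtModW

namespace Groth.Agent.S13620

theorem isZero_limit_of_isARNull {C : Type*} [Category C] [Limits.HasZeroMorphisms C]
    (X : ARSys.PS C) [HasLimit X] (h : ARSys.IsARNull X) : IsZero (limit X) := by
  obtain ⟨r, hr⟩ := h
  rw [IsZero.iff_id_eq_zero]
  refine limit.hom_ext fun n => ?_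
  obtain ⟨n⟩ := n
  rw [Category.id_comp, zero_comp, ← limit.w X (homOfLE (Nat.le_add_right n r)).op]
  exact (congrArg (limit.π X (op (n + r)) ≫ ·) (hr n)).trans comp_zero

theorem isZero_of_strict {Λ : Type (u + 1)} [CommRing Λ] (Z : ARSys.PS (ModuleCat.{u + 1} Λ))
    (hZ : ARSys.IsStrict Z) (h : IsZero (limit Z)) (n : ℕ) : IsZero (Z.obj (op n)) := by
  refine ModuleCat.isZero_iff_subsingleton.2 (subsingleton_of_forall_eq 0 fun z => ?_)
  have hs : ∀ k, Function.Surjective (ARSys.tr Z (Nat.le_succ (n + k))) :=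
    fun k => (ModuleCat.epi_iff_surjective _).1 (hZ _ _ _)
  choose l hl using hs
  let w : ∀ k, Z.obj (op (n + k)) := fun k => Nat.rec (motive := fun k => Z.obj (op (n + k))) z (fun k a => l k a) k
  have hw : ∀ a b (hab : a ≤ b), ARSys.tr Z (Nat.add_le_add_left hab n) (w b) = w a := by
    intro a b hab
    induction hab with
    | refl => rw [ARLib.tr_refl]; rfl
    | @step b hab ih =>
      rw [← ARLib.tr_tr Z (Nat.add_le_add_left hab n) (Nat.le_succ (n + b)), ConcreteCategory.comp_apply]
      rw [show ARSys.tr Z (Nat.le_succ (n + b)) (w (b + 1)) = w b from hl b (w b)]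
      exact ih
  let t : (Functor.const ℕᵒᵖ).obj (ModuleCat.of Λ Λ) ⟶ Z :=
    ARLib.natMk (fun m => ModuleCat.ofHom (LinearMap.toSpanSingleton Λ _ (ARSys.tr Z (Nat.le_add_left m n) (w m))))
      (fun a b hab => by
        refine ModuleCat.hom_ext (LinearMap.ext_ring ?_)
        show LinearMap.toSpanSingleton Λ _ (ARSys.tr Z (Nat.le_add_left a n) (w a)) 1 =
          ARSys.tr Z hab (LinearMap.toSpanSingleton Λ _ (ARSys.tr Z (Nat.le_add_left b n) (w b)) 1)
        rw [LinearMap.toSpanSingleton_apply_one, LinearMap.toSpanSingleton_apply_one, ← ConcreteCategory.comp_apply,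
          ARLib.tr_tr, ← hw a b hab, ← ConcreteCategory.comp_apply, ARLib.tr_tr])
  have h0 : t.app (op n) = 0 := by
    rw [show t.app (op n) = limit.lift Z ⟨_, t⟩ ≫ limit.π Z (op n) from (limit.lift_π (⟨_, t⟩ : Cone Z) (op n)).symm,
      h.eq_of_tgt (limit.lift Z ⟨_, t⟩) 0, zero_comp]
  have h1 : t.app (op n) (1 : Λ) = (0 : Z.obj (op n)) := by rw [h0]; rfl
  refine Eq.trans ?_ h1
  show z = LinearMap.toSpanSingleton Λ _ (ARSys.tr Z (Nat.le_add_left n n) (w n)) 1
  rw [LinearMap.toSpanSingleton_apply_one]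
  exact (hw 0 n (Nat.zero_le n)).symm

/-- For a Noetherian scheme X, a Noetherian coefficient ring Λ and an ideal I of Λ, let F = (F_n) be an
inverse system of sheaves of Λ-modules on the small etale site of X which is AR I-adic (I^(n+1) F_n
= 0 for all n, and F receives a morphism with kernel and cokernel null up to translation from an
I-adic system of constructible sheaves). Then F is null up to translation if and only if for every
geometric point x of X the limit of the stalk system, lim_n F_n,x, is the zero module. (The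
published lemma assumes Λ I-adically complete, which only its first assertion uses; this row states
the second assertion without it.) -/
theorem result
    (Λ : Type (u + 1)) [CommRing Λ] [IsNoetherianRing Λ] (I : Ideal Λ)
    {X : Scheme.{u}} [IsNoetherian X]
    (F : ARSys.PS (EtModW.Mod Λ X))
    (hF : (ARSys.TermKilled I F ∧ ∃ (Y : ARSys.PS (EtModW.Mod Λ X)) (v : Y ⟶ F), ARSys.IsAdic I Y ∧ (∀ n : ℕ, EtModW.IsConstructible Λ (Y.obj (op n))) ∧ ARSys.IsARIso v)) :
    ARSys.IsARNull F ↔
      ∀ (Ω : Type u) [Field Ω] [IsSepClosed Ω] (x : Spec (CommRingCat.of Ω) ⟶ X),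
        IsZero (limit (F ⋙ EtModW.stalk Λ x)) := by
  obtain ⟨-, Y, v, hY, -, hv⟩ := hF
  constructor
  · intro hN Ω _ _ x
    exact isZero_limit_of_isARNull _ (ModWLib.isARNull_map (EtModW.stalk Λ x) hN)
  · intro h
    have hY0 : IsZero Y := Functor.isZero _ fun n => by
      obtain ⟨n⟩ := n
      refine (IsZero.iff_id_eq_zero _).2 (EtFound.eq_of_stalks _ _ fun Ω _ _ x => ?_)
      haveI := ARLib.isIso_limMap (Y ⋙ EtModW.stalk Λ x) (Functor.whiskerRight v (EtModW.stalk Λ x))
        (ModWLib.isARIso_map (EtModW.stalk Λ x) hv)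
      have hs := ARLib.isStrict_of_isAdic
        (ModWLib.isAdic_map (F := EtModW.stalk Λ x) (Scheme.pointSmallEtale x).skyscraperSheafAdjunction hY)
      have hz := isZero_of_strict (Y ⋙ EtModW.stalk Λ x) hs
        ((h Ω x).of_iso (asIso (limMap (Functor.whiskerRight v (EtModW.stalk Λ x))))) n
      exact hz.eq_of_src _ _
    have hv0 : v = 0 := hY0.eq_of_src v 0
    haveI : IsIso (cokernel.π v) :=
      by subst hv0; infer_instance
    exact ModWLib.isARNull_of_iso (asIso (cokernel.π v)).symm hv.2

end Groth.Agent.S13620
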