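import Groth.Statements.S13623
import Mathlib

set_option autoImplicit false
universe u
open TensorProduct
open CAlg

namespace Groth.Agent.S13623

/-- Let A be a commutative ring and B a commutative A-algebra, graded by A-submodules B_m (m ≥ 0)
forming a graded-algebra structure, such that every B_m is a finitely generated A-module. If for
every algebraically closed field k and every A-algebra structure on k the k-algebra k ⊗_A B is
generated by the image of B_1 under b ↦ 1 ⊗ b, then its degree-one part B_1 generates the A-algebra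
B. (Algebraically closed fields are taken in the universe of A.) -/
theorem result
    (A : Type u) [CommRing A] (B : Type u) [CommRing B] [Algebra A B]
    (𝒜 : ℕ → Submodule A B) [GradedAlgebra 𝒜]
    (hfin : ∀ m : ℕ, Module.Finite A (𝒜 m))
    (hgen : ∀ (k : Type u) [Field k] [IsAlgClosed k] [Algebra A k],
      Algebra.adjoin k ((Algebra.TensorProduct.includeRight : B →ₐ[A] k ⊗[A] B) '' (𝒜 1 : Set B)) = ⊤) :
    Algebra.adjoin A (𝒜 1 : Set B) = ⊤ := by
  classical
  set C := Algebra.adjoin A (𝒜 1 : Set B)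
  rw [eq_top_iff]
  intro b _
  suffices H : ∀ m, 𝒜 m ≤ Subalgebra.toSubmodule C by
    rw [← DirectSum.sum_support_decompose 𝒜 b]
    exact C.sum_mem fun m _ => H m (SetLike.coe_mem _)
  intro m
  let N : Submodule A (𝒜 m) := (Subalgebra.toSubmodule C).comap (𝒜 m).subtype
  suffices hQ : Subsingleton (𝒜 m ⧸ N) by
    intro x hx
    exact (Submodule.Quotient.mk_eq_zero N (x := ⟨x, hx⟩)).1 (Subsingleton.elim _ _)
  haveI := hfin m
  rw [← Module.support_eq_empty_iff (R := A), Set.eq_empty_iff_forall_notMem]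
  intro p hp
  rw [Module.mem_support_iff_nontrivial_residueField_tensorProduct] at hp
  let κ := p.asIdeal.ResidueField
  let k := AlgebraicClosure κ
  -- the base change to `k` vanishes
  let proj : B →ₗ[A] 𝒜 m := (DirectSum.component A ℕ (fun n => 𝒜 n) m) ∘ₗ (DirectSum.decomposeLinearEquiv 𝒜).toLinearMap
  let π : B →ₗ[A] 𝒜 m ⧸ N := N.mkQ ∘ₗ proj
  have hproj : ∀ x : 𝒜 m, proj (x : B) = x := fun x => Subtype.ext (DirectSum.decompose_of_mem_same 𝒜 x.2)
  have hπ : Function.Surjective π := fun q => by
    obtain ⟨x, rfl⟩ := Submodule.Quotient.mk_surjective _ q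
    exact ⟨x, congrArg N.mkQ (hproj x)⟩
  have hc : ∀ c ∈ Submonoid.closure (𝒜 1 : Set B), (∃ l, c ∈ 𝒜 l) ∧ c ∈ C := by
    intro c hc
    induction hc using Submonoid.closure_induction with
    | mem c hc => exact ⟨⟨1, hc⟩, Algebra.subset_adjoin hc⟩
    | one => exact ⟨⟨0, SetLike.GradedOne.one_mem⟩, C.one_mem⟩
    | mul c d _ _ hc hd =>
      obtain ⟨⟨l, hl⟩, hc'⟩ := hc
      obtain ⟨⟨l', hl'⟩, hd'⟩ := hd
      exact ⟨⟨l + l', SetLike.mul_mem_graded hl hl'⟩, C.mul_mem hc' hd'⟩
  have hπc : ∀ c ∈ Submonoid.closure (𝒜 1 : Set B), π c = 0 := by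
    intro c hc'
    obtain ⟨⟨l, hl⟩, hC⟩ := hc c hc'
    by_cases h : l = m
    · subst h
      show N.mkQ (proj ((⟨c, hl⟩ : 𝒜 l) : B)) = 0
      rw [hproj]
      exact (Submodule.Quotient.mk_eq_zero N).2 hC
    · show N.mkQ (proj c) = 0
      rw [show proj c = 0 from Subtype.ext (DirectSum.decompose_of_mem_ne 𝒜 hl h), map_zero]
  have hzero : ∀ z : k ⊗[A] B, π.baseChange k z = 0 := by
    intro z
    have hz : z ∈ Submodule.span k (Submonoid.closure
        ((Algebra.TensorProduct.includeRight : B →ₐ[A] k ⊗[A] B) '' (𝒜 1 : Set B)) : Set (k ⊗[A] B)) := by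
      rw [← Algebra.adjoin_eq_span, hgen k]
      trivial
    induction hz using Submodule.span_induction with
    | mem w hw =>
      have : w ∈ (Submonoid.closure (𝒜 1 : Set B)).map
          (Algebra.TensorProduct.includeRight : B →ₐ[A] k ⊗[A] B).toRingHom.toMonoidHom := by
        rw [MonoidHom.map_mclosure]
        exact hw
      obtain ⟨c, hc', rfl⟩ := this
      show π.baseChange k (1 ⊗ₜ c) = 0
      rw [LinearMap.baseChange_tmul, hπc c hc', TensorProduct.tmul_zero]
    | zero => exact map_zero _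
    | add x y _ _ hx hy => rw [map_add, hx, hy, add_zero]
    | smul r x _ hx => rw [map_smul, hx, smul_zero]
  haveI hk : Subsingleton (k ⊗[A] (𝒜 m ⧸ N)) := by
    refine subsingleton_of_forall_eq 0 fun z => ?_
    obtain ⟨w, rfl⟩ := LinearMap.lTensor_surjective k hπ z
    exact hzero w
  let V := κ ⊗[A] (𝒜 m ⧸ N)
  haveI : Subsingleton (k ⊗[κ] V) :=
    (TensorProduct.AlgebraTensorModule.cancelBaseChange A κ k k (𝒜 m ⧸ N)).toEquiv.subsingleton
  have hinj : Function.Injective ((Algebra.linearMap κ k).rTensor V ∘ₗ (TensorProduct.lid κ V).symm.toLinearMap) :=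
    (Module.Flat.rTensor_preserves_injective_linearMap _ (algebraMap κ k).injective).comp (TensorProduct.lid κ V).symm.injective
  haveI : Subsingleton V := hinj.subsingleton
  exact not_subsingleton V inferInstance

end Groth.Agent.S13623
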