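import Groth.Statements.S13624
import Groth.Agent.S3617

set_option autoImplicit false
universe u
open CategoryTheory CategoryTheory.Limits AlgebraicGeometry Opposite
open Goren

namespace Groth.Agent.S13624

/-- Let f : X → Y be a proper, flat morphism of schemes which is locally of finite presentation. Then
the set of points y of Y whose scheme-theoretic fibre X_y = X ×_Y Spec κ(y) is a Gorenstein scheme
(every local ring of X_y is a Gorenstein local ring) is open in Y. -/
theorem result (X Y : Scheme.{u}) (f : X ⟶ Y)
    [IsProper f] [Flat f] [LocallyOfFinitePresentation f] :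
    IsOpen {y : Y | ∀ x : ↥(f.fiber y), LocCoh.IsGorensteinLocalRing ((f.fiber y).presheaf.stalk x)} := by
  have hopen := S3617.result X Y f
  have hset : {y : Y | ∀ x : ↥(f.fiber y), LocCoh.IsGorensteinLocalRing ((f.fiber y).presheaf.stalk x)} =
      (f.base '' {x : X | Dual3.IsGorensteinAt f x}ᶜ)ᶜ := by
    ext y
    constructor
    · rintro h ⟨x, hx, rfl⟩
      exact hx ⟨Flat.stalkMap f x, h _⟩
    · intro h z
      by_contra hz
      have hy : f.base (f.fiberι y z) = y := by
        have h1 : f.fiberι y z ∈ Set.range (f.fiberι y) := ⟨z, rfl⟩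
        rw [f.range_fiberι] at h1
        exact h1
      refine h ⟨f.fiberι y z, fun hg => hz ?_, hy⟩
      obtain ⟨x, hxe⟩ : ∃ x, f.fiberι y z = x := ⟨_, rfl⟩
      rw [hxe] at hg hy
      subst hy
      have : z = f.asFiber x := (f.fiberι (f x)).isEmbedding.injective (hxe.trans (f.fiberι_asFiber x).symm)
      rw [this]
      exact hg.2
  rw [hset]
  exact (f.isClosedMap _ hopen.isClosed_compl).isOpen_compl

end Groth.Agent.S13624
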