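import Groth.Statements.S13626
import Groth.Agent.KZ.QuasiProj
import Groth.Agent.KRR7.Proj
import Groth.Agent.KFlatLib.Scheme.ProjLocFree
import Groth.Agent.QCoh.RpushAbGod
import Groth.Agent.S0462

set_option autoImplicit false
set_option backward.isDefEq.respectTransparency false
set_option backward.isDefEq.respectTransparency.types false
universe u
open CategoryTheory CategoryTheory.Limits AlgebraicGeometry
open Coh

namespace Groth.Agent.S13626

/-- Let f : X → Y be a morphism of schemes with R^i f_* O_X = 0 for every i ≥ 1 and f_* O_X ≅ O_Y. Then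
for every invertible O_Y-module L and every p ≥ 0 the groups H^p(X, f^* L) and H^p(Y, L) are
isomorphic (existence of a group isomorphism; the higher direct images are the right derived
functors of f_* on O_X-modules, under the instance argument recording that O_X-modules have
injective resolutions). -/
theorem result
    {X Y : Scheme.{u}} (f : X ⟶ Y) [HasInjectiveResolutions X.Modules]
    (hR : ∀ i : ℕ, IsZero ((Coh.Rpush f (i + 1)).obj (Coh.structureModule X)))
    (h0 : Nonempty ((Coh.push f).obj (Coh.structureModule X) ≅ Coh.structureModule Y))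
    (L : Y.Modules) (hL : PicF.IsInvertible L) (p : ℕ) :
    Nonempty (Coh.HH X ((Scheme.Modules.pullback f).obj L) p ≃+ Coh.HH Y L p) := by
  have hLf := Groth.Agent.KZ.QuasiProj.flf_of_invertible hL
  let M := (Scheme.Modules.pullback f).obj L
  obtain ⟨h0⟩ := h0
  obtain ⟨u⟩ := Groth.Agent.H23.PicMul.unit M
  have hproj : ∀ q : ℕ, Nonempty (CohB1.tensorMod L ((Coh.Rpush f q).obj (Coh.structureModule X)) ≅ (Coh.Rpush f q).obj M) :=
    fun q => by
      obtain ⟨e⟩ := Groth.Agent.KFlatLib.nonempty_rpush_tensor_finLocFree f (Coh.structureModule X) L hLf q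
      exact ⟨e ≪≫ (Coh.Rpush f q).mapIso u⟩
  have hz : ∀ i : ℕ, Limits.IsZero ((Coh.RpushAb f (i + 1)).obj (Coh.toAb M)) := fun i => by
    obtain ⟨e⟩ := hproj (i + 1)
    obtain ⟨e'⟩ := Groth.Agent.QCoh.nonempty_Rpush_iso f M i
    obtain ⟨e''⟩ := Groth.Agent.QCoh.nonempty_RpushAb_iso f M i
    refine Limits.IsZero.of_iso ?_ e''
    refine (SheafOfModules.toSheaf Y.ringCatSheaf).map_isZero ?_
    exact Limits.IsZero.of_iso (Groth.Agent.KRR7.isZero_tensorMod L (hR i)) (e'.symm ≪≫ e.symm)
  have hpush : Nonempty ((Coh.push f).obj M ≅ L) := by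
    obtain ⟨e⟩ := hproj 0
    obtain ⟨u'⟩ := Groth.Agent.H23.PicMul.unit L
    haveI := Groth.Agent.QCoh.preservesFiniteLimits_push f
    exact ⟨((Coh.push f).rightDerivedZeroIsoSelf.app M).symm ≪≫ e.symm ≪≫
      (DCoh.tensorBi.obj L).mapIso ((Coh.push f).rightDerivedZeroIsoSelf.app (Coh.structureModule X) ≪≫ h0) ≪≫ u'⟩
  obtain ⟨φ⟩ := hpush
  obtain ⟨ψ⟩ := Groth.Agent.LerayDegen.H_push f.base (Coh.toAb M) hz p
  exact ⟨ψ.trans ((((Sheaf.functorH _ p).mapIso
    ((SheafOfModules.toSheaf Y.ringCatSheaf).mapIso φ)).addCommGroupIsoToAddEquiv))⟩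

end Groth.Agent.S13626
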