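import Groth.Statements.S13629
import Groth.Agent.IntSym.Bridge
import Groth.Agent.DerBC7.EulerModel
import Groth.Agent.QCoh.LocFree
import Groth.Agent.Lib.InvEnd
import Groth.Agent.H23.Seesaw
import Groth.Agent.IntNum.Push
import Groth.Agent.PicClLib.Basic
import Groth.Agent.S2122
import Groth.Agent.ProjUPX.Affine

set_option autoImplicit false
universe u
open CategoryTheory CategoryTheory.Limits AlgebraicGeometry Opposite
open FGA

namespace Groth.Agent.S13629

set_option backward.isDefEq.respectTransparency false
set_option backward.isDefEq.respectTransparency.types false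

/-- Let f : X → Y be a proper, flat morphism of schemes, locally of finite presentation, whose
scheme-theoretic fibres X_y all have Krull dimension at most 2, and let L be an invertible
O_X-module with a tensor inverse M (M ⊗ L ≅ O_X). Then the self-intersection number (L_y · L_y) of
the restriction of L to the fibre X_y over κ(y), namely the alternating sum χ(O_{X_y}) − 2χ(M_y) +
χ(M_y ⊗ M_y) of Euler characteristics in degrees ≤ 2, is a locally constant function of y: every
point y₀ of Y has an open neighbourhood on which it equals its value at y₀. (The published statement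
is the case where the fibres are integral normal Gorenstein surfaces and L is the relative dualizing
sheaf, so that the number is the self-intersection K² of the canonical class of the fibre; the fibre
X_y is regarded as a scheme over Spec κ(y) through the second projection.) -/
theorem result
    {X Y : Scheme.{u}} (f : X ⟶ Y) [IsProper f] [Flat f] [LocallyOfFinitePresentation f]
    (hdim : ∀ y : Y, topologicalKrullDim ↥(f.fiber y) ≤ 2)
    (L M : X.Modules) (hL : PicF.IsInvertible L) (hM : ClSub.IsInverseOf M L) (y₀ : Y) :
    ∃ U : Y.Opens, y₀ ∈ U ∧ ∀ y : Y, y ∈ U →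
      @FGA.intNum ↥(Y.residueField y) _ (f.fiber y) ⟨f.fiberToSpecResidueField y⟩ 2 2
            ![(Scheme.Modules.pullback (f.fiberι y)).obj M, (Scheme.Modules.pullback (f.fiberι y)).obj M]
            (Coh.structureModule (f.fiber y)) =
        @FGA.intNum ↥(Y.residueField y₀) _ (f.fiber y₀) ⟨f.fiberToSpecResidueField y₀⟩ 2 2
            ![(Scheme.Modules.pullback (f.fiberι y₀)).obj M, (Scheme.Modules.pullback (f.fiberι y₀)).obj M]
            (Coh.structureModule (f.fiber y₀)) := by
  have hMi : PicF.IsInvertible M := by
    obtain ⟨e⟩ := hM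
    exact Groth.Agent.S2122.result M L e
  let M2 := CohB1.tensorMod (CohB1.tensorMod (Coh.structureModule X) M) M
  let M1 := CohB1.tensorMod (Coh.structureModule X) M
  have hM1 : PicF.IsInvertible M1 := Groth.Agent.InvX.isInvertible_tensorMod Groth.Agent.InvX.isInvertible_structureModule hMi
  have hM2 : PicF.IsInvertible M2 := Groth.Agent.InvX.isInvertible_tensorMod hM1 hMi
  have key : ∀ {G : X.Modules}, PicF.IsInvertible G → IsLocallyConstant fun y => PerfAux.eulerChar f G y :=
    fun hG => Groth.Agent.DerBC7.isLocallyConstant_eulerChar (Groth.Agent.ProjUPX.isQCoh_of_isInvertible hG)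
      (Groth.Agent.QCoh.isFP_of_isFinLocFree (fun x => let ⟨U, hx, e⟩ := Groth.Agent.InvEnd.isFinLocFreeOfRank_one hG x; ⟨U, 1, hx, e⟩))
      (Groth.Agent.H23.Seesaw.isFlatOver_of_isInvertible f hG)
  let φ : Y → ℤ := fun y => PerfAux.eulerChar f M2 y - PerfAux.eulerChar f M1 y -
    (PerfAux.eulerChar f M1 y - PerfAux.eulerChar f (Coh.structureModule X) y)
  have hφ : IsLocallyConstant φ :=
    ((key hM2).comp₂ (key hM1) (· - ·)).comp₂ ((key hM1).comp₂ (key Groth.Agent.InvX.isInvertible_structureModule) (· - ·)) (· - ·)
  have hval : ∀ y : Y, @FGA.intNum ↥(Y.residueField y) _ (f.fiber y) ⟨f.fiberToSpecResidueField y⟩ 2 2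
      ![(Scheme.Modules.pullback (f.fiberι y)).obj M, (Scheme.Modules.pullback (f.fiberι y)).obj M]
      (Coh.structureModule (f.fiber y)) = φ y := fun y => by
    let κ := Y.residueField y
    letI : (f.fiber y).Over (Spec (CommRingCat.of κ)) := ⟨f.fiberToSpecResidueField y⟩
    haveI : IsProper (f.fiber y ↘ Spec (CommRingCat.of κ)) := inferInstanceAs (IsProper (Limits.pullback.snd f (Y.fromSpecResidueField y)))
    haveI := Groth.Agent.CurveCohLib.isNoetherian_of_proper (k := κ) (X := f.fiber y)
    let g := f.fiberι y
    let My := (Scheme.Modules.pullback g).obj M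
    have hMy : PicF.IsInvertible My := Groth.Agent.PicClLib.isInvertible_pullback g hMi
    rw [Groth.Agent.IntSym.intNum_eq κ (hdim y) ![My, My] (fun i => by fin_cases i <;> simpa using hMy)
      (Groth.Agent.AmpleVan.isCoh_invertible Groth.Agent.InvX.isInvertible_structureModule)]
    obtain ⟨e0⟩ := Groth.Agent.PicClLib.nonempty_pullback_structureModule g
    let e1 : (Scheme.Modules.pullback g).obj M1 ≅ CohB1.tensorMod (Coh.structureModule (f.fiber y)) My :=
      Groth.Agent.IntNum.pullTensor g _ _ ≪≫ PicGrp.tensorModIso e0 (Iso.refl _)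
    let e2 : (Scheme.Modules.pullback g).obj M2 ≅
        CohB1.tensorMod (CohB1.tensorMod (Coh.structureModule (f.fiber y)) My) My :=
      Groth.Agent.IntNum.pullTensor g _ _ ≪≫ PicGrp.tensorModIso e1 (Iso.refl _)
    show (-1 : ℤ) ^ 2 * Groth.Agent.IntSym.sym κ [My, My] (Coh.structureModule (f.fiber y)) = _
    rw [Groth.Agent.IntSym.sym_cons, Groth.Agent.IntSym.sym_singleton, Groth.Agent.IntSym.sym_singleton]
    have c2 : Curv2.euler κ (f.fiber y) (CohB1.tensorMod (CohB1.tensorMod (Coh.structureModule (f.fiber y)) My) My) =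
        PerfAux.eulerChar f M2 y := Groth.Agent.CurveCohLib.euler_congr (k := κ) e2.symm
    have c1 : Curv2.euler κ (f.fiber y) (CohB1.tensorMod (Coh.structureModule (f.fiber y)) My) =
        PerfAux.eulerChar f M1 y := Groth.Agent.CurveCohLib.euler_congr (k := κ) e1.symm
    have c0 : Curv2.euler κ (f.fiber y) (Coh.structureModule (f.fiber y)) =
        PerfAux.eulerChar f (Coh.structureModule X) y := Groth.Agent.CurveCohLib.euler_congr (k := κ) e0.symm
    show (-1 : ℤ) ^ 2 * (Curv2.euler κ (f.fiber y) (CohB1.tensorMod (CohB1.tensorMod (Coh.structureModule (f.fiber y)) My) My) -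
      Curv2.euler κ (f.fiber y) (CohB1.tensorMod (Coh.structureModule (f.fiber y)) My) -
      (Curv2.euler κ (f.fiber y) (CohB1.tensorMod (Coh.structureModule (f.fiber y)) My) -
        Curv2.euler κ (f.fiber y) (Coh.structureModule (f.fiber y)))) = _
    rw [c2, c1, c0]
    simp [φ]
  exact ⟨⟨φ ⁻¹' {φ y₀}, hφ _⟩, rfl, fun y hy => (hval y).trans (hy.trans (hval y₀).symm)⟩

end Groth.Agent.S13629
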