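import Groth.Statements.S13632
import Mathlib

set_option autoImplicit false
universe u
open TensorProduct
open CAlg

namespace Groth.Agent.S13632

/-- Let S = Spec R, X = Spec A finite and flat over S, Y = Spec B of finite type over S, and φ : X → Y
an S-morphism given by f : B → A. If for every point s of S the fibres X_s and Y_s have the same
order (the κ(s)-dimension of their rings of global sections κ(s) ⊗ A and κ(s) ⊗ B; equivalently at
every geometric point) and φ is an isomorphism over every closed point of S (κ(m) ⊗ f bijective for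
every maximal ideal m), then φ is an isomorphism, i.e. f is bijective. (The published statement
allows an arbitrary base scheme S and Y separated of finite type over S; this row is the case of an
affine base with X and Y affine, the case its proof treats directly. Over a base with no closed
points the general statement fails: the hypothesis at closed points is then empty.) -/
theorem result
    {R A B : Type u} [CommRing R] [CommRing A] [CommRing B] [Algebra R A] [Algebra R B]
    [Module.Finite R A] [Module.Flat R A] [Algebra.FiniteType R B]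
    (f : B →ₐ[R] A)
    (hrank : ∀ p : PrimeSpectrum R,
      Module.rank p.asIdeal.ResidueField (p.asIdeal.ResidueField ⊗[R] B) =
        Module.rank p.asIdeal.ResidueField (p.asIdeal.ResidueField ⊗[R] A))
    (hmax : ∀ (m : Ideal R) [m.IsMaximal],
      Function.Bijective (LinearMap.lTensor m.ResidueField f.toLinearMap)) :
    Function.Bijective f := by
  classical
  -- surjectivity
  have hsurj : Function.Surjective f := by
    let N := LinearMap.range f.toLinearMap
    have hN : N = ⊤ := by
      have hq : Subsingleton (A ⧸ N) := by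
        refine subsingleton_of_forall_eq 0 fun z => ?_
        by_contra hz
        obtain ⟨m, hm, hle⟩ := Ideal.exists_le_maximal (Module.annihilator R (A ⧸ N)) (by
          rw [Ne, Module.annihilator_eq_top_iff]
          exact fun h => hz (Subsingleton.elim _ _))
        have hsupp : (⟨m, hm.isPrime⟩ : PrimeSpectrum R) ∈ Module.support R (A ⧸ N) := by
          rw [Module.mem_support_iff_of_finite]; exact hle
        rw [Module.mem_support_iff_nontrivial_residueField_tensorProduct] at hsupp
        have h1 : Function.Surjective (N.mkQ.lTensor m.ResidueField) := LinearMap.lTensor_surjective _ N.mkQ_surjective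
        have h2 : ∀ y, N.mkQ.lTensor m.ResidueField y = 0 := fun y => by
          obtain ⟨x, rfl⟩ := (hmax m).2 y
          rw [← LinearMap.lTensor_comp_apply, show N.mkQ.comp f.toLinearMap = 0 from LinearMap.range_mkQ_comp _,
            LinearMap.lTensor_zero, LinearMap.zero_apply]
        haveI : Subsingleton (TensorProduct R m.ResidueField (A ⧸ N)) :=
          subsingleton_of_forall_eq 0 fun y => by obtain ⟨x, rfl⟩ := h1 y; exact h2 x
        exact false_of_nontrivial_of_subsingleton (TensorProduct R m.ResidueField (A ⧸ N))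
      exact Submodule.Quotient.subsingleton_iff.mp hq
    intro a
    obtain ⟨b, hb⟩ := (hN.ge Submodule.mem_top : a ∈ N)
    exact ⟨b, hb⟩
  refine ⟨(injective_iff_map_eq_zero f).mpr fun k hk => ?_, hsurj⟩
  suffices h : Ideal.span {k} = ⊥ by simpa using h
  rw [← Submodule.annihilator_eq_top_iff]
  by_contra hne
  obtain ⟨q, hq, hle⟩ := Ideal.exists_le_maximal _ hne
  haveI := hq
  let p := q.comap (algebraMap R B)
  haveI : p.IsPrime := Ideal.comap_isPrime _ _
  let L := Localization.AtPrime p
  let f' : L ⊗[R] B →ₐ[L] L ⊗[R] A := Algebra.TensorProduct.map (AlgHom.id L L) f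
  have hf'coe : ∀ x, f' x = f.toLinearMap.lTensor L x := fun x => by
    induction x using TensorProduct.induction_on with
    | zero => simp
    | tmul l b => simp [f']
    | add a b ha hb => simp [map_add, ha, hb]
  have hf' : Function.Surjective f' := fun y => by
    obtain ⟨x, hx⟩ := LinearMap.lTensor_surjective L (g := f.toLinearMap) hsurj y
    exact ⟨x, (hf'coe x).trans hx⟩
  haveI : Module.Flat L (L ⊗[R] A) := inferInstance
  haveI : Module.Free L (L ⊗[R] A) := Module.free_of_flat_of_isLocalRing
  haveI : Module.FinitePresentation L (L ⊗[R] A) := Module.finitePresentation_of_projective L (L ⊗[R] A)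
  haveI : Algebra.FinitePresentation L (L ⊗[R] A) := inferInstance
  obtain ⟨n, g, hg⟩ := Algebra.FiniteType.iff_quotient_mvPolynomial''.mp (inferInstance : Algebra.FiniteType L (L ⊗[R] B))
  let K' : Ideal (L ⊗[R] B) := RingHom.ker f'.toRingHom
  have hfg : K'.FG := by
    convert! (Algebra.FinitePresentation.ker_fg_of_mvPolynomial (f'.comp g) (hf'.comp hg)).map g.toRingHom
    simp_rw [RingHom.ker_eq_comap_bot, AlgHom.toRingHom_eq_coe, AlgHom.comp_toRingHom]
    rw [← Ideal.comap_comap, Ideal.map_comap_of_surjective (g : MvPolynomial (Fin n) L →+* L ⊗[R] B) hg]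
    exact RingHom.ker_eq_comap_bot _
  -- the fibre map is bijective
  let κ := p.ResidueField
  let fκ : κ ⊗[R] B →ₗ[κ] κ ⊗[R] A := f.toLinearMap.baseChange κ
  have hfκs : Function.Surjective fκ := LinearMap.lTensor_surjective κ (g := f.toLinearMap) hsurj
  haveI : Module.Finite κ (κ ⊗[R] B) := Module.rank_lt_aleph0_iff.mp (by
    rw [hrank ⟨p, inferInstance⟩]; exact Module.rank_lt_aleph0 _ _)
  have hfκ : Function.Injective fκ := (LinearMap.injective_iff_surjective_of_finrank_eq_finrank (by
    rw [Module.finrank, Module.finrank, hrank ⟨p, inferInstance⟩])).mpr hfκs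
  -- a section
  obtain ⟨σ, hσ⟩ := LinearMap.exists_rightInverse_of_surjective f'.toLinearMap (LinearMap.range_eq_top.mpr hf')
  have hmem : ∀ z ∈ K', z ∈ (K'.restrictScalars L) ⊓ (IsLocalRing.maximalIdeal L • (⊤ : Submodule L (L ⊗[R] B))) := by
    intro z hz
    refine ⟨hz, ?_⟩
    let e := TensorProduct.AlgebraTensorModule.cancelBaseChange R L κ κ B
    let e' := TensorProduct.AlgebraTensorModule.cancelBaseChange R L κ κ A
    have hsq : ∀ w : κ ⊗[L] (L ⊗[R] B), fκ (e w) = e' (f'.toLinearMap.lTensor κ w) := fun w => by
      induction w using TensorProduct.induction_on with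
      | zero => simp
      | add a b ha hb => simp [map_add, ha, hb]
      | tmul c y =>
        induction y using TensorProduct.induction_on with
        | zero => simp
        | add a b ha hb => simp only [TensorProduct.tmul_add, map_add, ha, hb]
        | tmul l b => simp [fκ, e, e', f', TensorProduct.smul_tmul']
    have h0 : (1 : κ) ⊗ₜ[L] z = 0 := by
      apply e.injective
      rw [map_zero]
      apply hfκ
      rw [map_zero, hsq, LinearMap.lTensor_tmul, show f'.toLinearMap z = 0 from hz, TensorProduct.tmul_zero, map_zero]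
    have h1 : Submodule.Quotient.mk (p := IsLocalRing.maximalIdeal L • (⊤ : Submodule L (L ⊗[R] B))) z = 0 := by
      apply (TensorProduct.quotTensorEquivQuotSMul (L ⊗[R] B) (IsLocalRing.maximalIdeal L)).symm.injective
      rw [map_zero, TensorProduct.quotTensorEquivQuotSMul_symm_mk]
      exact h0
    exact (Submodule.Quotient.mk_eq_zero _).mp h1
  let P' : Ideal (L ⊗[R] B) := (IsLocalRing.maximalIdeal L).map (algebraMap L (L ⊗[R] B))
  have hK : K' ≤ P' • K' := by
    intro z hz
    obtain ⟨-, hz2⟩ := hmem z hz
    have hproj : ∀ w ∈ IsLocalRing.maximalIdeal L • (⊤ : Submodule L (L ⊗[R] B)), w - σ (f'.toLinearMap w) ∈ P' • K' := by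
      intro w hw
      refine Submodule.smul_induction_on hw (fun a ha y _ => ?_) (fun x y hx hy => ?_)
      ·
        rw [map_smul, map_smul, ← smul_sub, ← algebraMap_smul (L ⊗[R] B) a]
        refine Submodule.smul_mem_smul (Ideal.mem_map_of_mem _ ha) ?_
        show f'.toLinearMap (y - σ (f'.toLinearMap y)) = 0
        rw [map_sub, show f'.toLinearMap (σ (f'.toLinearMap y)) = f'.toLinearMap y from LinearMap.congr_fun hσ _, sub_self]
      · rw [map_add, map_add, add_sub_add_comm]
        exact add_mem hx hy
    have := hproj z hz2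
    rwa [show f'.toLinearMap z = 0 from hz, map_zero, sub_zero] at this
  obtain ⟨r, hr1, hr2⟩ := Submodule.exists_sub_one_mem_and_smul_eq_zero_of_fg_of_le_smul P' K' hfg hK
  have hkK : (1 : L) ⊗ₜ[R] k ∈ K' := by
    show f' ((1 : L) ⊗ₜ[R] k) = 0
    rw [hf'coe, LinearMap.lTensor_tmul, show f.toLinearMap k = 0 from hk, TensorProduct.tmul_zero]
  have h2 : r * ((1 : L) ⊗ₜ[R] k) = 0 := hr2 _ hkK
  let ι := TensorProduct.mk R L B 1
  haveI : IsLocalizedModule p.primeCompl ι :=
    (isLocalizedModule_iff_isBaseChange p.primeCompl L ι).mpr (TensorProduct.isBaseChange R B L)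
  have hP : ∀ w ∈ P', ∃ (s : p.primeCompl) (e0 : B), e0 ∈ q ∧ (s : R) • w = ι e0 := by
    intro w hw
    have hPsmul : P'.restrictScalars L = IsLocalRing.maximalIdeal L • (⊤ : Submodule L (L ⊗[R] B)) :=
      (Ideal.smul_top_eq_map _).symm
    have hw' : w ∈ IsLocalRing.maximalIdeal L • (⊤ : Submodule L (L ⊗[R] B)) := hPsmul ▸ hw
    refine Submodule.smul_induction_on hw' (fun a ha y _ => ?_) (fun x y hx hy => ?_)
    · obtain ⟨⟨a0, s⟩, h⟩ := IsLocalization.surj p.primeCompl a
      obtain ⟨⟨y0, t⟩, ht⟩ := IsLocalizedModule.surj p.primeCompl ι y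
      have ha0 : a0 ∈ p := by
        rw [← IsLocalization.AtPrime.to_map_mem_maximal_iff L p a0]
        rw [← h]; exact Ideal.mul_mem_right _ _ ha
      refine ⟨s * t, algebraMap R B a0 * y0, q.mul_mem_right _ ha0, ?_⟩
      have hh : (s : R) • a = algebraMap R L a0 := by
        rw [Algebra.smul_def, mul_comm]; exact h
      calc ((s * t : p.primeCompl) : R) • a • y = ((s : R) • a) • ((t : R) • y) := by
            rw [Submonoid.coe_mul, mul_smul, smul_comm (t : R) a y, smul_assoc]
        _ = algebraMap R L a0 • ι y0 := by rw [hh]; exact congrArg _ ht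
        _ = ι (algebraMap R B a0 * y0) := by rw [algebraMap_smul, ← map_smul, Algebra.smul_def]
    · obtain ⟨s, x0, hx0, hx⟩ := hx
      obtain ⟨t, y0, hy0, hy⟩ := hy
      refine ⟨s * t, (t : R) • x0 + (s : R) • y0, add_mem ?_ ?_, ?_⟩
      · rw [Algebra.smul_def]; exact q.mul_mem_left _ hx0
      · rw [Algebra.smul_def]; exact q.mul_mem_left _ hy0
      · rw [map_add, map_smul, map_smul, ← hx, ← hy, smul_add, Submonoid.coe_mul, smul_smul, smul_smul, mul_comm (t : R)]
  obtain ⟨s, e0, he0, he⟩ := hP _ hr1
  have h3 : ι ((algebraMap R B s + e0) * k) = 0 := by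
    have h4 : (s : R) • r = ι (algebraMap R B s + e0) := by
      rw [map_add, ← he, ← mul_one (algebraMap R B s), ← Algebra.smul_def, map_smul, smul_sub,
        show ι (1 : B) = (1 : L ⊗[R] B) from rfl, add_sub_cancel]
    calc ι ((algebraMap R B s + e0) * k) = ι (algebraMap R B s + e0) * ι k := by
          simp [ι]
      _ = ((s : R) • r) * ι k := by rw [h4]
      _ = (s : R) • (r * ι k) := smul_mul_assoc _ _ _
      _ = 0 := by rw [show r * ι k = 0 from h2, smul_zero]
  obtain ⟨t, ht⟩ := (IsLocalizedModule.eq_zero_iff (f := ι) p.primeCompl).mp h3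
  have hu : (t : R) • (algebraMap R B s + e0) ∈ q := hle (Submodule.mem_annihilator_span_singleton _ _ |>.mpr (by
    rw [smul_eq_mul, smul_mul_assoc]; exact ht))
  rw [Algebra.smul_def] at hu
  rcases hq.isPrime.mem_or_mem hu with h | h
  · exact t.2 h
  · exact s.2 ((Submodule.add_mem_iff_left q he0).mp h)

end Groth.Agent.S13632
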