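import Groth.Statements.S13646
import Groth.Agent.FModLib.Algz
import Groth.Agent.FComplFlat.Lift

set_option autoImplicit false
set_option backward.isDefEq.respectTransparency false
set_option backward.isDefEq.respectTransparency.types false
open CategoryTheory CategoryTheory.Limits AlgebraicGeometry
universe u
open FSch

namespace Groth.Agent.S13646

/-- Suppose A is a Noetherian adic ring whose ideal of definition is J, put Y = Spec A, take f : X ⟶ Y
separated and of finite type, and write X̂ for the completion of X along f⁻¹(V(J)). An O_X̂-module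
is said to be algebraizable if it is isomorphic to the completion of some coherent O_X-module having
support proper over Y. Given a morphism u : 𝔉 ⟶ 𝔊 of coherent O_X̂-modules for which 𝔊, Ker(u) and
Coker(u) are all algebraizable, the module 𝔉 is algebraizable as well. (In the published version X
is only assumed of finite type over A; here X is kept separated of finite type over A, since that is
the setting where algebraizable modules are defined.) -/
theorem result (A : Type u) [CommRing A] [IsNoetherianRing A] (J : Ideal A) [IsAdicComplete J A]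
    {X : Scheme.{u}} (f : X ⟶ Spec (CommRingCat.of A)) [IsSeparated f] [LocallyOfFiniteType f] [QuasiCompact f]
    (𝓘 : X.IdealSheafData) (h𝓘 : 𝓘 = (FSch.idealSpec A J).comap f)
    (hX : (FSch.completionAlong X 𝓘).IsFormal)
    (𝔉 𝔊 : FSch.ModF (FSch.completionAlong X 𝓘) hX) (h𝔉 : FSch.IsCohF _ hX 𝔉) (h𝔊 : FSch.IsCohF _ hX 𝔊)
    (u : 𝔉 ⟶ 𝔊)
    (a𝔊 : (∃ G : X.Modules, Coh.IsCoh G ∧ ClSub.IsProperOver f (CohB1.support G) ∧
        Nonempty (𝔊 ≅ (FSch.complMod 𝓘 G).realMod hX)))
    (ak : (∃ G : X.Modules, Coh.IsCoh G ∧ ClSub.IsProperOver f (CohB1.support G) ∧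
        Nonempty (kernel u ≅ (FSch.complMod 𝓘 G).realMod hX)))
    (ac : (∃ G : X.Modules, Coh.IsCoh G ∧ ClSub.IsProperOver f (CohB1.support G) ∧
        Nonempty (cokernel u ≅ (FSch.complMod 𝓘 G).realMod hX))) :
    (∃ G : X.Modules, Coh.IsCoh G ∧ ClSub.IsProperOver f (CohB1.support G) ∧
        Nonempty (𝔉 ≅ (FSch.complMod 𝓘 G).realMod hX)) := by
  letI : X.Over (Spec (CommRingCat.of A)) := ⟨f⟩
  haveI : IsSeparated (X ↘ Spec (CommRingCat.of A)) := ‹IsSeparated f›
  haveI : LocallyOfFiniteType (X ↘ Spec (CommRingCat.of A)) := ‹LocallyOfFiniteType f›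
  haveI : QuasiCompact (X ↘ Spec (CommRingCat.of A)) := ‹QuasiCompact f›
  haveI := LocallyOfFiniteType.isLocallyNoetherian f
  have hL := FComplLib.isLocNoethFormal_completionAlong 𝓘
  haveI : PreservesFiniteLimits (FModLib.toY hL.1 (FSch.completionToX X 𝓘) (FSch.completionToX_comm X 𝓘)).pull :=
    SiteBase.isFlat_of_relLift _ (FComplFlat.relLift X 𝓘 hL.1)
  have hk := FModLib.ker_completionToX (I := J) h𝓘
  obtain ⟨ai, -, -⟩ := FModLib.isAlg_kernel_image_cokernel hL (FSch.completionToX X 𝓘) (FSch.completionToX_comm X 𝓘)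
    hk ((FModLib.isAlg_completion_iff 𝓘 hL _).1 a𝔊) ((FModLib.isAlg_completion_iff 𝓘 hL _).1 ac) (cokernel.π u)
  haveI : Epi (Abelian.factorThruImage u) := inferInstance
  let S := ShortComplex.mk (kernel.ι u) (Abelian.factorThruImage u)
    (by rw [← cancel_mono (Abelian.image.ι u), Category.assoc, Abelian.image.fac, kernel.condition, zero_comp])
  have hS : S.Exact := S.exact_of_f_is_kernel
    (isKernelOfComp (Abelian.image.ι u) u (kernelIsKernel u) S.zero (Abelian.image.fac u))
  exact (FModLib.isAlg_completion_iff 𝓘 hL _).2 (FModLib.isAlg_middle hL (FSch.completionToX X 𝓘)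
    (FSch.completionToX_comm X 𝓘) hk S hS h𝔉 ((FModLib.isAlg_completion_iff 𝓘 hL _).1 ak) ai)

end Groth.Agent.S13646
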