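import Groth.Statements.S13650
import Groth.Agent.FModLib.PushLim
import Groth.Agent.FModLib.LimHH
import Groth.Agent.ExtShX.PushH

set_option autoImplicit false
set_option backward.isDefEq.respectTransparency false
set_option backward.isDefEq.respectTransparency.types false
open CategoryTheory CategoryTheory.Limits AlgebraicGeometry
universe u
open FSch

namespace Groth.Agent.S13650

/-- Let A be a Noetherian ring, I an ideal of A, X a scheme proper over Spec A, F a coherent O_X-module,
X̂ the completion of X along the inverse image of V(I), i : X̂ ⟶ X the canonical morphism of ringed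
spaces and F̂ = i^* F its completion. Then for every n the cohomology group H^n(X̂, F̂) of the
formal scheme is isomorphic to the inverse limit lim_k H^n(X, F/I^(k+1)F). Only the existence of an
additive isomorphism is asserted; the published statement asserts that the canonical map ψ_n, built
from the maps H^n(X̂, F̂) ⟶ H^n(X, F/I^(k+1)F), is bijective. -/
theorem result (A : Type u) [CommRing A] [IsNoetherianRing A]
    (I : Ideal A) (X : Scheme.{u}) [X.Over (Spec (CommRingCat.of A))] [IsProper (X ↘ Spec (CommRingCat.of A))]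
    (𝓚 : X.IdealSheafData) (h𝓚 : 𝓚 = (FSch.idealSpec A I).comap (X ↘ Spec (CommRingCat.of A)))
    (hX : (FSch.completionAlong X 𝓚).IsFormal) (F : X.Modules) (hF : Coh.IsCoh F) (n : ℕ) :
    Nonempty (FSch.HF (FSch.completionAlong X 𝓚) hX ((FSch.toSchemeMor (FSch.completionAlong X 𝓚) hX (FSch.completionToX X 𝓚) (FSch.completionToX_comm X 𝓚)).pull.obj F) n ≃+ Formal.HHlim I F n) := by
  haveI := LocallyOfFiniteType.isLocallyNoetherian (X ↘ Spec (CommRingCat.of A))
  have hL := FComplLib.isLocNoethFormal_completionAlong 𝓚
  obtain ⟨e⟩ := FModLib.nonempty_toSheaf_push_pull_iso (FSch.completionToX X 𝓚) (FSch.completionToX_comm X 𝓚)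
    (FModLib.ker_completionToX h𝓚) hL hF
  obtain ⟨E⟩ := FModLib.exists_HH_lim I F hF n
  let i := (FSch.completionToX X 𝓚 0).base
  have hi : Topology.IsClosedEmbedding i := IsClosedImmersion.base_closed (FSch.completionToX X 𝓚 0)
  let G := (SheafOfModules.toSheaf _).obj ((FModLib.toY hX (FSch.completionToX X 𝓚) (FSch.completionToX_comm X 𝓚)).pull.obj F)
  let a : FSch.HF (FSch.completionAlong X 𝓚) hX ((FModLib.toY hX (FSch.completionToX X 𝓚) (FSch.completionToX_comm X 𝓚)).pull.obj F) n ≃+
      CohTop.H ((CohTop.push i).obj G) n :=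
    AddEquiv.ofBijective (ExtShX.pushHMap hi G n) (ExtShX.pushHMap_bijective hi n G)
  let b : CohTop.H ((CohTop.push i).obj G) n ≃+
      Sheaf.H (limit (CohCx.opSequence (FModLib.cF I F) (FModLib.ct I F))) n :=
    ((Sheaf.functorH _ n).mapIso e).addCommGroupIsoToAddEquiv
  exact ⟨a.trans (b.trans E)⟩

end Groth.Agent.S13650
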