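import Groth.Statements.S1366
import Groth.Agent.S0384
import Groth.Agent.EtH0Lib.Components

set_option autoImplicit false
attribute [-instance] CategoryTheory.catToReflQuiver
universe u
open FlatMor

namespace Groth.Agent.S1366

open AlgebraicGeometry CategoryTheory Limits in
/-- Let (A, I) be a henselian pair and X a separated scheme of finite type over Spec A, with X_0 its
base change to Spec (A/I). If Y is an open and closed subset of X_0 which (as an open subscheme) is
proper over Spec (A/I), then there is an open and closed subset W of X, proper over Spec A as an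
open subscheme, whose preimage in X_0 is exactly Y. -/
theorem result {A : Type u} [CommRing A] (I : Ideal A) [HenselianRing A I]
    {X : Scheme.{u}} (f : X ⟶ Spec (CommRingCat.of A)) [IsSeparated f] [LocallyOfFiniteType f] [QuasiCompact f]
    (Y : (pullback f (Spec.map (CommRingCat.ofHom (Ideal.Quotient.mk I)))).Opens) (hYc : IsClosed (Y : Set ↑(pullback f (Spec.map (CommRingCat.ofHom (Ideal.Quotient.mk I))))))
    (hYp : IsProper (Y.ι ≫ pullback.snd f (Spec.map (CommRingCat.ofHom (Ideal.Quotient.mk I))))) :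
    ∃ W : X.Opens, IsClosed (W : Set ↑X) ∧ IsProper (W.ι ≫ f) ∧
      pullback.fst f (Spec.map (CommRingCat.ofHom (Ideal.Quotient.mk I))) ⁻¹ᵁ W = Y := by
  obtain ⟨Xc, j, g, hj, -, hg, hjg⟩ := Groth.Agent.S0384.result f
  haveI := hj
  haveI := hg
  haveI := hYp
  let q := Spec.map (CommRingCat.ofHom (Ideal.Quotient.mk I))
  haveI : IsClosedImmersion q := IsClosedImmersion.spec_of_surjective _ Ideal.Quotient.mk_surjective
  haveI : CompactSpace Xc := QuasiCompact.compactSpace_of_compactSpace g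
  haveI : QuasiSeparatedSpace Xc := quasiSeparatedSpace_of_quasiSeparated g
  haveI : SpectralSpace Xc := {}
  let fst := pullback.fst f q
  let Z := Groth.Agent.EtH0Lib.Zof g I
  have hfr : Set.range fst = Groth.Agent.EtH0Lib.Zof f I := Groth.Agent.EtH0Lib.range_fst_mk' I f
  have hgj : ∀ x : X, g (j x) = f x := fun x => by rw [← Scheme.Hom.comp_apply, hjg]
  have hZj : ∀ x : X, j x ∈ Z ↔ x ∈ Set.range fst := fun x => by
    rw [hfr]
    show g (j x) ∈ PrimeSpectrum.zeroLocus (I : Set A) ↔ f x ∈ PrimeSpectrum.zeroLocus (I : Set A)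
    rw [hgj]
  have hji : Function.Injective j := j.isOpenEmbedding.injective
  have hfi : Function.Injective fst := fst.isClosedEmbedding.injective
  let c : (Y : Scheme.{u}) ⟶ Xc := Y.ι ≫ fst ≫ j
  haveI : IsProper (c ≫ g) := by
    rw [show c ≫ g = (Y.ι ≫ pullback.snd f q) ≫ q by
      simp only [c, fst, Category.assoc, hjg, pullback.condition]]
    haveI : IsProper q := inferInstance
    exact MorphismProperty.comp_mem (W := @IsProper) _ _ hYp ‹IsProper q›
  haveI : IsProper c := IsProper.of_comp c g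
  let T : Set Xc := j '' (fst '' (Y : Set ↑(pullback f q)))
  have hT : T = Set.range c := by
    ext z
    constructor
    · rintro ⟨_, ⟨y, hy, rfl⟩, rfl⟩
      exact ⟨⟨y, hy⟩, by simp only [c, Scheme.Hom.comp_apply]; rfl⟩
    · rintro ⟨⟨y, hy⟩, rfl⟩
      exact ⟨_, ⟨y, hy, rfl⟩, by simp only [c, Scheme.Hom.comp_apply]; rfl⟩
  have hTc : IsClosed T := hT ▸ c.isClosedMap.isClosed_range
  obtain ⟨O, hO, hOY⟩ := fst.isClosedEmbedding.isInducing.isOpen_iff.1 Y.isOpen
  have hTO : T = Z ∩ j '' O := by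
    ext z
    constructor
    · rintro ⟨_, ⟨y, hy, rfl⟩, rfl⟩
      exact ⟨(hZj _).2 ⟨y, rfl⟩, fst y, hOY.ge hy, rfl⟩
    · rintro ⟨hz, o, ho, rfl⟩
      obtain ⟨y, rfl⟩ := (hZj o).1 hz
      exact ⟨_, ⟨y, hOY.le ho, rfl⟩, rfl⟩
  have hT2 : IsClosed (Z \ T) := by
    rw [show Z \ T = Z ∩ (j '' O)ᶜ by rw [hTO]; ext z; simp]
    exact (Groth.Agent.EtH0Lib.isClosed_Zof g I).inter (j.isOpenEmbedding.isOpenMap _ hO).isClosed_compl
  obtain ⟨X₁, X₂, h₁, h₂, hd, hu, e₁, -⟩ := Groth.Agent.EtFound.SpectralPiZero.exists_lift_decomposition Z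
    (fun x => Groth.Agent.EtH0Lib.isConnected_inter_closure_proper I g x) T (Z \ T) hTc hT2 Set.disjoint_sdiff_right
    (Set.union_diff_cancel (hTO ▸ Set.inter_subset_left))
  have hX₁o : IsOpen X₁ := by
    rw [show X₁ = X₂ᶜ from Set.Subset.antisymm (fun x hx => Set.disjoint_left.1 hd hx)
      fun x hx => (hu.ge (Set.mem_univ x)).resolve_right hx]
    exact h₂.isOpen_compl
  have hsub : X₁ ⊆ Set.range j := fun x hx => by
    by_contra hxr
    have hcl : closure ({x} : Set Xc) ⊆ X₁ \ Set.range j :=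
      closure_minimal (Set.singleton_subset_iff.2 ⟨hx, hxr⟩) (h₁.sdiff j.isOpenEmbedding.isOpen_range)
    obtain ⟨z, hzZ, hzx⟩ := (Groth.Agent.EtH0Lib.isConnected_inter_closure_proper I g x).nonempty
    obtain ⟨o, -, hoz⟩ := e₁.ge ⟨hzZ, (hcl hzx).1⟩
    exact (hcl hzx).2 ⟨o, hoz⟩
  let W : X.Opens := ⟨j ⁻¹' X₁, hX₁o.preimage j.continuous⟩
  refine ⟨W, h₁.preimage j.continuous, ?_, ?_⟩
  · haveI : IsClosedImmersion (W.ι ≫ j) := IsClosedImmersion.of_isPreimmersion _ (by
      rw [show Set.range (W.ι ≫ j) = X₁ by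
        ext z
        constructor
        · rintro ⟨⟨w, hw⟩, rfl⟩
          exact hw
        · intro hz
          obtain ⟨w, rfl⟩ := hsub hz
          exact ⟨⟨w, hz⟩, rfl⟩]
      exact h₁)
    rw [← hjg, ← Category.assoc]
    infer_instance
  · refine TopologicalSpace.Opens.ext (Set.ext fun y => ⟨fun hy => ?_, fun hy => ?_⟩)
    · obtain ⟨_, ⟨y', hy', rfl⟩, e⟩ := e₁.ge ⟨(hZj (fst y)).2 ⟨y, rfl⟩, hy⟩
      exact hfi (hji e) ▸ hy'
    · exact (e₁.le ⟨_, ⟨y, hy, rfl⟩, rfl⟩).2

end Groth.Agent.S1366
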