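import Groth.Statements.S13664
import Groth.Agent.H1PosIdeal.Basic

set_option autoImplicit false
universe u
open GrRing

namespace Groth.Agent.S13664

/-- Let A be a commutative ring graded by the integers whose ideal I generated by the homogeneous
elements of positive degree has homogeneous generators f_1, …, f_p, of positive degrees d_1, …, d_p,
let d be a positive integer divisible by each d_i, and let x be an element of an A-module M. The
following are equivalent: x is annihilated by some power of I; x is annihilated by (A_d)^n for all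
sufficiently large n; there is an integer s such that A_n x = 0 for all n ≥ s. (The published
statement is for a homogeneous element of a graded module; this row drops both the grading of M and
the homogeneity of x, which play no role.) -/
theorem result {R A : Type u} [CommRing R] [CommRing A] [Algebra R A]
    (𝒜 : ℤ → Submodule R A) [GradedAlgebra 𝒜]
    {p : ℕ} (f : Fin p → A) (deg : Fin p → ℤ) (hdeg : ∀ i, 0 < deg i) (hf : ∀ i, f i ∈ 𝒜 (deg i))
    (hgen : Ideal.span {a : A | ∃ n : ℤ, 0 < n ∧ a ∈ 𝒜 n} = Ideal.span (Set.range f))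
    (d : ℤ) (hd : 0 < d) (hdvd : ∀ i, deg i ∣ d)
    {M : Type u} [AddCommGroup M] [Module A M] (x : M) :
    [x ∈ GrLC.gam (Ideal.span (Set.range f)) M,
     ∃ n₀ : ℕ, ∀ n : ℕ, n₀ ≤ n → ∀ r ∈ (𝒜 d) ^ n, r • x = 0,
     ∃ s : ℤ, ∀ n : ℤ, s ≤ n → ∀ r ∈ 𝒜 n, r • x = 0].TFAE := by
  classical
  tfae_have 1 → 3 := by
    rintro ⟨n, hn⟩
    refine ⟨n * (∑ i, deg i) + 1, fun N hN r hr => hn r ?_⟩
    exact H1PosIdeal.mem_pow_of_lt 𝒜 f deg hf hgen (∑ i, deg i)
      (Finset.sum_nonneg fun i _ => (hdeg i).le)
      (fun i => Finset.single_le_sum (fun j _ => (hdeg j).le) (Finset.mem_univ i)) n N (by omega) r hr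
  tfae_have 3 → 2 := by
    rintro ⟨s, hs⟩
    refine ⟨s.toNat, fun n hn r hr => hs (n * d) ?_ r ?_⟩
    · have : (n : ℤ) * 1 ≤ n * d := mul_le_mul_of_nonneg_left (by omega) (by positivity)
      omega
    · have hle : ∀ m : ℕ, 𝒜 d ^ m ≤ 𝒜 (m * d) := by
        intro m
        induction m with
        | zero =>
          rw [pow_zero, Submodule.one_le]
          simpa using SetLike.GradedOne.one_mem (A := 𝒜)
        | succ m ih =>
          rw [pow_succ]
          refine Submodule.mul_le.2 fun a ha b hb => ?_
          have h := SetLike.mul_mem_graded (ih ha) hb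
          rwa [show (m : ℤ) * d + d = ((m + 1 : ℕ) : ℤ) * d by push_cast; ring] at h
      exact hle n hr
  tfae_have 2 → 1 := by
    rintro ⟨n₀, hn₀⟩
    let J : Ideal A := LinearMap.ker (LinearMap.toSpanSingleton A M x)
    have hI : Ideal.span (Set.range f) ≤ J.radical := by
      rw [Ideal.span_le]
      rintro _ ⟨i, rfl⟩
      obtain ⟨q, hq⟩ := hdvd i
      have hq0 : 0 ≤ q := by have := hdeg i; nlinarith
      lift q to ℕ using hq0 with q'
      refine ⟨q' * n₀, ?_⟩
      have h1 : f i ^ q' ∈ 𝒜 d := by
        have h := SetLike.pow_mem_graded q' (hf i)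
        rwa [nsmul_eq_mul, mul_comm, ← hq] at h
      have h2 := hn₀ n₀ le_rfl _ (Submodule.pow_mem_pow _ h1 n₀)
      rw [← pow_mul] at h2
      show f i ^ (q' * n₀) • x = 0
      exact h2
    obtain ⟨n, hn⟩ := Ideal.exists_pow_le_of_le_radical_of_fg hI
      (Submodule.fg_span (Set.finite_range f))
    exact ⟨n, fun r hr => hn hr⟩
  tfae_finish

end Groth.Agent.S13664
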