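import Groth.Statements.S13689
import Groth.Agent.ASBunLib.Pow
-- import your own Groth.Agent.* helpers here

set_option autoImplicit false
set_option backward.isDefEq.respectTransparency false
set_option backward.isDefEq.respectTransparency.types false
set_option linter.style.haveILetI false
set_option maxHeartbeats 1000000
universe u
open CategoryTheory CategoryTheory.Limits AlgebraicGeometry
open ASBun

namespace Groth.Agent.S13689
open Groth.Agent

open W4c1astiltbs12 in
/-- Let X be proper over a field k, K an algebraic closure of k with projection π : X_K → X, and E a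
nonzero finite locally free O_X-module which is absolutely rank-one-isotypical: π^*E ≅ L^{⊕r} for
some r and some invertible O_{X_K}-module L that is indecomposable (nonzero, and in any
decomposition as a direct sum one summand is zero; for an invertible module this says X_K is
connected). Then E ≅ G^{⊕n} for some n and some indecomposable finite locally free O_X-module G, and
G is unique: any indecomposable G and G' with E ≅ G^{⊕n} and E ≅ G'^{⊕m} are isomorphic. (The
published statement assumes k infinite and X projective, and its extension in the text X proper and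
geometrically integral; the argument uses only properness of X and indecomposability of the type L,
without which the structure sheaf of two points is a counterexample.) -/
theorem result (k : Type u) [Field k] {X : Scheme.{u}}
    (p : X ⟶ Spec (CommRingCat.of k)) [IsProper p] (K : Type u) [Field K] [Algebra k K]
    [IsAlgClosure k K] (E : X.Modules) (hE : FlatMod.IsFinLocFree E) (hE0 : ¬ IsZero E)
    (L : (W4bk4gw11416.baseChange p K).Modules) (hL : PicF.IsInvertible L)
    (hLi : (¬ IsZero L ∧ ∀ A B : (W4bk4gw11416.baseChange p K).Modules, Nonempty (L ≅ A ⊞ B) → IsZero A ∨ IsZero B))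
    (r : ℕ) (e : Nonempty (bcMod p K E ≅ pow L r)) :
    (∃ (G : X.Modules) (n : ℕ), FlatMod.IsFinLocFree G ∧
      (¬ IsZero G ∧ ∀ A B : X.Modules, Nonempty (G ≅ A ⊞ B) → IsZero A ∨ IsZero B) ∧
      Nonempty (E ≅ pow G n)) ∧
    (∀ (G G' : X.Modules) (n m : ℕ),
      (¬ IsZero G ∧ ∀ A B : X.Modules, Nonempty (G ≅ A ⊞ B) → IsZero A ∨ IsZero B) →
      (¬ IsZero G' ∧ ∀ A B : X.Modules, Nonempty (G' ≅ A ⊞ B) → IsZero A ∨ IsZero B) →
      Nonempty (E ≅ pow G n) → Nonempty (E ≅ pow G' m) → Nonempty (G ≅ G')) := by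
  classical
  letI : X.Over (Spec (CommRingCat.of k)) := ⟨p⟩
  haveI : IsProper (X ↘ Spec (CommRingCat.of k)) := ‹IsProper p›
  letI : (W4bk4gw11416.baseChange p K).Over (Spec (CommRingCat.of K)) := ⟨W4bk4gw11416.baseChangeTo p K⟩
  haveI : IsProper ((W4bk4gw11416.baseChange p K) ↘ Spec (CommRingCat.of K)) :=
    inferInstanceAs (IsProper (Limits.pullback.snd p (Spec.map (CommRingCat.ofHom (algebraMap k K)))))
  haveI := Groth.Agent.CurveCohLib.isNoetherian_of_proper (k := k) (X := X)
  haveI := Groth.Agent.CurveCohLib.isNoetherian_of_proper (k := K) (X := W4bk4gw11416.baseChange p K)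
  haveI := Abelian.hasFiniteBiproducts (C := X.Modules)
  have hEc := Groth.Agent.CurveDeg.isCoh_of_isFinLocFree hE
  have hbc : IsPullback (Limits.pullback.fst p (Spec.map (CommRingCat.ofHom (algebraMap k K))))
      ((W4bk4gw11416.baseChange p K) ↘ Spec (CommRingCat.of K)) (X ↘ Spec (CommRingCat.of k))
      (Spec.map (CommRingCat.ofHom (algebraMap k K))) := IsPullback.of_hasPullback _ _
  let π := Limits.pullback.fst p (Spec.map (CommRingCat.ofHom (algebraMap k K)))
  haveI : (Scheme.Modules.pullback π).Additive :=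
    (Scheme.Modules.pullbackPushforwardAdjunction π).left_adjoint_additive
  obtain ⟨e⟩ := e
  refine ⟨?_, fun G G' n m hG hG' ⟨e₁⟩ ⟨e₂⟩ => ?_⟩
  · haveI : Module.Finite k (E ⟶ E) := Groth.Agent.CurveKS.finite_hom k hEc hEc
    obtain ⟨n, Gs, hGs, ⟨eG⟩⟩ := Groth.Agent.CurveKS.exists_decomposition k E
    have hn : 0 < n := Nat.pos_of_ne_zero fun h => by
      subst h
      exact hE0 (((IsZero.iff_id_eq_zero _).2 (biproduct.hom_ext _ _ fun i => i.elim0)).of_iso eG)
    have hGc : ∀ i, Coh.IsCoh (Gs i) := fun i =>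
      Groth.Agent.ASBunLib.isCoh_of_retract hEc (biproduct.ι Gs i ≫ eG.inv) (eG.hom ≫ biproduct.π Gs i) (by simp)
    have hpow : ∀ i, ∃ s, Nonempty ((Scheme.Modules.pullback π).obj (Gs i) ≅ Groth.Agent.ASBunLib.powM L s) := fun i =>
      Groth.Agent.ASBunLib.exists_pow_of_retract (k := K) hLi (Groth.Agent.ZClosLib.isCoh_pullback π (hGc i)) r
        ((Scheme.Modules.pullback π).map (biproduct.ι Gs i ≫ eG.inv) ≫ e.hom)
        (e.inv ≫ (Scheme.Modules.pullback π).map (eG.hom ≫ biproduct.π Gs i)) (by
          simp only [Category.assoc, Iso.hom_inv_id_assoc]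
          rw [← CategoryTheory.Functor.map_comp, ← CategoryTheory.Functor.map_id]
          congr 1
          simp)
    choose s hs using hpow
    let i₀ : Fin n := ⟨0, hn⟩
    have hiso : ∀ i, Nonempty (Gs i ≅ Gs i₀) := fun i =>
      Groth.Agent.ASBunLib.ind_unique (k := k) (K := K) hbc (hGc i) (hGc i₀) (hGs i) (hGs i₀) L (s i) (s i₀)
        (hs i).some (hs i₀).some
    obtain ⟨eC⟩ : Nonempty (E ≅ Gs i₀ ⊞ cokernel (biproduct.ι Gs i₀ ≫ eG.inv)) := by
      haveI : IsIso ((biproduct.ι Gs i₀ ≫ eG.inv) ≫ eG.hom ≫ biproduct.π Gs i₀) := by simp; infer_instance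
      exact Groth.Agent.ASBunLib.exists_complement _ (eG.hom ≫ biproduct.π Gs i₀)
    exact ⟨Gs i₀, n, Groth.Agent.ASBunLib.isFinLocFree_summand hE eC, hGs i₀,
      ⟨eG ≪≫ biproduct.mapIso (fun i => (hiso i).some) ≪≫ (Groth.Agent.ASBunLib.nonempty_pow_biproduct _ n).some.symm⟩⟩
  · have hn := Groth.Agent.ASBunLib.pos_of_not_isZero hE0 e₁
    obtain ⟨b⟩ := Groth.Agent.ASBunLib.nonempty_pow_biproduct G n
    have hGc : Coh.IsCoh G := Groth.Agent.ASBunLib.isCoh_of_retract hEc
      (biproduct.ι (fun _ : Fin n => G) ⟨0, hn⟩ ≫ b.inv ≫ e₁.inv) (e₁.hom ≫ b.hom ≫ biproduct.π (fun _ : Fin n => G) ⟨0, hn⟩) (by simp)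
    exact (Groth.Agent.ASBunLib.pow_unique (k := k) hG hG' hGc n m (e₁.symm ≪≫ e₂)).2 hn

end Groth.Agent.S13689
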