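import Groth.Statements.S1369
import Groth.Agent.RelAssGen.Scheme

set_option autoImplicit false
universe u
open FlatMor

namespace Groth.Agent.S1369

open AlgebraicGeometry CategoryTheory Limits in
/-- Let f be of finite type with irreducible target, F a quasi-coherent module of finite type on the
source and U an open of the source. If some associated point of F restricted to the generic fibre is
not in U, then over some nonempty open of the target every fibre carries an associated point of F
(restricted to that fibre) outside U. -/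
theorem result {X Y : Scheme.{u}} (f : X ⟶ Y) [IrreducibleSpace ↑Y] [LocallyOfFiniteType f] [QuasiCompact f]
    (F : X.Modules) (hF : Coh.IsCoh F) (U : X.Opens)
    (h : ∃ x ∈ MoreMor.relAss f F, f x = genericPoint ↑Y ∧ x ∉ U) :
    ∃ V : Y.Opens, (V : Set ↑Y).Nonempty ∧ ∀ y ∈ V, ∃ x ∈ MoreMor.relAss f F, f x = y ∧ x ∉ U := by
  obtain ⟨O, hO, h'⟩ := Groth.Agent.RelAssGen.dichotomy f hF U
  have hη : genericPoint ↑Y ∈ O := (genericPoint_spec ↑Y).mem_open_set_iff O.2 |>.2 (by simpa using hO)
  obtain ⟨x, hx, hxη, hxU⟩ := h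
  rcases h' with h' | h'
  · exact absurd (h' hη ⟨hx, hxη⟩) hxU
  · refine ⟨O, hO, fun y hy => ?_⟩
    obtain ⟨z, ⟨hz, hzy⟩, hzU⟩ := Set.not_subset.1 (h' hy)
    exact ⟨z, hz, hzy, hzU⟩

end Groth.Agent.S1369
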