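import Groth.Statements.S13691
import Groth.Agent.ASBunLib.FiniteLevel
import Groth.Agent.CycK.ClosedSupp
-- import your own Groth.Agent.* helpers here

set_option autoImplicit false
set_option backward.isDefEq.respectTransparency false
set_option backward.isDefEq.respectTransparency.types false
set_option linter.style.haveILetI false
set_option maxHeartbeats 1000000
universe u
open CategoryTheory CategoryTheory.Limits AlgebraicGeometry
open ASBun

namespace Groth.Agent.S13691
open Groth.Agent

open W4c1astiltbs12 in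
/-- Let X be proper over a field k and K a separable closure of k such that X_K is connected, with
projection π : X_K → X, and write σ_X for the automorphism of X_K induced by a k-automorphism σ of
K. Let M be an indecomposable finite locally free O_X-module (nonzero, and in any decomposition as a
direct sum one summand is zero) which splits over K into invertible modules with Galois-invariant
classes: π^*M ≅ L_1 ⊕ ⋯ ⊕ L_n with each L_i invertible and σ_X^*L_i ≅ L_i for all σ and i. Then M is
isotypical of invertible type: π^*M ≅ L^{⊕r} for some invertible O_{X_K}-module L and some r ≥ 1,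
and L is unique up to isomorphism with this property. (The published statement omits the invariance
of the summands L_i, and is then contradicted by the direct image on an elliptic curve of the
invertible module of a point defined over a quadratic extension but not over k; its argument also
treats invertible modules on X_K as indecomposable, whence the connectedness hypothesis.) -/
theorem result (k : Type u) [Field k]
    {X : Scheme.{u}} (p : X ⟶ Spec (CommRingCat.of k)) [IsProper p] (K : Type u) [Field K]
    [Algebra k K] [IsSepClosure k K] [ConnectedSpace ↥(W4bk4gw11416.baseChange p K)]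
    (M : X.Modules) (hM : FlatMod.IsFinLocFree M)
    (hMi : (¬ IsZero M ∧ ∀ A B : X.Modules, Nonempty (M ≅ A ⊞ B) → IsZero A ∨ IsZero B))
    (n : ℕ) (Ls : Fin n → (W4bk4gw11416.baseChange p K).Modules) (hLs : ∀ i, PicF.IsInvertible (Ls i))
    (hinv : ∀ (σ : K ≃ₐ[k] K) (i : Fin n),
      Nonempty ((Scheme.Modules.pullback (galAct p K σ)).obj (Ls i) ≅ Ls i))
    (e : Nonempty (bcMod p K M ≅ ∐ Ls)) :
    ∃ (L : (W4bk4gw11416.baseChange p K).Modules) (r : ℕ), PicF.IsInvertible L ∧ 0 < r ∧
      Nonempty (bcMod p K M ≅ pow L r) ∧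
      ∀ (L' : (W4bk4gw11416.baseChange p K).Modules) (r' : ℕ), PicF.IsInvertible L' →
        Nonempty (bcMod p K M ≅ pow L' r') → Nonempty (L' ≅ L) := by
  haveI : IsGalois k K := IsSepClosure.isGalois
  letI : X.Over (Spec (CommRingCat.of k)) := ⟨p⟩
  haveI : IsProper (X ↘ Spec (CommRingCat.of k)) := ‹IsProper p›
  letI : (W4bk4gw11416.baseChange p K).Over (Spec (CommRingCat.of K)) := ⟨W4bk4gw11416.baseChangeTo p K⟩
  haveI : IsProper ((W4bk4gw11416.baseChange p K) ↘ Spec (CommRingCat.of K)) :=
    inferInstanceAs (IsProper (Limits.pullback.snd p (Spec.map (CommRingCat.ofHom (algebraMap k K)))))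
  haveI := Groth.Agent.CurveCohLib.isNoetherian_of_proper (k := k) (X := X)
  haveI : (Scheme.Modules.pullback (proj p K)).Additive :=
    (Scheme.Modules.pullbackPushforwardAdjunction (proj p K)).left_adjoint_additive
  have hMc := Groth.Agent.CurveDeg.isCoh_of_isFinLocFree hM
  have hsq : IsPullback (proj p K) ((W4bk4gw11416.baseChange p K) ↘ Spec (CommRingCat.of K))
      (X ↘ Spec (CommRingCat.of k)) (Spec.map (CommRingCat.ofHom (algebraMap k K))) := IsPullback.of_hasPullback _ _
  obtain ⟨eM⟩ := e
  have hn : n ≠ 0 := fun h0 => by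
    subst h0
    have hz : IsZero (∐ Ls) := by
      refine (IsZero.iff_id_eq_zero _).2 ?_
      exact Limits.Sigma.hom_ext _ _ fun i => i.elim0
    obtain ⟨Z, hz0⟩ := HasZeroObject.zero (C := X.Modules)
    obtain ⟨e0⟩ := Groth.Agent.ASBunLib.nonempty_iso_of_pullback (k := k) (K := K) hsq hMc
      (Groth.Agent.CycK.ClosedSupp.isCoh_of_isZero hz0) ((hz.of_iso eM).iso ((Scheme.Modules.pullback (proj p K)).map_isZero hz0))
    exact hMi.1 (hz0.of_iso e0)
  obtain ⟨n, rfl⟩ := Nat.exists_eq_succ_of_ne_zero hn
  have hind := fun {L : (W4bk4gw11416.baseChange p K).Modules} (h : PicF.IsInvertible L) =>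
    Groth.Agent.ASBunLib.ind_of_invertible (Y := W4bk4gw11416.baseChange p K) h
  obtain ⟨N, d, hN, hNi, hd, ⟨eN⟩⟩ := Groth.Agent.ASBunLib.exists_ind_of_invariant p (Ls 0)
    (Groth.Agent.H23.PullPush.isFinLocFree_of_isInvertible (hLs 0)) (hind (hLs 0)) (fun σ => hinv σ 0)
  classical
  let dl : ∐ Ls ⟶ Ls 0 := Limits.Sigma.desc fun i => if h : i = 0 then eqToHom (congrArg Ls h) else 0
  obtain ⟨r, hr, ⟨er⟩⟩ := Groth.Agent.ASBunLib.nonempty_iso_pow_of_retract (k := k) (K := K) hsq hMc hMi
    (Groth.Agent.CurveDeg.isCoh_of_isFinLocFree hN) (hind (hLs 0)) hd eN (Limits.Sigma.ι Ls 0 ≫ eM.inv) (eM.hom ≫ dl)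
    (by simp [dl])
  refine ⟨Ls 0, r, hLs 0, hr, ⟨er⟩, fun L' r' hL' ⟨e'⟩ => ?_⟩
  obtain ⟨hrr, hiso⟩ := Groth.Agent.ASBunLib.pow_unique (k := K) (hind hL') (hind (hLs 0))
    (Groth.Agent.CurveDeg.isCoh_of_isFinLocFree (Groth.Agent.H23.PullPush.isFinLocFree_of_isInvertible hL')) r' r
    (e'.symm ≪≫ er)
  exact hiso (hrr ▸ hr)

end Groth.Agent.S13691
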