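import Groth.Statements.S13694
import Groth.Agent.ASBunLib.Simple
import Groth.Agent.H23.MaxAbelian
-- import your own Groth.Agent.* helpers here

set_option autoImplicit false
set_option backward.isDefEq.respectTransparency false
set_option backward.isDefEq.respectTransparency.types false
set_option linter.style.haveILetI false
set_option maxHeartbeats 1000000
universe u
open CategoryTheory CategoryTheory.Limits AlgebraicGeometry
open ASBun

namespace Groth.Agent.S13694
open Groth.Agent

open W4c1astiltbs12 in
/-- Let X be a proper, geometrically integral scheme over a field k, K an algebraic closure of k with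
projection π : X_K → X, and E an indecomposable finite locally free O_X-module (nonzero, and in any
decomposition as a direct sum one summand is zero) which is absolutely rank-one-isotypical: π^*E ≅
L^{⊕r} for some invertible O_{X_K}-module L and some r. Then the endomorphism ring of E is a
division ring: every nonzero endomorphism of E is an isomorphism. (The published statement says more
precisely that this ring is a central division algebra over k; only the division-ring property is
stated here.) -/
theorem result (k : Type u) [Field k]
    {X : Scheme.{u}} (p : X ⟶ Spec (CommRingCat.of k)) [IsProper p] [GeometricallyIntegral p]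
    (K : Type u) [Field K] [Algebra k K] [IsAlgClosure k K]
    (E : X.Modules) (hE : FlatMod.IsFinLocFree E)
    (hEi : (¬ IsZero E ∧ ∀ A B : X.Modules, Nonempty (E ≅ A ⊞ B) → IsZero A ∨ IsZero B))
    (L : (W4bk4gw11416.baseChange p K).Modules) (hL : PicF.IsInvertible L) (r : ℕ)
    (e : Nonempty (bcMod p K E ≅ pow L r)) (f : E ⟶ E) (hf : f ≠ 0) : IsIso f := by
  classical
  letI : X.Over (Spec (CommRingCat.of k)) := ⟨p⟩
  haveI : IsProper (X ↘ Spec (CommRingCat.of k)) := ‹IsProper p›
  letI : (W4bk4gw11416.baseChange p K).Over (Spec (CommRingCat.of K)) := ⟨W4bk4gw11416.baseChangeTo p K⟩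
  haveI : IsProper ((W4bk4gw11416.baseChange p K) ↘ Spec (CommRingCat.of K)) :=
    inferInstanceAs (IsProper (Limits.pullback.snd p (Spec.map (CommRingCat.ofHom (algebraMap k K)))))
  haveI : IsAlgClosed K := IsAlgClosure.isAlgClosed k
  haveI : AlgebraicGeometry.IsIntegral (W4bk4gw11416.baseChange p K) :=
    GeometricallyIntegral.isIntegral_of_subsingleton (Limits.pullback.snd p (Spec.map (CommRingCat.ofHom (algebraMap k K))))
  haveI := Groth.Agent.CurveCohLib.isNoetherian_of_proper (k := k) (X := X)
  obtain ⟨e⟩ := e
  have hEc := Groth.Agent.CurveDeg.isCoh_of_isFinLocFree hE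
  haveI : Module.Finite k (E ⟶ E) := Groth.Agent.CurveKS.finite_hom k hEc hEc
  obtain ⟨ι, s, x, y, hs⟩ := Groth.Agent.ASBunLib.exists_unit_sum (k := k) (K := K) (IsPullback.of_hasPullback _ _)
    hEc (fun u hu => Groth.Agent.ASBunLib.isIso_of_ne_zero_invertible (K := K) hL u hu) r e f hf
  obtain ⟨i, -, hi⟩ := Groth.Agent.CurveKS.exists_isIso_of_sum k hEi s _ (by rw [hs]; infer_instance)
  haveI := hi
  haveI : IsIso ((x i ≫ f) ≫ y i) := by simpa [Category.assoc] using hi
  haveI h1 : IsIso (x i ≫ f) := Groth.Agent.CurveKS.isIso_of_comp hEi.1 hEi (x i ≫ f) (y i)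
  haveI : IsIso (x i) := Groth.Agent.CurveKS.isIso_of_comp hEi.1 hEi (x i) f
  exact IsIso.of_isIso_comp_left (x i) f

end Groth.Agent.S13694
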