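import Groth.Statements.S1370
import Groth.Agent.RelAssGen.Cons

set_option autoImplicit false
universe u
open FlatMor

namespace Groth.Agent.S1370

open AlgebraicGeometry CategoryTheory Limits in
/-- Let f be of finite presentation, F a quasi-coherent module of finite presentation on the source, and
U an open of the source which is quasi-compact over the target. Then the set of points y of the
target such that all associated points of F restricted to the fibre over y lie in U is locally
constructible. -/
theorem result {X Y : Scheme.{u}} (f : X ⟶ Y) [LocallyOfFinitePresentation f] [QuasiCompact f] [QuasiSeparated f]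
    (F : X.Modules) (hFq : Coh.IsQCoh F) (hFp : CohB1.IsFP F) (U : X.Opens) [QuasiCompact (U.ι ≫ f)] :
    Topology.IsLocallyConstructible {y : ↑Y | ∀ x ∈ MoreMor.relAss f F, f x = y → x ∈ U} := by
  haveI : QuasiCompact (U.ι ≫ f) := ‹_›
  have h := Groth.Agent.RelAssGen.isLocallyConstructible_locus f hFq hFp U
  convert h using 1
  ext y
  exact ⟨fun h x hx => h x hx.1 hx.2, fun h x hx hxy => h ⟨hx, hxy⟩⟩

end Groth.Agent.S1370
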