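import Groth.Statements.S1371
import Groth.Agent.GenFree.Coker
import Groth.Agent.FlatLoc6.GenFlat

set_option autoImplicit false
universe u
open FlatMor

namespace Groth.Agent.S1371

/-- Let R be a Noetherian domain, R → A → B ring maps of finite type, M a finite A-module, N a finite
B-module and u : M → N an A-linear map. Then there is a nonzero f in R such that the cokernel of u,
localized at f, is a flat module over R[1/f]. -/
theorem result {R A B : Type u} [CommRing R] [IsDomain R] [IsNoetherianRing R] [CommRing A] [CommRing B]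
    [Algebra R A] [Algebra A B] [Algebra R B] [IsScalarTower R A B] [Algebra.FiniteType R A] [Algebra.FiniteType A B]
    {M N : Type u} [AddCommGroup M] [Module A M] [Module R M] [IsScalarTower R A M] [Module.Finite A M]
    [AddCommGroup N] [Module B N] [Module A N] [Module R N] [IsScalarTower A B N] [IsScalarTower R A N] [Module.Finite B N]
    (u : M →ₗ[A] N) :
    ∃ f : R, f ≠ 0 ∧ Module.Flat (Localization.Away f)
      (LocalizedModule (Submonoid.powers f) (N ⧸ (LinearMap.range u).restrictScalars R)) := by
  obtain ⟨n, φ, hφ⟩ := Algebra.FiniteType.iff_quotient_mvPolynomial''.1 (‹Algebra.FiniteType A B›)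
  letI := φ.toRingHom.toAlgebra
  letI := Module.compHom N φ.toRingHom
  haveI : IsScalarTower A (MvPolynomial (Fin n) A) N := ⟨fun r p m => by
    show φ (r • p) • m = r • φ p • m
    rw [map_smul, smul_assoc]⟩
  haveI : IsScalarTower R (MvPolynomial (Fin n) A) N := IsScalarTower.to₁₃₄ R A _ _
  haveI : IsScalarTower (MvPolynomial (Fin n) A) B N := ⟨fun p s m => mul_smul (φ p) s m⟩
  haveI : Module.Finite (MvPolynomial (Fin n) A) B :=
    Module.Finite.of_surjective (Algebra.linearMap (MvPolynomial (Fin n) A) B) hφ
  haveI : Module.Finite (MvPolynomial (Fin n) A) N := Module.Finite.trans B N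
  have hfg : (LinearMap.range u).FG := by
    rw [LinearMap.range_eq_map]; exact Module.Finite.fg_top.map u
  obtain ⟨f, hf, hg⟩ := Groth.Agent.GenFree.exists_gfree_quotient_mvPolynomial (R := R) n N _ hfg
  obtain ⟨ι, ψ, hψ, hr⟩ := hg
  let e := Submodule.Quotient.restrictScalarsEquiv R (LinearMap.range u)
  have hg' : Groth.Agent.GenFree.GFree R f (N ⧸ (LinearMap.range u).restrictScalars R) := by
    refine ⟨ι, e.symm.toLinearMap ∘ₗ ψ, e.symm.injective.comp hψ, fun m => ?_⟩
    obtain ⟨k, c, hc⟩ := hr (e m)
    exact ⟨k, c, by show e.symm (ψ c) = _; rw [hc, ← map_smul, e.symm_apply_apply]⟩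
  haveI := Groth.Agent.FlatLoc6.flat_of_gfree (S := R) (Submonoid.powers f)
    (LocalizedModule.mkLinearMap (Submonoid.powers f) _) (Submonoid.mem_powers f) hg'
  exact ⟨f, hf, (Module.flat_iff_of_isLocalization (Localization.Away f) (Submonoid.powers f) _).mpr inferInstance⟩

end Groth.Agent.S1371
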