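import Groth.Statements.S13712
import Groth.Agent.LimChev.Main

set_option autoImplicit false
set_option linter.style.haveILetI false
universe u
open CategoryTheory CategoryTheory.Limits AlgebraicGeometry
open ZeroCyc

namespace Groth.Agent.S13712

open Groth.Agent

/-- Let f : X → Y and g : Y → S be morphisms of schemes with g separated, such that the composite X → S
is integral with topologically finite fibres (every fibre is a finite set). Then the
scheme-theoretic image Y' of f, with its closed immersion Y' → Y, is integral over S, and Y' → S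
again has topologically finite fibres. (The published statement is for algebraic spaces; this row is
the case of schemes.) -/
theorem result {X Y S : Scheme.{u}} (f : X ⟶ Y) (g : Y ⟶ S)
    [IsSeparated g] [IsIntegralHom (f ≫ g)] (hfin : ∀ s : S, Set.Finite ((f ≫ g).base ⁻¹' {s})) :
    IsIntegralHom (f.imageι ≫ g) ∧ ∀ s : S, Set.Finite ((f.imageι ≫ g).base ⁻¹' {s}) := by
  haveI : UniversallyClosed f := UniversallyClosed.of_comp_of_isSeparated f g
  haveI : IsAffineHom f := IsAffineHom.of_comp f g
  haveI : IsIntegralHom f := IsIntegralHom.iff_universallyClosed_and_isAffineHom.2 ⟨inferInstance, inferInstance⟩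
  haveI : IsAffineHom (f.toImage ≫ f.imageι) := by rw [Scheme.Hom.toImage_imageι]; infer_instance
  haveI : IsAffineHom f.toImage := IsAffineHom.of_comp f.toImage f.imageι
  haveI : UniversallyClosed (f.toImage ≫ f.imageι) := by rw [Scheme.Hom.toImage_imageι]; infer_instance
  haveI : UniversallyClosed f.toImage := UniversallyClosed.of_comp_of_isSeparated f.toImage f.imageι
  haveI : Surjective f.toImage := ⟨by
    rw [← Set.range_eq_univ, ← f.toImage.denseRange.closure_range, f.toImage.isClosedMap.isClosed_range.closure_eq]⟩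
  let q : f.image ⟶ S := f.imageι ≫ g
  have hq : f.toImage ≫ q = f ≫ g := by
    simp only [q, Scheme.Hom.toImage_imageι_assoc]
  haveI : UniversallyClosed (f.toImage ≫ q) := by rw [hq]; infer_instance
  haveI : UniversallyClosed q := UniversallyClosed.of_comp_surjective f.toImage q
  haveI : IsAffineHom q := ⟨fun V hV => by
    have h1 : IsAffineOpen (f.toImage ⁻¹ᵁ (q ⁻¹ᵁ V)) := by
      rw [← Scheme.Hom.comp_preimage, hq]
      exact hV.preimage _
    haveI : IsAffine (f.toImage ⁻¹ᵁ (q ⁻¹ᵁ V) : Scheme) := h1
    haveI : UniversallyClosed (f.toImage ∣_ (q ⁻¹ᵁ V)) := IsZariskiLocalAtTarget.restrict (P := @UniversallyClosed) ‹_› _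
    haveI : Surjective (f.toImage ∣_ (q ⁻¹ᵁ V)) := IsZariskiLocalAtTarget.restrict (P := @Surjective) ‹_› _
    exact LimChev.isAffine_of_surjective (f.toImage ∣_ (q ⁻¹ᵁ V))⟩
  refine ⟨IsIntegralHom.iff_universallyClosed_and_isAffineHom.2 ⟨‹UniversallyClosed q›, ‹IsAffineHom q›⟩, fun s => ?_⟩
  refine ((hfin s).image f.toImage.base).subset fun y hy => ?_
  obtain ⟨x, rfl⟩ := f.toImage.surjective y
  refine ⟨x, ?_, rfl⟩
  rw [← hq]
  exact hy

end Groth.Agent.S13712
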