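import Groth.Statements.S1372
import Groth.Agent.UOpenDesc.Main

set_option autoImplicit false
universe u
open FlatMor

namespace Groth.Agent.S1372
open scoped TensorProduct

open AlgebraicGeometry CategoryTheory Limits in
/-- Let A → B be a ring map and b_1, ..., b_d elements generating B as an A-module. Let h = Σ x_i b_i in
the polynomial ring B[x_1, ..., x_d]. Then universal openness of Spec B → Spec A is equivalent to
openness of the image in Spec A[x_1, ..., x_d] of the basic open D(h). -/
theorem result {A B : Type u} [CommRing A] [CommRing B] [Algebra A B] {d : ℕ} (b : Fin d → B)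
    (hb : Submodule.span A (Set.range b) = ⊤) :
    UniversallyOpen (Spec.map (CommRingCat.ofHom (algebraMap A B))) ↔
      IsOpen (PrimeSpectrum.comap (MvPolynomial.map (σ := Fin d) (algebraMap A B)) ''
        (PrimeSpectrum.basicOpen (∑ i : Fin d, MvPolynomial.X i * MvPolynomial.C (b i)) : Set (PrimeSpectrum (MvPolynomial (Fin d) B)))) := by
  classical
  let e : MvPolynomial (Fin d) A ⊗[A] B ≃+* MvPolynomial (Fin d) B :=
    (Algebra.TensorProduct.comm A (MvPolynomial (Fin d) A) B).toRingEquiv.trans
      (MvPolynomial.algebraTensorAlgEquiv A B).toRingEquiv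
  have he : ∀ (p : MvPolynomial (Fin d) A) (y : B),
      e (p ⊗ₜ y) = MvPolynomial.C y * MvPolynomial.map (algebraMap A B) p := fun p y => by
    simp [e, MvPolynomial.smul_eq_C_mul]
  have h1 : PrimeSpectrum.comap (MvPolynomial.map (σ := Fin d) (algebraMap A B)) =
      PrimeSpectrum.comap (Algebra.TensorProduct.includeLeftRingHom :
        MvPolynomial (Fin d) A →+* MvPolynomial (Fin d) A ⊗[A] B) ∘ PrimeSpectrum.comap e.toRingHom := by
    rw [show MvPolynomial.map (σ := Fin d) (algebraMap A B) = e.toRingHom.comp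
      Algebra.TensorProduct.includeLeftRingHom from RingHom.ext fun p => by simp [he]]
    rfl
  have h2 : e (Groth.Agent.UOpenDesc.testElem (A := A) b 1) =
      ∑ i : Fin d, MvPolynomial.X i * MvPolynomial.C (b i) := by
    simp [Groth.Agent.UOpenDesc.testElem, map_sum, he, mul_comm]
  have key : PrimeSpectrum.comap (MvPolynomial.map (σ := Fin d) (algebraMap A B)) ''
        (PrimeSpectrum.basicOpen (∑ i : Fin d, MvPolynomial.X i * MvPolynomial.C (b i)) :
          Set (PrimeSpectrum (MvPolynomial (Fin d) B))) = Groth.Agent.UOpenDesc.testSet (A := A) b 1 := by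
    rw [h1, Set.image_comp, ← h2]
    refine congrArg (Set.image _) ?_
    have hs : Function.Surjective (PrimeSpectrum.comap e.toRingHom) := fun p =>
      ⟨PrimeSpectrum.comap e.symm.toRingHom p, PrimeSpectrum.ext (Ideal.ext fun x => by simp)⟩
    exact Set.image_preimage_eq (PrimeSpectrum.basicOpen (Groth.Agent.UOpenDesc.testElem (A := A) b 1) : Set _) hs
  rw [key]
  let s := Groth.Agent.UOpenDesc.str A B
  have sq : IsPullback (𝟙 (Spec (CommRingCat.of B))) s (𝟙 _ ≫ s) (𝟙 _) :=
    IsPullback.of_horiz_isIso ⟨by simp⟩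
  have hT : IsPullback (𝟙 (Spec (CommRingCat.of (MvPolynomial (Fin d) A))))
      (Groth.Agent.UOpenDesc.str A (MvPolynomial (Fin d) A))
      (Groth.Agent.UOpenDesc.str A (MvPolynomial (Fin d) A)) (𝟙 _) :=
    IsPullback.of_horiz_isIso ⟨by simp⟩
  have h := Groth.Agent.UOpenDesc.universallyOpen_snd_iff (𝟙 (Spec (CommRingCat.of B))) (r := 1)
    (by
      rw [PrimeSpectrum.basicOpen_one]
      exact (Set.range_eq_univ.mpr fun x => ⟨x, rfl⟩)) b hb (𝟙 _) hT
  refine Iff.trans ?_ h
  exact ⟨fun hu => Groth.Agent.MorLib.Desc.of_two @UniversallyOpen sq (IsPullback.of_hasPullback _ _) hu,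
    fun hu => Groth.Agent.MorLib.Desc.of_two @UniversallyOpen (IsPullback.of_hasPullback _ _) sq hu⟩

end Groth.Agent.S1372
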