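import Groth.Statements.S13728
import Groth.Agent.TSColim.Basic
import Mathlib.Data.Fintype.Perm

set_option autoImplicit false
universe u
open scoped TensorProduct
open ZeroCyc

namespace Groth.Agent.S13728

/-- The functor B ↦ TS^d_A(B) (symmetric tensors of degree d, the invariants of the symmetric group in
the d-fold tensor power) commutes with filtered direct limits. Concretely, let B be the direct limit
of a directed system (B_i, t_ij : B_i → B_j) of commutative algebras over the commutative ring A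
(t_ii the identity, t_jk ∘ t_ij = t_ik) with structure maps φ_i : B_i → B (compatible with the t_ij,
jointly surjective, and an element of B_i vanishing in B vanishes in some B_j). Then every element
of TS^d_A(B) is the image of an element of some TS^d_A(B_i), and an element of TS^d_A(B_i) whose
image in TS^d_A(B) is zero has image zero in TS^d_A(B_j) for some j ≥ i. -/
theorem result {A : Type u} [CommRing A] {B : Type u} [CommRing B] [Algebra A B]
    {ι : Type u} [Preorder ι] [IsDirected ι (fun i j => i ≤ j)] [Nonempty ι]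
    (Bi : ι → Type u) [∀ i, CommRing (Bi i)] [∀ i, Algebra A (Bi i)]
    (t : ∀ i j : ι, i ≤ j → (Bi i →ₐ[A] Bi j)) (φ : ∀ i : ι, Bi i →ₐ[A] B)
    (hcomp : ∀ (i j : ι) (h : i ≤ j), (φ j).comp (t i j h) = φ i)
    (hsurj : ∀ b : B, ∃ (i : ι) (x : Bi i), φ i x = b)
    (hzero : ∀ (i : ι) (x : Bi i), φ i x = 0 → ∃ (j : ι) (h : i ≤ j), t i j h x = 0)
    (hid : ∀ (i : ι) (h : i ≤ i), t i i h = AlgHom.id A (Bi i))
    (htrans : ∀ (i j k : ι) (hij : i ≤ j) (hjk : j ≤ k), (t j k hjk).comp (t i j hij) = t i k (hij.trans hjk)) (d : ℕ) :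
    (∀ z : SymTen.TS A B d, ∃ (i : ι) (y : SymTen.TS A (Bi i) d), SymTen.TSmap A d (φ i) y = z) ∧
      ∀ (i : ι) (y : SymTen.TS A (Bi i) d), SymTen.TSmap A d (φ i) y = 0 →
        ∃ (j : ι) (h : i ≤ j), SymTen.TSmap A d (t i j h) y = 0 := by
  classical
  refine ⟨fun z => ?_, fun i y hy => ?_⟩
  · obtain ⟨i, y, hy⟩ := TSColim.tmap_surj t φ hcomp hsurj d (z : ⨂[A] _ : Fin d, B)
    have h0 : ∀ σ : Equiv.Perm (Fin d), ∃ (j : ι) (h : i ≤ j),
        SymTen.tmap A d (t i j h) (PiTensorProduct.reindex A (fun _ : Fin d => Bi i) σ y - y) = 0 := fun σ => by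
      refine TSColim.tmap_eq_zero t φ hcomp hsurj hzero hid htrans d _ ?_
      rw [map_sub, SymTen.tmap_reindex, hy, z.2 σ, sub_self]
    choose jσ hjσ hσ using h0
    obtain ⟨K, hK⟩ := Finset.exists_le (insert i (Finset.univ.image jσ))
    have hiK : i ≤ K := hK i (Finset.mem_insert_self _ _)
    refine ⟨K, ⟨SymTen.tmap A d (t i K hiK) y, fun σ => ?_⟩, Subtype.ext ?_⟩
    · have hjK : jσ σ ≤ K := hK _ (Finset.mem_insert_of_mem (Finset.mem_image_of_mem jσ (Finset.mem_univ σ)))
      have := congrArg (SymTen.tmap A d (t (jσ σ) K hjK)) (hσ σ)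
      rw [TSColim.tmap_comp, htrans, map_sub, map_zero, sub_eq_zero, SymTen.tmap_reindex] at this
      exact this
    · show SymTen.tmap A d (φ K) (SymTen.tmap A d (t i K hiK) y) = _
      rw [TSColim.φ_tmap t φ hcomp, hy]
  · have h : SymTen.tmap A d (φ i) (y : ⨂[A] _ : Fin d, Bi i) = 0 := congrArg Subtype.val hy
    obtain ⟨j, hij, hj⟩ := TSColim.tmap_eq_zero t φ hcomp hsurj hzero hid htrans d _ h
    exact ⟨j, hij, Subtype.ext hj⟩

end Groth.Agent.S13728
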