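import Groth.Statements.S13732
import Groth.Agent.EtDescX.HRefine
import Groth.Agent.DescLib.SubtrSubm

set_option autoImplicit false
universe u
open HTop

namespace Groth.Agent.S13732

set_option backward.isDefEq.respectTransparency false
set_option backward.isDefEq.respectTransparency.types false


open CategoryTheory CategoryTheory.Limits AlgebraicGeometry in
/-- Let Y be a separated Noetherian scheme and {p_j : Y_j → Y} a finite family of separated quasi-finite
morphisms of finite type whose induced morphism from the disjoint union of the Y_j to Y is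
universally submersive (a qfh-covering). Then there are a finite surjective morphism p : Y' → Y and
finitely many open subschemes V_1, …, V_n covering Y' such that every composite V_i → Y' → Y factors
through some member of the family. -/
theorem result {Y : Scheme.{u}} [IsNoetherian Y] [Y.IsSeparated] (E : PreZeroHypercover.{u} Y) [Finite E.I₀] [∀ j, LocallyOfFiniteType (E.f j)] [∀ j, QuasiCompact (E.f j)] [∀ j, LocallyQuasiFinite (E.f j)] [∀ j, IsSeparated (E.f j)] (hE : SGA1.UnivSubmersive (Sigma.desc E.f)) : ∃ (Y' : Scheme.{u}) (p : Y' ⟶ Y) (n : ℕ) (V : Fin n → Y'.Opens), IsFinite p ∧ Surjective p ∧ ⨆ i, V i = ⊤ ∧ ∀ i, ∃ (j : E.I₀) (h : (↑(V i) : Scheme.{u}) ⟶ E.X j), h ≫ E.f j = (V i).ι ≫ p := by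
  haveI : LocallyOfFiniteType (Sigma.desc E.f) :=
    IsZariskiLocalAtSource.sigmaDesc (P := @LocallyOfFiniteType) fun i => inferInstance
  haveI : LocallyQuasiFinite (Sigma.desc E.f) :=
    IsZariskiLocalAtSource.sigmaDesc (P := @LocallyQuasiFinite) fun i => inferInstance
  haveI : LocallyOfFinitePresentation (Sigma.desc E.f) :=
    AlgStLib.locallyOfFinitePresentation_of_isLocallyNoetherian _ inferInstance
  haveI : QuasiCompact (Sigma.desc E.f) := (quasiCompact_iff _).mpr fun U hU hc => by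
    have e : (Sigma.desc E.f) ⁻¹' U = ⋃ i, Sigma.ι E.X i '' (E.f i ⁻¹' U) := by
      ext z
      obtain ⟨⟨i, w⟩, rfl⟩ := (sigmaMk E.X).surjective z
      rw [sigmaMk_mk]
      refine ⟨fun h => Set.mem_iUnion.2 ⟨i, w, ?_, rfl⟩, fun h => ?_⟩
      · rw [Set.mem_preimage, ← Scheme.Hom.comp_apply, Sigma.ι_desc] at h
        exact h
      · obtain ⟨k, v, hv, hvw⟩ := Set.mem_iUnion.1 h
        rw [Set.mem_preimage, ← hvw, ← Scheme.Hom.comp_apply, Sigma.ι_desc]
        exact hv
    rw [e]
    exact isCompact_iUnion fun i => ((E.f i).isCompact_preimage (U := ⟨U, hU⟩) hc).image (Sigma.ι E.X i).continuous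
  have hsub : Subtr.UnivSSubtrusive (Sigma.desc E.f) :=
    DescLib.univSSubtrusive_of_univSubmersive (Sigma.desc E.f) hE
  obtain ⟨Y', q, ι, _, W, m, hq1, hq2, hq3, hq4, hWc, hWcov, hm⟩ :=
    EtDescX.exists_refine (Sigma.desc E.f) @LocallyQuasiFinite hsub (fun _ _ g hg => inferInstance)
      (EtDescX.hasCompactifications_finite _)
  haveI : CompactSpace Y' := QuasiCompact.compactSpace_of_compactSpace q
  obtain ⟨n, V, -, hV2, hV3⟩ := EtDescX.exists_affine_subcover
    (fun a : ι × E.I₀ => (W a.1).ι ''ᵁ (m a.1 ⁻¹ᵁ (Sigma.ι E.X a.2).opensRange)) fun z => by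
    obtain ⟨a, ha⟩ := hWcov z
    obtain ⟨⟨c, w⟩, hw⟩ := (sigmaMk E.X).surjective (m a ⟨z, ha⟩)
    exact ⟨(a, c), ⟨z, ha⟩, ⟨w, ((sigmaMk_mk _ _ _).symm.trans hw)⟩, rfl⟩
  refine ⟨Y', q, n, V, IsFinite.of_isProper_of_locallyQuasiFinite q, hq3, hV2, fun j => ?_⟩
  obtain ⟨⟨a, c⟩, hle⟩ := hV3 j
  have hWa : V j ≤ W a := hle.trans (((W a).ι.image_le_opensRange _).trans (Scheme.Opens.opensRange_ι _).le)
  let e := Y'.homOfLE hWa
  have he : e ≫ (W a).ι = (V j).ι := Y'.homOfLE_ι hWa
  have hr' : Set.range (e ≫ m a) ⊆ Set.range (Sigma.ι E.X c) := by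
    rintro _ ⟨z, rfl⟩
    obtain ⟨y, hy, hyz⟩ := hle z.2
    have : e z = y := (W a).ι.isOpenEmbedding.injective (by rw [← Scheme.Hom.comp_apply, he]; exact hyz.symm)
    rw [Scheme.Hom.comp_apply, this]
    exact hy
  refine ⟨c, IsOpenImmersion.lift (Sigma.ι E.X c) (e ≫ m a) hr', ?_⟩
  rw [← Sigma.ι_desc E.f c, IsOpenImmersion.lift_fac_assoc, Category.assoc, hm a, reassoc_of% he]

end Groth.Agent.S13732
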