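import Groth.Statements.S13736
import Groth.Agent.S1454
import Groth.Agent.EtDescX.Sect
import Groth.Agent.GITQuot.Descent
import Groth.Agent.DescLib.SubtrSubm
import Groth.Agent.DescLib.SubtrVal

set_option autoImplicit false
universe u
open HTop

namespace Groth.Agent.S13736

set_option backward.isDefEq.respectTransparency false
set_option backward.isDefEq.respectTransparency.types false


open CategoryTheory CategoryTheory.Limits AlgebraicGeometry in
/-- Let X be a separated irreducible Noetherian scheme whose local rings are all geometrically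
unibranch, and {p_i : U_i → X} a finite family of separated quasi-finite morphisms of finite type
with every U_i irreducible. Then the induced morphism from the disjoint union of the U_i to X is
universally submersive (a qfh-covering) if and only if the dominant members p_i are jointly
surjective onto X; in that case the induced morphism from the disjoint union of the dominant members
alone is already universally submersive. (The published statement does not require the U_i
irreducible; for the affine line X over a field and the single member U = (X minus a closed point) ⊔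
(that point) → X, which is dominant and surjective, the quotient property fails, and the published
proof uses that every irreducible component of a dominant member dominates X, so the members are
taken irreducible here.) -/
theorem result {X : Scheme.{u}} [IsNoetherian X] [X.IsSeparated] [IrreducibleSpace ↥X] (hX : ∀ x : X, CAlg2.IsGeomUnibranch (X.presheaf.stalk x)) (E : PreZeroHypercover.{u} X) [Finite E.I₀] [∀ i, LocallyOfFiniteType (E.f i)] [∀ i, QuasiCompact (E.f i)] [∀ i, LocallyQuasiFinite (E.f i)] [∀ i, IsSeparated (E.f i)] [∀ i, IrreducibleSpace ↥(E.X i)] : (SGA1.UnivSubmersive (Sigma.desc E.f) ↔ ∀ x : X, ∃ (i : E.I₀) (u : E.X i), IsDominant (E.f i) ∧ E.f i u = x) ∧ ((∀ x : X, ∃ (i : E.I₀) (u : E.X i), IsDominant (E.f i) ∧ E.f i u = x) → SGA1.UnivSubmersive (Sigma.desc fun j : {i : E.I₀ // IsDominant (E.f i)} => E.f j.1)) := by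
  classical
  have : Fintype E.I₀ := Fintype.ofFinite _
  have hgen : ∀ i, IsDominant (E.f i) → UniversallyOpen (E.f i) := fun i hd => by
    refine Groth.Agent.S1454.result (E.f i) hX fun Z hZ u hu => ?_
    have hZu : Z = Set.univ := by
      rw [irreducibleComponents_eq_singleton] at hZ
      exact hZ
    subst hZu
    refine ⟨Set.univ, by rw [irreducibleComponents_eq_singleton]; rfl, ?_⟩
    rw [isGenericPoint_def]
    have h1 : closure ({(E.f i) u} : Set X) = closure ((E.f i) '' closure {u}) := by
      rw [closure_image_closure (E.f i).continuous, Set.image_singleton]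
    rw [h1, isGenericPoint_def.1 hu, Set.image_univ, hd.denseRange.closure_range]
  have hsub : (∀ x : X, ∃ (i : E.I₀) (u : E.X i), IsDominant (E.f i) ∧ E.f i u = x) →
      SGA1.UnivSubmersive (Sigma.desc fun j : {i : E.I₀ // IsDominant (E.f i)} => E.f j.1) := fun h => by
    have : UniversallyOpen (Sigma.desc fun j : {i : E.I₀ // IsDominant (E.f i)} => E.f j.1) :=
      IsZariskiLocalAtSource.sigmaDesc fun j => hgen j.1 j.2
    have : Surjective (Sigma.desc fun j : {i : E.I₀ // IsDominant (E.f i)} => E.f j.1) := ⟨fun x => by
      obtain ⟨i, u, hi, rfl⟩ := h x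
      exact ⟨Sigma.ι (fun j : {i : E.I₀ // IsDominant (E.f i)} => E.X j.1) ⟨i, hi⟩ u, by
        rw [← Scheme.Hom.comp_apply, Sigma.ι_desc]⟩⟩
    exact Groth.Agent.EtDescX.univSubmersive_of_universallyOpen _
  refine ⟨⟨fun h x => ?_, fun h => ?_⟩, hsub⟩
  · have : QuasiCompact (Sigma.desc E.f) := by
      rw [quasiCompact_iff_forall_isAffineOpen]
      intro U hU
      have : ((Sigma.desc E.f) ⁻¹ᵁ U : Set ↑(∐ E.X)) = ⋃ i, Sigma.ι E.X i '' ((E.f i) ⁻¹' U) := by
        ext z
        obtain ⟨⟨i, z⟩, rfl⟩ := (sigmaMk E.X).surjective z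
        simp only [Set.mem_iUnion, Set.mem_image]
        constructor
        · intro hz
          refine ⟨i, z, ?_, (sigmaMk_mk _ _ _).symm⟩
          show E.f i z ∈ U
          rw [← Sigma.ι_desc E.f i, Scheme.Hom.comp_apply, ← sigmaMk_mk]
          exact hz
        · rintro ⟨j, w, hw, e⟩
          rw [← e]
          show (Sigma.ι E.X j ≫ Sigma.desc E.f) w ∈ U
          rw [Sigma.ι_desc]
          exact hw
      rw [this]
      exact isCompact_iUnion fun i => ((E.f i).isCompact_preimage hU.isCompact).image (Sigma.ι E.X i).continuous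
    have hs := Groth.Agent.DescLib.univSSubtrusive_of_univSubmersive (Sigma.desc E.f) h
    have hs1 : Subtr.IsSSubtrusive (Sigma.desc E.f) := Groth.Agent.DescLib.isSSubtrusive_of_univ hs
    obtain ⟨a, b, hab, ha, hb⟩ := hs1 (y := x) (y' := genericPoint X) (genericPoint_specializes x)
    obtain ⟨⟨i, a⟩, rfl⟩ := (sigmaMk E.X).surjective a
    obtain ⟨⟨k, b⟩, rfl⟩ := (sigmaMk E.X).surjective b
    rw [sigmaMk_mk, sigmaMk_mk] at hab
    have hr : Sigma.ι E.X k b ∈ Set.range (Sigma.ι E.X i) :=
      hab.mem_open (Sigma.ι E.X i).isOpenEmbedding.isOpen_range ⟨a, rfl⟩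
    obtain ⟨b', hb'⟩ := hr
    rw [sigmaMk_mk, ← hb', ← Scheme.Hom.comp_apply, Sigma.ι_desc] at hb
    refine ⟨i, a, ⟨?_⟩, by rw [← ha, sigmaMk_mk, ← Scheme.Hom.comp_apply, Sigma.ι_desc]⟩
    refine Dense.mono (Set.singleton_subset_iff.2 ⟨b', hb⟩) ?_
    rw [dense_iff_closure_eq, genericPoint_closure]
  · let v : (∐ fun j : {i : E.I₀ // IsDominant (E.f i)} => E.X j.1) ⟶ ∐ E.X :=
      Sigma.desc fun j => Sigma.ι E.X j.1
    refine Groth.Agent.GITQuot.isUnivSubmersive_of_comp (f := v) ?_
    have : v ≫ Sigma.desc E.f = Sigma.desc fun j : {i : E.I₀ // IsDominant (E.f i)} => E.f j.1 :=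
      Sigma.hom_ext _ _ fun j => by simp [v]
    rw [this]
    exact hsub h

end Groth.Agent.S13736
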