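import Groth.Statements.S13740
import Groth.Agent.S13739
import Mathlib.AlgebraicGeometry.Morphisms.UniversallyClosed
import Mathlib.AlgebraicGeometry.Limits

set_option autoImplicit false
universe w u
open SGA1

namespace Groth.Agent.S13740

open CategoryTheory CategoryTheory.Limits AlgebraicGeometry in
theorem univSubmersive_of_finite {X Y : Scheme.{u}} (f : X ⟶ Y) [IsFinite f] [Surjective f] :
    SGA1.UnivSubmersive f := by
  intro X' Y' i₁ i₂ f' h
  haveI : IsFinite f' := MorphismProperty.of_isPullback h.flip inferInstance
  haveI : Surjective f' := MorphismProperty.of_isPullback h.flip inferInstance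
  exact f'.isClosedMap.isQuotientMap f'.continuous f'.surjective

open CategoryTheory CategoryTheory.Limits AlgebraicGeometry in
/-- Let S be a separated Noetherian scheme, π : X → S finite and surjective with X separated, G a finite
group acting on X by S-automorphisms and transitively on the geometric points of X over every
geometric point of S, and F a presheaf of sets on schemes satisfying the sheaf condition for every
finite family of quasi-finite morphisms of finite type whose induced morphism from the disjoint
union is universally submersive (a qfh-sheaf). Then pulling back along π identifies F(S) with the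
G-invariant elements of F(X): F(π) is injective with image the invariants. (The published statement
takes F a qfh-sheaf on Noetherian schemes over S; this row takes a presheaf on all schemes with the
sheaf property for every such family, a stronger hypothesis.) -/
theorem result {X S : Scheme.{u}} [IsNoetherian S] [S.IsSeparated] [X.IsSeparated] (q : X ⟶ S) [IsFinite q] [Surjective q] {G : Type u} [Group G] [Finite G] (ρ : G →* Aut X) (hρ : ∀ g : G, (ρ g).hom ≫ q = q) (htrans : ∀ (Ω : Type u) [Field Ω] [IsAlgClosed Ω] (τ₁ τ₂ : Spec (CommRingCat.of Ω) ⟶ X), τ₁ ≫ q = τ₂ ≫ q → ∃ g : G, τ₁ ≫ (ρ g).hom = τ₂) (F : Scheme.{u}ᵒᵖ ⥤ Type w) (hF : ∀ ⦃T : Scheme.{u}⦄ (E : PreZeroHypercover.{u} T), Finite E.I₀ → (∀ i, LocallyOfFiniteType (E.f i)) → (∀ i, QuasiCompact (E.f i)) → (∀ i, LocallyQuasiFinite (E.f i)) → SGA1.UnivSubmersive (Sigma.desc E.f) → Presieve.IsSheafFor F E.presieve₀) : Function.Injective (F.map q.op) ∧ Set.range (F.map q.op) = {f : F.obj (Opposite.op X) | ∀ g : G, F.map (ρ g).hom.op f = f} := by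
  have singleton : ∀ {A B : Scheme.{u}} (f : A ⟶ B) [IsFinite f] [Surjective f],
      Presieve.IsSheafFor F (Presieve.ofArrows (fun _ : PUnit.{u+1} => A) (fun _ => f)) := by
    intro A B f _ _
    let E : PreZeroHypercover.{u} B := ⟨PUnit.{u+1}, fun _ => A, fun _ => f⟩
    have hd : Sigma.desc E.f = (coproductUniqueIso (fun _ : PUnit.{u+1} => A)).hom ≫ f := by
      refine Sigma.hom_ext _ _ fun i => ?_
      simp [E]
    haveI : IsFinite (Sigma.desc E.f) := by rw [hd]; infer_instance
    haveI : Surjective (Sigma.desc E.f) := by rw [hd]; infer_instance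
    exact hF E inferInstance (fun _ => (inferInstance : LocallyOfFiniteType f))
      (fun _ => (inferInstance : QuasiCompact f)) (fun _ => (inferInstance : LocallyQuasiFinite f))
      (univSubmersive_of_finite _)
  have hq := singleton q
  rw [Presieve.isSheafFor_arrows_iff] at hq
  constructor
  · intro a b hab
    obtain ⟨t, -, hu⟩ := hq (fun _ => F.map q.op a) (fun _ _ Z gi gj hg => by
      rw [← Functor.map_comp_apply, ← Functor.map_comp_apply, ← op_comp, ← op_comp, hg])
    exact (hu a fun _ => rfl).trans (hu b fun _ => hab.symm).symm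
  · apply subset_antisymm
    · rintro _ ⟨s, rfl⟩ g
      rw [← Functor.map_comp_apply, ← op_comp, hρ g]
    · intro x hx
      let υ : (∐ fun _ : G => X) ⟶ pullback (𝟙 X ≫ q) q :=
        Sigma.desc fun σ => pullback.lift (𝟙 X) (ρ σ).hom (by simp [hρ σ])
      have h₁ : ∀ σ : G, Sigma.ι (fun _ : G => X) σ ≫ υ ≫ pullback.fst (𝟙 X ≫ q) q = 𝟙 X := by
        intro σ; rw [Sigma.ι_desc_assoc]; exact pullback.lift_fst _ _ _
      have h₂ : ∀ σ : G, Sigma.ι (fun _ : G => X) σ ≫ υ ≫ pullback.snd (𝟙 X ≫ q) q =
          𝟙 X ≫ (ρ σ).hom := by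
        intro σ; rw [Sigma.ι_desc_assoc]; exact (pullback.lift_snd _ _ _).trans (Category.id_comp _).symm
      obtain ⟨_, _⟩ := Groth.Agent.S13739.result q ρ hρ htrans (𝟙 X) υ h₁ h₂
      have hsep : ∀ a b : F.obj (Opposite.op (pullback (𝟙 X ≫ q) q)),
          (∀ σ : G, F.map (Sigma.ι (fun _ : G => X) σ ≫ υ).op a =
            F.map (Sigma.ι (fun _ : G => X) σ ≫ υ).op b) → a = b := by
        intro a b hab
        let E : PreZeroHypercover.{u} (pullback (𝟙 X ≫ q) q) :=
          ⟨G, fun _ => X, fun σ => Sigma.ι (fun _ : G => X) σ ≫ υ⟩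
        have hd : Sigma.desc E.f = υ := by
          refine Sigma.hom_ext _ _ fun i => ?_
          simp [E]
        have hfin : ∀ σ, IsFinite (E.f σ) := fun σ => by
          haveI : IsClosedImmersion ((Sigma.ι (fun _ : G => X) σ ≫ υ) ≫ pullback.fst (𝟙 X ≫ q) q) := by
            rw [Category.assoc, h₁]; infer_instance
          haveI := IsClosedImmersion.of_comp (Sigma.ι (fun _ : G => X) σ ≫ υ) (pullback.fst (𝟙 X ≫ q) q)
          exact (inferInstance : IsFinite (Sigma.ι (fun _ : G => X) σ ≫ υ))
        have := hF E (inferInstanceAs (Finite G)) (fun σ => haveI := hfin σ; inferInstance)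
          (fun σ => haveI := hfin σ; inferInstance) (fun σ => haveI := hfin σ; inferInstance)
          (by rw [hd]; exact univSubmersive_of_finite υ)
        exact this.isSeparatedFor.ext fun Y f hf => by
          cases hf with | mk σ => exact hab σ
      have key : F.map (pullback.fst (𝟙 X ≫ q) q).op x = F.map (pullback.snd (𝟙 X ≫ q) q).op x := by
        apply hsep
        intro σ
        rw [← Functor.map_comp_apply, ← Functor.map_comp_apply, ← op_comp, ← op_comp,
          Category.assoc, Category.assoc, h₁, h₂]
        simp [hx σ]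
      obtain ⟨t, ht, -⟩ := hq (fun _ => x) (fun _ _ Z gi gj hg => by
        let l : Z ⟶ pullback (𝟙 X ≫ q) q := pullback.lift gi gj (by simpa using hg)
        have e₁ : l ≫ pullback.fst _ _ = gi := pullback.lift_fst _ _ _
        have e₂ : l ≫ pullback.snd _ _ = gj := pullback.lift_snd _ _ _
        rw [← e₁, ← e₂, op_comp, op_comp, Functor.map_comp_apply, Functor.map_comp_apply, key])
      exact ⟨t, ht PUnit.unit⟩

end Groth.Agent.S13740
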