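import Groth.Statements.S13746
import Groth.Agent.DvrPushIso

set_option autoImplicit false
set_option backward.isDefEq.respectTransparency false
set_option backward.isDefEq.respectTransparency.types false
set_option maxHeartbeats 1000000
set_option linter.style.haveILetI false
universe u
open CategoryTheory AlgebraicGeometry
open SemiFact

namespace Groth.Agent.S13746

open Groth.Agent

/-- Let R be a discrete valuation ring with fraction field K, let X and Y be schemes flat over Spec R
and let π : Y → X be a proper morphism over Spec R whose base change along Spec K → Spec R is an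
isomorphism. If the fibre of X over the closed point of Spec R is reduced, then the canonical map
O_X → π_* O_Y is an isomorphism: for every open V ⊆ X the ring map O_X(V) → O_Y(π⁻¹ V) is bijective. -/
theorem result
    (R : Type u) [CommRing R] [IsDomain R] [IsDiscreteValuationRing R]
    (X Y : Over (Spec (CommRingCat.of R))) [Flat X.hom] [Flat Y.hom]
    (π : Y ⟶ X) [IsProper π.left]
    (hgen : IsIso ((Neron.genericFibre R).map π))
    [IsReduced (X.hom.fiber (IsLocalRing.closedPoint R))] :
    ∀ V : X.left.Opens, IsIso (π.left.app V) := by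
  obtain ⟨ϖ, hϖ⟩ := IsDiscreteValuationRing.exists_irreducible R
  haveI hloc : IsLocalization.Away ϖ (FractionRing R) := by
    refine ⟨?_, fun z => ?_, fun {a b} h => ⟨1, by rw [IsFractionRing.injective R (FractionRing R) h]⟩⟩
    · rintro ⟨_, n, rfl⟩
      exact IsUnit.mk0 _ ((map_ne_zero_iff _ (IsFractionRing.injective R (FractionRing R))).2 (pow_ne_zero n hϖ.ne_zero))
    · obtain ⟨⟨a, s, hs⟩, hz⟩ := IsLocalization.surj (nonZeroDivisors R) z
      obtain ⟨n, u, rfl⟩ := IsDiscreteValuationRing.eq_unit_mul_pow_irreducible (nonZeroDivisors.ne_zero hs) hϖ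
      refine ⟨⟨↑u⁻¹ * a, ϖ ^ n, n, rfl⟩, ?_⟩
      show z * algebraMap R _ (ϖ ^ n) = algebraMap R _ (↑u⁻¹ * a)
      rw [map_mul, ← hz, mul_left_comm, ← map_mul, Units.inv_mul_cancel_left]
  haveI : IsOpenImmersion (Neron.genPt R) := IsOpenImmersion.of_isLocalization ϖ
  let j := Limits.pullback.fst X.hom (Neron.genPt R)
  haveI : IsOpenImmersion j := inferInstance
  have hW : j.opensRange = X.left.basicOpen (DvrPushIso.str X.hom ⊤ ϖ) := by
    have h1 : (Neron.genPt R).opensRange = (Spec (CommRingCat.of R)).basicOpen
        ((Scheme.ΓSpecIso (CommRingCat.of R)).inv ϖ) := by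
      rw [basicOpen_eq_of_affine', Iso.inv_hom_id_apply]
      exact TopologicalSpace.Opens.ext (PrimeSpectrum.localization_away_comap_range (FractionRing R) ϖ)
    rw [Scheme.Hom.opensRange_pullbackFst, h1, Scheme.preimage_basicOpen]
    congr 1
    simp [DvrPushIso.str, Scheme.Hom.app_eq_appLE]
  let m := ((Neron.genericFibre R).map π).left
  haveI : IsIso m := inferInstanceAs (IsIso ((Over.forget _).map ((Neron.genericFibre R).map π)))
  have hm1 : m ≫ j = Limits.pullback.fst Y.hom (Neron.genPt R) ≫ π.left := by
    simp [m, j]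
  have hm2 : m ≫ Limits.pullback.snd X.hom (Neron.genPt R) = Limits.pullback.snd Y.hom (Neron.genPt R) := by
    simp [m]
  have hsq : IsPullback (Limits.pullback.fst Y.hom (Neron.genPt R)) m π.left j := by
    refine IsPullback.of_bot ?_ hm1.symm (IsPullback.of_hasPullback X.hom (Neron.genPt R))
    rw [Over.w π, hm2]
    exact IsPullback.of_hasPullback Y.hom (Neron.genPt R)
  haveI : IsIso (π.left ∣_ j.opensRange) := by
    haveI : IsIso (Limits.pullback.snd π.left j) := by
      rw [← hsq.isoPullback_inv_snd]
      infer_instance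
    exact ((MorphismProperty.isomorphisms Scheme.{u}).arrow_mk_iso_iff
      (morphismRestrictOpensRange π.left j)).2 (MorphismProperty.isomorphisms.infer_property _)
  haveI : Flat (π.left ≫ X.hom) := by rw [Over.w π]; infer_instance
  intro V
  refine DvrPushIso.isIso_app (f := X.hom) hϖ (fun O hO => ?_) V
  obtain ⟨O', rfl⟩ : ∃ O', j.opensRange.ι ''ᵁ O' = O := ⟨j.opensRange.ι ⁻¹ᵁ O, by
    rw [Scheme.Hom.image_preimage_eq_opensRange_inf, Scheme.Opens.opensRange_ι]
    exact inf_eq_right.2 (hW ▸ hO)⟩
  have h2 := morphismRestrict_app π.left j.opensRange O'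
  haveI : IsIso ((π.left ∣_ j.opensRange).app O') := inferInstance
  rw [h2] at this
  exact IsIso.of_isIso_comp_right _ (Y.left.presheaf.map (eqToHom (image_morphismRestrict_preimage π.left j.opensRange O')).op)

end Groth.Agent.S13746
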