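import Groth.Statements.S13749
import Groth.Agent.NeronFlatDesc.Basic

set_option autoImplicit false
set_option backward.isDefEq.respectTransparency false
set_option backward.isDefEq.respectTransparency.types false
set_option maxHeartbeats 1000000
set_option linter.style.haveILetI false
universe u
open CategoryTheory AlgebraicGeometry
open Neron

open CategoryTheory.Limits

namespace Groth.Agent.S13749

/-- Let S be a locally Noetherian scheme, U ⊆ S a schematically dense open subscheme, N → S a smooth
separated morphism of finite type and g : S' → S a flat surjective morphism, and put U' = g⁻¹(U).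
Suppose the base change N ×_S S' → S' has the Néron mapping property with respect to U': for every
smooth S'-scheme Y', sending an S'-morphism Y' → N ×_S S' to its restriction over U' is a bijection
onto the U'-morphisms Y' ×_{S'} U' → (N ×_S S') ×_{S'} U'. Then N → S has the Néron mapping property
with respect to U: for every smooth S-scheme Y, restriction to U is a bijection from S-morphisms Y →
N onto U-morphisms Y ×_S U → N ×_S U. (The published statement is for an arbitrary base S and open
U, with N an algebraic space which is a model of an abelian scheme over U, tested against smooth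
schemes; this row takes N a scheme, drops the abelian-scheme hypothesis, and assumes S locally
Noetherian with U schematically dense, the setting in which schematic closures of U-sections commute
with flat base change and fill S'.) -/
theorem result
    {S S' : Scheme.{u}} [IsLocallyNoetherian S] (g : S' ⟶ S) [Flat g] [Surjective g]
    (U : S.Opens) (hU : CInt.IsSchematicallyDense U)
    (N : Over S) [Smooth N.hom] [IsSeparated N.hom] [QuasiCompact N.hom]
    (hN' : ∀ Y' : Over S', Smooth Y'.hom →
      Function.Bijective (fun f : Y' ⟶ (Over.pullback g).obj N => (Over.pullback (g ⁻¹ᵁ U).ι).map f))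
    (Y : Over S) [Smooth Y.hom] :
    Function.Bijective (fun f : Y ⟶ N => (Over.pullback U.ι).map f) := by
  haveI : IsLocallyNoetherian Y.left := LocallyOfFiniteType.isLocallyNoetherian Y.hom
  let W := Y.hom ⁻¹ᵁ U
  have hW : CInt.IsSchematicallyDense W := Groth.Agent.S3844.result Y.hom U hU
  let q : (W : Scheme.{u}) ⟶ Limits.pullback Y.hom U.ι :=
    pullback.lift W.ι (Y.hom ∣_ U) (morphismRestrict_ι _ _).symm
  let n : Limits.pullback Y.hom U.ι ⟶ (W : Scheme.{u}) :=
    IsOpenImmersion.lift W.ι (pullback.fst Y.hom U.ι) (by
      rw [Scheme.Opens.range_ι]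
      rintro _ ⟨z, rfl⟩
      show Y.hom (pullback.fst Y.hom U.ι z) ∈ U
      rw [← Scheme.Hom.comp_apply, pullback.condition, Scheme.Hom.comp_apply]
      exact ((pullback.snd Y.hom U.ι) z).2)
  have hn : n ≫ W.ι = pullback.fst Y.hom U.ι := IsOpenImmersion.lift_fac _ _ _
  have hqn : n ≫ q = 𝟙 _ := by
    apply pullback.hom_ext
    · simp [q, hn]
    · rw [← cancel_mono U.ι]
      simp [q, Category.assoc, reassoc_of% hn, pullback.condition]
      show n ≫ W.ι ≫ Y.hom = _
      rw [reassoc_of% hn, pullback.condition]
  constructor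
  · intro f₁ f₂ h
    simp only at h
    rw [Groth.Agent.Neron6.pullback_map_eq_iff] at h
    apply Over.OverMorphism.ext
    refine Groth.Agent.SchDenseLib.hom_ext hW N.hom _ _ ((Over.w f₁).trans (Over.w f₂).symm) ?_
    rw [← show q ≫ pullback.fst Y.hom U.ι = W.ι from pullback.lift_fst _ _ _, Category.assoc, Category.assoc, h]
  · intro b
    have hb : b.left ≫ pullback.snd N.hom U.ι = pullback.snd Y.hom U.ι := Over.w b
    let gW : (W : Scheme.{u}) ⟶ N.left := q ≫ b.left ≫ pullback.fst N.hom U.ι
    have hgW : gW ≫ N.hom = W.ι ≫ Y.hom := by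
      simp only [gW, Category.assoc, pullback.condition]
      rw [reassoc_of% hb]
      exact (pullback.lift_snd_assoc _ _ _ _).trans (morphismRestrict_ι _ _)
    let Y' := (Over.pullback g).obj Y
    haveI : Smooth Y'.hom := inferInstanceAs (Smooth (pullback.snd Y.hom g))
    let V := g ⁻¹ᵁ U
    let p := pullback.fst Y.hom g
    let m : Limits.pullback (pullback.snd Y.hom g) V.ι ⟶ (W : Scheme.{u}) :=
      IsOpenImmersion.lift W.ι (pullback.fst (pullback.snd Y.hom g) V.ι ≫ p) (by
        rw [Scheme.Opens.range_ι]
        rintro _ ⟨z, rfl⟩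
        show Y.hom ((pullback.fst (pullback.snd Y.hom g) V.ι ≫ p) z) ∈ U
        rw [← Scheme.Hom.comp_apply, Category.assoc, pullback.condition, pullback.condition_assoc,
          Scheme.Hom.comp_apply, Scheme.Hom.comp_apply]
        exact ((pullback.snd (pullback.snd Y.hom g) V.ι) z).2)
    have hm : m ≫ W.ι = pullback.fst (pullback.snd Y.hom g) V.ι ≫ p := IsOpenImmersion.lift_fac _ _ _
    have hk : (m ≫ gW) ≫ N.hom = (pullback.snd (pullback.snd Y.hom g) V.ι ≫ V.ι) ≫ g := by
      rw [Category.assoc, hgW, reassoc_of% hm, pullback.condition, pullback.condition_assoc, Category.assoc]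
    let b' : (Over.pullback V.ι).obj Y' ⟶ (Over.pullback V.ι).obj ((Over.pullback g).obj N) :=
      Over.homMk (pullback.lift (pullback.lift (m ≫ gW) (pullback.snd _ _ ≫ V.ι) hk) (pullback.snd _ _)
        (pullback.lift_snd _ _ _)) (pullback.lift_snd _ _ _)
    obtain ⟨f', hf'⟩ := (hN' Y' inferInstance).2 b'
    have hf'' : pullback.fst (pullback.snd Y.hom g) V.ι ≫ f'.left ≫ pullback.fst N.hom g = m ≫ gW := by
      have h1 := congrArg (fun z => z.left ≫ pullback.fst ((Over.pullback g).obj N).hom V.ι ≫ pullback.fst N.hom g) hf'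
      exact (Category.assoc _ _ _).symm.trans ((pullback.lift_fst_assoc _ _ _ _).symm.trans
        (h1.trans ((pullback.lift_fst_assoc _ _ _ _).trans (pullback.lift_fst _ _ _))))
    obtain ⟨h, hhS, hh⟩ := Groth.Agent.NeronFlatDesc.exists_ext Y.hom N.hom p W hW gW hgW
      (f'.left ≫ pullback.fst N.hom g) (by
        rw [Category.assoc, pullback.condition, pullback.condition]
        exact (Category.assoc _ _ _).symm.trans (congrArg (· ≫ g) (Over.w f'))) (by
        have hr : Set.range ((p ⁻¹ᵁ W).ι ≫ pullback.snd Y.hom g) ⊆ Set.range V.ι := by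
          rw [Scheme.Opens.range_ι]
          rintro _ ⟨z, rfl⟩
          show g (((p ⁻¹ᵁ W).ι ≫ pullback.snd Y.hom g) z) ∈ U
          rw [← Scheme.Hom.comp_apply, Category.assoc, ← pullback.condition]
          exact z.2
        let r : ((p ⁻¹ᵁ W) : Scheme.{u}) ⟶ Limits.pullback (pullback.snd Y.hom g) V.ι :=
          pullback.lift (p ⁻¹ᵁ W).ι (IsOpenImmersion.lift V.ι _ hr) (IsOpenImmersion.lift_fac _ _ _).symm
        have hrm : r ≫ m = p ∣_ W := by
          rw [← cancel_mono W.ι, Category.assoc, hm, pullback.lift_fst_assoc, morphismRestrict_ι]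
        rw [← hrm, Category.assoc, ← hf'', pullback.lift_fst_assoc])
    refine ⟨Over.homMk h hhS, Groth.Agent.Neron6.pullback_hom_ext U.ι _ _ ?_⟩
    rw [Groth.Agent.Neron6.pullback_map_fst]
    show pullback.fst Y.hom U.ι ≫ h = b.left ≫ pullback.fst N.hom U.ι
    rw [← hn, Category.assoc, hh]
    show n ≫ q ≫ b.left ≫ pullback.fst N.hom U.ι = _
    rw [reassoc_of% hqn]

end Groth.Agent.S13749
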