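import Groth.Statements.S13750
import Groth.Agent.NeronStalk.Local

set_option autoImplicit false
set_option backward.isDefEq.respectTransparency false
set_option backward.isDefEq.respectTransparency.types false
set_option maxHeartbeats 1000000
set_option linter.style.haveILetI false
universe u
open CategoryTheory AlgebraicGeometry
open Neron

set_option backward.isDefEq.respectTransparency false
set_option backward.isDefEq.respectTransparency.types false

namespace Groth.Agent.S13750

open CategoryTheory.Limits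

theorem bijective_of_local {S S₀ : Scheme.{u}} (σ : S₀ ⟶ S) (U : S.Opens) (N : Over S) (Y' : Over S₀)
    (W : Y'.left.Opens) (hW : W = Y'.hom ⁻¹ᵁ (σ ⁻¹ᵁ U))
    (heq : ∀ a b : Y'.left ⟶ N.left, a ≫ N.hom = Y'.hom ≫ σ → b ≫ N.hom = Y'.hom ≫ σ →
      W.ι ≫ a = W.ι ≫ b → a = b)
    (hex : ∀ g : (W : Scheme.{u}) ⟶ N.left, g ≫ N.hom = W.ι ≫ Y'.hom ≫ σ →
      ∃ a : Y'.left ⟶ N.left, a ≫ N.hom = Y'.hom ≫ σ ∧ W.ι ≫ a = g) :
    Function.Bijective (fun f : Y' ⟶ (Over.pullback σ).obj N => (Over.pullback (σ ⁻¹ᵁ U).ι).map f) := by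
  subst hW
  let U' := σ ⁻¹ᵁ U
  let W := Y'.hom ⁻¹ᵁ U'
  obtain ⟨q, hq⟩ : ∃ q : (W : Scheme.{u}) ⟶ pullback Y'.hom U'.ι, q ≫ pullback.fst Y'.hom U'.ι = W.ι :=
    ⟨pullback.lift W.ι (Y'.hom ∣_ U') (morphismRestrict_ι _ _).symm, pullback.lift_fst _ _ _⟩
  obtain ⟨n, hn⟩ : ∃ n : pullback Y'.hom U'.ι ⟶ (W : Scheme.{u}), n ≫ W.ι = pullback.fst Y'.hom U'.ι :=
    ⟨IsOpenImmersion.lift W.ι (pullback.fst Y'.hom U'.ι) (by
      rw [Scheme.Opens.range_ι]
      rintro _ ⟨z, rfl⟩
      show Y'.hom (pullback.fst Y'.hom U'.ι z) ∈ U'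
      rw [← Scheme.Hom.comp_apply, pullback.condition, Scheme.Hom.comp_apply]
      exact ((pullback.snd Y'.hom U'.ι) z).2), IsOpenImmersion.lift_fac _ _ _⟩
  constructor
  · intro f₁ f₂ h
    simp only at h
    rw [Groth.Agent.Neron6.pullback_map_eq_iff] at h
    refine Groth.Agent.Neron6.pullback_hom_ext σ _ _ ?_
    have hw : ∀ f : Y' ⟶ (Over.pullback σ).obj N, (f.left ≫ pullback.fst N.hom σ) ≫ N.hom = Y'.hom ≫ σ :=
      fun f => by
        rw [Category.assoc, pullback.condition]
        exact (Category.assoc _ _ _).symm.trans (congrArg (· ≫ σ) (Over.w f))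
    refine heq _ _ (hw f₁) (hw f₂) ?_
    show W.ι ≫ _ = W.ι ≫ _
    rw [← hq]
    simp only [Category.assoc]
    refine congrArg (q ≫ ·) ?_
    exact (Category.assoc _ _ _).symm.trans ((congrArg (· ≫ pullback.fst N.hom σ) h).trans (Category.assoc _ _ _))
  · intro b
    have hb : b.left ≫ pullback.snd ((Over.pullback σ).obj N).hom U'.ι = pullback.snd Y'.hom U'.ι := Over.w b
    have hbS : (b.left ≫ pullback.fst ((Over.pullback σ).obj N).hom U'.ι) ≫ pullback.snd N.hom σ =
        pullback.fst Y'.hom U'.ι ≫ Y'.hom :=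
      (Category.assoc _ _ _).trans (((congrArg (b.left ≫ ·) pullback.condition).trans
        ((Category.assoc _ _ _).symm.trans ((congrArg (· ≫ U'.ι) hb).trans pullback.condition.symm))))
    obtain ⟨a, ha, hag⟩ := hex (q ≫ (b.left ≫ pullback.fst ((Over.pullback σ).obj N).hom U'.ι) ≫ pullback.fst N.hom σ) (by
      show (q ≫ _ ≫ _) ≫ N.hom = W.ι ≫ _
      simp only [Category.assoc]
      rw [pullback.condition, ← hq]
      simp only [Category.assoc]
      refine congrArg (q ≫ ·) ?_
      exact ((congrArg (b.left ≫ ·) (Category.assoc _ _ _).symm).trans (Category.assoc _ _ _).symm).trans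
        ((congrArg (· ≫ σ) ((Category.assoc _ _ _).symm.trans hbS)).trans (Category.assoc _ _ _)))
    refine ⟨Over.homMk (pullback.lift a Y'.hom ha) (pullback.lift_snd _ _ _), ?_⟩
    refine Groth.Agent.Neron6.pullback_hom_ext U'.ι _ _ ?_
    rw [Groth.Agent.Neron6.pullback_map_fst]
    refine pullback.hom_ext ?_ ?_
    · have hnq : n ≫ q = 𝟙 _ := by
        rw [← cancel_mono (pullback.fst Y'.hom U'.ι), Category.assoc, hq, hn, Category.id_comp]
      show (pullback.fst Y'.hom U'.ι ≫ pullback.lift a Y'.hom ha) ≫ pullback.fst N.hom σ = _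
      refine (Category.assoc _ _ _).trans ((congrArg (pullback.fst Y'.hom U'.ι ≫ ·) (pullback.lift_fst _ _ _)).trans ?_)
      refine (congrArg (· ≫ a) hn.symm).trans ((Category.assoc _ _ _).trans ((congrArg (n ≫ ·) hag).trans ?_))
      exact (Category.assoc _ _ _).symm.trans ((congrArg (· ≫ _) hnq).trans (Category.id_comp _))
    · show (pullback.fst Y'.hom U'.ι ≫ pullback.lift a Y'.hom ha) ≫ pullback.snd N.hom σ = _
      exact (Category.assoc _ _ _).trans ((congrArg (pullback.fst Y'.hom U'.ι ≫ ·) (pullback.lift_snd _ _ _)).trans hbS.symm)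

/-- Let S be a locally Noetherian scheme, U ⊆ S an open subscheme and N → S a smooth separated morphism
of finite type having the Néron mapping property with respect to U: for every smooth S-scheme Y,
restriction to U is a bijection from S-morphisms Y → N onto U-morphisms Y ×_S U → N ×_S U. Let s be
a point of S and S̃ = Spec O_{S,s} → S the canonical morphism. Then N ×_S S̃ → S̃ has the Néron
mapping property with respect to the preimage Ũ of U: for every smooth S̃-scheme Ỹ, restriction to Ũ
is a bijection from S̃-morphisms Ỹ → N ×_S S̃ onto Ũ-morphisms. (The published statement is for N an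
algebraic space which is a Néron model of an abelian scheme over U and also covers the strict
henselisation at a geometric point; this row is the localisation case for a scheme N, with no
abelian-scheme hypothesis.) -/
theorem result
    {S : Scheme.{u}} [IsLocallyNoetherian S] (U : S.Opens)
    (N : Over S) [Smooth N.hom] [IsSeparated N.hom] [QuasiCompact N.hom]
    (hN : ∀ Y : Over S, Smooth Y.hom →
      Function.Bijective (fun f : Y ⟶ N => (Over.pullback U.ι).map f))
    (s : S) (Y' : Over (Spec (S.presheaf.stalk s))) [Smooth Y'.hom] :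
    Function.Bijective (fun f : Y' ⟶ (Over.pullback (S.fromSpecStalk s)).obj N =>
      (Over.pullback ((S.fromSpecStalk s) ⁻¹ᵁ U).ι).map f) := by
  have hE := Groth.Agent.NeronStalk.ext_of_bijective U hN
  exact bijective_of_local (S.fromSpecStalk s) U N Y' ((Y'.hom ≫ S.fromSpecStalk s) ⁻¹ᵁ U)
    (Scheme.Hom.comp_preimage _ _ _)
    (fun a b ha hb h => Groth.Agent.NeronStalk.eq_of_ext hE s Y' a b ha hb h)
    (fun g hg => Groth.Agent.NeronStalk.exists_ext_stalk hE s Y' g hg)

end Groth.Agent.S13750
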