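import Groth.Statements.S13751
import Groth.Agent.AbSchExt.Main

set_option autoImplicit false
set_option backward.isDefEq.respectTransparency false
set_option backward.isDefEq.respectTransparency.types false
set_option maxHeartbeats 1000000
set_option linter.style.haveILetI false
universe u
open CategoryTheory CategoryTheory.Limits AlgebraicGeometry MonObj
open Neron

set_option backward.isDefEq.respectTransparency false
set_option backward.isDefEq.respectTransparency.types false
set_option maxHeartbeats 1000000

namespace Groth.Agent.S13751

/-- Let S be a locally Noetherian scheme all of whose local rings are regular, let U ⊆ S be a dense open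
subscheme and let A → S be an abelian scheme: a proper smooth group scheme over S whose geometric
fibres are connected. Then A is a Néron model of its restriction A ×_S U over S, in the sense that
for every smooth S-scheme Y the restriction map from S-morphisms Y → A to U-morphisms Y ×_S U → A
×_S U is a bijection. (The published statement is for an abelian algebraic space over a regular base
and does not ask U to be dense; for U empty and A of positive relative dimension the identity and
the zero map of A both restrict to the empty morphism, so uniqueness fails, and the published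
uniqueness argument uses density — this row takes A a scheme and U dense.) -/
theorem result
    {S : Scheme.{u}} [IsLocallyNoetherian S] (hreg : ∀ s : S, IsRegularLocalRing (S.presheaf.stalk s))
    (U : S.Opens) (hU : Dense (U : Set S))
    (A : Over S) [GrpObj A] [IsProper A.hom] [Smooth A.hom]
    (hconn : ∀ (L : Type u) [Field L] (t : Spec (CommRingCat.of L) ⟶ S), ConnectedSpace ↑(pullback A.hom t))
    (Y : Over S) [Smooth Y.hom] :
    Function.Bijective (fun f : Y ⟶ A => (Over.pullback U.ι).map f) := by
  haveI : GeometricallyConnected A.hom := ⟨fun K _ t Z fst snd h => by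
    haveI := hconn K t
    exact h.isoPullback.hom.homeomorph.symm.surjective.connectedSpace h.isoPullback.hom.homeomorph.symm.continuous⟩
  haveI : IsLocallyNoetherian Y.left := LocallyOfFiniteType.isLocallyNoetherian Y.hom
  have hY : ∀ y : Y.left, IsRegularLocalRing (Y.left.presheaf.stalk y) := fun y => by
    obtain ⟨V, hV, hyV, -⟩ := exists_isAffineOpen_mem_and_subset (x := Y.hom y) (U := ⊤) trivial
    haveI := KRegLib.isRegularRing_sections hreg hV
    let W := Y.hom ⁻¹ᵁ V
    haveI := FibIso.isRegularLocalRing_stalk_of_smooth (R := Γ(S, V)) ((Y.hom ∣_ V) ≫ hV.isoSpec.hom) ⟨y, hyV⟩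
    exact IsRegularLocalRing.of_ringEquiv (asIso (W.ι.stalkMap ⟨y, hyV⟩)).symm.commRingCatIsoToRingEquiv
  let P := (Over.pullback U.ι).obj Y
  let π : P.left ⟶ Y.left := pullback.fst Y.hom U.ι
  let U' : Y.left.Opens := π.opensRange
  have hU' : Dense (U' : Set Y.left) := by
    show Dense (Set.range (pullback.fst Y.hom U.ι))
    rw [Scheme.Pullback.range_fst, Scheme.Opens.range_ι]
    exact hU.preimage Y.hom.isOpenMap
  let e : P.left ≅ (U' : Scheme.{u}) := π.isoOpensRange
  have he : e.hom ≫ U'.ι = π := π.isoOpensRange_hom_ι
  have hmap : ∀ f : Y ⟶ A, ((Over.pullback U.ι).map f).left ≫ pullback.fst A.hom U.ι = π ≫ f.left :=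
    fun f => pullback.lift_fst _ _ _
  have huniq := fun g hg => AbSchExt.existsUnique_ext A Y.left Y.hom hY U' hU' g hg
  constructor
  · intro f₁ f₂ h
    apply Over.OverMorphism.ext
    have h' : π ≫ f₁.left = π ≫ f₂.left := by
      rw [← hmap, ← hmap]
      exact congrArg (fun k => k.left ≫ pullback.fst A.hom U.ι) h
    obtain ⟨g, -, hu⟩ := huniq (U'.ι ≫ f₁.left) (by rw [Category.assoc, Over.w f₁])
    refine (hu f₁.left ⟨Over.w f₁, rfl⟩).trans (hu f₂.left ⟨Over.w f₂, ?_⟩).symm
    rw [← cancel_epi e.hom, reassoc_of% he, reassoc_of% he, h']
  · intro φ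
    have hφ : φ.left ≫ pullback.snd A.hom U.ι = pullback.snd Y.hom U.ι := Over.w φ
    have hg : (e.inv ≫ φ.left ≫ pullback.fst A.hom U.ι) ≫ A.hom = U'.ι ≫ Y.hom := by
      rw [← cancel_epi e.hom]
      simp only [Category.assoc, e.hom_inv_id_assoc, pullback.condition]
      rw [reassoc_of% hφ, reassoc_of% he]
      exact pullback.condition.symm
    obtain ⟨g', ⟨h1, h2⟩, -⟩ := huniq _ hg
    refine ⟨Over.homMk g' h1, Over.OverMorphism.ext (pullback.hom_ext ?_ ?_)⟩
    · rw [hmap]
      show π ≫ g' = _
      rw [← he, Category.assoc, h2, e.hom_inv_id_assoc]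
    · exact (pullback.lift_snd _ _ _).trans hφ.symm

end Groth.Agent.S13751
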