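import Groth.Statements.S1376
import Groth.Agent.AlgGlue.ZMT
-- import your own Groth.Agent.* helpers here

set_option autoImplicit false
universe u
open FlatMor

namespace Groth.Agent.S1376

open CategoryTheory CategoryTheory.Limits AlgebraicGeometry

/-- A finite scheme over a quasi-compact open is the restriction of a scheme finite over the base. -/
theorem exists_extension {S V : Scheme.{u}} [CompactSpace ↑S] [QuasiSeparatedSpace ↑S] (U : S.Opens)
    (hU : IsCompact (U : Set ↑S)) (v : V ⟶ (U : Scheme.{u})) [IsFinite v] :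
    ∃ (T : Scheme.{u}) (π : T ⟶ S) (i : V ⟶ T), IsFinite π ∧ IsPullback i v π U.ι := by
  haveI : QuasiCompact U.ι := Groth.Agent.QCoh.quasiCompact_ι_of_compact U hU
  haveI : CompactSpace (U : Scheme.{u}) := isCompact_iff_compactSpace.mp hU
  obtain ⟨T₀, i₀, π₀, _, _, _, hfac⟩ := Groth.Agent.AlgGlue.exists_finite_factor (v ≫ U.ι)
  let i := i₀.toImage
  let π := i₀.imageι ≫ π₀
  have hsq : IsPullback (𝟙 V) i i₀ i₀.imageι :=
    ⟨⟨by simp [i]⟩, ⟨PullbackCone.IsLimit.mk _ (fun s => s.fst)
      (fun s => by simp) (fun s => by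
        rw [← cancel_mono i₀.imageι, Category.assoc, i₀.toImage_imageι]; exact s.condition)
      (fun s m hm _ => by simpa using hm)⟩⟩
  haveI : IsOpenImmersion i :=
    MorphismProperty.of_isPullback (P := @IsOpenImmersion) hsq inferInstance
  have hfac' : i ≫ π = v ≫ U.ι := by
    simp only [i, π, ← Category.assoc, i₀.toImage_imageι, hfac]
  have hsub : Set.range i ⊆ (π ⁻¹ᵁ U : Set i₀.image) := by
    rintro _ ⟨x, rfl⟩
    show (i ≫ π) x ∈ U
    rw [hfac']
    exact (v x).2
  let i' : V ⟶ (π ⁻¹ᵁ U : i₀.image.Opens) :=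
    IsOpenImmersion.lift (π ⁻¹ᵁ U).ι i (by rw [Scheme.Opens.range_ι]; exact hsub)
  have hi' : i' ≫ (π ⁻¹ᵁ U).ι = i := IsOpenImmersion.lift_fac _ _ _
  haveI : IsOpenImmersion i' := by
    haveI : IsOpenImmersion (i' ≫ (π ⁻¹ᵁ U).ι) := by rw [hi']; infer_instance
    exact IsOpenImmersion.of_comp i' (π ⁻¹ᵁ U).ι
  have hv : i' ≫ (π ∣_ U) = v := by
    rw [← cancel_mono U.ι, Category.assoc, morphismRestrict_ι, ← Category.assoc, hi', hfac']
  haveI : IsFinite (i' ≫ (π ∣_ U)) := by rw [hv]; infer_instance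
  haveI : IsFinite i' := IsFinite.of_comp i' (π ∣_ U)
  haveI : Surjective i' := ⟨fun w => by
    have hd : DenseRange i := (inferInstance : IsDominant i₀.toImage).1
    have hcl : IsClosed (Set.range i') := i'.isClosedMap.isClosed_range
    have : w ∈ closure (Set.range i') := by
      rw [(π ⁻¹ᵁ U).ι.isOpenEmbedding.isInducing.closure_eq_preimage_closure_image, ← Set.range_comp]
      show _ ∈ closure _
      rw [← TopCat.coe_comp, ← Scheme.Hom.comp_base, hi']
      exact hd _
    rwa [hcl.closure_eq] at this⟩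
  haveI : IsIso i' := (isIso_iff_isOpenImmersion_and_surjective _).mpr ⟨inferInstance, inferInstance⟩
  refine ⟨_, π, i, inferInstance, ?_⟩
  refine IsPullback.of_iso (isPullback_morphismRestrict π U).flip (asIso i').symm (Iso.refl _) (Iso.refl _)
    (Iso.refl _) (by simp [← hi']) (by simp [← hv]) (by simp) (by simp)

open AlgebraicGeometry CategoryTheory Limits in
/-- Let S be quasi-compact and quasi-separated, U a quasi-compact open of S and V → U a surjective
finite morphism. Then there is a surjective finite morphism V' → S whose base change to U is V (V is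
the fibre product of V' and U over S). -/
theorem result {S V : Scheme.{u}} [CompactSpace ↑S] [QuasiSeparatedSpace ↑S] (U : S.Opens) (hU : IsCompact (U : Set ↑S))
    (v : V ⟶ (U : Scheme.{u})) [IsFinite v] [Surjective v] :
    ∃ (V' : Scheme.{u}) (π : V' ⟶ S) (i : V ⟶ V'), Surjective π ∧ IsFinite π ∧ IsPullback i v π U.ι := by
  obtain ⟨T, π, i, hπ, hpb⟩ := exists_extension U hU v
  haveI := hπ
  let Z := (Scheme.IdealSheafData.vanishingIdeal ⟨(U : Set S)ᶜ, U.isOpen.isClosed_compl⟩).subscheme
  let z : Z ⟶ S := (Scheme.IdealSheafData.vanishingIdeal ⟨(U : Set S)ᶜ, U.isOpen.isClosed_compl⟩).subschemeι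
  have hz : Set.range z = (U : Set S)ᶜ := by
    refine (Scheme.IdealSheafData.range_subschemeι _).trans ?_
    rw [Scheme.IdealSheafData.coe_support_vanishingIdeal]
    rfl
  haveI : IsFinite z := inferInstance
  let π' : T ⨿ Z ⟶ S := Limits.coprod.desc π z
  refine ⟨T ⨿ Z, π', i ≫ Limits.coprod.inl, ⟨fun s => ?_⟩, inferInstance, ?_⟩
  · by_cases hs : s ∈ U
    · obtain ⟨x, hx⟩ := v.surjective ⟨s, hs⟩
      refine ⟨(i ≫ Limits.coprod.inl) x, ?_⟩
      rw [← Scheme.Hom.comp_apply, Category.assoc, Limits.coprod.inl_desc, hpb.w,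
        Scheme.Hom.comp_apply, hx]
      rfl
    · obtain ⟨x, hx⟩ := show s ∈ Set.range z from hz.symm ▸ hs
      refine ⟨(Limits.coprod.inr : Z ⟶ T ⨿ Z) x, ?_⟩
      rw [← Scheme.Hom.comp_apply, Limits.coprod.inr_desc, hx]
  · refine ⟨⟨by rw [Category.assoc, Limits.coprod.inl_desc]; exact hpb.w⟩,
      ⟨Limits.PullbackCone.IsLimit.mk _ (fun c => hpb.lift (IsOpenImmersion.lift Limits.coprod.inl c.fst ?_) c.snd ?_)
        ?_ ?_ ?_⟩⟩
    · refine Set.range_subset_iff.mpr fun w => ?_
      rcases (isCompl_range_inl_inr T Z).sup_eq_top.ge (Set.mem_univ (c.fst w)) with h | ⟨x, hx⟩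
      · exact h
      · exfalso
        have h1 : z x ∈ U := by
          have : π' (c.fst w) = U.ι (c.snd w) := congr($(c.condition) w)
          rw [← hx, ← Scheme.Hom.comp_apply, Limits.coprod.inr_desc] at this
          rw [this]
          exact (c.snd w).2
        exact (hz ▸ Set.mem_range_self x : z x ∈ (U : Set S)ᶜ) h1
    · conv_lhs => arg 2; rw [← Limits.coprod.inl_desc π z]
      rw [← Category.assoc, IsOpenImmersion.lift_fac]; exact c.condition
    · intro c; simp
    · intro c; simp
    · intro c m h1 h2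
      apply hpb.hom_ext
      · rw [← cancel_mono (Limits.coprod.inl : T ⟶ T ⨿ Z), IsPullback.lift_fst, IsOpenImmersion.lift_fac]; simpa using h1
      · simpa using h2

end Groth.Agent.S1376
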