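import Groth.Statements.S13799
import Groth.Agent.SiteBase.ConstExact
import Groth.Agent.SiteBase.Cohom
import Mathlib.CategoryTheory.Sites.LocallyBijective

set_option autoImplicit false
universe u
open CategoryTheory Opposite
open CohSite

namespace Groth.Agent.S13799
set_option backward.isDefEq.respectTransparency false
open Opposite Limits
section aux

variable {C : Type u} [SmallCategory C] (J : GrothendieckTopology C)

/-- Restriction. -/
abbrev res (F : Sheaf J AddCommGrpCat.{u}) {W V : C} (a : W ⟶ V) (s : F.obj.obj (op V)) : F.obj.obj (op W) :=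
  F.obj.map a.op s

variable {J}

lemma res_res (F : Sheaf J AddCommGrpCat.{u}) {W V T : C} (a : W ⟶ V) (b : V ⟶ T) (s : F.obj.obj (op T)) :
    res J F a (res J F b s) = res J F (a ≫ b) s :=
  (congr($(F.obj.map_comp b.op a.op) s)).symm

lemma nat {F G : Sheaf J AddCommGrpCat.{u}} (f : F ⟶ G) {W V : C} (a : W ⟶ V) (s : F.obj.obj (op V)) :
    f.hom.app (op W) (res J F a s) = res J G a (f.hom.app (op V) s) :=
  congr($(f.hom.naturality a.op) s)

variable (J) in
/-- The constant section. -/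
noncomputable def cst {A : AddCommGrpCat.{u}} (V : C) : A →+ ((constantSheaf J AddCommGrpCat.{u}).obj A).obj.obj (op V) :=
  ((toSheafify J ((Functor.const Cᵒᵖ).obj A)).app (op V)).hom

lemma cst_res {A : AddCommGrpCat.{u}} {W V : C} (a : W ⟶ V) (x : A) :
    res J _ a (cst J (A := A) V x) = cst J W x :=
  (congr($((toSheafify J ((Functor.const Cᵒᵖ).obj A)).naturality a.op) x)).symm

lemma res_app_cst {B : AddCommGrpCat.{u}} {F : Sheaf J AddCommGrpCat.{u}} (f : (constantSheaf J AddCommGrpCat.{u}).obj B ⟶ F)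
    {W V : C} (a : W ⟶ V) (x : B) : res J F a (f.hom.app (op V) (cst J V x)) = f.hom.app (op W) (cst J W x) :=
  (nat f a _).symm.trans (congrArg (f.hom.app (op W)) (cst_res a x))

lemma map_app_cst {A : Type u} [AddCommGroup A] {F : Sheaf J AddCommGrpCat.{u}}
    (f : (constantSheaf J AddCommGrpCat.{u}).obj (AddCommGrpCat.of A) ⟶ F) {W V : C} (a : W ⟶ V) (x : A) :
    F.obj.map a.op (f.hom.app (op V) (cst J (A := AddCommGrpCat.of A) V x)) =
      f.hom.app (op W) (cst J (A := AddCommGrpCat.of A) W x) :=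
  res_app_cst f a x

lemma sep {F : Sheaf J AddCommGrpCat.{u}} {V : C} {R : Sieve V} (hR : R ∈ J V) {s t : F.obj.obj (op V)}
    (h : ∀ ⦃W : C⦄ (a : W ⟶ V), R a → res J F a s = res J F a t) : s = t := by
  have hF := (isSheaf_iff_isSheaf_of_type J (F.obj ⋙ forget AddCommGrpCat.{u})).mp
    (GrothendieckTopology.HasSheafCompose.isSheaf _ F.property)
  exact (hF R hR).isSeparatedFor.ext fun W a ha => h a ha

/-- An object covered by the empty sieve. -/
def Dead (J : GrothendieckTopology C) (V : C) : Prop := (⊥ : Sieve V) ∈ J V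

lemma Dead.eq {F : Sheaf J AddCommGrpCat.{u}} {V : C} (h : Dead J V) (s t : F.obj.obj (op V)) : s = t :=
  sep h fun _ _ ha => ha.elim

lemma cst_inj {A : AddCommGrpCat.{u}} {V : C} {x y : A} (h : cst J V x = cst J V y) : x = y ∨ Dead J V := by
  by_cases hxy : x = y
  · exact .inl hxy
  refine .inr (J.superset_covering (fun W a ha => ?_) (Presheaf.equalizerSieve_mem J (toSheafify J ((Functor.const Cᵒᵖ).obj A)) x y h))
  exact absurd ha hxy

variable {A : Type u} [AddCommGroup A]

/-- The chosen representative modulo `m`. -/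
noncomputable def rep (m : ℤ) (a : A) : A :=
  (QuotientAddGroup.mk a : A ⧸ (zsmulAddGroupHom m : A →+ A).range).out

lemma rep_exists (m : ℤ) (a : A) : ∃ b : A, a - rep m a = m • b := by
  have h : (QuotientAddGroup.mk a : A ⧸ (zsmulAddGroupHom m : A →+ A).range) = QuotientAddGroup.mk (rep m a) :=
    (Quotient.out_eq _).symm
  obtain ⟨b, hb⟩ := (QuotientAddGroup.eq.mp h.symm : -rep m a + a ∈ (zsmulAddGroupHom m : A →+ A).range)
  exact ⟨b, by rw [sub_eq_neg_add]; exact hb.symm⟩

lemma rep_eq {m : ℤ} {a a' b : A} (h : a - a' = m • b) : rep m a = rep m a' := by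
  unfold rep
  congr 1
  exact QuotientAddGroup.eq.mpr ⟨-b, show m • (-b) = -a + a' by rw [smul_neg, ← h]; abel⟩

theorem exists_lift_of_locally_nonzero (J : GrothendieckTopology C)
    (hA : ∀ (m : ℤ) (a : A), m ≠ 0 → m • a = 0 → a = 0)
    (φ : (constantSheaf J AddCommGrpCat.{u}).obj (AddCommGrpCat.of (ULift.{u} ℤ)) ⟶
      (constantSheaf J AddCommGrpCat.{u}).obj (AddCommGrpCat.of (ULift.{u} ℤ)))
    {ι : Type u} (U : ι → C) (n : ι → ℤ) (hn : ∀ i, n i ≠ 0)
    (hφ : ∀ (i : ι) (V : C) (_ : V ⟶ U i), φ.hom.app (op V) = n i • 𝟙 _)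
    (hcov : ∀ V : C, ∃ R ∈ J V, ∀ ⦃W : C⦄ (g : W ⟶ V), R g → ∃ i, Nonempty (W ⟶ U i))
    (I Q : Sheaf J AddCommGrpCat.{u}) (f : (constantSheaf J AddCommGrpCat.{u}).obj (AddCommGrpCat.of A) ⟶ I)
    (π : I ⟶ Q) (w : f ≫ π = 0) (hS : (ShortComplex.mk f π w).ShortExact)
    (g : (constantSheaf J AddCommGrpCat.{u}).obj (AddCommGrpCat.of (ULift.{u} ℤ)) ⟶ I)
    (q : (constantSheaf J AddCommGrpCat.{u}).obj (AddCommGrpCat.of (ULift.{u} ℤ)) ⟶ Q)
    (hg : g ≫ π = φ ≫ q) :
    ∃ g', g' ≫ π = q := by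
  haveI : Mono f := hS.mono_f
  haveI : Epi π := hS.epi_g
  let one : ∀ V : C, ((constantSheaf J AddCommGrpCat.{u}).obj (AddCommGrpCat.of (ULift.{u} ℤ))).obj.obj (op V) :=
    fun V => cst J V (ULift.up 1 : ULift.{u} ℤ)
  let gs : ∀ V : C, I.obj.obj (op V) := fun V => g.hom.app (op V) (one V)
  let qs : ∀ V : C, Q.obj.obj (op V) := fun V => q.hom.app (op V) (one V)
  have hgs : ∀ {W V : C} (a : W ⟶ V), res J I a (gs V) = gs W := fun a =>
    res_app_cst g a _
  have hqs : ∀ {W V : C} (a : W ⟶ V), res J Q a (qs V) = qs W := fun a =>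
    res_app_cst q a _
  have hπg : ∀ (i : ι) (V : C) (_ : V ⟶ U i), π.hom.app (op V) (gs V) = n i • qs V := fun i V a => by
    refine (congr(($hg).hom.app (op V) (one V))).trans ?_
    refine (congrArg (q.hom.app (op V)) (show φ.hom.app (op V) (one V) = n i • one V by rw [hφ i V a]; rfl)).trans ?_
    exact map_zsmul (q.hom.app (op V)).hom (n i) _
  have hn_eq : ∀ (i j : ι) (V : C), (V ⟶ U i) → (V ⟶ U j) → n i = n j ∨ Dead J V := fun i j V a b => by
    have h1 : n i • one V = n j • one V := by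
      have h2 := congr($((hφ i V a).symm.trans (hφ j V b)) (one V))
      exact h2
    rw [← map_zsmul, ← map_zsmul] at h1
    refine (cst_inj h1).imp (fun h => ?_) id
    simpa using congrArg ULift.down h
  let Fun := fun (W : C) => ((constantSheaf J AddCommGrpCat.{u}).obj (AddCommGrpCat.of A)).obj.obj (op W)
  let Good : ∀ V : C, I.obj.obj (op V) → Prop := fun V e => π.hom.app (op V) e = qs V ∧
    ∀ (W : C) (a : W ⟶ V) (i : ι) (_ : W ⟶ U i), ∃ R ∈ J W, ∀ ⦃T : C⦄ (b : T ⟶ W), R b →
      ∃ r : A, gs T - n i • res J I (b ≫ a) e = f.hom.app (op T) (cst J (A := AddCommGrpCat.of A) T (rep (n i) r))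
  have hker : ∀ (V : C) (z : I.obj.obj (op V)), π.hom.app (op V) z = 0 → ∃ c : Fun V, f.hom.app (op V) c = z := by
    intro V z hz
    let G := (sheafSections J AddCommGrpCat.{u}).obj (op V)
    haveI : PreservesFiniteLimits G := inferInstanceAs (PreservesFiniteLimits
      (sheafToPresheaf J AddCommGrpCat.{u} ⋙ (evaluation Cᵒᵖ AddCommGrpCat.{u}).obj (op V)))
    haveI : G.PreservesZeroMorphisms := Functor.preservesZeroMorphisms_of_preserves_terminal_object
    exact (ShortComplex.ab_exact_iff _).mp (hS.exact.map_of_mono_of_preservesKernel G inferInstance inferInstance) z hz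
  have hfinj : ∀ V : C, Function.Injective (f.hom.app (op V)) := fun V => by
    have : Mono (f.hom.app (op V)) :=
      inferInstanceAs (Mono (((sheafToPresheaf J AddCommGrpCat.{u}) ⋙ (evaluation Cᵒᵖ AddCommGrpCat.{u}).obj (op V)).map f))
    exact (AddCommGrpCat.mono_iff_injective _).mp this
  have good_res : ∀ {W V : C} (a : W ⟶ V) (e), Good V e → Good W (res J I a e) := fun {W V} a e he => by
    refine ⟨by rw [nat, he.1, hqs], fun W' a' i b => ?_⟩
    obtain ⟨R, hR, h⟩ := he.2 W' (a' ≫ a) i b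
    refine ⟨R, hR, fun T c hc => ?_⟩
    obtain ⟨r, hr⟩ := h c hc
    exact ⟨r, by rw [res_res, Category.assoc]; exact hr⟩
  have good_unique : ∀ (V : C) (e e'), Good V e → Good V e' → e = e' := fun V e e' he he' => by
    obtain ⟨R₀, hR₀, hU⟩ := hcov V
    refine sep hR₀ fun W a ha => ?_
    obtain ⟨i, ⟨b⟩⟩ := hU a ha
    obtain ⟨R₁, hR₁, h₁⟩ := he.2 W a i b
    obtain ⟨R₂, hR₂, h₂⟩ := he'.2 W a i b
    refine sep (J.intersection_covering hR₁ hR₂) fun T c hc => ?_
    obtain ⟨r, hr⟩ := h₁ c hc.1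
    obtain ⟨r', hr'⟩ := h₂ c hc.2
    rw [res_res, res_res]
    obtain ⟨d, hd⟩ := hker T (res J I (c ≫ a) e - res J I (c ≫ a) e') (by
      rw [map_sub, nat, nat, he.1, he'.1, sub_self])
    obtain ⟨R₃, hR₃, hloc⟩ : ∃ R₃ ∈ J T, ∀ ⦃T' : C⦄ (k : T' ⟶ T), R₃ k → ∃ d₀ : A,
        cst J (A := AddCommGrpCat.of A) T' d₀ = res J _ k d :=
      ⟨_, Presheaf.imageSieve_mem J (toSheafify J ((Functor.const Cᵒᵖ).obj (AddCommGrpCat.of A))) d,
        fun T' k hk => hk⟩
    refine sep hR₃ fun T' k hk => ?_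
    obtain ⟨d₀, hd₀⟩ := hloc k hk
    have h3 : res J I k (res J I (c ≫ a) e) - res J I k (res J I (c ≫ a) e') =
        f.hom.app (op T') (cst J (A := AddCommGrpCat.of A) T' d₀) := by
      rw [hd₀, nat, hd]
      exact (map_sub (I.obj.map k.op).hom _ _).symm
    have h4 : n i • (res J I k (res J I (c ≫ a) e) - res J I k (res J I (c ≫ a) e')) =
        f.hom.app (op T') (cst J (A := AddCommGrpCat.of A) T' (rep (n i) r' - rep (n i) r)) := by
      have h5 := congrArg (res J I k) (congrArg₂ (· - ·) hr' hr)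
      simp only [map_sub, map_zsmul, hgs] at h5
      rw [map_sub, map_sub]
      refine Eq.trans ?_ (congrArg₂ (· - ·) (map_app_cst f k (rep (n i) r')) (map_app_cst f k (rep (n i) r)))
      refine Eq.trans ?_ h5
      rw [zsmul_sub]
      abel
    rw [h3, ← map_zsmul, ← map_zsmul] at h4
    rcases cst_inj (hfinj T' h4) with h6 | h6
    · have h7 : rep (n i) r = rep (n i) r' := by
        have hrr : ∀ x : A, rep (n i) (rep (n i) x) = rep (n i) x := fun x => by
          obtain ⟨y, hy⟩ := rep_exists (n i) x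
          exact (rep_eq hy).symm
        rw [← hrr r, ← hrr r']
        exact (rep_eq (b := d₀) h6.symm).symm
      rw [h7, sub_self] at h6
      rw [hA _ _ (hn i) h6, map_zero, map_zero] at h3
      exact sub_eq_zero.mp h3
    · exact h6.eq _ _
  have good_local : ∀ V : C, ∃ R ∈ J V, ∀ ⦃W : C⦄ (a : W ⟶ V), R a → ∃ e, Good W e := fun V => by
    obtain ⟨R₀, hR₀, hU⟩ := hcov V
    haveI : Sheaf.IsLocallySurjective π := (Sheaf.isLocallySurjective_iff_epi' _ _).mpr inferInstance
    refine ⟨Sieve.generate (fun W => {a : W ⟶ V | (∃ i, Nonempty (W ⟶ U i)) ∧ ∃ e₀, π.hom.app (op W) e₀ = qs W ∧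
      ∀ i, (W ⟶ U i) → ∃ a₀ : A, gs W - n i • e₀ = f.hom.app (op W) (cst J (A := AddCommGrpCat.of A) W a₀)}), ?_, ?_⟩
    · refine J.transitive hR₀ _ fun W a ha => ?_
      obtain ⟨i, ⟨b⟩⟩ := hU a ha
      refine J.transitive (Presheaf.imageSieve_mem J π.hom (qs W)) _ ?_
      rintro W₁ a₁ ⟨e₁, he₁⟩
      have he₁' : π.hom.app (op W₁) e₁ = qs W₁ := he₁.trans (hqs a₁)
      obtain ⟨d, hd⟩ := hker W₁ (gs W₁ - n i • e₁) (by rw [map_sub, map_zsmul, hπg i W₁ (a₁ ≫ b), he₁', sub_self])
      refine J.superset_covering ?_ (Presheaf.imageSieve_mem J (toSheafify J ((Functor.const Cᵒᵖ).obj (AddCommGrpCat.of A))) d)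
      rintro W₂ a₂ ⟨a₀, ha₀⟩
      refine ⟨W₂, 𝟙 _, (a₂ ≫ a₁) ≫ a, ⟨⟨i, ⟨(a₂ ≫ a₁) ≫ b⟩⟩, res J I a₂ e₁, ?_, fun j b' => ?_⟩, by simp [Category.assoc]⟩
      · rw [nat, he₁', hqs]
      · rcases hn_eq i j W₂ ((a₂ ≫ a₁) ≫ b) b' with hij | hdead
        · refine ⟨a₀, ?_⟩
          rw [← hij]
          refine Eq.trans ?_ (congrArg (f.hom.app (op W₂)) (show res J _ a₂ d = cst J (A := AddCommGrpCat.of A) W₂ a₀ from ha₀.symm))
          rw [nat, hd]
          show _ = I.obj.map a₂.op (gs W₁ - n i • e₁)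
          rw [map_sub, map_zsmul]
          exact congrArg (· - _) (hgs a₂).symm
        · exact ⟨0, hdead.eq _ _⟩
    · rintro W a ⟨W', h, a', ⟨⟨i, ⟨b⟩⟩, e₀, he₀, hloc⟩, rfl⟩
      obtain ⟨a₀, ha₀⟩ := hloc i b
      obtain ⟨k, hk⟩ := rep_exists (n i) a₀
      refine ⟨_, good_res h (e₀ + f.hom.app (op W') (cst J (A := AddCommGrpCat.of A) W' k))
        ⟨?_, fun T t j b' => ⟨⊤, J.top_mem _, fun T' t' _ => ?_⟩⟩⟩
      · rw [map_add, he₀, show π.hom.app (op W') (f.hom.app (op W') (cst J (A := AddCommGrpCat.of A) W' k)) = 0 from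
          congr(($w).hom.app (op W') (cst J (A := AddCommGrpCat.of A) W' k)), add_zero]
      · rcases hn_eq i j T' (t' ≫ t ≫ b) (t' ≫ b') with hij | hdead
        · refine ⟨a₀, ?_⟩
          rw [← hij]
          have h5 := congrArg (res J I (t' ≫ t)) ha₀
          simp only [map_sub, map_zsmul, hgs, map_app_cst, res_app_cst] at h5
          simp only [map_add, zsmul_add]
          rw [map_app_cst, ← map_zsmul (f.hom.app (op T')).hom, ← map_zsmul (cst J (A := AddCommGrpCat.of A) T')]
          erw [← hk]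
          rw [map_sub, map_sub]
          have h6 : gs T' - n i • I.obj.map (t' ≫ t).op e₀ = f.hom.app (op T') (cst J (A := AddCommGrpCat.of A) T' a₀) :=
            h5.trans (res_app_cst f _ _)
          show gs T' - (n i • I.obj.map (t' ≫ t).op e₀ + (f.hom.app (op T') (cst J (A := AddCommGrpCat.of A) T' a₀) -
            f.hom.app (op T') (cst J (A := AddCommGrpCat.of A) T' (rep (n i) a₀)))) = _
          rw [← h6]
          abel
        · exact ⟨0, hdead.eq _ _⟩
  have glue : ∀ V : C, ∃ e, Good V e := fun V => by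
    obtain ⟨R, hR, hloc⟩ := good_local V
    choose ef hef using hloc
    have hF := (isSheaf_iff_isSheaf_of_type J (I.obj ⋙ forget AddCommGrpCat.{u})).mp
      (GrothendieckTopology.HasSheafCompose.isSheaf _ I.property)
    have hcomp : Presieve.FamilyOfElements.Compatible (P := I.obj ⋙ forget AddCommGrpCat.{u})
        (fun W a ha => ef a ha : Presieve.FamilyOfElements (I.obj ⋙ forget AddCommGrpCat.{u}) R.arrows) :=
      fun Y₁ Y₂ T g₁ g₂ f₁ f₂ h₁ h₂ _ => good_unique T _ _ (good_res g₁ _ (hef f₁ h₁)) (good_res g₂ _ (hef f₂ h₂))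
    obtain ⟨e, he, -⟩ := hF R hR _ hcomp
    change I.obj.obj (op V) at e
    have hres : ∀ ⦃W : C⦄ (a : W ⟶ V) (ha : R a), res J I a e = ef a ha := fun W a ha => he a ha
    refine ⟨e, sep hR fun W a ha => ?_, fun W a i b => ?_⟩
    · rw [← nat, hres a ha, (hef a ha).1, hqs]
    · refine ⟨Sieve.generate (fun T => {c : T ⟶ W | ∃ r : A,
        gs T - n i • res J I (c ≫ a) e = f.hom.app (op T) (cst J (A := AddCommGrpCat.of A) T (rep (n i) r))}), ?_, ?_⟩
      · refine J.transitive (J.pullback_stable a hR) _ fun T c hc => ?_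
        obtain ⟨R', hR', h⟩ := (hef (c ≫ a) hc).2 T (𝟙 T) i (c ≫ b)
        refine J.superset_covering ?_ hR'
        intro T' d hd
        obtain ⟨r, hr⟩ := h d hd
        refine ⟨T', 𝟙 _, d ≫ c, ⟨r, ?_⟩, by simp⟩
        rw [← hres (c ≫ a) hc, res_res, Category.comp_id] at hr
        rw [Category.assoc]
        exact hr
      · rintro T c ⟨T', h, c', ⟨r, hr⟩, rfl⟩
        refine ⟨r, ?_⟩
        have h5 := congrArg (res J I h) hr
        simp only [map_sub, map_zsmul, hgs, res_res, ← Category.assoc] at h5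
        exact h5.trans (res_app_cst f h _)
  choose E hE using glue
  have hEres : ∀ {W V : C} (a : W ⟶ V), res J I a (E V) = E W := fun {W V} a =>
    good_unique W _ _ (good_res a _ (hE V)) (hE W)
  let adj := sheafificationAdjunction J AddCommGrpCat.{u}
  let P : Cᵒᵖ ⥤ AddCommGrpCat.{u} := (Functor.const Cᵒᵖ).obj (AddCommGrpCat.of (ULift.{u} ℤ))
  let g₀ : P ⟶ I.obj :=
    { app := fun X => AddCommGrpCat.ofHom ((zmultiplesHom _ (E X.unop)).comp AddEquiv.ulift.toAddMonoidHom)
      naturality := fun X Y a => by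
        ext z
        exact ((map_zsmul (I.obj.map a).hom z.down (E X.unop)).trans (congrArg (fun e => z.down • e) (hEres a.unop))).symm }
  refine ⟨(adj.homEquiv P I).symm g₀, (adj.homEquiv P Q).injective ?_⟩
  refine (Adjunction.homEquiv_naturality_right adj _ _).trans ?_
  refine (congrArg (fun t : P ⟶ I.obj => t ≫ π.hom) (Equiv.apply_symm_apply _ g₀)).trans ?_
  refine NatTrans.ext (funext fun X => ?_)
  ext z
  show π.hom.app X (z.down • E X.unop) = _
  refine (map_zsmul (π.hom.app X).hom z.down _).trans ?_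
  refine (congrArg (fun t => z.down • t) (hE X.unop).1).trans ?_
  have hz : (z : ULift.{u} ℤ) = z.down • (ULift.up 1 : ULift.{u} ℤ) := ULift.ext _ _ (by simp)
  conv_rhs => rw [hz, map_zsmul]
  rfl

end aux


/-- On a site, take a torsion-free abelian group A, and let φ be a locally nonzero global section of the
constant sheaf ℤ, viewed as an endomorphism of the constant abelian sheaf ℤ: there are objects U_i
which cover every object of the site locally and nonzero integers n_i such that φ is multiplication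
by n_i on every object over U_i. Then the first cohomology H¹(A) of the constant sheaf on A (the
Ext-based sheaf cohomology of the site) has no φ-torsion: a class x with φ · x = 0 is zero, where φ
acts on H¹(A) = Ext¹(ℤ, A) by precomposition. (The published statement takes the section in the
constant sheaf of A itself, with a module structure over its global sections that is defined for A =
ℤ; this row lets a locally nonzero section of the constant sheaf ℤ act on H¹(A), which is the
published statement when A = ℤ and is what the published proof establishes for any torsion-free A.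
The published definition of a locally nonzero section also asks the covering family to be nonempty;
when it is empty every sheaf is terminal and the conclusion holds trivially, so that condition is
omitted.) -/
theorem result {C : Type u} [SmallCategory C] (J : GrothendieckTopology C)
    {A : Type u} [AddCommGroup A] (hA : ∀ (m : ℤ) (a : A), m ≠ 0 → m • a = 0 → a = 0)
    (φ : (constantSheaf J AddCommGrpCat.{u}).obj (AddCommGrpCat.of (ULift.{u} ℤ)) ⟶
      (constantSheaf J AddCommGrpCat.{u}).obj (AddCommGrpCat.of (ULift.{u} ℤ)))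
    {ι : Type u} (U : ι → C) (n : ι → ℤ) (hn : ∀ i, n i ≠ 0)
    (hφ : ∀ (i : ι) (V : C) (_ : V ⟶ U i), φ.hom.app (op V) = n i • 𝟙 _)
    (hcov : ∀ V : C, ∃ R ∈ J V, ∀ ⦃W : C⦄ (g : W ⟶ V), R g → ∃ i, Nonempty (W ⟶ U i))
    (x : Sheaf.H ((constantSheaf J AddCommGrpCat.{u}).obj (AddCommGrpCat.of A)) 1)
    (hx : (Abelian.Ext.mk₀ φ).comp x (zero_add 1) = 0) :
    x = 0 := by
  let Z := (constantSheaf J AddCommGrpCat.{u}).obj (AddCommGrpCat.of (ULift.{u} ℤ))
  let FA := (constantSheaf J AddCommGrpCat.{u}).obj (AddCommGrpCat.of A)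
  let S : ShortComplex (Sheaf J AddCommGrpCat.{u}) :=
    ShortComplex.mk (Injective.ι FA) (Limits.cokernel.π (Injective.ι FA)) (Limits.cokernel.condition _)
  have hS : S.ShortExact := ShortComplex.ShortExact.mk' (ShortComplex.exact_cokernel _) inferInstance inferInstance
  haveI := hS.epi_g
  haveI := hS.mono_f
  obtain ⟨q₀, hq₀⟩ := Abelian.Ext.covariant_sequence_exact₁ _ hS x (Abelian.Ext.eq_zero_of_injective _) (zero_add 1)
  obtain ⟨q, rfl⟩ := Abelian.Ext.homEquiv₀.symm.surjective q₀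
  rw [Abelian.Ext.homEquiv₀_symm_apply] at hq₀
  subst hq₀
  obtain ⟨g₀, hg₀⟩ := Abelian.Ext.covariant_sequence_exact₃ _ hS (Abelian.Ext.mk₀ (φ ≫ q)) (zero_add 1) (by
    rw [← Abelian.Ext.mk₀_comp_mk₀, Abelian.Ext.comp_assoc_of_second_deg_zero]
    exact hx)
  obtain ⟨g, rfl⟩ := Abelian.Ext.homEquiv₀.symm.surjective g₀
  rw [Abelian.Ext.homEquiv₀_symm_apply, Abelian.Ext.mk₀_comp_mk₀] at hg₀
  have hg : g ≫ S.g = φ ≫ q := Abelian.Ext.homEquiv₀.symm.injective (by simpa using hg₀)
  obtain ⟨g', hg'⟩ := exists_lift_of_locally_nonzero J hA φ U n hn hφ hcov S.X₂ S.X₃ S.f S.g S.zero hS g q hg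
  rw [← hg', ← Abelian.Ext.mk₀_comp_mk₀, Abelian.Ext.comp_assoc_of_second_deg_zero, hS.comp_extClass,
    Abelian.Ext.comp_zero]

end Groth.Agent.S13799
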