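import Groth.Statements.S13836
import Groth.Agent.SteinX.Generic
import Groth.Agent.AVChowLib.Component

set_option autoImplicit false
universe u
open AlgebraicGeometry CategoryTheory
open HTop

namespace Groth.Agent.S13836

set_option backward.isDefEq.respectTransparency false
set_option backward.isDefEq.respectTransparency.types false


/-- Let Y be a separated Noetherian integral scheme whose local rings are geometrically unibranch and
whose affine coordinate rings are Nagata, K its function field and L a finite purely inseparable
extension of K; then the normalization of Y in L, i.e. the normalization of Y relative to Spec L →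
Spec K → Y, maps to Y by a universal homeomorphism. (The instance binders on Spec L → Y always hold;
they are only needed to form the normalization.) -/
theorem result (Y : Scheme.{u}) [IsIntegral Y] [IsNoetherian Y] [Y.IsSeparated]
    (hY : ∀ y : Y, CAlg2.IsGeomUnibranch (Y.presheaf.stalk y))
    (hN : ∀ U : Y.affineOpens, CAlg.IsNagata Γ(Y, U))
    (L : Type u) [Field L] [Algebra Y.functionField L] [FiniteDimensional Y.functionField L]
    [IsPurelyInseparable Y.functionField L]
    [QuasiCompact (Spec.map (CommRingCat.ofHom (algebraMap Y.functionField L)) ≫ Y.fromSpecStalk (genericPoint Y))]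
    [QuasiSeparated (Spec.map (CommRingCat.ofHom (algebraMap Y.functionField L)) ≫ Y.fromSpecStalk (genericPoint Y))] :
    FlatMor.IsUnivHomeo
      (Spec.map (CommRingCat.ofHom (algebraMap Y.functionField L)) ≫ Y.fromSpecStalk (genericPoint Y)).fromNormalization := by
  haveI : IsDominant (Spec.map (CommRingCat.ofHom (algebraMap Y.functionField L)) ≫ Y.fromSpecStalk (genericPoint Y)) := by
    refine ⟨dense_iff_closure_eq.2 (Set.eq_univ_of_univ_subset ?_)⟩
    rw [← (genericPoint_spec Y).def]
    refine closure_mono (Set.singleton_subset_iff.2 ⟨default, ?_⟩)
    rw [Scheme.Hom.comp_apply]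
    have : (Spec.map (CommRingCat.ofHom (algebraMap Y.functionField L))) default =
        IsLocalRing.closedPoint Y.functionField := Subsingleton.elim (α := PrimeSpectrum Y.functionField) _ _
    rw [this]
    exact Scheme.fromSpecStalk_closedPoint
  haveI : UniversallyInjective (Spec.map (CommRingCat.ofHom (algebraMap Y.functionField L))) :=
    AVChowLib.universallyInjective_ext Y.functionField L
  haveI : UniversallyInjective
      (Spec.map (CommRingCat.ofHom (algebraMap Y.functionField L)) ≫ Y.fromSpecStalk (genericPoint Y)) :=
    MorphismProperty.comp_mem @UniversallyInjective _ _ inferInstance inferInstance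
  exact SteinX.isUnivHomeo_fromNormalization_of_point _ hY

end Groth.Agent.S13836
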