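import Groth.Statements.S13844
import Groth.Agent.SmoothReg.Scheme
import Groth.Agent.CurveCohLib.SubBundle

set_option autoImplicit false
universe u
open CategoryTheory CategoryTheory.Limits AlgebraicGeometry
attribute [local instance] Curv2.resAlgebra
open Curves

namespace Groth.Agent.S13844

/-- Let K be a field and C a normal curve over K, namely an integral normal separated K-scheme of finite
type of dimension one, and let S be a set of closed points of C whose residue fields are separable
over K. If the structure morphism of C is smooth at every point outside S, then it is smooth. (The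
published statement takes S to be a closed subscheme finite étale over K, that is finitely many such
points; this row allows any set of closed points with separable residue fields.) -/
theorem result (K : Type u) [Field K] (C : Scheme.{u}) [C.Over (Spec (CommRingCat.of K))]
    [IsIntegral C] [IsSeparated (C ↘ (Spec (CommRingCat.of K)))] [LocallyOfFinitePresentation (C ↘ (Spec (CommRingCat.of K)))]
    [QuasiCompact (C ↘ (Spec (CommRingCat.of K)))] (hN : ∀ x : C, IsIntegrallyClosed (C.presheaf.stalk x))
    (hdim : topologicalKrullDim C = 1) (S : Set C)
    (hS : ∀ x ∈ S, IsClosed ({x} : Set C) ∧ Algebra.IsSeparable K (C.residueField x))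
    (hsm : ∀ x : C, x ∉ S → x ∈ (C ↘ (Spec (CommRingCat.of K))).smoothLocus) :
    AlgebraicGeometry.Smooth (C ↘ (Spec (CommRingCat.of K))) := by
  let f := C ↘ (Spec (CommRingCat.of K))
  refine AlgebraicGeometry.Scheme.Hom.smoothLocus_eq_top_iff.1 (top_le_iff.1 fun x _ => ?_)
  by_cases hx : x ∈ S
  · haveI := (hS x hx).2
    haveI : IsNoetherianRing (C.presheaf.stalk x) :=
      haveI := LocallyOfFiniteType.isLocallyNoetherian f
      inferInstance
    haveI := hN x
    haveI : Ring.DimensionLEOne (C.presheaf.stalk x) := by
      have h : ringKrullDim (C.presheaf.stalk x) ≤ 1 :=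
        (Groth.Agent.CurveCohLib.ringKrullDim_stalk_le_topologicalKrullDim x).trans hdim.le
      haveI : Ring.KrullDimLE 1 (C.presheaf.stalk x) := Ring.krullDimLE_iff.2 h
      exact ⟨fun hp hP => by haveI := hP; exact Ideal.IsMaximal.mk ((Ring.krullDimLE_one_iff_of_isPrime_bot.1 inferInstance) _ hp hP).out⟩
    refine Groth.Agent.SmoothReg.mem_smoothLocus_of_isSeparable f x (fun c => rfl) ?_
    haveI : IsDedekindDomain (C.presheaf.stalk x) :=
      (isDedekindDomain_iff _ (FractionRing (C.presheaf.stalk x))).mpr
        ⟨inferInstance, inferInstance, inferInstance, fun h => IsIntegrallyClosed.isIntegral_iff.mp h⟩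
    haveI : IsPrincipalIdealRing (C.presheaf.stalk x) := IsPrincipalIdealRing.of_finite_maximals
      (by rw [show {P : Ideal (C.presheaf.stalk x) | P.IsMaximal} = {IsLocalRing.maximalIdeal _} from
        Set.ext fun P => ⟨IsLocalRing.eq_maximalIdeal, fun h => h ▸ IsLocalRing.maximalIdeal.isMaximal _⟩]
          exact Set.finite_singleton _)
    infer_instance
  · exact hsm x hx

end Groth.Agent.S13844
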