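import Groth.Statements.S13846
import Mathlib

set_option autoImplicit false
universe u v
open TwSh

namespace Groth.Agent.S13846

/-- Let k be a field and V, W finite-dimensional ℤ-graded k-vector spaces, V = ⊕ V_i with V ≠ 0 and W =
⊕ W_i. Let φ : End_k(V) ≃ End_k(W) be a k-algebra isomorphism which sends every endomorphism
homogeneous of degree d (one mapping V_i into V_{i+d} for all i) to an endomorphism homogeneous of
degree d. Then there are an integer n and a k-linear isomorphism g : V ≅ W with g(V_i) = W_{i+n} for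
every i such that φ(f) = g ∘ f ∘ g⁻¹ for all f; moreover n is unique and g is unique up to a nonzero
scalar: if g' : V ≅ W satisfies g'(V_i) = W_{i+n'} for all i and φ(f) = g' ∘ f ∘ g'⁻¹ for all f,
then n' = n and g' = c·g for some c ∈ kˣ. (The published statement is about non-zero perfect
complexes over k: an isomorphism of their derived endomorphism algebras, as algebra objects of the
derived category, is induced by an isomorphism from the first complex to a shift of the second, for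
a unique shift and up to a unit; this row is its form for finite-dimensional ℤ-graded vector spaces,
to which the bounded derived category of a field is equivalent by taking cohomology.) -/
theorem result (k : Type u) [Field k] (V W : Type v) [AddCommGroup V] [Module k V] [FiniteDimensional k V] [Nontrivial V] [AddCommGroup W] [Module k W] [FiniteDimensional k W] (𝒱 : ℤ → Submodule k V) (h𝒱 : DirectSum.IsInternal 𝒱) (𝒲 : ℤ → Submodule k W) (h𝒲 : DirectSum.IsInternal 𝒲) (φ : Module.End k V ≃ₐ[k] Module.End k W) (hφ : ∀ (d : ℤ) (f : Module.End k V), (∀ (i : ℤ) (x : V), x ∈ 𝒱 i → f x ∈ 𝒱 (i + d)) → ∀ (i : ℤ) (y : W), y ∈ 𝒲 i → φ f y ∈ 𝒲 (i + d)) : ∃ (n : ℤ) (g : V ≃ₗ[k] W), (∀ i : ℤ, Submodule.map (g : V →ₗ[k] W) (𝒱 i) = 𝒲 (i + n)) ∧ (∀ f : Module.End k V, φ f = (g : V →ₗ[k] W) ∘ₗ f ∘ₗ (g.symm : W →ₗ[k] V)) ∧ ∀ (n' : ℤ) (g' : V ≃ₗ[k] W), (∀ i : ℤ, Submodule.map (g' : V →ₗ[k] W) (𝒱 i) = 𝒲 (i + n')) → (∀ f : Module.End k V, φ f = (g' : V →ₗ[k] W) ∘ₗ f ∘ₗ (g'.symm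 : W →ₗ[k] V)) → n' = n ∧ ∃ c : kˣ, ∀ x : V, g' x = c • g x := by
  classical
  letI := h𝒱.chooseDecomposition
  letI := h𝒲.chooseDecomposition
  obtain ⟨T, hT⟩ := φ.eq_linearEquivConjAlgEquiv
  have hφT : ∀ (f : Module.End k V) (x : V), φ f (T x) = T (f x) := fun f x => by
    rw [hT, LinearEquiv.conjAlgEquiv_apply]; simp
  let p : ℤ → Module.End k V := fun i =>
    (𝒱 i).subtype ∘ₗ DirectSum.component k ℤ (fun i => 𝒱 i) i ∘ₗ (DirectSum.decomposeLinearEquiv 𝒱).toLinearMap
  have hp : ∀ i x, p i x = (DirectSum.decompose 𝒱 x i : V) := fun _ _ => rfl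
  have hpdeg : ∀ i (l : ℤ) (x : V), x ∈ 𝒱 l → p i x ∈ 𝒱 (l + 0) := fun i l x hx => by
    rw [add_zero, hp]
    by_cases h : l = i
    · subst h; exact SetLike.coe_mem _
    · rw [DirectSum.decompose_of_mem_ne 𝒱 hx h]; exact zero_mem _
  -- a vector of some degree with image of pure degree
  obtain ⟨x, hx⟩ := exists_ne (0 : V)
  obtain ⟨i₀, hi₀⟩ : ∃ i, p i x ≠ 0 := by
    by_contra! h
    exact hx (by rw [← DirectSum.sum_support_decompose 𝒱 x]; exact Finset.sum_eq_zero fun i _ => h i)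
  obtain ⟨j, hj⟩ : ∃ j, (DirectSum.decompose 𝒲 (T (p i₀ x)) j : W) ≠ 0 := by
    by_contra! h
    exact hi₀ (T.map_eq_zero_iff.1 (by
      rw [← DirectSum.sum_support_decompose 𝒲 (T (p i₀ x))]; exact Finset.sum_eq_zero fun i _ => h i))
  obtain ⟨v₀, hv₀⟩ := T.surjective (DirectSum.decompose 𝒲 (T (p i₀ x)) j : W)
  have hv₀0 : v₀ ≠ 0 := fun h => hj (by rw [← hv₀, h, map_zero])
  have hpp : p i₀ (p i₀ x) = p i₀ x := by
    simp only [hp]; rw [DirectSum.decompose_coe, DirectSum.of_eq_same]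
  have hv₀i : v₀ ∈ 𝒱 i₀ := by
    have key : ∀ w : W, φ (p i₀) (DirectSum.decompose 𝒲 w j : W) = (DirectSum.decompose 𝒲 (φ (p i₀) w) j : W) := by
      intro w
      induction w using DirectSum.Decomposition.inductionOn 𝒲 with
      | zero => simp
      | add a b ha hb => simp [ha, hb]
      | @homogeneous l a =>
        have ha := hφ 0 (p i₀) (hpdeg i₀) l a a.2
        rw [add_zero] at ha
        by_cases h : l = j
        · subst h
          rw [DirectSum.decompose_of_mem_same 𝒲 a.2, DirectSum.decompose_of_mem_same 𝒲 ha]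
        · rw [DirectSum.decompose_of_mem_ne 𝒲 a.2 h, DirectSum.decompose_of_mem_ne 𝒲 ha h, map_zero]
    have h1 : p i₀ v₀ = v₀ := T.injective (by rw [← hφT, hv₀, key, hφT, hpp])
    rw [← h1, hp]; exact SetLike.coe_mem _
  have hTv₀ : T v₀ ∈ 𝒲 j := by rw [hv₀]; exact SetLike.coe_mem _
  obtain ⟨μ, hμ⟩ := Module.Projective.exists_dual_eq_one k hv₀0
  let n := j - i₀
  have hsub : ∀ i, ∀ v ∈ 𝒱 i, T v ∈ 𝒲 (i + n) := by
    intro i v hv
    let f : Module.End k V := (μ ∘ₗ p i₀).smulRight v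
    have hfd : ∀ (l : ℤ) (y : V), y ∈ 𝒱 l → f y ∈ 𝒱 (l + (i - i₀)) := fun l y hy => by
      show μ (p i₀ y) • v ∈ _
      by_cases h : l = i₀
      · subst h; rw [show l + (i - l) = i by ring]; exact Submodule.smul_mem _ _ hv
      · rw [hp, DirectSum.decompose_of_mem_ne 𝒱 hy h]; simp
    have h1 := hφ (i - i₀) f hfd j (T v₀) hTv₀
    rw [hφT, show f v₀ = v from ?_, show j + (i - i₀) = i + n by simp only [n]; ring] at h1
    · exact h1
    · show μ (p i₀ v₀) • v = v
      rw [hp, DirectSum.decompose_of_mem_same 𝒱 hv₀i, hμ, one_smul]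
  refine ⟨n, T, fun i => le_antisymm ?_ ?_, fun f => ?_, fun n' g' hg' hφg' => ?_⟩
  · rintro _ ⟨v, hv, rfl⟩; exact hsub i v hv
  · intro w hw
    refine ⟨p i (T.symm w), SetLike.coe_mem _, ?_⟩
    show T (p i (T.symm w)) = w
    have key : ∀ v : V, T (p i v) = (DirectSum.decompose 𝒲 (T v) (i + n) : W) := by
      intro v
      induction v using DirectSum.Decomposition.inductionOn 𝒱 with
      | zero => simp
      | add a b ha hb => simp [ha, hb]
      | @homogeneous l a =>
        have ha := hsub l a a.2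
        rw [hp]
        by_cases h : l = i
        · subst h
          rw [DirectSum.decompose_of_mem_same 𝒱 a.2, DirectSum.decompose_of_mem_same 𝒲 ha]
        · rw [DirectSum.decompose_of_mem_ne 𝒱 a.2 h, DirectSum.decompose_of_mem_ne 𝒲 ha (by omega), map_zero]
    rw [key, LinearEquiv.apply_symm_apply, DirectSum.decompose_of_mem_same 𝒲 hw]
  · rw [hT, LinearEquiv.conjAlgEquiv_apply]
  · have hc : g'.conjAlgEquiv k = T.conjAlgEquiv k := by
      rw [← hT]; ext f; rw [hφg' f, LinearEquiv.conjAlgEquiv_apply]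
    obtain ⟨c, hc⟩ := (LinearEquiv.conjAlgEquiv_ext_iff' (S := k) g' T).1 hc
    have hv : ∀ y : V, g' y = c • T y := fun y => by rw [hc]; rfl
    refine ⟨?_, c, hv⟩
    by_contra hne
    have h1 : T v₀ ∈ 𝒲 (i₀ + n') := by
      have h : g' v₀ ∈ 𝒲 (i₀ + n') := hg' i₀ ▸ ⟨v₀, hv₀i, rfl⟩
      rw [hv] at h
      simpa [smul_smul] using (𝒲 (i₀ + n')).smul_mem (↑c⁻¹ : k) h
    have h2 := DirectSum.decompose_of_mem_ne 𝒲 h1 (j := j) (by simp only [n] at hne; omega)
    rw [DirectSum.decompose_of_mem_same 𝒲 hTv₀] at h2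
    exact hv₀0 (T.map_eq_zero_iff.1 h2)

end Groth.Agent.S13846
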