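import Groth.Statements.S13862
import Groth.Agent.ASCoverLib.Cohomology

set_option autoImplicit false
universe u
open ASCover

namespace Groth.Agent.S13862

/-- For k an algebraically closed field of characteristic p > 0, n ≥ 1 an integer prime to p, u ∈ k[[t]]
the power series with constant term 1 and u^n · (1 + t^n) = 1, and G a group of order p generated by
g, consider two k-linear actions of G on B = k[[t]]: ρ₀(g) h = h(t·u), i.e. B with its order-p
automorphism σ(t) = t·u, and ρ₁(g) h = u^(n+1) · h(t·u), which is the σ-module B·dt identified with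
B through h·dt ↦ h (because d(σ t) = u^(n+1) dt). The derivative d/dt : (B, ρ₀) → (B, ρ₁) is
G-equivariant, and the image of the map it induces on first group cohomology, H^1(G, (B, ρ₀)) →
H^1(G, (B, ρ₁)), is finite-dimensional over k of dimension ⌊(n+1)(p−1)/p⌋ − 1 − ⌊(n−1)/p⌋. This is
the dimension of the image of H^1(G, O) → H^1(G, Ω) at a ramified point with break n of a ℤ/p-cover
of smooth curves, computed in the completed local ring; the published statement is phrased for the
stalks, at a point of the quotient curve, of the direct images of the structure sheaf and of the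
sheaf of differentials, and its proof passes to this completed form. -/
theorem result {k : Type u} [Field k] [IsAlgClosed k] (p : ℕ)
    [Fact p.Prime] [CharP k p] (n : ℕ) (hn : 0 < n) (hpn : ¬ p ∣ n)
    (u : PowerSeries k) (hu1 : PowerSeries.constantCoeff u = 1)
    (hun : u ^ n * (1 + PowerSeries.X ^ n) = 1)
    {G : Type u} [Group G] [Finite G] (g : G) (hG : Nat.card G = p)
    (hg : ∀ x : G, x ∈ Subgroup.zpowers g)
    (ρ₀ ρ₁ : Representation k G (PowerSeries k))
    (hρ₀ : ∀ h : PowerSeries k, ρ₀ g h = PowerSeries.subst (PowerSeries.X * u) h)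
    (hρ₁ : ∀ h : PowerSeries k, ρ₁ g h = u ^ (n + 1) * PowerSeries.subst (PowerSeries.X * u) h)
    (φ : Rep.of ρ₀ ⟶ Rep.of ρ₁) (hφ : ∀ h : PowerSeries k, φ.hom h = PowerSeries.derivative k h) :
    Module.Finite k (LinearMap.range ((groupCohomology.functor k G 1).map φ).hom) ∧
      (Module.finrank k (LinearMap.range ((groupCohomology.functor k G 1).map φ).hom) : ℤ) =
        ((n + 1) * (p - 1) : ℤ) / p - 1 - (n - 1 : ℤ) / p := by
  classical
  have hu : IsUnit u := PowerSeries.isUnit_iff_constantCoeff.mpr (by rw [hu1]; exact isUnit_one)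
  have hp : p.Prime := Fact.out
  have hρ₀' : ∀ h : PowerSeries k, ρ₀ g h =
      ((hu.unit ^ (0 : ℤ) : (PowerSeries k)ˣ) : PowerSeries k) * PowerSeries.subst (PowerSeries.X * u) h := fun h => by
    rw [hρ₀, zpow_zero, Units.val_one, one_mul]
  have hρ₁' : ∀ h : PowerSeries k, ρ₁ g h = ((hu.unit ^ ((n + 1 : ℕ) : ℤ) : (PowerSeries k)ˣ) : PowerSeries k)
      * PowerSeries.subst (PowerSeries.X * u) h := fun h => by
    rw [hρ₁, zpow_natCast, Units.val_pow_eq_pow_val, IsUnit.unit_spec]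
  obtain ⟨c, hc⟩ := ASCoverLib.exists_cocycle_series p hn hpn hu1 hun hu 0
  obtain ⟨c', hc'⟩ := ASCoverLib.exists_cocycle_series p hn hpn hu1 hun hu ((n + 1 : ℕ) : ℤ)
  -- the derivative of `u`
  have hdu : PowerSeries.X * PowerSeries.derivative k u = -u + u ^ (n + 1) := by
    have h1 := congrArg (PowerSeries.derivative k) hun
    simp only [Derivation.leibniz, Derivation.leibniz_pow, map_add, Derivation.map_one_eq_zero, zero_add,
      PowerSeries.derivative_X, smul_eq_mul, nsmul_eq_mul, mul_one] at h1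
    have h2 : (n : PowerSeries k) ≠ 0 := fun h0 => by
      have := congrArg PowerSeries.constantCoeff h0
      rw [map_natCast, map_zero, CharP.cast_eq_zero_iff k p] at this
      exact hpn this
    obtain ⟨j, rfl⟩ := Nat.exists_eq_succ_of_ne_zero hn.ne'
    simp only [Nat.succ_eq_add_one, add_tsub_cancel_right] at h1 h2 hun ⊢
    refine mul_left_cancel₀ h2 ?_
    linear_combination PowerSeries.X * u * h1 - ((j + 1 : ℕ) : PowerSeries k) * u * hun
      - ((j + 1 : ℕ) : PowerSeries k) * PowerSeries.X * PowerSeries.derivative k u * hun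
  -- derivatives of the monomial cocycles
  have hder : ∀ m : ℕ, 1 ≤ m → m ≤ n → u ^ (m + 1) * (PowerSeries.X ^ (m + 1) * PowerSeries.derivative k (c m))
      = -(m : PowerSeries k) * (u ^ (n + 1) - u ^ (m + 1)) := by
    intro m h1 h2
    have h3 : (PowerSeries.X ^ m * c m + 1) * u ^ m = 1 := by
      rw [hc m h2, sub_add_cancel, zero_sub, zpow_neg, zpow_natCast,
        show u ^ m = ((hu.unit ^ m : (PowerSeries k)ˣ) : PowerSeries k) by simp, Units.inv_mul]
    have h4 := congrArg (PowerSeries.derivative k) h3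
    simp only [Derivation.leibniz, Derivation.leibniz_pow, map_add, Derivation.map_one_eq_zero, add_zero,
      PowerSeries.derivative_X, smul_eq_mul, nsmul_eq_mul, mul_one] at h4
    obtain ⟨j, rfl⟩ := Nat.exists_eq_succ_of_ne_zero (Nat.one_le_iff_ne_zero.mp h1)
    simp only [Nat.succ_eq_add_one, add_tsub_cancel_right] at h3 h4 ⊢
    linear_combination PowerSeries.X * u * h4
      - ((j + 1 : ℕ) : PowerSeries k) * u ^ (j + 1) * (PowerSeries.X ^ (j + 1) * c (j + 1) + 1) * hdu
      + ((j + 1 : ℕ) : PowerSeries k) * (u - u ^ (n + 1)) * h3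
      - ((j + 1 : ℕ) : PowerSeries k) * u * h3
  have hXu : ∀ m : ℕ, u ^ m * (PowerSeries.X : PowerSeries k) ^ m ≠ 0 := fun m =>
    mul_ne_zero (pow_ne_zero _ hu.ne_zero) (pow_ne_zero _ PowerSeries.X_ne_zero)
  have hder' : ∀ m : ℕ, 1 ≤ m → m < n → PowerSeries.derivative k (c m) = (-(m : k)) • c' (m + 1) := by
    intro m h1 h2
    have h5 := hc' (m + 1) (by omega)
    rw [show ((n + 1 : ℕ) : ℤ) - ((m + 1 : ℕ) : ℤ) = ((n - m : ℕ) : ℤ) by omega, zpow_natCast,
      Units.val_pow_eq_pow_val, IsUnit.unit_spec] at h5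
    have h6 : u ^ (m + 1) * u ^ (n - m) = u ^ (n + 1) := by rw [← pow_add]; congr 1; omega
    refine mul_left_cancel₀ (hXu (m + 1)) ?_
    rw [mul_assoc, hder m h1 h2.le, PowerSeries.smul_eq_C_mul, map_neg, map_natCast]
    linear_combination ((m : PowerSeries k) * u ^ (m + 1)) * h5 + (m : PowerSeries k) * h6
  have hdern : PowerSeries.derivative k (c n) = 0 := by
    refine mul_left_cancel₀ (hXu (n + 1)) ?_
    rw [mul_assoc, hder n (by omega) le_rfl, sub_self, mul_zero, mul_zero]
  -- the map on classes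
  let R₀ := LinearMap.range (ρ₀ g - 1)
  let R₁ := LinearMap.range (ρ₁ g - 1)
  let d : PowerSeries k →ₗ[k] PowerSeries k := (PowerSeries.derivative k).toLinearMap
  have hd : ∀ h, d h = PowerSeries.derivative k h := fun h => rfl
  have hdφ : ∀ h, d (ρ₀ g h) = ρ₁ g (d h) := fun h => by
    have e : φ.hom (ρ₀ g h) = ρ₁ g (φ.hom h) := Rep.hom_comm_apply φ g h
    rw [hφ, hφ] at e
    exact e
  have hψle : R₀ ≤ R₁.comap d := by
    rintro _ ⟨x, rfl⟩
    refine ⟨d x, ?_⟩
    rw [LinearMap.sub_apply, Module.End.one_apply, LinearMap.sub_apply, Module.End.one_apply, map_sub, hdφ]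
  let ψ := Submodule.mapQ R₀ R₁ d hψle
  obtain ⟨e₀, he₀⟩ := ASCoverLib.exists_H1_equiv (Rep.of ρ₀) hg
  obtain ⟨e₁, he₁⟩ := ASCoverLib.exists_H1_equiv (Rep.of ρ₁) hg
  let M := ((groupCohomology.functor k G 1).map φ).hom
  let L₁ := (LinearMap.range (ASCoverLib.evalClass (Rep.of ρ₁) g)).subtype ∘ₗ e₁.toLinearMap
  have hL₁ : Function.Injective L₁ := (Submodule.injective_subtype _).comp e₁.injective
  let L₀ := (LinearMap.range (ASCoverLib.evalClass (Rep.of ρ₀) g)).subtype ∘ₗ e₀.toLinearMap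
  have hcomm : L₁ ∘ₗ M = ψ ∘ₗ L₀ := by
    refine LinearMap.ext fun x => groupCohomology.H1_induction_on x fun f => ?_
    show (e₁ (M (groupCohomology.H1π _ f))).1 = ψ (e₀ (groupCohomology.H1π _ f)).1
    have e : M (groupCohomology.H1π _ f) = groupCohomology.H1π (Rep.of ρ₁)
        (groupCohomology.mapCocycles₁ (A := Rep.of ρ₀) (B := Rep.of ρ₁) (MonoidHom.id G) φ f) :=
      groupCohomology.H1π_comp_map_apply (A := Rep.of ρ₀) (B := Rep.of ρ₁) (MonoidHom.id G) φ f
    rw [e, he₀, he₁]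
    exact congrArg Submodule.Quotient.mk (hφ (f.1 g))
  have hL₀r : LinearMap.range L₀ = LinearMap.range (ASCoverLib.classMap (ρ₀ g) c (ASCoverLib.idxSet p n 0)) := by
    rw [LinearMap.range_comp, LinearEquiv.range, Submodule.map_top, Submodule.range_subtype]
    exact ASCoverLib.range_evalClass_eq p hn hpn hu1 hun hu 0 hG hg ρ₀ hρ₀' c hc
  -- the target index set
  let S' := (Finset.Icc 1 (n - 1)).filter (fun m : ℕ => ¬ (p : ℤ) ∣ (0 : ℤ) - m ∧ ¬ (p : ℤ) ∣ (n : ℤ) - m)
  let S := S'.image (fun m => m + 1)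
  have hS'mem : ∀ m ∈ S', 1 ≤ m ∧ m < n ∧ ¬ (p : ℤ) ∣ (0 : ℤ) - m ∧ ¬ (p : ℤ) ∣ (n : ℤ) - m := fun m hm => by
    simp only [S', Finset.mem_filter, Finset.mem_Icc] at hm
    exact ⟨hm.1.1, by omega, hm.2⟩
  have hSle : S ⊆ ASCoverLib.idxSet p n ((n + 1 : ℕ) : ℤ) := by
    intro m' hm'
    obtain ⟨m, hm, rfl⟩ := Finset.mem_image.mp hm'
    obtain ⟨h1, h2, -, h4⟩ := hS'mem m hm
    rw [ASCoverLib.idxSet, Finset.mem_filter, Finset.mem_Icc]
    exact ⟨by omega, by rwa [show ((n + 1 : ℕ) : ℤ) - ((m + 1 : ℕ) : ℤ) = (n : ℤ) - m by omega]⟩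
  have hinj : Function.Injective (ASCoverLib.classMap (ρ₁ g) c' S) := by
    rw [ASCoverLib.rho_eq_tw hu _ ρ₁ hρ₁']
    exact ASCoverLib.classMap_injective p hn hpn hu1 hun hu _ c' hc' hSle
  have hclass : ∀ (T : Module.End k (PowerSeries k)) (cc : ℕ → PowerSeries k) (U : Finset ℕ) (l : U → k),
      ASCoverLib.classMap T cc U l = ∑ m : U, l m • Submodule.Quotient.mk (p := LinearMap.range (T - 1)) (cc m.1) := by
    intro T cc U l
    rw [ASCoverLib.classMap, LinearMap.comp_apply, Fintype.linearCombination_apply, map_sum]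
    rfl
  have hrange : LinearMap.range (ψ ∘ₗ L₀) = LinearMap.range (ASCoverLib.classMap (ρ₁ g) c' S) := by
    rw [LinearMap.range_comp, hL₀r]
    apply le_antisymm
    · rintro _ ⟨_, ⟨l, rfl⟩, rfl⟩
      rw [hclass, map_sum]
      refine Submodule.sum_mem _ fun m _ => ?_
      rw [map_smul]
      refine Submodule.smul_mem _ _ ?_
      show Submodule.Quotient.mk (d (c m.1)) ∈ LinearMap.range (ASCoverLib.classMap (ρ₁ g) c' S)
      rw [hd]
      have hm := m.2
      simp only [ASCoverLib.idxSet, Finset.mem_filter, Finset.mem_Icc] at hm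
      rcases eq_or_lt_of_le hm.1.2 with heq | hlt
      · rw [heq, hdern]; exact Submodule.zero_mem _
      · rw [hder' m.1 hm.1.1 hlt, Submodule.Quotient.mk_smul]
        refine Submodule.smul_mem _ _ ?_
        by_cases hdv : (p : ℤ) ∣ (n : ℤ) - m.1
        · have hz : Submodule.Quotient.mk (p := R₁) (c' (m.1 + 1)) = 0 := by
            rw [Submodule.Quotient.mk_eq_zero]
            obtain ⟨h, hh⟩ := Groth.Agent.S13863.result p n hn hpn u hu1 hun hu ((n + 1 : ℕ) : ℤ) (m.1 + 1)
              (by omega) (by omega)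
              (by rwa [show ((n + 1 : ℕ) : ℤ) - ((m.1 + 1 : ℕ) : ℤ) = (n : ℤ) - m.1 by omega])
              (c' (m.1 + 1)) (hc' _ (by omega))
            exact ⟨h, by rw [LinearMap.sub_apply, Module.End.one_apply, hρ₁']; exact hh⟩
          rw [hz]; exact Submodule.zero_mem _
        · have hmS : m.1 + 1 ∈ S := Finset.mem_image.mpr ⟨m.1, by
            simp only [S', Finset.mem_filter, Finset.mem_Icc]
            exact ⟨by omega, hm.2, hdv⟩, rfl⟩
          refine ⟨Pi.single ⟨m.1 + 1, hmS⟩ 1, ?_⟩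
          rw [hclass]
          simp [Pi.single_apply]
    · rintro _ ⟨l, rfl⟩
      rw [hclass]
      refine Submodule.sum_mem _ fun m _ => Submodule.smul_mem _ _ ?_
      obtain ⟨j, hj, hjm⟩ := Finset.mem_image.mp m.2
      obtain ⟨h1, h2, h3, h4⟩ := hS'mem j hj
      have hjk : (-(j : k)) ≠ 0 := by
        rw [neg_ne_zero]
        intro h0
        rw [CharP.cast_eq_zero_iff k p] at h0
        exact h3 (by rw [zero_sub, dvd_neg, Int.natCast_dvd_natCast]; exact h0)
      have hjmem : j ∈ ASCoverLib.idxSet p n 0 := by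
        rw [ASCoverLib.idxSet, Finset.mem_filter, Finset.mem_Icc]
        exact ⟨by omega, h3⟩
      refine ⟨(-(j : k))⁻¹ • Submodule.Quotient.mk (c j), Submodule.smul_mem _ _ ⟨Pi.single ⟨j, hjmem⟩ 1, ?_⟩, ?_⟩
      · rw [hclass]
        simp [Pi.single_apply]
      · rw [map_smul]
        show (-(j : k))⁻¹ • Submodule.Quotient.mk (d (c j)) = _
        rw [hd, hder' j h1 h2, Submodule.Quotient.mk_smul, smul_smul, inv_mul_cancel₀ hjk, one_smul, ← hjm]
  have hkey : (LinearMap.range M).map L₁ = LinearMap.range (ASCoverLib.classMap (ρ₁ g) c' S) := by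
    exact (LinearMap.range_comp _ _).symm.trans ((congrArg LinearMap.range hcomm).trans hrange)
  let E := ((Submodule.equivMapOfInjective L₁ hL₁ (LinearMap.range M)).trans (LinearEquiv.ofEq _ _ hkey)).trans
    (LinearEquiv.ofInjective _ hinj).symm
  have hfin : Module.finrank k (LinearMap.range M) = S.card := by
    rw [← Fintype.card_coe S, ← Module.finrank_fintype_fun_eq_card (R := k)]
    exact E.finrank_eq
  refine ⟨Module.Finite.equiv E.symm, (congrArg (Nat.cast : ℕ → ℤ) hfin).trans ?_⟩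
  -- counting
  rw [show S.card = S'.card from Finset.card_image_of_injective _ (fun a b h => by simpa using h)]
  have hAB : (ASCoverLib.idxSet p (n - 1) 0) ∪ (ASCoverLib.idxSet p (n - 1) n) = Finset.Icc 1 (n - 1) := by
    rw [ASCoverLib.idxSet, ASCoverLib.idxSet, ← Finset.filter_or, Finset.filter_eq_self]
    intro m _
    rw [← not_and_or]
    rintro ⟨h1, h2⟩
    have := dvd_sub h2 h1
    rw [show ((n : ℤ) - m) - (0 - m) = (n : ℤ) by ring, Int.natCast_dvd_natCast] at this
    exact hpn this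
  have hcard := Finset.card_union_add_card_inter (ASCoverLib.idxSet p (n - 1) 0) (ASCoverLib.idxSet p (n - 1) n)
  rw [hAB, Nat.card_Icc] at hcard
  rw [show ASCoverLib.idxSet p (n - 1) 0 ∩ ASCoverLib.idxSet p (n - 1) n = S' by
    rw [ASCoverLib.idxSet, ASCoverLib.idxSet, ← Finset.filter_and]] at hcard
  have hA := ASCoverLib.card_idxSet p hp.pos (n - 1) 0
  have hB := ASCoverLib.card_idxSet p hp.pos (n - 1) (n : ℤ)
  have hp0 : (0 : ℤ) < (p : ℤ) := by exact_mod_cast hp.pos
  have hneg1 : ((0 : ℤ) - 1) / (p : ℤ) = -1 :=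
    (Int.ediv_eq_iff_of_pos hp0).mpr ⟨by omega, by omega⟩
  have hfl : ((n + 1) * (p - 1) : ℤ) / p = (n : ℤ) + 1 + (-(n : ℤ)) / (p : ℤ) := by
    rw [show ((n + 1) * (p - 1) : ℤ) = (-(n : ℤ) - 1) + ((n : ℤ) + 1) * p by ring, Int.add_mul_ediv_right _ _ hp0.ne']
    have h1 := Int.emod_add_mul_ediv (-(n : ℤ)) (p : ℤ)
    have h2 := Int.emod_nonneg (-(n : ℤ)) hp0.ne'
    have h3 := Int.emod_lt_of_pos (-(n : ℤ)) hp0
    have h4 : (-(n : ℤ)) % (p : ℤ) ≠ 0 := fun h0 => hpn (by
      have := Int.dvd_of_emod_eq_zero h0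
      rwa [dvd_neg, Int.natCast_dvd_natCast] at this)
    rw [show (-(n : ℤ) - 1) / (p : ℤ) = (-(n : ℤ)) / (p : ℤ) from
      (Int.ediv_eq_iff_of_pos hp0).mpr ⟨by nlinarith [lt_of_le_of_ne h2 (Ne.symm h4)], by nlinarith⟩]
    ring
  have hn1 : ((n - 1 : ℕ) : ℤ) = (n : ℤ) - 1 := by omega
  rw [hn1] at hA hB
  rw [hneg1, show (0 : ℤ) - 1 - ((n : ℤ) - 1) = -(n : ℤ) by ring] at hA
  rw [show (n : ℤ) - 1 - ((n : ℤ) - 1) = 0 by ring, Int.zero_ediv] at hB
  rw [hfl]
  omega

end Groth.Agent.S13862
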