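import Groth.Statements.S1387
import Groth.Agent.HorizLib.Dich
import Groth.Agent.FDescent.MaxPoint

set_option autoImplicit false
attribute [-instance] CategoryTheory.catToReflQuiver
set_option backward.isDefEq.respectTransparency false
universe u
open FlatMor

namespace Groth.Agent.S1387

open AlgebraicGeometry CategoryTheory Limits in
/-- Let f : X → S be dominant and locally of finite type with X and S irreducible, let η be the generic
point of S and s a point with dim X_s ≤ dim X_η, and let Z be a locally principal closed subscheme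
of X (its ideal sheaf is generated by one section on an affine neighbourhood of each point) whose
generic fibre is empty. Then, set-theoretically, the fibre of Z over s is a union of irreducible
components of the fibre of X over s. -/
theorem result {X S : Scheme.{u}} (f : X ⟶ S) [IrreducibleSpace ↑S] [IrreducibleSpace ↑X] [IsDominant f] [LocallyOfFiniteType f]
    (s : S) (hdim : topologicalKrullDim ↑(f.fiber s) ≤ topologicalKrullDim ↑(f.fiber (genericPoint ↑S)))
    (Z : X.IdealSheafData) (hZ : ∀ x : X, ∃ (U : X.Opens) (hU : IsAffineOpen U) (g : Γ(X, U)), x ∈ U ∧ Z.ideal ⟨U, hU⟩ = Ideal.span {g})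
    (hη : ∀ x ∈ (Z.support : Set ↑X), f x ≠ genericPoint ↑S) :
    ∀ x : ↑(f ⁻¹' {s}), (x : ↑X) ∈ (Z.support : Set ↑X) →
      ∃ C ∈ irreducibleComponents ↑(f ⁻¹' {s}), x ∈ C ∧ Subtype.val '' C ⊆ (Z.support : Set ↑X) := by
  classical
  intro x hxZ
  obtain ⟨x, hxs : f x = s⟩ := x
  subst hxs
  obtain ⟨U₀, hU₀, g₀, hxU₀, hgZ⟩ := hZ x
  obtain ⟨V, hV, hsV, -⟩ := exists_isAffineOpen_mem_and_subset (x := f x) (U := ⊤) trivial
  obtain ⟨h, hhle, hxh⟩ := hU₀.exists_basicOpen_le (V := f ⁻¹ᵁ V) ⟨x, hsV⟩ hxU₀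
  let U := X.basicOpen h
  have hU : IsAffineOpen U := hU₀.basicOpen h
  have hUle : U ≤ U₀ := X.basicOpen_le h
  let g : Γ(X, U) := X.presheaf.map (homOfLE hUle).op g₀
  have hmem : ∀ z ∈ U, z ∈ (Z.support : Set X) ↔ z ∉ X.basicOpen g := by
    intro z hz
    have h1 := congrArg (z ∈ ·) (Z.coe_support_inter ⟨U₀, hU₀⟩)
    simp only [Set.mem_inter_iff, SetLike.mem_coe, hUle hz, and_true, eq_iff_iff] at h1
    rw [SetLike.mem_coe]
    rw [h1, hgZ, Scheme.zeroLocus_span, Scheme.basicOpen_res]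
    simp [hz]
  have hxU : x ∈ U := hxh
  -- generic points
  let ξ : X := genericPoint X
  have hξ : ∀ z : X, ξ ⤳ z := fun z => genericPoint_specializes z
  have hξU : ξ ∈ U := (hξ x).mem_open U.isOpen hxU
  have hξV : f ξ ∈ V := hhle hξU
  have hfξ : f ξ = genericPoint S := by
    have h1 : IsGenericPoint (f ξ) Set.univ := by
      have h2 := (genericPoint_spec X).image f.continuous
      rwa [Set.image_univ, f.denseRange.closure_range] at h2
    exact h1.eq (genericPoint_spec S)
  let φ := f.appLE V U hhle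
  let Pξ : Ideal Γ(X, U) := (hU.primeIdealOf ⟨ξ, hξU⟩).asIdeal
  let Pη : Ideal Γ(S, V) := (hV.primeIdealOf ⟨f ξ, hξV⟩).asIdeal
  have hPη : Pη = Pξ.comap φ.hom :=
    (congrArg PrimeSpectrum.asIdeal (IsAffineOpen.comap_primeIdealOf_appLE V hV U hU hhle hξU)).symm
  have hPle : ∀ z : Spec Γ(X, U), Pξ ≤ z.asIdeal := by
    intro z
    refine (PrimeSpectrum.le_iff_specializes _ z).2 ?_
    refine hU.fromSpec.isOpenEmbedding.isInducing.specializes_iff.1 ?_
    rw [hU.fromSpec_primeIdealOf]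
    exact hξ _
  letI : Algebra Γ(S, V) Γ(X, U) := φ.hom.toAlgebra
  haveI : Algebra.FiniteType Γ(S, V) Γ(X, U) :=
    HasRingHomProperty.appLE @LocallyOfFiniteType f inferInstance ⟨V, hV⟩ ⟨U, hU⟩ hhle
  let C := Γ(X, U) ⧸ Pξ
  let A := Γ(S, V) ⧸ Pη
  haveI : IsDomain C := Ideal.Quotient.isDomain Pξ
  haveI : IsDomain A := Ideal.Quotient.isDomain Pη
  letI : Algebra A C := (Ideal.quotientMap Pξ φ.hom hPη.le).toAlgebra
  haveI : IsScalarTower Γ(S, V) A C := IsScalarTower.of_algebraMap_eq fun a => rfl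
  haveI : FaithfulSMul A C :=
    (faithfulSMul_iff_algebraMap_injective _ _).2 (Ideal.quotientMap_injective' hPη.ge)
  haveI : Algebra.FiniteType Γ(S, V) C := Algebra.FiniteType.trans (S := Γ(X, U)) inferInstance inferInstance
  haveI : Algebra.FiniteType A C := Algebra.FiniteType.of_restrictScalars_finiteType Γ(S, V) A C
  let a : Spec (CommRingCat.of C) ⟶ X := Spec.map (CommRingCat.ofHom (Ideal.Quotient.mk Pξ)) ≫ hU.fromSpec
  let b : Spec (CommRingCat.of A) ⟶ S := Spec.map (CommRingCat.ofHom (Ideal.Quotient.mk Pη)) ≫ hV.fromSpec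
  let g₂ : Spec (CommRingCat.of C) ⟶ Spec (CommRingCat.of A) := Spec.map (CommRingCat.ofHom (algebraMap A C))
  haveI : IsClosedImmersion (Spec.map (CommRingCat.ofHom (Ideal.Quotient.mk Pξ))) :=
    IsClosedImmersion.spec_of_surjective _ Ideal.Quotient.mk_surjective
  haveI : IsClosedImmersion (Spec.map (CommRingCat.ofHom (Ideal.Quotient.mk Pη))) :=
    IsClosedImmersion.spec_of_surjective _ Ideal.Quotient.mk_surjective
  haveI : LocallyOfFiniteType g₂ := (HasRingHomProperty.Spec_iff (P := @LocallyOfFiniteType)).2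
    (RingHom.finiteType_algebraMap.2 inferInstance)
  have hsq : g₂ ≫ b = a ≫ f := by
    simp only [g₂, a, b, Category.assoc, ← IsAffineOpen.SpecMap_appLE_fromSpec f hV hU hhle, ← Spec.map_comp_assoc]
    rfl
  have hfa : ∀ w, f (a w) = b (g₂ w) := fun w => by
    have := congrArg (fun k : Spec (CommRingCat.of C) ⟶ S => k w) hsq
    simpa using this.symm
  have hrd : ∀ w, FibDim.rd g₂ w = FibDim.rd f (a w) := fun w => by
    have := FibDim.rdeg_congr_preimmersion hsq w
    rw [← FibDim.rd_eq_rdeg, ← FibDim.rd_eq_rdeg] at this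
    exact_mod_cast this
  have hrange : ∀ z ∈ U, ∃ w, a w = z := by
    intro z hz
    obtain ⟨w, hw⟩ : ∃ w, PrimeSpectrum.comap (Ideal.Quotient.mk Pξ) w = hU.primeIdealOf ⟨z, hz⟩ := by
      have hk : RingHom.ker (Ideal.Quotient.mk Pξ) ≤ (hU.primeIdealOf ⟨z, hz⟩).asIdeal := by
        rw [Ideal.mk_ker]; exact hPle _
      refine ⟨⟨_, Ideal.map_isPrime_of_surjective Ideal.Quotient.mk_surjective hk⟩, PrimeSpectrum.ext ?_⟩
      show Ideal.comap (Ideal.Quotient.mk Pξ) (Ideal.map _ _) = _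
      rw [Ideal.comap_map_of_surjective _ Ideal.Quotient.mk_surjective]
      exact sup_eq_left.2 hk
    exact ⟨w, (congrArg hU.fromSpec hw).trans (hU.fromSpec_primeIdealOf _)⟩
  have haU : ∀ w, a w ∈ U := fun w => hU.range_fromSpec.le ⟨_, rfl⟩
  have hag : ∀ w : PrimeSpectrum C, a w ∈ (Z.support : Set X) ↔ Ideal.Quotient.mk Pξ g ∈ w.asIdeal := by
    intro w
    rw [hmem _ (haU w)]
    have h1 : a w ∈ X.basicOpen g ↔ PrimeSpectrum.comap (Ideal.Quotient.mk Pξ) w ∈ PrimeSpectrum.basicOpen g :=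
      SetLike.ext_iff.1 (hU.fromSpec_preimage_basicOpen g) _
    rw [h1]
    exact not_not
  obtain ⟨w₀, hw₀⟩ := hrange x hxU
  obtain ⟨wb, hwb⟩ : ∃ w : Spec (CommRingCat.of C), w = (⟨⊥, Ideal.isPrime_bot⟩ : PrimeSpectrum C) := ⟨_, rfl⟩
  have hawb : a wb = ξ := by
    subst hwb
    refine (congrArg hU.fromSpec (PrimeSpectrum.ext ?_)).trans (hU.fromSpec_primeIdealOf ⟨ξ, hξU⟩)
    exact Ideal.mk_ker (I := Pξ)
  -- fibre dimensions
  have hdim : FlatMor.fibreDimAt g₂ w₀ ≤ FlatMor.fibreDimAt g₂ wb := by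
    obtain ⟨z, -, hfz, -, hz⟩ := FibDim.exists_fibMax_generization g₂ w₀
    have hmax : FibDim.FibMax g₂ wb := FibDim.fibMax_of_maximal g₂ fun z' hz' => by
      subst hwb
      exact PrimeSpectrum.ext (le_antisymm ((PrimeSpectrum.le_iff_specializes z' _).2 hz') bot_le)
    rw [hz, FibDim.fibreDimAt_eq_rd g₂ hmax, hrd, hrd, hawb]
    refine le_trans ?_ (hdim.trans ?_)
    · rw [FibDim.topologicalKrullDim_fiber f]
      refine le_iSup_of_le ⟨a z, ?_⟩ le_rfl
      rw [Set.mem_preimage, Set.mem_singleton_iff, hfa, hfz, ← hfa, hw₀]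
    · rw [← hfξ, FibDim.topologicalKrullDim_fiber f]
      exact iSup_le fun y => by exact_mod_cast FibDim.rd_le_of_specializes f (hξ y.1) y.2.symm
  have hgw : Ideal.Quotient.mk Pξ g ∈ w₀.asIdeal := (hag w₀).1 (hw₀.symm ▸ hxZ)
  haveI := w₀.isPrime
  rcases Groth.Agent.HorizLib.generic_or_vertical w₀.asIdeal (Ideal.Quotient.mk Pξ g) hgw (by rw [← hwb]; exact hdim) with
    ⟨Q, hQ, hgQ, hQA⟩ | ⟨Q, hQ, hgQ, hQle, hQA, hQmin⟩
  · exfalso
    obtain ⟨w, hw⟩ : ∃ w : PrimeSpectrum C, w.asIdeal = Q := ⟨⟨Q, hQ⟩, rfl⟩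
    refine hη (a w) ((hag w).2 (hw ▸ hgQ)) ?_
    rw [← hfξ, ← hawb, hfa, hfa]
    congr 1
    apply PrimeSpectrum.ext
    show w.asIdeal.under A = wb.asIdeal.under A
    rw [hw, hQA, hwb]
    exact ((le_antisymm (fun r hr => (FaithfulSMul.algebraMap_injective A C) (by rw [map_zero]; exact hr)) bot_le :
      (⊥ : Ideal C).under A = ⊥)).symm
  · obtain ⟨w, hw⟩ : ∃ w : PrimeSpectrum C, w.asIdeal = Q := ⟨⟨Q, hQ⟩, rfl⟩
    have hww : a w ⤳ x := by
      rw [← hw₀]
      exact ((PrimeSpectrum.le_iff_specializes w w₀).1 (by show w.asIdeal ≤ _; rw [hw]; exact hQle)).map a.continuous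
    have hfw : f (a w) = f x := by
      rw [← hw₀, hfa, hfa]
      congr 1
      apply PrimeSpectrum.ext
      show w.asIdeal.under A = w₀.asIdeal.under A
      rw [hw, hQA]
    have hZw : a w ∈ (Z.support : Set X) := (hag w).2 (hw ▸ hgQ)
    let e := f.fiberHomeo (f x)
    let y : ↥(f ⁻¹' {f x}) := ⟨a w, hfw⟩
    have hmax : ∀ z, z ⤳ e.symm y → z = e.symm y := by
      intro z hz
      obtain ⟨z, rfl⟩ := e.symm.surjective z
      congr 1
      have h1 : z.1 ⤳ a w := (subtype_specializes_iff _ _).1 (e.symm.isInducing.specializes_iff.1 hz)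
      obtain ⟨w', hw'⟩ := hrange z.1 (h1.mem_open U.isOpen (haU w))
      have h2 : w' ⤳ w := by
        rw [← hw'] at h1
        exact a.isEmbedding.isInducing.specializes_iff.1 h1
      have h3 : g₂ w' = g₂ w := by
        apply b.isEmbedding.injective
        rw [← hfa, ← hfa, hw', hfw]
        exact z.2
      have h4 : w'.asIdeal = Q := by
        refine hQmin _ w'.isPrime (hw ▸ (PrimeSpectrum.le_iff_specializes w' w).2 h2) ?_
        rw [← hQA, ← hw]
        exact congrArg PrimeSpectrum.asIdeal h3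
      exact Subtype.ext (hw'.symm.trans (congrArg a (PrimeSpectrum.ext (h4.trans hw.symm))))
    refine ⟨closure {y}, ?_, ?_, ?_⟩
    · have hC := Groth.Agent.FDescent.closure_mem_irreducibleComponents hmax
      refine ⟨isIrreducible_singleton.closure, fun T hT hle => ?_⟩
      have him : e.symm '' closure {y} = closure {e.symm y} := by
        rw [e.symm.image_closure, Set.image_singleton]
      have h5 := hC.2 (hT.image e.symm e.symm.continuous.continuousOn) (him ▸ Set.image_mono hle)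
      rw [← him] at h5
      exact (Set.image_subset_image_iff e.symm.injective).1 h5
    · exact specializes_iff_mem_closure.1 ((subtype_specializes_iff _ _).2 hww)
    · rintro _ ⟨t, ht, rfl⟩
      exact ((subtype_specializes_iff _ _).1 (specializes_iff_mem_closure.2 ht)).mem_closed Z.support.isClosed hZw

end Groth.Agent.S1387
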