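import Groth.Statements.S13907
import Mathlib.RingTheory.Ideal.KrullsHeightTheorem
import Mathlib.RingTheory.MvPolynomial.Ideal

set_option autoImplicit false
universe u
open ProjGeom

namespace Groth.Agent.S13907

open AlgebraicGeometry CohB1

variable {k : Type u} [Field k] {n : ℕ}

lemma mem_irr_iff (a : MvPolynomial (Fin (n + 1)) k) :
    a ∈ (HomogeneousIdeal.irrelevant (polyGrading n k)).toIdeal ↔
      MvPolynomial.constantCoeff a = 0 := by
  show a ∈ HomogeneousIdeal.irrelevant (polyGrading n k) ↔ _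
  rw [HomogeneousIdeal.mem_irrelevant_iff]
  have : GradedRing.proj (polyGrading n k) 0 a = MvPolynomial.C (MvPolynomial.coeff 0 a) := by
    rw [GradedRing.proj_apply]
    exact (MvPolynomial.decomposition.decompose'_apply a 0).trans
      (MvPolynomial.homogeneousComponent_zero a)
  rw [this, map_eq_zero_iff _ (MvPolynomial.C_injective _ _)]
  rfl

lemma X_mem_irr (j : Fin (n + 1)) :
    (MvPolynomial.X j : MvPolynomial (Fin (n + 1)) k) ∈
      (HomogeneousIdeal.irrelevant (polyGrading n k)).toIdeal := by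
  rw [mem_irr_iff, MvPolynomial.constantCoeff_X]

lemma le_irr (x : ProjectiveSpectrum (polyGrading n k)) :
    x.asHomogeneousIdeal.toIdeal ≤ (HomogeneousIdeal.irrelevant (polyGrading n k)).toIdeal := by
  intro a ha
  rw [mem_irr_iff]
  have h0 : GradedRing.proj (polyGrading n k) 0 a ∈ x.asHomogeneousIdeal.toIdeal := by
    rw [GradedRing.proj_apply]
    exact x.asHomogeneousIdeal.isHomogeneous 0 ha
  have hc : GradedRing.proj (polyGrading n k) 0 a = MvPolynomial.C (MvPolynomial.coeff 0 a) := by
    rw [GradedRing.proj_apply]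
    exact (MvPolynomial.decomposition.decompose'_apply a 0).trans
      (MvPolynomial.homogeneousComponent_zero a)
  by_contra hne
  rw [hc] at h0
  exact x.isPrime.ne_top (Ideal.eq_top_of_isUnit_mem _ h0
    ((isUnit_iff_ne_zero.mpr hne).map MvPolynomial.C))

/-- A closed set missing a hyperplane has no proper specializations. -/
lemma eq_of_le {Z : Set (ProjectiveSpectrum (polyGrading n k))} (hZ : IsClosed Z)
    (f : Fin (n + 1)) (hmiss : ∀ z ∈ Z, (MvPolynomial.X f : MvPolynomial _ k) ∉ z.asHomogeneousIdeal.toIdeal)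
    {P Q : ProjectiveSpectrum (polyGrading n k)} (hP : P ∈ Z) (hPQ : P ≤ Q) : P = Q := by
  let 𝔪 : Ideal (MvPolynomial (Fin (n + 1)) k) :=
    (HomogeneousIdeal.irrelevant (polyGrading n k)).toIdeal
  have hm : 𝔪.IsPrime := by
    have : 𝔪 = RingHom.ker (MvPolynomial.constantCoeff : MvPolynomial (Fin (n + 1)) k →+* k) :=
      Ideal.ext fun a => mem_irr_iff a
    rw [this]
    exact RingHom.ker_isPrime _
  by_contra hne
  let p : Ideal (MvPolynomial (Fin (n + 1)) k) := P.asHomogeneousIdeal.toIdeal
  let q : Ideal (MvPolynomial (Fin (n + 1)) k) := Q.asHomogeneousIdeal.toIdeal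
  have : p.IsPrime := P.isPrime
  have : q.IsPrime := Q.isPrime
  have hpq : p ≤ q := hPQ
  have hpq' : ¬ q ≤ p := fun h => hne (le_antisymm hPQ h)
  have hqm : q ≤ 𝔪 := le_irr Q
  have hqm' : ¬ 𝔪 ≤ q := fun h => Q.not_irrelevant_le h
  let π := Ideal.Quotient.mk p
  have hπ : Function.Surjective π := Ideal.Quotient.mk_surjective
  have hk : RingHom.ker π = p := Ideal.mk_ker
  have hq' : (q.map π).IsPrime :=
    Ideal.map_isPrime_of_surjective hπ (by rw [hk]; exact hpq)
  have hm' : (𝔪.map π).IsPrime :=
    Ideal.map_isPrime_of_surjective hπ (by rw [hk]; exact hpq.trans hqm)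
  have hcq : (q.map π).comap π = q := by
    rw [Ideal.comap_map_of_surjective' _ hπ, hk, sup_eq_left.mpr hpq]
  have hcm : (𝔪.map π).comap π = 𝔪 := by
    rw [Ideal.comap_map_of_surjective' _ hπ, hk, sup_eq_left.mpr (hpq.trans hqm)]
  have h1 : (⊥ : Ideal (MvPolynomial (Fin (n + 1)) k ⧸ p)) < q.map π := by
    refine lt_of_le_of_ne bot_le fun h => hpq' ?_
    rw [← hcq, ← h, ← RingHom.ker_eq_comap_bot, hk]
  have h2 : q.map π < 𝔪.map π := by
    refine lt_of_le_of_ne (Ideal.map_mono hqm) fun h => hqm' ?_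
    rw [← hcm, ← h, hcq]
  have hmin : 𝔪.map π ∈ (Ideal.span {π (MvPolynomial.X f)}).minimalPrimes := by
    refine ⟨⟨hm', ?_⟩, ?_⟩
    · rw [Ideal.span_singleton_le_iff_mem]
      exact Ideal.mem_map_of_mem _ (X_mem_irr f)
    · rintro R' ⟨hR', hfR⟩ hR'm
      have hR : (R'.comap π).IsPrime := hR'.comap π
      have hpR : p ≤ R'.comap π := by
        intro a ha
        show π a ∈ R'
        rw [Ideal.Quotient.eq_zero_iff_mem.mpr ha]
        exact R'.zero_mem
      have hfR' : (MvPolynomial.X f : MvPolynomial _ k) ∈ R'.comap π :=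
        hfR (Ideal.mem_span_singleton_self _)
      have hle : 𝔪 ≤ R'.comap π := by
        refine le_trans ?_ (Ideal.toIdeal_homogeneousCore_le (polyGrading n k) (R'.comap π))
        by_contra hirr
        let z : ProjectiveSpectrum (polyGrading n k) :=
          ⟨(R'.comap π).homogeneousCore (polyGrading n k), Ideal.IsPrime.homogeneousCore hR,
            fun h => hirr h⟩
        have hPz : P ≤ z := by
          intro a ha
          have := Ideal.homogeneousCore_mono (polyGrading n k) hpR
          apply this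
          rw [← HomogeneousIdeal.mem_iff, P.asHomogeneousIdeal.isHomogeneous.toIdeal_homogeneousCore_eq_self]
          exact ha
        have hz : z ∈ Z :=
          hZ.closure_subset_iff.mpr (Set.singleton_subset_iff.mpr hP)
            ((ProjectiveSpectrum.le_iff_mem_closure _ P z).mp hPz)
        exact hmiss z hz (Ideal.mem_homogeneousCore_of_homogeneous_of_mem
          ⟨1, MvPolynomial.isHomogeneous_X k f⟩ hfR')
      intro a ha
      obtain ⟨b, rfl⟩ := hπ a
      have : b ∈ (𝔪.map π).comap π := ha
      rw [hcm] at this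
      exact hle this
  have hh := Ideal.height_le_one_of_isPrincipal_of_mem_minimalPrimes _ _ hmin
  have e1 := Ideal.height_add_one_le_of_lt_of_isPrime h1
  have e2 := Ideal.height_add_one_le_of_lt_of_isPrime h2
  have : (0 : ℕ∞) + 1 + 1 ≤ 1 :=
    le_trans (le_trans (by gcongr; exact le_trans (by gcongr; exact bot_le) e1) e2) hh
  norm_num at this

lemma dim_zero_of_miss {Z : Set (ProjectiveSpectrum (polyGrading n k))} (hZ : IsClosed Z)
    (hne : Z.Nonempty) (f : Fin (n + 1))
    (hmiss : ∀ z ∈ Z, (MvPolynomial.X f : MvPolynomial _ k) ∉ z.asHomogeneousIdeal.toIdeal) :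
    topologicalKrullDim ↥Z = 0 := by
  have : Nonempty ↥Z := hne.to_subtype
  have : QuasiSober (ProjectiveSpectrum (polyGrading n k)) :=
    (inferInstance : QuasiSober ↥(Proj (polyGrading n k)))
  have : QuasiSober ↥Z := hZ.isClosedEmbedding_subtypeVal.quasiSober
  have : Nonempty (TopologicalSpace.IrreducibleCloseds ↥Z) := by
    obtain ⟨z, hz⟩ := hne
    exact ⟨⟨closure {⟨z, hz⟩}, isIrreducible_singleton.closure, isClosed_closure⟩⟩
  refine le_antisymm ?_ Order.krullDim_nonneg
  refine Order.krullDim_nonpos_iff_forall_isMax.mpr fun A B hAB => ?_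
  obtain ⟨a, ha⟩ := QuasiSober.sober A.isIrreducible A.isClosed
  obtain ⟨b, hb⟩ := QuasiSober.sober B.isIrreducible B.isClosed
  have hab : b ⤳ a := hb.specializes (hAB ha.mem)
  have h' : (a : ProjectiveSpectrum (polyGrading n k)) ∈ closure {(b : ProjectiveSpectrum (polyGrading n k))} :=
    (hab.map continuous_subtype_val).mem_closure
  have he : b = a := Subtype.ext
    (eq_of_le hZ f hmiss b.2 ((ProjectiveSpectrum.le_iff_mem_closure _ _ _).mpr h'))
  intro x hx
  have hx' : x ∈ closure {b} := by rw [hb.def]; exact hx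
  rw [he, ha.def] at hx'
  exact hx'


/-- Over an algebraically closed field k, let C be a nonempty irreducible closed subset of the
underlying space of projective n-space with homogeneous coordinates x_0, …, x_n, and for i ≤ n let
L_i be the linear subspace where x_1, …, x_i vanish. Then there is an index i ≤ n with C ∩ L_i
nonempty and of topological Krull dimension zero. -/
theorem result (k : Type u) [Field k]
    [IsAlgClosed k] (n : ℕ) (C : Set (ProjectiveSpectrum (CohB1.polyGrading n k)))
    (hC : IsClosed C) (hirr : IsIrreducible C) :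
    ∃ i : ℕ, i ≤ n ∧
      (C ∩ ProjectiveSpectrum.zeroLocus (CohB1.polyGrading n k)
          ((fun j : Fin (n + 1) => (MvPolynomial.X j : MvPolynomial (Fin (n + 1)) k)) ''
            {j : Fin (n + 1) | 1 ≤ j.val ∧ j.val ≤ i})).Nonempty ∧
      topologicalKrullDim ↥(C ∩ ProjectiveSpectrum.zeroLocus (CohB1.polyGrading n k)
          ((fun j : Fin (n + 1) => (MvPolynomial.X j : MvPolynomial (Fin (n + 1)) k)) ''
            {j : Fin (n + 1) | 1 ≤ j.val ∧ j.val ≤ i})) = 0 := by
  classical
  let L : ℕ → Set (ProjectiveSpectrum (CohB1.polyGrading n k)) := fun i =>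
    C ∩ ProjectiveSpectrum.zeroLocus (CohB1.polyGrading n k)
          ((fun j : Fin (n + 1) => (MvPolynomial.X j : MvPolynomial (Fin (n + 1)) k)) ''
            {j : Fin (n + 1) | 1 ≤ j.val ∧ j.val ≤ i})
  have h0 : (L 0).Nonempty := by
    obtain ⟨c, hc⟩ := hirr.nonempty
    refine ⟨c, hc, ?_⟩
    rintro _ ⟨j, ⟨hj1, hj2⟩, rfl⟩
    omega
  let i := Nat.findGreatest (fun i => (L i).Nonempty) n
  have hin : i ≤ n := Nat.findGreatest_le n
  have hi : (L i).Nonempty :=
    Nat.findGreatest_spec (P := fun i => (L i).Nonempty) (Nat.zero_le n) h0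
  have hclosed : IsClosed (L i) := hC.inter (ProjectiveSpectrum.isClosed_zeroLocus _ _)
  refine ⟨i, hin, hi, ?_⟩
  by_cases hlt : i < n
  · refine dim_zero_of_miss hclosed hi ⟨i + 1, by omega⟩ fun z hz hzf => ?_
    refine Nat.findGreatest_is_greatest (P := fun i => (L i).Nonempty) (n := n)
      (show i < i + 1 by omega) (by omega) ⟨z, hz.1, ?_⟩
    rintro _ ⟨j, ⟨hj1, hj2⟩, rfl⟩
    rcases Nat.lt_or_eq_of_le hj2 with h | h
    · exact hz.2 ⟨j, ⟨hj1, by omega⟩, rfl⟩
    · have hj : j = ⟨i + 1, by omega⟩ := Fin.ext h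
      simp only [hj]; exact hzf
  · refine dim_zero_of_miss hclosed hi 0 fun z hz hzf => z.not_irrelevant_le ?_
    have hX : ∀ j : Fin (n + 1), (MvPolynomial.X j : MvPolynomial _ k) ∈ z.asHomogeneousIdeal.toIdeal := by
      intro j
      by_cases hj : j.val = 0
      · obtain rfl : j = 0 := Fin.ext hj
        exact hzf
      · exact hz.2 ⟨j, ⟨by omega, by omega⟩, rfl⟩
    intro a ha
    have ha' : MvPolynomial.constantCoeff a = 0 := (mem_irr_iff a).mp ha
    have : a ∈ Ideal.span (Set.range (MvPolynomial.X : Fin (n + 1) → MvPolynomial _ k)) := by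
      rw [← Set.image_univ, MvPolynomial.mem_ideal_span_X_image]
      intro m hm
      by_contra hall
      push Not at hall
      obtain rfl : m = 0 := Finsupp.ext fun j => by simpa using hall j (Set.mem_univ j)
      exact (MvPolynomial.mem_support_iff.mp hm) ha'
    exact (Ideal.span_le.mpr (Set.range_subset_iff.mpr hX)) this

end Groth.Agent.S13907
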