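import Groth.Statements.S13915
import Groth.Agent.PointBlowUp.Euler
import Groth.Agent.PlaneBlowUp.Line
import Groth.Agent.S10829
import Groth.Agent.ExtShX.PnLocal
import Groth.Agent.PnPic.Twist
-- import your own Groth.Agent.* helpers here

set_option autoImplicit false
set_option backward.isDefEq.respectTransparency false
set_option backward.isDefEq.respectTransparency.types false
set_option linter.style.haveILetI false
set_option maxHeartbeats 1000000
universe u
open CategoryTheory CategoryTheory.Limits AlgebraicGeometry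
open BlowUp

namespace Groth.Agent.S13915
open Groth.Agent

/-- On the blowing up σ : X ⟶ P²_k of the projective plane over an algebraically closed field k of
characteristic zero at a closed point, with E the ideal of the exceptional line and H the pull-back
of O(1), one has χ(X, σ^*O(a) ⊗ E^b) = (a² + 3a)/2 − (b² + b)/2 + 1 for all integers a and natural
numbers b (the line bundle written aH − bL; the k-structure on X is the composite through σ). -/
theorem result (k : Type u) [Field k] [IsAlgClosed k] [CharZero k]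
    (p : ↥(CohB1.ProjSpace 2 k)) (hp : IsClosed ({p} : Set ↥(CohB1.ProjSpace 2 k)))
    {X : Scheme.{u}} [X.Over (Spec (CommRingCat.of k))] (σ : X ⟶ CohB1.ProjSpace 2 k)
    (hσk : σ ≫ CohB1.ProjSpace.toSpec 2 k = X ↘ Spec (CommRingCat.of k))
    (hσ : BlowUp.IsBlowUp σ (Scheme.IdealSheafData.vanishingIdeal ⟨{p}, hp⟩)) (a : ℤ) (b : ℕ) :
    Curv2.euler k X (CohB1.tensorMod ((Scheme.Modules.pullback σ).obj (Twist.twistProjSpace 2 k a))
      (ClSub.idealMod ((BlowUp.exceptional σ (Scheme.IdealSheafData.vanishingIdeal ⟨{p}, hp⟩)) ^ b))) =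
      (a * a + 3 * a) / 2 - ((b : ℤ) * b + b) / 2 + 1 := by
  haveI : IsProper ((CohB1.ProjSpace 2 k) ↘ Spec (CommRingCat.of k)) := Groth.Agent.PnCoh.Chow.isProper_toSpec 2 k
  haveI : IsRegularLocalRing ((CohB1.ProjSpace 2 k).presheaf.stalk p) :=
    Groth.Agent.ExtShX.isRegularLocalRing_stalk_pn (k := k) (r := 2) p
  have hdimp : ringKrullDim ((CohB1.ProjSpace 2 k).presheaf.stalk p) = 2 := by
    rw [Groth.Agent.ExtShX.ringKrullDim_stalk_pn (k := k) (r := 2) hp]; rfl
  have hσk' : σ ≫ ((CohB1.ProjSpace 2 k) ↘ Spec (CommRingCat.of k)) = X ↘ Spec (CommRingCat.of k) := hσk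
  haveI := Groth.Agent.PointBlowUp.isProper_over k σ hσk' p hp hσ
  have hd : topologicalKrullDim ↥(CohB1.ProjSpace 2 k) ≤ ((2 : ℕ) : WithBot ℕ∞) :=
    (Groth.Agent.S10829.result k 2).le
  have h := Groth.Agent.PointBlowUp.euler_twist_exc k σ hσk' p hp hdimp hσ hd
    (Groth.Agent.PnPic.isInvertible_twistProjSpace (n := 2) (R := k) a) b
  rw [Groth.Agent.PlaneBlowUp.euler_plane (k := k) a] at h
  letI := Curv2.resAlgebra k (CohB1.ProjSpace 2 k) p
  haveI : Module.Finite k ((CohB1.ProjSpace 2 k).residueField p) := Groth.Agent.Kleiman.finite_resMap k hp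
  have h1 : Module.finrank k ((CohB1.ProjSpace 2 k).residueField p) = 1 := by
    rw [← Module.finrank_self k]
    exact (LinearEquiv.ofBijective (Algebra.linearMap k ((CohB1.ProjSpace 2 k).residueField p))
      IsAlgClosed.algebraMap_bijective_of_isIntegral).finrank_eq.symm
  rw [h1] at h
  have h2 : 2 * Ring.choose (a + 2) 2 = (a + 2) * (a + 1) := by
    have h3 := Ring.descPochhammer_eq_factorial_smul_choose (a + 2) 2
    simp [descPochhammer_succ_right, Polynomial.smeval_mul, Polynomial.smeval_sub, Polynomial.smeval_X,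
      Polynomial.smeval_natCast, Nat.factorial] at h3
    linear_combination -h3
  obtain ⟨u, hu⟩ : ∃ u : ℤ, a * a + 3 * a = 2 * u := ⟨Ring.choose (a + 2) 2 - 1, by linear_combination -h2⟩
  obtain ⟨v, hv⟩ := (Int.even_mul_succ_self (b : ℤ)).two_dvd
  have hv' : (b : ℤ) * b + b = 2 * v := by linear_combination hv
  rw [hu, hv', Int.mul_ediv_cancel_left _ two_ne_zero, Int.mul_ediv_cancel_left _ two_ne_zero]
  push_cast at h
  refine mul_left_cancel₀ (two_ne_zero (α := ℤ)) ?_
  rw [h]
  linear_combination h2 + hu - hv'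

end Groth.Agent.S13915
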