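import Groth.Statements.S1394
import Mathlib
import Groth.Agent.QFSlice.Main
import Groth.Agent.QFSlice.Ring

set_option autoImplicit false
set_option linter.style.haveILetI false
universe u
open FlatMor

namespace Groth.Agent.S1394

/-- Let A → B be a local homomorphism of local rings with A Noetherian, B essentially of finite type
over A, and the residue field of B finite over that of A. Let V ⊆ Spec B be an open subset
containing some prime that does not lie over the maximal ideal of A. Then V contains a prime q, not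
lying over the maximal ideal of A, such that B/q is quasi-finite over A in the sense that every
fibre ring of A → B/q is finite over the corresponding residue field of A. (The published statement
is stronger: there B/q is moreover a localization of a quasi-finite A-algebra of finite type, which
implies this.) -/
theorem result {A B : Type u} [CommRing A] [CommRing B] [IsLocalRing A] [IsLocalRing B] [IsNoetherianRing A]
    [Algebra A B] [IsLocalHom (algebraMap A B)] [Algebra.EssFiniteType A B]
    [Module.Finite (IsLocalRing.ResidueField A) (IsLocalRing.ResidueField B)]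
    (V : Set (PrimeSpectrum B)) (hV : IsOpen V) (hne : ∃ q ∈ V, q.asIdeal.comap (algebraMap A B) ≠ IsLocalRing.maximalIdeal A) :
    ∃ q ∈ V, q.asIdeal.comap (algebraMap A B) ≠ IsLocalRing.maximalIdeal A ∧ Algebra.QuasiFinite A (B ⧸ q.asIdeal) := by
  have : IsNoetherianRing B := Algebra.EssFiniteType.isNoetherianRing A B
  obtain ⟨q₀, hq₀V, hq₀⟩ := hne
  let U : TopologicalSpace.Opens (PrimeSpectrum B) :=
    ⟨V ∩ (PrimeSpectrum.zeroLocus ((IsLocalRing.maximalIdeal A).map (algebraMap A B) : Set B))ᶜ,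
      hV.inter (PrimeSpectrum.isClosed_zeroLocus _).isOpen_compl⟩
  have hU : ∀ r : PrimeSpectrum B, r ∈ U ↔ r ∈ V ∧ r.asIdeal.comap (algebraMap A B) ≠ IsLocalRing.maximalIdeal A := fun r => by
    show r ∈ V ∧ ¬ ((((IsLocalRing.maximalIdeal A).map (algebraMap A B) : Ideal B) : Set B) ⊆ (r.asIdeal : Set B)) ↔ _
    rw [SetLike.coe_subset_coe, Ideal.map_le_iff_le_comap]
    refine and_congr_right fun _ => not_congr ⟨fun h => ((IsLocalRing.maximalIdeal.isMaximal A).eq_of_le (Ideal.comap_isPrime _ _).ne_top h).symm, fun h => h.ge⟩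
  have hm : (IsLocalRing.maximalIdeal B).comap (algebraMap A B) = IsLocalRing.maximalIdeal A :=
    ((IsLocalRing.local_hom_TFAE (algebraMap A B)).out 0 4 rfl rfl).mp ‹IsLocalHom (algebraMap A B)›
  obtain ⟨p, hp, hmax⟩ := Groth.Agent.QFSlice.exists_prime_coheight_one U q₀ ((hU q₀).2 ⟨hq₀V, hq₀⟩)
    (fun h => ((hU _).1 h).2 hm)
  obtain ⟨hpV, hpA⟩ := (hU p).1 hp
  refine ⟨p, hpV, hpA, ?_⟩
  haveI : IsLocalRing (B ⧸ p.asIdeal) :=
    IsLocalRing.of_surjective' (Ideal.Quotient.mk p.asIdeal) Ideal.Quotient.mk_surjective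
  haveI hlm : IsLocalHom (algebraMap B (B ⧸ p.asIdeal)) := ⟨fun b hb => by
    by_contra h
    obtain ⟨c, hc⟩ := Ideal.Quotient.mk_surjective ((hb.unit⁻¹ : (B ⧸ p.asIdeal)ˣ) : B ⧸ p.asIdeal)
    have : 1 - b * c ∈ IsLocalRing.maximalIdeal B := IsLocalRing.le_maximalIdeal p.2.ne_top
      (Ideal.Quotient.eq_zero_iff_mem.1 (by rw [map_sub, map_mul, map_one, hc]; exact sub_eq_zero.2 hb.mul_val_inv.symm))
    exact (IsLocalRing.maximalIdeal.isMaximal B).ne_top ((Ideal.eq_top_iff_one _).2 (by
      simpa using Ideal.add_mem _ this (Ideal.mul_mem_right c _ ((IsLocalRing.mem_maximalIdeal b).2 h))))⟩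
  have hmB : (IsLocalRing.maximalIdeal (B ⧸ p.asIdeal)).comap (algebraMap B (B ⧸ p.asIdeal)) = IsLocalRing.maximalIdeal B :=
    ((IsLocalRing.local_hom_TFAE (algebraMap B (B ⧸ p.asIdeal))).out 0 4 rfl rfl).mp hlm
  haveI : Module.Finite A (IsLocalRing.ResidueField B) := Module.Finite.trans (IsLocalRing.ResidueField A) _
  haveI : Module.Finite A (IsLocalRing.ResidueField (B ⧸ p.asIdeal)) := by
    let g : IsLocalRing.ResidueField B →+* IsLocalRing.ResidueField (B ⧸ p.asIdeal) :=
      IsLocalRing.ResidueField.map (algebraMap B (B ⧸ p.asIdeal))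
    let g' : IsLocalRing.ResidueField B →ₐ[A] IsLocalRing.ResidueField (B ⧸ p.asIdeal) :=
      { g with commutes' := fun a => rfl }
    refine Module.Finite.of_surjective g'.toLinearMap fun y => ?_
    obtain ⟨y, rfl⟩ := Ideal.Quotient.mk_surjective y
    obtain ⟨b, rfl⟩ := Ideal.Quotient.mk_surjective y
    exact ⟨IsLocalRing.residue B b, rfl⟩
  refine Groth.Agent.QFSlice.quasiFinite_of_two_primes ?_ ?_ ?_
  · rw [IsScalarTower.algebraMap_eq A B (B ⧸ p.asIdeal), ← Ideal.comap_comap, hmB, hm]
  · rw [IsScalarTower.algebraMap_eq A B (B ⧸ p.asIdeal), ← Ideal.comap_comap]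
    exact fun h => hpA ((congrArg (Ideal.comap (algebraMap A B)) Ideal.mk_ker.symm).trans h)
  · intro P hP
    have hle : p.asIdeal ≤ P.comap (algebraMap B (B ⧸ p.asIdeal)) := by
      exact Ideal.mk_ker.symm.trans_le (Ideal.comap_mono (bot_le : ⊥ ≤ P))
    rcases hmax ⟨P.comap (algebraMap B (B ⧸ p.asIdeal)), Ideal.comap_isPrime _ _⟩ hle with h | h
    · refine Or.inl (Ideal.comap_injective_of_surjective (algebraMap B (B ⧸ p.asIdeal)) Ideal.Quotient.mk_surjective ?_)
      exact (congrArg PrimeSpectrum.asIdeal h).trans Ideal.mk_ker.symm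
    · refine Or.inr (Ideal.comap_injective_of_surjective (algebraMap B (B ⧸ p.asIdeal)) Ideal.Quotient.mk_surjective ?_)
      exact (congrArg PrimeSpectrum.asIdeal h).trans hmB.symm

end Groth.Agent.S1394
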