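import Groth.Statements.S13942
import Groth.Agent.CharLift.Norm
import Groth.Agent.ExtEquiv.Basic
import Groth.Agent.GrpSchLib.AffineHopf

set_option autoImplicit false
set_option backward.isDefEq.respectTransparency false
set_option backward.isDefEq.respectTransparency.types false
set_option maxHeartbeats 1000000
set_option linter.style.haveILetI false
universe u
open TateLoc

namespace Groth.Agent.S13942
open Groth.Agent CategoryTheory.MonoidalCategory CategoryTheory.CartesianMonoidalCategory TensorProduct WithConv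

open CategoryTheory AlgebraicGeometry MonObj in
/-- For a non-archimedean local field k of characteristic p > 0 and an affine commutative k-group scheme
G of finite type, the group of characters of G defined over k (morphisms of abelian sheaves on the
big fppf site of Spec k from the sheaf of points of G into the multiplicative group) is a finitely
generated abelian group. -/
theorem result (p : ℕ) [Fact p.Prime] (k : Type u) [Field k] [CharP k p]
    [ValuativeRel k] [TopologicalSpace k] [IsNonarchimedeanLocalField k]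
    (G : Over (Spec (CommRingCat.of k))) [GrpObj G] [IsCommMonObj G] [IsAffine G.left] [LocallyOfFiniteType G.hom] :
    AddGroup.FG ((CGrpSh.pts Scheme.fppfPrecoverage G) ⟶ (CGrpSh2.Gm Scheme.fppfPrecoverage (Spec (CommRingCat.of k)))) := by
  let S := Spec (CommRingCat.of k)
  let K := Scheme.fppfPrecoverage.{u}
  obtain ⟨A, _, _, ⟨eG⟩⟩ := GrpSchLib.AffineHopf.exists_hopf G
  obtain ⟨eM⟩ := GrpSchLib.AffineHopf.nonempty_DS_iso k ℤ
  let e : GrpSchLib.AffineHopf.sp k A ≅ G := (Grp.forget _).mapIso eG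
  let L := MonoidAlgebra k (Multiplicative ℤ)
  let m : GrpSchLib.AffineHopf.sp k L ≅ Red.Gm S := (Grp.forget _).mapIso eM
  haveI : IsMonHom e.hom := eG.hom.hom.isMonHom_hom
  haveI : IsMonHom e.inv := eG.inv.hom.isMonHom_hom
  haveI : IsMonHom m.hom := eM.hom.hom.isMonHom_hom
  haveI : IsMonHom m.inv := eM.inv.hom.isMonHom_hom
  haveI : Algebra.FiniteType k A := by
    have h : LocallyOfFiniteType (GrpSchLib.AffineHopf.sp k A).hom := by rw [← Over.w e.hom]; infer_instance
    exact RingHom.finiteType_algebraMap.1 ((HasRingHomProperty.Spec_iff (P := @LocallyOfFiniteType)).1 h)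
  let ev : (CGrpSh.pts K G ⟶ CGrpSh.pts K (Red.Gm S)) → (G ⟶ Red.Gm S) := fun Φ =>
    (Φ.hom.app (Opposite.op G) (ULift.up (Additive.ofMul (𝟙 G)))).down.toMul
  have hev : ∀ Φ, ∃ (g : G ⟶ Red.Gm S) (_ : IsMonHom g), CGrpSh.ptsMap K g = Φ ∧ ev Φ = g := by
    intro Φ
    obtain ⟨g, hg, rfl⟩ := ExtEquiv.exists_ptsMap K Φ
    exact ⟨g, hg, rfl, Category.id_comp g⟩
  have hev_inj : Function.Injective ev := by
    intro Φ Ψ h
    obtain ⟨g, hg, rfl, hg'⟩ := hev Φ
    obtain ⟨g', hg'', rfl, hg'''⟩ := hev Ψ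
    obtain rfl : g = g' := hg'.symm.trans (h.trans hg''')
    rfl
  have hev_add : ∀ Φ Ψ, ev (Φ + Ψ) = ev Φ * ev Ψ := fun Φ Ψ => rfl
  have hb : ∀ Φ, ∃ f : L →ₐc[k] A, e.hom ≫ ev Φ ≫ m.inv = GrpSchLib.AffineHopf.spMap (f : L →ₐ[k] A) := by
    intro Φ
    obtain ⟨g, hg, -, h⟩ := hev Φ
    rw [h]
    exact GrpSchLib.AffineHopf.exists_bialgHom (e.hom ≫ g ≫ m.inv)
  choose f hf using hb
  let t : L := MonoidAlgebra.single (Multiplicative.ofAdd 1) (1 : k)
  have ht : IsGroupLikeElem k t := MonoidAlgebra.isGroupLikeElem_single_one _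
  let χ : (CGrpSh.pts K G ⟶ CGrpSh.pts K (Red.Gm S)) → Additive (GroupLike k A) := fun Φ =>
    Additive.ofMul ⟨f Φ t, ht.map (f Φ)⟩
  have hχadd : ∀ Φ Ψ, χ (Φ + Ψ) = χ Φ + χ Ψ := by
    intro Φ Ψ
    have h : GrpSchLib.AffineHopf.spMap (f (Φ + Ψ) : L →ₐ[k] A) =
        GrpSchLib.AffineHopf.spMap (f Φ : L →ₐ[k] A) * GrpSchLib.AffineHopf.spMap (f Ψ : L →ₐ[k] A) := by
      rw [← hf, ← hf, ← hf, hev_add, MonObj.mul_comp, MonObj.comp_mul]
    rw [GrpSchLib.AffineHopf.spMap_mul] at h
    have h2 := AlgHom.congr_fun (GrpSchLib.AffineHopf.spMap_injective h) t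
    rw [AlgHom.convMul_apply, ht.comul_eq_tmul_self, Algebra.TensorProduct.lift_tmul] at h2
    apply Additive.toMul.injective
    exact GroupLike.val_injective h2
  have hχinj : Function.Injective χ := by
    intro Φ Ψ h
    apply hev_inj
    have h1 : f Φ t = f Ψ t := congrArg GroupLike.val (Additive.ofMul.injective h)
    have h2 : ((f Φ : L →ₐ[k] A) : L →* A).comp (MonoidAlgebra.of k (Multiplicative ℤ)) =
        ((f Ψ : L →ₐ[k] A) : L →* A).comp (MonoidAlgebra.of k (Multiplicative ℤ)) := by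
      have e' : (((f Φ : L →ₐ[k] A) : L →* A).comp (MonoidAlgebra.of k (Multiplicative ℤ))).toHomUnits =
          (((f Ψ : L →ₐ[k] A) : L →* A).comp (MonoidAlgebra.of k (Multiplicative ℤ))).toHomUnits :=
        MonoidHom.ext_mint (Units.ext h1)
      exact MonoidHom.ext fun x => congrArg Units.val (DFunLike.congr_fun e' x)
    have h3 : (f Φ : L →ₐ[k] A) = (f Ψ : L →ₐ[k] A) :=
      MonoidAlgebra.algHom_ext (fun x => DFunLike.congr_fun h2 x) (by ext)
    have h4 : e.hom ≫ ev Φ ≫ m.inv = e.hom ≫ ev Ψ ≫ m.inv := by rw [hf, hf, h3]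
    exact (cancel_mono m.inv).1 ((cancel_epi e.hom).1 h4)
  haveI : Group.FG (GroupLike k A) := CharLift.fg_groupLike A
  haveI : Module.Finite ℤ (Additive (GroupLike k A)) := Module.Finite.iff_addGroup_fg.2 inferInstance
  let χ' : (CGrpSh.pts K G ⟶ CGrpSh.pts K (Red.Gm S)) →+ Additive (GroupLike k A) := AddMonoidHom.mk' χ hχadd
  haveI : Module.Finite ℤ (CGrpSh.pts K G ⟶ CGrpSh.pts K (Red.Gm S)) :=
    Module.Finite.of_injective χ'.toIntLinearMap hχinj
  exact Module.Finite.iff_addGroup_fg.1 inferInstance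

end Groth.Agent.S13942
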