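import Groth.Statements.S13951
import Groth.Agent.H23.RedSub
import Groth.Agent.AlgSpDec.OneFlat

set_option autoImplicit false
set_option backward.isDefEq.respectTransparency false
set_option backward.isDefEq.respectTransparency.types false
set_option maxHeartbeats 1000000
set_option linter.style.haveILetI false
universe u
open TateLoc

namespace Groth.Agent.S13951

open Groth.Agent Groth.Agent.AlgSpDec CategoryTheory AlgebraicGeometry CategoryTheory.Limits MonoidalCategory CartesianMonoidalCategory MonObj Opposite

open CategoryTheory AlgebraicGeometry CategoryTheory.Limits in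
/-- Let S be a reduced scheme and I a finite locally free commutative S-group scheme (finite, flat, of
finite presentation) whose fibres over all points of S are connected. Then the restriction of the
sheaf of points of I from the big fppf site of S to the small etale site of S is the zero sheaf. -/
theorem result (S : Scheme.{u}) [IsReduced S]
    (I : Over S) [GrpObj I] [IsCommMonObj I] [IsFinite I.hom] [Flat I.hom] [LocallyOfFinitePresentation I.hom]
    (hconn : ∀ s : S, ConnectedSpace ↥(I.hom.fiber s)) :
    IsZero ((BigSite.resEt Scheme.fppfPrecoverage S).obj (CGrpSh.pts Scheme.fppfPrecoverage I)) := by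
  haveI : IsSeparated I.hom := inferInstance
  let e : S ⟶ I.left := η[I].left
  have he : e ≫ I.hom = 𝟙 S := Over.w η[I]
  haveI : IsClosedImmersion (e ≫ I.hom) := he ▸ inferInstance
  haveI : IsClosedImmersion e := IsClosedImmersion.of_comp e I.hom
  have hsurj : ∀ y : I.left, y ∈ Set.range e := by
    intro y
    refine ⟨I.hom y, ?_⟩
    haveI := hconn (I.hom y)
    haveI : DiscreteTopology ↥(I.hom.fiber (I.hom y)) := inferInstance
    haveI : Subsingleton ↥(I.hom.fiber (I.hom y)) := by
      constructor
      intro a b
      have := (isPreconnected_univ (α := ↥(I.hom.fiber (I.hom y)))).subsingleton (Set.mem_univ a) (Set.mem_univ b)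
      exact this
    have hmem : ∀ w : I.left, I.hom w = I.hom y → w ∈ Set.range (I.hom.fiberι (I.hom y)) := fun w hw => by
      rw [Scheme.Hom.range_fiberι]; exact hw
    obtain ⟨a, ha⟩ := hmem (e (I.hom y)) (by
      rw [← Scheme.Hom.comp_apply e I.hom, he]; rfl)
    obtain ⟨b, hb⟩ := hmem y rfl
    exact (ha.symm.trans ((congrArg _ (Subsingleton.elim a b)).trans hb))
  refine (IsZero.iff_id_eq_zero _).2 ?_
  ext U x
  obtain ⟨⟨σ⟩⟩ := x
  refine ULift.ext _ _ ?_
  change (Additive.ofMul (Additive.toMul _) : Additive ((EtFppf.a S).obj (unop U) ⟶ I)) = Additive.ofMul 1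
  haveI : Etale ((EtFppf.a S).obj (unop U)).hom := (unop U).prop
  haveI : IsReduced ((EtFppf.a S).obj (unop U)).left :=
    isReduced_of_etaleMor ((EtFppf.a S).obj (unop U)).hom
  have key : ∀ τ : (EtFppf.a S).obj (unop U) ⟶ I, τ = 1 := by
    intro τ
    obtain ⟨g, hg⟩ := Groth.Agent.H23.RedSub.exists_lift_closed τ.left e (fun z _ => hsurj z)
    have hg' : g = ((EtFppf.a S).obj (unop U)).hom := by
      rw [← Over.w τ, ← hg, Category.assoc, he, Category.comp_id]
    refine Over.OverMorphism.ext ?_
    rw [← hg, hg']
    rfl
  exact congrArg Additive.ofMul (key _)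

end Groth.Agent.S13951
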