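import Groth.Statements.S13954
import Groth.Agent.PicA1.Line

set_option autoImplicit false
set_option backward.isDefEq.respectTransparency false
set_option backward.isDefEq.respectTransparency.types false
set_option maxHeartbeats 1000000
set_option linter.style.haveILetI false
universe u
open TateLoc

namespace Groth.Agent.S13954
open Groth.Agent AlgebraicGeometry CategoryTheory

open CategoryTheory AlgebraicGeometry in
/-- Let X be a reduced scheme whose invertible modules are all trivial (Pic X = 0), and n a natural
number. If for every point x of X all invertible modules on affine n-space over Spec of the local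
ring of X at x are trivial, then all invertible modules on affine n-space over X are trivial. -/
theorem result (X : Scheme.{u}) [IsReduced X] (n : ℕ)
    (hX : (∀ L : (X).Modules, PicF.IsInvertible L → Nonempty (L ≅ Coh.structureModule (X))))
    (hloc : ∀ x : X, (∀ L : (AffineSpace (ULift.{u} (Fin n)) (Spec (X.presheaf.stalk x))).Modules, PicF.IsInvertible L → Nonempty (L ≅ Coh.structureModule (AffineSpace (ULift.{u} (Fin n)) (Spec (X.presheaf.stalk x)))))) :
    (∀ L : (AffineSpace (ULift.{u} (Fin n)) X).Modules, PicF.IsInvertible L → Nonempty (L ≅ Coh.structureModule (AffineSpace (ULift.{u} (Fin n)) X))) := by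
  intro L hL
  have hloc' : ∀ (x : X) (L : (AffineSpace (ULift.{u} (Fin n)) (Spec (X.presheaf.stalk x))).Modules),
      PicF.IsInvertible L → ∃ t : Γ(L, ⊤), InvX.IsFrame t := fun x L hL => by
    obtain ⟨e⟩ := hloc x L hL
    exact ⟨_, (InvX.isFrame_one (X := AffineSpace (ULift.{u} (Fin n)) (Spec (X.presheaf.stalk x))) ⊤).map_iso e.symm⟩
  obtain ⟨e⟩ := PicA1.nonempty_iso_pullback _ X hloc' hL
  obtain ⟨e'⟩ := hX _ (PicClLib.isInvertible_pullback (PicA1.sec _ X) hL)
  obtain ⟨e''⟩ := PicClLib.nonempty_pullback_structureModule (AffineSpace (ULift.{u} (Fin n)) X ↘ X)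
  exact ⟨e ≪≫ (Scheme.Modules.pullback _).mapIso e' ≪≫ e''⟩

end Groth.Agent.S13954
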