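import Groth.Statements.S13987
import Groth.Agent.CohGabLib.Fractions
import Groth.Agent.KZ.Localization
import Groth.Agent.FComplLib.KrullSupp

set_option autoImplicit false
set_option backward.isDefEq.respectTransparency false
set_option backward.isDefEq.respectTransparency.types false
universe u
open CategoryTheory CategoryTheory.Limits AlgebraicGeometry
open CohGab

namespace Groth.Agent.S13987

/-- Let X be a Noetherian scheme, Z ⊆ X a closed subset and U = X ∖ Z. Then restriction to U induces an
equivalence between the quotient abelian category Coh(X)/Coh_Z(X) (coherent modules modulo those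
supported in Z) and Coh(U): the restriction functor Coh(X) ⥤ Coh(U) is a localization functor for
the class of morphisms of coherent O_X-modules whose kernel and cokernel (taken in O_X-modules) have
support contained in Z. The hypothesis that restriction to U preserves coherence always holds and is
carried only to form the functor between the full subcategories. (The published statement is about
coherent sheaves twisted by a class in the second etale cohomology group of the units of the
structure sheaf; this row is its case of the trivial class, ordinary coherent sheaves.) -/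
theorem result (X : Scheme.{u}) [IsNoetherian X]
    (U : X.Opens)
    (hres : ∀ M : X.Modules, Coh.IsCoh M → Coh.IsCoh ((Scheme.Modules.restrictFunctor U.ι).obj M)) :
    (ObjectProperty.lift (fun N : (↑U : Scheme.{u}).Modules => Coh.IsCoh N)
        (ObjectProperty.ι (fun M : X.Modules => Coh.IsCoh M) ⋙ Scheme.Modules.restrictFunctor U.ι)
        (fun M => hres M.obj M.property)).IsLocalization
      (fun (A B : ObjectProperty.FullSubcategory (fun M : X.Modules => Coh.IsCoh M)) (f : A ⟶ B) =>
        CohB1.support (kernel f.hom) ⊆ (↑U : Set X)ᶜ ∧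
          CohB1.support (cokernel f.hom) ⊆ (↑U : Set X)ᶜ) := by
  let R := Scheme.Modules.restrictFunctor U.ι
  haveI : PreservesColimits R := (Scheme.Modules.restrictAdjunction U.ι).leftAdjoint_preservesColimits
  have isZ : ∀ {M : X.Modules}, Coh.IsCoh M → (CohB1.support M ⊆ (↑U : Set X)ᶜ ↔ IsZero (R.obj M)) :=
    fun {M} hM => ⟨fun h => Groth.Agent.FComplLib.isZero_restrict_of_subsingleton_stalk M U fun x hx =>
      not_nontrivial_iff_subsingleton.1 fun hn => h (not_subsingleton _) hx,
      Groth.Agent.KZ.Localization.isZero_restrict_iff hM⟩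
  have hiso : ∀ {A B : X.Modules} (f : A ⟶ B), Coh.IsCoh A → Coh.IsCoh B →
      (CohB1.support (kernel f) ⊆ (↑U : Set X)ᶜ ∧ CohB1.support (cokernel f) ⊆ (↑U : Set X)ᶜ ↔
        IsIso (R.map f)) := fun {A B} f hA hB => by
    rw [isZ (Groth.Agent.QCoh.isCoh_kernel hA hB f), isZ (Groth.Agent.QCoh.isCoh_cokernel hA.1 hB f)]
    refine ⟨fun ⟨h1, h2⟩ => ?_, fun h => ⟨?_, ?_⟩⟩
    · haveI := Preadditive.mono_of_kernel_zero ((h1.of_iso (PreservesKernel.iso R f).symm).eq_of_src (kernel.ι (R.map f)) 0)
      haveI := Preadditive.epi_of_cokernel_zero ((h2.of_iso (PreservesCokernel.iso R f).symm).eq_of_tgt (cokernel.π (R.map f)) 0)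
      exact isIso_of_mono_of_epi _
    · exact (isZero_kernel_of_mono (R.map f)).of_iso (PreservesKernel.iso R f)
    · exact (isZero_cokernel_of_epi (R.map f)).of_iso (PreservesCokernel.iso R f)
  refine Groth.Agent.CohGabLib.isLocalization_of_fractions _ _
    (fun {A B} f => (hiso f.hom A.property B.property).trans ?_) ⟨fun N => ?_⟩
    (fun {A B} g => ?_) (fun {A B} f g e => ?_)
  · exact isIso_iff_of_reflects_iso ((ObjectProperty.lift (fun N : (↑U : Scheme.{u}).Modules => Coh.IsCoh N)
      (ObjectProperty.ι (fun M : X.Modules => Coh.IsCoh M) ⋙ R) (fun M => hres M.obj M.property)).map f)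
      (ObjectProperty.ι _)
  · obtain ⟨G, hq, hft, ⟨e⟩⟩ :=
      Groth.Agent.QCoh.exists_extension_abs (Groth.Agent.KZ.extStep U) N.obj N.property.1 N.property.2
    exact ⟨⟨G, hq, hft⟩, ⟨ObjectProperty.isoMk _ e⟩⟩
  · let P := A.obj ⊞ B.obj
    let g' : R.obj A.obj ⟶ R.obj B.obj := g.hom
    let i : R.obj A.obj ⟶ R.obj P :=
      R.map (biprod.inl : A.obj ⟶ P) + g' ≫ R.map (biprod.inr : B.obj ⟶ P)
    have hf : i ≫ R.map (biprod.fst : P ⟶ A.obj) = 𝟙 _ := by
      simp [i, P, ← R.map_comp]
    have hs : i ≫ R.map (biprod.snd : P ⟶ B.obj) = g' := by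
      simp [i, P, ← R.map_comp]
    haveI : Mono i := SplitMono.mono ⟨_, hf⟩
    obtain ⟨G, i', e, -, hq, hft, he⟩ := Groth.Agent.QCoh.exists_extension'
      (Groth.Agent.KZ.isCoh_biprod A.property B.property).1 (Groth.Agent.KZ.extStep U) i
      (hres _ A.property).1 (hres _ A.property).2
    refine ⟨⟨G, hq, hft⟩, ObjectProperty.homMk (i' ≫ biprod.fst), ObjectProperty.homMk (i' ≫ biprod.snd), ?_, ?_⟩
    · refine (isIso_iff_of_reflects_iso _ (ObjectProperty.ι _)).1 ?_
      change IsIso (R.map (i' ≫ biprod.fst))
      rw [R.map_comp, show R.map i' = e.hom ≫ i from he.symm, Category.assoc, hf]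
      exact inferInstanceAs (IsIso (e.hom ≫ 𝟙 _))
    · apply ObjectProperty.hom_ext
      change R.map (i' ≫ biprod.fst) ≫ g' = R.map (i' ≫ biprod.snd)
      simp only [R.map_comp, show R.map i' = e.hom ≫ i from he.symm, Category.assoc, hs]
      exact congrArg (e.hom ≫ ·) ((reassoc_of% hf) g')
  · have e0 : R.map f.hom = R.map g.hom := congrArg (ObjectProperty.ι (fun N : (↑U : Scheme.{u}).Modules => Coh.IsCoh N)).map e
    refine ⟨⟨kernel (f.hom - g.hom), Groth.Agent.QCoh.isCoh_kernel A.property B.property _⟩,
      ObjectProperty.homMk (kernel.ι (f.hom - g.hom)), ?_, ?_⟩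
    · refine (isIso_iff_of_reflects_iso _ (ObjectProperty.ι _)).1 ?_
      change IsIso (R.map (kernel.ι (f.hom - g.hom)))
      have h0 : R.map (f.hom - g.hom) = 0 := by rw [R.map_sub, e0, sub_self]
      rw [← kernelComparison_comp_ι (f.hom - g.hom) R]
      haveI : IsIso (kernel.ι (R.map (f.hom - g.hom))) :=
        ⟨kernel.lift _ (𝟙 _) ((Category.id_comp _).trans h0), (cancel_mono (kernel.ι _)).1 (by simp), by simp⟩
      infer_instance
    · apply ObjectProperty.hom_ext
      change kernel.ι (f.hom - g.hom) ≫ f.hom = kernel.ι (f.hom - g.hom) ≫ g.hom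
      rw [← sub_eq_zero, ← Preadditive.comp_sub, kernel.condition]

end Groth.Agent.S13987
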