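import Groth.Statements.S13988
import Groth.Agent.KZ.OpenExt
import Groth.Agent.KFlatLib.Scheme.LocalDevissage
-- import your own Groth.Agent.* helpers here

set_option autoImplicit false
universe u
open CategoryTheory AlgebraicGeometry
open CohGab

set_option backward.isDefEq.respectTransparency false
set_option backward.isDefEq.respectTransparency.types false

namespace Groth.Agent.S13988

open CategoryTheory.Limits TopologicalSpace Opposite Groth.Agent

variable {X : Scheme.{u}}

/-- The map from the structure sheaf of an open defined by a section. -/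
noncomputable def secHom (U : X.Opens) (M : X.Modules) (z : Γ(M, U.ι ''ᵁ ⊤)) :
    Coh.structureModule (U : Scheme.{u}) ⟶ M.restrict U.ι :=
  (M.restrict U.ι).unitHomEquiv.symm
    ⟨fun V => M.presheaf.map (homOfLE (U.ι.image_mono le_top)).op z, fun {V V'} f => by
      show M.presheaf.map ((U.ι.opensFunctor).map f.unop).op (M.presheaf.map _ z) = M.presheaf.map _ z
      rw [← ConcreteCategory.comp_apply, ← M.presheaf.map_comp, ← op_comp]
      rfl⟩

lemma secHom_app (U : X.Opens) (M : X.Modules) (z : Γ(M, U.ι ''ᵁ ⊤)) (V : (U : Scheme.{u}).Opens)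
    (a : Γ((U : Scheme.{u}), V)) :
    (secHom U M z).app V a =
      ((U.ι.appIso V).inv a : Γ(X, U.ι ''ᵁ V)) • (M.presheaf.map (homOfLE (U.ι.image_mono le_top)).op z : Γ(M, U.ι ''ᵁ V)) :=
  rfl

/-- Natural endomorphisms act by the global function through which they act on the structure sheaf. -/
theorem app_eq_smul [IsNoetherian X]
    (φ : 𝟭 (ObjectProperty.FullSubcategory (fun M : X.Modules => Coh.IsCoh M)) ⟶
      𝟭 (ObjectProperty.FullSubcategory (fun M : X.Modules => Coh.IsCoh M)))
    (M : ObjectProperty.FullSubcategory (fun M : X.Modules => Coh.IsCoh M)) (U : X.Opens)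
    (s : Γ(M.obj, U.ι ''ᵁ ⊤)) :
    (φ.app M).hom.app (U.ι ''ᵁ ⊤) s =
      (X.presheaf.map (homOfLE le_top).op
        ((φ.app ⟨Coh.structureModule X, QCoh.isCoh_structureModule'⟩).hom.app ⊤ (1 : Γ(X, ⊤))) : Γ(X, U.ι ''ᵁ ⊤)) • s := by
  let O : ObjectProperty.FullSubcategory (fun M : X.Modules => Coh.IsCoh M) :=
    ⟨Coh.structureModule X, QCoh.isCoh_structureModule'⟩
  let W : X.Opens := U.ι ''ᵁ ⊤
  let B := O.obj ⊞ M.obj
  let z : Γ(B, W) := (biprod.inl : O.obj ⟶ B).app W (1 : Γ(X, W)) + (biprod.inr : M.obj ⟶ B).app W s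
  have hfst : ∀ V (c : Γ(O.obj, V)), (biprod.fst : B ⟶ O.obj).app V ((biprod.inl : O.obj ⟶ B).app V c) = c :=
    fun V c => congr(($(biprod.inl_fst (X := O.obj) (Y := M.obj))).app V c)
  have hz1 : (biprod.fst : B ⟶ O.obj).app W z = (1 : Γ(X, W)) := by
    rw [map_add, hfst, show (biprod.fst : B ⟶ O.obj).app W ((biprod.inr : M.obj ⟶ B).app W s) = 0 from
      congr(($(biprod.inr_fst (X := O.obj) (Y := M.obj))).app W s), add_zero]
  have hz2 : (biprod.snd : B ⟶ M.obj).app W z = s := by
    rw [map_add, show (biprod.snd : B ⟶ M.obj).app W ((biprod.inl : O.obj ⟶ B).app W (1 : Γ(X, W))) = 0 from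
      congr(($(biprod.inl_snd (X := O.obj) (Y := M.obj))).app W (1 : Γ(X, W)))]
    exact (zero_add _).trans congr(($(biprod.inr_snd (X := O.obj) (Y := M.obj))).app W s)
  let i := secHom U B z
  have hinj : ∀ V, Function.Injective
      ((i ≫ (Scheme.Modules.restrictFunctor U.ι).map (biprod.fst : B ⟶ O.obj)).app V) := fun V a b h => by
    have e : ∀ c : Γ((U : Scheme.{u}), V), (biprod.fst : B ⟶ O.obj).app (U.ι ''ᵁ V) (i.app V c) =
        ((U.ι.appIso V).inv c : Γ(X, U.ι ''ᵁ V)) := fun c => by
      rw [secHom_app, Scheme.Modules.Hom.app_smul]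
      have h1 : (biprod.fst : B ⟶ O.obj).app (U.ι ''ᵁ V) (B.presheaf.map (homOfLE (U.ι.image_mono le_top)).op z) =
          (1 : Γ(X, U.ι ''ᵁ V)) := by
        refine (QCoh.map_app_comm (biprod.fst : B ⟶ O.obj) (homOfLE (U.ι.image_mono le_top)) z).trans ?_
        rw [hz1]
        exact map_one (X.presheaf.map (homOfLE (U.ι.image_mono le_top)).op).hom
      rw [h1]
      exact mul_one (M := Γ(X, U.ι ''ᵁ V)) _
    exact (ConcreteCategory.bijective_of_isIso (U.ι.appIso V).inv).1 ((e a).symm.trans (h.trans (e b)))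
  have : Mono (i ≫ (Scheme.Modules.restrictFunctor U.ι).map (biprod.fst : B ⟶ O.obj)) :=
    QCoh.mono_of_isBasis _ (B := Set.univ) (Opens.isBasis_iff_nbhd.2 fun {V x} hx => ⟨V, trivial, hx, le_rfl⟩) fun V _ => hinj V
  have : Mono i := mono_of_mono i ((Scheme.Modules.restrictFunctor U.ι).map (biprod.fst : B ⟶ O.obj))
  have hB : Coh.IsCoh B := KZ.isCoh_biprod O.property M.property
  obtain ⟨G, i', e, hi', hq, hft, he⟩ := QCoh.exists_extension' hB.1 (KZ.extStep U) i
    QCoh.isQCoh_structureModule QCoh.isCoh_structureModule'.2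
  let Gc : ObjectProperty.FullSubcategory (fun M : X.Modules => Coh.IsCoh M) := ⟨G, hq, hft⟩
  let p : Gc ⟶ O := ObjectProperty.homMk (i' ≫ biprod.fst)
  let q : Gc ⟶ M := ObjectProperty.homMk (i' ≫ biprod.snd)
  let x : Γ(G, W) := e.inv.app ⊤ (1 : Γ((U : Scheme.{u}), ⊤))
  have hx : i'.app W x = z := by
    have h1 : (e.hom ≫ i).app ⊤ x = i'.app W x := congr(($he).app ⊤ x)
    refine h1.symm.trans ?_
    show i.app ⊤ (e.hom.app ⊤ x) = z
    rw [show e.hom.app ⊤ x = (1 : Γ((U : Scheme.{u}), ⊤)) from congr(($(e.inv_hom_id)).app ⊤ (1 : Γ((U : Scheme.{u}), ⊤))),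
      secHom_app, map_one, one_smul]
    exact QCoh.map_id' _ z
  have hp : Function.Injective (p.hom.app W) := fun a b h => by
    have h2 : ∀ c : Γ(G, W), p.hom.app W c =
        (i ≫ (Scheme.Modules.restrictFunctor U.ι).map (biprod.fst : B ⟶ O.obj)).app ⊤ (e.hom.app ⊤ c) := fun c => by
      show (biprod.fst : B ⟶ O.obj).app W (i'.app W c) = (biprod.fst : B ⟶ O.obj).app W ((e.hom ≫ i).app ⊤ c)
      exact congrArg ((biprod.fst : B ⟶ O.obj).app W) congr(($he).app ⊤ c).symm
    exact (Function.LeftInverse.injective (g := e.inv.app ⊤) fun c => congr(($(e.hom_inv_id)).app ⊤ c))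
      (hinj ⊤ ((h2 a).symm.trans (h.trans (h2 b))))
  set r := (φ.app O).hom.app ⊤ (1 : Γ(X, ⊤))
  have hpx : p.hom.app W x = (1 : Γ(X, W)) := by
    show (biprod.fst : B ⟶ O.obj).app W (i'.app W x) = _
    rw [hx, hz1]
  have hφx : (φ.app Gc).hom.app W x = (X.presheaf.map (homOfLE le_top).op r : Γ(X, W)) • x := by
    refine hp (Eq.trans ?_ (Scheme.Modules.Hom.app_smul p.hom _ x).symm)
    refine (congr(($(φ.naturality p)).hom.app W x)).symm.trans ?_
    show (φ.app O).hom.app W (p.hom.app W x) = _
    rw [hpx]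
    refine Eq.trans ?_ (mul_one (M := Γ(X, W)) _).symm
    refine Eq.trans ?_ (QCoh.map_app_comm (φ.app O).hom (homOfLE le_top) (1 : Γ(X, ⊤)))
    exact congrArg _ (map_one (X.presheaf.map (homOfLE (le_top : W ≤ ⊤)).op).hom).symm
  have hqx : q.hom.app W x = s := by
    show (biprod.snd : B ⟶ M.obj).app W (i'.app W x) = _
    rw [hx, hz2]
  rw [← hqx]
  exact congr(($(φ.naturality q)).hom.app W x).trans
    ((congrArg (q.hom.app W) hφx).trans (Scheme.Modules.Hom.app_smul q.hom _ x))


/-- Let X be a Noetherian scheme. The canonical ring map from the global functions Γ(X, O_X) to the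
centre of the category of coherent O_X-modules (the endomorphisms of its identity functor), sending
r to multiplication by r, is bijective: for every natural endomorphism φ of the identity functor of
Coh(X) there is a unique global function r such that, for every coherent module M, φ_M is
multiplication by r (compared as maps of the underlying abelian sheaves). (The published result
builds a ringed space from Coh(X) — irreducible Serre subcategories of finite type, with the centres
of the categories Coh(U) as structure sheaf — and proves it isomorphic to X, for coherent sheaves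
twisted by a class in the cohomological Brauer group and with X over a field, a hypothesis its proof
does not use; this row is the ring-theoretic content of that isomorphism on global sections, for the
trivial class; applied to the open subschemes of X it gives the statement on every open.) -/
theorem result (X : Scheme.{u}) [IsNoetherian X]
    (φ : 𝟭 (ObjectProperty.FullSubcategory (fun M : X.Modules => Coh.IsCoh M)) ⟶ 𝟭 (ObjectProperty.FullSubcategory (fun M : X.Modules => Coh.IsCoh M))) :
    ∃! r : Coh.Γtop X, ∀ M : ObjectProperty.FullSubcategory (fun M : X.Modules => Coh.IsCoh M),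
      (SheafOfModules.toSheaf X.ringCatSheaf).map (φ.app M).hom = Coh.smulAb M.obj r := by
  let O : ObjectProperty.FullSubcategory (fun M : X.Modules => Coh.IsCoh M) :=
    ⟨Coh.structureModule X, QCoh.isCoh_structureModule'⟩
  refine ⟨(φ.app O).hom.app ⊤ (1 : Γ(X, ⊤)), fun M => ?_, fun r hr => ?_⟩
  · apply Sheaf.hom_ext
    ext ⟨U₀⟩ s
    let U : X.Opens := U₀
    have hW : U.ι ''ᵁ ⊤ = U := by
      rw [Scheme.Hom.image_top_eq_opensRange, Scheme.Opens.opensRange_ι]
    have key : ∀ (V : X.Opens), V = U.ι ''ᵁ ⊤ → ∀ s : Γ(M.obj, V), (φ.app M).hom.app V s =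
        (X.presheaf.map (homOfLE le_top).op ((φ.app O).hom.app ⊤ (1 : Γ(X, ⊤))) : Γ(X, V)) • s := by
      rintro V rfl s
      exact app_eq_smul φ M U s
    exact key U hW.symm s
  · have h := congr(($(hr O)).hom.app (op (⊤ : X.Opens)) (1 : Γ(X, ⊤)))
    refine Eq.trans ?_ h.symm
    show r = HMul.hMul (α := Γ(X, ⊤)) (β := Γ(X, ⊤)) (Coh.resTop X (op ⊤) r) 1
    rw [mul_one]
    exact (ConcreteCategory.congr_hom (X.ringCatSheaf.obj.map_id (op ⊤)) r).symm

end Groth.Agent.S13988
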