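import Groth.Statements.S13989
import Mathlib.CategoryTheory.Abelian.SerreClass.Localization
import Mathlib.CategoryTheory.Localization.CalculusOfFractions.Fractions
-- import your own Groth.Agent.* helpers here

set_option autoImplicit false
universe v u v' u' v'' u''
open CategoryTheory CategoryTheory.Limits
open CohGab

namespace Groth.Agent.S13989

section Core

variable {A A' : Type u} [Category.{v} A] [Abelian A] [Category.{v} A'] [Abelian A']
  (i : A' ⥤ A) [i.Full] [i.Faithful] [PreservesFiniteLimits i] [PreservesFiniteColimits i]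
  (J : ObjectProperty A) [J.IsSerreClass] [(J.inverseImage i).IsSerreClass]

/-- Every fraction in `A` is a zigzag in `A'`. -/
lemma exists_zigzag (hsub : ∀ (M : A') (N : A) (f : N ⟶ i.obj M), Mono f → J N → i.essImage N)
    (hquot : ∀ (M : A') (N : A) (p : i.obj M ⟶ N), Epi p → J N → i.essImage N)
    {M N : A'} {Y : A} (f : i.obj M ⟶ Y) (s : i.obj N ⟶ Y) (hs : J.isoModSerre s) :
    ∃ (M' N' : A') (ι : M' ⟶ M) (h : M' ⟶ N') (q : N ⟶ N') (j : i.obj N' ⟶ Y),
      (J.inverseImage i).isoModSerre ι ∧ (J.inverseImage i).isoModSerre q ∧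
        i.map ι ≫ f = i.map h ≫ j ∧ i.map q ≫ j = s := by
  obtain ⟨K, ⟨eK⟩⟩ := hsub N _ (kernel.ι s) inferInstance hs.1
  let k : K ⟶ N := i.preimage (eK.hom ≫ kernel.ι s)
  have hk : i.map k = eK.hom ≫ kernel.ι s := i.map_preimage _
  let q := cokernel.π k
  let w : cokernel (i.map k) ≅ cokernel (kernel.ι s) :=
    cokernelIsoOfEq hk ≪≫ cokernelEpiComp eK.hom (kernel.ι s)
  let j : i.obj (cokernel k) ⟶ Y :=
    ((PreservesCokernel.iso i k).hom ≫ w.hom) ≫ Abelian.factorThruCoimage s
  have hqj : i.map q ≫ j = s := by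
    have h0 : cokernel.π (i.map k) ≫ w.hom = cokernel.π (kernel.ι s) := by
      simp [w, cokernelEpiComp]
    show i.map q ≫ ((PreservesCokernel.iso i k).hom ≫ w.hom) ≫ Abelian.factorThruCoimage s = s
    rw [← Category.assoc, ← Category.assoc, PreservesCokernel.π_iso_hom, h0]
    exact Abelian.coimage.fac s
  have : Mono j := mono_comp _ _
  have hq : (J.inverseImage i).isoModSerre q := by
    refine ⟨?_, (J.inverseImage i).prop_of_isZero (isZero_cokernel_of_epi _)⟩
    refine (J.inverseImage i).prop_of_iso ?_ (show J (i.obj K) from J.prop_of_iso eK.symm hs.1)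
    have : Mono (i.map k) := by rw [hk]; infer_instance
    have : Mono k := i.mono_of_mono_map this
    exact (Abelian.monoIsKernelOfCokernel _ (cokernelIsCokernel k)).conePointUniqueUpToIso (limit.isLimit _)
  let u : i.obj M ⟶ cokernel s := f ≫ cokernel.π s
  have hu : J (Abelian.coimage u) :=
    J.prop_of_mono (Abelian.factorThruCoimage u) hs.2
  obtain ⟨C', ⟨eC⟩⟩ := hquot M _ (Abelian.coimage.π u) inferInstance hu
  let p : M ⟶ C' := i.preimage (Abelian.coimage.π u ≫ eC.inv)
  let ι := kernel.ι p
  have hιu : i.map ι ≫ u = 0 := by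
    have h1 : i.map ι ≫ i.map p = 0 := by rw [← i.map_comp, kernel.condition, i.map_zero]
    rw [i.map_preimage, ← Category.assoc] at h1
    have h2 : i.map ι ≫ Abelian.coimage.π u = 0 := (cancel_mono eC.inv).1 (h1.trans zero_comp.symm)
    rw [← Abelian.coimage.fac u, ← Category.assoc, h2, zero_comp]
  have hι : (J.inverseImage i).isoModSerre ι :=
    ⟨(J.inverseImage i).prop_of_isZero (isZero_kernel_of_mono _),
      (J.inverseImage i).prop_of_mono (Abelian.factorThruCoimage p)
        (show J (i.obj C') from J.prop_of_iso eC.symm hu)⟩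
  have hπ : ∃ γ, cokernel.π s ≫ γ = cokernel.π j :=
    ⟨cokernel.desc s (cokernel.π j) ((congrArg (· ≫ cokernel.π j) hqj.symm).trans (by rw [Category.assoc, cokernel.condition, comp_zero])),
      cokernel.π_desc _ _ _⟩
  obtain ⟨γ, hγ⟩ := hπ
  let l := Abelian.monoLift j (i.map ι ≫ f) (by
    rw [← hγ, Category.assoc, ← Category.assoc f, ← Category.assoc, hιu, zero_comp])
  refine ⟨kernel p, cokernel k, ι, i.preimage l, q, j, hι, hq, ?_, hqj⟩
  rw [i.map_preimage]
  exact (Abelian.monoLift_comp _ _ _).symm

variable {Q : Type u'} [Category.{v'} Q] (L : A ⥤ Q) [L.IsLocalization J.isoModSerre]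
  {Q' : Type u''} [Category.{v''} Q'] (L' : A' ⥤ Q') [L'.IsLocalization (J.inverseImage i).isoModSerre]

omit [i.Full] [i.Faithful] in
include J in
lemma map_eq_of_map_eq {M N : A'} (f g : M ⟶ N) (h : L.map (i.map f) = L.map (i.map g)) :
    L'.map f = L'.map g := by
  obtain ⟨Z, s, hs, e⟩ := (MorphismProperty.map_eq_iff_postcomp L J.isoModSerre _ _).1 h
  have h0 : J (Abelian.image (i.map f - i.map g)) :=
    (ObjectProperty.exists_comp_isoModSerre_eq_zero_iff J _).1
      ⟨Z, s, hs, by rw [Preadditive.sub_comp, e, sub_self]⟩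
  have : i.Additive := Functor.additive_of_preserves_binary_products i
  obtain ⟨Y', t, ht, et⟩ := (ObjectProperty.exists_comp_isoModSerre_eq_zero_iff (J.inverseImage i) (f - g)).2
    (show J (i.obj (Abelian.image (f - g))) from J.prop_of_iso
      (PreservesKernel.iso i (cokernel.π (f - g)) ≪≫
        kernel.mapIso _ (cokernel.π (i.map f - i.map g)) (Iso.refl _)
          (PreservesCokernel.iso i (f - g) ≪≫ cokernelIsoOfEq (i.map_sub (f := f) (g := g)))
          (by simp)).symm h0)
  exact (MorphismProperty.map_eq_iff_postcomp L' (J.inverseImage i).isoModSerre _ _).2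
    ⟨Y', t, ht, sub_eq_zero.1 (by rw [← Preadditive.sub_comp, et])⟩

end Core


/-- Let A be an abelian category, A' a full abelian subcategory (given as a fully faithful exact functor
i : A' ⥤ A) and J a Serre subcategory of A, with J' = J ∩ A' (the preimage of J under i, a Serre
subcategory of A'). Assume that every subobject and every quotient object, in A, of an object of A'
which belongs to J belongs to A' (lies in the essential image of i). Then the functor A'/J' ⥤ A/J
induced between the quotient categories is fully faithful: for L : A ⥤ Q and L' : A' ⥤ Q'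
localization functors at the morphisms whose kernel and cokernel lie in J, resp. J', every functor Φ
: Q' ⥤ Q with L' ⋙ Φ ≅ i ⋙ L is full and faithful. -/
theorem result
    {A A' : Type u} [Category.{v} A] [Abelian A] [Category.{v} A'] [Abelian A']
    (i : A' ⥤ A) [i.Full] [i.Faithful] [PreservesFiniteLimits i] [PreservesFiniteColimits i]
    (J : ObjectProperty A) [J.IsSerreClass] [(J.inverseImage i).IsSerreClass]
    (hsub : ∀ (M : A') (N : A) (f : N ⟶ i.obj M), Mono f → J N → i.essImage N)
    (hquot : ∀ (M : A') (N : A) (p : i.obj M ⟶ N), Epi p → J N → i.essImage N)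
    {Q : Type u'} [Category.{v'} Q] (L : A ⥤ Q) [L.IsLocalization J.isoModSerre]
    {Q' : Type u''} [Category.{v''} Q'] (L' : A' ⥤ Q') [L'.IsLocalization (J.inverseImage i).isoModSerre]
    (Φ : Q' ⥤ Q) (e : L' ⋙ Φ ≅ i ⋙ L) : Φ.Full ∧ Φ.Faithful := by
  have := Localization.essSurj L' (J.inverseImage i).isoModSerre
  have he : ∀ {M N : A'} (f : M ⟶ N), Φ.map (L'.map f) = e.hom.app M ≫ L.map (i.map f) ≫ e.inv.app N := by
    intro M N f
    rw [← Category.assoc, ← show Φ.map (L'.map f) ≫ e.hom.app N = e.hom.app M ≫ L.map (i.map f) from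
      e.hom.naturality f, Category.assoc, Iso.hom_inv_id_app]
    exact (Category.comp_id _).symm
  refine ⟨?_, Functor.faithful_of_comp_of_hasLeftCalculusOfFractions L' (J.inverseImage i).isoModSerre Φ
    fun M N f g h => map_eq_of_map_eq i J L L' f g ?_⟩
  · refine ⟨fun {P R} γ => ?_⟩
    let aP := L'.objObjPreimageIso P
    let aR := L'.objObjPreimageIso R
    let M := L'.objPreimage P
    let N := L'.objPreimage R
    let g : L.obj (i.obj M) ⟶ L.obj (i.obj N) :=
      e.inv.app M ≫ Φ.map aP.hom ≫ γ ≫ Φ.map aR.inv ≫ e.hom.app N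
    obtain ⟨φ, hφ⟩ := Localization.exists_leftFraction L J.isoModSerre g
    obtain ⟨M', N', ι, h, q, j, hι, hq, hf, hs⟩ := exists_zigzag i J hsub hquot φ.f φ.s φ.hs
    have := Localization.inverts L' (J.inverseImage i).isoModSerre ι hι
    have := Localization.inverts L' (J.inverseImage i).isoModSerre q hq
    have := Localization.inverts L J.isoModSerre φ.s φ.hs
    let δ : L'.obj M ⟶ L'.obj N := inv (L'.map ι) ≫ L'.map h ≫ inv (L'.map q)
    have hg : L.map (i.map ι) ≫ g ≫ L.map (i.map q) = L.map (i.map h) := by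
      have h1 : g ≫ L.map (i.map q) ≫ L.map j = L.map φ.f := by
        rw [← L.map_comp, hs, hφ]
        exact φ.map_comp_map_s L _
      have : IsIso (L.map (i.map q)) := by
        have : IsIso (Φ.map (L'.map q)) := inferInstance
        rw [he] at this
        have h2 : IsIso (L.map (i.map q) ≫ e.inv.app N') :=
          IsIso.of_isIso_comp_left (e.hom.app N) _
        exact IsIso.of_isIso_comp_right _ (e.inv.app N')
      have : IsIso (L.map j) := by
        have : IsIso (L.map (i.map q) ≫ L.map j) := by rw [← L.map_comp, hs]; infer_instance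
        exact IsIso.of_isIso_comp_left (L.map (i.map q)) _
      rw [← cancel_mono (L.map j), Category.assoc, Category.assoc, h1, ← L.map_comp, hf, L.map_comp]
    refine ⟨aP.inv ≫ δ ≫ aR.hom, ?_⟩
    have hδ : Φ.map δ = Φ.map aP.hom ≫ γ ≫ Φ.map aR.inv := by
      rw [← cancel_epi (Φ.map (L'.map ι)), ← cancel_mono (Φ.map (L'.map q))]
      rw [← Φ.map_comp, ← Φ.map_comp, show (L'.map ι ≫ δ) ≫ L'.map q = L'.map h by simp [δ], he, he, he, ← hg]
      simp [g]
    rw [Φ.map_comp, Φ.map_comp, hδ]
    simp [← Φ.map_comp_assoc, ← Φ.map_comp]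
  · rw [he, he] at h
    exact (cancel_mono (e.inv.app N)).1 ((cancel_epi (e.hom.app M)).1 h)

end Groth.Agent.S13989
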