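import Groth.Statements.S13991
import Groth.Agent.CohGabLib.SerreSupp
-- import your own Groth.Agent.* helpers here

set_option autoImplicit false
universe u
open CategoryTheory AlgebraicGeometry
open CohGab

namespace Groth.Agent.S13991

/-- Let X be a Noetherian scheme and Z ⊆ X a closed subset. Then Z is irreducible (or empty) if and only
if Coh_Z(X), the coherent O_X-modules supported in Z, is an irreducible Serre subcategory of Coh(X),
i.e. it is not generated as a Serre subcategory by two Serre subcategories properly contained in it: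
whenever J₁, J₂ are Serre classes on coherent modules (middle term of a short exact sequence of
coherent modules belongs iff both outer terms do), both contained in Coh_Z, such that every Serre
class on coherent modules containing J₁ and J₂ contains Coh_Z, then J₁ or J₂ contains Coh_Z.
Consequently the points of X correspond to the irreducible Serre subcategories of finite type other
than the zero subcategory. (The published statement says 'Z is irreducible iff Coh_Z is irreducible'
and deduces a bijection between the points of X and all irreducible Serre subcategories of finite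
type; the zero subcategory Coh_∅ is irreducible in this sense while ∅ is not an irreducible space,
so irreducibility of Z is read here as 'irreducible or empty'. The published statement is also about
coherent sheaves twisted by a class in the second etale cohomology group of the units of the
structure sheaf; this row is its case of the trivial class.) -/
theorem result (X : Scheme.{u}) [IsNoetherian X]
    (Z : TopologicalSpace.Closeds X) :
    IsPreirreducible (↑Z : Set X) ↔
    ∀ J₁ J₂ : ObjectProperty X.Modules, (∀ S : ShortComplex X.Modules, S.ShortExact → Coh.IsCoh S.X₁ → Coh.IsCoh S.X₂ →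
        Coh.IsCoh S.X₃ → (J₁ S.X₂ ↔ J₁ S.X₁ ∧ J₁ S.X₃)) → (∀ S : ShortComplex X.Modules, S.ShortExact → Coh.IsCoh S.X₁ → Coh.IsCoh S.X₂ →
        Coh.IsCoh S.X₃ → (J₂ S.X₂ ↔ J₂ S.X₁ ∧ J₂ S.X₃)) →
      (∀ M : X.Modules, Coh.IsCoh M → J₁ M → CohB1.support M ⊆ (↑Z : Set X)) →
      (∀ M : X.Modules, Coh.IsCoh M → J₂ M → CohB1.support M ⊆ (↑Z : Set X)) →
      (∀ Q : ObjectProperty X.Modules, (∀ S : ShortComplex X.Modules, S.ShortExact → Coh.IsCoh S.X₁ → Coh.IsCoh S.X₂ →
        Coh.IsCoh S.X₃ → (Q S.X₂ ↔ Q S.X₁ ∧ Q S.X₃)) →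
        (∀ M : X.Modules, Coh.IsCoh M → J₁ M → Q M) → (∀ M : X.Modules, Coh.IsCoh M → J₂ M → Q M) →
        ∀ M : X.Modules, Coh.IsCoh M → CohB1.support M ⊆ (↑Z : Set X) → Q M) →
      (∀ M : X.Modules, Coh.IsCoh M → CohB1.support M ⊆ (↑Z : Set X) → J₁ M) ∨
        (∀ M : X.Modules, Coh.IsCoh M → CohB1.support M ⊆ (↑Z : Set X) → J₂ M) := by
  classical
  refine ⟨fun hZ J₁ J₂ h₁ h₂ hs₁ hs₂ hgen => ?_, fun h => ?_⟩
  · let Q : ObjectProperty X.Modules := fun M => ∃ T : Finset (TopologicalSpace.Closeds X), T.Nonempty ∧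
      (∀ C ∈ T, ∃ G, Coh.IsCoh G ∧ (J₁ G ∨ J₂ G) ∧ CohB1.support G = (↑C : Set X)) ∧
        CohB1.support M ⊆ ⋃ C ∈ T, (↑C : Set X)
    have hQ : Groth.Agent.CohGabLib.SerreCoh Q := fun S hS a b c => by
      refine ⟨fun ⟨T, hT, hT', hs⟩ => ?_, fun ⟨⟨T, hT, hT', hs⟩, ⟨T', _, hT'', hs'⟩⟩ => ?_⟩
      · have := (Groth.Agent.CohGabLib.serreCoh_supported (X := X) _ S hS a b c).1 hs
        exact ⟨⟨T, hT, hT', this.1⟩, ⟨T, hT, hT', this.2⟩⟩
      · refine ⟨T ∪ T', hT.mono Finset.subset_union_left, fun C hC => ?_, ?_⟩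
        · exact (Finset.mem_union.1 hC).elim (hT' C) (hT'' C)
        · rw [Finset.set_biUnion_union]
          exact (Groth.Agent.CohGabLib.serreCoh_supported (X := X) _ S hS a b c).2
            ⟨hs.trans Set.subset_union_left, hs'.trans Set.subset_union_right⟩
    have hmem : ∀ M : X.Modules, Coh.IsCoh M → (J₁ M ∨ J₂ M) → Q M := fun M hM hJ =>
      ⟨{⟨CohB1.support M, Groth.Agent.QCoh.isClosed_support_of_isFT hM.1 hM.2⟩}, Finset.singleton_nonempty _,
        fun C hC => ⟨M, hM, hJ, by rw [Finset.mem_singleton.1 hC]; rfl⟩, by simp⟩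
    obtain ⟨F, hF, hFs⟩ := Groth.Agent.CohGabLib.exists_coh_support Z
    obtain ⟨T, hTne, hT, hsub⟩ := hgen Q hQ (fun M hM hJ => hmem M hM (Or.inl hJ))
      (fun M hM hJ => hmem M hM (Or.inr hJ)) F hF hFs.le
    rw [hFs] at hsub
    obtain ⟨C, hC, hCZ⟩ : ∃ C ∈ T, (↑Z : Set X) ⊆ ↑C := by
      rcases (↑Z : Set X).eq_empty_or_nonempty with hE | hne
      · exact hTne.imp fun C hC => ⟨hC, hE ▸ Set.empty_subset _⟩
      obtain ⟨_, hC', hCZ⟩ := isIrreducible_iff_sUnion_isClosed.1 ⟨hne, hZ⟩
        (T.image fun C : TopologicalSpace.Closeds X => (↑C : Set X))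
        (fun z hz => by obtain ⟨C, -, rfl⟩ := Finset.mem_image.1 hz; exact C.isClosed)
        (by simpa [Finset.coe_image] using hsub)
      obtain ⟨C, hC, rfl⟩ := Finset.mem_image.1 hC'
      exact ⟨C, hC, hCZ⟩
    obtain ⟨G, hG, hJ, hGs⟩ := hT C hC
    rcases hJ with hJ | hJ
    · exact Or.inl fun M hM hMs => Groth.Agent.CohGabLib.SerreCoh.of_support_subset h₁ hG hM hJ
        (hMs.trans (hCZ.trans hGs.ge))
    · exact Or.inr fun M hM hMs => Groth.Agent.CohGabLib.SerreCoh.of_support_subset h₂ hG hM hJ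
        (hMs.trans (hCZ.trans hGs.ge))
  · rw [isPreirreducible_iff_isClosed_union_isClosed]
    intro A B hA hB hAB
    obtain ⟨FA, hFA, hFAs⟩ := Groth.Agent.CohGabLib.exists_coh_support (Z ⊓ ⟨A, hA⟩)
    obtain ⟨FB, hFB, hFBs⟩ := Groth.Agent.CohGabLib.exists_coh_support (Z ⊓ ⟨B, hB⟩)
    obtain ⟨FZ, hFZ, hFZs⟩ := Groth.Agent.CohGabLib.exists_coh_support Z
    let P : Set X → ObjectProperty X.Modules := fun C M => CohB1.support M ⊆ C
    have hbi := Groth.Agent.KZ.isCoh_biprod hFA hFB
    rcases h (P ((↑Z : Set X) ∩ A)) (P ((↑Z : Set X) ∩ B)) (Groth.Agent.CohGabLib.serreCoh_supported _)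
      (Groth.Agent.CohGabLib.serreCoh_supported _) (fun M _ hM => hM.trans Set.inter_subset_left)
      (fun M _ hM => hM.trans Set.inter_subset_left) (fun Q hQ hQ₁ hQ₂ M hM hMs => by
        let S := ShortComplex.mk (Limits.biprod.inl : FA ⟶ FA ⊞ FB) Limits.biprod.snd (Limits.biprod.inl_snd (X := FA) (Y := FB))
        have hS : S.ShortExact := (ShortComplex.Splitting.ofHasBinaryBiproduct FA FB).shortExact
        refine Groth.Agent.CohGabLib.SerreCoh.of_support_subset hQ hbi hM
          ((hQ S hS hFA hbi hFB).2 ⟨hQ₁ _ hFA hFAs.le, hQ₂ _ hFB hFBs.le⟩) (fun x hx => ?_)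
        rcases hAB (hMs hx) with hxA | hxB
        · exact Groth.Agent.QCoh.mem_support_of_mono hFA.1 hbi.1 Limits.biprod.inl (hFAs.ge ⟨hMs hx, hxA⟩)
        · exact Groth.Agent.QCoh.mem_support_of_mono hFB.1 hbi.1 Limits.biprod.inr (hFBs.ge ⟨hMs hx, hxB⟩)) with h' | h'
    · exact Or.inl ((hFZs.ge.trans (h' FZ hFZ hFZs.le)).trans Set.inter_subset_right)
    · exact Or.inr ((hFZs.ge.trans (h' FZ hFZ hFZs.le)).trans Set.inter_subset_right)

end Groth.Agent.S13991
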