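import Groth.Statements.S13995
import Mathlib.RingTheory.Ideal.AssociatedPrime.Basic
import Mathlib.RingTheory.Support
import Mathlib.LinearAlgebra.FiniteDimensional.Lemmas
import Mathlib.RingTheory.Localization.AtPrime.Basic
import Mathlib.RingTheory.Jacobson.Ideal
import Mathlib.Algebra.Module.LocalizedModule.Basic
import Mathlib

set_option autoImplicit false
universe u
open CAlg

namespace Groth.Agent.S13995

/-- Let R be a reduced Noetherian ring, M a finitely generated R-module all of whose associated primes
are minimal primes of R and whose localization at each minimal prime p is one-dimensional over the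
field R_p, and let g : M → Q be a surjection onto a finitely generated R-module Q all of whose
associated primes are minimal primes of R. Then the kernel of g is the intersection, over the
minimal primes p of R lying in the support of Q, of the kernels of the localization maps M → M_p.
(The published statement is for a torsion-free coherent sheaf F of uniform rank one on a reduced
connected projective curve over a characteristic-zero algebraically closed field: its non-zero
torsion-free quotients are exactly the maximal torsion-free quotients F_D of the restrictions of F
to subcurves D; this row is the corresponding statement for modules over a reduced Noetherian ring,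
a subcurve being a set of minimal primes, and identifies each torsion-free quotient with F_D for D
the set of generic points of its support.) -/
theorem result (R : Type u) [CommRing R] [IsNoetherianRing R] [IsReduced R] (M : Type u) [AddCommGroup M] [Module R M] [Module.Finite R M] (hM : associatedPrimes R M ⊆ minimalPrimes R) (hrk : ∀ p : PrimeSpectrum R, p.asIdeal ∈ minimalPrimes R → Module.finrank (Localization.AtPrime p.asIdeal) (LocalizedModule p.asIdeal.primeCompl M) = 1) (Q : Type u) [AddCommGroup Q] [Module R Q] [Module.Finite R Q] (hQ : associatedPrimes R Q ⊆ minimalPrimes R) (g : M →ₗ[R] Q) (hg : Function.Surjective g) : LinearMap.ker g = ⨅ p ∈ {p : PrimeSpectrum R | p.asIdeal ∈ minimalPrimes R ∧ p ∈ Module.support R Q}, LinearMap.ker (LocalizedModule.mkLinearMap p.asIdeal.primeCompl M) := by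
  classical
  apply le_antisymm
  · intro x hx
    simp only [Submodule.mem_iInf]
    rintro p ⟨hpm, hps⟩
    have hp' : p.asIdeal ∈ minimalPrimes R := hpm
    rw [LinearMap.mem_ker]
    haveI : Ring.KrullDimLE 0 (Localization.AtPrime p.asIdeal) := .of_isLocalization _ hp' _
    haveI : IsReduced (Localization.AtPrime p.asIdeal) := inferInstance
    haveI : IsArtinianRing (Localization.AtPrime p.asIdeal) := IsNoetherianRing.isArtinianRing_of_krullDimLE_zero
    let F := (IsArtinianRing.isField_of_isReduced_of_isLocalRing (Localization.AtPrime p.asIdeal)).toField
    have hg' : Function.Surjective (LocalizedModule.map p.asIdeal.primeCompl g) :=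
      LocalizedModule.map_surjective _ _ hg
    have hne : Nontrivial (LocalizedModule p.asIdeal.primeCompl Q) := Module.mem_support_iff.1 hps
    have hinj : Function.Injective (LocalizedModule.map p.asIdeal.primeCompl g) := by
      haveI : Module.Finite (Localization.AtPrime p.asIdeal) (LocalizedModule p.asIdeal.primeCompl M) :=
        Module.finite_of_finrank_eq_succ (hrk p hp')
      rw [injective_iff_map_eq_zero]
      intro y hy
      by_contra hy0
      obtain ⟨v, hv⟩ := exists_ne (0 : LocalizedModule p.asIdeal.primeCompl Q)
      obtain ⟨u, rfl⟩ := hg' v
      obtain ⟨c, rfl⟩ := (finrank_eq_one_iff_of_nonzero' y hy0).1 (hrk p hp') u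
      exact hv (by rw [map_smul, hy, smul_zero])
    apply hinj
    rw [map_zero, LocalizedModule.mkLinearMap_apply, LocalizedModule.map_mk, show g x = 0 from hx,
      LocalizedModule.zero_mk]
  · intro x hx
    simp only [Submodule.mem_iInf] at hx
    rw [LinearMap.mem_ker]
    by_contra hne
    obtain ⟨P, hP, hle⟩ := exists_le_isAssociatedPrime_of_isNoetherianRing R (g x) hne
    have hPm : P ∈ minimalPrimes R := hQ hP
    haveI := hP.isPrime
    have hne' : LocalizedModule.mkLinearMap P.primeCompl Q (g x) ≠ 0 := by
      intro h0
      obtain ⟨s, hs⟩ := LocalizedModule.mk_eq.1 (h0.trans (LocalizedModule.zero_mk 1).symm)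
      exact s.2 (hle (by simpa [Submodule.mem_colon_singleton, Submonoid.smul_def] using hs))
    have hsupp : (⟨P, inferInstance⟩ : PrimeSpectrum R) ∈ Module.support R Q := by
      rw [Module.mem_support_iff]; exact ⟨⟨_, _, hne'⟩⟩
    have h := hx ⟨P, inferInstance⟩ ⟨hPm, hsupp⟩
    rw [LinearMap.mem_ker] at h
    exact hne' (by
      have := congrArg (LocalizedModule.map P.primeCompl g) h
      rwa [map_zero, LocalizedModule.mkLinearMap_apply, LocalizedModule.map_mk] at this)

end Groth.Agent.S13995
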