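import Groth.Statements.S14000
import Groth.Agent.PerfGen7.EquivPerfect
import Groth.Agent.PerfGen7.EulerShape

set_option autoImplicit false
universe u
open Perf

namespace Groth.Agent.S14000


set_option linter.style.haveILetI false
set_option backward.isDefEq.respectTransparency false

namespace EulerRank

open CategoryTheory CategoryTheory.Limits MonoidalCategory
open Groth.Agent Groth.Agent.H9Misc Groth.Agent.KFlatLib
open scoped TensorProduct

attribute [local instance] HasDerivedCategory.standard

variable {A : Type u} [CommRing A]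

lemma flat_extendScalars {B : Type u} [CommRing B] (φ : A →+* B) (M : ModuleCat.{u} A) [Module.Flat A M] :
    Module.Flat B ((ModuleCat.extendScalars.{u, u, u} φ).obj M) := by
  letI := φ.toAlgebra
  exact inferInstanceAs (Module.Flat B (B ⊗[A] M))

lemma finite_extendScalars {B : Type u} [CommRing B] (φ : A →+* B) (M : ModuleCat.{u} A) [Module.Finite A M] :
    Module.Finite B ((ModuleCat.extendScalars.{u, u, u} φ).obj M) := by
  letI := φ.toAlgebra
  exact inferInstanceAs (Module.Finite B (B ⊗[A] M))

lemma finrank_extendScalars {B : Type u} [CommRing B] [Algebra A B] (M : ModuleCat.{u} A) :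
    Module.finrank B (B ⊗[A] M) =
      Module.finrank B ((ModuleCat.extendScalars.{u, u, u} (algebraMap A B)).obj M) := by
  rename_i i
  have he : (algebraMap A B).toAlgebra = i := Algebra.algebra_ext _ _ fun _ => rfl
  generalize algebraMap A B = φ at he
  subst he
  rfl

lemma exactAt_extC_of_tensC {B : Type u} [CommRing B] [Algebra A B] {E : DRing.Cx A} (i : ℤ)
    (h : ((DRingLTensor.tensC (ModuleCat.of A B)).obj E).ExactAt i) :
    ((DRingLTensor.extC' (algebraMap A B)).obj E).ExactAt i := by
  revert h
  rename_i i1 i3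
  have he : (algebraMap A B).toAlgebra = i3 := Algebra.algebra_ext _ _ fun _ => rfl
  generalize algebraMap A B = φ at he
  subst he
  intro h
  rw [HomologicalComplex.exactAt_iff' _ (i - 1) i (i + 1) (by simp) (by simp),
    ShortComplex.moduleCat_exact_iff] at h ⊢
  letI := φ.toAlgebra
  intro (y : B ⊗[A] E.X i) hy
  obtain ⟨x, hx⟩ := h (show E.X i ⊗[A] B from (TensorProduct.comm A B (E.X i)) y) (by
    have := congrArg (TensorProduct.comm A B (E.X (i + 1))) hy
    rw [map_zero] at this
    refine Eq.trans ?_ this
    exact LinearMap.congr_fun (LinearMap.rTensor_comp_comm ((E.d i (i + 1)).hom)) y)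
  let x' : E.X (i - 1) ⊗[A] B := x
  refine ⟨(TensorProduct.comm A B (E.X (i - 1))).symm x', ?_⟩
  apply (TensorProduct.comm A B (E.X i)).injective
  refine Eq.trans ?_ hx
  refine (LinearMap.congr_fun (LinearMap.rTensor_comp_comm ((E.d (i - 1) i).hom)) _).symm.trans ?_
  exact congrArg _ ((TensorProduct.comm A B (E.X (i - 1))).apply_symm_apply x')

lemma exactAt_tensC_localization (E : DRing.Cx A) (q : Ideal A) [q.IsPrime] (i : ℤ)
    (h : Subsingleton (LocalizedModule q.primeCompl (E.homology i))) :
    ((DRingLTensor.tensC (ModuleCat.of A (Localization.AtPrime q))).obj E).ExactAt i := by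
  rw [HomologicalComplex.exactAt_iff' _ (i - 1) i (i + 1) (by simp) (by simp), ShortComplex.moduleCat_exact_iff]
  let B := Localization.AtPrime q
  intro (y : E.X i ⊗[A] B) hy
  replace hy : (E.d i (i + 1)).hom.rTensor B y = 0 := hy
  have hloc : ∀ X : ModuleCat.{u} A, IsLocalizedModule q.primeCompl ((TensorProduct.mk A X B).flip 1) := fun X => by
    haveI : IsLocalizedModule q.primeCompl (TensorProduct.mk A B X 1) :=
      (isLocalizedModule_iff_isBaseChange _ B _).mpr (TensorProduct.isBaseChange _ _ _)
    have e : (TensorProduct.mk A X B).flip 1 = (TensorProduct.comm A B X).toLinearMap ∘ₗ TensorProduct.mk A B X 1 :=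
      LinearMap.ext fun x => rfl
    rw [e]
    exact IsLocalizedModule.of_linearEquiv _ _ _
  haveI := hloc
  obtain ⟨⟨x, s⟩, hxs⟩ := IsLocalizedModule.surj q.primeCompl ((TensorProduct.mk A (E.X i) B).flip 1) y
  change s • y = x ⊗ₜ[A] (1 : B) at hxs
  have hdx : ((TensorProduct.mk A (E.X (i + 1)) B).flip 1) ((E.d i (i + 1)).hom x) =
      ((TensorProduct.mk A (E.X (i + 1)) B).flip 1) 0 := by
    rw [map_zero]
    change (E.d i (i + 1)).hom x ⊗ₜ[A] (1 : B) = 0
    rw [← LinearMap.rTensor_tmul, ← hxs, LinearMap.map_smul_of_tower, hy, smul_zero]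
  obtain ⟨u, hu⟩ := (IsLocalizedModule.eq_iff_exists q.primeCompl _).1 hdx
  rw [smul_zero] at hu
  have hcyc : (E.d i (i + 1)).hom ((u : A) • x) = 0 := by rw [map_smul]; exact hu
  have hT := HomologicalComplex.sc' E (i - 1) i (i + 1)
  let S := E.sc' (i - 1) i (i + 1)
  let eH : E.homology i ≅ S.moduleCatLeftHomologyData.H := (ShortComplex.homologyMapIso
    (E.isoSc' (i - 1) i (i + 1) (by simp) (by simp))) ≪≫ S.moduleCatHomologyIso
  obtain ⟨z, hz⟩ : ∃ z : LinearMap.ker S.g.hom, (show E.X i from z.1) = (u : A) • x := ⟨⟨(u : A) • x, hcyc⟩, rfl⟩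
  let c : S.moduleCatLeftHomologyData.H := Submodule.Quotient.mk z
  have hc : LocalizedModule.mkLinearMap q.primeCompl (E.homology i) (eH.inv c) =
      LocalizedModule.mkLinearMap q.primeCompl (E.homology i) 0 := Subsingleton.elim _ _
  obtain ⟨v, hv⟩ := (IsLocalizedModule.eq_iff_exists q.primeCompl _).1 hc
  rw [smul_zero] at hv
  have hv' : (v : A) • c = 0 := by
    have := congrArg eH.hom hv
    rw [map_zero] at this
    refine Eq.trans ?_ this
    change (v : A) • c = eH.hom ((v : A) • eH.inv c)
    rw [map_smul, eH.inv_hom_id_apply]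
  rw [← Submodule.Quotient.mk_smul, Submodule.Quotient.mk_eq_zero] at hv'
  obtain ⟨w, hw⟩ := hv'
  have hw' : (E.d (i - 1) i).hom w = (v : A) • (u : A) • x := by
    have := congrArg Subtype.val hw
    rw [← hz]
    exact this
  obtain ⟨b, hb⟩ := (IsLocalization.map_units B (v * u * s)).exists_left_inv
  refine ⟨w ⊗ₜ[A] b, ?_⟩
  change (E.d (i - 1) i).hom.rTensor B (w ⊗ₜ[A] b) = y
  rw [LinearMap.rTensor_tmul, hw', smul_smul]
  have h1 : ∀ (a : A) (b : B), (a • x) ⊗ₜ[A] b = x ⊗ₜ[A] (algebraMap A B a * b) := fun a b => by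
    rw [TensorProduct.smul_tmul, Algebra.smul_def]
  have h2 : ∀ (r : A) (b : B), r • (x ⊗ₜ[A] b) = x ⊗ₜ[A] (algebraMap A B r * b) := fun r b => by
    rw [← TensorProduct.tmul_smul, Algebra.smul_def]
  have hcancel : ∀ y₁ y₂ : E.X i ⊗[A] B, s • y₁ = s • y₂ → y₁ = y₂ := fun y₁ y₂ h =>
    IsLocalizedModule.smul_injective ((TensorProduct.mk A (E.X i) B).flip 1) s h
  refine hcancel _ _ ?_
  rw [hxs, h1, Submonoid.smul_def, h2]
  congr 1
  simp only [Submonoid.coe_mul, map_mul] at hb ⊢
  linear_combination hb

theorem main (P : CochainComplex (ModuleCat.{u} A) ℤ) (s : Finset ℤ)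
    (hP : ∀ i : ℤ, Module.Finite A (P.X i) ∧ Module.Projective A (P.X i))
    (hs : ∀ i : ℤ, i ∉ s → IsZero (P.X i))
    (hsupp : ∀ q : PrimeSpectrum A, q.asIdeal ∈ minimalPrimes A →
      ∀ i : ℤ, Subsingleton (LocalizedModule q.asIdeal.primeCompl (P.homology i))) :
    ∀ x : PrimeSpectrum A,
      (s.sum fun i => ((i.negOnePow : ℤˣ) : ℤ) * (Module.rankAtStalk (R := A) (P.X i) x : ℤ)) = 0 := by
  intro x
  obtain ⟨q, hq, hqx⟩ := Ideal.exists_minimalPrimes_le (bot_le (a := x.asIdeal))
  haveI := hq.1.1
  let q' : PrimeSpectrum A := ⟨q, inferInstance⟩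
  let B := Localization.AtPrime q
  let K := q.ResidueField
  let PB := (DRingLTensor.extC' (algebraMap A B)).obj P
  haveI : Module.Flat A B := IsLocalization.flat _ q.primeCompl
  obtain ⟨b, hb⟩ := s.bddAbove
  have hz : DRing.VanishesAbove P b := fun i hi => hs i fun hi' => absurd (hb hi') (by omega)
  have hzB : DRing.VanishesAbove PB b := fun i hi => (ModuleCat.extendScalars _).map_isZero (hz i hi)
  have hfl : DRing.TermwiseFlat PB := fun i => by
    haveI := (hP i).2
    haveI : Module.Flat A (P.X i) := inferInstance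
    exact flat_extendScalars _ _
  have hBex : ∀ i, PB.ExactAt i := fun i =>
    exactAt_extC_of_tensC i (exactAt_tensC_localization P q i (hsupp q' hq i))
  have hBzero : IsZero (DerivedCategory.Q.obj PB) := by
    refine isZero_of_forall_hd _ fun i => ?_
    exact IsZero.of_iso ((HomologicalComplex.exactAt_iff_isZero_homology _ i).1 (hBex i))
      ((DerivedCategory.homologyFunctorFactors (ModuleCat.{u} B) i).app PB)
  let E := (DRingLTensor.extC' (algebraMap A K)).obj P
  have hEex : ∀ i, E.ExactAt i := fun i => by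
    refine (DRingFibre.exactAt_extC_comp (algebraMap A B) (algebraMap B K) _ (IsScalarTower.algebraMap_eq A B K) i).1 ?_
    refine exactAt_extC_of_tensC i ?_
    haveI := DRingTor.hasLTensor (ModuleCat.of B K)
    refine (DRingTor.exactAt_tensC_iff (ModuleCat.of B K) (DRingTor.isKF_of_flat hfl hzB) (Iso.refl _) i).1 ?_
    let Z : DRing.Cx B := (HomologicalComplex.single (ModuleCat.{u} B) (ComplexShape.up ℤ) 0).obj (ModuleCat.of B PUnit)
    have hZ0 : ∀ j, IsZero (Z.X j) := fun j => by
      by_cases hj : j = 0
      · exact (ModuleCat.isZero_of_subsingleton (ModuleCat.of B PUnit)).of_iso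
          (HomologicalComplex.singleObjXIsoOfEq (ComplexShape.up ℤ) 0 _ j hj)
      · exact HomologicalComplex.isZero_single_obj_X (ComplexShape.up ℤ) 0 _ j hj
    have hZK : DRingLTensor.IsKF Z := DRingTor.isKF_of_flat (fun j => by
      haveI := ModuleCat.subsingleton_of_isZero (hZ0 j)
      infer_instance) (b := 0) fun j _ => hZ0 j
    have hZQ : IsZero (DerivedCategory.Q.obj Z) := isZero_of_forall_hd _ fun j =>
      IsZero.of_iso (ShortComplex.isZero_homology_of_isZero_X₂ _ (hZ0 j))
        ((DerivedCategory.homologyFunctorFactors (ModuleCat.{u} B) j).app Z)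
    refine (DRingTor.exactAt_tensC_iff (ModuleCat.of B K) hZK (hZQ.iso hBzero) i).2 ?_
    rw [HomologicalComplex.exactAt_iff' _ (i - 1) i (i + 1) (by simp) (by simp)]
    exact ShortComplex.exact_of_isZero_X₂ _ ((MonoidalCategory.tensorRight (ModuleCat.of B K)).map_isZero (hZ0 i))
  have hX : ∀ i, (Module.rankAtStalk (R := A) (P.X i) x : ℤ) = (Module.finrank K (E.X i) : ℤ) := fun i => by
    haveI := (hP i).1
    haveI := (hP i).2
    haveI : Module.Flat A (P.X i) := inferInstance
    rw [← Module.rankAtStalk_eq_of_le_of_finite_of_flat (P.X i) (show q' ≤ x from hqx), Module.rankAtStalk_eq]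
    exact congrArg Nat.cast (finrank_extendScalars (B := K) (P.X i))
  simp only [hX]
  have hfin : ∀ i, Module.Finite K (E.X i) := fun i => by
    haveI := (hP i).1
    exact finite_extendScalars _ _
  have h := Groth.Agent.PerfGen7.EulerShape.euler (1 : ℤ) (G := ℤ)
    (fun M : ModuleCat.{u} K => (Module.finrank K M : ℤ)) (fun M => Module.Finite K M)
    (fun S hS h2 => by
      haveI := h2
      haveI : Module.Finite K S.X₁ := Module.Finite.of_injective S.f.hom hS.moduleCat_injective_f
      haveI : Module.Finite K S.X₃ := Module.Finite.of_surjective S.g.hom hS.moduleCat_surjective_g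
      refine ⟨?_, inferInstance, inferInstance⟩
      have h1 := S.g.hom.finrank_range_add_finrank_ker
      rw [LinearMap.range_eq_top.2 hS.moduleCat_surjective_g, finrank_top,
        ← hS.exact.moduleCat_range_eq_ker, LinearMap.finrank_range_of_inj hS.moduleCat_injective_f] at h1
      omega)
    (fun X hX => by
      haveI := ModuleCat.subsingleton_of_isZero hX
      simp [Module.finrank_zero_of_subsingleton])
    E hfin s (fun i hi => (ModuleCat.extendScalars _).map_isZero (hs i hi))
    (fun i => ((i.negOnePow : ℤˣ) : ℤ)) (fun i => by rw [Int.negOnePow_succ]; rfl)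
  have h0 : ∀ i, (Module.finrank K (E.homology i) : ℤ) = 0 := fun i => by
    haveI := ModuleCat.subsingleton_of_isZero ((HomologicalComplex.exactAt_iff_isZero_homology _ i).1 (hEex i))
    simp [Module.finrank_zero_of_subsingleton]
  simp only [h0, smul_eq_mul, mul_zero, Finset.sum_const_zero] at h
  exact h

end EulerRank


open CategoryTheory CategoryTheory.Limits in
/-- Let A be a commutative ring and P a strictly perfect complex over A, that is a cochain complex of
finitely generated projective A-modules which is zero outside a finite set s of degrees. Suppose the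
cohomological support of P has positive codimension: for every minimal prime q of A and every degree
i the localization at q of the cohomology module H^i(P) is zero. Then the Euler characteristic of P
vanishes identically: at every prime of A the alternating sum over i ∈ s of the ranks of the P^i is
zero. -/
theorem result {A : Type u} [CommRing A]
    (P : CochainComplex (ModuleCat.{u} A) ℤ) (s : Finset ℤ)
    (hP : ∀ i : ℤ, Module.Finite A (P.X i) ∧ Module.Projective A (P.X i))
    (hs : ∀ i : ℤ, i ∉ s → IsZero (P.X i))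
    (hsupp : ∀ q : PrimeSpectrum A, q.asIdeal ∈ minimalPrimes A →
      ∀ i : ℤ, Subsingleton (LocalizedModule q.asIdeal.primeCompl (P.homology i))) :
    ∀ x : PrimeSpectrum A,
      (s.sum fun i => ((i.negOnePow : ℤˣ) : ℤ) * (Module.rankAtStalk (R := A) (P.X i) x : ℤ)) = 0 := by
  exact EulerRank.main P s hP hs hsupp

end Groth.Agent.S14000
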