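import Groth.Statements.S14016
import Groth.Agent.ProEtLib.EpsExt
import Groth.Agent.PervTLib.ExtUniq

set_option autoImplicit false
open CategoryTheory CategoryTheory.Limits AlgebraicGeometry Opposite
universe u
open ProEtS

namespace Groth.Agent.S14016

/-- Let X be a scheme and S a weak Serre subcategory of the abelian sheaves on the small étale site of
X, i.e. a property of objects holding for a zero object and closed under kernels, cokernels and
extensions. Then the essential image of S under the pullback ε⁻¹ to the small pro-étale site (the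
abelian pro-étale sheaves isomorphic to ε⁻¹G for some G satisfying S) is again a weak Serre
subcategory, now of the abelian sheaves on the small pro-étale site of X. (Continuity of the
inclusion of the étale site into the pro-étale site is carried as a binder.) -/
theorem result
    (X : Scheme.{u}) [ProEtS.EpsCont X]
    (S : ObjectProperty (EtCoh.Ab X)) [WSerre.IsWeakSerre S] :
    WSerre.IsWeakSerre (fun F : ProEtS.AbP X => ∃ G : EtCoh.Ab X, S G ∧ Nonempty ((ProEtS.epsPull X).obj G ≅ F)) := by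
  haveI := Groth.Agent.ProEtLib.preservesFiniteLimits_epsPull (X := X)
  haveI : PreservesFiniteColimits (ProEtS.epsPull X) := inferInstance
  haveI := Groth.Agent.ProEtLib.isIso_unit_eps (X := X)
  haveI : IsIso (ProEtS.epsAdj X).unit := NatIso.isIso_of_isIso_app _
  have hff := (ProEtS.epsAdj X).fullyFaithfulLOfIsIsoUnit
  haveI := hff.full
  haveI := hff.faithful
  let P : ObjectProperty (ProEtS.AbP X) := fun F => ∃ G : EtCoh.Ab X, S G ∧ Nonempty ((ProEtS.epsPull X).obj G ≅ F)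
  haveI : P.ContainsZero := ⟨by
    obtain ⟨Z, hZ, hSZ⟩ := S.exists_prop_of_containsZero
    exact ⟨_, (ProEtS.epsPull X).map_isZero hZ, Z, hSZ, ⟨Iso.refl _⟩⟩⟩
  haveI : P.IsClosedUnderKernels := ⟨by
    intro Z hZ
    obtain @⟨X₁, X₂, f, k, hk, hf⟩ := hZ
    obtain ⟨⟨G₁, h₁, ⟨e₁⟩⟩, ⟨G₂, h₂, ⟨e₂⟩⟩⟩ := hf
    obtain ⟨g, hg⟩ := (ProEtS.epsPull X).map_surjective (e₁.hom ≫ f ≫ e₂.inv)
    exact ⟨kernel g, S.prop_kernel g h₁ h₂,
      ⟨PreservesKernel.iso _ g ≪≫ kernel.mapIso _ f e₁ e₂ (by simp [hg]) ≪≫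
        (kernelIsKernel f).conePointUniqueUpToIso hk⟩⟩⟩
  haveI : P.IsClosedUnderCokernels := ⟨by
    intro Z hZ
    obtain @⟨X₁, X₂, f, k, hk, hf⟩ := hZ
    obtain ⟨⟨G₁, h₁, ⟨e₁⟩⟩, ⟨G₂, h₂, ⟨e₂⟩⟩⟩ := hf
    obtain ⟨g, hg⟩ := (ProEtS.epsPull X).map_surjective (e₁.hom ≫ f ≫ e₂.inv)
    exact ⟨cokernel g, S.prop_cokernel g h₁ h₂,
      ⟨PreservesCokernel.iso _ g ≪≫ cokernel.mapIso _ f e₁ e₂ (by simp [hg]) ≪≫
        (cokernelIsCokernel f).coconePointUniqueUpToIso hk⟩⟩⟩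
  haveI : P.IsClosedUnderExtensions := ⟨fun {T} hT ⟨G₁, h₁, ⟨e₁⟩⟩ ⟨G₃, h₃, ⟨e₃⟩⟩ => by
    have w₀ : (e₁.hom ≫ T.f) ≫ (T.g ≫ e₃.inv) = 0 := by simp
    have hT' : (ShortComplex.mk (e₁.hom ≫ T.f) (T.g ≫ e₃.inv) w₀).ShortExact :=
      ShortComplex.shortExact_of_iso (ShortComplex.isoMk e₁.symm (Iso.refl _) e₃.symm (by simp) (by simp)) hT
    obtain ⟨α, hα⟩ := (Groth.Agent.ProEtLib.mapExt_epsPull_bijective G₃ G₁ 1).2 hT'.extClass
    obtain ⟨E, i, q, w, hS, rfl⟩ := Groth.Agent.PervTLib.exists_shortExact_extClass α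
    have hα' : (hS.map_of_exact (ProEtS.epsPull X)).extClass = hT'.extClass :=
      (Abelian.Ext.mapExactFunctor_extClass (ProEtS.epsPull X) hS).symm.trans hα
    exact ⟨E, S.prop_X₂_of_shortExact hS h₁ h₃,
      Groth.Agent.PervTLib.nonempty_iso_of_extClass_eq (hS.map_of_exact (ProEtS.epsPull X)) hT' hα'⟩⟩
  exact WSerre.IsWeakSerre.mk

end Groth.Agent.S14016
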