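import Groth.Statements.S14037
import Groth.Agent.ProperConnLib.Connected
import Groth.Agent.NagataLib.Noeth
import Groth.Agent.S9385
import Groth.Agent.S2266

set_option autoImplicit false
universe u
open CategoryTheory CategoryTheory.Limits AlgebraicGeometry
open W4c1frobunstiva

namespace Groth.Agent.S14037
open AlgebraicGeometry CategoryTheory CategoryTheory.Limits

/-- An open piece with proper geometric fibres over `Y` cuts every fibre in a clopen set. -/
theorem isClopen_preimage {X Z Y : Scheme.{u}} (k : X ⟶ Z) [IsOpenImmersion k] (g : Z ⟶ Y) [IsSeparated g]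
    (y : Y) (hprop : IsProper (pullback.snd (k ≫ g)
      (Spec.map (CommRingCat.ofHom (algebraMap (Y.residueField y) (AlgebraicClosure (Y.residueField y)))) ≫
        Y.fromSpecResidueField y))) :
    IsClopen ((g.fiberι y) ⁻¹' Set.range k) ∧
      Set.range (pullback.map (k ≫ g)
        (Spec.map (CommRingCat.ofHom (algebraMap (Y.residueField y) (AlgebraicClosure (Y.residueField y)))) ≫
          Y.fromSpecResidueField y) g
        (Spec.map (CommRingCat.ofHom (algebraMap (Y.residueField y) (AlgebraicClosure (Y.residueField y)))) ≫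
          Y.fromSpecResidueField y) k (𝟙 _) (𝟙 _) (by simp) (by simp)) =
        (pullback.fst g (Spec.map (CommRingCat.ofHom (algebraMap (Y.residueField y) (AlgebraicClosure (Y.residueField y)))) ≫
          Y.fromSpecResidueField y)) ⁻¹' Set.range k := by
  let K := AlgebraicClosure (Y.residueField y)
  let σ : Spec (CommRingCat.of K) ⟶ Spec (Y.residueField y) :=
    Spec.map (CommRingCat.ofHom (algebraMap (Y.residueField y) K))
  let η := σ ≫ Y.fromSpecResidueField y
  let k' : pullback (k ≫ g) η ⟶ pullback g η := pullback.map (k ≫ g) η g η k (𝟙 _) (𝟙 _) (by simp) (by simp)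
  have hk : IsPullback (pullback.fst (k ≫ g) η) k' k (pullback.fst g η) := by
    refine IsPullback.of_bot ?_ (pullback.lift_fst _ _ _).symm (IsPullback.of_hasPullback g η)
    rw [pullback.lift_snd, Category.comp_id]
    exact IsPullback.of_hasPullback (k ≫ g) η
  have hr : Set.range k' = (pullback.fst g η) ⁻¹' Set.range k := by
    ext w
    constructor
    · rintro ⟨v, rfl⟩
      exact ⟨pullback.fst (k ≫ g) η v, by rw [← Scheme.Hom.comp_apply, ← Scheme.Hom.comp_apply, hk.w]⟩
    · rintro ⟨x, hx⟩
      obtain ⟨v, -, hv⟩ := Scheme.exists_preimage_of_isPullback hk x w hx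
      exact ⟨v, hv⟩
  haveI : IsProper (k' ≫ pullback.snd g η) := by
    rw [pullback.lift_snd, Category.comp_id]; exact hprop
  haveI : IsProper k' := IsProper.of_comp k' (pullback.snd g η)
  let r : pullback g η ⟶ g.fiber y := pullback.lift (pullback.fst g η) (pullback.snd g η ≫ σ)
    (by rw [Category.assoc]; exact pullback.condition)
  have hrp : IsPullback r (pullback.snd g η) (g.fiberToSpecResidueField y) σ :=
    IsPullback.of_right (by
        rw [show r ≫ g.fiberι y = pullback.fst g η from pullback.lift_fst _ _ _]
        exact IsPullback.of_hasPullback g η)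
      (pullback.lift_snd _ _ _) (show IsPullback (g.fiberι y) (g.fiberToSpecResidueField y) g (Y.fromSpecResidueField y) from
        IsPullback.of_hasPullback g (Y.fromSpecResidueField y))
  haveI : IsIntegralHom σ := IsIntegralHom.SpecMap_iff.mpr (algebraMap_isIntegral_iff.mpr inferInstance)
  haveI : IsIntegralHom r := MorphismProperty.of_isPullback hrp.flip inferInstance
  haveI : Surjective σ := ⟨fun _ => ⟨IsLocalRing.closedPoint K, Subsingleton.elim _ _⟩⟩
  haveI : Surjective r := MorphismProperty.of_isPullback hrp.flip inferInstance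
  refine ⟨⟨?_, (Scheme.Hom.opensRange k).isOpen.preimage (g.fiberι y).continuous⟩, hr⟩
  have h2 : r '' Set.range k' = (g.fiberι y) ⁻¹' Set.range k := by
    rw [hr, ← show r ≫ g.fiberι y = pullback.fst g η from pullback.lift_fst _ _ _]
    rw [Scheme.Hom.comp_base, TopCat.coe_comp, Set.preimage_comp]
    exact Set.image_preimage_eq _ r.surjective
  rw [← h2]
  exact r.isClosedMap _ k'.isClosedMap.isClosed_range


/-- Let f : X → Y be separated and of finite type, with X and Y integral, Y Noetherian and normal.
Suppose that every geometric fibre of f — the base change of X along any morphism from the spectrum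
of an algebraically closed field to Y — is proper over that field and connected (so non-empty). Then
f is proper. -/
theorem result {X Y : Scheme.{u}}
    (f : X ⟶ Y) [IsSeparated f] [LocallyOfFiniteType f] [QuasiCompact f]
    [IsIntegral X] [IsIntegral Y] [IsNoetherian Y] (hY : Pi1.IsNormalScheme Y)
    (hfib : ∀ (Ω : Type u) [Field Ω] [IsAlgClosed Ω] (y : Spec (CommRingCat.of Ω) ⟶ Y),
      IsProper (pullback.snd f y) ∧ ConnectedSpace ↥(pullback f y)) :
    IsProper f := by
  classical
  obtain ⟨Y₀, j, p, hj, hp, rfl⟩ := NagataLib.hasComp f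
  haveI := hj
  haveI := hp
  obtain ⟨hI, -, hdense⟩ := S9385.result j (Or.inr inferInstance)
  haveI := hI
  haveI : IsLocallyNoetherian X := LocallyOfFiniteType.isLocallyNoetherian (j ≫ p)
  haveI : CompactSpace X := QuasiCompact.compactSpace_of_compactSpace (j ≫ p)
  haveI : IsNoetherian X := ⟨⟩
  haveI : IsReduced j.image := (S2266.result j).1
  haveI : IrreducibleSpace ↥j.image := (S2266.result j).2
    (QuasiCompact.of_comp j p) inferInstance
  haveI : IsIntegral j.image := isIntegral_of_irreducibleSpace_of_isReduced _
  let g := j.imageι ≫ p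
  have hf : j.toImage ≫ g = j ≫ p := by rw [← Category.assoc, j.toImage_imageι]
  let pt : (y : Y) → (Spec (CommRingCat.of (AlgebraicClosure (Y.residueField y))) ⟶ Y) := fun y =>
    Spec.map (CommRingCat.ofHom (algebraMap (Y.residueField y) (AlgebraicClosure (Y.residueField y)))) ≫
      Y.fromSpecResidueField y
  have hpt : ∀ y z, pt y z = y := fun y z => Y.fromSpecResidueField_apply y _
  have hfib' : ∀ y, IsProper (pullback.snd (j.toImage ≫ g) (pt y)) ∧
      ConnectedSpace ↥(pullback (j.toImage ≫ g) (pt y)) := fun y => by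
    rw [hf]; exact hfib _ (pt y)
  have hsurj : ∀ y, ∃ x : X, (j ≫ p) x = y := fun y => by
    haveI := (hfib _ (pt y)).2
    let w := Classical.arbitrary ↥(pullback (j ≫ p) (pt y))
    exact ⟨(pullback.fst (j ≫ p) (pt y)) w, by rw [← Scheme.Hom.comp_apply, pullback.condition, Scheme.Hom.comp_apply, hpt]⟩
  have hgenk : j.toImage (genericPoint X) = genericPoint ↥j.image := by
    have h := (genericPoint_spec X).image j.toImage.continuous
    rw [Set.image_univ, hdense.closure_range] at h
    exact h.eq (genericPoint_spec _)
  have hgenY : g (genericPoint ↥j.image) = genericPoint Y := by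
    rw [← hgenk, ← Scheme.Hom.comp_apply, hf]
    have h := (genericPoint_spec X).image (j ≫ p).continuous
    rw [Set.image_univ, (show Set.range (j ≫ p) = Set.univ from Set.range_eq_univ.mpr hsurj), closure_univ] at h
    exact h.eq (genericPoint_spec Y)
  have hclopen := fun y => isClopen_preimage j.toImage g y (hfib' y).1
  let y₀ := genericPoint Y
  have hgfib : ∀ w, (g.fiberι y₀ w) ∈ Set.range j.toImage := fun w => by
    obtain ⟨w₀, hw₀⟩ := (g.range_fiberι y₀).ge (show genericPoint ↥j.image ∈ g ⁻¹' {y₀} from hgenY)
    have hsp : w₀ ⤳ w := by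
      rw [← (g.fiberι y₀).isEmbedding.isInducing.specializes_iff, hw₀]
      exact (genericPoint_spec ↥j.image).specializes trivial
    exact hsp.mem_closed (hclopen y₀).1.1 (by rw [Set.mem_preimage, hw₀]; exact ⟨_, hgenk⟩)
  haveI : PreconnectedSpace ↥(pullback (pt y₀) g) := by
    haveI := (hfib' y₀).2
    haveI : PreconnectedSpace ↥(pullback g (pt y₀)) := ⟨by
      have h : (pullback.fst g (pt y₀)) ⁻¹' Set.range j.toImage = Set.univ := Set.eq_univ_of_forall fun v => by
        obtain ⟨w, hw⟩ := (g.range_fiberι y₀).ge (show pullback.fst g (pt y₀) v ∈ g ⁻¹' {y₀} by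
          rw [Set.mem_preimage, Set.mem_singleton_iff, ← Scheme.Hom.comp_apply, pullback.condition,
            Scheme.Hom.comp_apply, hpt])
        rw [Set.mem_preimage, ← hw]
        exact hgfib w
      rw [← h, ← (hclopen y₀).2]
      exact isPreconnected_range (Scheme.Hom.continuous _)⟩
    exact ⟨by
      rw [← (pullbackSymmetry g (pt y₀)).hom.homeomorph.surjective.range_eq]
      exact isPreconnected_range (pullbackSymmetry g (pt y₀)).hom.homeomorph.continuous⟩
  haveI : Surjective j.toImage := ⟨fun x => by
    let y := g x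
    haveI : PreconnectedSpace ↥(g.fiber y) :=
      ProperConnLib.connectedSpace_fiber hY g hgenY (pt y₀) (hpt y₀ _) y
    obtain ⟨w, hw⟩ := (g.range_fiberι y).ge (show x ∈ g ⁻¹' {y} from rfl)
    obtain h | h := isClopen_iff.1 (hclopen y).1
    · obtain ⟨x', hx'⟩ := hsurj y
      obtain ⟨w', hw'⟩ := (g.range_fiberι y).ge (show j.toImage x' ∈ g ⁻¹' {y} by
        rw [Set.mem_preimage, Set.mem_singleton_iff, ← Scheme.Hom.comp_apply, hf, hx'])
      exact absurd (h.le (show w' ∈ (g.fiberι y) ⁻¹' Set.range j.toImage from ⟨x', hw'.symm⟩)) (Set.notMem_empty _)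
    · have hwT := h.ge (Set.mem_univ w)
      rwa [Set.mem_preimage, hw] at hwT⟩
  haveI : IsIso j.toImage := IsOpenImmersion.isIso _
  rw [← hf]
  infer_instance

end Groth.Agent.S14037
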