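import Groth.Statements.S14042
import Groth.Agent.GenDegLib.Regular

set_option autoImplicit false
set_option backward.isDefEq.respectTransparency false
set_option backward.isDefEq.respectTransparency.types false
universe u
open CategoryTheory CategoryTheory.Limits AlgebraicGeometry
open W4c1frobunstiva

namespace Groth.Agent.S14042

/-- Let k be a field, X and Y integral schemes of finite type over k of the same dimension whose local
rings are all regular, and f : X → Y a dominant and separated k-morphism; let d be the degree of the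
residue field of the generic point of X over that of the generic point of Y, a finite extension.
Then for every point y of Y, either the fibre X_y has positive dimension — it is not finite over
κ(y) — or its ring of global sections has dimension at most d over κ(y). (The published statement
speaks of length; the κ(y)-rank used here is at least the length, so this form implies the printed
one. The published statement does not mention separatedness: for the affine line with doubled origin
mapping to the affine line — regular, dominant, degree 1 — the fibre over the origin is two reduced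
points, of rank 2; the étale-local splitting of a quasi-finite morphism used in the published proof
needs f separated, so f is taken separated here.) -/
theorem result (k : Type u) [Field k] {X Y : Scheme.{u}}
    [X.Over (Spec (CommRingCat.of k))] [Y.Over (Spec (CommRingCat.of k))]
    [LocallyOfFiniteType (X ↘ Spec (CommRingCat.of k))] [QuasiCompact (X ↘ Spec (CommRingCat.of k))]
    [LocallyOfFiniteType (Y ↘ Spec (CommRingCat.of k))] [QuasiCompact (Y ↘ Spec (CommRingCat.of k))]
    [IsIntegral X] [IsIntegral Y] (f : X ⟶ Y) [IsDominant f]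
    (hf : f ≫ (Y ↘ Spec (CommRingCat.of k)) = X ↘ Spec (CommRingCat.of k))
    (hdim : topologicalKrullDim ↥X = topologicalKrullDim ↥Y)
    [IsSeparated f] (hX : ∀ x : X, IsRegularLocalRing (X.presheaf.stalk x))
    (hY : ∀ y : Y, IsRegularLocalRing (Y.presheaf.stalk y)) (y : Y)
    (hy : IsFinite (pullback.snd f (Y.fromSpecResidueField y))) :
    (letI := ((Scheme.ΓSpecIso (CommRingCat.of (Y.residueField y))).inv ≫
            (pullback.snd f (Y.fromSpecResidueField y)).appTop).hom.toAlgebra;
          Module.finrank (Y.residueField y) ↑(Γ(pullback f (Y.fromSpecResidueField y), ⊤))) ≤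
      (letI := (f.residueFieldMap (genericPoint ↥X)).hom.toAlgebra;
          Module.finrank (Y.residueField (f.base (genericPoint ↥X))) (X.residueField (genericPoint ↥X))) := by
  classical
  haveI : LocallyOfFiniteType (f ≫ (Y ↘ Spec (CommRingCat.of k))) := by rw [hf]; infer_instance
  haveI : LocallyOfFiniteType f := locallyOfFiniteType_of_comp f (Y ↘ Spec (CommRingCat.of k))
  haveI : IsLocallyNoetherian Y := LocallyOfFiniteType.isLocallyNoetherian (Y ↘ Spec (CommRingCat.of k))
  haveI : IsLocallyNoetherian X := LocallyOfFiniteType.isLocallyNoetherian (X ↘ Spec (CommRingCat.of k))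
  haveI : CompactSpace ↥X := QuasiCompact.compactSpace_of_compactSpace (X ↘ Spec (CommRingCat.of k))
  haveI : CompactSpace ↥Y := QuasiCompact.compactSpace_of_compactSpace (Y ↘ Spec (CommRingCat.of k))
  haveI : IsNoetherian X := ⟨⟩
  haveI : IsNoetherian Y := ⟨⟩
  haveI : QuasiCompact f := quasiCompact_of_compactSpace f
  have hη : f (genericPoint ↥X) = genericPoint ↥Y := by
    refine ((genericPoint_spec X).image f.continuous).eq ?_
    rw [Set.image_univ, f.denseRange.closure_range]
    exact genericPoint_spec Y
  have h0 := Groth.Agent.GenDegLib.rd_eq_zero f _ _ hf hη hdim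
  let O : X.Opens := f.quasiFiniteLocus
  have hξ : genericPoint ↥X ∈ O := by
    show f.QuasiFiniteAt (genericPoint ↥X)
    rw [Scheme.Hom.quasiFiniteAt_iff_isOpen_singleton_asFiber]
    haveI : Subsingleton ↥(f.fiber (f (genericPoint ↥X))) := ⟨fun a b => by
      refine (f.fiberι _).isEmbedding.injective ?_
      rw [Groth.Agent.GenDegLib.preimage_generic f hη h0 ((Groth.Agent.FibDim.fiber_apply_fiberι f a).trans hη),
        Groth.Agent.GenDegLib.preimage_generic f hη h0 ((Groth.Agent.FibDim.fiber_apply_fiberι f b).trans hη)]⟩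
    exact isOpen_discrete _
  haveI : Nonempty ↥O.toScheme := ⟨⟨_, hξ⟩⟩
  haveI : IsIntegral O.toScheme := isIntegral_of_isOpenImmersion O.ι
  have hOξ : O.ι (genericPoint ↥O.toScheme) = genericPoint ↥X := genericPoint_eq_of_isOpenImmersion O.ι
  letI : O.toScheme.Over (Spec (CommRingCat.of k)) := ⟨O.ι ≫ (X ↘ Spec (CommRingCat.of k))⟩
  haveI : LocallyOfFiniteType (O.toScheme ↘ Spec (CommRingCat.of k)) :=
    inferInstanceAs (LocallyOfFiniteType (O.ι ≫ (X ↘ Spec (CommRingCat.of k))))
  haveI : CompactSpace ↥O.toScheme := isCompact_iff_compactSpace.mp (TopologicalSpace.NoetherianSpace.isCompact _)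
  haveI : QuasiCompact (O.toScheme ↘ Spec (CommRingCat.of k)) := quasiCompact_of_compactSpace _
  let g : O.toScheme ⟶ Y := O.ι ≫ f
  have hg : g ≫ (Y ↘ Spec (CommRingCat.of k)) = O.toScheme ↘ Spec (CommRingCat.of k) := by
    show (O.ι ≫ f) ≫ _ = O.ι ≫ _
    rw [Category.assoc, hf]
  haveI : LocallyQuasiFinite g := Groth.Agent.GenDegLib.locallyQuasiFinite_of_forall g fun z => by
    rw [Scheme.Hom.quasiFiniteAt_comp_iff_of_isOpenImmersion]
    exact z.2
  haveI : QuasiCompact g := quasiCompact_of_compactSpace g
  haveI : LocallyOfFiniteType (g ≫ (Y ↘ Spec (CommRingCat.of k))) := by rw [hg]; infer_instance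
  have hdimO : topologicalKrullDim ↥O.toScheme = topologicalKrullDim ↥Y := by
    rw [← hdim, Groth.Agent.GenDegLib.dim_eq_rd (X := X) (X ↘ Spec (CommRingCat.of k)),
      Groth.Agent.GenDegLib.dim_eq_rd (X := O.toScheme) (O.ι ≫ (X ↘ Spec (CommRingCat.of k))), Groth.Agent.FibDim.rd_opens, hOξ]
  haveI : Flat g := Groth.Agent.GenDegLib.flat_of_regular (Y ↘ Spec (CommRingCat.of k)) g hdimO
    (fun z => by
      haveI := hX (O.ι z)
      exact IsRegularLocalRing.of_ringEquiv (O.stalkIso z).symm.commRingCatIsoToRingEquiv) hY
  have hgη : g (genericPoint ↥O.toScheme) = genericPoint ↥Y := by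
    show (O.ι ≫ f) _ = _
    rw [Scheme.Hom.comp_apply, hOξ, hη]
  haveI : IsDominant g := ⟨by
    refine dense_iff_closure_eq.2 (Set.univ_subset_iff.1 ?_)
    rw [← (genericPoint_spec Y).def]
    exact closure_mono (Set.singleton_subset_iff.2 ⟨_, hgη⟩)⟩
  haveI : LocallyOfFinitePresentation g := inferInstance
  have hfin : ∀ s : Y, (g ⁻¹' {s}).Finite := fun s => g.finite_preimage_singleton s
  obtain ⟨-, U, hUne, hU⟩ := Groth.Agent.S14041.result k g hg hdimO
  have hdeg : ∀ s : Y, (letI := ((Scheme.ΓSpecIso (CommRingCat.of (Y.residueField s))).inv ≫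
      (pullback.snd g (Y.fromSpecResidueField s)).appTop).hom.toAlgebra;
      Module.finrank (Y.residueField s) ↑(Γ(pullback g (Y.fromSpecResidueField s), ⊤))) =
      Groth.Agent.MorLib.WT.deg g s := fun s => by
    letI := ((Scheme.ΓSpecIso (CommRingCat.of (Y.residueField s))).inv ≫
      (pullback.snd g (Y.fromSpecResidueField s)).appTop).hom.toAlgebra
    refine Module.finrank_eq_of_rank_eq ?_
    have h1 := Groth.Agent.MorLib.WT.rank_fibre (f := g) hfin (Y.fromSpecResidueField s)
      (IsLocalRing.closedPoint (Y.residueField s))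
    rw [Groth.Agent.MorLib.WT.finrank_fibre_eq_deg hfin] at h1
    have h2 : Y.fromSpecResidueField s (IsLocalRing.closedPoint (Y.residueField s)) = s := Scheme.fromSpecResidueField_apply _ _
    exact h1.trans (congrArg (fun t => ((Groth.Agent.MorLib.WT.deg g t : ℕ) : Cardinal.{u})) h2)
  have hd : g.residueDegree (genericPoint ↥O.toScheme) = f.residueDegree (genericPoint ↥X) := by
    have h2 := Groth.Agent.CycLib.residueDegree_comp O.ι f (genericPoint ↥O.toScheme)
    rw [Groth.Agent.CycLib.residueDegree_preimmersion O.ι, hOξ, mul_one] at h2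
    exact h2
  have hle : ∀ s : Y, Groth.Agent.MorLib.WT.deg g s ≤ f.residueDegree (genericPoint ↥X) := by
    have hsub : (U : Set Y) ⊆ {s | Groth.Agent.MorLib.WT.deg g s ≤ f.residueDegree (genericPoint ↥X)} :=
      fun s hs => by
        show Groth.Agent.MorLib.WT.deg g s ≤ _
        rw [← hdeg s, ← hd]
        exact ((hU s hs).2).le
    intro s
    refine closure_minimal hsub (Groth.Agent.MorLib.WT.isClosed_deg_le hfin _) ?_
    exact (U.2.dense (Set.nonempty_coe_sort.1 hUne)) s
  let gs := Y.fromSpecResidueField y
  let l : pullback g gs ⟶ pullback f gs := pullback.map g gs f gs O.ι (𝟙 _) (𝟙 _) (by simp [g]) (by simp)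
  have hl : IsPullback l (pullback.fst g gs) (pullback.fst f gs) O.ι := by
    refine IsPullback.of_right ?_ (pullback.lift_fst _ _ _) (IsPullback.of_hasPullback f gs).flip
    simpa [l, g] using (IsPullback.of_hasPullback g gs).flip
  haveI : IsOpenImmersion l := MorphismProperty.of_isPullback hl.flip (inferInstance : IsOpenImmersion O.ι)
  haveI : Surjective l := ⟨fun z => by
    have hz : f (pullback.fst f gs z) = y := by
      rw [← Scheme.Hom.comp_apply, pullback.condition, Scheme.Hom.comp_apply]
      exact (Scheme.range_fromSpecResidueField y).subset ⟨_, rfl⟩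
    obtain ⟨t, ht, -⟩ := Scheme.Pullback.exists_preimage_pullback (f := pullback.fst f gs) (g := O.ι) z
      ⟨pullback.fst f gs z, Groth.Agent.GenDegLib.quasiFiniteAt_of_isFinite_fibre f hy hz⟩ rfl
    exact ⟨hl.isoPullback.inv t, by rw [← Scheme.Hom.comp_apply, IsPullback.isoPullback_inv_fst, ht]⟩⟩
  haveI : IsIso l := by
    haveI : Epi l.base := (TopCat.epi_iff_surjective _).2 l.surjective
    exact IsOpenImmersion.isIso l
  have hsnd : l ≫ pullback.snd f gs = pullback.snd g gs := (pullback.lift_snd _ _ _).trans (Category.comp_id _)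
  refine le_trans (le_of_eq ?_) (hle y)
  rw [← hdeg y]
  letI aF := ((Scheme.ΓSpecIso (CommRingCat.of (Y.residueField y))).inv ≫ (pullback.snd f gs).appTop).hom.toAlgebra
  letI aG := ((Scheme.ΓSpecIso (CommRingCat.of (Y.residueField y))).inv ≫ (pullback.snd g gs).appTop).hom.toAlgebra
  refine LinearEquiv.finrank_eq ({ (asIso l.appTop).commRingCatIsoToRingEquiv with
    map_smul' := fun c x => ?_ } : Γ(pullback f gs, ⊤) ≃ₗ[Y.residueField y] Γ(pullback g gs, ⊤))
  show l.appTop (c • x) = c • l.appTop x
  rw [Algebra.smul_def, Algebra.smul_def, map_mul]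
  congr 1
  show l.appTop ((pullback.snd f gs).appTop _) = (pullback.snd g gs).appTop _
  rw [← hsnd, Scheme.Hom.comp_appTop]
  rfl

end Groth.Agent.S14042
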