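import Groth.Statements.S14055
import Groth.Agent.SurfRR.Curve

set_option autoImplicit false
set_option backward.isDefEq.respectTransparency false
set_option backward.isDefEq.respectTransparency.types false
set_option linter.style.haveILetI false
set_option maxHeartbeats 1000000
universe u
open CategoryTheory CategoryTheory.Limits AlgebraicGeometry TopologicalSpace
open Surf

namespace Groth.Agent.S14055
open Groth.Agent
open scoped Groth.Agent.H23.PicMul

/-- Let k be an algebraically closed field and X a smooth surface over k: an integral scheme, proper and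
smooth over k, of dimension 2; let W be its canonical module, a second exterior power of Ω_{X/k}.
For an invertible module L and an integral closed one-dimensional subscheme C ⊆ X write (L·C) =
χ(O_C ⊗ L) − χ(O_C). If W is nef, that is (W·C) ≥ 0 for every such C, then X is minimal: it contains
no (−1)-curve, where a (−1)-curve is taken, through its numerical characterization, to be an
integral closed one-dimensional subscheme E with H¹(E, O_E) = 0 and (O_X(E)·E) = −1, O_X(E) being a
tensor inverse of the ideal sheaf of E. -/
theorem result (k : Type u) [Field k] [IsAlgClosed k] (X : Scheme.{u})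
    [X.Over (Spec (CommRingCat.of k))] [IsProper (X ↘ (Spec (CommRingCat.of k)))] [Smooth (X ↘ (Spec (CommRingCat.of k)))]
    [IsIntegral X] (hdim : topologicalKrullDim X = 2)
    (W : X.Modules) (hW : ExtPow.IsExtPow 2 (Omega.sheaf (X ↘ (Spec (CommRingCat.of k)))) W)
    (hnef : (∀ C : X.IdealSheafData, IsIntegral C.subscheme → topologicalKrullDim (C.support : Set X) = 1 →
      0 ≤ Curv2.euler k X (CohB1.tensorMod (ClSub.quotMod C) W) - Curv2.euler k X (ClSub.quotMod C))) :
    (∀ (E : X.IdealSheafData) (N : X.Modules), IsIntegral E.subscheme →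
      topologicalKrullDim (E.support : Set X) = 1 → ClSub.IsInverseOf N (ClSub.idealMod E) →
      Subsingleton (Coh.HH E.subscheme (Coh.structureModule E.subscheme) 1) →
      Curv2.euler k X (CohB1.tensorMod (ClSub.quotMod E) N) - Curv2.euler k X (ClSub.quotMod E) ≠ -1) := by
  haveI := CurveCohLib.isNoetherian_of_proper (k := k) (X := X)
  have hdim2 : topologicalKrullDim X = ((2 : ℕ) : WithBot ℕ∞) := by rw [hdim]; rfl
  have hWi := SurfRR.isInvertible_canonical k hdim2 (SurfRR.exists_proj_smooth k hdim2) hW
  intro E N hE hE1 hN hH1 h
  have hreg := SurfRR.regular_of_smooth (X := X) k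
  have hEc := SurfRR.isEffCartier_curve k hdim2 hE hE1 hreg
  have hI := (S8914.result E).2 hEc
  obtain ⟨eN⟩ := hN
  have hNi := VolLib.isInvertible_of_inverse hI eN
  have hQ : Coh.IsCoh (ClSub.quotMod E) := ParShLib.isCoh_quotMod E
  have hQd : topologicalKrullDim ↥(CohB1.support (ClSub.quotMod E)) ≤ ((1 : ℕ) : WithBot ℕ∞) :=
    IntSym.dim_push_le E.subschemeι QCoh.isQCoh_structureModule (SurfRR.dim_subscheme hE1).le
  have hadj := SurfRR.adjunction k hdim2 hEc hW
  have h1 := SurfRR.pair_idealMod k hdim2 hEc hI
  have h2 := SurfRR.pair_idealMod k hdim2 hEc hWi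
  have h3 := IntSym.sym_inverse_head k hNi hI eN (l := []) (List.forall_mem_nil _) hQ hQd
  have h4 := hnef E hE hE1
  rw [SurfRR.eulerDiff] at h h4
  have h5 := (SurfRR.euler_curve k hE hE1).2.2 hH1
  omega

end Groth.Agent.S14055
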