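import Groth.Statements.S14057
import Groth.Agent.SurfRR.Divisor
-- import your own Groth.Agent.* helpers here

set_option autoImplicit false
set_option backward.isDefEq.respectTransparency false
set_option backward.isDefEq.respectTransparency.types false
set_option linter.style.haveILetI false
set_option maxHeartbeats 1000000
universe u
open CategoryTheory CategoryTheory.Limits AlgebraicGeometry TopologicalSpace
open Surf

namespace Groth.Agent.S14057
open Groth.Agent

/-- Let k be an algebraically closed field and X a smooth surface over k: an integral scheme, proper and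
smooth over k, of dimension 2; let W be its canonical module, a second exterior power of Ω_{X/k}.
For an invertible module L and an integral closed one-dimensional subscheme C ⊆ X write (L·C) =
χ(O_C ⊗ L) − χ(O_C), and (W·W) for the self-intersection number of W (the alternating sum χ(O_X) −
2χ(W) + χ(W ⊗ W)). Suppose W is nef and (W·W) > 0. Then W is ample if and only if X contains no
(−2)-curve, where a (−2)-curve is taken, through its numerical characterization, to be an integral
closed one-dimensional subscheme E with H¹(E, O_E) = 0 and (O_X(E)·E) = −2, O_X(E) being a tensor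
inverse of the ideal sheaf of E. (The published statement is for a minimal surface of general type;
its proof uses exactly that the canonical module is nef with positive self-intersection, which is
how the hypothesis is written here.) -/
theorem result (k : Type u) [Field k] [IsAlgClosed k] (X : Scheme.{u})
    [X.Over (Spec (CommRingCat.of k))] [IsProper (X ↘ (Spec (CommRingCat.of k)))] [Smooth (X ↘ (Spec (CommRingCat.of k)))]
    [IsIntegral X] (hdim : topologicalKrullDim X = 2)
    (W : X.Modules) (hW : ExtPow.IsExtPow 2 (Omega.sheaf (X ↘ (Spec (CommRingCat.of k)))) W)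
    (hnef : (∀ C : X.IdealSheafData, IsIntegral C.subscheme → topologicalKrullDim (C.support : Set X) = 1 →
      0 ≤ Curv2.euler k X (CohB1.tensorMod (ClSub.quotMod C) W) - Curv2.euler k X (ClSub.quotMod C)))
    (hpos : 0 < FGA.intNum k X 2 ![W, W] (Coh.structureModule X)) :
    CohB1.IsAmple W ↔
    (∀ (E : X.IdealSheafData) (N : X.Modules), IsIntegral E.subscheme →
      topologicalKrullDim (E.support : Set X) = 1 → ClSub.IsInverseOf N (ClSub.idealMod E) →
      Subsingleton (Coh.HH E.subscheme (Coh.structureModule E.subscheme) 1) →
      Curv2.euler k X (CohB1.tensorMod (ClSub.quotMod E) N) - Curv2.euler k X (ClSub.quotMod E) ≠ -2) := by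
  have hd : topologicalKrullDim X = ((2 : ℕ) : WithBot ℕ∞) := by rw [hdim]; rfl
  haveI := CurveCohLib.isNoetherian_of_proper (k := k) (X := X)
  have hreg := SurfRR.regular_of_smooth (X := X) k
  have hproj := SurfRR.exists_proj_smooth k hd
  have hWi := SurfRR.isInvertible_canonical k hd hproj hW
  rw [SurfRR.intNum_two k hd.le hWi hWi] at hpos
  constructor
  · intro hWa E N hE hE1 hN hH1 h
    have hEc := SurfRR.isEffCartier_curve k hd hE hE1 hreg
    have hI := (S8914.result E).2 hEc
    obtain ⟨eN⟩ := hN
    have hNi := VolLib.isInvertible_of_inverse hI eN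
    have hne : E ≠ ⊤ := fun h => by
      subst h
      exact IsEmpty.false (Classical.arbitrary (⊤ : X.IdealSheafData).subscheme)
    have h0 := SurfRR.sym_pos_divisor k hd hEc hne hWa
    have hQd := SurfRR.dim_quotMod_le k hd hEc
    have hadj := SurfRR.adjunction k hd hEc hW
    have h1 := SurfRR.pair_idealMod k hd hEc hI
    have h2 := SurfRR.pair_idealMod k hd hEc hWi
    have h3 := IntSym.sym_inverse_head k hNi hI eN (l := []) (List.forall_mem_nil _) (ParShLib.isCoh_quotMod E) hQd
    rw [SurfRR.eulerDiff] at h
    have h5 := (SurfRR.euler_curve k hE hE1).2.2 hH1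
    omega
  · intro hno
    obtain ⟨H, hH⟩ := SurfRR.exists_ample k hd hreg
    refine NakaiMo.isAmple_of_pos k hWi fun Z i _ _ d hd0 hZ => ?_
    rw [← IntSym.sym_replicate]
    have hle : topologicalKrullDim Z ≤ ((2 : ℕ) : WithBot ℕ∞) :=
      hd ▸ i.isClosedEmbedding.isInducing.topologicalKrullDim_le
    have hd2 : d ≤ 2 := by rw [hZ] at hle; exact_mod_cast hle
    interval_cases d
    · obtain ⟨eQ⟩ := IntSym.CurveSurface.nonempty_quotMod_iso k (S := X) i
      obtain ⟨hC, -⟩ := H23.P1Graph.image_integral i
      have hC1 : topologicalKrullDim ((i.ker).support : Set X) = 1 := by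
        rw [← IntSym.dim_eq_of_range i (show Set.range i = _ from ?_), hZ, Nat.cast_one]
        rw [Scheme.Hom.support_ker, i.isClosedEmbedding.isClosed_range.closure_eq]
      show 0 < IntSym.sym k [W] _
      rw [IntSym.sym_iso k (List.forall_mem_singleton.2 hWi) eQ]
      have h0 := hnef i.ker hC hC1
      rw [SurfRR.eulerDiff] at h0
      refine lt_of_le_of_ne h0 fun heq => ?_
      have hEc := SurfRR.isEffCartier_curve k hd hC hC1 hreg
      have hI := (S8914.result i.ker).2 hEc
      have hadj := SurfRR.adjunction k hd hEc hW
      have h1 := SurfRR.pair_idealMod k hd hEc hWi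
      have hIW : SurfRR.pair k W (ClSub.idealMod i.ker) = 0 := by rw [SurfRR.pair_comm k hWi hI, h1, ← heq, neg_zero]
      have hII := SurfRR.index_pos k hd hproj hH hWi hI hpos hIW
      have hne : i.ker ≠ ⊤ := fun h => by
        haveI := hC
        haveI : IsEmpty (i.ker).subscheme := by rw [h]; infer_instance
        exact IsEmpty.false (Classical.arbitrary (i.ker).subscheme)
      have hII' : SurfRR.pair k (ClSub.idealMod i.ker) (ClSub.idealMod i.ker) ≠ 0 := fun hz => by
        have := SurfRR.pair_eq_zero_pos k hd hH hWi hI hpos hIW hz hH.1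
        rw [SurfRR.pair_idealMod k hd hEc hH.1] at this
        have := SurfRR.sym_pos_divisor k hd hEc hne hH
        omega
      obtain ⟨N, hN, ⟨u⟩⟩ := H23.PicInv.exists_inverse hI
      obtain ⟨hχ, hχ1⟩ := SurfRR.euler_curve k hC hC1
      have hc := hno i.ker N hC hC1 ⟨CurveTensor.commIso _ _ ≪≫ u⟩ (hχ1.1 (by omega))
      rw [SurfRR.eulerDiff] at hc
      have h3 := IntSym.sym_inverse_head k hN hI (CurveTensor.commIso _ _ ≪≫ u) (l := []) (List.forall_mem_nil _)
        (ParShLib.isCoh_quotMod i.ker) (SurfRR.dim_quotMod_le k hd hEc)
      have h4 := SurfRR.pair_idealMod k hd hEc hI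
      omega
    · haveI := BigMono.isIso_of_dim_eq i hd hZ
      obtain ⟨e⟩ := QCoh.push_structure_iso (𝟙 X) i (by
        exact (Set.range_eq_univ.2 i.surjective).trans (Set.range_eq_univ.2 (𝟙 X : X ⟶ X).surjective).symm)
      rw [IntSym.sym_iso k (fun M hM => List.eq_of_mem_replicate hM ▸ hWi)
        (e ≪≫ (Scheme.Modules.pushforwardId X).app _)]
      exact hpos

end Groth.Agent.S14057
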