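import Groth.Statements.S1406
import Groth.Agent.AlgSpLib.Descent2

set_option autoImplicit false
universe u
open FlatMor

namespace Groth.Agent.S1406

open AlgebraicGeometry CategoryTheory Limits in
/-- Let a : X' → X be flat, locally of finite presentation and surjective. Then all fibres of f : X → Y
are locally Noetherian if and only if all fibres of a ≫ f are. -/
theorem result {X X' Y : Scheme.{u}} (f : X ⟶ Y) (a : X' ⟶ X) [Flat a] [LocallyOfFinitePresentation a] [Surjective a] :
    (∀ y : Y, IsLocallyNoetherian (f.fiber y)) ↔ ∀ y : Y, IsLocallyNoetherian ((a ≫ f).fiber y) := by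
  have key : ∀ y : Y, ∃ a' : (a ≫ f).fiber y ⟶ f.fiber y,
      IsPullback a' ((a ≫ f).fiberι y) (f.fiberι y) a := by
    intro y
    exact ⟨pullback.lift ((a ≫ f).fiberι y ≫ a) ((a ≫ f).fiberToSpecResidueField y)
        (by rw [Category.assoc]; exact pullback.condition),
      IsPullback.of_right (h₁₂ := pullback.snd f (Y.fromSpecResidueField y)) (h₂₂ := f)
        (v₁₃ := Y.fromSpecResidueField y)
        (by rw [pullback.lift_snd]; exact (IsPullback.of_hasPullback (a ≫ f) (Y.fromSpecResidueField y)).flip)
        (pullback.lift_fst _ _ _) (IsPullback.of_hasPullback f (Y.fromSpecResidueField y)).flip⟩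
  constructor <;> intro h y <;> obtain ⟨a', ha'⟩ := key y
  · haveI := h y
    haveI : LocallyOfFinitePresentation a' := MorphismProperty.of_isPullback ha'.flip inferInstance
    exact LocallyOfFiniteType.isLocallyNoetherian a'
  · haveI := h y
    haveI : Flat a' := MorphismProperty.of_isPullback ha'.flip inferInstance
    haveI : Surjective a' := MorphismProperty.of_isPullback ha'.flip inferInstance
    haveI : LocallyOfFinitePresentation a' := MorphismProperty.of_isPullback ha'.flip inferInstance
    exact Groth.Agent.AlgSpLib.isLocallyNoetherian_of_flat a'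

end Groth.Agent.S1406
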