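import Groth.Statements.S14060


set_option autoImplicit false
universe u
open CategoryTheory CategoryTheory.Limits TopologicalSpace
open CohTop

namespace Groth.Agent.S14060

/-- Let X be a topological space, r ≥ 1 an integer and 0 → F_r → ⋯ → F_2 → F_1 → F_0 → 0 an exact
sequence of sheaves of abelian groups on X, presented as a chain complex F of abelian sheaves
indexed by the natural numbers whose differential F_r → F_{r−1} is a monomorphism, whose
differential F_1 → F_0 is an epimorphism of sheaves, and which is exact at F_j for 1 ≤ j ≤ r − 1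
(for r = 1 the single map F_1 → F_0 is mono and epi). Assume the sheaf cohomology groups H^{j−1}(X,
F_j) vanish for 2 ≤ j ≤ r. Then the map on global sections F_1(X) → F_0(X) is surjective. (The
instance hypothesis that the category of abelian sheaves on X has Ext groups in the universe of X
holds for every X, abelian sheaves on a space forming a Grothendieck abelian category; it is the
setting in which sheaf cohomology is defined.) -/
theorem result (X : TopCat.{u})
    [HasExt.{u} (Sheaf (Opens.grothendieckTopology X) AddCommGrpCat.{u})]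
    (r : ℕ) (hr : 1 ≤ r)
    (F : ChainComplex (Sheaf (Opens.grothendieckTopology X) AddCommGrpCat.{u}) ℕ)
    (hmono : Mono (F.d r (r - 1))) (hepi : Epi (F.d 1 0))
    (hex : ∀ j : ℕ, 1 ≤ j → j < r → F.ExactAt j)
    (hvan : ∀ j : ℕ, 2 ≤ j → j ≤ r → Subsingleton (Sheaf.H (F.X j) (j - 1))) :
    Function.Surjective ((F.d 1 0).hom.app (Opposite.op ⊤)) := by
  let hT : Limits.IsTerminal (⊤ : Opens X) := Limits.IsTerminal.ofUniqueHom (fun U => homOfLE le_top) (fun _ _ => rfl)
  -- K j = kernel of d (j+1) j
  let K : ℕ → Sheaf (Opens.grothendieckTopology X) AddCommGrpCat.{u} := fun j => Limits.kernel (F.d (j + 1) j)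
  have step : ∀ j, j + 2 ≤ r → Subsingleton (Sheaf.H (K (j + 1)) (j + 2)) → Subsingleton (Sheaf.H (K j) (j + 1)) := by
    intro j hj hK
    have hex' : (F.sc' (j + 2) (j + 1) j).Exact :=
      (F.exactAt_iff' (j + 2) (j + 1) j (by simp) (by simp)).1 (hex (j + 1) (by omega) (by omega))
    haveI : Epi (Limits.kernel.lift (F.d (j + 1) j) (F.d (j + 2) (j + 1)) (F.d_comp_d _ _ _)) := hex'.epi_kernelLift
    let S : ShortComplex (Sheaf (Opens.grothendieckTopology X) AddCommGrpCat.{u}) :=
      ShortComplex.mk (Limits.kernel.ι (F.d (j + 2) (j + 1)))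
        (Limits.kernel.lift (F.d (j + 1) j) (F.d (j + 2) (j + 1)) (F.d_comp_d _ _ _))
        (by rw [← cancel_mono (Limits.kernel.ι (F.d (j + 1) j))]; simp)
    have hS : S.ShortExact := by
      refine { exact := S.exact_of_f_is_kernel (Limits.KernelFork.IsLimit.ofι _ _
        (fun g hg => Limits.kernel.lift _ g ?_) (fun g hg => Limits.kernel.lift_ι _ _ _)
        (fun g hg m hm => ?_)), mono_f := inferInstanceAs (Mono (Limits.kernel.ι _)), epi_g := this }
      · have := hg =≫ Limits.kernel.ι (F.d (j + 1) j)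
        simpa [S] using this
      · rw [← cancel_mono (Limits.kernel.ι (F.d (j + 2) (j + 1)))]
        exact hm.trans (Limits.kernel.lift_ι _ _ _).symm
    refine ⟨fun a b => ?_⟩
    have key : ∀ x : Sheaf.H (K j) (j + 1), x = 0 := by
      intro x
      haveI := hK
      obtain ⟨x₂, rfl⟩ := Abelian.Ext.covariant_sequence_exact₃ _ hS x (n₁ := j + 2) rfl (Subsingleton.elim (α := Sheaf.H (K (j + 1)) (j + 2)) _ _)
      haveI : Subsingleton (Sheaf.H (F.X (j + 2)) (j + 1)) := hvan (j + 2) (by omega) hj
      rw [Subsingleton.elim (α := Sheaf.H (F.X (j + 2)) (j + 1)) x₂ 0]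
      exact map_zero ((Abelian.Ext.mk₀ S.g).postcomp _ (add_zero (j + 1)))
    rw [key a, key b]
  have main : ∀ k j, j + 1 + k = r → Subsingleton (Sheaf.H (K j) (j + 1)) := by
    intro k
    induction k with
    | zero =>
      intro j hj
      obtain rfl : r = j + 1 := by omega
      haveI : Mono (F.d (j + 1) j) := hmono
      exact Sheaf.subsingleton_H_of_isZero (Limits.isZero_kernel_of_mono _) _
    | succ k ih => exact fun j hj => step j (by omega) (ih (j + 1) (by omega))
  haveI h1 : Subsingleton (Sheaf.H (K 0) 1) := main (r - 1) 0 (by omega)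
  let S₀ : ShortComplex (Sheaf (Opens.grothendieckTopology X) AddCommGrpCat.{u}) :=
    ShortComplex.mk (Limits.kernel.ι (F.d 1 0)) (F.d 1 0) (Limits.kernel.condition _)
  have hS₀ : S₀.ShortExact :=
    { exact := S₀.exact_of_f_is_kernel (Limits.kernelIsKernel _)
      mono_f := inferInstanceAs (Mono (Limits.kernel.ι _))
      epi_g := hepi }
  intro y
  obtain ⟨x, hx⟩ := Abelian.Ext.covariant_sequence_exact₃ _ hS₀ ((Sheaf.H.equiv₀ (F.X 0) hT).symm y) (n₁ := 1) rfl
    (Subsingleton.elim (α := Sheaf.H (K 0) 1) _ _)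
  refine ⟨Sheaf.H.equiv₀ (F.X 1) hT x, ?_⟩
  rw [Sheaf.H.equiv₀_naturality, Sheaf.H.map_apply]
  erw [hx]
  exact (Sheaf.H.equiv₀ (F.X 0) hT).apply_symm_apply y

end Groth.Agent.S14060
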