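import Groth.Statements.S14064
import Groth.Agent.SurfRR.Curve

set_option autoImplicit false
set_option backward.isDefEq.respectTransparency false
set_option backward.isDefEq.respectTransparency.types false
set_option linter.style.haveILetI false
set_option maxHeartbeats 1000000
universe u
open CategoryTheory CategoryTheory.Limits AlgebraicGeometry TopologicalSpace
open Surf

namespace Groth.Agent.S14064
open Groth.Agent
open scoped Groth.Agent.H23.PicMul

/-- Fix a field k, an integral proper k-scheme X, and an invertible O_X-module L with tensor inverse M.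
Suppose that L^{⊗j} has a nonzero global section for every j ≥ 4 and that no tensor power L^{⊗j}
with j ≥ 1 is isomorphic to O_X. Then H⁰(X, M^{⊗i}) = 0 for every i ≥ 1: the negative powers of L
have no nonzero global sections. (The published statement is for the canonical module of a minimal
surface of general type over an algebraically closed field, where the fourth and higher powers are
globally generated by a deep result quoted without proof, and non-triviality of the positive powers
comes from bigness; the published deduction of this part uses exactly the two hypotheses carried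
here, on an integral proper X.) -/
theorem result (k : Type u) [Field k]
    (X : Scheme.{u}) [X.Over (Spec (CommRingCat.of k))] [IsProper (X ↘ (Spec (CommRingCat.of k)))] [IsIntegral X]
    (L M : X.Modules) (hL : PicF.IsInvertible L) (hM : ClSub.IsInverseOf M L)
    (hsec : ∀ j : ℕ, 4 ≤ j → Nontrivial (Coh.HH X (CohB1.tensorPow L j) 0))
    (hnt : ∀ j : ℕ, 1 ≤ j → IsEmpty (CohB1.tensorPow L j ≅ Coh.structureModule X))
    (i : ℕ) (hi : 1 ≤ i) :
    Subsingleton (Coh.HH X (CohB1.tensorPow M i) 0) := by
  haveI := CurveCohLib.isNoetherian_of_proper (k := k) (X := X)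
  have hMi := VolLib.isInvertible_of_inverse hL hM.some
  refine not_nontrivial_iff_subsingleton.1 fun hnt' => ?_
  have hfin : ∀ {E : X.Modules}, PicF.IsInvertible E → Nontrivial (Coh.HH X E 0) →
      0 < Module.finrank k (Coh.HH X E 0) := fun hE h => by
    haveI := CurveCohLib.finite_HH (k := k) (AmpleVan.isCoh_invertible hE) 0
    exact Module.finrank_pos
  have hMp := InvX.isInvertible_tensorPow hMi i
  obtain ⟨τ, hτ⟩ := VolLib.exists_section_of_pos (k := k) (hfin hMp hnt')
  obtain ⟨ρ, hρ⟩ := VolLib.exists_pow_ne_zero hMp τ hτ 4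
  haveI := CurveCohLib.finite_HH (k := k) (AmpleVan.isCoh_invertible (InvX.isInvertible_tensorPow hMp 4)) 0
  have h1 : 0 < Module.finrank k (Coh.HH X (CohB1.tensorPow (CohB1.tensorPow M i) 4) 0) := by
    refine Module.finrank_pos_iff.2 ⟨⟨(Sheaf.H.equiv₀ (Coh.toAb (CohB1.tensorPow (CohB1.tensorPow M i) 4)) Limits.isTerminalTop).symm ρ, 0, fun h => hρ ?_⟩⟩
    exact ((Sheaf.H.equiv₀ (Coh.toAb (CohB1.tensorPow (CohB1.tensorPow M i) 4)) Limits.isTerminalTop).apply_symm_apply ρ).symm.trans
      ((congrArg _ h).trans (map_zero _))
  have h2 := hfin (InvX.isInvertible_tensorPow hL (i * 4)) (hsec (i * 4) (by omega))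
  obtain ⟨u⟩ : Nonempty (CohB1.tensorMod (CohB1.tensorPow L (i * 4)) (CohB1.tensorPow (CohB1.tensorPow M i) 4) ≅
      Coh.structureModule X) := H23.PicMul.cl_eq_iff.1 (by
    rw [H23.PicMul.cl_tensor, H23.PicMul.cl_tensorPow, H23.PicMul.cl_tensorPow, H23.PicMul.cl_tensorPow, ← pow_mul,
      ← mul_pow, mul_comm (PicF.cl L), ← H23.PicMul.cl_tensor, H23.PicMul.cl_eq_iff.2 hM, ← H23.PicMul.one_def, one_pow])
  obtain ⟨e⟩ := SurfRR.trivial_of_sections k (InvX.isInvertible_tensorPow hL (i * 4))
    (InvX.isInvertible_tensorPow hMp 4) u h2 h1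
  exact (hnt (i * 4) (by omega)).false e

end Groth.Agent.S14064
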