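import Groth.Statements.S14066
import Groth.Agent.Proj16.Map
import Groth.Agent.ProjX.HProj
import Groth.Agent.ProjX.Chart
-- import your own Groth.Agent.* helpers here

set_option autoImplicit false
set_option backward.isDefEq.respectTransparency false
set_option backward.isDefEq.respectTransparency.types false
set_option linter.style.haveILetI false
set_option maxHeartbeats 1000000
universe u
open CategoryTheory CategoryTheory.Limits AlgebraicGeometry TopologicalSpace
open Variety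

namespace Groth.Agent.S14066
open Groth.Agent

/-- Let k be a field, and let X₁ and X₂ be k-schemes with closed immersions i₁ : X₁ → P^n_k and i₂ : X₂
→ P^m_k over k. Then there is a closed immersion of the disjoint union X₁ ⨿ X₂ into P^{n+m+1}_k over
k, that is, compatible with the structure morphism of the coproduct induced by those of X₁ and X₂.
(Stated as the step of the published proof showing that a disjoint union of two projective k-schemes
is projective.) -/
theorem result (k : Type u) [Field k] (n m : ℕ)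
    (X₁ X₂ : Scheme.{u}) [X₁.Over (Spec (CommRingCat.of k))] [X₂.Over (Spec (CommRingCat.of k))]
    (i₁ : X₁ ⟶ CohB1.ProjSpace n k) [IsClosedImmersion i₁] (h₁ : i₁ ≫ CohB1.ProjSpace.toSpec n k = X₁ ↘ (Spec (CommRingCat.of k)))
    (i₂ : X₂ ⟶ CohB1.ProjSpace m k) [IsClosedImmersion i₂] (h₂ : i₂ ≫ CohB1.ProjSpace.toSpec m k = X₂ ↘ (Spec (CommRingCat.of k))) :
    ∃ j : X₁ ⨿ X₂ ⟶ CohB1.ProjSpace (n + m + 1) k, IsClosedImmersion j ∧
      j ≫ CohB1.ProjSpace.toSpec (n + m + 1) k = coprod.desc (X₁ ↘ (Spec (CommRingCat.of k))) (X₂ ↘ (Spec (CommRingCat.of k))) := by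
  classical
  let S : ℕ → Type u := fun N => MvPolynomial (Fin (N + 1)) k
  let v₁ : Fin (n + m + 1 + 1) → S n := fun l =>
    if h : (l : ℕ) < n + 1 then MvPolynomial.X ⟨l, h⟩ else 0
  let v₂ : Fin (n + m + 1 + 1) → S m := fun l =>
    if h : (l : ℕ) < n + 1 then 0 else MvPolynomial.X ⟨l - (n + 1), by omega⟩
  have hv₁ : ∀ l, v₁ l ∈ CohB1.polyGrading n k 1 := fun l => by
    show dite _ _ _ ∈ _
    split_ifs
    · exact MvPolynomial.isHomogeneous_X _ _
    · exact zero_mem _
  have hv₂ : ∀ l, v₂ l ∈ CohB1.polyGrading m k 1 := fun l => by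
    show dite _ _ _ ∈ _
    split_ifs
    · exact zero_mem _
    · exact MvPolynomial.isHomogeneous_X _ _
  have key : ∀ (a : ℕ) (v : Fin (n + m + 1 + 1) → S a), (∀ l, v l ∈ CohB1.polyGrading a k 1) →
      (∀ i, ∃ l, v l = MvPolynomial.X i) →
      ∃ e : CohB1.ProjSpace a k ⟶ CohB1.ProjSpace (n + m + 1) k, IsClosedImmersion e ∧
        e ≫ CohB1.ProjSpace.toSpec (n + m + 1) k = CohB1.ProjSpace.toSpec a k ∧
        ∀ p l, v l = 0 → (MvPolynomial.X l : S (n + m + 1)) ∈ ((e p).asHomogeneousIdeal) := by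
    intro a v hv hsur
    let φ : CohB1.polyGrading (n + m + 1) k →+*ᵍ CohB1.polyGrading a k :=
      { (MvPolynomial.aeval v).toRingHom with
        map_mem := fun {i x} hx => by
          have := (MvPolynomial.IsHomogeneous.aeval hx v (n := 1) fun l => hv l)
          rw [one_mul] at this
          exact this }
    have hsurj : Function.Surjective φ := by
      have h1 : Function.Surjective (MvPolynomial.aeval (R := k) v) := by
        rw [← AlgHom.range_eq_top, eq_top_iff, ← MvPolynomial.adjoin_range_X, Algebra.adjoin_le_iff]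
        rintro _ ⟨i, rfl⟩
        obtain ⟨l, hl⟩ := hsur i
        exact ⟨MvPolynomial.X l, (MvPolynomial.aeval_X v l).trans hl⟩
      exact h1
    have hφ : HomogeneousIdeal.irrelevant (CohB1.polyGrading a k) ≤
        (HomogeneousIdeal.irrelevant (CohB1.polyGrading (n + m + 1) k)).map φ := by
      rw [HomogeneousIdeal.irrelevant_le]
      intro d hd b hb
      obtain ⟨c, hc, rfl⟩ := Proj16.exists_mem_of_surjective φ hsurj hb
      exact Ideal.mem_map_of_mem (f := φ) (HomogeneousIdeal.mem_irrelevant_of_mem _ hd hc)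
    refine ⟨Proj.map φ hφ, Proj16.isClosedImmersion_map φ hφ hsurj, ProjX.map_toSpecZero φ hφ _ _ fun r => ?_, ?_⟩
    · exact (MvPolynomial.aeval v).commutes r
    · intro p l hl
      show φ (MvPolynomial.X l) ∈ p.asHomogeneousIdeal
      rw [show φ (MvPolynomial.X l) = v l from MvPolynomial.aeval_X v l, hl]
      exact zero_mem _
  obtain ⟨e₁, _, he₁, h₁0⟩ := key n v₁ hv₁ fun i => ⟨⟨i, by omega⟩, dif_pos i.2⟩
  obtain ⟨e₂, _, he₂, h₂0⟩ := key m v₂ hv₂ fun i => ⟨⟨n + 1 + i, by omega⟩, by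
    show dite _ _ _ = _
    rw [dif_neg (show ¬ n + 1 + (i : ℕ) < n + 1 by omega)]
    congr 1
    exact Fin.ext (show n + 1 + (i : ℕ) - (n + 1) = i by omega)⟩
  have hdisj : ∀ p q, e₁ p ≠ e₂ q := by
    intro p q h
    refine (e₁ p).not_irrelevant_le ?_
    show (HomogeneousIdeal.irrelevant (CohB1.polyGrading (n + m + 1) k)).toIdeal ≤ _
    rw [ProjX.irrelevant_eq_span_X, Ideal.span_le]
    rintro _ ⟨l, rfl⟩
    by_cases hl : (l : ℕ) < n + 1
    · exact h ▸ h₂0 q l (dif_pos hl)
    · exact h₁0 p l (dif_neg hl)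
  let c₁ := i₁ ≫ e₁
  let c₂ := i₂ ≫ e₂
  have hcases : ∀ x : ↥(X₁ ⨿ X₂), (∃ a, (coprod.inl : X₁ ⟶ X₁ ⨿ X₂) a = x) ∨ ∃ b, (coprod.inr : X₂ ⟶ X₁ ⨿ X₂) b = x :=
    fun x => (isCompl_range_inl_inr X₁ X₂).sup_eq_top.ge (show x ∈ (⊤ : (X₁ ⨿ X₂).Opens) from trivial) |>.imp id id
  have hl : ∀ a, coprod.desc c₁ c₂ ((coprod.inl : X₁ ⟶ X₁ ⨿ X₂) a) = c₁ a := fun a => by
    rw [← Scheme.Hom.comp_apply, coprod.inl_desc]
  have hr : ∀ b, coprod.desc c₁ c₂ ((coprod.inr : X₂ ⟶ X₁ ⨿ X₂) b) = c₂ b := fun b => by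
    rw [← Scheme.Hom.comp_apply, coprod.inr_desc]
  refine ⟨coprod.desc c₁ c₂, ?_, ?_⟩
  · have hemb : Topology.IsClosedEmbedding (coprod.desc c₁ c₂) := by
      refine .of_continuous_injective_isClosedMap (coprod.desc c₁ c₂).continuous ?_ ?_
      · intro x y hxy
        rcases hcases x with ⟨a, rfl⟩ | ⟨a, rfl⟩ <;> rcases hcases y with ⟨b, rfl⟩ | ⟨b, rfl⟩
        · rw [hl, hl] at hxy; rw [c₁.isClosedEmbedding.injective hxy]
        · rw [hl, hr] at hxy; exact absurd hxy (hdisj _ _)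
        · rw [hr, hl] at hxy; exact absurd hxy.symm (hdisj _ _)
        · rw [hr, hr] at hxy; rw [c₂.isClosedEmbedding.injective hxy]
      · intro Z hZ
        have : coprod.desc c₁ c₂ '' Z = c₁ '' ((coprod.inl : X₁ ⟶ X₁ ⨿ X₂) ⁻¹' Z) ∪ c₂ '' ((coprod.inr : X₂ ⟶ X₁ ⨿ X₂) ⁻¹' Z) := by
          ext p
          constructor
          · rintro ⟨x, hx, rfl⟩
            rcases hcases x with ⟨a, rfl⟩ | ⟨b, rfl⟩
            · exact Or.inl ⟨a, hx, (hl a).symm⟩
            · exact Or.inr ⟨b, hx, (hr b).symm⟩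
          · rintro (⟨a, ha, rfl⟩ | ⟨b, hb, rfl⟩)
            · exact ⟨_, ha, hl a⟩
            · exact ⟨_, hb, hr b⟩
        rw [this]
        exact (c₁.isClosedEmbedding.isClosedMap _ (hZ.preimage (coprod.inl : X₁ ⟶ X₁ ⨿ X₂).continuous)).union
          (c₂.isClosedEmbedding.isClosedMap _ (hZ.preimage (coprod.inr : X₂ ⟶ X₁ ⨿ X₂).continuous))
    haveI : IsPreimmersion (coprod.desc c₁ c₂) := by
      refine { isEmbedding := hemb.isEmbedding, stalkMap_surjective := fun x => ?_ }
      have aux : ∀ {W : Scheme.{u}} (i : W ⟶ X₁ ⨿ X₂) (c : W ⟶ CohB1.ProjSpace (n + m + 1) k) [IsOpenImmersion i] [IsClosedImmersion c],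
          i ≫ coprod.desc c₁ c₂ = c → ∀ a, Function.Surjective ((coprod.desc c₁ c₂).stalkMap (i a)) := by
        intro W i c _ _ hic a
        subst hic
        have h1 := (i ≫ coprod.desc c₁ c₂).stalkMap_surjective a
        rw [Scheme.Hom.stalkMap_comp] at h1
        exact Function.Surjective.of_comp_left (f := i.stalkMap a) h1
          (asIso (i.stalkMap a)).commRingCatIsoToRingEquiv.injective
      rcases hcases x with ⟨a, rfl⟩ | ⟨b, rfl⟩
      · exact aux _ _ (coprod.inl_desc c₁ c₂) a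
      · exact aux _ _ (coprod.inr_desc c₁ c₂) b
    exact IsClosedImmersion.of_isPreimmersion _ hemb.isClosed_range
  · apply coprod.hom_ext <;> simp [c₁, c₂, he₁, he₂, h₁, h₂]

end Groth.Agent.S14066
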