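import Groth.Statements.S14068
import Groth.Agent.EtalePoints.Dominant
import Mathlib.RingTheory.RingHom.Etale
import Mathlib.RingTheory.RingHom.StandardSmooth
-- import your own Groth.Agent.* helpers here

set_option autoImplicit false
universe u
open CategoryTheory AlgebraicGeometry
open FamCyc

namespace Groth.Agent.S14068

open TensorProduct Limits

theorem isImmersion_SpecMap {R : Type u} [CommRing R] {n : ℕ} (g : Fin n → Polynomial R) :
    IsImmersion (Spec.map (CommRingCat.ofHom (algebraMap (MvPolynomial (Fin n) R) (EtalePoints.W g)))) := by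
  rw [IsScalarTower.algebraMap_eq (MvPolynomial (Fin n) R)
    (MvPolynomial (Fin n) R ⧸ EtalePoints.rel g) (EtalePoints.W g), CommRingCat.ofHom_comp, Spec.map_comp]
  have := IsOpenImmersion.of_isLocalization (S := EtalePoints.W g)
    (Ideal.Quotient.mk (EtalePoints.rel g) (EtalePoints.den g))
  have : IsClosedImmersion (Spec.map (CommRingCat.ofHom (algebraMap (MvPolynomial (Fin n) R)
      (MvPolynomial (Fin n) R ⧸ EtalePoints.rel g)))) :=
    IsClosedImmersion.spec_of_surjective _ Ideal.Quotient.mk_surjective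
  infer_instance

theorem isImmersion_includeRight {P W C : Type u} [CommRing P] [CommRing W] [CommRing C] [Algebra P W]
    [Algebra P C] (h : IsImmersion (Spec.map (CommRingCat.ofHom (algebraMap P W)))) :
    IsImmersion (Spec.map (CommRingCat.ofHom
      (Algebra.TensorProduct.includeRight : C →ₐ[P] W ⊗[P] C).toRingHom)) := by
  haveI := h
  have e := pullbackSpecIso_inv_snd P W C
  refine (congrArg IsImmersion e).mp ?_
  infer_instance

theorem etale_tensor {R P W C : Type u} [CommRing R] [CommRing P] [CommRing W] [CommRing C] [Algebra R P]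
    [Algebra R W] [Algebra P W] [IsScalarTower R P W] [Algebra R C] [Algebra P C] [IsScalarTower R P C]
    [Algebra.Etale R W] [Algebra.Etale P C] :
    RingHom.Etale ((Algebra.TensorProduct.includeRight : C →ₐ[P] W ⊗[P] C).toRingHom.comp (algebraMap R C)) := by
  have e : (Algebra.TensorProduct.includeRight : C →ₐ[P] W ⊗[P] C).toRingHom.comp (algebraMap R C) =
      algebraMap R (W ⊗[P] C) := RingHom.ext fun r => by
    rw [RingHom.comp_apply, IsScalarTower.algebraMap_apply R P C]
    refine ((Algebra.TensorProduct.includeRight : C →ₐ[P] W ⊗[P] C).commutes _).trans ?_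
    exact (IsScalarTower.algebraMap_apply R P (W ⊗[P] C) r).symm
  rw [e, RingHom.etale_algebraMap]
  exact Algebra.Etale.comp R W (W ⊗[P] C)

set_option maxHeartbeats 800000 in
/-- Let g : S' ⟶ S be a smooth morphism and q : B' ⟶ S' a flat morphism locally of finite presentation.
Then the family of base changes Z ×_{S'} B' ⟶ B' of all immersions j : Z ⟶ S' with Z étale over S is
schematically dominant: a section of the structure sheaf of B' over an open V whose pullback along
every member of the family is zero is itself zero. -/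
theorem result {S S' B' : Scheme.{u}} (g : S' ⟶ S) [Smooth g]
    (q : B' ⟶ S') [Flat q] [LocallyOfFinitePresentation q] (V : B'.Opens) (t : Γ(B', V))
    (h : ∀ (Z : Scheme.{u}) (j : Z ⟶ S'), IsImmersion j → Etale (j ≫ g) →
      (Limits.pullback.snd j q).app V t = 0) : t = 0 := by
  classical
  refine B'.sheaf.eq_of_locally_eq' (fun x : {p : {U : B'.Opens // IsAffineOpen U ∧ U ≤ V} //
      B'.presheaf.map (homOfLE p.2.2).op t = 0} => x.1.1) V (fun x => homOfLE x.1.2.2) ?_ t 0 ?_
  swap
  · intro x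
    rw [map_zero]
    exact x.2
  intro x hx
  obtain ⟨U, hU, U', hU', hxU', e, hstd⟩ := Smooth.exists_isStandardSmooth g (q x)
  obtain ⟨_, ⟨W', hW', rfl⟩, hxW', hW'le⟩ :=
    B'.isBasis_affineOpens.exists_subset_of_mem_open (⟨hx, hxU'⟩ : x ∈ V ⊓ q ⁻¹ᵁ U') (V ⊓ q ⁻¹ᵁ U').isOpen
  have hWa : IsAffineOpen W' := hW'
  have hV : W' ≤ V := fun y hy => (hW'le hy).1
  have e' : W' ≤ q ⁻¹ᵁ U' := fun y hy => (hW'le hy).2
  refine TopologicalSpace.Opens.mem_iSup.2 ⟨⟨⟨W', hW', hV⟩, ?_⟩, hxW'⟩
  set R := Γ(S, U)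
  set C := Γ(S', U')
  set B := Γ(B', W')
  obtain ⟨n, φ, hφ, hφe⟩ := hstd.exists_etale_mvPolynomial
  have hqfl : (q.appLE U' W' e').hom.Flat := q.flat_appLE hU' hW' e'
  have hqfp : (q.appLE U' W' e').hom.FinitePresentation := q.finitePresentation_appLE hU' hW' e'
  algebraize [φ, (q.appLE U' W' e').hom, (q.appLE U' W' e').hom.comp φ, (g.appLE U U' e).hom]
  haveI : IsScalarTower R (MvPolynomial (Fin n) R) C := IsScalarTower.of_algebraMap_eq fun r =>
    (RingHom.congr_fun hφ r).symm
  haveI : Module.Flat (MvPolynomial (Fin n) R) B := Module.Flat.trans _ C _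
  haveI : Algebra.FinitePresentation (MvPolynomial (Fin n) R) B := Algebra.FinitePresentation.trans _ C _
  refine EtalePoints.eq_zero_of_forall (R := R) (n := n) _ fun γ => ?_
  haveI := EtalePoints.etale γ
  let iC : C →+* EtalePoints.W γ ⊗[MvPolynomial (Fin n) R] C :=
    (Algebra.TensorProduct.includeRight : C →ₐ[MvPolynomial (Fin n) R] _).toRingHom
  let iB : B →+* EtalePoints.W γ ⊗[MvPolynomial (Fin n) R] B :=
    (Algebra.TensorProduct.includeRight : B →ₐ[MvPolynomial (Fin n) R] _).toRingHom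
  let j : Spec (CommRingCat.of (EtalePoints.W γ ⊗[MvPolynomial (Fin n) R] C)) ⟶ S' :=
    Spec.map (CommRingCat.ofHom iC) ≫ hU'.fromSpec
  have : IsImmersion (Spec.map (CommRingCat.ofHom iC)) :=
    isImmersion_includeRight (isImmersion_SpecMap γ)
  have hj : IsImmersion j := inferInstance
  have hjg : Etale (j ≫ g) := by
    have : Etale (Spec.map (g.appLE U U' e ≫ CommRingCat.ofHom iC)) := by
      rw [HasRingHomProperty.Spec_iff (P := @Etale)]
      exact etale_tensor (R := R) (P := MvPolynomial (Fin n) R) (W := EtalePoints.W γ) (C := C)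
    rw [Category.assoc, ← hU.SpecMap_appLE_fromSpec g hU' e, ← Category.assoc, ← Spec.map_comp]
    infer_instance
  let qC : C →ₐ[MvPolynomial (Fin n) R] B := IsScalarTower.toAlgHom (MvPolynomial (Fin n) R) C B
  let m := Algebra.TensorProduct.map (AlgHom.id (MvPolynomial (Fin n) R) (EtalePoints.W γ)) qC
  let k : Spec (CommRingCat.of (EtalePoints.W γ ⊗[MvPolynomial (Fin n) R] B)) ⟶ pullback j q :=
    pullback.lift (Spec.map (CommRingCat.ofHom m.toRingHom)) (Spec.map (CommRingCat.ofHom iB) ≫ hWa.fromSpec) <| by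
      rw [Category.assoc, ← hU'.SpecMap_appLE_fromSpec q hW' e', ← Spec.map_comp_assoc, ← Spec.map_comp_assoc]
      congr 2
  have hle : W' ≤ V := hV
  have e'' : (⊤ : (Spec (CommRingCat.of (EtalePoints.W γ ⊗[MvPolynomial (Fin n) R] B))).Opens) ≤
      (Spec.map (CommRingCat.ofHom iB) ≫ hWa.fromSpec) ⁻¹ᵁ V :=
    fun y _ => hV (hWa.range_fromSpec.le ⟨_, rfl⟩)
  have hk : ∀ f, k ≫ pullback.snd j q = f → ∀ e, f.appLE V ⊤ e t = 0 := by
    rintro f rfl e
    rw [Scheme.Hom.comp_appLE]
    rw [CommRingCat.comp_apply, h _ j hj hjg, map_zero]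
  replace hk := hk _ (pullback.lift_snd _ _ _) e''
  rw [show (Spec.map (CommRingCat.ofHom iB) ≫ hWa.fromSpec).appLE V ⊤ e'' =
      B'.presheaf.map (homOfLE hV).op ≫ CommRingCat.ofHom iB ≫ (Scheme.ΓSpecIso _).inv by
    rw [Scheme.Hom.comp_appLE, hWa.fromSpec_app_of_le V hV, Category.assoc, Category.assoc,
      Scheme.ΓSpecIso_inv_naturality (R := Γ(B', W')) (CommRingCat.ofHom iB)]
    erw [Scheme.Hom.map_appLE]
    rw [Scheme.Hom.appTop, Scheme.Hom.app_eq_appLE]
    rfl] at hk
  rw [CommRingCat.comp_apply, CommRingCat.comp_apply] at hk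
  exact (Scheme.ΓSpecIso _).commRingCatIsoToRingEquiv.symm.injective (hk.trans (map_zero _).symm)

end Groth.Agent.S14068
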