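import Groth.Statements.S14069
import Mathlib.AlgebraicGeometry.Morphisms.Smooth
import Mathlib.AlgebraicGeometry.Morphisms.Etale
import Mathlib.RingTheory.RingHom.StandardSmooth
import Mathlib.RingTheory.Etale.StandardEtale
-- import your own Groth.Agent.* helpers here

set_option autoImplicit false
universe u
open CategoryTheory AlgebraicGeometry
open FamCyc

namespace Groth.Agent.S14069

open Limits TensorProduct

theorem algebra_lift {R A B A₀ : Type u} [CommRing R] [CommRing A] [CommRing B] [CommRing A₀]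
    (gA : R →+* A) (q : A →+* A₀) (hq : Function.Surjective q) (n : ℕ)
    (gB : MvPolynomial (Fin n) R →+* B) (hgB : gB.Etale) (g₀ : B →+* A₀)
    (hg₀ : g₀.comp (gB.comp MvPolynomial.C) = q.comp gA) :
    ∃ (C : Type u) (_ : CommRing C) (i : A →+* C) (g : B →+* C) (σ : C →+* A₀),
      i.Etale ∧ σ.comp i = q ∧ g.comp (gB.comp MvPolynomial.C) = i.comp gA ∧ σ.comp g = g₀ ∧
      IsPushout (CommRingCat.ofHom i) (CommRingCat.ofHom q) (CommRingCat.ofHom σ)
        (CommRingCat.ofHom (RingHom.id A₀)) := by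
  classical
  choose xs hxs using fun j : Fin n => hq (g₀ (gB (MvPolynomial.X j)))
  let φ : MvPolynomial (Fin n) R →+* A := MvPolynomial.eval₂Hom gA xs
  algebraize [φ, gB, q]
  letI : Algebra (MvPolynomial (Fin n) R) A₀ := (q.comp φ).toAlgebra
  haveI : IsScalarTower (MvPolynomial (Fin n) R) A A₀ := .of_algebraMap_eq' rfl
  have hcomm : g₀.comp gB = q.comp φ := by
    refine MvPolynomial.ringHom_ext (fun r => ?_) fun j => ?_
    · simpa [φ] using RingHom.congr_fun hg₀ r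
    · simp [φ, hxs]
  let g₀' : B →ₐ[MvPolynomial (Fin n) R] A₀ :=
    { g₀ with commutes' := fun r => RingHom.congr_fun hcomm r }
  let σC : A ⊗[MvPolynomial (Fin n) R] B →ₐ[A] A₀ :=
    Algebra.TensorProduct.lift (Algebra.ofId A A₀) g₀' fun _ _ => Commute.all _ _
  haveI : Algebra.Etale A (A ⊗[MvPolynomial (Fin n) R] B) := inferInstance
  haveI : Algebra.Etale A₀ (A₀ ⊗[A] (A ⊗[MvPolynomial (Fin n) R] B)) := inferInstance
  let σ' : A₀ ⊗[A] (A ⊗[MvPolynomial (Fin n) R] B) →ₐ[A₀] A₀ :=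
    Algebra.TensorProduct.lift (Algebra.ofId A₀ A₀) σC fun _ _ => Commute.all _ _
  have hσ' : Function.Surjective σ' := fun a => ⟨algebraMap A₀ _ a, σ'.commutes a⟩
  letI := σ'.toRingHom.toAlgebra
  haveI : IsScalarTower A₀ (A₀ ⊗[A] (A ⊗[MvPolynomial (Fin n) R] B)) A₀ :=
    .of_algebraMap_eq' σ'.comp_algebraMap.symm
  obtain ⟨e, he, hker⟩ :=
    (Ideal.isIdempotentElem_iff_of_fg _ (Algebra.FinitePresentation.ker_fG_of_surjective σ' hσ')).mp
      ((Algebra.FormallyEtale.iff_of_surjective hσ').mp (.of_restrictScalars (R := A₀)))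
  have hincl : Function.Surjective
      (Algebra.TensorProduct.includeRight : A ⊗[MvPolynomial (Fin n) R] B →ₐ[A]
        A₀ ⊗[A] (A ⊗[MvPolynomial (Fin n) R] B)) := by
    intro z
    induction z with
    | zero => exact ⟨0, map_zero _⟩
    | tmul a c =>
      obtain ⟨a', rfl⟩ := hq a
      refine ⟨a' • c, ?_⟩
      rw [Algebra.TensorProduct.includeRight_apply, TensorProduct.tmul_smul,
        TensorProduct.smul_tmul', Algebra.smul_def, mul_one]
      rfl
    | add z w hz hw =>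
      obtain ⟨a, rfl⟩ := hz
      obtain ⟨b, rfl⟩ := hw
      exact ⟨a + b, map_add _ _ _⟩
  obtain ⟨c, hc⟩ := hincl (1 - e)
  have hσc : σC c = 1 := by
    have h1 : σ' (1 ⊗ₜ c) = σC c := by simp [σ']
    have he0 : σ' e = 0 := by
      have : e ∈ RingHom.ker σ'.toRingHom := by
        rw [show RingHom.ker σ'.toRingHom = _ from hker]; exact Submodule.mem_span_singleton_self e
      exact this
    rw [← h1, show (1 : A₀) ⊗ₜ[A] c = 1 - e from hc, map_sub, map_one, he0, sub_zero]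
  let L := Localization.Away c
  have hu : IsUnit (σC c) := by rw [hσc]; exact isUnit_one
  let σ : L →ₐ[A] A₀ := IsLocalization.liftAlgHom (M := Submonoid.powers c) (f := σC) (fun y => by
    obtain ⟨k, hk⟩ := y.2
    rw [← hk, map_pow]
    exact hu.pow k)
  have hσalg : ∀ z, σ (algebraMap _ L z) = σC z := fun z => IsLocalization.lift_eq _ z
  refine ⟨L, inferInstance, algebraMap A L,
    (algebraMap (A ⊗[MvPolynomial (Fin n) R] B) L).comp Algebra.TensorProduct.includeRight.toRingHom,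
    σ.toRingHom, ?_, ?_, ?_, ?_, ?_⟩
  · rw [RingHom.etale_algebraMap]
    exact Algebra.Etale.comp A (A ⊗[MvPolynomial (Fin n) R] B) L
  · exact RingHom.ext σ.commutes
  · ext r
    have h1 : (1 : A) ⊗ₜ[MvPolynomial (Fin n) R] gB (MvPolynomial.C r) =
        algebraMap A (A ⊗[MvPolynomial (Fin n) R] B) (gA r) := by
      have : gA r = φ (MvPolynomial.C r) := by simp [φ]
      rw [Algebra.TensorProduct.algebraMap_apply, this, Algebra.algebraMap_self, RingHom.id_apply]
      exact (Algebra.TensorProduct.tmul_one_eq_one_tmul _).symm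
    show algebraMap (A ⊗[MvPolynomial (Fin n) R] B) L
      ((1 : A) ⊗ₜ[MvPolynomial (Fin n) R] gB (MvPolynomial.C r)) = algebraMap A L (gA r)
    rw [h1, ← IsScalarTower.algebraMap_apply]
  · ext b
    show σ (algebraMap (A ⊗[MvPolynomial (Fin n) R] B) L
      ((1 : A) ⊗ₜ[MvPolynomial (Fin n) R] b)) = g₀ b
    rw [hσalg]
    simp [σC, g₀']
  · letI : Algebra L A₀ := σ.toRingHom.toAlgebra
    haveI : IsScalarTower A L A₀ := .of_algebraMap_eq' σ.comp_algebraMap.symm
    refine (CommRingCat.isPushout_iff_isPushout (R := A) (S := A₀) (R' := L) (S' := A₀)).2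
      (Algebra.IsPushout.symm ⟨?_⟩)
    -- `A₀ ⊗[A] L ≅ A₀`
    show Function.Bijective
      ((IsScalarTower.toAlgHom A L A₀).toLinearMap.liftBaseChange A₀)
    have hΘ : ∀ l : L, (IsScalarTower.toAlgHom A L A₀).toLinearMap.liftBaseChange A₀
        ((1 : A₀) ⊗ₜ[A] l) = σ l := fun l => by simp; rfl
    refine ⟨(injective_iff_map_eq_zero _).2 fun z hz => ?_, fun a => ⟨a ⊗ₜ 1, by simp⟩⟩
    obtain ⟨l, rfl⟩ : ∃ l : L, (1 : A₀) ⊗ₜ[A] l = z := by
      clear hz
      induction z with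
      | zero => exact ⟨0, TensorProduct.tmul_zero _ _⟩
      | tmul a l =>
        obtain ⟨a', rfl⟩ := hq a
        refine ⟨a' • l, ?_⟩
        rw [TensorProduct.tmul_smul, TensorProduct.smul_tmul', Algebra.smul_def, mul_one]
        rfl
      | add z w hz hw =>
        obtain ⟨a, rfl⟩ := hz
        obtain ⟨b, rfl⟩ := hw
        exact ⟨a + b, TensorProduct.tmul_add _ _ _⟩
    rw [hΘ] at hz
    obtain ⟨x, ⟨_, k, rfl⟩, rfl⟩ := IsLocalization.exists_mk'_eq (Submonoid.powers c) l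
    have hx : σC x = 0 := by
      rw [← hσalg, ← IsLocalization.mk'_spec (M := Submonoid.powers c) L x ⟨c ^ k, k, rfl⟩,
        map_mul, hz, zero_mul]
    have hx' : (1 : A₀) ⊗ₜ[A] (x * c) = 0 := by
      have hmem : (1 : A₀) ⊗ₜ[A] x ∈ RingHom.ker σ'.toRingHom := by
        show σ' ((1 : A₀) ⊗ₜ x) = 0
        simp [σ', hx]
      rw [show RingHom.ker σ'.toRingHom = _ from hker, Submodule.mem_span_singleton] at hmem
      obtain ⟨r, hr⟩ := hmem
      have : (1 : A₀) ⊗ₜ[A] (x * c) = ((1 : A₀) ⊗ₜ[A] x) * ((1 : A₀) ⊗ₜ[A] c) := by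
        rw [Algebra.TensorProduct.tmul_mul_tmul, one_mul]
      rw [this, ← hr, show (1 : A₀) ⊗ₜ[A] c = 1 - e from hc, smul_eq_mul, mul_assoc, mul_sub,
        mul_one, he.eq, sub_self, mul_zero]
    let ι : A₀ ⊗[A] (A ⊗[MvPolynomial (Fin n) R] B) →ₐ[A₀] A₀ ⊗[A] L :=
      Algebra.TensorProduct.map (AlgHom.id A₀ A₀) (IsScalarTower.toAlgHom A _ L)
    have h0 : (1 : A₀) ⊗ₜ[A] algebraMap _ L (x * c) = 0 := by
      have := congrArg ι hx'
      simpa [ι] using this
    have hunit : IsUnit ((1 : A₀) ⊗ₜ[A] algebraMap (A ⊗[MvPolynomial (Fin n) R] B) L (c ^ (k + 1))) :=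
      (IsLocalization.map_units L (⟨c ^ (k + 1), k + 1, rfl⟩ : Submonoid.powers c)).map
        (Algebra.TensorProduct.includeRight : L →ₐ[A] A₀ ⊗[A] L)
    refine hunit.mul_left_eq_zero.1 ?_
    rw [Algebra.TensorProduct.tmul_mul_tmul, one_mul, pow_succ, map_mul, ← mul_assoc,
      IsLocalization.mk'_spec (M := Submonoid.powers c) L x ⟨c ^ k, k, rfl⟩, ← map_mul, h0]

/-- Let i : S₀ ⟶ S be a closed immersion, p : X ⟶ S a scheme over S, q : Y ⟶ S a smooth morphism, X₀ = X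
×_S S₀, x₀ a point of X₀ and f₀ : X₀ ⟶ Y a morphism over S. Then there are a scheme U, an étale
morphism e : U ⟶ X whose base change U ×_X X₀ ⟶ X₀ is an open immersion whose image contains x₀, and
a morphism f : U ⟶ Y over S whose restriction to U ×_X X₀ equals the restriction of f₀. -/
theorem result {S S₀ X Y : Scheme.{u}} (i : S₀ ⟶ S) [IsClosedImmersion i]
    (p : X ⟶ S) (q : Y ⟶ S) [Smooth q] (f₀ : Limits.pullback p i ⟶ Y)
    (hf₀ : f₀ ≫ q = Limits.pullback.fst p i ≫ p) (x₀ : ↥(Limits.pullback p i)) :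
    ∃ (U : Scheme.{u}) (e : U ⟶ X) (f : U ⟶ Y), Etale e ∧ f ≫ q = e ≫ p ∧
      IsOpenImmersion (Limits.pullback.snd e (Limits.pullback.fst p i)) ∧
      x₀ ∈ Set.range (Limits.pullback.snd e (Limits.pullback.fst p i)).base ∧
      Limits.pullback.snd e (Limits.pullback.fst p i) ≫ f₀ =
        Limits.pullback.fst e (Limits.pullback.fst p i) ≫ f := by
  obtain ⟨US, hUS, V, hV, hyV, eVU, hstd⟩ := Smooth.exists_isStandardSmooth q (f₀.base x₀)
  let j := pullback.fst p i
  have hx₀US : p (j x₀) ∈ US := by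
    have : p (j x₀) = q (f₀ x₀) := by
      rw [← Scheme.Hom.comp_apply, ← Scheme.Hom.comp_apply, hf₀]
    rw [this]
    exact eVU hyV
  obtain ⟨O, hO, hOV⟩ := j.isClosedEmbedding.isInducing.isOpen_iff.1 (f₀ ⁻¹ᵁ V).isOpen
  let O' : X.Opens := ⟨O, hO⟩
  have hxO : j x₀ ∈ O' := by
    have : x₀ ∈ j ⁻¹' O := by rw [hOV]; exact hyV
    exact this
  obtain ⟨X', hX', hxX', hsub⟩ := exists_isAffineOpen_mem_and_subset (x := j x₀)
    (U := O' ⊓ p ⁻¹ᵁ US) ⟨hxO, hx₀US⟩
  have eX : X' ≤ p ⁻¹ᵁ US := fun z hz => (hsub hz).2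
  have hX₀ : IsAffineOpen (j ⁻¹ᵁ X') := hX'.preimage j
  have e₀ : j ⁻¹ᵁ X' ≤ f₀ ⁻¹ᵁ V := fun z hz => by
    have : z ∈ j ⁻¹' O := (hsub hz).1
    rw [hOV] at this
    exact this
  obtain ⟨n, gB, hC, hgB⟩ := hstd.exists_etale_mvPolynomial
  let gA := (p.appLE US X' eX).hom
  let qA := (j.app X').hom
  let g₀ := (f₀.appLE V (j ⁻¹ᵁ X') e₀).hom
  obtain ⟨C, _, iC, g, σ, hiC, hσi, hg, hσg, hpo⟩ := algebra_lift gA qA
    (j.app_surjective X' hX') n gB hgB g₀ (by
      rw [hC, ← CommRingCat.hom_comp, ← CommRingCat.hom_comp, Scheme.Hom.appLE_comp_appLE,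
        Scheme.Hom.app_eq_appLE, Scheme.Hom.appLE_comp_appLE]
      congr 1
      simp only [j, hf₀])
  refine ⟨Spec (CommRingCat.of C), Spec.map (CommRingCat.ofHom iC) ≫ hX'.fromSpec,
    Spec.map (CommRingCat.ofHom g) ≫ hV.fromSpec, ?_, ?_, ?_⟩
  · haveI : Etale (Spec.map (CommRingCat.ofHom iC)) :=
      (HasRingHomProperty.Spec_iff (P := @Etale)).2 hiC
    infer_instance
  · rw [Category.assoc, Category.assoc, ← IsAffineOpen.SpecMap_appLE_fromSpec q hUS hV eVU,
      ← IsAffineOpen.SpecMap_appLE_fromSpec p hUS hX' eX, ← Spec.map_comp_assoc,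
      ← Spec.map_comp_assoc]
    congr 2
    apply CommRingCat.hom_ext
    rw [CommRingCat.hom_comp, CommRingCat.hom_comp]
    show g.comp (q.appLE US V eVU).hom = iC.comp gA
    rw [← hC, hg]
  have h1 : IsPullback (Spec.map (CommRingCat.ofHom σ))
      (Spec.map (CommRingCat.ofHom (RingHom.id _)))
      (Spec.map (CommRingCat.ofHom iC)) (Spec.map (j.app X')) :=
    isPullback_SpecMap_of_isPushout _ _ _ _ hpo
  have h2 : IsPullback (Spec.map (j.app X')) hX₀.fromSpec hX'.fromSpec j := by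
    refine IsOpenImmersion.isPullback _ _ _ _ ?_ ?_
    · rw [Scheme.Hom.app_eq_appLE, IsAffineOpen.SpecMap_appLE_fromSpec j hX' hX₀ le_rfl]
    · rw [IsAffineOpen.opensRange_fromSpec, IsAffineOpen.opensRange_fromSpec]
  have h3 := h1.paste_vert h2
  rw [CommRingCat.ofHom_id, Spec.map_id, Category.id_comp] at h3
  set e := Spec.map (CommRingCat.ofHom iC) ≫ hX'.fromSpec with he
  have hsnd : pullback.snd e j = h3.isoPullback.inv ≫ hX₀.fromSpec := by
    rw [Iso.eq_inv_comp, IsPullback.isoPullback_hom_snd]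
  have hfst : pullback.fst e j = h3.isoPullback.inv ≫ Spec.map (CommRingCat.ofHom σ) := by
    rw [Iso.eq_inv_comp, IsPullback.isoPullback_hom_fst]
  refine ⟨?_, ?_, ?_⟩
  · rw [hsnd]; infer_instance
  · obtain ⟨z, hz⟩ : x₀ ∈ Set.range hX₀.fromSpec := by
      rw [IsAffineOpen.range_fromSpec]; exact hxX'
    refine ⟨h3.isoPullback.hom z, ?_⟩
    rw [← Scheme.Hom.comp_apply, IsPullback.isoPullback_hom_snd, hz]
  · rw [hsnd, hfst, Category.assoc, Category.assoc]
    congr 1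
    rw [← Spec.map_comp_assoc, ← CommRingCat.ofHom_comp, hσg,
      show CommRingCat.ofHom g₀ = f₀.appLE V (j ⁻¹ᵁ X') e₀ from rfl,
      IsAffineOpen.SpecMap_appLE_fromSpec f₀ hV hX₀ e₀]

end Groth.Agent.S14069
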