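import Groth.Statements.S14070
import Groth.Agent.GUOpen.Scheme

set_option autoImplicit false
open CategoryTheory AlgebraicGeometry
universe u
open FamCyc

namespace Groth.Agent.S14070

/-- Let S be a scheme all of whose local rings are geometrically unibranch and which has only finitely
many irreducible components, and let f : X ⟶ S be a morphism locally of finite type such that every
point x of X lies on an irreducible component W of X (given its reduced subscheme structure) with W
⟶ S equidimensional at x. Then f is universally open. (No Noetherian hypothesis on S: finiteness of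
its set of irreducible components is what is used, and the statement fails without it.) -/
theorem result {X S : Scheme.{u}}
    (hS : ∀ s : S, CAlg2.IsGeomUnibranch (S.presheaf.stalk s))
    (hfin : (irreducibleComponents (S : Type u)).Finite)
    (f : X ⟶ S) [LocallyOfFiniteType f]
    (hT : ∀ x : X, ∃ W : TopologicalSpace.Closeds X, (W : Set X) ∈ irreducibleComponents (X : Type u) ∧
      ∃ w : ↥((Scheme.IdealSheafData.vanishingIdeal W).subscheme),
        (Scheme.IdealSheafData.vanishingIdeal W).subschemeι.base w = x ∧
        EGA43.IsEquidimAt ((Scheme.IdealSheafData.vanishingIdeal W).subschemeι ≫ f) w) :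
    UniversallyOpen f := by
  refine (Groth.Agent.UnivOpen.universallyOpen_iff_forall f).2 fun x => ?_
  obtain ⟨W, hW, w, hwx, hw⟩ := hT x
  let j := (Scheme.IdealSheafData.vanishingIdeal W).subschemeι
  have hrange : Set.range j = (W : Set X) := Groth.Agent.DimFormula.range_vanishingIdeal W
  haveI : IsReduced (Scheme.IdealSheafData.vanishingIdeal W).subscheme :=
    Groth.Agent.H23.RedSub.isReduced_vanishingIdeal W
  haveI : IrreducibleSpace ↥(Scheme.IdealSheafData.vanishingIdeal W).subscheme := by
    haveI : IrreducibleSpace ↥(Set.range j) := by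
      rw [hrange]; exact Subtype.irreducibleSpace hW.1
    exact j.isClosedEmbedding.isEmbedding.toHomeomorph.symm.surjective.irreducibleSpace
      j.isClosedEmbedding.isEmbedding.toHomeomorph.symm.continuous
  haveI : IsIntegral (Scheme.IdealSheafData.vanishingIdeal W).subscheme :=
    isIntegral_of_irreducibleSpace_of_isReduced _
  let s := f x
  let bad : Set (Set S) := {C | C ∈ irreducibleComponents (S : Type u) ∧ s ∉ C}
  let Y₀ : S.Opens := ⟨(⋃ C ∈ bad, C)ᶜ, (Set.Finite.isClosed_biUnion (hfin.subset fun C hC => hC.1)
    fun C hC => isClosed_of_mem_irreducibleComponents C hC.1).isOpen_compl⟩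
  have hs : s ∈ Y₀ := by
    show s ∈ (⋃ C ∈ bad, C)ᶜ
    simp only [Set.mem_compl_iff, Set.mem_iUnion, not_exists]
    exact fun C hC h => hC.2 h
  have hC₀ := irreducibleComponent_mem_irreducibleComponents (X := (S : Type u)) s
  have huniq : ∀ C ∈ irreducibleComponents (S : Type u), s ∈ C → C = irreducibleComponent s := by
    intro C hC hsC
    obtain ⟨a, ha⟩ := QuasiSober.sober hC.1 (isClosed_of_mem_irreducibleComponents C hC)
    obtain ⟨b, hb⟩ := QuasiSober.sober hC₀.1 (isClosed_of_mem_irreducibleComponents _ hC₀)
    have hab : a = b := Groth.Agent.UnivOpen.maximal_unique (hS s).1 (ha.specializes hsC)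
      (fun c hc => Groth.Agent.FDescent.maximal_of_closure_mem_irreducibleComponents (ha.def ▸ hC) hc)
      (hb.specializes mem_irreducibleComponent)
      (fun c hc => Groth.Agent.FDescent.maximal_of_closure_mem_irreducibleComponents (hb.def ▸ hC₀) hc)
    rw [← ha.def, ← hb.def, hab]
  have hsub : (Y₀ : Set S) ⊆ irreducibleComponent s := by
    intro y hy
    by_contra hne
    refine hy (Set.mem_biUnion (x := irreducibleComponent y) ⟨irreducibleComponent_mem_irreducibleComponents y,
      fun h => hne ?_⟩ mem_irreducibleComponent)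
    exact huniq _ (irreducibleComponent_mem_irreducibleComponents y) h ▸ mem_irreducibleComponent
  have hirr : IsIrreducible (Y₀ : Set S) := by
    refine ⟨⟨s, hs⟩, ?_⟩
    exact fun U V hU hV ⟨a, ha, haU⟩ ⟨b, hb, hbV⟩ => by
      obtain ⟨c, hc⟩ := (isIrreducible_irreducibleComponent (x := s)).2 ((Y₀ : Set S) ∩ U) ((Y₀ : Set S) ∩ V)
        (Y₀.isOpen.inter hU) (Y₀.isOpen.inter hV) ⟨a, hsub ha, ha, haU⟩ ⟨b, hsub hb, hb, hbV⟩
      exact ⟨c, hc.2.1.1, hc.2.1.2, hc.2.2.2⟩
  have h := Groth.Agent.GUOpen.isUnivOpenAt_of_isEquidimAt hS (j ≫ f) w hw Y₀ hirr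
    (by show f (j w) ∈ Y₀; rw [show j w = x from hwx]; exact hs)
  exact hwx ▸ Groth.Agent.QHomeo.univOpenAt_of_comp h

end Groth.Agent.S14070
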