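import Groth.Statements.S14074
import Groth.Agent.TorSmoothRel.Basic

set_option autoImplicit false
open CategoryTheory AlgebraicGeometry
universe u
attribute [local instance] HasDerivedCategory.standard
open FamCyc

namespace Groth.Agent.S14074

set_option backward.isDefEq.respectTransparency false
set_option backward.isDefEq.respectTransparency.types false

/-- Let h : B ⟶ S be a smooth morphism, φ : X ⟶ B a morphism locally of finite type and F a
quasi-coherent O_X-module of pointwise finite tor dimension over S, i.e. at every point x of X the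
stalk F_x is, over the local ring of S below x, isomorphic in the derived category to a bounded
complex of flat modules. Then F has finite tor dimension over B pointwise in the same sense. -/
theorem result {X B S : Scheme.{u}} (h : B ⟶ S) [Smooth h]
    (φ : X ⟶ B) [LocallyOfFiniteType φ] (F : X.Modules) (hF : Coh.IsQCoh F)
    (hS : ∀ x : X, ∃ a b : ℤ,
      DerSch.HasTorAmplitudeAt (φ ≫ h) a b ((HomologicalComplex.single X.Modules (ComplexShape.up ℤ) 0).obj F) x) :
    ∀ x : X, ∃ a b : ℤ,
      DerSch.HasTorAmplitudeAt φ a b ((HomologicalComplex.single X.Modules (ComplexShape.up ℤ) 0).obj F) x := by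
  intro x
  obtain ⟨a, b, hx⟩ := hS x
  obtain ⟨U, hU, V, hV, hz, e, hn⟩ := Smooth.exists_isStandardSmooth h (φ x)
  letI := (h.appLE U V e).hom.toAlgebra
  obtain ⟨ι, σ, _, _, ⟨P⟩⟩ := hn
  have hP : Algebra.IsStandardSmoothOfRelativeDimension P.dimension Γ(S, U) Γ(B, V) := ⟨_, _, _, ‹_›, P, rfl⟩
  exact ⟨a - P.dimension, b, Groth.Agent.TorSmoothRel.torAmplitudeAt_of_chart φ h hU hV e hP _ hz hx⟩

end Groth.Agent.S14074
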