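import Groth.Statements.S14078
import Groth.Agent.S1353

set_option autoImplicit false
open CategoryTheory CategoryTheory.Limits AlgebraicGeometry
universe u
open FamCyc

namespace Groth.Agent.S14078

set_option backward.isDefEq.respectTransparency false
set_option backward.isDefEq.respectTransparency.types false

/-- Let f : X ⟶ S be a morphism of schemes locally of finite type, i : Z ⟶ X an immersion such that Z ⟶
S is locally quasi-finite, and z a point of Z. Then there are an étale morphism g : T ⟶ S and an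
open subscheme U of X ×_S T such that the preimage U ×_X Z of Z in U is finite over T and contains a
point u over z whose residue field extension κ(z) → κ(u) is an isomorphism, u being moreover the
only point of U ×_X Z in its fibre over T. (The published statement covers algebraic spaces X, with
U ⟶ X ×_S T étale in general and an open subspace when X is a scheme; this row is the scheme case.) -/
theorem result {Z X S : Scheme.{u}} (f : X ⟶ S)
    [LocallyOfFiniteType f] (i : Z ⟶ X) [IsImmersion i] [LocallyQuasiFinite (i ≫ f)] (z : Z) :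
    ∃ (T : Scheme.{u}) (g : T ⟶ S) (U : (pullback f g).Opens)
      (u : ↥(pullback (U.ι ≫ pullback.fst f g) i)),
      Etale g ∧
      IsFinite (pullback.fst (U.ι ≫ pullback.fst f g) i ≫ U.ι ≫ pullback.snd f g) ∧
      (pullback.snd (U.ι ≫ pullback.fst f g) i).base u = z ∧
      IsIso ((pullback.snd (U.ι ≫ pullback.fst f g) i).residueFieldMap u) ∧
      ∀ u' : ↥(pullback (U.ι ≫ pullback.fst f g) i),
        (pullback.fst (U.ι ≫ pullback.fst f g) i ≫ U.ι ≫ pullback.snd f g).base u' =
          (pullback.fst (U.ι ≫ pullback.fst f g) i ≫ U.ι ≫ pullback.snd f g).base u → u' = u := by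
  obtain ⟨T, g, t, hg, V, v, hvV, hfin, hvt, huniq, hvz, hres⟩ :=
    S1353.result (i ≫ f) z ((i ≫ f).quasiFiniteAt z)
  let m : pullback (i ≫ f) g ⟶ pullback f g :=
    pullback.lift (pullback.fst _ _ ≫ i) (pullback.snd _ _) (by rw [Category.assoc, pullback.condition])
  have hm₁ : m ≫ pullback.fst f g = pullback.fst (i ≫ f) g ≫ i := pullback.lift_fst _ _ _
  have hm₂ : m ≫ pullback.snd f g = pullback.snd (i ≫ f) g := pullback.lift_snd _ _ _
  have sq : IsPullback m (pullback.fst (i ≫ f) g) (pullback.fst f g) i :=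
    (IsPullback.of_bot (by rw [hm₂]; exact IsPullback.of_hasPullback (i ≫ f) g) hm₁.symm
      (IsPullback.of_hasPullback f g)).flip
  haveI : IsImmersion m := MorphismProperty.of_isPullback sq.flip ‹_›
  obtain ⟨O, hO, hOV⟩ := m.isEmbedding.isInducing.isOpen_iff.1 V.2
  let U : (pullback f g).Opens := ⟨O, hO⟩
  have hUV : m ⁻¹ᵁ U = V := TopologicalSpace.Opens.ext hOV
  subst hUV
  have hP : IsPullback (m ∣_ U) ((m ⁻¹ᵁ U).ι ≫ pullback.fst (i ≫ f) g) (U.ι ≫ pullback.fst f g) i :=
    (isPullback_morphismRestrict m U).paste_vert sq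
  let e := hP.isoPullback
  let u : ↥(pullback (U.ι ≫ pullback.fst f g) i) := e.hom ⟨v, hvV⟩
  have he₂ : e.hom ≫ pullback.snd (U.ι ≫ pullback.fst f g) i = (m ⁻¹ᵁ U).ι ≫ pullback.fst (i ≫ f) g :=
    hP.isoPullback_hom_snd
  have he₁ : e.hom ≫ pullback.fst (U.ι ≫ pullback.fst f g) i ≫ U.ι ≫ pullback.snd f g =
      (m ⁻¹ᵁ U).ι ≫ pullback.snd (i ≫ f) g := by
    rw [← Category.assoc, hP.isoPullback_hom_fst, ← Category.assoc, morphismRestrict_ι, Category.assoc, hm₂]
  refine ⟨T, g, U, u, hg.1, ?_, ?_, ?_, fun u' hu' => ?_⟩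
  · haveI : IsFinite (e.hom ≫ pullback.fst (U.ι ≫ pullback.fst f g) i ≫ U.ι ≫ pullback.snd f g) := by
      rw [he₁]; exact hfin
    exact (MorphismProperty.cancel_left_of_respectsIso @IsFinite e.hom _).1 ‹_›
  · show (e.hom ≫ pullback.snd (U.ι ≫ pullback.fst f g) i) ⟨v, hvV⟩ = z
    rw [he₂]
    exact hvz
  · haveI : IsIso ((pullback.fst (i ≫ f) g).residueFieldMap v) := (ConcreteCategory.isIso_iff_bijective _).2 hres
    haveI : IsIso ((pullback.fst (i ≫ f) g).residueFieldMap ((m ⁻¹ᵁ U).ι ⟨v, hvV⟩)) := ‹_›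
    have h1 : IsIso (((m ⁻¹ᵁ U).ι ≫ pullback.fst (i ≫ f) g).residueFieldMap ⟨v, hvV⟩) := by
      rw [Scheme.residueFieldMap_comp]; infer_instance
    rw [← he₂, Scheme.residueFieldMap_comp] at h1
    exact IsIso.of_isIso_comp_right _ (e.hom.residueFieldMap ⟨v, hvV⟩)
  · obtain ⟨w, rfl⟩ := e.hom.surjective u'
    have h2 : ∀ w', (pullback.fst (U.ι ≫ pullback.fst f g) i ≫ U.ι ≫ pullback.snd f g) (e.hom w') =
        pullback.snd (i ≫ f) g w'.1 := fun w' => by
      rw [← Scheme.Hom.comp_apply, he₁]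
      rfl
    have h3 := (h2 w).symm.trans (hu'.trans (h2 ⟨v, hvV⟩))
    rw [hvt] at h3
    exact congrArg e.hom (Subtype.ext (huniq w.1 w.2 h3))

end Groth.Agent.S14078
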