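import Groth.Statements.S14079
import Groth.Agent.EquidimComp.Basic
-- import your own Groth.Agent.* helpers here

set_option autoImplicit false
open CategoryTheory AlgebraicGeometry
universe u
open FamCyc

namespace Groth.Agent.S14079

/-- (iv) ⇒ (iii): let f : X ⟶ S be locally of finite type. Suppose that every point x of X which is a
maximal point of its fibre (no other point of the fibre over f x specializes to x) lies on an
irreducible component W of X, given its reduced subscheme structure, with W ⟶ S equidimensional at
x. Then every point of X lies on such an irreducible component. -/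
theorem result {X S : Scheme.{u}} (f : X ⟶ S) [LocallyOfFiniteType f]
    (h : ∀ x : X, (∀ x' : X, f.base x' = f.base x → x ∈ closure ({x'} : Set X) → x' = x) →
      ∃ W : TopologicalSpace.Closeds X, (W : Set X) ∈ irreducibleComponents (X : Type u) ∧
      ∃ w : ↥((Scheme.IdealSheafData.vanishingIdeal W).subscheme),
        (Scheme.IdealSheafData.vanishingIdeal W).subschemeι.base w = x ∧
        EGA43.IsEquidimAt ((Scheme.IdealSheafData.vanishingIdeal W).subschemeι ≫ f) w)
    (x : X) :
    ∃ W : TopologicalSpace.Closeds X, (W : Set X) ∈ irreducibleComponents (X : Type u) ∧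
      ∃ w : ↥((Scheme.IdealSheafData.vanishingIdeal W).subscheme),
        (Scheme.IdealSheafData.vanishingIdeal W).subschemeι.base w = x ∧
        EGA43.IsEquidimAt ((Scheme.IdealSheafData.vanishingIdeal W).subschemeι ≫ f) w := by
  obtain ⟨z, hz, hfz, hm, hd⟩ := Groth.Agent.FibDim.exists_fibMax_generization f x
  obtain ⟨W, hW, w, hw, he⟩ := h z fun x' hfx' hx' =>
    hm x' (specializes_iff_mem_closure.2 hx') hfx'
  obtain ⟨e, U, hwU, h1, h2⟩ := (Groth.Agent.FibDim.isEquidimAt_iff _ w).1 he
  generalize hj : (Scheme.IdealSheafData.vanishingIdeal W).subschemeι = j at hw he h1 h2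
  haveI : IsClosedImmersion j := hj ▸ inferInstance
  have hrange : Set.range j = (W : Set X) := by
    rw [← hj, Scheme.IdealSheafData.range_subschemeι,
      Scheme.IdealSheafData.coe_support_vanishingIdeal]
  obtain ⟨a, hWa, ha⟩ := Groth.Agent.FDescent.exists_maximal_of_mem_irreducibleComponents hW
  obtain ⟨a', ha'⟩ : a ∈ Set.range j := by rw [hrange, hWa]; exact subset_closure rfl
  have hgen : ∀ b, a' ⤳ b := fun b => by
    rw [← j.isClosedEmbedding.isInducing.specializes_iff, ha', specializes_iff_mem_closure, ← hWa,
      ← hrange]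
    exact ⟨b, rfl⟩
  have hamax : ∀ t, t ⤳ a' → t = a' := fun t ht =>
    j.isClosedEmbedding.injective ((ha _ (ha' ▸ ht.map j.continuous)).trans ha'.symm)
  have haU : a' ∈ U := (hgen w).mem_open U.isOpen hwU
  have hwm : Groth.Agent.FibDim.FibMax (j ≫ f) w := fun t ht hft =>
    j.isClosedEmbedding.injective (by
      rw [hw]
      refine hm _ (hw ▸ ht.map j.continuous) ?_
      rw [Scheme.Hom.comp_apply, Scheme.Hom.comp_apply, hw] at hft
      exact hft)
  refine Groth.Agent.EquidimComp.component_of_top f hz (le_of_eq hd) ?_ ha ?_ ?_ (η := a)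
  · have := (hgen w).map j.continuous
    rwa [ha', hw] at this
  · intro y hy
    have := (h1 a' haU hamax).1 y (by rw [Scheme.Hom.comp_apply, ha']; exact hy)
    rwa [Scheme.Hom.comp_apply, ha'] at this
  · have e1 := h2 a' haU (Groth.Agent.FibDim.fibMax_of_maximal _ hamax)
    have e2 := h2 w hwU hwm
    rw [Groth.Agent.DimFormula.rd_closedSub, ha'] at e1
    rw [Groth.Agent.DimFormula.rd_closedSub, hw] at e2
    rw [e1, e2]

end Groth.Agent.S14079
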