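import Groth.Statements.S14087
import Mathlib

set_option autoImplicit false
universe u
open ArSing

namespace Groth.Agent.S14087

open Polynomial in
/-- Over an algebraically closed field k, if B = k[t]/(t^n) with n ≥ 1 is flat over a k-subalgebra A ⊆ B
(a finite flat extension of pointed finite algebras with curvilinear top), then A is curvilinear
too: A is isomorphic as a k-algebra to k[t]/(t^m) for some m. -/
theorem result (k : Type u) [Field k] [IsAlgClosed k]
    (n : ℕ) (hn : 0 < n)
    (A : Subalgebra k (Polynomial k ⧸ Ideal.span {(X : Polynomial k) ^ n}))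
    [Module.Flat A (Polynomial k ⧸ Ideal.span {(X : Polynomial k) ^ n})] :
    ∃ m : ℕ, Nonempty (A ≃ₐ[k] (Polynomial k ⧸ Ideal.span {(X : Polynomial k) ^ m})) := by
  classical
  let J : Ideal (Polynomial k) := Ideal.span {Polynomial.X ^ n}
  let B := Polynomial k ⧸ J
  let ε : B →ₐ[k] k := Ideal.Quotient.liftₐ J (Polynomial.aeval (0 : k)) fun p hp => by
    obtain ⟨q, rfl⟩ := Ideal.mem_span_singleton.1 hp
    rw [map_mul, map_pow, Polynomial.aeval_X, zero_pow hn.ne', zero_mul]
  have hεm : ∀ p, ε (Ideal.Quotient.mk J p) = p.eval 0 := fun p => (Polynomial.coe_aeval_eq_eval (0 : k)) ▸ rfl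
  -- ideals of B form a chain
  have hchain : ∀ I I' : Ideal B, I ≤ I' ∨ I' ≤ I := by
    have hrep : ∀ I : Ideal B, ∃ j, I.comap (Ideal.Quotient.mk J) = Ideal.span {(Polynomial.X : Polynomial k) ^ j} := by
      intro I
      obtain ⟨g, hg⟩ := IsPrincipalIdealRing.principal (I.comap (Ideal.Quotient.mk J))
      have hmem : (Polynomial.X : Polynomial k) ^ n ∈ I.comap (Ideal.Quotient.mk J) := by
        show Ideal.Quotient.mk J _ ∈ I
        rw [Ideal.Quotient.eq_zero_iff_mem.2 (Ideal.mem_span_singleton_self _)]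
        exact I.zero_mem
      rw [hg, Ideal.submodule_span_eq, Ideal.mem_span_singleton] at hmem
      obtain ⟨j, -, hj⟩ := (dvd_prime_pow Polynomial.prime_X n).1 hmem
      exact ⟨j, by rw [hg]; exact Ideal.span_singleton_eq_span_singleton.2 hj⟩
    intro I I'
    obtain ⟨j, hj⟩ := hrep I
    obtain ⟨j', hj'⟩ := hrep I'
    rcases le_total j j' with h | h
    · refine Or.inr ((Ideal.comap_le_comap_iff_of_surjective _ Ideal.Quotient.mk_surjective _ _).1 ?_)
      rw [hj, hj', Ideal.span_singleton_le_span_singleton]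
      exact pow_dvd_pow _ h
    · refine Or.inl ((Ideal.comap_le_comap_iff_of_surjective _ Ideal.Quotient.mk_surjective _ _).1 ?_)
      rw [hj, hj', Ideal.span_singleton_le_span_singleton]
      exact pow_dvd_pow _ h
  haveI : Module.Finite k B := (Polynomial.monic_X_pow n).finite_quotient
  -- elements of A
  have hunitB : ∀ b : B, ε b ≠ 0 → IsUnit b := by
    intro b hb
    obtain ⟨p, rfl⟩ := Ideal.Quotient.mk_surjective b
    rw [hεm] at hb
    have hc : IsCoprime (Polynomial.X ^ n) p := by
      refine IsCoprime.pow_left (Polynomial.prime_X.coprime_iff_not_dvd.2 fun hd => hb ?_)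
      obtain ⟨q, rfl⟩ := hd
      simp
    obtain ⟨u, v, huv⟩ := hc
    refine IsUnit.of_mul_eq_one (Ideal.Quotient.mk J v) ?_
    rw [← map_mul, ← map_one (Ideal.Quotient.mk J), Ideal.Quotient.eq]
    exact Ideal.mem_span_singleton.2 ⟨-u, by linear_combination huv⟩
  have hunit : ∀ x : A, ε (x : B) ≠ 0 → IsUnit x := by
    intro x hx
    have hinj : Function.Injective (LinearMap.mulLeft k x) := fun y z h =>
      Subtype.ext ((hunitB _ hx).mul_left_cancel (congrArg Subtype.val h))
    obtain ⟨y, hy⟩ := LinearMap.injective_iff_surjective.1 hinj 1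
    exact IsUnit.of_mul_eq_one y hy
  let mA : Ideal A := RingHom.ker ((ε.comp A.val : A →ₐ[k] k) : A →+* k)
  haveI : Module.FaithfullyFlat A B := by
    refine ⟨fun m hm htop => ?_⟩
    have hle : m ≤ mA := fun x hx => by
      by_contra h0
      exact hm.ne_top (Ideal.eq_top_of_isUnit_mem _ hx (hunit x h0))
    have h1 : (1 : B) ∈ RingHom.ker (ε : B →+* k) := by
      have h : (1 : B) ∈ m • (⊤ : Submodule A B) := htop.symm ▸ Submodule.mem_top
      refine Submodule.smul_induction_on h (fun r hr b _ => ?_) (fun a b ha hb => Ideal.add_mem _ ha hb)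
      show ε ((r : B) * b) = 0
      rw [map_mul, show ε (r : B) = 0 from hle hr, zero_mul]
    rw [RingHom.mem_ker, map_one] at h1
    exact one_ne_zero h1
  -- a generator
  obtain ⟨s, hs⟩ := (inferInstance : Module.Finite k A).fg_top
  let g0 : A → A := fun x => x - algebraMap k A (ε (x : B))
  have hg0 : ∀ x, g0 x ∈ mA := fun x => by
    show ε ((x : B) - algebraMap k B (ε (x : B))) = 0
    rw [map_sub, AlgHom.commutes, Algebra.algebraMap_self, RingHom.id_apply, sub_self]
  obtain ⟨a, ha, hamax⟩ : ∃ a : A, a ∈ mA ∧ ∀ x ∈ s, ((g0 x : A) : B) ∈ Ideal.span {(a : B)} := by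
    clear hs
    induction s using Finset.induction with
    | empty => exact ⟨0, mA.zero_mem, by simp⟩
    | insert g s hg ih =>
      obtain ⟨a, ha, hamax⟩ := ih
      rcases hchain (Ideal.span {((g0 g : A) : B)}) (Ideal.span {(a : B)}) with h | h
      · refine ⟨a, ha, fun x hx => (Finset.mem_insert.1 hx).elim (fun e => ?_) (hamax x)⟩
        exact e ▸ h (Ideal.mem_span_singleton_self _)
      · refine ⟨g0 g, hg0 g, fun x hx => (Finset.mem_insert.1 hx).elim (fun e => ?_) fun hx => h (hamax x hx)⟩
        exact e ▸ Ideal.mem_span_singleton_self _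
  have hmem : ∀ x : A, ∃ y : A, g0 x = a * y := by
    intro x
    have h1 : ((g0 x : A) : B) ∈ Ideal.span {(a : B)} := by
      have hx : x ∈ Submodule.span k (s : Set A) := hs ▸ Submodule.mem_top
      induction hx using Submodule.span_induction with
      | mem x hx => exact hamax x hx
      | zero => simp [g0]
      | add x y _ _ hx hy =>
        have : g0 (x + y) = g0 x + g0 y := Subtype.ext (by simp [g0]; ring)
        rw [this]; exact Ideal.add_mem _ hx hy
      | smul c x _ hx =>
        have : g0 (c • x) = algebraMap k A c * g0 x := Subtype.ext (by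
          simp [g0, Algebra.smul_def, mul_sub]
          exact congrArg (· * _) (congrArg _ (ε.commutes c)))
        rw [this]; exact Ideal.mul_mem_left _ _ hx
    have h2 : g0 x ∈ ((Ideal.span {a}).map (algebraMap A B)).comap (algebraMap A B) := by
      rw [Ideal.mem_comap, Ideal.map_span, Set.image_singleton]
      exact h1
    rw [Ideal.comap_map_eq_self_of_faithfullyFlat, Ideal.mem_span_singleton'] at h2
    obtain ⟨y, hy⟩ := h2
    exact ⟨y, by rw [← hy, mul_comm]⟩
  -- nilpotency
  have hanil : a ^ n = 0 := by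
    obtain ⟨p, hp⟩ := Ideal.Quotient.mk_surjective (a : B)
    have hp0 : p.eval 0 = 0 := by rw [← hεm, hp]; exact ha
    obtain ⟨q, rfl⟩ := Polynomial.X_dvd_iff.2 (by rw [Polynomial.coeff_zero_eq_eval_zero, hp0] : p.coeff 0 = 0)
    refine Subtype.ext ?_
    show (a : B) ^ n = 0
    rw [← hp, ← map_pow, Ideal.Quotient.eq_zero_iff_mem, mul_pow]
    exact Ideal.mem_span_singleton.2 (dvd_mul_right _ _)
  let φ : Polynomial k →ₐ[k] A := Polynomial.aeval a
  have hsurj : Function.Surjective φ := by
    have key : ∀ j (x : A), ∃ (p : Polynomial k) (y : A), x = φ p + a ^ j * y := by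
      intro j
      induction j with
      | zero => exact fun x => ⟨0, x, by simp⟩
      | succ j ih =>
        intro x
        obtain ⟨p, y, rfl⟩ := ih x
        obtain ⟨z, hz⟩ := hmem y
        refine ⟨p + Polynomial.C (ε (y : B)) * Polynomial.X ^ j, z, ?_⟩
        simp only [φ, map_add, map_mul, map_pow, Polynomial.aeval_C, Polynomial.aeval_X]
        have hy : y = algebraMap k A (ε (y : B)) + a * z := by rw [← hz]; show y = _ + (y - _); ring
        conv_lhs => rw [hy]
        ring
    intro x
    obtain ⟨p, y, rfl⟩ := key n x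
    exact ⟨p, by rw [hanil, zero_mul, add_zero]⟩
  obtain ⟨g, hg⟩ := IsPrincipalIdealRing.principal (RingHom.ker φ.toRingHom)
  have hXn : (Polynomial.X : Polynomial k) ^ n ∈ RingHom.ker φ.toRingHom := by
    show φ _ = 0
    rw [map_pow, Polynomial.aeval_X, hanil]
  rw [hg, Ideal.submodule_span_eq, Ideal.mem_span_singleton] at hXn
  obtain ⟨m, -, hm⟩ := (dvd_prime_pow Polynomial.prime_X n).1 hXn
  have hker : RingHom.ker φ = Ideal.span {(Polynomial.X : Polynomial k) ^ m} :=
    hg.trans (Ideal.span_singleton_eq_span_singleton.2 hm)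
  exact ⟨m, ⟨(Ideal.quotientKerAlgEquivOfSurjective hsurj).symm.trans (Ideal.quotientEquivAlgOfEq k hker)⟩⟩

end Groth.Agent.S14087
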