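import Groth.Statements.S14089
import Groth.Agent.CartierFP.Scheme
import Groth.Agent.FlatX.RelCartier
import Groth.Agent.BlowUpX.Basic
-- import your own Groth.Agent.* helpers here

set_option autoImplicit false
universe u
open CategoryTheory AlgebraicGeometry
open BlowUp

namespace Groth.Agent.S14089

open Groth.Agent

/-- Let f : X → S be flat, proper and of finite presentation, 𝓘 a quasi-coherent ideal of finite type on
X with V(𝓘^m) flat over S for all m ≥ 1, and b : X' → X a blowing up of X in 𝓘. Then X' is flat and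
proper over S, and blowing up commutes with every base change T → S: if X_T = X ×_S T and X'_T = X'
×_X X_T, the projection X'_T → X_T is a blowing up of X_T in the inverse image of 𝓘. (The published
statement puts no finiteness condition on the ideal; for S = X the spectrum of an infinite product
of fields and 𝓘 the ideal of finitely supported sequences every V(𝓘^m) is flat, yet the blow-up is a
non-quasi-compact open subscheme, not proper — so the ideal is taken of finite type here, and finite
presentation of X' over S is not asserted.) -/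
theorem result {X X' S T XT XT' : Scheme.{u}}
    (f : X ⟶ S) [Flat f] [IsProper f] [LocallyOfFinitePresentation f]
    (𝓘 : X.IdealSheafData) (hft : BlowUp.IsFiniteTypeIdeal 𝓘)
    (hfl : ∀ m : ℕ, 1 ≤ m → Flat ((𝓘 ^ m).subschemeι ≫ f))
    (b : X' ⟶ X) (hb : BlowUp.IsBlowUp b 𝓘)
    (g : T ⟶ S) (pX : XT ⟶ X) (fT : XT ⟶ T) (hX : IsPullback pX fT f g)
    (pX' : XT' ⟶ X') (bT : XT' ⟶ XT) (hX' : IsPullback pX' bT b pX) :
    Flat (b ≫ f) ∧ IsProper (b ≫ f) ∧ BlowUp.IsBlowUp bT (𝓘.comap pX) := by
  have hpow : ∀ n : ℕ, Flat ((𝓘 ^ (n + 1)).subschemeι ≫ f) := fun n => hfl (n + 1) (Nat.succ_pos n)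
  have hE : Flat ((BlowUp.exceptional b 𝓘).subschemeι ≫ b ≫ f) :=
    CartierFP.flat_exceptional f 𝓘 b hb (CartierFP.flat_powers_of_thickenings f 𝓘 hpow)
  have hflat : Flat (b ≫ f) := by
    refine FlatX.flat_of_flat_away (b ≫ f) hb.1 hE fun x hx => ?_
    haveI := BlowUpX.isIso_restrict hb
    let U := 𝓘.support.compl
    have hxU : x ∈ b ⁻¹ᵁ U := by
      rw [Scheme.IdealSheafData.support_comap] at hx
      exact hx
    haveI : Flat ((b ⁻¹ᵁ U).ι ≫ b ≫ f) := by
      rw [← Category.assoc, ← morphismRestrict_ι, Category.assoc]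
      infer_instance
    have h := (AlgebraicGeometry.Flat.iff_flat_stalkMap ((b ⁻¹ᵁ U).ι ≫ b ≫ f)).mp ‹_› ⟨x, hxU⟩
    exact (StalkLoc7.stalkMap_flat_openImmersion_comp (b ≫ f) (b ⁻¹ᵁ U) ⟨x, hxU⟩).mpr h
  haveI := BlowUpLib.isProper_of_isBlowUp 𝓘 hb hft
  refine ⟨hflat, inferInstance, ?_⟩
  have hB := CartierFP.isBlowUp_baseChange f 𝓘 b hb hE T g
  have hbig : IsPullback pX' (bT ≫ fT) (b ≫ f) g := hX'.paste_vert hX
  let e := hbig.isoPullback
  let d := hX.isoPullback
  have hw : bT = e.hom ≫ CInt.baseChangeOver b f g ≫ d.inv := by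
    apply hX.hom_ext
    · simp only [Category.assoc, d, IsPullback.isoPullback_inv_fst, CInt.baseChangeOver,
        Limits.pullback.map, Limits.pullback.lift_fst, e, IsPullback.isoPullback_hom_fst_assoc]
      exact hX'.w.symm
    · simp only [Category.assoc, d, IsPullback.isoPullback_inv_snd, CInt.baseChangeOver,
        Limits.pullback.map, Limits.pullback.lift_snd, e, Category.comp_id, IsPullback.isoPullback_hom_snd]
  rw [hw]
  refine BlowUpLib.isBlowUp_iso_comp e.hom (BlowUpLib.isBlowUp_comp_iso d.inv ?_)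
  rwa [← Scheme.IdealSheafData.comap_comp, IsPullback.isoPullback_inv_fst]

end Groth.Agent.S14089
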