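import Groth.Statements.S14109
import Groth.Agent.Triage.CMMor
import Groth.Agent.FlatLoc6.DimEq

set_option autoImplicit false
set_option backward.isDefEq.respectTransparency false
set_option backward.isDefEq.respectTransparency.types false
universe u
open CategoryTheory CategoryTheory.Limits AlgebraicGeometry Opposite TopologicalSpace
open CInt

namespace Groth.Agent.S14109

theorem exists_coheight_zero (X : Scheme.{u}) [Nonempty X] :
    ∃ z : X, ringKrullDim (X.presheaf.stalk z) = 0 := by
  obtain ⟨x⟩ := ‹Nonempty X›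
  obtain ⟨z, hz⟩ := QuasiSober.sober (isIrreducible_irreducibleComponent (x := x)) isClosed_irreducibleComponent
  refine ⟨z, ?_⟩
  rw [AlgebraicGeometry.ringKrullDim_stalk_eq_coheight, Order.coheight_eq_zero.2 ?_]
  · rfl
  · intro w (hw : w ⤳ z)
    have hsub : closure ({z} : Set X) ⊆ closure {w} := hw.closure_subset
    have h2 : irreducibleComponent x = closure {w} := eq_irreducibleComponent
      (isIrreducible_singleton.closure).2 (hz.symm ▸ hsub : irreducibleComponent x ⊆ closure {w}) |>.symm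
    exact (show z ⤳ w from specializes_iff_mem_closure.2 (by
      rw [show closure ({z} : Set X) = closure {w} from (hz.trans h2)]; exact subset_closure rfl))

open IsLocalRing in
theorem fibre_dim_le {X X' S : Scheme.{u}} [IsLocallyNoetherian X] [IsLocallyNoetherian X']
    (f : X ⟶ S) (g : X' ⟶ X) (x' : X') (z : g.fiber (g x')) (hz : g.fiberι (g x') z = x')
    (h0 : ringKrullDim ((g.fiber (g x')).presheaf.stalk z) = 0) :
    ringKrullDim ↑(CInt.fiberStalk (g ≫ f) x') ≤ ringKrullDim ↑(CInt.fiberStalk f (g x')) := by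
  obtain ⟨eA⟩ := Groth.Agent.Triage.CMMor.exists_equiv_fibre_stalk f (g x')
  obtain ⟨eB⟩ := Groth.Agent.Triage.CMMor.exists_equiv_fibre_stalk (g ≫ f) x'
  obtain ⟨eC⟩ := Groth.Agent.Triage.CMMor.exists_equiv_fibre_stalk_aux g x' (g x') rfl z hz
  rw [Groth.Agent.FibFlat.sm_self] at eC
  refine (ringKrullDim_eq_of_ringEquiv eB.symm).trans_le ?_
  refine le_of_le_of_eq ?_ (ringKrullDim_eq_of_ringEquiv eA)
  let R := X.presheaf.stalk (g x')
  let R' := X'.presheaf.stalk x'
  let I : Ideal R := (maximalIdeal (S.presheaf.stalk (f (g x')))).map (f.stalkMap (g x')).hom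
  let J : Ideal R' := (maximalIdeal (S.presheaf.stalk ((g ≫ f) x'))).map ((g ≫ f).stalkMap x').hom
  have hIJ : I.map (g.stalkMap x').hom = J := by
    show _ = Ideal.map ((g ≫ f).stalkMap x').hom _
    rw [Ideal.map_map]
    congr 1
    rw [Scheme.Hom.stalkMap_comp]
    rfl
  let φ : R ⧸ I →+* R' ⧸ J := Ideal.quotientMap J (g.stalkMap x').hom (Ideal.map_le_iff_le_comap.1 hIJ.le)
  haveI : Nontrivial (R ⧸ I) := Ideal.Quotient.nontrivial_iff.2 (ne_top_of_le_ne_top (maximalIdeal.isMaximal R).ne_top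
    (Ideal.map_le_iff_le_comap.2 fun a ha => map_nonunit (f.stalkMap (g x')).hom a ha))
  haveI : IsLocalRing (R ⧸ I) := .of_surjective' _ Ideal.Quotient.mk_surjective
  haveI : Nontrivial (R' ⧸ J) := Ideal.Quotient.nontrivial_iff.2 (ne_top_of_le_ne_top (maximalIdeal.isMaximal R').ne_top
    (Ideal.map_le_iff_le_comap.2 fun a ha => map_nonunit ((g ≫ f).stalkMap x').hom a ha))
  haveI : IsLocalRing (R' ⧸ J) := .of_surjective' _ Ideal.Quotient.mk_surjective
  letI : Algebra (R ⧸ I) (R' ⧸ J) := φ.toAlgebra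
  haveI : IsLocalHom (algebraMap (R ⧸ I) (R' ⧸ J)) := by
    refine ⟨fun a ha => ?_⟩
    obtain ⟨a, rfl⟩ := Ideal.Quotient.mk_surjective a
    have h1 : IsUnit (Ideal.Quotient.mk J ((g.stalkMap x').hom a)) := ha
    haveI : IsLocalHom (Ideal.Quotient.mk J) := .of_surjective _ Ideal.Quotient.mk_surjective
    exact ((isUnit_of_map_unit (Ideal.Quotient.mk J) _ h1).of_map _ _).map _
  refine (Groth.Agent.FlatLoc6.ringKrullDim_le_add_fibre (A := R ⧸ I) (B := R' ⧸ J)).trans ?_
  have hK : ((maximalIdeal R).map (g.stalkMap x').hom) ≤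
      RingHom.ker ((Ideal.Quotient.mk (EGA4.mB (R ⧸ I) (R' ⧸ J))).comp (Ideal.Quotient.mk J)) := by
    refine Ideal.map_le_iff_le_comap.2 fun a ha => ?_
    rw [Ideal.mem_comap, RingHom.mem_ker, RingHom.comp_apply, Ideal.Quotient.eq_zero_iff_mem]
    refine Ideal.mem_map_of_mem (algebraMap (R ⧸ I) (R' ⧸ J)) (x := Ideal.Quotient.mk I a) ?_
    rw [mem_maximalIdeal, mem_nonunits_iff] at ha ⊢
    haveI : IsLocalHom (Ideal.Quotient.mk I) := .of_surjective _ Ideal.Quotient.mk_surjective
    exact fun h => ha (h.of_map _ _)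
  have hsurj : Function.Surjective (Ideal.Quotient.lift _
      ((Ideal.Quotient.mk (EGA4.mB (R ⧸ I) (R' ⧸ J))).comp (Ideal.Quotient.mk J)) fun a ha => hK ha) := by
    refine Ideal.Quotient.lift_surjective_of_surjective _ _ ?_
    exact Ideal.Quotient.mk_surjective.comp Ideal.Quotient.mk_surjective
  have hfib : ringKrullDim (EGA4.FibRing (R ⧸ I) (R' ⧸ J)) ≤ 0 := by
    refine (ringKrullDim_le_of_surjective _ hsurj).trans ?_
    rw [ringKrullDim_eq_of_ringEquiv eC, h0]
  exact (add_le_add le_rfl hfib).trans (add_zero _).le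

/-- Let f : X → S and g : X' → X be morphisms of locally Noetherian schemes with g surjective, Y a
closed subset of X and Y' its preimage under g. Then the codimension of Y' relative to the composite
X' → S (the infimum over y' ∈ Y' of the Krull dimension of the local ring at y' of the fibre of that
composite through y') is at most the codimension of Y relative to f (the same infimum over y ∈ Y for
the fibres of f). -/
theorem result {X X' S : Scheme.{u}} [IsLocallyNoetherian X]
    [IsLocallyNoetherian X'] [IsLocallyNoetherian S] (f : X ⟶ S) (g : X' ⟶ X) [Surjective g]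
    (Y : Set ↥X) (hY : IsClosed Y) :
    (⨅ y' : (fun x' => g x') ⁻¹' Y, ringKrullDim ↑(CInt.fiberStalk (g ≫ f) y'.1)) ≤
      ⨅ y : Y, ringKrullDim ↑(CInt.fiberStalk f y.1) := by
  refine le_iInf fun ⟨y, hy⟩ => ?_
  obtain ⟨x₀, hx₀⟩ := g.surjective y
  haveI : Nonempty (g.fiber y) := by
    have : x₀ ∈ Set.range (g.fiberι y) := by rw [g.range_fiberι]; exact hx₀
    exact ⟨this.choose⟩
  obtain ⟨z, hz⟩ := exists_coheight_zero (g.fiber y)
  have hzy : g (g.fiberι y z) = y := by
    have : g.fiberι y z ∈ Set.range (g.fiberι y) := ⟨z, rfl⟩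
    rw [g.range_fiberι] at this
    exact this
  refine (iInf_le (fun y' : (fun x' => g x') ⁻¹' Y => ringKrullDim ↑(CInt.fiberStalk (g ≫ f) y'.1))
    ⟨g.fiberι y z, show g (g.fiberι y z) ∈ Y by rw [hzy]; exact hy⟩).trans ?_
  generalize hx' : g.fiberι y z = x' at hzy ⊢
  subst hzy
  exact fibre_dim_le f g x' z hx' hz

end Groth.Agent.S14109
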