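import Groth.Statements.S14105
import Groth.Agent.ConsPropLib.Fibre
import Groth.Agent.S14109
import Groth.Agent.H23.Isogeny
import Groth.Agent.FlatLoc6.DimEq

set_option autoImplicit false
set_option backward.isDefEq.respectTransparency false
set_option backward.isDefEq.respectTransparency.types false
universe u
open CategoryTheory CategoryTheory.Limits AlgebraicGeometry Opposite TopologicalSpace
open CInt

namespace Groth.Agent.S14105

open IsLocalRing

/-- The stalks of the fibres of a locally Noetherian scheme are Noetherian. -/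
theorem noeth_fibre {X S : Scheme.{u}} [IsLocallyNoetherian X] (f : X ⟶ S) (s : S) (w : f.fiber s) :
    IsNoetherianRing ((f.fiber s).presheaf.stalk w) := by
  have hs : f (f.fiberι s w) = s := by
    have : f.fiberι s w ∈ Set.range (f.fiberι s) := ⟨w, rfl⟩
    rwa [f.range_fiberι] at this
  obtain ⟨e⟩ := Groth.Agent.Triage.CMMor.exists_equiv_fibre_stalk_aux f (f.fiberι s w) s hs w rfl
  exact isNoetherianRing_of_ringEquiv _ e

theorem eq_asFiber {X S : Scheme.{u}} (f : X ⟶ S) (x : X) (w : f.fiber (f x)) (h : f.fiberι (f x) w = x) :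
    w = f.asFiber x :=
  (f.fiberι _).isEmbedding.injective (h.trans (f.fiberι_asFiber x).symm)

theorem dim_congr {X S : Scheme.{u}} (f : X ⟶ S) (x : X) (s : S) (hs : f x = s) (w : f.fiber s)
    (hw : f.fiberι s w = x) :
    ringKrullDim ((f.fiber s).presheaf.stalk w) = ringKrullDim (CInt.fiberStalk f x) := by
  subst hs
  rw [eq_asFiber f x w hw]

theorem isLocalHom_sm {X Y : Scheme.{u}} (f : X ⟶ Y) (x : X) (y : Y) (h : f x = y) :
    IsLocalHom (Groth.Agent.FibFlat.sm f x y h) := by
  subst h
  rw [Groth.Agent.FibFlat.sm_self]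
  infer_instance

theorem flat_residue {S S' : Scheme.{u}} (h : S' ⟶ S) (s' : S') : Flat (Spec.map (h.residueFieldMap s')) := by
  rw [HasRingHomProperty.Spec_iff (P := @Flat)]
  letI := (h.residueFieldMap s').hom.toAlgebra
  exact RingHom.flat_algebraMap_iff.2 inferInstance


/-- Let f : X → S be a morphism and g : S' → S a base change, with X, S, S' and X' = X ×_S S' locally
Noetherian, and let Y be a closed subset of X with preimage Y' under the projection X' → X. Writing
the codimension of a closed subset relative to a morphism as the infimum, over its points, of the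
Krull dimension of the local ring of the fibre through that point: the codimension of Y' relative to
X' → S' is at least the codimension of Y relative to f, and the two are equal when the projection X'
→ X maps Y' onto Y. -/
theorem result {X S S' : Scheme.{u}} (f : X ⟶ S) (g : S' ⟶ S)
    [IsLocallyNoetherian X] [IsLocallyNoetherian S] [IsLocallyNoetherian S']
    [IsLocallyNoetherian (pullback f g)] (Y : Set ↥X) (hY : IsClosed Y) :
    ((⨅ y : Y, ringKrullDim ↑(CInt.fiberStalk f y.1)) ≤
      ⨅ y' : (fun x' => (pullback.fst f g) x') ⁻¹' Y,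
        ringKrullDim ↑(CInt.fiberStalk (pullback.snd f g) y'.1)) ∧
    (Y ⊆ Set.range (pullback.fst f g).base →
      (⨅ y' : (fun x' => (pullback.fst f g) x') ⁻¹' Y,
        ringKrullDim ↑(CInt.fiberStalk (pullback.snd f g) y'.1)) =
        ⨅ y : Y, ringKrullDim ↑(CInt.fiberStalk f y.1)) := by
  have sq : IsPullback (pullback.fst f g) (pullback.snd f g) f g := IsPullback.of_hasPullback f g
  have hle : ∀ x' : ↥(pullback f g),
      ringKrullDim ↑(CInt.fiberStalk f ((pullback.fst f g) x')) ≤
        ringKrullDim ↑(CInt.fiberStalk (pullback.snd f g) x') := by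
    intro x'
    obtain ⟨e, he, hecomp⟩ := Groth.Agent.ConsPropLib.exists_fibre_pullback sq ((pullback.snd f g) x')
    haveI := flat_residue g ((pullback.snd f g) x')
    haveI : Flat e := MorphismProperty.of_isPullback (P := @Flat) he.flip inferInstance
    let w' := (pullback.snd f g).asFiber x'
    have hx : f.fiberι (g ((pullback.snd f g) x')) (e w') = (pullback.fst f g) x' := by
      rw [← Scheme.Hom.comp_apply, hecomp, Scheme.Hom.comp_apply, Scheme.Hom.fiberι_asFiber]
    have hs : f ((pullback.fst f g) x') = g ((pullback.snd f g) x') := by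
      rw [← Scheme.Hom.comp_apply, pullback.condition, Scheme.Hom.comp_apply]
    rw [← dim_congr f ((pullback.fst f g) x') _ hs (e w') hx]
    haveI := noeth_fibre f _ (e w')
    haveI := noeth_fibre (pullback.snd f g) _ w'
    exact Groth.Agent.H23.Isogeny.ringKrullDim_le_of_flat (e.stalkMap w').hom (Flat.stalkMap e w')
  refine ⟨le_iInf fun ⟨x', hx'⟩ =>
    (iInf_le (fun y : Y => ringKrullDim ↑(CInt.fiberStalk f y.1)) ⟨_, hx'⟩).trans (hle x'), fun hsub => ?_⟩
  refine le_antisymm (le_iInf fun ⟨y, hy⟩ => ?_) (le_iInf fun ⟨x', hx'⟩ =>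
    (iInf_le (fun y : Y => ringKrullDim ↑(CInt.fiberStalk f y.1)) ⟨_, hx'⟩).trans (hle x'))
  obtain ⟨x₀, hx₀⟩ := hsub hy
  subst hx₀
  obtain ⟨e, he, hecomp⟩ := Groth.Agent.ConsPropLib.exists_fibre_pullback sq ((pullback.snd f g) x₀)
  let w₀ := (pullback.snd f g).asFiber x₀
  let w := e w₀
  haveI : Nonempty (e.fiber w) := ⟨e.asFiber w₀⟩
  obtain ⟨z, hz⟩ := Groth.Agent.S14109.exists_coheight_zero (e.fiber w)
  let w' := e.fiberι w z
  have hw' : e w' = w := by
    have : w' ∈ Set.range (e.fiberι w) := ⟨z, rfl⟩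
    rwa [e.range_fiberι] at this
  let x' := (pullback.snd f g).fiberι _ w'
  have hfst : (pullback.fst f g) x' = (pullback.fst f g) x₀ := by
    have h1 : ∀ v, (pullback.fst f g) ((pullback.snd f g).fiberι _ v) = f.fiberι _ (e v) := fun v => by
      rw [← Scheme.Hom.comp_apply, ← hecomp, Scheme.Hom.comp_apply]
    rw [h1, hw', ← h1, Scheme.Hom.fiberι_asFiber]
  have hsnd : (pullback.snd f g) x' = (pullback.snd f g) x₀ := by
    have : x' ∈ Set.range ((pullback.snd f g).fiberι ((pullback.snd f g) x₀)) := ⟨w', rfl⟩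
    rwa [Scheme.Hom.range_fiberι] at this
  refine (iInf_le (fun y' : (fun x' => (pullback.fst f g) x') ⁻¹' Y =>
    ringKrullDim ↑(CInt.fiberStalk (pullback.snd f g) y'.1)) ⟨x', show (pullback.fst f g) x' ∈ Y from hfst ▸ hy⟩).trans ?_
  rw [← dim_congr (pullback.snd f g) x' _ hsnd w' rfl]
  have hx : f.fiberι _ w = (pullback.fst f g).base x₀ := by
    show f.fiberι _ (e w₀) = _
    rw [← Scheme.Hom.comp_apply, hecomp, Scheme.Hom.comp_apply, Scheme.Hom.fiberι_asFiber]
  have hs : f ((pullback.fst f g) x₀) = g ((pullback.snd f g) x₀) := by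
    rw [← Scheme.Hom.comp_apply, pullback.condition, Scheme.Hom.comp_apply]
  rw [← dim_congr f ((pullback.fst f g) x₀) _ hs w hx]
  obtain ⟨eC⟩ := Groth.Agent.Triage.CMMor.exists_equiv_fibre_stalk_aux e w' w hw' z rfl
  haveI := noeth_fibre f _ w
  haveI := noeth_fibre (pullback.snd f g) _ w'
  haveI hloc : IsLocalHom (Groth.Agent.FibFlat.sm e w' w hw') := isLocalHom_sm e w' w hw' 
  letI := (Groth.Agent.FibFlat.sm e w' w hw').toAlgebra
  haveI : IsLocalHom (algebraMap ((f.fiber (g ((pullback.snd f g) x₀))).presheaf.stalk w)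
    (((pullback.snd f g).fiber ((pullback.snd f g) x₀)).presheaf.stalk w')) := hloc
  refine (Groth.Agent.FlatLoc6.ringKrullDim_le_add_fibre
    (A := (f.fiber (g ((pullback.snd f g) x₀))).presheaf.stalk w)
    (B := ((pullback.snd f g).fiber ((pullback.snd f g) x₀)).presheaf.stalk w')).trans ?_
  have hfib : ringKrullDim (EGA4.FibRing ((f.fiber (g ((pullback.snd f g) x₀))).presheaf.stalk w)
      (((pullback.snd f g).fiber ((pullback.snd f g) x₀)).presheaf.stalk w')) ≤ 0 := by
    exact ((ringKrullDim_eq_of_ringEquiv eC).trans hz).le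
  exact (add_le_add le_rfl hfib).trans (add_zero _).le

end Groth.Agent.S14105
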