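import Groth.Statements.S14106
import Groth.Agent.S14103
import Groth.Agent.S14105
import Groth.Agent.Triage.CMMor
import Groth.Agent.H23.Isogeny
import Groth.Agent.GrpSchLib.SmoothRegular
import Groth.Agent.GrpSchLib.FieldSmooth
import Groth.Agent.RegImmLib.FibreQuasi
import Groth.Agent.CILib.Basic
import Groth.Agent.KRegLib.Regular
import Groth.Agent.DimFormula.Stalk
import Groth.Agent.CMOpen5.Params
import Groth.Agent.VBPnX.CIKoszul

set_option autoImplicit false
set_option backward.isDefEq.respectTransparency false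
set_option backward.isDefEq.respectTransparency.types false
universe u
open CategoryTheory CategoryTheory.Limits AlgebraicGeometry Opposite TopologicalSpace
open CInt

namespace Groth.Agent.S14106

open IsLocalRing

/-- The kernel onto a flat quotient with regular closed fibre has few generators. -/
theorem exists_gen_le_dim (A C B : Type u) [CommRing A] [IsLocalRing A]
    [IsNoetherianRing A] [CommRing C] [IsLocalRing C] [IsNoetherianRing C] [Algebra A C] [IsLocalHom (algebraMap A C)]
    (hreg : IsRegularLocalRing (EGA4.FibRing A C))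
    [CommRing B] [IsLocalRing B] [Algebra C B] [Algebra A B] [IsScalarTower A C B] [IsLocalHom (algebraMap A B)]
    [Module.Flat A B] (hsurj : Function.Surjective (algebraMap C B))
    (hregB : IsRegularLocalRing (EGA4.FibRing A B)) :
    ∃ rs : List C, Ideal.ofList rs = RingHom.ker (algebraMap C B) ∧
      ((rs.length : ℕ∞) : WithBot ℕ∞) ≤ ringKrullDim (EGA4.FibRing A C) := by
  let R' := EGA4.FibRing A C
  let B' := EGA4.FibRing A B
  let J := RingHom.ker (algebraMap C B)
  haveI := hreg
  haveI := hregB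
  have hmap : EGA4.mB A B = (EGA4.mB A C).map (algebraMap C B) := by
    show _ = ((IsLocalRing.maximalIdeal A).map (algebraMap A C)).map (algebraMap C B)
    rw [Ideal.map_map, ← IsScalarTower.algebraMap_eq]
  let π : R' →+* B' := Ideal.quotientMap (EGA4.mB A B) (algebraMap C B) (Ideal.map_le_iff_le_comap.1 hmap.ge)
  have hπ : Function.Surjective π := by
    intro y
    obtain ⟨y, rfl⟩ := Ideal.Quotient.mk_surjective y
    obtain ⟨x, rfl⟩ := hsurj y
    exact ⟨Ideal.Quotient.mk _ x, rfl⟩
  have hker : RingHom.ker π = J.map (Ideal.Quotient.mk (EGA4.mB A C)) := by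
    refine le_antisymm (fun y hy => ?_) (Ideal.map_le_iff_le_comap.2 fun x hx => ?_)
    · obtain ⟨x, rfl⟩ := Ideal.Quotient.mk_surjective y
      have h1 : algebraMap C B x ∈ (EGA4.mB A C).map (algebraMap C B) := hmap.le (Ideal.Quotient.eq_zero_iff_mem.1 hy)
      obtain ⟨w, hw, hwx⟩ := (Ideal.mem_map_iff_of_surjective _ hsurj).1 h1
      have h2 : x - w ∈ J := by rw [RingHom.mem_ker, map_sub, hwx, sub_self]
      have h3 := Ideal.mem_map_of_mem (Ideal.Quotient.mk (EGA4.mB A C)) h2
      rwa [map_sub, Ideal.Quotient.eq_zero_iff_mem.2 hw, sub_zero] at h3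
    · show π (Ideal.Quotient.mk _ x) = 0
      show Ideal.Quotient.mk _ (algebraMap C B x) = 0
      rw [(RingHom.mem_ker).1 hx, map_zero]
  obtain ⟨rs', hrs', hkrs⟩ := (Groth.Agent.CILib.isCI_iff_regular π hπ).1
    (Groth.Agent.KRegLib.isCompleteIntersection_of_regular B')
  have hlift : ∀ l : List R', (∀ r ∈ l, r ∈ RingHom.ker π) →
      ∃ hs : List C, (∀ r ∈ hs, r ∈ J) ∧ hs.map (Ideal.Quotient.mk (EGA4.mB A C)) = l := by
    intro l
    induction l with
    | nil => exact fun _ => ⟨[], by simp, rfl⟩
    | cons r l ih =>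
      intro hl
      obtain ⟨hs, h1, h2⟩ := ih fun a ha => hl a (List.mem_cons_of_mem _ ha)
      obtain ⟨a, ha, har⟩ := (Ideal.mem_map_iff_of_surjective _ Ideal.Quotient.mk_surjective).1
        (hker.le (hl r (List.mem_cons_self ..)))
      exact ⟨a :: hs, fun b hb => (List.mem_cons.1 hb).elim (fun e => e ▸ ha) (h1 b),
        by rw [List.map_cons, har, h2]⟩
  obtain ⟨rs, hrsJ, hmaprs⟩ := hlift rs' fun r hr => hkrs.ge (Ideal.subset_span hr)
  have hgen : J = Ideal.ofList rs := by
    refine Groth.Agent.RegImmLib.eq_of_le_sup_of_flat (IsScalarTower.toAlgHom A C B) hsurj J (Ideal.ofList rs) rfl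
      (IsNoetherian.noetherian J) (Ideal.span_le.2 hrsJ) fun x hx => ?_
    have h1 : Ideal.Quotient.mk (EGA4.mB A C) x ∈ (Ideal.ofList rs).map (Ideal.Quotient.mk (EGA4.mB A C)) := by
      rw [Ideal.map_ofList, hmaprs, ← hkrs, hker]
      exact Ideal.mem_map_of_mem _ hx
    rw [← Ideal.mem_comap, Ideal.comap_map_of_surjective _ Ideal.Quotient.mk_surjective,
      ← RingHom.ker_eq_comap_bot, Ideal.mk_ker] at h1
    exact h1
  refine ⟨rs, hgen.symm, ?_⟩
  have hlen : rs.length = rs'.length := by rw [← hmaprs, List.length_map]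
  rw [hlen]
  exact Groth.Agent.CMOpen5.length_le_ringKrullDim rs' hrs'.toIsWeaklyRegular fun r hr =>
    le_maximalIdeal (RingHom.ker_ne_top π) (hkrs.ge (Ideal.subset_span hr))

/-- The fibres of a smooth morphism have regular local rings. -/
theorem regular_fibre_stalk {X S : Scheme.{u}} (f : X ⟶ S) [Smooth f] (x : X) :
    IsRegularLocalRing (↑(X.presheaf.stalk x) ⧸ (maximalIdeal (S.presheaf.stalk (f x))).map (f.stalkMap x).hom) := by
  haveI : Smooth (f.fiberToSpecResidueField (f x)) := inferInstanceAs (Smooth (pullback.snd _ _))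
  haveI := Groth.Agent.GrpSchLib.isRegularLocalRing_stalk_of_smooth (f.fiberToSpecResidueField (f x)) (f.asFiber x)
  obtain ⟨e⟩ := Groth.Agent.Triage.CMMor.exists_equiv_fibre_stalk f x
  exact IsRegularLocalRing.of_ringEquiv e.symm


/-- Let S be a locally Noetherian scheme, f : X → S a smooth morphism and i : Y → X a closed immersion
whose composite with f is smooth. Then the codimension of the image of i relative to f (the infimum
over its points y of the Krull dimension of the local ring at y of the fibre of f through y) equals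
its codimension in X (the infimum over the same points of the Krull dimension of O_{X,y}). -/
theorem result {X Y S : Scheme.{u}} [IsLocallyNoetherian X]
    [IsLocallyNoetherian S] (f : X ⟶ S) [Smooth f] (i : Y ⟶ X) [IsClosedImmersion i] [Smooth (i ≫ f)] :
    (⨅ y : Set.range i.base, ringKrullDim ↑(CInt.fiberStalk f y.1)) =
      ⨅ y : Set.range i.base, ringKrullDim ↑(X.presheaf.stalk y.1) := by
  refine le_antisymm (Groth.Agent.S14103.result f _ i.isClosedEmbedding.isClosed_range) (le_iInf ?_)
  rintro ⟨x, y, rfl⟩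
  let A : Type u := S.presheaf.stalk (f (i y))
  let C : Type u := X.presheaf.stalk (i y)
  let B : Type u := Y.presheaf.stalk y
  letI : Algebra A C := (f.stalkMap (i y)).hom.toAlgebra
  letI : Algebra C B := (i.stalkMap y).hom.toAlgebra
  letI : Algebra A B := ((i ≫ f).stalkMap y).hom.toAlgebra
  haveI : IsScalarTower A C B := IsScalarTower.of_algebraMap_eq' (by
    show ((i ≫ f).stalkMap y).hom = _
    rw [Scheme.Hom.stalkMap_comp]; rfl)
  haveI : IsLocalHom (algebraMap A C) := inferInstanceAs (IsLocalHom (f.stalkMap (i y)).hom)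
  haveI : IsLocalHom (algebraMap A B) := inferInstanceAs (IsLocalHom ((i ≫ f).stalkMap y).hom)
  haveI : Module.Flat A B := Flat.stalkMap (i ≫ f) y
  obtain ⟨rs, hrs, hlen⟩ := exists_gen_le_dim A C B (regular_fibre_stalk f (i y))
    (i.stalkMap_surjective y) (regular_fibre_stalk (i ≫ f) y)
  obtain ⟨P, hP, -⟩ := Ideal.exists_minimalPrimes_le
    (I := Ideal.ofList rs) (J := maximalIdeal C)
    (by rw [hrs]; exact le_maximalIdeal (RingHom.ker_ne_top _))
  haveI := hP.1.1
  obtain ⟨Q, hQ⟩ : (⟨P, inferInstance⟩ : PrimeSpectrum C) ∈ Set.range (PrimeSpectrum.comap (i.stalkMap y).hom) := by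
    rw [range_comap_of_surjective _ _ (i.stalkMap_surjective y), PrimeSpectrum.mem_zeroLocus]
    exact hrs.symm.trans_le hP.1.2
  let η : X := X.fromSpecStalk (i y) ⟨P, inferInstance⟩
  have hη : η ∈ Set.range i.base := ⟨Y.fromSpecStalk y Q, by
    show i (Y.fromSpecStalk y Q) = η
    rw [← Groth.Agent.DimFormula.fromSpecStalk_comm, hQ]⟩
  refine (iInf_le (fun z : Set.range i.base => ringKrullDim ↑(X.presheaf.stalk z.1)) ⟨η, hη⟩).trans ?_
  haveI := Groth.Agent.GrpSchLib.flat_fromSpecStalk (i y)
  obtain ⟨e'⟩ := Groth.Agent.Triage.CMMor.exists_equiv_fibre_stalk f (i y)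
  obtain ⟨eL⟩ := Groth.Agent.VBPnX.CIKoszul.exists_spec_stalk_equiv (CommRingCat.of C) ⟨P, inferInstance⟩
  haveI : IsNoetherianRing (Localization.AtPrime P) := IsLocalization.isNoetherianRing P.primeCompl _ inferInstance
  haveI : IsNoetherianRing ((Spec (X.presheaf.stalk (i y))).presheaf.stalk ⟨P, inferInstance⟩) :=
    isNoetherianRing_of_ringEquiv _ eL.symm
  refine (Groth.Agent.H23.Isogeny.ringKrullDim_le_of_flat
    ((X.fromSpecStalk (i y)).stalkMap ⟨P, inferInstance⟩).hom (Flat.stalkMap _ _)).trans ?_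
  refine le_trans (le_of_eq (ringKrullDim_eq_of_ringEquiv eL)) ?_
  rw [IsLocalization.AtPrime.ringKrullDim_eq_height P]
  refine le_trans ?_ (hlen.trans_eq (ringKrullDim_eq_of_ringEquiv e'))
  refine WithBot.coe_le_coe.2 ((Ideal.height_le_card_of_mem_minimalPrimes_span
    (List.finite_toSet rs) (show P ∈ (Ideal.span {x | x ∈ rs}).minimalPrimes from hP)).trans ?_)
  classical
  have h1 : {x | x ∈ rs} = (rs.toFinset : Set C) := by ext; simp
  rw [h1, Set.ncard_coe_finset]
  exact_mod_cast rs.toFinset_card_le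

end Groth.Agent.S14106
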