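import Groth.Statements.S14110
import Groth.Agent.Triage.CMMor
import Groth.Agent.FlatLoc6.DimEq
import Groth.Agent.H23.Isogeny
import Groth.Agent.Triage.SliceFlat

set_option autoImplicit false
set_option backward.isDefEq.respectTransparency false
set_option backward.isDefEq.respectTransparency.types false
universe u
open CategoryTheory CategoryTheory.Limits AlgebraicGeometry Opposite TopologicalSpace
open CInt

namespace Groth.Agent.S14110

theorem flat_quot {R R' : Type u} [CommRing R] [CommRing R'] (h : R →+* R') (hf : h.Flat) (I : Ideal R)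
    (J : Ideal R') (hIJ : I.map h = J) :
    (Ideal.quotientMap J h (Ideal.map_le_iff_le_comap.1 hIJ.le)).Flat := by
  subst hIJ
  letI := h.toAlgebra
  haveI : Module.Flat R R' := hf
  have := Groth.Agent.Triage.SliceFlat.flat_quotient_map (A := R) (T := R') I
  show (Ideal.quotientMap (I.map (algebraMap R R')) (algebraMap R R') (Ideal.map_le_iff_le_comap.1 le_rfl)).Flat
  exact RingHom.flat_algebraMap_iff.2 this

open IsLocalRing in
theorem fibre_dim_ge {X X' S : Scheme.{u}} [IsLocallyNoetherian X] [IsLocallyNoetherian X']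
    (f : X ⟶ S) (g : X' ⟶ X) [Flat g] (x' : X') :
    ringKrullDim ↑(CInt.fiberStalk f (g x')) ≤ ringKrullDim ↑(CInt.fiberStalk (g ≫ f) x') := by
  obtain ⟨eA⟩ := Groth.Agent.Triage.CMMor.exists_equiv_fibre_stalk f (g x')
  obtain ⟨eB⟩ := Groth.Agent.Triage.CMMor.exists_equiv_fibre_stalk (g ≫ f) x'
  refine le_of_le_of_eq ?_ (ringKrullDim_eq_of_ringEquiv eB)
  refine (ringKrullDim_eq_of_ringEquiv eA.symm).trans_le ?_
  let R := X.presheaf.stalk (g x')
  let R' := X'.presheaf.stalk x'
  let I : Ideal R := (maximalIdeal (S.presheaf.stalk (f (g x')))).map (f.stalkMap (g x')).hom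
  let J : Ideal R' := (maximalIdeal (S.presheaf.stalk ((g ≫ f) x'))).map ((g ≫ f).stalkMap x').hom
  have hIJ : I.map (g.stalkMap x').hom = J := by
    show _ = Ideal.map ((g ≫ f).stalkMap x').hom _
    rw [Ideal.map_map]
    congr 1
    rw [Scheme.Hom.stalkMap_comp]
    rfl
  let φ : R ⧸ I →+* R' ⧸ J := Ideal.quotientMap J (g.stalkMap x').hom (Ideal.map_le_iff_le_comap.1 hIJ.le)
  haveI : Nontrivial (R ⧸ I) := Ideal.Quotient.nontrivial_iff.2 (ne_top_of_le_ne_top (maximalIdeal.isMaximal R).ne_top
    (Ideal.map_le_iff_le_comap.2 fun a ha => map_nonunit (f.stalkMap (g x')).hom a ha))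
  haveI : IsLocalRing (R ⧸ I) := .of_surjective' _ Ideal.Quotient.mk_surjective
  haveI : Nontrivial (R' ⧸ J) := Ideal.Quotient.nontrivial_iff.2 (ne_top_of_le_ne_top (maximalIdeal.isMaximal R').ne_top
    (Ideal.map_le_iff_le_comap.2 fun a ha => map_nonunit ((g ≫ f).stalkMap x').hom a ha))
  haveI : IsLocalRing (R' ⧸ J) := .of_surjective' _ Ideal.Quotient.mk_surjective
  haveI : IsLocalHom φ := by
    refine ⟨fun a ha => ?_⟩
    obtain ⟨a, rfl⟩ := Ideal.Quotient.mk_surjective a
    have h1 : IsUnit (Ideal.Quotient.mk J ((g.stalkMap x').hom a)) := ha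
    haveI : IsLocalHom (Ideal.Quotient.mk J) := .of_surjective _ Ideal.Quotient.mk_surjective
    exact ((isUnit_of_map_unit (Ideal.Quotient.mk J) _ h1).of_map _ _).map _
  exact Groth.Agent.H23.Isogeny.ringKrullDim_le_of_flat φ
    (flat_quot _ (Flat.stalkMap g x') I J hIJ)

/-- Let f : X → S and g : X' → X be morphisms of locally Noetherian schemes with f a Cohen–Macaulay
morphism (flat, every local ring of every fibre a Cohen–Macaulay local ring) and g flat, Y a closed
subset of X and Y' its preimage under g. Then the codimension of Y relative to f (the infimum over y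
∈ Y of the Krull dimension of the local ring at y of the fibre of f through y) is at most the
codimension of Y' relative to the composite X' → S. -/
theorem result {X X' S : Scheme.{u}} [IsLocallyNoetherian X]
    [IsLocallyNoetherian X'] [IsLocallyNoetherian S] (f : X ⟶ S) [Flat f]
    (hCM : ∀ x : ↥X, LocCoh.IsCohenMacaulayLocalRing ↑(CInt.fiberStalk f x)) (g : X' ⟶ X) [Flat g]
    (Y : Set ↥X) (hY : IsClosed Y) :
    (⨅ y : Y, ringKrullDim ↑(CInt.fiberStalk f y.1)) ≤
      ⨅ y' : (fun x' => g x') ⁻¹' Y, ringKrullDim ↑(CInt.fiberStalk (g ≫ f) y'.1) := by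
  refine le_iInf fun ⟨x', hx'⟩ => ?_
  refine (iInf_le (fun y : Y => ringKrullDim ↑(CInt.fiberStalk f y.1)) ⟨g x', hx'⟩).trans ?_
  exact fibre_dim_ge f g x'

end Groth.Agent.S14110
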