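import Groth.Statements.S14116
import Groth.Agent.S6029
import Groth.Agent.S6034
import Groth.Agent.H1SSEdge.Edge
import Groth.Agent.KoszulLim.SheafAxioms
import Groth.Agent.QCoh.LocFree
import Groth.Agent.FlatLoc6.NormFlat
import Groth.Agent.KZ.LFRes

set_option autoImplicit false
universe u
open CategoryTheory CategoryTheory.Limits AlgebraicGeometry Opposite TopologicalSpace
open LocCohZ

namespace Groth.Agent.S14116

/-- Cohomology of a zero sheaf. -/
theorem subsingleton_HU_of_isZero {X : TopCat.{u}} (F : CohTop.Ab X) (hF : IsZero F) (p : ℕ) (V : Opens X) :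
    Subsingleton (CohTop.HU F p V) := by
  refine subsingleton_of_forall_eq 0 fun y => ?_
  show (y : Abelian.Ext _ F p) = 0
  rw [← Abelian.Ext.comp_mk₀_id (y : Abelian.Ext _ F p), hF.eq_of_src (𝟙 F) 0, Abelian.Ext.mk₀_zero, Abelian.Ext.comp_zero]
  rfl

open IsLocalRing in
/-- A finite free module has at least the depth of the ring. -/
theorem depth_le_free {R : Type u} [CommRing R] [IsLocalRing R] [IsNoetherianRing R] (F : Type u)
    [AddCommGroup F] [Module R F] [Module.Free R F] [Module.Finite R F] :
    LocCoh.depth R R ≤ LocCoh.depth R F := by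
  rcases subsingleton_or_nontrivial F with h | h
  · exact le_top.trans_eq (if_pos (Subsingleton.elim _ _)).symm
  let b := Module.finBasis R F
  obtain ⟨k, hk⟩ := Nat.exists_eq_succ_of_ne_zero (Fin.pos_iff_nonempty.mpr b.index_nonempty).ne'
  exact ((Groth.Agent.Hensel.depth_congr (b.reindex (finCongr hk)).equivFun).trans
    (Groth.Agent.FlatLoc6.depth_pi R k)).ge

/-- Let X be a locally Noetherian scheme, U ⊆ X open with closed complement Y, d a natural number such
that the depth of O_X along Y is at least d (every local ring O_{X,y}, y ∈ Y, has depth at least d),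
and M a finite locally free O_X-module. Then Γ(X, ℋ^d_Y(M)) is isomorphic to H^d_Y(X, M), where
ℋ^d_Y is the d-th right derived functor of the sheaf of sections with support in Y (applied to the
underlying abelian sheaf of M) and H^d_Y(X, M) is cohomology with support in Y. Existence of an
additive isomorphism only; the published statement asserts a canonical functorial isomorphism that
is linear over the global functions Γ(X, O_X) (obtained in its proof as the edge map of the
local-to-global spectral sequence), and adds that U ↦ H^d_{Y∩U}(U, M), U ⊆ X open, is a sheaf; none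
of this is part of this row. (The published statement assumes a flat morphism X → S with
Cohen–Macaulay fibres and relative codimension of Y at least d; these enter only through the depth
bound, which is the hypothesis of this row.) -/
theorem result (X : Scheme.{u}) [IsLocallyNoetherian X]
    (U : X.Opens) (d : ℕ)
    (hdepth : ∀ x : ↥X, x ∉ (U : Set ↥X) → (d : ℕ∞) ≤ LocCoh.depth ↑(X.presheaf.stalk x) ↑(X.presheaf.stalk x))
    (M : X.Modules) (hM : FlatMod.IsFinLocFree M) :
    Nonempty (↑(((LocCohZ.HZsh (X := X.carrier) U d).obj (Coh.toAb M)).obj.obj (op ⊤)) ≃+ LocCohZ.HZM X M d U) := by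
  have hz : ∀ i : ℕ, i < d → IsZero ((LocCohZ.HZsh (X := X.carrier) U i).obj (Coh.toAb M)) := by
    refine (Groth.Agent.S6034.result X U M (Groth.Agent.KZ.LFRes.flf_isCoh hM) d).2 fun x hx => ?_
    haveI := Groth.Agent.QCoh.free_stalk_of_isFinLocFree hM x
    haveI := Groth.Agent.QCoh.finite_stalk_of_isFT (Groth.Agent.QCoh.isQCoh_of_isFinLocFree hM) (Groth.Agent.KZ.LFRes.flf_isCoh hM).2 x
    exact (hdepth x hx).trans (depth_le_free _)
  obtain ⟨E, a, hfin, -, hE⟩ := Groth.Agent.S6029.result (X := X.carrier) (Coh.toAb M) U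
  have hzero : ∀ p q : ℤ, (p < 0 ∨ q < d) → IsZero ((E.page 2 le_rfl).X (p, q)) := fun p q hpq => by
    refine IsZero.of_iso ?_ (hE p q).some
    split_ifs with h
    · have hq : q.toNat < d := by omega
      exact AddCommGrpCat.isZero_iff_subsingleton.2 (subsingleton_HU_of_isZero _ (hz _ hq) _ _)
    · exact AddCommGrpCat.isZero_iff_subsingleton.2 inferInstance
  obtain ⟨e⟩ := Groth.Agent.H1SSEdge.nonempty_iso_corner E a (d : ℤ) (hfin _)
    (fun p q hp => hzero p q (Or.inl hp)) (fun p q hq => hzero p q (Or.inr hq))
  have e' := e ≪≫ (hE 0 (d : ℤ)).some ≪≫ eqToIso (if_pos ⟨le_rfl, Int.natCast_nonneg d⟩)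
  have e'' := eqToIso (if_pos (Int.natCast_nonneg d) : (if (0 : ℤ) ≤ (d : ℤ) then AddCommGrpCat.of (LocCohZ.HZc (Coh.toAb M) (d : ℤ).toNat U)
    else AddCommGrpCat.of PUnit.{u + 1}) = _).symm ≪≫ e'
  simp only [Int.toNat_natCast, Int.toNat_zero] at e''
  exact ⟨(e''.addCommGroupIsoToAddEquiv.trans (Groth.Agent.KoszulLim.hu0 _ ⊤)).symm⟩

end Groth.Agent.S14116
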