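import Groth.Statements.S14120
import Groth.Agent.H1DvrEft.Path
import Groth.Agent.Proj16.DVRCrit

set_option autoImplicit false
universe u
open CategoryTheory CategoryTheory.Limits AlgebraicGeometry
open ValCrit

namespace Groth.Agent.S14120

/-- For schemes, let every affine open of the base `S` have excellent coordinate ring, let `g : Y ⟶ S`
be locally of finite type and `f : X ⟶ Y` quasi-compact and locally of finite type. Then the
existence part of the valuative criterion for `f` over discrete valuation rings (every commutative
square `Spec K ⟶ X`, `Spec R ⟶ Y` with `R` a discrete valuation ring and `K` its fraction field has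
a lift `Spec R ⟶ X`) holds as soon as it holds for the squares whose ring `R` is essentially of
finite type over `S`, i.e. `Spec R ⟶ Y ⟶ S` factors through some affine open `U` of `S` by a ring
map `Γ(S, U) ⟶ R` that is essentially of finite type; and conversely. (The published statement is
for algebraic spaces and treats existence and uniqueness together; this row is the existence half
for schemes.) -/
theorem result (S : Scheme.{u})
    (hS : ∀ U : S.affineOpens, EGA4.IsExcellent Γ(S, U.1))
    {X Y : Scheme.{u}} (f : X ⟶ Y) (g : Y ⟶ S)
    [QuasiCompact f] [LocallyOfFiniteType f] [LocallyOfFiniteType g] :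
    (∀ sq : ValuativeCommSq f, IsDiscreteValuationRing sq.R → sq.commSq.HasLift) ↔
    (∀ sq : ValuativeCommSq f, IsDiscreteValuationRing sq.R →
      (∃ (U : S.affineOpens) (φ : Γ(S, U.1) ⟶ CommRingCat.of sq.R),
        Spec.map φ ≫ U.2.fromSpec = sq.i₂ ≫ g ∧ φ.hom.EssFiniteType) →
      sq.commSq.HasLift) := by
  refine ⟨fun H sq h _ => H sq h, fun H sq _ => ?_⟩
  haveI := Groth.Agent.H1DvrEft.isLocallyNoetherian_of_excellent hS
  haveI : IsLocallyNoetherian Y := LocallyOfFiniteType.isLocallyNoetherian g
  haveI : UniversallyClosed f := by
    refine Groth.Agent.Proj16.universallyClosed_of_affineSpace f fun n => ?_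
    let π := 𝔸(ULift.{u} (Fin n); Y) ↘ Y
    refine (isClosedMap_iff_specializingMap _).mpr ?_
    intro x z hxz
    rcases eq_or_ne z ((pullback.snd f π) x) with rfl | hne
    · exact ⟨x, specializes_refl x, rfl⟩
    obtain ⟨A, h, hA, h1, h2, U, φ, hφ, hφ'⟩ :=
      Groth.Agent.H1DvrEft.exists_dvr_path_eft hS (π ≫ g) (pullback.snd f π) hxz hne
    let sq' : ValuativeCommSq f :=
      { R := A
        K := (pullback f π).residueField x
        i₁ := (pullback f π).fromSpecResidueField x ≫ pullback.fst f π
        i₂ := h ≫ π
        commSq := ⟨by
          change _ = Spec.map (CommRingCat.ofHom A.subtype) ≫ _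
          rw [Category.assoc, pullback.condition, reassoc_of% h2]⟩ }
    haveI := H sq' hA ⟨U, φ, by
      rw [hφ]
      simp [sq'], hφ'⟩
    let l : Spec (CommRingCat.of A) ⟶ X := sq'.commSq.lift
    have hl₁ : Spec.map (CommRingCat.ofHom A.subtype) ≫ l = (pullback f π).fromSpecResidueField x ≫ pullback.fst f π :=
      sq'.commSq.fac_left
    have hl₂ : l ≫ f = h ≫ π := sq'.commSq.fac_right
    let L : Spec (CommRingCat.of A) ⟶ pullback f π := pullback.lift l h hl₂
    have hgen : Spec.map (CommRingCat.ofHom A.subtype) ≫ L = (pullback f π).fromSpecResidueField x := by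
      apply pullback.hom_ext
      · rw [Category.assoc, pullback.lift_fst, hl₁]
      · rw [Category.assoc, pullback.lift_snd, h2]
    refine ⟨L (IsLocalRing.closedPoint A), ?_, ?_⟩
    · have hx' := (Scheme.fromSpecResidueField_apply x
        (IsLocalRing.closedPoint ((pullback f π).residueField x))).symm
      rw [← hgen, Scheme.Hom.comp_apply] at hx'
      exact (specializes_of_eq hx').trans ((IsLocalRing.specializes_closedPoint _).map L.continuous)
    · rw [← Scheme.Hom.comp_apply, pullback.lift_snd, h1]
  exact (UniversallyClosed.eq_valuativeCriterion.le _ _ f ‹_›).1 sq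

end Groth.Agent.S14120
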