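import Groth.Statements.S14121
import Groth.Agent.H1DvrEft.Path

set_option autoImplicit false
universe u
open CategoryTheory CategoryTheory.Limits AlgebraicGeometry
open ValCrit

namespace Groth.Agent.S14121

/-- For schemes, let every affine open of the base `S` have excellent coordinate ring, let `g : Y ⟶ S`
be locally of finite type and `f : X ⟶ Y` quasi-compact and locally of finite type. Then the
uniqueness part of the valuative criterion for `f` over discrete valuation rings (every commutative
square `Spec K ⟶ X`, `Spec R ⟶ Y` with `R` a discrete valuation ring and `K` its fraction field has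
at most one lift `Spec R ⟶ X`) holds as soon as it holds for the squares whose ring `R` is
essentially of finite type over `S`, i.e. `Spec R ⟶ Y ⟶ S` factors through some affine open `U` of
`S` by a ring map `Γ(S, U) ⟶ R` that is essentially of finite type; and conversely. (The published
statement is for algebraic spaces and treats existence and uniqueness together; this row is the
uniqueness half for schemes.) -/
theorem result (S : Scheme.{u})
    (hS : ∀ U : S.affineOpens, EGA4.IsExcellent Γ(S, U.1))
    {X Y : Scheme.{u}} (f : X ⟶ Y) (g : Y ⟶ S)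
    [QuasiCompact f] [LocallyOfFiniteType f] [LocallyOfFiniteType g] :
    (∀ sq : ValuativeCommSq f, IsDiscreteValuationRing sq.R → Subsingleton sq.commSq.LiftStruct) ↔
    (∀ sq : ValuativeCommSq f, IsDiscreteValuationRing sq.R →
      (∃ (U : S.affineOpens) (φ : Γ(S, U.1) ⟶ CommRingCat.of sq.R),
        Spec.map φ ≫ U.2.fromSpec = sq.i₂ ≫ g ∧ φ.hom.EssFiniteType) →
      Subsingleton sq.commSq.LiftStruct) := by
  refine ⟨fun H sq h _ => H sq h, fun H sq _ => ?_⟩
  haveI := Groth.Agent.H1DvrEft.isLocallyNoetherian_of_excellent hS
  haveI : IsLocallyNoetherian Y := LocallyOfFiniteType.isLocallyNoetherian g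
  haveI : IsLocallyNoetherian X := LocallyOfFiniteType.isLocallyNoetherian f
  haveI : IsLocallyNoetherian (pullback f f) :=
    LocallyOfFiniteType.isLocallyNoetherian (pullback.fst f f ≫ f)
  let Δ := pullback.diagonal f
  have hsp : SpecializingMap Δ := by
    intro x z hxz
    rcases eq_or_ne z (Δ x) with rfl | hne
    · exact ⟨x, specializes_refl x, rfl⟩
    obtain ⟨A, h, hA, h1, h2, U, φ, hφ, hφ'⟩ :=
      Groth.Agent.H1DvrEft.exists_dvr_path_eft hS (pullback.fst f f ≫ f ≫ g) Δ hxz hne
    have hgen1 : Spec.map (CommRingCat.ofHom A.subtype) ≫ h ≫ pullback.fst f f = X.fromSpecResidueField x := by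
      rw [reassoc_of% h2]; simp [Δ]
    have hgen2 : Spec.map (CommRingCat.ofHom A.subtype) ≫ h ≫ pullback.snd f f = X.fromSpecResidueField x := by
      rw [reassoc_of% h2]; simp [Δ]
    let sq' : ValuativeCommSq f :=
      { R := A
        K := X.residueField x
        i₁ := X.fromSpecResidueField x
        i₂ := h ≫ pullback.fst f f ≫ f
        commSq := ⟨by
          change _ = Spec.map (CommRingCat.ofHom A.subtype) ≫ _
          rw [reassoc_of% hgen1]⟩ }
    haveI : Subsingleton sq'.commSq.LiftStruct := H sq' hA ⟨U, φ, by
      rw [hφ]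
      simp [sq'], hφ'⟩
    let l₁ : sq'.commSq.LiftStruct := ⟨h ≫ pullback.fst f f, hgen1, Category.assoc _ _ _⟩
    let l₂ : sq'.commSq.LiftStruct := ⟨h ≫ pullback.snd f f, hgen2, by
      change (h ≫ pullback.snd f f) ≫ f = h ≫ pullback.fst f f ≫ f
      rw [Category.assoc, pullback.condition]⟩
    have heq : h ≫ pullback.fst f f = h ≫ pullback.snd f f :=
      congrArg CommSq.LiftStruct.l (Subsingleton.elim l₁ l₂)
    have hh : h = (h ≫ pullback.fst f f) ≫ Δ := by
      apply pullback.hom_ext
      · simp [Δ]
      · rw [Category.assoc, pullback.diagonal_snd, Category.comp_id, heq]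
    refine ⟨(h ≫ pullback.fst f f) (IsLocalRing.closedPoint A), ?_, ?_⟩
    · simp_rw [← Scheme.fromSpecResidueField_apply x (IsLocalRing.closedPoint (X.residueField x)), ← hgen1]
      exact (IsLocalRing.specializes_closedPoint _).map (h ≫ pullback.fst f f).continuous
    · rw [← Scheme.Hom.comp_apply, ← hh, h1]
  haveI : QuasiCompact Δ := inferInstance
  have hcl : IsClosedMap Δ := (isClosedMap_iff_specializingMap Δ).mpr hsp
  haveI : IsSeparated f := ⟨IsClosedImmersion.of_isPreimmersion _ hcl.isClosed_range⟩
  exact (IsSeparated.eq_valuativeCriterion.le _ _ f ‹_›).1 sq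

end Groth.Agent.S14121
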