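import Groth.Statements.S14122
import Mathlib

set_option autoImplicit false
universe u
open ValCrit

namespace Groth.Agent.S14122

/-- Let `R` be a discrete valuation ring with fraction field `K` and `g ∈ GL_N(K)` an element of finite
order. Then after passing to a finite extension `K'` of `K` and a discrete valuation ring `R'` of
`K'` dominating `R`, the element `g` becomes conjugate in `GL_N(K')` to an element of `GL_N(R')`.
(The published statement is that the classifying stack of `GL_N` over the integers satisfies a
valuative condition, for discrete valuation rings essentially of finite type over the integers, on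
extending finite-order generic automorphisms along nearby modifications; since vector bundles over a
discrete valuation ring are trivial, that condition is this conjugacy statement for such rings, and
this row states it for every discrete valuation ring, as the printed argument gives.) -/
theorem result
    (R : Type u) [CommRing R] [IsDomain R] [IsDiscreteValuationRing R]
    (K : Type u) [Field K] [Algebra R K] [IsFractionRing R K]
    (N : ℕ) (g : GL (Fin N) K) (hg : IsOfFinOrder g) :
    ∃ (R' : Type u) (_ : CommRing R') (_ : IsDomain R') (_ : IsDiscreteValuationRing R')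
      (K' : Type u) (_ : Field K') (_ : Algebra R' K') (_ : IsFractionRing R' K')
      (_ : Algebra R R') (_ : Algebra K K') (_ : Algebra R K')
      (_ : IsScalarTower R R' K') (_ : IsScalarTower R K K')
      (_ : Module.Finite K K') (_ : IsLocalHom (algebraMap R R'))
      (h : GL (Fin N) K') (g' : GL (Fin N) R'),
      h * Matrix.GeneralLinearGroup.map (algebraMap K K') g * h⁻¹ =
        Matrix.GeneralLinearGroup.map (algebraMap R' K') g' := by
  classical
  obtain ⟨m, hm, hgm⟩ := isOfFinOrder_iff_pow_eq_one.1 hg
  let act : GL (Fin N) K → (Fin N → K) →ₗ[K] (Fin N → K) := fun x => Matrix.mulVecLin (x : Matrix (Fin N) (Fin N) K)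
  let s : Set (Fin N → K) :=
    Set.range fun p : Fin m × Fin N => act (g ^ (p.1 : ℕ)) (Pi.single p.2 1)
  let L : Submodule R (Fin N → K) := Submodule.span R s
  have hmem : ∀ (i : ℕ) (j : Fin N), act (g ^ i) (Pi.single j 1) ∈ L := by
    intro i j
    rw [pow_eq_pow_mod i hgm]
    exact Submodule.subset_span ⟨(⟨i % m, Nat.mod_lt _ hm⟩, j), rfl⟩
  haveI : Submodule.IsLattice K L := by
    refine ⟨Submodule.fg_span (Set.finite_range _), ?_⟩
    rw [eq_top_iff, ← (Pi.basisFun K (Fin N)).span_eq, Submodule.span_le]
    rintro _ ⟨j, rfl⟩
    refine Submodule.subset_span ?_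
    have := hmem 0 j
    simpa [act] using this
  haveI : Module.Free R L := Submodule.IsLattice.free (K := K) L
  let b : Module.Basis (Fin N) R L := Module.finBasisOfFinrankEq R L
    (by rw [Submodule.IsLattice.finrank_of_pi (K := K) L, Fintype.card_fin])
  let B : Module.Basis (Fin N) K (Fin N → K) := b.extendOfIsLattice K
  let P : Matrix (Fin N) (Fin N) K := (Pi.basisFun K (Fin N)).toMatrix B
  haveI : Invertible P := (Pi.basisFun K (Fin N)).invertibleToMatrix B
  have hstab : ∀ x : GL (Fin N) K, (∀ (i : ℕ) (j : Fin N), act x (act (g ^ i) (Pi.single j 1)) ∈ L) →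
      ∃ M : Matrix (Fin N) (Fin N) R,
        (x : Matrix (Fin N) (Fin N) K) * P = P * M.map (algebraMap R K) := by
    intro x hx
    have hle : ∀ v ∈ L, act x v ∈ L := by
      intro v hv
      have : L ≤ L.comap ((act x).restrictScalars R) := by
        refine Submodule.span_le.2 ?_
        rintro _ ⟨p, rfl⟩
        exact hx p.1 p.2
      exact this hv
    refine ⟨Matrix.of fun i j => b.repr ⟨act x (b j), hle _ (b j).2⟩ i, ?_⟩
    ext i j
    have h := congrArg (fun v : L => (v : Fin N → K) i) (b.sum_repr ⟨act x (b j), hle _ (b j).2⟩)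
    simp only [Submodule.coe_sum, SetLike.val_smul, Finset.sum_apply, Pi.smul_apply,
      Algebra.smul_def, act, Matrix.mulVecLin_apply, Matrix.mulVec, dotProduct] at h
    simp only [Matrix.mul_apply, Matrix.map_apply, Matrix.of_apply, P,
      Module.Basis.toMatrix_apply, Pi.basisFun_repr, B, Module.Basis.extendOfIsLattice_apply]
    rw [← h]
    exact Finset.sum_congr rfl fun l _ => mul_comm _ _
  have hsucc : ∀ (i : ℕ) (j : Fin N) (x : GL (Fin N) K),
      act x (act (g ^ i) (Pi.single j 1)) = act (x * g ^ i) (Pi.single j 1) := by
    intro i j x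
    simp only [act, Matrix.mulVecLin_apply, Matrix.mulVec_mulVec]
    rfl
  obtain ⟨M, hM⟩ := hstab g fun i j => by rw [hsucc, ← pow_succ']; exact hmem _ j
  obtain ⟨M', hM'⟩ := hstab g⁻¹ fun i j => by
    rw [hsucc, show g⁻¹ * g ^ i = g ^ (m - 1 + i) by
      rw [pow_add]; congr 1
      exact inv_eq_of_mul_eq_one_left (by rw [← pow_succ, Nat.sub_add_cancel hm, hgm])]
    exact hmem _ j
  have hinj : Function.Injective (fun A : Matrix (Fin N) (Fin N) R => A.map (algebraMap R K)) :=
    Matrix.map_injective (IsFractionRing.injective R K)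
  have hmul : M * M' = 1 := by
    apply hinj
    dsimp only
    rw [Matrix.map_mul, Matrix.map_one _ (map_zero _) (map_one _)]
    have h1 : P * (M.map (algebraMap R K) * M'.map (algebraMap R K)) = P * 1 := by
      rw [← Matrix.mul_assoc, ← hM, Matrix.mul_assoc, ← hM', ← Matrix.mul_assoc, ← Units.val_mul,
        mul_inv_cancel, Units.val_one, Matrix.one_mul, Matrix.mul_one]
    have := congrArg (fun A => ⅟P * A) h1
    simpa [← Matrix.mul_assoc] using this
  let P' : GL (Fin N) K := unitOfInvertible P
  refine ⟨R, inferInstance, inferInstance, inferInstance, K, inferInstance, inferInstance,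
    inferInstance, Algebra.id R, Algebra.id K, inferInstance, inferInstance, inferInstance,
    inferInstance, ⟨fun a ha => by simpa using ha⟩, P'⁻¹,
    ⟨M, M', hmul, mul_eq_one_comm.1 hmul⟩, ?_⟩
  apply Units.ext
  rw [inv_inv, Units.val_mul, Units.val_mul]
  change (↑P'⁻¹ : Matrix (Fin N) (Fin N) K) * (g : Matrix (Fin N) (Fin N) K).map id * P
    = M.map (algebraMap R K)
  rw [Matrix.map_id, Matrix.mul_assoc, hM, ← Matrix.mul_assoc]
  change ((↑P'⁻¹ : Matrix (Fin N) (Fin N) K) * (P' : Matrix (Fin N) (Fin N) K)) * _ = _
  rw [← Units.val_mul, inv_mul_cancel, Units.val_one, Matrix.one_mul]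

end Groth.Agent.S14122
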