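import Groth.Statements.S14123
import Groth.Agent.S1987
import Mathlib

set_option autoImplicit false
universe u v
open GmQuot

namespace Groth.Agent.S14123

/-- Let `A = ⊕_{d ∈ ℤ} A_d` be a graded commutative ring whose ideal `I₊` generated by the homogeneous
elements of positive degree is finitely generated, `R` a discrete valuation ring with fraction field
`K`, and `φ : A → R` a ring map with `φ(I₊) ≠ 0` and `φ(I₊)` inside the maximal ideal. Then after a
finite extension `K'/K` and a discrete valuation ring `R'` of `K'` dominating `R` there are a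
nonzero non-unit `ϖ ∈ R'` and a ring map `g : A → R'` with `g(a) ϖ^d = φ(a)` for every homogeneous
`a` of degree `d` (so `g` is `φ` rescaled through the grading by `ϖ`), such that `g(I₊) R' = R'`.
(The published statement is phrased for the quotient stack of `Spec A` by the multiplicative group
and its closed substack cut out by `I₊`, in a setting where `A` is Noetherian, being of finite type
over a Noetherian base: an `R`-point whose closed point lies in that substack and whose generic
point does not admits, after a finite extension, an elementary modification avoiding the substack;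
this row is the graded-ring statement the printed argument proves, assuming only that `I₊` is
finitely generated, which is all that argument uses, and with `ϖ` not required to be a uniformizer.) -/
theorem result
    {A : Type u} [CommRing A] (𝒜 : ℤ → AddSubgroup A) [GradedRing 𝒜]
    (hfg : (Ideal.span {a : A | ∃ d : ℤ, 0 < d ∧ a ∈ 𝒜 d}).FG)
    (R : Type v) [CommRing R] [IsDomain R] [IsDiscreteValuationRing R]
    (K : Type v) [Field K] [Algebra R K] [IsFractionRing R K]
    (φ : A →+* R)
    (hle : Ideal.map φ (Ideal.span {a : A | ∃ d : ℤ, 0 < d ∧ a ∈ 𝒜 d}) ≤ IsLocalRing.maximalIdeal R)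
    (hne : Ideal.map φ (Ideal.span {a : A | ∃ d : ℤ, 0 < d ∧ a ∈ 𝒜 d}) ≠ ⊥) :
    ∃ (R' : Type v) (_ : CommRing R') (_ : IsDomain R') (_ : IsDiscreteValuationRing R')
      (K' : Type v) (_ : Field K') (_ : Algebra R' K') (_ : IsFractionRing R' K')
      (_ : Algebra R R') (_ : Algebra K K') (_ : Algebra R K')
      (_ : IsScalarTower R R' K') (_ : IsScalarTower R K K')
      (_ : Module.Finite K K') (_ : IsLocalHom (algebraMap R R'))
      (ϖ : R') (g : A →+* R'),
      ϖ ≠ 0 ∧ ϖ ∈ IsLocalRing.maximalIdeal R' ∧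
      (∀ (d : ℤ) (a : A), a ∈ 𝒜 d →
        algebraMap R' K' (g a) * algebraMap R' K' ϖ ^ d = algebraMap R K' (φ a)) ∧
      Ideal.map g (Ideal.span {a : A | ∃ d : ℤ, 0 < d ∧ a ∈ 𝒜 d}) = ⊤ := by
  classical
  -- homogeneous generators
  set S : Set A := {a : A | ∃ d : ℤ, 0 < d ∧ a ∈ 𝒜 d} with hS
  obtain ⟨t, htS, ht⟩ : ∃ t : Finset A, ↑t ⊆ S ∧ Ideal.span S = Ideal.span (t : Set A) :=
    (Submodule.fg_span_iff_fg_span_finset_subset S).1 hfg
  choose! dg hdg using fun a (ha : a ∈ t) => htS ha
  obtain ⟨π, hπ⟩ := IsDiscreteValuationRing.exists_irreducible R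
  have hval : ∀ x : R, x ≠ 0 → ∃ (k : ℕ) (u : Rˣ), x = u * π ^ k := fun x hx =>
    IsDiscreteValuationRing.eq_unit_mul_pow_irreducible hx hπ
  choose! kk uu huu using hval
  have hne' : ∃ a ∈ t, φ a ≠ 0 := by
    by_contra h
    push_neg at h
    exact hne (by rw [Ideal.map_eq_bot_iff_le_ker, ht, Ideal.span_le]; exact fun a ha => h a ha)
  obtain ⟨a0, ha0, hmin⟩ := (t.filter fun a => φ a ≠ 0).exists_min_image
    (fun a => (kk (φ a) : ℚ) / (dg a : ℚ)) (by simpa [Finset.filter_nonempty_iff] using hne')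
  rw [Finset.mem_filter] at ha0
  obtain ⟨ha0t, ha0n⟩ := ha0
  obtain ⟨d0, hd0⟩ := Int.eq_ofNat_of_zero_le (hdg a0 ha0t).1.le
  have hd0pos : 0 < d0 := by have := (hdg a0 ha0t).1; omega
  have hk0 : 0 < kk (φ a0) := by
    rcases Nat.eq_zero_or_pos (kk (φ a0)) with h | h
    · exfalso
      have h1 : φ a0 ∈ IsLocalRing.maximalIdeal R :=
        hle (Ideal.mem_map_of_mem φ (Ideal.subset_span (htS ha0t)))
      have h2 : IsUnit (φ a0) := by
        rw [huu (φ a0) ha0n, h, pow_zero, mul_one]
        exact Units.isUnit _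
      exact (IsLocalRing.mem_maximalIdeal _).1 h1 h2
    · exact h
  let N := 2 * d0
  obtain ⟨-, hdom, hdvr, -, -, -⟩ := Groth.Agent.S1987.result R π hπ N (by omega)
  let R' := AdjoinRoot (Polynomial.X ^ N - Polynomial.C π : Polynomial R)
  letI : IsDomain R' := hdom
  letI : IsDiscreteValuationRing R' := hdvr
  let r : R' := AdjoinRoot.root _
  have hrN : r ^ N = algebraMap R R' π := by
    have := AdjoinRoot.eval₂_root (Polynomial.X ^ N - Polynomial.C π : Polynomial R)
    simp only [Polynomial.eval₂_sub, Polynomial.eval₂_pow, Polynomial.eval₂_X, Polynomial.eval₂_C,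
      sub_eq_zero] at this
    exact this
  have hinjR : Function.Injective (algebraMap R R') :=
    AdjoinRoot.of.injective_of_degree_ne_zero (by
      rw [Polynomial.degree_X_pow_sub_C (by omega)]
      exact_mod_cast (by omega : N ≠ 0))
  let K' := FractionRing R'
  let iR : R →+* K' := (algebraMap R' K').comp (algebraMap R R')
  have hiR : Function.Injective iR := (IsFractionRing.injective R' K').comp hinjR
  letI : Algebra K K' := (IsFractionRing.lift hiR : K →+* K').toAlgebra
  haveI : IsScalarTower R K K' := IsScalarTower.of_algebraMap_eq fun x => by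
    rw [IsScalarTower.algebraMap_apply R R' K']
    exact (IsFractionRing.lift_algebraMap hiR x).symm
  have hloc : IsLocalHom (algebraMap R R') := by
    refine ⟨fun x hx => ?_⟩
    haveI : Module.Finite R R' := (Polynomial.monic_X_pow_sub_C π (by omega : N ≠ 0)).finite_adjoinRoot
    by_contra hux
    obtain ⟨Q, hQ, hQm⟩ := Ideal.exists_ideal_over_maximal_of_isIntegral (S := R') (IsLocalRing.maximalIdeal R)
      (by rw [(RingHom.injective_iff_ker_eq_bot _).1 hinjR]; exact bot_le)
    exact hQ.ne_top (Q.eq_top_of_isUnit_mem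
      (Ideal.mem_comap.1 (hQm.ge ((IsLocalRing.mem_maximalIdeal x).2 hux))) hx)
  have hrm : r ∈ IsLocalRing.maximalIdeal R' := by
    haveI := hloc
    rw [IsLocalRing.mem_maximalIdeal]
    intro h
    have := h.pow N
    rw [hrN] at this
    exact hπ.not_isUnit (this.of_map (algebraMap R R'))
  have hr0 : r ≠ 0 := fun h => hπ.ne_zero (hinjR (by rw [← hrN, h, zero_pow (by omega), map_zero]))
  let ϖ : R' := r ^ (2 * kk (φ a0))
  have hϖ0 : ϖ ≠ 0 := pow_ne_zero _ hr0
  let w : K' := algebraMap R' K' ϖ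
  have hw : w ≠ 0 := (map_ne_zero_iff _ (IsFractionRing.injective R' K')).2 hϖ0
  let rho : K' := algebraMap R' K' r
  have hrho : rho ≠ 0 := (map_ne_zero_iff _ (IsFractionRing.injective R' K')).2 hr0
  -- the image of `φ` in `K'`
  let ψ : A →+* K' := iR.comp φ
  let G : ℤ → A → Prop := fun d a => ∃ b : R', algebraMap R' K' b * w ^ d = ψ a
  have hGadd : ∀ d x y, G d x → G d y → G d (x + y) := fun d x y ⟨b, hb⟩ ⟨c, hc⟩ =>
    ⟨b + c, by rw [map_add, map_add, add_mul, hb, hc]⟩
  have hGmul : ∀ d e x y, G d x → G e y → G (d + e) (x * y) := fun d e x y ⟨b, hb⟩ ⟨c, hc⟩ =>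
    ⟨b * c, by rw [map_mul, map_mul, zpow_add₀ hw, ← hb, ← hc]; ring⟩
  have hG0 : ∀ d, G d 0 := fun d => ⟨0, by rw [map_zero, map_zero, zero_mul]⟩
  have hGgen : ∀ a ∈ t, G (dg a) a ∧ (a = a0 → ∃ b : R', IsUnit b ∧ algebraMap R' K' b * w ^ dg a = ψ a) := by
    intro a ha
    by_cases h0 : φ a = 0
    · refine ⟨⟨0, by simp [ψ, h0]⟩, fun h => absurd (h ▸ h0) ha0n⟩
    obtain ⟨d, hd⟩ := Int.eq_ofNat_of_zero_le (hdg a ha).1.le
    have hdpos : 0 < d := by have := (hdg a ha).1; omega
    have hle' := hmin a (Finset.mem_filter.2 ⟨ha, h0⟩)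
    rw [hd, hd0, Int.cast_natCast, Int.cast_natCast, div_le_div_iff₀ (by exact_mod_cast hd0pos)
      (by exact_mod_cast hdpos)] at hle'
    have hnat : kk (φ a0) * d ≤ kk (φ a) * d0 := by exact_mod_cast hle'
    obtain ⟨e, he⟩ : ∃ e, N * kk (φ a) = e + 2 * kk (φ a0) * d :=
      ⟨N * kk (φ a) - 2 * kk (φ a0) * d, (Nat.sub_add_cancel (by
        show 2 * kk (φ a0) * d ≤ 2 * d0 * kk (φ a)
        rw [mul_assoc, mul_assoc, mul_comm d0]
        exact Nat.mul_le_mul_left 2 hnat)).symm⟩
    have hψ : ψ a = algebraMap R' K' (algebraMap R R' (uu (φ a)) * r ^ e) * w ^ dg a := by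
      rw [hd, zpow_natCast]
      show algebraMap R' K' (algebraMap R R' (φ a)) = _ * (algebraMap R' K' (r ^ (2 * kk (φ a0)))) ^ d
      rw [← map_pow, ← map_mul]
      congr 1
      have h1 : algebraMap R R' (φ a) = algebraMap R R' (uu (φ a)) * r ^ (N * kk (φ a)) := by
        conv_lhs => rw [huu (φ a) h0, map_mul, map_pow, ← hrN, ← pow_mul]
      have h2 : r ^ (N * kk (φ a)) = r ^ e * (r ^ (2 * kk (φ a0))) ^ d :=
        (congrArg (fun n => r ^ n) he).trans ((pow_add r e _).trans (congrArg (r ^ e * ·) (pow_mul r _ d)))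
      exact h1.trans ((congrArg (_ * ·) h2).trans (mul_assoc _ _ _).symm)
    refine ⟨⟨_, hψ.symm⟩, fun h => ⟨_, ?_, hψ.symm⟩⟩
    subst h
    have hdd : d = d0 := by omega
    have : e = 0 := by
      subst hdd
      have : N * kk (φ a) = 2 * kk (φ a) * d := by show 2 * d * kk (φ a) = _; ring
      omega
    rw [this, pow_zero, mul_one]
    exact (Units.isUnit _).map _
  have hneg : ∀ d : ℤ, d ≤ 0 → ∀ a, G d a := fun d hd a => by
    obtain ⟨m, hm⟩ := Int.eq_ofNat_of_zero_le (neg_nonneg.2 hd)
    refine ⟨algebraMap R R' (φ a) * ϖ ^ m, ?_⟩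
    rw [show d = -(m : ℤ) by omega, map_mul, map_pow, zpow_neg, zpow_natCast]
    show _ * w ^ m * (w ^ m)⁻¹ = _
    rw [mul_inv_cancel_right₀ (pow_ne_zero _ hw)]
    rfl
  have hG : ∀ n : ℕ, ∀ d : ℤ, d ≤ n → ∀ a ∈ 𝒜 d, G d a := by
    intro n
    induction n with
    | zero => exact fun d hd a _ => hneg d (by simpa using hd) a
    | succ n ih =>
      intro d hd a ha
      rcases le_or_gt d 0 with h0 | h0
      · exact hneg d h0 a
      have hmem : a ∈ Ideal.span (t : Set A) := ht ▸ Ideal.subset_span ⟨d, h0, ha⟩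
      suffices H : ∀ x ∈ Ideal.span (t : Set A), G d (DirectSum.decompose 𝒜 x d : A) by
        have := H a hmem
        rwa [DirectSum.decompose_of_mem_same 𝒜 ha] at this
      intro x hx
      refine Submodule.span_induction ?_ ?_ ?_ ?_ hx (p := fun x _ => ∀ c : A, G d (DirectSum.decompose 𝒜 (c * x) d : A))
        |> fun h => by simpa using h 1
      · intro y hy c
        have hy' := hdg y hy
        have h1 := DirectSum.coe_decompose_mul_add_of_right_mem 𝒜 (a := c) (i := d - dg y) hy'.2
        rw [sub_add_cancel] at h1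
        rw [h1]
        have h2 := hGmul _ _ _ _ (ih (d - dg y) (by omega) (DirectSum.decompose 𝒜 c (d - dg y) : A)
          (SetLike.coe_mem _)) (hGgen y hy).1
        rwa [sub_add_cancel] at h2
      · intro c
        simp only [mul_zero, DirectSum.decompose_zero, DirectSum.zero_apply, ZeroMemClass.coe_zero]
        exact hG0 d
      · intro x y _ _ hx hy c
        rw [mul_add, DirectSum.decompose_add, DirectSum.add_apply, AddMemClass.coe_add]
        exact hGadd d _ _ (hx c) (hy c)
      · intro s x _ hx c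
        rw [smul_eq_mul, ← mul_assoc]
        exact hx (c * s)
  have hG' : ∀ d, ∀ a : 𝒜 d, G d a := fun d a => hG d.toNat d (Int.self_le_toNat d) a a.2
  choose gf hgf using hG'
  have huniq : ∀ (d : ℤ) (b b' : R'), algebraMap R' K' b * w ^ d = algebraMap R' K' b' * w ^ d → b = b' :=
    fun d b b' h => IsFractionRing.injective R' K' (mul_right_cancel₀ (zpow_ne_zero d hw) h)
  let F : ∀ d, 𝒜 d →+ R' := fun d => AddMonoidHom.mk' (gf d) fun x y => huniq d _ _ (by
    rw [hgf, map_add, add_mul, hgf, hgf, AddMemClass.coe_add, map_add])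
  have hone : F 0 (GradedMonoid.GOne.one (A := fun d => 𝒜 d)) = 1 := huniq 0 _ _ (by
    show algebraMap R' K' (gf 0 _) * _ = _
    rw [hgf, map_one, one_mul, zpow_zero]
    exact map_one ψ)
  have hFmul : ∀ {i j} (x : 𝒜 i) (y : 𝒜 j), F _ (GradedMonoid.GMul.mul (A := fun d => 𝒜 d) x y) = F _ x * F _ y := fun {i j} x y =>
    huniq (i + j) _ _ (by
      show algebraMap R' K' (gf (i + j) _) * _ = algebraMap R' K' (gf i x * gf j y) * _
      rw [hgf, map_mul, zpow_add₀ hw, mul_mul_mul_comm, hgf, hgf, ← map_mul]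
      rfl)
  let g : A →+* R' := (DirectSum.toSemiring F hone hFmul).comp (DirectSum.decomposeRingEquiv 𝒜).toRingHom
  have hg : ∀ (d : ℤ) (a : A) (ha : a ∈ 𝒜 d), g a = gf d ⟨a, ha⟩ := fun d a ha => by
    show DirectSum.toSemiring F hone hFmul (DirectSum.decompose 𝒜 a) = _
    rw [DirectSum.decompose_of_mem 𝒜 ha]
    exact DirectSum.toSemiring_of F hone hFmul d ⟨a, ha⟩
  haveI : Module.Finite K K' := by
    haveI : Module.Finite R R' := (Polynomial.monic_X_pow_sub_C π (by omega : N ≠ 0)).finite_adjoinRoot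
    have hint : IsIntegral K rho := by
      refine ⟨Polynomial.X ^ N - Polynomial.C (algebraMap R K π), Polynomial.monic_X_pow_sub_C _ (by omega), ?_⟩
      rw [Polynomial.eval₂_sub, Polynomial.eval₂_pow, Polynomial.eval₂_X, Polynomial.eval₂_C,
        ← IsScalarTower.algebraMap_apply R K K', IsScalarTower.algebraMap_apply R R' K', ← hrN, map_pow, sub_self]
    haveI : Module.Finite K (Algebra.adjoin K {rho}) := Module.Finite.iff_fg.2 hint.fg_adjoin_singleton
    have hall : ∀ z : R', algebraMap R' K' z ∈ Algebra.adjoin K {rho} := fun z => by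
      induction z using AdjoinRoot.induction_on with
      | ih P =>
        rw [← AdjoinRoot.aeval_eq, ← Polynomial.aeval_algebraMap_apply, ← Polynomial.aeval_map_algebraMap K]
        exact Polynomial.aeval_mem_adjoin_singleton K rho
    have htop : Algebra.adjoin K {rho} = ⊤ := eq_top_iff.2 fun z _ => by
      obtain ⟨a, b, hb, rfl⟩ := IsFractionRing.div_surjective R' z
      rw [div_eq_mul_inv]
      refine mul_mem (hall a) ?_
      exact Subalgebra.inv_mem_of_algebraic _ (x := ⟨_, hall b⟩)
        (by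
          haveI : Algebra.IsIntegral K (Algebra.adjoin K {rho}) := Algebra.IsIntegral.of_finite _ _
          exact ((Algebra.IsIntegral.isIntegral (R := K) (⟨_, hall b⟩ : Algebra.adjoin K {rho})).map
            (Algebra.adjoin K {rho}).val).isAlgebraic)
    exact Module.Finite.equiv ((Subalgebra.equivOfEq _ _ htop).trans Subalgebra.topEquiv).toLinearEquiv
  refine ⟨R', inferInstance, hdom, hdvr, K', inferInstance, inferInstance, inferInstance, inferInstance,
    inferInstance, inferInstance, inferInstance, inferInstance, inferInstance, hloc, ϖ, g, hϖ0,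
    Ideal.pow_mem_of_mem _ hrm _ (by omega), fun d a ha => ?_, ?_⟩
  · rw [hg d a ha, hgf d ⟨a, ha⟩]
    exact (IsScalarTower.algebraMap_apply R R' K' (φ a)).symm
  · obtain ⟨b, hb, hb'⟩ := (hGgen a0 ha0t).2 rfl
    refine Ideal.eq_top_of_isUnit_mem _ (Ideal.mem_map_of_mem g (Ideal.subset_span ⟨dg a0, hdg a0 ha0t⟩)) ?_
    rw [hg (dg a0) a0 (hdg a0 ha0t).2, huniq (dg a0) _ b ((hgf (dg a0) ⟨a0, (hdg a0 ha0t).2⟩).trans hb'.symm)]
    exact hb

end Groth.Agent.S14123
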