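import Groth.Statements.S14128
import Groth.Agent.H1MinCx.Basic
import Groth.Agent.LC.GorRows
import Mathlib
set_option maxHeartbeats 1000000
set_option linter.style.haveILetI false
open ComplexShape HomologicalComplex

set_option autoImplicit false
universe u
open CategoryTheory CategoryTheory.Limits
open LocAlg

namespace Groth.Agent.S14128

/-- Let R be a regular local ring of Krull dimension g and M = (M^0 → M^1 → ⋯ → M^g) a perfect complex
over R, here a cochain complex of finitely generated free R-modules indexed by ℕ with M^i = 0 for i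
> g, such that every cohomology module H^i(M) has finite length. Then H^i(M) = 0 for all i < g, so
that M has cohomology at most in degree g. -/
theorem result (R : Type u) [CommRing R]
    [IsRegularLocalRing R] (g : ℕ) (hg : ringKrullDim R = g) (M : CochainComplex (ModuleCat.{u} R) ℕ)
    (hbd : ∀ i, g < i → IsZero (M.X i)) (hfree : ∀ i, Module.Free R (M.X i) ∧ Module.Finite R (M.X i))
    (hfl : ∀ i, IsFiniteLength R (M.homology i)) (i : ℕ) (hi : i < g) :
    IsZero (M.homology i) := by
  haveI := LC.gorenstein_of_isRegularLocalRing (R := R)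
  haveI hCM : LocCoh.IsCohenMacaulayLocalRing R := LC.isCohenMacaulayLocalRing_of_gorenstein
  have hdep : LocCoh.depth R R = (g : ℕ∞) := by
    have h := hCM.supportDim_eq_depth
    rw [Module.supportDim_self_eq_ringKrullDim, hg] at h
    exact (WithBot.coe_inj.1 h).symm
  let E := M.extend embeddingUpNat
  let C := E.restriction (embeddingUpIntLE (g : ℤ))
  have hzero : ∀ j, g < j → Limits.IsZero (C.X j) := fun j hj =>
    M.isZero_extend_X embeddingUpNat _ fun a h => by
      have h' : (a : ℤ) = (g : ℤ) - (j : ℤ) := h
      omega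
  let eX : ∀ j (_ : j ≤ g), C.X j ≅ M.X (g - j) := fun j hj =>
    M.extendXIso embeddingUpNat (show embeddingUpNat.f (g - j) = (embeddingUpIntLE (g : ℤ)).f j from
      show ((g - j : ℕ) : ℤ) = (g : ℤ) - (j : ℤ) by omega)
  have hfreeC : ∀ j, Module.Free R (C.X j) ∧ Module.Finite R (C.X j) := fun j => by
    by_cases hj : j ≤ g
    · haveI := (hfree (g - j)).1; haveI := (hfree (g - j)).2
      exact ⟨Module.Free.of_equiv (eX j hj).toLinearEquiv.symm, Module.Finite.equiv (eX j hj).toLinearEquiv.symm⟩
    · haveI := ModuleCat.subsingleton_of_isZero (hzero j (by omega))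
      exact ⟨inferInstance, inferInstance⟩
  let eH : ∀ j (_ : 1 ≤ j) (_ : j ≤ g), C.homology j ≅ M.homology (g - j) := fun j h1 h2 =>
    E.restrictionHomologyIso (embeddingUpIntLE (g : ℤ)) (j + 1) j (j - 1) (by simp) (ComplexShape.next_eq' _ (show j - 1 + 1 = j by omega))
      (i' := (g : ℤ) - j - 1) (j' := (g : ℤ) - j) (k' := (g : ℤ) - j + 1)
      (show (g : ℤ) - ((j + 1 : ℕ) : ℤ) = _ by omega) (show (g : ℤ) - (j : ℤ) = _ from rfl)
      (show (g : ℤ) - ((j - 1 : ℕ) : ℤ) = _ by omega)
      (by simp) (by simp) ≪≫
    M.extendHomologyIso embeddingUpNat (show ((g - j : ℕ) : ℤ) = (g : ℤ) - j by omega)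
  have hflC : ∀ j, 1 ≤ j → j ≤ g → IsFiniteLength R (C.homology j) := fun j h1 h2 =>
    (hfl (g - j)).of_injective (f := (eH j h1 h2).toLinearEquiv.toLinearMap) (LinearEquiv.injective _)
  have key : ∀ n j, g + 1 - j = n → 1 ≤ j → C.ExactAt j := by
    intro n
    induction n using Nat.strong_induction_on with
    | _ n ih =>
      intro j hn hj
      by_cases hjg : g < j
      · exact ExactAt.of_isZero (hzero j hjg)
      have habove : ∀ j', j < j' → C.ExactAt j' := fun j' hj' => by
        by_cases hj'g : g < j'
        · exact ExactAt.of_isZero (hzero j' hj'g)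
        · exact ih (g + 1 - j') (by omega) j' rfl (by omega)
      have hd := CAlgOdd.Acyclicity.depthGE_one_homology C g hzero
        (fun j hj t ht => H1MinCx.depthGE_X C g hfreeC hdep j t (by omega)) j habove hj
      rw [exactAt_iff_isZero_homology]
      haveI : Subsingleton (ModuleCat.of R (R ⧸ IsLocalRing.maximalIdeal R) ⟶ C.homology j) :=
        haveI := hd 0 one_pos
        CategoryTheory.Abelian.Ext.addEquiv₀.symm.subsingleton
      have hfl' := hflC j hj (by omega)
      rw [isFiniteLength_iff_isNoetherian_isArtinian] at hfl'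
      obtain ⟨-, _⟩ := hfl'
      by_contra hne
      haveI : Nontrivial (C.homology j) :=
        not_subsingleton_iff_nontrivial.1 fun _ => hne (ModuleCat.isZero_of_subsingleton _)
      obtain ⟨m, hm⟩ := IsAtomic.exists_atom (Submodule R (C.homology j))
      haveI : IsSimpleModule R m := isSimpleModule_iff_isAtom.2 hm
      obtain ⟨I, hI, ⟨e⟩⟩ := isSimpleModule_iff_quot_maximal.1 (inferInstance : IsSimpleModule R m)
      let g' : ModuleCat.of R (R ⧸ IsLocalRing.maximalIdeal R) ⟶ C.homology j := ModuleCat.ofHom (m.subtype ∘ₗ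
        (e.symm.toLinearMap ∘ₗ (Submodule.quotEquivOfEq _ _ (IsLocalRing.eq_maximalIdeal hI).symm).toLinearMap))
      have hg' : Function.Injective g'.hom :=
        m.injective_subtype.comp (e.symm.injective.comp (LinearEquiv.injective _))
      rw [Subsingleton.elim g' 0] at hg'
      exact one_ne_zero (hg' (a₁ := (1 : R ⧸ IsLocalRing.maximalIdeal R)) (a₂ := 0) rfl)
  refine Limits.IsZero.of_iso ((key _ (g - i) rfl (by omega)).isZero_homology) ?_
  exact (CategoryTheory.eqToIso (by rw [show g - (g - i) = i by omega])) ≪≫ (eH (g - i) (by omega) (by omega)).symm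

end Groth.Agent.S14128
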