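import Groth.Statements.S14130
import Groth.Agent.AVDualCx.Concentrated
import Groth.Agent.AVDualCx.Exists

set_option autoImplicit false
set_option backward.isDefEq.respectTransparency false
set_option backward.isDefEq.respectTransparency.types false
set_option maxHeartbeats 1000000
set_option linter.style.haveILetI false
universe u
open CategoryTheory CategoryTheory.Limits MonoidalCategory CartesianMonoidalCategory MonObj GrpObj AlgebraicGeometry
open AbVar

namespace Groth.Agent.S14130
open Groth.Agent CategoryTheory AlgebraicGeometry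
open scoped Groth.Agent.H23.PicMul

/-- Let k be an algebraically closed field, A an abelian variety over k (a proper smooth k-group scheme
with geometrically connected fibres), (A^t, φ) a given dual abelian variety of A for the fppf
topology with A^t an abelian variety, L an invertible O_A-module with an inverse L', and Λ a module
on A ×_k A isomorphic to the Mumford module m^*L ⊗ pr_1^*L' ⊗ pr_2^*L', whose class is assumed
algebraically trivial on every geometric fibre of the second projection. Let φ_L = φ(Λ) : A → A^t be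
the morphism classifying Λ (on points, x ↦ t_x^*L ⊗ L'), and assume L is non-degenerate in the sense
that φ_L is finite and flat, of constant rank d (so d is the order of its kernel K(L)). Then χ(A,
L)^2 = d. -/
theorem result (k : Type u) [Field k] [IsAlgClosed k]
    (A At : Over (Spec (CommRingCat.of k))) [GrpObj A] [IsProper A.hom] [Smooth A.hom] [GeometricallyConnected A.hom]
    [GrpObj At] [IsProper At.hom] [Smooth At.hom] [GeometricallyConnected At.hom]
    (φ : ∀ T : Over (Spec (CommRingCat.of k)), PicF.Cl (PicF.XT A.hom T) → (T ⟶ At))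
    (hφ : AbDual.IsDualAV Scheme.fppfPrecoverage A At φ)
    (L : A.left.Modules) (hL : PicF.IsInvertible L) (L' : A.left.Modules) (hL' : Nonempty (CohB1.tensorMod L L' ≅ Coh.structureModule A.left))
    (Λ : (PicF.XT A.hom A).Modules)
    (hΛ : Nonempty (Λ ≅ CohB1.tensorMod (CohB1.tensorMod ((Scheme.Modules.pullback μ[A].left).obj L)
      ((Scheme.Modules.pullback (fst A A).left).obj L')) ((Scheme.Modules.pullback (snd A A).left).obj L')))
    (hΛ0 : AbDual.IsPicZeroCl A.hom A (PicF.cl Λ))
    [IsFinite (φ A (PicF.cl Λ)).left] [Flat (φ A (PicF.cl Λ)).left]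
    (d : ℕ) (hd : ∀ y : ↥At.left, Scheme.Hom.finrank (φ A (PicF.cl Λ)).left y = d) :
    @Curv2.euler k _ A.left ⟨A.hom⟩ L ^ 2 = (d : ℤ) := by
  haveI : GeometricallyIntegral A.hom := AVDual.geometricallyIntegral_of_smooth A
  haveI : GeometricallyIntegral At.hom := AVDual.geometricallyIntegral_of_smooth At
  haveI : IsIntegral A.left := GeometricallyIntegral.isIntegral_of_subsingleton A.hom
  haveI : LocallyOfFiniteType A.hom := inferInstance
  obtain ⟨P, hP, hξ⟩ := AVDualCx.exists_poincare hφ
  obtain ⟨hP1, -⟩ := AVDual.poincare_axes hφ hξ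
  have hLL : PicF.cl L * PicF.cl L' = 1 :=
    (H23.PicMul.cl_tensor L L').symm.trans (H23.PicMul.cl_eq_iff.2 hL')
  refine AVDualCx.euler_sq hφ hP hξ hL hLL (φ A (PicF.cl Λ)) d hd ?_
  have hΛc : PicF.cl Λ = AVPair.pl μ[A] (PicF.cl L) * AVPair.pl (fst A A) (PicF.cl L') *
      AVPair.pl (snd A A) (PicF.cl L') := by
    rw [H23.PicMul.cl_eq_iff.2 hΛ, H23.PicMul.cl_tensor, H23.PicMul.cl_tensor]
    rfl
  rw [← hΛc]
  refine AVDual.eq_of_phi hφ (AVDual.pz_pl _ hξ.1) hΛ0 ?_ 1 ?_
  · rw [AVDual.phi_pl hφ _ hξ.1, hξ.2.1, Category.comp_id]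
  · generalize φ A (PicF.cl Λ) = lam
    rw [hΛc, map_mul, map_mul, AVPair.pl_pl, AVPair.pl_pl, AVPair.pl_pl, AVPair.pl_pl,
      show lift (1 : A ⟶ A) (𝟙 A) ≫ A ◁ lam = lam ≫ lift (1 : At ⟶ A) (𝟙 At) by
        ext <;> simp [MonObj.comp_one],
      ← AVPair.pl_pl, hP1, map_one, lift_fst, lift_snd,
      show lift (1 : A ⟶ A) (𝟙 A) ≫ μ[A] = 𝟙 A from _root_.one_mul (𝟙 A),
      AVPair.pl_id, AVPair.pl_id]
    obtain ⟨D, hD, ⟨u⟩⟩ := H23.PicInv.exists_inverse hL
    have hL'i : PicF.IsInvertibleCl (PicF.cl L') := by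
      refine ⟨D, ?_, hD⟩
      have h2 : PicF.cl L * PicF.cl D = 1 := by
        rw [← H23.PicMul.cl_tensor]; exact H23.PicMul.cl_eq_iff.2 ⟨u⟩
      exact (H23.PicMul.isUnit_cl hL).mul_left_cancel (h2.trans hLL.symm)
    rw [show (1 : A ⟶ A) = toUnit A ≫ η[A] from Hom.one_def, AVPair.pl_const hL'i, _root_.mul_one]
    exact hLL.symm

end Groth.Agent.S14130
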