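import Groth.Statements.S14131
import Groth.Agent.AVIndex.Concentration
import Groth.Agent.AVTheta8.Degen
import Groth.Agent.S14130

set_option autoImplicit false
set_option backward.isDefEq.respectTransparency false
set_option backward.isDefEq.respectTransparency.types false
set_option maxHeartbeats 1000000
set_option linter.style.haveILetI false
universe u
open CategoryTheory CategoryTheory.Limits MonoidalCategory CartesianMonoidalCategory MonObj GrpObj AlgebraicGeometry
open AbVar

namespace Groth.Agent.S14131
open Groth.Agent CategoryTheory AlgebraicGeometry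
open scoped Groth.Agent.H23.PicMul

/-- Let k be an algebraically closed field, A an abelian variety over k (a proper smooth k-group scheme
with geometrically connected fibres) of dimension g, (A^t, φ) a given dual abelian variety of A for
the fppf topology with A^t an abelian variety, L an invertible O_A-module with an inverse L', and Λ
a module on A ×_k A isomorphic to the Mumford module m^*L ⊗ pr_1^*L' ⊗ pr_2^*L', whose class is
assumed algebraically trivial on every geometric fibre of the second projection. Let φ_L = φ(Λ) : A
→ A^t and assume L non-degenerate in the sense that φ_L is finite and flat, of constant rank d. Then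
there is a natural number i ≤ g such that H^j(A, L) vanishes for all j ≠ i and the square of dim_k
H^i(A, L) equals d. (The published statement moreover writes the Fourier–Mukai transform of L as a
vector bundle on A^t placed in degree i; only the cohomological consequences are stated here.) -/
theorem result (k : Type u) [Field k] [IsAlgClosed k]
    (A At : Over (Spec (CommRingCat.of k))) [GrpObj A] [IsProper A.hom] [Smooth A.hom] [GeometricallyConnected A.hom]
    [GrpObj At] [IsProper At.hom] [Smooth At.hom] [GeometricallyConnected At.hom]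
    (φ : ∀ T : Over (Spec (CommRingCat.of k)), PicF.Cl (PicF.XT A.hom T) → (T ⟶ At))
    (hφ : AbDual.IsDualAV Scheme.fppfPrecoverage A At φ)
    (g : ℕ) (hg : topologicalKrullDim ↥A.left = g)
    (L : A.left.Modules) (hL : PicF.IsInvertible L) (L' : A.left.Modules) (hL' : Nonempty (CohB1.tensorMod L L' ≅ Coh.structureModule A.left))
    (Λ : (PicF.XT A.hom A).Modules)
    (hΛ : Nonempty (Λ ≅ CohB1.tensorMod (CohB1.tensorMod ((Scheme.Modules.pullback μ[A].left).obj L)
      ((Scheme.Modules.pullback (fst A A).left).obj L')) ((Scheme.Modules.pullback (snd A A).left).obj L')))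
    (hΛ0 : AbDual.IsPicZeroCl A.hom A (PicF.cl Λ))
    [IsFinite (φ A (PicF.cl Λ)).left] [Flat (φ A (PicF.cl Λ)).left]
    (d : ℕ) (hd : ∀ y : ↥At.left, Scheme.Hom.finrank (φ A (PicF.cl Λ)).left y = d) :
    ∃ i : ℕ, i ≤ g ∧ (∀ j : ℕ, j ≠ i → Subsingleton (Coh.HH A.left L j)) ∧
      @Module.finrank k (Coh.HH A.left L i) _ _ (@Coh.moduleOver k _ A.left ⟨A.hom⟩ L i) ^ 2 = d := by
  haveI : GeometricallyIntegral A.hom := AVDual.geometricallyIntegral_of_smooth A
  letI : A.left.Over (Spec (CommRingCat.of k)) := ⟨A.hom⟩
  have hsq : Curv2.euler k A.left L ^ 2 = (d : ℤ) := S14130.result k A At φ hφ L hL L' hL' Λ hΛ hΛ0 d hd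
  have hd0 : 0 < d := by
    obtain ⟨x⟩ : Nonempty A.left :=
      haveI : IsIntegral A.left := GeometricallyIntegral.isIntegral_of_subsingleton A.hom
      inferInstance
    have h1 := Scheme.Hom.one_le_finrank_map (φ A (PicF.cl Λ)).left x
    rw [hd] at h1
    exact h1
  have hne : Curv2.euler k A.left L ≠ 0 := fun h => by
    rw [h] at hsq
    have hd' : (d : ℤ) = 0 := by rw [← hsq]; norm_num
    omega
  have hLL : PicF.cl L * PicF.cl L' = 1 :=
    (H23.PicMul.cl_tensor L L').symm.trans (H23.PicMul.cl_eq_iff.2 hL')
  have hfin : (AVIndex.fixSet₀ L).Finite := by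
    by_contra h
    exact hne (AVTheta8.euler_eq_zero_of_degenerate hL
      (Set.Infinite.mono (fun x hx => H23.PicMul.cl_eq_iff.1 hx) h))
  obtain ⟨i, hi, hvan, -, -⟩ := AVIndex.exists_index hL hLL hfin hg
  refine ⟨i, hi, hvan, ?_⟩
  have he : Curv2.euler k A.left L = (-1 : ℤ) ^ i * (Module.finrank k (Coh.HH A.left L i) : ℤ) := by
    haveI : IsProper (A.left ↘ Spec (CommRingCat.of k)) := ‹IsProper A.hom›
    rw [Euler.euler_eq_sum k L (g + 1) (fun j hj => hvan j (by omega)),
      Finset.sum_eq_single i (fun j _ hj => by
        haveI := hvan j hj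
        rw [Module.finrank_zero_of_subsingleton, Nat.cast_zero, mul_zero])
      (fun h => absurd (Finset.mem_range.2 (by omega)) h)]
  rw [he, mul_pow, ← pow_mul, mul_comm i 2, pow_mul, neg_one_sq, one_pow, _root_.one_mul] at hsq
  exact_mod_cast hsq

end Groth.Agent.S14131
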