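import Groth.Statements.S14134
import Groth.Agent.AVFMTranslate.Class

set_option autoImplicit false
set_option backward.isDefEq.respectTransparency false
set_option backward.isDefEq.respectTransparency.types false
set_option maxHeartbeats 1000000
set_option linter.style.haveILetI false
universe u
open CategoryTheory CategoryTheory.Limits MonoidalCategory CartesianMonoidalCategory MonObj GrpObj AlgebraicGeometry
attribute [local instance] HasDerivedCategory.standard
open AbVar
open Groth.Agent Groth.Agent.AVFMTranslate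
attribute [local instance] HasDerivedCategory.standard
set_option backward.isDefEq.respectTransparency false
set_option backward.isDefEq.respectTransparency.types false
set_option maxHeartbeats 2000000

namespace Groth.Agent.S14134

/-- Let k be a field, A an abelian variety over k (a proper smooth k-group scheme with geometrically
connected fibres), (A^t, φ) a given dual abelian variety of A for the fppf topology with A^t an
abelian variety, P an invertible module on A ×_k A^t whose class is a Poincaré class, and x a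
k-rational point of A^t. Let M_x be the restriction of P along A = A × {x} → A ×_k A^t, and t_x :
A^t → A^t the translation by x (the product of the identity and the constant map x in the group
Hom(A^t, A^t)). Write Φ_P = Rpr_{2,*}(Lpr_1^*(−) ⊗^L P) : D(O_A) → D(O_{A^t}); the derived functors
involved are assumed to exist. Then, restricted to objects of D(O_A) with quasi-coherent cohomology
sheaves, the functor F ↦ Φ_P(F ⊗^L M_x) is isomorphic to F ↦ Lt_x^*Φ_P(F) (existence of an
isomorphism of functors). -/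
theorem result (k : Type u) [Field k]
    (A At : Over (Spec (CommRingCat.of k))) [GrpObj A] [IsProper A.hom] [Smooth A.hom] [GeometricallyConnected A.hom]
    [GrpObj At] [IsProper At.hom] [Smooth At.hom] [GeometricallyConnected At.hom]
    (φ : ∀ T : Over (Spec (CommRingCat.of k)), PicF.Cl (PicF.XT A.hom T) → (T ⟶ At))
    (hφ : AbDual.IsDualAV Scheme.fppfPrecoverage A At φ)
    (P : (pullback A.hom At.hom).Modules) (hP : PicF.IsInvertible P)
    (hPξ : AbDual.IsPoincareCl A At φ (PicF.cl P))
    (x : 𝟙_ (Over (Spec (CommRingCat.of k))) ⟶ At)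
    [DCoh.HasLpull (pullback.fst A.hom At.hom)] [DCoh.HasLTensorMod P] [DCoh.HasRpush (pullback.snd A.hom At.hom)]
    [DCoh.HasLTensorMod ((Scheme.Modules.pullback (CartesianMonoidalCategory.lift (𝟙 A) (toUnit A ≫ x)).left).obj P)]
    [DCoh.HasLpull (𝟙 At * (toUnit At ≫ x)).left] :
    Nonempty (ObjectProperty.ι (DCoh.IsQCohD (X := A.left)) ⋙
        DCoh.LTensorMod ((Scheme.Modules.pullback (CartesianMonoidalCategory.lift (𝟙 A) (toUnit A ≫ x)).left).obj P) ⋙
        (DCoh.Lpull (pullback.fst A.hom At.hom) ⋙ DCoh.LTensorMod P ⋙ DCoh.Rpush (pullback.snd A.hom At.hom)) ≅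
      ObjectProperty.ι (DCoh.IsQCohD (X := A.left)) ⋙ (DCoh.Lpull (pullback.fst A.hom At.hom) ⋙ DCoh.LTensorMod P ⋙ DCoh.Rpush (pullback.snd A.hom At.hom)) ⋙
        DCoh.Lpull (𝟙 At * (toUnit At ≫ x)).left) := by
  obtain ⟨c, hc⟩ : ∃ c : A ⟶ A ⊗ At, c = lift (𝟙 A) (toUnit A ≫ x) := ⟨_, rfl⟩
  let τ : At ⟶ At := 𝟙 At * (toUnit At ≫ x)
  let τ' : At ⟶ At := 𝟙 At * (toUnit At ≫ x⁻¹)
  haveI : GeometricallyIntegral At.hom := AVDual.geometricallyIntegral_of_smooth At
  haveI : IsCommMonObj At := isCommMonObj_of_isProper_of_geometricallyIntegral At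
  have h1 : τ ≫ τ' = 𝟙 At := trans_inv x
  have h2 : τ' ≫ τ = 𝟙 At := by
    have := trans_inv x⁻¹
    rwa [_root_.inv_inv] at this
  haveI : IsIso τ := ⟨τ', h1, h2⟩
  haveI hτ : IsIso τ.left := inferInstanceAs (IsIso ((Over.forget _).map τ))
  haveI hτ' : IsIso (A ◁ τ).left := inferInstanceAs (IsIso ((Over.forget _).map (A ◁ τ)))
  let a := Scheme.Modules.pullback (pullback.fst A.hom At.hom)
  let Mx := (Scheme.Modules.pullback (CartesianMonoidalCategory.lift (𝟙 A) (toUnit A ≫ x)).left).obj P
  have hMx : PicF.IsInvertible Mx := PicClLib.isInvertible_pullback _ hP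
  let t : At.left ⟶ At.left := τ.left
  let t' : pullback A.hom At.hom ⟶ pullback A.hom At.hom := (A ◁ τ).left
  haveI : IsIso t := hτ
  haveI : IsIso t' := hτ'
  have hfst : t' ≫ pullback.fst A.hom At.hom = pullback.fst A.hom At.hom :=
    congrArg CommaMorphism.left (whiskerLeft_fst A τ)
  have hsnd : t' ≫ pullback.snd A.hom At.hom = pullback.snd A.hom At.hom ≫ t :=
    congrArg CommaMorphism.left (whiskerLeft_snd A τ)
  obtain ⟨i1, i2⟩ := exact_pullback (pullback.fst A.hom At.hom)
  obtain ⟨i3, i4⟩ := exact_pullback t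
  obtain ⟨i5, i6⟩ := exact_pullback t'
  haveI := isEquivalence_tr hP
  haveI := isEquivalence_tr hMx
  haveI := isEquivalence_push t'
  haveI : (a ⋙ DCoh.tensorRightMod P).Additive := inferInstance
  let G := DCoh.tensorRightMod Mx ⋙ a ⋙ DCoh.tensorRightMod P
  let H := a ⋙ DCoh.tensorRightMod P ⋙ Scheme.Modules.pullback t'
  have hcl : Nonempty (CohB1.tensorMod (a.obj Mx) P ≅ (Scheme.Modules.pullback t').obj P) := by
    refine H23.PicMul.cl_eq_iff.1 ?_
    rw [H23.PicMul.cl_tensor]
    exact (pl_translate_snd hφ hPξ x).symm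
  obtain ⟨ecl⟩ := hcl
  let eGH : G ≅ H :=
    (Functor.associator _ _ _).symm ≪≫ Functor.isoWhiskerRight (trPull (pullback.fst A.hom At.hom) Mx) _ ≪≫
      Functor.associator _ _ _ ≪≫ Functor.isoWhiskerLeft a (trComp _ _ ≪≫ trCongr ecl) ≪≫
      Functor.isoWhiskerRight ((Scheme.Modules.pullbackCongr hfst).symm ≪≫
        (Scheme.Modules.pullbackComp t' (pullback.fst A.hom At.hom)).symm) _ ≪≫
      Functor.associator _ _ _ ≪≫ Functor.isoWhiskerLeft a (trPull t' P).symm
  obtain ⟨la⟩ := nonempty_lpull (pullback.fst A.hom At.hom)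
  obtain ⟨lt⟩ := nonempty_lpull t
  obtain ⟨lP⟩ := nonempty_ltensor P
  obtain ⟨lM⟩ := nonempty_ltensor Mx
  obtain ⟨ex⟩ := nonempty_rpush_exchange (pullback.snd A.hom At.hom) (pullback.snd A.hom At.hom)
    (Scheme.Modules.pushforward t') (Scheme.Modules.pullback t') (Scheme.Modules.pullback t) (pushPullAdj t')
    (pushSquareIso _ _ t' t hsnd)
  let R := DCoh.Rpush (pullback.snd A.hom At.hom)
  let eL : DCoh.LTensorMod Mx ⋙ (DCoh.Lpull (pullback.fst A.hom At.hom) ⋙ DCoh.LTensorMod P ⋙ R) ≅
      G.mapDerivedCategory ⋙ R :=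
    Functor.isoWhiskerRight lM _ ≪≫ Functor.isoWhiskerLeft _ (Functor.isoWhiskerRight la _ ≪≫
      Functor.isoWhiskerLeft _ (Functor.isoWhiskerRight lP R) ≪≫ (Functor.associator _ _ _).symm ≪≫
      Functor.isoWhiskerRight (compD a (DCoh.tensorRightMod P) (a ⋙ DCoh.tensorRightMod P) (Iso.refl _)) R) ≪≫
      (Functor.associator _ _ _).symm ≪≫ Functor.isoWhiskerRight (compD _ _ G (Iso.refl _)) R
  let eR : (DCoh.Lpull (pullback.fst A.hom At.hom) ⋙ DCoh.LTensorMod P ⋙ R) ⋙ DCoh.Lpull t ≅
      H.mapDerivedCategory ⋙ R :=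
    Functor.associator _ _ _ ≪≫ Functor.isoWhiskerRight la _ ≪≫
      Functor.isoWhiskerLeft _ (Functor.associator _ _ _ ≪≫ Functor.isoWhiskerRight lP _ ≪≫
        Functor.isoWhiskerLeft _ (Functor.isoWhiskerLeft R lt ≪≫ ex) ≪≫ (Functor.associator _ _ _).symm ≪≫
        Functor.isoWhiskerRight (compD _ _ (DCoh.tensorRightMod P ⋙ Scheme.Modules.pullback t') (Iso.refl _)) R) ≪≫
      (Functor.associator _ _ _).symm ≪≫ Functor.isoWhiskerRight (compD _ _ H (Iso.refl _)) R
  exact ⟨Functor.isoWhiskerLeft _ (eL ≪≫ Functor.isoWhiskerRight (congrD G H eGH) R ≪≫ eR.symm)⟩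

end Groth.Agent.S14134
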