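import Groth.Statements.S14135
import Groth.Agent.AVFMTranslate.Class
import Groth.Agent.FibSiteLib.DerivedRetract

set_option autoImplicit false
set_option backward.isDefEq.respectTransparency false
set_option backward.isDefEq.respectTransparency.types false
set_option maxHeartbeats 1000000
set_option linter.style.haveILetI false
universe u
open CategoryTheory CategoryTheory.Limits MonoidalCategory CartesianMonoidalCategory MonObj GrpObj AlgebraicGeometry
attribute [local instance] HasDerivedCategory.standard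
open AbVar
open Groth.Agent Groth.Agent.AVFMTranslate
open scoped Groth.Agent.H23.PicMul
attribute [local instance] HasDerivedCategory.standard
set_option backward.isDefEq.respectTransparency false
set_option backward.isDefEq.respectTransparency.types false
set_option maxHeartbeats 2000000

namespace Groth.Agent.S14135

/-- Let k be a field, A an abelian variety over k (a proper smooth k-group scheme with geometrically
connected fibres), (A^t, φ) a given dual abelian variety of A for the fppf topology with A^t an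
abelian variety, P an invertible module on A ×_k A^t whose class is a Poincaré class, and x a
k-rational point of A with translation t_x : A → A. Let N_{−x} be the restriction of P along A^t =
{−x} × A^t → A ×_k A^t, the line bundle on A^t attached to the point −x. Write Φ_P =
Rpr_{2,*}(Lpr_1^*(−) ⊗^L P) : D(O_A) → D(O_{A^t}); the derived functors involved are assumed to
exist. Then, restricted to objects of D(O_A) with quasi-coherent cohomology sheaves, the functor F ↦
Φ_P(Lt_x^*F) is isomorphic to F ↦ Φ_P(F) ⊗^L N_{−x} (existence of an isomorphism of functors). -/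
theorem result (k : Type u) [Field k]
    (A At : Over (Spec (CommRingCat.of k))) [GrpObj A] [IsProper A.hom] [Smooth A.hom] [GeometricallyConnected A.hom]
    [GrpObj At] [IsProper At.hom] [Smooth At.hom] [GeometricallyConnected At.hom]
    (φ : ∀ T : Over (Spec (CommRingCat.of k)), PicF.Cl (PicF.XT A.hom T) → (T ⟶ At))
    (hφ : AbDual.IsDualAV Scheme.fppfPrecoverage A At φ)
    (P : (pullback A.hom At.hom).Modules) (hP : PicF.IsInvertible P)
    (hPξ : AbDual.IsPoincareCl A At φ (PicF.cl P))
    (x : 𝟙_ (Over (Spec (CommRingCat.of k))) ⟶ A)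
    [DCoh.HasLpull (pullback.fst A.hom At.hom)] [DCoh.HasLTensorMod P] [DCoh.HasRpush (pullback.snd A.hom At.hom)]
    [DCoh.HasLpull (𝟙 A * (toUnit A ≫ x)).left]
    [DCoh.HasLTensorMod ((Scheme.Modules.pullback (CartesianMonoidalCategory.lift (toUnit At ≫ x⁻¹) (𝟙 At)).left).obj P)] :
    Nonempty (ObjectProperty.ι (DCoh.IsQCohD (X := A.left)) ⋙ DCoh.Lpull (𝟙 A * (toUnit A ≫ x)).left ⋙ (DCoh.Lpull (pullback.fst A.hom At.hom) ⋙ DCoh.LTensorMod P ⋙ DCoh.Rpush (pullback.snd A.hom At.hom)) ≅
      ObjectProperty.ι (DCoh.IsQCohD (X := A.left)) ⋙ (DCoh.Lpull (pullback.fst A.hom At.hom) ⋙ DCoh.LTensorMod P ⋙ DCoh.Rpush (pullback.snd A.hom At.hom)) ⋙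
        DCoh.LTensorMod ((Scheme.Modules.pullback (CartesianMonoidalCategory.lift (toUnit At ≫ x⁻¹) (𝟙 At)).left).obj P)) := by
  let τ : A ⟶ A := 𝟙 A * (toUnit A ≫ x)
  let τ' : A ⟶ A := 𝟙 A * (toUnit A ≫ x⁻¹)
  haveI : GeometricallyIntegral A.hom := AVDual.geometricallyIntegral_of_smooth A
  haveI : IsCommMonObj A := isCommMonObj_of_isProper_of_geometricallyIntegral A
  have h1 : τ ≫ τ' = 𝟙 A := trans_inv x
  have h2 : τ' ≫ τ = 𝟙 A := by
    have := trans_inv x⁻¹
    rwa [_root_.inv_inv] at this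
  haveI : IsIso τ := ⟨τ', h1, h2⟩
  haveI hτ : IsIso τ.left := inferInstanceAs (IsIso ((Over.forget _).map τ))
  haveI hτ' : IsIso (τ ▷ At).left := inferInstanceAs (IsIso ((Over.forget _).map (τ ▷ At)))
  let a := Scheme.Modules.pullback (pullback.fst A.hom At.hom)
  let Nx := (Scheme.Modules.pullback (CartesianMonoidalCategory.lift (toUnit At ≫ x⁻¹) (𝟙 At)).left).obj P
  have hNx : PicF.IsInvertible Nx := PicClLib.isInvertible_pullback _ hP
  let Nq := (Scheme.Modules.pullback (pullback.snd A.hom At.hom)).obj Nx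
  have hNq : PicF.IsInvertible Nq := PicClLib.isInvertible_pullback _ hNx
  let t : A.left ⟶ A.left := τ.left
  let t' : pullback A.hom At.hom ⟶ pullback A.hom At.hom := (τ ▷ At).left
  let t'' : pullback A.hom At.hom ⟶ pullback A.hom At.hom := (τ' ▷ At).left
  haveI : IsIso t := hτ
  haveI : IsIso t' := hτ'
  have hfst : t' ≫ pullback.fst A.hom At.hom = pullback.fst A.hom At.hom ≫ t :=
    congrArg CommaMorphism.left (whiskerRight_fst τ At)
  have hsnd : t' ≫ pullback.snd A.hom At.hom = pullback.snd A.hom At.hom :=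
    congrArg CommaMorphism.left (whiskerRight_snd τ At)
  have htt : t' ≫ t'' = 𝟙 _ := by
    refine (congrArg CommaMorphism.left ((comp_whiskerRight τ τ' At).symm.trans ?_)).trans (Over.id_left _)
    rw [h1]; exact id_whiskerRight A At
  obtain ⟨i1, i2⟩ := exact_pullback (pullback.fst A.hom At.hom)
  obtain ⟨i3, i4⟩ := exact_pullback t
  obtain ⟨i5, i6⟩ := exact_pullback t'
  haveI := isEquivalence_tr hP
  haveI := isEquivalence_tr hNx
  haveI := isEquivalence_tr hNq
  haveI := isEquivalence_push t'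
  obtain ⟨ecl⟩ : Nonempty ((Scheme.Modules.pullback t'').obj P ≅ CohB1.tensorMod P Nq) := by
    refine H23.PicMul.cl_eq_iff.1 ?_
    rw [H23.PicMul.cl_tensor, _root_.mul_comm]
    exact pl_translate_fst hφ hPξ x⁻¹
  let eP : (Scheme.Modules.pullback t').obj ((Scheme.Modules.pullback t'').obj P) ≅ P :=
    (Scheme.Modules.pullbackComp t' t'').app P ≪≫ (Scheme.Modules.pullbackCongr htt).app P ≪≫
      (Scheme.Modules.pullbackId _).app P
  let G := Scheme.Modules.pullback t ⋙ a ⋙ DCoh.tensorRightMod P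
  let H := a ⋙ DCoh.tensorRightMod P ⋙ DCoh.tensorRightMod Nq ⋙ Scheme.Modules.pullback t'
  let eGH : G ≅ H :=
    (Functor.associator _ _ _).symm ≪≫
      Functor.isoWhiskerRight (Scheme.Modules.pullbackComp _ _ ≪≫ (Scheme.Modules.pullbackCongr hfst).symm ≪≫
        (Scheme.Modules.pullbackComp t' (pullback.fst A.hom At.hom)).symm) _ ≪≫
      Functor.associator _ _ _ ≪≫
      Functor.isoWhiskerLeft a ((Functor.isoWhiskerLeft _ (trCongr eP)).symm ≪≫ (trPull t' _).symm ≪≫
        Functor.isoWhiskerRight (trCongr ecl ≪≫ (trComp P Nq).symm) _ ≪≫ Functor.associator _ _ _)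
  obtain ⟨la⟩ := nonempty_lpull (pullback.fst A.hom At.hom)
  obtain ⟨lt⟩ := nonempty_lpull t
  obtain ⟨lP⟩ := nonempty_ltensor P
  obtain ⟨lN⟩ := nonempty_ltensor Nx
  let R := DCoh.Rpush (pullback.snd A.hom At.hom)
  obtain ⟨ex1⟩ := nonempty_rpush_exchange (pullback.snd A.hom At.hom) (pullback.snd A.hom At.hom)
    (Scheme.Modules.pushforward t') (Scheme.Modules.pullback t') (𝟭 _) (pushPullAdj t')
    (Functor.rightUnitor _ ≪≫ (Functor.isoWhiskerRight (pullIsoPush t') _ ≪≫
      Scheme.Modules.pushforwardComp (inv t') _ ≪≫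
      Scheme.Modules.pushforwardCongr (by rw [IsIso.inv_comp_eq, hsnd])).symm)
  obtain ⟨eproj⟩ := nonempty_trPush (pullback.snd A.hom At.hom) hNx
  haveI : (DCoh.tensorRightMod Nq).asEquivalence.functor.Additive := inferInstanceAs ((DCoh.tensorRightMod Nq).Additive)
  haveI : (DCoh.tensorRightMod Nq).asEquivalence.inverse.Additive := Equivalence.inverse_additive _
  obtain ⟨ex2⟩ := nonempty_rpush_exchange (pullback.snd A.hom At.hom) (pullback.snd A.hom At.hom)
    (DCoh.tensorRightMod Nq).asEquivalence.inverse (DCoh.tensorRightMod Nq) (DCoh.tensorRightMod Nx)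
    (DCoh.tensorRightMod Nq).asEquivalence.symm.toAdjunction eproj
  let I1 := FibSiteLib.DerivedRetract.idIso At.left.Modules
  let eL : DCoh.Lpull t ⋙ (DCoh.Lpull (pullback.fst A.hom At.hom) ⋙ DCoh.LTensorMod P ⋙ R) ≅
      G.mapDerivedCategory ⋙ R :=
    Functor.isoWhiskerRight lt _ ≪≫ Functor.isoWhiskerLeft _ (Functor.isoWhiskerRight la _ ≪≫
      Functor.isoWhiskerLeft _ (Functor.isoWhiskerRight lP R) ≪≫ (Functor.associator _ _ _).symm ≪≫
      Functor.isoWhiskerRight (compD a (DCoh.tensorRightMod P) (a ⋙ DCoh.tensorRightMod P) (Iso.refl _)) R) ≪≫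
      (Functor.associator _ _ _).symm ≪≫ Functor.isoWhiskerRight (compD _ _ G (Iso.refl _)) R
  let eR : (DCoh.Lpull (pullback.fst A.hom At.hom) ⋙ DCoh.LTensorMod P ⋙ R) ⋙ DCoh.LTensorMod Nx ≅
      H.mapDerivedCategory ⋙ R :=
    Functor.associator _ _ _ ≪≫ Functor.isoWhiskerRight la _ ≪≫
      Functor.isoWhiskerLeft _ (Functor.associator _ _ _ ≪≫ Functor.isoWhiskerRight lP _ ≪≫
        Functor.isoWhiskerLeft _ (Functor.isoWhiskerLeft R lN ≪≫ ex2 ≪≫
          Functor.isoWhiskerLeft _ ((Functor.rightUnitor R).symm ≪≫ Functor.isoWhiskerLeft R I1.symm ≪≫ ex1) ≪≫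
          (Functor.associator _ _ _).symm ≪≫
          Functor.isoWhiskerRight (compD _ _ (DCoh.tensorRightMod Nq ⋙ Scheme.Modules.pullback t') (Iso.refl _)) R) ≪≫
        (Functor.associator _ _ _).symm ≪≫
        Functor.isoWhiskerRight (compD _ _ (DCoh.tensorRightMod P ⋙ DCoh.tensorRightMod Nq ⋙ Scheme.Modules.pullback t') (Iso.refl _)) R) ≪≫
      (Functor.associator _ _ _).symm ≪≫ Functor.isoWhiskerRight (compD _ _ H (Iso.refl _)) R
  exact ⟨Functor.isoWhiskerLeft _ (eL ≪≫ Functor.isoWhiskerRight (congrD G H eGH) R ≪≫ eR.symm)⟩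

end Groth.Agent.S14135
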