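import Groth.Statements.S14145
import Groth.Agent.AVIndex.Isogeny
import Groth.Agent.AVTheta8.AlgEq
import Groth.Agent.AVDegLib.MulN

set_option autoImplicit false
set_option backward.isDefEq.respectTransparency false
set_option backward.isDefEq.respectTransparency.types false
set_option maxHeartbeats 1000000
set_option linter.style.haveILetI false
universe u
open CategoryTheory CategoryTheory.Limits MonoidalCategory CartesianMonoidalCategory MonObj GrpObj AlgebraicGeometry
open AbVar

namespace Groth.Agent.S14145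
open Groth.Agent CategoryTheory AlgebraicGeometry MonoidalCategory CartesianMonoidalCategory MonObj
open scoped Groth.Agent.H23.PicMul
set_option backward.isDefEq.respectTransparency false
set_option backward.isDefEq.respectTransparency.types false
set_option maxHeartbeats 1000000

/-- Let k be an algebraically closed field, A an abelian variety over k (a proper smooth k-group scheme
with geometrically connected fibres) and L an invertible O_A-module which is non-degenerate: only
finitely many k-rational points x satisfy t_x^*L ≅ L. Then for every m ≥ 1 the index of L^{⊗m²}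
equals that of L: for each j, H^j(A, L) vanishes if and only if H^j(A, L^{⊗m²}) vanishes. (The
published statement is for every power L^n, n > 0; the printed proof treats n a perfect square, the
case stated here.) -/
theorem result (k : Type u) [Field k] [IsAlgClosed k]
    (A : Over (Spec (CommRingCat.of k))) [GrpObj A] [IsProper A.hom] [Smooth A.hom] [GeometricallyConnected A.hom]
    (L : A.left.Modules) (hL : PicF.IsInvertible L) (hnd : (Set.Finite {x : 𝟙_ (Over (Spec (CommRingCat.of k))) ⟶ A |
      Nonempty ((Scheme.Modules.pullback (𝟙 A * (toUnit A ≫ x)).left).obj L ≅ L)}))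
    (m : ℕ) (hm : 0 < m) (j : ℕ) :
    Subsingleton (Coh.HH A.left L j) ↔ Subsingleton (Coh.HH A.left (CohB1.tensorPow L (m ^ 2)) j) := by
  haveI : GeometricallyIntegral A.hom := AVDual.geometricallyIntegral_of_smooth A
  haveI : IsCommMonObj A := isCommMonObj_of_isProper_of_geometricallyIntegral A
  haveI := AVDegLib.isMonHom_pow (A := A) m
  haveI := AVMulN.isFinite_pow (A := A) m hm
  haveI := AVMulN.surjective_pow (A := A) m hm
  haveI := AVDegLib.flat_pow (A := A) m hm
  set φ : A ⟶ A := 𝟙 A ^ m with hφdef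
  have hfin : (AVIndex.fixSet₀ L).Finite := hnd.subset fun x hx => H23.PicMul.cl_eq_iff.1 hx
  let N := (Scheme.Modules.pullback φ.left).obj L
  have hN : PicF.IsInvertible N := PicClLib.isInvertible_pullback _ hL
  -- the difference between `[m]^* L` and `L ^ (m ^ 2)`
  let u : (PicF.Cl A.left)ˣ := AVCube.pc hN (𝟙 A) / AVCube.pc hL (𝟙 A) ^ (m ^ 2)
  have hadd : ∀ (c : PicF.Cl A.left), H23.CubeAb.IsAdditive c → ∀ n : ℕ, 1 ≤ n →
      H23.CubeAb.F c (𝟙 A ^ n) = c ^ n := by
    intro c hc n hn
    induction n, hn using Nat.le_induction with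
    | base => rw [pow_one, pow_one]; exact AVPair.pl_id c
    | succ n _ ih =>
      rw [pow_succ, hc.apply, ih, pow_succ, show H23.CubeAb.F c (𝟙 A) = c from AVPair.pl_id c]
  have hu : ∀ b, H23.CubeAb.F (u : PicF.Cl A.left) (H23.CubeAb.tr b) = (u : PicF.Cl A.left) := fun b => by
    rw [show H23.CubeAb.F _ (H23.CubeAb.tr b) = _ from AVTheta8.F_units (H23.CubeAb.tr b) _]
    congr 1
    simp only [u, map_div, map_pow, AVCube.pull_pc, Category.comp_id]
    rw [div_eq_div_iff_div_eq_div]
    show AVTheta8.delta hN b = _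
    rw [← div_pow]
    show _ = AVTheta8.delta hL b ^ (m ^ 2)
    refine (AVTheta8.delta_pullback φ hL b).trans ?_
    rw [show b ≫ φ = b ^ m by rw [hφdef, MonObj.comp_pow, Category.comp_id], AVTheta8.delta_pow, map_pow]
    have h1 : Units.map (H23.PicMul.pullHom φ.left : PicF.Cl A.left →* PicF.Cl A.left) (AVTheta8.delta hL b) =
        AVTheta8.delta hL b ^ m := by
      ext
      rw [Units.val_pow_eq_pow_val, ← AVTheta8.F_units]
      exact hadd _ (AVTheta8.isAdditive_delta hL b) m hm
    rw [h1, ← pow_mul, pow_two]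
  obtain ⟨M, hMcl, hM⟩ : PicF.IsInvertibleCl ((u⁻¹ : (PicF.Cl A.left)ˣ) : PicF.Cl A.left) := by
    refine AVTheta8.isInvertibleCl_units ?_
    simp only [u, div_eq_mul_inv, Units.val_mul]
    refine H23.PicMul.isInvertibleCl_mul (PicClLib.isInvertibleCl_pullCl _ ⟨N, rfl, hN⟩) (AVTheta8.isInvertibleCl_units ?_)
    rw [Units.val_pow_eq_pow_val, AVCube.val_pc_id, ← H23.PicMul.cl_tensorPow]
    exact ⟨_, rfl, H23.PicMul.isInvertible_tensorPow hL _⟩
  have hMinv : ∀ b, H23.CubeAb.F (PicF.cl M) (H23.CubeAb.tr b) = PicF.cl M := fun b => by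
    rw [hMcl, show H23.CubeAb.F _ (H23.CubeAb.tr b) = _ from AVTheta8.F_units (H23.CubeAb.tr b) _, map_inv]
    congr 2
    exact Units.ext ((AVTheta8.F_units (H23.CubeAb.tr b) u).symm.trans (hu b))
  obtain ⟨a, ha⟩ := AVTheta8.exists_translate hN hM hMinv (AVIndex.finite_fixSet₀_pull φ hL hfin)
  have hcl : PicF.cl ((Scheme.Modules.pullback (H23.CubeAb.tr a).left).obj N) = PicF.cl (CohB1.tensorPow L (m ^ 2)) := by
    refine ha.trans ?_
    rw [hMcl, H23.PicMul.cl_tensorPow, ← AVCube.val_pc_id hN, ← AVCube.val_pc_id hL, ← Units.val_mul,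
      ← Units.val_pow_eq_pow_val]
    congr 1
    simp only [u, inv_div, div_mul_cancel]
  obtain ⟨e⟩ := H23.PicMul.cl_eq_iff.1 hcl
  haveI : IsIso (H23.CubeAb.tr a) := ⟨H23.CubeAb.tr a⁻¹, by rw [AVAmple.tr_tr, mul_inv_cancel, AVAmple.tr_one],
    by rw [AVAmple.tr_tr, inv_mul_cancel, AVAmple.tr_one]⟩
  haveI : IsIso (H23.CubeAb.tr a).left := (Over.forget _).map_isIso (H23.CubeAb.tr a)
  letI : A.left.Over (Spec (CommRingCat.of k)) := ⟨A.hom⟩
  haveI : IsProper (A.left ↘ Spec (CommRingCat.of k)) := ‹IsProper A.hom›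
  haveI : Coh.IsQCoh N := QCoh.isQCoh_of_isFinLocFree (H23.PullPush.isFinLocFree_of_isInvertible hN)
  rw [AVIndex.index_pull φ hL hfin j, ← AVTheta8.subsingleton_HH_pullback_iff (H23.CubeAb.tr a).left N j]
  exact ⟨AVIndex.subsingleton_HH_congr k e j, AVIndex.subsingleton_HH_congr k e.symm j⟩

end Groth.Agent.S14145
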