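import Groth.Statements.S14146
import Groth.Agent.AVFMTranslate.FlatBC
import Groth.Agent.AVFMTranslate.Class
import Groth.Agent.AVFieldDual.Polar

set_option autoImplicit false
set_option backward.isDefEq.respectTransparency false
set_option backward.isDefEq.respectTransparency.types false
set_option maxHeartbeats 1000000
set_option linter.style.haveILetI false
universe u
open CategoryTheory CategoryTheory.Limits MonoidalCategory CartesianMonoidalCategory MonObj GrpObj AlgebraicGeometry
attribute [local instance] HasDerivedCategory.standard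
open AbVar
open Groth.Agent Groth.Agent.AVFMTranslate
open scoped Groth.Agent.H23.PicMul
attribute [local instance] HasDerivedCategory.standard
set_option backward.isDefEq.respectTransparency false
set_option backward.isDefEq.respectTransparency.types false
set_option maxHeartbeats 2000000

namespace Groth.Agent.S14146

theorem isIso_shear {C : Type*} [Category C] [CartesianMonoidalCategory C] {A : C} [GrpObj A] :
    IsIso (lift μ[A] (snd A A)) := by
  have h : μ[A] = fst A A * snd A A := by rw [Hom.mul_def, lift_fst_snd, Category.id_comp]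
  refine ⟨lift (fst A A * (snd A A)⁻¹) (snd A A), ?_, ?_⟩
  · refine CartesianMonoidalCategory.hom_ext _ _ ?_ (by simp)
    rw [Category.assoc, lift_fst, MonObj.comp_mul, GrpObj.comp_inv, lift_fst, lift_snd, h, mul_inv_cancel_right,
      Category.id_comp]
  · refine CartesianMonoidalCategory.hom_ext _ _ ?_ (by simp)
    rw [Category.assoc, lift_fst, h, MonObj.comp_mul, lift_fst, lift_snd, inv_mul_cancel_right, Category.id_comp]

/-- Let k be an algebraically closed field, A an abelian variety over k (a proper smooth k-group scheme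
with geometrically connected fibres) with structure map a : A → Spec k, (A^t, φ) a given dual
abelian variety for the fppf topology with A^t an abelian variety, P an invertible module on A ×_k
A^t whose class is a Poincaré class, L an invertible O_A-module with an inverse L', and Λ a module
on A ×_k A isomorphic to the Mumford module m^*L ⊗ pr_1^*L' ⊗ pr_2^*L', whose class is assumed
algebraically trivial on every geometric fibre of the second projection. Let φ_L = φ(Λ) : A → A^t
and assume L non-degenerate in the sense that φ_L is finite and flat. Write Φ_P =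
Rpr_{2,*}(Lpr_1^*(−) ⊗^L P); the derived functors involved are assumed to exist. Then Lφ_L^*(Φ_P(L))
is isomorphic in D(O_A) to La^*(Ra_*L) ⊗^L L', that is, to RΓ(A, L) ⊗_k L^{-1} (existence of an
isomorphism). -/
theorem result (k : Type u) [Field k] [IsAlgClosed k]
    (A At : Over (Spec (CommRingCat.of k))) [GrpObj A] [IsProper A.hom] [Smooth A.hom] [GeometricallyConnected A.hom]
    [GrpObj At] [IsProper At.hom] [Smooth At.hom] [GeometricallyConnected At.hom]
    (φ : ∀ T : Over (Spec (CommRingCat.of k)), PicF.Cl (PicF.XT A.hom T) → (T ⟶ At))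
    (hφ : AbDual.IsDualAV Scheme.fppfPrecoverage A At φ)
    (P : (pullback A.hom At.hom).Modules) (hP : PicF.IsInvertible P)
    (hPξ : AbDual.IsPoincareCl A At φ (PicF.cl P))
    (L : A.left.Modules) (hL : PicF.IsInvertible L) (L' : A.left.Modules) (hL' : Nonempty (CohB1.tensorMod L L' ≅ Coh.structureModule A.left))
    (Λ : (PicF.XT A.hom A).Modules)
    (hΛ : Nonempty (Λ ≅ CohB1.tensorMod (CohB1.tensorMod ((Scheme.Modules.pullback μ[A].left).obj L)
      ((Scheme.Modules.pullback (fst A A).left).obj L')) ((Scheme.Modules.pullback (snd A A).left).obj L')))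
    (hΛ0 : AbDual.IsPicZeroCl A.hom A (PicF.cl Λ))
    [IsFinite (φ A (PicF.cl Λ)).left] [Flat (φ A (PicF.cl Λ)).left]
    [DCoh.HasLpull (pullback.fst A.hom At.hom)] [DCoh.HasLTensorMod P] [DCoh.HasRpush (pullback.snd A.hom At.hom)]
    [DCoh.HasLpull (φ A (PicF.cl Λ)).left] [DCoh.HasRpush A.hom] [DCoh.HasLpull A.hom] [DCoh.HasLTensorMod L'] :
    Nonempty ((DCoh.Lpull (φ A (PicF.cl Λ)).left).obj ((DCoh.Lpull (pullback.fst A.hom At.hom) ⋙ DCoh.LTensorMod P ⋙ DCoh.Rpush (pullback.snd A.hom At.hom)).obj (DCoh.inD A.left L)) ≅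
      (DCoh.LTensorMod L').obj ((DCoh.Lpull A.hom).obj ((DCoh.Rpush A.hom).obj (DCoh.inD A.left L)))) := by
  haveI : GeometricallyIntegral A.hom := AVDual.geometricallyIntegral_of_smooth A
  haveI : GeometricallyIntegral At.hom := AVDual.geometricallyIntegral_of_smooth At
  haveI : IsCommMonObj A := isCommMonObj_of_isProper_of_geometricallyIntegral A
  have hLL : PicF.cl L * PicF.cl L' = 1 := by
    rw [← H23.PicMul.cl_tensor]; exact H23.PicMul.cl_eq_iff.2 hL'
  have hinvL : PicF.IsInvertibleCl (PicF.cl L) := ⟨L, rfl, hL⟩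
  obtain ⟨D, hDcl, hD⟩ := AVField.isInvertibleCl_inv hinvL hLL
  have hL'i : PicF.IsInvertible L' := H23.PicMul.isInvertible_of_iso (H23.PicMul.cl_eq_iff.1 hDcl).some hD
  have hΛc : PicF.cl Λ = AVField.mum (PicF.cl L) (PicF.cl L') := by
    rw [H23.PicMul.cl_eq_iff.2 hΛ, H23.PicMul.cl_tensor, H23.PicMul.cl_tensor]
    rfl
  have hpl := AVField.pl_poincare_mum hφ hPξ hinvL hLL
  rw [← hΛc] at hpl
  generalize hlam : φ A (PicF.cl Λ) = lam at *
  let Ψ : pullback A.hom A.hom ⟶ pullback A.hom At.hom := (A ◁ lam).left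
  have hΨf : Ψ ≫ pullback.fst A.hom At.hom = pullback.fst A.hom A.hom :=
    congrArg CommaMorphism.left (whiskerLeft_fst A lam)
  have hΨs : Ψ ≫ pullback.snd A.hom At.hom = pullback.snd A.hom A.hom ≫ lam.left :=
    congrArg CommaMorphism.left (whiskerLeft_snd A lam)
  have hsq : IsPullback Ψ (pullback.snd A.hom A.hom) (pullback.snd A.hom At.hom) lam.left := by
    refine IsPullback.of_right ?_ hΨs (IsPullback.of_hasPullback A.hom At.hom)
    rw [hΨf, Over.w lam]
    exact IsPullback.of_hasPullback A.hom A.hom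
  haveI : Flat Ψ := MorphismProperty.of_isPullback hsq.flip inferInstance
  let σ : A ⊗ A ⟶ A ⊗ A := lift μ[A] (snd A A)
  haveI : IsIso σ := isIso_shear
  haveI hσi : IsIso σ.left := inferInstanceAs (IsIso ((Over.forget _).map σ))
  let s : pullback A.hom A.hom ⟶ pullback A.hom A.hom := σ.left
  haveI : IsIso s := hσi
  have hσs : s ≫ pullback.snd A.hom A.hom = pullback.snd A.hom A.hom :=
    congrArg CommaMorphism.left (lift_snd μ[A] (snd A A))
  obtain ⟨i1, i2⟩ := exact_pullback (pullback.fst A.hom At.hom)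
  obtain ⟨i3, i4⟩ := exact_pullback lam.left
  obtain ⟨i5, i6⟩ := exact_pullback Ψ
  obtain ⟨i7, i8⟩ := exact_pullback s
  obtain ⟨i9, i10⟩ := exact_pullback A.hom
  obtain ⟨i11, i12⟩ := exact_pullback (pullback.fst A.hom A.hom)
  let N := (Scheme.Modules.pullback (pullback.snd A.hom A.hom)).obj L'
  have hN : PicF.IsInvertible N := PicClLib.isInvertible_pullback _ hL'i
  haveI := isEquivalence_tr hP
  haveI := isEquivalence_tr hL'i
  haveI := isEquivalence_tr hN
  haveI := isEquivalence_push s
  haveI : (DCoh.tensorRightMod N).asEquivalence.functor.Additive := inferInstanceAs ((DCoh.tensorRightMod N).Additive)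
  haveI : (DCoh.tensorRightMod N).asEquivalence.inverse.Additive := Equivalence.inverse_additive _
  haveI := KFlatLib.hasRpush_scheme (pullback.snd A.hom A.hom)
  let M := (Scheme.Modules.pullback (pullback.fst A.hom At.hom)).obj L
  let M0 := (Scheme.Modules.pullback (pullback.fst A.hom A.hom)).obj L
  obtain ⟨e0⟩ : Nonempty ((Scheme.Modules.pullback Ψ).obj ((DCoh.tensorRightMod P).obj M) ≅
      (DCoh.tensorRightMod N).obj ((Scheme.Modules.pullback s).obj M0)) := by
    refine H23.PicMul.cl_eq_iff.1 ?_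
    show AVPair.pl (A ◁ lam) (PicF.cl (CohB1.tensorMod M P)) = PicF.cl (CohB1.tensorMod _ N)
    rw [H23.PicMul.cl_tensor, H23.PicMul.cl_tensor, map_mul, hpl, hΛc]
    show AVPair.pl (A ◁ lam) (AVPair.pl (fst A At) (PicF.cl L)) * _ =
      AVPair.pl σ (AVPair.pl (fst A A) (PicF.cl L)) * AVPair.pl (snd A A) (PicF.cl L')
    simp only [AVPair.pl_pl, whiskerLeft_fst, σ, lift_fst, AVField.mum]
    rw [← _root_.mul_assoc, ← _root_.mul_assoc, _root_.mul_comm (AVPair.pl (fst A A) (PicF.cl L)) (AVPair.pl μ[A] _),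
      _root_.mul_assoc (AVPair.pl μ[A] _), ← map_mul, hLL, map_one, _root_.mul_one]
  have hqM : Coh.IsQCoh ((DCoh.tensorRightMod P).obj M) :=
    ZeroSchX.isQCoh_inv (H23.PicMul.isInvertible_tensor (PicClLib.isInvertible_pullback _ hL) hP)
  obtain ⟨la⟩ := nonempty_lpull (pullback.fst A.hom At.hom)
  obtain ⟨lt⟩ := nonempty_lpull lam.left
  obtain ⟨lA⟩ := nonempty_lpull A.hom
  obtain ⟨lP⟩ := nonempty_ltensor P
  obtain ⟨lN⟩ := nonempty_ltensor L'
  obtain ⟨bc1⟩ := nonempty_flat_bc_single hsq hqM
  obtain ⟨bc2⟩ := nonempty_flat_bc_single (IsPullback.of_hasPullback A.hom A.hom) (ZeroSchX.isQCoh_inv hL)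
  obtain ⟨ea⟩ := nonempty_rpush_auto (pullback.snd A.hom A.hom) s hσs
  obtain ⟨eproj⟩ := nonempty_trPush (pullback.snd A.hom A.hom) hL'i
  obtain ⟨ex⟩ := nonempty_rpush_exchange (pullback.snd A.hom A.hom) (pullback.snd A.hom A.hom)
    (DCoh.tensorRightMod N).asEquivalence.inverse (DCoh.tensorRightMod N) (DCoh.tensorRightMod L')
    (DCoh.tensorRightMod N).asEquivalence.symm.toAdjunction eproj
  let R := DCoh.Rpush (pullback.snd A.hom A.hom)
  let R' := DCoh.Rpush (pullback.snd A.hom At.hom)
  exact ⟨(DCoh.Lpull lam.left).mapIso (R'.mapIso ((DCoh.LTensorMod P).mapIso (la.app _ ≪≫ singleD _ L) ≪≫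
        lP.app _ ≪≫ singleD _ M)) ≪≫
    lt.app _ ≪≫ bc1 ≪≫ R.mapIso ((DerivedCategory.singleFunctor _ 0).mapIso e0 ≪≫
      (singleD (DCoh.tensorRightMod N) _).symm) ≪≫
    (ex.app _).symm ≪≫
    (DCoh.tensorRightMod L').mapDerivedCategory.mapIso (R.mapIso (singleD _ M0).symm ≪≫ (ea.app _).symm ≪≫
      bc2.symm ≪≫ (lA.app _).symm) ≪≫
    (lN.app _).symm⟩

end Groth.Agent.S14146
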