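import Groth.Statements.S14152
import Groth.Agent.Lib.CurveTwist
import Groth.Agent.Lib.CurveCanonical

set_option autoImplicit false
universe u
open CategoryTheory CategoryTheory.Limits AlgebraicGeometry
open Curves

namespace Groth.Agent.S14152

/-- Let k be an algebraically closed field and C a smooth proper integral curve over k (proper and
smooth over k, integral, of dimension one) of genus g ≥ 1, where g = dim_k H^1(C, O_C). Then for
every natural number r ≤ g there is an invertible O_C-module L of degree r, the degree being χ(L) −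
χ(O_C), with dim_k H^0(C, L) = 1. (The published statement gives a non-empty open set of r-tuples of
points (x_i) with h^0(O(Σ x_i)) = 1 and is placed in a chapter working in characteristic 0; the
existence of one such divisor, stated here, is what the row records, and the printed argument does
not use the characteristic.) -/
theorem result (k : Type u) [Field k] [IsAlgClosed k]
    (X : Scheme.{u}) [X.Over (Spec (CommRingCat.of k))] [IsIntegral X]
    [IsProper (X ↘ Spec (CommRingCat.of k))] [Smooth (X ↘ Spec (CommRingCat.of k))]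
    (hdim : topologicalKrullDim ↥X = 1) (g : ℕ) (hg : Curv2.genus k X = g) (hg1 : 1 ≤ g)
    (r : ℕ) (hr : r ≤ g) :
    ∃ L : X.Modules, PicF.IsInvertible L ∧ Curv2.deg k X L 1 = (r : ℤ) ∧
      Module.finrank k (Coh.HH X L 0) = 1 := by
  obtain ⟨ω, μ, hω⟩ := CurveDuality.exists_isDualizing k (X := X) hdim
  induction r with
  | zero =>
    exact ⟨_, CurveDeg.isInvertible_structureModule, CurveDeg.deg_structureModule k,
      CurveCohLib.finrank_h0_eq_one k X⟩
  | succ r ih =>
    haveI := CurveCohLib.isNoetherian_of_proper (k := k) (X := X)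
    obtain ⟨L, hL, hd, h0⟩ := ih (by omega)
    obtain ⟨D, hD, hdD, ⟨e⟩⟩ := CurveDuality.exists_inverse_deg k hdim hL
    have hχ : ∀ {M : X.Modules}, PicF.IsInvertible M →
        (Module.finrank k (Coh.HH X M 0) : ℤ) - Module.finrank k (Coh.HH X M 1) =
          Curv2.deg k X M 1 + 1 - g := fun {M} hM => by
      have h := CurveRR.euler_eq_h0_sub_h1 k hdim.le
        (CurveStable.coh_of_free k (CurveStable.isFinLocFree_of_rank (InvEnd.isFinLocFreeOfRank_one hM))).1
      have h' : Curv2.deg k X M 1 = Curv2.euler k X M - (1 - (g : ℤ)) := by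
        unfold Curv2.deg
        rw [CurveRR.euler_structureModule k hdim.le, hg]
        push_cast
        ring
      rw [h', h]
      ring
    have h1 := CurveDuality.finrank_h1_eq k hω hdim hL e
    have hLe := hχ hL
    rw [h0, hd, h1] at hLe
    have hG : PicF.IsInvertible ((DCoh.tensorBi.obj D).obj ω) := InvX.isInvertible_tensorMod hD hω.inv
    have hG1 := InvEnd.isFinLocFreeOfRank_one hG
    obtain ⟨t, ht⟩ : ∃ t : Coh.HH X ((DCoh.tensorBi.obj D).obj ω) 0, t ≠ 0 := by
      haveI : Nontrivial (Coh.HH X ((DCoh.tensorBi.obj D).obj ω) 0) :=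
        Module.nontrivial_of_finrank_pos (R := k) (by omega)
      exact exists_ne 0
    obtain ⟨Z, hZ, hsur⟩ := CurveTwist.exists_finite_surjective k hdim hG1 _
      (CurveSpecial.homOfClass_ne_zero ht)
    obtain ⟨p, hp, hpZ⟩ := CurveTwist.exists_closed_notMem k hdim hZ
    have htw := (CurvePoint.finrank_twist p hp k hG1).2 fun v => by
      obtain ⟨y, hy⟩ := hsur p hpZ v
      obtain ⟨a, ha⟩ := CurveSection.homOfTop_stalk_eq_smul
        (Sheaf.H.equiv₀ (Coh.toAb ((DCoh.tensorBi.obj D).obj ω)) isTerminalTop t :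
          Γ((DCoh.tensorBi.obj D).obj ω, ⊤)) p y
      obtain ⟨c, hc⟩ := CurveTwist.exists_scalar k hp t a
      refine ⟨c • t, ?_⟩
      rw [show v = a • ((DCoh.tensorBi.obj D).obj ω).presheaf.germ ⊤ p trivial
        (Sheaf.H.equiv₀ (Coh.toAb ((DCoh.tensorBi.obj D).obj ω)) isTerminalTop t :
          Γ((DCoh.tensorBi.obj D).obj ω, ⊤)) from hy.symm.trans ha]
      exact hc
    have hP := CurvePoint.isInvertible_ptMod p hp k hdim
    have hD' : PicF.IsInvertible ((DCoh.tensorBi.obj D).obj (CurvePoint.ptMod p hp)) :=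
      InvX.isInvertible_tensorMod hD hP
    obtain ⟨L', hL', hdL', ⟨e'⟩⟩ := CurveDuality.exists_inverse_deg k hdim hD'
    have hdD' := CurveRR.deg_tensor k hdim hD hP
    rw [CurvePoint.deg_ptMod p hp k] at hdD'
    have hd' : Curv2.deg k X L' 1 = ((r + 1 : ℕ) : ℤ) := by push_cast; omega
    refine ⟨L', hL', hd', ?_⟩
    have h1' := CurveDuality.finrank_h1_eq k hω hdim hL' (CurveTensor.commIso _ _ ≪≫ e')
    rw [(CurveCohLib.hhEquiv (k := k)
      ((CurveRR.tensorCompIso D (CurvePoint.ptMod p hp)).symm.app ω ≪≫
        (DCoh.tensorBi.obj D).mapIso (CurveTensor.commIso (CurvePoint.ptMod p hp) ω) ≪≫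
        (CurveRR.tensorCompIso D ω).app (CurvePoint.ptMod p hp)) 0).finrank_eq] at h1'
    have hLe' := hχ hL'
    rw [hd', h1'] at hLe'
    push_cast at hLe'
    omega

end Groth.Agent.S14152
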