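import Groth.Statements.S14153
import Groth.Agent.AVThetaRed.Root
import Groth.Agent.Lib.AVDual
import Groth.Agent.AVFieldDual.Isogeny
import Groth.Agent.GrpSchLib.SmoothRegular
import Groth.Agent.S2821
import Groth.Agent.S1842
import Groth.Agent.Lib.AVMulN


set_option autoImplicit false
set_option backward.isDefEq.respectTransparency false
set_option backward.isDefEq.respectTransparency.types false
set_option maxHeartbeats 1000000
set_option linter.style.haveILetI false
universe u
open CategoryTheory CategoryTheory.Limits MonoidalCategory CartesianMonoidalCategory MonObj GrpObj AlgebraicGeometry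
open AbVar
open scoped Groth.Agent.H23.PicMul

namespace Groth.Agent.S14153

/-- Let k be an algebraically closed field of characteristic 0, A an abelian variety over k (a proper
smooth k-group scheme with geometrically connected fibres), (A^t, φ) a given dual abelian variety
for the fppf topology with A^t an abelian variety, L an ample invertible O_A-module with an inverse
L', and Λ a module on A ×_k A isomorphic to the Mumford module m^*L ⊗ pr_1^*L' ⊗ pr_2^*L', whose
class is assumed algebraically trivial on every geometric fibre of the second projection. Assume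
that φ_L = φ(Λ) : A → A^t is an isomorphism, i.e. L defines a principal polarization, and let s be a
nonzero global section of L with zero scheme Θ ⊆ A (the theta divisor). If Θ is irreducible then Θ
is reduced. -/
theorem result (k : Type u) [Field k] [IsAlgClosed k] [CharZero k]
    (A At : Over (Spec (CommRingCat.of k))) [GrpObj A] [IsProper A.hom] [Smooth A.hom] [GeometricallyConnected A.hom]
    [GrpObj At] [IsProper At.hom] [Smooth At.hom] [GeometricallyConnected At.hom]
    (φ : ∀ T : Over (Spec (CommRingCat.of k)), PicF.Cl (PicF.XT A.hom T) → (T ⟶ At))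
    (hφ : AbDual.IsDualAV Scheme.fppfPrecoverage A At φ)
    (L : A.left.Modules) (hLa : CohB1.IsAmple L) (L' : A.left.Modules) (hL' : Nonempty (CohB1.tensorMod L L' ≅ Coh.structureModule A.left))
    (Λ : (PicF.XT A.hom A).Modules)
    (hΛ : Nonempty (Λ ≅ CohB1.tensorMod (CohB1.tensorMod ((Scheme.Modules.pullback μ[A].left).obj L)
      ((Scheme.Modules.pullback (fst A A).left).obj L')) ((Scheme.Modules.pullback (snd A A).left).obj L')))
    (hΛ0 : AbDual.IsPicZeroCl A.hom A (PicF.cl Λ))
    [IsIso (φ A (PicF.cl Λ))]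
    (s : Coh.structureModule A.left ⟶ L) (hs : s ≠ 0)
    [IrreducibleSpace ↥(PicF2.zeroScheme L s).subscheme] :
    IsReduced (PicF2.zeroScheme L s).subscheme := by
  letI : IsCommMonObj A := by
    haveI : GeometricallyIntegral A.hom := AVDual.geometricallyIntegral_of_smooth A
    exact isCommMonObj_of_isProper_of_geometricallyIntegral A
  haveI : GeometricallyIntegral A.hom := AVDual.geometricallyIntegral_of_smooth A
  haveI : GeometricallyIntegral At.hom := AVDual.geometricallyIntegral_of_smooth At
  haveI : IsIntegral A.left := GeometricallyIntegral.isIntegral_of_subsingleton A.hom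
  have hU : ∀ x : A.left, UniqueFactorizationMonoid (A.left.presheaf.stalk x) := fun x =>
    haveI := GrpSchLib.isRegularLocalRing_stalk_of_smooth A.hom x
    (S2821.result (A.left.presheaf.stalk x)).2
  rcases AVThetaRed.isReduced_or_exists_root hU hLa.1 hs with h | ⟨M, n, hn, hM, hcl⟩
  · exact h
  exfalso
  obtain ⟨D, hD, ⟨eD⟩⟩ := H23.PicInv.exists_inverse hM
  have hMD : PicF.cl M * PicF.cl D = 1 := by
    rw [← H23.PicMul.cl_tensor]; exact H23.PicMul.cl_eq_iff.2 ⟨eD⟩
  have hLL : PicF.cl L * PicF.cl L' = 1 := by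
    rw [← H23.PicMul.cl_tensor]; exact H23.PicMul.cl_eq_iff.2 hL'
  have hcl' : PicF.cl L' = PicF.cl D ^ n := by
    refine (H23.PicMul.isUnit_cl hLa.1).mul_left_cancel (hLL.trans ?_)
    rw [hcl, ← mul_pow, hMD, one_pow]
  have hmum : PicF.cl Λ = AVField.mum (PicF.cl M) (PicF.cl D) ^ n := by
    rw [H23.PicMul.cl_eq_iff.2 hΛ, H23.PicMul.cl_tensor, H23.PicMul.cl_tensor]
    show AVPair.pl μ[A] (PicF.cl L) * AVPair.pl (fst A A) (PicF.cl L') * AVPair.pl (snd A A) (PicF.cl L') = _
    simp only [hcl, hcl', map_pow, AVField.mum, mul_pow]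
  have hinvM : PicF.IsInvertibleCl (PicF.cl M) := ⟨M, rfl, hM⟩
  have hz := AVField.pz_mum hinvM hMD
  have hpz : ∀ m : ℕ, AVDual.PZ A A (AVField.mum (PicF.cl M) (PicF.cl D) ^ m) := fun m => by
    have hinv : PicF.IsInvertibleCl (PicF.cl M ^ m) := by
      induction m with
      | zero => rw [pow_zero]; exact ⟨_, rfl, InvX.isInvertible_structureModule⟩
      | succ m ih => rw [pow_succ]; exact H23.PicMul.isInvertibleCl_mul ih hinvM
    have := AVField.pz_mum hinv (d := PicF.cl D ^ m) (by rw [← mul_pow, hMD, one_pow])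
    simpa only [AVField.mum, map_pow, mul_pow] using this
  let w := φ A (AVField.mum (PicF.cl M) (PicF.cl D))
  have hphi : ∀ m : ℕ, φ A (AVField.mum (PicF.cl M) (PicF.cl D) ^ m) = w ^ m := fun m => by
    induction m with
    | zero => rw [pow_zero, pow_zero]; exact AVDual.phi_one hφ A
    | succ m ih => rw [pow_succ, pow_succ, AVDual.phi_mul hφ (hpz m) hz, ih]
  haveI : IsMonHom w := AVField.isMonHom_phi_mum hφ hinvM hMD
  have hiso : IsIso (w ^ n) := by rw [← hphi, ← hmum]; infer_instance
  have hw : (𝟙 A ^ n) ≫ w = w ^ n := by rw [MonObj.pow_comp, Category.id_comp]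
  haveI : IsIso ((𝟙 A ^ n) ≫ w) := hw ▸ hiso
  obtain ⟨r, hr⟩ : ∃ r : A ⟶ A, (𝟙 A ^ n) ≫ r = 𝟙 A :=
    ⟨w ≫ inv ((𝟙 A ^ n) ≫ w), by rw [← Category.assoc]; exact IsIso.hom_inv_id _⟩
  obtain ⟨g, hg⟩ : ∃ g : ℕ, topologicalKrullDim ↥A.left = g :=
    ⟨_, VarDim.topologicalKrullDim_eq_deg_genericPoint A.hom⟩
  obtain ⟨hfin, hflat, hfr⟩ := S1842.result k A g hg (n : ℤ) (by omega)
  rw [zpow_natCast] at hfin hflat hfr
  haveI : IsSeparated r.left := by
    haveI : IsSeparated (r.left ≫ A.hom) := by rw [Over.w]; infer_instance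
    exact IsSeparated.of_comp r.left A.hom
  haveI : IsClosedImmersion (𝟙 A ^ n : A ⟶ A).left := by
    haveI : IsClosedImmersion ((𝟙 A ^ n : A ⟶ A).left ≫ r.left) := by
      rw [← Over.comp_left, hr, Over.id_left]; infer_instance
    exact IsClosedImmersion.of_comp _ r.left
  haveI : Surjective (𝟙 A ^ n : A ⟶ A).left := AVMulN.surjective_pow n (by omega)
  haveI : IsIso (𝟙 A ^ n : A ⟶ A).left := isIso_of_isClosedImmersion_of_surjective _
  obtain ⟨a⟩ : Nonempty A.left := inferInstance
  have h1 := hfr a
  rw [Scheme.Hom.finrank_eq_one_of_isIso, Int.natAbs_natCast] at h1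
  have hg0 : g = 0 := by
    by_contra hne
    have := Nat.one_lt_pow (show 2 * g ≠ 0 by omega) (show 1 < n by omega)
    simp at h1
    omega
  -- in dimension zero the zero scheme is empty
  obtain ⟨_, _, -, -, hloc⟩ := AVThetaRed.exists_exponent hU hLa.1 hs
  obtain ⟨U, hxU, f, hf, hI, -, -⟩ := hloc (AVThetaRed.ξ L s)
  refine (AVThetaRed.mem_support_iff hI hxU).1 AVThetaRed.ξ_mem ?_
  have hξ : AVThetaRed.ξ L s = genericPoint A.left := by
    have hd := VarDim.topologicalKrullDim_eq_deg_genericPoint A.hom
    rw [hg, hg0] at hd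
    have hd' : VarDim.deg A.hom (genericPoint A.left) = 0 := by exact_mod_cast hd.symm
    exact (VarDim.eq_of_specializes_of_deg_le A.hom (genericPoint_specializes _) (by omega)).symm
  haveI : IsFractionRing (A.left.presheaf.stalk (AVThetaRed.ξ L s)) A.left.functionField := inferInstance
  have hne := nonZeroDivisors.ne_zero (hf ⟨_, hxU⟩)
  have key : ∀ (x : A.left), x = genericPoint A.left → ∀ t : A.left.presheaf.stalk x, t ≠ 0 → IsUnit t := by
    rintro x rfl t ht
    exact (isUnit_iff_ne_zero (a := (t : A.left.functionField))).2 ht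
  exact key _ hξ _ hne

end Groth.Agent.S14153
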