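import Groth.Statements.S14155
import Groth.Agent.CurveExt.GenusOneStable

set_option autoImplicit false
universe u
open CategoryTheory CategoryTheory.Limits AlgebraicGeometry
open VBCurve

namespace Groth.Agent.S14155

/-- Let k be an algebraically closed field, X a smooth proper integral curve over k (proper and smooth
over k, integral, of dimension one) of genus one, i.e. dim_k H^1(X, O_X) = 1 (an elliptic curve once
a base point is chosen), and F a finite locally free O_X-module of rank r ≥ 1 which is
indecomposable (nonzero, and in any decomposition F ≅ F₁ ⊕ F₂ one summand is zero), of degree d =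
χ(F) − r·χ(O_X). Then F is stable — deg G · r < d · r' for every finite locally free submodule G of
F of rank r' ≥ 1 whose inclusion is not an isomorphism — if and only if gcd(d, r) = 1. (The
published corollary also identifies stability with simplicity in two senses; those equivalences are
not restated.) -/
theorem result (k : Type u) [Field k] [IsAlgClosed k]
    (X : Scheme.{u}) [X.Over (Spec (CommRingCat.of k))] [IsIntegral X]
    [IsProper (X ↘ Spec (CommRingCat.of k))] [Smooth (X ↘ Spec (CommRingCat.of k))]
    (hdim : topologicalKrullDim ↥X = 1) (hg : Curv2.genus k X = 1)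
    (r : ℕ) (hr : 0 < r) (F : X.Modules) (hF : FlatMod.IsFinLocFreeOfRank r F)
    (hind : ¬ IsZero F ∧ ∀ (F₁ F₂ : X.Modules), Nonempty (F ≅ F₁ ⊞ F₂) → IsZero F₁ ∨ IsZero F₂) :
    (∀ (G : X.Modules) (r' : ℕ) (i : G ⟶ F), Mono i → 0 < r' → FlatMod.IsFinLocFreeOfRank r' G → (¬ IsIso i) →
      Curv2.deg k X G r' * (r : ℤ) < Curv2.deg k X F r * (r' : ℤ)) ↔ Int.gcd (Curv2.deg k X F r) (r : ℤ) = 1 := by
  open Groth.Agent.CurveBundle Groth.Agent.CurveSlope Groth.Agent.CurveStable in
  haveI : ConnectedSpace X := inferInstance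
  have hO := Groth.Agent.CurveCohLib.finrank_h0_eq_one k X
  have hd := Groth.Agent.CurveSlope.deg_eq_dg k hF
  constructor
  · intro hst
    rw [hd]
    refine Groth.Agent.CurveExt.gcd_eq_one_of_stable k hdim hg hr hF fun G i hi hG h0 hlt => ?_
    haveI := hi
    have hniso : ¬ IsIso i := fun h => by
      haveI := h
      have := Groth.Agent.CurveSlope.rk_congr (asIso i)
      rw [Groth.Agent.CurveBundle.rk_eq hF] at this
      omega
    have h := hst G _ i hi h0 (Groth.Agent.CurveBundle.isFinLocFreeOfRank_rk hG) hniso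
    rwa [hd, Groth.Agent.CurveSlope.deg_eq_dg k (Groth.Agent.CurveBundle.isFinLocFreeOfRank_rk hG)] at h
  · intro hgcd G r' i hi hr' hG hniso
    haveI := hi
    have hGf := Groth.Agent.CurveStable.isFinLocFree_of_rank hG
    have hFc := Groth.Agent.CurveStable.coh_of_free k (Groth.Agent.CurveStable.isFinLocFree_of_rank hF)
    have hss := Groth.Agent.CurveExt.semistable_of_indecomposable k hO hdim hg hr hF hind.2 i hGf
      (by rw [Groth.Agent.CurveBundle.rk_eq hG]; exact hr')
    rw [Groth.Agent.CurveBundle.rk_eq hG] at hss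
    rw [Groth.Agent.CurveSlope.deg_eq_dg k hG, hd]
    refine lt_of_le_of_ne hss fun heq => ?_
    have hle : r' ≤ r := by
      have := Groth.Agent.CurveStable.rk_le_of_mono k i hFc
      rwa [Groth.Agent.CurveBundle.rk_eq hG, Groth.Agent.CurveBundle.rk_eq hF] at this
    rw [hd] at hgcd
    have hdvd : (r : ℤ) ∣ (r' : ℤ) :=
      (show IsCoprime (r : ℤ) (Groth.Agent.CurveSlope.dg k F) from
        (Int.isCoprime_iff_gcd_eq_one.2 hgcd).symm).dvd_of_dvd_mul_left
        ⟨Groth.Agent.CurveSlope.dg k G, by linarith⟩
    have hrr : r' = r := le_antisymm hle (Nat.le_of_dvd hr' (Int.natCast_dvd_natCast.1 hdvd))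
    have hlt := Groth.Agent.CurveStable.dg_lt_of_rk_eq k hdim.le i
      (Groth.Agent.CurveStable.coh_of_free k hGf) hFc
      (by rw [Groth.Agent.CurveBundle.rk_eq hG, Groth.Agent.CurveBundle.rk_eq hF, hrr]) hniso
    rw [hrr] at heq
    have := mul_lt_mul_of_pos_right hlt (show (0 : ℤ) < r by exact_mod_cast hr)
    linarith

end Groth.Agent.S14155
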