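import Groth.Statements.S14159
import Groth.Agent.AVFieldDual.Symm

set_option autoImplicit false
set_option backward.isDefEq.respectTransparency false
set_option backward.isDefEq.respectTransparency.types false
set_option maxHeartbeats 1000000
set_option linter.style.haveILetI false
universe u
open CategoryTheory CategoryTheory.Limits MonoidalCategory CartesianMonoidalCategory MonObj AlgebraicGeometry
open AgPol

namespace Groth.Agent.S14159
open Groth.Agent Groth.Agent.H23
open scoped Groth.Agent.H23.PicMul
set_option backward.isDefEq.respectTransparency false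
set_option backward.isDefEq.respectTransparency.types false

/-- Let S be a locally Noetherian scheme, A a projective abelian scheme over S of relative dimension g
with commutative group law, (At, φ) a commutative group scheme with data presenting it as the dual
of A for the fppf topology, ξ a Poincaré class on A ×_S At (normalised along the unit section of A)
and lam : A ⟶ At a polarisation. If L is a module on A whose isomorphism class is the pull back of ξ
along the graph (1, lam) : A ⟶ A ×_S At, then lam · lam (twice lam, in the group of A-valued points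
of At) is the homomorphism attached to L through φ. -/
theorem result (S : Scheme.{u}) [IsLocallyNoetherian S] (A At : Over S) [GrpObj A] [IsCommMonObj A]
    [GrpObj At] [IsCommMonObj At] (g : ℕ) (hA : AgPol.IsAbSch A g) (hproj : RelProj.IsProjective A.hom)
    (φ : AgPol.DualMap A At) (hdual : AbDual.IsDualAV Scheme.fppfPrecoverage A At φ)
    (ξ : PicF.Cl (PicF.XT A.hom At)) (hξ : AbDual.IsPoincareCl A At φ ξ)
    (lam : A ⟶ At) (hpol : AgPol.IsPolarization A At φ lam) (L : A.left.Modules)
    (hL : PicF.cl L = PicF.pullCl (pullback.lift (𝟙 A.left) (lam).left ((Category.id_comp A.hom).trans (Over.w (lam)).symm)) ξ) :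
    AgPol.IsLambda A At φ L (lam * lam) := by
  haveI := hA.proper
  haveI := hA.smooth
  haveI := hA.geomConnected
  haveI := hpol.1
  have hc : (PicF.cl L : PicF.Cl A.left) = AVBase.pb (lift (𝟙 A) lam) ξ := hL
  have hξi := AbDualBase.pz_invertible hξ.1
  have h2 := AVBase.mu_graph hdual hξ hpol 1
  rw [pow_one, Nat.mul_one, ← hc, pow_two] at h2
  have he : AVBase.pb (A ◁ (lam * lam)) ξ = AVBase.pb (A ◁ lam) ξ * AVBase.pb (A ◁ lam) ξ := by
    have h := AVBase.add_right hdual hξ (fst A A) (snd A A ≫ lam) (snd A A ≫ lam)
    have hw : ∀ v : A ⟶ At, AVBase.pb (A ◁ v) ξ = AVBase.pb (lift (fst A A) (snd A A ≫ v)) ξ := fun v => by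
      refine congrArg (fun m : A ⊗ A ⟶ A ⊗ At => AVBase.pb m ξ) ?_
      ext <;> simp
    rw [hw, hw, MonObj.comp_mul]
    exact h
  obtain ⟨N, hN, hNi⟩ := (PicClLib.isInvertibleCl_pullCl (A ◁ (lam * lam)).left hξi :
    PicF.IsInvertibleCl (AVBase.pb (A ◁ (lam * lam)) ξ))
  refine ⟨N, hNi, PicMul.cl_eq_iff.1 ?_, ?_⟩
  · refine (PicMul.cl_tensor _ _).trans ((congrArg (· * _) (PicMul.cl_tensor _ _)).trans ?_)
    show (PicF.cl N : PicF.Cl (A ⊗ A).left) * AVBase.pb (fst A A) (PicF.cl L) * AVBase.pb (snd A A) (PicF.cl L) =
      AVBase.pb μ[A] (PicF.cl L)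
    rw [h2, show (PicF.cl N : PicF.Cl (A ⊗ A).left) = AVBase.pb (A ◁ (lam * lam)) ξ from hN, he]
  · rw [show (PicF.cl N : PicF.Cl (A ⊗ A).left) = AVBase.pb (A ◁ (lam * lam)) ξ from hN]
    exact AVBase.phi_graph hdual hξ _

end Groth.Agent.S14159
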