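import Groth.Statements.S14160
import Groth.Agent.AVFieldDual.Symm

set_option autoImplicit false
set_option backward.isDefEq.respectTransparency false
set_option backward.isDefEq.respectTransparency.types false
set_option maxHeartbeats 1000000
set_option linter.style.haveILetI false
universe u
open CategoryTheory CategoryTheory.Limits MonoidalCategory CartesianMonoidalCategory MonObj AlgebraicGeometry
open AgPol

namespace Groth.Agent.S14160
open Groth.Agent Groth.Agent.H23
open scoped Groth.Agent.H23.PicMul
set_option backward.isDefEq.respectTransparency false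
set_option backward.isDefEq.respectTransparency.types false

/-- Let S be a locally Noetherian scheme, A a projective abelian scheme over S of relative dimension g
with commutative group law, (At, φ) a commutative group scheme with data presenting it as the dual
of A for the fppf topology, ξ a Poincaré class on A ×_S At, and k ≥ 1. If lam₁, lam₂ : A ⟶ At are
polarisations such that ξ pulls back to the same class on A along the graphs of lam₁ ^ k and of lam₂
^ k (powers in the group of A-valued points of At), then lam₁ = lam₂. (The published statement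
claims uniqueness among all homomorphisms into the dual; on the square E × E of an elliptic curve
with its product principal polarisation lam₀, the homomorphism α(x, y) = lam₀(y, −x) has lam₀ + α ≠
lam₀ while the graphs of k·lam₀ and k·(lam₀ + α) pull the Poincaré class back to isomorphic sheaves,
so this row asks lam₁, lam₂ to be polarisations, which is the case the printed argument covers; k =
0 is excluded since both pull backs are then along the unit section.) -/
theorem result (S : Scheme.{u}) [IsLocallyNoetherian S] (A At : Over S) [GrpObj A] [IsCommMonObj A]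
    [GrpObj At] [IsCommMonObj At] (g : ℕ) (hA : AgPol.IsAbSch A g) (hproj : RelProj.IsProjective A.hom)
    (φ : AgPol.DualMap A At) (hdual : AbDual.IsDualAV Scheme.fppfPrecoverage A At φ)
    (ξ : PicF.Cl (PicF.XT A.hom At)) (hξ : AbDual.IsPoincareCl A At φ ξ) (k : ℕ) (hk : 1 ≤ k)
    (lam₁ lam₂ : A ⟶ At) (h₁ : AgPol.IsPolarization A At φ lam₁) (h₂ : AgPol.IsPolarization A At φ lam₂)
    (heq : PicF.pullCl (pullback.lift (𝟙 A.left) (lam₁ ^ k).left ((Category.id_comp A.hom).trans (Over.w (lam₁ ^ k)).symm)) ξ = PicF.pullCl (pullback.lift (𝟙 A.left) (lam₂ ^ k).left ((Category.id_comp A.hom).trans (Over.w (lam₂ ^ k)).symm)) ξ) :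
    lam₁ = lam₂ := by
  haveI := hA.proper
  haveI := hA.smooth
  haveI := hA.geomConnected
  haveI := h₁.1
  haveI := h₂.1
  have hξi := AbDualBase.pz_invertible hξ.1
  have hc : AVBase.pb (lift (𝟙 A) (lam₁ ^ k)) ξ = AVBase.pb (lift (𝟙 A) (lam₂ ^ k)) ξ := heq
  have m₁ := AVBase.mu_graph hdual hξ h₁ k
  have m₂ := AVBase.mu_graph hdual hξ h₂ k
  rw [hc, m₂] at m₁
  have hu : ∀ p : A ⊗ A ⟶ A, IsUnit (AVBase.pb p (AVBase.pb (lift (𝟙 A) (lam₂ ^ k)) ξ)) := fun p =>
    PicMul.isUnit_of_isInvertibleCl (PicClLib.isInvertibleCl_pullCl _ (PicClLib.isInvertibleCl_pullCl _ hξi))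
  have he := (hu (fst A A)).mul_left_inj.1 ((hu (snd A A)).mul_left_inj.1 m₁)
  have hgr : ∀ lam : A ⟶ At, AVBase.pb (A ◁ lam) ξ ^ (2 * k) = AVBase.pb (A ◁ (lam ^ (2 * k))) ξ := fun lam => by
    have h := AVBase.pow_right hdual hξ (fst A A) (snd A A ≫ lam) (2 * k)
    have hw : ∀ v : A ⟶ At, AVBase.pb (A ◁ v) ξ = AVBase.pb (lift (fst A A) (snd A A ≫ v)) ξ := fun v => by
      refine congrArg (fun m : A ⊗ A ⟶ A ⊗ At => AVBase.pb m ξ) ?_
      ext <;> simp
    rw [hw, hw, MonObj.comp_pow]
    exact h.symm
  rw [hgr, hgr] at he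
  have hp : lam₂ ^ (2 * k) = lam₁ ^ (2 * k) :=
    (AVBase.phi_graph hdual hξ _).symm.trans ((congrArg (φ A) he).trans (AVBase.phi_graph hdual hξ _))
  refine mul_inv_eq_one.1 (AbDualBase.eq_one_of_geometric (lam₁ * lam₂⁻¹) ?_ fun Ω _ _ σ x => ?_)
  · rw [MonObj.comp_mul, GrpObj.comp_inv, IsMonHom.one_hom, IsMonHom.one_hom, mul_inv_cancel, Hom.one_def,
      toUnit_unique (toUnit (𝟙_ (Over S))) (𝟙 _), Category.id_comp]
  · obtain ⟨a, rfl⟩ := AVBase.div_points σ (2 * k) (by omega) x
    rw [MonObj.comp_mul, GrpObj.comp_inv, MonObj.pow_comp, MonObj.pow_comp, ← MonObj.comp_pow, ← MonObj.comp_pow, hp,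
      mul_inv_cancel]

end Groth.Agent.S14160
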