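import Groth.Statements.S14184
import Groth.Agent.S11878
import Groth.Agent.LocSymLib.Bridge

set_option autoImplicit false
universe u
open CategoryTheory AlgebraicGeometry
open LocSym

namespace Groth.Agent.S14184

set_option backward.isDefEq.respectTransparency false
set_option backward.isDefEq.respectTransparency.types false

/-- Let k be an algebraically closed field and X a smooth proper integral curve over k (structure
morphism c, dimension one); points are k-points and ord_x is the valuation at x. Let n ≥ 1, let Z be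
a finite set of points, let f₁, f₂ be nonzero rational functions and D₁, D₁′, D₂ divisors (finitely
supported integer-valued functions on points) with n·D₁ = div(f₁) + D₁′, D₁′ supported on Z, n·D₂ =
div(f₂), f₂ taking the value 1 at every point of Z, and div(f₁) and D₂ with disjoint supports. Let
v₁(x) ∈ kˣ be the value of f₁ at each point of the support of D₂ and v₂(x) ∈ kˣ the value of f₂ at
each point of the support of D₁. Then the quotient of ∏_x v₁(x)^{D₂(x)} by ∏_x v₂(x)^{D₁(x)} is an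
n-th root of unity: its n-th power is 1. (This quotient f₁(D₂)/f₂(D₁) is the generalised Weil
pairing of the classes of (D₁, D₁′, f₁) and D₂; the published statement also normalises f₁, f₂ at a
base point, which is not needed for this assertion.) -/
theorem result
    (k : Type u) [Field k] [IsAlgClosed k] (X : Scheme.{u}) [IsIntegral X]
    (c : X ⟶ Spec (CommRingCat.of k)) [IsProper c] [Smooth c] (hdim : topologicalKrullDim X = 1)
    (n : ℕ) (hn : 1 ≤ n) (Z : Finset (LocSym.Pt c))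
    (f₁ f₂ : X.functionField) (hf₁ : f₁ ≠ 0) (hf₂ : f₂ ≠ 0)
    (D₁ D₁' D₂ : LocSym.Pt c →₀ ℤ)
    (hD₁ : ∀ x : LocSym.Pt c, (n : ℤ) * D₁ x = x.ord f₁ + D₁' x) (hD₁' : D₁'.support ⊆ Z)
    (hD₂ : ∀ x : LocSym.Pt c, (n : ℤ) * D₂ x = x.ord f₂)
    (hf₂Z : ∀ x ∈ Z, LocSym.HasValueAt x f₂ 1)
    (hdisj : ∀ x : LocSym.Pt c, x.ord f₁ = 0 ∨ D₂ x = 0)
    (v₁ v₂ : LocSym.Pt c → kˣ)
    (hv₁ : ∀ x ∈ D₂.support, LocSym.HasValueAt x f₁ (v₁ x : k))
    (hv₂ : ∀ x ∈ D₁.support, LocSym.HasValueAt x f₂ (v₂ x : k)) :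
    ((D₂.prod fun x e => v₁ x ^ e) / (D₁.prod fun x e => v₂ x ^ e)) ^ n = 1 := by
  classical
  have hord : ∀ x : LocSym.Pt c, x.ord f₁ = 0 ∨ x.ord f₂ = 0 := fun x => by
    rcases hdisj x with h | h
    · exact Or.inl h
    · exact Or.inr (by rw [← hD₂ x, h, mul_zero])
  have h0 : ∀ x ∈ D₂.support, x.ord f₁ = 0 := fun x hx =>
    (hdisj x).resolve_right (Finsupp.mem_support_iff.1 hx)
  have hvf' : ∀ x : LocSym.Pt c, ∃ a : kˣ, (x ∈ D₂.support → a = v₁ x) ∧
      (x.ord f₁ = 0 → LocSym.HasValueAt x f₁ (a : k)) := fun x => by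
    by_cases hx : x ∈ D₂.support
    · exact ⟨v₁ x, fun _ => rfl, fun _ => hv₁ x hx⟩
    by_cases h : x.ord f₁ = 0
    · obtain ⟨a, ha⟩ := LocSymLib.exists_unit_value c hdim x hf₁ h
      exact ⟨a, fun h' => absurd h' hx, fun _ => ha⟩
    · exact ⟨1, fun h' => absurd h' hx, fun h' => absurd h' h⟩
  choose vf hvf1 hvf2 using hvf'
  have hvg' : ∀ x : LocSym.Pt c, ∃ a : kˣ, (x ∈ D₁.support → a = v₂ x) ∧ (x ∈ Z → a = 1) ∧
      (x.ord f₂ = 0 → LocSym.HasValueAt x f₂ (a : k)) := fun x => by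
    by_cases hx : x ∈ D₁.support
    · refine ⟨v₂ x, fun _ => rfl, fun hz => Units.ext ?_, fun _ => hv₂ x hx⟩
      exact LocSymLib.value_unique c hdim x (hv₂ x hx) (hf₂Z x hz)
    by_cases hz : x ∈ Z
    · exact ⟨1, fun h' => absurd h' hx, fun _ => rfl, fun _ => by simpa using hf₂Z x hz⟩
    by_cases h : x.ord f₂ = 0
    · obtain ⟨a, ha⟩ := LocSymLib.exists_unit_value c hdim x hf₂ h
      exact ⟨a, fun h' => absurd h' hx, fun h' => absurd h' hz, fun _ => ha⟩
    · exact ⟨1, fun h' => absurd h' hx, fun h' => absurd h' hz, fun h' => absurd h' h⟩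
  choose vg hvg1 hvg2 hvg3 using hvg'
  have key := Groth.Agent.S11878.result k X c hdim f₁ f₂ hf₁ hf₂ hord vf vg hvf2 hvg3
  have e2 : ∀ x : LocSym.Pt c, vf x ^ x.ord f₂ = (vf x ^ D₂ x) ^ n := fun x => by
    rw [← hD₂ x, mul_comm, zpow_mul, zpow_natCast]
  have e1 : ∀ x : LocSym.Pt c, vg x ^ x.ord f₁ = (vg x ^ D₁ x) ^ n := fun x => by
    have h1 : vg x ^ D₁' x = 1 := by
      by_cases hx : x ∈ D₁'.support
      · rw [hvg2 x (hD₁' hx), one_zpow]
      · rw [Finsupp.notMem_support_iff.1 hx, zpow_zero]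
    calc vg x ^ x.ord f₁ = vg x ^ x.ord f₁ * vg x ^ D₁' x := by rw [h1, mul_one]
      _ = vg x ^ ((n : ℤ) * D₁ x) := by rw [← zpow_add, ← hD₁ x]
      _ = (vg x ^ D₁ x) ^ n := by rw [mul_comm, zpow_mul, zpow_natCast]
  have p2 : ∏ᶠ x : LocSym.Pt c, (vf x ^ D₂ x) ^ n = (D₂.prod fun x e => v₁ x ^ e) ^ n := by
    rw [finprod_eq_prod_of_mulSupport_subset _ (s := D₂.support), Finset.prod_pow, Finsupp.prod]
    · exact congrArg (· ^ n) (Finset.prod_congr rfl fun x hx => by rw [hvf1 x hx])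
    · intro x hx
      by_contra h
      exact hx (by simp [Finsupp.notMem_support_iff.1 h])
  have p1 : ∏ᶠ x : LocSym.Pt c, (vg x ^ D₁ x) ^ n = (D₁.prod fun x e => v₂ x ^ e) ^ n := by
    rw [finprod_eq_prod_of_mulSupport_subset _ (s := D₁.support), Finset.prod_pow, Finsupp.prod]
    · exact congrArg (· ^ n) (Finset.prod_congr rfl fun x hx => by rw [hvg1 x hx])
    · intro x hx
      by_contra h
      exact hx (by simp [Finsupp.notMem_support_iff.1 h])
  rw [div_pow, div_eq_one, ← p1, ← p2, ← funext e1, ← funext e2]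
  exact key

end Groth.Agent.S14184
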