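import Groth.Statements.S14188
import Mathlib.AlgebraicGeometry.Morphisms.SchemeTheoreticallyDominant
import Mathlib.AlgebraicGeometry.Morphisms.Separated
import Mathlib.AlgebraicGeometry.FunctionField

set_option autoImplicit false
universe u
open CategoryTheory CategoryTheory.Limits AlgebraicGeometry
open FlatMor

namespace Groth.Agent.S14188

/-- Let T be an integral scheme with generic point η, let Y and Z be schemes flat over T with Z
separated over T, and let ψ : Y_η → Z be a T-morphism from the generic fibre Y_η = Y ×_T Spec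
O_{T,η} (equivalently, an η-morphism Y_η → Z_η). Let gr : Y_η → Y ×_T Z be the graph of ψ, the
morphism whose components are the projection Y_η → Y and ψ, and let Γ ⊆ Y ×_T Z be the
scheme-theoretic image of gr (the schematic closure of the graph). Then ψ extends to a T-morphism φ
: Y → Z, meaning that the composite Y_η → Y → Z is ψ, if and only if the composite of the inclusion
Γ → Y ×_T Z with the first projection is an isomorphism Γ ≅ Y. -/
theorem result (T Y Z : Scheme.{u}) [IsIntegral T]
    (pY : Y ⟶ T) (pZ : Z ⟶ T) [Flat pY] [Flat pZ] [IsSeparated pZ]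
    (ψ : pullback pY (T.fromSpecStalk (genericPoint T)) ⟶ Z)
    (hψ : ψ ≫ pZ = pullback.fst pY (T.fromSpecStalk (genericPoint T)) ≫ pY)
    (gr : pullback pY (T.fromSpecStalk (genericPoint T)) ⟶ pullback pY pZ)
    (hgr₁ : gr ≫ pullback.fst pY pZ = pullback.fst pY (T.fromSpecStalk (genericPoint T)))
    (hgr₂ : gr ≫ pullback.snd pY pZ = ψ) :
    (∃ φ : Y ⟶ Z, φ ≫ pZ = pY ∧ pullback.fst pY (T.fromSpecStalk (genericPoint T)) ≫ φ = ψ) ↔
      IsIso (gr.imageι ≫ pullback.fst pY pZ) := by
  let η := T.fromSpecStalk (genericPoint T)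
  haveI : Subsingleton ↥(Spec (T.presheaf.stalk (genericPoint T))) :=
    inferInstanceAs (Subsingleton (PrimeSpectrum (T.presheaf.stalk (genericPoint T))))
  haveI : QuasiCompact η :=
    quasiCompact_iff_forall_isAffineOpen.2 fun _ _ => Set.Subsingleton.isCompact (Set.subsingleton_of_subsingleton)
  haveI : IsDominant η := ⟨by
    rw [DenseRange, dense_iff_closure_eq, ← Set.univ_subset_iff, ← genericPoint_closure T]
    exact closure_mono (Set.singleton_subset_iff.2 (T.range_fromSpecStalk.symm ▸ specializes_rfl))⟩
  haveI : IsSchemeTheoreticallyDominant η := .of_isDominant η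
  let a := pullback.fst pY η
  haveI : IsSchemeTheoreticallyDominant a := inferInstance
  haveI : QuasiCompact a := inferInstance
  constructor
  · rintro ⟨φ, hφ, hφψ⟩
    let s : Y ⟶ pullback pY pZ := pullback.lift (𝟙 Y) φ (by rw [Category.id_comp, hφ])
    have hs : s ≫ pullback.fst pY pZ = 𝟙 Y := pullback.lift_fst _ _ _
    haveI : IsClosedImmersion s := by
      haveI : IsClosedImmersion (s ≫ pullback.fst pY pZ) := by rw [hs]; infer_instance
      exact IsClosedImmersion.of_comp s (pullback.fst pY pZ)
    have hgr : gr = a ≫ s := by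
      refine pullback.hom_ext ?_ ?_
      · rw [hgr₁, Category.assoc, hs, Category.comp_id]
      · rw [hgr₂, Category.assoc, pullback.lift_snd]
        exact hφψ.symm
    have hk : gr.ker = s.ker := by
      rw [hgr, Scheme.Hom.ker_comp, a.ker_eq_bot, Scheme.IdealSheafData.map_bot]
    show IsIso (gr.ker.subschemeι ≫ pullback.fst pY pZ)
    rw [hk]
    show IsIso (s.imageι ≫ pullback.fst pY pZ)
    haveI : IsIso (s.toImage ≫ s.imageι ≫ pullback.fst pY pZ) := by
      rw [s.toImage_imageι_assoc, hs]
      infer_instance
    exact IsIso.of_isIso_comp_left s.toImage _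
  · intro h
    haveI := h
    let e := gr.imageι ≫ pullback.fst pY pZ
    refine ⟨inv e ≫ gr.imageι ≫ pullback.snd pY pZ, ?_, ?_⟩
    · rw [Category.assoc, Category.assoc, ← pullback.condition]
      show inv e ≫ gr.imageι ≫ pullback.fst pY pZ ≫ pY = pY
      rw [← Category.assoc gr.imageι, IsIso.inv_hom_id_assoc]
    · have ha : a = gr.toImage ≫ e := by
        show a = gr.toImage ≫ gr.imageι ≫ pullback.fst pY pZ
        rw [gr.toImage_imageι_assoc, hgr₁]
      show a ≫ inv e ≫ gr.imageι ≫ pullback.snd pY pZ = ψ
      rw [ha, Category.assoc, IsIso.hom_inv_id_assoc, gr.toImage_imageι_assoc, hgr₂]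

end Groth.Agent.S14188
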