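import Groth.Statements.S14189
import Mathlib.AlgebraicGeometry.Morphisms.SchemeTheoreticallyDominant
import Mathlib.AlgebraicGeometry.Sites.Fpqc
import Mathlib.AlgebraicGeometry.Morphisms.Separated
import Mathlib.AlgebraicGeometry.FunctionField

set_option autoImplicit false
universe u
open CategoryTheory CategoryTheory.Limits AlgebraicGeometry
open FlatMor

namespace Groth.Agent.S14189

/-- Let T be an integral scheme with generic point η, let Y and Z be schemes flat over T with Z
separated over T, and let ψ : Y_η → Z be a T-morphism from the generic fibre Y_η = Y ×_T Spec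
O_{T,η}. Let g : T' → T be flat, surjective and quasi-compact, and let φ' : Y_{T'} → Z_{T'} be a
T'-morphism which agrees with ψ over T' ×_T η, in the sense that on Y_{T'} ×_Y Y_η = Y ×_T T' ×_T
Spec O_{T,η} the composite of the first projection with φ' and with Z_{T'} → Z equals the composite
of the second projection with ψ. Then ψ extends to a T-morphism φ : Y → Z, one whose composite with
Y_η → Y is ψ. (The published statement is an equivalence and also records that an extension, when it
exists, is unique; the converse direction, that an extension over T base-changes to such a φ' over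
any such T', is immediate, and this row states the existence direction only.) -/
theorem result (T Y Z T' : Scheme.{u}) [IsIntegral T]
    (pY : Y ⟶ T) (pZ : Z ⟶ T) [Flat pY] [Flat pZ] [IsSeparated pZ]
    (ψ : pullback pY (T.fromSpecStalk (genericPoint T)) ⟶ Z)
    (hψ : ψ ≫ pZ = pullback.fst pY (T.fromSpecStalk (genericPoint T)) ≫ pY)
    (g : T' ⟶ T) [Flat g] [Surjective g] [QuasiCompact g]
    (φ' : pullback pY g ⟶ pullback pZ g) (hφ' : φ' ≫ pullback.snd pZ g = pullback.snd pY g)
    (hagree : pullback.fst (pullback.fst pY g) (pullback.fst pY (T.fromSpecStalk (genericPoint T))) ≫ φ' ≫ pullback.fst pZ g =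
      pullback.snd (pullback.fst pY g) (pullback.fst pY (T.fromSpecStalk (genericPoint T))) ≫ ψ) :
    ∃ φ : Y ⟶ Z, φ ≫ pZ = pY ∧ pullback.fst pY (T.fromSpecStalk (genericPoint T)) ≫ φ = ψ := by
  let η := T.fromSpecStalk (genericPoint T)
  haveI : Subsingleton ↥(Spec (T.presheaf.stalk (genericPoint T))) :=
    inferInstanceAs (Subsingleton (PrimeSpectrum (T.presheaf.stalk (genericPoint T))))
  haveI : QuasiCompact η :=
    quasiCompact_iff_forall_isAffineOpen.2 fun _ _ => Set.Subsingleton.isCompact (Set.subsingleton_of_subsingleton)
  haveI : IsDominant η := ⟨by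
    rw [DenseRange, dense_iff_closure_eq, ← Set.univ_subset_iff, ← genericPoint_closure T]
    exact closure_mono (Set.singleton_subset_iff.2 (T.range_fromSpecStalk.symm ▸ specializes_rfl))⟩
  haveI : IsSchemeTheoreticallyDominant η := .of_isDominant η
  let a := pullback.fst pY η
  haveI : IsSchemeTheoreticallyDominant a := inferInstance
  haveI : QuasiCompact a := inferInstance
  let q := pullback.fst pY g
  let G := φ' ≫ pullback.fst pZ g
  have hG : G ≫ pZ = q ≫ pY := by
    simp only [G, q, Category.assoc, pullback.condition]
    rw [← Category.assoc φ', hφ']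
  let K := pullback q q
  let k₁ : K ⟶ pullback pY g := pullback.fst q q
  let k₂ : K ⟶ pullback pY g := pullback.snd q q
  let m : pullback (k₁ ≫ q) a ⟶ K := pullback.fst _ _
  haveI : IsSchemeTheoreticallyDominant m := inferInstance
  haveI : QuasiCompact m := inferInstance
  have heq : k₁ ≫ G = k₂ ≫ G := by
    have hm : m ≫ k₁ ≫ G = m ≫ k₂ ≫ G := by
      let l₁ : pullback (k₁ ≫ q) a ⟶ pullback q a := pullback.lift (m ≫ k₁) (pullback.snd _ _)
        (by rw [Category.assoc]; exact pullback.condition)
      let l₂ : pullback (k₁ ≫ q) a ⟶ pullback q a := pullback.lift (m ≫ k₂) (pullback.snd _ _)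
        (by rw [Category.assoc, ← pullback.condition (f := q) (g := q)]; exact pullback.condition)
      have h1 : l₁ ≫ pullback.fst q a ≫ G = pullback.snd _ _ ≫ ψ := by
        rw [show pullback.fst q a ≫ G = pullback.snd q a ≫ ψ from hagree, pullback.lift_snd_assoc]
      have h2 : l₂ ≫ pullback.fst q a ≫ G = pullback.snd _ _ ≫ ψ := by
        rw [show pullback.fst q a ≫ G = pullback.snd q a ≫ ψ from hagree, pullback.lift_snd_assoc]
      rw [pullback.lift_fst_assoc, Category.assoc] at h1 h2
      rw [h1, h2]
    let c : K ⟶ pullback pZ pZ := pullback.lift (k₁ ≫ G) (k₂ ≫ G) (by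
      simp only [Category.assoc, hG]
      exact pullback.condition_assoc _)
    have c1 : c ≫ pullback.fst pZ pZ = k₁ ≫ G := pullback.lift_fst _ _ _
    have c2 : c ≫ pullback.snd pZ pZ = k₂ ≫ G := pullback.lift_snd _ _ _
    let ι := pullback.fst c (pullback.diagonal pZ)
    let f : pullback (k₁ ≫ q) a ⟶ pullback c (pullback.diagonal pZ) := pullback.lift m (m ≫ k₁ ≫ G) (by
      refine pullback.hom_ext ?_ ?_
      · simp only [Category.assoc, c1, pullback.diagonal_fst, Category.comp_id]
      · simp only [Category.assoc, c2, pullback.diagonal_snd, Category.comp_id, hm])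
    have hf : f ≫ ι = m := pullback.lift_fst _ _ _
    haveI : IsIso ι := by
      rw [IsClosedImmersion.isIso_iff_ker_eq_bot, eq_bot_iff, ← m.ker_eq_bot, ← hf]
      exact Scheme.Hom.le_ker_comp f ι
    have hc := pullback.condition (f := c) (g := pullback.diagonal pZ)
    have e1 := congrArg (fun t => t ≫ pullback.fst pZ pZ) hc
    have e2 := congrArg (fun t => t ≫ pullback.snd pZ pZ) hc
    simp only [Category.assoc, c1, c2, pullback.diagonal_fst, pullback.diagonal_snd, Category.comp_id] at e1 e2
    rw [← cancel_epi ι]
    exact e1.trans e2.symm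
  haveI : EffectiveEpi q := inferInstance
  refine ⟨EffectiveEpi.desc q G fun {W} g₁ g₂ h => ?_, ?_, ?_⟩
  · have := congrArg (fun t => pullback.lift g₁ g₂ h ≫ t) heq
    simp only [k₁, k₂, pullback.lift_fst_assoc, pullback.lift_snd_assoc] at this
    exact this
  · rw [← cancel_epi q, EffectiveEpi.fac_assoc, hG]
  · rw [← cancel_epi (pullback.snd q a), ← pullback.condition_assoc, EffectiveEpi.fac]
    exact hagree

end Groth.Agent.S14189
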