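import Groth.Statements.S14190
import Groth.Agent.Lib.CurveVanish
import Groth.Agent.SemiTriv.Main
import Groth.Agent.OmegaPn.CohBase
import Groth.Agent.QCoh.Qcqs
import Groth.Agent.QCoh.Tilde
import Groth.Agent.CurveCohLib.Euler
import Groth.Agent.KFlatLib.Perfect.Spread

set_option autoImplicit false
set_option backward.isDefEq.respectTransparency false
set_option backward.isDefEq.respectTransparency.types false
set_option maxHeartbeats 1000000
set_option linter.style.haveILetI false
universe u
open CategoryTheory CategoryTheory.Limits AlgebraicGeometry Opposite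
open Models

namespace Groth.Agent.S14190

/-- Let R be a discrete valuation ring with fraction field K, let C be a proper K-curve which is smooth
of relative dimension 1 and geometrically connected over K, and let X be a model of C over R (flat
and of finite type over R with generic fibre C) which is proper over R and normal; so X is a proper
relative curve over R, integral of dimension 2. Let (ω, tr) be a 1-dualizing pair for X over R: ω is
a quasi-coherent O_X-module and tr : H¹(X, ω) → R an R-linear map such that φ ↦ tr ∘ H¹(φ) is a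
bijection from Hom(F, ω) onto Hom_R(H¹(X, F), R) for every quasi-coherent F (such a pair is a
relative dualizing sheaf of X over R with its trace, and is unique up to isomorphism). Let U ⊆ X be
an open subscheme whose complement is a finite set of closed points of X (these lie in the closed
fibre and have codimension 2). Then the canonical map from ω to the direct image of its restriction
to U is an isomorphism: for every open V ⊆ X the restriction map ω(V) → ω(V ∩ U) is bijective. (The
published statement is for a relative curve which need not be proper and for the relative dualizing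
sheaf of duality theory; this row takes X proper over R, where a 1-dualizing pair in the above
global-sections sense determines that sheaf up to isomorphism.) -/
theorem result (R : Type u) [CommRing R] [IsDomain R] [IsDiscreteValuationRing R]
    (X C : Scheme.{u}) [X.Over (Spec (CommRingCat.of R))]
    (f : C ⟶ Spec (CommRingCat.of (FractionRing R)))
    [SmoothOfRelativeDimension 1 f] [IsProper f] [GeometricallyConnected f]
    (hX : Models.IsModel R X (X ↘ Spec (CommRingCat.of R)) C f)
    [IsProper (X ↘ Spec (CommRingCat.of R))] (hn : Pi1.IsNormalScheme X)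
    (ω : X.Modules) (tr : Coh.HH X ω 1 →ₗ[R] R) (hω : Canon.IsRDualOver R X 1 ω tr)
    (U : X.Opens) (hfin : ((U : Set X)ᶜ).Finite) (hcl : ∀ x : X, x ∉ U → IsClosed ({x} : Set X))
    (V : X.Opens) :
    Function.Bijective (ω.presheaf.map (homOfLE (inf_le_left : V ⊓ U ≤ V)).op).hom := by
  haveI : IsLocallyNoetherian X := LocallyOfFiniteType.isLocallyNoetherian (X ↘ Spec (CommRingCat.of R))
  haveI : CompactSpace X := QuasiCompact.compactSpace_of_compactSpace (X ↘ Spec (CommRingCat.of R))
  haveI : IsNoetherian X := { }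
  haveI : QuasiSeparatedSpace X := quasiSeparatedSpace_of_quasiSeparated (X ↘ Spec (CommRingCat.of R))
  haveI : QuasiCompact U.ι := inferInstance
  have hωq := hω.1
  let W := (Scheme.Modules.pushforward U.ι).obj (ω.restrict U.ι)
  let φ : ω ⟶ W := KFlatLib.unitW U ω
  have hWq : Coh.IsQCoh W := QCoh.isQCoh_pushforward U.ι (QCoh.isQCoh_restrict U.ι hωq)
  have hst : ∀ x ∈ U, IsIso ((DerSch.stalkFunctor X x).map φ) := fun x hx => KFlatLib.isIso_stalk_unitW hx ω
  have hK : ∀ x, x ∉ (U : Set X)ᶜ → Subsingleton ((kernel φ).presheaf.stalk x) := fun x hx => by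
    haveI := hst x (not_not.1 hx)
    exact ModuleCat.subsingleton_of_isZero ((isZero_kernel_of_mono ((DerSch.stalkFunctor X x).map φ)).of_iso
      (PreservesKernel.iso (DerSch.stalkFunctor X x) φ))
  have hQ : ∀ x, x ∉ (U : Set X)ᶜ → Subsingleton ((cokernel φ).presheaf.stalk x) := fun x hx => by
    haveI := hst x (not_not.1 hx)
    exact ModuleCat.subsingleton_of_isZero ((isZero_cokernel_of_epi ((DerSch.stalkFunctor X x).map φ)).of_iso
      (PreservesCokernel.iso (DerSch.stalkFunctor X x) φ))
  have hKq : Coh.IsQCoh (kernel φ) := QCoh.isQCoh_kernel hωq hWq φ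
  have hQq : Coh.IsQCoh (cokernel φ) := QCoh.isQCoh_cokernel hωq hWq φ
  haveI : Mono φ := by
    refine Preadditive.mono_of_kernel_zero ((hω.2 _ hKq).1 (LinearMap.ext fun t => ?_))
    haveI := CurveVanish.subsingleton_HH_of_finite hfin (fun x hx => hcl x hx) hK 0
    rw [Subsingleton.elim t 0, map_zero, map_zero]
  let S : ShortComplex X.Modules := ShortComplex.mk φ (cokernel.π φ) (cokernel.condition φ)
  have hS : S.ShortExact := { exact := ShortComplex.exact_of_g_is_cokernel _ (cokernelIsCokernel _) }
  obtain ⟨ϖ, hϖ⟩ := IsDiscreteValuationRing.exists_irreducible R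
  let g : Γ(X, ⊤) := Coh.toGlobal (X ↘ Spec (CommRingCat.of R)) ϖ
  -- sections of the cokernel are torsion
  have htors : ∀ z : Coh.HH X (cokernel φ) 0, ∃ n : ℕ, ϖ ^ n • z = 0 := by
    intro z
    let s : Γ(cokernel φ, ⊤) := Sheaf.H.equiv₀ (Coh.toAb (cokernel φ)) (CategoryTheory.Limits.isTerminalTop : IsTerminal (⊤ : X.Opens)) z
    have hgU : X.basicOpen g ≤ U := fun x hx => by
      by_contra hxU
      have h := (X ↘ Spec (CommRingCat.of R)).isClosedMap _ (hcl x hxU)
      rw [Set.image_singleton] at h
      have hc : (X ↘ Spec (CommRingCat.of R)) x = IsLocalRing.closedPoint R :=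
        ((IsLocalRing.specializes_closedPoint ((X ↘ Spec (CommRingCat.of R)) x)).mem_closed h (Set.mem_singleton _) : _) |>.symm
      exact (SemiTriv.mem_basicOpen_iff (X ↘ Spec (CommRingCat.of R)) hϖ.maximalIdeal_eq x).2 hc hx
    obtain ⟨n, hn⟩ := QCoh.exists_pow_smul_eq_zero_of_isCompact hQq isCompact_univ g s (by
      refine QCoh.eq_zero_of_locally _ _ fun x hx => ?_
      haveI := hQ x (fun h => h (hgU hx))
      obtain ⟨V, hxV, i, j, h⟩ := (cokernel φ).presheaf.germ_eq x hx hx _ (0 : Γ(cokernel φ, X.basicOpen g)) (Subsingleton.elim _ _)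
      exact ⟨V, i, hxV, h.trans (map_zero _)⟩)
    refine ⟨n, (Sheaf.H.equiv₀ (Coh.toAb (cokernel φ)) (CategoryTheory.Limits.isTerminalTop : IsTerminal (⊤ : X.Opens))).injective ?_⟩
    rw [map_zero]
    refine ((Sheaf.H.equiv₀_naturality (CategoryTheory.Limits.isTerminalTop : IsTerminal (⊤ : X.Opens))
      (Coh.smulAb (cokernel φ) (Coh.toGlobal (X ↘ Spec (CommRingCat.of R)) (ϖ ^ n))) z).symm.trans ?_)
    show (show Γ(X, ⊤) from Coh.resTop X (Opposite.op ⊤) (Coh.toGlobal (X ↘ Spec (CommRingCat.of R)) (ϖ ^ n))) • s = 0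
    rw [show (show Γ(X, ⊤) from Coh.resTop X (Opposite.op ⊤) (Coh.toGlobal (X ↘ Spec (CommRingCat.of R)) (ϖ ^ n))) = g ^ n from
      (ConcreteCategory.congr_hom (X.presheaf.map_id _) _).trans (map_pow (Coh.toGlobal (X ↘ Spec (CommRingCat.of R))) ϖ n)]
    exact hn
  let P := PnCoh.Finite.mapLin R φ 1
  have hsurj : Function.Surjective P := fun y => by
    haveI := CurveVanish.subsingleton_HH_of_finite hfin (fun x hx => hcl x hx) hQ 0
    have h0 : PnCoh.Finite.mapLin R S.g 1 y = 0 :=
      Subsingleton.elim (α := Coh.HH X (cokernel φ) 1) _ _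
    have hy : y ∈ LinearMap.range (PnCoh.Finite.mapLin R S.f 1) := CurveCohLib.ker_mapLin_g R hS 1 ▸ (LinearMap.mem_ker.2 h0)
    obtain ⟨x, hx⟩ := hy
    exact ⟨x, hx⟩
  have hker : LinearMap.ker P ≤ LinearMap.ker tr := fun x hx => by
    have h1 : x ∈ LinearMap.range (PnCoh.Finite.deltaLin R hS 0) := CurveCohLib.ker_mapLin_f_succ R hS 0 ▸ hx
    obtain ⟨z, rfl⟩ := h1
    obtain ⟨n, hn⟩ := htors z
    have h2 := congrArg (fun t => tr (PnCoh.Finite.deltaLin R hS 0 t)) hn
    simp only [map_smul, map_zero, smul_eq_mul] at h2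
    exact (mul_eq_zero.1 h2).resolve_left (pow_ne_zero n hϖ.ne_zero)
  let tr' : Coh.HH X W 1 →ₗ[R] R :=
    ((LinearMap.ker P).liftQ tr hker).comp (LinearMap.quotKerEquivOfSurjective P hsurj).symm.toLinearMap
  have htr' : ∀ x, tr' (P x) = tr x := fun x => by
    show (LinearMap.ker P).liftQ tr hker ((LinearMap.quotKerEquivOfSurjective P hsurj).symm (P x)) = _
    rw [show (LinearMap.quotKerEquivOfSurjective P hsurj).symm (P x) = Submodule.Quotient.mk x from
      (LinearEquiv.symm_apply_eq _).2 rfl]
    rfl
  obtain ⟨ψ, hψ⟩ := (hω.2 W hWq).2 tr'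
  have hsplit : φ ≫ ψ = 𝟙 ω := (hω.2 ω hωq).1 (LinearMap.ext fun x => by
    show tr (PnCoh.Finite.mapLin R (φ ≫ ψ) 1 x) = tr (PnCoh.Finite.mapLin R (𝟙 ω) 1 x)
    rw [← OmegaPn.mapLin_comp', OmegaPn.mapLin_id']
    exact (LinearMap.congr_fun hψ (P x)).trans (htr' x))
  haveI : IsIso φ := by
    refine ⟨ψ, hsplit, ?_⟩
    have h2 := (Scheme.Modules.restrictAdjunction U.ι).left_triangle_components ω
    refine ((Scheme.Modules.restrictAdjunction U.ι).homEquiv _ _).symm.injective ?_
    have h3 : (Scheme.Modules.restrictFunctor U.ι).map φ ≫ (Scheme.Modules.restrictFunctor U.ι).map ψ = 𝟙 _ := by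
      rw [← Functor.map_comp, hsplit, CategoryTheory.Functor.map_id]
    haveI : IsIso ((Scheme.Modules.restrictFunctor U.ι).map φ) := by
      haveI : IsIso ((Scheme.Modules.restrictFunctor U.ι).map φ ≫
          (Scheme.Modules.restrictAdjunction U.ι).counit.app ((Scheme.Modules.restrictFunctor U.ι).obj ω)) := by
        rw [h2]; infer_instance
      exact IsIso.of_isIso_comp_right _
        ((Scheme.Modules.restrictAdjunction U.ι).counit.app ((Scheme.Modules.restrictFunctor U.ι).obj ω))
    rw [Adjunction.homEquiv_counit, Adjunction.homEquiv_counit, Functor.map_comp, CategoryTheory.Functor.map_id,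
      Category.id_comp]
    have h4 : (Scheme.Modules.restrictFunctor U.ι).map ψ = inv ((Scheme.Modules.restrictFunctor U.ι).map φ) :=
      IsIso.eq_inv_of_hom_inv_id h3
    rw [h4, IsIso.inv_hom_id, Category.id_comp]
  have hb := ConcreteCategory.bijective_of_isIso (φ.app V)
  have hVU : U.ι ''ᵁ (U.ι ⁻¹ᵁ V) = V ⊓ U := by
    rw [Scheme.Hom.image_preimage_eq_opensRange_inf, Scheme.Opens.opensRange_ι, inf_comm]
  have hmap : ω.presheaf.map (homOfLE (inf_le_left : V ⊓ U ≤ V)).op =
      ω.presheaf.map (homOfLE (U.ι.image_preimage_le V)).op ≫ ω.presheaf.map (eqToHom hVU.symm).op := by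
    rw [← Functor.map_comp]
    rfl
  rw [hmap]
  exact (ConcreteCategory.bijective_of_isIso (ω.presheaf.map (eqToHom hVU.symm).op)).comp hb

end Groth.Agent.S14190
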