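import Groth.Statements.S14193
-- import your own Groth.Agent.* helpers here

set_option autoImplicit false
open PowerSeries
open StackCount

namespace Groth.Agent.S14193


theorem closure_data (F : RatFunc ℚ)
    (hF : F ∈ Subring.closure
      (({RatFunc.X, (RatFunc.X : RatFunc ℚ)⁻¹} : Set (RatFunc ℚ)) ∪
        Set.range fun n : ℕ => ((RatFunc.X : RatFunc ℚ) ^ (n + 1) - 1)⁻¹)) :
    ∃ E P : Polynomial ℤ, (∀ y : ℚ, 1 < y → Polynomial.aeval y E ≠ 0) ∧
      F * algebraMap (Polynomial ℚ) (RatFunc ℚ) (E.map (Int.castRingHom ℚ)) =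
        algebraMap (Polynomial ℚ) (RatFunc ℚ) (P.map (Int.castRingHom ℚ)) := by
  induction hF using Subring.closure_induction with
  | mem x hx =>
    rcases hx with (rfl | hx) | ⟨n, rfl⟩
    · exact ⟨1, Polynomial.X, fun y _ => by simp, by simp⟩
    · rw [Set.mem_singleton_iff] at hx
      subst hx
      exact ⟨Polynomial.X, 1, fun y hy => by simp; linarith, by simp [RatFunc.X_ne_zero]⟩
    · refine ⟨Polynomial.X ^ (n + 1) - 1, 1, fun y hy => ?_, ?_⟩
      · have := one_lt_pow₀ hy n.succ_ne_zero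
        simp only [map_sub, map_pow, Polynomial.aeval_X, map_one]
        exact sub_ne_zero.2 this.ne'
      · have hne : ((RatFunc.X : RatFunc ℚ) ^ (n + 1) - 1) ≠ 0 := by
          rw [← RatFunc.algebraMap_X, ← map_pow, ← map_one (algebraMap (Polynomial ℚ) (RatFunc ℚ)),
            ← map_sub]
          exact RatFunc.algebraMap_ne_zero (Polynomial.X_pow_sub_C_ne_zero n.succ_pos 1)
        simp [inv_mul_cancel₀ hne]
  | zero => exact ⟨1, 0, fun y _ => by simp, by simp⟩
  | one => exact ⟨1, 1, fun y _ => by simp, by simp⟩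
  | add x y _ _ hx hy =>
    obtain ⟨E, P, h1, h2⟩ := hx
    obtain ⟨E', P', h1', h2'⟩ := hy
    refine ⟨E * E', P * E' + P' * E, fun z hz => ?_, ?_⟩
    · rw [map_mul]; exact mul_ne_zero (h1 z hz) (h1' z hz)
    · simp only [Polynomial.map_mul, Polynomial.map_add, map_mul, map_add, ← h2, ← h2']
      ring
  | neg x _ hx =>
    obtain ⟨E, P, h1, h2⟩ := hx
    exact ⟨E, -P, h1, by simp [← h2]⟩
  | mul x y _ _ hx hy =>
    obtain ⟨E, P, h1, h2⟩ := hx
    obtain ⟨E', P', h1', h2'⟩ := hy
    refine ⟨E * E', P * P', fun z hz => ?_, ?_⟩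
    · rw [map_mul]; exact mul_ne_zero (h1 z hz) (h1' z hz)
    · simp only [Polynomial.map_mul, map_mul, ← h2, ← h2']
      ring

theorem denom_eval_ne_zero (F : RatFunc ℚ) (E P : Polynomial ℚ)
    (h : F * algebraMap (Polynomial ℚ) (RatFunc ℚ) E = algebraMap (Polynomial ℚ) (RatFunc ℚ) P)
    (y : ℚ) (hy : E.eval y ≠ 0) : F.denom.eval y ≠ 0 ∧ F.num * E = P * F.denom := by
  have h1 : F.num * E = P * F.denom := by
    apply RatFunc.algebraMap_injective ℚ
    have e := RatFunc.num_div_denom F
    rw [div_eq_iff (RatFunc.algebraMap_ne_zero (RatFunc.denom_ne_zero F))] at e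
    rw [map_mul, map_mul, ← h, e]
    ring
  have hdvd : F.denom ∣ E :=
    (RatFunc.isCoprime_num_denom F).symm.dvd_of_dvd_mul_left ⟨P, by rw [h1]; ring⟩
  refine ⟨fun h0 => ?_, h1⟩
  obtain ⟨G, rfl⟩ := hdvd
  exact hy (by simp [h0])

theorem eval_mul_eq (F : RatFunc ℚ) (E P : Polynomial ℚ)
    (h : F * algebraMap (Polynomial ℚ) (RatFunc ℚ) E = algebraMap (Polynomial ℚ) (RatFunc ℚ) P)
    (y : ℚ) (hy : E.eval y ≠ 0) :
    F.eval (RingHom.id ℚ) y * E.eval y = P.eval y := by
  obtain ⟨hden, h1⟩ := denom_eval_ne_zero F E P h y hy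
  have h2 := congrArg (Polynomial.eval y) h1
  simp only [Polynomial.eval_mul] at h2
  rw [RatFunc.eval, Polynomial.eval₂_id, Polynomial.eval₂_id]
  field_simp
  linear_combination h2

/-- logarithmic derivative of a product of linear factors -/
theorem mk_mul_prod {K : Type*} [Field K] (s : Multiset K) (hs : ∀ b ∈ s, b ≠ 0) :
    PowerSeries.mk (fun n => -(s.map fun b => b⁻¹ ^ (n + 1)).sum) *
      (((s.map fun b => Polynomial.X - Polynomial.C b).prod : Polynomial K) : PowerSeries K) =
    ((Polynomial.derivative (s.map fun b => Polynomial.X - Polynomial.C b).prod : Polynomial K) :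
      PowerSeries K) := by
  induction s using Multiset.induction with
  | empty => ext n; simp
  | cons b s ih =>
    have hb : b ≠ 0 := hs b (Multiset.mem_cons_self b s)
    have ih := ih fun c hc => hs c (Multiset.mem_cons_of_mem hc)
    have h1 : PowerSeries.mk (fun n => -(b⁻¹ ^ (n + 1))) *
        ((PowerSeries.X : PowerSeries K) - PowerSeries.C b) = 1 := by
      ext n
      rw [mul_sub, map_sub, PowerSeries.coeff_mul_C, PowerSeries.coeff_mk]
      cases n with
      | zero => simp [PowerSeries.coeff_zero_mul_X, hb]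
      | succ n =>
        rw [PowerSeries.coeff_succ_mul_X, PowerSeries.coeff_mk, PowerSeries.coeff_one,
          if_neg n.succ_ne_zero, pow_succ _ (n + 1)]
        field_simp
        ring
    have hsplit : PowerSeries.mk (fun n => -((b ::ₘ s).map fun b => b⁻¹ ^ (n + 1)).sum) =
        PowerSeries.mk (fun n => -(b⁻¹ ^ (n + 1))) +
          PowerSeries.mk (fun n => -(s.map fun b => b⁻¹ ^ (n + 1)).sum) := by
      ext n
      rw [map_add, PowerSeries.coeff_mk, PowerSeries.coeff_mk, PowerSeries.coeff_mk, Multiset.map_cons,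
        Multiset.sum_cons]
      ring
    rw [hsplit, Multiset.map_cons, Multiset.prod_cons]
    simp only [Polynomial.derivative_mul, Polynomial.derivative_sub, Polynomial.derivative_X,
      Polynomial.derivative_C, sub_zero, one_mul, Polynomial.coe_add, Polynomial.coe_mul,
      Polynomial.coe_sub, Polynomial.coe_X, Polynomial.coe_C]
    rw [← ih]
    linear_combination
      (((s.map fun b => Polynomial.X - Polynomial.C b).prod : Polynomial K) : PowerSeries K) * h1

/-- logarithmic derivative of a polynomial not vanishing at zero -/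
theorem mk_mul_poly {K : Type*} [Field K] [IsAlgClosed K] (p : Polynomial K) (hp : p.eval 0 ≠ 0) :
    PowerSeries.mk (fun n => -(p.roots.map fun b => b⁻¹ ^ (n + 1)).sum) * (p : PowerSeries K) =
      ((Polynomial.derivative p : Polynomial K) : PowerSeries K) := by
  have h := (IsAlgClosed.splits p).eq_prod_roots
  have hr : ∀ b ∈ p.roots, b ≠ 0 := by
    rintro b hb rfl
    exact hp (Polynomial.mem_roots'.1 hb).2
  generalize p.roots = s at h hr ⊢
  rw [h, Polynomial.derivative_C_mul, Polynomial.coe_mul, Polynomial.coe_mul, ← mk_mul_prod s hr]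
  ring

theorem strip (G : PowerSeries ℚ) (hG : PowerSeries.constantCoeff G = 1) (P Q : Polynomial ℚ)
    (hQ : Q ≠ 0) (h : G * (Q : PowerSeries ℚ) = (P : PowerSeries ℚ)) :
    ∃ P₁ Q₁ : Polynomial ℚ, P₁.eval 0 ≠ 0 ∧ Q₁.eval 0 ≠ 0 ∧
      G * (Q₁ : PowerSeries ℚ) = (P₁ : PowerSeries ℚ) := by
  obtain ⟨Q₁, hQ₁, hX⟩ := Polynomial.exists_eq_pow_rootMultiplicity_mul_and_not_dvd Q hQ 0
  simp only [map_zero, sub_zero] at hQ₁ hX
  generalize Q.rootMultiplicity 0 = b at hQ₁
  subst hQ₁
  have h0 : Q₁.eval 0 ≠ 0 := fun h0 => hX (Polynomial.X_dvd_iff.2 (by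
    rw [Polynomial.coeff_zero_eq_eval_zero]; exact h0))
  have hdvd : (Polynomial.X : Polynomial ℚ) ^ b ∣ P := by
    rw [Polynomial.X_pow_dvd_iff]
    intro d hd
    rw [← Polynomial.coeff_coe, ← h, Polynomial.coe_mul, Polynomial.coe_pow, Polynomial.coe_X,
      mul_left_comm, PowerSeries.coeff_X_pow_mul']
    rw [if_neg (by omega)]
  obtain ⟨P₁, rfl⟩ := hdvd
  have h' : G * (Q₁ : PowerSeries ℚ) = (P₁ : PowerSeries ℚ) := by
    refine mul_left_cancel₀ (pow_ne_zero b (PowerSeries.X_ne_zero (R := ℚ))) ?_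
    simp only [Polynomial.coe_mul, Polynomial.coe_pow, Polynomial.coe_X] at h
    rw [← h]
    ring
  refine ⟨P₁, Q₁, ?_, h0, h'⟩
  have := congrArg PowerSeries.constantCoeff h'
  rw [map_mul, hG, one_mul, Polynomial.constantCoeff_coe, Polynomial.constantCoeff_coe] at this
  rw [← Polynomial.coeff_zero_eq_eval_zero] at h0 ⊢
  rwa [← this]

theorem sum_filter_eq_zero {K ι : Type*} [Field K] (s : Finset ι) (c x : ι → K)
    (hx : ∀ i ∈ s, x i ≠ 0) (h : ∀ v : ℕ, ∑ i ∈ s, c i * x i ^ (v + 1) = 0) (H : Set K)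
    [DecidablePred fun i => x i ∈ H] (v : ℕ) :
    ∑ i ∈ s.filter (fun i => x i ∈ H), c i * x i ^ (v + 1) = 0 := by
  classical
  let C : K → K := fun y => ∑ i ∈ s.filter (fun i => x i = y), c i
  have hC : ∀ y ∈ s.image x, C y * y = 0 := by
    have hli := linearIndependent_monoidHom (Multiplicative ℕ) K
    have hinj : Function.Injective fun y : K => powersHom K y := (powersHom K).injective
    have hli2 := hli.comp _ hinj
    refine linearIndependent_iff'.1 hli2 (s.image x) (fun y => C y * y) ?_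
    funext w
    rw [Finset.sum_apply, Pi.zero_apply, ← h w.toAdd,
      ← Finset.sum_fiberwise_of_maps_to (t := s.image x) (g := x)
        (fun i hi => Finset.mem_image_of_mem x hi)]
    refine Finset.sum_congr rfl fun y _ => ?_
    simp only [C, Pi.smul_apply, smul_eq_mul, Function.comp_apply, powersHom_apply, Finset.sum_mul]
    refine Finset.sum_congr rfl fun i hi => ?_
    rw [← (Finset.mem_filter.1 hi).2, pow_succ]
    ring
  rw [← Finset.sum_fiberwise_of_maps_to (t := s.image x) (g := x)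
    (fun i hi => Finset.mem_image_of_mem x (Finset.mem_filter.1 hi).1)]
  refine Finset.sum_eq_zero fun y hy => ?_
  by_cases hyH : y ∈ H
  · rw [Finset.filter_filter]
    have e : ∀ i ∈ s.filter (fun i => x i ∈ H ∧ x i = y), c i * x i ^ (v + 1) = c i * y ^ (v + 1) :=
      fun i hi => by rw [(Finset.mem_filter.1 hi).2.2]
    rw [Finset.sum_congr rfl e, ← Finset.sum_mul]
    have e2 : s.filter (fun i => x i ∈ H ∧ x i = y) = s.filter (fun i => x i = y) :=
      Finset.filter_congr fun i _ => ⟨fun h => h.2, fun h => ⟨h ▸ hyH, h⟩⟩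
    rw [e2]
    have := hC y hy
    calc C y * y ^ (v + 1) = (C y * y) * y ^ v := by ring
      _ = 0 := by rw [this, zero_mul]
  · rw [Finset.filter_filter]
    refine Finset.sum_eq_zero fun i hi => ?_
    obtain ⟨-, h1, h2⟩ := Finset.mem_filter.1 hi
    exact absurd (h2 ▸ h1) hyH


/-- Let q > 1 be an integer and let F be an element of the subring of the rational function field ℚ(X)
generated by X, X^(-1) and the fractions 1/(X^n - 1) for n ≥ 1 (so F(q^v) is defined for every v ≥
1). If the formal power series exp(Σ_{v ≥ 1} F(q^v) t^v / v) in ℚ⟦t⟧ is the expansion of a rational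
function, i.e. its product with some non-zero polynomial in t is a polynomial, then F is a Laurent
polynomial with integer coefficients: F · X^a is the image of a polynomial with integer coefficients
for some a. (The published statement also assumes that the series defines a meromorphic function on
the complex plane; that is implied by rationality and is omitted here.) -/
theorem result (q : ℤ) (hq : 1 < q) (F : RatFunc ℚ)
    (hF : F ∈ Subring.closure
      (({RatFunc.X, (RatFunc.X : RatFunc ℚ)⁻¹} : Set (RatFunc ℚ)) ∪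
        Set.range fun n : ℕ => ((RatFunc.X : RatFunc ℚ) ^ (n + 1) - 1)⁻¹))
    (hrat : ∃ P Q : Polynomial ℚ, Q ≠ 0 ∧
      (PowerSeries.exp ℚ).subst
          (PowerSeries.mk fun v : ℕ => if v = 0 then (0 : ℚ)
            else F.eval (RingHom.id ℚ) ((q : ℚ) ^ v) / (v : ℚ))
        * (Q : PowerSeries ℚ) = (P : PowerSeries ℚ)) :
    ∃ (P : Polynomial ℤ) (a : ℕ),
      F * RatFunc.X ^ a = algebraMap (Polynomial ℚ) (RatFunc ℚ) (P.map (Int.castRingHom ℚ)) := by
  classical
  obtain ⟨E, P, hE, hEP⟩ := closure_data F hF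
  obtain ⟨P₀, Q₀, hQ₀, hser⟩ := hrat
  set S : PowerSeries ℚ := PowerSeries.mk fun v : ℕ => if v = 0 then (0 : ℚ)
    else F.eval (RingHom.id ℚ) ((q : ℚ) ^ v) / (v : ℚ) with hS
  have hS0 : PowerSeries.constantCoeff S = 0 := by
    rw [← PowerSeries.coeff_zero_eq_constantCoeff_apply, hS, PowerSeries.coeff_mk]
    simp
  have hsub : PowerSeries.HasSubst S := PowerSeries.HasSubst.of_constantCoeff_zero' hS0
  set G : PowerSeries ℚ := (PowerSeries.exp ℚ).subst S with hG
  have hG0 : PowerSeries.constantCoeff G = 1 := by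
    have e : (PowerSeries.exp ℚ).subst S =
        1 + (PowerSeries.exp ℚ - 1).subst S := by
      rw [PowerSeries.subst_sub hsub, ← PowerSeries.coe_substAlgHom hsub, map_one]
      ring
    rw [hG, e, map_add, map_one, add_eq_left]
    exact PowerSeries.constantCoeff_subst_eq_zero hS0 _ (by simp)
  obtain ⟨P₁, Q₁, hP₁, hQ₁, hser⟩ := strip G hG0 P₀ Q₀ hQ₀ hser
  have hder : PowerSeries.derivative ℚ S * ((P₁ : PowerSeries ℚ) * (Q₁ : PowerSeries ℚ)) =
      ((Polynomial.derivative P₁ : Polynomial ℚ) : PowerSeries ℚ) * (Q₁ : PowerSeries ℚ) -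
        (P₁ : PowerSeries ℚ) * ((Polynomial.derivative Q₁ : Polynomial ℚ) : PowerSeries ℚ) := by
    have e := congrArg (PowerSeries.derivative ℚ) hser
    rw [Derivation.leibniz, PowerSeries.derivative_coe, PowerSeries.derivative_coe, smul_eq_mul,
      smul_eq_mul] at e
    have e2 : PowerSeries.derivative ℚ G = G * PowerSeries.derivative ℚ S := by
      rw [hG, PowerSeries.derivative_subst hsub, PowerSeries.derivative_exp]
    rw [e2] at e
    rw [← e, ← hser]
    ring
  let K := AlgebraicClosure ℚ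
  let φ : ℚ →+* K := algebraMap ℚ K
  set P₂ : Polynomial K := P₁.map φ with hP₂
  set Q₂ : Polynomial K := Q₁.map φ with hQ₂
  have hev : ∀ p : Polynomial ℚ, (p.map φ).eval 0 = φ (p.eval 0) := fun p => by
    rw [← Polynomial.eval_map_apply]
    simp
  have hP₂0 : P₂.eval 0 ≠ 0 := by
    rw [hP₂, hev]; exact (map_ne_zero φ).2 hP₁
  have hQ₂0 : Q₂.eval 0 ≠ 0 := by
    rw [hQ₂, hev]; exact (map_ne_zero φ).2 hQ₁
  have hcoe : ∀ p : Polynomial ℚ, PowerSeries.map φ (p : PowerSeries ℚ) =
      ((p.map φ : Polynomial K) : PowerSeries K) := fun p => by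
    ext n; simp
  have hlog : PowerSeries.map φ (PowerSeries.derivative ℚ S) =
      PowerSeries.mk (fun n => -(P₂.roots.map fun b => b⁻¹ ^ (n + 1)).sum) -
      PowerSeries.mk (fun n => -(Q₂.roots.map fun b => b⁻¹ ^ (n + 1)).sum) := by
    have hne : (P₂ : PowerSeries K) * (Q₂ : PowerSeries K) ≠ 0 := by
      refine mul_ne_zero ?_ ?_ <;> rw [Ne, Polynomial.coe_eq_zero_iff] <;> intro h0
      · exact hP₂0 (by simp [h0])
      · exact hQ₂0 (by simp [h0])
    refine mul_right_cancel₀ hne ?_
    have e := congrArg (PowerSeries.map φ) hder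
    rw [map_mul, map_mul, map_sub, map_mul, map_mul, hcoe, hcoe, hcoe, hcoe, ← hP₂, ← hQ₂,
      ← Polynomial.derivative_map, ← Polynomial.derivative_map, ← hP₂, ← hQ₂] at e
    rw [e, ← mk_mul_poly P₂ hP₂0, ← mk_mul_poly Q₂ hQ₂0]
    ring
  set s : Multiset K := P₂.roots.map fun b => b⁻¹ with hsdef
  set t : Multiset K := Q₂.roots.map fun b => b⁻¹ with htdef
  let n : K → ℤ := fun y => (t.count y : ℤ) - s.count y
  set Γ : Finset K := (s + t).toFinset with hΓ
  have hΓ0 : ∀ y ∈ Γ, y ≠ 0 := by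
    intro y hy
    rw [hΓ, Multiset.mem_toFinset, Multiset.mem_add] at hy
    rcases hy with hy | hy <;> obtain ⟨b, hb, rfl⟩ := Multiset.mem_map.1 hy <;>
      refine inv_ne_zero ?_ <;> rintro rfl
    · exact hP₂0 (Polynomial.mem_roots'.1 hb).2
    · exact hQ₂0 (Polynomial.mem_roots'.1 hb).2
  have hpow : ∀ v : ℕ, φ (F.eval (RingHom.id ℚ) ((q : ℚ) ^ (v + 1))) =
      ∑ y ∈ Γ, (n y : K) * y ^ (v + 1) := by
    intro v
    have e := congrArg (PowerSeries.coeff v) hlog
    rw [PowerSeries.coeff_map, PowerSeries.coeff_derivative, hS, PowerSeries.coeff_mk,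
      if_neg v.succ_ne_zero, map_sub, PowerSeries.coeff_mk, PowerSeries.coeff_mk,
      Nat.cast_add_one, div_mul_cancel₀ _ (Nat.cast_add_one_ne_zero v)] at e
    rw [e]
    have hsum : ∀ u : Multiset K, u.toFinset ⊆ Γ →
        (u.map fun y => y ^ (v + 1)).sum = ∑ y ∈ Γ, (u.count y : K) * y ^ (v + 1) := fun u hu => by
      rw [Finset.sum_multiset_map_count]
      simp only [nsmul_eq_mul]
      exact Finset.sum_subset hu fun y _ hy => by
        rw [Multiset.mem_toFinset, ← Multiset.count_eq_zero] at hy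
        simp [hy]
    have h1 := hsum s (fun y hy => by rw [hΓ]; simp_all)
    have h2 := hsum t (fun y hy => by rw [hΓ]; simp_all)
    rw [hsdef, Multiset.map_map] at h1
    rw [htdef, Multiset.map_map] at h2
    simp only [Function.comp_def] at h1 h2
    rw [h1, h2]
    simp only [n, Int.cast_sub, Int.cast_natCast, sub_mul, Finset.sum_sub_distrib]
    rw [← hsdef, ← htdef]
    ring
  have hq1 : (1 : ℚ) < q := by exact_mod_cast hq
  have hq0 : (q : K) ≠ 0 := by
    intro h0
    have : (q : ℤ) = 0 := by exact_mod_cast h0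
    omega
  let H : Set K := {y | ∃ i : ℤ, (q : K) ^ i = y}
  have hmul : ∀ (y : K) (i : ℕ), y * (q : K) ^ i ∈ H ↔ y ∈ H := by
    intro y i
    constructor
    · rintro ⟨j, hj⟩
      refine ⟨j - i, ?_⟩
      rw [zpow_sub₀ hq0, zpow_natCast, hj, mul_div_assoc, div_self (pow_ne_zero _ hq0), mul_one]
    · rintro ⟨j, rfl⟩
      exact ⟨j + i, by rw [zpow_add₀ hq0, zpow_natCast]⟩
  -- the part of the exponential sum outside the powers of `q` vanishes
  have hevE : ∀ (R : Polynomial ℤ) (v : ℕ), φ (Polynomial.aeval ((q : ℚ) ^ (v + 1)) R) =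
      ∑ i ∈ Finset.range (R.natDegree + 1), (R.coeff i : K) * ((q : K) ^ i) ^ (v + 1) := by
    intro R v
    rw [Polynomial.aeval_eq_sum_range, map_sum]
    refine Finset.sum_congr rfl fun i _ => ?_
    rw [zsmul_eq_mul, map_mul, map_intCast, map_pow, map_pow, map_intCast]
    ring
  have hid : ∀ v : ℕ, φ (F.eval (RingHom.id ℚ) ((q : ℚ) ^ (v + 1))) *
      φ (Polynomial.aeval ((q : ℚ) ^ (v + 1)) E) = φ (Polynomial.aeval ((q : ℚ) ^ (v + 1)) P) := by
    intro v
    have ha : ∀ (R : Polynomial ℤ) (y : ℚ),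
        (R.map (Int.castRingHom ℚ)).eval y = Polynomial.aeval y R := fun R y => by
      rw [Polynomial.eval_map, Polynomial.aeval_def, algebraMap_int_eq]
    rw [← map_mul, ← ha, ← ha, eval_mul_eq F _ _ hEP _ ?_]
    rw [ha]
    exact hE _ (one_lt_pow₀ hq1 v.succ_ne_zero)
  have hout : ∀ v : ℕ, ∑ y ∈ Γ.filter (fun y => y ∉ H), (n y : K) * y ^ (v + 1) = 0 := by
    intro v
    let idx : Finset ((K × ℕ) ⊕ ℕ) :=
      (Γ ×ˢ Finset.range (E.natDegree + 1)).disjSum (Finset.range (P.natDegree + 1))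
    let c : (K × ℕ) ⊕ ℕ → K :=
      Sum.elim (fun p => (n p.1 : K) * (E.coeff p.2 : K)) (fun i => -(P.coeff i : K))
    let x : (K × ℕ) ⊕ ℕ → K := Sum.elim (fun p => p.1 * (q : K) ^ p.2) (fun i => (q : K) ^ i)
    have hx : ∀ i ∈ idx, x i ≠ 0 := by
      rintro (⟨y, i⟩ | i) hi
      · simp only [idx, Finset.inl_mem_disjSum, Finset.mem_product] at hi
        exact mul_ne_zero (hΓ0 y hi.1) (pow_ne_zero _ hq0)
      · exact pow_ne_zero _ hq0
    have hzero : ∀ w : ℕ, ∑ i ∈ idx, c i * x i ^ (w + 1) = 0 := by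
      intro w
      have e := hid w
      rw [hpow, hevE, hevE, Finset.sum_mul_sum, ← Finset.sum_product'] at e
      rw [Finset.sum_disjSum]
      simp only [c, x, Sum.elim_inl, Sum.elim_inr, neg_mul, Finset.sum_neg_distrib]
      have hneg : ∑ i ∈ Finset.range (P.natDegree + 1), -(P.coeff i : K) * ((q : K) ^ i) ^ (w + 1) =
          -∑ i ∈ Finset.range (P.natDegree + 1), (P.coeff i : K) * ((q : K) ^ i) ^ (w + 1) := by
        rw [← Finset.sum_neg_distrib]
        exact Finset.sum_congr rfl fun i _ => by ring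
      refine (congrArg₂ (· + ·) rfl hneg).trans ?_
      rw [← sub_eq_add_neg, sub_eq_zero, ← e]
      refine Finset.sum_congr rfl fun p _ => ?_
      ring
    have key := sum_filter_eq_zero idx c x hx hzero Hᶜ v
    rw [Finset.filter_congr_decidable, Finset.sum_filter, Finset.sum_disjSum] at key
    have hP0 : ∀ i, ¬ (x (Sum.inr i) ∈ Hᶜ) := fun i hi => hi ⟨i, by simp [x]⟩
    simp only [if_neg (hP0 _), Finset.sum_const_zero, add_zero] at key
    rw [Finset.sum_product] at key
    have e2 : ∀ y, ∀ i, (if x (Sum.inl (y, i)) ∈ Hᶜ then c (Sum.inl (y, i)) *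
        x (Sum.inl (y, i)) ^ (v + 1) else 0) =
        (if y ∉ H then (n y : K) * y ^ (v + 1) else 0) *
          ((E.coeff i : K) * ((q : K) ^ i) ^ (v + 1)) := by
      intro y i
      simp only [x, c, Sum.elim_inl, Set.mem_compl_iff, hmul]
      split <;> ring
    simp only [e2, ← Finset.mul_sum, ← hevE, ← Finset.sum_mul, ← Finset.sum_filter] at key
    rcases mul_eq_zero.1 key with h | h
    · exact h
    · exact absurd ((map_eq_zero φ).1 h) (hE _ (one_lt_pow₀ hq1 v.succ_ne_zero))
  -- exponents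
  have hexp : ∀ y ∈ Γ.filter (fun y => y ∈ H), ∃ i : ℤ, (q : K) ^ i = y := fun y hy =>
    (Finset.mem_filter.1 hy).2
  choose! e he using hexp
  set ΓH := Γ.filter (fun y => y ∈ H)
  let a : ℕ := ΓH.sup fun y => (-e y).toNat
  let R : Polynomial ℤ := ∑ y ∈ ΓH, Polynomial.monomial (e y + a).toNat (n y)
  have hR : ∀ v : ℕ, F.eval (RingHom.id ℚ) ((q : ℚ) ^ (v + 1)) * ((q : ℚ) ^ (v + 1)) ^ a =
      (R.map (Int.castRingHom ℚ)).eval ((q : ℚ) ^ (v + 1)) := by
    intro v
    apply φ.injective
    rw [map_mul, hpow, ← Finset.sum_filter_add_sum_filter_not Γ (fun y => y ∈ H), hout, add_zero,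
      Polynomial.eval_map, Polynomial.eval₂_finsetSum, map_sum, Finset.sum_mul, map_pow, map_pow,
      map_intCast]
    refine Finset.sum_congr rfl fun y hy => ?_
    rw [Polynomial.eval₂_monomial, map_mul, eq_intCast, map_intCast, map_pow, map_pow, map_intCast,
      ← pow_mul, ← pow_mul, mul_assoc]
    congr 1
    have ha : (-e y).toNat ≤ a := Finset.le_sup (f := fun y => (-e y).toNat) hy
    have ha' : ((e y + a).toNat : ℤ) = e y + a := Int.toNat_of_nonneg (by omega)
    conv_lhs => rw [← he y hy]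
    rw [← zpow_natCast (G := K) _ ((v + 1) * a), ← zpow_natCast (G := K) _ ((v + 1) * _),
      ← zpow_natCast (G := K) _ (v + 1), ← zpow_mul, ← zpow_add₀ hq0]
    push_cast
    rw [ha']
    ring_nf
  refine ⟨R, a, ?_⟩
  set PR : Polynomial ℚ := R.map (Int.castRingHom ℚ)
  have hzero : F.num * Polynomial.X ^ a - PR * F.denom = 0 := by
    refine Polynomial.eq_zero_of_infinite_isRoot _ ?_
    refine Set.infinite_of_injective_forall_mem
      (f := fun v : ℕ => (q : ℚ) ^ (v + 1)) ?_ ?_
    · intro v w h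
      have := pow_right_injective₀ (zero_lt_one.trans hq1) hq1.ne' h
      omega
    · intro v
      set y := (q : ℚ) ^ (v + 1)
      have hy : (1 : ℚ) < y := one_lt_pow₀ hq1 v.succ_ne_zero
      have h1 : F.num.eval y * y ^ a = PR.eval y * F.denom.eval y := by
        have hE' : (E.map (Int.castRingHom ℚ)).eval y ≠ 0 := by
          rw [Polynomial.eval_map, ← algebraMap_int_eq, ← Polynomial.aeval_def]
          exact hE y hy
        have hd : F.denom.eval y ≠ 0 := (denom_eval_ne_zero F _ _ hEP y hE').1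
        have h : F.eval (RingHom.id ℚ) y * y ^ a = PR.eval y := hR v
        rw [← h, RatFunc.eval, Polynomial.eval₂_id, Polynomial.eval₂_id]
        field_simp
      simp only [Set.mem_setOf_eq, Polynomial.IsRoot, Polynomial.eval_sub, Polynomial.eval_mul,
        Polynomial.eval_pow, Polynomial.eval_X, h1, sub_self]
  rw [sub_eq_zero] at hzero
  have hd : algebraMap (Polynomial ℚ) (RatFunc ℚ) F.denom ≠ 0 :=
    RatFunc.algebraMap_ne_zero (RatFunc.denom_ne_zero F)
  conv_lhs => rw [← RatFunc.num_div_denom F, ← RatFunc.algebraMap_X, ← map_pow]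
  rw [div_mul_eq_mul_div, ← map_mul, hzero, map_mul, mul_div_assoc, div_self hd, mul_one]

end Groth.Agent.S14193
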