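import Groth.Statements.S14196
import Groth.Agent.QuotLib.Pointed
import Groth.Agent.AlgSpPts.Geom

/-!
Points of a quotient stack over an algebraically closed field: every torsor has a section, so the
fibre is the groupoid of orbits.
-/

set_option autoImplicit false
set_option backward.isDefEq.respectTransparency false
set_option backward.isDefEq.respectTransparency.types false
universe u
open StackCount

namespace Groth.Agent.S14196

open CategoryTheory CategoryTheory.Limits MonoidalCategory CartesianMonoidalCategory MonObj GrpObj AlgebraicGeometry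
  Groth.Agent.QuotLib Groth.Agent.GrpSchLib AlgSt

variable {S : Scheme.{u}} {G : Over S} [GrpObj G] {X : Over S} {aX : AlgGrp.Action G X}
  {K : Type u} [Field K] [IsAlgClosed K] {str : Spec (CommRingCat.of K) ⟶ S}

local notation "K₁" => Scheme.etalePrecoverage

theorem exists_section (A : QuotObj K₁ G aX) (hA : A.base = Over.mk str) :
    ∃ t : Over.mk str ⟶ A.P, t ≫ A.π = eqToHom hA.symm := by
  obtain ⟨base, P, act, π, cart, ⟨R, hR, hsec⟩, φ, eqv⟩ := A
  change base = Over.mk str at hA
  subst hA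
  obtain ⟨J, Y, g, rfl⟩ := R.exists_eq_ofArrows
  obtain ⟨hsurj, het⟩ := (Scheme.ofArrows_mem_precoverage_iff @Etale).1 hR
  obtain ⟨j, w, -⟩ := hsurj (IsLocalRing.closedPoint K)
  let f := g j
  obtain ⟨s, hs⟩ := hsec f ⟨j⟩
  haveI : Etale f := het j
  haveI : Etale (Over.homMk (U := Over.mk (f ≫ str)) (V := Over.mk str) f rfl).left := ‹Etale f›
  obtain ⟨c, hc, -⟩ := AlgSpPts.exists_section_of_etale
    (Over.homMk (U := Over.mk (f ≫ str)) (V := Over.mk str) f rfl) w
  have hc' : c.left ≫ f = 𝟙 _ := congrArg CommaMorphism.left hc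
  have e : (c.left ≫ s) ≫ π.left = 𝟙 _ := by
    rw [Category.assoc, show s ≫ π.left = f from hs, hc']
  refine ⟨Over.homMk (c.left ≫ s) ?_, Over.OverMorphism.ext ?_⟩
  · show (c.left ≫ s) ≫ P.hom = str
    rw [← Over.w π, ← Category.assoc, e]
    exact Category.id_comp str
  · exact e

open CategoryTheory MonoidalCategory CartesianMonoidalCategory AlgebraicGeometry in
/-- Over the algebraic closure, the isomorphism classes of `[X/G]` are the `G(k̄)`-orbits in `X(k̄)`. -/
theorem result (k : Type u) [Field k] [Finite k]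
    (G : Over (Spec (CommRingCat.of k))) [GrpObj G] [Smooth G.hom] [IsAffineHom G.hom]
    (X : Over (Spec (CommRingCat.of k))) [LocallyOfFiniteType X.hom] [QuasiCompact X.hom]
    [IsReduced X.left] (aX : AlgGrp.Action G X) :
    (∀ A : (AlgSt.QuotObj.forget Scheme.etalePrecoverage G aX).Fiber (Over.mk (Spec.map (CommRingCat.ofHom (algebraMap k (AlgebraicClosure k)))) : Over (Spec (CommRingCat.of k))),
        ∃ t : (Over.mk (Spec.map (CommRingCat.ofHom (algebraMap k (AlgebraicClosure k)))) : Over (Spec (CommRingCat.of k))) ⟶ A.1.P, t ≫ A.1.π = eqToHom A.2.symm) ∧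
    (∀ (A B : (AlgSt.QuotObj.forget Scheme.etalePrecoverage G aX).Fiber (Over.mk (Spec.map (CommRingCat.ofHom (algebraMap k (AlgebraicClosure k)))) : Over (Spec (CommRingCat.of k))))
        (tA : (Over.mk (Spec.map (CommRingCat.ofHom (algebraMap k (AlgebraicClosure k)))) : Over (Spec (CommRingCat.of k))) ⟶ A.1.P) (tB : (Over.mk (Spec.map (CommRingCat.ofHom (algebraMap k (AlgebraicClosure k)))) : Over (Spec (CommRingCat.of k))) ⟶ B.1.P),
        tA ≫ A.1.π = eqToHom A.2.symm → tB ≫ B.1.π = eqToHom B.2.symm →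
        (Nonempty (A ≅ B) ↔
          ∃ g : (Over.mk (Spec.map (CommRingCat.ofHom (algebraMap k (AlgebraicClosure k)))) : Over (Spec (CommRingCat.of k))) ⟶ G,
            CartesianMonoidalCategory.lift g (tA ≫ A.1.φ) ≫ aX.act = tB ≫ B.1.φ)) ∧
    (∀ x : (Over.mk (Spec.map (CommRingCat.ofHom (algebraMap k (AlgebraicClosure k)))) : Over (Spec (CommRingCat.of k))) ⟶ X,
        ∃ (A : (AlgSt.QuotObj.forget Scheme.etalePrecoverage G aX).Fiber (Over.mk (Spec.map (CommRingCat.ofHom (algebraMap k (AlgebraicClosure k)))) : Over (Spec (CommRingCat.of k)))) (t : (Over.mk (Spec.map (CommRingCat.ofHom (algebraMap k (AlgebraicClosure k)))) : Over (Spec (CommRingCat.of k))) ⟶ A.1.P),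
          t ≫ A.1.π = eqToHom A.2.symm ∧ t ≫ A.1.φ = x) := by
  refine ⟨fun A => exists_section A.1 A.2, fun A B tA tB h₁ h₂ => Pointed.nonempty_iso_iff A.1 B.1 A.2 B.2 tA tB h₁ h₂,
    fun x => ⟨⟨triv Scheme.etalePrecoverage G aX x, rfl⟩, Groth.Agent.QuotLib.sec G _, ?_, sec_φ x⟩⟩
  exact (lift_snd _ _).trans (eqToHom_refl _ _).symm

end Groth.Agent.S14196
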