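import Groth.Statements.S14201
import Groth.Agent.ASBunLib.Classify
-- import your own Groth.Agent.* helpers here

set_option autoImplicit false
set_option backward.isDefEq.respectTransparency false
set_option backward.isDefEq.respectTransparency.types false
set_option linter.style.haveILetI false
set_option maxHeartbeats 1000000
universe u
open CategoryTheory CategoryTheory.Limits AlgebraicGeometry
open ASBun

namespace Groth.Agent.S14201
open Groth.Agent

/-- Let A be a central simple algebra of degree n ≥ 1 over a field k (of dimension n² over k), X a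
proper k-scheme which is the Severi–Brauer scheme of A (for every commutative k-algebra R its
R-points over k are, naturally in R, the left ideals of R ⊗_k A with projective quotient of rank n²
− n), K an algebraic closure of k and e a K-isomorphism X_K ≅ P^{n−1}_K, along which O_e(j) denotes
the pullback of the twisting sheaf O(j). Let E be an indecomposable finite locally free O_X-module
(nonzero, and in any decomposition as a direct sum one summand is zero) which is absolutely split:
E_K is isomorphic to a finite direct sum of invertible O_{X_K}-modules. Then E is absolutely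
rank-one-isotypical of twisting type: E_K ≅ O_e(j)^{⊕r} for some integer j and some r ≥ 1. (The
published statement writes j = j₀ + ap with p the period of A and 0 ≤ j₀ < p, and E as the
indecomposable module of type O(j₀) twisted by the descent of O(ap); the classification content is
the existence of j, whose uniqueness for X of positive dimension is not asserted here.) -/
theorem result (k : Type u) [Field k] (A : Type u) [Ring A] [Algebra k A]
    [Algebra.IsCentral k A] [IsSimpleRing A] (n : ℕ) (hn : 0 < n)
    (hA : Module.finrank k A = n * n) {X : Scheme.{u}} (f : X ⟶ Spec (CommRingCat.of k))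
    [IsProper f] (hX : BrSev.IsSBOf k A (n * n - n) f)
    (K : Type u) [Field K] [Algebra k K] [IsAlgClosure k K] (e : BrSev.Splitting f K (n - 1))
    (E : X.Modules) (hE : FlatMod.IsFinLocFree E)
    (hEi : (¬ IsZero E ∧ ∀ M₁ M₂ : X.Modules, Nonempty (E ≅ M₁ ⊞ M₂) → IsZero M₁ ∨ IsZero M₂))
    (s : ℕ) (Ls : Fin s → (BrSev.bc f K).Modules) (hLs : ∀ i, PicF.IsInvertible (Ls i))
    (hsplit : Nonempty (BrSev.bcMod f K E ≅ ∐ Ls)) :
    ∃ (j : ℤ) (r : ℕ), 0 < r ∧ BrSev.IsTwPow e j r E := by
  haveI := Abelian.hasFiniteBiproducts (C := (BrSev.bc f K).Modules)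
  letI : X.Over (Spec (CommRingCat.of k)) := ⟨f⟩
  haveI : IsProper (X ↘ Spec (CommRingCat.of k)) := ‹IsProper f›
  obtain ⟨es⟩ := hsplit
  have hs : 0 < s := by
    refine Nat.pos_of_ne_zero fun h0 => ?_
    subst h0
    have hz : IsZero (BrSev.bcMod f K E) :=
      ((IsZero.iff_id_eq_zero _).2 (Limits.Sigma.hom_ext _ _ fun i => i.elim0)).of_iso es
    letI : (BrSev.bc f K).Over (Spec (CommRingCat.of K)) := ⟨BrSev.bcTo f K⟩
    haveI : IsProper ((BrSev.bc f K) ↘ Spec (CommRingCat.of K)) :=
      inferInstanceAs (IsProper (Limits.pullback.snd f (Spec.map (CommRingCat.ofHom (algebraMap k K)))))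
    obtain ⟨hfl, hsurj⟩ := Groth.Agent.ASBunLib.flat_surjective_proj (k := k) (K := K) (X := X) (X' := BrSev.bc f K) (π := BrSev.proj f K)
      (show IsPullback (BrSev.proj f K) ((BrSev.bc f K) ↘ Spec (CommRingCat.of K)) (X ↘ Spec (CommRingCat.of k))
        (Spec.map (CommRingCat.ofHom (algebraMap k K))) from IsPullback.of_hasPullback _ _)
    haveI := hfl
    haveI := hsurj
    exact hEi.1 (Groth.Agent.KFlatLib.isZero_of_isZero_pullback (BrSev.proj f K) E hz)
  let b' := (biproduct.isoCoproduct Ls).symm
  exact Groth.Agent.ASBunLib.exists_twPow_of_retract hn hA hX e hE hEi (hLs ⟨0, hs⟩)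
    (biproduct.ι Ls ⟨0, hs⟩ ≫ b'.inv ≫ es.inv) (es.hom ≫ b'.hom ≫ biproduct.π Ls ⟨0, hs⟩) (by simp [b'])

end Groth.Agent.S14201
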