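import Groth.Statements.S14204
import Groth.Agent.H23.PicMul
import Groth.Agent.HilbPoly.PnTwist

set_option autoImplicit false
universe u
open CategoryTheory CategoryTheory.Limits AlgebraicGeometry
open ASBun

namespace Groth.Agent.S14204

/-- Let X be a scheme over a field k, K a field extension of k, e a K-isomorphism X_K ≅ P^n_K with
O_e(j) the pullback of O(j) along e, and W, W' two O_X-modules with W_K ≅ O_e(j)^{⊕r} and W'_K ≅
O_e(l)^{⊕s} for integers j, l and natural numbers r, s. Then the tensor product W ⊗_{O_X} W'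
satisfies (W ⊗ W')_K ≅ O_e(j + l)^{⊕rs}: the tensor product of absolutely rank-one-isotypical
modules of twisting types O(j) and O(l) is absolutely rank-one-isotypical of type O(j + l), in
particular absolutely split. (The published statement is for the indecomposable modules of types
O(j) and O(l) on a Severi–Brauer variety with K an algebraic closure; the argument uses only the
displayed decompositions.) -/
theorem result (k : Type u) [Field k] {X : Scheme.{u}}
    (f : X ⟶ Spec (CommRingCat.of k)) (n : ℕ)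
    (K : Type u) [Field K] [Algebra k K] (e : BrSev.Splitting f K n) (j l : ℤ) (r s : ℕ)
    (W W' : X.Modules) (hWt : BrSev.IsTwPow e j r W) (hW't : BrSev.IsTwPow e l s W') :
    BrSev.IsTwPow e (j + l) (r * s) (CohB1.tensorMod W W') := by
  obtain ⟨eW⟩ := hWt
  obtain ⟨eW'⟩ := hW't
  let Y := BrSev.bc f K
  obtain ⟨p⟩ := Groth.Agent.H23.PicMul.pull (BrSev.proj f K) W W'
  obtain ⟨q⟩ := Groth.Agent.H23.PicMul.pull e.iso.hom (Twist.twistProjSpace n K j) (Twist.twistProjSpace n K l)
  obtain ⟨a⟩ := Groth.Agent.HilbPoly.nonempty_add n K j l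
  let t : CohB1.tensorMod (e.twist j) (e.twist l) ≅ e.twist (j + l) :=
    q.symm ≪≫ (Scheme.Modules.pullback e.iso.hom).mapIso a
  haveI hfc : ∀ (M : Y.Modules), PreservesFiniteCoproducts (DCoh.tensorBi.obj M) := fun M => inferInstance
  obtain ⟨c₁⟩ := Groth.Agent.H23.PicMul.comm (BrSev.pow (e.twist j) r) (BrSev.pow (e.twist l) s)
  let d₁ : CohB1.tensorMod (BrSev.pow (e.twist l) s) (BrSev.pow (e.twist j) r) ≅
      ∐ fun _ : Fin r => CohB1.tensorMod (BrSev.pow (e.twist l) s) (e.twist j) :=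
    (PreservesCoproduct.iso (DCoh.tensorBi.obj (BrSev.pow (e.twist l) s)) (fun _ : Fin r => e.twist j))
  obtain ⟨c₂⟩ := Groth.Agent.H23.PicMul.comm (BrSev.pow (e.twist l) s) (e.twist j)
  let d₂ : CohB1.tensorMod (e.twist j) (BrSev.pow (e.twist l) s) ≅
      ∐ fun _ : Fin s => CohB1.tensorMod (e.twist j) (e.twist l) :=
    (PreservesCoproduct.iso (DCoh.tensorBi.obj (e.twist j)) (fun _ : Fin s => e.twist l))
  let inner : CohB1.tensorMod (BrSev.pow (e.twist l) s) (e.twist j) ≅ BrSev.pow (e.twist (j + l)) s :=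
    c₂ ≪≫ d₂ ≪≫ Sigma.mapIso (fun _ => t)
  let tot : BrSev.bcMod f K (CohB1.tensorMod W W') ≅
      ∐ fun _ : Fin r => ∐ fun _ : Fin s => e.twist (j + l) :=
    p ≪≫ (DCoh.tensorBi.mapIso eW).app _ ≪≫ (DCoh.tensorBi.obj _).mapIso eW' ≪≫ c₁ ≪≫ d₁ ≪≫
      Sigma.mapIso (fun _ => inner)
  exact ⟨tot ≪≫ sigmaSigmaIso (fun _ : Fin r => Fin s) (fun _ _ => e.twist (j + l)) ≪≫
    Sigma.whiskerEquiv ((Equiv.sigmaEquivProd (Fin r) (Fin s)).trans finProdFinEquiv) (g := fun _ : Fin (r * s) => e.twist (j + l)) (fun _ => Iso.refl _)⟩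

end Groth.Agent.S14204
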