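import Groth.Statements.S14207
import Groth.Agent.ASBunLib.IndexMain
import Groth.Agent.ASBunLib.IndexArith
-- import your own Groth.Agent.* helpers here

set_option autoImplicit false
set_option backward.isDefEq.respectTransparency false
set_option backward.isDefEq.respectTransparency.types false
set_option linter.style.haveILetI false
set_option maxHeartbeats 1000000
universe u
open CategoryTheory CategoryTheory.Limits AlgebraicGeometry
open ASBun

namespace Groth.Agent.S14207
open Groth.Agent

/-- Let A be a central simple algebra of degree n ≥ 1 over a field k (of dimension n² over k), X a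
proper k-scheme which is the Severi–Brauer scheme of A (for every commutative k-algebra R its
R-points over k are, naturally in R, the left ideals of R ⊗_k A with projective quotient of rank n²
− n), K an algebraic closure of k and e a K-isomorphism X_K ≅ P^{n−1}_K, along which O_e(j) denotes
the pullback of the twisting sheaf O(j); suppose the degree n is a prime number and A is not split
(not isomorphic over k to a full matrix algebra over k). Let W be an indecomposable finite locally
free O_X-module (nonzero, and in any decomposition as a direct sum one summand is zero) with W_K ≅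
O_e(j)^{⊕r}, r ≥ 1, for an integer j. Then r = n / gcd(n, |j|), that is r = 1 when n divides j and r
= n otherwise: all non-split Severi–Brauer varieties of dimension n − 1 with n prime have the same
multiplicities, 1 for j divisible by n and n otherwise; for n = 2, on a non-split conic the
indecomposable module of type O(j) has rank 1 for j even and 2 for j odd. -/
theorem result (k : Type u) [Field k] (A : Type u) [Ring A] [Algebra k A]
    [Algebra.IsCentral k A] [IsSimpleRing A] (n : ℕ) (hn : 0 < n)
    (hA : Module.finrank k A = n * n) {X : Scheme.{u}} (f : X ⟶ Spec (CommRingCat.of k))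
    [IsProper f] (hX : BrSev.IsSBOf k A (n * n - n) f)
    (K : Type u) [Field K] [Algebra k K] [IsAlgClosure k K] (e : BrSev.Splitting f K (n - 1))
    (hq : n.Prime) (hns : ¬ Curves.Splits k A k)
    (W : X.Modules) (hW : FlatMod.IsFinLocFree W)
    (hWi : (¬ IsZero W ∧ ∀ M₁ M₂ : X.Modules, Nonempty (W ≅ M₁ ⊞ M₂) → IsZero M₁ ∨ IsZero M₂))
    (j : ℤ) (r : ℕ) (hr : 0 < r) (hWt : BrSev.IsTwPow e j r W) :
    r = n / Nat.gcd n j.natAbs := by
  classical
  obtain ⟨m, rfl⟩ : ∃ m, n = m + 1 := ⟨n - 1, by omega⟩
  letI : X.Over (Spec (CommRingCat.of k)) := ⟨f⟩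
  haveI : IsProper (X ↘ Spec (CommRingCat.of k)) := ‹IsProper f›
  haveI : Module.Finite k A := Module.finite_of_finrank_pos (by rw [hA]; positivity)
  have hI := Groth.Agent.ASBunLib.isIndex_tpow_of_ind hA hX (e : BrSev.Splitting f K m) j hW hWi hr hWt
  obtain ⟨_, _, _⟩ := Groth.Agent.CSALib.centralSimple_pow k A j.natAbs
  rw [Groth.Agent.CSALib.splits_self_iff] at hns
  obtain ⟨d, hd⟩ := Groth.Agent.CSALib.exists_isIndex k A
  obtain rfl : d = m + 1 := by
    obtain ⟨hd0, t, D, i₁, i₂, ht, hdim, ⟨iso⟩⟩ := id hd
    have h := iso.toLinearEquiv.finrank_eq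
    rw [Module.finrank_matrix, hA, hdim, Fintype.card_fin] at h
    have h2 : (m + 1) = t * d := Nat.pow_left_injective two_ne_zero (show (m + 1) ^ 2 = (t * d) ^ 2 by rw [sq, h]; ring)
    rcases hq.eq_one_or_self_of_dvd d ⟨t, by rw [h2, mul_comm]⟩ with h3 | h3
    · exact absurd (Groth.Agent.CSALib.similar_of_index_one (h3 ▸ hd)) hns
    · exact h3
  have hsplit := Groth.Agent.CSALib.similar_pow_index hd
  have hex : ∃ p, 0 < p ∧ Groth.Agent.CSALib.Similar k (CSAGal.tpow k A p) k := ⟨_, hd.1, hsplit⟩
  have hp : CSAGal.IsPeriod k A (Nat.find hex) :=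
    ⟨(Nat.find_spec hex).1, (Groth.Agent.CSALib.splits_pow_iff _).2 (Nat.find_spec hex).2, fun e' h1 h2 h3 =>
      Nat.find_min hex h2 ⟨h1, (Groth.Agent.CSALib.splits_pow_iff _).1 h3⟩⟩
  rcases hq.eq_one_or_self_of_dvd _ (Groth.Agent.ASBunLib.period_dvd_index hd hp) with h3 | h3
  · exact absurd ((Groth.Agent.CSALib.similar_pow_one k A).symm.trans (h3 ▸ (Nat.find_spec hex).2)) hns
  · exact Groth.Agent.CSALib.isIndex_unique hI (Groth.Agent.ASBunLib.index_pow_eq hd (h3 ▸ hp) j.natAbs)

end Groth.Agent.S14207
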