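import Groth.Statements.S14210
import Groth.Agent.ASBunLib.QTorus.Split
import Groth.Agent.ASBunLib.SBExists
import Groth.Agent.CSALib.Index
-- import your own Groth.Agent.* helpers here

set_option autoImplicit false
set_option backward.isDefEq.respectTransparency false
set_option backward.isDefEq.respectTransparency.types false
set_option linter.style.haveILetI false
set_option maxHeartbeats 1000000
universe u
open CategoryTheory CategoryTheory.Limits AlgebraicGeometry
open ASBun

namespace Groth.Agent.S14210
open Groth.Agent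

/-- For positive integers p, i, d with p ∣ i ∣ d such that every prime dividing i divides p, some field
k carries a central simple k-algebra A of dimension d² with period p (the least p ≥ 1 for which the
p-fold tensor power of A is a full matrix algebra over k) and index i (A is a matrix algebra over a
division ring of dimension i² over k), together with a k-scheme X which is the Severi–Brauer scheme
of A (for every commutative k-algebra R, the R-points of X over k are identified, naturally in R,
with the left ideals of R ⊗_k A whose quotient is projective of rank d² − d); that is, X is a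
Severi–Brauer variety over k of type (p, i, d). -/
theorem result (p i d : ℕ) (hp : 0 < p) (hi : 0 < i) (hd : 0 < d)
    (hpi : p ∣ i) (hid : i ∣ d) (hprimes : ∀ q : ℕ, q.Prime → q ∣ i → q ∣ p) :
    ∃ (k : Type u) (_ : Field k) (A : Type u) (_ : Ring A) (_ : Algebra k A),
      Algebra.IsCentral k A ∧ IsSimpleRing A ∧ Module.finrank k A = d * d ∧
      CSAGal.IsPeriod k A p ∧ CSAGal.IsIndex k A i ∧
      ∃ (X : Scheme.{u}) (f : X ⟶ Spec (CommRingCat.of k)), BrSev.IsSBOf k A (d * d - d) f := by
  classical
  let L : List ℕ := p :: (i / p).primeFactorsList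
  let n : Fin L.length → ℕ := fun j => L[(j : ℕ)]
  have hmem : ∀ x ∈ L, 0 < x ∧ x ∣ p := fun x hx => by
    rcases List.mem_cons.1 hx with rfl | h
    · exact ⟨hp, dvd_rfl⟩
    · have hq := Nat.prime_of_mem_primeFactorsList h
      exact ⟨hq.pos, hprimes x hq ((Nat.dvd_of_mem_primeFactorsList h).trans (Nat.div_dvd_of_dvd hpi))⟩
  have hn : ∀ j, 0 < n j ∧ n j ∣ p := fun j => hmem _ (List.getElem_mem _)
  haveI : ∀ j, NeZero (n j) := fun j => ⟨(hn j).1.ne'⟩
  have hprod : ∏ j, n j = i := by
    show ∏ j : Fin L.length, L[(j : ℕ)] = i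
    rw [Fin.prod_univ_getElem]
    show (p :: (i / p).primeFactorsList).prod = i
    have hip : i / p ≠ 0 := fun h => hi.ne' (by rw [← Nat.div_mul_cancel hpi, h, zero_mul])
    rw [List.prod_cons, Nat.prod_primeFactorsList hip, Nat.mul_div_cancel' hpi]
  let z : Fin L.length → ULift.{u} ℂ :=
    fun j => ULift.up (Complex.exp (2 * Real.pi * Complex.I / (n j : ℂ)))
  have hz : ∀ j, IsPrimitiveRoot (z j) (n j) := fun j =>
    (Complex.isPrimitiveRoot_exp (n j) (hn j).1.ne').map_of_injective
      (f := (ULift.ringEquiv (R := ℂ)).symm) (RingEquiv.injective _)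
  let ζ : Fin L.length → (ULift.{u} ℂ)ˣ := fun j => ((hz j).isUnit (hn j).1.ne').unit
  haveI : ASBunLib.QTorus.Roots n ζ := ⟨fun j => IsPrimitiveRoot.coe_units_iff.1 (hz j)⟩
  let up : ℂ →+* ULift.{u} ℂ := (ULift.ringEquiv (R := ℂ)).symm.toRingHom
  have hup : Function.Injective up := (ULift.ringEquiv (R := ℂ)).symm.injective
  haveI : CharZero (ULift.{u} ℂ) := charZero_of_injective_ringHom hup
  let K := ASBunLib.QTorus.Par (ULift.{u} ℂ) L.length
  let D := ASBunLib.QTorus.Sym n ζ
  let m := d / i
  have hm : 0 < m := Nat.div_pos (Nat.le_of_dvd hd hid) hi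
  haveI : NeZero m := ⟨hm.ne'⟩
  let A := Matrix (Fin m) (Fin m) D
  haveI : Algebra.IsCentral K A := inferInstance
  haveI : IsSimpleRing A := inferInstance
  have hD : Module.finrank K D = i * i := by rw [ASBunLib.QTorus.finrank_sym, hprod]
  have hA : Module.finrank K A = d * d := by
    rw [Module.finrank_matrix, Fintype.card_fin, hD]
    have hd' : m * i = d := Nat.div_mul_cancel hid
    rw [← hd']
    ring
  refine ⟨K, inferInstance, A, inferInstance, inferInstance, inferInstance, inferInstance, hA, ?_, ?_,
    ASBunLib.SBExists.exists_isSBOf (k := K) (A := A) (c := d * d - d)⟩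
  · have hpow : ∀ e, Groth.Agent.CSALib.Similar K (CSAGal.tpow K A e) (CSAGal.tpow K D e) := fun e =>
      (CSALib.similar_matrix hm.ne').pow e
    refine ⟨hp, ?_, fun e he hlt hs => ?_⟩
    · obtain ⟨q, rfl⟩ := Nat.exists_eq_succ_of_ne_zero hp.ne'
      exact (CSALib.splits_pow_iff _).2 ((hpow _).trans
        (ASBunLib.QTorus.split_of_dvd n ζ q fun j => (hn j).2))
    · obtain ⟨q, rfl⟩ := Nat.exists_eq_succ_of_ne_zero he.ne'
      have h1 := ASBunLib.QTorus.dvd_of_split n ζ q
        ((hpow _).symm.trans ((CSALib.splits_pow_iff _).1 hs)) ⟨0, Nat.succ_pos _⟩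
      exact absurd (Nat.le_of_dvd (Nat.succ_pos q) h1) (not_le.2 hlt)
  · letI := ASBunLib.QTorus.divSym n ζ
    exact CSALib.isIndex_of_algEquiv_matrix (D := D) (m := m) AlgEquiv.refl (by rw [hD, sq])

end Groth.Agent.S14210
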