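import Groth.Statements.S14213
import Groth.Agent.ASBunLib.AbsSplit
-- import your own Groth.Agent.* helpers here

set_option autoImplicit false
set_option backward.isDefEq.respectTransparency false
set_option backward.isDefEq.respectTransparency.types false
set_option linter.style.haveILetI false
set_option maxHeartbeats 1000000
universe u
open CategoryTheory CategoryTheory.Limits AlgebraicGeometry
open ASBun

namespace Groth.Agent.S14213
open Groth.Agent Groth.Agent.ASBunLib
open Groth.Agent

/-- Let A be a central simple algebra of degree n ≥ 1 over a field k (of dimension n² over k), X a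
proper k-scheme which is the Severi–Brauer scheme of A (for every commutative k-algebra R its
R-points over k are, naturally in R, the left ideals of R ⊗_k A with projective quotient of rank n²
− n), K an algebraic closure of k and e a K-isomorphism X_K ≅ P^{n−1}_K, along which O_e(j) denotes
the pullback of the twisting sheaf O(j); let p be the period of A (the least p ≥ 1 for which the
p-fold tensor power of A is a full matrix algebra over k) and E a finite locally free O_X-module.
Then E is absolutely split (E_K is isomorphic to a finite direct sum of invertible O_{X_K}-modules)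
if and only if the cohomology groups H^i(X, E ⊗ L ⊗ W) vanish for all 0 < i < n − 1 = dim X, all
integers a, all invertible O_X-modules L with L_K ≅ O_e(ap), all integers 0 ≤ j < p and all
indecomposable finite locally free O_X-modules W (nonzero, and in any decomposition as a direct sum
one summand is zero) with W_K ≅ O_e(j)^{⊕r} for some r ≥ 1. -/
theorem result (k : Type u) [Field k] (A : Type u) [Ring A] [Algebra k A]
    [Algebra.IsCentral k A] [IsSimpleRing A] (n : ℕ) (hn : 0 < n)
    (hA : Module.finrank k A = n * n) {X : Scheme.{u}} (f : X ⟶ Spec (CommRingCat.of k))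
    [IsProper f] (hX : BrSev.IsSBOf k A (n * n - n) f)
    (K : Type u) [Field K] [Algebra k K] [IsAlgClosure k K] (e : BrSev.Splitting f K (n - 1))
    (p : ℕ) (hp : CSAGal.IsPeriod k A p) (E : X.Modules) (hE : FlatMod.IsFinLocFree E) :
    (∃ (s : ℕ) (Ls : Fin s → (BrSev.bc f K).Modules), (∀ i, PicF.IsInvertible (Ls i)) ∧
        Nonempty (BrSev.bcMod f K E ≅ ∐ Ls)) ↔
      (∀ (i : ℕ), 0 < i → i + 1 < n → ∀ (a : ℤ) (L : X.Modules), PicF.IsInvertible L →
        BrSev.IsTwPow e (a * (p : ℤ)) 1 L → ∀ (j : ℤ), 0 ≤ j → j < (p : ℤ) →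
        ∀ (W : X.Modules), FlatMod.IsFinLocFree W →
        (¬ IsZero W ∧ ∀ M₁ M₂ : X.Modules, Nonempty (W ≅ M₁ ⊞ M₂) → IsZero M₁ ∨ IsZero M₂) →
        ∀ (r : ℕ), 0 < r → BrSev.IsTwPow e j r W →
        Subsingleton (Coh.HH X (CohB1.tensorMod (CohB1.tensorMod E L) W) i)) := by
  classical
  haveI : IsAlgClosed K := IsAlgClosure.isAlgClosed k
  obtain ⟨m, rfl⟩ : ∃ m, n = m + 1 := ⟨n - 1, by omega⟩
  haveI := H23.PnChart.isIntegral_projSpace m K
  haveI := ExtShX.isLocallyNoetherian_pn (k := K) (r := m)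
  let e' : BrSev.Splitting f K m := e
  let E' := (Scheme.Modules.pullback e'.iso.inv).obj (BrSev.bcMod f K E)
  have hEK : FlatMod.IsFinLocFree (BrSev.bcMod f K E) := KFlatLib.isFinLocFree_pullback _ hE
  have hE' : FlatMod.IsFinLocFree E' := KFlatLib.isFinLocFree_pullback _ hEK
  have hterm : ∀ {i : ℕ} {a j : ℤ} {L W : X.Modules} {r : ℕ}, BrSev.IsTwPow e' a 1 L → BrSev.IsTwPow e' j r W →
      PicF.IsInvertible L → FlatMod.IsFinLocFree W → 0 < r →
      (Subsingleton (Coh.HH X (CohB1.tensorMod (CohB1.tensorMod E L) W) (i + 1)) ↔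
        Subsingleton (Coh.HH (CohB1.ProjSpace m K) (CohB1.tensorMod E' (Twist.twistProjSpace m K (a + j))) (i + 1))) := by
    intro i a j L W r hL hW hLi hWf hr
    have hT : FlatMod.IsFinLocFree (CohB1.tensorMod (CohB1.tensorMod E L) W) :=
      isFinLocFree_tensorMod (isFinLocFree_tensorMod hE (H23.PullPush.isFinLocFree_of_isInvertible hLi)) hWf
    obtain ⟨c⟩ := nonempty_bcMod_term e' (E := E) hL hW
    exact (subsingleton_HH_bcMod_iff (f := f) (K := K) hT (i + 1)).symm.trans
      ((⟨AmpleVan.subsingleton_of_iso c _, AmpleVan.subsingleton_of_iso c.symm _⟩ : _ ↔ _).trans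
        ((subsingleton_HH_pow_iff _ hr (i + 1)).trans (subsingleton_HH_transport_iff e' E (a + j) i)))
  constructor
  · rintro ⟨s, Ls, hLs, ⟨eE⟩⟩ i hi hin a L hL hLt j hj hjp W hW hWi r hr hWt
    obtain ⟨i, rfl⟩ : ∃ i', i = i' + 1 := ⟨i - 1, by omega⟩
    refine (hterm hLt hWt hL hW hr).2 ?_
    have hd : ∀ q, ∃ d : ℤ, Nonempty ((Scheme.Modules.pullback e'.iso.inv).obj (Ls q) ≅ Twist.twistProjSpace m K d) := fun q =>
      let ⟨d, hd⟩ := exists_twist_cl m K (PicLoc.isInvertible_pullback e'.iso.inv (hLs q))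
      ⟨d, (PicGrp.cl_eq_cl_iff _ _).1 hd⟩
    choose d hd using hd
    haveI : PreservesColimitsOfSize.{0, 0} (Scheme.Modules.pullback e'.iso.inv) :=
      (Scheme.Modules.pullbackPushforwardAdjunction e'.iso.inv).leftAdjoint_preservesColimits
    let eE' : E' ≅ ∐ fun q => Twist.twistProjSpace m K (d q) := (Scheme.Modules.pullback e'.iso.inv).mapIso eE ≪≫
      PreservesCoproduct.iso (Scheme.Modules.pullback e'.iso.inv) Ls ≪≫ Sigma.mapIso (fun q => (hd q).some)
    exact ((Groth.Agent.S11388.result K m (by omega) E' (CurveDeg.isCoh_of_isFinLocFree hE')).1 ⟨s, d, ⟨eE'⟩⟩).2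
      _ _ hi (by omega)
  · intro h
    obtain ⟨s, d, ⟨eS⟩⟩ : ∃ (s : ℕ) (d : Fin s → ℤ), Nonempty (E' ≅ ∐ fun q => Twist.twistProjSpace m K (d q)) := by
      rcases Nat.eq_zero_or_pos m with rfl | hm
      · haveI := HorrX.subsingleton_pn_zero K
        obtain ⟨U, s, hx, hU⟩ := hE' (Classical.arbitrary _)
        obtain ⟨o⟩ := HorrX.nonempty_iso_free (r := s) (E := E')
          (fun x => ⟨U, Subsingleton.elim (Classical.arbitrary _) x ▸ hx, hU⟩)
        exact ⟨s, fun _ => 0, ⟨o ≪≫ Sigma.mapIso fun _ => ExtShX.Horrocks.oneIso⟩⟩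
      refine (Groth.Agent.S11388.result K m hm E' (CurveDeg.isCoh_of_isFinLocFree hE')).2
        ⟨HorrX.subsingleton_H0_twist_neg K m hm hE', fun t i hi him => ?_⟩
      obtain ⟨i, rfl⟩ : ∃ i', i = i' + 1 := ⟨i - 1, by omega⟩
      have hp0 : (0 : ℤ) < p := by exact_mod_cast hp.1
      obtain ⟨L, rL, hLf, hLi, hrL, hLt⟩ := exists_ind_type f e' ((t / (p : ℤ)) * (p : ℤ))
      obtain ⟨hLinv, rfl⟩ := Groth.Agent.S14199.result k A (m + 1) hn hA f hX K e p hp (t / (p : ℤ)) L hLf hLi rL hrL hLt
      obtain ⟨W, r, hWf, hWi, hr, hWt⟩ := exists_ind_type f e' (t % (p : ℤ))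
      have h1 := (hterm hLt hWt hLinv hWf hr).1 (h (i + 1) hi (by omega) (t / (p : ℤ)) L hLinv hLt (t % (p : ℤ))
        (Int.emod_nonneg _ hp0.ne') (Int.emod_lt_of_pos _ hp0) W hWf hWi r hr hWt)
      rwa [show t / (p : ℤ) * (p : ℤ) + t % (p : ℤ) = t by rw [mul_comm]; exact Int.mul_ediv_add_emod t p] at h1
    refine ⟨s, fun q => e'.twist (d q), fun q => isInvertible_twist e' _, ⟨?_⟩⟩
    haveI : PreservesColimitsOfSize.{0, 0} (Scheme.Modules.pullback e'.iso.hom) :=
      (Scheme.Modules.pullbackPushforwardAdjunction e'.iso.hom).leftAdjoint_preservesColimits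
    exact ((Scheme.Modules.pullbackId _).app _).symm ≪≫ (Scheme.Modules.pullbackCongr e'.iso.hom_inv_id.symm).app _ ≪≫
      ((Scheme.Modules.pullbackComp _ _).app _).symm ≪≫ (Scheme.Modules.pullback e'.iso.hom).mapIso eS ≪≫
      PreservesCoproduct.iso (Scheme.Modules.pullback e'.iso.hom) _

end Groth.Agent.S14213
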