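import Groth.Statements.S14215
import Groth.Agent.ASBunLib.Classify
-- import your own Groth.Agent.* helpers here

set_option autoImplicit false
set_option backward.isDefEq.respectTransparency false
set_option backward.isDefEq.respectTransparency.types false
set_option linter.style.haveILetI false
set_option maxHeartbeats 1000000
universe u
open CategoryTheory CategoryTheory.Limits AlgebraicGeometry
open ASBun

namespace Groth.Agent.S14215
open Groth.Agent

/-- Let A be a central simple algebra of degree n ≥ 1 over a field k (of dimension n² over k), X a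
proper k-scheme which is the Severi–Brauer scheme of A (for every commutative k-algebra R its
R-points over k are, naturally in R, the left ideals of R ⊗_k A with projective quotient of rank n²
− n), K an algebraic closure of k and e a K-isomorphism X_K ≅ P^{n−1}_K, along which O_e(j) denotes
the pullback of the twisting sheaf O(j). Let E be a finite locally free O_X-module which is
absolutely split: E_K is isomorphic to a finite direct sum of invertible O_{X_K}-modules. Then E is
isomorphic to a finite direct sum M_1 ⊕ ⋯ ⊕ M_t of indecomposable finite locally free O_X-modules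
(nonzero, and in any decomposition as a direct sum one summand is zero), each absolutely
rank-one-isotypical of twisting type: (M_i)_K ≅ O_e(j_i)^{⊕r_i} for some integers j_i and some r_i ≥
1 (t = 0 when E = 0). (The published statement groups the summands as the indecomposable modules of
types O(j), 0 ≤ j < p, twisted by descents of O(ap), p the period, and records uniqueness of the
multiplicities, which is Krull–Schmidt.) -/
theorem result (k : Type u) [Field k] (A : Type u) [Ring A] [Algebra k A]
    [Algebra.IsCentral k A] [IsSimpleRing A] (n : ℕ) (hn : 0 < n)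
    (hA : Module.finrank k A = n * n) {X : Scheme.{u}} (f : X ⟶ Spec (CommRingCat.of k))
    [IsProper f] (hX : BrSev.IsSBOf k A (n * n - n) f)
    (K : Type u) [Field K] [Algebra k K] [IsAlgClosure k K] (e : BrSev.Splitting f K (n - 1))
    (E : X.Modules) (hE : FlatMod.IsFinLocFree E)
    (s : ℕ) (Ls : Fin s → (BrSev.bc f K).Modules) (hLs : ∀ i, PicF.IsInvertible (Ls i))
    (hsplit : Nonempty (BrSev.bcMod f K E ≅ ∐ Ls)) :
    ∃ (t : ℕ) (Ms : Fin t → X.Modules) (js : Fin t → ℤ) (rs : Fin t → ℕ),
      (∀ i, FlatMod.IsFinLocFree (Ms i) ∧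
        (¬ IsZero (Ms i) ∧ ∀ M₁ M₂ : X.Modules, Nonempty ((Ms i) ≅ M₁ ⊞ M₂) → IsZero M₁ ∨ IsZero M₂) ∧
        0 < rs i ∧ BrSev.IsTwPow e (js i) (rs i) (Ms i)) ∧
      Nonempty (E ≅ ∐ Ms) := by
  classical
  haveI := Abelian.hasFiniteBiproducts (C := X.Modules)
  haveI := Abelian.hasFiniteBiproducts (C := (BrSev.bc f K).Modules)
  letI : X.Over (Spec (CommRingCat.of k)) := ⟨f⟩
  haveI : IsProper (X ↘ Spec (CommRingCat.of k)) := ‹IsProper f›
  letI : (BrSev.bc f K).Over (Spec (CommRingCat.of K)) := ⟨BrSev.bcTo f K⟩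
  haveI : IsProper ((BrSev.bc f K) ↘ Spec (CommRingCat.of K)) :=
    inferInstanceAs (IsProper (Limits.pullback.snd f (Spec.map (CommRingCat.ofHom (algebraMap k K)))))
  haveI : IsAlgClosed K := IsAlgClosure.isAlgClosed k
  haveI := Groth.Agent.ASBunLib.isIntegral_bc e
  haveI := Groth.Agent.CurveCohLib.isNoetherian_of_proper (k := k) (X := X)
  haveI : (Scheme.Modules.pullback (BrSev.proj f K)).Additive :=
    (Scheme.Modules.pullbackPushforwardAdjunction (BrSev.proj f K)).left_adjoint_additive
  have hbc : IsPullback (BrSev.proj f K) ((BrSev.bc f K) ↘ Spec (CommRingCat.of K)) (X ↘ Spec (CommRingCat.of k))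
      (Spec.map (CommRingCat.ofHom (algebraMap k K))) := IsPullback.of_hasPullback _ _
  obtain ⟨hfl, hsurj⟩ := Groth.Agent.ASBunLib.flat_surjective_proj (k := k) (K := K) (X := X) (X' := BrSev.bc f K) hbc
  haveI := hfl
  haveI := hsurj
  obtain ⟨es⟩ := hsplit
  have hEc := Groth.Agent.CurveDeg.isCoh_of_isFinLocFree hE
  haveI : Module.Finite k (E ⟶ E) := Groth.Agent.CurveKS.finite_hom k hEc hEc
  obtain ⟨t, Gs, hGs, ⟨eG⟩⟩ := Groth.Agent.CurveKS.exists_decomposition k E
  have hGc : ∀ i, Coh.IsCoh (Gs i) := fun i =>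
    Groth.Agent.ASBunLib.isCoh_of_retract hEc (biproduct.ι Gs i ≫ eG.inv) (eG.hom ≫ biproduct.π Gs i) (by simp)
  have hGf : ∀ i, FlatMod.IsFinLocFree (Gs i) := fun i => by
    haveI : IsIso ((biproduct.ι Gs i ≫ eG.inv) ≫ eG.hom ≫ biproduct.π Gs i) := by simp; infer_instance
    exact Groth.Agent.ASBunLib.isFinLocFree_summand hE
      (Groth.Agent.ASBunLib.exists_complement (biproduct.ι Gs i ≫ eG.inv) (eG.hom ≫ biproduct.π Gs i)).some
  let b' := es ≪≫ (biproduct.isoCoproduct Ls).symm
  have hkey : ∀ i, ∃ (j : ℤ) (r : ℕ), 0 < r ∧ BrSev.IsTwPow e j r (Gs i) := fun i => by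
    obtain ⟨l, a, b, hab⟩ := Groth.Agent.ASBunLib.exists_retract_of_retract (K := K)
      (fun l => Groth.Agent.ASBunLib.ind_of_finrank_end (Groth.Agent.ASBunLib.finrank_end_invertible
        (Groth.Agent.ASBunLib.surjective_toGlobal (K := K) (Y := BrSev.bc f K)) (hLs l)))
      (Groth.Agent.ZClosLib.isCoh_pullback (BrSev.proj f K) (hGc i))
      (fun hz => (hGs i).1 (Groth.Agent.KFlatLib.isZero_of_isZero_pullback (BrSev.proj f K) (Gs i) hz))
      ((Scheme.Modules.pullback (BrSev.proj f K)).map (biproduct.ι Gs i ≫ eG.inv) ≫ b'.hom)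
      (b'.inv ≫ (Scheme.Modules.pullback (BrSev.proj f K)).map (eG.hom ≫ biproduct.π Gs i)) (by
        rw [Category.assoc, b'.hom_inv_id_assoc, ← CategoryTheory.Functor.map_comp]
        rw [show (biproduct.ι Gs i ≫ eG.inv) ≫ eG.hom ≫ biproduct.π Gs i = 𝟙 _ by simp, CategoryTheory.Functor.map_id])
    exact Groth.Agent.ASBunLib.exists_twPow_of_retract hn hA hX e (hGf i) (hGs i) (hLs l) a b hab
  choose js rs hrs htw using hkey
  exact ⟨t, Gs, js, rs, fun i => ⟨hGf i, hGs i, hrs i, htw i⟩, ⟨eG ≪≫ biproduct.isoCoproduct Gs⟩⟩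

end Groth.Agent.S14215
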