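import Groth.Statements.S14216
import Groth.Agent.S14215
import Groth.Agent.S14199
import Groth.Agent.S14206
import Groth.Agent.ASBunLib.IndexArith
import Groth.Agent.ASBunLib.Pow
-- import your own Groth.Agent.* helpers here

set_option autoImplicit false
set_option backward.isDefEq.respectTransparency false
set_option backward.isDefEq.respectTransparency.types false
set_option linter.style.haveILetI false
set_option maxHeartbeats 1000000
universe u
open CategoryTheory CategoryTheory.Limits AlgebraicGeometry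
open ASBun

namespace Groth.Agent.S14216
open Groth.Agent

/-- Let A be a central simple algebra of degree n ≥ 1 over a field k (of dimension n² over k), X a
proper k-scheme which is the Severi–Brauer scheme of A (for every commutative k-algebra R its
R-points over k are, naturally in R, the left ideals of R ⊗_k A with projective quotient of rank n²
− n), K an algebraic closure of k and e a K-isomorphism X_K ≅ P^{n−1}_K, along which O_e(j) denotes
the pullback of the twisting sheaf O(j); suppose A has index 2 (A is a matrix algebra over a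
division ring of dimension 4 over k). Let E be a finite locally free O_X-module which is absolutely
split: E_K is isomorphic to a finite direct sum of invertible O_{X_K}-modules. Then E ≅ (L_1 ⊕ ⋯ ⊕
L_s) ⊕ (M_1 ⊕ ⋯ ⊕ M_t) where each L_i is an invertible O_X-module with (L_i)_K ≅ O_e(2a_i) and each
M_i is an indecomposable finite locally free O_X-module (nonzero, and in any decomposition as a
direct sum one summand is zero) of rank 2 with (M_i)_K ≅ O_e(2b_i + 1)^{⊕2}, for integers a_i, b_i.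
(The published statement also records that s, t and the a_i, b_j are unique, which is the
Krull–Schmidt uniqueness and is not restated here.) -/
theorem result (k : Type u) [Field k] (A : Type u) [Ring A] [Algebra k A]
    [Algebra.IsCentral k A] [IsSimpleRing A] (n : ℕ) (hn : 0 < n)
    (hA : Module.finrank k A = n * n) {X : Scheme.{u}} (f : X ⟶ Spec (CommRingCat.of k))
    [IsProper f] (hX : BrSev.IsSBOf k A (n * n - n) f)
    (K : Type u) [Field K] [Algebra k K] [IsAlgClosure k K] (e : BrSev.Splitting f K (n - 1))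
    (hi : CSAGal.IsIndex k A 2) (E : X.Modules) (hE : FlatMod.IsFinLocFree E)
    (s₀ : ℕ) (Ns : Fin s₀ → (BrSev.bc f K).Modules) (hNs : ∀ i, PicF.IsInvertible (Ns i))
    (hsplit : Nonempty (BrSev.bcMod f K E ≅ ∐ Ns)) :
    ∃ (s t : ℕ) (Ls : Fin s → X.Modules) (Ms : Fin t → X.Modules) (a : Fin s → ℤ) (b : Fin t → ℤ),
      (∀ i, PicF.IsInvertible (Ls i) ∧ BrSev.IsTwPow e (2 * a i) 1 (Ls i)) ∧
      (∀ i, FlatMod.IsFinLocFree (Ms i) ∧
        (¬ IsZero (Ms i) ∧ ∀ M₁ M₂ : X.Modules, Nonempty ((Ms i) ≅ M₁ ⊞ M₂) → IsZero M₁ ∨ IsZero M₂) ∧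
        BrSev.IsTwPow e (2 * b i + 1) 2 (Ms i)) ∧
      Nonempty (E ≅ (∐ Ls) ⊞ (∐ Ms)) := by
  classical
  haveI : Module.Finite k A := Module.finite_of_finrank_pos (by rw [hA]; positivity)
  haveI := Abelian.hasFiniteBiproducts (C := X.Modules)
  have hsplit2 := Groth.Agent.CSALib.similar_pow_index hi
  have hp : CSAGal.IsPeriod k A 2 := by
    refine ⟨by norm_num, (Groth.Agent.CSALib.splits_pow_iff _).2 hsplit2, fun e' h1 h2 h3 => ?_⟩
    obtain rfl : e' = 1 := by omega
    have h4 : Groth.Agent.CSALib.Similar k A k :=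
      (Groth.Agent.CSALib.similar_pow_one k A).symm.trans ((Groth.Agent.CSALib.splits_pow_iff _).1 h3)
    have h5 := Groth.Agent.CSALib.isIndex_of_similar (k := k) (A := A) (d' := 1) (by rw [Module.finrank_self, one_pow]) h4
    exact absurd (Groth.Agent.CSALib.isIndex_unique hi h5) (by norm_num)
  obtain ⟨t₀, Ms, js, rs, hMs, ⟨eE⟩⟩ := Groth.Agent.S14215.result k A n hn hA f hX K e E hE s₀ Ns hNs hsplit
  let ev : Fin t₀ → Prop := fun i => (2 : ℤ) ∣ js i
  let σe := (Fintype.equivFin {i // ev i}).symm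
  let σo := (Fintype.equivFin {i // ¬ ev i}).symm
  let σ : Fin (Fintype.card {i // ev i}) ⊕ Fin (Fintype.card {i // ¬ ev i}) ≃ Fin t₀ :=
    (Equiv.sumCongr σe σo).trans (Equiv.sumCompl ev)
  have hev : ∀ a, (2 : ℤ) ∣ js (σ (Sum.inl a)) := fun a => (σe a).2
  have hod : ∀ b, ¬ (2 : ℤ) ∣ js (σ (Sum.inr b)) := fun b => (σo b).2
  have hL : ∀ a, PicF.IsInvertible (Ms (σ (Sum.inl a))) ∧
      BrSev.IsTwPow e (2 * (js (σ (Sum.inl a)) / 2)) 1 (Ms (σ (Sum.inl a))) := fun a => by
    obtain ⟨hf, hind, hr, ht⟩ := hMs (σ (Sum.inl a))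
    have h2 : js (σ (Sum.inl a)) = (js (σ (Sum.inl a)) / 2) * ((2 : ℕ) : ℤ) :=
      (Int.ediv_mul_cancel (hev a)).symm
    obtain ⟨h3, h4⟩ := Groth.Agent.S14199.result k A n hn hA f hX K e 2 hp (js (σ (Sum.inl a)) / 2) _ hf hind
      (rs (σ (Sum.inl a))) hr (h2 ▸ ht)
    refine ⟨h3, ?_⟩
    rw [h4] at ht
    rwa [Int.mul_ediv_cancel' (hev a)]
  have hM : ∀ b, BrSev.IsTwPow e (2 * (js (σ (Sum.inr b)) / 2) + 1) 2 (Ms (σ (Sum.inr b))) := fun b => by
    obtain ⟨hf, hind, hr, ht⟩ := hMs (σ (Sum.inr b))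
    have h4 := Groth.Agent.S14206.result k A n hn hA f hX K e 2 hp hi _ hf hind _ _ hr ht
    have hodd : Nat.gcd 2 (js (σ (Sum.inr b))).natAbs = 1 :=
      (Nat.Prime.coprime_iff_not_dvd Nat.prime_two).2 fun h => hod b (Int.natCast_dvd.2 h)
    rw [hodd, Nat.div_one] at h4
    rw [h4] at ht
    have h5 : 2 * (js (σ (Sum.inr b)) / 2) + 1 = js (σ (Sum.inr b)) := by have := hod b; omega
    rwa [h5]
  refine ⟨_, _, fun a => Ms (σ (Sum.inl a)), fun b => Ms (σ (Sum.inr b)), fun a => js (σ (Sum.inl a)) / 2,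
    fun b => js (σ (Sum.inr b)) / 2, hL, fun b => ⟨(hMs _).1, (hMs _).2.1, hM b⟩, ⟨eE ≪≫ ?_⟩⟩
  refine (Sigma.whiskerEquiv (f := fun x => Ms (σ x)) (g := Ms) σ fun _ => Iso.refl _).symm ≪≫ ?_
  exact
    { hom := Sigma.desc fun x => Sum.rec (motive := fun x => Ms (σ x) ⟶ _)
        (fun a => Sigma.ι (fun a => Ms (σ (Sum.inl a))) a ≫ biprod.inl)
        (fun b => Sigma.ι (fun b => Ms (σ (Sum.inr b))) b ≫ biprod.inr) x
      inv := biprod.desc (Sigma.desc fun a => Sigma.ι (fun x => Ms (σ x)) (Sum.inl a))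
        (Sigma.desc fun b => Sigma.ι (fun x => Ms (σ x)) (Sum.inr b))
      hom_inv_id := Limits.Sigma.hom_ext _ _ fun x => by cases x <;> simp
      inv_hom_id := biprod.hom_ext' _ _ (Limits.Sigma.hom_ext _ _ fun a => by simp)
        (Limits.Sigma.hom_ext _ _ fun b => by simp) }

end Groth.Agent.S14216
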