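import Groth.Statements.S14274
import Groth.Agent.FlatHartogs.HomExt
import Groth.Agent.FinTorsor.Main
-- import your own Groth.Agent.* helpers here

set_option autoImplicit false
set_option backward.isDefEq.respectTransparency false
set_option maxHeartbeats 1000000
set_option linter.style.haveILetI false
universe u
open scoped CategoryTheory.Obj
open NonAbH1

namespace Groth.Agent.S14274

open AlgebraicGeometry CategoryTheory CategoryTheory.Limits MonoidalCategory in
/-- Let X be a scheme, G a finite locally free X-group scheme (finite, flat and locally of finite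
presentation over X, not necessarily commutative), and U an open subscheme of X whose inclusion is
quasi-compact, such that for every point z of X outside U the local ring of X at z is regular of
Krull dimension at least 2. Let Q₁ and Q₂ be fppf G-torsors over X. Then every U-morphism between
their base changes to U that is equivariant for the base-changed group is the base change of a
unique G-equivariant X-morphism Q₁ -> Q₂. (With the essential-surjectivity row this is the statement
that pullback is an equivalence from G-torsors over X to torsors over U under the base change of G.) -/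
theorem result {X : Scheme.{u}} (G : Over X) [GrpObj G]
    [IsFinite G.hom] [Flat G.hom] [LocallyOfFinitePresentation G.hom]
    (U : X.Opens) [QuasiCompact U.ι]
    (hZ : ∀ z : X, z ∉ U → IsRegularLocalRing (X.presheaf.stalk z) ∧ (2 : WithBot ℕ∞) ≤ ringKrullDim (X.presheaf.stalk z))
    (Q₁ Q₂ : Over X) (a₁ : AlgGrp.Action G Q₁) (a₂ : AlgGrp.Action G Q₂)
    (h₁ : NonAbH1.IsTorsorFor Scheme.fppfPrecoverage a₁) (h₂ : NonAbH1.IsTorsorFor Scheme.fppfPrecoverage a₂)
    (h' : (Over.pullback U.ι).obj Q₁ ⟶ (Over.pullback U.ι).obj Q₂)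
    (hh' : (Functor.LaxMonoidal.μ (Over.pullback U.ι) G Q₁ ≫ (Over.pullback U.ι).map a₁.act) ≫ h' =
      ((Over.pullback U.ι).obj G ◁ h') ≫ (Functor.LaxMonoidal.μ (Over.pullback U.ι) G Q₂ ≫ (Over.pullback U.ι).map a₂.act)) :
    ∃! h : Q₁ ⟶ Q₂, a₁.act ≫ h = (G ◁ h) ≫ a₂.act ∧ (Over.pullback U.ι).map h = h' := by
  have hfpqc : ∀ (Q : Over X) (a : AlgGrp.Action G Q), NonAbH1.IsTorsorFor Scheme.fppfPrecoverage a →
      IsFinite Q.hom ∧ Flat Q.hom ∧ Surjective Q.hom := fun Q a h =>
    FinTorsor.finite_flat_torsor (a := a)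
      ⟨h.1, h.2.choose, Scheme.fppfPrecoverage_le_fpqcPrecoverage _ h.2.choose_spec.1, h.2.choose_spec.2⟩
  obtain ⟨hf₁, hl₁, hs₁⟩ := hfpqc Q₁ a₁ h₁
  obtain ⟨hf₂, hl₂, hs₂⟩ := hfpqc Q₂ a₂ h₂
  have hmap : ∀ {Y : Over X} [Flat Y.hom] (m m' : Y ⟶ Q₂),
      (Over.pullback U.ι).map m = (Over.pullback U.ι).map m' → m = m' := fun m m' h => by
    refine FlatHartogs.ext_hom U hZ ?_
    have e := congrArg (fun q => q.left ≫ Limits.pullback.fst Q₂.hom U.ι) h
    simpa using e
  let k := h'.left ≫ Limits.pullback.fst Q₂.hom U.ι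
  obtain ⟨h, hh⟩ := FlatHartogs.exists_hom_ext U hZ (Y := Q₁) (T := Q₂) k (by
    have e : h'.left ≫ Limits.pullback.snd Q₂.hom U.ι = Limits.pullback.snd Q₁.hom U.ι := Over.w h'
    simp only [k, Category.assoc, Limits.pullback.condition]
    rw [reassoc_of% e])
  have hres : (Over.pullback U.ι).map h = h' := by
    apply Over.OverMorphism.ext
    apply Limits.pullback.hom_ext
    · simpa [k] using hh
    · have e : h'.left ≫ Limits.pullback.snd Q₂.hom U.ι = Limits.pullback.snd Q₁.hom U.ι := Over.w h'
      simpa using e.symm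
  refine ⟨h, ⟨?_, hres⟩, fun h₀ hh₀ => hmap h₀ h (hh₀.2.trans hres.symm)⟩
  haveI : Flat (G ⊗ Q₁).hom := by
    rw [← Over.w (SemiCartesianMonoidalCategory.snd G Q₁)]
    haveI : Flat (SemiCartesianMonoidalCategory.snd G Q₁).left := inferInstanceAs (Flat (Limits.pullback.snd G.hom Q₁.hom))
    infer_instance
  refine hmap _ _ ?_
  rw [Functor.map_comp, Functor.map_comp, ← cancel_epi (Functor.LaxMonoidal.μ (Over.pullback U.ι) G Q₁),
    ← Functor.LaxMonoidal.μ_natural_right_assoc, hres, ← Category.assoc]
  exact hh'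

end Groth.Agent.S14274
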