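import Groth.Statements.S14285
import Groth.Agent.QCoh.UnitPush

set_option autoImplicit false
set_option backward.isDefEq.respectTransparency false
set_option backward.isDefEq.respectTransparency.types false
set_option maxHeartbeats 1000000
set_option linter.style.haveILetI false
universe u
open CategoryTheory AlgebraicGeometry
open EllLift

namespace Groth.Agent.S14285

/-- Let R be a complete Noetherian local ring with maximal ideal m and residue field k = R/m, g : X →
Spec R a proper and flat morphism, and i : X₀ → X the fibre of g over the closed point, i.e. a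
pullback of g along Spec k → Spec R, with structure map f₀ : X₀ → Spec k. If the induced ring map k
→ Γ(X₀, O_{X₀}) is bijective, then so is R → Γ(X, O_X). -/
theorem result (R : Type u) [CommRing R]
    [IsLocalRing R] [IsNoetherianRing R] [IsAdicComplete (IsLocalRing.maximalIdeal R) R]
    (X X₀ : Scheme.{u}) (g : X ⟶ Spec (CommRingCat.of R)) [IsProper g] [Flat g]
    (i : X₀ ⟶ X) (f₀ : X₀ ⟶ Spec (CommRingCat.of (R ⧸ IsLocalRing.maximalIdeal R)))
    (hsq : IsPullback i f₀ g
      (Spec.map (CommRingCat.ofHom (Ideal.Quotient.mk (IsLocalRing.maximalIdeal R)))))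
    (h0 : Function.Bijective ((Scheme.ΓSpecIso (CommRingCat.of (R ⧸ IsLocalRing.maximalIdeal R))).inv ≫
      f₀.appTop)) :
    Function.Bijective ((Scheme.ΓSpecIso (CommRingCat.of R)).inv ≫ g.appTop) := by
  letI : X.Over (Spec (CommRingCat.of R)) := ⟨g⟩
  haveI : IsProper (X ↘ Spec (CommRingCat.of R)) := inferInstanceAs (IsProper g)
  haveI : Flat (X ↘ Spec (CommRingCat.of R)) := inferInstanceAs (Flat g)
  let t := Spec.map (CommRingCat.ofHom (IsLocalRing.residue R))
  have hsnd : Function.Bijective (Limits.pullback.snd g t).appTop := by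
    have h1 : Function.Bijective f₀.appTop := by
      have := h0.comp (ConcreteCategory.bijective_of_isIso (Scheme.ΓSpecIso (CommRingCat.of (R ⧸ IsLocalRing.maximalIdeal R))).hom)
      refine (congrArg Function.Bijective (funext fun x => ?_)).mp this
      show f₀.appTop ((Scheme.ΓSpecIso _).inv ((Scheme.ΓSpecIso _).hom x)) = f₀.appTop x
      rw [Iso.hom_inv_id_apply]
    let e := hsq.isoPullback
    have he : e.hom ≫ Limits.pullback.snd g t = f₀ := hsq.isoPullback_hom_snd
    rw [← he, Scheme.Hom.comp_appTop] at h1
    haveI : IsIso e.hom.appTop := inferInstanceAs (IsIso (Scheme.Γ.map e.hom.op))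
    exact (Function.Bijective.of_comp_iff' (ConcreteCategory.bijective_of_isIso e.hom.appTop) _).mp h1
  have h := QCoh.UnitPush.bijective_α_of_local (X := X) hsnd
  refine (congrArg Function.Bijective (funext fun a => ?_)).mp h
  rw [QCoh.UnitPush.α_eq]
  exact (congrArg (fun φ => φ (Coh.toGlobal g a)) (X.presheaf.map_id _)).trans rfl

end Groth.Agent.S14285
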