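import Groth.Statements.S14292
import Groth.Agent.EllLiftLib.EtaleIsom
-- import your own Groth.Agent.* helpers here

set_option autoImplicit false
universe u
open EllLift

namespace Groth.Agent.S14292

/-- Let A be a commutative ring and W₁, W₂ Weierstrass cubics over A with unit discriminants and the
same j-invariant j, such that j and j - 1728 are both units of A (the modular invariant avoids the
special values 0 and 1728 at every point). Then for every prime ideal p of A there exist an étale
A-algebra B with a prime lying over p and a change of variables over B carrying the base change of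
W₁ to that of W₂; that is, the two elliptic curves become isomorphic on an étale neighbourhood of
every point of Spec A. (The published statement is about Weierstrass curves with possibly nodal,
geometrically irreducible fibres over an arbitrary base scheme whose modular invariant avoids 0,
1728 and ∞; this row is the case of unit discriminant over an affine base.) -/
theorem result (A : Type u) [CommRing A]
    (W₁ W₂ : WeierstrassCurve A) [W₁.IsElliptic] [W₂.IsElliptic] (hj : W₁.j = W₂.j)
    (h0 : IsUnit W₁.j) (h1728 : IsUnit (W₁.j - 1728)) (p : PrimeSpectrum A) :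
    ∃ (B : Type u) (_ : CommRing B) (_ : Algebra A B), Algebra.Etale A B ∧
      p ∈ Set.range (PrimeSpectrum.comap (algebraMap A B)) ∧
      ∃ C : WeierstrassCurve.VariableChange B, C • (W₁.map (algebraMap A B)) = W₂.map (algebraMap A B) := by
  have hc : ∀ (W : WeierstrassCurve A) [W.IsElliptic], IsUnit W.j → IsUnit (W.j - 1728) → IsUnit W.c₄ ∧ IsUnit W.c₆ := by
    intro W _ h h'
    rw [WeierstrassCurve.j, IsUnit.mul_iff, isUnit_pow_iff three_ne_zero] at h
    refine ⟨h.2, (isUnit_pow_iff two_ne_zero).1 ?_⟩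
    have e : (W.j - 1728) * W.Δ = W.c₆ ^ 2 := by
      rw [WeierstrassCurve.j, ← W.coe_Δ']
      have h1 : (↑W.Δ'⁻¹ : A) * W.Δ' = 1 := Units.inv_mul _
      have := W.c_relation
      rw [← W.coe_Δ'] at this
      linear_combination W.c₄ ^ 3 * h1 - this
    rw [← e]
    exact h'.mul W.isUnit_Δ
  have e : W₂.Δ * W₁.c₄ ^ 3 = W₁.Δ * W₂.c₄ ^ 3 := by
    have h1 : (↑W₁.Δ'⁻¹ : A) * W₁.Δ' = 1 := Units.inv_mul _
    have h2 : (↑W₂.Δ'⁻¹ : A) * W₂.Δ' = 1 := Units.inv_mul _
    rw [WeierstrassCurve.j, WeierstrassCurve.j] at hj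
    rw [← W₁.coe_Δ', ← W₂.coe_Δ']
    linear_combination (W₁.Δ' : A) * (W₂.Δ' : A) * hj - (W₂.Δ' : A) * W₁.c₄ ^ 3 * h1 + (W₁.Δ' : A) * W₂.c₄ ^ 3 * h2
  obtain ⟨h4, h6⟩ := hc W₁ h0 h1728
  obtain ⟨h4', h6'⟩ := hc W₂ (hj ▸ h0) (hj ▸ h1728)
  exact Groth.Agent.EllLiftLib.etIso_main p W₁ W₂ h4 h4' h6 h6' W₁.isUnit_Δ W₂.isUnit_Δ e

end Groth.Agent.S14292
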