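import Groth.Statements.S14297
import Groth.Agent.PtDegLib.Deviation

set_option autoImplicit false
universe u
open MeasureTheory
open PtDeg

namespace Groth.Agent.S14297

open MeasureTheory

/-- Let G be a compact Hausdorff commutative topological group, written additively, μ its Haar measure
of total mass 1, m ≥ 1 an integer and ψ : G^{m+1} → ℝ a continuous function which is a 2-cocycle
with respect to every pair of variables: for all positions i ≠ j, every point x of G^{m+1} and all
a, b, c in G, writing x[i ↦ a, j ↦ c] for x with its i-th coordinate replaced by a and its j-th by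
c, one has ψ(x[i ↦ a+b, j ↦ c]) + ψ(x[i ↦ a, j ↦ b]) = ψ(x[i ↦ a, j ↦ b+c]) + ψ(x[i ↦ b, j ↦ c]).
Let φ : G → ℝ be φ(g) = (−1)^m ∫_{G^m} ψ(g, u_1, …, u_m) dμ^{⊗m}(u). Then ψ is the (m+1)-st
deviation of φ, namely ψ(x) = Σ_{∅ ≠ I ⊆ {0,…,m}} (−1)^{m+1+|I|} φ(Σ_{i ∈ I} x_i) for every x; φ is
continuous; and φ is the unique continuous function G → ℝ with this property. -/
theorem result {G : Type u} [AddCommGroup G] [TopologicalSpace G] [IsTopologicalAddGroup G] [CompactSpace G] [T2Space G]
    [MeasurableSpace G] [BorelSpace G] (μ : MeasureTheory.Measure G) [μ.IsAddHaarMeasure] [MeasureTheory.IsProbabilityMeasure μ]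
    (m : ℕ) (hm : 1 ≤ m) (ψ : (Fin (m + 1) → G) → ℝ) (hψc : Continuous ψ)
    (hψ : ∀ (i j : Fin (m + 1)), i ≠ j → ∀ (x : Fin (m + 1) → G) (a b c : G),
      ψ (Function.update (Function.update x i (a + b)) j c) + ψ (Function.update (Function.update x i a) j b) =
        ψ (Function.update (Function.update x i a) j (b + c)) + ψ (Function.update (Function.update x i b) j c)) :
    (∀ x : Fin (m + 1) → G,
      ψ x = ∑ I ∈ ((Finset.univ : Finset (Fin (m + 1))).powerset.erase ∅),
        (-1 : ℝ) ^ (m + 1 + I.card) * ((-1 : ℝ) ^ m *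
          ∫ u, ψ (Fin.cons (∑ i ∈ I, x i) u) ∂(MeasureTheory.Measure.pi (fun _ : Fin m => μ)))) ∧
    Continuous (fun g : G => (-1 : ℝ) ^ m * ∫ u, ψ (Fin.cons g u) ∂(MeasureTheory.Measure.pi (fun _ : Fin m => μ))) ∧
    (∀ φ : G → ℝ, Continuous φ → (∀ x : Fin (m + 1) → G,
      ψ x = ∑ I ∈ ((Finset.univ : Finset (Fin (m + 1))).powerset.erase ∅), (-1 : ℝ) ^ (m + 1 + I.card) * φ (∑ i ∈ I, x i)) →
      φ = fun g => (-1 : ℝ) ^ m * ∫ u, ψ (Fin.cons g u) ∂(MeasureTheory.Measure.pi (fun _ : Fin m => μ))) := by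
  classical
  set ν := Measure.pi (fun _ : Fin m => μ) with hν
  have hsign : ∀ I : Finset (Fin (m + 1)), (-1 : ℝ) ^ (m + 1 + I.card) * (-1 : ℝ) ^ m = (-1) ^ (I.card + 1) := fun I => by
    rw [← pow_add, show m + 1 + I.card + m = 2 * m + (I.card + 1) by omega, pow_add, pow_mul]; simp
  have hm2 : (-1 : ℝ) ^ m * (-1 : ℝ) ^ m = 1 := by
    rw [← mul_pow]; simp
  have hpres : MeasurePreserving (fun u : Fin (m + 1) → G => Fin.tail u) (Measure.pi fun _ => μ) ν := by
    have h1 := measurePreserving_piFinSuccAbove (fun _ : Fin (m + 1) => μ) 0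
    have h2 := (measurePreserving_snd (μ := μ) (ν := ν)).comp h1
    convert h2 using 1
    ext u l
    simp [MeasurableEquiv.piFinSuccAbove, Fin.tail, Fin.insertNthEquiv, Fin.zero_succAbove]
  have hφ0 : ∀ x : Fin (m + 1) → G, PtDegLib.avg μ ψ {0} x = ∫ u, ψ (Fin.cons (x 0) u) ∂ν := fun x => by
    have hmeas : Measurable (fun u : Fin m → G => ψ (Fin.cons (x 0) u)) :=
      PtDegLib.measurable_pi_of_continuous (hψc.comp (by fun_prop))
    rw [← hpres.map_eq, integral_map hpres.measurable.aemeasurable hmeas.aestronglyMeasurable, PtDegLib.avg]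
    refine integral_congr_ae (Filter.Eventually.of_forall fun u => congrArg ψ (funext fun l => ?_))
    refine Fin.cases ?_ ?_ l
    · simp
    · intro l; simp [Fin.tail, Fin.succ_ne_zero]
  refine ⟨fun x => ?_, ?_, fun φ hφc hφ => ?_⟩
  · have h := PtDegLib.avg_eq_altSum μ hψc hψ 0 (fun g => ∫ u, ψ (Fin.cons g u) ∂ν) hφ0
      (Finset.univ.erase 0) (Finset.notMem_erase _ _) x
    rw [Finset.insert_erase (Finset.mem_univ _), PtDegLib.avg] at h
    simp only [Finset.piecewise_univ, integral_const, probReal_univ, one_smul] at h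
    refine (h.trans (PtDegLib.altSum_erase _ 0 x).symm).trans (Finset.sum_congr rfl fun I _ => ?_)
    rw [← mul_assoc, hsign]
  · obtain ⟨C, hC⟩ := isCompact_univ.exists_bound_of_continuousOn hψc.continuousOn
    refine continuous_const.mul (continuous_iff_continuousAt.mpr fun g₀ => ?_)
    have hunif : ∀ ε > 0, ∀ᶠ g in nhds g₀, ∀ u : Fin m → G, |ψ (Fin.cons g u) - ψ (Fin.cons g₀ u)| ≤ ε := by
      intro ε hε
      have hc2 : Continuous (fun z : G × (Fin m → G) => |ψ (Fin.cons z.1 z.2) - ψ (Fin.cons g₀ z.2)|) := by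
        fun_prop
      have := isCompact_univ.eventually_forall_of_forall_eventually (x₀ := g₀)
        (P := fun (g : G) (u : Fin m → G) => |ψ (Fin.cons g u) - ψ (Fin.cons g₀ u)| ≤ ε) fun u _ => by
          refine (hc2.tendsto (g₀, u)).eventually_le_const ?_
          simpa using hε
      filter_upwards [this] with g hg u
      exact hg u (Set.mem_univ u)
    rw [ContinuousAt, Metric.tendsto_nhds]
    intro ε hε
    filter_upwards [hunif (ε / 2) (by linarith)] with g hg
    have hi : ∀ g : G, Integrable (fun u => ψ (Fin.cons g u)) ν := fun g =>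
      PtDegLib.integrable_pi_of_continuous μ (hψc.comp (by fun_prop))
    rw [Real.dist_eq, ← integral_sub (hi g) (hi g₀)]
    have := norm_integral_le_of_norm_le_const (μ := ν) (C := ε / 2) (f := fun u => ψ (Fin.cons g u) - ψ (Fin.cons g₀ u)) (Filter.Eventually.of_forall fun u => hg u)
    simp only [probReal_univ, mul_one, Real.norm_eq_abs] at this
    linarith
  · funext g
    have hi : ∀ I : Finset (Fin (m + 1)), Integrable (fun u => φ (∑ i ∈ I, Fin.cons (α := fun _ => G) g u i)) ν := fun I =>
      PtDegLib.integrable_pi_of_continuous μ (hφc.comp (by fun_prop))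
    have h : ∫ u, ψ (Fin.cons g u) ∂ν = ∫ u, (∑ I ∈ ((Finset.univ : Finset (Fin (m + 1))).powerset.erase ∅),
        (-1 : ℝ) ^ (m + 1 + I.card) * φ (∑ i ∈ I, Fin.cons (α := fun _ => G) g u i)) ∂ν :=
      integral_congr_ae (Filter.Eventually.of_forall fun u => hφ _)
    rw [integral_finsetSum _ (fun I _ => (hi I).const_mul _)] at h
    simp only [integral_const_mul] at h
    have hval : ∀ I ∈ ((Finset.univ : Finset (Fin (m + 1))).powerset.erase ∅).erase {0},
        ∫ u, φ (∑ i ∈ I, Fin.cons (α := fun _ => G) g u i) ∂ν = ∫ t, φ t ∂μ := by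
      intro I hI
      simp only [Finset.mem_erase, Finset.mem_powerset] at hI
      let s : Finset (Fin m) := Finset.univ.filter fun l => l.succ ∈ I
      have hs : s.Nonempty := by
        by_contra hcon
        have hsub : I ⊆ {0} := fun i hi' => by
          rcases Fin.eq_zero_or_eq_succ i with rfl | ⟨l, rfl⟩
          · exact Finset.mem_singleton_self _
          · exact absurd ⟨l, Finset.mem_filter.mpr ⟨Finset.mem_univ _, hi'⟩⟩ hcon
        rcases Finset.subset_singleton_iff.mp hsub with e | e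
        · exact hI.2.1 e
        · exact hI.1 e
      have hsplit : ∀ u : Fin m → G, ∑ i ∈ I, Fin.cons (α := fun _ => G) g u i
          = (if (0 : Fin (m + 1)) ∈ I then g else 0) + ∑ l ∈ s, u l := fun u => by
        rw [show ∑ i ∈ I, Fin.cons (α := fun _ => G) g u i
          = ∑ i, if i ∈ I then Fin.cons (α := fun _ => G) g u i else 0 by rw [Finset.sum_ite_mem, Finset.univ_inter]]
        rw [Fin.sum_univ_succ, Fin.cons_zero, Finset.sum_filter]
        simp only [Fin.cons_succ]
      simp only [hsplit]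
      exact PtDegLib.integral_sum_coords μ hφc hs _
    have h0 : ({0} : Finset (Fin (m + 1))) ∈ (Finset.univ : Finset (Fin (m + 1))).powerset.erase ∅ := by simp
    rw [← Finset.add_sum_erase _ _ h0, Finset.sum_congr rfl (fun I hI => by rw [hval I hI])] at h
    have hz : ∑ I ∈ ((Finset.univ : Finset (Fin (m + 1))).powerset.erase ∅).erase {0},
        (-1 : ℝ) ^ (m + 1 + I.card) * ∫ t, φ t ∂μ = 0 := by
      refine Eq.trans (Finset.sum_congr rfl fun I _ => ?_) (PtDegLib.altSum_zero_const ((-1) ^ m * ∫ t, φ t ∂μ) 0)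
      rw [← hsign I, mul_assoc, ← mul_assoc ((-1 : ℝ) ^ m), hm2, one_mul]
    rw [hz, add_zero] at h
    simp only [Finset.card_singleton, Finset.sum_singleton, Fin.cons_zero, integral_const, probReal_univ,
      one_smul] at h
    rw [h, ← mul_assoc, show (-1 : ℝ) ^ m * (-1) ^ (m + 1 + 1) = 1 by
      rw [show m + 1 + 1 = m + 2 by omega, pow_add, ← mul_assoc, hm2]; simp, one_mul]

end Groth.Agent.S14297
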