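import Groth.Statements.S14310
import Mathlib
import Groth.Agent.ArSingLib.Basic
import Groth.Agent.PSQuad.Hypersurface

set_option autoImplicit false
universe u
open ArSing

namespace Groth.Agent.S14310

set_option backward.isDefEq.respectTransparency false
noncomputable section
open MvPowerSeries Finsupp
variable {k : Type u} [Field k]

local notation "S" => MvPowerSeries (Fin 2) k
local notation "P" => MvPolynomial (Fin 2) k

abbrev mx : Ideal (MvPowerSeries (Fin 2) k) := IsLocalRing.maximalIdeal _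

theorem mem_mx {F : S} : F ∈ (mx : Ideal S) ↔ constantCoeff F = 0 := by
  rw [mx, IsLocalRing.mem_maximalIdeal, mem_nonunits_iff, isUnit_iff_constantCoeff,
    isUnit_iff_ne_zero, not_not]

theorem mx_eq : (mx : Ideal S) = Ideal.span {X 0, X 1} := by
  refine le_antisymm (fun F hF => ?_) (Ideal.span_le.2 ?_)
  · obtain ⟨G, H, e⟩ := Groth.Agent.ArSingLib.mv_decomp F
    rw [e, mem_mx.1 hF, map_zero, zero_add]
    exact add_mem (Ideal.mul_mem_right _ _ (Ideal.subset_span (Or.inl rfl)))
      (Ideal.mul_mem_right _ _ (Ideal.subset_span (Or.inr rfl)))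
  · rintro x (rfl | rfl) <;> exact mem_mx.2 (constantCoeff_X _)

theorem prime_X1 : Prime (X 1 : S) := by
  let e : Fin 1 ↪ Fin 2 := ⟨fun _ => 0, fun a b _ => Subsingleton.elim a b⟩
  have hker : ∀ F : S, killCompl e F = 0 ↔ (X 1 : S) ∣ F := by
    intro F
    constructor
    · intro h
      rw [X_dvd_iff]
      intro m hm
      have he : m = embDomain e (Finsupp.single 0 (m 0)) := by
        rw [embDomain_single]
        ext i
        fin_cases i <;> simp [e, hm]
      rw [he, ← coeff_killCompl, h, map_zero]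
    · rintro ⟨c, rfl⟩
      rw [map_mul, killCompl_X_eq_zero (fun ⟨x, hx⟩ => by simp [e] at hx), zero_mul]
  refine ⟨fun h => ?_, fun h => ?_, fun a b h => ?_⟩
  · have := congrArg (coeff (Finsupp.single 1 1)) h
    simp [coeff_X] at this
  · rw [isUnit_iff_constantCoeff, constantCoeff_X] at h
    exact not_isUnit_zero h
  · have h' := (hker (a * b)).2 h
    rw [map_mul, mul_eq_zero] at h'
    exact h'.imp (hker a).1 (hker b).1

/-- The substitution automorphism with two given generators of the maximal ideal. -/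
theorem exists_aut' (a b : S) (h : (mx : Ideal S) = Ideal.span {a, b}) :
    ∃ φ : S ≃ₐ[k] S, φ (X 0) = a ∧ φ (X 1) = b := by
  have ha : constantCoeff a = 0 := mem_mx.1 (h ▸ Ideal.subset_span (Or.inl rfl))
  have hb : constantCoeff b = 0 := mem_mx.1 (h ▸ Ideal.subset_span (Or.inr rfl))
  have hs : HasSubst ![a, b] := hasSubst_of_constantCoeff_zero fun i => by
    fin_cases i
    · exact ha
    · exact hb
  let φ : S →ₐ[k] S := substAlgHom hs
  have h0 : φ (X 0) = a := by simp [φ, subst_X hs]
  have h1 : φ (X 1) = b := by simp [φ, subst_X hs]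
  have hI : (mx : Ideal S).map φ.toRingHom = mx := by
    conv_lhs => rw [mx_eq, Ideal.map_span]
    rw [h]
    congr 1
    simp [Set.image_pair, h0, h1]
  have : IsHausdorff ((mx : Ideal S).map φ.toRingHom) S := by rw [hI]; infer_instance
  haveI : IsAdicComplete (mx : Ideal S) S := by
    rw [mx, ← Groth.Agent.PSQuad.vars_eq_maximalIdeal]; exact Groth.Agent.PSLib.isAdicComplete
  have hsurj : Function.Surjective φ := by
    refine surjective_of_mk_map_comp_surjective φ.toRingHom (I := (mx : Ideal S)) ?_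
    intro z
    obtain ⟨F, rfl⟩ := Ideal.Quotient.mk_surjective z
    refine ⟨C (constantCoeff F), ?_⟩
    rw [RingHom.comp_apply, Ideal.Quotient.eq, hI, mem_mx]
    have : φ (C (constantCoeff F)) = C (constantCoeff F) := by
      rw [Groth.Agent.ArSingLib.mv_C_eq, AlgHom.commutes]
    change constantCoeff (φ (C (constantCoeff F)) - F) = 0
    rw [this, map_sub, constantCoeff_C, sub_self]
  exact ⟨AlgEquiv.ofBijective φ
    ⟨Groth.Agent.ArSingLib.injective_of_surjective_endo φ.toRingHom hsurj, hsurj⟩, h0, h1⟩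

theorem exists_aut_of_linear (z : S) (hz : constantCoeff z = 0) (j : Fin 2)
    (hj : coeff (Finsupp.single j 1) z ≠ 0) : ∃ φ : S ≃ₐ[k] S, φ (X 1) = z := by
  obtain ⟨G, H, e⟩ := Groth.Agent.ArSingLib.mv_decomp z
  rw [hz, map_zero, zero_add] at e
  have hc : ∀ (l : Fin 2) (c : S) (m : Fin 2), coeff (Finsupp.single m 1) (X l * c)
      = if l = m then constantCoeff c else 0 := by
    intro l c m
    rw [X, coeff_monomial_mul, one_mul]
    by_cases hlm : l = m
    · subst hlm
      simp
    · rw [if_neg hlm, if_neg]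
      intro hle
      have := hle l
      simp [Finsupp.single_eq_of_ne hlm] at this
  rw [e, map_add, hc, hc] at hj
  have hzmem : z ∈ (mx : Ideal S) := mem_mx.2 hz
  have key : ∀ (l : Fin 2) (c : S), c * X l ∈ Ideal.span {X (1 - l), z} → IsUnit c →
      ∃ φ : S ≃ₐ[k] S, φ (X 1) = z := by
    intro l c hmem hu
    have hX : (X l : S) ∈ Ideal.span {X (1 - l), z} := (Ideal.unit_mul_mem_iff_mem _ hu).1 hmem
    obtain ⟨φ, -, hφ⟩ := exists_aut' (X (1 - l)) z (by
      refine le_antisymm ?_ (Ideal.span_le.2 ?_)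
      · rw [mx_eq, Ideal.span_le]
        fin_cases l
        · rintro x (rfl | rfl)
          · exact hX
          · exact Ideal.subset_span (Or.inl rfl)
        · rintro x (rfl | rfl)
          · exact Ideal.subset_span (Or.inl rfl)
          · exact hX
      · rintro x (rfl | rfl)
        · exact mem_mx.2 (constantCoeff_X _)
        · exact hzmem)
    exact ⟨φ, hφ⟩
  fin_cases j
  · refine key 0 G ?_ (isUnit_iff_constantCoeff.2 (isUnit_iff_ne_zero.2 (by simpa using hj)))
    rw [Ideal.mem_span_pair]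
    exact ⟨-H, 1, by rw [e]; simp; ring⟩
  · refine key 1 H ?_ (isUnit_iff_constantCoeff.2 (isUnit_iff_ne_zero.2 (by simpa using hj)))
    rw [Ideal.mem_span_pair]
    exact ⟨-G, 1, by rw [e]; simp; ring⟩

theorem no_pderiv_zero [IsAlgClosed k] (g : P) (hg : Irreducible g)
    (h : ∀ i, MvPolynomial.pderiv i g = 0) : False := by
  classical
  have hm : ∀ m ∈ g.support, ∀ i, ((m i : ℕ) : k) = 0 := by
    intro m hm i
    by_cases hmi : m i = 0
    · simp [hmi]
    have hle : Finsupp.single i 1 ≤ m := Finsupp.single_le_iff.2 (Nat.pos_of_ne_zero hmi)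
    have h1 := congrArg (MvPolynomial.coeff (m - Finsupp.single i 1)) (h i)
    rw [MvPolynomial.coeff_zero, MvPolynomial.coeff_pderiv, tsub_add_cancel_of_le hle] at h1
    rcases mul_eq_zero.1 h1 with h2 | h2
    · exact absurd h2 (MvPolynomial.mem_support_iff.1 hm)
    · have h3 : (m - Finsupp.single i (1 : ℕ) : Fin 2 →₀ ℕ) i + 1 = m i := by
        rw [Finsupp.tsub_apply, Finsupp.single_eq_same]; omega
      rw [← h3]; push_cast; exact h2
  obtain ⟨p, hp⟩ := CharP.exists k
  rcases CharP.char_is_prime_or_zero k p with hpp | hp0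
  · haveI := Fact.mk hpp
    haveI : CharP P p := inferInstance
    haveI : ExpChar k p := ExpChar.prime hpp
    haveI : ExpChar P p := ExpChar.prime hpp
    have hroot : ∀ c : k, ∃ d : k, d ^ p = c := fun c => IsAlgClosed.exists_pow_nat_eq c hpp.pos
    choose rt hrt using hroot
    have hgp : g = (∑ m ∈ g.support, MvPolynomial.monomial (m.mapRange (· / p) (Nat.zero_div p))
        (rt (g.coeff m))) ^ p := by
      rw [sum_pow_char]
      conv_lhs => rw [g.as_sum]
      refine Finset.sum_congr rfl fun m hm' => ?_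
      have e : p • m.mapRange (· / p) (Nat.zero_div p) = m := by
        ext i
        rw [Finsupp.smul_apply, Finsupp.mapRange_apply, smul_eq_mul,
          Nat.mul_div_cancel' ((CharP.cast_eq_zero_iff k p _).1 (hm m hm' i))]
      rw [MvPolynomial.monomial_pow, hrt, e]
    rw [hgp] at hg
    exact absurd hg (not_irreducible_pow hpp.ne_one)
  · subst hp0
    haveI : CharZero k := CharP.charP_to_charZero k
    have hc : g = MvPolynomial.C (g.coeff 0) := by
      ext m
      rw [MvPolynomial.coeff_C]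
      split_ifs with h0
      · rw [h0]
      · by_contra hne
        apply h0
        ext i
        exact (Nat.cast_eq_zero.1 (hm m (MvPolynomial.mem_support_iff.2 hne) i)).symm
    rw [hc] at hg
    by_cases h0 : g.coeff 0 = 0
    · rw [h0, map_zero] at hg; exact hg.ne_zero rfl
    · exact hg.not_isUnit ((isUnit_iff_ne_zero.2 h0).map _)

theorem coe_pderiv (i : Fin 2) (g : P) :
    ((MvPolynomial.pderiv i g : P) : S) = MvPowerSeries.pderiv k i (g : S) :=
  (MvPowerSeries.pderiv_coe g).symm

theorem coeff_single (i : Fin 2) (g : P) :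
    coeff (Finsupp.single i 1) (g : S) = MvPolynomial.constantCoeff (MvPolynomial.pderiv i g) := by
  rw [MvPolynomial.coeff_coe, MvPolynomial.constantCoeff_eq, MvPolynomial.coeff_pderiv]
  simp

theorem not_dvd_both (z : S) (hz : ¬ IsUnit z) (h0 : z ∣ (X 0 : S)) (h1 : z ∣ (X 1 : S)) :
    False := by
  obtain ⟨c, hc⟩ := h0
  obtain ⟨c', hc'⟩ := h1
  rcases prime_X1.irreducible.isUnit_or_isUnit hc' with hu | hu
  · exact hz hu
  · have hd : (X 1 : S) ∣ X 0 := by
      refine ⟨(↑hu.unit⁻¹ : S) * c, ?_⟩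
      rw [hc, hc', mul_assoc, ← mul_assoc c', hu.mul_val_inv, one_mul]
    rw [X_dvd_iff] at hd
    have := hd (Finsupp.single 0 1) (by simp)
    simp at this

theorem pderiv_degree (i : Fin 2) (g : P) (h : MvPolynomial.pderiv i g ≠ 0) :
    (MvPolynomial.pderiv i g).totalDegree < g.totalDegree := by
  classical
  obtain ⟨m, hm, hmd⟩ := Finset.exists_mem_eq_sup _ (MvPolynomial.support_nonempty.2 h)
    (fun s : Fin 2 →₀ ℕ => s.sum fun _ e => e)
  change (MvPolynomial.pderiv i g).support.sup (fun s : Fin 2 →₀ ℕ => s.sum fun _ e => e) < _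
  rw [hmd]
  rw [MvPolynomial.mem_support_iff, MvPolynomial.coeff_pderiv] at hm
  have h1 : m + Finsupp.single i 1 ∈ g.support :=
    MvPolynomial.mem_support_iff.2 (left_ne_zero_of_mul hm)
  have h2 := MvPolynomial.le_totalDegree h1
  rw [Finsupp.sum_add_index' (fun _ => rfl) (fun _ _ _ => rfl), Finsupp.sum_single_index rfl] at h2
  change (m.sum fun _ e => e) < _
  omega

theorem mk_X_mem (i : Fin 2) [IsLocalRing (S ⧸ Ideal.span {(X 1 : S) ^ 2})] :
    Ideal.Quotient.mk (Ideal.span {(X 1 : S) ^ 2}) (X i) ∈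
      IsLocalRing.maximalIdeal (S ⧸ Ideal.span {(X 1 : S) ^ 2}) := by
  haveI : IsLocalHom (Ideal.Quotient.mk (Ideal.span {(X 1 : S) ^ 2})) :=
    IsLocalHom.of_surjective _ Ideal.Quotient.mk_surjective
  simp [IsLocalRing.mem_maximalIdeal, mem_nonunits_iff, isUnit_map_iff,
    isUnit_iff_constantCoeff, constantCoeff_X]

theorem mem_sq (F : S) (h0 : constantCoeff F = 0)
    (h1 : ∀ j : Fin 2, coeff (Finsupp.single j 1) F = 0) : F ∈ (mx : Ideal S) ^ 2 := by
  obtain ⟨G, H, e⟩ := Groth.Agent.ArSingLib.mv_decomp F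
  rw [h0, map_zero, zero_add] at e
  have hG : constantCoeff G = 0 := by
    have := h1 0
    rw [e, map_add, X, X, coeff_monomial_mul, coeff_monomial_mul] at this
    simpa [Finsupp.le_def, Finsupp.single_apply, Fin.forall_fin_two] using this
  have hH : constantCoeff H = 0 := by
    have := h1 1
    rw [e, map_add, X, X, coeff_monomial_mul, coeff_monomial_mul] at this
    simpa [Finsupp.le_def, Finsupp.single_apply, Fin.forall_fin_two] using this
  rw [e, sq]
  exact add_mem (Ideal.mul_mem_mul (mem_mx.2 (constantCoeff_X _)) (mem_mx.2 hG))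
    (Ideal.mul_mem_mul (mem_mx.2 (constantCoeff_X _)) (mem_mx.2 hH))

theorem poly_factor [IsAlgClosed k] (F : P) (z : S) (hz : Prime z) (hz0 : constantCoeff z = 0)
    (hzsq : z ∉ (mx : Ideal S) ^ 2) (hF : Associated (F : S) (z ^ 2)) :
    ∃ g h : P, F = g ^ 2 * h ∧ MvPolynomial.constantCoeff h ≠ 0 ∧ MvPolynomial.constantCoeff g = 0 ∧
      ∃ i : Fin 2, MvPolynomial.constantCoeff (MvPolynomial.pderiv i g) ≠ 0 := by
  classical
  have hcc : ∀ p : P, constantCoeff (p : S) = MvPolynomial.constantCoeff p := fun p => by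
    rw [← coeff_zero_eq_constantCoeff_apply, MvPolynomial.coeff_coe, MvPolynomial.constantCoeff_eq]
  let ι : P →+* S := MvPolynomial.coeToMvPowerSeries.ringHom
  have hι : ∀ p : P, ι p = (p : S) := fun _ => rfl
  let Q : Ideal P := (Ideal.span {z}).comap ι
  have hQ : ∀ p : P, p ∈ Q ↔ z ∣ (p : S) := fun p => Ideal.mem_span_singleton
  haveI hQp : Q.IsPrime := by
    haveI : (Ideal.span {z}).IsPrime := (Ideal.span_singleton_prime hz.ne_zero).2 hz
    exact Ideal.IsPrime.comap ι
  have hF0 : F ≠ 0 := by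
    rintro rfl
    rw [MvPolynomial.coe_zero] at hF
    exact pow_ne_zero 2 hz.ne_zero (associated_zero_iff_eq_zero _ |>.1 hF.symm)
  have hFQ : F ∈ Q := (hQ F).2 ((dvd_pow_self z two_ne_zero).trans hF.dvd')
  -- an irreducible factor in `Q`
  obtain ⟨g, hgirr, hgQ, hgF⟩ : ∃ g : P, Irreducible g ∧ g ∈ Q ∧ g ∣ F := by
    obtain ⟨u, hu⟩ := UniqueFactorizationMonoid.factors_prod hF0
    have hmem : (UniqueFactorizationMonoid.factors F).prod ∈ Q := by
      have h2 : (UniqueFactorizationMonoid.factors F).prod * (u : P) ∈ Q := by rw [hu]; exact hFQ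
      rcases hQp.mem_or_mem h2 with h3 | h3
      · exact h3
      · exact absurd (Ideal.eq_top_of_isUnit_mem _ h3 u.isUnit) hQp.ne_top
    obtain ⟨g, hg, hgQ⟩ := (hQp.multiset_prod_mem_iff_exists_mem _).1 hmem
    exact ⟨g, UniqueFactorizationMonoid.irreducible_of_factor g hg, hgQ,
      UniqueFactorizationMonoid.dvd_of_mem_factors hg⟩
  haveI hgp : (Ideal.span {g}).IsPrime :=
    (Ideal.span_singleton_prime hgirr.ne_zero).2 (UniqueFactorizationMonoid.irreducible_iff_prime.1 hgirr)
  -- `Q = (g)`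
  have hQg : Q = Ideal.span {g} := by
    let M : Ideal P := RingHom.ker (MvPolynomial.constantCoeff : P →+* k)
    haveI hM : M.IsPrime := RingHom.ker_isPrime _
    have hQM : Q ≤ M := fun p hp => by
      obtain ⟨c, hc⟩ := (hQ p).1 hp
      change MvPolynomial.constantCoeff p = 0
      rw [← hcc, hc, map_mul, hz0, zero_mul]
    have hQM' : Q ≠ M := by
      intro h
      have hX : ∀ i, z ∣ (X i : S) := fun i => by
        rw [← MvPolynomial.coe_X, ← hQ, h]
        exact MvPolynomial.constantCoeff_X k i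
      exact not_dvd_both z hz.not_unit (hX 0) (hX 1)
    by_contra hne
    have h1 : (Ideal.span {g}) < Q :=
      lt_of_le_of_ne ((Ideal.span_singleton_le_iff_mem _).2 hgQ) (Ne.symm hne)
    have h0 : (⊥ : Ideal P) < Ideal.span {g} := by
      rw [bot_lt_iff_ne_bot, Ne, Ideal.span_singleton_eq_bot]; exact hgirr.ne_zero
    let q0 : PrimeSpectrum P := ⟨⊥, Ideal.isPrime_bot⟩
    let q1 : PrimeSpectrum P := ⟨_, hgp⟩
    let q2 : PrimeSpectrum P := ⟨_, hQp⟩
    let q3 : PrimeSpectrum P := ⟨_, hM⟩
    have c1 : q0 < q1 := h0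
    have c2 : q1 < q2 := h1
    have c3 : q2 < q3 := (show Q < M from lt_of_le_of_ne hQM hQM')
    have hlen := Order.LTSeries.length_le_krullDim
      ((((RelSeries.singleton _ q0).snoc q1 c1).snoc q2 (by simpa using c2)).snoc q3 (by simpa using c3))
    rw [← ringKrullDim, MvPolynomial.ringKrullDim_of_isNoetherianRing,
      ringKrullDim_eq_zero_of_field, zero_add, Nat.card_fin] at hlen
    have h2 : ((3 : ℕ) : WithBot ℕ∞) ≤ ((2 : ℕ) : WithBot ℕ∞) := by simpa using hlen
    norm_cast at h2
  -- multiplicity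
  obtain ⟨m, h, hgh, hFm⟩ := WfDvdMonoid.max_power_factor hF0 hgirr
  have hhQ : ¬ z ∣ (h : S) := by
    rw [← hQ, hQg, Ideal.mem_span_singleton]; exact hgh
  obtain ⟨w, hw⟩ := (hQ g).1 hgQ
  obtain ⟨U, hU⟩ := hF.symm
  have heq : z ^ m * (w ^ m * (h : S)) = z ^ 2 * (U : S) := by
    rw [hU, hFm, MvPolynomial.coe_mul, MvPolynomial.coe_pow, hw, mul_pow]; ring
  have hm2 : m ≤ 2 := by
    have : z ^ m ∣ z ^ 2 := (Units.dvd_mul_right).1 ⟨_, heq.symm⟩
    exact (pow_dvd_pow_iff hz.ne_zero hz.not_unit).1 this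
  have hg0 : MvPolynomial.constantCoeff g = 0 := by rw [← hcc, hw, map_mul, hz0, zero_mul]
  interval_cases m
  · rw [pow_zero, pow_zero, one_mul, one_mul] at heq
    exact absurd ⟨z * U, by rw [heq]; ring⟩ hhQ
  · -- multiplicity one: both derivatives vanish on the curve
    exfalso
    rw [pow_one, pow_one, sq, mul_assoc] at heq
    have h1 := mul_left_cancel₀ hz.ne_zero heq
    have hzw : z ∣ w := (hz.dvd_or_dvd ⟨U, h1⟩).resolve_right hhQ
    obtain ⟨w', rfl⟩ := hzw
    refine no_pderiv_zero g hgirr fun i => ?_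
    have hdQ : MvPolynomial.pderiv i g ∈ Q := by
      rw [hQ, coe_pderiv, hw, Derivation.leibniz, Derivation.leibniz]
      simp only [smul_eq_mul]
      exact dvd_add (dvd_mul_right z _) (Dvd.dvd.mul_right (dvd_mul_right z _) _)
    rw [hQg, Ideal.mem_span_singleton] at hdQ
    by_contra hne
    obtain ⟨c, hc⟩ := hdQ
    have hc0 : c ≠ 0 := by rintro rfl; rw [mul_zero] at hc; exact hne hc
    have h3 : (MvPolynomial.pderiv i g).totalDegree = g.totalDegree + c.totalDegree := by
      rw [hc, MvPolynomial.totalDegree_mul_of_isDomain hgirr.ne_zero hc0]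
    have h4 := pderiv_degree i g hne
    omega
  · have h1 := mul_left_cancel₀ (pow_ne_zero 2 hz.ne_zero) heq
    have hu : IsUnit (w ^ 2 * (h : S)) := h1 ▸ U.isUnit
    obtain ⟨hw1, hh⟩ := IsUnit.mul_iff.1 hu
    have hw' : IsUnit w := (isUnit_pow_iff two_ne_zero).1 hw1
    refine ⟨g, h, hFm, ?_, hg0, ?_⟩
    · rw [isUnit_iff_constantCoeff, hcc] at hh
      exact hh.ne_zero
    · by_contra hall
      push Not at hall
      have hgm : (g : S) ∈ (mx : Ideal S) ^ 2 :=
        mem_sq _ (by rw [hcc, hg0]) fun j => by rw [coeff_single]; exact hall j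
      have hzm : z ∈ (mx : Ideal S) ^ 2 := (Ideal.mul_unit_mem_iff_mem _ hw').1 (hw ▸ hgm)
      exact hzsq hzm

theorem main [IsAlgClosed k] (F : P) :
    Nonempty ((S ⧸ Ideal.span {(F : S)}) ≃ₐ[k] (S ⧸ Ideal.span {(X 1 : S) ^ 2})) ↔
    ∃ g h : P, F = g ^ 2 * h ∧ MvPolynomial.constantCoeff h ≠ 0 ∧ MvPolynomial.constantCoeff g = 0 ∧
      ∃ i : Fin 2, MvPolynomial.constantCoeff (MvPolynomial.pderiv i g) ≠ 0 := by
  have hcc : ∀ p : P, constantCoeff (p : S) = MvPolynomial.constantCoeff p := fun p => by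
    rw [← coeff_zero_eq_constantCoeff_apply, MvPolynomial.coeff_coe, MvPolynomial.constantCoeff_eq]
  constructor
  swap
  · rintro ⟨g, h, rfl, hh, hg, i, hi⟩
    obtain ⟨φ, hφ⟩ := exists_aut_of_linear (g : S) (by rw [hcc, hg]) i (by rwa [coeff_single])
    have hu : IsUnit (h : S) := by
      rw [isUnit_iff_constantCoeff, hcc]; exact isUnit_iff_ne_zero.2 hh
    refine ⟨(Ideal.quotientEquivAlg (Ideal.span {(X 1 : S) ^ 2}) _ φ ?_).symm⟩
    rw [Ideal.map_span, Set.image_singleton]
    simp only [MvPolynomial.coe_mul, MvPolynomial.coe_pow]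
    rw [Ideal.span_singleton_mul_right_unit hu]
    simp [map_pow, hφ]
  · rintro ⟨e⟩
    let T := S ⧸ Ideal.span {(X 1 : S) ^ 2}
    have hTne : (Ideal.span {(X 1 : S) ^ 2}) ≠ ⊤ := by
      rw [Ne, Ideal.span_singleton_eq_top, isUnit_pow_iff two_ne_zero]
      exact prime_X1.not_unit
    haveI : Nontrivial T := Ideal.Quotient.nontrivial_iff.2 hTne
    haveI : IsLocalRing T := IsLocalRing.of_surjective' (Ideal.Quotient.mk _) Ideal.Quotient.mk_surjective
    let A := S ⧸ Ideal.span {(F : S)}
    haveI : Nontrivial A := e.surjective.nontrivial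
    haveI : IsLocalRing A := IsLocalRing.of_surjective' (Ideal.Quotient.mk _) Ideal.Quotient.mk_surjective
    have hmA : ∀ x : S, Ideal.Quotient.mk (Ideal.span {(F : S)}) x ∈ IsLocalRing.maximalIdeal A ↔ x ∈ (mx : Ideal S) := by
      intro x
      haveI : IsLocalHom (Ideal.Quotient.mk (Ideal.span {(F : S)})) :=
        IsLocalHom.of_surjective _ Ideal.Quotient.mk_surjective
      rw [IsLocalRing.mem_maximalIdeal, mem_nonunits_iff, isUnit_map_iff]
      rfl
    have hF0 : (F : S) ∈ (mx : Ideal S) := by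
      rw [← hmA, Ideal.Quotient.eq_zero_iff_mem.2 (Ideal.mem_span_singleton_self _)]
      exact zero_mem _
    obtain ⟨a, ha⟩ := Ideal.Quotient.mk_surjective (e.symm (Ideal.Quotient.mk _ (X 0)))
    obtain ⟨b, hb⟩ := Ideal.Quotient.mk_surjective (e.symm (Ideal.Quotient.mk _ (X 1)))
    have hbF : (F : S) ∣ b ^ 2 := by
      rw [← Ideal.mem_span_singleton, ← Ideal.Quotient.eq_zero_iff_mem, map_pow, hb, ← map_pow,
        ← map_pow, Ideal.Quotient.eq_zero_iff_mem.2 (Ideal.mem_span_singleton_self _), map_zero]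
    have hcon : ∀ x : S, x ∈ (mx : Ideal S) → ∃ c d : S,
        x - c * a - d * b ∈ Ideal.span {(F : S)} := by
      intro x hx
      obtain ⟨y, hy⟩ := Ideal.Quotient.mk_surjective (e (Ideal.Quotient.mk _ x))
      have hy0 : y ∈ (mx : Ideal S) := by
        rw [mem_mx]
        by_contra h0
        have hu : IsUnit y := isUnit_iff_constantCoeff.2 (isUnit_iff_ne_zero.2 h0)
        have h1 : IsUnit (e (Ideal.Quotient.mk _ x)) := hy ▸ hu.map _
        have h2 := h1.map e.symm
        rw [AlgEquiv.symm_apply_apply] at h2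
        exact (IsLocalRing.mem_maximalIdeal _).1 ((hmA x).2 hx) h2
      obtain ⟨G, H, he⟩ := Groth.Agent.ArSingLib.mv_decomp y
      obtain ⟨c, hc⟩ := Ideal.Quotient.mk_surjective (e.symm (Ideal.Quotient.mk _ G))
      obtain ⟨d, hd⟩ := Ideal.Quotient.mk_surjective (e.symm (Ideal.Quotient.mk _ H))
      refine ⟨c, d, ?_⟩
      rw [← Ideal.Quotient.eq_zero_iff_mem, map_sub, map_sub, map_mul, map_mul, hc, hd, ha, hb]
      apply e.injective
      rw [map_sub, map_sub, map_mul, map_mul, map_zero, ← hy, he, mem_mx.1 hy0]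
      simp
      ring
    have ha0 : a ∈ (mx : Ideal S) := by
      rw [← hmA, IsLocalRing.mem_maximalIdeal, mem_nonunits_iff, ha]
      intro hu
      have h2 := hu.map e
      rw [AlgEquiv.apply_symm_apply] at h2
      exact (IsLocalRing.mem_maximalIdeal _).1 (mk_X_mem _) h2
    have hb0 : b ∈ (mx : Ideal S) := by
      rw [← hmA, IsLocalRing.mem_maximalIdeal, mem_nonunits_iff, hb]
      intro hu
      have h2 := hu.map e
      rw [AlgEquiv.apply_symm_apply] at h2
      exact (IsLocalRing.mem_maximalIdeal _).1 (mk_X_mem _) h2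
    have hF2 : (F : S) ∈ (mx : Ideal S) ^ 2 := by
      obtain ⟨G, H, he⟩ := Groth.Agent.ArSingLib.mv_decomp (F : S)
      rw [mem_mx.1 hF0, map_zero, zero_add] at he
      by_cases hall : ∀ j : Fin 2, coeff (Finsupp.single j 1) (F : S) = 0
      · exact mem_sq _ (mem_mx.1 hF0) hall
      · push Not at hall
        obtain ⟨j, hj⟩ := hall
        exfalso
        obtain ⟨φ, hφ⟩ := exists_aut_of_linear (F : S) (mem_mx.1 hF0) j hj
        have hpr : Prime (F : S) := by
          rw [← hφ]; exact (MulEquiv.prime_iff φ.toMulEquiv).2 prime_X1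
        have h1 : Ideal.Quotient.mk (Ideal.span {(F : S)}) b = 0 :=
          Ideal.Quotient.eq_zero_iff_mem.2 (Ideal.mem_span_singleton.2 (hpr.dvd_of_dvd_pow hbF))
        rw [hb, map_eq_zero_iff _ e.symm.injective, Ideal.Quotient.eq_zero_iff_mem,
          Ideal.mem_span_singleton, sq] at h1
        obtain ⟨w, hw⟩ := h1
        refine prime_X1.not_unit (IsUnit.of_mul_eq_one (a := (X 1 : S)) w (mul_left_cancel₀ prime_X1.ne_zero ?_))
        rw [mul_one, ← mul_assoc, ← hw]
    have hgen : (mx : Ideal S) = Ideal.span {a, b} := by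
      refine le_antisymm (Groth.Agent.PSQuad.maximalIdeal_le_of_le_sup_sq ?_) (Ideal.span_le.2 ?_)
      · intro x hx
        obtain ⟨c, d, hcd⟩ := hcon x hx
        obtain ⟨r, hr⟩ := Ideal.mem_span_singleton'.1 hcd
        rw [show x = (c * a + d * b) + r * (F : S) by rw [hr]; ring]
        exact Submodule.add_mem_sup (Ideal.mem_span_pair.2 ⟨c, d, rfl⟩) (Ideal.mul_mem_left _ _ hF2)
      · rintro x (rfl | rfl)
        · exact ha0
        · exact hb0
    obtain ⟨φ, hφ0, hφ1⟩ := exists_aut' a b hgen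
    haveI : IsNoetherianRing T := inferInstance
    have hid : ((e : A →ₐ[k] T).comp (Ideal.Quotient.mkₐ k _)).comp (φ : S →ₐ[k] S)
        = Ideal.Quotient.mkₐ k _ := by
      refine Groth.Agent.ArSingLib.mv_hom_ext (IsLocalRing.maximalIdeal T) (fun i => ?_) fun i => ?_
      · fin_cases i
        · change e (Ideal.Quotient.mk _ (φ (X 0))) = _
          rw [hφ0, ha, AlgEquiv.apply_symm_apply]
          rfl
        · change e (Ideal.Quotient.mk _ (φ (X 1))) = _
          rw [hφ1, hb, AlgEquiv.apply_symm_apply]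
          rfl
      · fin_cases i
        · change e (Ideal.Quotient.mk _ (φ (X 0))) ∈ _
          rw [hφ0, ha, AlgEquiv.apply_symm_apply]
          exact mk_X_mem 0
        · change e (Ideal.Quotient.mk _ (φ (X 1))) ∈ _
          rw [hφ1, hb, AlgEquiv.apply_symm_apply]
          exact mk_X_mem 1
    obtain ⟨y, hy⟩ := φ.surjective (F : S)
    have hy2 : (X 1 : S) ^ 2 ∣ y := by
      rw [← Ideal.mem_span_singleton, ← Ideal.Quotient.eq_zero_iff_mem]
      have := AlgHom.congr_fun hid y
      simp only [AlgHom.comp_apply, AlgHom.coe_coe, Ideal.Quotient.mkₐ_eq_mk, hy] at this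
      rw [← this]
      change e (Ideal.Quotient.mk _ (φ y)) = 0
      rw [hy, Ideal.Quotient.eq_zero_iff_mem.2 (Ideal.mem_span_singleton_self _), map_zero]
    have hFb : Associated (F : S) (b ^ 2) := by
      refine associated_of_dvd_dvd hbF ?_
      obtain ⟨w, hw⟩ := hy2
      exact ⟨φ w, by rw [← hy, hw, map_mul, map_pow, hφ1]⟩
    have hbP : Prime b := by rw [← hφ1]; exact (MulEquiv.prime_iff φ.toMulEquiv).2 prime_X1
    refine poly_factor F b hbP (mem_mx.1 hb0) (fun hbsq => ?_) hFb
    have hle : (mx : Ideal S) ≤ Ideal.span {a} := by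
      refine Groth.Agent.PSQuad.maximalIdeal_le_of_le_sup_sq ?_
      intro x hx
      have hx' : x ∈ Ideal.span {a, b} := hgen ▸ hx
      obtain ⟨c, d, rfl⟩ := Ideal.mem_span_pair.1 hx'
      exact Submodule.add_mem_sup (Ideal.mem_span_singleton'.2 ⟨c, rfl⟩)
        (Ideal.mul_mem_left _ _ hbsq)
    have hd : ∀ i, a ∣ (X i : S) := fun i =>
      Ideal.mem_span_singleton.1 (hle (mem_mx.2 (constantCoeff_X _)))
    exact not_dvd_both a (fun hu => (IsLocalRing.mem_maximalIdeal _).1 ha0 hu) (hd 0) (hd 1)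

end

/-- Let k be an algebraically closed field, f a polynomial in two variables x = X_0, y = X_1 over k, and
a a point of k². The quotient of the power series ring k[[x,y]] by the polynomial f recentred at a
(which is the completed local ring at a of the plane curve f = 0) is isomorphic as a k-algebra to
k[[x,y]]/(y^2) if and only if f = g^2 h for polynomials g and h with h(a) ≠ 0, g(a) = 0 and some
first partial derivative of g non-zero at a. (The published statement asks for the component through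
a to be the square of a smooth plane curve; only smoothness at a matters and is what is stated here
— for the square of a nodal cubic the completed local ring at a smooth point of the cubic is still
k[[x,y]]/(y^2). No hypothesis on the characteristic of k is imposed; the published setting assumes a
characteristic different from 2, 3, 5 and 7, which the argument does not use.) -/
theorem result
    {k : Type u} [Field k] [IsAlgClosed k] (f : MvPolynomial (Fin 2) k) (a : Fin 2 → k) :
    Nonempty ((MvPowerSeries (Fin 2) k ⧸ Ideal.span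
        ({(MvPolynomial.aeval (fun i : Fin 2 => MvPolynomial.X i + MvPolynomial.C (a i)) f).toMvPowerSeries} :
          Set (MvPowerSeries (Fin 2) k))) ≃ₐ[k]
      (MvPowerSeries (Fin 2) k ⧸ Ideal.span ({MvPowerSeries.X 1 ^ 2} : Set (MvPowerSeries (Fin 2) k)))) ↔
    ∃ g h : MvPolynomial (Fin 2) k, f = g ^ 2 * h ∧ MvPolynomial.eval a h ≠ 0 ∧ MvPolynomial.eval a g = 0 ∧
      ∃ i : Fin 2, MvPolynomial.eval a (MvPolynomial.pderiv i g) ≠ 0 := by
  classical
  let τ := Groth.Agent.PSQuad.shift (n := 2) a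
  have hev : ∀ p, MvPolynomial.eval a p = MvPolynomial.constantCoeff (τ p) := fun p => by
    rw [MvPolynomial.constantCoeff_eq, Groth.Agent.PSQuad.coeff_zero_shift]
  have hd : ∀ i p, MvPolynomial.eval a (MvPolynomial.pderiv i p)
      = MvPolynomial.constantCoeff (MvPolynomial.pderiv i (τ p)) := fun i p => by
    rw [hev, Groth.Agent.PSQuad.pderiv_shift]
  have h := main (τ f)
  constructor
  · intro H
    obtain ⟨g, h', e, h1, h2, i, h3⟩ := h.1 H
    obtain ⟨g, rfl⟩ := τ.surjective g
    obtain ⟨h', rfl⟩ := τ.surjective h'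
    refine ⟨g, h', τ.injective (by rw [e, map_mul, map_pow]), ?_, ?_, i, ?_⟩
    · rw [hev]; exact h1
    · rw [hev]; exact h2
    · rw [hd]; exact h3
  · rintro ⟨g, h', e, h1, h2, i, h3⟩
    exact h.2 ⟨τ g, τ h', by rw [e, map_mul, map_pow], by rwa [← hev], by rwa [← hev], i, by rwa [← hd]⟩

end Groth.Agent.S14310
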