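import Groth.Statements.S14311
import Mathlib
import Groth.Agent.S14310
import Groth.Agent.ArSingLib.Basic
import Groth.Agent.PSQuad.Hypersurface

set_option autoImplicit false
universe u
open ArSing

namespace Groth.Agent.S14311

noncomputable section
open MvPowerSeries
variable {k : Type u} [Field k]

local notation "S" => MvPowerSeries (Fin 2) k
local notation "P" => MvPolynomial (Fin 2) k

open Groth.Agent.S14310 (mx mem_mx mx_eq exists_aut' exists_aut_of_linear)

/-- The quadratic expansion of a series without constant and linear part. -/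
theorem quad_decomp (F : S) (h0 : constantCoeff F = 0) (h1 : ∀ j : Fin 2, coeff (Finsupp.single j 1) F = 0) :
    ∃ A B C : S, F = X 0 ^ 2 * A + X 0 * X 1 * B + X 1 ^ 2 * C := by
  obtain ⟨G, H, e⟩ := Groth.Agent.ArSingLib.mv_decomp F
  rw [h0, map_zero, zero_add] at e
  have hG : constantCoeff G = 0 := by
    have := h1 0
    rw [e, map_add, X, X, coeff_monomial_mul, coeff_monomial_mul] at this
    simpa [Finsupp.le_def, Finsupp.single_apply, Fin.forall_fin_two] using this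
  have hH : constantCoeff H = 0 := by
    have := h1 1
    rw [e, map_add, X, X, coeff_monomial_mul, coeff_monomial_mul] at this
    simpa [Finsupp.le_def, Finsupp.single_apply, Fin.forall_fin_two] using this
  obtain ⟨A, B, eG⟩ := Groth.Agent.ArSingLib.mv_decomp G
  obtain ⟨B', C, eH⟩ := Groth.Agent.ArSingLib.mv_decomp H
  rw [hG, map_zero, zero_add] at eG
  rw [hH, map_zero, zero_add] at eH
  exact ⟨A, B + B', C, by rw [e, eG, eH]; ring⟩

theorem cc_pderiv_quad (A B C : S) :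
    constantCoeff (MvPowerSeries.pderiv k 0 (MvPowerSeries.pderiv k 0 (X 0 ^ 2 * A + X 0 * X 1 * B + X 1 ^ 2 * C : S))) =
        2 * constantCoeff A ∧
      constantCoeff (MvPowerSeries.pderiv k 0 (MvPowerSeries.pderiv k 1 (X 0 ^ 2 * A + X 0 * X 1 * B + X 1 ^ 2 * C : S))) =
        constantCoeff B ∧
      constantCoeff (MvPowerSeries.pderiv k 1 (MvPowerSeries.pderiv k 1 (X 0 ^ 2 * A + X 0 * X 1 * B + X 1 ^ 2 * C : S))) =
        2 * constantCoeff C := by
  have h01 : MvPowerSeries.pderiv k 0 (X 1 : S) = 0 := MvPowerSeries.pderiv_X_of_ne (by decide)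
  have h10 : MvPowerSeries.pderiv k 1 (X 0 : S) = 0 := MvPowerSeries.pderiv_X_of_ne (by decide)
  refine ⟨?_, ?_, ?_⟩ <;>
    simp [pow_two, map_add, Derivation.leibniz, smul_eq_mul, h01, h10, MvPowerSeries.pderiv_X_self,
      MvPowerSeries.constantCoeff_X, two_mul, mul_add]

theorem pderiv_mem_pow (i : Fin 2) : ∀ (n : ℕ) {F : S}, F ∈ (mx : Ideal S) ^ (n + 1) →
    MvPowerSeries.pderiv k i F ∈ (mx : Ideal S) ^ n
  | 0, F, _ => by rw [pow_zero, Ideal.one_eq_top]; trivial
  | n + 1, F, hF => by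
    rw [pow_succ] at hF
    refine Submodule.mul_induction_on hF (fun a ha b hb => ?_) fun a b ha hb => by rw [map_add]; exact add_mem ha hb
    rw [Derivation.leibniz, smul_eq_mul, smul_eq_mul]
    refine add_mem (Ideal.mul_mem_right _ _ ha) ?_
    rw [pow_succ']
    exact Ideal.mul_mem_mul hb (pderiv_mem_pow i n ha)

theorem mem_cube_iff (h2 : (2 : k) ≠ 0) (A B C : S) :
    X 0 ^ 2 * A + X 0 * X 1 * B + X 1 ^ 2 * C ∈ (mx : Ideal S) ^ 3 ↔
      constantCoeff A = 0 ∧ constantCoeff B = 0 ∧ constantCoeff C = 0 := by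
  constructor
  · intro h
    have hh : ∀ i j : Fin 2, constantCoeff (MvPowerSeries.pderiv k i (MvPowerSeries.pderiv k j
        (X 0 ^ 2 * A + X 0 * X 1 * B + X 1 ^ 2 * C))) = 0 := fun i j =>
      mem_mx.1 (by simpa using pderiv_mem_pow i 1 (pderiv_mem_pow j 2 h))
    obtain ⟨e1, e2, e3⟩ := cc_pderiv_quad A B C
    exact ⟨(mul_eq_zero.1 (e1.symm.trans (hh 0 0))).resolve_left h2, e2.symm.trans (hh 0 1),
      (mul_eq_zero.1 (e3.symm.trans (hh 1 1))).resolve_left h2⟩
  · rintro ⟨hA, hB, hC⟩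
    have hX : ∀ i, (X i : S) ∈ (mx : Ideal S) := fun i => mem_mx.2 (constantCoeff_X _)
    rw [show (mx : Ideal S) ^ 3 = mx * mx * mx by ring, pow_two, pow_two]
    exact add_mem (add_mem (Ideal.mul_mem_mul (Ideal.mul_mem_mul (hX 0) (hX 0)) (mem_mx.2 hA))
      (Ideal.mul_mem_mul (Ideal.mul_mem_mul (hX 0) (hX 1)) (mem_mx.2 hB)))
      (Ideal.mul_mem_mul (Ideal.mul_mem_mul (hX 1) (hX 1)) (mem_mx.2 hC))

theorem exists_sqrt [IsAlgClosed k] (h2 : (2 : k) ≠ 0) {E : S} (hE : constantCoeff E ≠ 0) :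
    ∃ w : S, w ^ 2 = E ∧ constantCoeff w ≠ 0 := by
  obtain ⟨c, hc⟩ := IsAlgClosed.exists_pow_nat_eq (constantCoeff E) two_pos
  have hc0 : c ≠ 0 := fun h => hE (by rw [← hc, h]; simp)
  haveI : IsAdicComplete (mx : Ideal S) S := by
    rw [mx, ← Groth.Agent.PSQuad.vars_eq_maximalIdeal]; exact Groth.Agent.PSLib.isAdicComplete
  obtain ⟨w, hw, -⟩ := HenselianRing.is_henselian (I := (mx : Ideal S))
    (Polynomial.X ^ 2 - Polynomial.C E) (Polynomial.monic_X_pow_sub_C E two_ne_zero)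
    (MvPowerSeries.C c) (mem_mx.2 (by simp [hc])) (by
      refine IsUnit.map _ (MvPowerSeries.isUnit_iff_constantCoeff.2 ?_)
      simpa [Polynomial.derivative_X_pow, MvPowerSeries.constantCoeff_C] using
        mul_ne_zero (show (1 + 1 : k) ≠ 0 by rwa [one_add_one_eq_two]) hc0)
  rw [Polynomial.IsRoot.def, Polynomial.eval_sub, Polynomial.eval_pow, Polynomial.eval_X,
    Polynomial.eval_C, sub_eq_zero] at hw
  exact ⟨w, hw, fun h => hE (by rw [← hw, map_pow, h, zero_pow two_ne_zero])⟩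

theorem span_X0_eq_mx (p q : S) (hq : constantCoeff q ≠ 0) :
    (mx : Ideal S) = Ideal.span {X 0, X 0 * p + X 1 * q} := by
  refine le_antisymm ?_ (Ideal.span_le.2 ?_)
  · rw [mx_eq, Ideal.span_le]
    rintro x (rfl | rfl)
    · exact Ideal.subset_span (Or.inl rfl)
    · refine (Ideal.mul_unit_mem_iff_mem _ (isUnit_iff_constantCoeff.2 (isUnit_iff_ne_zero.2 hq))).1 ?_
      have h1 : X 0 * p + X 1 * q ∈ Ideal.span {X 0, X 0 * p + X 1 * q} := Ideal.subset_span (Or.inr rfl)
      have h2 : X 0 * p ∈ Ideal.span {X 0, X 0 * p + X 1 * q} :=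
        Ideal.mul_mem_right _ _ (Ideal.subset_span (Or.inl rfl))
      simpa using sub_mem h1 h2
  · rintro x (rfl | rfl)
    · exact mem_mx.2 (constantCoeff_X _)
    · exact mem_mx.2 (by simp)

theorem equiv_of_aut (φ : S ≃ₐ[k] S) (g F : S) (h : Associated (φ g) F) :
    Nonempty ((S ⧸ Ideal.span {F}) ≃ₐ[k] (S ⧸ Ideal.span {g})) := by
  refine ⟨(Ideal.quotientEquivAlg (Ideal.span {g}) (Ideal.span {F}) φ ?_).symm⟩
  rw [Ideal.map_span, Set.image_singleton]
  exact le_antisymm (Ideal.span_singleton_le_span_singleton.2 h.dvd) (Ideal.span_singleton_le_span_singleton.2 h.symm.dvd)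

/-- Splitting off the square. -/
theorem exists_split (h2 : (2 : k) ≠ 0) (A B C : S) (hC : constantCoeff C ≠ 0) :
    ∃ (p q G K : S), constantCoeff q ≠ 0 ∧ constantCoeff K ≠ 0 ∧
      (∀ m : Fin 2 →₀ ℕ, m 1 ≠ 0 → coeff m G = 0) ∧
      X 0 ^ 2 * A + X 0 * X 1 * B + X 1 ^ 2 * C = G + (X 0 * p + X 1 * q) ^ 2 * K := by
  classical
  obtain ⟨F, hF⟩ : ∃ F, F = X 0 ^ 2 * A + X 0 * X 1 * B + X 1 ^ 2 * C := ⟨_, rfl⟩
  have hy0 : MvPowerSeries.pderiv k 1 (X 0 : S) = 0 := MvPowerSeries.pderiv_X_of_ne (by decide)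
  have hy1 : MvPowerSeries.pderiv k 1 (X 1 : S) = 1 := MvPowerSeries.pderiv_X_self
  obtain ⟨p, hp⟩ : ∃ p, p = X 0 * MvPowerSeries.pderiv k 1 A + B + X 1 * MvPowerSeries.pderiv k 1 B := ⟨_, rfl⟩
  obtain ⟨q, hq⟩ : ∃ q, q = 2 * C + X 1 * MvPowerSeries.pderiv k 1 C := ⟨_, rfl⟩
  have hz : MvPowerSeries.pderiv k 1 F = X 0 * p + X 1 * q := by
    rw [hF, hp, hq]
    simp only [pow_two, map_add, Derivation.leibniz, smul_eq_mul, hy0, hy1]
    ring
  have hq0 : constantCoeff q ≠ 0 := by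
    rw [hq, map_add, map_mul, map_mul, constantCoeff_X, zero_mul, add_zero, map_ofNat]
    exact mul_ne_zero h2 hC
  obtain ⟨z, hzdef⟩ : ∃ z, z = X 0 * p + X 1 * q := ⟨_, rfl⟩
  obtain ⟨φ, hφ0, hφ1⟩ := exists_aut' (X 0) z (hzdef ▸ span_X0_eq_mx p q hq0)
  -- split the preimage
  let F' : S := φ.symm F
  let G0 : S := fun m => if m 1 = 0 then coeff m F' else 0
  have hG0 : ∀ m, coeff m G0 = if m 1 = 0 then coeff m F' else 0 := fun m => rfl
  obtain ⟨H, hH⟩ : (X 1 : S) ∣ F' - G0 := by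
    rw [X_dvd_iff]
    intro m hm
    rw [map_sub, hG0, if_pos hm, sub_self]
  have hG0' : ∀ m : Fin 2 →₀ ℕ, m 1 ≠ 0 → coeff m G0 = 0 := fun m hm => by rw [hG0, if_neg hm]
  have hdG : MvPowerSeries.pderiv k 1 (φ G0) = 0 := by
    have key : ∀ n : ℕ, ∀ G : S, (∀ m : Fin 2 →₀ ℕ, m 1 ≠ 0 → coeff m G = 0) →
        MvPowerSeries.pderiv k 1 (φ G) ∈ (mx : Ideal S) ^ n := by
      intro n
      induction n with
      | zero => intro G _; simp
      | succ n ih =>
        intro G hG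
        obtain ⟨G', hG'⟩ : (X 0 : S) ∣ G - MvPowerSeries.C (constantCoeff G) := by
          rw [X_dvd_iff]
          intro m hm
          rw [map_sub, coeff_C]
          split
          · next h => rw [h, coeff_zero_eq_constantCoeff, sub_self]
          · next h =>
            rw [hG m (fun h1 => h (by ext i; fin_cases i <;> simp [hm, h1])), sub_self]
        have hG'' : ∀ m : Fin 2 →₀ ℕ, m 1 ≠ 0 → coeff m G' = 0 := fun m hm => by
          have h := congrArg (coeff (Finsupp.single 0 1 + m)) hG'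
          rw [map_sub, X, coeff_add_monomial_mul, one_mul, hG _ (by simp [hm]), coeff_C, if_neg (by
            intro h'
            have := DFunLike.congr_fun h' 1
            simp [hm] at this), sub_zero] at h
          exact h.symm
        rw [show G = X 0 * G' + MvPowerSeries.C (constantCoeff G) by rw [← hG']; ring, map_add, map_mul, hφ0,
          Groth.Agent.ArSingLib.mv_C_eq, AlgEquiv.commutes, map_add, Derivation.leibniz, Derivation.map_algebraMap,
          hy0, smul_zero, add_zero, add_zero, smul_eq_mul, pow_succ']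
        exact Ideal.mul_mem_mul (mem_mx.2 (constantCoeff_X _)) (ih G' hG'')
    refine Groth.Agent.ArSingLib.eq_of_forall_mem (mx : Ideal S) fun n => ?_
    rw [sub_zero]; exact key n G0 hG0'
  have hFe : F = φ G0 + z * φ H := by
    rw [← hφ1, ← map_mul, ← map_add, ← hH, add_sub_cancel]
    exact (φ.apply_symm_apply F).symm
  have hzy : MvPowerSeries.pderiv k 1 z * φ H = z * (1 - MvPowerSeries.pderiv k 1 (φ H)) := by
    have h := congrArg (MvPowerSeries.pderiv k 1) hFe
    rw [hz, ← hzdef, map_add, hdG, zero_add, Derivation.leibniz, smul_eq_mul, smul_eq_mul] at h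
    linear_combination -h
  have hzu : IsUnit (MvPowerSeries.pderiv k 1 z) := by
    rw [isUnit_iff_constantCoeff, hzdef, isUnit_iff_ne_zero]
    simp only [map_add, Derivation.leibniz, smul_eq_mul, hy0, hy1, map_mul, constantCoeff_X, zero_mul,
      map_zero, map_one, mul_one, mul_zero, zero_add, add_zero]
    exact hq0
  obtain ⟨K, hK⟩ : z ∣ φ H := hzu.dvd_mul_left.1 ⟨_, hzy⟩
  refine ⟨p, q, φ G0, K, hq0, ?_, ?_, by rw [← hF, ← hzdef, hFe, hK]; ring⟩
  rotate_left
  · intro m hm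
    have key : φ G0 = G0 := by
      refine Groth.Agent.ArSingLib.eq_of_forall_mem (mx : Ideal S) fun n => ?_
      have key : ∀ G : S, (∀ m : Fin 2 →₀ ℕ, m 1 ≠ 0 → coeff m G = 0) → φ G - G ∈ (mx : Ideal S) ^ n := by
        induction n with
        | zero => intro G _; simp
        | succ n ih =>
          intro G hG
          obtain ⟨G', hG'⟩ : (X 0 : S) ∣ G - MvPowerSeries.C (constantCoeff G) := by
            rw [X_dvd_iff]
            intro m hm
            rw [map_sub, coeff_C]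
            split
            · next h => rw [h, coeff_zero_eq_constantCoeff, sub_self]
            · next h =>
              rw [hG m (fun h1 => h (by ext i; fin_cases i <;> simp [hm, h1])), sub_self]
          have hG'' : ∀ m : Fin 2 →₀ ℕ, m 1 ≠ 0 → coeff m G' = 0 := fun m hm => by
            have h := congrArg (coeff (Finsupp.single 0 1 + m)) hG'
            rw [map_sub, X, coeff_add_monomial_mul, one_mul, hG _ (by simp [hm]), coeff_C, if_neg (by
              intro h'
              have := DFunLike.congr_fun h' 1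
              simp [hm] at this), sub_zero] at h
            exact h.symm
          rw [show G = X 0 * G' + MvPowerSeries.C (constantCoeff G) by rw [← hG']; ring, map_add, map_mul, hφ0,
            Groth.Agent.ArSingLib.mv_C_eq, AlgEquiv.commutes, add_sub_add_right_eq_sub, ← mul_sub, pow_succ']
          exact Ideal.mul_mem_mul (mem_mx.2 (constantCoeff_X _)) (ih G' hG'')
      exact key G0 hG0'
    rw [key]; exact hG0' m hm
  · intro hK0
    have h := congrArg (fun f : S => constantCoeff (MvPowerSeries.pderiv k 1 (MvPowerSeries.pderiv k 1 f)))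
      (show F = φ G0 + (z * z) * K by rw [hFe, hK]; ring)
    rw [show MvPowerSeries.pderiv k 1 (φ G0 + z * z * K) = MvPowerSeries.pderiv k 1 (z * z * K) by
      rw [map_add, hdG, zero_add]] at h
    have hz0 : constantCoeff z = 0 := by rw [hzdef]; simp
    simp only [Derivation.leibniz, map_add, map_mul, smul_eq_mul, hz0, hK0, zero_mul, mul_zero, add_zero] at h
    rw [hF, (cc_pderiv_quad A B C).2.2] at h
    exact mul_ne_zero h2 hC h

theorem iso_of_quad [IsAlgClosed k] (h2 : (2 : k) ≠ 0) (A B C : S) (hC : constantCoeff C ≠ 0) :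
    (∃ n : ℕ, Nonempty ((S ⧸ Ideal.span {X 0 ^ 2 * A + X 0 * X 1 * B + X 1 ^ 2 * C}) ≃ₐ[k] ArSing.ring k n)) ∨
      Nonempty ((S ⧸ Ideal.span {X 0 ^ 2 * A + X 0 * X 1 * B + X 1 ^ 2 * C}) ≃ₐ[k]
        (S ⧸ Ideal.span {(X 1 : S) ^ 2})) := by
  classical
  obtain ⟨p, q, G, K, hq, hK, hG, he⟩ := exists_split h2 A B C hC
  rw [he]
  by_cases hG0 : G = 0
  · obtain ⟨φ, -, hφ⟩ := exists_aut' (X 0) (X 0 * p + X 1 * q) (span_X0_eq_mx p q hq)
    refine Or.inr (equiv_of_aut φ _ _ ?_)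
    rw [map_pow, hφ, hG0, zero_add]
    exact associated_mul_unit_right _ _ (isUnit_iff_constantCoeff.2 (isUnit_iff_ne_zero.2 hK))
  have hne : ∃ N : ℕ, coeff (Finsupp.single 0 N) G ≠ 0 := by
    by_contra hall
    push Not at hall
    refine hG0 (MvPowerSeries.ext fun m => ?_)
    rw [map_zero]
    by_cases hm : m 1 = 0
    · rw [show m = Finsupp.single 0 (m 0) by ext i; fin_cases i <;> simp [hm]]; exact hall _
    · exact hG m hm
  obtain ⟨N, hN⟩ : ∃ N, N = Nat.find hne := ⟨_, rfl⟩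
  have hmin : ∀ l < N, coeff (Finsupp.single 0 l) G = 0 := fun l hl => by
    by_contra h; exact Nat.find_min hne (hN ▸ hl) h
  have hNne : coeff (Finsupp.single 0 N) G ≠ 0 := hN ▸ Nat.find_spec hne
  obtain ⟨U, hU⟩ : (X 0 : S) ^ N ∣ G := by
    rw [X_pow_dvd_iff]
    intro m hm
    by_cases hm1 : m 1 = 0
    · rw [show m = Finsupp.single 0 (m 0) by ext i; fin_cases i <;> simp [hm1]]; exact hmin _ hm
    · exact hG m hm1
  have hU0 : constantCoeff U ≠ 0 := by
    intro h
    apply hNne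
    rw [hU, X_pow_eq, coeff_monomial_mul, if_pos le_rfl, one_mul, tsub_self, coeff_zero_eq_constantCoeff, h]
  have hN2 : 2 ≤ N := by
    by_contra hlt
    apply hNne
    have h := congrArg (coeff (Finsupp.single (0 : Fin 2) N)) he
    have hz : X 0 * p + X 1 * q ∈ (mx : Ideal S) := mem_mx.2 (by simp)
    have hzero : ∀ f : S, f ∈ (mx : Ideal S) ^ 2 → coeff (Finsupp.single (0 : Fin 2) N) f = 0 := fun f hf => by
      rw [mx, ← Groth.Agent.PSQuad.vars_eq_maximalIdeal] at hf
      exact Groth.Agent.PSLib.mem_pow_iff.1 (show f ∈ Groth.Agent.PSLib.vars 2 k ^ 2 from hf) _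
        (by rw [Finsupp.degree_single]; omega)
    have hX : ∀ i, (X i : S) ∈ (mx : Ideal S) := fun i => mem_mx.2 (constantCoeff_X _)
    have hL : X 0 ^ 2 * A + X 0 * X 1 * B + X 1 ^ 2 * C ∈ (mx : Ideal S) ^ 2 :=
      add_mem (add_mem (Ideal.mul_mem_right _ _ (Ideal.pow_mem_pow (hX 0) 2))
        (Ideal.mul_mem_right _ _ (by rw [pow_two]; exact Ideal.mul_mem_mul (hX 0) (hX 1))))
        (Ideal.mul_mem_right _ _ (Ideal.pow_mem_pow (hX 1) 2))
    have hR : (X 0 * p + X 1 * q) ^ 2 * K ∈ (mx : Ideal S) ^ 2 :=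
      Ideal.mul_mem_right _ _ (Ideal.pow_mem_pow hz 2)
    rw [map_add (coeff _) G, hzero _ hL, hzero _ hR, add_zero] at h
    exact h.symm
  have hUu : IsUnit U := isUnit_iff_constantCoeff.2 (isUnit_iff_ne_zero.2 hU0)
  obtain ⟨w, hw, hw0⟩ := exists_sqrt h2 (E := -(K * ↑hUu.unit⁻¹)) (by
    rw [map_neg, map_mul, neg_ne_zero]
    refine mul_ne_zero hK fun h => ?_
    have h1 := congrArg constantCoeff hUu.val_inv_mul
    rw [map_mul, h, zero_mul, map_one] at h1
    exact zero_ne_one h1)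
  obtain ⟨φ, hφ0, hφ1⟩ := exists_aut' (X 0) (X 0 * (p * w) + X 1 * (q * w))
    (span_X0_eq_mx _ _ (by rw [map_mul]; exact mul_ne_zero hq hw0))
  refine Or.inl ⟨N - 1, equiv_of_aut φ _ _ ?_⟩
  rw [ArSing.eqn, map_sub, map_pow, map_pow, hφ1, hφ0, show N - 1 + 1 = N by omega]
  refine ⟨(hUu.unit * -1), ?_⟩
  rw [Units.val_mul, IsUnit.unit_spec, Units.val_neg, Units.val_one, hU]
  linear_combination (-(U * (X 0 * p + X 1 * q) ^ 2)) * hw + (X 0 * p + X 1 * q) ^ 2 * K * hUu.val_inv_mul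

theorem iso_of_not_cube [IsAlgClosed k] (h2 : (2 : k) ≠ 0) (F : S) (hF0 : constantCoeff F = 0)
    (hF : F ∉ (mx : Ideal S) ^ 3) :
    (∃ n : ℕ, Nonempty ((S ⧸ Ideal.span {F}) ≃ₐ[k] ArSing.ring k n)) ∨
      Nonempty ((S ⧸ Ideal.span {F}) ≃ₐ[k] (S ⧸ Ideal.span {(X 1 : S) ^ 2})) := by
  classical
  by_cases hlin : ∀ j : Fin 2, coeff (Finsupp.single j 1) F = 0
  swap
  · push Not at hlin
    obtain ⟨j, hj⟩ := hlin
    obtain ⟨φ, hφ⟩ := exists_aut_of_linear F hF0 j hj
    obtain ⟨e1⟩ := equiv_of_aut φ (X 1) F (by rw [hφ])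
    have hne : coeff (Finsupp.single (0 : Fin 2) 1) (ArSing.eqn k 0) ≠ 0 := by
      simp [ArSing.eqn, pow_two, coeff_X, X, coeff_monomial_mul, Finsupp.le_def, Finsupp.single_apply,
        Fin.forall_fin_two, MvPowerSeries.coeff_monomial, Finsupp.single_eq_single_iff]
    obtain ⟨ψ, hψ⟩ := exists_aut_of_linear (ArSing.eqn k 0) (by simp [ArSing.eqn]) 0 hne
    obtain ⟨e2⟩ := equiv_of_aut ψ (X 1) (ArSing.eqn k 0) (by rw [hψ])
    exact Or.inl ⟨0, ⟨e1.trans e2.symm⟩⟩
  obtain ⟨A, B, C, rfl⟩ := quad_decomp F hF0 hlin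
  rw [mem_cube_iff h2] at hF
  by_cases hC : constantCoeff C = 0
  swap
  · exact iso_of_quad h2 A B C hC
  have hsymm : ∀ (φ : S ≃ₐ[k] S) (F' : S), φ (X 0 ^ 2 * A + X 0 * X 1 * B + X 1 ^ 2 * C) = F' →
      ((∃ n : ℕ, Nonempty ((S ⧸ Ideal.span {F'}) ≃ₐ[k] ArSing.ring k n)) ∨
        Nonempty ((S ⧸ Ideal.span {F'}) ≃ₐ[k] (S ⧸ Ideal.span {(X 1 : S) ^ 2}))) →
      ((∃ n : ℕ, Nonempty ((S ⧸ Ideal.span {X 0 ^ 2 * A + X 0 * X 1 * B + X 1 ^ 2 * C}) ≃ₐ[k] ArSing.ring k n)) ∨
        Nonempty ((S ⧸ Ideal.span {X 0 ^ 2 * A + X 0 * X 1 * B + X 1 ^ 2 * C}) ≃ₐ[k]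
          (S ⧸ Ideal.span {(X 1 : S) ^ 2}))) := by
    intro φ F' hF' h
    obtain ⟨e⟩ := equiv_of_aut φ _ F' (by rw [hF'])
    exact h.imp (fun ⟨n, ⟨d⟩⟩ => ⟨n, ⟨e.symm.trans d⟩⟩) fun ⟨d⟩ => ⟨e.symm.trans d⟩
  have hcc : ∀ (φ : S ≃ₐ[k] S) (D : S), φ (X 0) ∈ (mx : Ideal S) → φ (X 1) ∈ (mx : Ideal S) →
      constantCoeff (φ D) = constantCoeff D := by
    intro φ D h0 h1
    obtain ⟨G, H, e⟩ := Groth.Agent.ArSingLib.mv_decomp D
    conv_lhs => rw [e, Groth.Agent.ArSingLib.mv_C_eq]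
    simp only [map_add, map_mul, AlgEquiv.commutes, mem_mx.1 h0, mem_mx.1 h1, zero_mul, add_zero]
    rw [← Groth.Agent.ArSingLib.mv_C_eq, constantCoeff_C]
  by_cases hA : constantCoeff A = 0
  · -- shear
    obtain ⟨φ, h0, h1⟩ := exists_aut' (X 0 + X 1 : S) (X 1) (by
      refine le_antisymm ?_ (Ideal.span_le.2 ?_)
      · rw [mx_eq, Ideal.span_le]
        rintro x (rfl | rfl)
        · have h1 : (X 0 + X 1 : S) ∈ Ideal.span {(X 0 + X 1 : S), X 1} := Ideal.subset_span (Or.inl rfl)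
          have h2 : (X 1 : S) ∈ Ideal.span {(X 0 + X 1 : S), X 1} := Ideal.subset_span (Or.inr rfl)
          simpa using sub_mem h1 h2
        · exact Ideal.subset_span (Or.inr rfl)
      · rintro x (rfl | rfl) <;> exact mem_mx.2 (by simp))
    refine hsymm φ (X 0 ^ 2 * φ A + X 0 * X 1 * (2 * φ A + φ B) + X 1 ^ 2 * (φ A + φ B + φ C))
      (by simp only [map_add, map_mul, map_pow, h0, h1]; ring) (iso_of_quad h2 _ _ _ ?_)
    have hm0 : φ (X 0) ∈ (mx : Ideal S) := mem_mx.2 (by rw [h0]; simp)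
    have hm1 : φ (X 1) ∈ (mx : Ideal S) := mem_mx.2 (by rw [h1]; simp)
    rw [map_add, map_add, hcc φ A hm0 hm1, hcc φ B hm0 hm1, hcc φ C hm0 hm1, hA, hC, zero_add, add_zero]
    exact fun hB => hF ⟨hA, hB, hC⟩
  · -- swap
    obtain ⟨φ, h0, h1⟩ := exists_aut' (X 1 : S) (X 0) (by rw [mx_eq, Set.pair_comm])
    refine hsymm φ (X 0 ^ 2 * φ C + X 0 * X 1 * φ B + X 1 ^ 2 * φ A)
      (by simp only [map_add, map_mul, map_pow, h0, h1]; ring) (iso_of_quad h2 _ _ _ ?_)
    rw [hcc φ A (mem_mx.2 (by rw [h0]; simp)) (mem_mx.2 (by rw [h1]; simp))]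
    exact hA

theorem not_iso_of_cube (F g : S) (hF : F ∈ (mx : Ideal S) ^ 3) (hg0 : constantCoeff g = 0)
    (e : (S ⧸ Ideal.span {F}) ≃ₐ[k] (S ⧸ Ideal.span {g})) : g ∈ (mx : Ideal S) ^ 3 := by
  classical
  have hFm : F ∈ (mx : Ideal S) := Ideal.pow_le_self (by norm_num) hF
  haveI : Nontrivial (S ⧸ Ideal.span {F}) := Ideal.Quotient.nontrivial_iff.2 fun h =>
    (IsLocalRing.maximalIdeal.isMaximal S).ne_top (top_le_iff.1 (h ▸ (Ideal.span_singleton_le_iff_mem _).2 hFm))
  haveI : IsLocalRing (S ⧸ Ideal.span {F}) := IsLocalRing.of_surjective' (Ideal.Quotient.mk _) Ideal.Quotient.mk_surjective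
  haveI : Nontrivial (S ⧸ Ideal.span {g}) := e.symm.surjective.nontrivial
  haveI : IsLocalHom (Ideal.Quotient.mk (Ideal.span {F})) := IsLocalHom.of_surjective _ Ideal.Quotient.mk_surjective
  haveI : IsLocalRing (S ⧸ Ideal.span {g}) := IsLocalRing.of_surjective' (Ideal.Quotient.mk _) Ideal.Quotient.mk_surjective
  haveI : IsLocalHom (Ideal.Quotient.mk (Ideal.span {g})) := IsLocalHom.of_surjective _ Ideal.Quotient.mk_surjective
  choose a ha using fun i => Ideal.Quotient.mk_surjective (e.symm (Ideal.Quotient.mk _ (X i)))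
  have ham : ∀ i, a i ∈ (mx : Ideal S) := fun i => by
    rw [mx, IsLocalRing.mem_maximalIdeal, mem_nonunits_iff]
    intro hu
    have h := (hu.map (Ideal.Quotient.mk (Ideal.span {F}))).map e
    rw [ha, AlgEquiv.apply_symm_apply, isUnit_map_iff, isUnit_iff_constantCoeff, constantCoeff_X] at h
    exact not_isUnit_zero h
  have hgen : (mx : Ideal S) = Ideal.span {a 0, a 1} := by
    refine le_antisymm (Groth.Agent.PSQuad.maximalIdeal_le_of_le_sup_sq fun x hx => ?_) (Ideal.span_le.2 ?_)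
    · obtain ⟨y, hy⟩ := Ideal.Quotient.mk_surjective (e (Ideal.Quotient.mk _ x))
      obtain ⟨G, H, hGH⟩ := Groth.Agent.ArSingLib.mv_decomp y
      have hy0 : constantCoeff y = 0 := by
        by_contra h
        have hu := ((isUnit_iff_constantCoeff.2 (isUnit_iff_ne_zero.2 h)).map (Ideal.Quotient.mk (Ideal.span {g}))).map e.symm
        rw [hy, AlgEquiv.symm_apply_apply, isUnit_map_iff] at hu
        exact (IsLocalRing.mem_maximalIdeal _).1 hx hu
      rw [hy0, map_zero, zero_add] at hGH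
      obtain ⟨c, hc⟩ := Ideal.Quotient.mk_surjective (e.symm (Ideal.Quotient.mk _ G))
      obtain ⟨d, hd⟩ := Ideal.Quotient.mk_surjective (e.symm (Ideal.Quotient.mk _ H))
      have hmem : x - (a 0 * c + a 1 * d) ∈ Ideal.span {F} := by
        rw [← Ideal.Quotient.eq_zero_iff_mem, map_sub, map_add, map_mul, map_mul, ha, ha, hc, hd]
        simp only [← map_mul, ← map_add]
        rw [← hGH, hy, AlgEquiv.symm_apply_apply, sub_self]
      rw [show x = (a 0 * c + a 1 * d) + (x - (a 0 * c + a 1 * d)) by ring]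
      refine Submodule.add_mem_sup (add_mem (Ideal.mul_mem_right _ _ (Ideal.subset_span (Or.inl rfl)))
        (Ideal.mul_mem_right _ _ (Ideal.subset_span (Or.inr rfl)))) ?_
      exact (Ideal.span_singleton_le_iff_mem _).2 (Ideal.pow_le_pow_right (by norm_num) hF) hmem
    · rintro x (rfl | rfl) <;> exact ham _
  obtain ⟨φ, h0, h1⟩ := exists_aut' (a 0) (a 1) hgen
  have hcomm : (Ideal.Quotient.mkₐ k (Ideal.span {F})).comp (φ : S →ₐ[k] S) =
      (e.symm : _ →ₐ[k] _).comp (Ideal.Quotient.mkₐ k (Ideal.span {g})) := by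
    refine Groth.Agent.ArSingLib.mv_hom_ext (IsLocalRing.maximalIdeal (S ⧸ Ideal.span {F})) (fun i => ?_) fun i => ?_
    · fin_cases i
      · simpa [h0] using ha 0
      · simpa [h1] using ha 1
    · rw [IsLocalRing.mem_maximalIdeal, mem_nonunits_iff]
      show ¬ IsUnit (Ideal.Quotient.mk (Ideal.span {F}) (φ (X i)))
      rw [isUnit_map_iff, isUnit_map_iff, isUnit_iff_constantCoeff, constantCoeff_X]
      exact not_isUnit_zero
  have hgF : φ g ∈ Ideal.span {F} := by
    rw [← Ideal.Quotient.eq_zero_iff_mem]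
    have := AlgHom.congr_fun hcomm g
    simp only [AlgHom.comp_apply, Ideal.Quotient.mkₐ_eq_mk, AlgHom.coe_coe] at this
    rw [show φ g = (φ : S →ₐ[k] S) g from rfl, this, Ideal.Quotient.eq_zero_iff_mem.2 (Ideal.mem_span_singleton_self g), map_zero]
  have hm : φ g ∈ (mx : Ideal S) ^ 3 := (Ideal.span_singleton_le_iff_mem _).2 hF hgF
  have hmap : ((mx : Ideal S) ^ 3).map φ.symm.toRingHom ≤ (mx : Ideal S) ^ 3 := by
    rw [Ideal.map_pow]
    refine Ideal.pow_right_mono (Ideal.map_le_iff_le_comap.2 fun y hy => ?_) 3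
    rw [Ideal.mem_comap, mx, IsLocalRing.mem_maximalIdeal, mem_nonunits_iff]
    intro hu
    exact (IsLocalRing.mem_maximalIdeal _).1 hy (by simpa using hu.map φ)
  simpa using hmap (Ideal.mem_map_of_mem φ.symm.toRingHom hm)

theorem main [IsAlgClosed k] (h2 : (2 : k) ≠ 0) (f : P) (a : Fin 2 → k) (hfa : MvPolynomial.eval a f = 0) :
    ((∀ i : Fin 2, MvPolynomial.eval a (MvPolynomial.pderiv i f) = 0) ∧
      ∀ i j : Fin 2, MvPolynomial.eval a (MvPolynomial.pderiv i (MvPolynomial.pderiv j f)) = 0) ↔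
    ¬ ((∃ n : ℕ, Nonempty ((S ⧸ Ideal.span
        ({(MvPolynomial.aeval (fun i : Fin 2 => MvPolynomial.X i + MvPolynomial.C (a i)) f).toMvPowerSeries} :
          Set S)) ≃ₐ[k] ArSing.ring k n)) ∨
        Nonempty ((S ⧸ Ideal.span
        ({(MvPolynomial.aeval (fun i : Fin 2 => MvPolynomial.X i + MvPolynomial.C (a i)) f).toMvPowerSeries} :
          Set S)) ≃ₐ[k] (S ⧸ Ideal.span ({X 1 ^ 2} : Set S)))) := by
  classical
  let τ := Groth.Agent.PSQuad.shift (n := 2) a
  have hev : ∀ p, MvPolynomial.eval a p = constantCoeff ((τ p : P) : S) := fun p => by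
    rw [← coeff_zero_eq_constantCoeff_apply, MvPolynomial.coeff_coe, Groth.Agent.PSQuad.coeff_zero_shift]
  have hd : ∀ i p, ((τ (MvPolynomial.pderiv i p) : P) : S) = MvPowerSeries.pderiv k i ((τ p : P) : S) := fun i p => by
    rw [← Groth.Agent.PSQuad.pderiv_shift, Groth.Agent.S14310.coe_pderiv]
  show _ ↔ ¬ ((∃ n : ℕ, Nonempty ((S ⧸ Ideal.span {((τ f : P) : S)}) ≃ₐ[k] ArSing.ring k n)) ∨
      Nonempty ((S ⧸ Ideal.span {((τ f : P) : S)}) ≃ₐ[k] (S ⧸ Ideal.span {(X 1 : S) ^ 2})))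
  simp only [hev, hd]
  rw [hev] at hfa
  generalize ((τ f : P) : S) = F at hfa ⊢
  have hX1 : ∀ n : ℕ, ∀ (G : S), F ∈ (mx : Ideal S) ^ 3 → constantCoeff G = 0 →
      constantCoeff (MvPowerSeries.pderiv k 1 (MvPowerSeries.pderiv k 1 G)) = 2 →
      ¬ Nonempty ((S ⧸ Ideal.span {F}) ≃ₐ[k] (S ⧸ Ideal.span {G})) := fun n G hF hG h ⟨e⟩ =>
    h2 (h ▸ mem_mx.1 (by simpa using pderiv_mem_pow 1 1 (pderiv_mem_pow 1 2 (not_iso_of_cube F G hF hG e))))
  have h11 : MvPowerSeries.pderiv k 1 (X 1 : S) = 1 := MvPowerSeries.pderiv_X_self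
  have h10 : MvPowerSeries.pderiv k 1 (X 0 : S) = 0 := MvPowerSeries.pderiv_X_of_ne (by decide)
  constructor
  · rintro ⟨hd1, hd2⟩
    have hcube : F ∈ (mx : Ideal S) ^ 3 := by
      have hlin : ∀ j : Fin 2, coeff (Finsupp.single j 1) F = 0 := fun j => by
        obtain ⟨G, H, e⟩ := Groth.Agent.ArSingLib.mv_decomp F
        rw [hfa, map_zero, zero_add] at e
        have h01 : MvPowerSeries.pderiv k 0 (X 1 : S) = 0 := MvPowerSeries.pderiv_X_of_ne (by decide)
        have hG : constantCoeff G = 0 := by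
          have := hd1 0
          simpa [e, h01, MvPowerSeries.pderiv_X_self, Derivation.leibniz] using this
        have hH : constantCoeff H = 0 := by
          have := hd1 1
          simpa [e, h10, MvPowerSeries.pderiv_X_self, Derivation.leibniz] using this
        rw [e, map_add, X, X, coeff_monomial_mul, coeff_monomial_mul]
        fin_cases j <;> simp [Finsupp.le_def, Finsupp.single_apply, Fin.forall_fin_two, hG, hH]
      obtain ⟨A, B, C, rfl⟩ := quad_decomp F hfa hlin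
      obtain ⟨e1, e2, e3⟩ := cc_pderiv_quad A B C
      exact (mem_cube_iff h2 A B C).2 ⟨(mul_eq_zero.1 (e1.symm.trans (hd2 0 0))).resolve_left h2,
        e2.symm.trans (hd2 0 1), (mul_eq_zero.1 (e3.symm.trans (hd2 1 1))).resolve_left h2⟩
    rintro (⟨n, hn⟩ | hy)
    · refine hX1 n (ArSing.eqn k n) hcube ?_ ?_ hn
      · simp [ArSing.eqn, constantCoeff_X]
      · simp [ArSing.eqn, pow_two, Derivation.leibniz_pow, Derivation.leibniz, h11, h10, two_mul, one_add_one_eq_two]
        exact map_ofNat _ 2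
    · refine hX1 0 (X 1 ^ 2) hcube (by simp) ?_ hy
      simp [pow_two, Derivation.leibniz, h11, one_add_one_eq_two]
      exact map_ofNat _ 2
  · intro hnot
    have hcube : F ∈ (mx : Ideal S) ^ 3 := by
      by_contra h
      exact hnot (iso_of_not_cube h2 F hfa h)
    exact ⟨fun i => mem_mx.1 (Ideal.pow_le_self two_ne_zero (pderiv_mem_pow i 2 hcube)),
      fun i j => mem_mx.1 (by simpa using pderiv_mem_pow i 1 (pderiv_mem_pow j 2 hcube))⟩

end

/-- Let k be an algebraically closed field in which 2 ≠ 0, f a polynomial in x = X_0, y = X_1 over k and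
a a zero of f in k². Then the gradient and all second partial derivatives of f vanish at a if and
only if the completed local ring k[[x,y]]/(f recentred at a) of the plane curve f = 0 at a is
isomorphic as a k-algebra neither to k[[x,y]]/(y^2 - x^(n+1)) for any natural number n nor to
k[[x,y]]/(y^2). (Here n = 0, a smooth point, is allowed; with n ≥ 1 only, as in the published
definition of an A-singularity, the equivalence fails at smooth points of the curve. Only 2 ≠ 0 is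
assumed of the characteristic; the published setting assumes a characteristic different from 2, 3, 5
and 7.) -/
theorem result
    {k : Type u} [Field k] [IsAlgClosed k] (h2 : (2 : k) ≠ 0) (f : MvPolynomial (Fin 2) k) (a : Fin 2 → k)
    (hfa : MvPolynomial.eval a f = 0) :
    ((∀ i : Fin 2, MvPolynomial.eval a (MvPolynomial.pderiv i f) = 0) ∧
      ∀ i j : Fin 2, MvPolynomial.eval a (MvPolynomial.pderiv i (MvPolynomial.pderiv j f)) = 0) ↔
    ¬ ((∃ n : ℕ, Nonempty ((MvPowerSeries (Fin 2) k ⧸ Ideal.span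
        ({(MvPolynomial.aeval (fun i : Fin 2 => MvPolynomial.X i + MvPolynomial.C (a i)) f).toMvPowerSeries} :
          Set (MvPowerSeries (Fin 2) k))) ≃ₐ[k] ArSing.ring k n)) ∨
        Nonempty ((MvPowerSeries (Fin 2) k ⧸ Ideal.span
        ({(MvPolynomial.aeval (fun i : Fin 2 => MvPolynomial.X i + MvPolynomial.C (a i)) f).toMvPowerSeries} :
          Set (MvPowerSeries (Fin 2) k))) ≃ₐ[k]
          (MvPowerSeries (Fin 2) k ⧸ Ideal.span ({MvPowerSeries.X 1 ^ 2} : Set (MvPowerSeries (Fin 2) k))))) := by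
  exact Groth.Agent.S14311.main h2 f a hfa

end Groth.Agent.S14311
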