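import Groth.Statements.S14312
import Groth.Agent.QuarticSing.Bound
-- import your own Groth.Agent.* helpers here

set_option autoImplicit false
set_option backward.isDefEq.respectTransparency false
set_option backward.isDefEq.respectTransparency.types false
set_option linter.style.haveILetI false
set_option maxHeartbeats 1000000
universe u
open Curves

namespace Groth.Agent.S14312
open Groth.Agent

/-- Over an algebraically closed field k, a reduced plane quartic — the zero locus in the projective
plane of a square-free homogeneous polynomial f of degree 4 in three variables — has at most 6
singular points, a singular point being a point of the projective plane at which f and its three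
first partial derivatives vanish. (No hypothesis on the characteristic of k is imposed here. The
further assertions describing the quartics with exactly 5 or exactly 6 singular points are not part
of this row.) -/
theorem result
    {k : Type u} [Field k] [IsAlgClosed k] (f : MvPolynomial (Fin 3) k)
    (hf : f.IsHomogeneous 4) (hred : Squarefree f) :
    ∃ s : Finset (Projectivization k (Fin 3 → k)), s.card ≤ 6 ∧
      ∀ p : Projectivization k (Fin 3 → k),
        MvPolynomial.eval p.rep f = 0 →
          (∀ i : Fin 3, MvPolynomial.eval p.rep (MvPolynomial.pderiv i f) = 0) → p ∈ s := by
  classical
  let S : Set (Projectivization k (Fin 3 → k)) := {p | QuarticSing.SingAt f p.rep}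
  have hb : QuarticSing.Bd f 6 := QuarticSing.bd_four hf hred
  have hfin : S.Finite := by
    by_contra hinf
    obtain ⟨t, ht, hcard⟩ := Set.Infinite.exists_subset_card_eq hinf 7
    have := hb t fun p hp => ht hp
    omega
  exact ⟨hfin.toFinset, hb _ fun p hp => (hfin.mem_toFinset).1 hp, fun p h1 h2 => hfin.mem_toFinset.2 ⟨h1, h2⟩⟩

end Groth.Agent.S14312
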