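import Groth.Statements.S14330
import Groth.Agent.FlatHartogs.Main
import Groth.Agent.Hartogs.Basic
import Groth.Agent.H23.Seesaw
import Groth.Agent.Lib.CurveDeg
import Groth.Agent.QCoh.LocFree
-- import your own Groth.Agent.* helpers here

set_option autoImplicit false
set_option backward.isDefEq.respectTransparency false
set_option maxHeartbeats 1000000
set_option linter.style.haveILetI false
universe u
open CategoryTheory CategoryTheory.Limits AlgebraicGeometry Opposite
open GrpSch

namespace Groth.Agent.S14330

/-- Let S be a locally Noetherian scheme, f : A → S a smooth morphism, L an invertible O_A-module and V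
an open subscheme of S; for an open W of S consider the restriction of sections of L from f⁻¹(W) to
f⁻¹(W) ∩ f⁻¹(V), that is the component over W of the natural map f_*L → j_*j^*(f_*L), j : V → S the
inclusion. If V is schematically dense in S, all these restrictions are injective. If V is a big
open of S, meaning that the local ring of S at every point outside V has depth at least 2, all these
restrictions are bijective. (The published statement is for a semi-stable group scheme A; its proof
uses only the smoothness of A over S and the local freeness of L, which are the hypotheses kept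
here.) -/
theorem result {S A : Scheme.{u}} [IsLocallyNoetherian S]
    (f : A ⟶ S) [Smooth f] (L : A.Modules) (hL : PicF.IsInvertible L) (V : S.Opens) :
    (CInt.IsSchematicallyDense V →
      ∀ W : S.Opens, Function.Injective (L.val.map (homOfLE (inf_le_left : f ⁻¹ᵁ W ⊓ f ⁻¹ᵁ V ≤ f ⁻¹ᵁ W)).op)) ∧
    ((∀ x : S, x ∉ V → 2 ≤ LocCoh.depth (S.presheaf.stalk x) (S.presheaf.stalk x)) →
      ∀ W : S.Opens, Function.Bijective (L.val.map (homOfLE (inf_le_left : f ⁻¹ᵁ W ⊓ f ⁻¹ᵁ V ≤ f ⁻¹ᵁ W)).op)) := by
  haveI : IsLocallyNoetherian A := LocallyOfFiniteType.isLocallyNoetherian f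
  have hq : Coh.IsQCoh L := QCoh.isQCoh_of_isFinLocFree fun x =>
    let ⟨O, hx, e⟩ := InvEnd.isFinLocFreeOfRank_one hL x
    ⟨O, 1, hx, e⟩
  have hfl := H23.Seesaw.isFlatOver_of_isInvertible f hL
  refine ⟨fun hV W => ?_, fun hd W => ?_⟩
  · exact FlatHartogs.injective_of_flat f V hq hfl (fun W₀ _ => hV W₀) (f ⁻¹ᵁ W)
  · exact FlatHartogs.bijective_of_flat f V hq hfl (fun W₀ hW₀ => Hartogs.affine_bijective V hd hW₀) (f ⁻¹ᵁ W)

end Groth.Agent.S14330
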