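import Groth.Statements.S14341
import Groth.Agent.CurveNondeg.Point
import Groth.Agent.CurveEmbed.Equiv
import Groth.Agent.S1536

set_option autoImplicit false
universe u
open CategoryTheory CategoryTheory.Limits AlgebraicGeometry
open Curves

namespace Groth.Agent.S14341

/-- Let k be a field and X a smooth proper geometrically connected curve over k (of dimension one) of
genus dim_k H^1(X, O_X) = 1, with a k-rational point O (a closed point with residue field k); for a
k-rational point P write I_P for the ideal sheaf of the reduced point P, an invertible ideal with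
inverse O_X(P). Then for every invertible O_X-module L of degree 0 there is exactly one k-rational
point P with L ⊗ I_P ≅ I_O, that is L ≅ O_X(P − O): the map P ↦ O_X(P − O) is a bijection from X(k)
onto the isomorphism classes of invertible modules of degree zero. -/
theorem result (k : Type u) [Field k] (X : Scheme.{u}) [X.Over (Spec (CommRingCat.of k))] [IsProper (X ↘ Spec (CommRingCat.of k))] [Smooth (X ↘ Spec (CommRingCat.of k))] [GeometricallyConnected (X ↘ Spec (CommRingCat.of k))] (hX : topologicalKrullDim X = 1) (hg : Curv2.genus k X = 1) (O : X) (hOc : IsClosed ({O} : Set X)) (hO : Function.Bijective (Curv2.resMap k X O)) (L : X.Modules) (hL : PicF.IsInvertible L) (hdeg : Curv2.deg k X L 1 = 0) : ∃! P : {x : X // IsClosed ({x} : Set X) ∧ Function.Bijective (Curv2.resMap k X x)}, Nonempty (CohB1.tensorMod L (ClSub.idealMod (Scheme.IdealSheafData.vanishingIdeal ⟨{P.1}, P.2.1⟩)) ≅ ClSub.idealMod (Scheme.IdealSheafData.vanishingIdeal ⟨{O}, hOc⟩)) := by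
  haveI := CurveStable.isIntegral_of_geometricallyConnected k (X := X)
  haveI := CurveCohLib.isNoetherian_of_proper (k := k) (X := X)
  haveI := GrpSchLib.geometricallyReduced_of_smooth (X ↘ Spec (CommRingCat.of k))
  have h1O : Module.finrank k (Coh.HH X (Coh.structureModule X) 0) = 1 := S1536.result k X
  have hdegPt : ∀ (p : X) (hp : IsClosed ({p} : Set X)), Function.Bijective (Curv2.resMap k X p) →
      Curv2.deg k X (CurvePoint.ptMod p hp) 1 = -1 := fun p hp hb => by
    letI := Curv2.resAlgebra k X p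
    have hb' : Function.Bijective (Algebra.linearMap k (X.residueField p)) := hb
    rw [CurveEmbed.deg_point k hp, ← (LinearEquiv.ofBijective _ hb').finrank_eq, Module.finrank_self]
    rfl
  obtain ⟨D, hD, hdD, ⟨e⟩⟩ := CurveDuality.exists_inverse_deg k hX hL
  let e' := CurveTensor.commIso D L ≪≫ e
  have hIO := CurveNondeg.isInvertible_pt k hX hOc
  have hN : PicF.IsInvertible ((DCoh.tensorBi.obj D).obj (CurvePoint.ptMod O hOc)) :=
    InvX.isInvertible_tensorMod hD hIO
  have hdN : Curv2.deg k X ((DCoh.tensorBi.obj D).obj (CurvePoint.ptMod O hOc)) 1 = -1 := by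
    refine (CurveRR.deg_tensor k hX hD hIO).trans ?_
    rw [hdD, hdeg, hdegPt O hOc hO]; rfl
  obtain ⟨M, hM, hdM, ⟨eM⟩⟩ := CurveDuality.exists_inverse_deg k hX hN
  have hM0 := CurveNondeg.h0_eq_deg k h1O hX hg hM (by rw [hdM, hdN]; norm_num)
  rw [hdM, hdN] at hM0
  obtain ⟨p, hp, hb, ⟨u⟩⟩ := CurveNondeg.exists_point k h1O hX hN hM eM hdN (by omega)
  refine ⟨⟨p, hp, hb⟩, ⟨(DCoh.tensorBi.obj L).mapIso u ≪≫
    (CurveRR.cancelIso e).app (CurvePoint.ptMod O hOc)⟩, ?_⟩
  rintro ⟨q, hq, hqb⟩ ⟨v⟩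
  refine Subtype.ext ?_
  show q = p
  by_contra hne
  have E : CurvePoint.ptMod q hq ≅ CurvePoint.ptMod p hp :=
    ((CurveRR.cancelIso e').app (CurvePoint.ptMod q hq)).symm ≪≫ (DCoh.tensorBi.obj D).mapIso v ≪≫ u.symm
  have hIq := CurveNondeg.isInvertible_pt k hX hq
  obtain ⟨L', hL', hdL', ⟨α⟩⟩ := CurveDuality.exists_inverse_deg k hX hIq
  have hd' : Curv2.deg k X L' 1 = 1 := by rw [hdL', hdegPt q hq hqb]; rfl
  have h0 := CurveNondeg.h0_eq_deg k h1O hX hg hL' (by rw [hd']; norm_num)
  rw [hd'] at h0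
  obtain ⟨βy⟩ : Nonempty ((AmpleVan.tw L').obj (ClSub.idealMod (CurvePoint.ptIdeal p hp)) ≅
      Coh.structureModule X) := ⟨(AmpleVan.tw L').mapIso E.symm ≪≫ α⟩
  have hgne : E.hom ≫ ClSub.idealModι (CurvePoint.ptIdeal p hp) ≠ 0 := fun h0 =>
    CurveEmbed.idealModι_ne_zero βy ((cancel_epi E.hom).1 (h0.trans comp_zero.symm))
  obtain ⟨ψ, hψ⟩ := CurveEmbed.exists_endo_of_h0 k hL' α (by omega)
    (ClSub.idealModι (CurvePoint.ptIdeal q hq)) _ hgne
  refine CurveEmbed.idealMod_comp_toSubscheme_ne_zero hq hp (Ne.symm hne) ?_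
  exact CurveEmbed.comp_toSubscheme_of_factor ψ E.hom hψ

end Groth.Agent.S14341
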