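import Groth.Statements.S14343
import Groth.Agent.BlowLCI.BaseChange
import Groth.Agent.BlowUpX.Basic

set_option autoImplicit false
universe u
open CategoryTheory CategoryTheory.Limits AlgebraicGeometry TopologicalSpace
open QuotLF

namespace Groth.Agent.S14343

/-- Let 𝓘 be a Koszul-regular quasi-coherent ideal sheaf on a scheme X (the ideal of a Koszul-regularly
immersed closed subscheme Z) and let g : X' ⟶ X be a morphism which is Tor-independent with respect
to Z ⟶ X, stated in the following equivalent form: whenever 𝓘(U) is generated on an affine open U by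
a Koszul-regular sequence, the image of that sequence in Γ(X', V) is again Koszul-regular for every
affine open V of X' lying over U (for a Koszul-regular ideal the Koszul complex of such a sequence
resolves O_Z on U, so this says exactly that the higher Tor groups of O_Z against O_{X'} vanish).
Then for every blowing-up b : B ⟶ X of X in 𝓘, the base change B ×_X X' ⟶ X' is a blowing-up of X'
in the inverse image ideal sheaf 𝓘·O_{X'} (the ideal of Z ×_X X'). Blowing-ups are taken through
their universal property. -/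
theorem result {X X' B : Scheme.{u}} (𝓘 : X.IdealSheafData)
    (h𝓘 : RegImm.IsRegularIdeal .koszul 𝓘) (g : X' ⟶ X)
    (hg : ∀ (U : X.affineOpens) (rs : List Γ(X, U.1)), LCI.IsKoszulRegularSeq Γ(X, U.1) rs →
      𝓘.ideal U = Ideal.ofList rs → ∀ (V : X'.affineOpens) (e : V.1 ≤ g ⁻¹ᵁ U.1),
        LCI.IsKoszulRegularSeq Γ(X', V.1) (rs.map fun r => (g.appLE U.1 V.1 e).hom r))
    (b : B ⟶ X) (hb : BlowUp.IsBlowUp b 𝓘) :
    BlowUp.IsBlowUp (pullback.snd b g) (𝓘.comap g) := by
  refine Groth.Agent.BlowLCI.isBlowUp_pullback 𝓘 g (fun y => ?_) b hb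
  obtain ⟨U, hyU, rs, hrs, heq⟩ : ∃ U : X.affineOpens, y ∈ U.1 ∧ ∃ rs : List Γ(X, U.1),
      LCI.IsKoszulRegularSeq Γ(X, U.1) rs ∧ 𝓘.ideal U = Ideal.ofList rs := by
    by_cases hy : y ∈ 𝓘.support
    · exact h𝓘 y hy
    · obtain ⟨_, ⟨U, hU, rfl⟩, hyU, hsub⟩ := X.isBasis_affineOpens.exists_subset_of_mem_open hy
        𝓘.support.isClosed.isOpen_compl
      refine ⟨⟨U, hU⟩, hyU, [1], ?_, ?_⟩
      · have h := Groth.Agent.KoszulFlatLib.isKoszulRegularSeq_of_isExact
          (Groth.Agent.KRegLib.isExact_single (IsSMulRegular.one Γ(X, U)))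
        simpa using h
      · rw [Groth.Agent.BlowUpX.ideal_eq_top_of_disjoint 𝓘 ⟨U, hU⟩]
        · simp [Ideal.ofList]
        · exact fun z hz hz' => hsub hz hz'
  refine ⟨U, rs.length, rs.get, hyU, Groth.Agent.WiebeLib.isExact_of_isKoszulRegularSeq _ ?_, ?_, fun V e => ?_⟩
  · rw [List.ofFn_get]; exact hrs
  · rw [heq, Ideal.ofList]
    congr 1
    ext r
    simp [List.mem_iff_get]
  · refine Groth.Agent.WiebeLib.isExact_of_isKoszulRegularSeq _ ?_
    have h : (List.ofFn fun i => (g.appLE U.1 V.1 e).hom (rs.get i)) = rs.map fun r => (g.appLE U.1 V.1 e).hom r := by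
      exact (List.map_ofFn (f := rs.get) (g := fun r => (g.appLE U.1 V.1 e).hom r)).symm.trans (by rw [List.ofFn_get])
    rw [h]
    exact hg U rs hrs heq V e

end Groth.Agent.S14343
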