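import Groth.Statements.S14345
import Groth.Agent.FittX.Free

set_option autoImplicit false
universe u v
open TensorProduct
open QuotLF

namespace Groth.Agent.S14345

/-- Let R be a commutative ring, M a finitely generated R-module and k ≥ 0. If for an R-algebra A the
module A ⊗_R M admits a quotient that is finite projective of constant rank k (an A-valued point of
the Quot scheme of rank-k locally free quotients of M), then every Fitting ideal Fit_j(M) with j < k
extends to the zero ideal of A; that is, the structure map of the Quot scheme of rank-k locally free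
quotients factors through the closed subscheme cut out by Fit_{k-1}(M). -/
theorem result (R : Type u) [CommRing R]
    (M : Type v) [AddCommGroup M] [Module R M] [Module.Finite R M] (k : ℕ)
    (A : Type u) [CommRing A] [Algebra R A] (N : Module.Grassmannian A (A ⊗[R] M) k)
    (j : ℕ) (hj : j < k) :
    (Fitt.ideal R M j).map (algebraMap R A) = ⊥ := by
  classical
  open Groth.Agent.FittX in
  have key : (Fitt.ideal R M j).map (algebraMap R A) = ⊥ := by
    have : Module.Finite A ((A ⊗[R] M) ⧸ N.toSubmodule) := N.finite_quotient
    have : Module.Projective A ((A ⊗[R] M) ⧸ N.toSubmodule) := N.projective_quotient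
    obtain ⟨n, q, hq⟩ := Module.Finite.exists_fin' A ((A ⊗[R] M) ⧸ N.toSubmodule)
    let e := q.quotKerEquivOfSurjective hq
    have hfin : Module.Finite A ((Fin n → A) ⧸ LinearMap.ker q) := Module.Finite.equiv e.symm
    have hproj : Module.Projective A ((Fin n → A) ⧸ LinearMap.ker q) := Module.Projective.of_equiv e.symm
    have hrk : ∀ p : PrimeSpectrum A, Module.rankAtStalk (R := A) ((Fin n → A) ⧸ LinearMap.ker q) p = k :=
      fun p => by
        rw [congrFun (Module.rankAtStalk_eq_of_equiv e) p]
        exact N.rankAtStalk_eq p
    let f : M →ₗ[R] ((Fin n → A) ⧸ LinearMap.ker q) :=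
      (e.symm.toLinearMap.restrictScalars R) ∘ₗ (N.toSubmodule.mkQ.restrictScalars R) ∘ₗ (TensorProduct.mk R A M 1)
    obtain ⟨l, x, hx⟩ := exists_gen R M
    have hspan : Submodule.span A (Set.range (f ∘ x)) = ⊤ := by
      have h1 : Submodule.span A (Set.range ((TensorProduct.mk R A M 1) ∘ x)) = ⊤ := by
        rw [Set.range_comp, ← Submodule.span_span_of_tower R A, Submodule.span_image, hx, Submodule.map_top]
        rw [eq_top_iff]
        rintro z -
        induction z using TensorProduct.induction_on with
        | zero => exact zero_mem _
        | tmul a y =>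
          rw [show a ⊗ₜ[R] y = a • ((1 : A) ⊗ₜ[R] y) by rw [TensorProduct.smul_tmul', smul_eq_mul, mul_one]]
          exact Submodule.smul_mem _ _ (Submodule.subset_span ⟨y, rfl⟩)
        | add a b ha hb => exact add_mem ha hb
      have h2 := congrArg (Submodule.map (e.symm.toLinearMap ∘ₗ N.toSubmodule.mkQ)) h1
      rw [← Submodule.span_image, ← Set.range_comp, Submodule.map_top, LinearMap.range_comp,
        Submodule.range_mkQ, Submodule.map_top, LinearEquiv.range] at h2
      exact h2
    have hbot : Fitt.ideal A ((Fin n → A) ⧸ LinearMap.ker q) j = ⊥ := by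
      refine ((locallyFree_iff (M := (Fin n → A) ⧸ LinearMap.ker q) k).1 fun p hp => ?_).1 j hj
      have : Module.FinitePresentation A ((Fin n → A) ⧸ LinearMap.ker q) :=
        Module.finitePresentation_of_projective _ _
      have : Module.Free (Localization.AtPrime p)
          (LocalizedModule p.primeCompl ((Fin n → A) ⧸ LinearMap.ker q)) :=
        Module.free_of_flat_of_isLocalRing
      obtain ⟨r, hr, hfree, hf⟩ := Module.FinitePresentation.exists_free_localizedModule_powers p.primeCompl
        (LocalizedModule.mkLinearMap p.primeCompl ((Fin n → A) ⧸ LinearMap.ker q)) (Localization.AtPrime p)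
      exact ⟨r, hr, hfree, hf.trans (hrk ⟨p, hp⟩)⟩
    rw [eq_bot_iff, ← hbot, ideal_eq_minors x hx, ideal_eq_minors _ hspan, Ideal.map_le_iff_le_comap]
    conv_lhs => rw [← Submodule.span_eq (rel (R := R) x)]
    refine minors_le_of_span (span_proj l) fun φ hφ z hz => ?_
    choose i hi using hφ
    rw [Ideal.mem_comap, minor, RingHom.map_det]
    have := minor_mem (K := rel (R := A) (f ∘ x))
      (fun a => (LinearMap.proj (i a) : Module.Dual A (Fin l → A)))
      (z := fun b a => algebraMap R A (z b a)) (fun b => mem_rel.2 (by
        simpa [map_sum] using congrArg f (mem_rel.1 (hz b))))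
    rw [minor] at this
    convert this using 2
    ext b a
    simp [← hi a]
  exact key

end Groth.Agent.S14345
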