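import Groth.Statements.S14352
import Mathlib
import Groth.Agent.GrpSchLib.UnramifiedFibre
import Groth.Agent.GrpSchLib.SmoothReduced
import Groth.Agent.AlgSpLib.EtLocalInst

set_option autoImplicit false
universe u
open Mor

namespace Groth.Agent.S14352

set_option backward.isDefEq.respectTransparency.types false
set_option backward.isDefEq.respectTransparency false

open CategoryTheory AlgebraicGeometry in
theorem flat_field {K : Type u} [Field K] {X : Scheme.{u}} (p : X ⟶ Spec (CommRingCat.of K)) : Flat p := by
  wlog hX : ∃ A, X = Spec A generalizing X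
  · rw [IsZariskiLocalAtSource.iff_of_openCover (P := @Flat) X.affineCover]
    exact fun i => this _ ⟨_, rfl⟩
  obtain ⟨A, rfl⟩ := hX
  obtain ⟨φ, rfl⟩ := Spec.map_surjective p
  rw [HasRingHomProperty.Spec_iff (P := @Flat)]
  letI := φ.hom.toAlgebra
  exact RingHom.flat_algebraMap_iff.2 (inferInstance : Module.Flat K A)

open CategoryTheory CategoryTheory.Limits AlgebraicGeometry in
theorem etale_of_reduced_discrete {K : Type u} [Field K] [IsAlgClosed K] {X : Scheme.{u}}
    [IsReduced X] [DiscreteTopology X] (p : X ⟶ Spec (CommRingCat.of K)) [LocallyOfFiniteType p] :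
    Etale p := by
  let 𝒰 : X.OpenCover := X.openCoverOfIsOpenCover
    (fun x : X => ⟨{x}, isOpen_discrete _⟩) (.mk (by ext; simp))
  rw [IsZariskiLocalAtSource.iff_of_openCover (P := @Etale) 𝒰]
  intro i
  haveI : Subsingleton ↥(𝒰.X i) := inferInstanceAs (Subsingleton ({i} : Set X))
  haveI : Nonempty ↥(𝒰.X i) := inferInstanceAs (Nonempty ({i} : Set X))
  haveI : IsReduced (𝒰.X i) := isReduced_of_isOpenImmersion (𝒰.f i)
  haveI : LocallyOfFiniteType (𝒰.f i ≫ p) := inferInstance
  generalize 𝒰.f i ≫ p = q at *
  generalize 𝒰.X i = U at *
  haveI : IsIntegral U := (isIntegral_iff_irreducibleSpace_and_isReduced _).mpr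
    ⟨⟨inferInstance⟩, inferInstance⟩
  let L := Γ(U, ⊤)
  letI : Field L := (isField_of_isIntegral_of_subsingleton U).toField
  obtain ⟨φ, hφ⟩ := Spec.map_surjective (U.isoSpec.inv ≫ q)
  have hft : φ.hom.FiniteType := (HasRingHomProperty.Spec_iff (P := @LocallyOfFiniteType)).mp (by rw [hφ]; infer_instance)
  letI := φ.hom.toAlgebra
  haveI : Algebra.FiniteType K L := hft
  haveI : Module.Finite K L := finite_of_finite_type_of_isJacobsonRing K L
  have hb : Function.Bijective φ.hom := IsAlgClosed.algebraMap_bijective_of_isIntegral
  haveI : IsIso φ := (ConcreteCategory.isIso_iff_bijective φ).mpr hb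
  rw [show q = U.isoSpec.hom ≫ Spec.map φ by rw [hφ, Iso.hom_inv_id_assoc]]
  infer_instance

open CategoryTheory CategoryTheory.Limits AlgebraicGeometry in
/-- A morphism of schemes f : X → S which is locally of finite presentation is unramified (formally
unramified) if and only if all its geometric fibres are reduced with discrete underlying space: for
every algebraically closed field K and every S-point Spec K → S, the fibre product X ×_S Spec K is a
reduced scheme whose topological space is discrete. -/
theorem result {X S : Scheme.{u}} (f : X ⟶ S)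
    [LocallyOfFinitePresentation f] :
    FormallyUnramified f ↔
      ∀ (K : Type u) [Field K] [IsAlgClosed K] (s : Spec (CommRingCat.of K) ⟶ S),
        IsReduced (pullback f s) ∧ DiscreteTopology ↥(pullback f s) := by
  constructor
  · intro hf K _ _ s
    haveI : Etale (pullback.snd f s) := by
      haveI : FormallyUnramified (pullback.snd f s) := MorphismProperty.pullback_snd _ _ inferInstance
      haveI : Flat (pullback.snd f s) := Groth.Agent.S14352.flat_field _
      exact Etale.of_formallyUnramified_of_flat _
    haveI : Smooth (pullback.snd f s) := inferInstance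
    haveI : LocallyQuasiFinite (pullback.snd f s) := Groth.Agent.AlgSpLib.locallyQuasiFinite_of_formallyUnramified _
    constructor
    · haveI : IsReduced (Spec (CommRingCat.of K)) := inferInstance
      exact Groth.Agent.GrpSchLib.isReduced_of_smooth_field (pullback.snd f s)
    · have h := (pullback.snd f s).isDiscrete_preimage_singleton (IsLocalRing.closedPoint K)
      exact isDiscrete_univ_iff.1 ((Set.eq_univ_of_forall (s := (pullback.snd f s) ⁻¹' {IsLocalRing.closedPoint K})
        fun x => Subsingleton.elim (α := PrimeSpectrum K) _ _) ▸ h)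
  · intro h
    refine Groth.Agent.GrpSchLib.formallyUnramified_of_fibres f fun y => ?_
    let K := AlgebraicClosure (S.residueField y)
    let a : Spec (CommRingCat.of K) ⟶ Spec (S.residueField y) :=
      Spec.map (CommRingCat.ofHom (algebraMap (S.residueField y) K))
    obtain ⟨h1, h2⟩ := h K (a ≫ S.fromSpecResidueField y)
    haveI : Subsingleton ↥(Spec (S.residueField y)) := inferInstanceAs (Subsingleton (PrimeSpectrum _))
    haveI : Surjective a := ⟨fun z => ⟨IsLocalRing.closedPoint K, Subsingleton.elim _ _⟩⟩
    haveI : Flat a := (HasRingHomProperty.Spec_iff (P := @Flat)).2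
      (RingHom.flat_algebraMap_iff.2 inferInstance)
    haveI : QuasiCompact a := inferInstance
    let g := S.fromSpecResidueField y
    let l : pullback f (a ≫ g) ⟶ pullback f g :=
      pullback.lift (pullback.fst f (a ≫ g)) (pullback.snd f (a ≫ g) ≫ a) (by rw [pullback.condition, Category.assoc])
    have hl : IsPullback l (pullback.snd f (a ≫ g)) (pullback.snd f g) a := by
      refine IsPullback.of_right ?_ (pullback.lift_snd _ _ _) (IsPullback.of_hasPullback f g)
      rw [pullback.lift_fst]
      exact IsPullback.of_hasPullback f (a ≫ g)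
    haveI : Etale (pullback.snd f (a ≫ g)) :=
      Groth.Agent.S14352.etale_of_reduced_discrete (pullback.snd f (a ≫ g))
    exact MorphismProperty.of_isPullback_of_descendsAlong (P := @FormallyUnramified)
      (Q := @Surjective ⊓ @Flat ⊓ @QuasiCompact) hl.flip ⟨⟨‹_›, ‹_›⟩, ‹_›⟩ inferInstance

end Groth.Agent.S14352
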