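import Groth.Statements.S14353
import Mathlib

set_option autoImplicit false
universe u
open CategoryTheory CategoryTheory.Limits CategoryTheory.MonoidalCategory
open CAlg

namespace Groth.Agent.S14353

open scoped TensorProduct
open Limits CategoryTheory

theorem coord_ext {R : Type u} [CommRing R] {P : Type u} [AddCommGroup P] [Module R P] (b : ℕ)
    (z z' : P ⊗[R] (Fin b → R))
    (h : ∀ i : Fin b, TensorProduct.piScalarRight R R P (Fin b) z i = TensorProduct.piScalarRight R R P (Fin b) z' i) :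
    z = z' :=
  (TensorProduct.piScalarRight R R P (Fin b)).injective (funext h)

theorem coord_natural {R : Type u} [CommRing R] {P Q : Type u} [AddCommGroup P] [Module R P] [AddCommGroup Q]
    [Module R Q] (f : P →ₗ[R] Q) (b : ℕ) (z : P ⊗[R] (Fin b → R)) (i : Fin b) :
    TensorProduct.piScalarRight R R Q (Fin b) (f.rTensor (Fin b → R) z) i =
      f (TensorProduct.piScalarRight R R P (Fin b) z i) := by
  induction z with
  | zero => simp
  | tmul p c => simp [map_smul]
  | add x y hx hy => simp only [map_add, Pi.add_apply, hx, hy]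

theorem eq_of_forall {R : Type u} [CommRing R] (M : ℕᵒᵖ ⥤ ModuleCat.{u} R) (b : ℕ)
    (z z' : (limit M : ModuleCat.{u} R) ⊗[R] (Fin b → R))
    (h : ∀ j, (limit.π M j).hom.rTensor (Fin b → R) z = (limit.π M j).hom.rTensor (Fin b → R) z') : z = z' :=
  coord_ext b z z' fun i => Concrete.limit_ext _ _ _ fun j => by
    have h1 := congrArg (fun t => TensorProduct.piScalarRight R R (M.obj j) (Fin b) t i) (h j)
    simp only [coord_natural] at h1
    exact h1

theorem exists_of_compatible {R : Type u} [CommRing R] (M : ℕᵒᵖ ⥤ ModuleCat.{u} R) (b : ℕ)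
    (y : ∀ j, M.obj j ⊗[R] (Fin b → R))
    (hy : ∀ {i j : ℕᵒᵖ} (h : i ⟶ j), (M.map h).hom.rTensor (Fin b → R) (y i) = y j) :
    ∃ y0 : (limit M : ModuleCat.{u} R) ⊗[R] (Fin b → R), ∀ j, (limit.π M j).hom.rTensor (Fin b → R) y0 = y j := by
  let c : Fin b → Cone M := fun l =>
    { pt := ModuleCat.of R R
      π :=
        { app := fun j => ModuleCat.ofHom (LinearMap.toSpanSingleton R (M.obj j)
            (TensorProduct.piScalarRight R R (M.obj j) (Fin b) (y j) l))
          naturality := fun i j h => by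
            ext
            show (1 : R) • _ = (M.map h).hom ((1 : R) • _)
            rw [map_smul, ← coord_natural, hy h] } }
  let v : Fin b → (limit M : ModuleCat.{u} R) := fun l => (limit.lift M (c l)).hom (1 : R)
  refine ⟨(TensorProduct.piScalarRight R R _ (Fin b)).symm v, fun j => coord_ext b _ _ fun l => ?_⟩
  rw [coord_natural, LinearEquiv.apply_symm_apply]
  refine (ConcreteCategory.congr_hom (limit.lift_π (c l) j) (1 : R)).trans ?_
  exact one_smul R _

theorem exists_compatible {R : Type u} [CommRing R] (M : ℕᵒᵖ ⥤ ModuleCat.{u} R) [∀ n, IsArtinian R (M.obj n)]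
    (P Q : Type u) [AddCommGroup P] [Module R P] [Module.Finite R P] [AddCommGroup Q] [Module R Q]
    (f : ∀ j, M.obj j ⊗[R] P →ₗ[R] M.obj j ⊗[R] Q)
    (hf : ∀ {i j : ℕᵒᵖ} (h : i ⟶ j) z, (M.map h).hom.rTensor Q (f i z) = f j ((M.map h).hom.rTensor P z))
    (w : ∀ j, M.obj j ⊗[R] Q) (hw : ∀ {i j : ℕᵒᵖ} (h : i ⟶ j), (M.map h).hom.rTensor Q (w i) = w j)
    (hne : ∀ j, ∃ z, f j z = w j) :
    ∃ y : ∀ j, M.obj j ⊗[R] P, (∀ {i j : ℕᵒᵖ} (h : i ⟶ j), (M.map h).hom.rTensor P (y i) = y j) ∧
      ∀ j, f j (y j) = w j := by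
  classical
  haveI hart : ∀ j, IsArtinian R (M.obj j ⊗[R] P) := fun j => by
    obtain ⟨r, q, hq⟩ := Module.Finite.exists_fin' R P
    haveI : IsArtinian R (M.obj j ⊗[R] (Fin r → R)) :=
      isArtinian_of_linearEquiv (TensorProduct.piScalarRight R R (M.obj j) (Fin r)).symm
    exact isArtinian_of_surjective _ _ (LinearMap.lTensor_surjective (M.obj j) hq)
  let t : ∀ (n m : ℕ), n ≤ m → (M.obj ⟨m⟩ ⊗[R] P →ₗ[R] M.obj ⟨n⟩ ⊗[R] P) := fun n m h =>
    (M.map (homOfLE h).op).hom.rTensor P
  have ht : ∀ (n m l : ℕ) (h : n ≤ m) (h' : m ≤ l) z, t n m h (t m l h' z) = t n l (h.trans h') z := fun n m l h h' z => by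
    simp only [t]
    rw [← LinearMap.comp_apply, ← LinearMap.rTensor_comp, ← ModuleCat.hom_comp, ← M.map_comp]
    rfl
  let K : ∀ n, {m : ℕ // n ≤ m} → Submodule R (M.obj ⟨n⟩ ⊗[R] P) := fun n m =>
    (LinearMap.ker (f ⟨m.1⟩)).map (t n m.1 m.2)
  have hK : ∀ n, ∃ m0 : {m : ℕ // n ≤ m}, ∀ m : {m : ℕ // n ≤ m}, m0.1 ≤ m.1 → K n m = K n m0 := fun n => by
    obtain ⟨_, ⟨m0, rfl⟩, hmin⟩ := (wellFounded_lt (α := Submodule R (M.obj ⟨n⟩ ⊗[R] P))).has_min
      (Set.range (K n)) ⟨_, ⟨⟨n, le_rfl⟩, rfl⟩⟩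
    refine ⟨m0, fun m hm => ?_⟩
    have hle : K n m ≤ K n m0 := by
      rintro _ ⟨z, hz, rfl⟩
      refine ⟨t m0.1 m.1 hm z, ?_, ht _ _ _ _ _ _⟩
      rw [SetLike.mem_coe, LinearMap.mem_ker] at hz ⊢
      simp only [t]
      rw [← hf, hz, map_zero]
    exact eq_of_le_of_not_lt hle (hmin _ ⟨m, rfl⟩)
  choose m0 hm0 using hK
  -- the stable part of the solution sets
  let U : ∀ n, Set (M.obj ⟨n⟩ ⊗[R] P) := fun n => {a | ∃ z, f ⟨(m0 n).1⟩ z = w ⟨(m0 n).1⟩ ∧ t n _ (m0 n).2 z = a}
  have hstab : ∀ n m (h : n ≤ m), (m0 n).1 ≤ m → ∀ a ∈ U n, ∃ z, f ⟨m⟩ z = w ⟨m⟩ ∧ t n m h z = a := by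
    rintro n m h hm a ⟨z, hz, rfl⟩
    obtain ⟨z', hz'⟩ := hne ⟨m⟩
    have hd : t n _ (m0 n).2 (z - t _ m hm z') ∈ K n ⟨m, h⟩ := by
      rw [hm0 n ⟨m, h⟩ hm]
      refine ⟨_, ?_, rfl⟩
      rw [SetLike.mem_coe, LinearMap.mem_ker, map_sub, hz]
      simp only [t]
      rw [← hf, hz', hw, sub_self]
    obtain ⟨d, hd, hd'⟩ := hd
    refine ⟨z' + d, by rw [map_add, LinearMap.mem_ker.1 hd, add_zero, hz'], ?_⟩
    rw [map_add, hd', map_sub, ht]
    simp
  have hstep : ∀ n, ∀ a ∈ U n, ∃ a' ∈ U (n + 1), t n (n + 1) n.le_succ a' = a := by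
    intro n a ha
    let m := max (m0 n).1 (m0 (n + 1)).1
    obtain ⟨z, hz, rfl⟩ := hstab n m ((m0 n).2.trans (le_max_left _ _)) (le_max_left _ _) a ha
    refine ⟨t (n + 1) m ((m0 (n + 1)).2.trans (le_max_right _ _)) z, ⟨t _ m (le_max_right _ _) z, ?_, ht _ _ _ _ _ _⟩,
      ht _ _ _ _ _ _⟩
    simp only [t]
    rw [← hf, hz, hw]
  choose next hnext hnext' using hstep
  obtain ⟨z0, hz0⟩ := hne ⟨(m0 0).1⟩
  let seq : ∀ n, U n := fun n => Nat.rec ⟨_, z0, hz0, rfl⟩ (fun n a => ⟨next n a.1 a.2, hnext n a.1 a.2⟩) n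
  have hseq : ∀ n m (h : n ≤ m), t n m h (seq m).1 = (seq n).1 := by
    intro n m h
    induction m, h using Nat.le_induction with
    | base =>
      simp only [t]
      rw [show (homOfLE (le_refl n)).op = 𝟙 _ from rfl, M.map_id, ModuleCat.hom_id, LinearMap.rTensor_id]
      rfl
    | succ m h ih =>
      rw [← ht n m (m + 1) h m.le_succ]
      show t n m h (t m (m + 1) _ (next m (seq m).1 (seq m).2)) = _
      rw [hnext', ih]
  refine ⟨fun j => (seq j.unop).1, fun {i j} h => ?_, fun j => ?_⟩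
  · have : h = (homOfLE (leOfHom h.unop)).op := Subsingleton.elim _ _
    rw [this]
    exact hseq j.unop i.unop (leOfHom h.unop)
  · obtain ⟨z, hz, hz'⟩ := (seq j.unop).2
    show f j (seq j.unop).1 = w j
    rw [← hz']
    simp only [t]
    rw [← hf, hz, hw]

/-- For a commutative ring R, an inverse system (M_n)_{n ∈ ℕ} of R-modules of finite length and a
finitely presented R-module N, the canonical comparison map (lim_n M_n) ⊗_R N ⟶ lim_n (M_n ⊗_R N) is
an isomorphism. (The published statement takes N = R/I for a finitely generated ideal I; the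
argument covers every finitely presented N, which is the form stated here.) -/
theorem result (R : Type u) [CommRing R]
    (M : ℕᵒᵖ ⥤ ModuleCat.{u} R) (hM : ∀ n : ℕᵒᵖ, IsFiniteLength R (M.obj n))
    (N : Type u) [AddCommGroup N] [Module R N] [Module.FinitePresentation R N] :
    IsIso (limit.post M (tensorRight (ModuleCat.of R N))) := by
  classical
  haveI : ∀ n, IsArtinian R (M.obj n) := fun n => ((isFiniteLength_iff_isNoetherian_isArtinian).1 (hM n)).2
  obtain ⟨b, π, hπ⟩ := Module.Finite.exists_fin' R N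
  obtain ⟨a, g, hg⟩ : ∃ (a : ℕ) (g : (Fin a → R) →ₗ[R] (Fin b → R)), LinearMap.range g = LinearMap.ker π := by
    have hfg := Module.FinitePresentation.fg_ker π hπ
    haveI : Module.Finite R (LinearMap.ker π) := Module.Finite.iff_fg.2 hfg
    obtain ⟨a, g, hg⟩ := Module.Finite.exists_fin' R (LinearMap.ker π)
    exact ⟨a, (LinearMap.ker π).subtype ∘ₗ g, by rw [LinearMap.range_comp, LinearMap.range_eq_top.2 hg, Submodule.map_top, Submodule.range_subtype]⟩
  let pr : ∀ j : ℕᵒᵖ, (limit M : ModuleCat.{u} R) →ₗ[R] M.obj j := fun j => (limit.π M j).hom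
  have hex : ∀ (P : Type u) [AddCommGroup P] [Module R P], Function.Exact (g.lTensor P) (π.lTensor P) :=
    fun P _ _ => lTensor_exact P (LinearMap.exact_iff.2 hg.symm) hπ
  have hsurj : ∀ (P : Type u) [AddCommGroup P] [Module R P], Function.Surjective (π.lTensor P) :=
    fun P _ _ => LinearMap.lTensor_surjective P hπ
  have hmap : ∀ {i j : ℕᵒᵖ} (h : i ⟶ j) (z : (limit M : ModuleCat.{u} R)), (M.map h).hom (pr i z) = pr j z := fun h z => by
    exact ConcreteCategory.congr_hom (limit.w M h) z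
  have hpost : ∀ (j : ℕᵒᵖ) (x : (limit M : ModuleCat.{u} R) ⊗[R] N),
      (limit.π (M ⋙ tensorRight (ModuleCat.of R N)) j).hom ((limit.post M (tensorRight (ModuleCat.of R N))).hom x) =
        (pr j).rTensor N x := fun j x => by
    exact ConcreteCategory.congr_hom (limit.post_π M (tensorRight (ModuleCat.of R N)) j) x
  haveI hbij : Function.Bijective (limit.post M (tensorRight (ModuleCat.of R N))).hom := by
    constructor
    · rw [← LinearMap.ker_eq_bot, eq_bot_iff]
      intro x hx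
      obtain ⟨x0, rfl⟩ := hsurj (limit M : ModuleCat.{u} R) x
      have hx0 : ∀ j, π.lTensor (M.obj j) ((pr j).rTensor (Fin b → R) x0) = 0 := fun j => by
        have h1 := hpost j (π.lTensor _ x0)
        rw [LinearMap.mem_ker.1 hx, map_zero] at h1
        rw [← LinearMap.comp_apply, LinearMap.lTensor_comp_rTensor, ← LinearMap.rTensor_comp_lTensor]
        exact h1.symm
      obtain ⟨y, hy, hy'⟩ := exists_compatible M (Fin a → R) (Fin b → R)
        (fun j => g.lTensor (M.obj j)) (fun j z => by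
          rw [← LinearMap.comp_apply, ← LinearMap.comp_apply, LinearMap.lTensor_comp_rTensor,
            LinearMap.rTensor_comp_lTensor])
        (fun j => (pr j).rTensor (Fin b → R) x0) (fun {i j} h => by
          rw [← LinearMap.comp_apply, ← LinearMap.rTensor_comp]
          congr 2
          exact LinearMap.ext (hmap h))
        (fun j => (hex _ _).1 (hx0 j))
      obtain ⟨y0, hy0⟩ := exists_of_compatible M a y (fun h => hy h)
      have he : g.lTensor _ y0 = x0 := eq_of_forall M b _ _ fun j => by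
        rw [← hy' j, ← hy0 j, ← LinearMap.comp_apply, ← LinearMap.comp_apply, LinearMap.rTensor_comp_lTensor,
          LinearMap.lTensor_comp_rTensor]
      rw [← he]
      exact (Submodule.mem_bot R).2 ((hex _).apply_apply_eq_zero y0)
    · intro z
      let w : ∀ j, M.obj j ⊗[R] N := fun j => (limit.π (M ⋙ tensorRight (ModuleCat.of R N)) j).hom z
      have hw : ∀ {i j : ℕᵒᵖ} (h : i ⟶ j), (M.map h).hom.rTensor N (w i) = w j := fun {i j} h =>
        ConcreteCategory.congr_hom (limit.w (M ⋙ tensorRight (ModuleCat.of R N)) h) z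
      obtain ⟨y, hy, hy'⟩ := exists_compatible M (Fin b → R) N
        (fun j => π.lTensor (M.obj j)) (fun j z => by
          rw [← LinearMap.comp_apply, ← LinearMap.comp_apply, LinearMap.lTensor_comp_rTensor,
            LinearMap.rTensor_comp_lTensor]) w (fun h => hw h) (fun j => hsurj _ _)
      obtain ⟨y0, hy0⟩ := exists_of_compatible M b y (fun h => hy h)
      refine ⟨π.lTensor _ y0, Concrete.limit_ext _ _ _ fun j => ?_⟩
      show (limit.π (M ⋙ tensorRight (ModuleCat.of R N)) j).hom _ = w j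
      refine (hpost j (π.lTensor _ y0)).trans ?_
      rw [← hy' j, ← hy0 j, ← LinearMap.comp_apply, ← LinearMap.comp_apply, LinearMap.rTensor_comp_lTensor,
          LinearMap.lTensor_comp_rTensor]
  exact (ConcreteCategory.isIso_iff_bijective _).2 hbij

end Groth.Agent.S14353
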