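import Groth.Statements.S14373
import Mathlib
import Groth.Agent.BertiniAff.Bad
import Groth.Agent.S18464

set_option autoImplicit false
universe u
open Fano

namespace Groth.Agent.S14373

open MvPolynomial Module in
/-- parameters avoiding a system of equations with surjective coefficient matrix -/
theorem exists_avoid {k : Type u} [Field k] {P σ : Type u} [Fintype P] [Fintype σ]
    (hσ : Fintype.card P < Fintype.card σ) {W : Type u} [AddCommMonoid W] [Module k W] {m : ℕ} (bW : Basis (Fin m) k W)
    (Fl : W →ₗ[k] (σ → MvPolynomial P k))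
    (hspan : Submodule.span (MvPolynomial P k) (Set.range Fl) = ⊤) :
    ∃ g : MvPolynomial (Fin m) k, g ≠ 0 ∧ ∀ G : W, eval (bW.equivFun G) g ≠ 0 →
      ∀ y : P → k, ∃ s, eval y (Fl G s) ≠ 0 := by
  classical
  let M : Matrix σ (ULift.{u} (Fin m)) (MvPolynomial P k) := Matrix.of fun s i => Fl (bW i.down) s
  have hsurj : Function.Surjective M.mulVec := by
    rw [← Matrix.coe_mulVecLin, ← LinearMap.range_eq_top, Matrix.range_mulVecLin, ← top_le_iff, ← hspan,
      Submodule.span_le]
    rintro _ ⟨w, rfl⟩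
    rw [SetLike.mem_coe, ← bW.sum_repr w, map_sum]
    refine Submodule.sum_mem _ fun i _ => ?_
    rw [map_smul, ← algebraMap_smul (MvPolynomial P k)]
    exact Submodule.smul_mem _ _ (Submodule.subset_span ⟨ULift.up i, rfl⟩)
  obtain ⟨N, hN⟩ := Matrix.mulVec_surjective_iff_exists_right_inverse.1 hsurj
  have hdim : ringKrullDim (MvPolynomial P k) ≤ (Fintype.card P : ℕ) := by
    rw [MvPolynomial.ringKrullDim_of_isNoetherianRing, ringKrullDim_eq_zero_of_field, zero_add, Nat.card_eq_fintype_card]
  obtain ⟨g, hg0, hg⟩ := BertiniAff.exists_ne_zero_eval (k := k) _ hdim σ (ULift.{u} (Fin m)) hσ M N hN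
  refine ⟨rename ULift.down g, fun h => hg0 (rename_injective _ ULift.down_injective (h.trans (map_zero _).symm)),
    fun G hG y => ?_⟩
  by_contra! hall
  refine hG ?_
  rw [eval_rename]
  refine hg _ k (aeval y) (funext fun s => ?_)
  have h2 : eval y (Fl G s) = 0 := hall s
  rw [← bW.sum_repr G, map_sum, Finset.sum_apply, map_sum] at h2
  refine Eq.trans ?_ h2
  simp only [Matrix.mulVec, dotProduct, M]
  rw [← Equiv.ulift.symm.sum_comp]
  refine Finset.sum_congr rfl fun i _ => ?_
  simp [MvPolynomial.smul_eq_C_mul, mul_comm, MvPolynomial.aeval_eq_eval]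

open MvPolynomial in
theorem eval_smul_of_isHomogeneous {k : Type u} [Field k] {n m : ℕ} {p : MvPolynomial (Fin n) k} (hp : p.IsHomogeneous m)
    (t : k) (v : Fin n → k) : eval (fun x => t * v x) p = t ^ m * eval v p := by
  rw [eval_eq', eval_eq', Finset.mul_sum]
  refine Finset.sum_congr rfl fun e he => ?_
  have h := hp (mem_support_iff.1 he)
  simp only [mul_pow, Finset.prod_mul_distrib, Finset.prod_pow_eq_pow_sum]
  rw [show ∑ x, e x = m by simpa [Finsupp.weight_apply, Finsupp.sum_fintype] using h]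
  ring

open MvPolynomial Module in
/-- smoothness of a general form containing the span of the first vectors of a basis -/
theorem main {k : Type u} [Field k] [Infinite k] {n d : ℕ} (hd : 1 ≤ d) (b : Basis (Fin (n + 1)) k (Fin (n + 1) → k)) (u : ℕ)
    (hu : 2 * u ≤ n + 1) (U : Submodule k (Fin (n + 1) → k)) (hU : ∀ v, v ∈ U ↔ ∀ l : Fin (n + 1), u ≤ (l : ℕ) → b.equivFun v l = 0)
    (W : Submodule k (LefPen.Form n k (d + 1)))
    (hW : ∀ G : LefPen.Form n k (d + 1), G ∈ W ↔ ∀ v ∈ U, eval v G.1 = 0) :
    LefPen.IsGeneric k {G : ↥W | ∀ v : Fin (n + 1) → k, v ≠ 0 → eval v G.1.1 = 0 →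
      ∃ i : Fin (n + 1), eval v (pderiv i G.1.1) ≠ 0} := by
  classical
  haveI : Module.Finite k (LefPen.Form n k (d + 1)) := (S18464.finite_finrank_homogeneous k n (d + 1)).1
  haveI : Module.Free k W := Module.Free.of_divisionRing k W
  obtain ⟨m, bW⟩ : Σ' m, Basis (Fin m) k W := ⟨finrank k W, finBasis k W⟩
  let ξ : Fin (n + 1) → MvPolynomial (Fin (n + 1)) k := fun l => ∑ i, C (b.equivFun (Pi.single i 1) l) * X i
  have hξh : ∀ l, (ξ l).IsHomogeneous 1 := fun l =>
    IsHomogeneous.sum _ _ _ fun i _ => (isHomogeneous_X k i).C_mul _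
  have hξv : ∀ l v, eval v (ξ l) = b.equivFun v l := fun l v => by
    conv_rhs => rw [pi_eq_sum_univ' v, map_sum]
    simp [ξ, mul_comm]
  have hmemW : ∀ l : Fin (n + 1), u ≤ (l : ℕ) → ∀ (p : MvPolynomial (Fin (n + 1)) k) (hp : p.IsHomogeneous d),
      (⟨p * ξ l, hp.mul (hξh l)⟩ : LefPen.Form n k (d + 1)) ∈ W := fun l hl p hp =>
    (hW _).2 fun v hv => by
      show eval v (p * ξ l) = 0
      rw [map_mul, hξv, (hU v).1 hv l hl, mul_zero]
  let D : Fin (n + 1) → Derivation k (MvPolynomial (Fin (n + 1)) k) (MvPolynomial (Fin (n + 1)) k) :=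
    fun l => ∑ i, b l i • pderiv i
  have hD : ∀ l p, D l p = ∑ i, b l i • pderiv i p := fun l p => by
    rw [show ⇑(D l) = Derivation.coeFnAddMonoidHom (D l) from rfl, map_sum, Finset.sum_apply]
    rfl
  have hDξ : ∀ l l', D l (ξ l') = if l' = l then 1 else 0 := fun l l' => by
    rw [hD]
    have h1 : ∀ i, pderiv i (ξ l') = C (b.equivFun (Pi.single i 1) l') := fun i => by
      simp [ξ, Pi.single_apply, Finset.sum_ite_eq]
    simp only [h1, smul_eq_C_mul, ← map_mul, ← map_sum]
    have h2 : ∑ i, b l i * b.equivFun (Pi.single i 1) l' = b.equivFun (b l) l' := by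
      conv_rhs => rw [pi_eq_sum_univ' (b l), map_sum]
      simp
    rw [h2, Basis.equivFun_apply, Basis.repr_self, Finsupp.single_apply]
    rcases eq_or_ne l l' with rfl | hne
    · simp
    · simp [hne, Ne.symm hne]
  -- generic points of the charts
  have key : ∀ (P : Type u) (r : Fin (n + 1) → MvPolynomial P k) (l : Fin (n + 1)),
      aeval (fun i => ∑ a, r a * C (b a i)) (ξ l) = r l := fun P r l => by
    simp only [ξ, map_sum, map_mul, aeval_C, aeval_X, algebraMap_eq, Finset.mul_sum]
    rw [Finset.sum_comm]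
    have h2 : ∀ a, ∑ i, b a i * b.equivFun (Pi.single i 1) l = b.equivFun (b a) l := fun a => by
      conv_rhs => rw [pi_eq_sum_univ' (b a), map_sum]
      simp
    calc ∑ a, ∑ i, C (b.equivFun (Pi.single i 1) l) * (r a * C (b a i))
        = ∑ a, r a * C (∑ i, b a i * b.equivFun (Pi.single i 1) l) := by
          refine Finset.sum_congr rfl fun a _ => ?_
          rw [map_sum, Finset.mul_sum]
          refine Finset.sum_congr rfl fun i _ => ?_
          rw [map_mul]; ring
      _ = r l := by
          rw [Finset.sum_congr rfl fun a _ => by rw [h2 a]]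
          simp [Finsupp.single_apply]
  have hev : ∀ (P : Type u) (r : Fin (n + 1) → MvPolynomial P k) (y : P → k) (p : MvPolynomial (Fin (n + 1)) k),
      eval y (aeval (fun i => ∑ a, r a * C (b a i)) p) = eval (b.equivFun.symm fun a => eval y (r a)) p := by
    intro P r y p
    have h1 : (fun i => ∑ a, eval y (r a) * b a i) = b.equivFun.symm fun a => eval y (r a) := by
      funext i
      simp [Basis.equivFun_symm_apply, Finset.sum_apply]
    rw [← h1]
    induction p using MvPolynomial.induction_on with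
    | C a => simp
    | add p q hp hq => simp only [map_add, hp, hq]
    | mul_X p i hp => simp only [map_mul, aeval_X, hp, map_sum, eval_X, eval_C]
  -- points outside `U`
  have hA : ∀ l : {l : Fin (n + 1) // u ≤ (l : ℕ)}, ∃ g : MvPolynomial (Fin m) k, g ≠ 0 ∧ ∀ G : W,
      eval (bW.equivFun G) g ≠ 0 → ∀ v, b.equivFun v l.1 = 1 → eval v G.1.1 = 0 →
        ∃ a, eval v (D a G.1.1) ≠ 0 := by
    rintro ⟨l, hl⟩
    let P := ULift.{u} {i : Fin (n + 1) // i ≠ l}
    let r : Fin (n + 1) → MvPolynomial P k := fun a => if h : a = l then 1 else X ⟨⟨a, h⟩⟩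
    let ev : MvPolynomial (Fin (n + 1)) k →ₐ[k] MvPolynomial P k := aeval fun i => ∑ a, r a * C (b a i)
    have hevξ : ∀ a, ev (ξ a) = r a := key P r
    have hrl : r l = 1 := dif_pos rfl
    let Fl : W →ₗ[k] (Option P → MvPolynomial P k) :=
      { toFun := fun G o => o.elim (ev G.1.1) fun p => ev (D p.down.1 G.1.1)
        map_add' := fun G H => funext fun o => by cases o <;> simp
        map_smul' := fun c G => funext fun o => by cases o <;> simp }
    have hspan : Submodule.span (MvPolynomial P k) (Set.range Fl) = ⊤ := by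
      let S := Submodule.span (MvPolynomial P k) (Set.range Fl)
      have h0 : (Pi.single none 1 : Option P → MvPolynomial P k) ∈ S := by
        refine Submodule.subset_span ⟨⟨_, hmemW l hl (ξ l ^ d) (by simpa using (hξh l).pow d)⟩, funext fun o => ?_⟩
        rcases o with _ | ⟨⟨a, ha⟩⟩
        · simp [Fl, hevξ, hrl]
        · simp [Fl, hevξ, hrl, Derivation.leibniz, Derivation.leibniz_pow, hDξ, Ne.symm ha]
      have h1 : ∀ p : P, (Pi.single (some p) 1 : Option P → MvPolynomial P k) ∈ S := by
        rintro ⟨⟨a, ha⟩⟩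
        obtain ⟨e, rfl⟩ := Nat.exists_eq_add_of_le hd
        have hh : (ξ a * ξ l ^ e).IsHomogeneous (1 + e) := by
          simpa using (hξh a).mul ((hξh l).pow e)
        have hrw : (Pi.single (some ⟨⟨a, ha⟩⟩) 1 : Option P → MvPolynomial P k) =
            Fl ⟨_, hmemW l hl _ hh⟩ - r a • (Pi.single none 1 : Option P → MvPolynomial P k) := by
          funext o
          rcases o with _ | ⟨⟨c, hc⟩⟩
          · simp [Fl, hevξ, hrl]
          · by_cases hca : c = a
            · subst hca
              simp [Fl, hevξ, hrl, Derivation.leibniz, Derivation.leibniz_pow, hDξ, Ne.symm hc]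
            · simp [Fl, hevξ, hrl, Derivation.leibniz, Derivation.leibniz_pow, hDξ, Ne.symm hc, hca, Ne.symm hca, Pi.single_apply]
              exact fun h => hca (congrArg (fun z : ULift.{u} {i : Fin (n + 1) // i ≠ l} => z.down.1) h)
        show _ ∈ S
        rw [hrw]
        exact S.sub_mem (Submodule.subset_span ⟨_, rfl⟩) (S.smul_mem _ h0)
      rw [eq_top_iff]
      intro z _
      rw [← Finset.univ_sum_single z]
      refine S.sum_mem fun o _ => ?_
      rw [show Pi.single o (z o) = z o • (Pi.single o (1 : MvPolynomial P k) : Option P → MvPolynomial P k) by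
        rw [← Pi.single_smul, smul_eq_mul, mul_one]]
      rcases o with _ | o
      · exact S.smul_mem _ h0
      · exact S.smul_mem _ (h1 o)
    have hcard : Fintype.card P < Fintype.card (Option P) := by rw [Fintype.card_option]; exact Nat.lt_succ_self _
    obtain ⟨g, hg0, hg⟩ := exists_avoid (k := k) (P := P) (σ := Option P) (W := ↥W) hcard bW Fl hspan
    refine ⟨g, hg0, fun G hG v hvl hv0 => ?_⟩
    by_contra! hall
    obtain ⟨o, ho⟩ := hg G hG fun p => b.equivFun v p.down.1
    have hev' : ∀ p, eval (fun q : P => b.equivFun v q.down.1) (ev p) = eval v p := fun p => by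
      show eval _ (aeval _ p) = _
      rw [hev]
      refine congrArg (fun w => eval w p) ?_
      rw [LinearEquiv.symm_apply_eq]
      funext a
      by_cases h : a = l
      · subst h; simp [r]; exact hvl.symm
      · simp [r, h]
    rcases o with _ | p
    · exact ho ((hev' _).trans hv0)
    · exact ho ((hev' _).trans (hall _))
  -- points of `U`
  have hB : ∀ j : {j : Fin (n + 1) // (j : ℕ) < u}, ∃ g : MvPolynomial (Fin m) k, g ≠ 0 ∧ ∀ G : W,
      eval (bW.equivFun G) g ≠ 0 → ∀ v ∈ U, b.equivFun v j.1 = 1 → ∃ a, eval v (D a G.1.1) ≠ 0 := by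
    rintro ⟨j, hj⟩
    let P := ULift.{u} {i : Fin (n + 1) // (i : ℕ) < u ∧ i ≠ j}
    let σ := ULift.{u} {i : Fin (n + 1) // u ≤ (i : ℕ)}
    have hcard : Fintype.card P < Fintype.card σ := by
      have h1 : Fintype.card {i : Fin (n + 1) // (i : ℕ) < u ∧ i ≠ j} < Fintype.card {i : Fin (n + 1) // (i : ℕ) < u} :=
        Fintype.card_lt_of_injective_of_notMem (fun x => ⟨x.1, x.2.1⟩) (fun x y h => Subtype.ext (congrArg (fun z => z.1) h))
          (b := ⟨j, hj⟩) fun ⟨x, hx⟩ => x.2.2 (congrArg (fun z => z.1) hx)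
      have h2 : Fintype.card {i : Fin (n + 1) // (i : ℕ) < u} = u :=
        (Fintype.card_congr (Fin.castLEquiv (show u ≤ n + 1 by omega))).symm.trans (Fintype.card_fin u)
      have h3 : Fintype.card {i : Fin (n + 1) // u ≤ (i : ℕ)} = n + 1 - u := by
        have := Fintype.card_subtype_compl fun i : Fin (n + 1) => (i : ℕ) < u
        simp only [not_lt, Fintype.card_fin, h2] at this
        exact this
      simp only [P, σ, Fintype.card_ulift]
      omega
    let r : Fin (n + 1) → MvPolynomial P k := fun a =>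
      if a = j then 1 else if h : (a : ℕ) < u ∧ a ≠ j then X ⟨⟨a, h⟩⟩ else 0
    let ev : MvPolynomial (Fin (n + 1)) k →ₐ[k] MvPolynomial P k := aeval fun i => ∑ a, r a * C (b a i)
    have hevξ : ∀ a, ev (ξ a) = r a := key P r
    let Fl : W →ₗ[k] (σ → MvPolynomial P k) :=
      { toFun := fun G s => ev (D s.down.1 G.1.1)
        map_add' := fun G H => funext fun s => by simp
        map_smul' := fun c G => funext fun s => by simp }
    have hr : ∀ a : Fin (n + 1), u ≤ (a : ℕ) → r a = 0 := fun a ha => by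
      have h1 : a ≠ j := by rintro rfl; omega
      simp [r, h1, Nat.not_lt.2 ha]
    have hspan : Submodule.span (MvPolynomial P k) (Set.range Fl) = ⊤ := by
      let S := Submodule.span (MvPolynomial P k) (Set.range Fl)
      rw [eq_top_iff]
      intro z _
      rw [← Finset.univ_sum_single z]
      refine S.sum_mem fun s _ => ?_
      rw [show Pi.single s (z s) = z s • (Pi.single s (1 : MvPolynomial P k) : σ → MvPolynomial P k) by
        rw [← Pi.single_smul, smul_eq_mul, mul_one]]
      refine S.smul_mem _ (Submodule.subset_span ⟨⟨_, hmemW s.down.1 s.down.2 (ξ j ^ d) (by simpa using (hξh j).pow d)⟩,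
        funext fun s' => ?_⟩)
      have hne : j ≠ s'.down.1 := by
        intro h; have := s'.down.2; rw [← h] at this; omega
      have hrj : r j = 1 := if_pos rfl
      rcases eq_or_ne s' s with rfl | hss
      · simp [Fl, hevξ, Derivation.leibniz, Derivation.leibniz_pow, hDξ, hne, hrj]
      · have hss' : s.down.1 ≠ s'.down.1 := fun h => hss (ULift.ext _ _ (Subtype.ext h.symm))
        simp [Fl, hevξ, Derivation.leibniz, Derivation.leibniz_pow, hDξ, hne, hss, hss']
    obtain ⟨g, hg0, hg⟩ := exists_avoid hcard bW Fl hspan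
    refine ⟨g, hg0, fun G hG v hvU hvj => ?_⟩
    obtain ⟨s, hs⟩ := hg G hG fun p => b.equivFun v p.down.1
    refine ⟨s.down.1, fun h0 => hs (Eq.trans ?_ h0)⟩
    show eval _ (aeval _ _) = _
    rw [hev]
    refine congrArg (fun w => eval w _) ?_
    rw [LinearEquiv.symm_apply_eq]
    funext a
    by_cases h : a = j
    · subst h; simp [r]; exact hvj.symm
    · by_cases h' : (a : ℕ) < u
      · simp [r, h, h']
      · rw [hr a (not_lt.1 h'), map_zero]
        exact ((hU v).1 hvU a (not_lt.1 h')).symm
  choose gA hgA0 hgA using hA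
  choose gB hgB0 hgB using hB
  let g := (∏ l, gA l) * ∏ j, gB j
  have hg0 : g ≠ 0 := mul_ne_zero (Finset.prod_ne_zero_iff.2 fun l _ => hgA0 l) (Finset.prod_ne_zero_iff.2 fun l _ => hgB0 l)
  obtain ⟨c, hc⟩ : ∃ c, eval c g ≠ 0 := by
    by_contra! h
    exact hg0 (MvPolynomial.funext fun c => by rw [h, map_zero])
  refine ⟨fun G => eval (bW.equivFun G) g, ?_, ⟨bW.equivFun.symm c, show eval (bW.equivFun (bW.equivFun.symm c)) g ≠ 0 by rw [LinearEquiv.apply_symm_apply]; exact hc⟩, fun G hG v hv hv0 => ?_⟩
  · unfold LefPen.IsPolyFun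
    have h1 : (fun G : W => eval (bW.equivFun G) g) =
        aeval (fun (i : Fin m) (G : W) => bW.equivFun G i) g := by
      funext G
      rw [← MvPolynomial.aeval_eq_eval]
      exact (comp_aeval_apply (f := fun (i : Fin m) (G : W) => bW.equivFun G i) (Pi.evalAlgHom k (fun _ : W => k) G) g).symm
    rw [h1]
    have hr : Set.range (fun (i : Fin m) (G : W) => bW.equivFun G i) ⊆
        Set.range fun l : Module.Dual k W => (l : W → k) :=
      Set.range_subset_iff.2 fun i => ⟨(LinearMap.proj i).comp bW.equivFun.toLinearMap, rfl⟩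
    refine Algebra.adjoin_mono hr ?_
    rw [Algebra.adjoin_range_eq_range_aeval]
    exact ⟨g, rfl⟩
  by_contra! hall
  have hallD : ∀ (t : k) a, eval (t • v) (D a G.1.1) = 0 := fun t a => by
    rw [hD, map_sum]
    refine Finset.sum_eq_zero fun i _ => ?_
    have h2 : eval (fun x => t * v x) (pderiv i G.1.1) = 0 := by
      rw [eval_smul_of_isHomogeneous (IsHomogeneous.pderiv ((mem_homogeneousSubmodule _ _).1 G.1.2)), hall i, mul_zero]
    simp [smul_eq_C_mul, h2, show (t • v) = fun x => t * v x from rfl]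
  have hall0 : ∀ t : k, eval (t • v) G.1.1 = 0 := fun t => by
    rw [show (t • v) = fun x => t * v x from rfl, eval_smul_of_isHomogeneous ((mem_homogeneousSubmodule _ _).1 G.1.2), hv0, mul_zero]
  have hg1 : (∀ l, eval (bW.equivFun G) (gA l) ≠ 0) ∧ ∀ j, eval (bW.equivFun G) (gB j) ≠ 0 := by
    have h3 : eval (bW.equivFun G) g ≠ 0 := hG
    simp only [g, map_mul, map_prod, mul_ne_zero_iff, Finset.prod_ne_zero_iff, Finset.mem_univ, true_implies] at h3
    exact h3
  by_cases hvU : v ∈ U
  · obtain ⟨j, hj⟩ : ∃ j, b.equivFun v j ≠ 0 := Function.ne_iff.1 fun h => hv (b.equivFun.map_eq_zero_iff.1 h)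
    have hju : (j : ℕ) < u := by
      by_contra hle
      exact hj ((hU v).1 hvU j (not_lt.1 hle))
    obtain ⟨a, ha⟩ := hgB ⟨j, hju⟩ G (hg1.2 _) ((b.equivFun v j)⁻¹ • v) (U.smul_mem _ hvU) (by
      rw [map_smul]; exact inv_mul_cancel₀ hj)
    exact ha (hallD _ _)
  · rw [hU] at hvU
    push Not at hvU
    obtain ⟨l, hl, hl0⟩ := hvU
    obtain ⟨a, ha⟩ := hgA ⟨l, hl⟩ G (hg1.1 _) ((b.equivFun v l)⁻¹ • v) (by
      rw [map_smul]; exact inv_mul_cancel₀ hl0) (hall0 _)
    exact ha (hallD _ _)

/-- Over an algebraically closed field k of arbitrary characteristic, let d ≥ 2 and let U be a linear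
subspace of k^(n+1) with 2 · dim U ≤ n + 1 (an r-plane P(U) in P^n with r ≤ (n − 1)/2). Let W be the
linear space of degree-d forms in n + 1 variables vanishing on U (hypersurfaces of degree d
containing P(U)). Then a general member G of W defines a smooth hypersurface: for G outside the zero
set of some nonzero polynomial function on W, at every nonzero vector where G vanishes some partial
derivative of G is nonzero. -/
theorem result (k : Type u) [Field k] [IsAlgClosed k]
    (n d : ℕ) (hd : 2 ≤ d) (U : Submodule k (Fin (n + 1) → k)) (hU : 2 * Module.finrank k ↥U ≤ n + 1)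
    (W : Submodule k (LefPen.Form n k d)) (hW : ∀ G : LefPen.Form n k d, G ∈ W ↔ ∀ u ∈ U, MvPolynomial.eval u G.1 = 0) :
    LefPen.IsGeneric k {G : ↥W | ∀ v : Fin (n + 1) → k, v ≠ 0 → MvPolynomial.eval v G.1.1 = 0 →
      ∃ i : Fin (n + 1), MvPolynomial.eval v (MvPolynomial.pderiv i G.1.1) ≠ 0} := by
  classical
  obtain ⟨d, rfl⟩ : ∃ e, d = e + 1 := ⟨d - 1, by omega⟩
  obtain ⟨V, hV⟩ := U.exists_isCompl
  have hsum : Module.finrank k U + Module.finrank k V = n + 1 := by
    rw [Submodule.finrank_add_eq_of_isCompl hV, Module.finrank_fin_fun]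
  let e := Submodule.prodEquivOfIsCompl U V hV
  let bU := Module.finBasis k U
  let bV := Module.finBasis k V
  let b := ((bU.prod bV).map e).reindex (finSumFinEquiv.trans (finCongr hsum))
  refine main (d := d) (by omega) b (Module.finrank k U) hU U (fun v => ?_) W hW
  obtain ⟨⟨x, y⟩, rfl⟩ := e.surjective v
  have hco : ∀ q, b.equivFun (e (x, y)) ((finSumFinEquiv.trans (finCongr hsum)) q) =
      Sum.elim (bU.equivFun x) (bV.equivFun y) q := fun q => by
    simp only [b, Module.Basis.equivFun_apply, Module.Basis.repr_reindex, Finsupp.mapDomain_equiv_apply,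
      Equiv.symm_apply_apply, Module.Basis.map_repr, LinearEquiv.trans_apply, LinearEquiv.symm_apply_apply]
    rcases q with q | q <;> simp
  have hiff : e (x, y) ∈ U ↔ y = 0 := by
    rw [Submodule.coe_prodEquivOfIsCompl']
    refine ⟨fun h => ?_, fun h => by simp [h]⟩
    have : (y : Fin (n + 1) → k) ∈ U := by simpa using U.sub_mem h x.2
    exact Subtype.ext (Submodule.disjoint_def.1 hV.disjoint _ this y.2)
  rw [hiff]
  constructor
  · rintro rfl l hl
    obtain ⟨q, rfl⟩ := (finSumFinEquiv.trans (finCongr hsum)).surjective l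
    rw [hco]
    rcases q with q | q
    · have := q.isLt
      simp at hl
      omega
    · simp
  · intro h
    refine bV.equivFun.map_eq_zero_iff.1 (funext fun q => ?_)
    have := h ((finSumFinEquiv.trans (finCongr hsum)) (Sum.inr q)) (by simp)
    rw [hco] at this
    exact this

end Groth.Agent.S14373
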