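import Groth.Statements.S14374
import Groth.Agent.DiscForm.Main
-- import your own Groth.Agent.* helpers here

set_option autoImplicit false
set_option backward.isDefEq.respectTransparency false
set_option backward.isDefEq.respectTransparency.types false
set_option linter.style.haveILetI false
set_option maxHeartbeats 1000000
universe u
open Fano

namespace Groth.Agent.S14374
open Groth.Agent

/-- Over an algebraically closed field k of arbitrary characteristic, let n ≥ 1 and d ≥ 2, and call a
degree-d form G in n + 1 variables singular when there is a nonzero vector v with G(v) = 0 and all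
partial derivatives ∂G/∂x_i(v) = 0 (the hypersurface G = 0 in P^n has a singular point, or G = 0).
Then the singular forms are exactly the zero set of one irreducible polynomial function Δ on the
vector space of degree-d forms: the locus of singular hypersurfaces is an irreducible hypersurface
in the parameter space. (The published statement concerns the reduced hypersurfaces in the
projective space of degree-d forms, where the singular ones form an irreducible closed subset of
codimension one, and allows every positive degree; for d = 1 no hyperplane is singular, so this row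
assumes d ≥ 2, and it is stated on the affine space of all forms.) -/
theorem result (k : Type u) [Field k] [IsAlgClosed k]
    (n d : ℕ) (hn : 1 ≤ n) (hd : 2 ≤ d) :
    ∃ Δ : ↥(Algebra.adjoin k (Set.range (fun l : Module.Dual k (LefPen.Form n k d) => (l : LefPen.Form n k d → k)))),
      Irreducible Δ ∧ ∀ G : LefPen.Form n k d,
        (∃ v : Fin (n + 1) → k, v ≠ 0 ∧ MvPolynomial.eval v G.1 = 0 ∧
          ∀ i : Fin (n + 1), MvPolynomial.eval v (MvPolynomial.pderiv i G.1) = 0) ↔ Δ.1 G = 0 := by
  classical
  let V := LefPen.Form n k d
  let co : DiscForm.Mon n d → Module.Dual k V := fun e =>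
    (MvPolynomial.lcoeff k e.1).comp (CohB1.polyGrading n k d).subtype
  let mk : (DiscForm.Mon n d → k) → V := fun c =>
    ⟨DiscForm.form c, (MvPolynomial.mem_homogeneousSubmodule _ _).2 (DiscForm.form_isHomogeneous c)⟩
  let Ψ : MvPolynomial (DiscForm.Mon n d) k →ₐ[k] (V → k) := MvPolynomial.aeval fun e G => co e G
  have hΨ : ∀ f (G : V), Ψ f G = MvPolynomial.eval (fun e => co e G) f := fun f G => by
    have h : ((Pi.evalAlgHom k (fun _ : V => k) G).comp Ψ) = MvPolynomial.aeval (fun e => co e G) :=
      MvPolynomial.algHom_ext fun e => by simp [Ψ]
    exact (AlgHom.congr_fun h f).trans (by rw [MvPolynomial.aeval_eq_eval])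
  have hco : ∀ G : V, DiscForm.form (fun e => co e G) = G.1 := fun G =>
    DiscForm.form_coeff G.1 ((MvPolynomial.mem_homogeneousSubmodule _ _).1 G.2)
  have hinj : Function.Injective Ψ := fun f g h => MvPolynomial.funext fun c => by
    have h1 := congrFun h (mk c)
    rw [hΨ, hΨ] at h1
    have hc : (fun e => co e (mk c)) = c := funext fun e => DiscForm.coeff_form c e
    rwa [hc] at h1
  have hrange : Algebra.adjoin k (Set.range (fun l : Module.Dual k V => (l : V → k))) = Ψ.range := by
    rw [← Algebra.adjoin_range_eq_range_aeval]
    refine le_antisymm (Algebra.adjoin_le ?_) (Algebra.adjoin_mono ?_)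
    · rintro _ ⟨l, rfl⟩
      have hl : (fun G : V => l G) = ∑ e, l (mk (Pi.single e 1)) • fun G : V => co e G := by
        funext G
        have hG : G = ∑ e, co e G • mk (Pi.single e 1) := by
          apply Subtype.ext
          rw [Submodule.coe_sum]
          conv_lhs => rw [← hco G]
          refine Finset.sum_congr rfl fun e _ => ?_
          show _ = co e G • DiscForm.form (Pi.single e 1)
          rw [DiscForm.form, Finset.sum_eq_single e (fun b _ hb => by rw [Pi.single_eq_of_ne hb, map_zero]) (by simp),
            Pi.single_eq_same, MvPolynomial.smul_monomial, smul_eq_mul, mul_one]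
        conv_lhs => rw [hG, map_sum]
        simp [mul_comm]
      show (fun G : V => l G) ∈ _
      rw [hl]
      exact Subalgebra.sum_mem _ fun e _ => Subalgebra.smul_mem _ (Algebra.subset_adjoin (Set.mem_range_self e)) _
    · rintro _ ⟨e, rfl⟩
      exact ⟨co e, rfl⟩
  obtain ⟨Δ, hirr, hΔ⟩ := DiscForm.exists_discriminant (k := k) hn hd
  let eq : MvPolynomial (DiscForm.Mon n d) k ≃ₐ[k]
      ↥(Algebra.adjoin k (Set.range (fun l : Module.Dual k V => (l : V → k)))) :=
    (AlgEquiv.ofInjective Ψ hinj).trans (Subalgebra.equivOfEq _ _ hrange.symm)
  refine ⟨eq Δ, (MulEquiv.irreducible_iff eq).2 hirr, fun G => ?_⟩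
  have hval : (eq Δ).1 G = MvPolynomial.eval (fun e => co e G) Δ := hΨ Δ G
  rw [hval, ← hΔ, hco]
  exact Iff.rfl

end Groth.Agent.S14374
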