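import Groth.Statements.S14383
import Mathlib.RingTheory.Etale.Kaehler
import Mathlib.RingTheory.Flat.LocallyFree
import Mathlib.RingTheory.Smooth.StandardSmoothCotangent

set_option autoImplicit false
open scoped TensorProduct
open AlgebraicGeometry
universe u
open CAlg

namespace Groth.Agent.S14383

open TensorProduct
open scoped Pointwise

theorem rank_of_locally (K B : Type u) [CommRing K] [CommRing B] [Algebra K B] (d : ℕ)
    (h : SmoothOfRelativeDimension d (Spec.map (CommRingCat.ofHom (algebraMap K B)))) :
    Algebra.Smooth K B ∧ ∀ P : PrimeSpectrum B, Module.rankAtStalk (Ω[B⁄K]) P = d := by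
  haveI hsm : Smooth (Spec.map (CommRingCat.ofHom (algebraMap K B))) := SmoothOfRelativeDimension.smooth d _
  have h1 : Algebra.Smooth K B := by
    rw [HasRingHomProperty.Spec_iff (P := @Smooth)] at hsm
    rwa [← RingHom.smooth_algebraMap]
  refine ⟨h1, fun P => ?_⟩
  rw [HasRingHomProperty.Spec_iff (P := @SmoothOfRelativeDimension d)] at h
  obtain ⟨s, hs, ht⟩ := h
  obtain ⟨t, hts, htP⟩ : ∃ t ∈ s, t ∉ P.asIdeal := by
    by_contra hc
    push Not at hc
    exact P.isPrime.ne_top (top_le_iff.1 (hs ▸ Ideal.span_le.2 hc))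
  have hst := ht t hts
  rw [show (CommRingCat.ofHom (algebraMap K B)).hom = algebraMap K B from rfl,
    ← IsScalarTower.algebraMap_eq K B (Localization.Away t), RingHom.isStandardSmoothOfRelativeDimension_algebraMap] at hst
  obtain ⟨Q, hQ⟩ : ∃ Q : PrimeSpectrum (Localization.Away t), Q.comap (algebraMap B (Localization.Away t)) = P := by
    have h2 : P ∈ Set.range (PrimeSpectrum.comap (algebraMap B (Localization.Away t))) := by
      rw [PrimeSpectrum.localization_away_comap_range _ t]
      exact htP
    exact h2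
  haveI : Algebra.FormallyEtale B (Localization.Away t) := Algebra.FormallyEtale.of_isLocalization (Submonoid.powers t)
  haveI : Nontrivial (Localization.Away t) := Q.nontrivial
  haveI := hst.isStandardSmooth
  rw [← hQ, ← Module.rankAtStalk_baseChange (S := Localization.Away t) Q,
    Module.rankAtStalk_eq_of_equiv (KaehlerDifferential.tensorKaehlerEquivOfFormallyEtale K B (Localization.Away t)),
    Module.rankAtStalk_eq_finrank_of_free]
  show Module.finrank _ _ = d
  rw [Module.finrank, Algebra.IsStandardSmoothOfRelativeDimension.rank_kaehlerDifferential d]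
  simp

/-- rank over a formally etale base, after a formally etale extension -/
theorem rank_transfer (V K B B' : Type u) [CommRing V] [CommRing K] [Algebra V K] [Algebra.FormallyEtale V K]
    [CommRing B] [Algebra V B] [Algebra K B] [IsScalarTower V K B] [Algebra.Smooth K B] (d : ℕ)
    (hr : ∀ P : PrimeSpectrum B, Module.rankAtStalk (Ω[B⁄K]) P = d)
    [CommRing B'] [Algebra V B'] [Algebra B B'] [IsScalarTower V B B'] [Algebra.FormallyEtale B B']
    (P : PrimeSpectrum B') : Module.rankAtStalk (Ω[B'⁄V]) P = d := by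
  have hb : Function.Bijective (KaehlerDifferential.map V K B B) := by
    refine ⟨?_, KaehlerDifferential.map_surjective V K B⟩
    rw [injective_iff_map_eq_zero]
    intro x hx
    obtain ⟨y, rfl⟩ := (KaehlerDifferential.exact_mapBaseChange_map V K B x).1 hx
    rw [Subsingleton.elim y 0, map_zero]
  haveI : Module.Projective B (Ω[B⁄V]) := Module.Projective.of_equiv (LinearEquiv.ofBijective _ hb).symm
  haveI : Module.Finite B (Ω[B⁄V]) := Module.Finite.equiv (LinearEquiv.ofBijective _ hb).symm
  rw [← Module.rankAtStalk_eq_of_equiv (KaehlerDifferential.tensorKaehlerEquivOfFormallyEtale V B B'),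
    Module.rankAtStalk_baseChange, Module.rankAtStalk_eq_of_equiv (LinearEquiv.ofBijective _ hb), hr]

theorem etale_away (V : Type u) [CommRing V] [IsDomain V] [IsDiscreteValuationRing V] (ϖ : V) (hϖ : Irreducible ϖ)
    (A : Type u) [CommRing A] [Algebra V A] [Algebra.FiniteType V A]
    (R : Type u) [CommRing R] [Algebra V R] [Algebra.FiniteType V R] [Algebra A R] [IsScalarTower V A R] (d : ℕ)
    (hsA : SmoothOfRelativeDimension d
        (Spec.map (CommRingCat.ofHom (algebraMap (FractionRing V) (FractionRing V ⊗[V] A)))))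
    (hsR : SmoothOfRelativeDimension d
        (Spec.map (CommRingCat.ofHom (algebraMap (FractionRing V) (FractionRing V ⊗[V] R)))))
    (a : R) (v : V) (hv : v ≠ 0) (hkill : ∀ ω : Ω[R⁄A], (a * algebraMap V R v) • ω = 0) :
    Algebra.Etale A (Localization.Away (a * algebraMap V R ϖ)) := by
  classical
  obtain ⟨hSA, hrA⟩ := rank_of_locally _ _ d hsA
  obtain ⟨hSR, hrR⟩ := rank_of_locally _ _ d hsR
  let K := FractionRing V
  let R' := Localization.Away (a * algebraMap V R ϖ)
  haveI : Algebra.FormallyEtale V K := Algebra.FormallyEtale.of_isLocalization (nonZeroDivisors V)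
  haveI : Algebra.FormallyEtale R R' := Algebra.FormallyEtale.of_isLocalization (Submonoid.powers (a * algebraMap V R ϖ))
  have hau : IsUnit (algebraMap R R' a) ∧ IsUnit (algebraMap V R' ϖ) := by
    have h1 : IsUnit (algebraMap R R' (a * algebraMap V R ϖ)) := IsLocalization.Away.algebraMap_isUnit _
    rwa [map_mul, ← IsScalarTower.algebraMap_apply, IsUnit.mul_iff] at h1
  have hun : ∀ z : V, z ≠ 0 → IsUnit (algebraMap V R' z) := fun z hz => by
    obtain ⟨k, u, rfl⟩ := IsDiscreteValuationRing.eq_unit_mul_pow_irreducible hz hϖ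
    rw [map_mul, map_pow]
    exact (u.isUnit.map _).mul (hau.2.pow k)
  let gK : K →ₐ[V] R' := IsLocalization.liftAlgHom (M := nonZeroDivisors V) (f := Algebra.ofId V R')
    fun z => hun z.1 (nonZeroDivisors.ne_zero z.2)
  let fR : R ⊗[V] K →ₐ[R] R' := Algebra.TensorProduct.lift (Algebra.ofId R R') gK fun x y => Commute.all _ _
  let fA : A ⊗[V] K →ₐ[A] R' := Algebra.TensorProduct.lift (Algebra.ofId A R') gK fun x y => Commute.all _ _
  letI : Algebra (R ⊗[V] K) R' := fR.toRingHom.toAlgebra
  letI : Algebra (A ⊗[V] K) R' := fA.toRingHom.toAlgebra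
  haveI : IsScalarTower R (R ⊗[V] K) R' := IsScalarTower.of_algebraMap_eq fun x => (fR.commutes x).symm
  haveI : IsScalarTower A (A ⊗[V] K) R' := IsScalarTower.of_algebraMap_eq fun x => (fA.commutes x).symm
  haveI : IsScalarTower V (R ⊗[V] K) R' := IsScalarTower.of_algebraMap_eq fun x =>
    ((fR.restrictScalars V).commutes x).symm
  haveI : IsScalarTower V (A ⊗[V] K) R' := IsScalarTower.of_algebraMap_eq fun x =>
    ((fA.restrictScalars V).commutes x).symm
  haveI : Algebra.FormallyEtale R (R ⊗[V] K) := inferInstance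
  haveI : Algebra.FormallyEtale (R ⊗[V] K) R' := Algebra.FormallyEtale.of_restrictScalars (R := R)
  -- transfer from `K ⊗ -`
  letI : Algebra (FractionRing V ⊗[V] R) R' :=
    ((algebraMap (R ⊗[V] K) R').comp (Algebra.TensorProduct.comm V K R).toRingHom).toAlgebra
  haveI : IsScalarTower V (FractionRing V ⊗[V] R) R' := IsScalarTower.of_algebraMap_eq (R := V)
      (S := FractionRing V ⊗[V] R) (A := R') fun x => by
    show algebraMap V R' x = algebraMap (R ⊗[V] K) R' (Algebra.TensorProduct.comm V K R (algebraMap V _ x))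
    rw [AlgEquiv.commutes, ← IsScalarTower.algebraMap_apply]
  haveI : Algebra.FormallyEtale (FractionRing V ⊗[V] R) R' := by
    letI : Algebra (FractionRing V ⊗[V] R) (R ⊗[V] K) := (Algebra.TensorProduct.comm V K R).toRingHom.toAlgebra
    haveI : IsScalarTower (FractionRing V ⊗[V] R) (R ⊗[V] K) R' := IsScalarTower.of_algebraMap_eq fun _ => rfl
    haveI : Algebra.FormallyEtale (FractionRing V ⊗[V] R) (R ⊗[V] K) := Algebra.FormallyEtale.of_equiv
      (AlgEquiv.ofBijective (Algebra.ofId (FractionRing V ⊗[V] R) (R ⊗[V] K)) (Algebra.TensorProduct.comm V K R).bijective)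
    exact Algebra.FormallyEtale.comp _ (R ⊗[V] K) R'
  haveI : Algebra.FormallySmooth V R' := by
    haveI : Algebra.FormallySmooth V (FractionRing V ⊗[V] R) := Algebra.FormallySmooth.comp V K _
    exact Algebra.FormallySmooth.comp V (FractionRing V ⊗[V] R) R'
  letI : Algebra (FractionRing V ⊗[V] A) (A ⊗[V] K) := (Algebra.TensorProduct.comm V K A).toRingHom.toAlgebra
  haveI : IsScalarTower V (FractionRing V ⊗[V] A) (A ⊗[V] K) := IsScalarTower.of_algebraMap_eq (R := V)
    (S := FractionRing V ⊗[V] A) (A := A ⊗[V] K) fun x =>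
    ((Algebra.TensorProduct.comm V K A).commutes x).symm
  haveI : Algebra.FormallyEtale (FractionRing V ⊗[V] A) (A ⊗[V] K) := Algebra.FormallyEtale.of_equiv
    (AlgEquiv.ofBijective (Algebra.ofId (FractionRing V ⊗[V] A) (A ⊗[V] K)) (Algebra.TensorProduct.comm V K A).bijective)
  haveI : Algebra.FormallySmooth V (A ⊗[V] K) := by
    haveI : Algebra.FormallySmooth V (FractionRing V ⊗[V] A) := Algebra.FormallySmooth.comp V K _
    exact Algebra.FormallySmooth.comp V (FractionRing V ⊗[V] A) _
  -- unramified
  haveI hzero : Subsingleton (Ω[R'⁄A]) := by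
    refine ⟨fun x y => ?_⟩
    suffices h : ∀ x : Ω[R'⁄A], x = 0 by rw [h x, h y]
    intro x
    obtain ⟨⟨ω, s⟩, hx⟩ := IsLocalizedModule.surj (Submonoid.powers (a * algebraMap V R ϖ))
      (KaehlerDifferential.map A A R R') x
    have hc : IsUnit (algebraMap R R' (a * algebraMap V R v * s)) := by
      rw [map_mul, map_mul, ← IsScalarTower.algebraMap_apply]
      exact (hau.1.mul (hun v hv)).mul (IsLocalization.map_units R' s)
    rw [← hc.smul_eq_zero, algebraMap_smul, mul_smul, ← Submonoid.smul_def, hx, ← map_smul, hkill, map_zero]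
  haveI : Algebra.FormallyUnramified A R' := ⟨hzero⟩
  haveI : Algebra.FormallyUnramified (A ⊗[V] K) R' := Algebra.FormallyUnramified.of_restrictScalars A _ _
  haveI : Algebra.EssFiniteType V K := Algebra.EssFiniteType.of_isLocalization K (nonZeroDivisors V)
  haveI : Algebra.EssFiniteType V (A ⊗[V] K) := Algebra.EssFiniteType.comp V A (A ⊗[V] K)
  haveI : Algebra.EssFiniteType V R' := Algebra.EssFiniteType.comp V R R'
  haveI : Algebra.EssFiniteType (A ⊗[V] K) R' := Algebra.EssFiniteType.of_comp V _ _
  have hsurj : Function.Surjective (KaehlerDifferential.mapBaseChange V (A ⊗[V] K) R') := fun x =>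
    (KaehlerDifferential.exact_mapBaseChange_map V (A ⊗[V] K) R' x).1 (Subsingleton.elim _ _)
  have hbij : Function.Bijective (KaehlerDifferential.mapBaseChange V (A ⊗[V] K) R') :=
    Module.bijective_of_surjective_of_rankAtStalk_eq hsurj fun m _ => by
      rw [Module.rankAtStalk_baseChange, rank_transfer V K (FractionRing V ⊗[V] A) (A ⊗[V] K) d hrA,
        rank_transfer V K (FractionRing V ⊗[V] R) R' d hrR]
  haveI : Algebra.FormallyEtale (A ⊗[V] K) R' := by
    refine ⟨inferInstance, ⟨fun x y => ?_⟩⟩
    suffices h : ∀ x : Algebra.H1Cotangent (A ⊗[V] K) R', x = 0 by rw [h x, h y]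
    intro x
    have hδ : Algebra.H1Cotangent.δ V (A ⊗[V] K) R' x = 0 := hbij.1 (by
      rw [(Algebra.H1Cotangent.exact_δ_mapBaseChange V (A ⊗[V] K) R').apply_apply_eq_zero x, map_zero])
    obtain ⟨y, rfl⟩ := (Algebra.H1Cotangent.exact_map_δ V (A ⊗[V] K) R' x).1 hδ
    rw [Subsingleton.elim y 0, map_zero]
  haveI : Algebra.FormallyEtale A (A ⊗[V] K) := inferInstance
  haveI : IsNoetherianRing A := Algebra.FiniteType.isNoetherianRing V A
  haveI : Algebra.FiniteType A R := Algebra.FiniteType.of_restrictScalars_finiteType V A R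
  haveI : Algebra.FiniteType R R' := inferInstance
  haveI : Algebra.FinitePresentation A R' :=
    Algebra.FinitePresentation.of_finiteType.1 (Algebra.FiniteType.trans (R := A) (S := R) inferInstance inferInstance)
  exact { formallyEtale := Algebra.FormallyEtale.comp A (A ⊗[V] K) R' }

/-- Let V be a discrete valuation ring of characteristic zero with uniformizer ϖ, whose residue field k
is perfect of characteristic p > 0, and let A → R be a homomorphism of V-algebras of finite type,
viewed as a morphism f : Spec R → Spec A of schemes of finite type over Spec V. Say f is η-étale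
when there is an open neighbourhood of the closed fibre of Spec R on whose generic fibre f is étale;
for affine Spec R this means: some a ∈ R with (a) + (ϖ) = R has R[1/(aϖ)] étale over A. First: if f
is η-étale then for some n ≥ 0 the submodule p^n Ω_{R/A} of the module of differentials is contained
in ϖ p^n Ω_{R/A} (that is, p^n Ω_{R/A} vanishes along the closed fibre). Conversely: if the generic
fibres Spec(K ⊗_V A) and Spec(K ⊗_V R) are both smooth over K of the same relative dimension d, K
the fraction field of V, then such an n forces f to be η-étale. (The published statement is for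
arbitrary schemes X → Y of finite type over V and also lists an intermediate equivalent condition,
that the restriction of p^n Ω_{X/Y} to the closed fibre as an abelian sheaf vanishes for some n;
this row is the case of affine schemes and states the other two conditions.) -/
theorem result (V : Type u) [CommRing V] [IsDomain V] [IsDiscreteValuationRing V] [CharZero V]
    (ϖ : V) (hϖ : Irreducible ϖ) (p : ℕ) [Fact p.Prime] [CharP (IsLocalRing.ResidueField V) p]
    [PerfectField (IsLocalRing.ResidueField V)]
    (A : Type u) [CommRing A] [Algebra V A] [Algebra.FiniteType V A]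
    (R : Type u) [CommRing R] [Algebra V R] [Algebra.FiniteType V R] [Algebra A R] [IsScalarTower V A R] :
    ((∃ a : R, Ideal.span {a} ⊔ Ideal.span {algebraMap V R ϖ} = ⊤ ∧
        ((algebraMap R (Localization.Away (a * algebraMap V R ϖ))).comp (algebraMap A R)).Etale) →
      ∃ n : ℕ, Ideal.span {((p : R)) ^ n} • (⊤ : Submodule R (Ω[R⁄A])) ≤
        Ideal.span {algebraMap V R ϖ * (p : R) ^ n} • (⊤ : Submodule R (Ω[R⁄A]))) ∧
    (∀ d : ℕ, SmoothOfRelativeDimension d
        (Spec.map (CommRingCat.ofHom (algebraMap (FractionRing V) (FractionRing V ⊗[V] A)))) →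
      SmoothOfRelativeDimension d
        (Spec.map (CommRingCat.ofHom (algebraMap (FractionRing V) (FractionRing V ⊗[V] R)))) →
      (∃ n : ℕ, Ideal.span {((p : R)) ^ n} • (⊤ : Submodule R (Ω[R⁄A])) ≤
        Ideal.span {algebraMap V R ϖ * (p : R) ^ n} • (⊤ : Submodule R (Ω[R⁄A]))) →
      ∃ a : R, Ideal.span {a} ⊔ Ideal.span {algebraMap V R ϖ} = ⊤ ∧
        ((algebraMap R (Localization.Away (a * algebraMap V R ϖ))).comp (algebraMap A R)).Etale) := by
  haveI : Algebra.FiniteType A R := Algebra.FiniteType.of_restrictScalars_finiteType V A R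
  obtain ⟨w, hw⟩ : ∃ w : V, (p : V) = ϖ * w := by
    have h1 : (p : V) ∈ IsLocalRing.maximalIdeal V := by
      rw [← IsLocalRing.residue_eq_zero_iff, map_natCast, CharP.cast_eq_zero]
    rw [hϖ.maximalIdeal_eq, Ideal.mem_span_singleton] at h1
    exact h1
  have hp0 : (p : V) ≠ 0 := Nat.cast_ne_zero.2 (Nat.Prime.ne_zero Fact.out)
  refine ⟨?_, ?_⟩
  · rintro ⟨a, ha, het⟩
    rw [← IsScalarTower.algebraMap_eq, RingHom.etale_algebraMap] at het
    have hkill : ∀ ω : Ω[R⁄A], ∃ N : ℕ, (a * algebraMap V R ϖ) ^ N • ω = 0 := fun ω => by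
      obtain ⟨⟨_, N, rfl⟩, hN⟩ := (IsLocalizedModule.eq_zero_iff (Submonoid.powers (a * algebraMap V R ϖ))
        (KaehlerDifferential.map A A R (Localization.Away (a * algebraMap V R ϖ)))).1 (Subsingleton.elim (KaehlerDifferential.map A A R _ ω) 0)
      exact ⟨N, hN⟩
    choose N hN using hkill
    obtain ⟨G, hG⟩ := (Module.Finite.fg_top : (⊤ : Submodule R (Ω[R⁄A])).FG)
    let n := G.sup N
    have hn : ∀ ω : Ω[R⁄A], (a ^ n * (p : R) ^ n) • ω = 0 := fun ω => by
      have hω : ω ∈ Submodule.span R (G : Set (Ω[R⁄A])) := hG ▸ Submodule.mem_top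
      induction hω using Submodule.span_induction with
      | mem x hx =>
        have h1 := Nat.sub_add_cancel (Finset.le_sup (f := N) hx : N x ≤ n)
        have h2 : a ^ n * (p : R) ^ n = (algebraMap V R w ^ n * (a * algebraMap V R ϖ) ^ (n - N x)) * (a * algebraMap V R ϖ) ^ N x := by
          rw [mul_assoc, ← pow_add, h1, show (p : R) = algebraMap V R ϖ * algebraMap V R w by
            rw [← map_mul, ← hw, map_natCast]]
          ring
        rw [h2, mul_smul, hN, smul_zero]
      | zero => rw [smul_zero]
      | add x y _ _ hx hy => rw [smul_add, hx, hy, add_zero]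
      | smul r x _ hx => rw [smul_comm, hx, smul_zero]
    refine ⟨n, ?_⟩
    rw [Submodule.ideal_span_singleton_smul, Submodule.ideal_span_singleton_smul]
    intro x hx
    obtain ⟨ω, -, rfl⟩ := Submodule.mem_smul_pointwise_iff_exists _ _ _ |>.1 hx
    obtain ⟨u, v, huv⟩ : ∃ u v, u * a + v * algebraMap V R ϖ = 1 := by
      have h1 : (1 : R) ∈ Ideal.span {a} ⊔ Ideal.span {algebraMap V R ϖ} := ha ▸ Submodule.mem_top
      rw [← Ideal.span_union, Set.singleton_union, Ideal.mem_span_pair] at h1
      exact h1
    obtain ⟨c, hc⟩ : ∃ c, (1 : R) = u ^ n * a ^ n + c * algebraMap V R ϖ := by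
      obtain ⟨c, hc⟩ := sub_dvd_pow_sub_pow (1 : R) (u * a) n
      refine ⟨c * v, ?_⟩
      rw [one_pow, mul_pow, show (1 : R) - u * a = v * algebraMap V R ϖ by rw [← huv]; ring] at hc
      linear_combination hc
    refine Submodule.mem_smul_pointwise_iff_exists _ _ _ |>.2 ⟨c • ω, trivial, ?_⟩
    rw [smul_smul, show algebraMap V R ϖ * (p : R) ^ n * c = (p : R) ^ n - u ^ n * (a ^ n * (p : R) ^ n) by
      linear_combination (-(p : R) ^ n) * hc, sub_smul, mul_smul, hn, smul_zero, sub_zero]
  · intro d hsA hsR ⟨n, hn⟩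
    rw [Submodule.ideal_span_singleton_smul, Submodule.ideal_span_singleton_smul] at hn
    -- Nakayama
    obtain ⟨a, ha1, ha2⟩ := Submodule.exists_sub_one_mem_and_smul_eq_zero_of_fg_of_le_smul
      (Ideal.span {algebraMap V R ϖ}) (((p : R) ^ n) • (⊤ : Submodule R (Ω[R⁄A])))
      (Submodule.FG.map _ Module.Finite.fg_top)
      (le_trans hn (by rw [mul_smul, ← Submodule.ideal_span_singleton_smul]))
    refine ⟨a, ?_, ?_⟩
    · rw [Ideal.eq_top_iff_one, show (1 : R) = a - (a - 1) by ring]
      exact sub_mem (Ideal.mem_sup_left (Ideal.mem_span_singleton_self a)) (Ideal.mem_sup_right ha1)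
    rw [← IsScalarTower.algebraMap_eq, RingHom.etale_algebraMap]
    exact etale_away V ϖ hϖ A R d hsA hsR a ((p : V) ^ n) (pow_ne_zero _ hp0) fun ω => by
      rw [map_pow, map_natCast, mul_smul]
      exact ha2 _ (Submodule.smul_mem_pointwise_smul ω _ ⊤ trivial)

end Groth.Agent.S14383
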