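import Groth.Statements.S14386
import Groth.Agent.H1Node.Main
import Groth.Agent.H1Node.Unit
import Groth.Agent.H1Node.Point

set_option autoImplicit false
universe u
open CAlg

namespace Groth.Agent.S14386

/-- Let V be a discrete valuation ring of characteristic zero with uniformizer ϖ and perfect residue
field k, let Q = V[x, y]/(xy − ϖ) be the coordinate ring of the standard semistable node over V and
P its closed point x = y = 0 of the closed fibre, let h ∈ Q with h ∉ (x, y), so that B = Q[1/h] is
the ring of an open neighbourhood of P, and let f ∈ B define a morphism to the affine line over V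
which is étale on the generic fibre: B[1/ϖ] is étale over V[T] via T ↦ f. Then df vanishes
identically on one of the two components x = 0, y = 0 of the closed fibre of Spec B: the
differential of the image of f in Ω_{(B/xB)/V} is zero or the differential of the image of f in
Ω_{(B/yB)/V} is zero. If moreover k has characteristic zero, then f contracts that component and the
morphism is not quasi-finite: V[T] → B, T ↦ f, is not a quasi-finite ring map. -/
theorem result (V : Type u) [CommRing V] [IsDomain V] [IsDiscreteValuationRing V] [CharZero V]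
    [PerfectField (IsLocalRing.ResidueField V)] (ϖ : V) (hϖ : Irreducible ϖ)
    (h : (MvPolynomial (Fin 2) V ⧸ Ideal.span {(MvPolynomial.X 0 * MvPolynomial.X 1 - MvPolynomial.C ϖ : MvPolynomial (Fin 2) V)}))
    (hh : h ∉ Ideal.span ({(Ideal.Quotient.mk (Ideal.span {(MvPolynomial.X 0 * MvPolynomial.X 1 - MvPolynomial.C ϖ : MvPolynomial (Fin 2) V)}) (MvPolynomial.X 0 : MvPolynomial (Fin 2) V)), (Ideal.Quotient.mk (Ideal.span {(MvPolynomial.X 0 * MvPolynomial.X 1 - MvPolynomial.C ϖ : MvPolynomial (Fin 2) V)}) (MvPolynomial.X 1 : MvPolynomial (Fin 2) V))} : Set (MvPolynomial (Fin 2) V ⧸ Ideal.span {(MvPolynomial.X 0 * MvPolynomial.X 1 - MvPolynomial.C ϖ : MvPolynomial (Fin 2) V)})))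
    (f : Localization.Away h)
    (hf : ((algebraMap (Localization.Away h)
        (Localization.Away (algebraMap V (Localization.Away h) ϖ))).comp
          (Polynomial.aeval f : Polynomial V →ₐ[V] Localization.Away h).toRingHom).Etale) :
    (KaehlerDifferential.D V (Localization.Away h ⧸ Ideal.span
        ({algebraMap (MvPolynomial (Fin 2) V ⧸ Ideal.span {(MvPolynomial.X 0 * MvPolynomial.X 1 - MvPolynomial.C ϖ : MvPolynomial (Fin 2) V)}) (Localization.Away h) (Ideal.Quotient.mk (Ideal.span {(MvPolynomial.X 0 * MvPolynomial.X 1 - MvPolynomial.C ϖ : MvPolynomial (Fin 2) V)}) (MvPolynomial.X 0 : MvPolynomial (Fin 2) V))} : Set (Localization.Away h)))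
        (Ideal.Quotient.mk _ f) = 0 ∨
     KaehlerDifferential.D V (Localization.Away h ⧸ Ideal.span
        ({algebraMap (MvPolynomial (Fin 2) V ⧸ Ideal.span {(MvPolynomial.X 0 * MvPolynomial.X 1 - MvPolynomial.C ϖ : MvPolynomial (Fin 2) V)}) (Localization.Away h) (Ideal.Quotient.mk (Ideal.span {(MvPolynomial.X 0 * MvPolynomial.X 1 - MvPolynomial.C ϖ : MvPolynomial (Fin 2) V)}) (MvPolynomial.X 1 : MvPolynomial (Fin 2) V))} : Set (Localization.Away h)))
        (Ideal.Quotient.mk _ f) = 0) ∧
    (CharZero (IsLocalRing.ResidueField V) →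
      ¬ (Polynomial.aeval f : Polynomial V →ₐ[V] Localization.Away h).toRingHom.QuasiFinite) := by
  obtain ⟨d, -, hdx, hdy, -⟩ := H1Node.exists_der h (Localization.Away h) (H1Node.ι h (MvPolynomial.X 0))
    (-H1Node.ι h (MvPolynomial.X 1)) (by simp only [Algebra.algebraMap_self, RingHom.id_apply]; ring)
  have hx := H1Node.ι_X_mul h
  have hunit := H1Node.isUnit_der d f (H1Node.ι h (MvPolynomial.X 0)) (algebraMap V (Localization.Away h) ϖ) hdx
    (isUnit_of_mul_isUnit_left (y := algebraMap _ _ (H1Node.ι h (MvPolynomial.X 1))) (by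
      rw [← map_mul, hx]; exact IsLocalization.Away.algebraMap_isUnit _)) hf
  obtain ⟨C₀, _, _, _, _, _, hs₀, hk₀, hy₀, hqf₀⟩ := H1Node.component (i := 0) (j := 1) (by decide) hϖ h hh
  obtain ⟨C₁, _, _, _, _, _, hs₁, hk₁, hy₁, hqf₁⟩ := H1Node.component (i := 1) (j := 0) (by decide) hϖ h hh
  have hor : d f ∈ Ideal.span {H1Node.ι h (MvPolynomial.X 0)} ∨ d f ∈ Ideal.span {H1Node.ι h (MvPolynomial.X 1)} := by
    by_contra hno
    push Not at hno
    obtain ⟨c₀, hc₀⟩ : ∃ c, algebraMap (Localization.Away h) (Localization.Away (algebraMap V (Localization.Away h) ϖ)) (d f) * c = 1 :=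
      ⟨_, hunit.mul_val_inv⟩
    obtain ⟨⟨c, ⟨_, n, rfl⟩⟩, hc⟩ := IsLocalization.surj (Submonoid.powers (algebraMap V (Localization.Away h) ϖ)) c₀
    obtain ⟨⟨_, l, rfl⟩, he⟩ := (IsLocalization.eq_iff_exists (Submonoid.powers (algebraMap V (Localization.Away h) ϖ))
      (Localization.Away (algebraMap V (Localization.Away h) ϖ))).1
      (show algebraMap _ _ (d f * c) = algebraMap _ _ (algebraMap V (Localization.Away h) ϖ ^ n) by
        rw [map_mul, ← hc, ← mul_assoc, hc₀, one_mul])
    obtain ⟨c', hc'⟩ := H1Node.exists_inv_of_dvd_pow _ _ (d f)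
      (H1Node.isRegular_ι hϖ.ne_zero h (i := 0) (j := 1) (by decide))
      (H1Node.isRegular_ι hϖ.ne_zero h (i := 1) (j := 0) (by decide))
      (hk₀ ▸ RingHom.ker_isPrime _) (hk₁ ▸ RingHom.ker_isPrime _) hno.1 hno.2 (n + l) (n + l)
      (algebraMap V (Localization.Away h) ϖ ^ l * c) (by
        rw [← mul_pow, hx, pow_add]
        simp only at he
        linear_combination he)
    obtain ⟨ev, hev⟩ := H1Node.exists_ev hϖ h hh
    letI : Algebra (Localization.Away h) (IsLocalRing.ResidueField V) := ev.toAlgebra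
    haveI : IsScalarTower V (Localization.Away h) (IsLocalRing.ResidueField V) :=
      IsScalarTower.of_algebraMap_eq fun v => (ev.commutes v).symm
    have h0 : (Algebra.linearMap (Localization.Away h) (IsLocalRing.ResidueField V)).compDer d = 0 := by
      refine H1Node.der_ext _ _ fun i => ?_
      fin_cases i
      · show ev (d (H1Node.ι h (MvPolynomial.X 0))) = 0
        rw [hdx]; exact hev 0
      · show ev (d (H1Node.ι h (MvPolynomial.X 1))) = 0
        rw [hdy, map_neg, hev 1, neg_zero]
    have h1 : ev (d f) = 0 := Derivation.congr_fun h0 f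
    have h2 := congrArg ev hc'
    rw [map_mul, h1, zero_mul, map_one] at h2
    exact zero_ne_one h2
  rcases hor with hmem | hmem
  · obtain ⟨hD, dC, hdi, hdj, hdf⟩ := H1Node.diff_eq_zero h (i := 0) (j := 1) (by decide) hs₀ hk₀ hy₀ d 1
      (by rw [hdx, one_mul]) (by rw [hdy, neg_one_mul]) (one_mul 1) f hmem
    exact ⟨Or.inl hD, fun hk => hqf₀ hk f dC hdi hdj hdf⟩
  · obtain ⟨hD, dC, hdi, hdj, hdf⟩ := H1Node.diff_eq_zero h (i := 1) (j := 0) (by decide) hs₁ hk₁ hy₁ d (-1)
      (by rw [hdy, neg_one_mul]) (by rw [hdx, neg_neg, one_mul]) (by ring) f hmem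
    exact ⟨Or.inr hD, fun hk => hqf₁ hk f dC hdi hdj hdf⟩

end Groth.Agent.S14386
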