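import Groth.Statements.S1440
import Groth.Agent.ConstrCover.Basic
import Groth.Agent.EtResidue.Basic

set_option autoImplicit false
set_option backward.isDefEq.respectTransparency false
set_option backward.isDefEq.respectTransparency.types false
attribute [-instance] CategoryTheory.catToReflQuiver
universe u
open FlatMor

namespace Groth.Agent.S1440

open AlgebraicGeometry CategoryTheory

theorem eval_appLE {X Y : Scheme.{u}} (f : X ⟶ Y) {V : Y.Opens} {U : X.Opens} (hUV : U ≤ f ⁻¹ᵁ V) {x : X}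
    (hxU : x ∈ U) (r : Γ(Y, V)) :
    X.evaluation U x hxU (f.appLE V U hUV r) = f.residueFieldMap x (Y.evaluation V (f x) (hUV hxU) r) := by
  rw [Scheme.evaluation_naturality_apply]
  exact congrArg (X.residue x) (X.presheaf.germ_res_apply (homOfLE hUV) x hxU _)

theorem mem_iff_eval_eq_zero {X Y : Scheme.{u}} (f : X ⟶ Y) {V : Y.Opens} (hV : IsAffineOpen V) {U : X.Opens}
    (hUV : U ≤ f ⁻¹ᵁ V) {x : X} (hxU : x ∈ U) {p : PrimeSpectrum Γ(Y, V)} (hx : f x = hV.fromSpec p) (r : Γ(Y, V)) :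
    X.evaluation U x hxU (f.appLE V U hUV r) = 0 ↔ r ∈ p.asIdeal := by
  rw [eval_appLE, map_eq_zero, Scheme.evaluation_eq_zero_iff_notMem_basicOpen, hx]
  show ¬ p ∈ hV.fromSpec ⁻¹ᵁ Y.basicOpen r ↔ _
  rw [hV.fromSpec_preimage_basicOpen]
  exact not_not

theorem mem_of_eval_eq_zero {X Y : Scheme.{u}} (f : X ⟶ Y) {V : Y.Opens} (hV : IsAffineOpen V) {U : X.Opens}
    (hUV : U ≤ f ⁻¹ᵁ V) {x : X} (hxU : x ∈ U) {p : PrimeSpectrum Γ(Y, V)} (hx : f x = hV.fromSpec p) {r : Γ(Y, V)}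
    (h : X.evaluation U x hxU (f.appLE V U hUV r) = 0) : r ∈ p.asIdeal :=
  (mem_iff_eval_eq_zero f hV hUV hxU hx r).1 h

theorem not_mem_of_eval_ne_zero {X Y : Scheme.{u}} (f : X ⟶ Y) {V : Y.Opens} (hV : IsAffineOpen V) {U : X.Opens}
    (hUV : U ≤ f ⁻¹ᵁ V) {x : X} (hxU : x ∈ U) {p : PrimeSpectrum Γ(Y, V)} (hx : f x = hV.fromSpec p) {r : Γ(Y, V)}
    (h : X.evaluation U x hxU (f.appLE V U hUV r) ≠ 0) : r ∉ p.asIdeal :=
  fun h' => h ((mem_iff_eval_eq_zero f hV hUV hxU hx r).2 h')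

theorem mem_range_piece {R : Type u} [CommRing R] (I : Ideal R) (g : R) (p : PrimeSpectrum R) (hI : I ≤ p.asIdeal)
    (hg : g ∉ p.asIdeal) :
    p ∈ Set.range (PrimeSpectrum.comap (algebraMap R (Localization.Away g ⧸ I.map (algebraMap R (Localization.Away g))))) := by
  let Rg := Localization.Away g
  have hd : Disjoint (Submonoid.powers g : Set R) (p.asIdeal : Set R) := Set.disjoint_left.2 (by
    rintro _ ⟨k, rfl⟩ hk
    exact hg (p.2.mem_of_pow_mem k hk))
  let P : PrimeSpectrum Rg :=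
    ⟨p.asIdeal.map (algebraMap R Rg), IsLocalization.isPrime_of_isPrime_disjoint (Submonoid.powers g) Rg _ p.2 hd⟩
  have hP : I.map (algebraMap R Rg) ≤ P.asIdeal := Ideal.map_mono hI
  have h2 : P ∈ Set.range (PrimeSpectrum.comap (Ideal.Quotient.mk (I.map (algebraMap R Rg)))) := by
    rw [range_comap_of_surjective _ _ Ideal.Quotient.mk_surjective, Ideal.mk_ker, PrimeSpectrum.mem_zeroLocus]
    exact hP
  obtain ⟨w, hw⟩ := h2
  refine ⟨w, PrimeSpectrum.ext ?_⟩
  show w.asIdeal.comap (algebraMap R (Rg ⧸ I.map (algebraMap R Rg))) = p.asIdeal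
  rw [IsScalarTower.algebraMap_eq R Rg (Rg ⧸ _), ← Ideal.comap_comap,
    show w.asIdeal.comap (algebraMap Rg (Rg ⧸ I.map (algebraMap R Rg))) = P.asIdeal from congrArg PrimeSpectrum.asIdeal hw]
  exact IsLocalization.under_map_of_isPrime_disjoint (Submonoid.powers g) _ p.2 hd

theorem piece_props {Y : Scheme.{u}} [CompactSpace Y] [QuasiSeparatedSpace Y] {V : Y.Opens} (hV : IsAffineOpen V)
    (I : Ideal Γ(Y, V)) (hI : I.FG) (g : Γ(Y, V)) :
    let z := Spec.map (CommRingCat.ofHom (algebraMap Γ(Y, V)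
      (Localization.Away g ⧸ I.map (algebraMap Γ(Y, V) (Localization.Away g))))) ≫ hV.fromSpec
    IsImmersion z ∧ LocallyOfFinitePresentation z ∧ QuasiCompact z ∧ QuasiSeparated z := by
  intro z
  let Rg := Localization.Away g
  have hfac : z = Spec.map (CommRingCat.ofHom (Ideal.Quotient.mk (I.map (algebraMap Γ(Y, V) Rg)))) ≫
      Spec.map (CommRingCat.ofHom (algebraMap Γ(Y, V) Rg)) ≫ hV.fromSpec := by
    rw [← Spec.map_comp_assoc]
    rfl
  haveI : IsClosedImmersion (Spec.map (CommRingCat.ofHom (Ideal.Quotient.mk (I.map (algebraMap Γ(Y, V) Rg))))) :=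
    IsClosedImmersion.spec_of_surjective _ Ideal.Quotient.mk_surjective
  haveI : IsOpenImmersion (Spec.map (CommRingCat.ofHom (algebraMap Γ(Y, V) Rg))) :=
    IsOpenImmersion.of_isLocalization g
  haveI : QuasiCompact hV.fromSpec := inferInstance
  haveI : LocallyOfFinitePresentation (Spec.map (CommRingCat.ofHom (Ideal.Quotient.mk (I.map (algebraMap Γ(Y, V) Rg))))) := by
    rw [HasRingHomProperty.Spec_iff (P := @LocallyOfFinitePresentation)]
    exact RingHom.FinitePresentation.of_surjective _ Ideal.Quotient.mk_surjective (by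
      rw [CommRingCat.hom_ofHom, Ideal.mk_ker]; exact hI.map _)
  rw [hfac]
  refine ⟨inferInstance, inferInstance, inferInstance, inferInstance⟩

open AlgebraicGeometry CategoryTheory Limits in
/-- Let f : X → Y be locally of finite presentation with Y quasi-compact and quasi-separated, and assume
f is completely decomposed: every point y of Y is the image of a point x at which the residue field
extension is trivial. Then there are finitely many immersions Z_i → Y of finite presentation,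
jointly surjective, such that each base change X ×_Y Z_i → Z_i admits a section. -/
theorem result {X Y : Scheme.{u}} (f : X ⟶ Y) [LocallyOfFinitePresentation f] [CompactSpace ↑Y] [QuasiSeparatedSpace ↑Y]
    (hcd : ∀ y : Y, ∃ x : X, f x = y ∧ Function.Bijective (f.residueFieldMap x)) :
    ∃ (n : ℕ) (Z : Fin n → Scheme.{u}) (z : ∀ i, Z i ⟶ Y), (∀ y : Y, ∃ i, y ∈ Set.range ⇑(z i)) ∧
      ∀ i, IsImmersion (z i) ∧ LocallyOfFinitePresentation (z i) ∧ QuasiCompact (z i) ∧ QuasiSeparated (z i) ∧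
        ∃ s : Z i ⟶ pullback f (z i), s ≫ pullback.snd f (z i) = 𝟙 (Z i) := by
  classical
  have key : ∀ V : Y.affineOpens, ∃ (L : Finset (Ideal Γ(Y, V.1) × Γ(Y, V.1))),
      (∀ x ∈ L, x.1.FG ∧ ∃ (U : X.Opens) (hUV : U ≤ f ⁻¹ᵁ V.1) (_ : IsAffineOpen U),
        letI := (f.appLE V.1 U hUV).hom.toAlgebra
        Nonempty (Γ(X, U) →ₐ[Γ(Y, V.1)] Localization.Away x.2 ⧸ x.1.map (algebraMap Γ(Y, V.1) (Localization.Away x.2)))) ∧
      ∀ q : Ideal Γ(Y, V.1), q.IsPrime → ∃ x ∈ L, x.1 ≤ q ∧ x.2 ∉ q := by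
    intro V
    refine Groth.Agent.ConstrCover.exists_finite_cover (R := Γ(Y, V.1)) (fun I g => ∃ (U : X.Opens) (hUV : U ≤ f ⁻¹ᵁ V.1) (_ : IsAffineOpen U),
        letI := (f.appLE V.1 U hUV).hom.toAlgebra
        Nonempty (Γ(X, U) →ₐ[Γ(Y, V.1)] Localization.Away g ⧸ I.map (algebraMap Γ(Y, V.1) (Localization.Away g)))) fun q hq => ?_
    let y : Y := V.2.fromSpec (⟨q, hq⟩ : PrimeSpectrum Γ(Y, V.1))
    obtain ⟨x, hx, hbij⟩ := hcd y
    have hyV : y ∈ V.1 := by
      have : y ∈ Set.range V.2.fromSpec := ⟨_, rfl⟩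
      rwa [V.2.range_fromSpec] at this
    obtain ⟨U, hU, hxU, hUV⟩ := exists_isAffineOpen_mem_and_subset (U := f ⁻¹ᵁ V.1) (x := x)
      (show f x ∈ V.1 from hx.symm ▸ hyV)
    letI := (f.appLE V.1 U hUV).hom.toAlgebra
    haveI : Algebra.FinitePresentation Γ(Y, V.1) Γ(X, U) := f.finitePresentation_appLE V.2 hU hUV
    let R := Γ(Y, V.1)
    let ev : R →+* X.residueField x := (X.evaluation U x hxU).hom.comp (f.appLE V.1 U hUV).hom
    let e : q.ResidueField →+* X.residueField x :=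
      Ideal.ResidueField.lift q ev
        (fun r hr => by
          by_contra hne
          exact (Groth.Agent.S1440.not_mem_of_eval_ne_zero f V.2 hUV hxU hx hne) hr)
        (fun r hr => isUnit_iff_ne_zero.2 fun h0 => hr (Groth.Agent.S1440.mem_of_eval_eq_zero f V.2 hUV hxU hx h0))
    have he : Function.Surjective e := by
      intro z
      obtain ⟨z, rfl⟩ := hbij.2 z
      have hz : z ∈ Subfield.closure (Set.range (Y.evaluation V.1 (f x) (hUV hxU)).hom) := by
        rw [Groth.Agent.EtResidue.closure_range_evaluation_eq_top V.2]; trivial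
      have : Subfield.closure (Set.range (Y.evaluation V.1 (f x) (hUV hxU)).hom) ≤
          e.fieldRange.comap (f.residueFieldMap x).hom := by
        refine Subfield.closure_le.2 ?_
        rintro _ ⟨r, rfl⟩
        refine ⟨algebraMap R q.ResidueField r, ?_⟩
        rw [Ideal.ResidueField.lift_algebraMap]
        exact Groth.Agent.S1440.eval_appLE f hUV hxU r
      exact this hz
    let ψ : Γ(X, U) →ₐ[R] q.ResidueField :=
      { toRingHom := (RingEquiv.ofBijective e ⟨e.injective, he⟩).symm.toRingHom.comp (X.evaluation U x hxU).hom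
        commutes' := fun r => by
          show (RingEquiv.ofBijective e ⟨e.injective, he⟩).symm (X.evaluation U x hxU (f.appLE V.1 U hUV r)) = _
          rw [RingEquiv.symm_apply_eq]
          show _ = e (algebraMap R q.ResidueField r)
          rw [Ideal.ResidueField.lift_algebraMap]
          rfl }
    obtain ⟨I, g, hI, hIq, hg, hh⟩ := Groth.Agent.ConstrCover.exists_piece_hom q ψ
    exact ⟨I, g, hI, ⟨U, hUV, hU, hh⟩, hIq, hg⟩
  choose L hL hcov using key
  obtain ⟨t, ht⟩ := (isCompact_univ (X := Y)).elim_finite_subcover (fun V : Y.affineOpens => ((V.1 : Y.Opens) : Set Y))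
    (fun V => V.1.2) (fun y _ => by
      obtain ⟨V, hV, hy, -⟩ := exists_isAffineOpen_mem_and_subset (U := (⊤ : Y.Opens)) (x := y) trivial
      exact Set.mem_iUnion.2 ⟨⟨V, hV⟩, hy⟩)
  let ι := Σ V : t, L V.1
  let m : Fin (Fintype.card ι) → ι := (Fintype.equivFin ι).symm
  let Z : ι → Scheme.{u} := fun i =>
    Spec (CommRingCat.of (Localization.Away i.2.1.2 ⧸ i.2.1.1.map (algebraMap Γ(Y, i.1.1.1) (Localization.Away i.2.1.2))))
  let z : ∀ i : ι, Z i ⟶ Y := fun i => Spec.map (CommRingCat.ofHom (algebraMap Γ(Y, i.1.1.1)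
      (Localization.Away i.2.1.2 ⧸ i.2.1.1.map (algebraMap Γ(Y, i.1.1.1) (Localization.Away i.2.1.2))))) ≫ i.1.1.2.fromSpec
  refine ⟨Fintype.card ι, fun k => Z (m k), fun k => z (m k), fun y => ?_, fun k => ?_⟩
  · obtain ⟨V, hV, hyV⟩ := Set.mem_iUnion₂.1 (ht (Set.mem_univ y))
    obtain ⟨x, hx, hI, hg⟩ := hcov V (V.2.primeIdealOf ⟨y, hyV⟩).asIdeal inferInstance
    let i : ι := ⟨⟨V, hV⟩, ⟨x, hx⟩⟩
    refine ⟨Fintype.equivFin ι i, ?_⟩
    show y ∈ Set.range (z ((Fintype.equivFin ι).symm (Fintype.equivFin ι i)))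
    rw [Equiv.symm_apply_apply]
    obtain ⟨w, hw⟩ := Groth.Agent.S1440.mem_range_piece x.1 x.2 (V.2.primeIdealOf ⟨y, hyV⟩) hI hg
    refine ⟨w, ?_⟩
    show V.2.fromSpec (PrimeSpectrum.comap (algebraMap Γ(Y, V.1) (Localization.Away x.2 ⧸ x.1.map (algebraMap Γ(Y, V.1) (Localization.Away x.2)))) w) = y
    rw [hw, V.2.fromSpec_primeIdealOf]
  · obtain ⟨hfg, U, hUV, hU, ⟨σ⟩⟩ := hL (m k).1.1 (m k).2.1 (m k).2.2
    letI := (f.appLE (m k).1.1.1 U hUV).hom.toAlgebra
    obtain ⟨h1, h2, h3, h4⟩ := Groth.Agent.S1440.piece_props (m k).1.1.2 (m k).2.1.1 hfg (m k).2.1.2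
    refine ⟨h1, h2, h3, h4, pullback.lift (Spec.map (CommRingCat.ofHom σ.toRingHom) ≫ hU.fromSpec) (𝟙 _) ?_,
      pullback.lift_snd _ _ _⟩
    refine Eq.trans ?_ (Category.id_comp _).symm
    refine (Category.assoc _ _ _).trans ?_
    refine (congrArg (Spec.map (CommRingCat.ofHom σ.toRingHom) ≫ ·)
      (IsAffineOpen.SpecMap_appLE_fromSpec f (m k).1.1.2 hU hUV).symm).trans ?_
    refine ((Category.assoc _ _ _).symm.trans (congrArg (· ≫ (m k).1.1.2.fromSpec) (Spec.map_comp _ _).symm)).trans ?_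
    exact congrArg (fun φ => Spec.map φ ≫ (m k).1.1.2.fromSpec) (CommRingCat.hom_ext σ.comp_algebraMap)

end Groth.Agent.S1440
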