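import Groth.Statements.S14404
import Groth.Agent.RGLib.FlatEquidim

set_option autoImplicit false
universe u
open CategoryTheory AlgebraicGeometry
open FlatMor

namespace Groth.Agent.S14404

/-- Let k be a field, X and Y irreducible schemes of finite type over k and f : X ⟶ Y a flat k-morphism.
Then dim Y ≤ dim X, and for every point y of Y every irreducible component Z of the scheme-theoretic
fibre of f over y has dim Z + dim Y = dim X; that is, every non-empty fibre has all its irreducible
components of dimension dim X − dim Y. -/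
theorem result (k : Type u) [Field k]
    {X Y : Scheme.{u}} (qX : X ⟶ Spec (CommRingCat.of k)) (qY : Y ⟶ Spec (CommRingCat.of k))
    [LocallyOfFiniteType qX] [QuasiCompact qX] [LocallyOfFiniteType qY] [QuasiCompact qY]
    [IrreducibleSpace X] [IrreducibleSpace Y] (f : X ⟶ Y) (hf : f ≫ qY = qX) [Flat f] :
    topologicalKrullDim Y ≤ topologicalKrullDim X ∧
      ∀ (y : Y), ∀ Z ∈ irreducibleComponents (f.fiber y : Type u),
        topologicalKrullDim Z + topologicalKrullDim Y = topologicalKrullDim X := by
  haveI : LocallyOfFiniteType f := by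
    haveI : LocallyOfFiniteType (f ≫ qY) := hf.symm ▸ ‹LocallyOfFiniteType qX›
    exact locallyOfFiniteType_of_comp f qY
  subst hf
  have hX : topologicalKrullDim ↥X = topologicalKrullDim ↥Y +
      (Groth.Agent.FibDim.rd f (genericPoint ↥X) : ℕ) := by
    have hg := Groth.Agent.RGLib.FlatEquidim.maximal_maps_generic f (ξ := genericPoint ↥X)
      (fun z hz => (hz.antisymm ((genericPoint_spec ↥X).specializes (Set.mem_univ z))).eq)
    rw [Groth.Agent.RGLib.FlatEquidim.dim_eq qY, Groth.Agent.RGLib.FlatEquidim.dim_eq (f ≫ qY),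
      Groth.Agent.FibDim.rd_comp, hg, Groth.Agent.RGLib.FlatEquidim.coe_add_eq, WithBot.coe_add]
    rfl
  refine ⟨hX.ge.trans' (le_add_of_nonneg_right (by simp)), fun y Z hZ => ?_⟩
  have h := (Groth.Agent.RGLib.FlatEquidim.components_iff (f ≫ qY) qY f rfl
    (Groth.Agent.FibDim.rd f (genericPoint ↥X))).mp (fun W hW => ?_) y Z hZ
  · rw [h, hX, add_comm]
  · rw [irreducibleComponents_eq_singleton, Set.mem_singleton_iff] at hW
    subst hW
    rw [(Homeomorph.Set.univ ↥X).isHomeomorph.topologicalKrullDim_eq]
    exact hX

end Groth.Agent.S14404
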