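import Groth.Statements.S14408
import Groth.Agent.HilbPoly.PnTwist
import Groth.Agent.FlatMisc.DimConstr
import Groth.Agent.S0022

set_option autoImplicit false
set_option backward.isDefEq.respectTransparency false
set_option backward.isDefEq.respectTransparency.types false
universe u
open CategoryTheory CategoryTheory.Limits AlgebraicGeometry
open HilbNum

namespace Groth.Agent.S14408

/-- Let k be an algebraically closed field, n a positive integer, F a nonzero coherent O-module on
projective n-space P over k (quasi-coherent of finite type), and P_F a polynomial with rational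
coefficients such that P_F(m) = χ(F(m)) = Σ_{j ≤ n} (-1)^j dim_k H^j(P, F ⊗ O(m)) for every integer
m. Then the degree of P_F equals the dimension of the support of F (the closed set of points where
the stalk of F is nonzero, with the subspace topology). The existence of such a polynomial is not
part of this statement; it enters through the hypothesis on P_F. -/
theorem result (k : Type u) [Field k] [IsAlgClosed k] (n : ℕ) (hn : 0 < n)
    (F : (CohB1.ProjSpace n k).Modules) (hF : Coh.IsCoh F) (hF0 : ¬ IsZero F) (P : Polynomial ℚ)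
    (hP : ∀ m : ℤ,
      ((Finset.range (n + 1)).sum fun j => (-1 : ℚ) ^ j *
        (Module.finrank k (Coh.HH (CohB1.ProjSpace n k) (CohB1.tensorMod F (Twist.twistProjSpace n k m)) j) : ℚ)) =
      P.eval (m : ℚ)) :
    topologicalKrullDim ↥(CohB1.support F) = (P.natDegree : WithBot ℕ∞) := by
  haveI : IsProper ((CohB1.ProjSpace n k) ↘ Spec (CommRingCat.of k)) := PnCoh.Chow.isProper_toSpec n k
  haveI : IsNoetherian (CohB1.ProjSpace n k) := CurveCohLib.isNoetherian_of_proper (k := k)
  have hL := HilbPoly.isAmple_twistProjSpace_one n k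
  have hZ : ∀ z : ℤ, (Curv2.euler k (CohB1.ProjSpace n k) (CohB1.tensorMod F (Twist.twistProjSpace n k z)) : ℚ) =
      P.eval (z : ℚ) := fun z => by
    haveI : Coh.IsQCoh (CohB1.tensorMod F (Twist.twistProjSpace n k z)) := (HilbPoly.isCoh_twist' hF z).1
    rw [← hP z, CurveCohLib.euler_eq_sum (N := n + 1) (fun i hi => S0022.result n k _ i (by omega))]
    push_cast
    rfl
  have hQ := HilbPoly.isHilbPoly_of_euler_twist hZ
  haveI : IsProper (CohB1.ProjSpace.toSpec n k) := PnCoh.Chow.isProper_toSpec n k
  haveI : LocallyOfFinitePresentation (CohB1.ProjSpace.toSpec n k) := inferInstance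
  obtain ⟨m, hm⟩ := FlatMisc.DimConstr.exists_dim_le (CohB1.ProjSpace.toSpec n k) (IsLocalRing.closedPoint k)
  haveI : Subsingleton (Spec (CommRingCat.of k)) := inferInstanceAs (Subsingleton (PrimeSpectrum k))
  have hd : topologicalKrullDim ↥(CohB1.support F) ≤ (m : WithBot ℕ∞) :=
    (H23.TopDim.dim_le_dim_of_subset (fun x _ => Subsingleton.elim ((CohB1.ProjSpace.toSpec n k) x) _ :
      CohB1.support F ⊆ (CohB1.ProjSpace.toSpec n k) ⁻¹' {IsLocalRing.closedPoint k})).trans
      (((CohB1.ProjSpace.toSpec n k).fiberHomeo _).isHomeomorph.topologicalKrullDim_eq.ge.trans hm)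
  obtain ⟨e, -, he⟩ := HilbPoly.exists_dim_eq (k := k) hd hF0
  have hpos := HilbPoly.alpha_pos hL hF he hQ
  have hle := (HilbPoly.hilb_props hL.1 hF he.le hQ).1
  have hne : P.coeff e ≠ 0 := fun h => by simp [StabCat.alpha, h] at hpos
  rw [he, le_antisymm hle (Polynomial.le_natDegree_of_ne_zero hne)]

end Groth.Agent.S14408
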