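import Groth.Statements.S1441
import Groth.Agent.FibFlatMod.BaseChange

set_option autoImplicit false
attribute [-instance] CategoryTheory.catToReflQuiver
set_option backward.isDefEq.respectTransparency false
universe u
open FlatMor

namespace Groth.Agent.S1441

open AlgebraicGeometry CategoryTheory Limits in
/-- Let f : X → Y be a morphism over S with X locally of finite presentation and Y locally of finite
type over S, and F a finitely presented quasi-coherent O_X-module flat over S. Then the set U of
points where F is flat over Y is open in X, and for any base change S' → S (with X', Y', F' the base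
changes) the corresponding set for F' over Y' is the preimage of U. -/
theorem result {X Y S : Scheme.{u}} (f : X ⟶ Y) (g : Y ⟶ S) [LocallyOfFinitePresentation (f ≫ g)] [LocallyOfFiniteType g]
    (F : X.Modules) (hq : Coh.IsQCoh F) (hfp : CohB1.IsFP F) (hfl : FlatMod.IsFlatOver (f ≫ g) F) :
    IsOpen {x : ↑X | FlatMod.IsFlatOverAt f F x} ∧
      ∀ {X' Y' S' : Scheme.{u}} (h : S' ⟶ S) (gY : Y' ⟶ Y) (g' : Y' ⟶ S') (hY : IsPullback gY g' g h)
        (gX : X' ⟶ X) (f' : X' ⟶ Y') (hX : IsPullback gX (f' ≫ g') (f ≫ g) h) (w : gX ≫ f = f' ≫ gY),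
        {x' : ↑X' | FlatMod.IsFlatOverAt f' ((Scheme.Modules.pullback gX).obj F) x'} = gX ⁻¹' {x : ↑X | FlatMod.IsFlatOverAt f F x} := by
  haveI := hq
  haveI : LocallyOfFinitePresentation f := Groth.Agent.AlgSpPts.locallyOfFinitePresentation_of_comp f g
  refine ⟨Groth.Agent.S4863.result f F hfp, fun {X' Y' S'} h gY g' hY gX f' hX w => ?_⟩
  have sq : IsPullback gX f' f gY := IsPullback.of_bot hX w hY
  ext x'
  refine ⟨fun hF' => ?_, fun hx => Groth.Agent.FibFlatMod.isFlatOverAt_of_isPullback sq hq hfp x' hx⟩
  show FlatMod.IsFlatOverAt f F (gX x')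
  rcases subsingleton_or_nontrivial (F.presheaf.stalk (gX x')) with hx | hx
  · letI := FlatMod.moduleStalkOver f F (gX x')
    show Module.Flat (Y.presheaf.stalk (f (gX x'))) (F.presheaf.stalk (gX x'))
    infer_instance
  · exact ((Groth.Agent.FibFlatMod.flat_iff f g F hq hfp (gX x') hx).1
      ⟨hfl _, Groth.Agent.FibFlatMod.fibre_flat_of_isPullback f g F hq hY hX w x' hF'⟩).2

end Groth.Agent.S1441
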