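import Groth.Statements.S14412
import Mathlib.Algebra.Category.ModuleCat.Localization
import Mathlib.Algebra.Category.ModuleCat.Ext.Finite
import Mathlib.Algebra.Category.ModuleCat.Projective
import Mathlib.Algebra.Homology.DerivedCategory.Ext.Map
import Mathlib.Algebra.Module.FinitePresentation
import Mathlib.RingTheory.LocalProperties.Projective

set_option autoImplicit false
universe u
open CategoryTheory
open CAlg

namespace Groth.Agent.S14412

open CategoryTheory

/-- Compatibility of the functor with scalars. -/
theorem map_smul_id (R : Type u) [CommRing R] (S : Submonoid R) (N : ModuleCat.{u} R) (r : R) :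
    (ModuleCat.localizedModuleFunctor.{u} S).map (r • 𝟙 N) =
      algebraMap R (Localization S) r • 𝟙 ((ModuleCat.localizedModuleFunctor.{u} S).obj N) := by
  refine ModuleCat.hom_ext (LinearMap.ext fun z => ?_)
  obtain ⟨⟨m, s⟩, rfl⟩ := IsLocalizedModule.mk'_surjective S (N.localizedModuleMkLinearMap S) z
  show IsLocalizedModule.map S (N.localizedModuleMkLinearMap S) (N.localizedModuleMkLinearMap S) (r • LinearMap.id)
      (IsLocalizedModule.mk' (N.localizedModuleMkLinearMap S) m s) = _
  rw [IsLocalizedModule.map_mk']
  show IsLocalizedModule.mk' (N.localizedModuleMkLinearMap S) (r • m) s =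
    algebraMap R (Localization S) r • IsLocalizedModule.mk' (N.localizedModuleMkLinearMap S) m s
  rw [IsLocalizedModule.mk'_smul, algebraMap_smul]

/-- The map on Ext is semilinear. -/
theorem mapExt_smul (R : Type u) [CommRing R] (S : Submonoid R) {M N : ModuleCat.{u} R} {n : ℕ}
    (r : R) (e : Abelian.Ext M N n) :
    (ModuleCat.localizedModuleFunctor.{u} S).mapExtAddHom M N n (r • e) =
      algebraMap R (Localization S) r • (ModuleCat.localizedModuleFunctor.{u} S).mapExtAddHom M N n e := by
  rw [Functor.mapExtAddHom_apply, Functor.mapExtAddHom_apply, Abelian.Ext.smul_eq_comp_mk₀,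
    Abelian.Ext.mapExactFunctor_comp, Abelian.Ext.mapExactFunctor_mk₀, map_smul_id,
    ← Abelian.Ext.smul_eq_comp_mk₀]

/-- Ext commutes with localization. -/
theorem key (R : Type u) [CommRing R] [IsNoetherianRing R] (S : Submonoid R) (N : ModuleCat.{u} R)
    [Module.Finite R N] (i : ℕ) : ∀ (M : ModuleCat.{u} R) [Module.Finite R M],
    (∀ y : Abelian.Ext ((ModuleCat.localizedModuleFunctor.{u} S).obj M) ((ModuleCat.localizedModuleFunctor.{u} S).obj N) i,
        ∃ (e : Abelian.Ext M N i) (s : S),
          algebraMap R (Localization S) (s : R) • y = (ModuleCat.localizedModuleFunctor.{u} S).mapExtAddHom M N i e) ∧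
      (∀ e : Abelian.Ext M N i,
        (ModuleCat.localizedModuleFunctor.{u} S).mapExtAddHom M N i e = 0 ↔ ∃ s : S, (s : R) • e = 0) := by
  let F := ModuleCat.localizedModuleFunctor.{u} S
  have hback : ∀ (n : ℕ) (M : ModuleCat.{u} R) (e : Abelian.Ext M N n),
      (∃ s : S, (s : R) • e = 0) → F.mapExtAddHom M N n e = 0 := by
    rintro n M e ⟨s, hs⟩
    have h := congrArg (F.mapExtAddHom M N n) hs
    rw [map_zero, mapExt_smul] at h
    exact (IsLocalization.map_units (Localization S) s).smul_eq_zero.1 h
  induction i with
  | zero =>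
    intro M _
    haveI : Module.FinitePresentation R M := Module.finitePresentation_of_finite R M
    have hloc : IsLocalizedModule S (IsLocalizedModule.mapExtendScalars S (M.localizedModuleMkLinearMap S)
        (N.localizedModuleMkLinearMap S) (Localization S)) := inferInstance
    refine ⟨fun y => ?_, fun e => ⟨fun he => ?_, hback 0 M e⟩⟩
    · obtain ⟨φ, rfl⟩ := (Abelian.Ext.mk₀_bijective _ _).2 y
      obtain ⟨⟨f, s⟩, hfs⟩ := hloc.surj φ.hom
      refine ⟨Abelian.Ext.mk₀ (ModuleCat.ofHom f), s, ?_⟩
      rw [Functor.mapExtAddHom_apply, Abelian.Ext.mapExactFunctor_mk₀, ← Abelian.Ext.mk₀_smul]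
      congr 1
      refine ModuleCat.hom_ext ?_
      refine Eq.trans ?_ hfs
      refine LinearMap.ext fun z => ?_
      let w : ↥(N.localizedModule S) := φ.hom z
      show algebraMap R (Localization S) (s : R) • w = (s : R) • w
      exact algebraMap_smul (Localization S) (s : R) w
    · obtain ⟨f, rfl⟩ := (Abelian.Ext.mk₀_bijective _ _).2 e
      rw [Functor.mapExtAddHom_apply, Abelian.Ext.mapExactFunctor_mk₀] at he
      have h0 := (Abelian.Ext.mk₀_bijective _ _).1 (he.trans (Abelian.Ext.mk₀_zero _ _).symm)
      obtain ⟨s, hs⟩ := (IsLocalizedModule.eq_zero_iff S (IsLocalizedModule.mapExtendScalars S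
        (M.localizedModuleMkLinearMap S) (N.localizedModuleMkLinearMap S) (Localization S))).1
        (show IsLocalizedModule.mapExtendScalars S (M.localizedModuleMkLinearMap S)
          (N.localizedModuleMkLinearMap S) (Localization S) f.hom = 0 from congrArg ModuleCat.Hom.hom h0)
      refine ⟨s, ?_⟩
      rw [← Abelian.Ext.mk₀_smul, show (s : R) • f = 0 from ModuleCat.hom_ext hs, Abelian.Ext.mk₀_zero]
  | succ n ih =>
    intro M _
    obtain ⟨P, _, _, _, _, f, hf⟩ := Module.exists_finite_presentation R M
    have hS := LinearMap.shortExact_shortComplexKer hf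
    have hS' := hS.map_of_exact F
    haveI : Projective (ModuleCat.of R P) := inferInstance
    haveI := ModuleCat.localizedModule_isLocalizedModule (ModuleCat.of R P) S
    haveI hFP : Module.Projective (Localization S) ((ModuleCat.of R P).localizedModule S) :=
      Module.projective_of_isLocalizedModule S ((ModuleCat.of R P).localizedModuleMkLinearMap S)
    haveI : Projective ((f.shortComplexKer.map F).X₂) :=
      (IsProjective.iff_projective ((ModuleCat.of R P).localizedModule S)).1 hFP
    have hdelta : ∀ z : Abelian.Ext f.shortComplexKer.X₁ N n,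
        F.mapExtAddHom M N (n + 1) (hS.extClass.comp z (add_comm 1 n)) =
          hS'.extClass.comp (F.mapExtAddHom _ N n z) (add_comm 1 n) := fun z => by
      rw [Functor.mapExtAddHom_apply, Abelian.Ext.mapExactFunctor_comp, Abelian.Ext.mapExactFunctor_extClass]
      rfl
    refine ⟨fun y => ?_, fun e => ⟨fun he => ?_, hback _ M e⟩⟩
    · obtain ⟨z, rfl⟩ := Abelian.Ext.contravariant_sequence_exact₃ hS' _ y
        (Abelian.Ext.eq_zero_of_projective _) (add_comm 1 n)
      obtain ⟨z0, s, hs⟩ := (ih f.shortComplexKer.X₁).1 z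
      refine ⟨hS.extClass.comp z0 (add_comm 1 n), s, ?_⟩
      rw [hdelta, ← hs]
      exact (Abelian.Ext.comp_smul _ _ _ _).symm
    · obtain ⟨z0, rfl⟩ := Abelian.Ext.contravariant_sequence_exact₃ hS _ e
        (Abelian.Ext.eq_zero_of_projective _) (add_comm 1 n)
      rw [hdelta] at he
      obtain ⟨w, hw⟩ := Abelian.Ext.contravariant_sequence_exact₁ hS' _ _ _ he
      obtain ⟨w0, t, ht⟩ := (ih (ModuleCat.of R P)).1 w
      have hz : F.mapExtAddHom _ N n ((t : R) • z0 -
          (Abelian.Ext.mk₀ f.shortComplexKer.f).comp w0 (zero_add n)) = 0 := by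
        rw [map_sub, mapExt_smul, sub_eq_zero]
        refine ((congrArg (fun q => algebraMap R (Localization S) (t : R) • q) hw.symm).trans
          (Abelian.Ext.comp_smul _ _ _ _).symm).trans ?_
        refine (congrArg (fun q => Abelian.Ext.comp (Abelian.Ext.mk₀ (f.shortComplexKer.map F).f) q (zero_add n)) ht).trans ?_
        rw [Functor.mapExtAddHom_apply, Functor.mapExtAddHom_apply, Abelian.Ext.mapExactFunctor_comp,
          Abelian.Ext.mapExactFunctor_mk₀]
        rfl
      obtain ⟨v, hv⟩ := ((ih f.shortComplexKer.X₁).2 _).1 hz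
      refine ⟨v * t, ?_⟩
      rw [smul_sub, smul_smul, sub_eq_zero] at hv
      rw [Submonoid.coe_mul, ← Abelian.Ext.comp_smul, hv, Abelian.Ext.comp_smul,
        ShortComplex.ShortExact.extClass_comp_assoc, smul_zero]

/-- Let R be a Noetherian commutative ring, S a multiplicative subset of R, and M, N finitely generated
R-modules. For i ≥ 0 consider the map Ext^i_R(M, N) → Ext^i_{S⁻¹R}(S⁻¹M, S⁻¹N) induced on Ext groups
(computed in the categories of modules) by the exact localization functor M ↦ S⁻¹M. Then this map
exhibits its target as the localization S⁻¹ Ext^i_R(M, N): every element of the target, after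
multiplication by some s ∈ S, is the image of an element of Ext^i_R(M, N), and an element of
Ext^i_R(M, N) maps to zero if and only if it is annihilated by some element of S. (Equivalently, the
induced map identifies S⁻¹Ext^i_R(M, N) with Ext^i_{S⁻¹R}(S⁻¹M, S⁻¹N).) -/
theorem result (R : Type u) [CommRing R] [IsNoetherianRing R]
    (S : Submonoid R) (M N : ModuleCat.{u} R) [Module.Finite R M] [Module.Finite R N] (i : ℕ) :
    (∀ y : Abelian.Ext ((ModuleCat.localizedModuleFunctor.{u} S).obj M) ((ModuleCat.localizedModuleFunctor.{u} S).obj N) i,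
        ∃ (e : Abelian.Ext M N i) (s : S),
          algebraMap R (Localization S) (s : R) • y = (ModuleCat.localizedModuleFunctor.{u} S).mapExtAddHom M N i e) ∧
      (∀ e : Abelian.Ext M N i,
        (ModuleCat.localizedModuleFunctor.{u} S).mapExtAddHom M N i e = 0 ↔ ∃ s : S, (s : R) • e = 0) := by
  exact key R S N i M

end Groth.Agent.S14412
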