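import Groth.Statements.S14417
import Groth.Agent.SmoothCrit.Omega
import Groth.Agent.OmegaField.Basis
import Mathlib.RingTheory.Smooth.Field
-- import your own Groth.Agent.* helpers here

set_option autoImplicit false
universe u
open CategoryTheory AlgebraicGeometry
open Variety

namespace Groth.Agent.S14417

/-- A smooth chart around a point of the smooth locus, with its relative dimension. -/
theorem exists_chart {X Y : Scheme.{u}} (π : X ⟶ Y) [LocallyOfFinitePresentation π] {x : X}
    (hx : x ∈ π.smoothLocus) : ∃ (W : Y.Opens) (_ : IsAffineOpen W) (V : X.Opens) (_ : IsAffineOpen V) (_ : x ∈ V)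
      (e : V ≤ π ⁻¹ᵁ W) (m : ℕ), (π.appLE W V e).hom.IsStandardSmoothOfRelativeDimension m := by
  haveI : LocallyOfFinitePresentation (π.smoothLocus.ι ≫ π) := inferInstance
  haveI : Smooth (π.smoothLocus.ι ≫ π) := by
    rw [← Scheme.Hom.smoothLocus_eq_top_iff, ← Scheme.Hom.preimage_smoothLocus_eq, ← top_le_iff]
    exact fun z _ => z.2
  obtain ⟨W, hW, V, hV, hxV, e, hs⟩ := Smooth.exists_isStandardSmooth (π.smoothLocus.ι ≫ π) ⟨x, hx⟩
  have e' : π.smoothLocus.ι ''ᵁ V ≤ π ⁻¹ᵁ W := by
    rintro _ ⟨z, hz, rfl⟩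
    exact e hz
  refine ⟨W, hW, π.smoothLocus.ι ''ᵁ V, hV.image_of_isOpenImmersion _, ⟨_, hxV, rfl⟩, e', ?_⟩
  have h1 : (π.smoothLocus.ι ≫ π).appLE W V e = π.appLE W (π.smoothLocus.ι ''ᵁ V) e' ≫ (π.smoothLocus.ι.appIso V).hom := by
    rw [Scheme.Hom.appIso_hom', Scheme.Hom.appLE_comp_appLE]
  have hs' : (π.appLE W (π.smoothLocus.ι ''ᵁ V) e').hom.IsStandardSmooth := by
    rw [h1] at hs
    exact (RingHom.isStandardSmooth_respectsIso.cancel_right_isIso _ _).1 hs
  algebraize [(π.appLE W (π.smoothLocus.ι ''ᵁ V) e').hom]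
  obtain ⟨ι, σ, _, _, ⟨P⟩⟩ := Algebra.IsStandardSmooth.out (R := Γ(Y, W)) (S := Γ(X, π.smoothLocus.ι ''ᵁ V)) (self := hs')
  exact ⟨P.dimension, ι, σ, _, ‹_›, ⟨P, rfl⟩⟩

/-- Generic smoothness on the source: let π : X → Y be a dominant morphism of finite type between
integral Noetherian schemes, sending the generic point of X to that of Y, such that the function
field K(Y) (equivalently K(X)) has characteristic zero, and let n be the transcendence degree of
K(X) over K(Y). Then there is a nonempty (equivalently dense) open subscheme U of X on which π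
restricts to a smooth morphism U → Y of relative dimension n. -/
theorem result
    (X Y : Scheme.{u}) [IsIntegral X] [IsIntegral Y] [IsNoetherian X] [IsNoetherian Y]
    (π : X ⟶ Y) [LocallyOfFiniteType π] [QuasiCompact π]
    (hdom : π.base (genericPoint X) = genericPoint Y) [CharZero Y.functionField]
    (n : ℕ) (hn : @Algebra.trdeg (Y.presheaf.stalk (π.base (genericPoint X))) X.functionField _ _
      (π.stalkMap (genericPoint X)).hom.toAlgebra = n) :
    ∃ U : X.Opens, (U : Set X).Nonempty ∧ SmoothOfRelativeDimension n (U.ι ≫ π) := by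
  haveI : LocallyOfFinitePresentation π := inferInstance
  set ξ := genericPoint X
  have hfield : IsField (Y.presheaf.stalk (π.base ξ)) := by
    rw [hdom]; exact Field.toIsField Y.functionField
  haveI : CharZero (Y.presheaf.stalk (π.base ξ)) := by
    rw [hdom]; exact ‹CharZero Y.functionField›
  letI : Field (Y.presheaf.stalk (π.base ξ)) := hfield.toField
  letI : Algebra (Y.presheaf.stalk (π.base ξ)) X.functionField := (π.stalkMap ξ).hom.toAlgebra
  haveI : Algebra.EssFiniteType (Y.presheaf.stalk (π.base ξ)) X.functionField := by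
    obtain ⟨W, hW, hηW, -⟩ := exists_isAffineOpen_mem_and_subset (x := π.base ξ) (U := ⊤) trivial
    obtain ⟨V, hV, hξV, eV⟩ := exists_isAffineOpen_mem_and_subset (x := ξ) (U := π ⁻¹ᵁ W) hηW
    letI := (π.appLE W V eV).hom.toAlgebra
    letI : Algebra Γ(X, V) X.functionField := (X.presheaf.germ V ξ hξV).hom.toAlgebra
    letI : Algebra Γ(Y, W) (Y.presheaf.stalk (π.base ξ)) := (Y.presheaf.germ W (π.base ξ) (eV hξV)).hom.toAlgebra
    letI : Algebra Γ(Y, W) X.functionField := ((X.presheaf.germ V ξ hξV).hom.comp (π.appLE W V eV).hom).toAlgebra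
    haveI : IsScalarTower Γ(Y, W) Γ(X, V) X.functionField := IsScalarTower.of_algebraMap_eq fun _ => rfl
    haveI : IsScalarTower Γ(Y, W) (Y.presheaf.stalk (π.base ξ)) X.functionField := by
      refine IsScalarTower.of_algebraMap_eq' ?_
      show ((π.appLE W V eV) ≫ X.presheaf.germ V ξ hξV).hom =
        (Y.presheaf.germ W (π.base ξ) (eV hξV) ≫ π.stalkMap ξ).hom
      rw [Scheme.Hom.germ_stalkMap]
      congr 1
      rw [Scheme.Hom.appLE, Category.assoc, X.presheaf.germ_res]
    haveI : Algebra.FiniteType Γ(Y, W) Γ(X, V) := π.finiteType_appLE hW hV eV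
    haveI : IsLocalization.AtPrime X.functionField (hV.primeIdealOf ⟨ξ, hξV⟩).asIdeal :=
      hV.isLocalization_stalk ⟨ξ, hξV⟩
    haveI : Algebra.EssFiniteType Γ(X, V) X.functionField :=
      Algebra.EssFiniteType.of_isLocalization _ (hV.primeIdealOf ⟨ξ, hξV⟩).asIdeal.primeCompl
    haveI : Algebra.EssFiniteType Γ(Y, W) X.functionField := Algebra.EssFiniteType.comp _ Γ(X, V) _
    exact Algebra.EssFiniteType.of_comp Γ(Y, W) _ _
  haveI : PerfectField (Y.presheaf.stalk (π.base ξ)) := PerfectField.ofCharZero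
  have hsm : ξ ∈ π.smoothLocus :=
    (Algebra.FormallySmooth.of_perfectField : Algebra.FormallySmooth (Y.presheaf.stalk (π.base ξ)) X.functionField)
  obtain ⟨W, hW, V, hV, hξV, e, m, hm⟩ := exists_chart π hsm
  have hrk : Module.finrank X.functionField (Ω[X.functionField⁄Y.presheaf.stalk (π.base ξ)]) = n := by
    obtain ⟨T, hT⟩ := exists_isTranscendenceBasis (Y.presheaf.stalk (π.base ξ)) X.functionField
    haveI := hT.isAlgebraic_field
    obtain ⟨b, -⟩ := OmegaField.exists_basis (Y.presheaf.stalk (π.base ξ)) X.functionField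
      (Subtype.val : T → X.functionField) hT.1 inferInstance
    have h1 : Cardinal.mk T = (n : Cardinal.{u}) := hT.cardinalMk_eq_trdeg.trans hn
    rw [Module.finrank_eq_nat_card_basis b, Nat.card, h1, Cardinal.toNat_natCast]
  have hch : letI := (π.appLE W V e).hom.toAlgebra
      Module.Free Γ(X, V) Ω[Γ(X, V)⁄Γ(Y, W)] ∧ Module.Finite Γ(X, V) Ω[Γ(X, V)⁄Γ(Y, W)] ∧
        Module.finrank Γ(X, V) Ω[Γ(X, V)⁄Γ(Y, W)] = m := by
    letI := (π.appLE W V e).hom.toAlgebra
    haveI : Algebra.IsStandardSmoothOfRelativeDimension m Γ(Y, W) Γ(X, V) := hm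
    haveI : Algebra.IsStandardSmooth Γ(Y, W) Γ(X, V) :=
      Algebra.IsStandardSmoothOfRelativeDimension.isStandardSmooth m
    haveI : Nonempty V := ⟨⟨ξ, hξV⟩⟩
    exact ⟨inferInstance, inferInstance, Module.finrank_eq_of_rank_eq
      (Algebra.IsStandardSmoothOfRelativeDimension.rank_kaehlerDifferential (R := Γ(Y, W)) (S := Γ(X, V)) m)⟩
  obtain rfl : m = n := ((SmoothCrit.free_stalk π hW hV e hξV m hch).2.2).symm.trans hrk
  refine ⟨V, ⟨ξ, hξV⟩, ?_⟩
  haveI : IsAffine (V : Scheme.{u}) := hV
  haveI : IsAffine (W : Scheme.{u}) := hW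
  haveI : SmoothOfRelativeDimension m (π.resLE W V e) := by
    rw [HasRingHomProperty.iff_of_isAffine (P := @SmoothOfRelativeDimension m)]
    refine RingHom.locally_of RingHom.isStandardSmoothOfRelativeDimension_respectsIso _ ?_
    exact (RingHom.isStandardSmoothOfRelativeDimension_respectsIso.arrow_mk_iso_iff (arrowResLEAppIso π W V e)).2 hm
  rw [← Scheme.Hom.resLE_comp_ι π e]
  simpa using (inferInstance : SmoothOfRelativeDimension (m + 0) (π.resLE W V e ≫ W.ι))

end Groth.Agent.S14417
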