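import Groth.Statements.S14423
import Groth.Agent.S14422
import Mathlib.RingTheory.MvPolynomial.Ideal
import Mathlib.LinearAlgebra.TensorProduct.RightExactness

set_option autoImplicit false
universe u
open CategoryTheory
open CAlg

namespace Groth.Agent.S14423

/-- Graded freeness criterion: let k be a field, S = k[x_0, …, x_n] with its standard grading by degree,
and M a finitely generated graded S-module. If Tor_1^S(M, k) = 0, where k = S/S_+ (S modulo the
ideal of polynomials with zero constant term) and Tor_1^S(M, ·) is the first left derived functor of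
M ⊗_S ·, then M is free with a basis of homogeneous elements, i.e. M is isomorphic as a graded
module to a finite direct sum of shifted copies S(−d_i). (Here the module is graded in non-negative
degrees; the published statement allows any integer degrees.) -/
theorem result (k : Type u) [Field k] (n : ℕ)
    (M : Type u) [AddCommGroup M] [Module (MvPolynomial (Fin (n + 1)) k) M]
    [Module.Finite (MvPolynomial (Fin (n + 1)) k) M]
    (ℳ : ℕ → AddSubgroup M)
    [SetLike.GradedSMul (MvPolynomial.homogeneousSubmodule (Fin (n + 1)) k) ℳ]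
    [DirectSum.Decomposition ℳ]
    (h : Limits.IsZero (((Tor (ModuleCat.{u} (MvPolynomial (Fin (n + 1)) k)) 1).obj
      (ModuleCat.of (MvPolynomial (Fin (n + 1)) k) M)).obj
      (ModuleCat.of (MvPolynomial (Fin (n + 1)) k)
        (MvPolynomial (Fin (n + 1)) k ⧸
          RingHom.ker (MvPolynomial.constantCoeff : MvPolynomial (Fin (n + 1)) k →+* k))))) :
    ∃ (ι : Type u) (b : Module.Basis ι (MvPolynomial (Fin (n + 1)) k) M),
      ∀ i, SetLike.IsHomogeneousElem ℳ (b i) := by
  classical
  let S := MvPolynomial (Fin (n + 1)) k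
  let m : Ideal S := RingHom.ker (MvPolynomial.constantCoeff : S →+* k)
  -- injectivity of `M ⊗ m → M`
  let SC : ShortComplex (ModuleCat.{u} S) := ShortComplex.mk (ModuleCat.ofHom (Submodule.subtype m)) (ModuleCat.ofHom m.mkQ) (by
    ext x; exact (Submodule.Quotient.mk_eq_zero m).2 x.2)
  have hS : SC.ShortExact :=
    { exact := (ShortComplex.moduleCat_exact_iff SC).2 fun x hx => ⟨⟨x, (Submodule.Quotient.mk_eq_zero m).1 hx⟩, rfl⟩
      mono_f := (ModuleCat.mono_iff_injective _).2 Subtype.val_injective
      epi_g := (ModuleCat.epi_iff_surjective _).2 m.mkQ_surjective }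
  obtain ⟨-, -, δ, w₁, w₂, -, hex⟩ := Groth.Agent.S14422.result S (ModuleCat.of S M) SC hS 0
  haveI : Mono (((Tor (ModuleCat.{u} S) 0).obj (ModuleCat.of S M)).map SC.f) :=
    hex.mono_g (Limits.IsZero.eq_of_src h _ _)
  haveI : Mono (((MonoidalCategory.tensoringLeft (ModuleCat.{u} S)).obj (ModuleCat.of S M)).map SC.f) :=
    by
      let e := ((MonoidalCategory.tensoringLeft (ModuleCat.{u} S)).obj (ModuleCat.of S M)).leftDerivedZeroIsoSelf
      rw [show ((MonoidalCategory.tensoringLeft (ModuleCat.{u} S)).obj (ModuleCat.of S M)).map SC.f =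
        (e.app SC.X₁).inv ≫ (((Tor (ModuleCat.{u} S) 0).obj (ModuleCat.of S M)).map SC.f) ≫ (e.app SC.X₂).hom by
          rw [Iso.eq_inv_comp]; exact (e.hom.naturality SC.f).symm]
      exact mono_comp' (IsIso.mono_of_iso _) (mono_comp' (by assumption) (IsIso.mono_of_iso _))
  have hinj : Function.Injective ((Submodule.subtype m).lTensor M) :=
    (ModuleCat.mono_iff_injective (((MonoidalCategory.tensoringLeft (ModuleCat.{u} S)).obj (ModuleCat.of S M)).map SC.f)).1 inferInstance
  -- minimal homogeneous generators
  obtain ⟨s, hs⟩ : ∃ s : Finset M, (∀ x ∈ s, SetLike.IsHomogeneousElem ℳ x) ∧ Submodule.span S (s : Set M) = ⊤ := by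
    obtain ⟨t, ht⟩ := Module.Finite.fg_top (R := S) (M := M)
    refine ⟨t.biUnion fun a => ((DirectSum.decompose ℳ a).support).image fun i => (DirectSum.decompose ℳ a i : M), ?_, ?_⟩
    · intro x hx
      simp only [Finset.mem_biUnion, Finset.mem_image] at hx
      obtain ⟨a, -, i, -, rfl⟩ := hx
      exact ⟨i, SetLike.coe_mem _⟩
    · rw [eq_top_iff, ← ht, Submodule.span_le]
      intro a ha
      rw [SetLike.mem_coe, ← DirectSum.sum_support_decompose ℳ a]
      refine Submodule.sum_mem _ fun i hi => Submodule.subset_span ?_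
      simp only [Finset.coe_biUnion, Finset.coe_image, Set.mem_iUnion, Set.mem_image]
      exact ⟨a, ha, i, hi, rfl⟩
  have hne : ∃ c, ∃ s : Finset M, s.card = c ∧ (∀ x ∈ s, SetLike.IsHomogeneousElem ℳ x) ∧ Submodule.span S (s : Set M) = ⊤ :=
    ⟨s.card, s, rfl, hs⟩
  obtain ⟨t, htc, hth, hts⟩ := Nat.find_spec hne
  have hthc : ∀ x : t, ∃ d : ℕ, (x : M) ∈ ℳ d := fun x => hth x.1 x.2
  choose d hd using hthc
  let φ : (t → S) →ₗ[S] M := Fintype.linearCombination S (fun x : t => (x : M))
  have hφ : Function.Surjective φ := by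
    rw [← LinearMap.range_eq_top, Fintype.range_linearCombination, Subtype.range_coe_subtype]
    simpa using hts
  have hcomp : ∀ (r : S) (a : M) (e : ℕ), a ∈ ℳ e → ∀ g : ℕ,
      (DirectSum.decompose ℳ (r • a) g : M) = if e ≤ g then MvPolynomial.homogeneousComponent (g - e) r • a else 0 := by
    intro r a e ha g
    conv_lhs => rw [← MvPolynomial.sum_homogeneousComponent r, Finset.sum_smul, DirectSum.decompose_sum,
      DFinsupp.finsetSum_apply, AddSubmonoidClass.coe_finsetSum]
    have hmem : ∀ i, MvPolynomial.homogeneousComponent i r • a ∈ ℳ (i + e) := fun i =>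
      SetLike.GradedSMul.smul_mem (MvPolynomial.homogeneousComponent_mem i r) ha
    rw [Finset.sum_eq_single (g - e)]
    · split_ifs with hle
      · exact DirectSum.decompose_of_mem_same ℳ (by simpa [Nat.sub_add_cancel hle] using hmem (g - e))
      · exact DirectSum.decompose_of_mem_ne ℳ (hmem _) (by omega)
    · intro i _ hi
      exact DirectSum.decompose_of_mem_ne ℳ (hmem i) (by omega)
    · intro hns
      rw [Finset.mem_range, not_lt] at hns
      rw [MvPolynomial.homogeneousComponent_eq_zero _ _ (by omega)]
      simp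
  have hrel : ∀ a : t → S, φ a = 0 → ∀ j, a j ∈ m := by
    intro a ha j
    show MvPolynomial.constantCoeff (a j) = 0
    by_contra hc0
    have hsum : ∑ x : t, (if d x ≤ d j then MvPolynomial.homogeneousComponent (d j - d x) (a x) • (x : M) else 0) = 0 := by
      have h1 : φ a = ∑ x : t, a x • (x : M) := Fintype.linearCombination_apply S _ a
      have h2 := congrArg (fun z => (DirectSum.decompose ℳ z (d j) : M)) (h1.symm.trans ha)
      dsimp only at h2
      rw [DirectSum.decompose_sum, DFinsupp.finsetSum_apply, AddSubmonoidClass.coe_finsetSum, DirectSum.decompose_zero,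
        Finset.sum_congr rfl (fun x _ => hcomp (a x) x (d x) (hd x) (d j))] at h2
      simpa using h2
    rw [← Finset.add_sum_erase Finset.univ _ (Finset.mem_univ j), if_pos le_rfl, Nat.sub_self,
      MvPolynomial.homogeneousComponent_zero] at hsum
    have hu : IsUnit (MvPolynomial.C (σ := Fin (n + 1)) (MvPolynomial.coeff 0 (a j))) :=
      (isUnit_iff_ne_zero.2 hc0).map MvPolynomial.C
    have hj : (j : M) ∈ Submodule.span S ((t.erase j.1 : Finset M) : Set M) := by
      refine (Submodule.smul_mem_iff_of_isUnit _ hu).1 ?_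
      rw [eq_neg_of_add_eq_zero_left hsum]
      refine Submodule.neg_mem _ (Submodule.sum_mem _ fun x hx => ?_)
      split_ifs
      · exact Submodule.smul_mem _ _ (Submodule.subset_span (Finset.mem_coe.2
          (Finset.mem_erase.2 ⟨fun e => Finset.ne_of_mem_erase hx (Subtype.ext e), x.2⟩)))
      · exact Submodule.zero_mem _
    have hlt := Nat.find_min' hne ⟨t.erase j.1, rfl, fun y hy => hth y (Finset.mem_of_mem_erase hy), by
      rw [eq_top_iff, ← hts, Submodule.span_le]
      intro y hy
      by_cases hyj : y = j.1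
      · exact hyj ▸ hj
      · exact Submodule.subset_span (Finset.mem_coe.2 (Finset.mem_erase.2 ⟨hyj, hy⟩))⟩
    have := Finset.card_erase_lt_of_mem j.2
    omega
  -- the kernel is absorbed by the irrelevant ideal
  let K := LinearMap.ker φ
  have hK : ∀ x ∈ K, x ∈ m • K := by
    intro x hx
    have hx' : φ x = 0 := hx
    let w : TensorProduct S (t → S) m := ∑ i, TensorProduct.tmul S (Pi.single i (1 : S) : t → S) (⟨x i, hrel x hx' i⟩ : m)
    have hw : φ.rTensor m w = 0 := by
      refine hinj ((TensorProduct.rid S M).injective ?_)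
      rw [map_zero, map_zero]
      simp only [w, map_sum, LinearMap.rTensor_tmul, LinearMap.lTensor_tmul, TensorProduct.rid_tmul, Submodule.subtype_apply]
      rw [← hx', show φ x = ∑ i, x i • (i : M) from Fintype.linearCombination_apply S _ x]
      refine Finset.sum_congr rfl fun i _ => ?_
      simp [φ, Fintype.linearCombination_apply, Pi.single_apply]
    obtain ⟨v, hv⟩ := ((rTensor_exact m (LinearMap.exact_subtype_ker_map φ) hφ) w).1 hw
    let β : TensorProduct S (t → S) m →ₗ[S] (t → S) := (TensorProduct.rid S (t → S)).toLinearMap ∘ₗ (Submodule.subtype m).lTensor (t → S)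
    have hβw : β w = x := by
      simp only [w, β, map_sum, LinearMap.comp_apply, LinearMap.lTensor_tmul, Submodule.subtype_apply, LinearEquiv.coe_coe,
        TensorProduct.rid_tmul]
      funext j
      simp [Finset.sum_apply, Pi.single_apply]
    rw [← hβw, ← hv]
    clear hv
    induction v using TensorProduct.induction_on with
    | zero => simp
    | tmul y c => 
      simp only [β, LinearMap.comp_apply, LinearMap.rTensor_tmul, LinearMap.lTensor_tmul, Submodule.subtype_apply,
        LinearEquiv.coe_coe, TensorProduct.rid_tmul]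
      exact Submodule.smul_mem_smul c.2 y.2
    | add p q hp hq => rw [map_add, map_add]; exact Submodule.add_mem _ hp hq
  have hpow : ∀ N, ∀ x ∈ K, ∀ i, x i ∈ m ^ N := by
    intro N
    induction N with
    | zero => intro x _ i; simp
    | succ N ih =>
      intro x hx
      refine Submodule.smul_induction_on (p := fun x => ∀ i, x i ∈ m ^ (N + 1)) (hK x hx) (fun c hc y hy i => ?_)
        (fun y z hy hz i => add_mem (hy i) (hz i))
      rw [pow_succ']
      exact Ideal.mul_mem_mul hc (ih y hy i)
  have hm : m ≤ MvPolynomial.idealOfVars (Fin (n + 1)) k := by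
    intro p hp
    rw [← pow_one (MvPolynomial.idealOfVars (Fin (n + 1)) k), MvPolynomial.mem_pow_idealOfVars_iff']
    intro e he
    rw [Nat.lt_one_iff, Finsupp.degree_eq_zero_iff] at he
    subst he
    exact hp
  have hφinj : Function.Injective φ := by
    rw [injective_iff_map_eq_zero]
    intro x hx
    funext i
    refine MvPolynomial.ext _ _ fun e => ?_
    have := Ideal.pow_right_mono hm (e.degree + 1) (hpow _ x hx i)
    rw [MvPolynomial.mem_pow_idealOfVars_iff'] at this
    simpa using this e (Nat.lt_succ_self _)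
  refine ⟨t, (Pi.basisFun S t).map (LinearEquiv.ofBijective φ ⟨hφinj, hφ⟩), fun i => ⟨d i, ?_⟩⟩
  rw [Module.Basis.map_apply, Pi.basisFun_apply]
  show φ (Pi.single i 1) ∈ ℳ (d i)
  simpa [φ, Fintype.linearCombination_apply, Pi.single_apply, Finset.sum_ite_eq'] using hd i

end Groth.Agent.S14423
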