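import Groth.Statements.S14426
import Groth.Agent.H1KoszulDepth.Basic

set_option autoImplicit false
universe u
open Koszul3

namespace Groth.Agent.S14426

open CategoryTheory CategoryTheory.Limits in
/-- Let (R, m) be a Noetherian local ring, M a nonzero finitely generated R-module and x_1, …, x_n
elements of m generating the ideal a. Then depth(a, M) ≤ n; the Koszul cohomology H^p(x; M) vanishes
for every p < depth(a, M); and H^r(x; M) is nonzero for r = depth(a, M). (Cohomological indexing
with H^n(x; M) = M/(x)M; in homological indexing this reads H_i = 0 for i > n − r and H_{n−r} ≠ 0.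
Koszul complex realised by iterated mapping cones, as in the prelude.) -/
theorem result {R : Type u} [CommRing R] [IsNoetherianRing R] [IsLocalRing R]
    (M : Type u) [AddCommGroup M] [Module R M] [Module.Finite R M] [Nontrivial M]
    (xs : List R) (hxs : ∀ x ∈ xs, x ∈ IsLocalRing.maximalIdeal R) :
    LocCoh.idealDepth (Ideal.span {x | x ∈ xs}) M ≤ xs.length ∧
      (∀ p : ℕ, (p : ℕ∞) < LocCoh.idealDepth (Ideal.span {x | x ∈ xs}) M → IsZero (CohIII.koszulH xs (ModuleCat.of R M) p)) ∧
      (∀ r : ℕ, LocCoh.idealDepth (Ideal.span {x | x ∈ xs}) M = r → ¬ IsZero (CohIII.koszulH xs (ModuleCat.of R M) r)) := by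
  haveI : Nontrivial (ModuleCat.of R M) := ‹Nontrivial M›
  obtain ⟨r, hr, hle⟩ := H1KoszulDepth.exists_depth_eq xs hxs (ModuleCat.of R M)
  obtain ⟨hlow, htop⟩ := H1KoszulDepth.main xs hxs r (ModuleCat.of R M) hr
  rw [show LocCoh.idealDepth (Ideal.span {x | x ∈ xs}) M = (r : ℕ∞) from hr]
  exact ⟨by exact_mod_cast hle, fun p hp => hlow p (by exact_mod_cast hp), fun r' hr' => by
    rw [show r' = r by exact_mod_cast hr'.symm]; exact htop⟩

end Groth.Agent.S14426
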