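import Groth.Statements.S14431
import Groth.Agent.BertiniSec.Chart
-- import your own Groth.Agent.* helpers here

set_option autoImplicit false
set_option backward.isDefEq.respectTransparency false
set_option backward.isDefEq.respectTransparency.types false
universe u
open CategoryTheory CategoryTheory.Limits AlgebraicGeometry
open Variety

open CategoryTheory.Limits Groth.Agent Groth.Agent.BertiniSec

namespace Groth.Agent.S14431

/-- Let k be an algebraically closed field of characteristic zero, X an integral k-scheme of finite type
which is smooth over k, L an invertible O_X-module and s_0, …, s_m global sections of L (morphisms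
O_X → L) generating L, i.e. their zero schemes have empty intersection (the sum of their zero ideal
sheaves is the unit ideal). Then the members of the linear system spanned by the s_i corresponding
to a nonempty Zariski-open set of parameters are smooth: there is a nonzero polynomial p in m + 1
variables over k such that for every c ∈ k^{m+1} with p(c) ≠ 0 the zero scheme of the section Σ c_i
s_i is smooth over k (equivalently, the corresponding divisor is reduced with smooth support). (The
published statement is for varieties, which are separated; this row does not assume X separated.) -/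
theorem result (k : Type u) [Field k] [IsAlgClosed k] [CharZero k]
    (X : Scheme.{u}) [X.Over (Spec (CommRingCat.of k))] [IsIntegral X]
    [Smooth (X ↘ Spec (CommRingCat.of k))] [QuasiCompact (X ↘ Spec (CommRingCat.of k))]
    (L : X.Modules) (hL : FlatMod.IsFinLocFreeOfRank 1 L) (m : ℕ)
    (s : Fin (m + 1) → (Coh.structureModule X ⟶ L))
    (hgen : ⨆ i : Fin (m + 1), PicF2.zeroScheme L (s i) = ⊤) :
    ∃ p : MvPolynomial (Fin (m + 1)) k, p ≠ 0 ∧ ∀ c : Fin (m + 1) → k, MvPolynomial.eval c p ≠ 0 →
      Smooth ((PicF2.zeroScheme L (∑ i : Fin (m + 1), Formal.smulMod k (Coh.structureModule X) (c i) ≫ s i)).subschemeι ≫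
        (X ↘ Spec (CommRingCat.of k))) := by
  have hL' : PicF.IsInvertible L := fun x =>
    let ⟨U, hx, ⟨e⟩⟩ := hL x
    ⟨U, hx, ⟨e ≪≫ coproductUniqueIso _⟩⟩
  obtain ⟨q, hq0, hq⟩ := exists_poly k hL' s 0 fun U hU e he hs b a hb ha => by
    letI := (secHom k U).toAlgebra
    haveI : Algebra.IsStandardSmooth k Γ(X, U) := hs
    obtain rfl : b = 0 := by
      have h := (he U le_rfl).1
      refine h ?_
      show b • AModX.res L le_rfl e = (0 : Γ(X, U)) • AModX.res L le_rfl e
      rw [zero_smul, show AModX.res L (le_refl U) e = e by simp [AModX.res], ← hb]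
      rfl
    have hspan : Ideal.span (Set.range a) = ⊤ := by
      have h := congrFun (congrArg Scheme.IdealSheafData.ideal hgen) ⟨U, hU⟩
      rw [Scheme.IdealSheafData.ideal_iSup, iSup_apply] at h
      refine top_le_iff.1 ?_
      rw [Scheme.IdealSheafData.ideal_top, Pi.top_apply] at h
      rw [← h, iSup_le_iff]
      intro i
      rw [ZeroSchX.ideal_zeroScheme hL', ZeroSchX.zeroIdealOn_eq_span (s i) he (ha i)]
      exact Ideal.span_mono (by simp)
    obtain ⟨q, hq0, hq⟩ := exists_poly_gen (k := k) a hspan
    exact ⟨q, hq0, fun c hc => by rw [zero_add]; exact hq c hc⟩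
  refine ⟨q, hq0, fun c hc => ?_⟩
  have h := hq c hc
  rw [show ∀ t : Coh.structureModule X ⟶ L, 0 + t = t from fun t => zero_add t] at h
  exact h

end Groth.Agent.S14431
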