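import Groth.Statements.S14438
import Groth.Agent.TameLib.Decomp

set_option autoImplicit false
universe u
open CAlg

namespace Groth.Agent.S14438

/-- Let (A, m) be a local ring, B a commutative A-algebra which is free of finite rank d as an A-module,
and assume that for every maximal ideal n of B containing mB the induced map of residue fields A/m →
B/n is bijective (as for the points of a fibre of a finite flat morphism of varieties over an
algebraically closed field). Then the multiplicities of the points of the fibre add up to the
degree: the sum over all such n of the length of the B_n-module (B/mB)_n equals d. -/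
theorem result (A B : Type u) [CommRing A] [IsLocalRing A] [CommRing B] [Algebra A B]
    [Module.Free A B] [Module.Finite A B] (d : ℕ) (hd : Module.finrank A B = d)
    (hres : ∀ (n : Ideal B) [n.IsMaximal] (h : Ideal.map (algebraMap A B) (IsLocalRing.maximalIdeal A) ≤ n),
      Function.Bijective (Ideal.quotientMap n (algebraMap A B) (Ideal.map_le_iff_le_comap.mp h))) :
    finsum (fun n : {n : MaximalSpectrum B // Ideal.map (algebraMap A B) (IsLocalRing.maximalIdeal A) ≤ n.asIdeal} =>
      Module.length (Localization.AtPrime n.1.asIdeal)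
        (LocalizedModule n.1.asIdeal.primeCompl (B ⧸ Ideal.map (algebraMap A B) (IsLocalRing.maximalIdeal A)))) = (d : ℕ∞) := by
  classical
  have hle : ∀ n : MaximalSpectrum B, Ideal.map (algebraMap A B) (IsLocalRing.maximalIdeal A) ≤ n.asIdeal := fun n => by
    rw [Ideal.map_le_iff_le_comap]
    haveI : Algebra.IsIntegral A B := Algebra.IsIntegral.of_finite A B
    exact (IsLocalRing.eq_maximalIdeal (Ideal.isMaximal_comap_of_isIntegral_of_isMaximal n.asIdeal)).ge
  set X := B ⧸ Ideal.map (algebraMap A B) (IsLocalRing.maximalIdeal A) with hX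
  haveI : Finite (MaximalSpectrum B) := by
    haveI : IsScalarTower A B X := inferInstance
    haveI : Module.Finite A X := Module.Finite.of_surjective (IsScalarTower.toAlgHom A B X).toLinearMap Ideal.Quotient.mk_surjective
    letI : Algebra (IsLocalRing.ResidueField A) X := (Ideal.Quotient.lift _ (algebraMap A X) fun a ha =>
      Ideal.Quotient.eq_zero_iff_mem.mpr (Ideal.mem_map_of_mem _ ha)).toAlgebra
    haveI : IsScalarTower A (IsLocalRing.ResidueField A) X := IsScalarTower.of_algebraMap_eq fun _ => rfl
    haveI : Module.Finite (IsLocalRing.ResidueField A) X := Module.Finite.of_restrictScalars_finite A _ _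
    haveI : IsArtinianRing X := IsArtinianRing.of_finite (IsLocalRing.ResidueField A) X
    refine Finite.of_injective (fun n : MaximalSpectrum B => (⟨n.asIdeal.map (Ideal.Quotient.mk _),
      Ideal.IsMaximal.map_of_surjective_of_ker_le Ideal.Quotient.mk_surjective (by rw [Ideal.mk_ker]; exact hle n)⟩ : MaximalSpectrum X)) ?_
    intro n n' h
    have h' := congrArg (fun q : MaximalSpectrum X => q.asIdeal.comap (Ideal.Quotient.mk _)) h
    rw [Ideal.comap_map_of_surjective _ Ideal.Quotient.mk_surjective, Ideal.comap_map_of_surjective _ Ideal.Quotient.mk_surjective] at h'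
    simp only [← RingHom.ker_eq_comap_bot, Ideal.mk_ker, sup_eq_left.mpr (hle n), sup_eq_left.mpr (hle n')] at h'
    exact MaximalSpectrum.ext h'
  haveI := Fintype.ofFinite (MaximalSpectrum B)
  have hlen : Module.length A X = d := by
    let b := Module.finBasisOfFinrankEq A B hd
    let m := IsLocalRing.maximalIdeal A
    have hmod : (Ideal.map (algebraMap A B) m).restrictScalars A = m • (⊤ : Submodule A B) := (Ideal.smul_top_eq_map m).symm
    let e : X ≃ₗ[A] (Fin d → A ⧸ m) :=
      ((Submodule.Quotient.restrictScalarsEquiv A _).symm.trans (Submodule.quotEquivOfEq _ _ hmod)).trans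
        ((Submodule.Quotient.equiv _ (m • (⊤ : Submodule A (Fin d → A))) b.equivFun (by
          rw [Submodule.map_smul'', Submodule.map_top, LinearEquiv.range])).trans
          (((TensorProduct.quotTensorEquivQuotSMul (Fin d → A) m).symm).trans
            (TensorProduct.piScalarRight A A (A ⧸ m) (Fin d))))
    haveI : IsSimpleModule A (A ⧸ m) := isSimpleModule_iff_quot_maximal.mpr ⟨m, inferInstance, ⟨LinearEquiv.refl _ _⟩⟩
    rw [e.length_eq, Module.length_pi]
    simp [Module.length_eq_one A (A ⧸ m)]
  have hfl : IsFiniteLength B X := by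
    obtain ⟨h1, h2⟩ := isFiniteLength_iff_isNoetherian_isArtinian.mp
      (Module.length_ne_top_iff.mp (by rw [hlen]; exact ENat.natCast_ne_top d : Module.length A X ≠ ⊤))
    exact isFiniteLength_iff_isNoetherian_isArtinian.mpr ⟨isNoetherian_of_tower A h1, isArtinian_of_tower A h2⟩
  have hdeg : ∀ q : MaximalSpectrum B, TameLib.deg A q = 1 := fun q => by
    have h1 := TameLib.length_residue (A := A) q
    let f : (A ⧸ IsLocalRing.maximalIdeal A) →ₗ[A] (B ⧸ q.asIdeal) :=
      { toFun := Ideal.quotientMap q.asIdeal (algebraMap A B) (Ideal.map_le_iff_le_comap.mp (hle q))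
        map_add' := map_add _
        map_smul' := fun a x => by
          rw [Algebra.smul_def, map_mul, RingHom.id_apply, Algebra.smul_def]
          congr 1 }
    haveI : IsSimpleModule A (A ⧸ IsLocalRing.maximalIdeal A) := isSimpleModule_iff_quot_maximal.mpr ⟨_, inferInstance, ⟨LinearEquiv.refl _ _⟩⟩
    rw [← (LinearEquiv.ofBijective f (hres q.asIdeal (hle q))).length_eq, Module.length_eq_one] at h1
    exact_mod_cast h1.symm
  rw [← hlen, TameLib.length_eq_sum (A := A) X hfl, finsum_eq_sum_of_fintype]
  refine Fintype.sum_equiv (Equiv.subtypeUnivEquiv hle) _ _ fun n => ?_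
  rw [hdeg, Nat.cast_one, one_mul]
  rfl

end Groth.Agent.S14438
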