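import Groth.Statements.S14443
import Groth.Agent.SmoothCrit.FibreDim
import Groth.Agent.VarDim.Top
import Groth.Agent.OmegaUniv.Unram
import Mathlib.RingTheory.Jacobson.Ring
import Mathlib.AlgebraicGeometry.Noetherian
-- import your own Groth.Agent.* helpers here

set_option autoImplicit false
universe u
open CategoryTheory CategoryTheory.Limits AlgebraicGeometry
attribute [local instance] FixPt.fiberModule
open Variety

namespace Groth.Agent.S14443

/-- Let k be an algebraically closed field, f : X → Y a morphism of k-schemes of finite type, x a closed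
point of X and Z an irreducible closed subset of the fibre f⁻¹(f(x)) passing through x, of dimension
r. Then dim_k (Ω_{X/Y})_(x) ≥ r, where (Ω_{X/Y})_(x) = Ω_{X/Y,x} ⊗ k(x) is the fibre of the sheaf of
relative differentials at x, a vector space over k(x) = k (x is closed and k algebraically closed),
regarded as a k-module through k → O_{X,x}. (The published statement is for varieties, i.e. X and Y
reduced and separated; this row assumes neither. Since X is locally of finite type over a field it
is locally Noetherian, so f is quasi-separated; the argument, T_x Z ⊆ ker(df_x) and dim T_x Z ≥ dim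
Z, uses neither reducedness nor separatedness.) -/
theorem result (k : Type u) [Field k] [IsAlgClosed k]
    {X Y : Scheme.{u}} [X.Over (Spec (CommRingCat.of k))] [Y.Over (Spec (CommRingCat.of k))]
    [LocallyOfFiniteType (X ↘ Spec (CommRingCat.of k))] [QuasiCompact (X ↘ Spec (CommRingCat.of k))]
    [LocallyOfFiniteType (Y ↘ Spec (CommRingCat.of k))] [QuasiCompact (Y ↘ Spec (CommRingCat.of k))]
    (f : X ⟶ Y) (hf : f ≫ (Y ↘ Spec (CommRingCat.of k)) = X ↘ Spec (CommRingCat.of k))
    (x : X) (hx : IsClosed ({x} : Set X)) (Z : Set X) (hZ : IsIrreducible Z) (hZc : IsClosed Z) (hxZ : x ∈ Z)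
    (hZf : Z ⊆ f.base ⁻¹' {f.base x}) (r : ℕ) (hr : topologicalKrullDim ↥Z = (r : WithBot ℕ∞)) :
    r ≤ Module.finrank k (FixPt.fiber (Omega.sheaf f) x) := by
  set qX := X ↘ Spec (CommRingCat.of k)
  set qY := Y ↘ Spec (CommRingCat.of k)
  haveI : IsLocallyNoetherian X := LocallyOfFiniteType.isLocallyNoetherian qX
  haveI : CompactSpace X := QuasiCompact.compactSpace_of_compactSpace qX
  haveI : QuasiSeparated f := inferInstance
  haveI : LocallyOfFiniteType (f ≫ qY) := by rw [hf]; infer_instance
  haveI : LocallyOfFiniteType f := locallyOfFiniteType_of_comp f qY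
  obtain ⟨W, hW, hxW, -⟩ := exists_isAffineOpen_mem_and_subset (x := f.base x) (U := ⊤) trivial
  obtain ⟨U, hU, hxU, e⟩ := exists_isAffineOpen_mem_and_subset (x := x) (U := f ⁻¹ᵁ W) hxW
  obtain ⟨ζ, hζ⟩ := QuasiSober.sober hZ hZc
  have hζU : ζ ∈ U := (hζ.specializes hxZ).mem_open U.isOpen hxU
  let γX : CommRingCat.of k ⟶ Γ(X, U) := (Scheme.ΓSpecIso (CommRingCat.of k)).inv ≫ qX.appLE ⊤ U le_top
  let γY : CommRingCat.of k ⟶ Γ(Y, W) := (Scheme.ΓSpecIso (CommRingCat.of k)).inv ≫ qY.appLE ⊤ W le_top
  letI : Algebra k Γ(X, U) := γX.hom.toAlgebra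
  letI : Algebra k Γ(Y, W) := γY.hom.toAlgebra
  letI : Algebra Γ(Y, W) Γ(X, U) := (f.appLE W U e).hom.toAlgebra
  haveI : IsScalarTower k Γ(Y, W) Γ(X, U) := IsScalarTower.of_algebraMap_eq fun c => by
    show γX.hom c = (γY ≫ f.appLE W U e).hom c
    simp only [γX, γY, Category.assoc, Scheme.Hom.appLE_comp_appLE, hf]
  haveI : Algebra.FiniteType k Γ(X, U) := (qX.finiteType_appLE (isAffineOpen_top _) hU le_top).comp
    (RingHom.FiniteType.of_surjective _ (Scheme.ΓSpecIso (CommRingCat.of k)).symm.commRingCatIsoToRingEquiv.surjective)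
  let m := hU.primeIdealOf ⟨x, hxU⟩
  let P := hU.primeIdealOf ⟨ζ, hζU⟩
  have hPm : P.asIdeal ≤ m.asIdeal := by
    refine (PrimeSpectrum.le_iff_specializes P m).2 (hU.fromSpec.isOpenEmbedding.isInducing.specializes_iff.1 ?_)
    rw [hU.fromSpec_primeIdealOf ⟨x, hxU⟩, hU.fromSpec_primeIdealOf ⟨ζ, hζU⟩]
    exact hζ.specializes hxZ
  haveI : m.asIdeal.IsMaximal := (PrimeSpectrum.isClosed_singleton_iff_isMaximal m).1 (by
    have h1 := hx.preimage hU.fromSpec.continuous
    have h2 : hU.fromSpec ⁻¹' {x} = {m} := Set.ext fun a =>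
      ⟨fun ha => hU.fromSpec.isOpenEmbedding.injective ((ha : hU.fromSpec a = x).trans (hU.fromSpec_primeIdealOf ⟨x, hxU⟩).symm), fun ha => by
        rw [Set.mem_singleton_iff.1 ha]; exact hU.fromSpec_primeIdealOf ⟨x, hxU⟩⟩
    rw [h2] at h1
    exact h1)
  have hk : Function.Bijective (algebraMap k (Γ(X, U) ⧸ m.asIdeal)) := by
    letI := Ideal.Quotient.field m.asIdeal
    haveI : Module.Finite k (Γ(X, U) ⧸ m.asIdeal) := finite_of_finite_type_of_isJacobsonRing k _
    exact IsAlgClosed.algebraMap_bijective_of_isIntegral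
  -- functions from the target are constant along `Z`
  have hsame : P.asIdeal.comap (algebraMap Γ(Y, W) Γ(X, U)) = m.asIdeal.comap (algebraMap Γ(Y, W) Γ(X, U)) := by
    have key : ∀ (z : X) (hz : z ∈ U), (hU.primeIdealOf ⟨z, hz⟩).asIdeal.comap (algebraMap Γ(Y, W) Γ(X, U)) =
        (hW.primeIdealOf ⟨f.base z, e hz⟩).asIdeal := fun z hz => by
      have h1 := congrArg (fun φ : Spec Γ(X, U) ⟶ Y => φ (hU.primeIdealOf ⟨z, hz⟩))
        (IsAffineOpen.SpecMap_appLE_fromSpec f hW hU e)
      simp only [Scheme.Hom.comp_apply] at h1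
      rw [hU.fromSpec_primeIdealOf ⟨z, hz⟩] at h1
      exact congrArg PrimeSpectrum.asIdeal (hW.fromSpec.isOpenEmbedding.injective
        (h1.trans (hW.fromSpec_primeIdealOf ⟨f.base z, e hz⟩).symm))
    rw [key ζ hζU, key x hxU]
    congr 3
    exact hZf hζ.mem
  let D := Γ(X, U) ⧸ P.asIdeal
  let mb : Ideal D := m.asIdeal.map (Ideal.Quotient.mk P.asIdeal)
  have hcomap : mb.comap (Ideal.Quotient.mk P.asIdeal) = m.asIdeal := by
    rw [Ideal.comap_map_of_surjective _ Ideal.Quotient.mk_surjective, ← RingHom.ker_eq_comap_bot, Ideal.mk_ker]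
    exact sup_eq_left.2 hPm
  haveI : mb.IsMaximal := by
    refine (Ideal.map_eq_top_or_isMaximal_of_surjective _ Ideal.Quotient.mk_surjective inferInstance).resolve_left fun h => ?_
    exact (‹m.asIdeal.IsMaximal›).ne_top (by rw [← hcomap, show mb = ⊤ from h, Ideal.comap_top])
  have hval : ∀ a : Γ(X, U), ∃ c : k, a - algebraMap k Γ(X, U) c ∈ m.asIdeal := fun a => by
    obtain ⟨c, hc⟩ := hk.2 (Ideal.Quotient.mk _ a)
    exact ⟨c, by rw [← Ideal.Quotient.eq_zero_iff_mem, map_sub, Ideal.Quotient.mk_algebraMap, hc, sub_self]⟩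
  choose val hval using hval
  have huniq : ∀ (a : Γ(X, U)) (c : k), a - algebraMap k Γ(X, U) c ∈ m.asIdeal → val a = c := fun a c hc => by
    refine hk.1 ?_
    rw [← Ideal.Quotient.mk_algebraMap, ← Ideal.Quotient.mk_algebraMap, Ideal.Quotient.eq,
      show algebraMap k Γ(X, U) (val a) - algebraMap k Γ(X, U) c =
        (a - algebraMap k Γ(X, U) c) - (a - algebraMap k Γ(X, U) (val a)) by ring]
    exact sub_mem hc (hval a)
  have hadd : ∀ a b, val (a + b) = val a + val b := fun a b => huniq _ _ (by
    rw [map_add, show a + b - (algebraMap k Γ(X, U) (val a) + algebraMap k Γ(X, U) (val b)) =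
      (a - algebraMap k Γ(X, U) (val a)) + (b - algebraMap k Γ(X, U) (val b)) by ring]
    exact add_mem (hval a) (hval b))
  have hmul : ∀ a b, val (a * b) = val a * val b := fun a b => huniq _ _ (by
    rw [map_mul, show a * b - algebraMap k Γ(X, U) (val a) * algebraMap k Γ(X, U) (val b) =
      (a - algebraMap k Γ(X, U) (val a)) * b + algebraMap k Γ(X, U) (val a) * (b - algebraMap k Γ(X, U) (val b)) by ring]
    exact add_mem (Ideal.mul_mem_right _ _ (hval a)) (Ideal.mul_mem_left _ _ (hval b)))
  let V := mb.Cotangent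
  let dfun : Γ(X, U) → V := fun a => mb.toCotangent
    ⟨Ideal.Quotient.mk P.asIdeal (a - algebraMap k Γ(X, U) (val a)), Ideal.mem_map_of_mem _ (hval a)⟩
  have hleib : ∀ a b, dfun (a * b) = a • dfun b + b • dfun a := fun a b => by
    show _ = a • mb.toCotangent _ + b • mb.toCotangent _
    rw [← algebraMap_smul D a, ← algebraMap_smul D b, ← map_smul, ← map_smul, ← map_add, Ideal.toCotangent_eq]
    show Ideal.Quotient.mk P.asIdeal (a * b - algebraMap k Γ(X, U) (val (a * b))) -
      (Ideal.Quotient.mk P.asIdeal a * Ideal.Quotient.mk P.asIdeal (b - algebraMap k Γ(X, U) (val b)) +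
        Ideal.Quotient.mk P.asIdeal b * Ideal.Quotient.mk P.asIdeal (a - algebraMap k Γ(X, U) (val a))) ∈ mb ^ 2
    rw [← map_mul, ← map_mul, ← map_add, ← map_sub, ← Ideal.map_pow]
    refine Ideal.mem_map_of_mem _ ?_
    have h2 := Ideal.mul_mem_mul (hval a) (hval b)
    rw [← pow_two] at h2
    rw [hmul, map_mul]
    convert neg_mem h2 using 1
    ring
  let d : Derivation Γ(Y, W) Γ(X, U) V := Derivation.mk'
    { toFun := dfun
      map_add' := fun a b => by
        show mb.toCotangent _ = mb.toCotangent _ + mb.toCotangent _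
        rw [← map_add]
        refine congrArg _ (Subtype.ext ?_)
        show Ideal.Quotient.mk P.asIdeal (a + b - algebraMap k Γ(X, U) (val (a + b))) =
          Ideal.Quotient.mk P.asIdeal (a - algebraMap k Γ(X, U) (val a)) +
            Ideal.Quotient.mk P.asIdeal (b - algebraMap k Γ(X, U) (val b))
        rw [← map_add, hadd, map_add]
        exact congrArg _ (by ring)
      map_smul' := fun b a => by
        have h0 : dfun (algebraMap Γ(Y, W) Γ(X, U) b) = 0 := by
          refine (congrArg mb.toCotangent (Subtype.ext ?_)).trans (map_zero _)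
          show Ideal.Quotient.mk P.asIdeal _ = 0
          rw [Ideal.Quotient.eq_zero_iff_mem]
          have hb : b - algebraMap k Γ(Y, W) (val (algebraMap Γ(Y, W) Γ(X, U) b)) ∈
              m.asIdeal.comap (algebraMap Γ(Y, W) Γ(X, U)) := by
            rw [Ideal.mem_comap, map_sub, ← IsScalarTower.algebraMap_apply]
            exact hval _
          rw [← hsame, Ideal.mem_comap, map_sub, ← IsScalarTower.algebraMap_apply] at hb
          exact hb
        rw [RingHom.id_apply, Algebra.smul_def, hleib, h0, smul_zero, add_zero, algebraMap_smul] }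
    hleib
  let ψ := d.liftKaehlerDifferential
  have hψ : Function.Surjective ψ := fun v => by
    obtain ⟨⟨w, hw⟩, rfl⟩ := Ideal.toCotangent_surjective _ v
    obtain ⟨a, ha, rfl⟩ := (Ideal.mem_map_iff_of_surjective _ Ideal.Quotient.mk_surjective).1 hw
    refine ⟨KaehlerDifferential.D _ _ a, ?_⟩
    rw [Derivation.liftKaehlerDifferential_comp_D]
    refine congrArg mb.toCotangent (Subtype.ext ?_)
    show Ideal.Quotient.mk P.asIdeal (a - algebraMap k Γ(X, U) (val a)) = _
    rw [huniq a 0 (by rwa [map_zero, sub_zero]), map_zero, sub_zero]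
  -- transport to the fibre of the sheaf
  have hq := OmegaUniv.isQCoh_omega f
  obtain ⟨l⟩ := Synt29.OmegaStalk.exists_linearEquiv_sections (OmegaUniv.isUniversal_dOmega f) hU hW e
  letI := QCoh.stalkAlg (X := X) hxU
  letI := QCoh.stalkModule (Omega.sheaf f) hxU
  haveI := QCoh.isScalarTower_stalk (Omega.sheaf f) hxU
  haveI := QCoh.isLocalization_stalk' hU hxU
  haveI := QCoh.isLocalizedModule_germLin hq hU hxU
  have hmbsm : ∀ a ∈ m.asIdeal, ∀ v : V, a • v = 0 := fun a ha v => by
    obtain ⟨w, rfl⟩ := Ideal.toCotangent_surjective _ v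
    rw [← algebraMap_smul D a, ← map_smul, Ideal.toCotangent_eq_zero, pow_two]
    exact Ideal.mul_mem_mul (Ideal.mem_map_of_mem _ ha) w.2
  have hscal : ∀ (a : Γ(X, U)) (v : V), a • v = val a • v := fun a v => by
    rw [← algebraMap_smul Γ(X, U) (val a) v, ← sub_eq_zero, ← sub_smul]
    exact hmbsm _ (hval a) v
  have hunit : ∀ t : m.asIdeal.primeCompl, IsUnit (algebraMap Γ(X, U) (Module.End Γ(X, U) V) t) := fun t => by
    have hc : val t ≠ 0 := fun h0 => t.2 (by simpa [h0] using hval t)
    rw [Module.End.isUnit_iff]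
    refine ⟨fun a b hab => ?_, fun b => ⟨(val t)⁻¹ • b, ?_⟩⟩
    · change (t : Γ(X, U)) • a = (t : Γ(X, U)) • b at hab
      rw [hscal, hscal] at hab
      exact smul_right_injective V hc hab
    · show (t : Γ(X, U)) • ((val t)⁻¹ • b) = b
      rw [hscal, smul_smul, mul_inv_cancel₀ hc, one_smul]
  let Φ := IsLocalizedModule.lift m.asIdeal.primeCompl (QCoh.germLin (Omega.sheaf f) hxU)
    (ψ ∘ₗ l.toLinearMap) hunit
  have hΦ : Function.Surjective Φ := fun v => by
    obtain ⟨ω, rfl⟩ := hψ v
    exact ⟨QCoh.germLin _ hxU (l.symm ω), (IsLocalizedModule.lift_apply _ _ _ _ _).trans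
      (congrArg ψ (l.apply_symm_apply ω))⟩
  have hkill : ∀ v ∈ IsLocalRing.maximalIdeal (X.presheaf.stalk x) •
      (⊤ : Submodule (X.presheaf.stalk x) ((Omega.sheaf f).presheaf.stalk x)), Φ v = 0 := fun v hv => by
    refine Submodule.smul_induction_on hv (fun z hz w _ => ?_) fun a b ha hb => by rw [map_add, ha, hb, add_zero]
    obtain ⟨⟨a, s⟩, has⟩ := IsLocalization.surj m.asIdeal.primeCompl z
    have ha : a ∈ m.asIdeal := by
      rw [← IsLocalization.AtPrime.to_map_mem_maximal_iff (X.presheaf.stalk x) m.asIdeal, ← has]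
      exact Ideal.mul_mem_right _ _ hz
    refine ((Module.End.isUnit_iff _).1 (hunit s)).1 ?_
    show (s : Γ(X, U)) • Φ (z • w) = (s : Γ(X, U)) • (0 : V)
    rw [smul_zero, ← map_smul, ← algebraMap_smul (X.presheaf.stalk x) (s : Γ(X, U)) (z • w), ← mul_smul, mul_comm, has,
      algebraMap_smul, map_smul, hmbsm a ha]
  have hstalk : ∀ c : k, Curv2.stalkMap k X x c = algebraMap Γ(X, U) (X.presheaf.stalk x) (algebraMap k Γ(X, U) c) := fun c => by
    show _ = X.presheaf.germ U x hxU (((Scheme.ΓSpecIso (CommRingCat.of k)).inv ≫ qX.appLE ⊤ U le_top).hom c)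
    rw [CommRingCat.comp_apply, Scheme.Hom.appLE, CommRingCat.comp_apply, TopCat.Presheaf.germ_res_apply]
    rfl
  let π : FixPt.fiber (Omega.sheaf f) x →ₗ[k] V :=
    { toFun := fun w => Quotient.liftOn' w (fun v => Φ v) fun a b hab => by
        rw [← sub_eq_zero, ← map_sub]
        exact hkill _ ((Submodule.quotientRel_def _).1 hab)
      map_add' := fun a b => Quotient.inductionOn₂' a b fun a b => map_add Φ a b
      map_smul' := fun c a => Quotient.inductionOn' a fun a => by
        show Φ (Curv2.stalkMap k X x c • a) = c • Φ a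
        rw [hstalk, algebraMap_smul, map_smul, algebraMap_smul] }
  have hπ : Function.Surjective π := fun v => by
    obtain ⟨w, rfl⟩ := hΦ v
    exact ⟨Submodule.Quotient.mk w, rfl⟩
  haveI : Module.Finite k (FixPt.fiber (Omega.sheaf f) x) := by
    haveI : Module.Finite (X.presheaf.stalk x) ((Omega.sheaf f).presheaf.stalk x) :=
      QCoh.finite_stalk_of_isFT hq (OmegaUniv.isFT_omega f) x
    obtain ⟨S, hS⟩ := (inferInstance : Module.Finite (X.presheaf.stalk x) (FixPt.fiber (Omega.sheaf f) x)).fg_top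
    refine ⟨⟨S, eq_top_iff.2 fun w hw => ?_⟩⟩
    replace hw : w ∈ Submodule.span (X.presheaf.stalk x) (S : Set (FixPt.fiber (Omega.sheaf f) x)) := by
      rw [hS]; trivial
    induction hw using Submodule.span_induction with
    | mem z hz => exact Submodule.subset_span hz
    | zero => exact zero_mem _
    | add a b _ _ ha hb => exact add_mem ha hb
    | smul z a _ ha =>
      obtain ⟨⟨u, t⟩, hut⟩ := IsLocalization.surj m.asIdeal.primeCompl z
      have ht : val t ≠ 0 := fun h0 => t.2 (by simpa [h0] using hval t)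
      have hzc : z - Curv2.stalkMap k X x (val u / val t) ∈ IsLocalRing.maximalIdeal (X.presheaf.stalk x) := by
        have h1 : u - algebraMap k Γ(X, U) (val u / val t) * t ∈ m.asIdeal := by
          rw [show u - algebraMap k Γ(X, U) (val u / val t) * t = (u - algebraMap k Γ(X, U) (val u)) -
            algebraMap k Γ(X, U) (val u / val t) * (t - algebraMap k Γ(X, U) (val t)) by
              rw [mul_sub, ← map_mul, div_mul_cancel₀ _ ht]; ring]
          exact sub_mem (hval u) (Ideal.mul_mem_left _ _ (hval _))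
        have h2 := (IsLocalization.AtPrime.to_map_mem_maximal_iff (X.presheaf.stalk x) m.asIdeal _).2 h1
        rw [map_sub, map_mul, ← hut, ← hstalk, ← sub_mul] at h2
        exact (Ideal.IsPrime.mem_or_mem inferInstance h2).resolve_right fun h3 =>
          t.2 ((IsLocalization.AtPrime.to_map_mem_maximal_iff (X.presheaf.stalk x) m.asIdeal _).1 h3)
      have hza : z • a = (val u / val t) • a := by
        show z • a = Curv2.stalkMap k X x (val u / val t) • a
        rw [← sub_eq_zero, ← sub_smul]
        obtain ⟨a, rfl⟩ := Submodule.Quotient.mk_surjective _ a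
        exact (Submodule.Quotient.mk_eq_zero _).2 (Submodule.smul_mem_smul hzc Submodule.mem_top)
      rw [hza]
      exact Submodule.smul_mem _ _ ha
  have hdim : ringKrullDim D = r := by
    rw [← VarDim.coheight_eq_ringKrullDim_quotient P, VarDim.deg_eq_coheight qX hU P,
      hU.fromSpec_primeIdealOf ⟨ζ, hζU⟩]
    rw [← hζ.def, VarDim.topologicalKrullDim_closure_singleton qX] at hr
    exact hr
  have hkD : Function.Surjective (algebraMap k (D ⧸ mb)) := fun z => by
    obtain ⟨z, rfl⟩ := Ideal.Quotient.mk_surjective z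
    obtain ⟨a, rfl⟩ := Ideal.Quotient.mk_surjective z
    refine ⟨val a, ?_⟩
    show Ideal.Quotient.mk mb (Ideal.Quotient.mk P.asIdeal (algebraMap k Γ(X, U) (val a))) = _
    rw [Ideal.Quotient.eq, ← map_sub, ← neg_mem_iff, ← map_neg, neg_sub]
    exact Ideal.mem_map_of_mem _ (hval a)
  exact (SmoothCrit.le_finrank_cotangent mb hkD r hdim).trans (LinearMap.finrank_le_finrank_of_surjective hπ)

end Groth.Agent.S14443
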