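import Groth.Statements.S14469
import Groth.Agent.RelCurveCoh.Smooth
-- import your own Groth.Agent.* helpers here

set_option autoImplicit false
set_option backward.isDefEq.respectTransparency false
set_option backward.isDefEq.respectTransparency.types false
set_option linter.style.haveILetI false
set_option maxHeartbeats 1000000
universe u
open CategoryTheory CategoryTheory.Limits AlgebraicGeometry
open Curves

namespace Groth.Agent.S14469
open Groth.Agent

/-- Let f : C → S be a proper smooth morphism of schemes whose fibres are geometrically connected, of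
dimension one and of genus g ≥ 2 (g the dimension of H¹ of the structure sheaf of each fibre over
its residue field), i.e. a family of smooth curves of genus g, and let n ≥ 2. Then f_*(Ω_{C/S}^{⊗n})
is finite locally free of rank (2n - 1)(g - 1) and R^i f_*(Ω_{C/S}^{⊗n}) = 0 for every i ≥ 1. (The
published statement also asserts that the formation of f_*(Ω_{C/S}^{⊗n}) commutes with every base
change S' → S; this row does not restate that clause.) -/
theorem result {C S : Scheme.{u}} (f : C ⟶ S)
    [IsProper f] [Smooth f] [GeometricallyConnected f]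
    (hdim : ∀ s : S, topologicalKrullDim ↥(f.fiber s) = 1) (g : ℕ) (hg : 2 ≤ g)
    (hgen : ∀ s : S, letI : (f.fiber s).Over (Spec (S.residueField s)) := ⟨f.fiberToSpecResidueField s⟩
      Curv2.genus (S.residueField s) (f.fiber s) = g)
    [HasInjectiveResolutions C.Modules] (n : ℕ) (hn : 2 ≤ n) :
    FlatMod.IsFinLocFreeOfRank ((2 * n - 1) * (g - 1)) ((Coh.push f).obj (CohB1.tensorPow (Omega.sheaf f) n)) ∧
      ∀ i : ℕ, 1 ≤ i → IsZero ((Coh.Rpush f i).obj (CohB1.tensorPow (Omega.sheaf f) n)) := by
  obtain ⟨hq, hfp, hfl⟩ := RelCurveCoh.tensorPow_omega_sheaf f hdim n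
  refine ⟨RelCurveCoh.isFinLocFreeOfRank_push hq
      (fun s => (RelCurveCoh.exchAt_tensorPow_omega f hdim hg hn hgen s).2)
      (fun s => (RelCurveCoh.tensorPow_omega_fibre f hdim hg hn s (hgen s)).1), fun i hi => ?_⟩
  refine CohPullLib.isZero_of_vanAt hq i fun y => ?_
  rcases Nat.lt_or_ge i 2 with h | h
  · obtain rfl : i = 1 := by omega
    exact (RelCurveCoh.exchAt_tensorPow_omega f hdim hg hn hgen y).1
  · exact RelCurveCoh.vanAt_of_two_le f hdim hq hfp hfl y h

end Groth.Agent.S14469
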