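import Groth.Statements.S14473
import Groth.Agent.GenusOneX.AlgClosed
import Groth.Agent.Lib.CurveSection

set_option autoImplicit false
set_option backward.isDefEq.respectTransparency false
set_option backward.isDefEq.respectTransparency.types false
set_option maxHeartbeats 1000000
set_option linter.style.haveILetI false
universe u
open CategoryTheory CategoryTheory.Limits AlgebraicGeometry
open Curves

namespace Groth.Agent.S14473

open Groth.Agent Groth.Agent.H23 Groth.Agent.H23.PicMul MonoidalCategory
open scoped Groth.Agent.H23.PicMul

set_option maxHeartbeats 1600000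
set_option linter.style.haveILetI false
set_option backward.isDefEq.respectTransparency false
set_option backward.isDefEq.respectTransparency.types false

attribute [local instance] GenusOneX.fibreOver

/-- Let k be an algebraically closed field and C a smooth proper connected curve over k (proper and
smooth over k, integral, of dimension one) of genus 1, the genus being the dimension of H¹(C, O_C).
Then the group of k-automorphisms of C is infinite: there are infinitely many automorphisms of the
scheme C over Spec k. -/
theorem result (k : Type u) [Field k] [IsAlgClosed k]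
    (C : Scheme.{u}) [C.Over (Spec (CommRingCat.of k))] (hC : Curve.IsSmoothProperCurve k C (C ↘ (Spec (CommRingCat.of k))))
    (hg : Curv2.genus k C = 1) :
    Infinite {e : C ≅ C // e.hom ≫ (C ↘ (Spec (CommRingCat.of k))) = C ↘ (Spec (CommRingCat.of k))} := by
  classical
  obtain ⟨hp, hs, hi, hdim⟩ := hC
  haveI := hp; haveI := hs; haveI := hi
  let p := C ↘ Spec (CommRingCat.of k)
  obtain ⟨hsm, hgc, hg0⟩ := GenusOneX.curve_setup p hdim hg
  haveI := hsm; haveI := hgc
  haveI := CurveCohLib.isNoetherian_of_proper (k := k) (X := C)
  haveI : Infinite {x : C // IsClosed ({x} : Set C)} := by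
    refine not_finite_iff_infinite.1 fun hf => ?_
    haveI := hf
    haveI := Fintype.ofFinite {x : C // IsClosed ({x} : Set C)}
    obtain ⟨S, hS, hcl⟩ := CurveSection.exists_closed_finset k (X := C) hdim (Fintype.card {x : C // IsClosed ({x} : Set C)} + 1)
    have h1 := Finset.card_le_univ (S.subtype (fun x => IsClosed ({x} : Set C)))
    rw [Finset.card_subtype, Finset.filter_true_of_mem hcl, hS] at h1
    omega
  obtain ⟨x₀, hx₀⟩ := (inferInstance : Nonempty {x : C // IsClosed ({x} : Set C)})
  let o := GenusOneX.point p x₀ hx₀
  let F : {x : C // IsClosed ({x} : Set C)} → {e : C ≅ C // e.hom ≫ p = p} := fun x =>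
    ⟨(Over.forget _).mapIso (GenusOneX.translIso p hg0 o (GenusOneX.point p x.1 x.2)),
      Over.w (GenusOneX.translIso p hg0 o (GenusOneX.point p x.1 x.2)).hom⟩
  refine Infinite.of_injective F fun x y hxy => Subtype.ext ?_
  have h1 : (o ≫ GenusOneX.transl p hg0 o (GenusOneX.point p x.1 x.2)).left =
      (o ≫ GenusOneX.transl p hg0 o (GenusOneX.point p y.1 y.2)).left :=
    congrArg (fun e : {e : C ≅ C // e.hom ≫ p = p} => o.left ≫ e.1.hom) hxy
  rw [GenusOneX.origin_transl, GenusOneX.origin_transl] at h1
  have h2 := congrArg (fun m : Spec (CommRingCat.of k) ⟶ C => m (IsLocalRing.closedPoint k)) h1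
  exact (GenusOneX.point_left_apply p x.1 x.2 (IsLocalRing.closedPoint k)).symm.trans
    (h2.trans (GenusOneX.point_left_apply p y.1 y.2 (IsLocalRing.closedPoint k)))

end Groth.Agent.S14473
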