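import Groth.Statements.S14474
import Groth.Agent.NodeLib.NodalGood
-- import your own Groth.Agent.* helpers here

set_option autoImplicit false
set_option backward.isDefEq.respectTransparency false
set_option backward.isDefEq.respectTransparency.types false
set_option linter.style.haveILetI false
set_option maxHeartbeats 1000000
universe u
open CategoryTheory CategoryTheory.Limits AlgebraicGeometry
open Curves

namespace Groth.Agent.S14474
open Groth.Agent

/-- Let π : C → S be a proper, flat morphism of finite presentation all of whose fibres have every
irreducible component of dimension one (every geometric fibre is a curve). Then the set of points s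
of S such that the fibre C_s, as a scheme over κ(s), has at-worst-nodal singularities (each closed
point has a smooth open neighbourhood or is a node) is open in S. -/
theorem result {C S : Scheme.{u}} (π : C ⟶ S)
    [IsProper π] [Flat π] [LocallyOfFinitePresentation π]
    (hfib : ∀ s : S, ∀ Z ∈ irreducibleComponents (↥(π.fiber s) : Type u), topologicalKrullDim Z = 1) :
    IsOpen {s : S | letI : (π.fiber s).Over (Spec (S.residueField s)) := ⟨π.fiberToSpecResidueField s⟩
      Curv2.AtWorstNodal (S.residueField s) (π.fiber s)} := by
  have key : {s : S | letI : (π.fiber s).Over (Spec (S.residueField s)) := ⟨π.fiberToSpecResidueField s⟩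
      Curv2.AtWorstNodal (S.residueField s) (π.fiber s)} =
      (π '' {p : C | (∃ U : C.Opens, p ∈ U ∧ Smooth (U.ι ≫ π)) ∨
        @Curv2.IsNode (S.residueField (π p)) _ (π.fiber (π p)) ⟨π.fiberToSpecResidueField (π p)⟩ (π.asFiber p)}ᶜ)ᶜ := by
    ext s
    letI : (π.fiber s).Over (Spec (CommRingCat.of (S.residueField s))) := ⟨π.fiberToSpecResidueField s⟩
    haveI : LocallyOfFinitePresentation (π.fiberToSpecResidueField s) :=
      MorphismProperty.pullback_snd _ _ inferInstance
    haveI : LocallyOfFinitePresentation (π.fiber s ↘ Spec (CommRingCat.of (S.residueField s))) :=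
      inferInstanceAs (LocallyOfFinitePresentation (π.fiberToSpecResidueField s))
    haveI : LocallyOfFiniteType (π.fiber s ↘ Spec (CommRingCat.of (S.residueField s))) := inferInstance
    have hd := NodeLib.dim_le_one_of_components (k := S.residueField s) (X := π.fiber s)
      (π.fiber s ↘ Spec (CommRingCat.of (S.residueField s))) (hfib s)
    constructor
    · rintro h ⟨p, hp, hs⟩
      change π p = s at hs
      subst hs
      apply hp
      rcases (NodeLib.atWorstNodal_iff (k := S.residueField (π p)) (X := π.fiber (π p)) hd).mp h (π.asFiber p) with
        hsm | hn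
      · refine Or.inl ((NodeLib.exists_smooth_nhd_iff' π p).mpr ?_)
        have h1 : π.asFiber p ∈ (π.fiberToSpecResidueField (π p)).smoothLocus := hsm
        rwa [H1GeomRk.mem_fibre_smoothLocus_iff π (π p), π.fiberι_asFiber] at h1
      · exact Or.inr hn
    · intro h w hw
      have hp : π (π.fiberι s w) = s := by
        have := Set.mem_range_self (f := (π.fiberι s).base) w
        rw [Scheme.Hom.range_fiberι] at this
        exact this
      have hgood := not_not.mp fun hn => h ⟨π.fiberι s w, hn, hp⟩
      generalize hq : π.fiberι s w = p at hgood hp
      subst hp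
      have hwp : π.asFiber p = w := (π.fiberι (π p)).isEmbedding.injective ((π.fiberι_asFiber p).trans hq.symm)
      rcases hgood with hsm | hn
      · refine Or.inl ((NodeLib.exists_smooth_nhd_iff (k := S.residueField (π p)) (X := π.fiber (π p)) w).mpr ?_)
        show w ∈ (π.fiberToSpecResidueField (π p)).smoothLocus
        rw [H1GeomRk.mem_fibre_smoothLocus_iff π (π p), hq]
        exact (NodeLib.exists_smooth_nhd_iff' π p).mp hsm
      · exact Or.inr (hwp ▸ hn)
  rw [key]
  exact ((π.isClosedMap _ (NodeLib.isOpen_good π).isClosed_compl)).isOpen_compl

end Groth.Agent.S14474
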