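import Groth.Statements.S14486
import Groth.Agent.SurfRR.Trivial
-- import your own Groth.Agent.* helpers here

set_option autoImplicit false
set_option backward.isDefEq.respectTransparency false
set_option backward.isDefEq.respectTransparency.types false
set_option linter.style.haveILetI false
set_option maxHeartbeats 1000000
universe u
open CategoryTheory CategoryTheory.Limits AlgebraicGeometry
open Surf

namespace Groth.Agent.S14486
open Groth.Agent
open Groth.Agent.IntSym

/-- Let k be an algebraically closed field and X a projective K3 surface over k: an integral scheme of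
dimension two with all local rings regular, admitting a closed immersion into some P^n_k over k,
whose structure sheaf O_X is a second exterior power of Ω_{X/k} (the canonical sheaf is trivial) and
with H^1(X, O_X) = 0. Let C be a nonsingular curve of genus g on X: an integral closed subscheme of
dimension one with all local rings regular, with ideal sheaf I ⊆ O_X and g = dim_k H^1(C, O_C); let
M be an inverse of I for the tensor product (M = O_X(C)). Then C² = 2g - 2 and h^0(X, O_X(C)) = g +
1. Writing (L·L') for the intersection number χ(O_X) - χ(L) - χ(L') + χ(L ⊗ L') of two invertible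
modules (packaged as FGA.intNum), C² = (I·I), so the assertion reads (I·I) = 2g - 2 and dim_k H^0(X,
M) = g + 1. (A K3 surface is only required to be proper; this row assumes the projective embedding.) -/
theorem result (k : Type u) [Field k] [IsAlgClosed k] (X : Scheme.{u})
    [X.Over (Spec (CommRingCat.of k))] [IsIntegral X] (hdim : topologicalKrullDim X = 2)
    (hreg : ∀ x : X, IsRegularLocalRing (X.presheaf.stalk x))
    (hproj : ∃ (n : ℕ) (ι : X ⟶ CohB1.ProjSpace n k), IsClosedImmersion ι ∧
      ι ≫ CohB1.ProjSpace.toSpec n k = (X ↘ (Spec (CommRingCat.of k))))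
    (hK : ExtPow.IsExtPow 2 (Omega.sheaf (X ↘ (Spec (CommRingCat.of k)))) (Coh.structureModule X))
    (hH1 : Subsingleton (Coh.HH X (Coh.structureModule X) 1))
    (C : Scheme.{u}) (i : C ⟶ X) [IsClosedImmersion i] [IsIntegral C] (hC : topologicalKrullDim C = 1)
    (hCreg : ∀ c : C, IsRegularLocalRing (C.presheaf.stalk c))
    (M : X.Modules) (hM : ClSub.IsInverseOf M (ClSub.idealMod i.ker)) :
    letI : C.Over (Spec (CommRingCat.of k)) := ⟨i ≫ (X ↘ (Spec (CommRingCat.of k)))⟩
    FGA.intNum k X 2 ![ClSub.idealMod i.ker, ClSub.idealMod i.ker] (Coh.structureModule X) =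
        2 * (Curv2.genus k C : ℤ) - 2 ∧
      Module.finrank k (Coh.HH X M 0) = Curv2.genus k C + 1 := by
  letI : C.Over (Spec (CommRingCat.of k)) := ⟨i ≫ (X ↘ (Spec (CommRingCat.of k)))⟩
  obtain ⟨n, ι, hι, hιk⟩ := hproj
  haveI := hι
  haveI : IsProper (CohB1.ProjSpace.toSpec n k) := PnCoh.Chow.isProper_toSpec n k
  haveI : IsProper (X ↘ Spec (CommRingCat.of k)) := hιk ▸ inferInstance
  haveI : IsProper (C ↘ Spec (CommRingCat.of k)) := inferInstanceAs (IsProper (i ≫ (X ↘ Spec (CommRingCat.of k))))
  haveI := CurveCohLib.isNoetherian_of_proper (k := k) (X := X)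
  haveI := SurfRR.smooth_of_regular k hreg
  have hd : topologicalKrullDim X = ((2 : ℕ) : WithBot ℕ∞) := by rw [hdim]; rfl
  have hC' : topologicalKrullDim C = ((1 : ℕ) : WithBot ℕ∞) := by rw [hC, Nat.cast_one]
  have hproj : ∃ (n : ℕ) (ι : X ⟶ CohB1.ProjSpace n k), IsClosedImmersion ι ∧
      ι ≫ CohB1.ProjSpace.toSpec n k = X ↘ Spec (CommRingCat.of k) := ⟨n, ι, hι, hιk⟩
  have hD := CurveSurface.isEffCartier_ker k hd hreg i hC'
  have hI := (S8914.result i.ker).2 hD
  obtain ⟨uM⟩ := hM
  have hMi := VolLib.isInvertible_of_inverse hI uM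
  have hO := InvX.isInvertible_structureModule (X := X)
  have uO : CohB1.tensorMod (Coh.structureModule X) (Coh.structureModule X) ≅ Coh.structureModule X :=
    (CurveSurface.nonempty_unit_tensor (Coh.structureModule X)).some
  obtain ⟨eQ⟩ := CurveSurface.nonempty_quotMod_iso k (S := X) i
  have hq0 : Module.finrank k (Coh.HH X (ClSub.quotMod i.ker) 0) = 1 := by
    obtain ⟨e⟩ := QCoh.HH_push_linear i (Coh.toGlobal (X ↘ Spec (CommRingCat.of k)))
      (Coh.toGlobal (C ↘ Spec (CommRingCat.of k))) (fun a => rfl) (QCoh.isQCoh_structureModule (X := C)) 0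
    rw [← (S2926.hhIso k eQ 0).finrank_eq, ← e.finrank_eq, SurfRR.finrank_h0_structure k C]
  have hq : Curv2.euler k X (ClSub.quotMod i.ker) = 1 - (Curv2.genus k C : ℤ) := by
    rw [← CurveCohLib.euler_congr (k := k) eQ, IntNum.euler_push k i rfl QCoh.isQCoh_structureModule,
      CurveRR.euler_eq_h0_sub_h1 k (by rw [hC', Nat.cast_one]) QCoh.isQCoh_structureModule,
      SurfRR.finrank_h0_structure k C]
    rfl
  have hadj := SurfRR.adjunction k hd hD hK
  rw [SurfRR.pair_comm k hI hO, SurfRR.pair_structure k hd hI, hq] at hadj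
  refine ⟨(SurfRR.intNum_two k hd.le hI hI).trans (by linarith), ?_⟩
  have hI0 : Module.finrank k (Coh.HH X (ClSub.idealMod i.ker) 0) = 0 := by
    by_contra h0
    obtain ⟨H, hH⟩ := SurfRR.exists_ample k hd hreg
    have h1 := SurfRR.pair_nonneg_of_section k hd hI hH (Nat.pos_of_ne_zero h0)
    rw [SurfRR.pair_comm k hI hH.1] at h1
    have hdn : topologicalKrullDim ↥(CohB1.support (ClSub.quotMod i.ker)) = ((1 : ℕ) : WithBot ℕ∞) := by
      have hr : CohB1.support (ClSub.quotMod i.ker) = Set.range i := by
        rw [← QCoh.support_iso eQ ((QCoh.isQCoh_iff_iso eQ).2 (ParShLib.isCoh_quotMod i.ker).1)]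
        refine Set.Subset.antisymm (QCoh.support_push_subset i QCoh.isQCoh_structureModule) ?_
        rintro _ ⟨z, rfl⟩ hz
        haveI : Subsingleton (((Coh.push i).obj (Coh.structureModule C)).presheaf.stalk (i z)) := hz
        have h := H23.ClosedPushLen.length_stalk i (Coh.structureModule C) z
        rw [Module.length_eq_zero, H23.ClosedPushLen.length_structureModule] at h
        exact absurd (Module.length_eq_zero_iff.1 h.symm) (not_subsingleton _)
      rw [hr, ← IntSym.dim_eq_of_range i rfl, hC']
    have h := (HilbPoly.mult_nonneg_and_pos k hH 1 _ (ParShLib.isCoh_quotMod i.ker) hdn.le).2 hdn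
    rw [← IntSym.sym_replicate] at h
    have h2 := SurfRR.pair_idealMod k hd hD hH.1
    rw [SurfRR.pair_comm k hI hH.1] at h2
    change 0 < IntSym.sym k [H] (ClSub.quotMod i.ker) at h
    omega
  have hS := IntSym.shortExact_toSubscheme i.ker
  have hI1 : Module.finrank k (Coh.HH X (ClSub.idealMod i.ker) 1) = 0 := by
    haveI := CurveCohLib.finite_HH (k := k) (QCoh.isCoh_structureModule' (X := X)) 0
    haveI := CurveCohLib.finite_HH (k := k) (ParShLib.isCoh_quotMod i.ker) 0
    haveI := CurveCohLib.finite_HH (k := k) (AmpleVan.isCoh_invertible hI) 0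
    haveI := (Module.finrank_zero_iff (R := k)).1 hI0
    set S := ShortComplex.mk (ClSub.idealModι i.ker) _ _ with hSdef
    have hinj : Function.Injective (PnCoh.Finite.mapLin k S.g 0) := by
      rw [← LinearMap.ker_eq_bot, CurveCohLib.ker_mapLin_g k hS 0, LinearMap.range_eq_bot]
      exact LinearMap.ext fun x => by rw [Subsingleton.elim x 0, map_zero, map_zero]
    have hsurj : Function.Surjective (PnCoh.Finite.mapLin k S.g 0) :=
      (LinearMap.injective_iff_surjective_of_finrank_eq_finrank
        ((SurfRR.finrank_h0_structure k X).trans hq0.symm)).1 hinj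
    have hf : Function.Injective (PnCoh.Finite.mapLin k S.f 1) := by
      rw [← LinearMap.ker_eq_bot, CurveCohLib.ker_mapLin_f_succ k hS 0, LinearMap.range_eq_bot, ← LinearMap.ker_eq_top,
        CurveCohLib.ker_deltaLin k hS 0, LinearMap.range_eq_top]
      exact hsurj
    haveI : Subsingleton (Coh.HH X (ClSub.idealMod i.ker) 1) := hf.subsingleton
    exact Module.finrank_zero_of_subsingleton
  have h3 := SurfRR.euler_three k hd (AmpleVan.isCoh_invertible hI).1
  rw [hI0, hI1, SurfRR.euler_idealMod k i.ker, hq] at h3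
  have h4 := SurfRR.euler_three k hd (QCoh.isQCoh_structureModule (X := X))
  have h5 := SurfRR.finrank_dual k hd hproj hK hO uO (q := 2) le_rfl
  rw [(S2926.hhIso k uO _).finrank_eq, show (2 : ℕ) - 2 = 0 from rfl, SurfRR.finrank_h0_structure k X] at h5
  rw [h5, SurfRR.finrank_h0_structure k X, Module.finrank_zero_of_subsingleton (M := Coh.HH X _ 1)] at h4
  rw [SurfRR.finrank_dual k hd hproj hK hI (CurveTensor.commIso _ _ ≪≫ uM) (q := 2) le_rfl,
    (S2926.hhIso k (CurveSurface.nonempty_unit_tensor M).some _).finrank_eq, show (2 : ℕ) - 2 = 0 from rfl] at h3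
  omega

end Groth.Agent.S14486
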