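import Groth.Statements.S1451
import Groth.Agent.NormalUnib.At

set_option autoImplicit false
universe u
open FlatMor

namespace Groth.Agent.S1451

open AlgebraicGeometry CategoryTheory Limits in
/-- Let Y be integral and f : X → Y locally of finite type; let x be a point such that the local ring of
Y at f x is geometrically unibranch, f is unramified on an open neighbourhood of x, and some
generization of x maps to the generic point of Y. Then f is étale on an open neighbourhood of x. -/
theorem result {X Y : Scheme.{u}} (f : X ⟶ Y) [IsIntegral Y] [LocallyOfFiniteType f] (x : X)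
    (hY : CAlg2.IsGeomUnibranch (Y.presheaf.stalk (f x))) (hsp : ∃ x' : X, x' ⤳ x ∧ f x' = genericPoint ↑Y)
    (hunr : ∃ U : X.Opens, x ∈ U ∧ FormallyUnramified (U.ι ≫ f)) :
    ∃ U : X.Opens, x ∈ U ∧ Etale (U.ι ≫ f) := by
  obtain ⟨U, hxU, hUf⟩ := hunr
  obtain ⟨x', hx', hη⟩ := hsp
  haveI := hUf
  have hinj0 : Function.Injective (f.stalkMap x) := by
    haveI hF : IsField (Y.presheaf.stalk (f x')) := by
      rw [hη]; exact Field.toIsField Y.functionField
    letI := hF.toField
    rw [injective_iff_map_eq_zero]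
    intro a ha
    obtain ⟨W, hW, s, rfl⟩ := Y.presheaf.germ_exist a
    have hx'W : f x' ∈ W := (hx'.map f.continuous).mem_open W.2 hW
    have h0 : f.stalkMap x' (Y.presheaf.germ W (f x') hx'W s) = 0 := by
      rw [← TopCat.Presheaf.germ_stalkSpecializes_apply Y.presheaf hW (hx'.map f.continuous) s,
        Scheme.Hom.stalkSpecializes_stalkMap_apply f x' x hx', ha, map_zero]
    have h1 : Y.presheaf.germ W (f x') hx'W s = 0 := (f.stalkMap x').hom.injective (by rw [h0, map_zero])
    have hs : s = 0 := germ_injective_of_isIntegral Y (f x') hx'W (h1.trans (map_zero _).symm)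
    rw [hs, map_zero]
  have hinj : Function.Injective ((U.ι ≫ f).stalkMap (⟨x, hxU⟩ : U.toScheme)) := by
    rw [Scheme.Hom.stalkMap_comp]
    intro a b hab
    simp only [ConcreteCategory.comp_apply] at hab
    exact hinj0 ((ConcreteCategory.bijective_of_isIso (U.ι.stalkMap ⟨x, hxU⟩)).1 hab)
  obtain ⟨V, hxV, hV⟩ := Groth.Agent.NormalUnib.etale_nhd (U.ι ≫ f) (⟨x, hxU⟩ : U.toScheme) hY hinj
  refine ⟨U.ι ''ᵁ V, ⟨⟨x, hxU⟩, hxV, rfl⟩, ?_⟩
  rw [← Scheme.Hom.isoImage_inv_ι U.ι V, Category.assoc, Category.assoc]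
  infer_instance

end Groth.Agent.S1451
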