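import Groth.Statements.S1452
import Groth.Agent.S1451
import Groth.Agent.S9847

set_option autoImplicit false
universe u
open FlatMor

namespace Groth.Agent.S1452

open AlgebraicGeometry CategoryTheory Limits in
/-- Let f : X → Y and g : Y → Z with Y integral and the local ring of Y at y = f x geometrically
unibranch; assume g ∘ f is étale on an open neighbourhood of x and some generization of x maps to
the generic point of Y. Then f is étale on an open neighbourhood of x and g is étale on an open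
neighbourhood of y. -/
theorem result {X Y Z : Scheme.{u}} (f : X ⟶ Y) (g : Y ⟶ Z) [IsIntegral Y] (x : X)
    (hY : CAlg2.IsGeomUnibranch (Y.presheaf.stalk (f x))) (het : ∃ U : X.Opens, x ∈ U ∧ Etale (U.ι ≫ f ≫ g))
    (hsp : ∃ x' : X, x' ⤳ x ∧ f x' = genericPoint ↑Y) :
    (∃ U : X.Opens, x ∈ U ∧ Etale (U.ι ≫ f)) ∧ ∃ V : Y.Opens, f x ∈ V ∧ Etale (V.ι ≫ g) := by
  obtain ⟨U, hxU, hU⟩ := het
  haveI := hU
  haveI hft : LocallyOfFiniteType (U.ι ≫ f) := by
    haveI : LocallyOfFiniteType ((U.ι ≫ f) ≫ g) := by rw [Category.assoc]; infer_instance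
    exact locallyOfFiniteType_of_comp (U.ι ≫ f) g
  haveI hun : FormallyUnramified (U.ι ≫ f) := by
    haveI : FormallyUnramified ((U.ι ≫ f) ≫ g) := by rw [Category.assoc]; infer_instance
    exact FormallyUnramified.of_comp (U.ι ≫ f) g
  obtain ⟨x', hx', hη⟩ := hsp
  have hx'U : x' ∈ U := hx'.mem_open U.2 hxU
  obtain ⟨W, hxW, hW⟩ := Groth.Agent.S1451.result (U.ι ≫ f) ⟨x, hxU⟩ hY
    ⟨⟨x', hx'U⟩, U.ι.isOpenEmbedding.isInducing.specializes_iff.1 hx', hη⟩
    ⟨⊤, trivial, IsZariskiLocalAtSource.comp (P := @FormallyUnramified) hun _⟩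
  haveI := hW
  refine ⟨⟨U.ι ''ᵁ W, ⟨⟨x, hxU⟩, hxW, rfl⟩, ?_⟩, ?_⟩
  · rw [← Scheme.Hom.isoImage_inv_ι U.ι W, Category.assoc, Category.assoc]
    infer_instance
  let h : W.toScheme ⟶ Y := W.ι ≫ U.ι ≫ f
  haveI : Etale h := hW
  let V : Y.Opens := ⟨Set.range h, h.isOpenMap.isOpen_range⟩
  refine ⟨V, ⟨⟨⟨x, hxU⟩, hxW⟩, rfl⟩, ?_⟩
  let e : W.toScheme ⟶ V.toScheme := IsOpenImmersion.lift V.ι h (by rw [Scheme.Opens.range_ι]; exact le_refl _)
  have he : e ≫ V.ι = h := IsOpenImmersion.lift_fac _ _ _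
  haveI : Etale (e ≫ V.ι) := by rw [he]; infer_instance
  haveI : Etale e := MorphismProperty.of_postcomp (W := @Etale) (W' := @Etale) e V.ι inferInstance inferInstance
  haveI : Surjective e := ⟨fun v => by
    obtain ⟨w, hw⟩ := v.2
    exact ⟨w, V.ι.isOpenEmbedding.injective (by rw [← Scheme.Hom.comp_apply, he]; exact hw)⟩⟩
  refine MorphismProperty.IsLocalAtSource.of_forall_comp (P := @Etale) (K := Scheme.etalePrecoverage)
    (R := Presieve.singleton e)
    ((Scheme.singleton_mem_precoverage_iff @Etale e).2 ⟨e.surjective, inferInstance⟩) ?_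
  rintro _ _ ⟨⟩
  rw [reassoc_of% he]
  show Etale ((W.ι ≫ U.ι ≫ f) ≫ g)
  rw [Category.assoc, Category.assoc]
  infer_instance

end Groth.Agent.S1452
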