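import Groth.Statements.S14521
import Groth.Agent.IntSym.Bridge

set_option autoImplicit false
universe u
open CategoryTheory CategoryTheory.Limits AlgebraicGeometry
open Variety

namespace Groth.Agent.S14521

/-- Let k be an algebraically closed field, X a complete variety over k (reduced and proper over k) of
dimension at most d, L_1, …, L_r line bundles with tensor inverses M_1, …, M_r, and F a coherent
O_X-module whose support has dimension at most r. Let Y_1, …, Y_s be the r-dimensional irreducible
components of Supp F, with generic points ξ_1, …, ξ_s (given as a finite set s of points: ξ ∈ s iff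
ξ ∈ Supp F and the closure of ξ has dimension r), each Y_i with its reduced structure. Then
(L_1⋯L_r; F) = Σ_i length_{O_{X,ξ_i}}(F_{ξ_i}) · (L_1⋯L_r · Y_i), where all intersection numbers are
the alternating Euler-characteristic sums in the M_i (the prelude's FGA.intNum). -/
theorem result (k : Type u) [Field k] [IsAlgClosed k]
    (X : Scheme.{u}) [X.Over (Spec (CommRingCat.of k))] [IsReduced X] [IsProper (X ↘ (Spec (CommRingCat.of k)))] (d : ℕ) (hd : topologicalKrullDim X ≤ d)
    {r : ℕ} (M : Fin r → X.Modules) (hM : ∀ i, PicF.IsInvertible (M i))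
    (F : X.Modules) (hF : Coh.IsCoh F) (hsupp : topologicalKrullDim ↥(CohB1.support F) ≤ r)
    (s : Finset X) (hs : ∀ ξ : X, ξ ∈ s ↔ ξ ∈ CohB1.support F ∧ topologicalKrullDim ↥(closure ({ξ} : Set X)) = r) :
    FGA.intNum k X d M F =
      ∑ ξ ∈ s, ((Module.length (X.presheaf.stalk ξ) (F.presheaf.stalk ξ)).toNat : ℤ) *
        FGA.intNum k X d M (ClSub.quotMod (Scheme.IdealSheafData.vanishingIdeal ⟨closure ({ξ} : Set X), isClosed_closure⟩)) := by
  classical
  haveI := CurveCohLib.isNoetherian_of_proper (k := k) (X := X)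
  have hO : ∀ ξ : X, Coh.IsCoh (ClSub.quotMod (IntNum.ptIdeal ξ)) := fun ξ =>
    QCoh.isCoh_push_structure (IntNum.ptIdeal ξ).subschemeι
  have h := IntNum.alt_leading k hM hF hsupp
  rw [finsum_eq_sum_of_support_subset _ (s := s) (fun ξ hξ => ?_), IntSym.alt_eq_sym k M hM F] at h
  swap
  · refine Finset.mem_coe.2 ((hs ξ).2 ?_)
    simp only [Function.mem_support, ne_eq, ite_eq_right_iff, Classical.not_imp] at hξ
    refine ⟨?_, hξ.1⟩
    by_contra hn
    exact hξ.2 (by rw [IntNum.lenAt_eq_zero hn, Nat.cast_zero, zero_mul])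
  have h2 : IntSym.sym k (List.ofFn M) F =
      ∑ ξ ∈ s, (IntNum.lenAt F ξ : ℤ) * IntSym.sym k (List.ofFn M) (ClSub.quotMod (IntNum.ptIdeal ξ)) := by
    rw [← Int.cast_inj (α := ℚ)]
    push_cast
    rw [h]
    refine Finset.sum_congr rfl fun ξ hξ => ?_
    rw [if_pos ((hs ξ).1 hξ).2, IntSym.alt_eq_sym k M hM]
  rw [IntSym.intNum_eq k hd M hM hF, h2, Finset.mul_sum]
  refine Finset.sum_congr rfl fun ξ _ => ?_
  have h3 := IntSym.intNum_eq k hd M hM (hO ξ)
  show _ = (IntNum.lenAt F ξ : ℤ) * FGA.intNum k X d M (ClSub.quotMod (IntNum.ptIdeal ξ))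
  rw [h3]
  ring

end Groth.Agent.S14521
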