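import Groth.Statements.S14522
import Groth.Agent.IntSym.Bridge
import Groth.Agent.IntSym.Cartier

set_option autoImplicit false
universe u
open CategoryTheory CategoryTheory.Limits AlgebraicGeometry
open Variety

namespace Groth.Agent.S14522

/-- Let k be an algebraically closed field, X an irreducible complete variety over k (integral and
proper over k) of dimension at most d, L_1, …, L_r line bundles with tensor inverses M_1, …, M_r, F
a coherent O_X-module with dim Supp F ≤ r + 1, and D an effective Cartier divisor on X (a
quasi-coherent ideal I_D locally generated by one nonzerodivisor) whose support contains no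
associated point of F. Then (L_1⋯L_r·O_X(D); F) = (L_1⋯L_r; F ⊗ O_D): with intersection numbers
written as the alternating Euler-characteristic sums in the inverses (the prelude's FGA.intNum), the
(r+1)-fold number of F in M_1, …, M_r, I_D equals the r-fold number of F ⊗ O_D in M_1, …, M_r (for r
= 0 the right side is χ(F ⊗ O_D) = h^0(F ⊗ O_D)). -/
theorem result (k : Type u) [Field k] [IsAlgClosed k]
    (X : Scheme.{u}) [X.Over (Spec (CommRingCat.of k))] [IsIntegral X] [IsProper (X ↘ (Spec (CommRingCat.of k)))] (d : ℕ) (hd : topologicalKrullDim X ≤ d)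
    {r : ℕ} (M : Fin r → X.Modules) (hM : ∀ i, PicF.IsInvertible (M i))
    (F : X.Modules) (hF : Coh.IsCoh F) (hsupp : topologicalKrullDim ↥(CohB1.support F) ≤ r + 1)
    (D : X.IdealSheafData) (hD : BlowUp.IsEffCartierIdeal D) (hass : ∀ x ∈ D.support, ¬ Curv2.IsAssPoint F x) :
    FGA.intNum k X d (Fin.snoc M (ClSub.idealMod D)) F = FGA.intNum k X d M (CohB1.tensorMod F (ClSub.quotMod D)) := by
  haveI := CurveCohLib.isNoetherian_of_proper (k := k) (X := X)
  have hI := (S8914.result D).2 hD
  have hall : ∀ i, PicF.IsInvertible ((Fin.snoc M (ClSub.idealMod D) : Fin (r + 1) → X.Modules) i) :=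
    Fin.lastCases (by simpa using hI) (fun i => by simpa using hM i)
  have hFD : Coh.IsCoh (CohB1.tensorMod F (ClSub.quotMod D)) :=
    AmpleVan.isCoh_tensor hF (QCoh.isCoh_push_structure D.subschemeι)
  have hl : IntSym.Inv (List.ofFn M) := fun N hN => by
    obtain ⟨i, rfl⟩ := List.mem_ofFn.1 hN
    exact hM i
  rw [IntSym.intNum_eq k hd _ hall hF, IntSym.intNum_eq k hd M hM hFD, List.ofFn_succ']
  simp only [Fin.snoc_castSucc, Fin.snoc_last, List.concat_eq_append]
  rw [IntSym.sym_perm k (List.perm_append_singleton (ClSub.idealMod D) (List.ofFn M))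
      (List.forall_mem_append.2 ⟨hl, List.forall_mem_singleton.2 hI⟩),
    IntSym.sym_cartier k hD hF hass hl, pow_succ]
  ring

end Groth.Agent.S14522
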