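import Groth.Statements.S14525
import Groth.Agent.SurfRR.Trivial
-- import your own Groth.Agent.* helpers here

set_option autoImplicit false
set_option backward.isDefEq.respectTransparency false
set_option backward.isDefEq.respectTransparency.types false
set_option linter.style.haveILetI false
set_option maxHeartbeats 1000000
universe u
open CategoryTheory CategoryTheory.Limits AlgebraicGeometry
open Surf

namespace Groth.Agent.S14525
open Groth.Agent

/-- Let k be an algebraically closed field, X a smooth projective surface over k (integral, smooth over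
k, of dimension two, with a closed immersion over k into some projective space), L an invertible
O_X-module with tensor inverse L' such that (L·L) > 0, and M an ample invertible module with tensor
inverse M'; intersection numbers are the alternating Euler-characteristic sums in the inverses (the
prelude's FGA.intNum, so (L·L) is computed in L', L' and (L·M) in L', M'). Then (L·M) ≠ 0; if (L·M)
> 0 there is c > 0 with dim_k H^0(X, L^{⊗m}) > c·m² for all large m, and if (L·M) < 0 the same holds
for L' in place of L. -/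
theorem result (k : Type u) [Field k] [IsAlgClosed k]
    (X : Scheme.{u}) [X.Over (Spec (CommRingCat.of k))] [IsIntegral X] [Smooth (X ↘ (Spec (CommRingCat.of k)))] (hdim : topologicalKrullDim X = 2)
    (hprojX : ∃ (N : ℕ) (ι : X ⟶ CohB1.ProjSpace N k), IsClosedImmersion ι ∧ ι ≫ CohB1.ProjSpace.toSpec N k = (X ↘ (Spec (CommRingCat.of k))))
    (L L' : X.Modules) (hL : PicF.IsInvertible L) (hLL' : ClSub.IsInverseOf L L')
    (hpos : 0 < FGA.intNum k X 2 ![L', L'] (Coh.structureModule X))
    (M M' : X.Modules) (hM : CohB1.IsAmple M) (hMM' : ClSub.IsInverseOf M M') :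
    FGA.intNum k X 2 ![L', M'] (Coh.structureModule X) ≠ 0 ∧
    (0 < FGA.intNum k X 2 ![L', M'] (Coh.structureModule X) →
      ∃ c : ℚ, 0 < c ∧ ∃ m₀ : ℕ, ∀ m : ℕ, m₀ ≤ m →
        c * (m : ℚ) ^ 2 < (Module.finrank k (Coh.HH X (CohB1.tensorPow L m) 0) : ℚ)) ∧
    (FGA.intNum k X 2 ![L', M'] (Coh.structureModule X) < 0 →
      ∃ c : ℚ, 0 < c ∧ ∃ m₀ : ℕ, ∀ m : ℕ, m₀ ≤ m →
        c * (m : ℚ) ^ 2 < (Module.finrank k (Coh.HH X (CohB1.tensorPow L' m) 0) : ℚ)) := by
  obtain ⟨N, ι, hι, hιk⟩ := hprojX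
  haveI := hι
  haveI : IsProper (CohB1.ProjSpace.toSpec N k) := PnCoh.Chow.isProper_toSpec N k
  haveI : IsProper (X ↘ Spec (CommRingCat.of k)) := hιk ▸ inferInstance
  haveI := CurveCohLib.isNoetherian_of_proper (k := k) (X := X)
  have hd : topologicalKrullDim X = ((2 : ℕ) : WithBot ℕ∞) := by rw [hdim]; rfl
  have hproj := SurfRR.exists_proj_smooth k hd
  obtain ⟨u⟩ := hLL'
  obtain ⟨v⟩ := hMM'
  have hL' := VolLib.isInvertible_of_inverse hL (CurveTensor.commIso _ _ ≪≫ u)
  have hM' := VolLib.isInvertible_of_inverse hM.1 (CurveTensor.commIso _ _ ≪≫ v)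
  have hLM : SurfRR.pair k L' M' = SurfRR.pair k L M := by
    rw [SurfRR.pair_inverse k hd.le hL hL' u hM', SurfRR.pair_comm k hL hM', SurfRR.pair_inverse k hd.le hM.1 hM' v hL,
      neg_neg, SurfRR.pair_comm k hM.1 hL]
  have hLL : SurfRR.pair k L' L' = SurfRR.pair k L L := by
    rw [SurfRR.pair_inverse k hd.le hL hL' u hL', SurfRR.pair_comm k hL hL', SurfRR.pair_inverse k hd.le hL hL' u hL,
      neg_neg]
  rw [SurfRR.intNum_two k hd.le hL' hL', hLL] at hpos
  rw [SurfRR.intNum_two k hd.le hL' hM', hLM]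
  obtain ⟨W, hW⟩ := SurfRR.exists_canonical k hd
  have hWi := SurfRR.isInvertible_canonical k hd hproj hW
  have growth : ∀ {P : X.Modules}, PicF.IsInvertible P → 0 < SurfRR.pair k P M → 0 < SurfRR.pair k P P →
      ∃ c : ℚ, 0 < c ∧ ∃ m₀ : ℕ, ∀ m : ℕ, m₀ ≤ m →
        c * (m : ℚ) ^ 2 < (Module.finrank k (Coh.HH X (CohB1.tensorPow P m) 0) : ℚ) := by
    intro P hP hPM hPP
    set e := Curv2.euler k X (Coh.structureModule X)
    refine ⟨1 / 4, by norm_num, 2 * (SurfRR.pair k P W).natAbs + 4 * e.natAbs + (SurfRR.pair k W M).natAbs + 1,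
      fun n hn => ?_⟩
    have hPn := InvX.isInvertible_tensorPow hP n
    have h2 : Subsingleton (Coh.HH X (CohB1.tensorPow P n) 2) := by
      refine SurfRR.subsingleton_h2 k hd hproj hW hM hPn ?_
      rw [SurfRR.pair_pow k hd.le hP hM.1]
      calc SurfRR.pair k W M ≤ (SurfRR.pair k W M).natAbs := Int.le_natAbs
        _ < (n : ℤ) := by omega
        _ = n * 1 := (mul_one _).symm
        _ ≤ n * SurfRR.pair k P M := mul_le_mul_of_nonneg_left (by omega) (Int.natCast_nonneg n)
    have hrr := SurfRR.riemann_roch k hd hproj hW hPn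
    rw [SurfRR.euler_three k hd (AmpleVan.isCoh_invertible hPn).1, Module.finrank_zero_of_subsingleton (M := Coh.HH X _ 2),
      SurfRR.pair_pow k hd.le hP hPn, SurfRR.pair_comm k hP hPn, SurfRR.pair_pow k hd.le hP hP,
      SurfRR.pair_pow k hd.le hP hWi] at hrr
    push_cast at hrr
    have h3 : (n : ℤ) * 1 ≤ n * SurfRR.pair k P P := mul_le_mul_of_nonneg_left (by omega) (Int.natCast_nonneg n)
    have h3' := mul_le_mul_of_nonneg_left h3 (Int.natCast_nonneg n)
    have h4 : (n : ℤ) * SurfRR.pair k P W ≤ n * (SurfRR.pair k P W).natAbs :=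
      mul_le_mul_of_nonneg_left Int.le_natAbs (Int.natCast_nonneg n)
    have h5 : (n : ℤ) * (2 * (SurfRR.pair k P W).natAbs + 4 * e.natAbs + 1) ≤ n * n :=
      mul_le_mul_of_nonneg_left (by omega) (Int.natCast_nonneg n)
    have h6 : (4 * e.natAbs + 1 : ℤ) * 1 ≤ (4 * e.natAbs + 1) * n := mul_le_mul_of_nonneg_left (by omega) (by omega)
    have h7 := Int.le_natAbs (a := -e)
    rw [Int.natAbs_neg] at h7
    have h1 := Int.natCast_nonneg (Module.finrank k (Coh.HH X (CohB1.tensorPow P n) 1))
    have key : (n : ℤ) * n + 1 ≤ 4 * (Module.finrank k (Coh.HH X (CohB1.tensorPow P n) 0) : ℤ) := by linarith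
    have : ((n : ℚ) * n + 1 : ℚ) ≤ 4 * (Module.finrank k (Coh.HH X (CohB1.tensorPow P n) 0) : ℚ) := by
      exact_mod_cast key
    linarith
  refine ⟨fun h => not_lt.2 (SurfRR.index_ample k hd hproj hM hL h) hpos, fun h => growth hL h hpos,
    fun h => growth hL' ?_ (hLL ▸ hpos)⟩
  rw [SurfRR.pair_inverse k hd.le hL hL' u hM.1]
  omega

end Groth.Agent.S14525
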