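import Groth.Statements.S14540
import Groth.Agent.TorsTwist.Torsor
import Groth.Agent.GrpSchLib.Action
-- import your own Groth.Agent.* helpers here

set_option autoImplicit false
set_option backward.isDefEq.respectTransparency false
set_option maxHeartbeats 1000000
set_option linter.style.haveILetI false
set_option backward.isDefEq.respectTransparency false
set_option backward.isDefEq.respectTransparency.types false
set_option linter.style.haveILetI false
universe u
open CategoryTheory MonoidalCategory CartesianMonoidalCategory MonObj GrpObj AlgebraicGeometry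
open PrincBund

namespace Groth.Agent.S14540

/-- Let X be a scheme, J and J' group schemes affine over X, with no flatness or finiteness condition, u
: J → J' a homomorphism and P a J-torsor for the fpqc topology. Then the push forward of P along u
exists: there is a J'-torsor P' for the fpqc topology together with an X-morphism P → P' compatible
with u. -/
theorem result {X : Scheme.{u}}
    {J J' : Over X} [GrpObj J] [GrpObj J'] [IsAffineHom J.hom] [IsAffineHom J'.hom]
    (u : J ⟶ J') [IsMonHom u] (P : NonAbH1.TorsorSch J Scheme.fpqcPrecoverage) :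
    ∃ P' : NonAbH1.TorsorSch J' Scheme.fpqcPrecoverage,
      NonAbH1.IsPushforwardAlongSch u P.act P'.act := by
  obtain ⟨R, hR, hsec⟩ := P.isTorsor.2
  obtain ⟨κ, Y, f, hf, hfR⟩ := TorsTwist.exists_family hR
  choose σ hσ using fun i => hsec (f i) (hfR i)
  haveI : IsIso (lift P.act.act (snd J P.X)) := P.isTorsor.1
  let pnt : ∀ ⦃T : Over X⦄ ⦃i : κ⦄ (x : T.left ⟶ Y i), x ≫ f i = T.hom → (T ⟶ P.X) :=
    fun T i x h => Over.homMk (x ≫ σ i) (by rw [Category.assoc, hσ, h])
  let diff : ∀ ⦃T : Over X⦄, (T ⟶ P.X) → (T ⟶ P.X) → (T ⟶ J) :=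
    fun T p q => (lift q p ≫ inv (lift P.act.act (snd J P.X))) ≫ fst J P.X
  have diff_spec : ∀ ⦃T : Over X⦄ (p q : T ⟶ P.X), lift (diff p q) p ≫ P.act.act = q := by
    intro T p q
    have h1 : (lift q p ≫ inv (lift P.act.act (snd J P.X))) ≫ lift P.act.act (snd J P.X) = lift q p := by
      rw [Category.assoc, IsIso.inv_hom_id, Category.comp_id]
    have h2 := congrArg (fun z => z ≫ snd _ _) h1
    simp only [Category.assoc, lift_snd] at h2
    have h3 : lift q p ≫ inv (lift P.act.act (snd J P.X)) = lift (diff p q) p := by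
      refine CartesianMonoidalCategory.hom_ext _ _ ?_ ?_
      · rw [lift_fst]
      · rw [lift_snd, Category.assoc]; exact h2
    have h4 := congrArg (fun z => z ≫ fst _ _) h1
    simp only [Category.assoc, lift_fst] at h4
    rw [← h3, Category.assoc]
    exact h4
  have diff_uniq : ∀ ⦃T : Over X⦄ (p q : T ⟶ P.X) (j : T ⟶ J), lift j p ≫ P.act.act = q → diff p q = j := by
    intro T p q j hj
    have e : lift j p ≫ lift P.act.act (snd J P.X) = lift q p := by rw [comp_lift, hj, lift_snd]
    show (lift q p ≫ _) ≫ _ = j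
    rw [← e, Category.assoc, Category.assoc, IsIso.hom_inv_id_assoc, lift_fst]
  have diff_comp : ∀ ⦃T : Over X⦄ (p q r : T ⟶ P.X), diff q r * diff p q = diff p r := fun T p q r => by
    refine (diff_uniq p r _ ?_).symm
    rw [← GrpSchLib.act_mul, diff_spec, diff_spec]
  have diff_nat : ∀ ⦃T T' : Over X⦄ (g : T' ⟶ T) (p q : T ⟶ P.X), diff (g ≫ p) (g ≫ q) = g ≫ diff p q := by
    intro T T' g p q
    refine diff_uniq _ _ _ ?_
    rw [← comp_lift, Category.assoc, diff_spec]
  have pnt_nat : ∀ ⦃T T' : Over X⦄ (g : T' ⟶ T) ⦃i : κ⦄ (x : T.left ⟶ Y i) (h : x ≫ f i = T.hom)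
      (y : T'.left ⟶ Y i) (k : y ≫ f i = T'.hom), g.left ≫ x = y → pnt y k = g ≫ pnt x h := fun T T' g i x h y k e => by
    refine Over.OverMorphism.ext ?_
    show y ≫ σ i = g.left ≫ x ≫ σ i
    rw [← e, Category.assoc]
  let C : TorsTwist.Cocycle f J' :=
    { c := fun T i j x x' h h' => diff (pnt x h) (pnt x' h') ≫ u
      nat := fun T T' g i j x x' h h' y y' k k' e e' => by
        rw [pnt_nat g x h y k e, pnt_nat g x' h' y' k' e', diff_nat, Category.assoc]
      comp := fun T i j l x x' x'' h h' h'' => by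
        rw [← MonObj.mul_comp, diff_comp] }
  obtain ⟨U, act, θ, htors, hnat, hext, hglue, hact⟩ := TorsTwist.exists_torsor f hf J' C
  obtain ⟨φ, hφ⟩ := hglue (T := P.X) (fun T g i x h => (diff (pnt x h) g ≫ u)⁻¹)
    (fun T T' g k i x h y h' e => by
      rw [pnt_nat k x h y h' e, diff_nat, Category.assoc, GrpObj.comp_inv])
    (fun T g i j x x' h h' => by
      show _ = diff (pnt x h) (pnt x' h') ≫ u * _
      rw [← diff_comp (pnt x h) (pnt x' h') g, MonObj.mul_comp, _root_.mul_inv_rev, mul_inv_cancel_left])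
  refine ⟨⟨U, act, htors⟩, φ, hext _ _ fun T g i x h => ?_⟩
  have e1 : g ≫ lift (fst J P.X ≫ u) (snd J P.X ≫ φ) ≫ act.act =
      lift ((g ≫ fst J P.X) ≫ u) ((g ≫ snd J P.X) ≫ φ) ≫ act.act := by
    rw [← Category.assoc, comp_lift]
    simp only [Category.assoc]
  show θ x h (g ≫ P.act.act ≫ φ) = θ x h (g ≫ lift (fst J P.X ≫ u) (snd J P.X ≫ φ) ≫ act.act)
  rw [e1, hact x h, hφ (g ≫ snd J P.X) x h, ← Category.assoc g P.act.act φ, hφ (g ≫ P.act.act) x h,
    ← _root_.mul_inv_rev, ← MonObj.mul_comp]
  refine congrArg (fun z => (z ≫ u)⁻¹) (diff_uniq _ _ _ ?_)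
  rw [← GrpSchLib.act_mul, diff_spec, ← comp_lift, lift_fst_snd, Category.comp_id]


end Groth.Agent.S14540
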