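import Groth.Statements.S14583
import Groth.Agent.FrobPullLib.Basic
import Groth.Agent.FrobPullLib.Iter
import Mathlib.FieldTheory.PurelyInseparable.Exponent
-- import your own Groth.Agent.* helpers here

set_option autoImplicit false
set_option backward.isDefEq.respectTransparency false
set_option maxHeartbeats 1000000
set_option linter.style.haveILetI false
universe u
open CategoryTheory MonoidalCategory CartesianMonoidalCategory MonObj GrpObj AlgebraicGeometry CategoryTheory.Limits
open AlgGrp

namespace Groth.Agent.S14583

/-- Let k ⊆ K be a finite purely inseparable field extension, G a k-group scheme of finite type and h' :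
H' → G_K a closed subgroup scheme of the base change of G to K. Then there is a closed subgroup
scheme h : H → G over k such that H' factors through the base change H_K → G_K by a morphism H' →
H_K which is surjective. (The published statement concludes that H' ⊆ H_K with H_K/H' finite; the
subgroup H produced by its proof, a Frobenius pull-back, has H_K with the same underlying space as
H', which is the form stated here.) -/
theorem result (k K : Type u) [Field k] [Field K] [Algebra k K]
    [Module.Finite k K] [IsPurelyInseparable k K]
    (G : Over (Spec (CommRingCat.of k))) [GrpObj G] [LocallyOfFiniteType G.hom] [QuasiCompact G.hom]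
    (H' : Over (Spec (CommRingCat.of K))) [GrpObj H']
    (h' : H' ⟶ Red.bc (Spec.map (CommRingCat.ofHom (algebraMap k K))) G) [IsMonHom h'] [IsClosedImmersion h'.left] :
    ∃ (H : Over (Spec (CommRingCat.of k))) (_ : GrpObj H) (h : H ⟶ G), IsMonHom h ∧ IsClosedImmersion h.left ∧
      ∃ g : H' ⟶ Red.bc (Spec.map (CommRingCat.ofHom (algebraMap k K))) H, g ≫ (Over.pullback (Spec.map (CommRingCat.ofHom (algebraMap k K)))).map h = h' ∧ Surjective g.left := by
  obtain ⟨q, hq⟩ := ExpChar.exists k
  let π : Spec (CommRingCat.of K) ⟶ Spec (CommRingCat.of k) := Spec.map (CommRingCat.ofHom (algebraMap k K))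
  let n := IsPurelyInseparable.exponent k K
  let φ : K →+* k := IsPurelyInseparable.iterateFrobenius k K q (le_refl n)
  let ψ : Spec (CommRingCat.of k) ⟶ Spec (CommRingCat.of K) := Spec.map (CommRingCat.ofHom φ)
  have hk : ∀ a : k, φ (algebraMap k K a) = a ^ q ^ n := fun a => IsPurelyInseparable.iterateFrobenius_algebraMap K q _ a
  have hK' : ∀ a : K, algebraMap k K (φ a) = a ^ q ^ n := fun a => IsPurelyInseparable.algebraMap_iterateFrobenius k q _ a
  cases hq with
  | zero =>
    have h1 : ψ ≫ π = 𝟙 _ := by
      rw [← Spec.map_comp, ← CommRingCat.ofHom_comp, ← Spec.map_id]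
      congr 1; ext a; simp [hk]
    have h2 : π ≫ ψ = 𝟙 _ := by
      rw [← Spec.map_comp, ← CommRingCat.ofHom_comp, ← Spec.map_id]
      congr 1; ext a; simp [hK']
    exact FrobPullLib.exists_subgroup π ψ (fun Y => 𝟙 Y.left)
      (fun Y => by rw [h1, Category.id_comp, Category.comp_id])
      (fun f => by rw [Category.id_comp, Category.comp_id]) h2.symm (fun Y y => rfl) G H' h'
  | prime hp =>
    haveI := Fact.mk hp
    haveI : CharP K q := charP_of_injective_algebraMap (algebraMap k K).injective q
    have hc : ∀ Y : Over (Spec (CommRingCat.of k)), FrobSch.IsCharP Y.left q := fun Y => FrobSch.IsCharP.of_hom Y.hom q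
    let Fr : ∀ (m : ℕ) (Y : Over (Spec (CommRingCat.of k))), Y.left ⟶ Y.left := fun m Y =>
      haveI := hc Y
      FrobPullLib.frobN Y.left q m
    have hnat : ∀ (m : ℕ) {Y Y' : Over (Spec (CommRingCat.of k))} (f : Y ⟶ Y'), Fr m Y ≫ f.left = f.left ≫ Fr m Y' := fun m Y Y' f =>
      haveI := hc Y
      haveI := hc Y'
      FrobPullLib.frobN_comp q m f.left
    refine FrobPullLib.exists_subgroup π ψ (Fr n) (fun Y => ?_) (fun f => hnat n f) ?_ (fun Y y => ?_) G H' h'
    · haveI := hc Y
      show FrobPullLib.frobN Y.left q n ≫ Y.hom = _
      rw [FrobPullLib.frobN_comp q n Y.hom, FrobPullLib.frobN_Spec, ← Spec.map_comp, ← CommRingCat.ofHom_comp]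
      congr 3
      exact RingHom.ext fun a => (iterateFrobenius_def q n a).trans (hk a).symm
    · show FrobPullLib.frobN (Spec (CommRingCat.of K)) q n = _
      rw [FrobPullLib.frobN_Spec, ← Spec.map_comp, ← CommRingCat.ofHom_comp]
      congr 2
      exact RingHom.ext fun a => (iterateFrobenius_def q n a).trans (hK' a).symm
    · haveI := hc Y
      exact FrobPullLib.frobN_apply q n y

end Groth.Agent.S14583
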