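import Groth.Statements.S14584
import Groth.Agent.GrpFieldLib.ProdToAV
import Groth.Agent.GrpSchLib.RankOneBase
import Groth.Agent.H23.RigidGamma
import Groth.Agent.H23.CubeAb
-- import your own Groth.Agent.* helpers here

set_option autoImplicit false
set_option backward.isDefEq.respectTransparency false
set_option maxHeartbeats 1000000
set_option linter.style.haveILetI false
universe u
open CategoryTheory MonoidalCategory CartesianMonoidalCategory MonObj GrpObj AlgebraicGeometry CategoryTheory.Limits
open AlgGrp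

namespace Groth.Agent.S14584

/-- Let k be a field, X and Y varieties over k (separated, geometrically integral k-schemes of finite
type) with rational points x₀ and y₀, A an abelian variety (a proper, smooth, connected k-group
scheme) and f : X × Y → A a k-morphism. Then, in the group of morphisms X × Y → A, f(x, y) = f(x₀,
y₀)⁻¹ · f(x₀, y) · f(x, y₀) identically; additively, f(x, y) − f(x₀, y) − f(x, y₀) + f(x₀, y₀) = 0.
Neither smoothness nor properness of X, Y is assumed. -/
theorem result (k : Type u) [Field k]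
    (X Y A : Over (Spec (CommRingCat.of k)))
    [LocallyOfFiniteType X.hom] [QuasiCompact X.hom] [IsSeparated X.hom] [GeometricallyIntegral X.hom]
    [LocallyOfFiniteType Y.hom] [QuasiCompact Y.hom] [IsSeparated Y.hom] [GeometricallyIntegral Y.hom]
    [GrpObj A] [IsProper A.hom] [Smooth A.hom] [ConnectedSpace ↥A.left]
    (x₀ : 𝟙_ (Over (Spec (CommRingCat.of k))) ⟶ X) (y₀ : 𝟙_ (Over (Spec (CommRingCat.of k))) ⟶ Y) (f : X ⊗ Y ⟶ A) :
    f = (toUnit (X ⊗ Y) ≫ lift x₀ y₀ ≫ f)⁻¹ * (snd X Y ≫ lift (toUnit Y ≫ x₀) (𝟙 Y) ≫ f) *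
      (fst X Y ≫ lift (𝟙 X) (toUnit X ≫ y₀) ≫ f) := by
  open CartesianMonoidalCategory in
  haveI : GeometricallyReduced A.hom := Groth.Agent.H23.RigidGamma.geometricallyReduced_of_smooth A.hom
  haveI : GeometricallyIntegral A.hom := H23.MaxAbelian.geometricallyIntegral_of_connected A
  haveI : GeometricallyConnected A.hom := Groth.Agent.H23.CubeAb.geometricallyConnected_of_integral A.hom
  haveI : IsCommMonObj A := S7785.result A
  let u : Spec (CommRingCat.of (AlgebraicClosure k)) ⟶ Spec (CommRingCat.of k) :=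
    Spec.map (CommRingCat.ofHom (algebraMap k (AlgebraicClosure k)))
  let F := Over.pullback u
  haveI : Flat u := by
    refine (HasRingHomProperty.Spec_iff (P := @Flat)).2 ?_
    exact RingHom.flat_algebraMap_iff.2 inferInstance
  haveI : Surjective u := ⟨fun y => ⟨IsLocalRing.closedPoint _, Subsingleton.elim (α := Spec (CommRingCat.of k)) _ _⟩⟩
  haveI : LocallyOfFiniteType (F.obj X).hom := MorphismProperty.pullback_snd (P := @LocallyOfFiniteType) _ _ inferInstance
  haveI : LocallyOfFiniteType (F.obj Y).hom := MorphismProperty.pullback_snd (P := @LocallyOfFiniteType) _ _ inferInstance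
  haveI : GeometricallyIntegral (F.obj X).hom := MorphismProperty.pullback_snd (P := @GeometricallyIntegral) _ _ inferInstance
  haveI : GeometricallyIntegral (F.obj Y).hom := MorphismProperty.pullback_snd (P := @GeometricallyIntegral) _ _ inferInstance
  haveI : GeometricallyIntegral (F.obj A).hom := MorphismProperty.pullback_snd (P := @GeometricallyIntegral) _ _ inferInstance
  haveI : IsProper (F.obj A).hom := MorphismProperty.pullback_snd (P := @IsProper) _ _ inferInstance
  haveI : IsCommMonObj (F.obj A) := GrpSchLib.RankOne.isCommMonObj_bc u A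
  have h := GrpFieldLib.ProdAV.closed (Functor.LaxMonoidal.ε F ≫ F.map x₀) (Functor.LaxMonoidal.ε F ≫ F.map y₀)
    (Functor.LaxMonoidal.μ F X Y ≫ F.map f)
  have hmap : ∀ (a b : X ⊗ Y ⟶ A), F.map a = F.map b → a = b := fun a b e => by
    have := congrArg (fun m : F.obj (X ⊗ Y) ⟶ F.obj A => m.left ≫ pullback.fst A.hom u) e
    simp only [F, GrpLimLib.map_left_fst] at this
    haveI he : Epi (pullback.fst (X ⊗ Y).hom u) := Flat.epi_of_flat_of_surjective _
    exact Over.OverMorphism.ext (he.left_cancellation _ _ this)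
  refine hmap _ _ ?_
  rw [← cancel_epi (Functor.LaxMonoidal.μ F X Y), h]
  have hT : ∀ {T : Over (Spec (CommRingCat.of (AlgebraicClosure k)))} (Z : Over (Spec (CommRingCat.of k))) (t : T ⟶ F.obj Z),
      t ≫ F.map (toUnit Z) = toUnit T ≫ Functor.LaxMonoidal.ε F := fun {T} Z t => by
    rw [← Functor.Monoidal.toUnit_ε, comp_toUnit_assoc]
  simp only [Functor.map_mul, GrpObj.comp_inv, MonObj.comp_mul, Functor.map_comp]
  rw [show F.map ((toUnit (X ⊗ Y) ≫ lift x₀ y₀ ≫ f)⁻¹) = (F.map (toUnit (X ⊗ Y) ≫ lift x₀ y₀ ≫ f))⁻¹ from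
    map_inv (F.homMonoidHom (X := X ⊗ Y) (M := A)) _, GrpObj.comp_inv]
  simp only [Functor.map_comp, ← Functor.Monoidal.lift_μ, Category.assoc, reassoc_of% (hT (X ⊗ Y)), reassoc_of% (hT X), reassoc_of% (hT Y), Functor.Monoidal.μ_fst, Functor.Monoidal.μ_snd,
    Functor.Monoidal.μ_fst_assoc, Functor.Monoidal.μ_snd_assoc, comp_lift_assoc, hT, Category.comp_id,
    CategoryTheory.Functor.map_id, comp_toUnit_assoc]

end Groth.Agent.S14584
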