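import Groth.Statements.S14587
import Groth.Agent.WEtLib.OverField
import Groth.Agent.GrpSchLib.AntiAffineHom
import Mathlib.AlgebraicGeometry.Morphisms.FlatMono
import Mathlib.Topology.Separation.Connected

set_option autoImplicit false
universe u
open CategoryTheory MonoidalCategory CartesianMonoidalCategory MonObj GrpObj AlgebraicGeometry CategoryTheory.Limits
open AlgGrp

namespace Groth.Agent.S14587

/-- Let k be a perfect field and G a finite k-group scheme, r : G_red → G its reduced subgroup scheme (a
homomorphism and closed immersion from a reduced k-group scheme, surjective on underlying spaces)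
and i₀ : G⁰ → G its neutral component (a homomorphism and open immersion from a connected k-group
scheme). Then the multiplication morphism G_red × G⁰ → G is an isomorphism, exhibiting G as the
semi-direct product of G⁰ by G_red. -/
theorem result (k : Type u) [Field k] [PerfectField k]
    (G Gr G₀ : Over (Spec (CommRingCat.of k))) [GrpObj G] [GrpObj Gr] [GrpObj G₀] [IsFinite G.hom]
    (r : Gr ⟶ G) [IsMonHom r] [IsClosedImmersion r.left] [IsReduced Gr.left] [Surjective r.left]
    (i₀ : G₀ ⟶ G) [IsMonHom i₀] [IsOpenImmersion i₀.left] [ConnectedSpace ↥G₀.left] :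
    IsIso ((r ⊗ₘ i₀) ≫ μ[G]) := by
  haveI : IsSeparated G.hom := inferInstance
  -- the reduced subgroup is etale
  haveI : IsFinite Gr.hom := by rw [← Over.w r]; infer_instance
  haveI : Etale Gr.hom := by
    haveI : IsAffine Gr.left := isAffine_of_isAffineHom Gr.hom
    obtain ⟨φ, hφ⟩ := Spec.map_surjective (Gr.left.isoSpec.inv ≫ Gr.hom)
    haveI : IsFinite (Spec.map φ) := by rw [hφ]; infer_instance
    have hfin : φ.hom.Finite := (IsFinite.SpecMap_iff φ).mp inferInstance
    let B := Γ(Gr.left, ⊤)
    letI : Algebra k B := φ.hom.toAlgebra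
    haveI : Module.Finite k B := hfin
    haveI : IsArtinianRing B := IsArtinianRing.of_finite k B
    haveI : Algebra.Etale k B := WEtLib.etale_of_isReduced_finite B fun m z => by
      let _ := Ideal.Quotient.field m.asIdeal
      haveI : Module.Finite k (B ⧸ m.asIdeal) :=
        Module.Finite.of_surjective (Ideal.Quotient.mkₐ k m.asIdeal).toLinearMap Ideal.Quotient.mk_surjective
      exact Algebra.IsSeparable.isSeparable k z
    haveI : Etale (Spec.map φ) :=
      (HasRingHomProperty.Spec_iff (P := @Etale)).2 (RingHom.etale_algebraMap.2 ‹Algebra.Etale k B›)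
    rw [← MorphismProperty.cancel_left_of_respectsIso @Etale Gr.left.isoSpec.inv, ← hφ]
    infer_instance
  -- the open subgroup is a point
  haveI : DiscreteTopology G.left := by
    have h := G.hom.isDiscrete_preimage_singleton (IsLocalRing.closedPoint k)
    have h2 : G.hom ⁻¹' {IsLocalRing.closedPoint k} = Set.univ :=
      Set.eq_univ_of_forall fun a => Subsingleton.elim (α := PrimeSpectrum k) (G.hom a) _
    have h4 : _root_.IsDiscrete (Set.univ : Set G.left) := h2 ▸ h
    haveI := h4.to_subtype
    exact (Homeomorph.Set.univ G.left).discreteTopology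
  haveI : DiscreteTopology G₀.left := i₀.left.isOpenEmbedding.isEmbedding.discreteTopology
  haveI : Subsingleton G₀.left := PreconnectedSpace.trivial_of_discrete
  -- the two subgroups meet trivially
  have hinter : ∀ {T : Over (Spec (CommRingCat.of k))} (a : T ⟶ Gr) (n : T ⟶ G₀), a ≫ r = n ≫ i₀ → a = 1 := by
    intro T a n h
    let P := Limits.pullback r.left i₀.left
    haveI : Subsingleton P := by
      refine ⟨fun x y => (Limits.pullback.snd r.left i₀.left).isClosedEmbedding.injective ?_⟩
      exact Subsingleton.elim _ _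
    haveI : AlgebraicGeometry.IsReduced P := isReduced_of_isOpenImmersion (Limits.pullback.fst r.left i₀.left)
    let ε : Spec (CommRingCat.of k) ⟶ P := Limits.pullback.lift η[Gr].left η[G₀].left (by
      rw [← Over.comp_left, ← Over.comp_left, IsMonHom.one_hom, IsMonHom.one_hom])
    haveI : IsClosedImmersion ε := by
      haveI : IsSeparated (Limits.pullback.fst r.left i₀.left ≫ Gr.hom) := inferInstance
      haveI : IsClosedImmersion (ε ≫ Limits.pullback.fst r.left i₀.left ≫ Gr.hom) := by
        rw [Limits.pullback.lift_fst_assoc, Over.w η[Gr]]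
        exact inferInstanceAs (IsClosedImmersion (𝟙 _))
      exact IsClosedImmersion.of_comp ε (Limits.pullback.fst r.left i₀.left ≫ Gr.hom)
    haveI : Surjective ε := ⟨fun _ => ⟨IsLocalRing.closedPoint k, Subsingleton.elim _ _⟩⟩
    haveI : IsIso ε := isIso_of_isClosedImmersion_of_surjective _
    let t : T.left ⟶ P := Limits.pullback.lift a.left n.left (congrArg CommaMorphism.left h)
    obtain ⟨v, hv⟩ : ∃ v, v ≫ ε = t := ⟨t ≫ inv ε, by simp⟩
    have ha : a.left = v ≫ η[Gr].left := by
      have h0 := congrArg (· ≫ Limits.pullback.fst r.left i₀.left) hv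
      simp only [ε, t, Category.assoc, Limits.pullback.lift_fst] at h0
      exact h0.symm
    have hv' : v = T.hom := by
      have h1 := congrArg (· ≫ Gr.hom) ha
      simp only [Category.assoc, Over.w a, Over.w η[Gr]] at h1
      exact (Category.comp_id v).symm.trans h1.symm
    refine Over.OverMorphism.ext ?_
    rw [ha, hv']
    show T.hom ≫ η[Gr].left = (toUnit T ≫ η[Gr]).left
    rw [Over.comp_left]
    rfl
  let m := (r ⊗ₘ i₀) ≫ μ[G]
  have hm : ∀ {T : Over (Spec (CommRingCat.of k))} (z : T ⟶ Gr ⊗ G₀),
      z ≫ m = ((z ≫ fst Gr G₀) ≫ r) * ((z ≫ snd Gr G₀) ≫ i₀) := fun z => by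
    rw [Hom.mul_def, ← Category.assoc]
    congr 1
    apply CartesianMonoidalCategory.hom_ext <;> simp
  haveI : Mono i₀ := (Over.forget _).mono_of_mono_map (inferInstanceAs (Mono i₀.left))
  haveI : Mono m := by
    refine ⟨fun {T} z w h => ?_⟩
    rw [hm, hm] at h
    have h1 : (((w ≫ fst Gr G₀)⁻¹ * (z ≫ fst Gr G₀)) ≫ r) = ((w ≫ snd Gr G₀) * (z ≫ snd Gr G₀)⁻¹) ≫ i₀ := by
      rw [MonObj.mul_comp, MonObj.mul_comp, GrpObj.inv_comp, GrpObj.inv_comp, eq_mul_inv_iff_mul_eq,
        _root_.mul_assoc, h, inv_mul_cancel_left]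
    have h2 := hinter _ _ h1
    rw [inv_mul_eq_one] at h2
    rw [h2] at h
    have h3 := mul_left_cancel h
    rw [cancel_mono i₀] at h3
    exact CartesianMonoidalCategory.hom_ext _ _ h2.symm h3
  -- etale
  let sh : Gr ⊗ G ⟶ Gr ⊗ G := lift (fst Gr G) ((fst Gr G ≫ r) * snd Gr G)
  haveI : IsIso sh := by
    refine ⟨lift (fst Gr G) ((fst Gr G ≫ r)⁻¹ * snd Gr G), ?_, ?_⟩ <;>
      apply CartesianMonoidalCategory.hom_ext <;> simp [sh, MonObj.comp_mul, GrpObj.comp_inv, _root_.mul_assoc]
  have hfac : m = (Gr ◁ i₀) ≫ sh ≫ snd Gr G := by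
    have := hm (𝟙 (Gr ⊗ G₀))
    rw [Category.id_comp, Category.id_comp, Category.id_comp] at this
    rw [this]
    simp [sh, MonObj.comp_mul]
  haveI : IsIso sh.left := inferInstanceAs (IsIso ((Over.forget _).map sh))
  haveI : IsOpenImmersion (Gr ◁ i₀).left :=
    MorphismProperty.pullback_map (P := @IsOpenImmersion) (i₁ := 𝟙 Gr.left) (i₂ := i₀.left)
      inferInstance ‹IsOpenImmersion i₀.left› (Category.id_comp _).symm (Over.w i₀).symm
  haveI : Etale (snd Gr G).left := inferInstanceAs (Etale (Limits.pullback.snd Gr.hom G.hom))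
  haveI : Etale m.left := by
    rw [hfac, Over.comp_left, Over.comp_left]
    infer_instance
  haveI : Mono m.left := inferInstanceAs (Mono ((Over.forget _).map m))
  haveI : IsOpenImmersion m.left := IsOpenImmersion.of_flat_of_mono _
  haveI : Surjective m.left := by
    haveI : Surjective ((lift (𝟙 Gr) (1 : Gr ⟶ G₀)).left ≫ m.left) := by
      rw [← Over.comp_left, hm, lift_fst, lift_snd, Category.id_comp, MonObj.one_comp, _root_.mul_one]
      infer_instance
    exact Surjective.of_comp (lift (𝟙 Gr) (1 : Gr ⟶ G₀)).left m.left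
  haveI : IsIso m.left :=
    (isIso_iff_isOpenImmersion_and_epi_base _).2 ⟨inferInstance, (TopCat.epi_iff_surjective _).2 m.left.surjective⟩
  haveI : IsIso ((Over.forget _).map m) := ‹IsIso m.left›
  exact isIso_of_reflects_iso m (Over.forget _)

end Groth.Agent.S14587
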