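import Groth.Statements.S14592
import Groth.Agent.Chevalley.CommAff.SAOps
import Groth.Agent.Chevalley.CommAff.SAComm
import Groth.Agent.EtFound.Descent
-- import your own Groth.Agent.* helpers here

set_option autoImplicit false
set_option backward.isDefEq.respectTransparency false
set_option maxHeartbeats 1000000
set_option linter.style.haveILetI false
universe u
open CategoryTheory MonoidalCategory CartesianMonoidalCategory MonObj GrpObj AlgebraicGeometry CategoryTheory.Limits
open AlgGrp

namespace Groth.Agent.S14592

/-- Let k be a field with algebraic closure K and G a k-group scheme of finite type. If G_K is a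
semi-abelian variety over K — an extension of an abelian variety (proper, smooth, connected K-group
scheme) by a torus — then G is a semi-abelian variety over k: there are a closed subgroup scheme i :
T → G with T a torus and a flat surjective homomorphism q : G → A with kernel T onto a proper smooth
connected k-group scheme. -/
theorem result (k : Type u) [Field k]
    (G : Over (Spec (CommRingCat.of k))) [GrpObj G] [LocallyOfFiniteType G.hom] [QuasiCompact G.hom]
    (hK : (∃ (T : Over (Spec (CommRingCat.of (AlgebraicClosure k)))) (_ : GrpObj T) (i : T ⟶ Red.bc (Spec.map (CommRingCat.ofHom (algebraMap k (AlgebraicClosure k)))) G) (A : Over (Spec (CommRingCat.of (AlgebraicClosure k)))) (_ : GrpObj A) (q : Red.bc (Spec.map (CommRingCat.ofHom (algebraMap k (AlgebraicClosure k)))) G ⟶ A),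
        IsMonHom i ∧ IsClosedImmersion i.left ∧ Red.IsTorus T ∧ IsMonHom q ∧ Surjective q.left ∧ Flat q.left ∧
        AlgGrp.IsKernel i q ∧ IsProper A.hom ∧ Smooth A.hom ∧ ConnectedSpace ↥A.left)) :
    (∃ (T : Over (Spec (CommRingCat.of k))) (_ : GrpObj T) (i : T ⟶ G) (A : Over (Spec (CommRingCat.of k))) (_ : GrpObj A) (q : G ⟶ A),
        IsMonHom i ∧ IsClosedImmersion i.left ∧ Red.IsTorus T ∧ IsMonHom q ∧ Surjective q.left ∧ Flat q.left ∧
        AlgGrp.IsKernel i q ∧ IsProper A.hom ∧ Smooth A.hom ∧ ConnectedSpace ↥A.left) := by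
  let φ : Spec (CommRingCat.of (AlgebraicClosure k)) ⟶ Spec (CommRingCat.of k) :=
    Spec.map (CommRingCat.ofHom (algebraMap k (AlgebraicClosure k)))
  haveI : Surjective φ := ⟨fun x => ⟨IsLocalRing.closedPoint (AlgebraicClosure k), Subsingleton.elim (α := PrimeSpectrum k) _ _⟩⟩
  haveI : LocallyOfFiniteType (Red.bc φ G).hom := inferInstanceAs (LocallyOfFiniteType (pullback.snd G.hom φ))
  haveI : QuasiCompact (Red.bc φ G).hom := inferInstanceAs (QuasiCompact (pullback.snd G.hom φ))
  have hSA : Chevalley.CommAff.IsSA (Red.bc φ G) := hK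
  obtain ⟨hs, hc⟩ := hSA.props
  haveI := hSA.isCommMonObj
  have hcov : (@Surjective ⊓ @Flat ⊓ @QuasiCompact : MorphismProperty Scheme.{u}) φ := ⟨⟨inferInstance, inferInstance⟩, inferInstance⟩
  haveI : Smooth G.hom := MorphismProperty.of_pullback_snd_of_descendsAlong (P := @Smooth)
    (Q := (@Surjective ⊓ @Flat ⊓ @QuasiCompact : MorphismProperty Scheme.{u})) hcov hs
  haveI : ConnectedSpace G.left := by
    haveI : ConnectedSpace ↥(pullback G.hom φ) := hc
    exact (pullback.fst G.hom φ).surjective.connectedSpace (pullback.fst G.hom φ).continuous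
  haveI : IsCommMonObj G := by
    have h : fst G G * snd G G = snd G G * fst G G := by
      refine GrpSchLib.AntiAffine.eq_of_map_eq (algebraMap k (AlgebraicClosure k)) ?_
      show (Over.pullback φ).homMonoidHom _ = (Over.pullback φ).homMonoidHom _
      rw [map_mul, map_mul]
      have e := mul_comm (fst (Red.bc φ G) (Red.bc φ G)) (snd (Red.bc φ G) (Red.bc φ G))
      have e' := congrArg (lift ((Over.pullback φ).map (fst G G)) ((Over.pullback φ).map (snd G G)) ≫ ·) e
      simp only [MonObj.comp_mul, lift_fst, lift_snd] at e'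
      exact e'
    refine ⟨?_⟩
    have e : μ[G] = fst G G * snd G G := by rw [Hom.mul_def, lift_fst_snd, Category.id_comp]
    rw [e, MonObj.comp_mul, braiding_hom_fst, braiding_hom_snd]
    exact h.symm
  obtain ⟨T, _, i, hi, hic, hT, habs⟩ := Chevalley.CommAff.exists_absTorus G
  haveI := hi; haveI := hic
  obtain ⟨Q, _, r, hr, hrf, hrs, hrk, hQl, hQq⟩ := Chevalley.CommAff.exists_quot i (Chevalley.CommAff.isNormal_of_comm i)
  haveI := hr; haveI := hrf; haveI := hrs; haveI := hQl; haveI := hQq
  obtain ⟨T', _, i', A, _, q, hi', hi'c, hT', hq, hqs, hqf, hk, hAp, hAs, hAc⟩ := hK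
  haveI := hi'; haveI := hq; haveI := hqs; haveI := hqf; haveI := hAp
  haveI : LocallyOfFiniteType (Red.bc φ Q).hom := inferInstanceAs (LocallyOfFiniteType (pullback.snd Q.hom φ))
  haveI : QuasiCompact (Red.bc φ Q).hom := inferInstanceAs (QuasiCompact (pullback.snd Q.hom φ))
  obtain ⟨g, hg⟩ := habs (AlgebraicClosure k) (algebraMap k (AlgebraicClosure k)) T' hT' i' hi'
  obtain ⟨u, hu', hu, -⟩ := S3280.result (AlgebraicClosure k) (Red.bc φ G) T' A (Red.bc φ Q) q i' hk
    ((Over.pullback φ).map r) (by
    have e : (Over.pullback φ).map (i ≫ r) = 1 := by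
      rw [hrk.w, ← Hom.one_def]
      exact map_one ((Over.pullback φ).homMonoidHom)
    rw [← hg, Category.assoc, ← Functor.map_comp, e, MonObj.comp_one, Hom.one_def])
  haveI : Surjective u.left := by
    haveI : Surjective ((Over.pullback φ).map r).left := by
      refine MorphismProperty.of_isPullback (P := @Surjective) (g := r.left) (f' := pullback.fst G.hom φ)
        (f := pullback.fst Q.hom φ) ?_ (show Surjective r.left from inferInstance)
      refine IsPullback.of_bot (v₂₁ := pullback.snd Q.hom φ) (v₂₂ := Q.hom) (h₃₁ := φ) ?_ (LargeNormal.map_fst φ r).symm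
        (IsPullback.of_hasPullback Q.hom φ)
      have h1 : ((Over.pullback φ).map r).left ≫ pullback.snd Q.hom φ = pullback.snd G.hom φ :=
        Over.w ((Over.pullback φ).map r)
      rw [h1, Over.w r]
      exact IsPullback.of_hasPullback G.hom φ
    haveI : Surjective (q.left ≫ u.left) := by rw [← Over.comp_left, hu]; infer_instance
    exact Surjective.of_comp q.left u.left
  haveI := GrpSchLib.AntiAffine.isSeparated_grp (Red.bc φ Q)
  haveI : IsProper (Red.bc φ Q).hom := Chevalley.BC.isProper_of_surjective u
  haveI := EtFound.fpqc_isProper.{u}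
  haveI : IsProper Q.hom := MorphismProperty.of_pullback_snd_of_descendsAlong (P := @IsProper)
    (Q := (@Surjective ⊓ @Flat ⊓ @QuasiCompact : MorphismProperty Scheme.{u})) hcov (inferInstanceAs (IsProper (Red.bc φ Q).hom))
  exact Chevalley.CommAff.isSA_of_proper_quot i hT r hrk

end Groth.Agent.S14592
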