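import Groth.Statements.S14602
import Groth.Agent.Chevalley.CommAff.SAOps
-- import your own Groth.Agent.* helpers here

set_option autoImplicit false
set_option backward.isDefEq.respectTransparency false
set_option maxHeartbeats 1000000
set_option linter.style.haveILetI false
universe u
open CategoryTheory MonoidalCategory CartesianMonoidalCategory MonObj GrpObj AlgebraicGeometry CategoryTheory.Limits
open AlgGrp

namespace Groth.Agent.S14602

/-- Let k be a field and G a commutative k-group scheme of finite type. Then G has a largest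
semi-abelian subvariety: a closed subgroup scheme s : S → G which is an extension of a proper smooth
connected k-group scheme by a torus, through which every other such closed subgroup scheme of G
factors; and (G/S)_sab is trivial: for every flat surjective homomorphism q : G → Q of k-group
schemes of finite type with kernel S, every semi-abelian closed subgroup scheme of Q is the trivial
group. -/
theorem result (k : Type u) [Field k]
    (G : Over (Spec (CommRingCat.of k))) [GrpObj G] [IsCommMonObj G] [LocallyOfFiniteType G.hom] [QuasiCompact G.hom] :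
    ∃ (S : Over (Spec (CommRingCat.of k))) (_ : GrpObj S) (s : S ⟶ G), IsMonHom s ∧ IsClosedImmersion s.left ∧ (∃ (T : Over (Spec (CommRingCat.of k))) (_ : GrpObj T) (i : T ⟶ S) (A : Over (Spec (CommRingCat.of k))) (_ : GrpObj A) (q : S ⟶ A),
        IsMonHom i ∧ IsClosedImmersion i.left ∧ Red.IsTorus T ∧ IsMonHom q ∧ Surjective q.left ∧ Flat q.left ∧
        AlgGrp.IsKernel i q ∧ IsProper A.hom ∧ Smooth A.hom ∧ ConnectedSpace ↥A.left) ∧
      (∀ (S' : Over (Spec (CommRingCat.of k))) [GrpObj S'] (s' : S' ⟶ G) [IsMonHom s'] [IsClosedImmersion s'.left],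
        (∃ (T : Over (Spec (CommRingCat.of k))) (_ : GrpObj T) (i : T ⟶ S') (A : Over (Spec (CommRingCat.of k))) (_ : GrpObj A) (q : S' ⟶ A),
        IsMonHom i ∧ IsClosedImmersion i.left ∧ Red.IsTorus T ∧ IsMonHom q ∧ Surjective q.left ∧ Flat q.left ∧
        AlgGrp.IsKernel i q ∧ IsProper A.hom ∧ Smooth A.hom ∧ ConnectedSpace ↥A.left) → ∃ g : S' ⟶ S, g ≫ s = s') ∧
      (∀ (Q : Over (Spec (CommRingCat.of k))) [GrpObj Q] [LocallyOfFiniteType Q.hom] [QuasiCompact Q.hom] (q : G ⟶ Q) [IsMonHom q]
        [Surjective q.left] [Flat q.left], AlgGrp.IsKernel s q →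
        ∀ (S'' : Over (Spec (CommRingCat.of k))) [GrpObj S''] (s'' : S'' ⟶ Q) [IsMonHom s''] [IsClosedImmersion s''.left],
          (∃ (T : Over (Spec (CommRingCat.of k))) (_ : GrpObj T) (i : T ⟶ S'') (A : Over (Spec (CommRingCat.of k))) (_ : GrpObj A) (q : S'' ⟶ A),
        IsMonHom i ∧ IsClosedImmersion i.left ∧ Red.IsTorus T ∧ IsMonHom q ∧ Surjective q.left ∧ Flat q.left ∧
        AlgGrp.IsKernel i q ∧ IsProper A.hom ∧ Smooth A.hom ∧ ConnectedSpace ↥A.left) → IsIso η[S'']) := by
  obtain ⟨S, _, s, hs, hsc, hS, hmax⟩ := Chevalley.CommAff.exists_largest G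
  haveI := hs; haveI := hsc
  refine ⟨S, inferInstance, s, hs, hsc, hS, fun S' _ s' _ _ h => hmax S' s' h, ?_⟩
  intro Q _ _ _ q _ _ _ hq S'' _ s'' _ _ hS''
  haveI := Chevalley.CommAff.isCommMonObj_of_cover q
  haveI := Chevalley.CommAff.isCommMonObj_sub s''
  haveI : LocallyOfFiniteType S.hom := by rw [← Over.w s]; infer_instance
  haveI : QuasiCompact S.hom := by rw [← Over.w s]; infer_instance
  haveI : LocallyOfFiniteType S''.hom := by rw [← Over.w s'']; infer_instance
  haveI : QuasiCompact S''.hom := by rw [← Over.w s'']; infer_instance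
  obtain ⟨P, _, κ, ψ, i', hκ, hψ, hi', hP, hψf, hψs, hi'c, hi'κ, hkP, hPc, hPl, hPq, hκc⟩ :=
    Chevalley.CommAff.exists_fibre q s hq s''
  haveI := hκ; haveI := hψ; haveI := hi'; haveI := hψf; haveI := hψs; haveI := hi'c; haveI := hPl; haveI := hPq
  haveI := hκc inferInstance
  obtain ⟨g, hg⟩ := hmax P κ (Chevalley.CommAff.isSA_ext hS hS'' i' ψ hkP)
  haveI := Chevalley.CommAff.epi_of_cover ψ
  haveI : Mono s'' := Over.mono_of_mono_left _
  refine Chevalley.CommAff.isIso_eta_of_id_eq_one ?_
  rw [← cancel_mono s'', ← cancel_epi ψ, Category.id_comp, ← hP.w, ← hg, Category.assoc, hq.w, ← Category.assoc,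
    comp_toUnit, MonObj.one_comp, MonObj.comp_one]
  rfl

end Groth.Agent.S14602
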