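import Groth.Statements.S14605
import Groth.Agent.Chevalley.CommAff.SAOps
-- import your own Groth.Agent.* helpers here

set_option autoImplicit false
set_option backward.isDefEq.respectTransparency false
set_option maxHeartbeats 1000000
set_option linter.style.haveILetI false
universe u
open CategoryTheory MonoidalCategory CartesianMonoidalCategory MonObj GrpObj AlgebraicGeometry CategoryTheory.Limits
open AlgGrp

namespace Groth.Agent.S14605

/-- Let k be a field of characteristic p > 0, G a commutative k-group scheme of finite type, h : H → G a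
closed subgroup scheme and q : G → Q a flat surjective homomorphism of k-group schemes of finite
type with kernel H (Q = G/H). Let s : S → G and s' : S' → Q be the largest semi-abelian subvarieties
of G and of Q (closed subgroup schemes which are extensions of a proper smooth connected k-group
scheme by a torus, through which every other such closed subgroup scheme factors). Then q maps S
onto S': the image of S → G → Q equals the underlying set of S'. Since S' is smooth, this is the
statement that G_sab/(G_sab ∩ H) → (G/H)_sab is an isomorphism. -/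
theorem result (k : Type u) [Field k] (p : ℕ) [Fact p.Prime] [CharP k p]
    (G : Over (Spec (CommRingCat.of k))) [GrpObj G] [IsCommMonObj G] [LocallyOfFiniteType G.hom] [QuasiCompact G.hom]
    (H : Over (Spec (CommRingCat.of k))) [GrpObj H] (h : H ⟶ G) [IsMonHom h] [IsClosedImmersion h.left]
    (Q : Over (Spec (CommRingCat.of k))) [GrpObj Q] [LocallyOfFiniteType Q.hom] [QuasiCompact Q.hom]
    (q : G ⟶ Q) [IsMonHom q] [Surjective q.left] [Flat q.left] (hq : AlgGrp.IsKernel h q)
    (S : Over (Spec (CommRingCat.of k))) [GrpObj S] (s : S ⟶ G) [IsMonHom s] [IsClosedImmersion s.left] (hS : (∃ (T : Over (Spec (CommRingCat.of k))) (_ : GrpObj T) (i : T ⟶ S) (A : Over (Spec (CommRingCat.of k))) (_ : GrpObj A) (q : S ⟶ A),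
        IsMonHom i ∧ IsClosedImmersion i.left ∧ Red.IsTorus T ∧ IsMonHom q ∧ Surjective q.left ∧ Flat q.left ∧
        AlgGrp.IsKernel i q ∧ IsProper A.hom ∧ Smooth A.hom ∧ ConnectedSpace ↥A.left))
    (hSmax : ∀ (S₁ : Over (Spec (CommRingCat.of k))) [GrpObj S₁] (s₁ : S₁ ⟶ G) [IsMonHom s₁] [IsClosedImmersion s₁.left],
      (∃ (T : Over (Spec (CommRingCat.of k))) (_ : GrpObj T) (i : T ⟶ S₁) (A : Over (Spec (CommRingCat.of k))) (_ : GrpObj A) (q : S₁ ⟶ A),
        IsMonHom i ∧ IsClosedImmersion i.left ∧ Red.IsTorus T ∧ IsMonHom q ∧ Surjective q.left ∧ Flat q.left ∧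
        AlgGrp.IsKernel i q ∧ IsProper A.hom ∧ Smooth A.hom ∧ ConnectedSpace ↥A.left) → ∃ g : S₁ ⟶ S, g ≫ s = s₁)
    (S' : Over (Spec (CommRingCat.of k))) [GrpObj S'] (s' : S' ⟶ Q) [IsMonHom s'] [IsClosedImmersion s'.left] (hS' : (∃ (T : Over (Spec (CommRingCat.of k))) (_ : GrpObj T) (i : T ⟶ S') (A : Over (Spec (CommRingCat.of k))) (_ : GrpObj A) (q : S' ⟶ A),
        IsMonHom i ∧ IsClosedImmersion i.left ∧ Red.IsTorus T ∧ IsMonHom q ∧ Surjective q.left ∧ Flat q.left ∧
        AlgGrp.IsKernel i q ∧ IsProper A.hom ∧ Smooth A.hom ∧ ConnectedSpace ↥A.left))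
    (hS'max : ∀ (S₁ : Over (Spec (CommRingCat.of k))) [GrpObj S₁] (s₁ : S₁ ⟶ Q) [IsMonHom s₁] [IsClosedImmersion s₁.left],
      (∃ (T : Over (Spec (CommRingCat.of k))) (_ : GrpObj T) (i : T ⟶ S₁) (A : Over (Spec (CommRingCat.of k))) (_ : GrpObj A) (q : S₁ ⟶ A),
        IsMonHom i ∧ IsClosedImmersion i.left ∧ Red.IsTorus T ∧ IsMonHom q ∧ Surjective q.left ∧ Flat q.left ∧
        AlgGrp.IsKernel i q ∧ IsProper A.hom ∧ Smooth A.hom ∧ ConnectedSpace ↥A.left) → ∃ g : S₁ ⟶ S', g ≫ s' = s₁) :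
    Set.range ⇑(s ≫ q).left.base = Set.range ⇑s'.left.base := by
  haveI := Chevalley.CommAff.isCommMonObj_of_cover q
  haveI := Chevalley.CommAff.isCommMonObj_sub s'
  haveI : LocallyOfFiniteType S.hom := by rw [← Over.w s]; infer_instance
  haveI : QuasiCompact S.hom := by rw [← Over.w s]; infer_instance
  haveI : LocallyOfFiniteType S'.hom := by rw [← Over.w s']; infer_instance
  haveI : QuasiCompact S'.hom := by rw [← Over.w s']; infer_instance
  refine Set.Subset.antisymm ?_ ?_
  · obtain ⟨I, _, π, b, hπ, hb, hπb, hbc, -, -, hI⟩ := Chevalley.CommAff.IsSA.image (show Chevalley.CommAff.IsSA S from hS) (s ≫ q)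
    haveI := hb; haveI := hbc
    obtain ⟨g, hg⟩ := hS'max I b hI
    rintro _ ⟨x, rfl⟩
    refine ⟨(π ≫ g).left x, ?_⟩
    have h : (π ≫ g) ≫ s' = s ≫ q := by rw [Category.assoc, hg, hπb]
    exact congrArg (fun m => m.left x) h
  · obtain ⟨R, _, r, hr, hrf, hrs, hrk, hRl, hRq⟩ := Chevalley.CommAff.exists_quot s (Chevalley.CommAff.isNormal_of_comm s)
    haveI := hr; haveI := hrf; haveI := hrs; haveI := hRl; haveI := hRq
    obtain ⟨n, hn, hkill⟩ := Chevalley.CommAff.exists_exponent_quot s r p (fun S' _ s' _ _ h => hSmax S' s' h) hrk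
    haveI := Chevalley.CommAff.isMonHom_pow G n
    have h1 : ((𝟙 G) ^ n) ≫ r = toUnit G ≫ η[R] := by
      rw [Chevalley.BC.pow_comp, Category.id_comp, ← Category.comp_id r, ← Chevalley.BC.comp_pow, hkill,
        MonObj.comp_one, Hom.one_def]
    let φ : G ⟶ S := hrk.lift ((𝟙 G) ^ n) (toUnit G) h1
    have hφ : φ ≫ s = (𝟙 G) ^ n := hrk.lift_fst _ _ _
    haveI := (show Chevalley.CommAff.IsSA S' from hS').surjective_pow hn
    rintro _ ⟨y, rfl⟩
    obtain ⟨y, rfl⟩ := ((𝟙 S') ^ n).left.surjective y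
    obtain ⟨x, hx⟩ := q.left.surjective (s'.left y)
    refine ⟨φ.left x, ?_⟩
    have e1 : ((𝟙 S') ^ n) ≫ s' = s' ≫ (𝟙 Q) ^ n := by
      rw [Chevalley.BC.pow_comp, Chevalley.BC.comp_pow, Category.id_comp, Category.comp_id]
    have e2 : φ ≫ s ≫ q = q ≫ (𝟙 Q) ^ n := by
      rw [reassoc_of% hφ, Chevalley.BC.pow_comp, Chevalley.BC.comp_pow, Category.id_comp, Category.comp_id]
    show (φ ≫ s ≫ q).left x = (((𝟙 S') ^ n) ≫ s').left y
    rw [e1, e2]
    show ((𝟙 Q) ^ n).left (q.left x) = ((𝟙 Q) ^ n).left (s'.left y)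
    rw [hx]

end Groth.Agent.S14605
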