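import Groth.Statements.S14607
import Groth.Agent.PicA1.Line
import Groth.Agent.PicA1.Alg
import Groth.Agent.PicA1.Affine

set_option autoImplicit false
set_option backward.isDefEq.respectTransparency false
set_option backward.isDefEq.respectTransparency.types false
set_option maxHeartbeats 1000000
set_option linter.style.haveILetI false
universe u
open CategoryTheory AlgebraicGeometry CategoryTheory.Limits
open PicF

namespace Groth.Agent.S14607
open Groth.Agent CategoryTheory CategoryTheory.Limits AlgebraicGeometry

/-- Let k be a field and X an integral, separated k-scheme of finite type which is seminormal, in the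
sense that every point has an affine open neighbourhood whose ring of functions is seminormal (x³ =
y² implies x = a² and y = a³ for exactly one a). Then the pull-back along the first projection X ×
A¹ → X induces a bijection from the isomorphism classes of invertible O_X-modules onto those of
invertible modules on X × A¹, i.e. Pic(X) → Pic(X × A¹) is an isomorphism. (This is the assertion
established in the course of the published proof, which deduces from it that the Picard variety of a
geometrically semi-normal proper variety is semi-abelian; semi-normality is taken in the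
ring-theoretic form used by the cited input on Picard groups of polynomial rings.) -/
theorem result (k : Type u) [Field k]
    (X : Scheme.{u}) (f : X ⟶ Spec (CommRingCat.of k)) [IsIntegral X] [IsSeparated f] [LocallyOfFiniteType f] [QuasiCompact f]
    (hX : HTop.IsSeminormal X) :
    Set.BijOn (PicF.pullCl (pullback.fst f (𝔸(PUnit.{u + 1}; Spec (CommRingCat.of k)) ↘ Spec (CommRingCat.of k))))
      {c : PicF.Cl X | PicF.IsInvertibleCl c}
      {c : PicF.Cl (pullback f (𝔸(PUnit.{u + 1}; Spec (CommRingCat.of k)) ↘ Spec (CommRingCat.of k))) | PicF.IsInvertibleCl c} := by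
  let σ := PUnit.{u + 1}
  haveI : AlgebraicGeometry.IsReduced X := inferInstance
  have hloc : ∀ (x : X) (L : (𝔸(σ; Spec (X.presheaf.stalk x))).Modules), PicF.IsInvertible L →
      ∃ t : Γ(L, ⊤), InvX.IsFrame t := fun x L hL => by
    obtain ⟨⟨U, hU⟩, hxU, hUs⟩ := hX x
    letI := X.presheaf.algebra_section_stalk (⟨x, hxU⟩ : U)
    haveI := hU.isLocalization_stalk ⟨x, hxU⟩
    have hR : HTop.IsSeminormalRing (X.presheaf.stalk x) :=
      PicA1.seminormal_localization (hU.primeIdealOf ⟨x, hxU⟩).asIdeal.primeCompl _ hUs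
    haveI : Subsingleton (CommRing.Pic (Polynomial (X.presheaf.stalk x))) :=
      CommRing.Pic.subsingleton_iff.2 fun M _ _ _ => PicA1.free_polynomial hR M
    haveI : Subsingleton (CommRing.Pic (MvPolynomial σ (X.presheaf.stalk x))) :=
      PicA1.subsingleton_pic_of_ringEquiv (MvPolynomial.pUnitAlgEquiv.{_, u} (X.presheaf.stalk x)).toRingEquiv.symm
    let eΓ : MvPolynomial σ (X.presheaf.stalk x) ≃+* Γ(𝔸(σ; Spec (X.presheaf.stalk x)), ⊤) :=
      ((Scheme.ΓSpecIso (CommRingCat.of (MvPolynomial σ (X.presheaf.stalk x)))).symm ≪≫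
        asIso (AffineSpace.SpecIso σ (X.presheaf.stalk x)).hom.appTop).commRingCatIsoToRingEquiv
    exact PicA1.exists_frame_top (PicA1.subsingleton_pic_of_ringEquiv eΓ) hL
  let p := pullback.fst f (𝔸(σ; Spec (CommRingCat.of k)) ↘ Spec (CommRingCat.of k))
  let e := (AffineSpace.isPullback_map (n := σ) f).flip.isoPullback
  have he : e.hom ≫ p = (𝔸(σ; X) ↘ X) := (AffineSpace.isPullback_map (n := σ) f).flip.isoPullback_hom_fst
  have he' : e.inv ≫ (𝔸(σ; X) ↘ X) = p := by rw [← he, Iso.inv_hom_id_assoc]
  let z := PicA1.sec σ X ≫ e.hom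
  have hz : z ≫ p = 𝟙 X := by
    show (_ ≫ _) ≫ _ = _
    rw [Category.assoc, he, PicA1.sec_over]
  refine ⟨?_, ?_, ?_⟩
  · rintro _ ⟨L, rfl, hL⟩
    exact ⟨(Scheme.Modules.pullback p).obj L, rfl, PicClLib.isInvertible_pullback p hL⟩
  · intro c _ c' _ h
    have := congrArg (PicF.pullCl z) h
    rwa [PicClLib.pullCl_comp, PicClLib.pullCl_comp, hz, PicClLib.pullCl_id, PicClLib.pullCl_id] at this
  · rintro _ ⟨L, rfl, hL⟩
    let L' := (Scheme.Modules.pullback e.hom).obj L
    have hL' := PicClLib.isInvertible_pullback e.hom hL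
    obtain ⟨i⟩ := PicA1.nonempty_iso_pullback σ X hloc hL'
    refine ⟨PicF.cl ((Scheme.Modules.pullback (PicA1.sec σ X)).obj L'),
      ⟨_, rfl, PicClLib.isInvertible_pullback _ hL'⟩, ?_⟩
    have h1 : PicF.cl L' = PicF.pullCl (𝔸(σ; X) ↘ X) (PicF.cl ((Scheme.Modules.pullback (PicA1.sec σ X)).obj L')) :=
      H23.PicMul.cl_eq_iff.2 ⟨i⟩
    show PicF.pullCl p _ = _
    rw [← he', ← PicClLib.pullCl_comp, ← h1]
    show PicF.pullCl e.inv (PicF.pullCl e.hom (PicF.cl L)) = _
    rw [PicClLib.pullCl_comp, e.inv_hom_id, PicClLib.pullCl_id]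

end Groth.Agent.S14607
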