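import Groth.Statements.S14611
import Groth.Agent.TorBridge.Basic
import Groth.Agent.S14608

set_option autoImplicit false
set_option backward.isDefEq.respectTransparency false
set_option backward.isDefEq.respectTransparency.types false
universe u
open FlatCx

namespace Groth.Agent.S14611

open CategoryTheory CategoryTheory.Limits in
/-- Let A be a Noetherian ring, Q a cochain complex whose terms are finitely generated projective
A-modules, and d an integer such that H^p(Q) = 0 for every p < d and H^p(Q ⊗_A A/m) = 0 for every p
< d and every maximal ideal m of A. Then Q^d / im(Q^{d-1} → Q^d), the degree-d term of the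
truncation τ_{≥ d} Q, is a projective A-module, so that τ_{≥ d} Q is again a complex of projective
modules. (The published statement also asserts that Q → τ_{≥ d} Q is a quasi-isomorphism when H^p(Q)
= 0 for p < d; this row omits that clause.) -/
theorem result (A : Type u) [CommRing A] [IsNoetherianRing A]
    (Q : CochainComplex (ModuleCat.{u} A) ℤ)
    (hQ : ∀ i, Module.Finite A (Q.X i) ∧ Module.Projective A (Q.X i)) (d : ℤ)
    (h1 : ∀ p < d, IsZero (Q.homology p))
    (h2 : ∀ (m : Ideal A) [m.IsMaximal], ∀ p < d,
      IsZero ((CohIII.tensorObj Q (ModuleCat.of A (A ⧸ m))).homology p)) :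
    Module.Projective A (Q.opcycles d) := by
  classical
  obtain ⟨hfd, hpd⟩ := hQ d
  obtain ⟨hf1, hp1⟩ := hQ (d - 1)
  let a := (Q.d (d - 2) (d - 1)).hom
  let b := (Q.d (d - 1) d).hom
  let p := (LinearMap.range b).mkQ
  have hprev : (ComplexShape.up ℤ).prev (d - 1) = d - 2 := by simp; lia
  have hnext : (ComplexShape.up ℤ).next (d - 1) = d := by simp
  have hab : Function.Exact a b := by
    have := h1 (d - 1) (by lia)
    rw [← HomologicalComplex.exactAt_iff_isZero_homology,
      HomologicalComplex.exactAt_iff' _ (d - 2) (d - 1) d hprev hnext,
      ShortComplex.ShortExact.moduleCat_exact_iff_function_exact] at this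
    exact this
  have hproj : Module.Projective A (Q.X d ⧸ LinearMap.range b) := by
    haveI : Module.FinitePresentation A (Q.X d ⧸ LinearMap.range b) :=
      Module.finitePresentation_of_finite A _
    refine Module.projective_of_localization_maximal fun m hm => ?_
    let Ap := Localization.AtPrime m
    let k := m.ResidueField
    have hk : Function.Exact (a.lTensor k) (b.lTensor k) := by
      have := h2 m (d - 1) (by lia)
      rw [← HomologicalComplex.exactAt_iff_isZero_homology,
        HomologicalComplex.exactAt_iff' _ (d - 2) (d - 1) d hprev hnext,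
        ShortComplex.ShortExact.moduleCat_exact_iff_function_exact] at this
      have h' : Function.Exact (a.rTensor (A ⧸ m)) (b.rTensor (A ⧸ m)) := this
      let e : (A ⧸ m) ≃ₗ[A] k := LinearEquiv.ofBijective
        (IsScalarTower.toAlgHom A (A ⧸ m) k).toLinearMap m.bijective_algebraMap_quotient_residueField
      have hc : ∀ {X Y : Type u} [AddCommGroup X] [Module A X] [AddCommGroup Y] [Module A Y] (f : X →ₗ[A] Y),
          f.lTensor k ∘ₗ ((TensorProduct.comm A X (A ⧸ m)).trans
              (TensorProduct.congr e (LinearEquiv.refl A X))).toLinearMap =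
            ((TensorProduct.comm A Y (A ⧸ m)).trans
              (TensorProduct.congr e (LinearEquiv.refl A Y))).toLinearMap ∘ₗ f.rTensor (A ⧸ m) :=
        fun f => TensorProduct.ext' fun x c => rfl
      exact (Function.Exact.iff_of_ladder_linearEquiv
        (e₁ := (TensorProduct.comm A _ (A ⧸ m)).trans (TensorProduct.congr e (LinearEquiv.refl A _)))
        (e₂ := (TensorProduct.comm A _ (A ⧸ m)).trans (TensorProduct.congr e (LinearEquiv.refl A _)))
        (e₃ := (TensorProduct.comm A _ (A ⧸ m)).trans (TensorProduct.congr e (LinearEquiv.refl A _)))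
        (hc a) (hc b)).2 h'
    have hj : Function.Injective ((LinearMap.ker p).subtype.lTensor k) :=
      (Groth.Agent.TorBridge.lTensor_ker_injective_iff a b p hab b.exact_map_mkQ_range).2 hk
    haveI : Module.Free Ap (TensorProduct A Ap (Q.X d)) := Module.free_of_flat_of_isLocalRing
    have hfree : Module.Free Ap (TensorProduct A Ap (Q.X d ⧸ LinearMap.range b)) :=
      Module.free_of_lTensor_residueField_injective ((LinearMap.ker p).subtype.baseChange Ap)
        (p.baseChange Ap) (LinearMap.lTensor_surjective Ap (Submodule.mkQ_surjective _))
        (lTensor_exact Ap (LinearMap.exact_subtype_ker_map p) (Submodule.mkQ_surjective _))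
        ((Groth.Agent.S14608.inj_iff m (LinearMap.ker p).subtype).2 hj)
    haveI : Module.Free Ap (LocalizedModule m.primeCompl (Q.X d ⧸ LinearMap.range b)) :=
      Module.Free.of_equiv (LocalizedModule.equivTensorProduct m.primeCompl _).symm
    exact Module.Projective.of_free
  have hpr : (ComplexShape.up ℤ).prev d = d - 1 := by simp
  exact Module.Projective.of_equiv
    (((ModuleCat.cokernelIsoRangeQuotient (Q.d (d - 1) d)).symm ≪≫
      ((cokernelIsCokernel (Q.d (d - 1) d)).coconePointUniqueUpToIso
        (Q.opcyclesIsCokernel (d - 1) d hpr) : Limits.cokernel (Q.d (d - 1) d) ≅ Q.opcycles d)).toLinearEquiv)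

end Groth.Agent.S14611
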