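import Groth.Statements.S14614
import Mathlib
import Groth.Agent.ArtFunLib.Hull.Ring

set_option autoImplicit false
universe u
set_option backward.isDefEq.respectTransparency false
set_option maxHeartbeats 800000
open Mor

namespace Groth.Agent.S14614

open CategoryTheory AlgebraicGeometry in
/-- Let S be a locally Noetherian scheme and i : Z → S a closed immersion with the following property:
for every Artinian local ring A with residue field k and every morphism g : Spec A → S, if the
restriction Spec k → Spec A → S of g factors through i then so does g. Then i is also an open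
immersion, i.e. the closed subscheme Z is open in S as a subscheme. (The published hypothesis is an
equivalence; its other direction always holds, so this row assumes only the implication.) -/
theorem result (S : Scheme.{u}) [IsLocallyNoetherian S]
    {Z : Scheme.{u}} (i : Z ⟶ S) [IsClosedImmersion i]
    (h : ∀ (A : Type u) [CommRing A] [IsArtinianRing A] [IsLocalRing A] (g : Spec (CommRingCat.of A) ⟶ S),
      (∃ t : Spec (CommRingCat.of (IsLocalRing.ResidueField A)) ⟶ Z,
          t ≫ i = Spec.map (CommRingCat.ofHom (IsLocalRing.residue A)) ≫ g) →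
        ∃ g' : Spec (CommRingCat.of A) ⟶ Z, g' ≫ i = g) :
    IsOpenImmersion i := by
  haveI : LocallyOfFinitePresentation i := inferInstance
  haveI : Flat i := by
    refine (Flat.iff_flat_stalkMap i).2 fun z => ?_
    have hsurj : Function.Surjective (i.stalkMap z).hom := i.stalkMap_surjective z
    haveI : IsLocalHom (i.stalkMap z).hom := inferInstance
    suffices hinj : Function.Injective (i.stalkMap z).hom from RingHom.Flat.of_bijective ⟨hinj, hsurj⟩
    let φ : (S.presheaf.stalk (i z)) →+* Z.presheaf.stalk z := (i.stalkMap z).hom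
    have hker : ∀ n : ℕ, RingHom.ker φ ≤ IsLocalRing.maximalIdeal (S.presheaf.stalk (i z)) ^ (n + 1) := by
      intro n x hx
      let A := (S.presheaf.stalk (i z)) ⧸ IsLocalRing.maximalIdeal (S.presheaf.stalk (i z)) ^ (n + 1)
      haveI : Nontrivial A := Ideal.Quotient.nontrivial_iff.2
        (ne_top_of_le_ne_top (IsLocalRing.maximalIdeal.isMaximal (S.presheaf.stalk (i z))).ne_top (Ideal.pow_le_self (by omega)))
      haveI : IsLocalRing A := IsLocalRing.of_surjective' _ Ideal.Quotient.mk_surjective
      haveI : IsLocalHom (Ideal.Quotient.mk (IsLocalRing.maximalIdeal (S.presheaf.stalk (i z)) ^ (n + 1))) :=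
        IsLocalHom.of_surjective _ Ideal.Quotient.mk_surjective
      haveI : IsArtinianRing A := Groth.Agent.ArtFunLib.Hull.isArtinianRing_quotient_pow _ _
      let mkA : S.presheaf.stalk (i z) ⟶ CommRingCat.of A := CommRingCat.ofHom (Ideal.Quotient.mk _)
      let g : Spec (CommRingCat.of A) ⟶ S := Spec.map mkA ≫ S.fromSpecStalk (i z)
      let ρ : (S.presheaf.stalk (i z)) →+* IsLocalRing.ResidueField A := (IsLocalRing.residue A).comp (Ideal.Quotient.mk _)
      have hρ : RingHom.ker φ ≤ RingHom.ker ρ := fun y hy => by
        rw [RingHom.mem_ker]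
        refine (IsLocalRing.residue_eq_zero_iff _).2 fun hu => ?_
        have h2 := (isUnit_of_map_unit (Ideal.Quotient.mk (IsLocalRing.maximalIdeal (S.presheaf.stalk (i z)) ^ (n + 1))) y hu).map φ
        rw [RingHom.mem_ker.1 hy] at h2
        exact not_isUnit_zero h2
      let χ : Z.presheaf.stalk z →+* IsLocalRing.ResidueField A :=
        φ.liftOfRightInverse _ (Function.rightInverse_surjInv hsurj) ⟨ρ, hρ⟩
      have hχ : χ.comp φ = ρ := φ.liftOfRightInverse_comp _ _ _
      obtain ⟨g', hg'⟩ := h A g ⟨Spec.map (CommRingCat.ofHom χ) ≫ Z.fromSpecStalk z, by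
        rw [Category.assoc, ← Scheme.SpecMap_stalkMap_fromSpecStalk, ← Spec.map_comp_assoc]
        show _ = Spec.map _ ≫ Spec.map mkA ≫ _
        rw [← Spec.map_comp_assoc]
        congr 2
        ext y
        exact DFunLike.congr_fun hχ y⟩
      have hpt : g' (IsLocalRing.closedPoint A) = z := by
        refine i.isClosedEmbedding.injective ?_
        show (g' ≫ i) (IsLocalRing.closedPoint A) = _
        rw [hg']
        show S.fromSpecStalk (i z) (PrimeSpectrum.comap mkA.hom (IsLocalRing.closedPoint A)) = _
        rw [IsLocalRing.comap_closedPoint]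
        exact Scheme.fromSpecStalk_closedPoint
      obtain ⟨ψ, hψ⟩ : ∃ ψ : Z.presheaf.stalk z ⟶ CommRingCat.of A, Spec.map ψ ≫ Z.fromSpecStalk z = g' := by
        suffices hw : ∀ w, g' (IsLocalRing.closedPoint A) = w →
            ∃ ψ : Z.presheaf.stalk w ⟶ CommRingCat.of A, Spec.map ψ ≫ Z.fromSpecStalk w = g' from hw z hpt
        rintro w rfl
        exact ⟨Scheme.stalkClosedPointTo g', Scheme.Spec_stalkClosedPointTo_fromSpecStalk g'⟩
      have h3 : Spec.map (i.stalkMap z ≫ ψ) = Spec.map mkA := by
        rw [← cancel_mono (S.fromSpecStalk (i z)), Spec.map_comp, Category.assoc,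
          Scheme.SpecMap_stalkMap_fromSpecStalk, ← Category.assoc, hψ, hg']
      have h4 : ψ.hom (φ x) = mkA.hom x :=
        DFunLike.congr_fun (congrArg CommRingCat.Hom.hom (Spec.map_injective h3)) x
      rw [RingHom.mem_ker.1 hx, map_zero] at h4
      exact Ideal.Quotient.eq_zero_iff_mem.1 h4.symm
    refine (injective_iff_map_eq_zero φ).2 fun x hx => ?_
    have hmem : x ∈ ⨅ n : ℕ, IsLocalRing.maximalIdeal (S.presheaf.stalk (i z)) ^ n := by
      rw [Ideal.mem_iInf]
      rintro (_ | n)
      · simp
      · exact hker n hx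
    rwa [Ideal.iInf_pow_eq_bot_of_isLocalRing _ (IsLocalRing.maximalIdeal.isMaximal (S.presheaf.stalk (i z))).ne_top] at hmem
  exact IsOpenImmersion.of_flat_of_mono i

end Groth.Agent.S14614
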