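import Groth.Statements.S14619
import Groth.Agent.AmpTrunc.Basic
import Groth.Agent.CohPullLib.BCPoint
import Groth.Agent.EtH0.Residue

set_option backward.isDefEq.respectTransparency false
set_option backward.isDefEq.respectTransparency.types false
set_option linter.style.haveILetI false
set_option maxHeartbeats 1000000

set_option autoImplicit false
universe u
open Coherent

namespace Groth.Agent.S14619

open CategoryTheory CategoryTheory.Limits AlgebraicGeometry in
/-- A field-valued point sees the residue field. -/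
theorem subsingleton_residue {A : Type u} [CommRing A] (T : ModuleCat.{u} A ⥤ ModuleCat.{u} A) [T.Additive]
    {k : Type u} [Field k] [Algebra A k] (x : PrimeSpectrum A) (hx : RingHom.ker (algebraMap A k) = x.asIdeal)
    (h : Subsingleton (T.obj (ModuleCat.of A k))) :
    Subsingleton (T.obj (ModuleCat.of A x.asIdeal.ResidueField)) := by
  let κ := x.asIdeal.ResidueField
  have h1 : x.asIdeal ≤ RingHom.ker (algebraMap A k) := hx.ge
  have h2 : x.asIdeal.primeCompl ≤ (IsUnit.submonoid k).comap (algebraMap A k) :=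
    fun a ha => isUnit_iff_ne_zero.2 fun h => ha (hx ▸ (RingHom.mem_ker).2 h)
  let ι : κ →+* k := Ideal.ResidueField.lift x.asIdeal (algebraMap A k) h1 h2
  letI : Algebra κ k := ι.toAlgebra
  haveI : IsScalarTower A κ k := IsScalarTower.of_algebraMap_eq fun a =>
    (Ideal.ResidueField.lift_algebraMap (I := x.asIdeal) (algebraMap A k) h1 h2 a).symm
  obtain ⟨r, hr⟩ := (Algebra.linearMap κ k).exists_leftInverse_of_injective
    (LinearMap.ker_eq_bot.2 ι.injective)
  let i : ModuleCat.of A κ ⟶ ModuleCat.of A k := ModuleCat.ofHom ((Algebra.linearMap κ k).restrictScalars A)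
  let π : ModuleCat.of A k ⟶ ModuleCat.of A κ := ModuleCat.ofHom (r.restrictScalars A)
  have hiπ : i ≫ π = 𝟙 _ := ModuleCat.hom_ext (LinearMap.ext fun c => LinearMap.congr_fun hr c)
  refine Function.Surjective.subsingleton (f := (T.map π).hom) fun y => ⟨(T.map i).hom y, ?_⟩
  rw [← ConcreteCategory.comp_apply, ← T.map_comp, hiπ, T.map_id]
  rfl

open CategoryTheory CategoryTheory.Limits AlgebraicGeometry in
/-- Let A be a Noetherian ring, X a proper scheme over Spec A and F a coherent O_X-module flat over Spec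
A. Suppose H^p(X, F) = 0 for all p > d and H^p(X_y, F|X_y) = 0 for every point y of Spec A and every
p < d'. Then there is a cochain complex L of finitely generated projective A-modules, with L^i = 0
unless d' ≤ i ≤ d and with L = 0 when all H^p(X, F) vanish, such that for every A-algebra B and
every p the cohomology H^p(X ×_A Spec B, ξ^*F) of the pulled-back module is isomorphic to H^p(L ⊗_A
B). Only the existence of these isomorphisms of abelian groups is asserted (no naturality in B). -/
theorem result (A : Type u) [CommRing A] [IsNoetherianRing A] (X : Scheme.{u}) [X.Over (Spec (CommRingCat.of A))]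
    [IsProper (X ↘ Spec (CommRingCat.of A))] (F : X.Modules) (hF : Coh.IsCoh F)
    (hfl : FlatMod.IsFlatOver (X ↘ Spec (CommRingCat.of A)) F) (d' d : ℕ)
    (hd : ∀ p : ℕ, d < p → Subsingleton (Coh.HH X F p))
    (hd' : ∀ (y : ↑(Spec (CommRingCat.of A))) (p : ℕ), p < d' →
      Subsingleton (CohIII.fiberH (X ↘ Spec (CommRingCat.of A)) F y p)) :
    ∃ L : CochainComplex (ModuleCat.{u} A) ℤ,
      (∀ i, Module.Finite A (L.X i) ∧ Module.Projective A (L.X i)) ∧
      (∀ i : ℤ, i < (d' : ℤ) ∨ (d : ℤ) < i → IsZero (L.X i)) ∧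
      ((∀ p : ℕ, Subsingleton (Coh.HH X F p)) → ∀ i, IsZero (L.X i)) ∧
      ∀ (B : Type u) [CommRing B] [Algebra A B] (p : ℕ),
        Nonempty (Coh.HH (pullback (X ↘ Spec (CommRingCat.of A)) (Spec.map (CommRingCat.ofHom (algebraMap A B))))
            ((Scheme.Modules.pullback (pullback.fst (X ↘ Spec (CommRingCat.of A))
              (Spec.map (CommRingCat.ofHom (algebraMap A B))))).obj F) p ≃+
          CohIII.T L (p : ℤ) (ModuleCat.of A B)) := by
  have hq : Coh.IsQCoh F := hF.1
  obtain ⟨K, h1, ⟨c, h2⟩, h3, h4⟩ := QCoh.exists_finiteFree_model F hF hfl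
  let f := X ↘ Spec (CommRingCat.of A)
  have hfin : ∀ i, Module.Finite A (K.X i) := fun i => (h1 i).1
  have hfree : ∀ i, Module.Free A (K.X i) := fun i => (h1 i).2
  have hproj : ∀ i, Module.Projective A (K.X i) := fun i => @Module.Projective.of_free _ _ _ _ _ (hfree i)
  have hflat : ∀ i, Module.Flat A (K.X i) := fun i => @Module.Flat.of_free _ _ _ _ _ (hfree i)
  have hA : ∀ p : ℕ, Subsingleton (Coh.HH X F p) →
      Subsingleton (CohIII.T K (p : ℤ) (ModuleCat.of A A)) := fun p hp => by
    obtain ⟨e⟩ := h3 p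
    letI := QCoh.modHH (Coh.toGlobal f) F p
    obtain ⟨L⟩ := CohPullLib.nonempty_linearEquiv_HH hq p (CohIII.TFun K (p : ℤ)) e
    exact L.toEquiv.subsingleton_congr.1 hp
  have hhi : ∀ d₀ : ℤ, -1 ≤ d₀ → (∀ p : ℕ, d₀ < (p : ℤ) → Subsingleton (Coh.HH X F p)) →
      ∀ i, d₀ < i → ∀ M, IsZero (CohIII.T K i M) := fun d₀ h0 hv =>
    AmpTrunc.isZero_of_high K hflat c d₀ h2 fun i hi => by
      obtain ⟨p, rfl⟩ := Int.eq_ofNat_of_zero_le (show 0 ≤ i by lia)
      exact hA p (hv p hi)
  have hlo : ∀ i, i < (d' : ℤ) → ∀ M, IsZero (CohIII.T K i M) := by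
    intro i hi
    rcases lt_or_ge i 0 with hneg | hpos
    · exact h4 i hneg
    obtain ⟨p, rfl⟩ := Int.eq_ofNat_of_zero_le hpos
    refine AmpTrunc.isZero_of_residue K hfin hfree p fun x => ?_
    obtain ⟨e⟩ := h3 p
    let κ : Type u := (Spec (CommRingCat.of A)).residueField x
    letI : Field κ := inferInstanceAs (Field ((Spec (CommRingCat.of A)).residueField x))
    letI : Algebra A κ := (EtH0.evalSpec x).toAlgebra
    have hsq : IsPullback (f.fiberι x) (f.fiberToSpecResidueField x) f
        (Spec.map (CommRingCat.ofHom (algebraMap A κ))) := by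
      rw [RingHom.algebraMap_toAlgebra, EtH0.specMap_evalSpec]
      exact IsPullback.of_hasPullback _ _
    obtain ⟨-, E, -⟩ := CohPullLib.exists_pullMod_comparison (B := κ) hsq hq p (CohIII.TFun K (p : ℤ)) e
    refine subsingleton_residue (CohIII.TFun K (p : ℤ)) (k := κ) x ?_
      (E.toEquiv.subsingleton_congr.2 (hd' x p (by exact_mod_cast hi)))
    rw [RingHom.algebraMap_toAlgebra]
    exact EtH0.ker_evalSpec x
  have hall : ∀ (a b : ℤ), (∀ i, i < a → ∀ M, IsZero (CohIII.T K i M)) →
      (∀ i, b < i → ∀ M, IsZero (CohIII.T K i M)) →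
      ∃ L : CochainComplex (ModuleCat.{u} A) ℤ,
        (∀ i, Module.Finite A (L.X i) ∧ Module.Projective A (L.X i)) ∧
        (∀ i, i < a ∨ b < i → IsZero (L.X i)) ∧
        ∀ (B : Type u) [CommRing B] [Algebra A B] (p : ℕ),
          Nonempty (Coh.HH (pullback f (Spec.map (CommRingCat.ofHom (algebraMap A B))))
              ((Scheme.Modules.pullback (pullback.fst f
                (Spec.map (CommRingCat.ofHom (algebraMap A B))))).obj F) p ≃+
            CohIII.T L (p : ℤ) (ModuleCat.of A B)) := by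
    intro a b ha hb
    obtain ⟨L, hL, hLz, hLT⟩ := AmpTrunc.exists_amplitude K hfin hproj c h2 a b ha hb
    refine ⟨L, hL, hLz, fun B _ _ p => ?_⟩
    obtain ⟨e⟩ := h3 p
    obtain ⟨-, E, -⟩ := CohPullLib.exists_pullMod_comparison
      (IsPullback.of_hasPullback f (Spec.map (CommRingCat.ofHom (algebraMap A B)))) hq p
      (CohIII.TFun K (p : ℤ)) e
    obtain ⟨r⟩ := hLT p
    exact ⟨E.symm.trans (r.app (ModuleCat.of A B)).toLinearEquiv.symm.toAddEquiv⟩
  by_cases h0 : ∀ p : ℕ, Subsingleton (Coh.HH X F p)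
  · have hz := hhi (-1) le_rfl fun p _ => h0 p
    have hz' : ∀ i M, IsZero (CohIII.T K i M) := fun i M =>
      (lt_or_ge i 0).elim (fun h => h4 i h M) fun h => hz i (by lia) M
    obtain ⟨L, hL, hLz, hLT⟩ := hall ((d : ℤ) + 1) d (fun i _ => hz' i) fun i _ => hz' i
    have hLz' : ∀ i, IsZero (L.X i) := fun i => hLz i (by lia)
    exact ⟨L, hL, fun i _ => hLz' i, fun _ => hLz', hLT⟩
  · obtain ⟨L, hL, hLz, hLT⟩ := hall d' d hlo
      (hhi d (by lia) fun p hp => hd p (by exact_mod_cast hp))
    exact ⟨L, hL, hLz, fun h => absurd h h0, hLT⟩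

end Groth.Agent.S14619
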