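import Groth.Statements.S14629
import Groth.Agent.S15400
import Groth.Agent.H23.PicMul

set_option autoImplicit false
set_option backward.isDefEq.respectTransparency false
set_option backward.isDefEq.respectTransparency.types false
set_option maxHeartbeats 1000000
set_option linter.style.haveILetI false
open CategoryTheory CategoryTheory.Limits AlgebraicGeometry
universe u
open PicF

namespace Groth.Agent.S14629

/-- Let X be a scheme and I a quasi-coherent ideal sheaf of square zero defining the closed subscheme i
: X₀ → X, and suppose H¹(X, I) = 0 for the ideal regarded as an O_X-module (Zariski cohomology).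
Then two invertible O_X-modules with isomorphic pullbacks to X₀ are isomorphic: restriction of
Picard groups along i is injective. (The published statement allows a nilpotent ideal with the same
hypothesis on I alone; its proof treats the square-zero case, which is what is stated.) -/
theorem result (X : Scheme.{u}) (I : X.IdealSheafData)
    (hI : I * I = ⊥) (h1 : Subsingleton (Coh.HH X (ClSub.idealMod I) 1))
    (c d : PicF.Cl X) (hc : PicF.IsInvertibleCl c) (hd : PicF.IsInvertibleCl d)
    (h : PicF.pullCl I.subschemeι c = PicF.pullCl I.subschemeι d) : c = d := by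
  letI := H23.PicMul.law X
  letI := H23.PicMul.law I.subscheme
  have hi := H23.PicMul.pullMul I.subschemeι
  obtain ⟨ε, δ₀, α, δ₁, -, -, -, -, hker, -⟩ := S15400.result X I hI hi
  let a : PicLoc.PicSet X := (⟨c, hc⟩ : PicLoc.PicSet X)
  let b : PicLoc.PicSet X := ⟨d, hd⟩
  have hab : a * b⁻¹ ∈ (PicGrp.pullHom I.subschemeι hi).ker := by
    rw [MonoidHom.mem_ker, map_mul (PicGrp.pullHom I.subschemeι hi) a b⁻¹, map_inv,
      show PicGrp.pullHom I.subschemeι hi a = PicGrp.pullHom I.subschemeι hi b from Subtype.ext h, mul_inv_cancel]
  rw [hker] at hab
  obtain ⟨x, hx⟩ := hab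
  rw [show x = 1 from Multiplicative.toAdd.injective (Subsingleton.elim _ _), map_one] at hx
  exact congrArg Subtype.val ((mul_inv_eq_one (G := PicLoc.PicSet X) (a := a) (b := b)).1 hx.symm)

end Groth.Agent.S14629
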