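import Groth.Statements.S14640
import Groth.Agent.GrpFieldLib.HomogNeutral

set_option autoImplicit false
universe u
open CategoryTheory MonoidalCategory CartesianMonoidalCategory MonObj GrpObj AlgebraicGeometry CategoryTheory.Limits
open AlgGrp

namespace Groth.Agent.S14640

/-- Over a field k, let G be a smooth k-group scheme of finite type acting on a variety X (a separated,
geometrically integral k-scheme of finite type), and let i : G° → G be its identity component: a
homomorphism which is an open immersion from a connected k-group scheme whose image is the connected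
component of the unit element of G. Let G° act on X through i. Then X is homogeneous under G (the
graph morphism G × X → X × X, (g, x) ↦ (x, g·x), is surjective) if and only if it is homogeneous
under G°, and X is almost homogeneous under G (the graph morphism is dominant) if and only if it is
almost homogeneous under G°. -/
theorem result (k : Type u) [Field k]
    (G G0 X : Over (Spec (CommRingCat.of k))) [GrpObj G] [Smooth G.hom] [QuasiCompact G.hom]
    [GrpObj G0] (i : G0 ⟶ G) [IsMonHom i] [IsOpenImmersion i.left] [ConnectedSpace ↥G0.left]
    (hi : Set.range i.left.base = connectedComponent ((η[G]).left.base (IsLocalRing.closedPoint k)))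
    [IsSeparated X.hom] [LocallyOfFiniteType X.hom] [QuasiCompact X.hom] [GeometricallyIntegral X.hom]
    (a : AlgGrp.Action G X) (a0 : AlgGrp.Action G0 X) (ha0 : a0.act = (i ▷ X) ≫ a.act) :
    (Surjective (CartesianMonoidalCategory.lift (CartesianMonoidalCategory.snd G X) a.act).left ↔
      Surjective (CartesianMonoidalCategory.lift (CartesianMonoidalCategory.snd G0 X) a0.act).left) ∧
    (IsDominant (CartesianMonoidalCategory.lift (CartesianMonoidalCategory.snd G X) a.act).left ↔
      IsDominant (CartesianMonoidalCategory.lift (CartesianMonoidalCategory.snd G0 X) a0.act).left) := by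
  let Φ := (CartesianMonoidalCategory.lift (CartesianMonoidalCategory.snd G X) a.act).left
  have hr : Set.range (CartesianMonoidalCategory.lift (CartesianMonoidalCategory.snd G0 X) a0.act).left =
      Φ '' Groth.Agent.GrpFieldLib.neutralPart G X := by
    have he : CartesianMonoidalCategory.lift (CartesianMonoidalCategory.snd G0 X) a0.act =
        (i ▷ X) ≫ CartesianMonoidalCategory.lift (CartesianMonoidalCategory.snd G X) a.act := by
      rw [comp_lift, ha0]; simp
    rw [he, Over.comp_left]
    have hi' : Set.range (i ▷ X).left = Groth.Agent.GrpFieldLib.neutralPart G X := by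
      have h := Groth.Agent.GrpFieldLib.range_tensorHom' i (𝟙 X)
      rw [MonoidalCategory.tensorHom_id] at h
      rw [h, Groth.Agent.GrpFieldLib.neutralPart]
      simp only [Over.id_left]
      rw [show Set.range i.left = connectedComponent ((η[G]).left.base (IsLocalRing.closedPoint k)) from hi]
      simp
    rw [← hi', ← Set.range_comp]
    rfl
  have hsub : Φ '' Groth.Agent.GrpFieldLib.neutralPart G X ⊆ Set.range Φ := Set.image_subset_range _ _
  haveI : GeometricallyIrreducible X.hom := inferInstance
  haveI : UniversallyOpen X.hom := inferInstance
  haveI : IsLocallyNoetherian X.left := LocallyOfFiniteType.isLocallyNoetherian X.hom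
  haveI : LocallyOfFiniteType G.hom := inferInstance
  refine ⟨⟨fun h => ?_, fun h => ?_⟩, ⟨fun h => ?_, fun h => ?_⟩⟩
  · refine ⟨fun w => ?_⟩
    have := Groth.Agent.GrpFieldLib.eq_image_neutralPart_of_transitive a
      ((Groth.Agent.GrpFieldLib.surjective_lift_swap a).mp h)
    exact (hr.trans this).symm.subset (Set.mem_univ w)
  · exact ⟨fun w => hsub (hr.subset (h.surj w))⟩
  · refine ⟨?_⟩
    show Dense (Set.range _)
    rw [hr]
    exact Groth.Agent.GrpFieldLib.dense_neutralPart_of_dense a h.denseRange
  · refine ⟨Dense.mono ?_ h.denseRange⟩
    rw [hr]; exact hsub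

end Groth.Agent.S14640
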