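import Groth.Statements.S14652
import Mathlib

set_option autoImplicit false
universe u
open FiltBl

namespace Groth.Agent.S14652

/-- An integer exponential turning an additive valuation into an absolute value. -/
noncomputable def expNeg (q : ℕ) : WithTop ℤ → ℝ
  | ⊤ => 0
  | (n : ℤ) => Real.exp (-((q : ℝ) * n))

theorem expNeg_nonneg (q : ℕ) (a : WithTop ℤ) : 0 ≤ expNeg q a := by
  induction a using WithTop.recTopCoe with
  | top => exact le_rfl
  | coe n => exact (Real.exp_pos _).le

theorem expNeg_add (q : ℕ) (a b : WithTop ℤ) : expNeg q (a + b) = expNeg q a * expNeg q b := by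
  induction a using WithTop.recTopCoe with
  | top => simp [expNeg]
  | coe n =>
    induction b using WithTop.recTopCoe with
    | top => simp [expNeg]
    | coe m =>
      rw [← WithTop.coe_add]
      show Real.exp _ = Real.exp _ * Real.exp _
      rw [← Real.exp_add]
      congr 1
      push_cast
      ring

theorem expNeg_anti (q : ℕ) {a b : WithTop ℤ} (h : a ≤ b) : expNeg q b ≤ expNeg q a := by
  induction b using WithTop.recTopCoe with
  | top => exact expNeg_nonneg q a
  | coe m =>
    induction a using WithTop.recTopCoe with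
    | top => exact absurd (top_le_iff.mp h) WithTop.coe_ne_top
    | coe n =>
      have hnm : (n : ℤ) ≤ m := WithTop.coe_le_coe.mp h
      show Real.exp _ ≤ Real.exp _
      rw [Real.exp_le_exp]
      have : (n : ℝ) ≤ m := by exact_mod_cast hnm
      nlinarith [(Nat.cast_nonneg q : (0 : ℝ) ≤ q)]

theorem expNeg_eq_zero {q : ℕ} {a : WithTop ℤ} : expNeg q a = 0 ↔ a = ⊤ := by
  induction a using WithTop.recTopCoe with
  | top => simp [expNeg]
  | coe n => simp [expNeg, Real.exp_ne_zero]

theorem expNeg_mul_le_one (q : ℕ) (hq : 0 < q) (a : WithTop ℤ) (p k : ℕ) :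
    expNeg q a * Real.exp p ^ k ≤ 1 ↔ ((k * p : ℕ) : WithTop ℤ) ≤ (q : WithTop ℤ) * a := by
  induction a using WithTop.recTopCoe with
  | top =>
    have h : (q : WithTop ℤ) * ⊤ = ⊤ := WithTop.mul_top (by exact_mod_cast hq.ne')
    simp [expNeg, h]
  | coe n =>
    have h : (q : WithTop ℤ) * (n : WithTop ℤ) = (((q : ℤ) * n : ℤ) : WithTop ℤ) := by
      simp [WithTop.coe_mul]
    have h' : ((k * p : ℕ) : WithTop ℤ) = (((k * p : ℕ) : ℤ) : WithTop ℤ) := rfl
    rw [h, h', WithTop.coe_le_coe]
    show Real.exp _ * _ ≤ 1 ↔ _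
    rw [← Real.exp_nat_mul, ← Real.exp_add, Real.exp_le_one_iff]
    constructor
    · intro hh
      have : ((k * p : ℕ) : ℝ) ≤ ((q : ℤ) * n : ℤ) := by push_cast; linarith
      exact_mod_cast this
    · intro hh
      have : ((k * p : ℕ) : ℝ) ≤ ((q : ℤ) * n : ℤ) := by exact_mod_cast hh
      push_cast at this
      linarith

/-- The absolute value attached to an additive valuation. -/
noncomputable def absOf {K : Type*} [Field K] (v : AddValuation K (WithTop ℤ)) (q : ℕ) :
    AbsoluteValue K ℝ where
  toFun x := expNeg q (v x)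
  map_mul' x y := by rw [v.map_mul, expNeg_add]
  nonneg' x := expNeg_nonneg q _
  eq_zero' x := by rw [expNeg_eq_zero, AddValuation.top_iff]
  add_le' x y := by
    rcases le_total (v x) (v y) with h | h
    · exact (expNeg_anti q ((le_min le_rfl h).trans (v.map_add x y))).trans
        (le_add_of_nonneg_right (expNeg_nonneg q _))
    · exact (expNeg_anti q ((le_min h le_rfl).trans (v.map_add x y))).trans
        (le_add_of_nonneg_left (expNeg_nonneg q _))

theorem absOf_nonarch {K : Type*} [Field K] (v : AddValuation K (WithTop ℤ)) (q : ℕ) :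
    IsNonarchimedean (absOf v q) := fun x y => by
  show expNeg q (v (x + y)) ≤ max (expNeg q (v x)) (expNeg q (v y))
  rcases le_total (v x) (v y) with h | h
  · exact (expNeg_anti q ((le_min le_rfl h).trans (v.map_add x y))).trans (le_max_left _ _)
  · exact (expNeg_anti q ((le_min h le_rfl).trans (v.map_add x y))).trans (le_max_right _ _)

theorem gaussNorm_pow {K : Type*} [Field K] (w : AbsoluteValue K ℝ) (hw : IsNonarchimedean w)
    {c : ℝ} (hc : 0 < c) (z : Polynomial K) (n : ℕ) :
    (z ^ n).gaussNorm w c = z.gaussNorm w c ^ n := by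
  induction n with
  | zero =>
    rw [pow_zero, pow_zero, ← Polynomial.C_1, Polynomial.gaussNorm_C, map_one]
  | succ n ih => rw [pow_succ, Polynomial.gaussNorm_mul hw hc, ih, pow_succ]

theorem gaussNorm_le_one_of_integral {K : Type*} [Field K] (w : AbsoluteValue K ℝ)
    (hw : IsNonarchimedean w) {c : ℝ} (hc : 0 < c) (z : Polynomial K) (n : ℕ)
    (a : ℕ → Polynomial K) (ha : ∀ j, (a j).gaussNorm w c ≤ 1)
    (h : z ^ n + ∑ j ∈ Finset.range n, a j * z ^ j = 0) : z.gaussNorm w c ≤ 1 := by
  by_contra hlt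
  rw [not_le] at hlt
  set N := fun f : Polynomial K => f.gaussNorm w c
  have hN : IsNonarchimedean N := Polynomial.isNonarchimedean_gaussNorm w hw hc.le
  have hneg : ∀ f : Polynomial K, N (-f) = N f := fun f => by
    show (-f).gaussNorm w c = f.gaussNorm w c
    rw [show -f = Polynomial.C (-1 : K) * f by simp, Polynomial.gaussNorm_mul hw hc,
      Polynomial.gaussNorm_C, w.map_neg, map_one, one_mul]
  rcases Nat.eq_zero_or_pos n with rfl | hn
  · simp at h
  obtain ⟨j, hj, hle⟩ := IsNonarchimedean.finset_image_add_of_nonempty hN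
    (fun j => a j * z ^ j) (Finset.nonempty_range_iff.mpr hn.ne')
  rw [Finset.mem_range] at hj
  have h1 : z.gaussNorm w c ^ n ≤ z.gaussNorm w c ^ j := by
    calc z.gaussNorm w c ^ n = N (z ^ n) := (gaussNorm_pow w hw hc z n).symm
      _ = N (-∑ j ∈ Finset.range n, a j * z ^ j) := by rw [eq_neg_of_add_eq_zero_left h]
      _ = N (∑ j ∈ Finset.range n, a j * z ^ j) := hneg _
      _ ≤ N (a j * z ^ j) := hle
      _ = N (a j) * z.gaussNorm w c ^ j := by
        show (a j * z ^ j).gaussNorm w c = _
        rw [Polynomial.gaussNorm_mul hw hc, gaussNorm_pow w hw hc]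
      _ ≤ z.gaussNorm w c ^ j := mul_le_of_le_one_left (pow_nonneg (zero_le_one.trans hlt.le) _) (ha j)
  exact absurd h1 (not_le.mpr (pow_lt_pow_right₀ hlt hj))


/-- A subring integrally closed in an integrally closed domain is integrally closed. -/
theorem isIntegrallyClosed_of_injective_aux {R S : Type*} [CommRing R] [IsDomain R] [CommRing S]
    [IsDomain S] [IsIntegrallyClosed S] (F L : Type*) [Field F] [Algebra R F] [IsFractionRing R F]
    [Field L] [Algebra S L] [IsFractionRing S L] (ι : R →+* S) (hι : Function.Injective ι)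
    (h : ∀ z, ι.IsIntegralElem z → z ∈ Set.range ι) : IsIntegrallyClosed R := by
  have hinj : Function.Injective ((algebraMap S L).comp ι) :=
    (IsFractionRing.injective S L).comp hι
  let ψ : F →+* L := IsFractionRing.lift (K := F) hinj
  refine (isIntegrallyClosed_iff (F)).mpr fun {x} hx => ?_
  have hcomp : ψ.comp (algebraMap R (F)) = (algebraMap S L).comp ι :=
    RingHom.ext fun r => IsFractionRing.lift_algebraMap hinj r
  obtain ⟨Q, hQm, hQ⟩ := hx
  have hQ' : Polynomial.eval₂ ((algebraMap S L).comp ι) (ψ x) Q = 0 := by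
    rw [← hcomp, ← Polynomial.hom_eval₂, hQ, map_zero]
  have hint : IsIntegral S (ψ x) := by
    refine ⟨Q.map ι, hQm.map _, ?_⟩
    rw [Polynomial.eval₂_map]
    exact hQ'
  obtain ⟨z, hz⟩ := (isIntegrallyClosed_iff L).mp inferInstance hint
  obtain ⟨r, hr⟩ := h z ⟨Q, hQm, IsFractionRing.injective S L (by
    rw [Polynomial.hom_eval₂, map_zero, hz]; exact hQ')⟩
  refine ⟨r, ψ.injective ?_⟩
  rw [← hz, ← hr]
  exact IsFractionRing.lift_algebraMap hinj _


theorem isIntegrallyClosed_of_injective {R S : Type*} [CommRing R] [IsDomain R] [CommRing S]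
    [IsDomain S] [IsIntegrallyClosed S] (ι : R →+* S) (hι : Function.Injective ι)
    (h : ∀ z, ι.IsIntegralElem z → z ∈ Set.range ι) : IsIntegrallyClosed R :=
  isIntegrallyClosed_of_injective_aux (FractionRing R) (FractionRing S) ι hι h

/-- Let A be a Noetherian integrally closed domain with fraction field K, let v_1, …, v_s be finitely
many valuations on K with values in ℤ ∪ {∞} (written additively) that are non-negative on A, and let
r_i = p_i / q_i be positive rationals (p_i, q_i positive integers). Let F be the filtration of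
ideals of A given by F^k = {x ∈ A | q_i · v_i(x) ≥ k · p_i for every i}. Then the Rees algebra ⊕_{k
≥ 0} F^k X^k ⊆ A[X] is an integrally closed domain (it need not be Noetherian). -/
theorem result (A K : Type u) [CommRing A] [IsDomain A]
    [IsNoetherianRing A] [IsIntegrallyClosed A] [Field K] [Algebra A K] [IsFractionRing A K]
    (ι : Type) [Finite ι] (v : ι → AddValuation K (WithTop ℤ))
    (hv : ∀ (i : ι) (x : A), 0 ≤ v i (algebraMap A K x)) (p q : ι → ℕ) (hp : ∀ i, 0 < p i)
    (hq : ∀ i, 0 < q i) (𝓕 : FiltBl.IdealFiltration A)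
    (hF : ∀ (k : ℕ) (x : A), x ∈ 𝓕.F k ↔
      ∀ i, ((k * p i : ℕ) : WithTop ℤ) ≤ (q i : WithTop ℤ) * v i (algebraMap A K x)) :
    IsIntegrallyClosed 𝓕.rees := by
  classical
  let φ : Polynomial A →+* Polynomial K := Polynomial.mapRingHom (algebraMap A K)
  have hmem : ∀ z : Polynomial A, z ∈ 𝓕.rees ↔
      ∀ i, (φ z).gaussNorm (absOf (v i) (q i)) (Real.exp (p i)) ≤ 1 := by
    intro z
    show (∀ k, z.coeff k ∈ 𝓕.F k) ↔ _
    have hc : ∀ i k, absOf (v i) (q i) ((φ z).coeff k) * Real.exp (p i) ^ k ≤ 1 ↔
        ((k * p i : ℕ) : WithTop ℤ) ≤ (q i : WithTop ℤ) * v i (algebraMap A K (z.coeff k)) := by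
      intro i k
      rw [← expNeg_mul_le_one (q i) (hq i)]
      simp [φ, absOf]
    constructor
    · intro h i
      obtain ⟨k, hk⟩ := Polynomial.exists_eq_gaussNorm (absOf (v i) (q i)) (Real.exp (p i)) (φ z)
      rw [hk, hc]
      exact (hF k _).mp (h k) i
    · intro h k
      rw [hF]
      intro i
      rw [← hc]
      exact ((φ z).le_gaussNorm _ (Real.exp_pos _).le k).trans (h i)
  have hclosed : ∀ z : Polynomial A, 𝓕.rees.val.toRingHom.IsIntegralElem z → z ∈ 𝓕.rees := by
    rintro z ⟨Q, hQm, hQ⟩
    rw [hmem]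
    intro i
    refine gaussNorm_le_one_of_integral _ (absOf_nonarch _ _) (Real.exp_pos _) (φ z) Q.natDegree
      (fun j => φ (Q.coeff j : 𝓕.rees)) (fun j => (hmem _).mp (Q.coeff j).2 i) ?_
    have h2 := congrArg φ hQ
    rw [Polynomial.eval₂_eq_sum_range, map_zero, Finset.sum_range_succ, hQm.coeff_natDegree] at h2
    simp only [map_one, one_mul, map_add, map_sum, map_mul, map_pow] at h2
    rw [add_comm]
    exact h2
  exact isIntegrallyClosed_of_injective (R := 𝓕.rees) (S := Polynomial A) 𝓕.rees.val.toRingHom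
    Subtype.val_injective fun z hz => ⟨⟨z, hclosed z hz⟩, rfl⟩

end Groth.Agent.S14652
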