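import Groth.Statements.S14654
import Mathlib
-- import your own Groth.Agent.* helpers here

set_option autoImplicit false
universe u
open FiltBl

namespace Groth.Agent.S14654

/-- A subring `H` of a normal domain with `H ∩ φ(b) R = bH` is normal. -/
private theorem normal_of_criterion {H : Type u} {R : Type u} [CommRing H] [CommRing R] [IsDomain R]
    [IsIntegrallyClosed R] (φ : H →+* R) (hφ : Function.Injective φ)
    (hcrit : ∀ a b c, φ b * c = φ a → b ≠ 0 → ∃ r, r * b = a) :
    IsDomain H ∧ IsIntegrallyClosed H := by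
  haveI hH : IsDomain H := hφ.isDomain φ
  refine ⟨hH, (isIntegrallyClosed_iff (FractionRing H)).mpr fun {q} hq => ?_⟩
  have hg : Function.Injective ((algebraMap R (FractionRing R)).comp φ) := fun a b h =>
    hφ (IsFractionRing.injective R (FractionRing R) h)
  let ψ : FractionRing H →+* FractionRing R := IsFractionRing.lift hg
  have hψ : ∀ x, ψ (algebraMap H (FractionRing H) x) = algebraMap R (FractionRing R) (φ x) :=
    fun x => IsFractionRing.lift_algebraMap hg x
  obtain ⟨a, b, hb, rfl⟩ := IsFractionRing.div_surjective (A := H) q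
  have hb0 : algebraMap H (FractionRing H) b ≠ 0 := IsFractionRing.to_map_ne_zero_of_mem_nonZeroDivisors hb
  have hint : IsIntegral R (ψ (algebraMap H (FractionRing H) a / algebraMap H (FractionRing H) b)) := by
    obtain ⟨P, hP, hPz⟩ := hq
    refine ⟨P.map φ, hP.map _, ?_⟩
    rw [Polynomial.eval₂_map,
      show (algebraMap R (FractionRing R)).comp φ = ψ.comp (algebraMap H (FractionRing H)) from
        RingHom.ext fun x => (hψ x).symm, ← Polynomial.hom_eval₂, hPz, map_zero]
  obtain ⟨c, hc⟩ := IsIntegrallyClosed.isIntegral_iff.mp hint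
  obtain ⟨r, hr⟩ := hcrit a b c (IsFractionRing.injective R (FractionRing R) (by
    rw [map_mul, hc, ← hψ, ← hψ, ← map_mul, mul_div_cancel₀ _ hb0])) (nonZeroDivisors.ne_zero hb)
  exact ⟨r, by rw [eq_div_iff hb0, ← map_mul, hr]⟩

private theorem normal_atPrime {A : Type u} [CommRing A] (𝒜 : ℕ → AddSubgroup A) [GradedRing 𝒜]
    (p : Ideal A) [p.IsPrime] (hdom : IsDomain (Localization.AtPrime p))
    (hic : IsIntegrallyClosed (Localization.AtPrime p)) :
    IsDomain (HomogeneousLocalization.AtPrime 𝒜 p) ∧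
      IsIntegrallyClosed (HomogeneousLocalization.AtPrime 𝒜 p) := by
  classical
  refine normal_of_criterion (algebraMap (HomogeneousLocalization.AtPrime 𝒜 p) (Localization.AtPrime p))
    (fun a b h => HomogeneousLocalization.val_injective _ h) fun a b c hbc _ => ?_
  obtain ⟨⟨c₀, s₀⟩, rfl⟩ := IsLocalization.mk'_surjective p.primeCompl c
  obtain ⟨⟨da, na, ma, hma⟩, rfl⟩ := Quotient.mk''_surjective a
  obtain ⟨⟨db, nb, mb, hmb⟩, rfl⟩ := Quotient.mk''_surjective b
  rw [HomogeneousLocalization.algebraMap_apply, HomogeneousLocalization.algebraMap_apply,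
    HomogeneousLocalization.val_mk, HomogeneousLocalization.val_mk, Localization.mk_eq_mk'] at hbc
  dsimp only at hbc
  rw [← IsLocalization.mk'_mul, IsLocalization.mk'_eq_iff_eq,
    IsLocalization.eq_iff_exists p.primeCompl] at hbc
  obtain ⟨w, hw⟩ := hbc
  simp only [Submonoid.coe_mul] at hw
  -- take a homogeneous component outside `p`
  set a' : A := (na : A) * mb with ha'
  set b' : A := (nb : A) * ma with hb'
  set S : A := w * s₀ with hS
  set C : A := w * c₀ with hC
  have hSC : a' * S = b' * C := by rw [ha', hb', hS, hC]; linear_combination -hw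
  have hSp : S ∉ p := fun h => ((inferInstance : p.IsPrime).mem_or_mem h).elim w.2 s₀.2
  obtain ⟨d, hd⟩ : ∃ d, (DirectSum.decompose 𝒜 S d : A) ∉ p := by
    by_contra hall
    push Not at hall
    exact hSp ((DirectSum.sum_support_decompose 𝒜 S) ▸ p.sum_mem fun i _ => hall i)
  set Sd : A := ((DirectSum.decompose 𝒜 S d : 𝒜 d) : A) with hSd
  set Cd : A := ((DirectSum.decompose 𝒜 C d : 𝒜 d) : A) with hCd
  have ha'm : a' ∈ 𝒜 (da + db) := SetLike.GradedMul.mul_mem na.2 mb.2
  have hb'm : b' ∈ 𝒜 (da + db) := by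
    rw [add_comm da db]; exact SetLike.GradedMul.mul_mem nb.2 ma.2
  have hcomp : a' * Sd = b' * Cd := by
    rw [hSd, hCd, ← DirectSum.coe_decompose_mul_add_of_left_mem 𝒜 ha'm,
      ← DirectSum.coe_decompose_mul_add_of_left_mem 𝒜 hb'm, hSC]
  let r : HomogeneousLocalization.AtPrime 𝒜 p := HomogeneousLocalization.mk
    ⟨d, DirectSum.decompose 𝒜 C d, DirectSum.decompose 𝒜 S d, hd⟩
  refine ⟨r, ?_⟩
  apply HomogeneousLocalization.val_injective
  rw [HomogeneousLocalization.val_mul, HomogeneousLocalization.val_mk,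
    HomogeneousLocalization.val_mk, HomogeneousLocalization.val_mk, Localization.mk_mul,
    Localization.mk_eq_mk_iff, Localization.r_iff_exists]
  refine ⟨1, ?_⟩
  simp only [Submonoid.coe_one, Submonoid.coe_mul, one_mul]
  rw [← hSd, ← hCd]
  rw [ha', hb'] at hcomp
  linear_combination -hcomp


open AlgebraicGeometry in
/-- Let A be a Noetherian ℕ-graded commutative ring which is normal, i.e. every localization of A at a
prime ideal is an integrally closed domain. Then the scheme Proj A is normal: every local ring of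
Proj A is an integrally closed domain. -/
theorem result (A : Type u) [CommRing A] [IsNoetherianRing A]
    (𝒜 : ℕ → AddSubgroup A) [GradedRing 𝒜]
    (hA : ∀ (p : Ideal A) [p.IsPrime], IsDomain (Localization.AtPrime p) ∧
      IsIntegrallyClosed (Localization.AtPrime p))
    (x : Proj 𝒜) :
    IsDomain ((Proj 𝒜).presheaf.stalk x) ∧ IsIntegrallyClosed ((Proj 𝒜).presheaf.stalk x) := by
  obtain ⟨h1, h2⟩ := hA x.asHomogeneousIdeal.toIdeal
  obtain ⟨g1, g2⟩ := normal_atPrime 𝒜 x.asHomogeneousIdeal.toIdeal h1 h2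
  let e : ((Proj 𝒜).presheaf.stalk x) ≃+* HomogeneousLocalization.AtPrime 𝒜 x.asHomogeneousIdeal.toIdeal :=
    (Proj.stalkIso 𝒜 x).commRingCatIsoToRingEquiv
  haveI hd : IsDomain ((Proj 𝒜).presheaf.stalk x) := MulEquiv.isDomain _ e.toMulEquiv
  exact ⟨hd, IsIntegrallyClosed.of_equiv e.symm⟩

end Groth.Agent.S14654
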