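import Groth.Statements.S14655
import Groth.Agent.ProjSk.CM
import Groth.Agent.LC.LiaisonLocal

set_option autoImplicit false
universe u
open FiltBl

namespace Groth.Agent.S14655

open Groth.Agent

open AlgebraicGeometry in
/-- Let A be a Noetherian ℕ-graded commutative ring which is a Cohen–Macaulay ring. Then the scheme Proj
A is Cohen–Macaulay: every local ring of Proj A is a Cohen–Macaulay local ring. -/
theorem result (A : Type u) [CommRing A]
    (𝒜 : ℕ → AddSubgroup A) [GradedRing 𝒜] [LocCoh.IsCohenMacaulayRing A] (x : Proj 𝒜) :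
    LocCoh.IsCohenMacaulayLocalRing ((Proj 𝒜).presheaf.stalk x) := by
  haveI : IsNoetherianRing A := inferInstance
  haveI := Proj16.isNoetherian_proj 𝒜
  let e := (Proj.stalkIso 𝒜 x).commRingCatIsoToRingEquiv
  haveI : IsNoetherianRing (HomogeneousLocalization.AtPrime 𝒜 x.asHomogeneousIdeal.toIdeal) :=
    isNoetherianRing_of_ringEquiv _ e
  haveI : LocCoh.IsCohenMacaulayLocalRing (HomogeneousLocalization.AtPrime 𝒜 x.asHomogeneousIdeal.toIdeal) :=
    ProjSk.isCM_of_contracted _ (ProjSk.maximal_le_radical 𝒜 x) (ProjSk.map_maximal_le 𝒜 x) (ProjSk.contracted 𝒜 x)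
      (LocCoh.IsCohenMacaulayRing.isCohenMacaulayLocalRing_localization x.asHomogeneousIdeal.toIdeal)
  exact LC.Liaison.isCMLocal_of_ringEquiv e.symm

end Groth.Agent.S14655
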