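import Groth.Statements.S14658
import Groth.Agent.GrRegLib.Dehom
-- import your own Groth.Agent.* helpers here

set_option autoImplicit false
universe u
open FiltBl

namespace Groth.Agent.S14658

/-- Let R be a Noetherian ℤ-graded commutative ring which is regular (every localization at a prime is a
regular local ring) and whose degree-0 subring R_0 is a local ring with maximal ideal m. Let t ∈ R_N
be a homogeneous unit of R of positive degree N such that R_i · R_j ⊆ m · t for all positive i, j
with i + j = N (every product a b with a ∈ R_i, b ∈ R_j is c t for some c ∈ m). Then the ring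
R[U]/(U^N − t), U an indeterminate, is again regular: all its localizations at prime ideals are
regular local rings. -/
theorem result (R : Type u) [CommRing R]
    [IsNoetherianRing R] (𝒜 : ℤ → AddSubgroup R) [GradedRing 𝒜]
    (hreg : ∀ (p : Ideal R) [p.IsPrime], IsRegularLocalRing (Localization.AtPrime p))
    [IsLocalRing (GrLC.deg0 𝒜)] (N : ℕ) (hN : 0 < N) (t : R) (ht : t ∈ 𝒜 (N : ℤ))
    (htu : IsUnit t)
    (hm : ∀ (i j : ℤ), 0 < i → 0 < j → i + j = (N : ℤ) → ∀ a ∈ 𝒜 i, ∀ b ∈ 𝒜 j,
      ∃ c : GrLC.deg0 𝒜, c ∈ IsLocalRing.maximalIdeal (GrLC.deg0 𝒜) ∧ a * b = (c : R) * t)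
    (q : Ideal (AdjoinRoot (Polynomial.X ^ N - Polynomial.C t))) [q.IsPrime] :
    IsRegularLocalRing (Localization.AtPrime q) := by
  classical
  haveI : IsRegularRing R := { isRegularLocalRing_localization := fun p _ => hreg p }
  let D : Groth.Agent.GrRegLib.Data 𝒜 :=
    { t := htu.unit
      N := N
      hN := hN
      ht := ht
      hnu := fun i hi a ha hau => by
        have hN' : (N : ℤ) ≠ 0 := by omega
        -- move the unit into degree `i % N`
        have hj0 : 0 < i % (N : ℤ) := by
          rcases (Int.emod_nonneg i hN').lt_or_eq with h | h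
          · exact h
          · exact absurd (Int.dvd_of_emod_eq_zero h.symm) hi
        have hjN : i % (N : ℤ) < N := Int.emod_lt_of_pos i (by omega)
        let a' : Rˣ := hau.unit * htu.unit ^ (-(i / (N : ℤ)))
        have ha' : (a' : R) ∈ 𝒜 (i % N) := by
          have h := SetLike.GradedMul.mul_mem ha
            (Groth.Agent.GrRegLib.zpow_mem 𝒜 htu.unit N ht (-(i / (N : ℤ))))
          rw [show i + -(i / (N : ℤ)) * N = i % N by rw [Int.emod_def]; ring] at h
          exact h
        have hb : ((a'⁻¹ * htu.unit : Rˣ) : R) ∈ 𝒜 ((N : ℤ) - i % N) := by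
          have h := SetLike.GradedMul.mul_mem (Groth.Agent.GrRegLib.inv_mem 𝒜 a' _ ha') ht
          rw [show -(i % (N : ℤ)) + N = N - i % N by ring] at h
          exact h
        obtain ⟨c, hc, hce⟩ := hm _ _ hj0 (by omega) (by ring) _ ha' _ hb
        rw [← Units.val_mul, mul_inv_cancel_left, IsUnit.unit_spec] at hce
        have hc1 : (c : R) = 1 := htu.mul_right_cancel (by rw [one_mul]; exact hce.symm)
        exact (IsLocalRing.maximalIdeal.isMaximal _).ne_top
          ((Ideal.eq_top_iff_one _).mpr (by rwa [show c = 1 from Subtype.ext hc1] at hc)) }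
  exact @Groth.Agent.GrRegLib.isRegular_rootExt R _ 𝒜 _ _ D _ q ‹q.IsPrime›

end Groth.Agent.S14658
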