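import Groth.Statements.S14659
import Groth.Agent.GrRegLib.Dehom
-- import your own Groth.Agent.* helpers here

set_option autoImplicit false
universe u
open FiltBl

namespace Groth.Agent.S14659

/-- Let R be a Noetherian ℤ-graded commutative ring which is regular (every localization at a prime is a
regular local ring), whose degree-0 subring R_0 is a local ring, with R_1 ≠ 0 and with a homogeneous
unit in some positive degree; let N be the least positive degree in which R has a unit and t ∈ R_N a
unit (so that R_N = t · R_0). Then C = R/(t − 1)R is a regular local ring. -/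
theorem result (R : Type u) [CommRing R]
    [IsNoetherianRing R] (𝒜 : ℤ → AddSubgroup R) [GradedRing 𝒜]
    (hreg : ∀ (p : Ideal R) [p.IsPrime], IsRegularLocalRing (Localization.AtPrime p))
    [IsLocalRing (GrLC.deg0 𝒜)] (h1 : ∃ x ∈ 𝒜 1, x ≠ 0) (N : ℕ) (hN : 0 < N) (t : R)
    (ht : t ∈ 𝒜 (N : ℤ)) (htu : IsUnit t)
    (hmin : ∀ (n : ℤ), 0 < n → n < (N : ℤ) → ∀ s ∈ 𝒜 n, ¬ IsUnit s) :
    IsRegularLocalRing (R ⧸ Ideal.span {t - 1}) := by
  classical
  haveI : IsRegularRing R := { isRegularLocalRing_localization := fun p _ => hreg p }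
  let D : Groth.Agent.GrRegLib.Data 𝒜 :=
    { t := htu.unit
      N := N
      hN := hN
      ht := ht
      hnu := fun i hi a ha hau => by
        have hN' : (N : ℤ) ≠ 0 := by omega
        have hj0 : 0 < i % (N : ℤ) := by
          rcases (Int.emod_nonneg i hN').lt_or_eq with h | h
          · exact h
          · exact absurd (Int.dvd_of_emod_eq_zero h.symm) hi
        have hjN : i % (N : ℤ) < N := Int.emod_lt_of_pos i (by omega)
        have h := SetLike.GradedMul.mul_mem ha
          (Groth.Agent.GrRegLib.zpow_mem 𝒜 htu.unit N ht (-(i / (N : ℤ))))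
        rw [show i + -(i / (N : ℤ)) * N = i % N by rw [Int.emod_def]; ring] at h
        exact hmin _ hj0 hjN _ h (hau.mul (Units.isUnit _)) }
  exact Groth.Agent.GrRegLib.isRegularLocalRing_quot1 D

end Groth.Agent.S14659
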