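import Groth.Statements.S14663
import Groth.Agent.HilbDLib.SymIso

set_option autoImplicit false
set_option backward.isDefEq.respectTransparency false
set_option backward.isDefEq.respectTransparency.types false
set_option maxHeartbeats 1000000
set_option linter.style.haveILetI false
universe u
open CategoryTheory CategoryTheory.Limits AlgebraicGeometry
open SymProd

namespace Groth.Agent.S14663
open Groth.Agent Groth.Agent.HilbDLib

/-- Let S be a locally Noetherian scheme and f : C ⟶ S a proper morphism, smooth of relative dimension
1, such that every finite set of points of C lying over a single point of S is contained in an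
affine open of C; let n ≥ 0 and let (Y, q, g) be an n-th symmetric power of C over S (q : C ×_S ⋯
×_S C ⟶ Y a quotient of the n-fold fibre power by the symmetric group permuting the factors: affine,
invariant, identifying sections of O_Y with invariant sections; q ≫ g = the structure map). Then the
quotient map q is finite locally free of degree n!: finite, flat, locally of finite presentation and
of constant rank n!. (The published statement is for a flat projective family whose geometric fibres
are connected regular curves; this row assumes properness, smoothness of relative dimension 1 and
the affine-open property, which is what the proof uses.) -/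
theorem result {C S Y : Scheme.{u}} [IsLocallyNoetherian S]
    (f : C ⟶ S) [IsProper f] [SmoothOfRelativeDimension 1 f] (hAF : SymProd.IsAF f)
    (n : ℕ) (q : SymProd.fibPow f n ⟶ Y) (g : Y ⟶ S) (hq : SymProd.IsSymProd f n q g) :
    Mor2.IsFinLocFreeOfDeg (Nat.factorial n) q := by
  obtain ⟨H, Z, m, h, -, -, hdeg, -, hiso, hh, -⟩ := exists_symIso f hAF hq
  haveI := hiso
  rw [← hh] at hdeg
  obtain ⟨⟨h1, h2, h3⟩, hrk⟩ := hdeg
  haveI := h1; haveI := h2; haveI := h3
  have hsq : IsPullback (𝟙 (SymProd.fibPow f n)) q (q ≫ h) h :=
    IsPullback.of_horiz_isIso ⟨Category.id_comp _⟩
  haveI : IsFinite q := MorphismProperty.of_isPullback hsq h1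
  haveI : Flat q := MorphismProperty.of_isPullback hsq h2
  haveI : LocallyOfFinitePresentation q := MorphismProperty.of_isPullback hsq h3
  exact ⟨⟨inferInstance, inferInstance, inferInstance⟩, fun y => by
    rw [Scheme.Hom.finrank_of_isPullback _ _ _ _ hsq, hrk]⟩

end Groth.Agent.S14663
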