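import Groth.Statements.S14670
import Groth.Agent.H1NIT.KunzMain
import Groth.Agent.VarDim.Basic
import Groth.Agent.RegLoc6.Normal
import Mathlib.RingTheory.IntegralClosure.GoingDown

set_option autoImplicit false
universe u
open CAlg

namespace Groth.Agent.S14670

/-- Let R be a regular local ring and S an integral domain containing R as a subring over which it is a
finitely generated module, such that the localization of S at each of its maximal ideals is a
Cohen–Macaulay local ring. Then S is a flat R-module. (The published statement does not require S to
be a domain; in that generality it fails — for a discrete valuation ring R with residue field κ the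
ring R × κ contains R diagonally, is finite over R with Cohen–Macaulay localizations, and is not
flat — and the printed argument needs every maximal ideal of S to have height dim R, which holds
when S is a domain by going down.) -/
theorem result (R S : Type u) [CommRing R] [CommRing S]
    [IsRegularLocalRing R] [IsDomain S] [Algebra R S] [Module.Finite R S]
    (hinj : Function.Injective (algebraMap R S))
    (hCM : ∀ (q : Ideal S) [q.IsMaximal], LocCoh.IsCohenMacaulayLocalRing (Localization.AtPrime q)) :
    Module.Flat R S := by
  open IsLocalRing in
  classical
  haveI : IsIntegrallyClosed R := Groth.Agent.RegLoc6.isIntegrallyClosed_of_isRegularLocalRing R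
  haveI : FaithfulSMul R S := (faithfulSMul_iff_algebraMap_injective R S).2 hinj
  haveI : Algebra.IsIntegral R S := Algebra.IsIntegral.of_finite R S
  haveI : Module.IsTorsionFree R S := inferInstance
  haveI : Algebra.HasGoingDown R S := inferInstance
  refine Module.flat_of_isLocalized_maximal S S (fun P ↦ Localization.AtPrime P)
    (fun P ↦ Algebra.linearMap S _) fun q _ => ?_
  haveI : LocCoh.IsCohenMacaulayLocalRing (Localization.AtPrime q) := hCM q
  have hqm : q.comap (algebraMap R S) = maximalIdeal R :=
    eq_maximalIdeal (Ideal.isMaximal_comap_of_isIntegral_of_isMaximal q)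
  have hunit : ∀ a : R, a ∈ maximalIdeal R → algebraMap R S a ∈ q := fun a ha => by
    rw [← hqm] at ha; exact ha
  haveI : IsLocalHom (algebraMap R (Localization.AtPrime q)) := ⟨fun a ha => by
    by_contra h
    have h1 := hunit a h
    rw [IsScalarTower.algebraMap_apply R S (Localization.AtPrime q),
      IsLocalization.AtPrime.isUnit_to_map_iff (Localization.AtPrime q) q] at ha
    exact ha h1⟩
  have hdim : ringKrullDim (Localization.AtPrime q) = ringKrullDim R := by
    rw [IsLocalization.AtPrime.ringKrullDim_eq_height q (Localization.AtPrime q),
      ← IsLocalRing.maximalIdeal_height_eq_ringKrullDim]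
    congr 1
    rw [show q.height = _ from PrimeSpectrum.height_eq_orderHeight (⟨q, inferInstance⟩ : PrimeSpectrum S),
      show (maximalIdeal R).height = _ from PrimeSpectrum.height_eq_orderHeight (⟨maximalIdeal R, inferInstance⟩ : PrimeSpectrum R)]
    show Order.height (⟨q, inferInstance⟩ : PrimeSpectrum S) = Order.height (⟨maximalIdeal R, inferInstance⟩ : PrimeSpectrum R)
    rw [← Groth.Agent.VarDim.height_comap (R := R) (S := S) ⟨q, inferInstance⟩]
    congr 1
    exact PrimeSpectrum.ext hqm
  have hfl := Groth.Agent.H1NIT.flat_of_primary (algebraMap R (Localization.AtPrime q)) hdim (by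
    rw [Ideal.radical_eq_sInf]
    refine le_sInf fun P ⟨hP, hPp⟩ => ?_
    have h1 : maximalIdeal R ≤ (P.comap (algebraMap S (Localization.AtPrime q))).comap (algebraMap R S) :=
      fun a ha => by
        rw [Ideal.mem_comap, Ideal.mem_comap, ← IsScalarTower.algebraMap_apply]
        exact hP (Ideal.mem_map_of_mem _ ha)
    have hPS : (P.comap (algebraMap S (Localization.AtPrime q))).IsMaximal :=
      Ideal.isMaximal_of_isIntegral_of_isMaximal_comap _
        ((le_antisymm h1 (le_maximalIdeal (Ideal.IsPrime.ne_top inferInstance))) ▸ maximalIdeal.isMaximal R)
    have hle : P.comap (algebraMap S (Localization.AtPrime q)) ≤ q := by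
      intro a ha
      by_contra haq
      exact hPp.ne_top (Ideal.eq_top_of_isUnit_mem _ ha (IsLocalization.map_units _ (⟨a, haq⟩ : q.primeCompl)))
    have heq := hPS.eq_of_le (Ideal.IsPrime.ne_top inferInstance) hle
    refine (IsLocalization.map_comap q.primeCompl _ (maximalIdeal (Localization.AtPrime q))).ge.trans ?_
    refine (Ideal.map_mono (le_of_eq ((IsLocalization.AtPrime.comap_maximalIdeal (Localization.AtPrime q) q).trans
      heq.symm))).trans ?_
    exact (IsLocalization.map_comap q.primeCompl _ P).le)
  exact RingHom.flat_algebraMap_iff.1 hfl

end Groth.Agent.S14670
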