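import Groth.Statements.S14674
import Groth.Agent.AbSchCube.Basic

set_option autoImplicit false
set_option backward.isDefEq.respectTransparency false
set_option backward.isDefEq.respectTransparency.types false
set_option maxHeartbeats 1000000
set_option linter.style.haveILetI false
universe u
open CategoryTheory CategoryTheory.Limits MonoidalCategory CartesianMonoidalCategory MonObj GrpObj AlgebraicGeometry
open AbSch

namespace Groth.Agent.S14674
open Groth.Agent
open scoped Groth.Agent.H23.PicMul

/-- Let S be a locally Noetherian scheme, X an abelian scheme over S (an S-group scheme whose structure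
morphism α is proper and flat with geometrically integral fibres) with unit section e : S ⟶ X, L an
invertible O_X-module and n an integer; write [n] for the n-th multiple of the identity in the group
of S-endomorphisms of X. Then [n]^*L ⊗ α^*(e^*L)^{⊗ n²} is isomorphic to L^{⊗(n²+n)/2} ⊗
[-1]^*L^{⊗(n²−n)/2} ⊗ α^*e^*L; equivalently [n]^*L ≅ L^{⊗(n²+n)/2} ⊗ [-1]^*L^{⊗(n²−n)/2} ⊗
[0]^*L^{⊗(1−n²)} with [0]^*L = α^*e^*L (existence of an isomorphism of O_X-modules only). -/
theorem result {S : Scheme.{u}} [IsLocallyNoetherian S] (X : Over S) [GrpObj X] [IsProper X.hom] [Flat X.hom] [GeometricallyIntegral X.hom]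
    (L : X.left.Modules) (hL : PicF.IsInvertible L) (n : ℤ) :
    Nonempty (CohB1.tensorMod ((Scheme.Modules.pullback (𝟙 X ^ n).left).obj L)
        ((Scheme.Modules.pullback X.hom).obj (CohB1.tensorPow ((Scheme.Modules.pullback (η[X]).left).obj L) (n.natAbs ^ 2))) ≅
      CohB1.tensorMod (CohB1.tensorMod (CohB1.tensorPow L ((n ^ 2 + n) / 2).toNat)
          ((Scheme.Modules.pullback (𝟙 X ^ (-1 : ℤ)).left).obj (CohB1.tensorPow L ((n ^ 2 - n) / 2).toNat)))
        ((Scheme.Modules.pullback X.hom).obj ((Scheme.Modules.pullback (η[X]).left).obj L))) := by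
  have h := congrArg Units.val (AbSchCube.pc_zpow (A := X) hL n)
  simp only [Units.val_mul, Units.val_pow_eq_pow_val, AbSchCube.val_pc_id] at h
  refine H23.PicMul.cl_eq_iff.1 ?_
  simp only [H23.PicMul.cl_tensor, H23.PicMul.cl_tensorPow]
  show (AbSchCube.pc hL (𝟙 X ^ n) : PicF.Cl X.left) *
      H23.PicMul.pullHom X.hom (PicF.cl (CohB1.tensorPow ((Scheme.Modules.pullback (η[X]).left).obj L) (n.natAbs ^ 2))) =
    PicF.cl L ^ _ *
      H23.PicMul.pullHom (𝟙 X ^ (-1 : ℤ)).left (PicF.cl (CohB1.tensorPow L ((n ^ 2 - n) / 2).toNat)) *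
      H23.PicMul.pullHom X.hom (PicF.cl ((Scheme.Modules.pullback (η[X]).left).obj L))
  rw [H23.PicMul.cl_tensorPow, H23.PicMul.cl_tensorPow, map_pow, map_pow,
    show H23.PicMul.pullHom X.hom (PicF.cl ((Scheme.Modules.pullback (η[X]).left).obj L)) =
      (AbSchCube.pc hL (1 : X ⟶ X) : PicF.Cl X.left) from (AbSchCube.val_pc_one hL).symm]
  exact h

end Groth.Agent.S14674
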