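import Groth.Statements.S14675
import Groth.Agent.HilbDLib.Flag

set_option autoImplicit false
set_option backward.isDefEq.respectTransparency false
set_option backward.isDefEq.respectTransparency.types false
set_option maxHeartbeats 1000000
set_option linter.style.haveILetI false
universe u
open CategoryTheory CategoryTheory.Limits AlgebraicGeometry
open HilbD

namespace Groth.Agent.S14675
open Groth.Agent Groth.Agent.HilbDLib

/-- Let S be a locally Noetherian scheme, f : C ⟶ S proper and smooth of relative dimension 1, d ≥ 0,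
and D the closed subscheme of C defined by a quasi-coherent ideal sheaf I, with D ⟶ S finite locally
free of degree d (an effective relative Cartier divisor of constant degree d). Then D becomes a sum
of d sections after an fppf base change: there are b : S' ⟶ S flat, surjective and locally of finite
presentation and sections σ_1, …, σ_d of the projection C ×_S S' ⟶ S' such that the ideal sheaf of D
×_S S' ⊆ C ×_S S' (the kernel ideal of the base change of D ⟶ C) is the product of the kernel ideal
sheaves of the σ_i. (The published statement is for a flat projective family whose geometric fibres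
are connected regular curves; this row assumes properness and smoothness of relative dimension 1,
which is what the proof uses.) -/
theorem result {C S : Scheme.{u}} [IsLocallyNoetherian S]
    (f : C ⟶ S) [IsProper f] [SmoothOfRelativeDimension 1 f] (d : ℕ) (I : C.IdealSheafData)
    (hD : Mor2.IsFinLocFreeOfDeg d (I.subschemeι ≫ f)) :
    ∃ (S' : Scheme.{u}) (b : S' ⟶ S), Flat b ∧ Surjective b ∧ LocallyOfFinitePresentation b ∧
      ∃ σ : Fin d → (S' ⟶ pullback f b), (∀ i, σ i ≫ pullback.snd f b = 𝟙 S') ∧
        (pullback.snd I.subschemeι (pullback.fst f b)).ker = ∏ i, (σ i).ker := by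
  have key : ∀ (d : ℕ) (T : Over S) (I : HilbD.Obj f d T), ∃ (T' : Over S) (b : T' ⟶ T), Flat b.left ∧
      Surjective b.left ∧ LocallyOfFinitePresentation b.left ∧
      ∃ x : Fin d → (T' ⟶ Over.mk f), HilbD.pull f b I.1 = sumSec f T' x := by
    intro d
    induction d with
    | zero =>
      intro T I
      refine ⟨T, 𝟙 T, (inferInstanceAs (Flat (𝟙 T.left))), (inferInstanceAs (Surjective (𝟙 T.left))),
        (inferInstanceAs (LocallyOfFinitePresentation (𝟙 T.left))), fun i => i.elim0, ?_⟩
      refine (eq_top_of_deg_zero f ⟨_, isFinLocFreeOfDeg_pull f (𝟙 T) I.1 I.2⟩).trans ?_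
      simp [sumSec, Scheme.IdealSheafData.one_eq_top]
    | succ d ih =>
      intro T I
      obtain ⟨⟨hfin, hflat, hlfp⟩, hrk⟩ := I.2
      haveI := hfin; haveI := hflat; haveI := hlfp
      have hsurj : Surjective (I.1.subschemeι ≫ PicF.XTproj f T) :=
        (Scheme.Hom.one_le_finrank_iff_surjective _).1 fun y => by rw [hrk]; exact Nat.succ_pos d
      let T₂ : Over S := Over.mk ((I.1.subschemeι ≫ PicF.XTproj f T) ≫ T.hom)
      let p : T₂ ⟶ T := Over.homMk (I.1.subschemeι ≫ PicF.XTproj f T) rfl
      let x₂ : T₂.left ⟶ C := I.1.subschemeι ≫ pullback.fst f T.hom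
      have hx₂ : x₂ ≫ f = T₂.hom := by
        simp only [x₂, Category.assoc, pullback.condition]
        exact (Category.assoc _ _ _).symm
      have hs₂ : sec f T₂ x₂ hx₂ ≫ PicF.XTmap f p = I.1.subschemeι := by
        refine pullback.hom_ext ?_ ?_
        · rw [Category.assoc, show PicF.XTmap f p ≫ pullback.fst f T.hom = pullback.fst f T₂.hom from
            (pullback.lift_fst _ _ _).trans (Category.comp_id _), sec_fst]
        · rw [Category.assoc, show PicF.XTmap f p ≫ pullback.snd f T.hom = PicF.XTproj f T₂ ≫ p.left from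
            pullback.lift_snd _ _ _, ← Category.assoc, sec_proj, Category.id_comp]
          rfl
      have hle₂ : HilbD.pull f p I.1 ≤ (sec f T₂ x₂ hx₂).ker := by
        rw [pull_eq_comap, comap_le_ker_iff, hs₂, Scheme.IdealSheafData.ker_subschemeι]
      haveI := smoothOfRelativeDimension_isStableUnderBaseChange 1
      haveI : SmoothOfRelativeDimension 1 (PicF.XTproj f T₂) :=
        MorphismProperty.pullback_snd (P := @SmoothOfRelativeDimension 1) f T₂.hom inferInstance
      obtain ⟨D, hD', hDmul⟩ := S1172.result (PicF.XTproj f T₂) _ _ hle₂ 1 (d + 1) (finLocFreeOfDeg_sec f x₂ hx₂)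
        (isFinLocFreeOfDeg_pull f p I.1 I.2)
      rw [Nat.add_sub_cancel] at hD'
      obtain ⟨T', b, hb1, hb2, hb3, x, hx⟩ := ih T₂ ⟨D, hD'⟩
      haveI := hb1; haveI := hb2; haveI := hb3
      refine ⟨T', b ≫ p, ?_, ?_, ?_, Fin.cons (b ≫ Over.homMk x₂ hx₂) x, ?_⟩
      · show Flat (b.left ≫ p.left); haveI : Flat p.left := hflat; infer_instance
      · show Surjective (b.left ≫ p.left); haveI : Surjective p.left := hsurj; infer_instance
      · show LocallyOfFinitePresentation (b.left ≫ p.left)
        haveI : LocallyOfFinitePresentation p.left := hlfp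
        infer_instance
      · rw [← pull_pull, hDmul, pull_mul, pull_sec, hx]
        simp only [sumSec]
        rw [Fin.prod_univ_succ]
        exact congrArg₂ (· * ·) (congrArg Scheme.Hom.ker (sec_congr f (by rw [Fin.cons_zero]; rfl) _ _))
          (Finset.prod_congr rfl fun i _ => congrArg Scheme.Hom.ker (sec_congr f (by rw [Fin.cons_succ]) _ _))
  let T₀ : Over S := Over.mk (𝟙 S)
  let I₀ : (PicF.XT f T₀).IdealSheafData := I.comap (pullback.fst f (𝟙 S))
  have hI₀ : Mor2.IsFinLocFreeOfDeg d (I₀.subschemeι ≫ PicF.XTproj f T₀) := by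
    show Mor2.IsFinLocFreeOfDeg d
      ((pullback.fst (pullback.fst f (𝟙 S)) I.subschemeι).ker.subschemeι ≫ pullback.snd f (𝟙 S))
    rw [finLocFreeOfDeg_ker, show pullback.fst (pullback.fst f (𝟙 S)) I.subschemeι ≫ pullback.snd f (𝟙 S) =
      pullback.snd (pullback.fst f (𝟙 S)) I.subschemeι ≫ I.subschemeι ≫ f by
        rw [← pullback.condition_assoc, pullback.condition, Category.comp_id]]
    obtain ⟨⟨a1, a2, a3⟩, a4⟩ := hD
    haveI := a1; haveI := a2; haveI := a3
    refine ⟨⟨inferInstance, inferInstance, inferInstance⟩, fun y => ?_⟩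
    rw [Scheme.Hom.finrank_comp_left_of_isIso]
    exact a4 y
  obtain ⟨T', b, hb1, hb2, hb3, x, hx⟩ := key d T₀ ⟨I₀, hI₀⟩
  have hbh : T'.hom = b.left := (Over.w b).symm.trans (Category.comp_id _)
  refine ⟨T'.left, T'.hom, by rwa [hbh], by rwa [hbh], by rwa [hbh],
    fun i => sec f T' (x i).left (Over.w (x i)), fun i => sec_proj f T' _ _, ?_⟩
  refine Eq.trans ?_ hx
  rw [pull_eq_comap]
  show _ = (I.comap (pullback.fst f (𝟙 S))).comap _
  rw [← Scheme.IdealSheafData.comap_comp,
    show PicF.XTmap f b ≫ pullback.fst f (𝟙 S) = pullback.fst f T'.hom from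
      (pullback.lift_fst _ _ _).trans (Category.comp_id _)]
  show _ = (pullback.fst (pullback.fst f T'.hom) I.subschemeι).ker
  rw [← pullbackSymmetry_hom_comp_fst, Scheme.Hom.ker_comp_of_isIso]

end Groth.Agent.S14675
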