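import Groth.Statements.S14682
import Groth.Agent.HilbDLib.SymIso
import Groth.Agent.HilbDLib.Fpqc
import Groth.Agent.S14663

set_option autoImplicit false
set_option backward.isDefEq.respectTransparency false
set_option backward.isDefEq.respectTransparency.types false
set_option maxHeartbeats 1000000
set_option linter.style.haveILetI false
universe u
open CategoryTheory CategoryTheory.Limits AlgebraicGeometry
open SymProd

namespace Groth.Agent.S14682
open Groth.Agent Groth.Agent.HilbDLib

/-- Let S be a locally Noetherian scheme and f : C ⟶ S a proper morphism, smooth of relative dimension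
1, such that every finite set of points of C lying over a single point of S is contained in an
affine open of C; let n ≥ 0 and let (Y, q, g) be an n-th symmetric power of C over S (q : C ×_S ⋯
×_S C ⟶ Y a quotient of the n-fold fibre power by the symmetric group permuting the factors: affine,
invariant, identifying sections of O_Y with invariant sections; q ≫ g = the structure map). On the
fibre product of the n-fold fibre power with C consider the divisor D̃ = sum of the graphs of the n
projections, i.e. the product of the kernel ideal sheaves of the n sections (id, p_i). Then there is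
exactly one quasi-coherent ideal sheaf J on Y ×_S C whose inverse image along q × id is D̃, and the
closed subscheme of Y ×_S C defined by any such J is finite locally free of degree n over Y (an
effective relative Cartier divisor of degree n). (The published statement is for a flat projective
family whose geometric fibres are connected regular curves; this row assumes properness, smoothness
of relative dimension 1 and the affine-open property, which is what the proof uses.) -/
theorem result {C S Y : Scheme.{u}} [IsLocallyNoetherian S]
    (f : C ⟶ S) [IsProper f] [SmoothOfRelativeDimension 1 f] (hAF : SymProd.IsAF f)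
    (n : ℕ) (q : SymProd.fibPow f n ⟶ Y) (g : Y ⟶ S) (hq : SymProd.IsSymProd f n q g) :
    (∃! J : (pullback g f).IdealSheafData, J.comap (pullback.map (WidePullback.base fun _ : Fin n => f) f g f q (𝟙 C) (𝟙 S) ((Category.comp_id _).trans hq.over.symm) ((Category.comp_id f).trans (Category.id_comp f).symm)) = ∏ i : Fin n, (pullback.lift (𝟙 (SymProd.fibPow f n)) (WidePullback.π (fun _ : Fin n => f) i) ((Category.id_comp _).trans (WidePullback.π_arrow (fun _ : Fin n => f) i).symm) : SymProd.fibPow f n ⟶ pullback (WidePullback.base fun _ : Fin n => f) f).ker) ∧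
    ∀ J : (pullback g f).IdealSheafData, J.comap (pullback.map (WidePullback.base fun _ : Fin n => f) f g f q (𝟙 C) (𝟙 S) ((Category.comp_id _).trans hq.over.symm) ((Category.comp_id f).trans (Category.id_comp f).symm)) = ∏ i : Fin n, (pullback.lift (𝟙 (SymProd.fibPow f n)) (WidePullback.π (fun _ : Fin n => f) i) ((Category.id_comp _).trans (WidePullback.π_arrow (fun _ : Fin n => f) i).symm) : SymProd.fibPow f n ⟶ pullback (WidePullback.base fun _ : Fin n => f) f).ker →
      Mor2.IsFinLocFreeOfDeg n (J.subschemeι ≫ pullback.fst g f) := by
  classical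
  obtain ⟨⟨hq1, hq2, hq3⟩, hqd⟩ := S14663.result f hAF n q g hq
  haveI := hq1; haveI := hq2; haveI := hq3
  haveI : Surjective q := surjective_of_factorial ⟨⟨hq1, hq2, hq3⟩, hqd⟩
  obtain ⟨H, Z, m, h, hZ, hm, -, -, hiso, hh, hover⟩ := exists_symIso f hAF hq
  let TY : Over S := Over.mk g
  let eO : TY ⟶ H := Over.homMk h hover
  let qO : powOver f n ⟶ TY := Over.homMk q hq.over
  let ZY := HilbD.pull f eO Z.1
  have hZY : ZY.comap (PicF.XTmap f qO) = sumSec f (powOver f n) (tautPt f n) := by
    rw [← pull_eq_comap, pull_pull, show qO ≫ eO = m from Over.OverMorphism.ext hh, hm]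
  have hZYd : Mor2.IsFinLocFreeOfDeg n (ZY.subschemeι ≫ PicF.XTproj f TY) :=
    isFinLocFreeOfDeg_pull f eO Z.1 Z.2
  let eP := pullbackSymmetry (WidePullback.base fun _ : Fin n => f) f
  let eY := pullbackSymmetry g f
  set p := pullback.map (WidePullback.base fun _ : Fin n => f) f g f q (𝟙 C) (𝟙 S) ((Category.comp_id _).trans hq.over.symm) ((Category.comp_id f).trans (Category.id_comp f).symm) with hp
  have hpe : p ≫ eY.hom = eP.hom ≫ PicF.XTmap f qO := by
    refine pullback.hom_ext ?_ ?_
    · rw [Category.assoc, pullbackSymmetry_hom_comp_fst, Category.assoc,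
        show PicF.XTmap f qO ≫ pullback.fst f g = pullback.fst f (WidePullback.base fun _ : Fin n => f) from
          (pullback.lift_fst _ _ _).trans (Category.comp_id _), pullbackSymmetry_hom_comp_fst]
      exact (pullback.lift_snd _ _ _).trans (Category.comp_id _)
    · rw [Category.assoc, pullbackSymmetry_hom_comp_snd, Category.assoc,
        show PicF.XTmap f qO ≫ pullback.snd f g = pullback.snd f (WidePullback.base fun _ : Fin n => f) ≫ q from
          pullback.lift_snd _ _ _, pullbackSymmetry_hom_comp_snd_assoc]
      exact pullback.lift_fst _ _ _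
  let J₀ := ZY.comap eY.hom
  have hprod : ∀ (F : Fin n → (PicF.XT f (powOver f n)).IdealSheafData),
      (∏ i, F i).comap eP.hom = ∏ i, (F i).comap eP.hom := by
    intro F
    induction (Finset.univ : Finset (Fin n)) using Finset.induction with
    | empty => simp [Scheme.IdealSheafData.one_eq_top, Scheme.IdealSheafData.comap_top]
    | insert i s hi ih => rw [Finset.prod_insert hi, Finset.prod_insert hi, FComplLib.comap_mul, ih]
  have hJ₀ : J₀.comap p = ∏ i : Fin n, (pullback.lift (𝟙 (SymProd.fibPow f n)) (WidePullback.π (fun _ : Fin n => f) i) ((Category.id_comp _).trans (WidePullback.π_arrow (fun _ : Fin n => f) i).symm) : SymProd.fibPow f n ⟶ pullback (WidePullback.base fun _ : Fin n => f) f).ker := by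
    rw [← Scheme.IdealSheafData.comap_comp, hpe, Scheme.IdealSheafData.comap_comp, hZY, sumSec, hprod]
    refine Finset.prod_congr rfl fun i _ => ?_
    set s := (pullback.lift (𝟙 (SymProd.fibPow f n)) (WidePullback.π (fun _ : Fin n => f) i) ((Category.id_comp _).trans (WidePullback.π_arrow (fun _ : Fin n => f) i).symm) : SymProd.fibPow f n ⟶ pullback (WidePullback.base fun _ : Fin n => f) f)
    have hs : s ≫ eP.hom = sec f (powOver f n) (tautPt f n i).left (Over.w (tautPt f n i)) := by
      refine pullback.hom_ext ?_ ?_
      · simp [s, eP, sec, tautPt]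
      · simp [s, eP, sec, tautPt]
    haveI := isClosedImmersion_sec f (powOver f n) (tautPt f n i).left (Over.w (tautPt f n i))
    haveI : IsClosedImmersion (s ≫ eP.hom) := by rw [hs]; infer_instance
    haveI : IsClosedImmersion s := IsClosedImmersion.of_comp s eP.hom
    rw [← hs, FComplLib.ker_comp_comap]
  have hsq : IsPullback p (pullback.fst (WidePullback.base fun _ : Fin n => f) f) (pullback.fst g f) q := by
    refine IsPullback.of_right ?_ (pullback.lift_fst _ _ _) (IsPullback.of_hasPullback g f).flip
    rw [show p ≫ pullback.snd g f = pullback.snd _ f from (pullback.lift_snd _ _ _).trans (Category.comp_id _), hq.over]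
    exact (IsPullback.of_hasPullback _ f).flip
  haveI : Flat p := MorphismProperty.of_isPullback (P := @Flat) hsq.flip inferInstance
  haveI : Surjective p := MorphismProperty.of_isPullback (P := @Surjective) hsq.flip inferInstance
  haveI : QuasiCompact p := MorphismProperty.of_isPullback (P := @QuasiCompact) hsq.flip inferInstance
  have hcov : Presieve.ofArrows (fun _ : PUnit.{u + 1} => pullback (WidePullback.base fun _ : Fin n => f) f)
      (fun _ => p) ∈ Scheme.fpqcPrecoverage (pullback g f) := by
    rw [Presieve.ofArrows_pUnit]
    exact p.singleton_mem_fpqcPrecoverage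
  have huniq : ∀ J : (pullback g f).IdealSheafData, J.comap p = J₀.comap p → J = J₀ := fun J hJ =>
    (DescLib.existsUnique_descend_fpqc (fun _ : PUnit.{u + 1} => p) hcov (fun _ => J₀.comap p)
      (fun _ _ => (Scheme.IdealSheafData.comap_comp J₀ _ _).symm.trans
        ((congrArg J₀.comap pullback.condition).trans (Scheme.IdealSheafData.comap_comp J₀ _ _)))).unique
      (fun _ => hJ) fun _ => rfl
  refine ⟨⟨J₀, hJ₀, fun J hJ => huniq J (hJ.trans hJ₀.symm)⟩, fun J hJ => ?_⟩
  rw [huniq J (hJ.trans hJ₀.symm)]
  show Mor2.IsFinLocFreeOfDeg n ((pullback.fst eY.hom ZY.subschemeι).ker.subschemeι ≫ pullback.fst g f)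
  rw [finLocFreeOfDeg_ker]
  have hst : pullback.fst eY.hom ZY.subschemeι ≫ pullback.fst g f =
      pullback.snd eY.hom ZY.subschemeι ≫ ZY.subschemeι ≫ PicF.XTproj f TY := by
    rw [← pullback.condition_assoc]
    exact congrArg (pullback.fst eY.hom ZY.subschemeι ≫ ·) (pullbackSymmetry_hom_comp_snd g f).symm
  obtain ⟨⟨a1, a2, a3⟩, a4⟩ := hZYd
  haveI := a1; haveI := a2; haveI := a3
  rw [hst]
  refine ⟨⟨inferInstance, inferInstance, inferInstance⟩, fun y => ?_⟩
  rw [Scheme.Hom.finrank_comp_left_of_isIso]
  exact a4 y

end Groth.Agent.S14682
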