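import Groth.Statements.S14688
import Groth.Agent.SekSuwaLib.GenericIso
import Groth.Agent.SekSuwaLib.GKPoints
import Groth.Agent.FinTorsor.Main
import Groth.Agent.SchTorsor.NormalExt
import Groth.Agent.GrpSchLib.FieldSmooth
-- import your own Groth.Agent.* helpers here

set_option autoImplicit false
set_option backward.isDefEq.respectTransparency false
set_option maxHeartbeats 1000000
set_option linter.style.haveILetI false
universe u
open CategoryTheory AlgebraicGeometry
open SekSuwa
open CategoryTheory MonoidalCategory CartesianMonoidalCategory AlgebraicGeometry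
set_option backward.isDefEq.respectTransparency.types false
open scoped MonObj
open Groth.Agent

namespace Groth.Agent.S14688

/-- Let R be a discrete valuation ring of characteristic zero and residue characteristic p, n ≥ 1, λ ∈ R
satisfying the divisibility condition under which the finite flat R-group scheme G_{λ,n} (the kernel
of ψ on the one-parameter group with law s + t + λst, of order p^n) and its homomorphism α^{λ,n} to
μ_{p^n} are defined, and X a normal integral scheme which is faithfully flat over Spec R. If an fppf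
torsor P over X under G_{λ,n} becomes trivial after extension of the structure group along α^{λ,n} —
there is an fppf μ_{p^n}-torsor P' over X with an α^{λ,n}-equivariant X-morphism P → P', and P' has
a section over X — then P has a section over X. So H¹(X, G_{λ,n}) → H¹(X, μ_{p^n}) has trivial
kernel, and the groups H¹(X, G_{π^i,n}) for decreasing i form an increasing filtration of H¹(X,
μ_{p^n}). (The published statement is the filtration itself, for the commutative groups in question
injectivity of these homomorphisms; the trivial-kernel assertion stated here is what the argument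
establishes.) -/
theorem result (R : Type u) [CommRing R] [IsDomain R] [IsDiscreteValuationRing R] [CharZero R]
    (p : ℕ) [Fact p.Prime] [CharP (IsLocalRing.ResidueField R) p]
    (n : ℕ) (hn : 0 < n) (lam : R) (h : SekSuwa.DivCond lam (p ^ n))
    (X : Scheme.{u}) [IsIntegral X] (hX : Pi1.IsNormalScheme X)
    (f : X ⟶ Spec (CommRingCat.of R)) [Flat f] [Surjective f]
    (P : Over X) (a : AlgGrp.Action (Red.bc f (SekSuwa.GK R lam (p ^ n) h)) P)
    (hP : NonAbH1.IsTorsorFor Scheme.fppfPrecoverage a)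
    (P' : Over X) (a' : AlgGrp.Action (Red.bc f (Red.diag R (ZMod (p ^ n)))) P')
    (hP' : NonAbH1.IsTorsorFor Scheme.fppfPrecoverage a')
    (hpush : NonAbH1.IsPushforwardAlongSch ((Over.pullback f).map (SekSuwa.alphaN R lam (p ^ n) h)) a a')
    (htriv : NonAbH1.HasSectionOver P' (𝟙 X)) :
    NonAbH1.HasSectionOver P (𝟙 X) := by
  haveI : NeZero (p ^ n) := ⟨pow_ne_zero _ (Fact.out : p.Prime).ne_zero⟩
  let α := (Over.pullback f).map (SekSuwa.alphaN R lam (p ^ n) h)
  let j := X.fromSpecStalk (genericPoint X)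
  let Z : Over X := Over.mk j
  have hφ : IsUnit (SekSuwaLib.strHom (Over.mk (j ≫ f)) lam) := by
    haveI := GrpSchLib.flat_fromSpecStalk (genericPoint X)
    haveI : Flat (Over.mk (j ≫ f)).hom := inferInstanceAs (Flat (j ≫ f))
    let e := (Scheme.ΓSpecIso X.functionField).hom
    have hne : e (SekSuwaLib.strHom (Over.mk (j ≫ f)) lam) ≠ 0 := fun h0 => by
      have h1 : SekSuwaLib.strHom (Over.mk (j ≫ f)) lam = 0 :=
        (ConcreteCategory.bijective_of_isIso e).1 (h0.trans (map_zero e.hom).symm)
      have h2 := congrArg e (SekSuwaLib.eq_zero_of_mul_eq_zero (T := Over.mk (j ≫ f)) h.nzd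
        (z := 1) (by rw [mul_one, h1]))
      exact one_ne_zero ((map_one e.hom).symm.trans (h2.trans (map_zero e.hom)))
    have := (isUnit_iff_ne_zero.2 hne).map (Scheme.ΓSpecIso X.functionField).inv.hom
    simpa [e, ← CommRingCat.comp_apply] using this
  have hbij : ∀ T : Over X, (T ⟶ Z) → Function.Bijective fun g : T ⟶ Red.bc f (SekSuwa.GK R lam (p ^ n) h) => g ≫ α := by
    intro T k
    let adj := Over.mapPullbackAdj f
    have hu : IsUnit (SekSuwaLib.strHom ((Over.map f).obj T) lam) := by
      have h1 := hφ.map k.left.appTop.hom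
      have e : SekSuwaLib.strHom ((Over.map f).obj T) lam = k.left.appTop (SekSuwaLib.strHom (Over.mk (j ≫ f)) lam) := by
        show ((Scheme.ΓSpecIso (CommRingCat.of R)).inv ≫ (T.hom ≫ f).appTop).hom lam = _
        rw [← Over.w k]
        simp only [Z, Over.mk_hom, Category.assoc, Scheme.Hom.comp_appTop]
        rfl
      rw [e]; exact h1
    have hb := SekSuwaLib.alphaN_bijective h ((Over.map f).obj T) hu
    refine ⟨fun g g' e => (adj.homEquiv T _).symm.injective (hb.1 ?_), fun m => ?_⟩
    · change (adj.homEquiv T _).symm g ≫ _ = (adj.homEquiv T _).symm g' ≫ _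
      rw [← adj.homEquiv_naturality_right_symm, ← adj.homEquiv_naturality_right_symm]
      exact congrArg _ e
    · obtain ⟨q, hq⟩ := hb.2 ((adj.homEquiv T _).symm m)
      refine ⟨adj.homEquiv T _ q, ?_⟩
      change adj.homEquiv T _ q ≫ α = m
      rw [← adj.homEquiv_naturality_right, Equiv.eq_symm_apply _ |>.1 hq]
  obtain ⟨φ, hφe⟩ := hpush
  obtain ⟨x', hx'⟩ := htriv
  let σ' : 𝟙_ (Over X) ⟶ P' := Over.homMk x' hx'
  have hPf : NonAbH1.IsTorsorFor Scheme.fpqcPrecoverage a :=
    ⟨hP.1, hP.2.choose, Scheme.fppfPrecoverage_le_fpqcPrecoverage _ hP.2.choose_spec.1, hP.2.choose_spec.2⟩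
  obtain ⟨bb, hbb⟩ := SekSuwaLib.exists_basis_pow h (NeZero.pos (p ^ n))
  haveI : Module.Finite R (SekSuwa.AK R lam (p ^ n) h) := Module.Finite.of_basis bb
  haveI : Module.Free R (SekSuwa.AK R lam (p ^ n) h) := Module.Free.of_basis bb
  haveI : IsFinite (SekSuwa.GK R lam (p ^ n) h).hom := by
    show IsFinite (Spec.map (CommRingCat.ofHom (algebraMap R (SekSuwa.AK R lam (p ^ n) h))))
    exact (IsFinite.SpecMap_iff _).2 (RingHom.finite_algebraMap.2 inferInstance)
  haveI : Flat (SekSuwa.GK R lam (p ^ n) h).hom := by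
    show Flat (Spec.map (CommRingCat.ofHom (algebraMap R (SekSuwa.AK R lam (p ^ n) h))))
    rw [HasRingHomProperty.Spec_iff (P := @Flat)]
    exact RingHom.flat_algebraMap_iff.2 inferInstance
  haveI : IsFinite (Red.bc f (SekSuwa.GK R lam (p ^ n) h)).hom := inferInstanceAs (IsFinite (Limits.pullback.snd _ f))
  haveI : Flat (Red.bc f (SekSuwa.GK R lam (p ^ n) h)).hom := inferInstanceAs (Flat (Limits.pullback.snd _ f))
  obtain ⟨hPfin, hPflat, hPsurj⟩ := FinTorsor.finite_flat_torsor hPf
  let T := Z ⊗ P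
  have hact : ∀ {T' : Over X} (g : T' ⟶ _) (x : T' ⟶ P), (lift g x ≫ a.act) ≫ φ = lift (g ≫ α) (x ≫ φ) ≫ a'.act := fun g x => by
    rw [Category.assoc, hφe, comp_lift_assoc, lift_fst_assoc, lift_snd_assoc]
  obtain ⟨g', hg'⟩ := SchTorsor.exists_div hP'.1 (toUnit T ≫ σ') (snd Z P ≫ φ)
  obtain ⟨g, hg⟩ := (hbij T (fst Z P)).2 g'
  change g ≫ α = g' at hg
  let s := lift g (snd Z P) ≫ a.act
  have hs : s ≫ φ = toUnit T ≫ σ' := by rw [hact, hg, hg']
  have huniq : ∀ {T' : Over X}, (T' ⟶ Z) → ∀ (y z : T' ⟶ P), y ≫ φ = z ≫ φ → y = z := by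
    intro T' k y z e
    obtain ⟨d, rfl⟩ := SchTorsor.exists_div hP.1 y z
    rw [hact] at e
    have h1 : d ≫ α = 1 := SchTorsor.act_free hP'.1 (e.trans (SchTorsor.one_act_pt a' _).symm)
    have h2 : d = 1 := (hbij T' k).1 (h1.trans (MonObj.one_comp α).symm)
    rw [h2, SchTorsor.one_act_pt]
  let q := (fst Z P).left
  haveI : Surjective q := inferInstanceAs (Surjective (Limits.pullback.fst Z.hom P.hom))
  haveI : Flat q := inferInstanceAs (Flat (Limits.pullback.fst Z.hom P.hom))
  haveI : QuasiCompact q := inferInstanceAs (QuasiCompact (Limits.pullback.fst Z.hom P.hom))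
  have hcond : ∀ {W : Scheme.{u}} (g₁ g₂ : W ⟶ T.left), g₁ ≫ q = g₂ ≫ q → g₁ ≫ s.left = g₂ ≫ s.left := by
    intro W g₁ g₂ e
    let W' : Over X := Over.mk (g₁ ≫ T.hom)
    let m₁ : W' ⟶ T := Over.homMk g₁ rfl
    let m₂ : W' ⟶ T := Over.homMk g₂ (by
      show g₂ ≫ T.hom = g₁ ≫ T.hom
      rw [← Over.w (fst Z P), reassoc_of% e])
    refine congrArg CommaMorphism.left (huniq (m₁ ≫ fst Z P) (m₁ ≫ s) (m₂ ≫ s) ?_)
    have hcs : ∀ m : W' ⟶ T, (m ≫ s) ≫ φ = toUnit W' ≫ σ' := fun m =>
      (Category.assoc m s φ).trans ((congrArg (m ≫ ·) hs).trans (by rw [comp_toUnit_assoc]))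
    exact (hcs m₁).trans (hcs m₂).symm
  let t := EffectiveEpi.desc q s.left hcond
  have ht : q ≫ t = s.left := EffectiveEpi.fac q s.left hcond
  have htP : t ≫ P.hom = j := by
    rw [← cancel_epi q, reassoc_of% ht, Over.w s]
    exact (Over.w (fst Z P)).symm
  obtain ⟨σ, hσ, -⟩ := SchTorsor.exists_section_of_normal hX P.hom t htP
  exact ⟨σ, hσ⟩

end Groth.Agent.S14688
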