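import Groth.Statements.S14692
import Mathlib.FieldTheory.Minpoly.IsIntegrallyClosed
import Mathlib.FieldTheory.Minpoly.Finite
import Mathlib.RingTheory.AdjoinRoot
import Mathlib.Data.Nat.Choose.Factorization
import Mathlib.Algebra.Polynomial.Degree.Lemmas
import Mathlib.RingTheory.Flat.FaithfullyFlat.Algebra

set_option autoImplicit false
universe u
open CAlg

namespace Groth.Agent.S14692

theorem lin1 {F : Type u} [Field F] {g c r v : F} (hc : c ≠ 0) (h : g * r = 1 + c * v) :
    g / c * r + -(1 / c) = v := by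
  field_simp; linear_combination h

theorem lin2 {F : Type u} [Field F] {g c : F} (hg : g ≠ 0) (hc : c ≠ 0) : g / c * (1 / g) + -(1 / c) = 0 := by
  field_simp; ring

theorem lin3 {F : Type u} [Field F] {g c f : F} (hg : g ≠ 0) (hc : c ≠ 0) :
    f * g = 1 + c * -((1 / g - f) * (g / c)) := by
  field_simp; ring

theorem coeff_dvd {R : Type u} [CommRing R] (p n : ℕ) [Fact p.Prime] (ϖ : R) (j : ℕ)
    (hj : ϖ ^ (p ^ (n - 1) * (p - 1) * (j + 1)) ∣ (p : R)) (k : ℕ) (hk0 : 1 ≤ k) (hk : k < p ^ n)
    {A : Type u} [CommRing A] [Algebra R A] :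
    ∃ d : A, ((p ^ n).choose k : A) * algebraMap R A ϖ ^ (j * k) =
      algebraMap R A ϖ ^ (j * p ^ n + 1) * d := by
  have hp : p.Prime := Fact.out
  let i := k.factorization p
  have hik : p ^ i ≤ k := Nat.le_of_dvd (by omega) (Nat.ordProj_dvd k p)
  have hin : i < n := (Nat.pow_lt_pow_iff_right hp.one_lt).1 (hik.trans_lt hk)
  let e := p ^ (n - 1) * (p - 1)
  have hkey : ∀ m, i + m ≤ n → p ^ (i + m) ≤ p ^ i + m * e := by
    intro m
    induction m with
    | zero => simp
    | succ m ih =>
      intro hm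
      have h1 := ih (by omega)
      have h2 : p ^ (i + m) * (p - 1) ≤ e := Nat.mul_le_mul_right _ (Nat.pow_le_pow_right hp.pos (by omega))
      have h3 : p ^ (i + (m + 1)) = p ^ (i + m) + p ^ (i + m) * (p - 1) := by
        rw [← add_assoc, pow_succ]
        obtain ⟨q, hq⟩ : ∃ q, p = q + 1 := ⟨p - 1, by have := hp.pos; omega⟩
        rw [hq, Nat.add_sub_cancel]; ring
      rw [h3, Nat.succ_mul]; omega
  have h4 := hkey (n - i) (by omega)
  rw [Nat.add_sub_cancel' hin.le] at h4
  have he : 0 < e := Nat.mul_pos (pow_pos hp.pos _) (by have := hp.two_le; omega)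
  have hni : 1 ≤ (n - i) * e := Nat.mul_pos (by omega) he
  have hexp : j * p ^ n + 1 ≤ e * (j + 1) * (n - i) + j * k := by
    have h5 : j * p ^ n ≤ j * k + j * ((n - i) * e) := by
      rw [← Nat.mul_add]; exact Nat.mul_le_mul_left _ (h4.trans (by omega))
    have h6 : e * (j + 1) * (n - i) = j * ((n - i) * e) + (n - i) * e := by ring
    omega
  have hdv : p ^ (n - i) ∣ (p ^ n).choose k := by
    have := Nat.ordProj_dvd ((p ^ n).choose k) p
    rwa [Nat.factorization_choose_prime_pow hp hk.le (by omega)] at this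
  have h7 : ϖ ^ (e * (j + 1) * (n - i)) ∣ ((p ^ n).choose k : R) := by
    rw [pow_mul]
    exact (pow_dvd_pow_of_dvd hj _).trans (by exact_mod_cast Nat.cast_dvd_cast (α := R) hdv)
  have h8 : ϖ ^ (j * p ^ n + 1) ∣ ((p ^ n).choose k : R) * ϖ ^ (j * k) :=
    (pow_dvd_pow ϖ hexp).trans (by rw [pow_add]; exact mul_dvd_mul h7 dvd_rfl)
  obtain ⟨d, hd⟩ := h8
  exact ⟨algebraMap R A d, by simpa only [map_mul, map_pow, map_natCast] using congrArg (algebraMap R A) hd⟩

theorem expand {A B : Type u} [CommRing A] [CommRing B] [Algebra A B] (N : ℕ) (hN : 0 < N) (π : A) (j : ℕ) (d : ℕ → A)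
    (hd : ∀ k ∈ Finset.Ico 1 N, (N.choose k : A) * π ^ (j * k) = π ^ (j * N + 1) * d k) (a : B) :
    (1 + algebraMap A B π ^ j * a) ^ N = 1 + algebraMap A B π ^ (j * N) *
      (a ^ N + algebraMap A B π * ∑ k ∈ Finset.Ico 1 N, algebraMap A B (d k) * a ^ k) := by
  rw [add_comm 1, add_pow, Finset.sum_range_succ, Finset.range_eq_Ico, Finset.sum_eq_sum_Ico_succ_bot hN]
  have h : ∀ k ∈ Finset.Ico 1 N, (algebraMap A B π ^ j * a) ^ k * 1 ^ (N - k) * (N.choose k : B) =
      algebraMap A B π ^ (j * N) * (algebraMap A B π * (algebraMap A B (d k) * a ^ k)) := fun k hk => by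
    have := congrArg (algebraMap A B) (hd k hk)
    simp only [map_mul, map_pow, map_natCast] at this
    rw [mul_pow, ← pow_mul, one_pow, mul_one]
    linear_combination (a ^ k) * this
  rw [Finset.sum_congr rfl h, ← Finset.mul_sum, ← Finset.mul_sum]
  simp only [pow_zero, one_pow, Nat.choose_zero_right, Nat.choose_self, Nat.cast_one, mul_one, mul_pow, ← pow_mul,
    Nat.sub_self]
  ring

/-- Let R be a discrete valuation ring of characteristic zero and residue characteristic p, with
uniformizer π and a primitive p^n-th root of unity ζ (n ≥ 1), and A a Noetherian integrally closed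
domain which is a faithfully flat R-algebra, in which πA is a prime ideal and every element that is
a unit modulo π is a unit (as when A is π-adically complete, or local). Let f, g be units of A, j a
natural number with π^{p^{n−1}(p−1)(j+1)} dividing p (that is, j is less than the valuation of ζ −
1, so that the polynomials ((1 + π^{j}T)^{p^n} − 1)/π^{jp^n} and ((1 + π^{j+1}T)^{p^n} −
1)/π^{(j+1)p^n} have coefficients in R), and f₀ ∈ A with f·g^{p^n} = 1 + π^{j p^n}·f₀; suppose j is
maximal with this property: there is no unit g' of A with f·g'^{p^n} ≡ 1 modulo π^{(j+1)p^n}.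
Suppose moreover that the algebra L = A[1/π][Z]/(Z^{p^n} − f) is an integral domain (the
μ_{p^n}-torsor Z^{p^n} = f is connected on the generic fibre) and that, B denoting the integral
closure of A in L (the normalization of Spec A in that cover), the ideal πB is radical (the
normalization has reduced special fibre). Then f₀ is not congruent modulo πA to a p^n-th power. (The
published statement phrases the hypothesis on j as: the class of the torsor Z^{p^n} = f lies in
H¹(Spec A, G_{π^j,n}) and not in H¹(Spec A, G_{π^{j+1},n}); the conditions on g and g' are its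
ring-theoretic form, which is the first assertion of the same lemma; A is there factorial and
π-adically complete, or normal local, which this row keeps only through the consequences used:
integrally closed, and units lift modulo π.) -/
theorem result
    (R : Type u) [CommRing R] [IsDomain R] [IsDiscreteValuationRing R] [CharZero R]
    (p : ℕ) [Fact p.Prime] [CharP (IsLocalRing.ResidueField R) p] (ϖ : R) (hϖ : Irreducible ϖ)
    (n : ℕ) (hn : 0 < n) (ζ : R) (hζ : IsPrimitiveRoot ζ (p ^ n))
    (A : Type u) [CommRing A] [IsDomain A] [IsNoetherianRing A] [IsIntegrallyClosed A] [Algebra R A]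
    [Module.FaithfullyFlat R A]
    (hprime : (Ideal.span {algebraMap R A ϖ}).IsPrime)
    (hlift : ∀ a : A, IsUnit (Ideal.Quotient.mk (Ideal.span {algebraMap R A ϖ}) a) → IsUnit a)
    (f g : Aˣ) (j : ℕ) (hj : ϖ ^ (p ^ (n - 1) * (p - 1) * (j + 1)) ∣ (p : R)) (f₀ : A)
    (hfg : (f : A) * (g : A) ^ (p ^ n) = 1 + (algebraMap R A ϖ) ^ (j * p ^ n) * f₀)
    (hmax : ∀ (g' : Aˣ) (c : A), (f : A) * (g' : A) ^ (p ^ n) ≠ 1 + (algebraMap R A ϖ) ^ ((j + 1) * p ^ n) * c)
    [IsDomain (AdjoinRoot (Polynomial.X ^ (p ^ n) - Polynomial.C (algebraMap A (Localization.Away (algebraMap R A ϖ)) (f : A))))]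
    (hred : (Ideal.span {algebraMap A (integralClosure A (AdjoinRoot (Polynomial.X ^ (p ^ n) - Polynomial.C (algebraMap A (Localization.Away (algebraMap R A ϖ)) (f : A))))) (algebraMap R A ϖ)}).IsRadical)
    (g₀ : A) : f₀ - g₀ ^ (p ^ n) ∉ Ideal.span {(algebraMap R A ϖ)} := by
  intro hmem
  obtain ⟨t, ht⟩ := Ideal.mem_span_singleton'.1 hmem
  have hp : p.Prime := Fact.out
  let N := p ^ n
  let π := algebraMap R A ϖ
  have hN : 0 < N := pow_pos hp.pos n
  have hπ : π ≠ 0 := fun h => hϖ.ne_zero
    (FaithfulSMul.algebraMap_injective R A (h.trans (map_zero _).symm))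
  choose! d hd using fun k (h : k ∈ Finset.Ico 1 N) => coeff_dvd p n ϖ j hj k
    (Finset.mem_Ico.1 h).1 (Finset.mem_Ico.1 h).2 (A := A)
  -- the modified unit
  have hu : IsUnit (1 + π ^ j * g₀) := by
    refine hlift _ ((isUnit_pow_iff hN.ne').1 ?_)
    have e := expand N hN π j d hd g₀
    simp only [Algebra.algebraMap_self, RingHom.id_apply] at e
    rw [← map_pow, e]
    have e2 : Ideal.Quotient.mk (Ideal.span {π}) (1 + π ^ (j * N) * (g₀ ^ N + π * ∑ k ∈ Finset.Ico 1 N, d k * g₀ ^ k)) =
        Ideal.Quotient.mk (Ideal.span {π}) ((f : A) * (g : A) ^ N) := by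
      rw [hfg, Ideal.Quotient.eq, Ideal.mem_span_singleton]
      exact ⟨π ^ (j * N) * ((∑ k ∈ Finset.Ico 1 N, d k * g₀ ^ k) - t), by
        linear_combination (π ^ (j * N)) * ht⟩
    rw [e2]
    exact ((f.isUnit).mul (g.isUnit.pow _)).map _
  obtain ⟨u, hu⟩ := hu
  let g' : Aˣ := g * u⁻¹
  obtain ⟨c, hc⟩ : ∃ c, (f : A) * (g' : A) ^ N = 1 + π ^ (j * N) * (π * c) := by
    refine ⟨((u⁻¹ : Aˣ) : A) ^ N * (t - ∑ k ∈ Finset.Ico 1 N, d k * g₀ ^ k), ?_⟩
    have e := expand N hN π j d hd g₀
    simp only [Algebra.algebraMap_self, RingHom.id_apply] at e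
    rw [← hu] at e
    have h1 : ((u⁻¹ : Aˣ) : A) ^ N * (u : A) ^ N = 1 := by rw [← mul_pow, Units.inv_mul, one_pow]
    rw [Units.val_mul, mul_pow]
    linear_combination (((u⁻¹ : Aˣ) : A) ^ N) * hfg + h1 - (((u⁻¹ : Aˣ) : A) ^ N) * e -
      (((u⁻¹ : Aˣ) : A) ^ N * π ^ (j * N)) * ht
  -- the root
  let A' := Localization.Away π
  let P : Polynomial A' := Polynomial.X ^ N - Polynomial.C (algebraMap A A' (f : A))
  let L := AdjoinRoot P
  haveI : IsDomain L := ‹_›
  obtain ⟨i, hi⟩ : ∃ i : L, algebraMap A L π * i = 1 := by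
    obtain ⟨i, hi⟩ := isUnit_iff_exists_inv.1 ((IsLocalization.Away.algebraMap_isUnit π (S := A')).map (algebraMap A' L))
    exact ⟨i, by rw [IsScalarTower.algebraMap_apply A A' L]; exact hi⟩
  let Z : L := AdjoinRoot.root P
  have hZ : Z ^ N = algebraMap A L (f : A) := by
    have h : Polynomial.eval₂ (AdjoinRoot.of P) Z (Polynomial.X ^ N - Polynomial.C (algebraMap A A' (f : A))) = 0 :=
      AdjoinRoot.eval₂_root P
    rw [Polynomial.eval₂_sub, Polynomial.eval₂_pow, Polynomial.eval₂_X, Polynomial.eval₂_C, sub_eq_zero] at h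
    rw [h, IsScalarTower.algebraMap_apply A A' L]; rfl
  let w : L := (algebraMap A L (g' : A) * Z - 1) * i ^ j
  have hij : algebraMap A L π ^ j * i ^ j = 1 := by rw [← mul_pow, hi, one_pow]
  have hw1 : 1 + algebraMap A L π ^ j * w = algebraMap A L (g' : A) * Z := by
    linear_combination (algebraMap A L (g' : A) * Z - 1) * hij
  have hwN : w ^ N = algebraMap A L π * (algebraMap A L c - ∑ k ∈ Finset.Ico 1 N, algebraMap A L (d k) * w ^ k) := by
    have e := expand N hN π j d hd w
    rw [hw1, mul_pow, hZ, ← map_pow, ← map_mul, mul_comm _ (f : A), hc, map_add, map_one, map_mul, map_mul, map_pow] at e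
    have hne : algebraMap A L π ^ (j * N) ≠ 0 := pow_ne_zero _ (left_ne_zero_of_mul_eq_one hi)
    refine mul_left_cancel₀ hne ?_
    linear_combination -e
  have hwint : IsIntegral A w := by
    refine ⟨Polynomial.X ^ N + Polynomial.C π * (∑ k ∈ Finset.Ico 1 N, Polynomial.C (d k) * Polynomial.X ^ k - Polynomial.C c),
      Polynomial.monic_X_pow_add ?_, ?_⟩
    · refine ((Polynomial.degree_mul_le _ _).trans (add_le_add Polynomial.degree_C_le le_rfl)).trans_lt ?_
      rw [zero_add]
      refine (Polynomial.degree_sub_le _ _).trans_lt (max_lt ?_ ?_)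
      · refine (Polynomial.degree_sum_le _ _).trans_lt ?_
        rw [Finset.sup_lt_iff (show (⊥ : WithBot ℕ) < (N : WithBot ℕ) from WithBot.bot_lt_coe N)]
        intro k hk
        exact (Polynomial.degree_C_mul_X_pow_le k _).trans_lt (by exact_mod_cast (Finset.mem_Ico.1 hk).2)
      · exact Polynomial.degree_C_le.trans_lt (by exact_mod_cast hN)
    · simp only [Polynomial.eval₂_add, Polynomial.eval₂_mul, Polynomial.eval₂_sub, Polynomial.eval₂_pow,
        Polynomial.eval₂_X, Polynomial.eval₂_C, Polynomial.eval₂_finset_sum]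
      linear_combination hwN
  let B := integralClosure A L
  have hwB : (⟨w, hwint⟩ : B) ∈ Ideal.span {algebraMap A B π} := by
    refine hred ⟨N, Ideal.mem_span_singleton'.2 ⟨algebraMap A B c -
      ∑ k ∈ Finset.Ico 1 N, algebraMap A B (d k) * (⟨w, hwint⟩ : B) ^ k, Subtype.ext ?_⟩⟩
    push_cast
    rw [hwN, mul_comm]
  obtain ⟨⟨w', hw'⟩, hww'⟩ := Ideal.mem_span_singleton'.1 hwB
  have hww : w' * algebraMap A L π = w := congrArg Subtype.val hww'
  have hrel : algebraMap A L (g' : A) * Z = 1 + algebraMap A L π ^ (j + 1) * w' := by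
    rw [← hw1, ← hww]; ring
  -- pass to the field
  let K := FractionRing A
  let PK : Polynomial K := Polynomial.X ^ N - Polynomial.C (algebraMap A K (f : A))
  have hirr : Irreducible PK := by
    let PA : Polynomial A := Polynomial.X ^ N - Polynomial.C (f : A)
    have hPA : PA.Monic := Polynomial.monic_X_pow_sub_C _ hN.ne'
    have hmap : PA.map (algebraMap A A') = P := by simp [PA, P]
    have hA'0 : Nontrivial A' := (AdjoinRoot.of P).domain_nontrivial
    have hPm : P.Monic := hmap ▸ hPA.map _
    have hdeg : P.natDegree = N := Polynomial.natDegree_X_pow_sub_C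
    have hpr : Prime P := (Ideal.span_singleton_prime hPm.ne_zero).1
      ((Ideal.Quotient.isDomain_iff_prime _).1 (‹IsDomain L›))
    have hPAi : Irreducible PA := by
      rw [hPA.irreducible_iff_natDegree]
      refine ⟨fun h => ?_, fun a b ha hb hab => ?_⟩
      · have h1 := congrArg Polynomial.natDegree h
        rw [Polynomial.natDegree_one, Polynomial.natDegree_X_pow_sub_C] at h1
        exact hN.ne' h1
      · have h1 : P = a.map (algebraMap A A') * b.map (algebraMap A A') := by rw [← Polynomial.map_mul, hab, hmap]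
        rcases hpr.irreducible.isUnit_or_isUnit h1 with h | h
        · refine Or.inl ?_
          rw [← ha.natDegree_map (algebraMap A A'), (ha.map _).eq_one_of_isUnit h, Polynomial.natDegree_one]
        · refine Or.inr ?_
          rw [← hb.natDegree_map (algebraMap A A'), (hb.map _).eq_one_of_isUnit h, Polynomial.natDegree_one]
    have := (hPA.irreducible_iff_irreducible_map_fraction_map (K := K)).1 hPAi
    simpa [PA, PK] using this
  haveI : Fact (Irreducible PK) := ⟨hirr⟩
  let Q := AdjoinRoot PK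
  let lK : A' →+* K := IsLocalization.Away.lift π (g := algebraMap A K)
    (IsUnit.mk0 _ fun h => hπ (IsFractionRing.injective A K (h.trans (map_zero _).symm)))
  let θ : L →+* Q := AdjoinRoot.lift ((AdjoinRoot.of PK).comp lK) (AdjoinRoot.root PK) (by
    have h : Polynomial.eval₂ (AdjoinRoot.of PK) (AdjoinRoot.root PK) PK = 0 := AdjoinRoot.eval₂_root PK
    simp only [P, PK, Polynomial.eval₂_sub, Polynomial.eval₂_pow, Polynomial.eval₂_X, Polynomial.eval₂_C,
      RingHom.comp_apply, lK, IsLocalization.Away.lift_eq] at h ⊢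
    exact h)
  have hθ : ∀ a : A, θ (algebraMap A L a) = algebraMap A Q a := fun a => by
    rw [IsScalarTower.algebraMap_apply A A' L, IsScalarTower.algebraMap_apply A K Q]
    show AdjoinRoot.lift _ _ _ (AdjoinRoot.of P (algebraMap A A' a)) = _
    rw [AdjoinRoot.lift_of]
    show AdjoinRoot.of PK (lK _) = _
    rw [IsLocalization.Away.lift_eq]; rfl
  let θ' : L →ₐ[A] Q := { θ with commutes' := hθ }
  let v : Q := θ w'
  have hv : IsIntegral A v := hw'.map θ'
  have hK : ∀ a : A, algebraMap K Q (algebraMap A K a) = algebraMap A Q a := fun a =>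
    (IsScalarTower.algebraMap_apply A K Q a).symm
  have hvr : algebraMap A Q (g' : A) * AdjoinRoot.root PK = 1 + algebraMap A Q π ^ (j + 1) * v := by
    have := congrArg θ hrel
    rw [map_mul, map_add, map_mul, map_pow, map_one, hθ, hθ, show θ Z = AdjoinRoot.root PK from AdjoinRoot.lift_root _] at this
    exact this
  let C0 : K := algebraMap A K π ^ (j + 1)
  let G : K := algebraMap A K (g' : A)
  have hC0 : C0 ≠ 0 := pow_ne_zero _ fun h => hπ (IsFractionRing.injective A K (h.trans (map_zero _).symm))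
  have hG : G ≠ 0 := (g'.isUnit.map (algebraMap A K)).ne_zero
  let q := minpoly A v
  have hq : minpoly K v = q.map (algebraMap A K) := minpoly.isIntegrallyClosed_eq_field_fractions' K hv
  let ℓ : Polynomial K := Polynomial.C (G / C0) * Polynomial.X + Polynomial.C (-(1 / C0))
  have hℓdeg : ℓ.natDegree = 1 := Polynomial.natDegree_linear (div_ne_zero hG hC0)
  have hℓlc : ℓ.leadingCoeff = G / C0 := Polynomial.leadingCoeff_linear (div_ne_zero hG hC0)
  let r := (q.map (algebraMap A K)).comp ℓ
  have hr : Polynomial.aeval (AdjoinRoot.root PK) r = 0 := by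
    have hval : Polynomial.aeval (AdjoinRoot.root PK) ℓ = v := by
      have a1 : algebraMap K Q (G / C0) = algebraMap A Q (g' : A) / algebraMap A Q π ^ (j + 1) := by
        simp only [G, C0]; rw [map_div₀, map_pow, hK, hK]
      have a2 : algebraMap K Q (-(1 / C0)) = -(1 / algebraMap A Q π ^ (j + 1)) := by
        simp only [C0]; rw [map_neg, map_div₀, map_one, map_pow, hK]
      rw [show Polynomial.aeval (AdjoinRoot.root PK) ℓ =
          algebraMap K Q (G / C0) * AdjoinRoot.root PK + algebraMap K Q (-(1 / C0)) by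
        simp only [ℓ, map_add, map_mul, Polynomial.aeval_C, Polynomial.aeval_X]; rfl, a1, a2]
      have h0 : algebraMap A Q π ^ (j + 1) ≠ 0 := by
        rw [← hK, ← map_pow]; exact (map_ne_zero _).2 hC0
      exact lin1 h0 hvr
    rw [Polynomial.aeval_comp, hval, ← hq, minpoly.aeval]
  have hmin : minpoly K (AdjoinRoot.root PK) = PK :=
    (minpoly.eq_of_irreducible_of_monic hirr (by rw [AdjoinRoot.aeval_eq, AdjoinRoot.mk_self])
      (Polynomial.monic_X_pow_sub_C _ hN.ne')).symm
  have hPKdeg : PK.natDegree = N := Polynomial.natDegree_X_pow_sub_C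
  obtain ⟨e, he⟩ : PK ∣ r := hmin ▸ minpoly.dvd K _ hr
  have hqm : (q.map (algebraMap A K)).Monic := (minpoly.monic hv).map _
  have hrdeg : r.natDegree = (q.map (algebraMap A K)).natDegree := by
    rw [Polynomial.natDegree_comp, hℓdeg, mul_one]
  haveI : FiniteDimensional K Q := (AdjoinRoot.powerBasis hirr.ne_zero).finite
  have hqN : (q.map (algebraMap A K)).natDegree ≤ N := by
    rw [← hq, ← hPKdeg]
    have := minpoly.natDegree_le (A := K) v
    rwa [(AdjoinRoot.powerBasis hirr.ne_zero).finrank, AdjoinRoot.powerBasis_dim] at this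
  have hrlc : r.leadingCoeff = (G / C0) ^ (q.map (algebraMap A K)).natDegree := by
    rw [Polynomial.leadingCoeff_comp (by rw [hℓdeg]; exact one_ne_zero), hqm.leadingCoeff, hℓlc, one_mul]
  have hr0 : r ≠ 0 := fun h => by
    rw [h, Polynomial.leadingCoeff_zero] at hrlc
    exact pow_ne_zero _ (div_ne_zero hG hC0) hrlc.symm
  have he0 : e ≠ 0 := fun h => hr0 (by rw [he, h, mul_zero])
  have hdsum : r.natDegree = N + e.natDegree := by
    rw [he, Polynomial.natDegree_mul hirr.ne_zero he0, hPKdeg]
  have hedeg : e.natDegree = 0 := by omega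
  have hqdeg : (q.map (algebraMap A K)).natDegree = N := by omega
  have hec : e = Polynomial.C ((G / C0) ^ N) := by
    rw [Polynomial.eq_C_of_natDegree_eq_zero hedeg]
    congr 1
    have h1 : r.leadingCoeff = e.coeff 0 := by
      rw [he, Polynomial.leadingCoeff_mul, (Polynomial.monic_X_pow_sub_C _ hN.ne' : PK.Monic).leadingCoeff, one_mul,
        Polynomial.leadingCoeff, hedeg]
    rw [← h1, hrlc, hqdeg]
  have h0 := congrArg (Polynomial.eval (1 / G)) he
  have hl0 : Polynomial.eval (1 / G) ℓ = 0 := by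
    simp only [ℓ, Polynomial.eval_add, Polynomial.eval_mul, Polynomial.eval_C, Polynomial.eval_X]
    exact lin2 hG hC0
  simp only [r, Polynomial.eval_comp, hl0, hec, Polynomial.eval_mul, Polynomial.eval_C, PK,
    Polynomial.eval_sub, Polynomial.eval_pow, Polynomial.eval_X] at h0
  rw [← Polynomial.coeff_zero_eq_eval_zero, Polynomial.coeff_map] at h0
  refine hmax g' (-(q.coeff 0)) (IsFractionRing.injective A K ?_)
  simp only [map_add, map_mul, map_one, map_pow, map_neg]
  rw [h0]
  show algebraMap A K (f : A) * G ^ N = 1 + algebraMap A K π ^ ((j + 1) * N) * _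
  rw [pow_mul, div_pow, div_pow, one_pow]
  have hGN : G ^ N ≠ 0 := pow_ne_zero _ hG
  have hCN : C0 ^ N ≠ 0 := pow_ne_zero _ hC0
  show _ = 1 + C0 ^ N * _
  exact lin3 hGN hCN

end Groth.Agent.S14692
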