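import Groth.Statements.S14695
import Groth.Prelude.Def_ActBC
import Groth.Agent.SchTorsor.NormalExt
import Groth.Agent.SchTorsor.Props
import Groth.Agent.EtFound.Descent

set_option autoImplicit false
universe u
open CategoryTheory AlgebraicGeometry
open NonAbH1
open MonoidalCategory CartesianMonoidalCategory

namespace Groth.Agent.S14695

/-- In the case where the morphism Y → X is the identity of X: let X be a normal integral scheme
(integral, with every local ring an integrally closed domain), G and G' X-group schemes which are
finite and flat over X, and g : G → G' a homomorphism which becomes an isomorphism after base change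
to the spectrum of the function field of X. If an fppf G-torsor P over X becomes trivial after
extension of the structure group along g — there is an fppf G'-torsor P' over X with a g-equivariant
X-morphism P → P', and P' has a section over X — then P has a section over X. (The published
statement takes G, G' commutative and all schemes Noetherian, allows also composition with the
pull-back along a morphism Y → X admitting a rational section, and is phrased as injectivity of
H¹(X, G) → H¹(Y, G'_Y); this row is the case where Y → X is the identity of X, as the trivial-kernel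
assertion the argument establishes, for which commutativity and the Noetherian condition are not
needed.) -/
theorem result {X : Scheme.{u}} [IsIntegral X]
    (hX : Pi1.IsNormalScheme X) (G G' : Over X) [GrpObj G] [GrpObj G']
    [IsFinite G.hom] [Flat G.hom] [IsFinite G'.hom] [Flat G'.hom]
    (g : G ⟶ G') [IsMonHom g]
    (hg : IsIso ((Over.pullback (X.fromSpecStalk (genericPoint X))).map g))
    (P : Over X) (a : AlgGrp.Action G P) (hP : NonAbH1.IsTorsorFor Scheme.fppfPrecoverage a)
    (P' : Over X) (a' : AlgGrp.Action G' P') (hP' : NonAbH1.IsTorsorFor Scheme.fppfPrecoverage a')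
    (hpush : NonAbH1.IsPushforwardAlongSch g a a') (htriv : NonAbH1.HasSectionOver P' (𝟙 X)) :
    NonAbH1.HasSectionOver P (𝟙 X) := by
  let j := X.fromSpecStalk (genericPoint X)
  let F := Over.pullback j
  obtain ⟨f, hf⟩ := hpush
  obtain ⟨s', hs'⟩ := htriv
  haveI : IsIso (F.map g) := hg
  have hfin : IsFinite P.hom := by
    haveI := Groth.Agent.EtFound.fpqc_isFinite.{u}
    exact Groth.Agent.SchTorsor.torsor_property @IsFinite
      (⟨hP.1, hP.2.choose, Scheme.fppfPrecoverage_le_fpqcPrecoverage _ hP.2.choose_spec.1, hP.2.choose_spec.2⟩ :
        NonAbH1.IsTorsorFor Scheme.fpqcPrecoverage a) inferInstance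
  have haj : NonAbH1.IsTorsorFor Scheme.fpqcPrecoverage (a.bc j) := by
    have h1 := NonAbH1.isTorsorFor_bc j Scheme.fppfPrecoverage hP
    exact ⟨h1.1, h1.2.choose, Scheme.fppfPrecoverage_le_fpqcPrecoverage _ h1.2.choose_spec.1, h1.2.choose_spec.2⟩
  let b := (a'.bc j).restrict (F.map g)
  have hb : NonAbH1.IsPseudoTorsorSch b := by
    have h1 := NonAbH1.isPseudoTorsorSch_bc j hP'.1
    show IsIso (lift b.act (snd (Red.bc j G) (Red.bc j P')))
    have h2 : lift b.act (snd (Red.bc j G) (Red.bc j P')) =
        (F.map g ▷ Red.bc j P') ≫ lift (a'.bc j).act (snd (Red.bc j G') (Red.bc j P')) := by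
      apply CartesianMonoidalCategory.hom_ext <;> simp [b, F]
    rw [h2]
    haveI : IsIso (lift (a'.bc j).act (snd (Red.bc j G') (Red.bc j P'))) := h1
    infer_instance
  have heq : (a.bc j).act ≫ F.map f = (Red.bc j G ◁ F.map f) ≫ b.act := by
    have h2 : lift (fst G P ≫ g) (snd G P ≫ f) = (G ◁ f) ≫ (g ▷ P') := by
      apply CartesianMonoidalCategory.hom_ext <;> simp
    rw [AlgGrp.Action.bc_act, Category.assoc, ← Functor.map_comp, hf, h2, Category.assoc, Functor.map_comp,
      Functor.map_comp, ← Functor.LaxMonoidal.μ_natural_right_assoc, ← Functor.LaxMonoidal.μ_natural_left_assoc]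
    rfl
  haveI := Groth.Agent.SchTorsor.isIso_of_equivariant haj hb (F.map f) heq
  let y : Over.mk (𝟙 (Spec (X.presheaf.stalk (genericPoint X)))) ⟶ F.obj P' :=
    Over.homMk (Limits.pullback.lift (j ≫ s') (𝟙 _) (by rw [Category.assoc, hs', Category.id_comp]; rfl))
      (Limits.pullback.lift_snd _ _ _)
  let x := y ≫ inv (F.map f)
  have hx : x.left ≫ Limits.pullback.snd P.hom j = 𝟙 _ := Over.w x
  obtain ⟨σ, hσ, -⟩ := Groth.Agent.SchTorsor.exists_section_of_normal hX P.hom
    (x.left ≫ Limits.pullback.fst P.hom j) (by
      rw [Category.assoc, Limits.pullback.condition, reassoc_of% hx])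
  exact ⟨σ, hσ⟩

end Groth.Agent.S14695
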