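import Groth.Statements.S14718
import Groth.Agent.TotLinBun.Sections
import Groth.Agent.S8270
import Groth.Agent.ZeroSchX.Basic
import Groth.Agent.GITQuot.Orbit
-- import your own Groth.Agent.* helpers here

set_option autoImplicit false
universe u
open CategoryTheory MonoidalCategory CartesianMonoidalCategory MonObj GrpObj AlgebraicGeometry Topology
open GIT

namespace Groth.Agent.S14718
set_option backward.isDefEq.respectTransparency false
set_option backward.isDefEq.respectTransparency.types false

/-- Let k be a field, G a group scheme over k acting by σ on a k-scheme X, φ : X → Y an invariant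
k-morphism (φ ∘ σ = φ ∘ p₂) which is affine, and M an ample invertible sheaf on Y. Then there is a
G-linearised line bundle L on X, taken in total-space form, with X = X^ss(L): every point x has an
invariant section s of some L^n, n ≥ 1, with s(x) ≠ 0 and X_s affine. If moreover (Y, φ) is a
geometric quotient of X by G, then X = X^s(L) for the same L (the action of G on those X_s is
closed; no condition on stabilisers). (The published statement assumes G reductive, X of finite type
and (Y, φ) a categorical quotient with Y quasi-projective; this row keeps only what the construction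
uses: φ invariant and affine, M ample. L is taken in total-space form.) -/
theorem result (k : Type u) [Field k]
    (G X Y : Over (Spec (CommRingCat.of k))) [GrpObj G]
    (a : AlgGrp.Action G X) (φ : X ⟶ Y) (hφ : GIT.IsInvariant a φ) [IsAffineHom φ.left]
    (M : Y.left.Modules) (hM : CohB1.IsAmple M) :
    ∃ B : GLinSh.LinBun G a, B.ssLocus = Set.univ ∧ (GIT.IsGeomQuot a φ → B.sLocus = Set.univ) := by
  have hinv := hM.1
  have hQ : Coh.IsQCoh M := Groth.Agent.ZeroSchX.isQCoh_inv hinv
  obtain ⟨A, j, hA⟩ := Groth.Agent.S8270.result M hQ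
  refine ⟨⟨TotLinBun.Tot φ A, TotLinBun.totπ φ A, TotLinBun.atlas φ j hinv hQ hA, TotLinBun.totAction φ A a hφ,
    TotLinBun.totAct_π φ A a hφ, TotLinBun.isLinearLift φ a hφ⟩, ?_, fun hq => ?_⟩
  all_goals refine Set.eq_univ_iff_forall.2 fun x => ?_
  all_goals obtain ⟨n, s, hs, haff⟩ := hM.2.2 (φ.left x)
  all_goals obtain ⟨F, hF⟩ := TotLinBun.exists_weightFn (j := j) hinv (n + 1) (InvX.one s)
  all_goals have hnv := TotLinBun.nonvanishing_pfun (φ := φ) hQ hinv hA s hF
  · exact ⟨n + 1, _, Nat.succ_pos n, ⟨TotLinBun.hasWeight_pfun hF, TotLinBun.isInvFn_pfun a hφ F⟩,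
      hnv.symm ▸ hs, _, hnv.symm, haff.preimage φ.left⟩
  · exact ⟨n + 1, _, Nat.succ_pos n, ⟨TotLinBun.hasWeight_pfun hF, TotLinBun.isInvFn_pfun a hφ F⟩,
      hnv.symm ▸ hs, _, hnv.symm, haff.preimage φ.left,
      TotLinBun.closedOrbitsOn_of_isClosedAction (GITQuot.isClosedAction hq) _⟩

end Groth.Agent.S14718
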