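import Groth.Statements.S14734
import Groth.Agent.H1Prufer.Main
-- import your own Groth.Agent.* helpers here

set_option autoImplicit false
universe u
open ValPrufer

namespace Groth.Agent.S14734

/-- Let R be a Prüfer domain (an integral domain whose localisations at primes are valuation rings) of
finite Krull dimension and S an R-algebra of finite type. Then S, and every localisation T of S at a
multiplicative subset, is catenary and of finite Krull dimension. (The published statement is for a
scheme X of finite type over R and the spectrum of any semilocalisation of X; catenarity is local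
and finiteness of dimension is checked on a finite affine cover, so this row states the affine case
together with arbitrary localisations.) -/
theorem result
    (R : Type u) [CommRing R] [IsDomain R]
    (hR : ∀ (p : Ideal R) [p.IsPrime], ValuationRing (Localization.AtPrime p))
    (hdim : ringKrullDim R < ⊤)
    (S : Type u) [CommRing S] [Algebra R S] [Algebra.FiniteType R S]
    (M : Submonoid S) (T : Type u) [CommRing T] [Algebra S T] [IsLocalization M T] :
    CAlg.IsCatenary S ∧ ringKrullDim S < ⊤ ∧ CAlg.IsCatenary T ∧ ringKrullDim T < ⊤ := by
  
  have hcat : CAlg.IsCatenary S := H1Prufer.isCatenary hR hdim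
  have hle : ∀ a b : PrimeSpectrum T, PrimeSpectrum.comap (algebraMap S T) a ≤
      PrimeSpectrum.comap (algebraMap S T) b ↔ a ≤ b := fun a b =>
    ⟨fun h => (IsLocalization.map_under M T a.asIdeal).ge.trans
      ((Ideal.map_mono (f := algebraMap S T) h).trans (IsLocalization.map_under M T b.asIdeal).le),
      fun h => Ideal.comap_mono h⟩
  refine ⟨hcat, H1Prufer.ringKrullDim_lt_top hR hdim,
    DimFormula.isCatenary_of_embedding hcat (PrimeSpectrum.comap (algebraMap S T)) hle
      (fun a b x _ hxb => ?_), ?_⟩
  · rw [PrimeSpectrum.localization_comap_range T M]
    refine Set.disjoint_left.2 fun s hs hsx => ?_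
    exact b.isPrime.ne_top (Ideal.eq_top_of_isUnit_mem _ (hxb hsx) (IsLocalization.map_units T ⟨s, hs⟩))
  · refine (Order.krullDim_le_of_strictMono (PrimeSpectrum.comap (algebraMap S T)) fun a b h => ?_).trans_lt
      (H1Prufer.ringKrullDim_lt_top (R := R) (S := S) hR hdim)
    exact lt_of_le_not_ge ((hle a b).2 h.le) fun h' => h.not_ge ((hle b a).1 h')

end Groth.Agent.S14734
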