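import Groth.Statements.S14751
import Groth.Agent.GrpSchLib.AntiAffineHom
import Groth.Agent.H23.MaxAbelian
import Groth.Agent.H23.CubeField
import Groth.Agent.H23.RigidGamma

set_option autoImplicit false
universe u
open CategoryTheory CategoryTheory.Limits MonoidalCategory CartesianMonoidalCategory MonObj GrpObj AlgebraicGeometry
open AlgGrp

namespace Groth.Agent.S14751

/-- Over an algebraically closed field k let G be a group variety (smooth connected k-group scheme of
finite type), i : N → G an affine closed subgroup scheme which is the kernel of a flat surjective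
homomorphism π : G → Q, and j : A → G an abelian subvariety (a smooth connected proper closed
subgroup scheme) with A · N = G, that is, the multiplication A × N → G is surjective. Then the
multiplication A × N → G is a homomorphism and an isogeny (surjective with finite kernel), and so is
the composite A → G → Q. (In the published statement N is the largest connected affine normal
subgroup variety and Q = G/N the Albanese quotient; only the listed properties are used.) -/
theorem result (k : Type u) [Field k] [IsAlgClosed k]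
    (G N A Q : Over (Spec (CommRingCat.of k))) [GrpObj G] [GrpObj N] [GrpObj A] [GrpObj Q]
    [Smooth G.hom] [QuasiCompact G.hom] [ConnectedSpace ↥G.left]
    (i : N ⟶ G) [IsMonHom i] [IsClosedImmersion i.left] [IsAffine N.left]
    (π : G ⟶ Q) [IsMonHom π] [Flat π.left] [Surjective π.left] (hker : AlgGrp.IsKernel i π)
    (j : A ⟶ G) [IsMonHom j] [IsClosedImmersion j.left] [Smooth A.hom] [ConnectedSpace ↥A.left] [IsProper A.hom]
    (hsurj : Surjective ((j ⊗ₘ i) ≫ μ[G]).left) :
    IsMonHom ((j ⊗ₘ i) ≫ μ[G]) ∧ SGA7.IsIsogenyOver ((j ⊗ₘ i) ≫ μ[G]) ∧ SGA7.IsIsogenyOver (j ≫ π) := by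
  haveI hsG : IsSeparated G.hom := Groth.Agent.GrpSchLib.AntiAffine.isSeparated_grp G
  haveI : IsSeparated Q.hom := Groth.Agent.GrpSchLib.AntiAffine.isSeparated_grp Q
  haveI : GeometricallyReduced A.hom := Groth.Agent.H23.RigidGamma.geometricallyReduced_of_smooth A.hom
  haveI := Groth.Agent.H23.MaxAbelian.geometricallyIntegral_of_connected A
  haveI : GeometricallyConnected A.hom := ⟨fun K _ y P f g h => by
    haveI : IsIntegral _ := GeometricallyIntegral.geometrically_isIntegral (f := A.hom) _ _ _ h
    infer_instance⟩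
  have hA := Groth.Agent.H23.CubeField.bijective_appTop_of_connected A
  have hcomm : ∀ {T : Over (Spec (CommRingCat.of k))} (a : T ⟶ A) (b : T ⟶ G), (a ≫ j) * b = b * (a ≫ j) :=
    fun a b => Groth.Agent.GrpSchLib.AntiAffine.commute hA j (IsMonHom.one_hom j) a b
  let m := (j ⊗ₘ i) ≫ μ[G]
  have hm : m = (fst A N ≫ j) * (snd A N ≫ i) := by
    rw [Hom.mul_def, CartesianMonoidalCategory.lift_fst_comp_snd_comp]
  have hmon : IsMonHom m := by
    have hap : ∀ {T : Over (Spec (CommRingCat.of k))} (x : T ⟶ A ⊗ N), x ≫ m = ((x ≫ fst A N) ≫ j) * ((x ≫ snd A N) ≫ i) :=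
      fun x => by rw [hm, MonObj.comp_mul, Category.assoc, Category.assoc]
    refine ⟨?_, ?_⟩
    · rw [hap, show η[A ⊗ N] ≫ fst A N = η[A] from IsMonHom.one_hom (fst A N),
        show η[A ⊗ N] ≫ snd A N = η[N] from IsMonHom.one_hom (snd A N), IsMonHom.one_hom, IsMonHom.one_hom,
        MonObj.one_eq_one, _root_.mul_one]
    · have h1 : (m ⊗ₘ m) ≫ μ[G] = (fst (A ⊗ N) (A ⊗ N) ≫ m) * (snd (A ⊗ N) (A ⊗ N) ≫ m) := by
        rw [Hom.mul_def, CartesianMonoidalCategory.lift_fst_comp_snd_comp]
      have h2 : μ[A ⊗ N] = fst (A ⊗ N) (A ⊗ N) * snd (A ⊗ N) (A ⊗ N) := by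
        rw [Hom.mul_def, lift_fst_snd, Category.id_comp]
      rw [h1, h2, hap, MonObj.mul_comp, MonObj.mul_comp, MonObj.mul_comp, MonObj.mul_comp, hap, hap]
      simp only [_root_.mul_assoc]
      congr 1
      rw [← _root_.mul_assoc, ← _root_.mul_assoc]
      congr 1
      exact hcomm _ _
  refine ⟨hmon, ⟨hsurj, fun K e hK => ?_⟩, ⟨?_, fun K e hK => ?_⟩⟩
  · haveI : IsClosedImmersion η[G].left := by
      haveI : IsClosedImmersion (η[G].left ≫ G.hom) := by
        rw [Over.w η[G]]
        exact inferInstanceAs (IsClosedImmersion (𝟙 _))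
      exact IsClosedImmersion.of_comp η[G].left G.hom
    haveI : IsClosedImmersion e.left :=
      MorphismProperty.of_isPullback (P := @IsClosedImmersion) (hK.map (Over.forget _)).flip ‹IsClosedImmersion η[G].left›
    have hrel : (e ≫ fst A N ≫ j) = (e ≫ snd A N ≫ i)⁻¹ := by
      have h1 : e ≫ m = 1 := hK.w
      rw [hm, MonObj.comp_mul, mul_eq_one_iff_eq_inv] at h1
      exact h1
    let g : G ⟶ G ⊗ G := lift ι[G] (𝟙 G)
    have h2 : e ≫ (j ⊗ₘ i) = (e ≫ snd A N ≫ i) ≫ g := by
      apply CartesianMonoidalCategory.hom_ext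
      · simp only [g, Category.assoc, tensorHom_fst, lift_fst, hrel]
        rfl
      · simp [g]
    haveI : IsClosedImmersion (j ⊗ₘ i).left :=
      MorphismProperty.pullback_map (P := @IsClosedImmersion) (i₁ := j.left) (i₂ := i.left) ‹IsClosedImmersion j.left› ‹IsClosedImmersion i.left› (Over.w j).symm (Over.w i).symm
    haveI : IsSeparated (G ⊗ G).hom := inferInstanceAs (IsSeparated (pullback.fst G.hom G.hom ≫ G.hom))
    haveI : IsSeparated g.left := IsSeparated.of_comp g.left (G ⊗ G).hom
    haveI : IsClosedImmersion ((e ≫ snd A N ≫ i).left ≫ g.left) := by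
      rw [← Over.comp_left, ← h2, Over.comp_left]
      infer_instance
    haveI : IsClosedImmersion (e ≫ snd A N ≫ i).left := IsClosedImmersion.of_comp _ g.left
    haveI : IsClosedImmersion ((e ≫ snd A N).left ≫ i.left) := by
      rw [← Over.comp_left, Category.assoc]
      infer_instance
    haveI : IsClosedImmersion (e ≫ snd A N).left := IsClosedImmersion.of_comp _ i.left
    haveI : IsClosedImmersion ((e ≫ fst A N).left ≫ j.left) := by
      rw [← Over.comp_left, Category.assoc, hrel]
      haveI : IsIso ι[G].left := inferInstanceAs (IsIso ((Over.forget _).map ι[G]))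
      rw [show (e ≫ snd A N ≫ i)⁻¹ = (e ≫ snd A N ≫ i) ≫ ι[G] from rfl, Over.comp_left]
      infer_instance
    haveI : IsClosedImmersion (e ≫ fst A N).left := IsClosedImmersion.of_comp _ j.left
    refine IsFinite.iff_isProper_and_isAffineHom.2 ⟨?_, ?_⟩
    · rw [← Over.w (e ≫ fst A N)]
      infer_instance
    · haveI : IsAffineHom N.hom := inferInstance
      rw [← Over.w (e ≫ snd A N)]
      infer_instance
  · have h1 : (snd A N ≫ i) ≫ π = 1 := by
      rw [Category.assoc, hker.w, ← Category.assoc, toUnit_unique (snd A N ≫ toUnit N) (toUnit _)]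
      rfl
    have h2 : ((j ⊗ₘ i) ≫ μ[G]).left ≫ π.left = (fst A N).left ≫ (j ≫ π).left := by
      rw [← Over.comp_left, ← Over.comp_left]
      show (m ≫ π).left = _
      rw [hm, MonObj.mul_comp, h1, _root_.mul_one, Category.assoc]
    haveI := hsurj
    haveI : Surjective ((fst A N).left ≫ (j ≫ π).left) := h2 ▸ inferInstance
    exact Surjective.of_comp (fst A N).left _
  · haveI : IsClosedImmersion η[Q].left := by
      haveI : IsClosedImmersion (η[Q].left ≫ Q.hom) := by
        rw [Over.w η[Q]]
        exact inferInstanceAs (IsClosedImmersion (𝟙 _))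
      exact IsClosedImmersion.of_comp η[Q].left Q.hom
    haveI : IsClosedImmersion e.left :=
      MorphismProperty.of_isPullback (P := @IsClosedImmersion) (hK.map (Over.forget _)).flip ‹IsClosedImmersion η[Q].left›
    let n := hker.lift (e ≫ j) (toUnit K) ((Category.assoc _ _ _).trans hK.w)
    have hn : n ≫ i = e ≫ j := hker.lift_fst _ _ _
    haveI : IsClosedImmersion (n.left ≫ i.left) := by
      rw [← Over.comp_left, hn, Over.comp_left]
      infer_instance
    haveI : IsClosedImmersion n.left := IsClosedImmersion.of_comp _ i.left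
    refine IsFinite.iff_isProper_and_isAffineHom.2 ⟨?_, ?_⟩
    · rw [← Over.w e]
      infer_instance
    · haveI : IsAffineHom N.hom := inferInstance
      rw [← Over.w n]
      infer_instance

end Groth.Agent.S14751
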