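import Groth.Statements.S14754
import Groth.Agent.TorusBilin.Split
import Groth.Agent.GrpSchLib.AntiAffineBC
import Mathlib.RingTheory.Coalgebra.GroupLike
import Mathlib.RingTheory.Bialgebra.GroupLike

set_option autoImplicit false
universe u
open CategoryTheory CategoryTheory.Limits MonoidalCategory CartesianMonoidalCategory MonObj GrpObj AlgebraicGeometry
open AlgGrp
open WithConv

namespace Groth.Agent.S14754

open GrpSchLib.AffineHopf TorusBilin in
/-- Every bialgebra map of group algebras comes from a map of groups. -/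
theorem exists_addHom {k : Type u} [Field k] {a b : ℕ} (f : Coord k a →ₐc[k] Coord k b) :
    ∃ φ : (Fin a → ℤ) →+ (Fin b → ℤ), (f : Coord k a →ₐ[k] Coord k b) =
      MonoidAlgebra.mapDomainAlgHom k k φ.toMultiplicative := by
  classical
  have hs : ∀ m : Multiplicative (Fin a → ℤ), ∃ n, f (MonoidAlgebra.single m 1) = MonoidAlgebra.single n 1 := by
    intro m
    have hg : IsGroupLikeElem k (f (MonoidAlgebra.single m 1)) :=
      (show IsGroupLikeElem k (MonoidAlgebra.single m (1 : k)) from ⟨by simp, by simp⟩).map f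
    by_contra hne
    push Not at hne
    let G := {z : Coord k b | IsGroupLikeElem k z}
    have hli : LinearIndepOn k id G := linearIndepOn_isGroupLikeElem
    let S' : Set (Coord k b) := Set.range fun n => MonoidAlgebra.single n (1 : k)
    have hS' : S' ⊆ G := by rintro _ ⟨n, rfl⟩; exact ⟨by simp, by simp⟩
    have hnot : f (MonoidAlgebra.single m 1) ∉ S' := fun ⟨n, e⟩ => hne n e.symm
    have hins := hli.mono (Set.insert_subset hg hS' : insert (f (MonoidAlgebra.single m 1)) S' ⊆ G)
    have hout := ((linearIndepOn_insert hnot).mp hins).2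
    rw [Set.image_id] at hout
    refine hout ?_
    have : ∀ z : Coord k b, z ∈ Submodule.span k S' := fun z => by
      induction z using MonoidAlgebra.induction_on with
      | of g => exact Submodule.subset_span ⟨g, rfl⟩
      | add x y hx hy => exact add_mem hx hy
      | smul r x hx => exact Submodule.smul_mem _ r hx
    exact this _
  choose n hn using hs
  have hinj : Function.Injective fun g : Multiplicative (Fin b → ℤ) => (MonoidAlgebra.single g 1 : Coord k b) :=
    MonoidAlgebra.of_injective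
  let φ : Multiplicative (Fin a → ℤ) →* Multiplicative (Fin b → ℤ) :=
    MonoidHom.mk' n fun x y => hinj (by
      show MonoidAlgebra.single (n (x * y)) (1 : k) = MonoidAlgebra.single (n x * n y) 1
      have h := map_mul f (MonoidAlgebra.single x (1 : k)) (MonoidAlgebra.single y 1)
      rw [MonoidAlgebra.single_mul_single, _root_.mul_one, hn, hn, hn, MonoidAlgebra.single_mul_single,
        _root_.mul_one] at h
      exact h)
  exact ⟨AddMonoidHom.toMultiplicative.symm φ, MonoidAlgebra.algHom_ext (fun m => by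
    show f (MonoidAlgebra.single m 1) = _
    rw [hn, MonoidAlgebra.mapDomainAlgHom_apply, MonoidAlgebra.mapDomain_single]
    rfl) (by ext)⟩

open GrpSchLib.AffineHopf TorusBilin in
theorem coord_single_eq_one {k : Type u} [Field k] {a : ℕ} {R : Type u} [CommRing R] [Algebra k R]
    (f : Coord k a →ₐ[k] R) (h : spMap f = 1) (m : Multiplicative (Fin a → ℤ)) :
    f (MonoidAlgebra.single m 1) = 1 := by
  have h' : toConv f = 1 := Spec.mapMulEquiv.injective ((spMap_eq_mapMulEquiv f).symm.trans (h.trans (map_one _).symm))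
  rw [show f = (toConv f).ofConv from rfl, h', AlgHom.convOne_apply]
  simp

/-- Over an algebraically closed field k, every exact sequence of split tori splits: if K, G, Q are
split tori over k, i : K → G a closed subgroup scheme which is the kernel of a flat surjective
homomorphism π : G → Q, then π has a section which is a homomorphism. -/
theorem result (k : Type u) [Field k] [IsAlgClosed k]
    (K G Q : Over (Spec (CommRingCat.of k))) [GrpObj K] [GrpObj G] [GrpObj Q] (nK nG nQ : ℕ)
    (hK : Red.IsSplitTorusWith (Fin nK → ℤ) K) (hG : Red.IsSplitTorusWith (Fin nG → ℤ) G)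
    (hQ : Red.IsSplitTorusWith (Fin nQ → ℤ) Q)
    (i : K ⟶ G) [IsMonHom i] [IsClosedImmersion i.left]
    (π : G ⟶ Q) [IsMonHom π] [Flat π.left] [Surjective π.left] (hker : AlgGrp.IsKernel i π) :
    ∃ s : Q ⟶ G, IsMonHom s ∧ s ≫ π = 𝟙 Q := by
  classical
  obtain ⟨dK⟩ := GrpSchLib.AffineHopf.nonempty_DS_iso k (Fin nK → ℤ)
  obtain ⟨dG⟩ := GrpSchLib.AffineHopf.nonempty_DS_iso k (Fin nG → ℤ)
  obtain ⟨dQ⟩ := GrpSchLib.AffineHopf.nonempty_DS_iso k (Fin nQ → ℤ)
  let eK := hK.some ≪≫ dK.symm
  let eG := hG.some ≪≫ dG.symm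
  let eQ := hQ.some ≪≫ dQ.symm
  haveI := eK.inv.hom.isMonHom_hom
  haveI := eK.hom.hom.isMonHom_hom
  haveI := eG.inv.hom.isMonHom_hom
  haveI := eG.hom.hom.isMonHom_hom
  haveI := eQ.inv.hom.isMonHom_hom
  haveI := eQ.hom.hom.isMonHom_hom
  have cK : eK.hom.hom.hom ≫ eK.inv.hom.hom = 𝟙 _ := congrArg (fun w => w.hom.hom) eK.hom_inv_id
  have cG : eG.hom.hom.hom ≫ eG.inv.hom.hom = 𝟙 _ := congrArg (fun w => w.hom.hom) eG.hom_inv_id
  have cQ : eQ.hom.hom.hom ≫ eQ.inv.hom.hom = 𝟙 _ := congrArg (fun w => w.hom.hom) eQ.hom_inv_id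
  have cQ' : eQ.inv.hom.hom ≫ eQ.hom.hom.hom = 𝟙 _ := congrArg (fun w => w.hom.hom) eQ.inv_hom_id
  have cG' : eG.inv.hom.hom ≫ eG.hom.hom.hom = 𝟙 _ := congrArg (fun w => w.hom.hom) eG.inv_hom_id
  let π' := eG.inv.hom.hom ≫ π ≫ eQ.hom.hom.hom
  let i' := eK.inv.hom.hom ≫ i ≫ eG.hom.hom.hom
  obtain ⟨f, hf⟩ := GrpSchLib.AffineHopf.exists_bialgHom π'
  obtain ⟨g, hg⟩ := GrpSchLib.AffineHopf.exists_bialgHom i'
  obtain ⟨φ, hφ⟩ := exists_addHom f
  obtain ⟨κ, hκ⟩ := exists_addHom g
  -- injectivity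
  haveI : IsIso eG.inv.hom.hom.left :=
    ⟨eG.hom.hom.hom.left, congrArg (fun w => w.left) cG', congrArg (fun w => w.left) cG⟩
  haveI : IsIso eQ.hom.hom.hom.left :=
    ⟨eQ.inv.hom.hom.left, congrArg (fun w => w.left) cQ, congrArg (fun w => w.left) cQ'⟩
  haveI : Surjective π'.left := inferInstanceAs (Surjective (eG.inv.hom.hom.left ≫ π.left ≫ eQ.hom.hom.hom.left))
  haveI : Flat π'.left := inferInstanceAs (Flat (eG.inv.hom.hom.left ≫ π.left ≫ eQ.hom.hom.hom.left))
  haveI : Epi π'.left := by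
    haveI : QuasiCompact π'.left := by
      rw [hf]
      exact inferInstanceAs (QuasiCompact (Spec.map (CommRingCat.ofHom
        (f : TorusBilin.Coord k nQ →ₐ[k] TorusBilin.Coord k nG).toRingHom)))
    infer_instance
  have hinjf : Function.Injective f := by
    have h1 := GrpSchLib.AntiAffine.appTop_injective_of_epi π'.left
    intro x y hxy
    have h2 : π'.left = Spec.map (CommRingCat.ofHom (f : TorusBilin.Coord k nQ →ₐ[k] TorusBilin.Coord k nG).toRingHom) :=
      congrArg (fun w => w.left) hf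
    have h3 : Function.Injective (Spec.map (CommRingCat.ofHom
        (f : TorusBilin.Coord k nQ →ₐ[k] TorusBilin.Coord k nG).toRingHom)).appTop := by rw [← h2]; exact h1
    have h4 := congrArg (fun ψ => ConcreteCategory.hom ψ) (Scheme.ΓSpecIso_inv_naturality
      (CommRingCat.ofHom (f : TorusBilin.Coord k nQ →ₐ[k] TorusBilin.Coord k nG).toRingHom))
    apply (ConcreteCategory.bijective_of_isIso (Scheme.ΓSpecIso (CommRingCat.of (TorusBilin.Coord k nQ))).inv).1
    apply h3
    have hx := DFunLike.congr_fun h4 x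
    have hy := DFunLike.congr_fun h4 y
    change (Scheme.ΓSpecIso (CommRingCat.of (TorusBilin.Coord k nG))).inv (f x) = _ at hx
    change (Scheme.ΓSpecIso (CommRingCat.of (TorusBilin.Coord k nG))).inv (f y) = _ at hy
    exact hx.symm.trans ((congrArg _ hxy).trans hy)
  have hfs : ∀ m : Fin nQ → ℤ, f (MonoidAlgebra.single (Multiplicative.ofAdd m) 1) =
      MonoidAlgebra.single (Multiplicative.ofAdd (φ m)) 1 := fun m => by
    show (f : TorusBilin.Coord k nQ →ₐ[k] TorusBilin.Coord k nG) _ = _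
    rw [hφ, MonoidAlgebra.mapDomainAlgHom_apply, MonoidAlgebra.mapDomain_single]
    rfl
  have hgs : ∀ m : Fin nG → ℤ, g (MonoidAlgebra.single (Multiplicative.ofAdd m) 1) =
      MonoidAlgebra.single (Multiplicative.ofAdd (κ m)) 1 := fun m => by
    show (g : TorusBilin.Coord k nG →ₐ[k] TorusBilin.Coord k nK) _ = _
    rw [hκ, MonoidAlgebra.mapDomainAlgHom_apply, MonoidAlgebra.mapDomain_single]
    rfl
  have hφinj : Function.Injective φ := fun a b hab => by
    have := hinjf ((hfs a).trans ((congrArg (fun c => MonoidAlgebra.single (Multiplicative.ofAdd c) (1 : k)) hab).trans (hfs b).symm))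
    exact Multiplicative.ofAdd.injective (MonoidAlgebra.of_injective this)
  have hiπ : i' ≫ π' = 1 := by
    have h0 : i ≫ π = 1 := hker.w
    simp only [i', π', Category.assoc, reassoc_of% cG]
    rw [← Category.assoc i π, h0, MonObj.one_comp, MonObj.comp_one]
  have hκφ : ∀ q, κ (φ q) = 0 := fun q => by
    have h1 := coord_single_eq_one ((g : TorusBilin.Coord k nG →ₐ[k] TorusBilin.Coord k nK).comp
      (f : TorusBilin.Coord k nQ →ₐ[k] TorusBilin.Coord k nG))
      (by rw [← GrpSchLib.AffineHopf.spMap_comp, ← hf, ← hg, hiπ]) (Multiplicative.ofAdd q)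
    change g (f _) = 1 at h1
    rw [hfs, hgs, MonoidAlgebra.one_def] at h1
    exact Multiplicative.ofAdd.injective (MonoidAlgebra.of_injective h1)
  -- the cokernel is torsion free
  let N : AddSubgroup (Fin nG → ℤ) := φ.range
  have htf : ∀ (n : ℤ) (m : Fin nG → ℤ), n ≠ 0 → n • m ∈ N → m ∈ N := by
    rintro n m hn ⟨q, hq⟩
    let C := (Fin nG → ℤ) ⧸ N
    let R := MonoidAlgebra k (Multiplicative C)
    let pr : TorusBilin.Coord k nG →ₐ[k] R :=
      MonoidAlgebra.mapDomainAlgHom k k (QuotientAddGroup.mk' N).toMultiplicative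
    have hpr : ∀ v : Fin nG → ℤ, pr (MonoidAlgebra.single (Multiplicative.ofAdd v) 1) =
        MonoidAlgebra.single (Multiplicative.ofAdd (v : C)) 1 := fun v => by
      rw [MonoidAlgebra.mapDomainAlgHom_apply, MonoidAlgebra.mapDomain_single]
      rfl
    let x : GrpSchLib.AffineHopf.sp k R ⟶ G := GrpSchLib.AffineHopf.spMap pr ≫ eG.inv.hom.hom
    have hx : x ≫ π ≫ eQ.hom.hom.hom = 1 := by
      show GrpSchLib.AffineHopf.spMap pr ≫ eG.inv.hom.hom ≫ π ≫ eQ.hom.hom.hom = 1
      rw [show eG.inv.hom.hom ≫ π ≫ eQ.hom.hom.hom = π' from rfl, hf, GrpSchLib.AffineHopf.spMap_comp]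
      rw [GrpSchLib.AffineHopf.spMap_eq_mapMulEquiv, ← map_one (Spec.mapMulEquiv (R := k) (S := TorusBilin.Coord k nQ) (T := R))]
      congr 1
      apply WithConv.ofConv_injective
      refine MonoidAlgebra.algHom_ext (fun v => ?_) (by ext)
      show pr (f (MonoidAlgebra.single (Multiplicative.ofAdd (Multiplicative.toAdd v)) 1)) = _
      rw [hfs, hpr]
      rw [(QuotientAddGroup.eq_zero_iff (φ (Multiplicative.toAdd v))).mpr (AddMonoidHom.mem_range.mpr ⟨_, rfl⟩), AlgHom.convOne_apply]
      simp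
      exact MonoidAlgebra.one_def.symm
    have hx' : x ≫ π = 1 := by
      rw [← cancel_mono eQ.hom.hom.hom, Category.assoc, hx, MonObj.one_comp]
    let l := hker.lift x (toUnit _) hx'
    have hl : l ≫ i = x := hker.lift_fst _ _ _
    obtain ⟨gl, hgl⟩ := GrpSchLib.AffineHopf.exists_eq_spMap (l ≫ eK.hom.hom.hom)
    have hcomp : gl.comp (g : TorusBilin.Coord k nG →ₐ[k] TorusBilin.Coord k nK) = pr := by
      apply GrpSchLib.AffineHopf.spMap_injective
      rw [← GrpSchLib.AffineHopf.spMap_comp, ← hgl, ← hg]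
      simp only [i', Category.assoc, reassoc_of% cK, reassoc_of% hl, x]
      rw [cG', Category.comp_id]
    have hκm : κ m = 0 := by
      have : n • κ m = 0 := by rw [← map_zsmul, ← hq]; exact hκφ q
      exact (smul_eq_zero.mp this).resolve_left hn
    have h1 := DFunLike.congr_fun hcomp (MonoidAlgebra.single (Multiplicative.ofAdd m) 1)
    change gl (g _) = pr _ at h1
    rw [hgs, hκm, hpr] at h1
    have h2 : (MonoidAlgebra.single (Multiplicative.ofAdd (0 : C)) 1 : R) =
        MonoidAlgebra.single (Multiplicative.ofAdd (m : C)) 1 := by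
      rw [← h1, ofAdd_zero, ofAdd_zero, ← MonoidAlgebra.one_def, ← MonoidAlgebra.one_def, map_one]
    exact (QuotientAddGroup.eq_zero_iff m).mp (Multiplicative.ofAdd.injective (MonoidAlgebra.of_injective h2)).symm
  let L := φ.toIntLinearMap
  haveI : Module.IsTorsionFree ℤ ((Fin nG → ℤ) ⧸ LinearMap.range L) := by
    refine ⟨fun n hn x y hxy => ?_⟩
    obtain ⟨u, rfl⟩ := Submodule.mkQ_surjective _ x
    obtain ⟨v, rfl⟩ := Submodule.mkQ_surjective _ y
    change n • (LinearMap.range L).mkQ u = n • (LinearMap.range L).mkQ v at hxy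
    rw [← map_zsmul, ← map_zsmul, Submodule.mkQ_apply, Submodule.mkQ_apply, Submodule.Quotient.eq,
      ← smul_sub] at hxy
    rw [Submodule.mkQ_apply, Submodule.mkQ_apply, Submodule.Quotient.eq]
    obtain ⟨q, hq⟩ := LinearMap.mem_range.mp hxy
    obtain ⟨q', hq'⟩ := htf n (u - v) hn.ne_zero (AddMonoidHom.mem_range.mpr ⟨q, hq⟩)
    exact LinearMap.mem_range.mpr ⟨q', hq'⟩
  haveI : Module.Free ℤ ((Fin nG → ℤ) ⧸ LinearMap.range L) := Module.free_of_finite_type_torsion_free'
  obtain ⟨ψ, hψ⟩ : ∃ ψ : (Fin nG → ℤ) →+ (Fin nQ → ℤ), ∀ q, ψ (φ q) = q := by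
    obtain ⟨sec, hsec⟩ := Module.projective_lifting_property (LinearMap.range L).mkQ LinearMap.id
      (Submodule.mkQ_surjective _)
    let e := LinearEquiv.ofInjective L hφinj
    have hin : ∀ v, v - sec ((LinearMap.range L).mkQ v) ∈ LinearMap.range L := fun v => by
      rw [← Submodule.Quotient.mk_eq_zero, ← Submodule.mkQ_apply, map_sub]
      exact sub_eq_zero.mpr (LinearMap.congr_fun hsec _).symm
    let r : (Fin nG → ℤ) →ₗ[ℤ] LinearMap.range L :=
      (LinearMap.id - sec.comp (LinearMap.range L).mkQ).codRestrict _ hin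
    refine ⟨((e.symm : LinearMap.range L →ₗ[ℤ] (Fin nQ → ℤ)).comp r).toAddMonoidHom, fun q => ?_⟩
    show e.symm (r (φ q)) = q
    rw [LinearEquiv.symm_apply_eq]
    refine Subtype.ext ?_
    show φ q - sec ((LinearMap.range L).mkQ (φ q)) = φ q
    have h0 : (Submodule.Quotient.mk (φ q) : (Fin nG → ℤ) ⧸ LinearMap.range L) = 0 :=
      (Submodule.Quotient.mk_eq_zero _).mpr (LinearMap.mem_range.mpr ⟨q, rfl⟩)
    rw [Submodule.mkQ_apply, h0, map_zero, sub_zero]
  let sb : TorusBilin.Coord k nG →ₐc[k] TorusBilin.Coord k nQ :=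
    MonoidAlgebra.mapDomainBialgHom k ψ.toMultiplicative
  let s' := GrpSchLib.AffineHopf.spMap (sb : TorusBilin.Coord k nG →ₐ[k] TorusBilin.Coord k nQ)
  refine ⟨eQ.hom.hom.hom ≫ s' ≫ eG.inv.hom.hom, inferInstance, ?_⟩
  have hs : s' ≫ π' = 𝟙 _ := by
    rw [hf, GrpSchLib.AffineHopf.spMap_comp, ← GrpSchLib.AffineHopf.spMap_id]
    congr 1
    refine MonoidAlgebra.algHom_ext (fun v => ?_) (by ext)
    show sb (f (MonoidAlgebra.single (Multiplicative.ofAdd (Multiplicative.toAdd v)) 1)) = _
    rw [hfs]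
    show MonoidAlgebra.mapDomain ψ.toMultiplicative (MonoidAlgebra.single _ (1 : k)) = _
    rw [MonoidAlgebra.mapDomain_single]
    show MonoidAlgebra.single (Multiplicative.ofAdd (ψ (φ (Multiplicative.toAdd v)))) (1 : k) = _
    rw [hψ]
    rfl
  rw [← cancel_mono eQ.hom.hom.hom, Category.id_comp]
  simp only [Category.assoc]
  exact (congrArg (eQ.hom.hom.hom ≫ ·) hs).trans (Category.comp_id _)

end Groth.Agent.S14754
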