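import Groth.Statements.S14756
import Groth.Agent.Chevalley.BC.NonConn
import Groth.Agent.GrpSchLib.HomClosedRange
-- import your own Groth.Agent.* helpers here

set_option autoImplicit false
set_option backward.isDefEq.respectTransparency false
set_option maxHeartbeats 1000000
set_option linter.style.haveILetI false
universe u
open CategoryTheory CategoryTheory.Limits MonoidalCategory CartesianMonoidalCategory MonObj GrpObj AlgebraicGeometry
open AlgGrp

namespace Groth.Agent.S14756

/-- Over an algebraically closed field k let e → K → G → Q → e be an exact sequence of k-group schemes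
of finite type with G smooth (i : K → G a closed subgroup scheme, kernel of the flat surjective
homomorphism π : G → Q), and let G_lin ⊆ G and Q_lin ⊆ Q be the largest smooth connected affine
normal closed subgroup schemes (every other such subgroup factors through them). Then π maps G_lin
into Q_lin and the induced homomorphism G_lin → Q_lin is surjective. (The published proposition is
stated for all algebraic groups G; for the semidirect product of α_p by the multiplicative group
acting by scaling, with K = α_p, the largest smooth connected affine normal subgroup of G is trivial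
while that of Q = G_m is everything, so G is taken smooth here, the case in which the published
proof's use of the Chevalley quotient G/G_lin being proper is valid. The published proposition also
treats unipotent and solvable parts of linear groups and the finite index of K_lin in G_lin ∩ K;
only this assertion is stated.) -/
theorem result (k : Type u) [Field k] [IsAlgClosed k]
    (K G Q : Over (Spec (CommRingCat.of k))) [GrpObj K] [GrpObj G] [GrpObj Q]
    [QuasiCompact K.hom] [LocallyOfFiniteType K.hom] [Smooth G.hom] [QuasiCompact G.hom] [QuasiCompact Q.hom] [LocallyOfFiniteType Q.hom]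
    (i : K ⟶ G) [IsMonHom i] [IsClosedImmersion i.left]
    (π : G ⟶ Q) [IsMonHom π] [Flat π.left] [Surjective π.left] (hker : AlgGrp.IsKernel i π)
    (NG : Over (Spec (CommRingCat.of k))) [GrpObj NG] (iG : NG ⟶ G) [IsMonHom iG] [IsClosedImmersion iG.left]
    [Smooth NG.hom] [ConnectedSpace ↥NG.left] [IsAffine NG.left] (hNG : AlgGrp.IsNormalHom iG)
    (hNGmax : ∀ (N' : Over (Spec (CommRingCat.of k))) [GrpObj N'] (i' : N' ⟶ G) [IsMonHom i'] [IsClosedImmersion i'.left]
      [Smooth N'.hom] [ConnectedSpace ↥N'.left] [IsAffine N'.left], AlgGrp.IsNormalHom i' → ∃ f : N' ⟶ NG, f ≫ iG = i')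
    (NQ : Over (Spec (CommRingCat.of k))) [GrpObj NQ] (iQ : NQ ⟶ Q) [IsMonHom iQ] [IsClosedImmersion iQ.left]
    [Smooth NQ.hom] [ConnectedSpace ↥NQ.left] [IsAffine NQ.left] (hNQ : AlgGrp.IsNormalHom iQ)
    (hNQmax : ∀ (N' : Over (Spec (CommRingCat.of k))) [GrpObj N'] (i' : N' ⟶ Q) [IsMonHom i'] [IsClosedImmersion i'.left]
      [Smooth N'.hom] [ConnectedSpace ↥N'.left] [IsAffine N'.left], AlgGrp.IsNormalHom i' → ∃ f : N' ⟶ NQ, f ≫ iQ = i') :
    ∃ f : NG ⟶ NQ, f ≫ iQ = iG ≫ π ∧ Surjective f.left := by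
  haveI := GrpSchLib.AntiAffine.isSeparated_grp G
  haveI := GrpSchLib.AntiAffine.isSeparated_grp Q
  haveI : Smooth Q.hom := GrpSchLib.smooth_of_quotient π
  obtain ⟨L, _, l, hl, hL⟩ := Chevalley.BC.exists_affPart G
  obtain ⟨L', _, l', hl', hL'⟩ := Chevalley.BC.exists_affPart Q
  have hG : ∀ (H : Over (Spec (CommRingCat.of k))) [GrpObj H] [Smooth H.hom] [ConnectedSpace H.left] [IsAffine H.left]
      (h : H ⟶ G) [IsMonHom h], ∃ f : H ⟶ NG, f ≫ iG = h := by
    intro H _ _ _ _ h _
    haveI := hl.hom; haveI := hl.closed; haveI := hl.smooth; haveI := hl.conn; haveI : IsAffine L.left := hl.prop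
    obtain ⟨a, ha⟩ := hNGmax L l hl.normal
    obtain ⟨b, hb⟩ := hL H h
    exact ⟨b ≫ a, by rw [Category.assoc, ha, hb]⟩
  have hQ : ∀ (H : Over (Spec (CommRingCat.of k))) [GrpObj H] [Smooth H.hom] [ConnectedSpace H.left] [IsAffine H.left]
      (h : H ⟶ Q) [IsMonHom h], ∃ f : H ⟶ NQ, f ≫ iQ = h := by
    intro H _ _ _ _ h _
    haveI := hl'.hom; haveI := hl'.closed; haveI := hl'.smooth; haveI := hl'.conn; haveI : IsAffine L'.left := hl'.prop
    obtain ⟨a, ha⟩ := hNQmax L' l' hl'.normal
    obtain ⟨b, hb⟩ := hL' H h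
    exact ⟨b ≫ a, by rw [Category.assoc, ha, hb]⟩
  obtain ⟨f, hf⟩ := hQ NG (iG ≫ π)
  refine ⟨f, hf, ?_⟩
  haveI : QuasiCompact NG.hom := inferInstance
  obtain ⟨B, _, p, b, _, hb, hpb, hbc, hpf, hps, hBl, hBq⟩ := GrpSchLib.ImageFactor.exists_image (iG ≫ π)
  haveI := hb; haveI := hbc; haveI := hpf; haveI := hps; haveI := hBl; haveI := hBq
  haveI : Mono b := Over.mono_of_mono_left _
  have hBn : AlgGrp.IsNormalHom b := LargeNormal.isNormalHom_image (GrpSchLib.NilpQuot.cover_of_lft π) hNG
    (GrpSchLib.NilpQuot.cover_of_lft p) hpb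
  obtain ⟨R, _, r, hr, hrf, hrs, hrl, hRl, -, hrk⟩ := GrpQuotLib.exists_quotientGrp b hBn
  haveI := hr; haveI := hrf; haveI := hrs; haveI := hrl; haveI := hRl
  obtain ⟨-, hRq, -⟩ := GrpQuotLib.props_of_cover ⟨hrf, hrs, hrl⟩
  haveI : QuasiCompact R.hom := hRq inferInstance
  haveI := GrpSchLib.AntiAffine.isSeparated_grp R
  obtain ⟨C, _, c, hc, hcc, hCs, hCq, hCc, hcr⟩ := Chevalley.BC.exists_comp G
  haveI := hc; haveI := hcc; haveI := hCs; haveI := hCq; haveI := hCc
  obtain ⟨L₀, _, l₀, A₀, _, q₀, hl₀, hq₀, hq₀s, hq₀f, hk₀, hA₀, -, -⟩ := Chevalley.BC.exists_chevalley C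
  haveI := hl₀.hom; haveI := hl₀.closed; haveI := hl₀.smooth; haveI := hl₀.conn; haveI : IsAffine L₀.left := hl₀.prop
  haveI := hq₀; haveI := hq₀s; haveI := hq₀f; haveI := hA₀
  haveI : QuasiCompact L₀.hom := inferInstance
  obtain ⟨a₀, ha₀⟩ := hG L₀ (l₀ ≫ c)
  obtain ⟨u, hu, hqu, -⟩ := S3280.result k C L₀ A₀ R q₀ l₀ hk₀ (c ≫ π ≫ r) (by
    rw [← Category.assoc l₀ c, ← ha₀, Category.assoc, ← Category.assoc iG π r, ← hpb, Category.assoc, hrk.w,
      ← Category.assoc p, comp_toUnit, ← Category.assoc, comp_toUnit])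
  haveI := hu
  obtain ⟨J, _, p₁, jJ, _, hjm, hpj, hjc, _, hp₁s, hJl, hJq⟩ := GrpSchLib.ImageFactor.exists_image u
  haveI := hjm; haveI := hjc; haveI := hp₁s; haveI := hJl; haveI := hJq
  haveI := GrpSchLib.AntiAffine.isSeparated_grp J
  haveI := Chevalley.BC.isProper_of_surjective p₁
  haveI : LocallyOfFinitePresentation π.left := by
    haveI : IsLocallyNoetherian Q.left := LocallyOfFiniteType.isLocallyNoetherian Q.hom
    haveI : LocallyOfFiniteType (π.left ≫ Q.hom) := by rw [Over.w π]; infer_instance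
    haveI : LocallyOfFiniteType π.left := locallyOfFiniteType_of_comp π.left Q.hom
    infer_instance
  have hsub : Set.range (iQ ≫ r).left ⊆ Set.range jJ.left := by
    haveI : QuasiCompact (C.hom) := hCq
    haveI : QuasiCompact ((c ≫ π).left ≫ Q.hom) := by rw [Over.w (c ≫ π)]; infer_instance
    haveI : QuasiCompact (c ≫ π).left := QuasiCompact.of_comp (c ≫ π).left Q.hom
    have hclo : IsClopen (Set.range (c ≫ π).left) := by
      refine ⟨GrpSchLib.HomClosedRange.isClosed_range (c ≫ π), ?_⟩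
      rw [Over.comp_left, Scheme.Hom.comp_base, TopCat.coe_comp, Set.range_comp, hcr]
      exact π.left.isOpenMap _ (GrpQuotLib.grp_component _).2.2
    have hcomp : connectedComponent (Chevalley.Val.pp η[Q]) ⊆ Set.range (c ≫ π).left := by
      refine hclo.connectedComponent_subset ⟨Chevalley.Val.pp η[C], ?_⟩
      rw [← IsMonHom.one_hom (c ≫ π)]; rfl
    have hNQ : Set.range iQ.left ⊆ connectedComponent (Chevalley.Val.pp η[Q]) :=
      (isPreconnected_range iQ.left.continuous).subset_connectedComponent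
        ⟨Chevalley.Val.pp η[NQ], by rw [← IsMonHom.one_hom iQ]; rfl⟩
    rintro _ ⟨x, rfl⟩
    obtain ⟨y, hy⟩ := hcomp (hNQ ⟨x, rfl⟩)
    refine ⟨p₁.left (q₀.left y), ?_⟩
    have e : q₀.left ≫ p₁.left ≫ jJ.left = (c ≫ π).left ≫ r.left := by
      have h1 : p₁.left ≫ jJ.left = u.left := congrArg CommaMorphism.left hpj
      have h2 : q₀.left ≫ u.left = (c ≫ π ≫ r).left := congrArg CommaMorphism.left hqu
      rw [h1, h2]; rfl
    rw [← Scheme.Hom.comp_apply, ← Scheme.Hom.comp_apply, e, Scheme.Hom.comp_apply, hy, Over.comp_left,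
      Scheme.Hom.comp_apply]
  haveI : AlgebraicGeometry.IsReduced NQ.left := GrpSchLib.isReduced_of_smooth_field NQ.hom
  obtain ⟨t, ht⟩ := H23.RedSub.exists_lift_closed (iQ ≫ r).left jJ.left hsub
  let t' : NQ ⟶ J := Over.homMk t (by rw [← Over.w jJ, reassoc_of% ht, Over.w (iQ ≫ r)])
  have ht' : t' ≫ jJ = iQ ≫ r := Over.OverMorphism.ext ht
  haveI : Mono jJ := Over.mono_of_mono_left _
  haveI : IsMonHom t' := LargeNormal.isMonHom_of_mul _ fun T a a' => by
    rw [← cancel_mono jJ, Category.assoc, ht', MonObj.mul_comp, MonObj.mul_comp, Category.assoc, Category.assoc, ht']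
  have hz : iQ ≫ r = 1 := by rw [← ht', GrpSchLib.AffToProper.hom_eq_one t', MonObj.one_comp]
  let m := hrk.lift iQ (toUnit NQ) (hz.trans Hom.one_def)
  have hm : m ≫ b = iQ := hrk.lift_fst _ _ _
  refine ⟨fun x => ?_⟩
  obtain ⟨y, hy⟩ := p.left.surjective (m.left x)
  refine ⟨y, iQ.left.isClosedEmbedding.injective ?_⟩
  have h1 : f.left ≫ iQ.left = p.left ≫ b.left := by rw [← Over.comp_left, hf, ← hpb]; rfl
  have h2 : m.left ≫ b.left = iQ.left := by rw [← Over.comp_left, hm]
  rw [← Scheme.Hom.comp_apply, h1, Scheme.Hom.comp_apply, hy, ← Scheme.Hom.comp_apply, h2]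

end Groth.Agent.S14756
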