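import Groth.Statements.S14757
import Groth.Agent.Chevalley.BC.AffLib
import Groth.Agent.S14582
import Groth.Agent.S7996
-- import your own Groth.Agent.* helpers here

set_option autoImplicit false
set_option backward.isDefEq.respectTransparency false
set_option maxHeartbeats 1000000
set_option linter.style.haveILetI false
universe u
open CategoryTheory CategoryTheory.Limits MonoidalCategory CartesianMonoidalCategory MonObj GrpObj AlgebraicGeometry
open AlgGrp

namespace Groth.Agent.S14757

/-- Let k be a perfect field and G a group variety over k (smooth connected k-group scheme of finite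
type); let i : N → G be its largest smooth connected affine normal closed subgroup scheme G_lin
(every other such subgroup factors through it) and j : M → G its largest anti-affine closed subgroup
scheme G_ant (the global functions of M are the constants k, and every closed subgroup scheme with
that property factors through it). Then the multiplication G_ant × G_lin → G is a homomorphism and
is surjective. (The published statement says it is a quotient map; surjectivity is what the
published proof establishes, faithful flatness then being automatic for a surjective homomorphism of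
algebraic groups.) -/
theorem result (k : Type u) [Field k] [PerfectField k]
    (G : Over (Spec (CommRingCat.of k))) [GrpObj G] [Smooth G.hom] [QuasiCompact G.hom] [ConnectedSpace ↥G.left]
    (N : Over (Spec (CommRingCat.of k))) [GrpObj N] (i : N ⟶ G) [IsMonHom i] [IsClosedImmersion i.left]
    [Smooth N.hom] [ConnectedSpace ↥N.left] [IsAffine N.left] (hN : AlgGrp.IsNormalHom i)
    (hNmax : ∀ (N' : Over (Spec (CommRingCat.of k))) [GrpObj N'] (i' : N' ⟶ G) [IsMonHom i'] [IsClosedImmersion i'.left]
      [Smooth N'.hom] [ConnectedSpace ↥N'.left] [IsAffine N'.left], AlgGrp.IsNormalHom i' → ∃ f : N' ⟶ N, f ≫ i = i')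
    (M : Over (Spec (CommRingCat.of k))) [GrpObj M] (j : M ⟶ G) [IsMonHom j] [IsClosedImmersion j.left]
    (hM : Function.Bijective ((Scheme.ΓSpecIso (CommRingCat.of k)).inv ≫ M.hom.appTop).hom)
    (hMmax : ∀ (M' : Over (Spec (CommRingCat.of k))) [GrpObj M'] (j' : M' ⟶ G) [IsMonHom j'] [IsClosedImmersion j'.left],
      Function.Bijective ((Scheme.ΓSpecIso (CommRingCat.of k)).inv ≫ M'.hom.appTop).hom → ∃ f : M' ⟶ M, f ≫ j = j') :
    IsMonHom ((j ⊗ₘ i) ≫ μ[G]) ∧ Surjective ((j ⊗ₘ i) ≫ μ[G]).left := by
  obtain ⟨Q, _, q, hq, hqs, hqf, hk, hQp, -, -⟩ := Chevalley.BC.exists_quot_of_max i hNmax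
  haveI := hq; haveI := hqs; haveI := hqf; haveI := hQp
  haveI : LocallyOfFiniteType M.hom := by rw [← Over.w j]; infer_instance
  haveI : QuasiCompact M.hom := by rw [← Over.w j]; infer_instance
  obtain ⟨h1, -⟩ := S14582.result k G N i hN Q q hk M j hM fun M' _ _ _ j' _ _ h => hMmax M' j' h
  have hc : ∀ (T : Over (Spec (CommRingCat.of k))) (a : T ⟶ M) (g : T ⟶ G), (a ≫ j) * g = g * (a ≫ j) := fun T a g => by
    simpa using S7996.result k M G hM j T a T (𝟙 T) g
  refine ⟨LargeNormal.isMonHom_of_mul _ fun T x y => ?_, ?_⟩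
  · have e : ∀ z : T ⟶ M ⊗ N, z ≫ (j ⊗ₘ i) ≫ μ[G] = ((z ≫ fst M N) ≫ j) * ((z ≫ snd M N) ≫ i) := fun z => by
      rw [Hom.mul_def, ← lift_map, Category.assoc,
        show lift (z ≫ fst M N) (z ≫ snd M N) = z by rw [← comp_lift, lift_fst_snd, Category.comp_id]]
    have hf : (x * y) ≫ fst M N = (x ≫ fst M N) * (y ≫ fst M N) := MonObj.mul_comp x y (fst M N)
    have hs : (x * y) ≫ snd M N = (x ≫ snd M N) * (y ≫ snd M N) := MonObj.mul_comp x y (snd M N)
    rw [e, e, e, hf, hs, MonObj.mul_comp, MonObj.mul_comp]
    rw [_root_.mul_assoc, ← _root_.mul_assoc ((y ≫ fst M N) ≫ j), hc T (y ≫ fst M N) ((x ≫ snd M N) ≫ i)]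
    simp only [_root_.mul_assoc]
  · have e : (j ⊗ₘ i) ≫ μ[G] = (β_ M N).hom ≫ (i ⊗ₘ j) ≫ μ[G] := by
      simp only [← lift_fst_comp_snd_comp, ← Hom.mul_def, MonObj.comp_mul, ← Category.assoc, braiding_hom_fst,
        braiding_hom_snd]
      exact hc _ _ _
    haveI := h1
    haveI : IsIso (β_ M N).hom.left := ((Over.forget _).mapIso (β_ M N)).isIso_hom
    rw [e, Over.comp_left]
    infer_instance

end Groth.Agent.S14757
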