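import Groth.Statements.S14763
import Groth.Agent.Chevalley.CommAff.AntiAffTools
import Groth.Agent.S7782
-- import your own Groth.Agent.* helpers here

set_option autoImplicit false
set_option backward.isDefEq.respectTransparency false
set_option maxHeartbeats 1000000
set_option linter.style.haveILetI false
universe u
open CategoryTheory CategoryTheory.Limits MonoidalCategory CartesianMonoidalCategory MonObj GrpObj AlgebraicGeometry
open AlgGrp

namespace Groth.Agent.S14763

/-- Over an algebraically closed field k let G be a commutative group variety (smooth connected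
commutative k-group scheme of finite type) written as an extension 0 → L → G → A → 0 of an abelian
variety by its largest connected affine subgroup: i : L → G a smooth connected affine closed
subgroup scheme, kernel of a flat surjective homomorphism π : G → A onto an abelian variety A
(proper, smooth, connected). Then the following are equivalent: (a) for some d ≥ 1 there is a
homomorphism s : A → G with π ∘ s equal to multiplication by d on A (the class of the extension is
killed by d: its pullback along multiplication by d splits); (b) there is an abelian subvariety A'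
of G (a smooth connected proper closed subgroup scheme) with A' · L = G, that is, the multiplication
A' × L → G is surjective. (The published statement phrases (a) as the class of G having finite order
in the group of extension classes and (b) as G being isogenous to L × A; the published proof passes
through exactly the two conditions stated here.) -/
theorem result (k : Type u) [Field k] [IsAlgClosed k]
    (G L A : Over (Spec (CommRingCat.of k))) [GrpObj G] [GrpObj L] [GrpObj A] [IsCommMonObj G]
    [Smooth G.hom] [QuasiCompact G.hom] [ConnectedSpace ↥G.left]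
    (i : L ⟶ G) [IsMonHom i] [IsClosedImmersion i.left] [IsAffine L.left] [Smooth L.hom] [ConnectedSpace ↥L.left]
    (π : G ⟶ A) [IsMonHom π] [Flat π.left] [Surjective π.left] (hker : AlgGrp.IsKernel i π)
    [IsProper A.hom] [Smooth A.hom] [ConnectedSpace ↥A.left] :
    (∃ d : ℕ, 0 < d ∧ ∃ s : A ⟶ G, IsMonHom s ∧ s ≫ π = (𝟙 A) ^ d) ↔
      (∃ (A' : Over (Spec (CommRingCat.of k))) (_ : GrpObj A') (j : A' ⟶ G), IsMonHom j ∧ IsClosedImmersion j.left ∧
        Smooth A'.hom ∧ ConnectedSpace ↥A'.left ∧ IsProper A'.hom ∧ Surjective ((j ⊗ₘ i) ≫ μ[G]).left) := by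
  haveI := GrpSchLib.AntiAffine.isSeparated_grp G
  haveI := GrpSchLib.AntiAffine.isSeparated_grp A
  haveI : GeometricallyIntegral A.hom := AlbQuotLib.geometricallyIntegral A
  haveI : IsCommMonObj A := isCommMonObj_of_isProper_of_geometricallyIntegral A
  haveI : AlgebraicGeometry.IsReduced A.left := GrpSchLib.isReduced_of_smooth_field A.hom
  have hmu : ∀ {X : Over (Spec (CommRingCat.of k))} (j : X ⟶ G),
      (j ⊗ₘ i) ≫ μ[G] = (fst X L ≫ j) * (snd X L ≫ i) := fun {X} j => by
    rw [Hom.mul_def, ← lift_map, lift_fst_snd, Category.id_comp]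
  constructor
  · rintro ⟨d, hd, s, hs, hsπ⟩
    haveI := hs
    have hdA := AVDegLib.zpow_props (A := A) (d : ℤ) (by exact_mod_cast hd.ne')
    rw [zpow_natCast] at hdA
    haveI := hdA.2.2
    obtain ⟨J, _, p, b, hp, hb, hpb, hbc, hpf, hps, hJl, hJq⟩ := GrpSchLib.ImageFactor.exists_image s
    haveI := hp; haveI := hb; haveI := hbc; haveI := hpf; haveI := hps; haveI := hJl; haveI := hJq
    haveI := GrpSchLib.AntiAffine.isSeparated_grp J
    have hJp : IsProper J.hom := Chevalley.BC.isProper_of_surjective p
    have hJs : Smooth J.hom := GrpSchLib.smooth_of_quotient p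
    have hJc : ConnectedSpace J.left := p.left.surjective.connectedSpace p.left.continuous
    refine ⟨J, inferInstance, b, hb, hbc, hJs, hJc, hJp, ?_⟩
    haveI : Surjective (b ≫ π).left := by
      haveI : Surjective (p.left ≫ (b ≫ π).left) := by
        rw [← Over.comp_left, reassoc_of% hpb, hsπ]; infer_instance
      exact Surjective.of_comp p.left (b ≫ π).left
    haveI := Chevalley.CommAff.surjective_mul_of_surjective i π hker b
    have e : (b ⊗ₘ i) ≫ μ[G] = lift (snd J L) (fst J L) ≫ (i ⊗ₘ b) ≫ μ[G] := by
      rw [hmu, ← Category.assoc, lift_map, ← Hom.mul_def, mul_comm]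
    haveI : IsIso (lift (snd J L) (fst J L)).left := inferInstanceAs (IsIso ((Over.forget _).map (β_ J L).hom))
    rw [e, Over.comp_left]
    infer_instance
  · rintro ⟨A', _, j, hj, hjc, hA's, hA'c, hA'p, hμ⟩
    haveI := hj; haveI := hjc; haveI := hA's; haveI := hA'c; haveI := hA'p; haveI := hμ
    haveI := GrpSchLib.AntiAffine.isSeparated_grp A'
    haveI : Mono j := Over.mono_of_mono_left _
    haveI : IsCommMonObj A' := Chevalley.CommAff.isCommMonObj_sub j
    haveI : Surjective (j ≫ π).left := by
      have e1 : ((j ⊗ₘ i) ≫ μ[G]) ≫ π = fst A' L ≫ j ≫ π := by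
        rw [hmu, MonObj.mul_comp, Category.assoc, Category.assoc, hker.w, ← Category.assoc (snd A' L), comp_toUnit,
          ← Hom.one_def, _root_.mul_one]
      haveI : Surjective ((fst A' L).left ≫ (j ≫ π).left) := by
        rw [← Over.comp_left, ← e1, Over.comp_left]; infer_instance
      exact Surjective.of_comp (fst A' L).left (j ≫ π).left
    haveI : QuasiCompact ((j ≫ π).left ≫ A.hom) := by rw [Over.w (j ≫ π)]; infer_instance
    haveI : QuasiCompact (j ≫ π).left := QuasiCompact.of_comp (j ≫ π).left A.hom
    haveI := GrpSchLib.flat_of_surjective_hom (j ≫ π)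
    obtain ⟨K, _, κ, hκ, hκc, -, hK⟩ := GrpSchLib.exists_kernel (j ≫ π)
    haveI := hκ; haveI := hκc
    haveI : IsCommMonObj K := Chevalley.CommAff.isCommMonObj_sub κ
    let a : K ⟶ L := hker.lift (κ ≫ j) (toUnit K) (by rw [Category.assoc, hK.w])
    have ha : a ≫ i = κ ≫ j := hker.lift_fst _ _ _
    haveI : IsClosedImmersion (a.left ≫ i.left) := by
      rw [← Over.comp_left, ha, Over.comp_left]; infer_instance
    haveI : IsClosedImmersion a.left := IsClosedImmersion.of_comp a.left i.left
    haveI : IsAffine K.left := isAffine_of_isAffineHom a.left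
    haveI : IsProper K.hom := by rw [← Over.w κ]; infer_instance
    haveI : IsFinite K.hom := (IsFinite.iff_isProper_and_isAffineHom (f := K.hom)).mpr ⟨inferInstance, inferInstance⟩
    haveI : Flat K.hom := inferInstance
    haveI : LocallyOfFinitePresentation K.hom := inferInstance
    let r := K.hom.finrank (IsLocalRing.closedPoint k)
    have hr : ∀ z, K.hom.finrank z = r := fun z => by rw [Subsingleton.elim (α := PrimeSpectrum k) z (IsLocalRing.closedPoint k)]
    have hr0 : 0 < r := by
      have h := Scheme.Hom.one_le_finrank_map K.hom (η[K].left (IsLocalRing.closedPoint k))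
      rw [hr] at h
      exact h
    have hkill : κ ≫ ((𝟙 A') ^ r) = toUnit K ≫ η[A'] := by
      rw [Chevalley.BC.comp_pow, Category.comp_id, ← Category.id_comp κ, ← Chevalley.BC.pow_comp,
        S7782.result K r hr K (𝟙 K), MonObj.one_comp, Hom.one_def]
    haveI := Chevalley.CommAff.isMonHom_pow A' r
    obtain ⟨u, hu, huf, -⟩ := S3280.result k A' K A A' (j ≫ π) κ hK ((𝟙 A') ^ r) hkill
    haveI := hu
    refine ⟨r, hr0, u ≫ j, inferInstance, ?_⟩
    haveI : Epi (j ≫ π).left := Flat.epi_of_flat_of_surjective _
    haveI : Epi (j ≫ π) := Over.epi_of_epi_left _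
    rw [← cancel_epi (j ≫ π), Chevalley.BC.comp_pow, Category.comp_id, ← Category.assoc, ← Category.assoc, huf,
      Category.assoc, Chevalley.BC.pow_comp, Category.id_comp]

end Groth.Agent.S14763
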