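import Groth.Statements.S19517
import Groth.Agent.Chevalley.BC.NonConn
-- import your own Groth.Agent.* helpers here

set_option autoImplicit false
set_option backward.isDefEq.respectTransparency false
set_option maxHeartbeats 1000000
set_option linter.style.haveILetI false
universe u
open CategoryTheory CategoryTheory.Limits MonoidalCategory CartesianMonoidalCategory MonObj GrpObj AlgebraicGeometry
open AlgGrp

namespace Groth.Agent.S19517

/-- Linear part, the assertion on the kernel: over an algebraically closed field k let G be a smooth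
k-group scheme of finite type, j : K → G a closed normal subgroup scheme of finite type, i : G_lin →
G the largest smooth connected affine normal closed subgroup scheme of G and i_K : K_lin → K the
largest smooth connected affine normal closed subgroup scheme of K. Then K_lin is contained in
G_lin, and K_lin has finite index in K ∩ G_lin in the sense that K_lin and the fibre product K ×_G
G_lin have the same dimension (K_lin is the reduced identity component of K ∩ G_lin). (The published
proposition is stated for an exact sequence e → K → G → Q → e of arbitrary algebraic groups and also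
for unipotent and solvable parts; G is assumed smooth here, and only the linear part is stated.) -/
theorem result (k : Type u) [Field k] [IsAlgClosed k]
    (G : Over (Spec (CommRingCat.of k))) [GrpObj G] [Smooth G.hom] [QuasiCompact G.hom]
    (K : Over (Spec (CommRingCat.of k))) [GrpObj K] [QuasiCompact K.hom] [LocallyOfFiniteType K.hom]
    (j : K ⟶ G) [IsMonHom j] [IsClosedImmersion j.left] (hK : AlgGrp.IsNormalHom j)
    (N : Over (Spec (CommRingCat.of k))) [GrpObj N] (i : N ⟶ G) [IsMonHom i] [IsClosedImmersion i.left]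
    [Smooth N.hom] [ConnectedSpace ↥N.left] [IsAffine N.left] (hN : AlgGrp.IsNormalHom i)
    (hNmax : (∀ (N' : Over (Spec (CommRingCat.of k))) [GrpObj N'] (i' : N' ⟶ G) [IsMonHom i'] [IsClosedImmersion i'.left]
      [Smooth N'.hom] [ConnectedSpace ↥N'.left] [IsAffine N'.left], AlgGrp.IsNormalHom i' → ∃ f : N' ⟶ N, f ≫ i = i'))
    (NK : Over (Spec (CommRingCat.of k))) [GrpObj NK] (iK : NK ⟶ K) [IsMonHom iK] [IsClosedImmersion iK.left]
    [Smooth NK.hom] [ConnectedSpace ↥NK.left] [IsAffine NK.left] (hNK : AlgGrp.IsNormalHom iK)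
    (hNKmax : (∀ (N' : Over (Spec (CommRingCat.of k))) [GrpObj N'] (i' : N' ⟶ K) [IsMonHom i'] [IsClosedImmersion i'.left]
      [Smooth N'.hom] [ConnectedSpace ↥N'.left] [IsAffine N'.left], AlgGrp.IsNormalHom i' → ∃ f : N' ⟶ NK, f ≫ iK = i')) :
    (∃ g : NK ⟶ N, g ≫ i = iK ≫ j) ∧
      topologicalKrullDim ↥NK.left = topologicalKrullDim ↥(pullback j.left i.left) := by
  haveI := GrpSchLib.AntiAffine.isSeparated_grp G
  haveI := GrpSchLib.AntiAffine.isSeparated_grp K
  obtain ⟨L, _, l, hl, hL⟩ := Chevalley.BC.exists_affPart G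
  haveI := hl.hom; haveI := hl.closed; haveI := hl.smooth; haveI := hl.conn; haveI : IsAffine L.left := hl.prop
  obtain ⟨a, ha⟩ := hNmax L l hl.normal
  obtain ⟨b, hb⟩ := hL NK (iK ≫ j)
  refine ⟨⟨b ≫ a, by rw [Category.assoc, ha, hb]⟩, ?_⟩
  obtain ⟨E, _, e, q', he, hec, hq', sq⟩ := LargeNormal.exists_preimage i j
  haveI := he; haveI := hec; haveI := hq'
  haveI : QuasiCompact N.hom := inferInstance
  haveI : LocallyOfFiniteType E.hom := by rw [← Over.w e]; infer_instance
  haveI : QuasiCompact E.hom := by rw [← Over.w e]; infer_instance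
  obtain ⟨D, _, c, hc, hcc, hDs, hDq, hDc, hcr⟩ := Chevalley.BC.exists_comp E
  haveI := hc; haveI := hcc; haveI := hDs; haveI := hDq; haveI := hDc
  haveI : AlgebraicGeometry.IsReduced D.left := GrpSchLib.isReduced_of_smooth_field D.hom
  haveI : AlgebraicGeometry.IsReduced NK.left := GrpSchLib.isReduced_of_smooth_field NK.hom
  haveI : IsAffine D.left := isAffine_of_isAffineHom (c.left ≫ e.left)
  haveI : IsClosedImmersion q'.left := MorphismProperty.of_isPullback (P := @IsClosedImmersion)
    (sq.map (Over.forget _)) ‹IsClosedImmersion i.left›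
  haveI : IsClosedImmersion (c ≫ q').left := inferInstanceAs (IsClosedImmersion (c.left ≫ q'.left))
  haveI : Mono j := Over.mono_of_mono_left _
  haveI : Mono i := Over.mono_of_mono_left _
  haveI : Mono c := Over.mono_of_mono_left _
  haveI : Mono q' := Over.mono_of_mono_left _
  haveI : Mono iK := Over.mono_of_mono_left _
  haveI : Mono (c ≫ q') := Over.mono_of_mono_left _
  let dG : D ⟶ G := c ≫ e ≫ i
  have hdG : dG = (c ≫ q') ≫ j := by simp only [dG, sq.w, Category.assoc]
  haveI : IsClosedImmersion dG.left := inferInstanceAs (IsClosedImmersion (c.left ≫ e.left ≫ i.left))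
  haveI : LocallyOfFiniteType (G ⊗ D).hom := inferInstanceAs (LocallyOfFiniteType (pullback.fst G.hom D.hom ≫ G.hom))
  haveI : Smooth (G ⊗ D).hom := inferInstanceAs (Smooth (pullback.fst G.hom D.hom ≫ G.hom))
  haveI : AlgebraicGeometry.IsReduced (G ⊗ D).left := GrpSchLib.isReduced_of_smooth_field (G ⊗ D).hom
  let cj : G ⊗ D ⟶ G := fst G D * (snd G D ≫ dG) * (fst G D)⁻¹
  have hpts : ∀ t : 𝟙_ (Over (Spec (CommRingCat.of k))) ⟶ G ⊗ D, Chevalley.Val.pp (t ≫ cj) ∈ Set.range dG.left := by
    intro t
    let g : D ⟶ G := toUnit D ≫ t ≫ fst G D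
    obtain ⟨n, hn⟩ := hN D g (c ≫ e)
    obtain ⟨m, hm⟩ := hK D g (c ≫ q')
    have hnm : n ≫ i = m ≫ j := by
      rw [← hn, ← hm, Category.assoc, sq.w, Category.assoc]
    let x := sq.lift n m hnm
    have hx1 : x ≫ e ≫ i = g * dG * g⁻¹ := by
      rw [← Category.assoc, sq.lift_fst, ← hn, Category.assoc]
    obtain ⟨y, hy⟩ := Chevalley.BC.exists_factor E hcr x (Chevalley.Val.pp η[D]) (by
      show (η[D] ≫ x).left _ = _
      refine congrArg (fun f : 𝟙_ (Over (Spec (CommRingCat.of k))) ⟶ E => f.left (IsLocalRing.closedPoint k)) ?_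
      haveI : Mono (e ≫ i) := by
        haveI : Mono e := Over.mono_of_mono_left _
        infer_instance
      haveI : IsMonHom dG := inferInstanceAs (IsMonHom (c ≫ e ≫ i))
      rw [← cancel_mono (e ≫ i), Category.assoc, hx1]
      simp only [MonObj.comp_mul, GrpObj.comp_inv, IsMonHom.one_hom]
      rw [show η[G] = 1 from MonObj.one_eq_one (M := G), _root_.mul_one, mul_inv_cancel])
    have hgd : g * dG * g⁻¹ = y ≫ dG := by rw [← hx1, ← hy, Category.assoc]
    have e2 : t ≫ cj = (t ≫ snd G D ≫ y) ≫ dG := by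
      have h2 := congrArg (fun f => (t ≫ snd G D) ≫ f) hgd
      simp only [MonObj.comp_mul, GrpObj.comp_inv, g, ← Category.assoc, comp_toUnit,
        toUnit_unique (toUnit (𝟙_ (Over (Spec (CommRingCat.of k))))) (𝟙 _), Category.id_comp] at h2
      simp only [cj, MonObj.comp_mul, GrpObj.comp_inv, ← Category.assoc]
      exact h2
    rw [e2]
    exact ⟨_, rfl⟩
  obtain ⟨w, hw⟩ := H23.RedSub.exists_lift_closed cj.left dG.left
    (Chevalley.Val.range_subset_of_points cj dG.left.isClosedEmbedding.isClosed_range hpts)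
  let w' : G ⊗ D ⟶ D := Over.homMk w (by rw [← Over.w dG, reassoc_of% hw, Over.w cj])
  have hw' : w' ≫ dG = cj := Over.OverMorphism.ext hw
  have hDn : AlgGrp.IsNormalHom (c ≫ q') := fun T x y => ⟨lift (x ≫ j) y ≫ w', by
    rw [← cancel_mono j, Category.assoc, Category.assoc, ← hdG, hw']
    simp only [cj, MonObj.comp_mul, GrpObj.comp_inv, lift_fst, lift_snd_assoc, MonObj.mul_comp, GrpObj.inv_comp, hdG,
      Category.assoc]⟩
  obtain ⟨α, hα⟩ := hNKmax D (c ≫ q') hDn
  obtain ⟨β, hβ⟩ := Chevalley.BC.exists_factor E hcr (sq.lift (b ≫ a) iK (by rw [Category.assoc, ha, hb]))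
    (Chevalley.Val.pp η[NK]) (by
      show (η[NK] ≫ sq.lift (b ≫ a) iK _).left _ = _
      refine congrArg (fun f : 𝟙_ (Over (Spec (CommRingCat.of k))) ⟶ E => f.left (IsLocalRing.closedPoint k)) ?_
      rw [← cancel_mono q', Category.assoc, sq.lift_snd, IsMonHom.one_hom iK, IsMonHom.one_hom q'])
  have hβ' : β ≫ c ≫ q' = iK := by rw [reassoc_of% hβ, sq.lift_snd]
  let eqv : NK ≅ D := ⟨β, α, by rw [← cancel_mono iK, Category.assoc, hα, hβ', Category.id_comp],
    by rw [← cancel_mono (c ≫ q'), Category.assoc, hβ', hα, Category.id_comp]⟩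
  haveI : IsIso β.left := ((Over.forget _).mapIso eqv).isIso_hom
  rw [β.left.homeomorph.isHomeomorph.topologicalKrullDim_eq,
    c.left.isClosedEmbedding.toIsEmbedding.toHomeomorph.isHomeomorph.topologicalKrullDim_eq, hcr,
    GrpQuotLib.dim_grp_component]
  exact (sq.map (Over.forget _)).flip.isoPullback.hom.homeomorph.isHomeomorph.topologicalKrullDim_eq

end Groth.Agent.S19517
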