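import Groth.Statements.S14787
import Groth.Agent.EtQC.Chev.ProperCover
import Groth.Agent.S17880
import Mathlib.AlgebraicGeometry.ZariskisMainTheorem
-- import your own Groth.Agent.* helpers here

set_option autoImplicit false
universe u
open CategoryTheory CategoryTheory.Limits AlgebraicGeometry
open AlgSp

namespace Groth.Agent.S14787

set_option backward.isDefEq.respectTransparency false
set_option backward.isDefEq.respectTransparency.types false
open Groth.Agent.EtQC Groth.Agent.AlgSpLib

/-- A separated universally closed quasi-compact scheme with finite fibres over an affine scheme is affine. -/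
theorem isAffine_of_finite_fibres {T Z : Scheme.{u}} [IsAffine Z] (t : T ⟶ Z) [IsSeparated t]
    [UniversallyClosed t] [CompactSpace T] (h : ∀ z, (t ⁻¹' {z}).Finite) : IsAffine T := by
  haveI : QuasiSeparatedSpace T := quasiSeparatedSpace_of_quasiSeparated t
  obtain ⟨Z', g, p, hg, hp, hpq, -, hps, hgp⟩ := S17880.result t
  haveI := hg; haveI := hp; haveI := hpq; haveI := hps ‹_›
  haveI : UniversallyClosed (g ≫ p) := by rw [hgp]; infer_instance
  haveI : UniversallyClosed g := MorphismProperty.of_postcomp (W := @UniversallyClosed) (W' := @IsSeparated) g p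
    inferInstance inferInstance
  let C := g.image
  let i := g.imageι
  let a := g.toImage
  haveI : UniversallyClosed (a ≫ i) := by
    rw [show a ≫ i = g from g.toImage_imageι]; infer_instance
  haveI : UniversallyClosed a := MorphismProperty.of_postcomp (W := @UniversallyClosed) (W' := @IsSeparated) a i
    inferInstance inferInstance
  haveI : Surjective a := ⟨Set.range_eq_univ.1 <| by
    rw [← a.denseRange.closure_range, a.isClosedMap.isClosed_range.closure_eq]⟩
  have hae : a ≫ i ≫ p = t := by
    rw [← Category.assoc, show a ≫ i = g from g.toImage_imageι, hgp]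
  haveI : UniversallyClosed (a ≫ i ≫ p) := by rw [hae]; infer_instance
  haveI : UniversallyClosed (i ≫ p) := UniversallyClosed.of_comp_surjective a (i ≫ p)
  haveI : IsProper (i ≫ p) := { }
  haveI : LocallyQuasiFinite (i ≫ p) := LocallyQuasiFinite.of_finite_preimage_singleton _ fun z => by
    refine ((h z).image a).subset fun c hc => ?_
    obtain ⟨x, rfl⟩ := a.surjective c
    exact ⟨x, by rw [← hae]; exact hc, rfl⟩
  haveI : IsFinite (i ≫ p) := IsFinite.of_isProper_of_locallyQuasiFinite _
  haveI : IsAffine C := isAffine_of_isAffineHom (i ≫ p)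
  haveI : IsAffineHom (a ≫ i) := by
    rw [show a ≫ i = g from g.toImage_imageι]; infer_instance
  haveI : IsAffineHom a := MorphismProperty.of_postcomp (W := @IsAffineHom) (W' := @IsSeparated) a i
    inferInstance inferInstance
  exact isAffine_of_isAffineHom a

theorem finite_fibre {S : Scheme.{u}} {T : Over S} {P : AlgSp.Space S} {g : (yon S).obj T ⟶ P.obj}
    (hg : RepWith @IsFinite g) (y : Points P.obj) : (Points.ofPt g ⁻¹' {y}).Finite := by
  obtain ⟨U, b, hb, hbs⟩ := P.property.atlas
  obtain ⟨z, hz⟩ := (repWith_surjective_iff hbs.rep).1 hbs y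
  obtain ⟨u, rfl⟩ := (Points.schemeEquiv U).surjective z
  have sq := hg.rep.isPullback' b
  haveI : IsFinite (hg.rep.snd b).left := hg.property_snd b
  refine ((IsFinite.finite_preimage_singleton (hg.rep.snd b).left u).image
    (fun w => (hg.rep.fst' b).left w)).subset fun x (hx : Points.ofPt g x = y) => ?_
  have h1 : Points.map g (Points.ofScheme T x) = Points.ofPt b u := by
    rw [← Points.ofPt_eq_map_ofScheme, Points.ofPt_eq_map_ofScheme b, hx]
    exact hz.symm
  obtain ⟨w, hw1, hw2⟩ := AlgSpPts.exists_lift sq h1
  rw [Points.ofPt_eq_map_ofScheme] at hw1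
  exact ⟨w, hw2, (Points.schemeHomeo T).injective ((Points.map_yon_map_apply _ w).symm.trans hw1)⟩

/-- Let S be a quasi-separated scheme and f : X ⟶ Y a morphism of algebraic spaces over S, with X and Y
quasi-separated over S. If f is separated and a universal homeomorphism, then f is representable by
schemes and integral. -/
theorem result {S : Scheme.{u}} [QuasiSeparatedSpace S]
    {X Y : AlgSp.Space S} (hX : AlgSp.IsQuasiSeparatedSp X.obj) (hY : AlgSp.IsQuasiSeparatedSp Y.obj)
    (f : X ⟶ Y) (hsep : AlgSp.IsSeparatedMor f.hom) (hh : AlgSp.IsUnivHomeoMor f.hom) :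
    AlgSp.Representable f.hom ∧ AlgSp.IsIntegralMor f.hom := by
  have huc : IsUnivClosedMor f.hom := fun Z Z' hZ g fst snd sq => (hh hZ g fst snd sq).isClosedMap
  have haff : IsAffineMor f.hom := fun Z hZ g => by
    haveI := hZ
    have sq := IsPullback.of_hasPullback f.hom g
    let P : AlgSp.Space S := ⟨pullback f.hom g, isAlgSpace_of_isPullback sq X.property (IsAlgSpace.yon_obj _) Y.property⟩
    let q : P.obj ⟶ (yon S).obj Z := pullback.snd f.hom g
    have hq : IsHomeomorph (Points.map q) := hh (IsAlgSpace.yon_obj _) g _ _ sq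
    haveI : CompactSpace (Points ((yon S).obj Z)) := (Points.schemeHomeo Z).compactSpace
    haveI : CompactSpace (Points P.obj) := hq.homeomorph.symm.compactSpace
    have hqc : IsQuasiCompactSp P.obj := (AlgSpPts.isQuasiCompactSp_iff P.property).2 inferInstance
    have hqsep : IsSeparatedMor q := AlgSpPts.isSeparatedMor_of_isPullback sq hsep
    have hquc : IsUnivClosedMor q := AlgSpPts.univSp_of_isPullback sq huc
    obtain ⟨T, k, hk, hks⟩ := Chev.ProperCover.exists_finite_cover P q hqc
      (repWith_mono (fun _ _ m (_ : IsClosedImmersion m) => (inferInstance : QuasiCompact m)) _ hqsep)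
    obtain ⟨t, ht⟩ := (yon S).map_surjective (k ≫ q)
    obtain ⟨hts, htu, htc⟩ := Chev.ProperCover.properties_comp P q hqc hqsep hquc k hk t ht
    haveI := hts; haveI := htu; haveI := htc
    haveI : IsAffine T.left := isAffine_of_finite_fibres t.left fun z => by
      obtain ⟨y, hy⟩ := hq.surjective (Points.ofScheme Z z)
      refine (finite_fibre hk y).subset fun x hx => hq.injective ?_
      rw [hy, Points.ofPt_eq_map_ofScheme, ← Points.map_comp, ← ht]
      exact (Points.map_yon_map_apply t x).trans (congrArg (Points.ofScheme Z) hx)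
    obtain ⟨W, hW, ⟨e⟩⟩ := Chev.exists_iso_of_univClosed P k
      (repWith_mono (fun _ _ m (_ : IsFinite m) => inferInstanceAs (UniversallyClosed m)) _ hk)
      ((repWith_surjective_iff hk.rep).2 hks)
    obtain ⟨i, hi⟩ := (yon S).map_surjective (e.hom ≫ q)
    refine ⟨W, i, e.hom ≫ pullback.fst f.hom g, ?_, hW⟩
    exact sq.of_iso e.symm (Iso.refl _) (Iso.refl _) (Iso.refl _) (by simp) (by simp [hi, q]) (by simp) (by simp)
  exact ⟨AlgSpDec.representable_of_isAffineMor haff, AlgSpDec.isIntegralMor_iff_affine_univClosed.2 ⟨haff, huc⟩⟩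

end Groth.Agent.S14787
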