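import Groth.Statements.S14792
import Groth.Agent.EtDescX.SubtrLimit
import Groth.Agent.LimSm.Model
import Groth.Agent.DescLib.SubtrSubm

set_option autoImplicit false
universe u
open CategoryTheory CategoryTheory.Limits AlgebraicGeometry
open Subtr

namespace Groth.Agent.S14792

set_option backward.isDefEq.respectTransparency false
set_option backward.isDefEq.respectTransparency.types false


/-- (i) ⇔ (iii): let A be a commutative ring and f : X ⟶ Spec A a morphism of finite presentation. Then
every base change of f has the lifting property for ordered pairs of points if and only if there are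
a finitely generated subring A₀ ⊆ A, a scheme X₀ and a universally submersive morphism f₀ : X₀ ⟶
Spec A₀ of finite presentation such that f is the base change of f₀ along Spec A ⟶ Spec A₀. -/
theorem result (A : Type u) [CommRing A]
    {X : Scheme.{u}} (f : X ⟶ Spec (CommRingCat.of A))
    [LocallyOfFinitePresentation f] [QuasiCompact f] [QuasiSeparated f] :
    Subtr.UnivSSubtrusive f ↔
      ∃ (A₀ : Subalgebra ℤ A) (_ : A₀.FG) (X₀ : Scheme.{u}) (f₀ : X₀ ⟶ Spec (CommRingCat.of A₀))
        (q : X ⟶ X₀), IsPullback q f f₀ (Spec.map (CommRingCat.ofHom A₀.val.toRingHom)) ∧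
        LocallyOfFinitePresentation f₀ ∧ QuasiCompact f₀ ∧ QuasiSeparated f₀ ∧
        SGA1.UnivSubmersive f₀ := by
  constructor
  · intro hf
    obtain ⟨A₀, hA₀, X₀, f₀, q, h1, -, h3, h4, h5, sq⟩ := LimSm.exists_model_over_fg EtDescX.core_univSSubtrusive
      EtDescX.core_univSSubtrusive (fun _ h => h) (fun _ h => h) A f hf hf
    exact ⟨A₀, hA₀, X₀, f₀, q, sq, h3, h4, h5, DescLib.univSubmersive_of_univSSubtrusive f₀ h1⟩
  · rintro ⟨A₀, hA₀, X₀, f₀, q, sq, -, hqc, -, hsub⟩
    haveI : Algebra.FiniteType ℤ A₀ := A₀.fg_iff_finiteType.1 hA₀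
    haveI : IsNoetherianRing A₀ := Algebra.FiniteType.isNoetherianRing ℤ A₀
    haveI : IsNoetherianRing (CommRingCat.of A₀) := ‹IsNoetherianRing A₀›
    haveI := hqc
    exact MorphismProperty.of_isPullback sq (DescLib.univSSubtrusive_of_univSubmersive f₀ hsub)

end Groth.Agent.S14792
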