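import Groth.Statements.S14793
import Groth.Agent.StrictAlg.SchemeCase
import Groth.Agent.S14790
import Groth.Agent.FDescent.QuasiFlat

set_option autoImplicit false
attribute [-instance] CategoryTheory.catToReflQuiver
set_option backward.isDefEq.respectTransparency false
set_option backward.isDefEq.respectTransparency.types false
universe u
open Subtr

namespace Groth.Agent.S14793

open AlgebraicGeometry CategoryTheory Limits in
/-- Let Y be a reduced, quasi-compact and quasi-separated scheme whose set of maximal points is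
quasi-compact (for instance Y Noetherian), and f : X ⟶ Y a morphism of finite presentation every
base change of which has the lifting property for ordered pairs of points. Then there are a dense
quasi-compact open U ⊆ Y, an ideal sheaf 𝓘 admissible for U (of finite type, cosupported off U) and
a blow-up b : Y' ⟶ Y of Y in 𝓘, with b surjective, such that the strict transform X'' of X (the
closed subscheme of X' = X ×_Y Y' whose ideal consists, on each affine open, of the functions
annihilated by a power of the pulled-back exceptional ideal) is flat, surjective and of finite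
presentation over Y'. -/
theorem result {X Y : Scheme.{u}} [IsReduced Y] [CompactSpace Y]
    [QuasiSeparatedSpace Y] (hgen : IsCompact {y : Y | ∀ y' : Y, y' ⤳ y → y' = y})
    (f : X ⟶ Y) [LocallyOfFinitePresentation f] [QuasiCompact f] [QuasiSeparated f]
    (hf : Subtr.UnivSSubtrusive f) :
    ∃ (U : Y.Opens) (𝓘 : Y.IdealSheafData) (Y' : Scheme.{u}) (b : Y' ⟶ Y),
      Dense (U : Set Y) ∧ IsCompact (U : Set Y) ∧ BlowUp.IsBlowUp b 𝓘 ∧ BlowUp.IsAdmissibleFor U 𝓘 ∧
      Surjective b ∧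
      ∀ (X' : Scheme.{u}) (p₁ : X' ⟶ X) (p₂ : X' ⟶ Y'), IsPullback p₁ p₂ f b →
      ∀ (𝒥 : X'.IdealSheafData),
        (∀ (V : X'.affineOpens) (a : Γ(X', V.1)), a ∈ 𝒥.ideal V ↔
          BlowUp.KilledByPowerNear ((𝓘.comap f).comap p₁) (Coh.structureModule X') V a) →
        Flat (𝒥.subschemeι ≫ p₂) ∧ Surjective (𝒥.subschemeι ≫ p₂) ∧
          LocallyOfFinitePresentation (𝒥.subschemeι ≫ p₂) ∧
          QuasiCompact (𝒥.subschemeι ≫ p₂) ∧ QuasiSeparated (𝒥.subschemeι ≫ p₂) := by
  classical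
  obtain ⟨U, hUd, hUc, hUflat⟩ := Groth.Agent.S14790.result hgen f
  haveI := hUflat
  haveI : LocallyOfFinitePresentation (f ∣_ U) :=
    MorphismProperty.of_isPullback (P := @LocallyOfFinitePresentation) (isPullback_morphismRestrict f U).flip ‹_›
  obtain ⟨𝓙, Y', b, hb, hadm, hint, h⟩ := Groth.Agent.StrictAlg.exists_flattening_scheme f U hUc
  haveI := Groth.Agent.BlowUpLib.isProper_of_isBlowUp 𝓙 hb hadm.1
  haveI := ModPairLib.isAffineHom_interior (ModPairLib.isLocPrincipal_of_isEffCartier hb.1)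
  haveI := ModPairLib.isSchemeTheoreticallyDominant_interior hb.1
  have hgenY : ∀ y : Y', ∃ u ∈ b ⁻¹ᵁ U, u ⤳ y := fun y => by
    obtain ⟨u, hu⟩ := Groth.Agent.FDescent.exists_specializes_of_mem_closure_range
      (ModPair.interior (𝓙.comap b)).ι ((ModPair.interior (𝓙.comap b)).ι.denseRange y)
    refine ⟨_, ?_, hu⟩
    rw [← hint, ModPairLib.preimage_interior]
    exact u.2
  haveI : IsIso (b ∣_ U) := Groth.Agent.BlowUpLib.isIso_restrict hb U hint.ge
  have hbs : Surjective b := ⟨fun y => by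
    have h1 : (U : Set Y) ⊆ Set.range b := fun u hu => by
      obtain ⟨v, hv⟩ := (asIso (b ∣_ U)).hom.surjective ⟨u, hu⟩
      refine ⟨(b ⁻¹ᵁ U).ι v, ?_⟩
      show ((b ⁻¹ᵁ U).ι ≫ b) v = u
      rw [← morphismRestrict_ι, Scheme.Hom.comp_apply]
      exact congrArg U.ι hv
    exact closure_minimal h1 b.isClosedMap.isClosed_range (hUd y)⟩
  refine ⟨U, 𝓙, Y', b, hUd, hUc, hb, hadm, hbs, fun X' p₁ p₂ hsq 𝒥 h𝒥 => ?_⟩
  obtain ⟨hF, hP, hqc, hqs⟩ := h X' p₁ p₂ hsq 𝒥 h𝒥
  refine ⟨hF, ⟨fun y => ?_⟩, hP, hqc, hqs⟩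
  obtain ⟨u, huU, huy⟩ := hgenY y
  obtain ⟨x, x', hxx', hxy, hx'u⟩ := hf p₁ b p₂ hsq.flip huy
  have hx' : x' ∈ (𝒥.support : Set X') := by
    obtain ⟨_, ⟨W, hW, rfl⟩, hxW, -⟩ :=
      X'.isBasis_affineOpens.exists_subset_of_mem_open (Set.mem_univ x') isOpen_univ
    refine (Groth.Agent.BlowSep.mem_support_iff_notMem 𝒥 (U := ⟨W, hW⟩) hxW).2 fun a ha hxa => ?_
    have hE := Groth.Agent.StrictFun.isFG_of_isLocPrincipal (Groth.Agent.StrictFun.isLocPrincipal_exc hb hsq)
    have h0 := (Groth.Agent.StrictFun.killed_iff_cutRes hE Groth.Agent.QCoh.isQCoh_structureModule ⟨W, hW⟩ a).1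
      ((h𝒥 ⟨W, hW⟩ a).1 ha)
    have hxI : x' ∈ ModPair.interior ((𝓙.comap f).comap p₁) := by
      rw [← ModPairLib.preimage_interior, ← ModPairLib.preimage_interior, hint]
      show f (p₁ x') ∈ U
      rw [← Scheme.Hom.comp_apply, hsq.w, Scheme.Hom.comp_apply, hx'u]
      exact huU
    have h1 : x' ∈ X'.basicOpen (X'.presheaf.map (homOfLE (inf_le_left :
        W ⊓ ModPair.interior ((𝓙.comap f).comap p₁) ≤ W)).op a) := by
      rw [Scheme.basicOpen_res]
      exact ⟨⟨hxW, hxI⟩, hxa⟩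
    rw [show X'.presheaf.map (homOfLE (inf_le_left :
        W ⊓ ModPair.interior ((𝓙.comap f).comap p₁) ≤ W)).op a = 0 from h0, Scheme.basicOpen_zero] at h1
    exact h1
  have hx : x ∈ Set.range 𝒥.subschemeι := by
    rw [Scheme.IdealSheafData.range_subschemeι]
    exact hxx'.mem_closed 𝒥.support.isClosed hx'
  obtain ⟨w, rfl⟩ := hx
  exact ⟨w, hxy⟩

end Groth.Agent.S14793
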