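import Groth.Statements.S14796
import Groth.Agent.S14795
import Groth.Agent.MorLib.WeakSubBC

set_option autoImplicit false
universe u
open CategoryTheory CategoryTheory.Limits AlgebraicGeometry
open Subtr

namespace Groth.Agent.S14796

/-- Let A ⊆ B be a ring extension and A ⟶ A' a ring map that is a localization or étale; put B' = A' ⊗_A
B. Let C ⊆ B be the weak subintegral closure of A in B and C' ⊆ B' that of A' in B' (each the
largest subalgebra whose spectrum maps to the base by a universal homeomorphism, characterised here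
by that maximality). Then C' is the image of A' ⊗_A C ⟶ A' ⊗_A B: the weak subintegral closure
commutes with such base changes. -/
theorem result {A B A' : Type u} [CommRing A] [CommRing B]
    [CommRing A'] [Algebra A B] [Algebra A A'] (hinj : Function.Injective (algebraMap A B))
    (hA' : (∃ M : Submonoid A, IsLocalization M A') ∨ Algebra.Etale A A')
    (C : Subalgebra A B) (hC : FlatMor.IsUnivHomeo (Spec.map (CommRingCat.ofHom (algebraMap A C))))
    (hmax : ∀ D : Subalgebra A B, FlatMor.IsUnivHomeo (Spec.map (CommRingCat.ofHom (algebraMap A D))) → D ≤ C)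
    (C' : Subalgebra A' (TensorProduct A A' B)) (hC' : FlatMor.IsUnivHomeo (Spec.map (CommRingCat.ofHom (algebraMap A' C'))))
    (hmax' : ∀ D : Subalgebra A' (TensorProduct A A' B), FlatMor.IsUnivHomeo (Spec.map (CommRingCat.ofHom (algebraMap A' D))) → D ≤ C') :
    (C' : Set (TensorProduct A A' B)) =
      Set.range (Algebra.TensorProduct.map (AlgHom.id A A') C.val) := by
  classical
  obtain ⟨hflat, hbij, hred⟩ := Groth.Agent.MorLib.WSBC.exists_flat_bijective_reduced (A := A) A' B hA'
  haveI := hflat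
  let θ : TensorProduct A A' C →ₐ[A'] TensorProduct A A' B := Algebra.TensorProduct.map (AlgHom.id A' A') C.val
  have hθ : Function.Injective θ :=
    Module.Flat.lTensor_preserves_injective_linearMap (M := A') C.val.toLinearMap Subtype.val_injective
  have hge : θ.range ≤ C' := hmax' _ (Groth.Agent.MorLib.WSBC.isUnivHomeo_of_algEquiv (AlgEquiv.ofInjective θ hθ)
    (Groth.Agent.MorLib.WSBC.isUnivHomeo_baseChange A' C hC))
  let Bi := integralClosure A B
  let ι : TensorProduct A A' Bi →ₐ[A'] TensorProduct A A' B := Algebra.TensorProduct.map (AlgHom.id A' A') Bi.val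
  have hι : Function.Injective ι :=
    Module.Flat.lTensor_preserves_injective_linearMap (M := A') Bi.val.toLinearMap Subtype.val_injective
  obtain ⟨hi', hr', -⟩ := (Groth.Agent.MorLib.RUH.isUnivHomeo_SpecMap_iff _).1 hC'
  obtain ⟨hi, -, -⟩ := (Groth.Agent.MorLib.RUH.isUnivHomeo_SpecMap_iff _).1 hC
  have hle : C' ≤ ι.range := fun x hx => by
    obtain ⟨y, hy⟩ := hbij.2 ⟨x, IsIntegral.map C'.val (show IsIntegral A' (⟨x, hx⟩ : C') from hi' ⟨x, hx⟩)⟩
    exact ⟨y, congrArg Subtype.val hy⟩
  have hCint : ∀ b : B, b ∈ C → b ∈ Bi := fun b hb =>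
    IsIntegral.map C.val (show IsIntegral A (⟨b, hb⟩ : C) from hi ⟨b, hb⟩)
  let Ci : Subalgebra A Bi := C.comap Bi.val
  have hmap : Ci.map Bi.val = C :=
    le_antisymm (fun _ ⟨c, hc, h⟩ => h ▸ hc) fun b hb => ⟨⟨b, hCint b hb⟩, hb, rfl⟩
  haveI : Algebra.IsIntegral A Bi := ⟨fun b => (isIntegral_algHom_iff Bi.val Subtype.val_injective).1 b.2⟩
  have hinj' : Function.Injective (algebraMap A Bi) := fun a b h => hinj (congrArg Subtype.val h)
  have hCi : FlatMor.IsUnivHomeo (Spec.map (CommRingCat.ofHom (algebraMap A Ci))) :=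
    Groth.Agent.MorLib.WSBC.isUnivHomeo_of_algEquiv
      ((Ci.equivMapOfInjective Bi.val Subtype.val_injective).trans (Subalgebra.equivOfEq _ _ hmap)).symm hC
  have hcrit := Groth.Agent.S14795.result hinj' Ci hCi fun D hD b hb => hmax (D.map Bi.val)
    (Groth.Agent.MorLib.WSBC.isUnivHomeo_of_algEquiv (D.equivMapOfInjective Bi.val Subtype.val_injective) hD) ⟨b, hb, rfl⟩
  refine Set.Subset.antisymm (fun x hx => ?_) fun x ⟨y, hy⟩ => hge ⟨y, hy⟩
  let j : C' →ₐ[A'] TensorProduct A A' Bi := (AlgEquiv.ofInjective ι hι).symm.toAlgHom.comp (Subalgebra.inclusion hle)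
  obtain ⟨z, hz⟩ := Groth.Agent.MorLib.WSBC.mem_range_lTensor hred Ci hcrit hr' j ⟨x, hx⟩
  have hjx : ι (j ⟨x, hx⟩) = x :=
    congrArg Subtype.val ((AlgEquiv.ofInjective ι hι).apply_symm_apply (Subalgebra.inclusion hle ⟨x, hx⟩))
  let inc : Ci →ₐ[A] C := ((Ci.equivMapOfInjective Bi.val Subtype.val_injective).trans (Subalgebra.equivOfEq _ _ hmap)).toAlgHom
  refine ⟨Algebra.TensorProduct.map (AlgHom.id A A') inc z, ?_⟩
  rw [← hjx, ← hz]
  clear hz
  induction z using TensorProduct.induction_on with
  | zero => simp only [map_zero]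
  | tmul a c => rfl
  | add a b ha hb => simp only [map_add, ha, hb]

end Groth.Agent.S14796
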