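import Groth.Statements.S14810
import Groth.Agent.CurveThrough.Basic
import Groth.Agent.Lib.CurveDeg
import Groth.Agent.NefCurve.Gen
import Groth.Agent.S1519
import Groth.Agent.CurveBC.Coh
import Groth.Agent.InvX.GenLocusPull

set_option autoImplicit false
set_option backward.isDefEq.respectTransparency false
set_option backward.isDefEq.respectTransparency.types false
set_option maxHeartbeats 1000000
set_option linter.style.haveILetI false
universe u
open CategoryTheory CategoryTheory.Limits AlgebraicGeometry
open Pic13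

namespace Groth.Agent.S14810

/-- Let X be an integral scheme, proper over a field k, such that Γ(X, O_X) is a field, and let L be an
invertible O_X-module which is numerically trivial: its restriction to every closed subscheme of X
which is integral of dimension one has degree 0. If L has a nonzero global section (a nonzero
morphism O_X → L), then L is isomorphic to O_X. -/
theorem result (k : Type u) [Field k] (X : Scheme.{u})
    [X.Over (Spec (CommRingCat.of k))] [IsProper (X ↘ Spec (CommRingCat.of k))] [IsIntegral X]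
    (hfield : IsField (Γ(X, ⊤) : Type u)) (L : X.Modules) (hL : PicF.IsInvertible L)
    (hnum : Pic13.IsNumEquivZero k X L) (s : Coh.structureModule X ⟶ L) (hs : s ≠ 0) :
    Nonempty (L ≅ Coh.structureModule X) := by
  have hI := Groth.Agent.CurveDeg.isInvertible_structureModule (X := X)
  by_cases htop : CohB1.genLocus L s = ⊤
  · refine ⟨Iso.symm ?_⟩
    have hiso : IsIso s := by
      rw [Scheme.Modules.Hom.isIso_iff_isIso_app]
      intro V
      refine (ConcreteCategory.isIso_iff_bijective _).2 ⟨Groth.Agent.InvEnd.app_injective_of_ne_zero hI hL s hs V, fun y => ?_⟩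
      have hloc : ∀ x : X, x ∈ V → ∃ U : X.Opens, x ∈ U ∧
          Groth.Agent.InvX.IsFrame (Groth.Agent.AModX.res L (le_top : U ≤ ⊤) (Groth.Agent.InvX.one s)) :=
        fun x _ => Groth.Agent.InvX.mem_genLocus (htop.ge trivial)
      choose U hxU hU using fun x : V => hloc x.1 x.2
      have hc' : ∀ x : V, ∃ r : Γ(X, V ⊓ U x), s.app (V ⊓ U x) r =
          L.presheaf.map (homOfLE inf_le_left).op y := by
        intro x
        obtain ⟨r, hr⟩ := (hU x (V ⊓ U x) inf_le_right).2 (L.presheaf.map (homOfLE inf_le_left).op y)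
        refine ⟨r, (Groth.Agent.InvX.app_eq_smul s r).trans ?_⟩
        rw [← hr]
        simp only [Groth.Agent.AModX.res_res]
  
      choose r hr using hc'
      obtain ⟨R, hR, -⟩ := TopCat.Sheaf.existsUnique_gluing'
        (⟨(Coh.structureModule X).presheaf, (Coh.structureModule X).isSheaf⟩ : TopCat.Sheaf Ab X)
        (fun x : V => V ⊓ U x) V (fun x => homOfLE inf_le_left)
        (fun x hx => TopologicalSpace.Opens.mem_iSup.2 ⟨⟨x, hx⟩, hx, hxU _⟩) r (fun x x' => by
          apply Groth.Agent.InvEnd.app_injective_of_ne_zero hI hL s hs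
          have h1 := ConcreteCategory.congr_hom (s.mapPresheaf.naturality
            (TopologicalSpace.Opens.infLELeft (V ⊓ U x) (V ⊓ U x')).op) (r x)
          have h2 := ConcreteCategory.congr_hom (s.mapPresheaf.naturality
            (TopologicalSpace.Opens.infLERight (V ⊓ U x) (V ⊓ U x')).op) (r x')
          refine h1.trans (Eq.trans ?_ h2.symm)
          show L.presheaf.map _ (s.app _ (r x)) = L.presheaf.map _ (s.app _ (r x'))
          rw [hr, hr, ← ConcreteCategory.comp_apply, ← L.presheaf.map_comp,
            ← ConcreteCategory.comp_apply, ← L.presheaf.map_comp]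
          rfl)
      refine ⟨R, ?_⟩
      refine TopCat.Sheaf.eq_of_locally_eq' ⟨L.presheaf, L.isSheaf⟩ (fun x : V => V ⊓ U x) V
        (fun x => homOfLE inf_le_left) (fun x hx => TopologicalSpace.Opens.mem_iSup.2 ⟨⟨x, hx⟩, hx, hxU _⟩) _ _ fun x => ?_
      refine (ConcreteCategory.congr_hom (s.mapPresheaf.naturality
        (homOfLE (inf_le_left : V ⊓ U x ≤ V)).op) R).symm.trans ?_
      exact (congrArg (s.app (V ⊓ U x)) (hR x)).trans (hr x)
    exact asIso s
  exfalso
  let f := X ↘ Spec (CommRingCat.of k)
  haveI : CompactSpace X := QuasiCompact.compactSpace_of_compactSpace f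
  haveI : IsLocallyNoetherian X := LocallyOfFiniteType.isLocallyNoetherian f
  haveI : IsNoetherian X := {}
  haveI : JacobsonSpace X := LocallyOfFiniteType.jacobsonSpace f
  let W := CohB1.genLocus L s
  have hW : (W : Set X).Nonempty := by
    obtain ⟨O, ⟨⟨w, hw⟩⟩, hO⟩ := Groth.Agent.CurveDeg.exists_open_surjective hI hL s hs
    refine ⟨w, Groth.Agent.InvX.le_genLocus s (fun V hV => ?_) hw⟩
    have hb : Function.Bijective (s.app V) :=
      ⟨Groth.Agent.InvEnd.app_injective_of_ne_zero hI hL s hs V, hO V hV⟩
    have key : (s.app V : _ → _) = fun r : Γ(X, V) => r • Groth.Agent.AModX.res L (le_top : V ≤ ⊤)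
        (Groth.Agent.InvX.one s) := funext fun r => Groth.Agent.InvX.app_eq_smul s r
    rw [key] at hb
    simp only [Groth.Agent.AModX.res_res]
    exact hb
  have hne : ((W : Set X)ᶜ).Nonempty := by
    rw [Set.nonempty_compl]
    exact fun h => htop (TopologicalSpace.Opens.ext h)
  obtain ⟨z, hzW, hz⟩ := nonempty_inter_closedPoints hne W.isOpen.isClosed_compl.isLocallyClosed
  obtain ⟨Y, i, hi, hY, hdim, ⟨z', hz'⟩, w, hw⟩ := CurveThrough.exists_curve_through f hz W hW hzW
  letI : Y.Over (Spec (CommRingCat.of k)) := ⟨i ≫ f⟩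
  haveI : IsProper (Y ↘ Spec (CommRingCat.of k)) := show IsProper (i ≫ f) from inferInstance
  haveI : IsLocallyNoetherian Y := LocallyOfFiniteType.isLocallyNoetherian (i ≫ f)
  let t := (CurveBC.unitIso i).inv ≫ (Scheme.Modules.pullback i).map s
  have ht : CohB1.genLocus _ t = i ⁻¹ᵁ W := InvX.genLocus_pullback i hL s (CurveBC.unitIso i).symm
  have hL' := PicClLib.isInvertible_pullback i hL
  have hwt : w ∈ CohB1.genLocus _ t := by rw [ht]; exact hw
  have hzt : z' ∉ CohB1.genLocus _ t := by
    rw [ht]
    exact fun h => hzW (hz' ▸ h)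
  have ht0 : t ≠ 0 := fun h0 => by
    obtain ⟨U, hwU, hU⟩ := InvX.mem_genLocus hwt
    have h1 : AModX.res _ (le_top : U ≤ ⊤) (InvX.one t) = 0 := by
      rw [h0, show InvX.one (0 : Coh.structureModule Y ⟶ (Scheme.Modules.pullback i).obj L) = 0 from rfl, map_zero]
    haveI : Nonempty U := ⟨⟨w, hwU⟩⟩
    exact one_ne_zero (α := Γ(Y, U)) (hU.coord_unique le_rfl (by rw [AModX.res_self, h1, smul_zero, smul_zero]))
  have hpos : 0 < Curv2.deg k Y ((Scheme.Modules.pullback i).obj L) 1 :=
    S1519.result k Y hdim _ hL' t ht0 z' hzt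
  have h0 := hnum Y i hY hdim
  simp only [Curv2.deg, NefCurve.euler_eq k hdim.le (ProjUPX.isQCoh_of_isInvertible hL'),
    NefCurve.euler_eq k hdim.le (QCoh.isQCoh_structureModule (X := Y))] at hpos
  simp only [Pic13.curveDeg, FGA.eulerCharLE, Finset.sum_range_succ, Finset.sum_range_zero] at h0
  push_cast at hpos h0
  linarith

end Groth.Agent.S14810
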