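import Groth.Statements.S14812
import Groth.Agent.IntSym.NumEuler
import Groth.Agent.KFlatLib.Scheme.ProjLocFree
-- import your own Groth.Agent.* helpers here

set_option autoImplicit false
set_option linter.style.haveILetI false
set_option backward.isDefEq.respectTransparency false
set_option backward.isDefEq.respectTransparency.types false
set_option maxHeartbeats 800000
universe u
open CategoryTheory CategoryTheory.Limits AlgebraicGeometry
open Pic13

namespace Groth.Agent.S14812

theorem sym_of_euler (k : Type u) [Field k] {X : Scheme.{u}} [X.Over (Spec (CommRingCat.of k))]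
    [IsProper (X ↘ Spec (CommRingCat.of k))] {d : ℕ} (hd : topologicalKrullDim X ≤ (d : WithBot ℕ∞)) {L F : X.Modules}
    (hL : PicF.IsInvertible L) (hF : Coh.IsCoh F)
    (h : FGA.eulerCharLE k X (CohB1.tensorMod F L) d = FGA.eulerCharLE k X F d) : IntSym.sym k [L] F = 0 := by
  have e1 : FGA.eulerCharLE k X (CohB1.tensorMod F L) d = Curv2.euler k X (CohB1.tensorMod F L) :=
    IntSym.eulerCharLE_eq_euler k hd (KFlatLib.isQCoh_tensor hF.1 (ProjUPX.isQCoh_of_isInvertible hL))
  have e2 : FGA.eulerCharLE k X F d = Curv2.euler k X F := IntSym.eulerCharLE_eq_euler k hd hF.1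
  rw [IntSym.sym_singleton]
  exact sub_eq_zero.2 (e1.symm.trans (h.trans e2))

theorem euler_twist (k : Type u) [Field k] {X : Scheme.{u}} [X.Over (Spec (CommRingCat.of k))]
    [IsProper (X ↘ Spec (CommRingCat.of k))] {d : ℕ} (hd : topologicalKrullDim X ≤ (d : WithBot ℕ∞)) {L F : X.Modules}
    (hL : PicF.IsInvertible L) (hF : Coh.IsCoh F)
    (h : IntSym.sym k [L] F = 0) : FGA.eulerCharLE k X (CohB1.tensorMod F L) d = FGA.eulerCharLE k X F d := by
  have e1 : FGA.eulerCharLE k X (CohB1.tensorMod F L) d = Curv2.euler k X (CohB1.tensorMod F L) :=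
    IntSym.eulerCharLE_eq_euler k hd (KFlatLib.isQCoh_tensor hF.1 (ProjUPX.isQCoh_of_isInvertible hL))
  have e2 : FGA.eulerCharLE k X F d = Curv2.euler k X F := IntSym.eulerCharLE_eq_euler k hd hF.1
  rw [IntSym.sym_singleton] at h
  exact e1.trans ((sub_eq_zero.1 h).trans e2.symm)

/-- Take any field k, a proper k-scheme X and an invertible O_X-module L. Then L is numerically trivial
(degree 0 on every closed subscheme of X which is integral of dimension one) if and only if χ(F ⊗ L)
= χ(F) for every coherent O_X-module F; here χ is the alternating sum of the dimensions dim_k H^i(X,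
·) over 0 ≤ i ≤ d, for any natural number d bounding the dimension of X. The field k is not assumed
algebraically closed. -/
theorem result (k : Type u) [Field k] (X : Scheme.{u})
    [X.Over (Spec (CommRingCat.of k))] [IsProper (X ↘ Spec (CommRingCat.of k))] (L : X.Modules) (hL : PicF.IsInvertible L) :
    Pic13.IsNumEquivZero k X L ↔
      ∀ (F : X.Modules), Coh.IsCoh F → ∀ d : ℕ, topologicalKrullDim X ≤ d →
        FGA.eulerCharLE k X (CohB1.tensorMod F L) d = FGA.eulerCharLE k X F d := by
  haveI := CurveCohLib.isNoetherian_of_proper (k := k) (X := X)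
  refine ⟨fun h F hF d hd => euler_twist k hd hL hF (IntSym.sym_numTriv_eq_zero k hL h hF), fun h Z i hi hZI hZ => ?_⟩
  haveI := hi; haveI := hZI
  obtain ⟨d, hd⟩ := IntSym.exists_dim_bound k (X := X)
  rw [IntSym.curveDeg_eq k i hZ hL]
  exact sym_of_euler k hd hL (QCoh.isCoh_push_structure i) (h _ (QCoh.isCoh_push_structure i) d hd)

end Groth.Agent.S14812
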