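import Groth.Statements.S14818
import Groth.Agent.NormX.FinFlat
import Groth.Agent.NormX.Line
import Groth.Agent.TorsPic.Iso
import Groth.Agent.AmpleX.Extend
import Groth.Agent.InvX.GenLocusPull

set_option autoImplicit false
set_option backward.isDefEq.respectTransparency false
set_option backward.isDefEq.respectTransparency.types false
set_option maxHeartbeats 1000000
set_option linter.style.haveILetI false
universe u
open CategoryTheory CategoryTheory.Limits AlgebraicGeometry
open PicF

namespace Groth.Agent.S14818
open Groth.Agent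

/-- Let X be a connected locally Noetherian scheme, f : X' → X a finite locally free morphism of
constant degree d (a finite flat covering of X of degree d) and L an invertible O_X-module whose
pullback f^*L is isomorphic to O_{X'}. Then L^{⊗d} ≅ O_X; in particular L has finite order in Pic(X)
dividing the degree of f. -/
theorem result (X X' : Scheme.{u})
    [IsLocallyNoetherian X] [ConnectedSpace X] (f : X' ⟶ X) (d : ℕ) (hf : Mor2.IsFinLocFreeOfDeg d f)
    (L : X.Modules) (hL : PicF.IsInvertible L)
    (htriv : Nonempty ((Scheme.Modules.pullback f).obj L ≅ Coh.structureModule X')) :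
    Nonempty (CohB1.tensorPow L d ≅ Coh.structureModule X) := by
  classical
  rcases Nat.eq_zero_or_pos d with rfl | hd
  · exact ⟨Iso.refl _⟩
  obtain ⟨⟨hfin, hflat, hlfp⟩, hdeg⟩ := hf
  obtain ⟨N⟩ := NormX.exists_hasNorm_of_finrank f d hd hdeg
  obtain ⟨φ⟩ := htriv
  choose U hxU e he using fun x : X => InvX.exists_frame hL x
  let W := fun x => f ⁻¹ᵁ U x
  -- coordinates of the pulled back frames in the global frame
  let a : ∀ x, Γ(X', W x) := fun x =>
    φ.hom.app (W x) (InvX.pullElt f (e x))
  have hau : ∀ x, IsUnit (a x) := fun x => by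
    obtain ⟨r, hr⟩ := (InvX.IsFrame.map_iso φ (InvX.isFrame_pullElt f (he x))).exists_coord le_rfl
      (show Γ(Coh.structureModule X', W x) from (1 : Γ(X', W x)))
    rw [AModX.res_self] at hr
    exact IsUnit.of_mul_eq_one r ((mul_comm _ _).trans hr.symm)
  let n : ∀ x, Γ(Coh.structureModule X, U x) := fun x => N.norm (U x) (a x)
  refine TorsPic.nonempty_iso_of_frames U (fun x => ⟨x, hxU x⟩) (fun x => AmpleX.powElt (e x) d)
    (fun x => AmpleX.isFrame_powElt (he x) d) n (fun x => ?_) fun x y V hx hy g hg => ?_
  · obtain ⟨w, hw⟩ : IsUnit (N.norm (U x) (a x)) := (hau x).map _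
    have h1 := (InvX.isFrame_one (U x)).isUnit_smul w.isUnit
    have h2 : ((w : Γ(X, U x)) • (show Γ(Coh.structureModule X, U x) from (1 : Γ(X, U x)))) = n x :=
      (show (w : Γ(X, U x)) * (1 : Γ(X, U x)) = N.norm (U x) (a x) from (_root_.mul_one _).trans hw)
    rwa [h2] at h1
  · obtain ⟨k, hk⟩ := (he x).exists_coord hx (AModX.res L hy (e y))
    have hkg : k ^ d = g := by
      refine (AmpleX.isFrame_powElt (he x) d).coord_unique hx ?_
      rw [← hg, AmpleX.res_powElt, AmpleX.res_powElt, hk, AmpleX.powElt_smul]
    have h1 := congrArg (fun z => φ.hom.app (f ⁻¹ᵁ V) (InvX.pullElt f z)) hk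
    simp only [InvX.pullElt_smul, ← InvX.res_pullElt, Scheme.Modules.Hom.app_smul, AModX.app_res] at h1
    have hn : ∀ (x : X) (hx : V ≤ U x), AModX.resR hx (N.norm (U x) (a x)) =
        N.norm V (AModX.resR (f.preimage_mono hx) (a x)) := fun x hx => N.norm_res (homOfLE hx) (a x)
    show AModX.resR hy (N.norm (U y) (a y)) = g * AModX.resR hx (N.norm (U x) (a x))
    rw [hn, hn, ← hkg, ← N.norm_app V k, ← map_mul]
    exact congrArg _ h1

end Groth.Agent.S14818
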