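import Groth.Statements.S14819
import Groth.Agent.TorsPic.EtaleRoot
import Groth.Agent.H23.PicMul

set_option autoImplicit false
set_option backward.isDefEq.respectTransparency false
set_option backward.isDefEq.respectTransparency.types false
set_option maxHeartbeats 1000000
set_option linter.style.haveILetI false
universe u
open CategoryTheory CategoryTheory.Limits AlgebraicGeometry
open PicF

namespace Groth.Agent.S14819
open Groth.Agent

/-- Let X be an integral Noetherian scheme which is normal (all local rings integrally closed domains)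
and whose ring of global functions Γ(X, O_X) is a field of characteristic p > 0; let L be an
invertible O_X-module of exact order d in Pic(X), i.e. L^{⊗d} ≅ O_X with d ≥ 1 and L^{⊗i} not
isomorphic to O_X for 0 < i < d, and suppose p divides d. Let X' be a connected scheme such that
every unit of Γ(X', O_{X'}) has a p-th root. Then no finite étale morphism f : X' → X (a finite
étale covering of X by X') satisfies f^*L ≅ O_{X'}. -/
theorem result (X X' : Scheme.{u})
    [IsIntegral X] [IsNoetherian X] (hnorm : Pi1.IsNormalScheme X)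
    (hfield : IsField (Γ(X, ⊤) : Type u)) (p : ℕ) [Fact (Nat.Prime p)] [CharP (Γ(X, ⊤) : Type u) p]
    (L : X.Modules) (hL : PicF.IsInvertible L) (d : ℕ) (hd : 0 < d)
    (hord : Nonempty (CohB1.tensorPow L d ≅ Coh.structureModule X))
    (hmin : ∀ i : ℕ, 0 < i → i < d → IsEmpty (CohB1.tensorPow L i ≅ Coh.structureModule X))
    (hpd : p ∣ d) [ConnectedSpace X']
    (hroot : ∀ u : (Γ(X', ⊤) : Type u), IsUnit u → ∃ v : (Γ(X', ⊤) : Type u), v ^ p = u)
    (f : X' ⟶ X) [IsFinite f] [Etale f] :
    IsEmpty ((Scheme.Modules.pullback f).obj L ≅ Coh.structureModule X') := by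
  refine ⟨fun ψ => ?_⟩
  open scoped Groth.Agent.H23.PicMul in
  · obtain ⟨m, rfl⟩ := hpd
    have hp : p.Prime := Fact.out
    have hm : 0 < m := Nat.pos_of_mul_pos_left hd
    let M := CohB1.tensorPow L m
    have hM : PicF.IsInvertible M := Groth.Agent.H23.PicMul.isInvertible_tensorPow hL m
    have h1 := (PicGrp.cl_eq_cl_iff _ _).2 hord
    rw [H23.PicMul.cl_tensorPow, mul_comm p m, pow_mul, ← H23.PicMul.cl_tensorPow,
      ← H23.PicMul.cl_tensorPow] at h1
    obtain ⟨θ⟩ := (PicGrp.cl_eq_cl_iff _ _).1 h1
    have h2 : PicF.pullCl f (PicF.cl L) = 1 := (PicGrp.cl_eq_cl_iff _ _).2 ⟨ψ⟩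
    have h3 : PicF.cl ((Scheme.Modules.pullback f).obj M) = PicF.cl (Coh.structureModule X') := by
      show PicF.pullCl f (PicF.cl (CohB1.tensorPow L m)) = _
      rw [H23.PicMul.cl_tensorPow, H23.PicMul.pullCl_pow, h2, one_pow]
      rfl
    obtain ⟨ψ'⟩ := (PicGrp.cl_eq_cl_iff _ _).1 h3
    haveI : Surjective f := ⟨Set.range_eq_univ.1 (IsClopen.eq_univ ⟨f.isClosedMap.isClosed_range,
      f.isOpenMap.isOpen_range⟩ (Set.range_nonempty _))⟩
    obtain ⟨e⟩ := TorsPic.nonempty_iso_of_etale_triv hnorm p hfield M hM θ hroot f ψ'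
    exact (hmin m hm (by nlinarith [hp.two_le])).false e

end Groth.Agent.S14819
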