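import Groth.Statements.S14831
import Groth.Agent.RootCover.OfFrames
import Groth.Agent.RootCover.Additive
import Groth.Agent.S14818
import Groth.Prelude.Def_PicLoc

set_option autoImplicit false
set_option backward.isDefEq.respectTransparency false
set_option backward.isDefEq.respectTransparency.types false
set_option linter.style.haveILetI false
set_option backward.isDefEq.respectTransparency false
set_option backward.isDefEq.respectTransparency.types false
set_option maxHeartbeats 1000000
set_option linter.style.haveILetI false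
universe u
open CategoryTheory CategoryTheory.Limits AlgebraicGeometry
open PicF

namespace Groth.Agent.S14831
open Groth.Agent

/-- Let X be an integral Noetherian scheme such that Γ(X, O_X) is a field, and L an invertible
O_X-module of exact order d ≥ 1 in Pic(X) (L^{⊗d} ≅ O_X and L^{⊗i} ≇ O_X for 0 < i < d). Then there
are a connected scheme X' and a finite locally free morphism g : X' → X of constant degree d (a
finite flat covering of degree d) with g^*L ≅ O_{X'}; if moreover d is invertible in Γ(X, O_X), such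
a g exists which is in addition étale. (The published proof constructs g as the spectrum of the
O_X-algebra O_X ⊕ L^{−1} ⊕ ⋯ ⊕ L^{−(d−1)}; this row states only existence.) -/
theorem result (X : Scheme.{u}) [IsIntegral X] [IsNoetherian X]
    (hfield : IsField (Γ(X, ⊤) : Type u)) (L : X.Modules) (hL : PicF.IsInvertible L) (d : ℕ) (hd : 0 < d)
    (hord : Nonempty (CohB1.tensorPow L d ≅ Coh.structureModule X))
    (hmin : ∀ i : ℕ, 0 < i → i < d → IsEmpty (CohB1.tensorPow L i ≅ Coh.structureModule X)) :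
    (∃ (X' : Scheme.{u}) (g : X' ⟶ X), ConnectedSpace ↥X' ∧ Mor2.IsFinLocFreeOfDeg d g ∧
        Nonempty ((Scheme.Modules.pullback g).obj L ≅ Coh.structureModule X')) ∧
      (IsUnit ((d : ℕ) : (Γ(X, ⊤) : Type u)) →
        ∃ (X' : Scheme.{u}) (g : X' ⟶ X), ConnectedSpace ↥X' ∧ Mor2.IsFinLocFreeOfDeg d g ∧ Etale g ∧
          Nonempty ((Scheme.Modules.pullback g).obj L ≅ Coh.structureModule X')) := by
  obtain ⟨θ⟩ := hord
  obtain ⟨X', g, hg, het, htriv⟩ := RootCover.exists_cover L hL d hd θ
  suffices hc : ConnectedSpace ↥X' from ⟨⟨X', g, hc, hg, htriv⟩, fun hu => ⟨X', g, hc, hg, het hu, htriv⟩⟩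
  obtain ⟨⟨hfin, hflat, hlfp⟩, hdeg⟩ := hg
  obtain ⟨φ⟩ := htriv
  haveI : Nonempty X' := by
    obtain ⟨y⟩ : Nonempty X := inferInstance
    have h1 : Surjective g := (Scheme.Hom.one_le_finrank_iff_surjective g).1 fun z => by
      show 1 ≤ g.finrank z
      rw [hdeg]
      exact hd
    exact ⟨(g.surjective y).choose⟩
  haveI : PreconnectedSpace X' := preconnectedSpace_iff_clopen.2 fun s hs => by
    by_contra hne
    rw [not_or, ← Ne, ← Ne, ← Set.nonempty_iff_ne_empty, ← Set.nonempty_compl] at hne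
    let Z₁ : X'.Opens := ⟨s, hs.isOpen⟩
    let Z₂ : X'.Opens := ⟨sᶜ, hs.compl.isOpen⟩
    have key : ∀ Z : X'.Opens, IsClosed (Z : Set X') → (Z : Set X').Nonempty →
        ∃ (_ : IsFinite (Z.ι ≫ g)) (n : ℕ), 0 < n ∧ (∀ y, (Z.ι ≫ g).finrank y = n) ∧
          Nonempty (CohB1.tensorPow L n ≅ Coh.structureModule X) := by
      intro Z hZ hne
      haveI : IsClosedImmersion Z.ι :=
        IsClosedImmersion.of_isPreimmersion _ (by rw [Scheme.Opens.range_ι]; exact hZ)
      haveI : IsFinite (Z.ι ≫ g) := inferInstance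
      haveI : Flat (Z.ι ≫ g) := inferInstance
      haveI : LocallyOfFinitePresentation (Z.ι ≫ g) := inferInstance
      obtain ⟨z, hz⟩ := hne
      let y := (Z.ι ≫ g) ⟨z, hz⟩
      have hconst : ∀ y', (Z.ι ≫ g).finrank y' = (Z.ι ≫ g).finrank y := fun y' =>
        (Scheme.Hom.isLocallyConstant_finrank (Z.ι ≫ g)).apply_eq_of_preconnectedSpace y' y
      refine ⟨inferInstance, _, Scheme.Hom.one_le_finrank_map (Z.ι ≫ g) ⟨z, hz⟩, hconst, ?_⟩
      refine S14818.result X Z.toScheme (Z.ι ≫ g) _ ⟨⟨inferInstance, inferInstance, inferInstance⟩, hconst⟩ L hL ?_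
      exact ⟨((Scheme.Modules.pullbackComp Z.ι g).app L).symm ≪≫ (Scheme.Modules.pullback Z.ι).mapIso φ ≪≫
        PicLoc.pullbackStructureIso Z.ι⟩
    obtain ⟨i₁, n₁, hn₁, hd₁, ⟨e₁⟩⟩ := key Z₁ hs.isClosed hne.1
    obtain ⟨i₂, n₂, hn₂, hd₂, -⟩ := key Z₂ hs.compl.isClosed hne.2
    obtain ⟨y⟩ : Nonempty X := inferInstance
    have hsum : d = n₁ + n₂ := by
      rw [← hdeg y, ← hd₁ y, ← hd₂ y]
      exact RootCover.finrank_eq_add g Z₁ Z₂ (fun z hz => hz.2 hz.1)
        (fun z _ => Classical.em (z ∈ s)) y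
    exact (hmin n₁ hn₁ (by omega)).false e₁
  exact ⟨inferInstance⟩

end Groth.Agent.S14831
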