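import Groth.Statements.S14835
import Groth.Agent.GenusLe.Basic
import Groth.Agent.S1585
import Groth.Agent.GenusMono.Basic
import Groth.Agent.CurveBC.FiniteDim
import Groth.Agent.FlatLoc6.SerreNormal
import Groth.Agent.CurveCohLib.SubBundle
import Groth.Agent.CurveCohLib.RegularCurve
import Groth.Agent.NormCurve.Scheme
import Groth.Agent.CurveEmbed.Equiv
-- import your own Groth.Agent.* helpers here

set_option autoImplicit false
set_option backward.isDefEq.respectTransparency false
set_option backward.isDefEq.respectTransparency.types false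
set_option linter.style.haveILetI false
set_option maxHeartbeats 1000000
universe u
open CategoryTheory CategoryTheory.Limits AlgebraicGeometry
open Curves

namespace Groth.Agent.S14835
open Groth.Agent

/-- Let k be an algebraically closed field, C and B proper curves over k (proper k-schemes of dimension
one) with B connected and regular (all local rings regular), φ : C → B a k-morphism, and ι : C_i → C
a closed integral one-dimensional subscheme (an integral component) such that the composite C_i → B
is finite. Then dim_k H^1(C, O_C) ≥ dim_k H^1(C_i, O_{C_i}) ≥ dim_k H^1(B, O_B). -/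
theorem result (k : Type u) [Field k] [IsAlgClosed k]
    (C B Ci : Scheme.{u}) [C.Over (Spec (CommRingCat.of k))] [B.Over (Spec (CommRingCat.of k))] [Ci.Over (Spec (CommRingCat.of k))]
    [IsProper (C ↘ Spec (CommRingCat.of k))] [IsProper (B ↘ Spec (CommRingCat.of k))]
    (hC : topologicalKrullDim ↥C = 1) (hB : topologicalKrullDim ↥B = 1) [ConnectedSpace ↥B]
    (hBreg : ∀ b : B, IsRegularLocalRing (B.presheaf.stalk b))
    (φ : C ⟶ B) (hφ : φ ≫ (B ↘ Spec (CommRingCat.of k)) = C ↘ Spec (CommRingCat.of k))
    (ι : Ci ⟶ C) [IsClosedImmersion ι] [IsIntegral Ci] (hCi : topologicalKrullDim ↥Ci = 1)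
    (hι : ι ≫ (C ↘ Spec (CommRingCat.of k)) = Ci ↘ Spec (CommRingCat.of k)) [IsFinite (ι ≫ φ)] :
    Module.finrank k (Coh.HH Ci (Coh.structureModule Ci) 1) ≤ Module.finrank k (Coh.HH C (Coh.structureModule C) 1) ∧
      Module.finrank k (Coh.HH B (Coh.structureModule B) 1) ≤ Module.finrank k (Coh.HH Ci (Coh.structureModule Ci) 1) := by
  haveI : IsLocallyNoetherian B := LocallyOfFiniteType.isLocallyNoetherian (B ↘ Spec (CommRingCat.of k))
  haveI := CurveCohLib.isNoetherian_of_proper (k := k) (X := B)
  haveI : IsIntegral B := CurveEmbed.isIntegral_of_normal_connected (X := B) fun b => by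
    haveI := hBreg b
    haveI := RegLoc6.isDomain_of_isRegularLocalRing (B.presheaf.stalk b)
    exact ⟨inferInstance, RegLoc6.isIntegrallyClosed_of_isRegularLocalRing _⟩
  haveI : IsProper (Ci ↘ Spec (CommRingCat.of k)) := by rw [← hι]; infer_instance
  haveI : IsLocallyNoetherian Ci := LocallyOfFiniteType.isLocallyNoetherian (Ci ↘ Spec (CommRingCat.of k))
  haveI := CurveCohLib.isNoetherian_of_proper (k := k) (X := Ci)
  refine ⟨GenusLe.genus_le k hC.le ι hι ⊤ dense_univ inferInstance, ?_⟩
  haveI : QuasiCompact (Ci.fromSpecStalk (genericPoint Ci)) := inferInstance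
  haveI : QuasiSeparated (Ci.fromSpecStalk (genericPoint Ci)) := inferInstance
  obtain ⟨hfin, hdom, ⟨V, hV, hiso⟩, hint, hnorm⟩ := S1585.result k Ci
  haveI := hfin
  haveI := hdom
  haveI := hiso
  haveI := hint
  letI : (Curv2.normalization Ci).Over (Spec (CommRingCat.of k)) :=
    ⟨Curv2.normalizationι Ci ≫ (Ci ↘ Spec (CommRingCat.of k))⟩
  haveI : IsProper (Curv2.normalization Ci ↘ Spec (CommRingCat.of k)) :=
    inferInstanceAs (IsProper (Curv2.normalizationι Ci ≫ (Ci ↘ Spec (CommRingCat.of k))))
  have hle : Curv2.genus k (Curv2.normalization Ci) ≤ Curv2.genus k Ci :=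
    GenusLe.genus_le k hCi.le (Curv2.normalizationι Ci) rfl V (V.2.dense hV) inferInstance
  haveI : Surjective (Curv2.normalizationι Ci) := ⟨fun z =>
    ((Curv2.normalizationι Ci).isClosedMap.isClosed_range.closure_eq ▸ hdom.denseRange z :
      z ∈ Set.range (Curv2.normalizationι Ci))⟩
  have hdN : topologicalKrullDim ↥(Curv2.normalization Ci) = 1 :=
    CurveBC.topologicalKrullDim_finite_cover (Curv2.normalizationι Ci) hCi
  haveI := NormCurve.isLocallyNoetherian_normalization Ci hCi.le
  haveI : Smooth (Curv2.normalization Ci ↘ Spec (CommRingCat.of k)) :=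
    CurveCohLib.RegularCurve.smooth_of_regular k fun y _ => by
      haveI := (hnorm y).1
      haveI := (hnorm y).2
      exact FlatLoc6.regular_of_normal _ ((CurveCohLib.ringKrullDim_stalk_le_topologicalKrullDim y).trans hdN.le)
  haveI : Smooth (B ↘ Spec (CommRingCat.of k)) :=
    CurveCohLib.RegularCurve.smooth_of_regular k fun b _ => hBreg b
  exact (GenusMono.genus_le_of_finite (Curv2.normalization Ci ↘ Spec (CommRingCat.of k))
    (B ↘ Spec (CommRingCat.of k)) hdN hB (Curv2.normalizationι Ci ≫ ι ≫ φ)
    (by rw [Category.assoc, Category.assoc, hφ, hι]; rfl)).trans hle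

end Groth.Agent.S14835
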