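import Groth.Statements.S14837
import Groth.Agent.LerayOne.Edge
import Groth.Agent.FibVanNN.TopDegree
import Groth.Agent.CurveCohLib.Proper
import Groth.Agent.H23.PullPush
import Groth.Agent.QCoh.DevissageP

set_option autoImplicit false
universe u
open CategoryTheory CategoryTheory.Limits AlgebraicGeometry
open Coh

namespace Groth.Agent.S14837
set_option backward.isDefEq.respectTransparency false
set_option backward.isDefEq.respectTransparency.types false
set_option linter.style.haveILetI false
set_option maxHeartbeats 800000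
open AlgebraicGeometry CategoryTheory CategoryTheory.Limits Opposite

/-- Let k be a field and f : X → Y a k-morphism between proper k-schemes which is a fibration (Γ(V, O_Y)
→ Γ(f⁻¹V, O_X) bijective for every open V ⊆ Y). Then H^1(Y, O_Y) injects naturally into H^1(X, O_X)
(edge map of the Leray spectral sequence); stated here as the inequality dim_k H^1(Y, O_Y) ≤ dim_k
H^1(X, O_X) of finite dimensions. -/
theorem result (k : Type u) [Field k] (X Y : Scheme.{u})
    [X.Over (Spec (CommRingCat.of k))] [Y.Over (Spec (CommRingCat.of k))] [IsProper (X ↘ Spec (CommRingCat.of k))] [IsProper (Y ↘ Spec (CommRingCat.of k))]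
    (f : X ⟶ Y) (hf : f ≫ (Y ↘ Spec (CommRingCat.of k)) = X ↘ Spec (CommRingCat.of k)) (hfib : ∀ V : Y.Opens, IsIso (f.app V)) :
    Module.finrank k (Coh.HH Y (Coh.structureModule Y) 1) ≤ Module.finrank k (Coh.HH X (Coh.structureModule X) 1) := by
  classical
  haveI := CurveCohLib.isNoetherian_of_proper (k := k) (X := X)
  haveI := CurveCohLib.isNoetherian_of_proper (k := k) (X := Y)
  haveI : Module.Finite k (Coh.HH X (Coh.structureModule X) 1) :=
    CurveCohLib.finite_HH QCoh.isCoh_structureModule' 1
  have hb : ∀ V : Y.Opens, Function.Bijective (f.app V) := fun V =>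
    (ConcreteCategory.isIso_iff_bijective _).1 (hfib V)
  let e := H23.PullPush.structureModuleIsoPush f hb
  let l₀ : Coh.HH Y (Coh.structureModule Y) 1 →+ Coh.HH X (Coh.structureModule X) 1 :=
    (CohPull.pushEdge f (Coh.structureModule X) 1).comp (CohPull.mapH e.hom 1)
  have hl : ∀ (r : k) x, l₀ (r • x) = r • l₀ x := fun r x => by
    show CohPull.pushEdge f _ 1 (CohPull.mapH _ 1 (CohPull.mapH (Formal.smulMod k (Coh.structureModule Y) r) 1 x)) =
      CohPull.mapH (Formal.smulMod k (Coh.structureModule X) r) 1 (CohPull.pushEdge f _ 1 (CohPull.mapH _ 1 x))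
    rw [← FibVanNN.pushEdge_natural, ← Sheaf.H.map_comp_apply, ← Sheaf.H.map_comp_apply, ← Functor.map_comp,
      ← Functor.map_comp]
    congr 4
    refine Scheme.Modules.hom_ext _ _ fun U => ?_
    ext m
    refine (Scheme.Modules.Hom.app_smul e.hom
      (show Γ(Y, U) from Coh.resTop Y (op U) (Coh.toGlobal (Y ↘ Spec (CommRingCat.of k)) r)) m).trans ?_
    refine congrArg (fun c : Γ(X, f ⁻¹ᵁ U) => c • (show Γ(Coh.structureModule X, f ⁻¹ᵁ U) from e.hom.app U m)) ?_
    refine (QCoh.app_topRes f U _).trans ?_
    rw [← QCoh.toGlobal_comm (Y ↘ Spec (CommRingCat.of k)) (X ↘ Spec (CommRingCat.of k)) f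
      (by rw [hf]; simp)]
    rfl
  let l : Coh.HH Y (Coh.structureModule Y) 1 →ₗ[k] Coh.HH X (Coh.structureModule X) 1 :=
    { toFun := l₀, map_add' := map_add l₀, map_smul' := hl }
  refine LinearMap.finrank_le_finrank_of_injective (f := l) ?_
  exact (LerayOne.pushEdge_injective_one f _).comp
    (CohPullLib.map_bijective_of_isIso ((SheafOfModules.toSheaf Y.ringCatSheaf).map e.hom) 1).1

end Groth.Agent.S14837
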