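import Groth.Statements.S14862
import Groth.Agent.H1WittClosed.Basic

set_option autoImplicit false
universe u
open CAlg

namespace Groth.Agent.S14862

/-- Let p be a prime and S a commutative ring without p-torsion which is complete and separated for the
p-adic topology; write W = W(S) for the p-typical Witt vectors, I_r ⊆ W for the ideal of Witt
vectors whose first r components vanish (the image of the r-th iterate of the Verschiebung) and
W(p^s S) ⊆ W for the ideal of Witt vectors all of whose components lie in p^s S (the kernel of W(S)
→ W(S/p^s S)). Then for every natural number u the ideal p^u W is closed for the linear topology on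
W in which the ideals I_r + W(p^s S) form a neighbourhood basis of zero: the intersection over all r
and s of p^u W + I_r + W(p^s S) equals p^u W. (The published statement asks only that S have no
p-torsion; S is moreover taken p-adically complete and separated here, the case in which the result
is applied and through which the published proof goes.) -/
theorem result (p : ℕ) [Fact p.Prime] (S : Type u) [CommRing S]
    (hS : ∀ y : S, (p : S) * y = 0 → y = 0) [IsAdicComplete (Ideal.span {(p : S)}) S] (u : ℕ) :
    (⨅ r : ℕ, ⨅ s : ℕ,
        Ideal.span {(p : WittVector p S) ^ u} ⊔ RingHom.ker (WittVector.truncate (p := p) (R := S) r) ⊔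
          RingHom.ker (WittVector.map (p := p) (Ideal.Quotient.mk (Ideal.span {(p : S) ^ s})))) =
      Ideal.span {(p : WittVector p S) ^ u} := by
  refine le_antisymm (fun a ha => ?_) (le_iInf fun r => le_iInf fun s => le_sup_of_le_left le_sup_left)
  refine Exists.elim (H1WittClosed.exists_solution_of_closed hS a u fun r s => ?_)
    fun x hx => Ideal.mem_span_singleton.2 ⟨x, hx.symm⟩
  simp only [Ideal.mem_iInf] at ha
  obtain ⟨y, hy, w, hw, e⟩ := Submodule.mem_sup.1 (ha r s)
  obtain ⟨y₁, hy₁, v, hv, rfl⟩ := Submodule.mem_sup.1 hy
  obtain ⟨z, rfl⟩ := Ideal.mem_span_singleton'.1 hy₁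
  refine ⟨z, ?_⟩
  have hv' : v ∈ H1WittClosed.K p S r s := H1WittClosed.mem_K.2 fun i hi => by
    rw [(WittVector.mem_ker_truncate r v).1 hv i hi]; exact Ideal.zero_mem _
  have hw' : w ∈ H1WittClosed.K p S r s := by
    refine RingHom.mem_ker.2 ?_
    rw [RingHom.comp_apply, RingHom.mem_ker.1 hw, map_zero]
  have : (p : WittVector p S) ^ u * z - a = -(v + w) := by rw [← e]; ring
  rw [this]
  exact neg_mem (add_mem hv' hw')

end Groth.Agent.S14862
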