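import Groth.Statements.S14864
import Mathlib

set_option autoImplicit false
universe u
open CAlg

namespace Groth.Agent.S14864

/-- Let p be a prime and R a commutative ring in which p is nilpotent; write W = W(R) for the p-typical
Witt vectors, I ⊆ W for the kernel of the projection onto the zeroth component, and I_n ⊆ W for the
kernel of the truncation W → W_n(R). The p-adic topology on W equals its I-adic topology — every
power of the ideal pW contains some power of I and every power of I contains some power of pW — and
this common topology is finer than the V-adic one: every I_n contains some power of pW. -/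
theorem result (p : ℕ) [Fact p.Prime] (R : Type u) [CommRing R]
    (hp : IsNilpotent (p : R)) :
    (∀ n : ℕ, ∃ m : ℕ, (RingHom.ker (WittVector.constantCoeff : WittVector p R →+* R)) ^ m ≤ Ideal.span {(p : WittVector p R)} ^ n) ∧
      (∀ n : ℕ, ∃ m : ℕ, Ideal.span {(p : WittVector p R)} ^ m ≤ (RingHom.ker (WittVector.constantCoeff : WittVector p R →+* R)) ^ n) ∧
        ∀ n : ℕ, ∃ m : ℕ, Ideal.span {(p : WittVector p R)} ^ m ≤ RingHom.ker (WittVector.truncate (p := p) (R := R) n) := by
  classical
  let W := WittVector p R
  let I : Ideal W := RingHom.ker (WittVector.constantCoeff : WittVector p R →+* R)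
  have hI : ∀ x : W, x ∈ I ↔ ∃ w, x = WittVector.verschiebung w := by
    intro x
    constructor
    · intro hx
      refine ⟨x.shift 1, ?_⟩
      have h0 : x.shift 0 = x := WittVector.ext fun i => by rw [WittVector.shift_coeff, zero_add]
      refine h0.symm.trans (WittVector.verschiebung_shift x 0 fun i hi => ?_).symm
      rw [Nat.lt_one_iff.1 hi]
      exact hx
    · rintro ⟨w, rfl⟩
      exact WittVector.verschiebung_coeff_zero w
  have hF : ∀ k : ℕ, WittVector.frobenius ((p : W) ^ k) = (p : W) ^ k := fun k => by rw [map_pow, map_natCast]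
  have hVV : ∀ a b : W, WittVector.verschiebung a * WittVector.verschiebung b =
      (p : W) * WittVector.verschiebung (a * b) := by
    intro a b
    rw [← WittVector.verschiebung_mul_frobenius, WittVector.frobenius_verschiebung, ← mul_assoc, mul_comm (p : W)]
    calc WittVector.verschiebung (a * b * (p : W))
        = WittVector.verschiebung (a * b * WittVector.frobenius (p : W)) := by rw [map_natCast]
      _ = _ := WittVector.verschiebung_mul_frobenius _ _
  have h1 : ∀ m : ℕ, I ^ (m + 1) ≤ Ideal.span {(p : W)} ^ m * I := by
    intro m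
    induction m with
    | zero => simp
    | succ m ih =>
      rw [pow_succ I]
      refine (Ideal.mul_mono_left ih).trans ?_
      rw [mul_assoc, pow_succ (Ideal.span {(p : W)}), mul_assoc]
      refine Ideal.mul_mono_right (Ideal.mul_le.2 fun x hx y hy => ?_)
      obtain ⟨a, rfl⟩ := (hI x).1 hx
      obtain ⟨b, rfl⟩ := (hI y).1 hy
      rw [hVV]
      exact Ideal.mul_mem_mul (Ideal.mem_span_singleton_self _) ((hI _).2 ⟨_, rfl⟩)
  obtain ⟨e, he⟩ := hp
  have hpI : (p : W) ^ e ∈ I := by
    show WittVector.constantCoeff ((p : W) ^ e) = 0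
    rw [map_pow, map_natCast, he]
  refine ⟨fun n => ⟨n + 1, (h1 n).trans Ideal.mul_le_left⟩, fun n => ⟨e * n, ?_⟩, fun n => ⟨e * n, ?_⟩⟩
  · rw [pow_mul, Ideal.span_singleton_pow]
    exact Ideal.pow_right_mono ((Ideal.span_singleton_le_iff_mem _).2 hpI) n
  · rw [Ideal.span_singleton_pow, Ideal.span_singleton_le_iff_mem, WittVector.mem_ker_truncate]
    obtain ⟨w, hw⟩ := (hI _).1 hpI
    have key : ∀ j : ℕ, ∃ z : W, (p : W) ^ (e * j) = WittVector.verschiebung^[j] z := by
      intro j
      induction j with
      | zero => exact ⟨1, by simp⟩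
      | succ j ih =>
        obtain ⟨z, hz⟩ := ih
        have hFj : ∀ j : ℕ, WittVector.frobenius^[j] ((p : W) ^ e) = (p : W) ^ e := fun j =>
          Function.iterate_fixed (hF e) j
        refine ⟨w * WittVector.frobenius z, ?_⟩
        rw [Nat.mul_succ, pow_add, hz, WittVector.iterate_verschiebung_mul_left, hFj, mul_comm, hw,
          ← WittVector.verschiebung_mul_frobenius, ← Function.iterate_succ_apply]
    obtain ⟨z, hz⟩ := key n
    intro i hi
    rw [hz, WittVector.iterate_verschiebung_coeff_eq_zero z hi]

end Groth.Agent.S14864
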