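import Groth.Statements.S14875
import Groth.Agent.PLieLib.Ideals

set_option autoImplicit false
universe u v
open PLie

namespace Groth.Agent.S14875

/-- Let `L` be a finite-dimensional Lie algebra over a field of characteristic `p` equipped with a
`p`-mapping `φ`, whose Killing form is non-degenerate. Let `U` and `H` be Lie subalgebras of `L`
such that `H` is the normaliser of `U`, `U` is the set of elements of `H` that lie in the solvable
radical of `H` and are `p`-nilpotent, and the orthogonal of `U` for the Killing form is closed under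
the bracket. Then `U` is the orthogonal of `H` for the Killing form. (The published statement is for
the Lie algebra of a reductive group over a field of characteristic `p` with its canonical
`p`-structure; this row states it for any finite-dimensional Lie algebra with a `p`-mapping.) -/
theorem result
    (k : Type u) [Field k] (p : ℕ) [Fact p.Prime] [CharP k p]
    (L : Type v) [LieRing L] [LieAlgebra k L] [Module.Finite k L]
    (φ : PLie.PMap k p L) (hκ : (killingForm k L).Nondegenerate)
    (U H : LieSubalgebra k L) (hH : H = U.normalizer)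
    (hU : ∀ x : L, x ∈ U ↔ ∃ hx : x ∈ H, (⟨x, hx⟩ : ↥H) ∈ LieAlgebra.radical k ↥H ∧ PLie.IsPNilpotent φ x)
    (hperp : ∀ a b : L, (∀ y ∈ U, killingForm k L a y = 0) → (∀ y ∈ U, killingForm k L b y = 0) →
      ∀ y ∈ U, killingForm k L ⁅a, b⁆ y = 0) :
    ∀ x : L, x ∈ U ↔ ∀ h ∈ H, killingForm k L h x = 0 := by
  have : IsNoetherian k L := inferInstance
  -- `U` acts nilpotently on `L`
  have hnil : LieModule.IsNilpotent U L := by
    rw [LieModule.isNilpotent_iff_forall (R := k)]
    intro x
    obtain ⟨_, -, n, hn⟩ := (hU x).1 x.2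
    refine ⟨p ^ n, ?_⟩
    show (LieAlgebra.ad k L (x : L)) ^ p ^ n = 0
    rw [← Groth.Agent.PLieLib.ad_iterate φ, hn, map_zero]
  have hHU : ∀ h ∈ H, ∀ u ∈ U, ⁅h, u⁆ ∈ U := fun h hh => by
    rw [hH, LieSubalgebra.mem_normalizer_iff] at hh
    exact hh
  have hUH : ∀ u ∈ U, u ∈ H := fun u hu => ((hU u).1 hu).1
  -- the trace form vanishes on `H × U`
  have htr : ∀ h ∈ H, ∀ u ∈ U, killingForm k L h u = 0 := by
    intro h hh u hu
    have hstab : ∀ i : ℕ, ∀ m ∈ LieModule.lowerCentralSeries k U L i, ∀ y ∈ H,
        ⁅y, m⁆ ∈ LieModule.lowerCentralSeries k U L i := by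
      intro i
      induction i with
      | zero => intro m _ y _; simp
      | succ i ih =>
        intro m hm y hy
        rw [LieModule.lowerCentralSeries_succ, ← LieSubmodule.mem_toSubmodule,
          LieSubmodule.lieIdeal_oper_eq_linear_span'] at hm ⊢
        induction hm using Submodule.span_induction with
        | mem z hz =>
          obtain ⟨a, -, b, hb, rfl⟩ := hz
          rw [show ⁅y, ⁅a, b⁆⁆ = ⁅(⟨⁅y, (a : L)⁆, hHU y hy a a.2⟩ : U), b⁆ + ⁅a, ⁅y, b⁆⁆ from leibniz_lie y (a : L) b]
          exact add_mem (Submodule.subset_span ⟨_, LieSubmodule.mem_top _, b, hb, rfl⟩)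
            (Submodule.subset_span ⟨a, LieSubmodule.mem_top _, _, ih b hb y hy, rfl⟩)
        | zero => rw [lie_zero]; exact zero_mem _
        | add z w _ _ hz hw => rw [lie_add]; exact add_mem hz hw
        | smul c z _ hz => rw [lie_smul]; exact Submodule.smul_mem _ c hz
    obtain ⟨N, hN⟩ := (LieModule.isNilpotent_iff k U L).1 hnil
    have hstep : ∀ (i : ℕ) (m : L),
        ((LieAlgebra.ad k L h ∘ₗ LieAlgebra.ad k L u) ^ i) m ∈ LieModule.lowerCentralSeries k U L i := by
      intro i
      induction i with
      | zero => intro m; simp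
      | succ i ih =>
        intro m
        rw [pow_succ', Module.End.mul_apply]
        refine hstab (i + 1) _ ?_ h hh
        rw [LieModule.lowerCentralSeries_succ]
        exact LieSubmodule.lie_mem_lie (LieSubmodule.mem_top (⟨u, hu⟩ : U)) (ih m)
    have hn : IsNilpotent (LieAlgebra.ad k L h ∘ₗ LieAlgebra.ad k L u) := ⟨N, LinearMap.ext fun m => by
      have h1 := hstep N m
      rw [hN, LieSubmodule.mem_bot] at h1
      exact h1⟩
    rw [killingForm, LieModule.traceForm_apply_apply]
    exact (LinearMap.isNilpotent_trace_of_isNilpotent hn).eq_zero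
  -- the orthogonal of `U` is `H`
  let B := killingForm k L
  have hsymm : ∀ a b : L, B a b = B b a := fun a b => LieModule.traceForm_comm k L L a b
  have horth : B.orthogonal (B.orthogonal U.toSubmodule) = U.toSubmodule :=
    LinearMap.BilinForm.orthogonal_orthogonal hκ (fun a b hab => (hsymm b a).trans hab) _
  have hperpU : ∀ a : L, a ∈ B.orthogonal U.toSubmodule ↔ ∀ y ∈ U, B a y = 0 := fun a => by
    simp only [LinearMap.BilinForm.mem_orthogonal_iff, LinearMap.BilinForm.IsOrtho, hsymm a]
    rfl
  have hPH : ∀ a : L, (∀ y ∈ U, B a y = 0) → a ∈ H := fun a ha => by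
    rw [hH, LieSubalgebra.mem_normalizer_iff]
    intro u hu
    rw [← LieSubalgebra.mem_toSubmodule, ← horth, LinearMap.BilinForm.mem_orthogonal_iff]
    intro b hb
    have hb' := (hperpU b).1 hb
    show B b ⁅a, u⁆ = 0
    rw [show B b ⁅a, u⁆ = B ⁅b, a⁆ u from (LieModule.traceForm_apply_lie_apply k L L b a u).symm]
    exact hperp b a hb' ha u hu
  intro x
  constructor
  · exact fun hx h hh => htr h hh x hx
  · intro hx
    rw [← LieSubalgebra.mem_toSubmodule, ← horth, LinearMap.BilinForm.mem_orthogonal_iff]
    exact fun b hb => hx b (hPH b ((hperpU b).1 hb))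

end Groth.Agent.S14875
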