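import Groth.Statements.S14888
import Mathlib
import Groth.Agent.ProEtLib.Ring

set_option autoImplicit false
universe u
open CategoryTheory AlgebraicGeometry
open CAlg

namespace Groth.Agent.S14888

/-- Let R be a valuation ring whose spectrum is finite (finite height) and let f : X → Spec R be locally
of finite type with locally quasi-finite fibres. For every x ∈ X the canonical morphism Spec O_{X,x}
→ X is an open immersion, and the composite Spec O_{X,x} → Spec R is locally of finite type; in
particular O_{X,x} is finitely generated as an R-algebra. (The published statement takes X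
quasi-finite over Spec R; the assertions are local at x, so this row assumes only that X is locally
of finite type with discrete fibres.) -/
theorem result
    (R : Type u) [CommRing R] [IsDomain R] [ValuationRing R] [Finite (PrimeSpectrum R)]
    {X : Scheme.{u}} (f : X ⟶ Spec (CommRingCat.of R)) [LocallyOfFiniteType f] [LocallyQuasiFinite f]
    (x : X) :
    IsOpenImmersion (X.fromSpecStalk x) ∧ LocallyOfFiniteType (X.fromSpecStalk x ≫ f) := by
  obtain ⟨U, hU, hxU, -⟩ := exists_isAffineOpen_mem_and_subset (U := (⊤ : X.Opens)) (x := x) trivial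
  haveI : IsAffine U.toScheme := hU
  haveI : Finite ↥(Spec (CommRingCat.of R)) := inferInstanceAs (Finite (PrimeSpectrum R))
  haveI : Finite ↥U.toScheme := by
    have h : (Set.univ : Set ↥U.toScheme).Finite := by
      rw [← Set.preimage_univ (f := (U.ι ≫ f).base)]
      exact (U.ι ≫ f).finite_preimage Set.finite_univ
    exact Set.finite_univ_iff.mp h
  have hopen : IsOpen (Set.range (X.fromSpecStalk x)) := by
    rw [Scheme.range_fromSpecStalk]
    let S : Set ↥U.toScheme := {y | ¬ U.ι y ⤳ x}
    have hS : IsClosed S := by
      have h1 : S = ⋃ y ∈ S, closure {y} := by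
        refine Set.Subset.antisymm (fun y hy => Set.mem_biUnion hy (subset_closure rfl)) ?_
        simp only [Set.iUnion_subset_iff]
        intro y hy z hz hzx
        exact hy (((specializes_iff_mem_closure.2 hz).map U.ι.continuous).trans hzx)
      rw [h1]
      exact S.toFinite.isClosed_biUnion fun y _ => isClosed_closure
    have h2 : {y : X | y ⤳ x} = U.ι '' Sᶜ := by
      ext y
      constructor
      · intro hy
        exact ⟨⟨y, hy.mem_open U.2 hxU⟩, fun h => h hy, rfl⟩
      · rintro ⟨z, hz, rfl⟩
        exact not_not.mp hz
    rw [h2]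
    exact U.ι.isOpenEmbedding.isOpenMap _ hS.isOpen_compl
  haveI : IsOpenImmersion (X.fromSpecStalk x) := by
    refine IsOpenImmersion.iff_isIso_stalkMap.mpr
      ⟨⟨(X.fromSpecStalk x).isEmbedding, hopen⟩, fun p => ?_⟩
    rw [ConcreteCategory.isIso_iff_bijective]
    refine ⟨?_, (X.fromSpecStalk x).stalkMap_surjective p⟩
    haveI := ProEtLib.weaklyEtale_fromSpecStalk X x
    have hflat := Flat.stalkMap (X.fromSpecStalk x) p
    letI := ((X.fromSpecStalk x).stalkMap p).hom.toAlgebra
    haveI : Module.Flat _ _ := hflat
    haveI : IsLocalHom (algebraMap (X.presheaf.stalk (X.fromSpecStalk x p)) ((Spec (X.presheaf.stalk x)).presheaf.stalk p)) :=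
      inferInstanceAs (IsLocalHom ((X.fromSpecStalk x).stalkMap p).hom)
    haveI := Module.FaithfullyFlat.of_flat_of_isLocalHom (A := X.presheaf.stalk (X.fromSpecStalk x p))
      (B := (Spec (X.presheaf.stalk x)).presheaf.stalk p)
    exact FaithfulSMul.algebraMap_injective _ _
  exact ⟨inferInstance, inferInstance⟩

end Groth.Agent.S14888
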