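import Groth.Statements.S14891
import Mathlib.RingTheory.AlgebraicIndependent.TranscendenceBasis
import Mathlib.LinearAlgebra.Dimension.Localization
import Mathlib.RingTheory.Valuation.Extension
import Mathlib.Algebra.MvPolynomial.Equiv

set_option autoImplicit false
universe u
open CAlg

namespace Groth.Agent.S14891

section
variable {K L Γ₀ Γ₁ : Type u} [Field K] [Field L] [Algebra K L]
    [LinearOrderedCommGroupWithZero Γ₀] [LinearOrderedCommGroupWithZero Γ₁]
    (vK : Valuation K Γ₀) (vL : Valuation L Γ₁) [vK.HasExtension vL]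

open MvPolynomial in
theorem val_aeval {ι : Type u} (x : ι → vL.valuationSubring)
    (hx : AlgebraicIndependent (IsLocalRing.ResidueField vK.valuationSubring) fun i => IsLocalRing.residue _ (x i))
    (c : MvPolynomial ι K) (hc : c ≠ 0) :
    ∃ k : Kˣ, vL (aeval (fun i => ((x i : vL.valuationSubring) : L)) c) = vL (algebraMap K L (k : K)) := by
  classical
  obtain ⟨b, hb, hmax⟩ := Finset.exists_max_image c.support (fun b => vK (coeff b c)) (support_nonempty.2 hc)
  have hcb : coeff b c ≠ 0 := mem_support_iff.1 hb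
  have hvb : vK (coeff b c) ≠ 0 := (vK.ne_zero_iff).2 hcb
  refine ⟨Units.mk0 _ hcb, ?_⟩
  have hle : ∀ d, coeff d c * (coeff b c)⁻¹ ∈ vK.valuationSubring := fun d => by
    rw [Valuation.mem_valuationSubring_iff, map_mul, map_inv₀]
    by_cases hd : d ∈ c.support
    · calc vK (coeff d c) * (vK (coeff b c))⁻¹ ≤ vK (coeff b c) * (vK (coeff b c))⁻¹ :=
            mul_le_mul_left (hmax d hd) _
        _ = 1 := mul_inv_cancel₀ hvb
    · rw [notMem_support_iff.1 hd, map_zero, zero_mul]; exact zero_le
  let d : MvPolynomial ι vK.valuationSubring := ∑ e ∈ c.support, monomial e ⟨_, hle e⟩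
  have hd : map vK.valuationSubring.subtype d = C (coeff b c)⁻¹ * c := by
    rw [map_sum]
    refine Eq.trans ?_ (congrArg (C (coeff b c)⁻¹ * ·) (as_sum c).symm)
    simp only [Finset.mul_sum]
    refine Finset.sum_congr rfl fun e _ => ?_
    rw [map_monomial, C_mul_monomial]; exact congrArg (monomial e) (mul_comm _ _)
  have hdb : coeff b d = 1 := Subtype.ext (by
    have := congrArg (coeff b) hd
    rw [coeff_map, coeff_C_mul, inv_mul_cancel₀ hcb] at this
    exact this)
  have hres : map (IsLocalRing.residue vK.valuationSubring) d ≠ 0 := fun h0 => by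
    have := congrArg (coeff b) h0
    rw [coeff_map, hdb, map_one, coeff_zero] at this
    exact one_ne_zero this
  let e : vL.valuationSubring := eval₂ (algebraMap vK.valuationSubring vL.valuationSubring) x d
  have hu : IsUnit e := by
    by_contra hu
    refine hres (hx.eq_zero_of_aeval_eq_zero _ ?_)
    have h0 : IsLocalRing.residue vL.valuationSubring e = 0 :=
      (IsLocalRing.residue_eq_zero_iff _).2 ((IsLocalRing.mem_maximalIdeal _).2 hu)
    rw [aeval_def, eval₂_map, ← h0]
    show _ = IsLocalRing.residue _ (eval₂ (algebraMap vK.valuationSubring vL.valuationSubring) x d)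
    rw [eval₂_comp_left]
    congr 1
  have hv1 : vL (e : L) = 1 := by
    obtain ⟨w, hw⟩ := hu
    have h1 : (e : L) * ((w⁻¹ : (vL.valuationSubring)ˣ) : vL.valuationSubring) = 1 := by
      rw [← hw]; exact congrArg Subtype.val w.mul_inv
    refine le_antisymm e.2 ?_
    calc (1 : Γ₁) = vL (e : L) * vL (((w⁻¹ : (vL.valuationSubring)ˣ) : vL.valuationSubring) : L) := by rw [← map_mul, h1, map_one]
      _ ≤ vL (e : L) * 1 := mul_le_mul_right ((w⁻¹ : (vL.valuationSubring)ˣ) : vL.valuationSubring).2 _
      _ = _ := mul_one _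
  have he : (e : L) = algebraMap K L (coeff b c)⁻¹ * aeval (fun i => ((x i : vL.valuationSubring) : L)) c := by
    have h1 : aeval (fun i => ((x i : vL.valuationSubring) : L)) (C (coeff b c)⁻¹ * c) =
        algebraMap K L (coeff b c)⁻¹ * aeval (fun i => ((x i : vL.valuationSubring) : L)) c := by
      rw [map_mul, aeval_C]
    rw [← h1, ← hd, aeval_def, eval₂_map]
    show vL.valuationSubring.subtype (eval₂ _ x d) = _
    rw [eval₂_comp_left]
    congr 1
  rw [he, map_mul, map_inv₀, map_inv₀] at hv1
  exact (inv_mul_eq_one₀ ((vL.ne_zero_iff).2 ((map_ne_zero _).2 hcb))).1 hv1 |>.symm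

open MvPolynomial in
theorem algInd {ι κ : Type u} (y : ι → Lˣ) (x : κ → vL.valuationSubring)
    (hy : ∀ a b : ι →₀ ℕ, (∃ k : Kˣ, vL ((∏ i ∈ a.support, y i ^ a i : Lˣ) : L) * vL (algebraMap K L (k : K)) =
      vL ((∏ i ∈ b.support, y i ^ b i : Lˣ) : L)) → a = b)
    (hx : AlgebraicIndependent (IsLocalRing.ResidueField vK.valuationSubring) fun i => IsLocalRing.residue _ (x i)) :
    AlgebraicIndependent K (Sum.elim (fun i => ((y i : Lˣ) : L)) (fun j => ((x j : vL.valuationSubring) : L))) := by
  classical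
  rw [algebraicIndependent_iff]
  intro P hP
  by_contra hP0
  let ev := aeval (R := K) (fun j => ((x j : vL.valuationSubring) : L))
  let P' := sumAlgEquiv K ι κ P
  have hP'0 : P' ≠ 0 := fun h => hP0 ((sumAlgEquiv K ι κ).injective (h.trans (map_zero _).symm))
  have hev : ∀ Q : MvPolynomial (ι ⊕ κ) K, aeval (Sum.elim (fun i => ((y i : Lˣ) : L)) (fun j => ((x j : vL.valuationSubring) : L))) Q =
      eval₂ ev.toRingHom (fun i => ((y i : Lˣ) : L)) (sumAlgEquiv K ι κ Q) := fun Q => by
    induction Q using MvPolynomial.induction_on with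
    | C a => simp [ev]
    | add p q hp hq => simp only [map_add, eval₂_add, hp, hq]
    | mul_X p i hp => cases i <;> simp [ev, hp]
  let M : (ι →₀ ℕ) → Lˣ := fun a => ∏ i ∈ a.support, y i ^ a i
  let f : (ι →₀ ℕ) → L := fun a => ev (coeff a P') * (M a : L)
  have hsum : ∑ a ∈ P'.support, f a = 0 := by
    rw [← hP, hev, eval₂_eq]
    refine Finset.sum_congr rfl fun a _ => ?_
    simp only [f, M]
    push_cast
    rfl
  have hval : ∀ a ∈ P'.support, ∃ k : Kˣ, vL (f a) = vL (algebraMap K L (k : K)) * vL (M a : L) := fun a ha => by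
    obtain ⟨k, hk⟩ := val_aeval vK vL x hx _ (mem_support_iff.1 ha)
    exact ⟨k, by simp only [f, map_mul, ev, hk]⟩
  obtain ⟨a₀, ha₀, hmax⟩ := Finset.exists_max_image P'.support (fun a => vL (f a)) (support_nonempty.2 hP'0)
  obtain ⟨k₀, hk₀⟩ := hval a₀ ha₀
  have hne : vL (f a₀) ≠ 0 := by
    rw [hk₀]
    exact mul_ne_zero ((vL.ne_zero_iff).2 ((map_ne_zero _).2 k₀.ne_zero)) ((vL.ne_zero_iff).2 (Units.ne_zero _))
  refine hne ?_
  rw [← vL.map_sum_eq_of_lt ha₀ (f := f) fun a ha => ?_, hsum, map_zero]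
  obtain ⟨ha, hne'⟩ := Finset.mem_sdiff.1 ha
  refine lt_of_le_of_ne (hmax a ha) fun he => hne' (Finset.mem_singleton.2 (hy a a₀ ?_))
  obtain ⟨k, hk⟩ := hval a ha
  refine ⟨k₀⁻¹ * k, ?_⟩
  rw [hk, hk₀] at he
  have h2 : vL (algebraMap K L (k₀ : K)) ≠ 0 := (vL.ne_zero_iff).2 ((map_ne_zero _).2 k₀.ne_zero)
  rw [Units.val_mul, map_mul, map_mul, Units.val_inv_eq_inv_val, map_inv₀, map_inv₀]
  simp only [M] at he
  field_simp
  rw [mul_comm, he, mul_comm]

end

/-- Let L/K be an extension of valued fields, i.e. v_L is a valuation on L whose restriction to K is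
equivalent to v_K. Write E for the rational rank of the quotient of value groups |L^×|/|K^×| — here
the rank of the abelian group L^× modulo the subgroup generated by the units of the valuation ring
of v_L and the image of K^× — and F for the transcendence degree of the residue field of v_L over
that of v_K. Then E + F ≤ tr.deg(L/K) (an inequality of cardinals). -/
theorem result
    {K L Γ₀ Γ₁ : Type u} [Field K] [Field L] [Algebra K L]
    [LinearOrderedCommGroupWithZero Γ₀] [LinearOrderedCommGroupWithZero Γ₁]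
    (vK : Valuation K Γ₀) (vL : Valuation L Γ₁) [vK.HasExtension vL] :
    Module.rank ℤ (Additive Lˣ ⧸ Subgroup.toAddSubgroup
        (vL.valuationSubring.unitGroup ⊔ (Units.map (algebraMap K L).toMonoidHom).range)) +
      Algebra.trdeg (IsLocalRing.ResidueField vK.valuationSubring)
        (IsLocalRing.ResidueField vL.valuationSubring) ≤ Algebra.trdeg K L := by
  classical
  let κK := IsLocalRing.ResidueField vK.valuationSubring
  let κL := IsLocalRing.ResidueField vL.valuationSubring
  let H : Subgroup Lˣ := vL.valuationSubring.unitGroup ⊔ (Units.map (algebraMap K L).toMonoidHom).range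
  let G := Additive Lˣ ⧸ Subgroup.toAddSubgroup H
  obtain ⟨s, hs, hli⟩ := exists_set_linearIndependent_of_isDomain ℤ G
  haveI : FaithfulSMul κK κL := (faithfulSMul_iff_algebraMap_injective κK κL).2 (algebraMap κK κL).injective
  obtain ⟨t, ht⟩ := exists_isTranscendenceBasis κK κL
  have hy : ∀ g : G, ∃ y : Lˣ, (QuotientAddGroup.mk (Additive.ofMul y) : G) = g := fun g => by
    obtain ⟨y, hy⟩ := QuotientAddGroup.mk_surjective g
    exact ⟨y.toMul, hy⟩
  choose y hy using hy
  have hx : ∀ z : κL, ∃ x : vL.valuationSubring, IsLocalRing.residue _ x = z := fun z =>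
    IsLocalRing.residue_surjective z
  choose x hx using hx
  have hindep : AlgebraicIndependent K (Sum.elim (fun i : s => ((y i.1 : Lˣ) : L)) (fun j : t => ((x j.1 : vL.valuationSubring) : L))) := by
    refine algInd vK vL (fun i : s => y i.1) (fun j : t => x j.1) ?_ ?_
    · intro a b hab
      obtain ⟨k, hk⟩ := hab
      have h0 : (QuotientAddGroup.mk (Additive.ofMul (∏ i ∈ a.support, y i.1 ^ a i)) : G) =
          QuotientAddGroup.mk (Additive.ofMul (∏ i ∈ b.support, y i.1 ^ b i)) := by
        rw [QuotientAddGroup.eq]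
        show (∏ i ∈ a.support, y i.1 ^ a i)⁻¹ * (∏ i ∈ b.support, y i.1 ^ b i) ∈ H
        refine Subgroup.mem_sup.2 ⟨((∏ i ∈ a.support, y i.1 ^ a i)⁻¹ * (∏ i ∈ b.support, y i.1 ^ b i)) *
          (Units.map (algebraMap K L).toMonoidHom k)⁻¹, ?_, _, ⟨k, rfl⟩, inv_mul_cancel_right _ _⟩
        rw [ValuationSubring.mem_unitGroup_iff]
        rw [← (Valuation.isEquiv_valuation_valuationSubring vL).eq_one_iff_eq_one]
        rw [Units.val_mul, Units.val_mul, map_mul, map_mul, ← hk, Units.val_inv_eq_inv_val, Units.val_inv_eq_inv_val,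
          map_inv₀, map_inv₀]
        show (vL _)⁻¹ * _ * (vL (algebraMap K L k))⁻¹ = 1
        have h1 : vL ((∏ i ∈ a.support, y i.1 ^ a i : Lˣ) : L) ≠ 0 := (vL.ne_zero_iff).2 (Units.ne_zero _)
        have h2 : vL (algebraMap K L (k : K)) ≠ 0 := (vL.ne_zero_iff).2 ((map_ne_zero _).2 k.ne_zero)
        field_simp
      have key : ∀ c : s →₀ ℕ, (QuotientAddGroup.mk (Additive.ofMul (∏ i ∈ c.support, y i.1 ^ c i)) : G) =
          Finsupp.linearCombination ℤ (fun i : s => (i.1 : G)) (c.mapRange (fun n : ℕ => (n : ℤ)) Nat.cast_zero) := fun c => by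
        rw [Finsupp.linearCombination_apply, Finsupp.sum_mapRange_index (h := fun (i : s) (a : ℤ) => a • (i.1 : G)) (fun i => zero_zsmul _)]
        show QuotientAddGroup.mk' _ (Additive.ofMul _) = _
        rw [ofMul_prod, map_sum]
        refine Finset.sum_congr rfl fun i _ => ?_
        show _ = ((c i : ℕ) : ℤ) • (i.1 : G)
        rw [ofMul_pow, map_nsmul, natCast_zsmul]
        exact congrArg _ (hy i.1)
      rw [key, key] at h0
      have h' : LinearIndependent ℤ (fun i : s => (i.1 : G)) := hli
      exact Finsupp.mapRange_injective _ Nat.cast_zero Nat.cast_injective (h' h0)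
    · have : (fun j : t => IsLocalRing.residue _ (x j.1)) = ((↑) : t → κL) := funext fun j => hx j.1
      rw [this]; exact ht.1
  calc _ = Cardinal.mk s + Cardinal.mk t := congrArg₂ (· + ·) hs.symm ht.cardinalMk_eq_trdeg.symm
    _ = Cardinal.mk (s ⊕ t) := by rw [Cardinal.mk_sum, Cardinal.lift_id, Cardinal.lift_id]
    _ ≤ _ := hindep.cardinalMk_le_trdeg

end Groth.Agent.S14891
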