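import Groth.Statements.S14892
import Mathlib

set_option autoImplicit false
universe u
open CAlg

namespace Groth.Agent.S14892

/-- Reduced fraction representation in the prime subfield. -/
theorem exists_coprime {K : Type u} [Field K] {c : K} (hc : c ∈ (⊥ : Subfield K)) :
    ∃ a b : ℤ, IsCoprime a b ∧ (b : K) ≠ 0 ∧ c * b = a := by
  let T : Subfield K :=
    { carrier := {c | ∃ a b : ℤ, (b : K) ≠ 0 ∧ c * b = a}
      mul_mem' := by
        rintro x y ⟨a, b, hb, h⟩ ⟨a', b', hb', h'⟩
        exact ⟨a * a', b * b', by push_cast; exact mul_ne_zero hb hb',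
          by push_cast; rw [← h, ← h']; ring⟩
      one_mem' := ⟨1, 1, by simp, by simp⟩
      add_mem' := by
        rintro x y ⟨a, b, hb, h⟩ ⟨a', b', hb', h'⟩
        exact ⟨a * b' + a' * b, b * b', by push_cast; exact mul_ne_zero hb hb',
          by push_cast; rw [← h, ← h']; ring⟩
      zero_mem' := ⟨0, 1, by simp, by simp⟩
      neg_mem' := by
        rintro x ⟨a, b, hb, h⟩
        exact ⟨-a, b, hb, by push_cast; rw [← h]; ring⟩
      inv_mem' := by
        rintro x ⟨a, b, hb, h⟩
        by_cases hx : x = 0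
        · exact ⟨0, 1, by simp, by simp [hx]⟩
        · have ha : (a : K) ≠ 0 := h ▸ mul_ne_zero hx hb
          exact ⟨b, a, ha, by rw [← h, inv_mul_cancel_left₀ hx]⟩ }
  obtain ⟨a, b, hb, h⟩ := (bot_le : ⊥ ≤ T) hc
  obtain ⟨a', b', ha', hb', hco⟩ : ∃ a' b' : ℤ, a = a' * Int.gcd a b ∧ b = b' * Int.gcd a b ∧ IsCoprime a' b' := by
    have hg : 0 < Int.gcd a b := Int.gcd_pos_of_ne_zero_right _ (fun e => hb (by simp [e]))
    obtain ⟨g, a', b', hg', hco, ha', hb'⟩ := Int.exists_gcd_one' hg
    exact ⟨a', b', by rw [ha', hb']; simp [Int.gcd_mul_right, hco], by rw [ha', hb']; simp [Int.gcd_mul_right, hco],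
      Int.isCoprime_iff_gcd_eq_one.2 hco⟩
  generalize (Int.gcd a b : ℤ) = g at ha' hb'
  subst ha' hb'
  push_cast at hb h
  exact ⟨a', b', hco, left_ne_zero_of_mul hb,
    mul_right_cancel₀ (right_ne_zero_of_mul hb) (by rw [mul_assoc]; exact h)⟩

theorem chain_length_le {K : Type u} [Field K] (A : ValuationSubring K) (d : ℕ)
    (hd : Algebra.trdeg (⊥ : Subfield K) K = d) (s : LTSeries (PrimeSpectrum A)) :
    s.length ≤ d + 1 := by
  classical
  have hx : ∀ i : Fin s.length, ∃ x : A, x ∈ (s i.succ).asIdeal ∧ x ∉ (s i.castSucc).asIdeal :=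
    fun i => Set.exists_of_ssubset (show (s i.castSucc).asIdeal < (s i.succ).asIdeal from s.step i)
  choose x hxin hxout using hx
  -- membership of prime field elements
  have hkey : ∀ (c : A), (c : K) ∈ (⊥ : Subfield K) → c ≠ 0 → c ∈ IsLocalRing.maximalIdeal A →
      ∀ P : Ideal A, P.IsPrime → (c ∈ P ↔ P.comap (Int.castRingHom A) ≠ ⊥) := by
    intro c hc hc0 hcm P hP
    obtain ⟨a, b, hab, hb, hcb⟩ := exists_coprime hc
    have hcb' : c * (b : A) = (a : A) := Subtype.ext (by push_cast; exact hcb)
    obtain ⟨p, q, hpq⟩ := hab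
    have hbu : IsUnit ((b : A)) := by
      by_contra hbn
      have h1 : (1 : A) ∈ IsLocalRing.maximalIdeal A := by
        have : (1 : A) = (p : A) * (a : A) + (q : A) * (b : A) := by
          rw [← Int.cast_mul, ← Int.cast_mul, ← Int.cast_add, hpq, Int.cast_one]
        rw [this, ← hcb']
        exact add_mem (Ideal.mul_mem_left _ _ (Ideal.mul_mem_left _ _ hbn))
          (Ideal.mul_mem_left _ _ hbn)
      exact (IsLocalRing.maximalIdeal.isMaximal A).ne_top ((Ideal.eq_top_iff_one _).2 h1)
    have ha0 : (a : A) ≠ 0 := by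
      rw [← hcb']; exact mul_ne_zero hc0 hbu.ne_zero
    have haP : (a : A) ∈ P ↔ c ∈ P := by
      rw [← hcb']
      exact ⟨fun h => (hP.mem_or_mem h).resolve_right
        (fun h' => hP.ne_top (Ideal.eq_top_of_isUnit_mem _ h' hbu)), fun h => P.mul_mem_right _ h⟩
    rw [← haP]
    constructor
    · intro h hbot
      have : a ∈ P.comap (Int.castRingHom A) := h
      rw [hbot, Ideal.mem_bot] at this
      exact ha0 (by simp [this])
    · intro hne
      haveI := hP
      have hmax : (P.comap (Int.castRingHom A)).IsMaximal :=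
        (inferInstance : (P.comap (Int.castRingHom A)).IsPrime).isMaximal hne
      have heq := hmax.eq_of_le (J := (IsLocalRing.maximalIdeal A).comap (Int.castRingHom A))
        (Ideal.IsPrime.ne_top inferInstance) (Ideal.comap_mono (IsLocalRing.le_maximalIdeal hP.ne_top))
      have : a ∈ (IsLocalRing.maximalIdeal A).comap (Int.castRingHom A) := by
        show (a : A) ∈ IsLocalRing.maximalIdeal A
        rw [← hcb']; exact Ideal.mul_mem_right _ _ hcm
      rw [← heq] at this
      exact this
  let Bad : Fin s.length → Prop := fun i => ∃ c : A, (c : K) ∈ (⊥ : Subfield K) ∧ c ≠ 0 ∧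
    c ∈ IsLocalRing.maximalIdeal A ∧ c ∈ (s i.succ).asIdeal ∧ c ∉ (s i.castSucc).asIdeal
  have hbad : ∀ i i', Bad i → Bad i' → ¬ i < i' := by
    rintro i i' ⟨c, h1, h2, h3, h4, h5⟩ ⟨c', h1', h2', h3', h4', h5'⟩ hlt
    have hle : (s i.succ).asIdeal ≤ (s i'.castSucc).asIdeal :=
      s.monotone (Fin.succ_le_castSucc_iff.2 hlt)
    exact h5' ((hkey c' h1' h2' h3' _ (s i'.castSucc).isPrime).2
      ((hkey c h1 h2 h3 _ (s i'.castSucc).isPrime).1 (hle h4)))
  let S := {i : Fin s.length // ¬ Bad i}
  let w : S → K := fun i => (x i.1 : K)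
  have hw0 : ∀ i : S, w i ≠ 0 := fun i h =>
    hxout i.1 (by rw [show x i.1 = 0 from Subtype.ext h]; exact zero_mem _)
  let v := A.valuation
  have hcomp : ∀ (P : Ideal A), P.IsPrime → ∀ y z : A, y ∈ P → z ∉ P → v (y : K) < v (z : K) := by
    intro P hP y z hy hz
    by_contra hle
    push_neg at hle
    have hy0 : (y : K) ≠ 0 := by
      intro h0
      rw [h0, map_zero] at hle
      exact hz (by rw [show z = 0 from Subtype.ext ((map_eq_zero v).1 (le_antisymm hle zero_le))]; exact zero_mem _)
    have hq : (z : K) / y ∈ A := by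
      rw [← ValuationSubring.valuation_le_one_iff, map_div₀]
      exact (div_le_one₀ (zero_lt_iff.2 ((v.ne_zero_iff).2 hy0))).2 hle
    refine hz ?_
    have he : z = (⟨(z : K) / y, hq⟩ : A) * y := Subtype.ext (by simp [hy0])
    rw [he]; exact P.mul_mem_left _ hy
  -- monomials with distinct exponents have distinct values
  have hmain : ∀ (c : K), c ∈ (⊥ : Subfield K) → c ≠ 0 → ∀ (a b : S →₀ ℕ),
      v c * v (a.prod fun i n => w i ^ n) = v (b.prod fun i n => w i ^ n) → a = b := by
    suffices H : ∀ (c : K), c ∈ (⊥ : Subfield K) → c ≠ 0 → ∀ (a b : S →₀ ℕ) (i : S),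
        (∀ j, a j = 0 ∨ b j = 0) → a i ≠ 0 → (∀ j : S, j.1 < i.1 → a j = 0) →
        (∀ j : S, j.1 < i.1 → b j = 0) →
        v c * v (a.prod fun i n => w i ^ n) ≠ v (b.prod fun i n => w i ^ n) by
      intro c hc hc0 a b heq
      -- cancel the common part
      let e : S →₀ ℕ := a ⊓ b
      let a' := a - e
      let b' := b - e
      have hea : e + a' = a := add_tsub_cancel_of_le inf_le_left
      have heb : e + b' = b := add_tsub_cancel_of_le inf_le_right
      have hprod : ∀ f g : S →₀ ℕ, (f + g).prod (fun i n => w i ^ n) =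
          f.prod (fun i n => w i ^ n) * g.prod (fun i n => w i ^ n) := fun f g =>
        Finsupp.prod_add_index' (fun i => pow_zero _) (fun i m n => pow_add _ _ _)
      have hne : v (e.prod fun i n => w i ^ n) ≠ 0 := by
        rw [Valuation.ne_zero_iff]
        exact Finset.prod_ne_zero_iff.2 fun i _ => pow_ne_zero _ (hw0 i)
      have heq' : v c * v (a'.prod fun i n => w i ^ n) = v (b'.prod fun i n => w i ^ n) := by
        rw [← hea, ← heb, hprod, hprod, map_mul, map_mul, mul_left_comm] at heq
        exact mul_left_cancel₀ hne heq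
      by_contra hab
      have hsupp : (a'.support ∪ b'.support).Nonempty := by
        rw [Finset.nonempty_iff_ne_empty]
        intro hemp
        rw [Finset.union_eq_empty, Finsupp.support_eq_empty, Finsupp.support_eq_empty] at hemp
        exact hab (by rw [← hea, ← heb, hemp.1, hemp.2])
      obtain ⟨i, hi, himin⟩ := Finset.exists_min_image _ (fun j : S => j.1) hsupp
      have hz : ∀ j : S, j.1 < i.1 → a' j = 0 ∧ b' j = 0 := fun j hj => by
        constructor <;> by_contra hne'
        · exact (himin j (Finset.mem_union_left _ (Finsupp.mem_support_iff.2 hne'))).not_gt hj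
        · exact (himin j (Finset.mem_union_right _ (Finsupp.mem_support_iff.2 hne'))).not_gt hj
      have hdisj : ∀ j, a' j = 0 ∨ b' j = 0 := fun j => by
        simp only [a', b', e, Finsupp.tsub_apply, Finsupp.inf_apply]
        omega
      rcases Finset.mem_union.1 hi with h | h
      · exact H c hc hc0 a' b' i hdisj (Finsupp.mem_support_iff.1 h) (fun j hj => (hz j hj).1)
          (fun j hj => (hz j hj).2) heq'
      · refine H c⁻¹ (inv_mem hc) (inv_ne_zero hc0) b' a' i (fun j => (hdisj j).symm)
          (Finsupp.mem_support_iff.1 h) (fun j hj => (hz j hj).2) (fun j hj => (hz j hj).1) ?_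
        rw [← heq', map_inv₀, inv_mul_cancel_left₀ ((v.ne_zero_iff).2 hc0)]
    intro c hc hc0 a b i hdisj hai haz hbz heq
    let ya : A := a.prod fun i n => x i.1 ^ n
    let yb : A := b.prod fun i n => x i.1 ^ n
    have hya : (ya : K) = a.prod fun i n => w i ^ n := map_finsuppProd A.subtype a _
      |>.trans (by simp [w])
    have hyb : (yb : K) = b.prod fun i n => w i ^ n := map_finsuppProd A.subtype b _
      |>.trans (by simp [w])
    rw [← hya, ← hyb] at heq
    have hain : ya ∈ (s i.1.succ).asIdeal := by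
      refine Ideal.mem_of_dvd _ ?_ (hxin i.1)
      exact (dvd_pow_self _ hai).trans (Finset.dvd_prod_of_mem _ (Finsupp.mem_support_iff.2 hai))
    have hout : ∀ (e : S →₀ ℕ) (P : Ideal A), P.IsPrime →
        (∀ j : S, e j ≠ 0 → x j.1 ∉ P) → (e.prod fun i n => x i.1 ^ n) ∉ P := by
      intro e P hP hj hmem
      haveI := hP
      obtain ⟨j, hjs, hjm⟩ := (Ideal.IsPrime.prod_mem_iff (hp := hP)).1 hmem
      exact hj j (Finsupp.mem_support_iff.1 hjs) (hP.mem_of_pow_mem _ hjm)
    have hbout : yb ∉ (s i.1.succ).asIdeal := by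
      refine hout b _ (s i.1.succ).isPrime fun j hj hm => ?_
      have hji : i.1 < j.1 := lt_of_le_of_ne (le_of_not_gt fun h => hj (hbz j h)) fun h => by
        have : i = j := Subtype.ext h
        rcases hdisj i with h' | h'
        · exact hai h'
        · exact hj (this ▸ h')
      exact hxout j.1 (s.monotone (Fin.succ_le_castSucc_iff.2 hji) hm)
    by_cases hcA : c ∈ A
    · have := hcomp _ (s i.1.succ).isPrime ((⟨c, hcA⟩ : A) * ya) yb (Ideal.mul_mem_left _ _ hain) hbout
      rw [MulMemClass.coe_mul, map_mul] at this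
      exact this.ne heq
    · have hcA' : c⁻¹ ∈ A := (A.mem_or_inv_mem c).resolve_left hcA
      have hcm : (⟨c⁻¹, hcA'⟩ : A) ∈ IsLocalRing.maximalIdeal A := by
        intro hu
        obtain ⟨u, hu⟩ := hu.exists_right_inv
        refine hcA ?_
        have : c⁻¹ * (u : K) = 1 := congrArg Subtype.val hu
        rw [eq_of_inv_mul_eq_one this]
        exact u.2
      have heq2 : v (ya : K) = v (((⟨c⁻¹, hcA'⟩ : A) * yb : A) : K) := by
        rw [MulMemClass.coe_mul, map_mul, ← heq, map_inv₀, inv_mul_cancel_left₀ ((v.ne_zero_iff).2 hc0)]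
      by_cases hcP : (⟨c⁻¹, hcA'⟩ : A) ∈ (s i.1.succ).asIdeal
      · have hcP' : (⟨c⁻¹, hcA'⟩ : A) ∈ (s i.1.castSucc).asIdeal := by
          by_contra hno
          exact i.2 ⟨_, inv_mem hc, fun h => inv_ne_zero hc0 (congrArg Subtype.val h), hcm, hcP, hno⟩
        have hyout : ya ∉ (s i.1.castSucc).asIdeal := hout a _ (s i.1.castSucc).isPrime fun j hj hm =>
          hxout j.1 (s.monotone (Fin.castSucc_le_castSucc_iff.2 (le_of_not_gt fun h => hj (haz j h))) hm)
        exact (hcomp _ (s i.1.castSucc).isPrime _ ya (Ideal.mul_mem_right yb _ hcP') hyout).ne heq2.symm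
      · have : (⟨c⁻¹, hcA'⟩ : A) * yb ∉ (s i.1.succ).asIdeal := fun h =>
          ((s i.1.succ).isPrime.mem_or_mem h).elim hcP hbout
        exact (hcomp _ (s i.1.succ).isPrime ya _ hain this).ne heq2
  have hind : AlgebraicIndependent (⊥ : Subfield K) w := by
    rw [algebraicIndependent_iff]
    intro p hp
    by_contra hp0
    have hsne : p.support.Nonempty := Finset.nonempty_iff_ne_empty.2 (by simpa using hp0)
    let F : (S →₀ ℕ) → K := fun a => ((MvPolynomial.coeff a p : (⊥ : Subfield K)) : K) * a.prod fun i n => w i ^ n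
    have hF0 : ∀ a ∈ p.support, F a ≠ 0 := fun a ha => mul_ne_zero
      (fun h => (MvPolynomial.mem_support_iff.1 ha) (Subtype.ext h))
      (Finset.prod_ne_zero_iff.2 fun i _ => pow_ne_zero _ (hw0 i))
    have hsum : ∑ a ∈ p.support, F a = 0 := by
      rw [← hp]
      rw [MvPolynomial.aeval_def, MvPolynomial.eval₂_eq]
      rfl
    obtain ⟨a, ha, hamax⟩ := Finset.exists_max_image p.support (fun a => v (F a)) hsne
    have hlt : ∀ b ∈ p.support \ {a}, v (F b) < v (F a) := by
      intro b hb
      rw [Finset.mem_sdiff, Finset.mem_singleton] at hb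
      refine lt_of_le_of_ne (hamax b hb.1) fun he => hb.2 ?_
      simp only [F, map_mul] at he
      have hca : ((MvPolynomial.coeff a p : (⊥ : Subfield K)) : K) ≠ 0 := fun h =>
        (MvPolynomial.mem_support_iff.1 ha) (Subtype.ext h)
      have hcb : ((MvPolynomial.coeff b p : (⊥ : Subfield K)) : K) ≠ 0 := fun h =>
        (MvPolynomial.mem_support_iff.1 hb.1) (Subtype.ext h)
      refine hmain (((MvPolynomial.coeff b p : (⊥ : Subfield K)) : K) / ((MvPolynomial.coeff a p : (⊥ : Subfield K)) : K))
        (div_mem (SetLike.coe_mem _) (SetLike.coe_mem _)) (div_ne_zero hcb hca) b a ?_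
      rw [map_div₀, div_mul_eq_mul_div, he, mul_div_cancel_left₀ _ ((v.ne_zero_iff).2 hca)]
    have := v.map_sum_eq_of_lt ha hlt
    rw [hsum, map_zero] at this
    exact hF0 a ha ((map_eq_zero v).1 this.symm)
  have hcard : Fintype.card S ≤ d := by
    have := hind.lift_cardinalMk_le_trdeg
    rw [hd] at this
    simpa using this
  have h1 : Fintype.card {i : Fin s.length // Bad i} ≤ 1 := Fintype.card_le_one_iff.2 fun a b =>
    Subtype.ext (le_antisymm (not_lt.1 (hbad _ _ b.2 a.2)) (not_lt.1 (hbad _ _ a.2 b.2)))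
  have h2 := Fintype.card_subtype_compl Bad
  rw [Fintype.card_fin] at h2
  have h3 : Fintype.card S = s.length - Fintype.card {i : Fin s.length // Bad i} := h2
  omega

/-- If the field K has finite transcendence degree d over its prime subfield, then every valuation
subring of K has height (Krull dimension) at most d + 1. -/
theorem result
    (K : Type u) [Field K] (A : ValuationSubring K) (d : ℕ)
    (hd : Algebra.trdeg (⊥ : Subfield K) K = d) :
    ringKrullDim A ≤ ((d + 1 : ℕ) : WithBot ℕ∞) := by
  classical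
  refine iSup_le fun s => ?_
  exact WithBot.coe_le_coe.2 (WithTop.coe_le_coe.2 (chain_length_le A d hd s))

end Groth.Agent.S14892
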