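import Groth.Statements.S14893
import Groth.Statements.S14893
import Groth.Agent.S14892
import Mathlib
set_option linter.style.haveILetI false
set_option synthInstance.maxHeartbeats 100000

set_option autoImplicit false
universe u
open CAlg

namespace Groth.Agent.S14893

/-- Every valuation ring R is a filtered union of subrings which are valuation rings with finite
spectrum (finite height): there is a nonempty directed index type and a monotone family of such
subrings of R whose supremum is R. -/
theorem result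
    (R : Type u) [CommRing R] [IsDomain R] [ValuationRing R] :
    ∃ (ι : Type u) (_ : Preorder ι) (_ : IsDirected ι (fun a b ↦ a ≤ b)) (_ : Nonempty ι)
      (F : ι → Subring R), Monotone F ∧ (⨆ i, F i) = ⊤ ∧
        ∀ i, ValuationRing (F i) ∧ Finite (PrimeSpectrum (F i)) := by
  classical
  let K := FractionRing R
  let φ : R →+* K := algebraMap R K
  have hφ : Function.Injective φ := IsFractionRing.injective R K
  let L : Finset R → Subfield K := fun s => Subfield.closure (φ '' (s : Set R))
  let F : Finset R → Subring R := fun s => (L s).toSubring.comap φ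
  refine ⟨Finset R, inferInstance, inferInstance, inferInstance, F, ?_, ?_, fun s => ?_⟩
  · intro s t hst x hx
    exact Subfield.closure_mono (Set.image_mono (Finset.coe_subset.mpr hst)) hx
  · refine eq_top_iff.mpr fun x _ => ?_
    exact (le_iSup F {x}) (Subfield.subset_closure ⟨x, Finset.mem_singleton_self x, rfl⟩)
  -- the corresponding valuation subring of `L s`
  let A : ValuationSubring (L s) :=
    { (φ.range.comap (L s).subtype) with
      mem_or_inv_mem' := fun z => by
        rcases ValuationRing.isInteger_or_isInteger R (z : K) with ⟨r, hr⟩ | ⟨r, hr⟩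
        · exact Or.inl ⟨r, hr⟩
        · exact Or.inr ⟨r, hr⟩ }
  let ψ : F s →+* A := ((φ.comp (F s).subtype).codRestrict (L s) (fun x => x.2)).codRestrict A.toSubring
    (fun x => ⟨x.1, rfl⟩)
  have hψ : Function.Bijective ψ := by
    refine ⟨fun x y h => Subtype.ext (hφ (congrArg (fun a : A => ((a : L s) : K)) h)), ?_⟩
    rintro ⟨⟨z, hz⟩, r, hr⟩
    refine ⟨⟨r, ?_⟩, Subtype.ext (Subtype.ext hr)⟩
    show φ r ∈ L s
    rw [show φ r = z from hr]
    exact hz
  refine ⟨{ cond' := fun x y => ?_ }, ?_⟩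
  · obtain ⟨⟨c, hc⟩⟩ : Nonempty {c : A // ψ x * c = ψ y ∨ ψ y * c = ψ x} :=
      ⟨⟨(ValuationRing.cond (ψ x) (ψ y)).choose, (ValuationRing.cond (ψ x) (ψ y)).choose_spec⟩⟩
    obtain ⟨c', rfl⟩ := hψ.2 c
    refine ⟨c', hc.imp (fun h => hψ.1 ?_) (fun h => hψ.1 ?_)⟩ <;> rw [map_mul] <;> exact h
  -- finite spectrum
  let S0 : Set (L s) := (Subtype.val : L s → K) ⁻¹' (φ '' (s : Set R))
  have hS0 : S0.Finite := Set.Finite.preimage Subtype.val_injective.injOn (s.finite_toSet.image _)
  let P := Algebra.adjoin (⊥ : Subfield (L s)) S0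
  have hgen : ∀ z : L s, ∃ a ∈ P, ∃ b ∈ P, b ≠ 0 ∧ z * b = a := by
    intro z
    obtain ⟨a, ha, b, hb, hab⟩ := Subfield.mem_closure_iff.mp z.2
    have hsub : ∀ w ∈ Subring.closure (φ '' (s : Set R)), ∃ hw : w ∈ L s, (⟨w, hw⟩ : L s) ∈ P := by
      intro w hw
      induction hw using Subring.closure_induction with
      | mem w hw => exact ⟨Subfield.subset_closure hw, Algebra.subset_adjoin hw⟩
      | zero => exact ⟨(L s).zero_mem, P.zero_mem⟩
      | one => exact ⟨(L s).one_mem, P.one_mem⟩
      | add a b _ _ ha hb => exact ⟨(L s).add_mem ha.1 hb.1, P.add_mem ha.2 hb.2⟩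
      | neg a _ ha => exact ⟨(L s).neg_mem ha.1, P.neg_mem ha.2⟩
      | mul a b _ _ ha hb => exact ⟨(L s).mul_mem ha.1 hb.1, P.mul_mem ha.2 hb.2⟩
    obtain ⟨ha', haP⟩ := hsub a ha
    obtain ⟨hb', hbP⟩ := hsub b hb
    by_cases hb0 : b = 0
    · have : z = 0 := Subtype.ext (by rw [← hab, hb0, div_zero]; rfl)
      exact ⟨0, P.zero_mem, 1, P.one_mem, one_ne_zero, by rw [this, zero_mul]⟩
    · exact ⟨_, haP, _, hbP, fun h => hb0 (congrArg Subtype.val h),
        Subtype.ext (show (z : K) * b = a by rw [← hab, div_mul_cancel₀ _ hb0])⟩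
  haveI : Algebra.IsAlgebraic P (L s) := by
    refine ⟨fun z => ?_⟩
    obtain ⟨a, ha, b, hb, hb0, hzb⟩ := hgen z
    refine ⟨Polynomial.C (⟨b, hb⟩ : P) * Polynomial.X - Polynomial.C ⟨a, ha⟩, fun h => hb0 ?_, ?_⟩
    · have := congrArg (Polynomial.coeff · 1) h
      simpa using congrArg Subtype.val (by simpa using this : (⟨b, hb⟩ : P) = 0)
    · simp only [map_sub, map_mul, Polynomial.aeval_C, Polynomial.aeval_X]
      show b * z - a = 0
      rw [mul_comm, hzb, sub_self]
  have htd : Algebra.trdeg (⊥ : Subfield (L s)) (L s) ≤ Cardinal.mk S0 := Algebra.IsAlgebraic.trdeg_le_cardinalMk _ S0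
  obtain ⟨d, hd⟩ := Cardinal.lt_aleph0.mp (htd.trans_lt (Cardinal.lt_aleph0_iff_set_finite.mpr hS0))
  have hdim := Groth.Agent.S14892.result (L s) A d hd
  have hh : ∀ p : PrimeSpectrum A, p.asIdeal.height ≤ ((d + 1 : ℕ) : ℕ∞) := fun p =>
    WithBot.coe_le_coe.mp (le_trans (Ideal.height_le_ringKrullDim_of_ne_top p.2.ne_top) hdim)
  have hfin : ∀ p : PrimeSpectrum A, ∃ n : ℕ, n ≤ d + 1 ∧ p.asIdeal.height = n := by
    intro p
    obtain ⟨n, hn⟩ := ENat.ne_top_iff_exists.mp (ne_top_of_le_ne_top (ENat.natCast_ne_top _) (hh p))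
    exact ⟨n, by exact_mod_cast hn.le.trans (hh p), hn.symm⟩
  choose g hg hgh using hfin
  have hgi : Function.Injective fun p : PrimeSpectrum A => (⟨g p, Nat.lt_succ_of_le (hg p)⟩ : Fin (d + 2)) := by
    intro p q h
    have hpq : p.asIdeal.height = q.asIdeal.height := by
      have hg' : g p = g q := congrArg Fin.val h
      rw [hgh, hgh, hg']
    by_contra hne
    have hstrict : ∀ p q : PrimeSpectrum A, p.asIdeal < q.asIdeal → p.asIdeal.height < q.asIdeal.height := by
      intro p q hlt
      haveI : p.asIdeal.FiniteHeight := ⟨Or.inr (ne_top_of_le_ne_top (ENat.natCast_ne_top _) (hh p))⟩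
      exact Ideal.height_strict_mono_of_isPrime hlt
    rcases (ValuationRing.le_total_ideal (A := A)).total p.asIdeal q.asIdeal with hle | hle
    · exact (hstrict p q (lt_of_le_of_ne hle fun h => hne (PrimeSpectrum.ext h))).ne hpq
    · exact (hstrict q p (lt_of_le_of_ne hle fun h => hne (PrimeSpectrum.ext h.symm))).ne hpq.symm
  haveI : Finite (PrimeSpectrum A) := Finite.of_injective _ hgi
  exact Finite.of_equiv _ (PrimeSpectrum.comapEquiv (RingEquiv.ofBijective ψ hψ)).toEquiv.symm

end Groth.Agent.S14893
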