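import Groth.Statements.S14896
import Mathlib.RingTheory.QuasiFinite.Basic
import Mathlib.RingTheory.Unramified.LocalStructure
import Mathlib.RingTheory.Etale.Basic

set_option autoImplicit false
universe u
open CAlg

namespace Groth.Agent.S14896

theorem quasiFinite_of_unramified (R S : Type u) [CommRing R] [CommRing S] [Algebra R S]
    [Algebra.Etale R S] : Algebra.QuasiFinite R S := inferInstance

theorem finite_spec (R S : Type u) [CommRing R] [CommRing S] [Algebra R S]
    [Algebra.QuasiFinite R S] [Finite (PrimeSpectrum R)] : Finite (PrimeSpectrum S) := by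
  have : (Set.univ : Set (PrimeSpectrum S)).Finite := by
    have h : (Set.univ : Set (PrimeSpectrum S)) =
        ⋃ p : PrimeSpectrum R, PrimeSpectrum.asIdeal ⁻¹' (p.asIdeal.primesOver S) := by
      refine Set.eq_univ_iff_forall.mpr (fun q => Set.mem_iUnion.mpr
        ⟨PrimeSpectrum.comap (algebraMap R S) q,
          (⟨q.isPrime, ⟨rfl⟩⟩ : q.asIdeal ∈ (PrimeSpectrum.comap (algebraMap R S) q).asIdeal.primesOver S)⟩)
        |>.symm
    rw [h]
    exact Set.finite_iUnion fun p => (Algebra.QuasiFinite.finite_primesOver p.asIdeal).preimage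
      (fun _ _ _ _ h => PrimeSpectrum.ext h)
  exact Set.finite_univ_iff.mp this

theorem exists_avoid (B : Type u) [CommRing B] (P : Ideal B) [P.IsPrime] [Finite (PrimeSpectrum B)] :
    ∃ s ∉ P, ∀ q : PrimeSpectrum B, ¬ q.asIdeal ≤ P → s ∈ q.asIdeal := by
  classical
  haveI := Fintype.ofFinite (PrimeSpectrum B)
  have hex : ∀ q : PrimeSpectrum B, ∃ a : B, a ∉ P ∧ (¬ q.asIdeal ≤ P → a ∈ q.asIdeal) := fun q => by
    by_cases h : q.asIdeal ≤ P
    · exact ⟨1, (Ideal.ne_top_iff_one P).mp (Ideal.IsPrime.ne_top ‹_›), fun h' => absurd h h'⟩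
    · obtain ⟨a, ha, ha'⟩ := SetLike.not_le_iff_exists.mp h
      exact ⟨a, ha', fun _ => ha⟩
  choose a ha ha' using hex
  refine ⟨∏ q, a q, fun h => ?_, fun q hq => q.isPrime.prod_mem_iff.mpr ⟨q, Finset.mem_univ q, ha' q hq⟩⟩
  obtain ⟨q, -, hq⟩ := (‹P.IsPrime›.prod_mem_iff).mp h
  exact ha q hq

theorem away_of_avoid (B : Type u) [CommRing B] (P : Ideal B) [P.IsPrime] (L : Type u) [CommRing L]
    [Algebra B L] [IsLocalization.AtPrime L P] (s : B) (hs : s ∉ P)
    (h : ∀ q : PrimeSpectrum B, ¬ q.asIdeal ≤ P → s ∈ q.asIdeal) : IsLocalization.Away s L := by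
  have hdvd : ∀ b ∈ P.primeCompl, ∃ n : ℕ, b ∣ s ^ n := fun b hb => by
    have : s ∈ (Ideal.span {b}).radical := by
      rw [Ideal.radical_eq_sInf, Submodule.mem_sInf]
      exact fun q hq => h ⟨q, hq.2⟩ fun hle => hb (hle (hq.1 (Ideal.mem_span_singleton_self b)))
    obtain ⟨n, hn⟩ := this
    exact ⟨n, Ideal.mem_span_singleton.mp hn⟩
  constructor
  refine ⟨?_, fun z => ?_, fun {x y} hxy => ?_⟩
  · rintro ⟨_, n, rfl⟩
    exact IsLocalization.map_units L (⟨s ^ n, pow_mem (show s ∈ P.primeCompl from hs) n⟩ : P.primeCompl)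
  · obtain ⟨⟨a, b, hb⟩, hab⟩ := IsLocalization.surj P.primeCompl z
    obtain ⟨n, c, hc⟩ := hdvd b hb
    refine ⟨(a * c, ⟨s ^ n, n, rfl⟩), ?_⟩
    show z * algebraMap B L (s ^ n) = algebraMap B L (a * c)
    rw [hc, map_mul, map_mul, ← mul_assoc, hab]
  · obtain ⟨⟨c, hc⟩, hcxy⟩ := IsLocalization.exists_of_eq (M := P.primeCompl) hxy
    obtain ⟨n, d, hd⟩ := hdvd c hc
    refine ⟨⟨s ^ n, n, rfl⟩, ?_⟩
    show s ^ n * x = s ^ n * y
    rw [hd, mul_comm c d, mul_assoc, mul_assoc]
    exact congrArg (d * ·) hcxy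

/-- Let L/K be a finite extension of valued fields, v_L extending v_K, with K° = the valuation ring of
v_K having finite spectrum (finite height), and L° the valuation ring of v_L. If L° is local-étale
over K°, i.e. L° is the localization at a prime ideal of some étale K°-algebra B compatibly with the
K°-algebra structures, then L° is étale over K°. (For valued fields of finite height 'unramified' in
the local-étale sense is thus the same as K° → L° étale; the published lemma phrases the hypothesis
as 'L/K unramified'.) -/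
theorem result
    {K L Γ₀ Γ₁ : Type u} [Field K] [Field L] [Algebra K L] [FiniteDimensional K L]
    [LinearOrderedCommGroupWithZero Γ₀] [LinearOrderedCommGroupWithZero Γ₁]
    (vK : Valuation K Γ₀) (vL : Valuation L Γ₁) [vK.HasExtension vL]
    [Finite (PrimeSpectrum vK.valuationSubring)]
    (B : Type u) [CommRing B] [Algebra vK.valuationSubring B] [Algebra.Etale vK.valuationSubring B]
    [Algebra B vL.valuationSubring] [IsScalarTower vK.valuationSubring B vL.valuationSubring]
    (P : Ideal B) [P.IsPrime] [IsLocalization.AtPrime vL.valuationSubring P] :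
    Algebra.Etale vK.valuationSubring vL.valuationSubring := by
  haveI : Algebra.QuasiFinite vK.valuationSubring B := quasiFinite_of_unramified _ _
  have hfin : Finite (PrimeSpectrum B) := finite_spec vK.valuationSubring B
  obtain ⟨s, hsP, hs⟩ := exists_avoid B P
  haveI : IsLocalization.Away s vL.valuationSubring := away_of_avoid B P _ s hsP hs
  haveI : Algebra.Etale B vL.valuationSubring := Algebra.Etale.of_isLocalizationAway s
  exact Algebra.Etale.comp vK.valuationSubring B vL.valuationSubring

end Groth.Agent.S14896
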