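import Groth.Statements.S14897
import Groth.Agent.PnCoh.Chow.Proper
import Groth.Agent.Triage.SchDense

set_option autoImplicit false
attribute [-instance] CategoryTheory.catToReflQuiver
universe u
open CategoryTheory CategoryTheory.Limits AlgebraicGeometry
open FlatMor

namespace Groth.Agent.S14897

/-- Let S be integral, quasi-compact and quasi-separated, K̄ a field with a dominant morphism η̄ : Spec
K̄ → S, and f ∈ K̄. Then there is a K̄-modification of S on which f is a rational function defining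
a morphism to the projective line: η̄ factors as a schematically dominant s : Spec K̄ → S' followed
by a proper S' → S, and there is F : S' → P¹ (Proj of ℤ[T₀, T₁], universe-lifted) with s ≫ F equal
to the K̄-point [1 : f] of the chart T₀ ≠ 0. -/
theorem result
    {S : Scheme.{u}} [IsIntegral S] [CompactSpace S] [QuasiSeparatedSpace S]
    (Kb : Type u) [Field Kb] (ηb : Spec (CommRingCat.of Kb) ⟶ S) [IsDominant ηb] (f : Kb) :
    ∃ (S' : Scheme.{u}) (s : Spec (CommRingCat.of Kb) ⟶ S') (q : S' ⟶ S)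
      (F : S' ⟶ CohB1.ProjSpace 1 P1.R0.{u}),
      IsSchemeTheoreticallyDominant s ∧ IsProper q ∧ s ≫ q = ηb ∧
      s ≫ F = Spec.map (CommRingCat.ofHom (P1.chartMap 0 Kb f)) ≫
        Proj.awayι P1.grading (P1.T 0) (P1.X_mem 0) one_pos := by
  haveI : IsProper (CohB1.ProjSpace.toSpec 1 P1.R0.{u}) := Groth.Agent.PnCoh.Chow.isProper_toSpec 1 P1.R0
  let pt : Spec (CommRingCat.of Kb) ⟶ CohB1.ProjSpace 1 P1.R0.{u} :=
    Spec.map (CommRingCat.ofHom (P1.chartMap 0 Kb f)) ≫ Proj.awayι P1.grading (P1.T 0) (P1.X_mem 0) one_pos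
  let σ : S ⟶ Spec (CommRingCat.of P1.R0.{u}) := specULiftZIsTerminal.from S
  let s₀ : Spec (CommRingCat.of Kb) ⟶ pullback σ (CohB1.ProjSpace.toSpec 1 P1.R0) :=
    pullback.lift ηb pt (specULiftZIsTerminal.hom_ext _ _)
  haveI : QuasiSeparatedSpace ↥(pullback σ (CohB1.ProjSpace.toSpec 1 P1.R0.{u})) :=
    quasiSeparatedSpace_of_quasiSeparated (pullback.fst σ (CohB1.ProjSpace.toSpec 1 P1.R0))
  haveI : QuasiCompact s₀ := inferInstance
  haveI := Groth.Agent.Triage.SchDense.isSchemeTheoreticallyDominant_toImage s₀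
  refine ⟨s₀.image, s₀.toImage, s₀.imageι ≫ pullback.fst _ _, s₀.imageι ≫ pullback.snd _ _, inferInstance,
    inferInstance, ?_, ?_⟩
  · rw [Scheme.Hom.toImage_imageι_assoc]
    exact pullback.lift_fst _ _ _
  · rw [Scheme.Hom.toImage_imageι_assoc]
    exact pullback.lift_snd _ _ _

end Groth.Agent.S14897
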