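import Groth.Statements.S14909
import Mathlib
-- import your own Groth.Agent.* helpers here

set_option autoImplicit false
universe u
open Neron

namespace Groth.Agent.S14909

open MvPowerSeries in
theorem exists_evalHom {R T : Type u} [CommRing R] [CommRing T] (φ : R →+* T) (a : Fin 2 → T)
    (ha : ∀ i, IsNilpotent (a i)) :
    ∃ ε : MvPowerSeries (Fin 2) R →+* T, (∀ r, ε (algebraMap R _ r) = φ r) ∧ ∀ i, ε (X i) = a i := by
  let : UniformSpace R := ⊥
  let : UniformSpace T := ⊥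
  have : DiscreteTopology R := ⟨rfl⟩
  have : DiscreteTopology T := ⟨rfl⟩
  have hφ : Continuous φ := continuous_of_discreteTopology
  have he : HasEval a := ⟨fun i => (ha i).isTopologicallyNilpotent, by
    rw [Filter.cofinite_eq_bot]; exact Filter.tendsto_bot⟩
  refine ⟨eval₂Hom hφ he, fun r => ?_, fun i => ?_⟩
  · rw [coe_eval₂Hom, ← c_eq_algebraMap, eval₂_C]
  · rw [coe_eval₂Hom, eval₂_X]

theorem span_pair_pow {Q : Type u} [CommRing Q] {X Y : Q} (hX : ∃ z, X * X = z * (Y * Y)) (i : ℕ) :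
    Ideal.span {X, Y} ^ (i + 1) = Ideal.span {Y ^ (i + 1), X * Y ^ i} := by
  induction i with
  | zero => rw [pow_one, pow_one, pow_zero, mul_one, Set.pair_comm]
  | succ i ih =>
    rw [pow_succ, ih, Ideal.span_pair_mul_span_pair]
    obtain ⟨z, hz⟩ := hX
    refine le_antisymm (Ideal.span_le.2 ?_) (Ideal.span_le.2 ?_)
    · rintro c (rfl | rfl | rfl | rfl) <;> rw [SetLike.mem_coe, Ideal.mem_span_pair]
      · exact ⟨0, 1, by ring⟩
      · exact ⟨1, 0, by ring⟩
      · exact ⟨z, 0, by linear_combination -(Y ^ i) * hz⟩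
      · exact ⟨0, 1, by ring⟩
    · rintro c (rfl | rfl)
      · exact Ideal.subset_span (Or.inr (Or.inl (by ring)))
      · exact Ideal.subset_span (Or.inl (by ring))

open QuadraticAlgebra in
theorem omega_mul_injective {R : Type u} [CommRing R] [IsDomain R] {a : R} (ha : a ≠ 0) {z w : QuadraticAlgebra R a 0}
    (h : omega * z = omega * w) : z = w := by
  obtain ⟨p, q⟩ := z
  obtain ⟨p', q'⟩ := w
  rw [omega_mul_mk, omega_mul_mk] at h
  injection h with h1 h2
  simp only [zero_mul, add_zero] at h2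
  exact QuadraticAlgebra.ext h2 (mul_left_cancel₀ ha h1)

open QuadraticAlgebra in
theorem dvd_of_omega_pow {R : Type u} [CommRing R] [IsDomain R] {a r : R} (ha : a ≠ 0) (n : ℕ)
    (h : (omega : QuadraticAlgebra R a 0) ^ (n + 1) ∣ algebraMap R _ r * omega ^ n) : a ∣ r := by
  obtain ⟨z, hz⟩ := h
  have hcan : ∀ (m : ℕ) (p q : QuadraticAlgebra R a 0), omega ^ m * p = omega ^ m * q → p = q := fun m => by
    induction m with
    | zero => intro p q e; simpa using e
    | succ m ih =>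
      intro p q e
      rw [pow_succ, mul_assoc, mul_assoc] at e
      exact omega_mul_injective ha (ih _ _ e)
  have h2 : algebraMap R _ r = omega * z := hcan n _ _ (by linear_combination hz)
  obtain ⟨p, q⟩ := z
  rw [omega_mul_mk] at h2
  exact ⟨q, by simpa using congrArg QuadraticAlgebra.re h2⟩

/-- The kernel of an evaluation with `x ^ 2 = 0`, `y ^ 2 = a₆` and `(x, y) ^ (2 v + 1) = 0`. -/
theorem eval_kills {R T : Type u} [CommRing R] [CommRing T] {ϖ a₁ a₆ : R} {v : ℕ} {u₁ u₆ : Rˣ} (ha₁ : a₁ = u₁ * ϖ ^ v)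
    (ha₆ : a₆ = u₆ * ϖ) (h2 : ϖ ^ v ∣ (2 : R)) (hv : 1 ≤ v) {I M : Ideal (MvPowerSeries (Fin 2) R)}
    (hI : I = Ideal.span {MvPowerSeries.X 1 ^ 2 + a₁ • (MvPowerSeries.X 0 * MvPowerSeries.X 1) -
        MvPowerSeries.X 0 ^ 3 - algebraMap R (MvPowerSeries (Fin 2) R) a₆,
      2 * MvPowerSeries.X 1 + a₁ • MvPowerSeries.X 0, 3 * MvPowerSeries.X 0 ^ 2 - a₁ • MvPowerSeries.X 1})
    (hM : M = Ideal.span {algebraMap R (MvPowerSeries (Fin 2) R) ϖ, MvPowerSeries.X 0, MvPowerSeries.X 1})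
    (φ : R →+* T) (X Y : T) (hX : X * X = 0) (hY : Y * Y = φ a₆) (h₁ : Y ^ (2 * v + 1) = 0) (h₂ : X * Y ^ (2 * v) = 0) :
    ∃ ε : MvPowerSeries (Fin 2) R →+* T, (∀ r, ε (algebraMap R _ r) = φ r) ∧
      ε (MvPowerSeries.X 0) = X ∧ ε (MvPowerSeries.X 1) = Y ∧
      (∀ c ∈ M ^ (2 * v + 1) ⊔ I, ε c = 0) ∧ φ ϖ * Y ^ (2 * v) = 0 := by
  obtain ⟨ε, hr, hi⟩ := exists_evalHom φ ![X, Y] (fun i => by
    fin_cases i
    · exact ⟨2, by simp [pow_two, hX]⟩
    · exact ⟨2 * v + 1, h₁⟩)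
  have e0 : ε (MvPowerSeries.X 0) = X := hi 0
  have e1 : ε (MvPowerSeries.X 1) = Y := hi 1
  have hϖ : φ ϖ = φ ↑u₆⁻¹ * (Y * Y) := by
    rw [hY, ha₆, ← map_mul, ← mul_assoc, Units.inv_mul, one_mul]
  have hϖv : φ ϖ ^ v = φ ↑u₆⁻¹ ^ v * Y ^ (2 * v) := by rw [hϖ, mul_pow, ← pow_two, ← pow_mul]
  have hvY : φ ϖ ^ v * Y = 0 := by rw [hϖv, mul_assoc, ← pow_succ, h₁, mul_zero]
  have hvX : φ ϖ ^ v * X = 0 := by rw [hϖv, mul_assoc, mul_comm _ X, h₂, mul_zero]
  obtain ⟨c, hc⟩ := h2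
  refine ⟨ε, hr, e0, e1, ?_, ?_⟩
  · have hIle : I ≤ RingHom.ker ε := by
      rw [hI, Ideal.span_le]
      rintro p (rfl | rfl | rfl) <;> rw [SetLike.mem_coe, RingHom.mem_ker]
      · simp only [Algebra.smul_def, map_sub, map_add, map_mul, map_pow, hr, e0, e1, ha₁]
        linear_combination hY + φ u₁ * Y * hvX - X * hX
      · simp only [Algebra.smul_def, map_add, map_mul, map_ofNat, hr, e0, e1, ha₁, map_pow]
        have h2' : (2 : T) = φ ϖ ^ v * φ c := by rw [← map_pow, ← map_mul, ← hc, map_ofNat]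
        linear_combination φ u₁ * hvX + φ c * hvY + Y * h2'
      · simp only [Algebra.smul_def, map_sub, map_mul, map_ofNat, map_pow, hr, e0, e1, ha₁]
        linear_combination 3 * hX - φ u₁ * hvY
    have hMle : M ^ (2 * v + 1) ≤ RingHom.ker ε := by
      have h : M ≤ (Ideal.span {X, Y}).comap ε := by
        rw [hM, Ideal.span_le]
        rintro p (rfl | rfl | rfl) <;> rw [SetLike.mem_coe, Ideal.mem_comap]
        · rw [hr, hϖ, ← mul_assoc]; exact Ideal.mul_mem_left _ _ (Ideal.subset_span (Or.inr rfl))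
        · rw [e0]; exact Ideal.subset_span (Or.inl rfl)
        · rw [e1]; exact Ideal.subset_span (Or.inr rfl)
      refine ((Ideal.pow_right_mono h _).trans (Ideal.le_comap_pow ε _)).trans ?_
      rw [span_pair_pow ⟨0, by rw [hX, zero_mul]⟩, h₁, h₂, Set.pair_eq_singleton, Ideal.span_singleton_zero]
      exact le_rfl
    exact fun p hp => (sup_le hMle hIle) hp
  · rw [hϖ]; linear_combination φ ↑u₆⁻¹ * Y * h₁

/-- Let R be a discrete valuation ring with uniformizer ϖ, let a₁, a₆ ∈ R with a₁ of valuation v ≥ 1, a₆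
of valuation 1, and 2 of valuation at least v (so the residue characteristic is 2; 2 = 0 is
allowed). In the power series ring S = R[[x, y]] let M = (ϖ, x, y) be the maximal ideal and I the
ideal generated by y² + a₁xy − x³ − a₆, 2y + a₁x and 3x² − a₁y, so that S/I is a local ring with
maximal ideal m = M/I. Then the classes of y^(2v) and x·y^(2v−1) form a basis of the vector space
m^(2v)/m^(2v+1) over the residue field: M^(2v) + I = (y^(2v), x·y^(2v−1)) + I, and whenever a·y^(2v)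
+ b·x·y^(2v−1) ∈ M^(2v+1) + I with a, b ∈ R, both a and b lie in the maximal ideal of R. (Generation
holds with any exponent i ≥ 1 in place of 2v: M^i + I = (y^i, x·y^(i−1)) + I.) -/
theorem result (R : Type u) [CommRing R] [IsDomain R] [IsDiscreteValuationRing R]
    (ϖ a₁ a₆ : R) (hϖ : Irreducible ϖ) (v : ℕ) (hv : 1 ≤ v) (u₁ u₆ : Rˣ) (ha₁ : a₁ = u₁ * ϖ ^ v) (ha₆ : a₆ = u₆ * ϖ)
    (h2 : (2 : R) ∈ IsLocalRing.maximalIdeal R ^ v)
    (x y : MvPowerSeries (Fin 2) R) (hx : x = MvPowerSeries.X 0) (hy : y = MvPowerSeries.X 1)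
    (I M : Ideal (MvPowerSeries (Fin 2) R))
    (hI : I = Ideal.span {y ^ 2 + a₁ • (x * y) - x ^ 3 - algebraMap R (MvPowerSeries (Fin 2) R) a₆,
      2 * y + a₁ • x, 3 * x ^ 2 - a₁ • y})
    (hM : M = Ideal.span {algebraMap R (MvPowerSeries (Fin 2) R) ϖ, x, y}) :
    M ^ (2 * v) ⊔ I = Ideal.span {y ^ (2 * v), x * y ^ (2 * v - 1)} ⊔ I ∧
      ∀ a b : R, a • y ^ (2 * v) + b • (x * y ^ (2 * v - 1)) ∈ M ^ (2 * v + 1) ⊔ I →
        a ∈ IsLocalRing.maximalIdeal R ∧ b ∈ IsLocalRing.maximalIdeal R := by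
  subst hx hy
  have h2' : ϖ ^ v ∣ (2 : R) := by
    rwa [hϖ.maximalIdeal_eq, Ideal.span_singleton_pow, Ideal.mem_span_singleton] at h2
  have hm : ∀ r, ϖ ∣ r → r ∈ IsLocalRing.maximalIdeal R := fun r hr => by
    rwa [hϖ.maximalIdeal_eq, Ideal.mem_span_singleton]
  constructor
  · let q := Ideal.Quotient.mk I
    let P := MvPowerSeries (Fin 2) R
    let ι : R →+* P ⧸ I := q.comp (algebraMap R P)
    let X := q (MvPowerSeries.X 0)
    let Y := q (MvPowerSeries.X 1)
    obtain ⟨v', rfl⟩ : ∃ v', v = v' + 1 := ⟨v - 1, by omega⟩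
    have h3 : IsUnit (3 : R) := by
      have : (3 : R) = 1 + 2 := by norm_num
      rw [this, ← IsLocalRing.notMem_maximalIdeal]
      intro h
      have := Ideal.sub_mem _ h (Ideal.pow_le_self (Nat.succ_ne_zero _) h2)
      rw [add_sub_cancel_right] at this
      exact IsLocalRing.notMem_maximalIdeal.2 isUnit_one this
    obtain ⟨t, ht⟩ := h3.exists_left_inv
    have ht' : ι t * 3 = 1 := by rw [← map_ofNat ι 3, ← map_mul, ht, map_one]
    have hmem : ∀ p, p ∈ ({MvPowerSeries.X 1 ^ 2 + a₁ • (MvPowerSeries.X 0 * MvPowerSeries.X 1) -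
        MvPowerSeries.X 0 ^ 3 - algebraMap R P a₆,
      2 * MvPowerSeries.X 1 + a₁ • MvPowerSeries.X 0, 3 * MvPowerSeries.X 0 ^ 2 - a₁ • MvPowerSeries.X 1} : Set P) →
        q p = 0 := fun p hp => Ideal.Quotient.eq_zero_iff_mem.2 (hI ▸ Ideal.subset_span hp)
    have rf := hmem _ (Or.inl rfl)
    have rh := hmem _ (Or.inr (Or.inr rfl))
    simp only [Algebra.smul_def, map_sub, map_add, map_mul, map_pow, map_ofNat, ha₁, ha₆] at rf rh
    change Y ^ 2 + ι u₁ * ι ϖ ^ (v' + 1) * (X * Y) - X ^ 3 - ι u₆ * ι ϖ = 0 at rf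
    change 3 * X ^ 2 - ι u₁ * ι ϖ ^ (v' + 1) * Y = 0 at rh
    let g : P := algebraMap R P u₆ - algebraMap R P ((1 - t) * u₁ * ϖ ^ v') *
      (MvPowerSeries.X 0 * MvPowerSeries.X 1)
    have hg : IsUnit g := by
      rw [MvPowerSeries.isUnit_iff_constantCoeff]
      have hc : ∀ r, MvPowerSeries.constantCoeff (algebraMap R P r) = r :=
        fun r => MvPowerSeries.constantCoeff_C r
      simp [g, hc]
    obtain ⟨w, hw⟩ := (hg.map q).exists_left_inv
    have hgY : q g * ι ϖ = Y * Y := by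
      simp only [g, map_sub, map_mul, map_pow, map_one]
      change (ι u₆ - (1 - ι t) * ι u₁ * ι ϖ ^ v' * (X * Y)) * ι ϖ = Y * Y
      linear_combination -rf - X * ι t * rh + X ^ 3 * ht'
    have hϖY : ι ϖ = w * (Y * Y) := by rw [← hgY, ← mul_assoc, hw, one_mul]
    have hXX : X * X = (ι t * ι u₁ * w ^ (v' + 1) * Y ^ (2 * v' + 1)) * (Y * Y) := by
      have : X * X = ι t * ι u₁ * ι ϖ ^ (v' + 1) * Y := by linear_combination ι t * rh - X ^ 2 * ht'
      rw [this, hϖY]; ring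
    have hMap : M.map q = Ideal.span {X, Y} := by
      rw [hM, Ideal.map_span]
      refine le_antisymm (Ideal.span_le.2 ?_) (Ideal.span_le.2 ?_)
      · rintro _ ⟨p, rfl | rfl | rfl, rfl⟩ <;> rw [SetLike.mem_coe]
        · change ι ϖ ∈ _
          rw [hϖY, ← mul_assoc]; exact Ideal.mul_mem_left _ _ (Ideal.subset_span (Or.inr rfl))
        · exact Ideal.subset_span (Or.inl rfl)
        · exact Ideal.subset_span (Or.inr rfl)
      · rintro _ (rfl | rfl)
        · exact Ideal.subset_span ⟨_, Or.inr (Or.inl rfl), rfl⟩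
        · exact Ideal.subset_span ⟨_, Or.inr (Or.inr rfl), rfl⟩
    have key : (M ^ (2 * (v' + 1))).map q = (Ideal.span {MvPowerSeries.X 1 ^ (2 * (v' + 1)),
        MvPowerSeries.X 0 * MvPowerSeries.X 1 ^ (2 * (v' + 1) - 1)}).map q := by
      rw [Ideal.map_pow, hMap, Ideal.map_span, Set.image_pair, map_mul, map_pow, map_pow]
      exact span_pair_pow ⟨_, hXX⟩ (2 * v' + 1)
    have h := congrArg (Ideal.comap q) key
    rw [Ideal.comap_map_of_surjective' q Ideal.Quotient.mk_surjective,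
      Ideal.comap_map_of_surjective' q Ideal.Quotient.mk_surjective, Ideal.mk_ker] at h
    exact h
  · intro a b hab
    have hne : (u₆ : R) * ϖ ≠ 0 := mul_ne_zero u₆.ne_zero hϖ.ne_zero
    let A := QuadraticAlgebra R ((u₆ : R) * ϖ) 0
    let ω : A := QuadraticAlgebra.omega
    have hω : ω * ω = algebraMap R A ((u₆ : R) * ϖ) := by
      rw [QuadraticAlgebra.omega_mul_omega_eq_mk]
      ext <;> simp [A]
    have hdvd : ∀ (n : ℕ) (r : R), ω ^ (n + 1) ∣ algebraMap R A r * ω ^ n → r ∈ IsLocalRing.maximalIdeal R :=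
      fun n r h => hm r ((Dvd.intro_left _ rfl).trans (dvd_of_omega_pow hne n h))
    have ha : a ∈ IsLocalRing.maximalIdeal R := by
      let T := A ⧸ Ideal.span {ω ^ (2 * v + 1)}
      let q := Ideal.Quotient.mk (Ideal.span {ω ^ (2 * v + 1)})
      obtain ⟨ε, hr, hX, hY, hk, -⟩ := eval_kills (T := T) ha₁ ha₆ h2' hv hI hM
        (q.comp (algebraMap R A)) 0 (q ω) (by simp) (by rw [← map_mul, hω, ha₆]; rfl)
        (by rw [← map_pow]; exact Ideal.Quotient.eq_zero_iff_mem.2 (Ideal.mem_span_singleton_self _)) (zero_mul _)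
      have h := hk _ hab
      simp only [Algebra.smul_def, map_add, map_mul, map_pow, hr, hX, hY, zero_mul, mul_zero, add_zero] at h
      rw [RingHom.comp_apply, ← map_pow, ← map_mul, Ideal.Quotient.eq_zero_iff_mem, Ideal.mem_span_singleton] at h
      exact hdvd _ _ h
    refine ⟨ha, ?_⟩
    let T := A ⧸ Ideal.span {ω ^ (2 * v)}
    let q := Ideal.Quotient.mk (Ideal.span {ω ^ (2 * v)})
    have hq : q ω ^ (2 * v) = 0 := by
      rw [← map_pow]; exact Ideal.Quotient.eq_zero_iff_mem.2 (Ideal.mem_span_singleton_self _)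
    let i : T →+* DualNumber T := TrivSqZeroExt.inlHom T T
    obtain ⟨ε, hr, hX, hY, hk, hka⟩ := eval_kills (T := DualNumber T) ha₁ ha₆ h2' hv hI hM
      ((i.comp q).comp (algebraMap R A)) DualNumber.eps (i (q ω)) DualNumber.eps_mul_eps
      (by rw [← map_mul, ← map_mul, hω, ha₆]; rfl)
      (by rw [← map_pow, pow_succ, hq, zero_mul, map_zero])
      (by rw [← map_pow, hq, map_zero, mul_zero])
    have h := hk _ hab
    simp only [Algebra.smul_def, map_add, map_mul, map_pow, hr, hX, hY] at h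
    have hav : ((i.comp q).comp (algebraMap R A)) a * i (q ω) ^ (2 * v) = 0 := by
      rw [hϖ.maximalIdeal_eq, Ideal.mem_span_singleton] at ha
      obtain ⟨a', rfl⟩ := ha
      rw [map_mul]
      linear_combination ((i.comp q).comp (algebraMap R A)) a' * hka
    rw [hav, zero_add] at h
    have h' := congrArg TrivSqZeroExt.snd h
    rw [← map_pow] at h'
    simp [i] at h'
    refine hdvd (2 * v - 1) b ?_
    rw [Nat.sub_add_cancel (by omega), ← Ideal.mem_span_singleton, ← Ideal.Quotient.eq_zero_iff_mem, map_mul, map_pow]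
    exact h'

end Groth.Agent.S14909
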