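import Groth.Statements.S14925
import Groth.Agent.PerfPic7.Basic
import Groth.Agent.PicClLib.Basic

set_option autoImplicit false
universe u
open CategoryTheory AlgebraicGeometry
open scoped Groth.Agent.H23.PicMul
open PerfSch

namespace Groth.Agent.S14925

/-- Let p be a prime and X a quasi-compact quasi-separated scheme of characteristic p. Let π : X' ⟶ X be
a perfection of X: X' is a perfect scheme of characteristic p (its absolute Frobenius is an
isomorphism) and every morphism from a perfect scheme of characteristic p to X factors uniquely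
through π. For an invertible O_X-module L, the pullback π^*L is isomorphic to the structure sheaf of
X' if and only if some tensor power L^{⊗ p^n}, n ≥ 0, is isomorphic to the structure sheaf of X.
(The published statement is that pullback along π induces an isomorphism Pic(X)[1/p] ≅ Pic(X'); this
row is the assertion that the kernel of Pic(X) → Pic(X') is the p-power torsion.) -/
theorem result (p : ℕ) [Fact p.Prime] {X XP : Scheme.{u}} [FrobSch.IsCharP X p] [FrobSch.IsCharP XP p]
    [CompactSpace X] [QuasiSeparatedSpace X] (πX : XP ⟶ X) (hX : FrobSch.IsPerfection πX p)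
    (L : X.Modules) (hL : PicF.IsInvertible L) :
    PicF.IsTrivialCl (PicF.pullCl πX (PicF.cl L)) ↔
      ∃ n : ℕ, PicF.IsTrivialCl (PicF.cl (CohB1.tensorPow L (p ^ n))) := by
  have hpow : ∀ n, PicF.cl (CohB1.tensorPow L (p ^ n)) = PicF.cl L ^ (p ^ n) := fun n =>
    Groth.Agent.H23.PicMul.cl_tensorPow L _
  constructor
  · intro htriv
    obtain ⟨φ⟩ := Groth.Agent.H23.PicMul.cl_eq_iff.1
      (show PicF.cl ((Scheme.Modules.pullback πX).obj L) = PicF.cl (Coh.structureModule XP) from htriv)
    obtain ⟨n, t', ht'⟩ := Groth.Agent.PerfPic7.exists_section_pow hX hL φ.inv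
    have htop : CohB1.genLocus _ φ.inv = ⊤ := top_le_iff.1 fun x _ =>
      TopologicalSpace.Opens.mem_sSup.2 ⟨⊤, (inferInstance : IsIso _), trivial⟩
    have : CohB1.genLocus _ t' = ⊤ := by
      refine top_le_iff.1 fun x _ => ?_
      obtain ⟨y, rfl⟩ := (Groth.Agent.H9Misc.PerfSchLib.surjective p πX hX).surj x
      have : y ∈ πX ⁻¹ᵁ CohB1.genLocus _ t' := by rw [ht', htop]; trivial
      exact this
    obtain ⟨e⟩ := Groth.Agent.PerfPic7.nonempty_iso_of_genLocus_eq_top t' this
    exact ⟨n, Quot.sound ⟨e.symm⟩⟩
  · rintro ⟨n, hn⟩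
    have key : ∀ k, PicF.pullCl πX (PicF.cl L) ^ (p ^ k) = 1 → PicF.pullCl πX (PicF.cl L) = 1 := by
      intro k
      induction k with
      | zero => simp
      | succ k ih =>
        intro h
        apply ih
        have hM : PicF.IsInvertible (CohB1.tensorPow ((Scheme.Modules.pullback πX).obj L) (p ^ k)) :=
          Groth.Agent.InvX.isInvertible_tensorPow (Groth.Agent.PicClLib.isInvertible_pullback πX hL) _
        have h' : PicF.cl (CohB1.tensorPow (CohB1.tensorPow ((Scheme.Modules.pullback πX).obj L) (p ^ k)) p) =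
            PicF.cl (Coh.structureModule XP) := by
          rw [Groth.Agent.H23.PicMul.cl_tensorPow, Groth.Agent.H23.PicMul.cl_tensorPow, ← pow_mul, ← pow_succ]
          exact h
        obtain ⟨e⟩ := Groth.Agent.H23.PicMul.cl_eq_iff.1 h'
        obtain ⟨e'⟩ := Groth.Agent.PerfPic7.isTrivial_of_pow hX.1 hM e.symm
        exact (Groth.Agent.H23.PicMul.cl_tensorPow _ _).symm.trans (Quot.sound ⟨e'.symm⟩)
    refine key n ?_
    rw [← Groth.Agent.H23.PicMul.pullCl_pow, ← hpow,
      show PicF.cl (CohB1.tensorPow L (p ^ n)) = 1 from hn, Groth.Agent.H23.PicMul.pullCl_one]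

end Groth.Agent.S14925
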