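import Groth.Statements.S14927
import Groth.Agent.PerfPic7.Basic
import Groth.Agent.PicClLib.Basic
import Groth.Agent.AmpleX.Pow
import Groth.Agent.RGLib.Lim8RelAmple
import Groth.Agent.LimChev.Main

set_option autoImplicit false
universe u
open CategoryTheory AlgebraicGeometry
open scoped Groth.Agent.H23.PicMul
open PerfSch

namespace Groth.Agent.S14927

/-- Let p be a prime and X a quasi-compact quasi-separated scheme of characteristic p. Let π : X' ⟶ X be
a perfection of X: X' is a perfect scheme of characteristic p (its absolute Frobenius is an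
isomorphism) and every morphism from a perfect scheme of characteristic p to X factors uniquely
through π. An invertible O_X-module L is ample (every point of the quasi-compact scheme X has an
affine open neighbourhood of the form X_s with s a global section of a positive tensor power of L)
if and only if its pullback π^*L to X' is ample. (Invertibility of L is assumed: for the spectrum of
the dual numbers over the prime field, whose perfection is a point, the pullback of the
non-invertible module O/(ε) is the structure sheaf.) -/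
theorem result (p : ℕ) [Fact p.Prime] {X XP : Scheme.{u}} [FrobSch.IsCharP X p] [FrobSch.IsCharP XP p]
    [CompactSpace X] [QuasiSeparatedSpace X] (πX : XP ⟶ X) (hX : FrobSch.IsPerfection πX p)
    (L : X.Modules) (hL : PicF.IsInvertible L) :
    CohB1.IsAmple L ↔ CohB1.IsAmple ((Scheme.Modules.pullback πX).obj L) := by
  haveI := Groth.Agent.H9Misc.PerfSchLib.isAffineHom p hX
  refine ⟨fun h => Groth.Agent.RGLib.Lim8.isAmple_pullback_affine πX h, fun h => ?_⟩
  refine Groth.Agent.AmpleX.isAmple_iff.2 ⟨hL, inferInstance, fun x => ?_⟩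
  obtain ⟨y, rfl⟩ := (Groth.Agent.H9Misc.PerfSchLib.surjective p πX hX).surj x
  obtain ⟨m, hm, s, hys, hs⟩ := (Groth.Agent.AmpleX.isAmple_iff.1 h).2.2 y
  obtain ⟨s₁, hs₁⟩ := Groth.Agent.AmpleX.exists_section_of_cl_eq
    (B := (Scheme.Modules.pullback πX).obj (CohB1.tensorPow L m))
    (show PicF.cl _ = PicF.pullCl πX (PicF.cl (CohB1.tensorPow L m)) by
      rw [Groth.Agent.H23.PicMul.cl_tensorPow, Groth.Agent.H23.PicMul.cl_tensorPow,
        Groth.Agent.H23.PicMul.pullCl_pow]; rfl) s
  obtain ⟨n, t', ht'⟩ := Groth.Agent.PerfPic7.exists_section_pow hX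
    (Groth.Agent.InvX.isInvertible_tensorPow hL m) s₁
  obtain ⟨t, ht⟩ := Groth.Agent.AmpleX.exists_section_of_cl_eq (B := CohB1.tensorPow L (m * p ^ n))
    (by simp only [Groth.Agent.H23.PicMul.cl_tensorPow, ← pow_mul]) t'
  refine ⟨m * p ^ n, Nat.mul_pos hm (pow_pos (Fact.out : p.Prime).pos n), t, ?_, ?_⟩
  · rw [ht]
    have : y ∈ πX ⁻¹ᵁ CohB1.genLocus _ t' := by rw [ht', hs₁]; exact hys
    exact this
  · rw [ht]
    have hi : IsIntegralHom πX := Groth.Agent.H9Misc.PerfSchLib.isIntegralHom hX
    haveI : IsAffine ↑(πX ⁻¹ᵁ CohB1.genLocus _ t') := by rw [ht', hs₁]; exact hs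
    haveI : Surjective (πX ∣_ CohB1.genLocus _ t') :=
      IsZariskiLocalAtTarget.restrict (Groth.Agent.H9Misc.PerfSchLib.surjective p πX hX) _
    haveI : UniversallyClosed (πX ∣_ CohB1.genLocus _ t') :=
      IsZariskiLocalAtTarget.restrict (inferInstance : UniversallyClosed πX) _
    exact Groth.Agent.LimChev.isAffine_of_surjective (πX ∣_ CohB1.genLocus _ t')

end Groth.Agent.S14927
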