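import Groth.Statements.S14936
import Groth.Agent.TateIsog.FrobRank

set_option autoImplicit false
set_option backward.isDefEq.respectTransparency false
set_option backward.isDefEq.respectTransparency.types false
set_option maxHeartbeats 1000000
set_option linter.style.haveILetI false
universe u
open CategoryTheory MonoidalCategory CartesianMonoidalCategory MonObj GrpObj AlgebraicGeometry
open AbVar

namespace Groth.Agent.S14936
open Groth.Agent

/-- Clauses 1 and 3: let k be a finite field with q elements and algebraic closure Ω, l a prime number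
invertible in k, and A, B abelian varieties over k (proper, geometrically integral commutative group
schemes over k), with q-Frobenius endomorphisms π_A, π_B (the identity on points and the q-th power
map on sections; they are homomorphisms). Assume, as is the case, that the l-adic Tate modules of
Ω-points T_l A, T_l B are free of finite rank over ℤ_l. Then A and B are isogenous over k — there
are homomorphisms u : A → B and v : B → A and an integer n > 0 with v ∘ u = n_A and u ∘ v = n_B — if
and only if the characteristic polynomials of T_l(π_A) on T_l A and of T_l(π_B) on T_l B are equal. -/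
theorem result (k Ω : Type u) [Field k] [Finite k] [Field Ω] [Algebra k Ω] [IsAlgClosure k Ω]
    (l : ℕ) [Fact l.Prime] (hl : (l : k) ≠ 0) (A B : Over (Spec (CommRingCat.of k)))
    [GrpObj A] [IsCommMonObj A] [IsProper A.hom] [GeometricallyIntegral A.hom]
    [GrpObj B] [IsCommMonObj B] [IsProper B.hom] [GeometricallyIntegral B.hom]
    (πA : A ⟶ A) [IsMonHom πA] (hπAb : πA.left.base = 𝟙 _)
    (hπAle : ∀ U : A.left.Opens, U ≤ πA.left ⁻¹ᵁ U)
    (hπAapp : ∀ (U : A.left.Opens) (s : Γ(A.left, U)), (πA.left.appLE U U (hπAle U)).hom s = s ^ Nat.card k)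
    (πB : B ⟶ B) [IsMonHom πB] (hπBb : πB.left.base = 𝟙 _)
    (hπBle : ∀ U : B.left.Opens, U ≤ πB.left ⁻¹ᵁ U)
    (hπBapp : ∀ (U : B.left.Opens) (s : Γ(B.left, U)), (πB.left.appLE U U (hπBle U)).hom s = s ^ Nat.card k)
    [Module.Free ℤ_[l] (AbDual.TateMod A l (SGA7.pt Ω))] [Module.Finite ℤ_[l] (AbDual.TateMod A l (SGA7.pt Ω))]
    [Module.Free ℤ_[l] (AbDual.TateMod B l (SGA7.pt Ω))] [Module.Finite ℤ_[l] (AbDual.TateMod B l (SGA7.pt Ω))] :
    (∃ (u : A ⟶ B) (_ : IsMonHom u) (v : B ⟶ A) (_ : IsMonHom v) (n : ℕ), 0 < n ∧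
        u ≫ v = (𝟙 A) ^ n ∧ v ≫ u = (𝟙 B) ^ n) ↔
      (AbDual.tateMapₗ (l := l) (T := SGA7.pt Ω) πA).charpoly =
        (AbDual.tateMapₗ (l := l) (T := SGA7.pt Ω) πB).charpoly := by
  have hA : WeilLib.IsPowMap (EndAV.End.of πA).toHom.left (Nat.card k) :=
    WeilLib.isPowMap_of_hyp πA.left _ hπAb hπAle hπAapp
  have hB : WeilLib.IsPowMap (EndAV.End.of πB).toHom.left (Nat.card k) :=
    WeilLib.isPowMap_of_hyp πB.left _ hπBb hπBle hπBapp
  have ha := TateIsog.charpoly_endMap (Ω := Ω) l (EndAV.End.of πA)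
  have hb := TateIsog.charpoly_endMap (Ω := Ω) l (EndAV.End.of πB)
  constructor
  · rintro ⟨u, hu, v, hv, n, hn, h₁, h₂⟩
    haveI := hu; haveI := hv
    let e := LinearEquiv.ofBijective _ (TateIsog.ratMap_bijective_of_isogeny (Ω := Ω) l u v n hn h₁ h₂)
    refine Polynomial.map_injective (algebraMap ℤ_[l] ℚ_[l]) (IsFractionRing.injective ℤ_[l] ℚ_[l]) ?_
    refine ha.symm.trans (Eq.trans ?_ hb)
    rw [← e.charpoly_conj (TateIsog.endMap Ω l (EndAV.End.of πA))]
    congr 1
    refine LinearMap.ext fun y => ?_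
    obtain ⟨x, rfl⟩ := e.surjective y
    rw [LinearEquiv.conj_apply_apply, LinearEquiv.symm_apply_apply, TateIsog.endMap_eq_gal l _ hA,
      TateIsog.endMap_eq_gal l _ hB]
    exact LinearMap.congr_fun (TateIsog.ratMap_gal l (EndAV.Hom.of u) (TateIsog.frobAut k Ω)) x
  · intro h
    exact TateIsog.isogenous_of_charpoly l hl _ hA _ hB
      (ha.trans ((congrArg (Polynomial.map (algebraMap ℤ_[l] ℚ_[l])) h).trans hb.symm))

end Groth.Agent.S14936
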