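import Groth.Statements.S14937
import Groth.Agent.TateIsog.RankUse

set_option autoImplicit false
set_option backward.isDefEq.respectTransparency false
set_option backward.isDefEq.respectTransparency.types false
set_option maxHeartbeats 1000000
set_option linter.style.haveILetI false
universe u
open CategoryTheory MonoidalCategory CartesianMonoidalCategory MonObj GrpObj AlgebraicGeometry
open AbVar

namespace Groth.Agent.S14937
open Groth.Agent

/-- Lower bound: let A be an abelian variety of dimension g over a finite field k (a proper,
geometrically integral commutative group scheme over k). Then the rank of End_k(A) is at least 2g: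
there exist 2g endomorphisms of A (homomorphisms A → A) which are linearly independent over ℤ in the
additive group of k-morphisms A → A (pointwise product). The upper bound 4g² holds over any field. -/
theorem result (k : Type u) [Field k] [Finite k]
    (A : Over (Spec (CommRingCat.of k)))
    [GrpObj A] [IsCommMonObj A] [IsProper A.hom] [GeometricallyIntegral A.hom]
    (g : ℕ) (hg : topologicalKrullDim A.left = g) :
    ∃ e : Fin (2 * g) → (A ⟶ A), (∀ i, IsMonHom (e i)) ∧
      LinearIndependent ℤ (fun i => Additive.ofMul (e i)) := by
  classical
  obtain ⟨l, hp, hl⟩ := AVHomForm.exists_prime_ne_zero (k := k)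
  obtain ⟨hfree, hfin, hrk⟩ := AVHomForm.tate_free (AlgebraicClosure k) l hl A hg
  haveI : Module.Free ℤ_[l] (AbDual.TateMod A l (SGA7.pt (AlgebraicClosure k))) := hfree
  haveI : Module.Finite ℤ_[l] (AbDual.TateMod A l (SGA7.pt (AlgebraicClosure k))) := hfin
  obtain ⟨π, hm, hπ⟩ := AVFrobLib.exists_frobenius A
  have h := TateIsog.finrank_hom_eq (Ω := AlgebraicClosure k) l hl (EndAV.End.of π) hπ (EndAV.End.of π) hπ
  have hd : (TateIsog.endMap (AlgebraicClosure k) l (EndAV.End.of π)).charpoly.natDegree = 2 * g := by
    rw [LinearMap.charpoly_natDegree, Module.finrank_baseChange]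
    exact hrk
  have hle : 2 * g ≤ Module.finrank ℤ (EndAV.Hom A A) := by
    rw [h, ← hd]
    exact TateIsog.natDegree_le_rPoly (LinearMap.charpoly_monic _)
  obtain ⟨e, he, hli, -⟩ := TateIsog.exists_family (A := A) (B := A) hle
  exact ⟨e, he, hli⟩

end Groth.Agent.S14937
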