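import Groth.Statements.S14938
import Groth.Agent.TateIsog.Centre

set_option autoImplicit false
set_option backward.isDefEq.respectTransparency false
set_option backward.isDefEq.respectTransparency.types false
set_option maxHeartbeats 1000000
set_option linter.style.haveILetI false
universe u
open CategoryTheory MonoidalCategory CartesianMonoidalCategory MonObj GrpObj AlgebraicGeometry
open AbVar

namespace Groth.Agent.S14938
open Groth.Agent

/-- Let A be an abelian variety over a finite field k with q elements (a proper, geometrically integral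
commutative group scheme over k) and π_A its q-Frobenius endomorphism (the identity on points and
the q-th power map on sections; a homomorphism). If an endomorphism f of A commutes with every
endomorphism of A, then for some integer N > 0 the multiple N·f is an integral linear combination of
the composition powers π_A^0 = id, π_A, π_A ∘ π_A, …; in other words the centre of ℚ ⊗ End_k(A) is
ℚ[π_A] (the reverse inclusion being that π_A is central). In the statement the group Hom_k(A, A) is
written multiplicatively, so N·f is f^N and the linear combination is a finite product of integer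
powers. -/
theorem result (k : Type u) [Field k] [Finite k]
    (A : Over (Spec (CommRingCat.of k)))
    [GrpObj A] [IsCommMonObj A] [IsProper A.hom] [GeometricallyIntegral A.hom]
    (πA : A ⟶ A) [IsMonHom πA] (hπAb : πA.left.base = 𝟙 _)
    (hπAle : ∀ U : A.left.Opens, U ≤ πA.left ⁻¹ᵁ U)
    (hπAapp : ∀ (U : A.left.Opens) (s : Γ(A.left, U)), (πA.left.appLE U U (hπAle U)).hom s = s ^ Nat.card k)
    (f : A ⟶ A) [IsMonHom f] (hf : ∀ h : A ⟶ A, IsMonHom h → f ≫ h = h ≫ f) :
    ∃ N : ℕ, 0 < N ∧ ∃ (d : ℕ) (a : Fin d → ℤ),
      f ^ N = ∏ i : Fin d, ((fun h : A ⟶ A => h ≫ πA)^[(i : ℕ)] (𝟙 A)) ^ (a i) := by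
  classical
  have hπ : WeilLib.IsPowMap (EndAV.End.of πA).toHom.left (Nat.card k) :=
    WeilLib.isPowMap_of_hyp πA.left _ hπAb hπAle hπAapp
  obtain ⟨N, hN, hmem⟩ := TateIsog.exists_nsmul_mem_powers' (EndAV.End.of πA) hπ (EndAV.End.of f) fun ψ =>
    EndAV.Hom.ext (show ψ.toHom ≫ f = f ≫ ψ.toHom from (hf ψ.toHom inferInstance).symm)
  obtain ⟨c, hc⟩ := Finsupp.mem_span_range_iff_exists_finsupp.1 hmem
  obtain ⟨d, hd⟩ : ∃ d : ℕ, c.support ⊆ Finset.range d := ⟨c.support.sup id + 1, fun i hi =>
    Finset.mem_range.2 (Nat.lt_succ_of_le (Finset.le_sup (f := id) hi))⟩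
  refine ⟨N, hN, d, fun i => c i, ?_⟩
  have hpow : ∀ i : ℕ, ((fun h : A ⟶ A => h ≫ πA)^[i] (𝟙 A)) = (EndAV.End.of πA ^ i).toHom := fun i => by
    induction i with
    | zero => rw [pow_zero]; rfl
    | succ i ih =>
      rw [Function.iterate_succ', Function.comp_apply, ih, pow_succ']
      rfl
  rw [Finsupp.sum_of_support_subset c hd (fun i a => a • EndAV.End.of πA ^ i) (fun i _ => zero_smul ℤ _),
    ← Fin.sum_univ_eq_sum_range (fun i => c i • EndAV.End.of πA ^ i) d] at hc
  let j : EndAV.End A →+ Additive (A ⟶ A) :=
    { toFun := fun φ => Additive.ofMul φ.toHom, map_zero' := rfl, map_add' := fun _ _ => rfl }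
  have h1 := congrArg j hc
  rw [map_sum, map_nsmul] at h1
  simp only [map_zsmul] at h1
  have h2 := congrArg Additive.toMul h1
  rw [toMul_sum, toMul_nsmul] at h2
  simp only [toMul_zsmul] at h2
  refine h2.symm.trans (Finset.prod_congr rfl fun i _ => ?_)
  rw [hpow]
  rfl

end Groth.Agent.S14938
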