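import Groth.Statements.S14941
import Groth.Agent.TateIsog.PolModule
import Groth.Agent.TateIsog.FinDim

set_option autoImplicit false
set_option backward.isDefEq.respectTransparency false
set_option backward.isDefEq.respectTransparency.types false
set_option maxHeartbeats 1000000
set_option linter.style.haveILetI false
universe u
open CategoryTheory CategoryTheory.Limits MonoidalCategory CartesianMonoidalCategory MonObj GrpObj AlgebraicGeometry
open AbVar

namespace Groth.Agent.S14941
open Groth.Agent

/-- Take a finite field k and an abelian variety A over it (a proper, geometrically integral commutative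
group scheme over k) and an integer d ≥ 1. Up to isomorphism, only finitely many abelian varieties B
over k are isogenous to A and carry a polarisation of degree d² defined over k. Here: B^t is a given
dual abelian variety (B^t, φ) for the fppf topology, a polarisation is a homomorphism λ : B → B^t
which on every geometric fibre is of the form Λ(L) = φ_L for an ample invertible sheaf L, its degree
d² means λ is finite locally free of rank d², B isogenous to A means there is a finite surjective
homomorphism A → B, and isomorphism is isomorphism of k-schemes (equivalently of abelian varieties,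
after a translation). -/
theorem result (k : Type u) [Field k] [Finite k]
    (A : Over (Spec (CommRingCat.of k)))
    [GrpObj A] [IsCommMonObj A] [IsProper A.hom] [GeometricallyIntegral A.hom]
    (d : ℕ) (hd : 1 ≤ d) :
    ∃ (n : ℕ) (Bs : Fin n → Over (Spec (CommRingCat.of k))),
      ∀ (B Bt : Over (Spec (CommRingCat.of k))) [GrpObj B] [IsCommMonObj B] [IsProper B.hom] [GeometricallyIntegral B.hom]
        [GrpObj Bt] [IsCommMonObj Bt] (φ : AgPol.DualMap B Bt),
        AbDual.IsDualAV Scheme.fppfPrecoverage B Bt φ →
        ∀ lam : B ⟶ Bt, AgPol.IsPolarization B Bt φ lam → AgPol.HasDegSq lam d →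
        (∃ (u : A ⟶ B) (_ : IsMonHom u), IsFinite u.left ∧ Function.Surjective u.left.base) →
        ∃ i : Fin n, Nonempty (B ≅ Bs i) := by
  open Groth.Agent Groth.Agent.TateIsog in
  haveI : IsIntegral A.left := GeometricallyIntegral.isIntegral_of_subsingleton A.hom
  obtain ⟨g, hg⟩ : ∃ g : ℕ, topologicalKrullDim ↥A.left = g :=
    ⟨_, Groth.Agent.VarDim.topologicalKrullDim_eq_deg_genericPoint A.hom⟩
  obtain ⟨n, Bs, hBs⟩ := Groth.Agent.TateIsog.exists_finite_avs (k := k) g (2 ^ g * d)
  refine ⟨n, Bs, fun B Bt _ _ _ _ _ _ φ hφ lam hpol hdeg hisog => ?_⟩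
  obtain ⟨u, _, hu, hs⟩ := hisog
  haveI : IsIntegral B.left := GeometricallyIntegral.isIntegral_of_subsingleton B.hom
  haveI := hu
  haveI : AlgebraicGeometry.Surjective u.left := ⟨hs⟩
  have hgB : topologicalKrullDim ↥B.left = g := by
    refine le_antisymm ?_ (hg.symm.le.trans (Groth.Agent.TateIsog.topologicalKrullDim_le_of_finite u.left))
    rw [← hg, Groth.Agent.VarDim.topologicalKrullDim_eq_deg_genericPoint A.hom,
      Groth.Agent.VarDim.topologicalKrullDim_eq_deg_genericPoint B.hom,
      ← Groth.Agent.DivModel.image_genericPoint u.left]
    exact_mod_cast Groth.Agent.VarDim.deg_map_le u.left B.hom (Over.w u) (genericPoint A.left)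
  obtain ⟨M, hM, hE⟩ := Groth.Agent.TateIsog.exists_ample_euler B Bt hφ hpol hdeg hgB
  exact hBs B M hM hgB hE

end Groth.Agent.S14941
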