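import Groth.Statements.S14942
import Groth.Agent.AVSimpleLib.Basic
import Groth.Agent.AVFrobLib.Data

set_option autoImplicit false
universe u
open CategoryTheory MonoidalCategory CartesianMonoidalCategory MonObj GrpObj AlgebraicGeometry
open AbVar

namespace Groth.Agent.S14942

/-- Part 1: let A be a simple abelian variety over a finite field k with q elements — a proper,
geometrically integral commutative group scheme over k whose only abelian subvarieties over k
(geometrically integral closed subgroup schemes) are the trivial subgroup and A itself — with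
q-Frobenius endomorphism π_A (the identity on points, the q-th power map on sections; a
homomorphism). Let Ω be an algebraic closure of k, l a prime invertible in k, and assume (as is the
case) that the l-adic Tate module of Ω-points T_l A is free of finite rank over ℤ_l. Then the
characteristic polynomial of T_l(π_A), which has rational coefficients, is a power of the minimal
polynomial of π_A over ℚ: viewed over ℚ_l it equals h^n for some polynomial h with rational
coefficients irreducible over ℚ and some n. -/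
theorem result (k Ω : Type u) [Field k] [Finite k] [Field Ω] [Algebra k Ω] [IsAlgClosure k Ω]
    (l : ℕ) [Fact l.Prime] (hl : (l : k) ≠ 0) (A : Over (Spec (CommRingCat.of k)))
    [GrpObj A] [IsCommMonObj A] [IsProper A.hom] [GeometricallyIntegral A.hom]
    (hsimple : ∀ (B : Over (Spec (CommRingCat.of k))) [GrpObj B] [GeometricallyIntegral B.hom] (i : B ⟶ A) [IsMonHom i]
      [IsClosedImmersion i.left], Subsingleton B.left ∨ IsIso i)
    (πA : A ⟶ A) [IsMonHom πA] (hπAb : πA.left.base = 𝟙 _)
    (hπAle : ∀ U : A.left.Opens, U ≤ πA.left ⁻¹ᵁ U)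
    (hπAapp : ∀ (U : A.left.Opens) (s : Γ(A.left, U)), (πA.left.appLE U U (hπAle U)).hom s = s ^ Nat.card k)
    [Module.Free ℤ_[l] (AbDual.TateMod A l (SGA7.pt Ω))] [Module.Finite ℤ_[l] (AbDual.TateMod A l (SGA7.pt Ω))] :
    ∃ (h : Polynomial ℚ) (n : ℕ), Irreducible h ∧
      ((AbDual.tateMapₗ (l := l) (T := SGA7.pt Ω) πA).charpoly).map (algebraMap ℤ_[l] ℚ_[l]) =
        (h.map (algebraMap ℚ ℚ_[l])) ^ n := by
  haveI : IsAlgClosed Ω := IsAlgClosure.isAlgClosed k
  obtain ⟨g, hg⟩ := Groth.Agent.TorsPtsLib.exists_dim A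
  obtain ⟨P, hm, hd, hP, hc⟩ := Groth.Agent.AVCharpoly.exists_charpoly Ω l hl hg (EndAV.End.of πA)
  have hc' : ((AbDual.tateMapₗ (l := l) (T := SGA7.pt Ω) πA).charpoly).map (algebraMap ℤ_[l] ℚ_[l]) =
      (P.map (Int.castRingHom ℚ)).map (algebraMap ℚ ℚ_[l]) := by
    erw [hc]
    rw [Polynomial.map_map, Polynomial.map_map]
    congr 1
  obtain ⟨ν, hνm, hν0, hνe, -⟩ := Groth.Agent.AVCharpoly.exists_int_minpoly (EndAV.End.of πA)
  have hint : _root_.IsIntegral ℚ (EndAV.toEnd0 (EndAV.End.of πA)) := ⟨ν.map (Int.castRingHom ℚ), hνm.map _, by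
      show Polynomial.aeval (EndAV.toEnd0 (EndAV.End.of πA)) (ν.map (Int.castRingHom ℚ)) = 0
      rw [hνe, minpoly.aeval]⟩
  rcases subsingleton_or_nontrivial (EndAV.End0 A) with hs | hn
  · refine ⟨Polynomial.X, 0, Polynomial.irreducible_X, ?_⟩
    rw [hc', pow_zero]
    have hg0 : g = 0 := by
      by_contra hg0
      have h1 : (1 : EndAV.End A) = 0 := Groth.Agent.AVCharpoly.toEnd0_injective (Subsingleton.elim _ _)
      haveI : Subsingleton (EndAV.End A) := subsingleton_of_zero_eq_one h1.symm
      have hz0 := Groth.Agent.AVCharpoly.isDegPoly_zero hg 0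
      rw [show ((0 : EndAV.End A) - ((0 : ℤ) : EndAV.End A)) = 1 from Subsingleton.elim _ _,
        EndAV.End.toHom_one, Groth.Agent.AVCharpoly.degQ_id] at hz0
      simp [hg0] at hz0
    rw [Polynomial.eq_one_of_monic_natDegree_zero (hm.map (Int.castRingHom ℚ))
      (by rw [hm.natDegree_map, hd, hg0]), Polynomial.map_one]
  · haveI : NoZeroDivisors (EndAV.End0 A) := ⟨fun {a b} hab => or_iff_not_imp_left.2 fun ha =>
      (Groth.Agent.AVSimpleLib.isUnit_of_ne_zero hsimple a ha).mul_right_eq_zero.1 hab⟩
    haveI : IsDomain (EndAV.End0 A) := NoZeroDivisors.to_isDomain _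
    have hirr : Irreducible (ν.map (Int.castRingHom ℚ)) := hνe ▸ minpoly.irreducible hint
    refine ⟨ν.map (Int.castRingHom ℚ), 2 * g / (ν.map (Int.castRingHom ℚ)).natDegree, hirr, ?_⟩
    rw [hc', Groth.Agent.AVCharpoly.eq_pow_of_irreducible hg (EndAV.End.of πA) (hm.map _)
      (by rw [hm.natDegree_map, hd]) hP hνm hν0 hirr, Polynomial.map_pow]

end Groth.Agent.S14942
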