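import Groth.Statements.S14943
import Groth.Agent.AVFrobLib.Data

set_option autoImplicit false
universe u
open CategoryTheory MonoidalCategory CartesianMonoidalCategory MonObj GrpObj AlgebraicGeometry
open AbVar

namespace Groth.Agent.S14943

/-- Let A be an abelian variety over a finite field k with q elements (a proper, geometrically integral
commutative group scheme over k), π_A its q-Frobenius endomorphism (the identity on points and the
q-th power map on sections; a homomorphism), Ω an algebraic closure of k and l a prime invertible in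
k. Then the Frobenius endomorphism acts semisimply on V_l(A) = ℚ_l ⊗_{ℤ_l} T_l(A), T_l(A) the l-adic
Tate module of Ω-points: the ℚ_l-linear endomorphism ℚ_l ⊗ T_l(π_A) is semisimple. (The published
statement is that ℚ[π_A] ⊆ ℚ ⊗ End_k(A) is a semisimple algebra, hence acts semisimply in every
representation over a field of characteristic zero; this row states that action on V_l(A).) -/
theorem result (k Ω : Type u) [Field k] [Finite k] [Field Ω] [Algebra k Ω] [IsAlgClosure k Ω]
    (l : ℕ) [Fact l.Prime] (hl : (l : k) ≠ 0) (A : Over (Spec (CommRingCat.of k)))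
    [GrpObj A] [IsCommMonObj A] [IsProper A.hom] [GeometricallyIntegral A.hom]
    (πA : A ⟶ A) [IsMonHom πA] (hπAb : πA.left.base = 𝟙 _)
    (hπAle : ∀ U : A.left.Opens, U ≤ πA.left ⁻¹ᵁ U)
    (hπAapp : ∀ (U : A.left.Opens) (s : Γ(A.left, U)), (πA.left.appLE U U (hπAle U)).hom s = s ^ Nat.card k) :
    Module.End.IsSemisimple ((AbDual.tateMapₗ (l := l) (T := SGA7.pt Ω) πA).baseChange ℚ_[l]) := by
  haveI : IsAlgClosed Ω := IsAlgClosure.isAlgClosed k
  have hπ : Groth.Agent.WeilLib.IsPowMap (EndAV.End.of πA).toHom.left (Nat.card k) :=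
    Groth.Agent.WeilLib.isPowMap_of_hyp πA.left _ hπAb hπAle hπAapp
  obtain ⟨g, hg⟩ := Groth.Agent.TorsPtsLib.exists_dim A
  haveI : Module.Finite ℤ_[l] (AbDual.TateMod A l (SGA7.pt Ω)) := (Groth.Agent.AVHomForm.tate_free Ω l hl A hg).2.1
  obtain ⟨ν, hm, h0, he, hli⟩ := Groth.Agent.AVCharpoly.exists_int_minpoly (EndAV.End.of πA)
  have hsep := (Groth.Agent.AVFrobLib.separable_minpoly (EndAV.End.of πA) hπ hm h0 hli).map (f := algebraMap ℚ ℚ_[l])
  refine Module.End.isSemisimple_of_squarefree_aeval_eq_zero hsep.squarefree ?_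
  have h1 : Polynomial.aeval (EndAV.End.tateRep l (SGA7.pt Ω) (EndAV.End.of πA)) ν = 0 := by
    rw [← Groth.Agent.AVCharpoly.map_aeval_int, h0, map_zero]
  rw [Groth.Agent.AVFrobLib.map_ratMap, ← algebraMap_int_eq, Polynomial.aeval_map_algebraMap]
  have h2 := Groth.Agent.AVCharpoly.map_aeval_int
    (Module.End.baseChangeHom ℤ_[l] ℚ_[l] (AbDual.TateMod A l (SGA7.pt Ω))).toRingHom
    (EndAV.End.tateRep l (SGA7.pt Ω) (EndAV.End.of πA)) ν
  rw [h1, map_zero] at h2
  exact h2.symm

end Groth.Agent.S14943
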