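import Groth.Statements.S1496
import Groth.Agent.RGLib.AmpleBase

set_option autoImplicit false
attribute [-instance] CategoryTheory.catToReflQuiver
set_option backward.isDefEq.respectTransparency false
set_option backward.isDefEq.respectTransparency.types false
universe u
attribute [local instance] HasDerivedCategory.standard
open FlatMor

namespace Groth.Agent.S1496

open AlgebraicGeometry CategoryTheory Limits in
/-- Let S be a scheme carrying an ample invertible sheaf and f : X → S a morphism. Then f is a closed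
immersion into some projective space over S (f factors as a closed immersion X → Pⁿ_S followed by
the projection Pⁿ_S → S, for some n) if and only if f is proper and X carries an ample invertible
sheaf; and the latter holds if and only if f is proper and some O_X-module is ample relative to f. -/
theorem result {X S : Scheme.{u}} (hS : ∃ N : S.Modules, CohB1.IsAmple N) (f : X ⟶ S) :
    ((∃ (n : ℕ) (i : X ⟶ CohB1.ProjSpaceOver n S), IsClosedImmersion i ∧ i ≫ pullback.snd (CohB1.ProjSpace.toSpec n (ULift.{u} ℤ)) (specULiftZIsTerminal.from S) = f) ↔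
      (IsProper f ∧ ∃ L : X.Modules, CohB1.IsAmple L)) ∧
    ((IsProper f ∧ ∃ L : X.Modules, CohB1.IsAmple L) ↔ (IsProper f ∧ ∃ L : X.Modules, RelAmple.IsRelAmple f L)) := by
  obtain ⟨N, hN⟩ := hS
  haveI : CompactSpace S := hN.2.1
  haveI := Groth.Agent.AmpleX.isSeparated_of_isAmple hN
  have hsep : ∀ n, IsProper (CohB1.ProjSpaceOver.toBase n S) := fun n => by
    haveI : IsProper (CohB1.ProjSpace.toSpec n (ULift.{u} ℤ)) := Groth.Agent.PnCoh.Chow.isProper_toSpec n _
    exact MorphismProperty.pullback_snd (P := @IsProper) _ _ inferInstance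
  have hback : (IsProper f ∧ ∃ L : X.Modules, RelAmple.IsRelAmple f L) →
      IsProper f ∧ ∃ L : X.Modules, CohB1.IsAmple L := fun ⟨h, L, hL⟩ =>
    haveI := h
    ⟨h, Groth.Agent.RGLib.AmpleBase.exists_isAmple_of_isRelAmple hN f hL⟩
  have hfwd : (IsProper f ∧ ∃ L : X.Modules, CohB1.IsAmple L) →
      IsProper f ∧ ∃ L : X.Modules, RelAmple.IsRelAmple f L := fun ⟨h, L, hL⟩ =>
    ⟨h, L, (Groth.Agent.RGLib.AmpleBase.isRelAmple_of_isAmple hN f hL).2⟩
  refine ⟨⟨?_, ?_⟩, hfwd, hback⟩
  · rintro ⟨n, i, hi, rfl⟩
    haveI := hsep n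
    have hq := Groth.Agent.ChowX.isQuasiProjective_of_immersion i
      (i ≫ CohB1.ProjSpaceOver.toBase n S) rfl
    exact hback ⟨inferInstanceAs (IsProper (i ≫ CohB1.ProjSpaceOver.toBase n S)), hq.2.2⟩
  · intro h
    obtain ⟨hp, L, hL⟩ := hfwd h
    haveI := hp
    obtain ⟨-, -, r, i, hi, hif⟩ := (Groth.Agent.S4414.result ⟨N, hN⟩ f).1
      ⟨inferInstance, inferInstance, L, hL⟩
    haveI := hi
    haveI := hsep r
    haveI : IsProper (i ≫ CohB1.ProjSpaceOver.toBase r S) := hif ▸ hp
    haveI : IsProper i := IsProper.of_comp i (CohB1.ProjSpaceOver.toBase r S)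
    exact ⟨r, i, IsClosedImmersion.of_isPreimmersion i i.isClosedMap.isClosed_range, hif⟩

end Groth.Agent.S1496
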