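import Groth.Statements.S1497
import Groth.Agent.RGLib.AmpleBase

set_option autoImplicit false
attribute [-instance] CategoryTheory.catToReflQuiver
set_option backward.isDefEq.respectTransparency false
set_option backward.isDefEq.respectTransparency.types false
universe u
attribute [local instance] HasDerivedCategory.standard
open FlatMor

namespace Groth.Agent.S1497

open AlgebraicGeometry CategoryTheory Limits in
/-- Let S be a scheme with an ample invertible sheaf and f : X → S a morphism. Then f is a quasi-compact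
immersion into some projective space P^n_S over S if and only if f is of finite type and X has an
ample invertible sheaf. -/
theorem result {X S : Scheme.{u}} (hS : ∃ N : S.Modules, CohB1.IsAmple N) (f : X ⟶ S) :
    (∃ (n : ℕ) (i : X ⟶ CohB1.ProjSpaceOver n S), IsImmersion i ∧ QuasiCompact i ∧ i ≫ pullback.snd (CohB1.ProjSpace.toSpec n (ULift.{u} ℤ)) (specULiftZIsTerminal.from S) = f) ↔
      (LocallyOfFiniteType f ∧ QuasiCompact f ∧ ∃ L : X.Modules, CohB1.IsAmple L) := by
  obtain ⟨N, hN⟩ := hS
  haveI : CompactSpace S := hN.2.1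
  haveI := Groth.Agent.AmpleX.isSeparated_of_isAmple hN
  have hsep : ∀ n, IsProper (CohB1.ProjSpaceOver.toBase n S) := fun n => by
    haveI : IsProper (CohB1.ProjSpace.toSpec n (ULift.{u} ℤ)) := Groth.Agent.PnCoh.Chow.isProper_toSpec n _
    exact MorphismProperty.pullback_snd (P := @IsProper) _ _ inferInstance
  constructor
  · rintro ⟨n, i, hi, hqi, rfl⟩
    haveI := hsep n
    obtain ⟨h1, h2, L, hL⟩ := Groth.Agent.ChowX.isQuasiProjective_of_immersion i
      (i ≫ CohB1.ProjSpaceOver.toBase n S) rfl
    haveI := h2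
    exact ⟨h1, h2, Groth.Agent.RGLib.AmpleBase.exists_isAmple_of_isRelAmple hN _ hL⟩
  · rintro ⟨h1, h2, L, hL⟩
    haveI := h1; haveI := h2
    obtain ⟨-, -, r, i, hi, hif⟩ := (Groth.Agent.S4414.result ⟨N, hN⟩ f).1
      ⟨h1, h2, L, (Groth.Agent.RGLib.AmpleBase.isRelAmple_of_isAmple hN f hL).2⟩
    haveI := hsep r
    haveI : QuasiCompact (i ≫ CohB1.ProjSpaceOver.toBase r S) := hif ▸ h2
    exact ⟨r, i, hi, QuasiCompact.of_comp i (CohB1.ProjSpaceOver.toBase r S), hif⟩

end Groth.Agent.S1497
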