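import Groth.Statements.S14972
import Groth.Agent.HilbPoly.PnTwist
import Groth.Agent.HilbPoly.ChainSeries

set_option autoImplicit false
set_option backward.isDefEq.respectTransparency false
set_option backward.isDefEq.respectTransparency.types false
set_option maxHeartbeats 1600000
open CategoryTheory CategoryTheory.Limits AlgebraicGeometry
open Coherent

namespace Groth.Agent.S14972

/-- Over the complex numbers, let E be a coherent sheaf on projective n-space which is pure of dimension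
d (its support and the support of every nonzero coherent subsheaf have dimension d). Then there is
exactly one finite chain of coherent subsheaves 0 = E_0 ⊂ E_1 ⊂ ⋯ ⊂ E_k = E such that each
successive quotient E_j/E_(j-1) is pure of dimension d and p-semistable (every nonzero coherent
subsheaf G of it with Hilbert polynomial ψ satisfies ψ(m)/r(ψ) ≤ φ(m)/r(φ) for all large integers m,
φ being the Hilbert polynomial of the quotient and r denoting d! times the degree-d coefficient) and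
the reduced Hilbert polynomials φ/r(φ) of consecutive quotients strictly decrease for large
arguments. The chain is recorded as a finite set of subobjects of E, totally ordered by inclusion,
containing 0 and E, all of whose members are coherent. (The published statement is for modules over
a sheaf of rings of differential operators and filtrations by submodules stable under it, and does
not assume E pure, although quotients pure of dimension d force it; this row is the case of the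
structure sheaf, where every coherent subsheaf is stable, and assumes E pure.) -/
theorem result (n d : ℕ)
    (E : (CohB1.ProjSpace n ℂ).Modules) (hE : Coh.IsCoh E)
    (hpure : (topologicalKrullDim ↥(CohB1.support E) = (d : WithBot ℕ∞) ∧
          ∀ (G : (CohB1.ProjSpace n ℂ).Modules) (ι : G ⟶ E), Mono ι → Coh.IsCoh G → ¬ IsZero G → topologicalKrullDim ↥(CohB1.support G) = (d : WithBot ℕ∞))) :
    ∃! C : Finset (Subobject E),
      ⊥ ∈ C ∧ ⊤ ∈ C ∧ IsChain (fun A B : Subobject E => A ≤ B) (↑C : Set (Subobject E)) ∧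
      (∀ A ∈ C, Coh.IsCoh (A : (CohB1.ProjSpace n ℂ).Modules)) ∧
      (∀ A ∈ C, ∀ B ∈ C, ∀ hAB : A < B, (∀ D ∈ C, ¬ (A < D ∧ D < B)) →
        (topologicalKrullDim ↥(CohB1.support (cokernel (Subobject.ofLE A B hAB.le))) = (d : WithBot ℕ∞) ∧
          ∀ (G : (CohB1.ProjSpace n ℂ).Modules) (ι : G ⟶ (cokernel (Subobject.ofLE A B hAB.le))), Mono ι → Coh.IsCoh G → ¬ IsZero G → topologicalKrullDim ↥(CohB1.support G) = (d : WithBot ℕ∞)) ∧
        (∀ (G : (CohB1.ProjSpace n ℂ).Modules) (ι : G ⟶ (cokernel (Subobject.ofLE A B hAB.le))), Mono ι → Coh.IsCoh G → ¬ IsZero G →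
          ∀ φ ψ : Polynomial ℚ, (∀ m : ℤ, (Curv2.euler ℂ (CohB1.ProjSpace n ℂ) (CohB1.tensorMod (cokernel (Subobject.ofLE A B hAB.le)) (Twist.twistProjSpace n ℂ m)) : ℚ) = φ.eval (m : ℚ)) → (∀ m : ℤ, (Curv2.euler ℂ (CohB1.ProjSpace n ℂ) (CohB1.tensorMod G (Twist.twistProjSpace n ℂ m)) : ℚ) = ψ.eval (m : ℚ)) →
            W4c2simpsonmod1.RedLE d ψ φ)) ∧
      (∀ A ∈ C, ∀ B ∈ C, ∀ B' ∈ C, ∀ hAB : A < B, ∀ hBB : B < B',
        (∀ D ∈ C, ¬ (A < D ∧ D < B)) → (∀ D ∈ C, ¬ (B < D ∧ D < B')) →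
        ∀ ψ ψ' : Polynomial ℚ, (∀ m : ℤ, (Curv2.euler ℂ (CohB1.ProjSpace n ℂ) (CohB1.tensorMod (cokernel (Subobject.ofLE A B hAB.le)) (Twist.twistProjSpace n ℂ m)) : ℚ) = ψ.eval (m : ℚ)) →
          (∀ m : ℤ, (Curv2.euler ℂ (CohB1.ProjSpace n ℂ) (CohB1.tensorMod (cokernel (Subobject.ofLE B B' hBB.le)) (Twist.twistProjSpace n ℂ m)) : ℚ) = ψ'.eval (m : ℚ)) →
          W4c2simpsonmod1.RedLT d ψ' ψ) := by
  classical
  haveI : IsProper ((CohB1.ProjSpace n ℂ) ↘ Spec (CommRingCat.of ℂ)) := PnCoh.Chow.isProper_toSpec n ℂ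
  set L := Twist.twistProjSpace n ℂ 1
  have hL : CohB1.IsAmple L := HilbPoly.isAmple_twistProjSpace_one n ℂ
  have hp' : ShStab.IsPure _ E d := hpure.2
  by_cases hE0 : IsZero E
  · exfalso
    have hd := hpure.1
    rw [QCoh.support_eq_empty_of_isZero hE0 hE.1] at hd
    haveI h' : IsEmpty (TopologicalSpace.IrreducibleCloseds ↥(∅ : Set (CohB1.ProjSpace n ℂ))) :=
      ⟨fun s => s.2.1.ne_empty (Set.eq_empty_of_isEmpty s.1)⟩
    rw [topologicalKrullDim, Order.krullDim_eq_bot_iff.2 h'] at hd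
    exact WithBot.bot_ne_coe hd
  have hdE := HilbPoly.dim_le_of_isPure hp' hE
  -- translation of the two comparisons
  have toNat : ∀ {ψ φ : Polynomial ℚ}, 0 < StabCat.alpha d ψ → 0 < StabCat.alpha d φ →
      (W4c2simpsonmod1.RedLE d ψ φ ↔ StabCat.RedLE d ψ φ) ∧
      (W4c2simpsonmod1.RedLT d ψ φ ↔ StabCat.RedLT d ψ φ) := by
    intro ψ φ hψ hφ
    have e : ∀ x : ℚ, (ψ.eval x / W4c2simpsonmod1.rankOf d ψ ≤ φ.eval x / W4c2simpsonmod1.rankOf d φ ↔
        (StabCat.alpha d φ • ψ).eval x ≤ (StabCat.alpha d ψ • φ).eval x) ∧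
        (ψ.eval x / W4c2simpsonmod1.rankOf d ψ < φ.eval x / W4c2simpsonmod1.rankOf d φ ↔
        (StabCat.alpha d φ • ψ).eval x < (StabCat.alpha d ψ • φ).eval x) := fun x => by
      show (ψ.eval x / StabCat.alpha d ψ ≤ φ.eval x / StabCat.alpha d φ ↔ _) ∧
        (ψ.eval x / StabCat.alpha d ψ < φ.eval x / StabCat.alpha d φ ↔ _)
      rw [div_le_div_iff₀ hψ hφ, div_lt_div_iff₀ hψ hφ]
      simp only [Polynomial.eval_smul, smul_eq_mul]
      constructor <;> constructor <;> intro h <;> linarith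
    constructor <;> constructor <;> rintro ⟨N, hN⟩
    · refine ⟨N.toNat, fun m hm => ((e _).1.1 ?_)⟩
      exact_mod_cast hN (m : ℤ) (by omega)
    · refine ⟨(N : ℤ), fun m hm => ((e _).1.2 ?_)⟩
      obtain ⟨j, rfl⟩ := Int.eq_ofNat_of_zero_le (show 0 ≤ m by omega)
      exact_mod_cast hN j (by omega)
    · refine ⟨N.toNat, fun m hm => ((e _).2.1 ?_)⟩
      exact_mod_cast hN (m : ℤ) (by omega)
    · refine ⟨(N : ℤ), fun m hm => ((e _).2.2 ?_)⟩
      obtain ⟨j, rfl⟩ := Int.eq_ofNat_of_zero_le (show 0 ≤ m by omega)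
      exact_mod_cast hN j (by omega)
  obtain ⟨s, hs⟩ := HilbPoly.HN.exists_HN (k := ℂ) hL hE hp'
  have hcoh : ∀ a, Coh.IsCoh ((s a : Subobject E) : (CohB1.ProjSpace n ℂ).Modules) := fun a => by
    induction a using Fin.cases with
    | zero => rw [show s 0 = ⊥ from hs.1]; exact HilbPoly.HN.isCoh_bot (k := ℂ) hE
    | succ i => exact (HilbPoly.HN.step_of_HN hL hE hp' hs i).2.1
  have hα : ∀ {G : (CohB1.ProjSpace n ℂ).Modules} {p : Polynomial ℚ}, ShStab.IsSemistable ℂ _ L G d →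
      ShStab.IsHilbPoly ℂ _ L G p → 0 < StabCat.alpha d p := fun {G p} hG hp =>
    HilbPoly.alpha_pos hL hG.1 (HilbPoly.dim_of_isPure hG.2.2.1 hG.1 hG.2.1) hp
  refine ⟨Finset.univ.image s.toFun, ⟨?_, ?_, ?_, ?_, ?_, ?_⟩, ?_⟩
  · exact Finset.mem_image.2 ⟨0, Finset.mem_univ _, hs.1⟩
  · exact Finset.mem_image.2 ⟨Fin.last _, Finset.mem_univ _, hs.2.1⟩
  · intro A hA B hB _
    obtain ⟨a, -, rfl⟩ := Finset.mem_image.1 (Finset.mem_coe.1 hA)
    obtain ⟨b, -, rfl⟩ := Finset.mem_image.1 (Finset.mem_coe.1 hB)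
    exact (le_total a b).imp (fun h => s.monotone h) (fun h => s.monotone h)
  · intro A hA
    obtain ⟨a, -, rfl⟩ := Finset.mem_image.1 hA
    exact hcoh a
  · intro A hA B hB hAB hcons
    obtain ⟨i, rfl, rfl⟩ := HilbPoly.consecutive_of_series s hA hB hAB hcons
    have hF : ShStab.IsSemistable ℂ _ L (StabCat.factor s i) d := hs.2.2.1 i
    refine ⟨⟨HilbPoly.dim_of_isPure hF.2.2.1 hF.1 hF.2.1, hF.2.2.1⟩, fun G ι hι hG hG0 φ ψ hφ hψ => ?_⟩
    haveI := hι
    have hφ' := HilbPoly.isHilbPoly_of_euler_twist hφ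
    have hψ' := HilbPoly.isHilbPoly_of_euler_twist hψ
    have hαψ := HilbPoly.alpha_pos hL hG (hF.2.2.1 G ι hι hG hG0) hψ'
    refine (toNat hαψ (hα hF hφ')).1.2 ?_
    by_cases hi : IsIso ι
    · rw [HilbPoly.isHilbPoly_unique (HilbPoly.hilb_iso (asIso ι) hψ') hφ']
      exact ⟨0, fun m _ => le_rfl⟩
    · exact hF.2.2.2 G ι hι hG hG0 hi ψ φ hψ' hφ'
  · intro A hA B hB B' hB' hAB hBB hc hc' ψ ψ' hψ hψ'
    obtain ⟨i, rfl, rfl⟩ := HilbPoly.consecutive_of_series s hA hB hAB hc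
    obtain ⟨j, hj, rfl⟩ := HilbPoly.consecutive_of_series s hB hB' hBB hc'
    have hij : i.val + 1 = j.val := by
      have := congrArg Fin.val (s.strictMono.injective hj)
      simpa using this
    have h1 := HilbPoly.isHilbPoly_of_euler_twist hψ
    have h2 : ShStab.IsHilbPoly ℂ _ L (StabCat.factor s j) ψ' := by
      have h := HilbPoly.isHilbPoly_of_euler_twist hψ'
      refine HilbPoly.hilb_iso (cokernel.mapIso _ _ (Subobject.isoOfEq _ _ hj) (Iso.refl _) ?_) h
      simp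
    exact (toNat (hα (hs.2.2.1 j) h2) (hα (hs.2.2.1 i) h1)).2.2 (hs.2.2.2 i j hij ψ ψ' h1 h2)
  · rintro C' ⟨hb, ht, hch, hco, hfac, hdec⟩
    obtain ⟨t, ht0, ht1, htC, hcons⟩ := HilbPoly.exists_series_of_chain C' hch hb ht
    have hmem : ∀ a, t a ∈ C' := fun a => htC ▸ Finset.mem_image.2 ⟨a, Finset.mem_univ _, rfl⟩
    have hdata : ∀ i : Fin t.length, ∃ q, Coh.IsCoh (StabCat.factor t i) ∧
        topologicalKrullDim ↥(CohB1.support (StabCat.factor t i)) ≤ (d : WithBot ℕ∞) ∧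
        ShStab.IsHilbPoly ℂ _ L (StabCat.factor t i) q ∧
        ∀ z : ℤ, (Curv2.euler ℂ _ (CohB1.tensorMod (StabCat.factor t i) (Twist.twistProjSpace n ℂ z)) : ℚ) =
          q.eval (z : ℚ) := fun i => by
      obtain ⟨h1, h2, h3⟩ := HilbPoly.cokernel_data (k := ℂ) hL (hco _ (hmem i.castSucc)) (hco _ (hmem i.succ))
        (HilbPoly.dim_sub hL hE hdE (hco _ (hmem i.succ)))
        (Subobject.ofLE (t i.castSucc) (t i.succ) (le_of_lt (t.step i)))
        (HilbPoly.hp_sub (k := ℂ) hL hE hdE (hco _ (hmem _))) (HilbPoly.hp_sub (k := ℂ) hL hE hdE (hco _ (hmem _)))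
      exact ⟨_, h1, h2, h3, HilbPoly.euler_twist_eq h1 h2 h3⟩
    have hss : ∀ i : Fin t.length, ShStab.IsSemistable ℂ _ L (StabCat.factor t i) d := fun i => by
      obtain ⟨⟨-, hpu⟩, hle⟩ := hfac _ (hmem i.castSucc) _ (hmem i.succ) (t.step i) (hcons i)
      obtain ⟨q, h1, h2, h3, h4⟩ := hdata i
      have hne : ¬ IsZero (StabCat.factor t i) := fun hz =>
        (show t i.castSucc < t i.succ from t.step i).not_ge
          (HilbPoly.HN.le_of_isZero_coker (le_of_lt (t.step i)) hz)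
      refine ⟨h1, hne, hpu, fun G ι hι hG hG0 hi pG pF hpG hpF => ?_⟩
      have hdG := hpu G ι hι hG hG0
      rw [HilbPoly.isHilbPoly_unique hpF h3]
      exact (toNat (HilbPoly.alpha_pos hL hG hdG hpG) (HilbPoly.alpha_pos hL h1 (HilbPoly.dim_of_isPure hpu h1 hne) h3)).1.1
        (hle G ι hι hG hG0 q pG h4 (HilbPoly.euler_twist_eq hG hdG.le hpG))
    have hHN : ShStab.IsHNFiltration ℂ _ L E d t := ⟨ht0, ht1, hss, fun i j hij p q hp hq => by
      have hj : t i.succ = t j.castSucc := congrArg t.toFun (Fin.ext (by simpa using hij))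
      obtain ⟨q₁, a1, a2, a3, a4⟩ := hdata i
      obtain ⟨q₂, b1, b2, b3, b4⟩ := hdata j
      have hlt : t i.succ < t j.succ := hj ▸ t.step j
      let e : cokernel (Subobject.ofLE (t i.succ) (t j.succ) hlt.le) ≅ StabCat.factor t j :=
        cokernel.mapIso _ _ (Subobject.isoOfEq _ _ hj) (Iso.refl _) (by simp)
      have h := hdec _ (hmem i.castSucc) _ (hmem i.succ) _ (hmem j.succ) (t.step i) hlt (hcons i)
        (fun D hD hh => hcons j D hD ⟨hj ▸ hh.1, hh.2⟩) q₁ q₂ a4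
        (HilbPoly.euler_twist_eq (HilbPoly.isCoh_of_iso e.symm b1) (by
          refine (H23.TopDim.dim_le_dim_of_subset ?_).trans b2
          exact QCoh.mem_support_of_mono (HilbPoly.isCoh_of_iso e.symm b1).1 b1.1 e.hom)
          (HilbPoly.hilb_iso e.symm b3))
      rw [HilbPoly.isHilbPoly_unique hp a3, HilbPoly.isHilbPoly_unique hq b3]
      exact (toNat (hα (hss j) b3) (hα (hss i) a3)).2.1 h⟩
    rw [← htC, HilbPoly.HN.HN_unique hL hE hp' hHN hs]

end Groth.Agent.S14972
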