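import Groth.Statements.S14979
import Groth.Agent.CoactOrbitLib.Inertia
import Mathlib.RingTheory.LocalRing.Module
-- import your own Groth.Agent.* helpers here

set_option autoImplicit false
set_option backward.isDefEq.respectTransparency false
set_option maxHeartbeats 1000000
set_option linter.style.haveILetI false
universe u
open CategoryTheory MonoidalCategory CartesianMonoidalCategory MonObj AlgebraicGeometry
open CoactBr

namespace Groth.Agent.S14979

/-- Let `R` be a local commutative ring, `A` a commutative Hopf algebra over `R` which is finite and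
flat as an `R`-module (so `G = Spec A` is a finite flat group scheme over `S = Spec R`), and `B` a
commutative `R`-algebra with a coaction of `A` that is an algebra map (an action of `G` on `X = Spec
B`) whose ring of invariants is `R` itself: the structure map `R → B^A` is bijective, so that `S` is
the quotient `Y = Spec B^A`. Let `K` be a field over `R` in which exactly the maximal ideal of `R`
vanishes and `x : B → K` an `R`-algebra map, a point of `X` over the closed point of `Y`. Then the
action is free — for every scheme `T` over `S`, every `T`-point of `G` fixing a `T`-point of `X` is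
the unit — if and only if the inertia group scheme at `x` is trivial: for every `T` over `Spec K`,
every `T`-point of `G` fixing the point of `X` induced by `x` is the unit. (The published statement
does not say that `G` is finite over `S`; its proof uses it, and it is assumed here.) -/
theorem result
    (R A B K : Type u) [CommRing R] [IsLocalRing R] [CommRing A] [HopfAlgebra R A]
    [Module.Flat R A] [Module.Finite R A]
    [CommRing B] [Algebra R B] [HopfRep.Comod R A B] [GLin.IsCoactAlg R A B]
    (hC : Function.Bijective (algebraMap R (GLin.invariants R A B)))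
    [Field K] [Algebra R K] (hK : RingHom.ker (algebraMap R K) = IsLocalRing.maximalIdeal R)
    (x : B →ₐ[R] K) :
    (∀ (T : Over (Spec (CommRingCat.of R))) (ζ : T ⟶ CoactBr.sp R B) (g : T ⟶ CoactBr.sp R A),
        lift g ζ ≫ (CoactBr.action R A B).act = ζ → g = 1) ↔
      ∀ (T : Over (Spec (CommRingCat.of R))) (h : T ⟶ CoactBr.sp R K) (g : T ⟶ CoactBr.sp R A),
        lift g (h ≫ CoactBr.pt x) ≫ (CoactBr.action R A B).act = h ≫ CoactBr.pt x → g = 1 := by
  haveI : Module.Free R A := Module.free_of_flat_of_isLocalRing
  constructor
  · intro hf T h g hg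
    exact hf T (h ≫ CoactBr.pt x) g hg
  intro h T ζ g hg
  rw [Groth.Agent.CoactOrbitLib.trivAlg_iff] at h
  obtain ⟨z, rfl⟩ := Groth.Agent.CoactOrbitLib.exists_ptGam ζ
  obtain ⟨a, rfl⟩ := Groth.Agent.CoactOrbitLib.exists_ptGam g
  rw [Groth.Agent.CoactOrbitLib.fix_eta_iff] at hg
  rw [Groth.Agent.CoactOrbitLib.one_eq_eta, Groth.Agent.CoactOrbitLib.eq_unit_of_forall_maximal
    (fun p hp _ => Groth.Agent.CoactOrbitLib.trivAlg_of_agree x _ (fun c hc => ?_) h) z a hg]
  haveI : Algebra.IsIntegral (GLin.invariants R A B) B := Groth.Agent.CoactOrbitLib.isIntegral_invariants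
  obtain ⟨r, hr⟩ := hC.2 ⟨c, hc⟩
  have hcr : algebraMap R B r = c := congrArg Subtype.val hr
  subst hcr
  show x (algebraMap R B r) = 0 ↔ algebraMap B p.ResidueField (algebraMap R B r) = 0
  rw [x.commutes, Ideal.algebraMap_residueField_eq_zero, ← RingHom.mem_ker, hK]
  haveI := hp.isPrime
  haveI : Algebra.IsIntegral R B := by
    refine ⟨fun b => ?_⟩
    obtain ⟨P, hP, hPb⟩ := Algebra.IsIntegral.isIntegral (R := GLin.invariants R A B) b
    let e : R ≃ₐ[R] GLin.invariants R A B := AlgEquiv.ofBijective (Algebra.ofId R _) hC
    refine ⟨P.map e.symm.toRingHom, hP.map _, ?_⟩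
    rw [Polynomial.eval₂_map]
    rw [show (algebraMap R B).comp e.symm.toRingHom = algebraMap (GLin.invariants R A B) B from
      RingHom.ext fun c => show algebraMap R B (e.symm c) = (c : B) from
        congrArg Subtype.val (e.apply_symm_apply c)]
    exact hPb
  have h1 : (p.comap (algebraMap R B)).IsMaximal := Ideal.isMaximal_comap_of_isIntegral_of_isMaximal p
  rw [← IsLocalRing.eq_maximalIdeal h1, Ideal.mem_comap]


end Groth.Agent.S14979
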