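import Groth.Statements.S14980
import Groth.Agent.CoactOrbitLib.Inertia
-- import your own Groth.Agent.* helpers here

set_option autoImplicit false
set_option backward.isDefEq.respectTransparency false
set_option maxHeartbeats 1000000
set_option linter.style.haveILetI false
universe u
open CategoryTheory MonoidalCategory CartesianMonoidalCategory MonObj AlgebraicGeometry
open CoactBr

namespace Groth.Agent.S14980

theorem act_iff {R A B : Type u} [CommRing R] [CommRing A] [HopfAlgebra R A] [CommRing B] [Algebra R B]
    [HopfRep.Comod R A B] [GLin.IsCoactAlg R A B] {T : Over (Spec (CommRingCat.of R))}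
    (X : T ⟶ CoactBr.sp R B) (k G : T ⟶ CoactBr.sp R A) :
    lift X (k * G) ≫ CoactBr.ract R A B = lift X G ≫ CoactBr.ract R A B ↔
      lift X k ≫ CoactBr.ract R A B = X := by
  constructor
  · intro e
    have e2 : lift (lift X (k * G) ≫ CoactBr.ract R A B) G⁻¹ ≫ CoactBr.ract R A B =
        lift (lift X G ≫ CoactBr.ract R A B) G⁻¹ ≫ CoactBr.ract R A B := by rw [e]
    rw [CoactBr.lift_ract_ract, CoactBr.lift_ract_ract, _root_.mul_assoc, _root_.mul_inv_cancel,
      _root_.mul_one, CoactBr.lift_one_ract] at e2
    exact e2
  · intro e
    rw [← CoactBr.lift_ract_ract, e]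

/-- Let `R` be a commutative ring, `A` a commutative Hopf algebra over `R` which is finite locally free
as an `R`-module (`G = Spec A` a finite locally free group scheme over `S = Spec R`), `B` a
commutative `R`-algebra, flat over `R`, with a coaction of `A` that is an algebra map (an action of
`G` on `X = Spec B`) whose ring of invariants is `R` itself (the structure map `R → B^A` is
bijective, so `S` is the quotient of `X` by `G`), and `K` an algebraically closed field over `R`, a
geometric point of `S`. For any two `K`-points `x₁, x₂ : B → K` of `X` (which lie over that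
geometric point of `S`) there is a `K`-point `g` of `G` conjugating the inertia group scheme at `x₂`
onto the one at `x₁`: for every scheme `T` over `Spec K` and every `T`-point `k` of `G`, `k` fixes
the `T`-point of `X` induced by `x₁` if and only if `g⁻¹ k g` fixes the one induced by `x₂`. (The
published statement takes the points to be the canonical points of the primes of `B` over a prime of
`B^A`, base-changed to an algebraic closure of its residue field; any two `K`-points with `K`
algebraically closed are treated here, which is what the argument gives; and `G` finite over `S` is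
read as finite locally free, the standing flatness included.) -/
theorem result
    (R A B K : Type u) [CommRing R] [CommRing A] [HopfAlgebra R A]
    [Module.Flat R A] [Module.Finite R A] [Module.Projective R A]
    [CommRing B] [Algebra R B] [Module.Flat R B] [HopfRep.Comod R A B] [GLin.IsCoactAlg R A B]
    (hC : Function.Bijective (algebraMap R (GLin.invariants R A B)))
    [Field K] [IsAlgClosed K] [Algebra R K] (x₁ x₂ : B →ₐ[R] K) :
    ∃ g : CoactBr.sp R K ⟶ CoactBr.sp R A,
      ∀ (T : Over (Spec (CommRingCat.of R))) (h : T ⟶ CoactBr.sp R K) (k : T ⟶ CoactBr.sp R A),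
        lift k (h ≫ CoactBr.pt x₁) ≫ (CoactBr.action R A B).act = h ≫ CoactBr.pt x₁ ↔
          lift ((h ≫ g)⁻¹ * k * (h ≫ g)) (h ≫ CoactBr.pt x₂) ≫ (CoactBr.action R A B).act =
            h ≫ CoactBr.pt x₂ := by
  obtain ⟨g₀, hg₀⟩ := Groth.Agent.CoactOrbitLib.exists_pt (GLin.coactAlgHom R A B)
    Groth.Agent.CoactOrbitLib.isCoassoc_coact Groth.Agent.CoactOrbitLib.isCounital_coact x₁ x₂ (fun c hc => by
      obtain ⟨r, hr⟩ := hC.2 ⟨c, hc⟩
      rw [show c = algebraMap R B r from (congrArg Subtype.val hr).symm, x₁.commutes, x₂.commutes])
  refine ⟨CoactBr.pt g₀, fun T h k => ?_⟩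
  have h2 : h ≫ CoactBr.pt x₂ = lift (h ≫ CoactBr.pt x₁) (h ≫ CoactBr.pt g₀) ≫ CoactBr.ract R A B := by
    rw [← comp_lift, Category.assoc, CoactBr.lift_pt_ract]
    exact congrArg (fun φ => h ≫ CoactBr.pt φ) hg₀.symm
  rw [Groth.Agent.CoactOrbitLib.fix_iff, Groth.Agent.CoactOrbitLib.fix_iff, h2, CoactBr.lift_ract_ract,
    ← _root_.mul_assoc, ← _root_.mul_assoc, _root_.mul_inv_cancel, _root_.one_mul]
  exact (act_iff (h ≫ CoactBr.pt x₁) k (h ≫ CoactBr.pt g₀)).symm

end Groth.Agent.S14980
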