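import Groth.Statements.S14982
import Groth.Agent.CoactOrbitLib.Inertia
import Mathlib.AlgebraicGeometry.Morphisms.Flat
import Mathlib.AlgebraicGeometry.Morphisms.FinitePresentation
import Mathlib.AlgebraicGeometry.PullbackCarrier
import Mathlib.AlgebraicGeometry.ResidueField
-- import your own Groth.Agent.* helpers here

set_option autoImplicit false
set_option backward.isDefEq.respectTransparency false
set_option maxHeartbeats 1000000
set_option linter.style.haveILetI false
universe u
open CategoryTheory MonoidalCategory CartesianMonoidalCategory MonObj AlgebraicGeometry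
open CoactBr

namespace Groth.Agent.S14982

/-- Let `R` be a commutative ring, `A` a commutative Hopf algebra over `R` which is finite locally free
as an `R`-module (`G = Spec A` a finite flat group scheme over `S = Spec R`), `B` a commutative
`R`-algebra with a coaction of `A` that is an algebra map (an action of `G` on `X = Spec B`), `C =
B^A` the ring of invariants and `π : X → Y = Spec C` the quotient map. Let `K` be a field over `R`,
`x : B → K` an `R`-algebra map (a point of `X`) and `y` the image in `Y` of the point underlying
`x`. Then the inertia group scheme at `x` is trivial (for every scheme `T` over `Spec K`, every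
`T`-point of `G` fixing the point of `X` induced by `x` is the unit) if and only if there is a flat
morphism locally of finite presentation `Y' → Y` whose image contains `y` and over which the action
becomes free: for every scheme `T` over `S` and every `T`-point `ζ` of `X` whose composite with `π`
lifts to `Y'`, every `T`-point of `G` fixing `ζ` is the unit (this is freeness of the base-changed
action of `G ×_S Y'` on `X ×_Y Y'`, written through points of `G` and `X`). (`G` finite flat is read
as finite locally free. The published result also says that `X ×_Y Y'` is then a torsor under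
`G_{Y'}` and gives a third equivalent condition, that after a further fppf base change the action is
induced from an action of the trivial group; neither is stated here.) -/
theorem result
    (R A B K : Type u) [CommRing R] [CommRing A] [HopfAlgebra R A]
    [Module.Flat R A] [Module.Finite R A] [Module.Projective R A]
    [CommRing B] [Algebra R B] [HopfRep.Comod R A B] [GLin.IsCoactAlg R A B]
    [Field K] [Algebra R K] (x : B →ₐ[R] K) :
    (∀ (T : Over (Spec (CommRingCat.of R))) (h : T ⟶ CoactBr.sp R K) (g : T ⟶ CoactBr.sp R A),
        lift g (h ≫ CoactBr.pt x) ≫ (CoactBr.action R A B).act = h ≫ CoactBr.pt x → g = 1) ↔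
      ∃ (Y' : Scheme.{u}) (c : Y' ⟶ Spec (CommRingCat.of (GLin.invariants R A B))),
        Flat c ∧ LocallyOfFinitePresentation c ∧
        (∃ y' : Y', c.base y' =
          (Spec.map (CommRingCat.ofHom (x.toRingHom.comp (GLin.invariants R A B).val.toRingHom))).base
            (IsLocalRing.closedPoint K)) ∧
        ∀ (T : Over (Spec (CommRingCat.of R))) (ζ : T ⟶ CoactBr.sp R B),
          (∃ t : T.left ⟶ Y', t ≫ c = ζ.left ≫ Spec.map (CommRingCat.ofHom (GLin.invariants R A B).val.toRingHom)) →
          ∀ g : T ⟶ CoactBr.sp R A, lift g ζ ≫ (CoactBr.action R A B).act = ζ → g = 1 := by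
  rw [Groth.Agent.CoactOrbitLib.trivAlg_iff]
  constructor
  · intro h
    obtain ⟨c, hc, hxc, hkill⟩ := Groth.Agent.CoactOrbitLib.exists_invariant_killer x h
    let c' : GLin.invariants R A B := ⟨c, hc⟩
    let Cc := Localization.Away c'
    let π : Spec (CommRingCat.of Cc) ⟶ Spec (CommRingCat.of (GLin.invariants R A B)) :=
      Spec.map (CommRingCat.ofHom (algebraMap (GLin.invariants R A B) Cc))
    haveI : IsOpenImmersion π := IsOpenImmersion.of_isLocalization c'
    let xc : Cc →+* K := IsLocalization.Away.lift c'
      (g := x.toRingHom.comp (GLin.invariants R A B).val.toRingHom) (isUnit_iff_ne_zero.2 hxc)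
    refine ⟨_, π, inferInstance, inferInstance,
      ⟨(Spec.map (CommRingCat.ofHom xc)).base (IsLocalRing.closedPoint K), ?_⟩, ?_⟩
    · have e : Spec.map (CommRingCat.ofHom xc) ≫ π =
          Spec.map (CommRingCat.ofHom (x.toRingHom.comp (GLin.invariants R A B).val.toRingHom)) := by
        rw [← Spec.map_comp]
        congr 1
        exact CommRingCat.hom_ext (IsLocalization.Away.lift_comp c' (isUnit_iff_ne_zero.2 hxc))
      exact congr(($e).base (IsLocalRing.closedPoint K))
    rintro T ζ ⟨t, ht⟩ g hg
    obtain ⟨z, rfl⟩ := Groth.Agent.CoactOrbitLib.exists_ptGam ζ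
    obtain ⟨a, rfl⟩ := Groth.Agent.CoactOrbitLib.exists_ptGam g
    rw [Groth.Agent.CoactOrbitLib.fix_eta_iff] at hg
    let t₀ := (Scheme.ΓSpecIso (CommRingCat.of Cc)).inv ≫ t.appTop
    have e1 : CommRingCat.ofHom (algebraMap (GLin.invariants R A B) Cc) ≫ t₀ =
        CommRingCat.ofHom ((z.toRingHom).comp (GLin.invariants R A B).val.toRingHom) := by
      apply Groth.Agent.CoactOrbitLib.toSpecΓ_comp_inj (T := T.left)
      rw [Spec.map_comp, ← Category.assoc, ← Groth.Agent.CoactOrbitLib.eq_toSpecΓ_comp t]
      refine ht.trans ?_
      show (T.left.toSpecΓ ≫ Spec.map (CommRingCat.ofHom z.toRingHom)) ≫ _ = _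
      rw [Category.assoc, ← Spec.map_comp]
      rfl
    have hu : IsUnit (z c) := by
      have h2 := (IsLocalization.Away.algebraMap_isUnit c' (S := Cc)).map t₀.hom
      have h3 : t₀.hom (algebraMap (GLin.invariants R A B) Cc c') = z c :=
        RingHom.congr_fun (congrArg CommRingCat.Hom.hom e1) c'
      rwa [h3] at h2
    rw [Groth.Agent.CoactOrbitLib.eq_unit_of_killer z a c hkill hu hg, ← Groth.Agent.CoactOrbitLib.one_eq_eta]
  · rintro ⟨Y', π, -, -, ⟨y', hy'⟩, hfree⟩
    let q : Spec (CommRingCat.of K) ⟶ Spec (CommRingCat.of (GLin.invariants R A B)) :=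
      Spec.map (CommRingCat.ofHom (x.toRingHom.comp (GLin.invariants R A B).val.toRingHom))
    obtain ⟨w, -, -⟩ := Scheme.Pullback.exists_preimage_pullback (f := π) (g := q) y' (IsLocalRing.closedPoint K) hy'
    let P := CategoryTheory.Limits.pullback π q
    obtain ⟨Ω, _, u₁, ψ₀, hu⟩ : ∃ (Ω : Type u) (_ : Field Ω) (u₁ : Spec (CommRingCat.of Ω) ⟶ Y') (ψ₀ : K →+* Ω),
        u₁ ≫ π = Spec.map (CommRingCat.ofHom ψ₀) ≫ q := by
      refine ⟨P.residueField w, inferInstance, P.fromSpecResidueField w ≫ CategoryTheory.Limits.pullback.fst π q,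
        (Spec.preimage (P.fromSpecResidueField w ≫ CategoryTheory.Limits.pullback.snd π q)).hom, ?_⟩
      rw [CommRingCat.ofHom_hom, Spec.map_preimage, Category.assoc, Category.assoc,
        CategoryTheory.Limits.pullback.condition]
    letI : Algebra R Ω := (ψ₀.comp (algebraMap R K)).toAlgebra
    let ψ : K →ₐ[R] Ω := { ψ₀ with commutes' := fun r => rfl }
    refine Groth.Agent.CoactOrbitLib.trivAlg_descend ψ x ?_
    intro L _ _ φ a ha
    refine CoactBr.pt_injective (Eq.trans ?_ CoactBr.one_eq_pt)
    refine hfree (CoactBr.sp R L) (CoactBr.pt (φ.comp (ψ.comp x))) ⟨Spec.map (CommRingCat.ofHom φ.toRingHom) ≫ u₁, ?_⟩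
      (CoactBr.pt a) ?_
    · rw [Category.assoc, hu, CoactBr.pt_left, ← Spec.map_comp, ← Spec.map_comp, ← Spec.map_comp]
      rfl
    · rw [Groth.Agent.CoactOrbitLib.fix_iff, CoactBr.lift_pt_ract]
      exact congrArg CoactBr.pt ha


end Groth.Agent.S14982
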