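import Groth.Statements.S14998
import Groth.Agent.S9209
import Groth.Agent.Proj16.DVRCrit
import Groth.Agent.AlgSpVal.DvrThrough
import Groth.Agent.H23.RedSub

set_option autoImplicit false
universe u
open CategoryTheory CategoryTheory.Limits AlgebraicGeometry
open AlgGrp

namespace Groth.Agent.S14998

variable {k : Type u} [Field k] {G R S T : Over (Spec (CommRingCat.of k))} [GrpObj G]

/-- A point over a discrete valuation ring lifts, up to translation. -/
theorem exists_lift_mod (a : AlgGrp.Action G R) (f : R ⟶ S) (q : S ⟶ T) (hf : W4c2lssmoduli.IsInvariantMor a f)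
    (hp : W4c2lssmoduli.IsGUnivClosed a (f ≫ q)) (A : Type u) [CommRing A] [IsDomain A] [IsDiscreteValuationRing A]
    (x : Spec (CommRingCat.of (FractionRing A)) ⟶ R.left) (y : Spec (CommRingCat.of A) ⟶ T.left)
    (w : x ≫ f.left ≫ q.left = Spec.map (CommRingCat.ofHom (algebraMap A (FractionRing A))) ≫ y) :
    ∃ l : Spec (CommRingCat.of A) ⟶ R.left, l ≫ f.left ≫ q.left = y ∧
      Spec.map (CommRingCat.ofHom (algebraMap A (FractionRing A))) ≫ l ≫ f.left = x ≫ f.left := by
  let sA := y ≫ T.hom
  let g : Over.mk (Spec.map (CommRingCat.ofHom (algebraMap A (FractionRing A))) ≫ sA) ⟶ R :=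
    Over.homMk x (by
      show x ≫ R.hom = _ ≫ y ≫ T.hom
      rw [← Over.w f, ← Over.w q, ← reassoc_of% w])
  let h : Over.mk sA ⟶ T := Over.homMk y rfl
  obtain ⟨i, γ, hi, hj⟩ := hp.2 A (FractionRing A) sA g h (Over.OverMorphism.ext w)
  refine ⟨i.left, congrArg (fun m => m.left) hi, ?_⟩
  have e : Over.homMk (Spec.map (CommRingCat.ofHom (algebraMap A (FractionRing A)))) rfl ≫ i ≫ f = g ≫ f := by
    rw [reassoc_of% hj]
    show CartesianMonoidalCategory.lift γ g ≫ a.act ≫ f = _
    rw [hf, CartesianMonoidalCategory.lift_snd_assoc]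
  exact congrArg (fun m => m.left) e

/-- Let k be a field and G a group scheme over k (a group object of schemes over Spec k) acting on a
k-scheme R of finite type. Let f : R → S and q : S → T be morphisms of k-schemes of finite type such
that q is separated, f is invariant under the action, and the composite p = q ∘ f is G-universally
closed: p is invariant and for every discrete valuation ring A over k with fraction field K, every
K-point of R and A-point of T over k forming a commutative square with p admit an A-point of R over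
T restricting on Spec K to a translate of the given K-point by a K-point of G. Then the
set-theoretic image f(R) is closed in S, and the reduced closed subscheme of S with underlying set
f(R) is proper over T. (The published statement fixes a connected algebraic group over the complex
numbers; this row allows any group scheme over any field, which is what the printed argument uses.) -/
theorem result (k : Type u) [Field k]
    (G R S T : Over (Spec (CommRingCat.of k))) [GrpObj G]
    [LocallyOfFiniteType R.hom] [CompactSpace ↥R.left] [LocallyOfFiniteType S.hom] [CompactSpace ↥S.left]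
    [LocallyOfFiniteType T.hom] [CompactSpace ↥T.left]
    (a : AlgGrp.Action G R) (f : R ⟶ S) (q : S ⟶ T) [IsSeparated q.left]
    (hf : W4c2lssmoduli.IsInvariantMor a f) (hp : W4c2lssmoduli.IsGUnivClosed a (f ≫ q)) :
    IsClosed (Set.range f.left.base) ∧
      IsProper ((Scheme.IdealSheafData.vanishingIdeal
          (⟨closure (Set.range f.left.base), isClosed_closure⟩ : TopologicalSpace.Closeds ↥S.left)).subschemeι ≫ q.left) := by
  haveI : IsLocallyNoetherian S.left := LocallyOfFiniteType.isLocallyNoetherian S.hom
  haveI : IsLocallyNoetherian T.left := LocallyOfFiniteType.isLocallyNoetherian T.hom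
  haveI : LocallyOfFiniteType f.left := by
    have : LocallyOfFiniteType (f.left ≫ S.hom) := by rw [Over.w f]; infer_instance
    exact locallyOfFiniteType_of_comp f.left S.hom
  haveI : LocallyOfFiniteType q.left := by
    have : LocallyOfFiniteType (q.left ≫ T.hom) := by rw [Over.w q]; infer_instance
    exact locallyOfFiniteType_of_comp q.left T.hom
  haveI : QuasiCompact f.left := inferInstance
  haveI : QuasiCompact q.left := inferInstance
  have hcl : IsClosed (Set.range f.left) := by
    refine isClosed_of_closure_subset fun s hs => ?_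
    obtain ⟨V, hV, hsV, -⟩ := exists_isAffineOpen_mem_and_subset (show s ∈ (⊤ : S.left.Opens) from trivial)
    haveI : IsAffine (V : Scheme.{u}) := hV
    haveI : CompactSpace ↥(f.left ⁻¹ᵁ V : Scheme.{u}) :=
      isCompact_iff_compactSpace.mp (f.left.isCompact_preimage hV.isCompact)
    have hsV' : (⟨s, hsV⟩ : (V : Scheme.{u})) ∈ closure (Set.range (f.left ∣_ V)) := by
      have e : Set.range (f.left ∣_ V) = V.ι ⁻¹' Set.range f.left := by
        ext z
        constructor
        · rintro ⟨x, rfl⟩
          exact ⟨(f.left ⁻¹ᵁ V).ι x, by rw [← Scheme.Hom.comp_apply, ← morphismRestrict_ι, Scheme.Hom.comp_apply]⟩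
        · rintro ⟨x, hx⟩
          refine ⟨⟨x, show f.left x ∈ V by rw [hx]; exact z.2⟩, V.ι.isEmbedding.injective ?_⟩
          rw [← Scheme.Hom.comp_apply, morphismRestrict_ι, Scheme.Hom.comp_apply]
          exact hx
      rw [e, ← V.ι.isOpenEmbedding.isOpenMap.preimage_closure_eq_closure_preimage V.ι.continuous]
      exact hs
    obtain ⟨x, hx⟩ := AlgSpVal.exists_specializes_of_mem_closure_range (f.left ∣_ V) hsV'
    have hx' : f.left ((f.left ⁻¹ᵁ V).ι x) ⤳ s := by
      rw [← Scheme.Hom.comp_apply, ← morphismRestrict_ι, Scheme.Hom.comp_apply]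
      exact hx.map V.ι.continuous
    obtain ⟨A, _, _, _, i, kk, hi, -, hk⟩ := AlgSpVal.exists_dvr_path_field f.left _ s hx'
    obtain ⟨l, hl, hlj⟩ := exists_lift_mod a f q hf hp A kk (i ≫ q.left) (by rw [reassoc_of% hk])
    have e : l ≫ f.left = i := Proj16.dvrUniqueness_of_isSeparated q.left A (l ≫ f.left) i
      (by rw [Category.assoc, hl]) (by rw [hlj, hk])
    exact ⟨l (IsLocalRing.closedPoint A), by rw [← Scheme.Hom.comp_apply, e, hi]⟩
  refine ⟨hcl, ?_⟩
  let Z : TopologicalSpace.Closeds S.left := ⟨closure (Set.range f.left.base), isClosed_closure⟩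
  let ι := (Scheme.IdealSheafData.vanishingIdeal Z).subschemeι
  have hιr : Set.range ι = Set.range f.left := by
    rw [H23.RedSub.range_vanishingIdeal]
    exact hcl.closure_eq
  let R' := (Scheme.IdealSheafData.vanishingIdeal (⊤ : TopologicalSpace.Closeds R.left))
  haveI : IsReduced R'.subscheme := H23.RedSub.isReduced_vanishingIdeal ⊤
  obtain ⟨h, hh⟩ := H23.RedSub.exists_lift_closed (R'.subschemeι ≫ f.left) ι (by
    rw [hιr]; rintro _ ⟨z, rfl⟩; exact ⟨R'.subschemeι z, rfl⟩)
  haveI : LocallyOfFiniteType h := by
    have : LocallyOfFiniteType (h ≫ ι) := by rw [hh]; infer_instance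
    exact locallyOfFiniteType_of_comp h ι
  haveI : QuasiCompact h := by
    have : QuasiCompact (h ≫ ι) := by rw [hh]; infer_instance
    exact QuasiCompact.of_comp h ι
  have hsurj : Function.Surjective h := fun z => by
    obtain ⟨r, hr⟩ : ι z ∈ Set.range f.left := hιr ▸ ⟨z, rfl⟩
    obtain ⟨r', rfl⟩ : r ∈ Set.range R'.subschemeι := by
      rw [H23.RedSub.range_vanishingIdeal]; trivial
    refine ⟨r', ι.isEmbedding.injective ?_⟩
    rw [← Scheme.Hom.comp_apply, hh, Scheme.Hom.comp_apply, hr]
  refine S9209.result (ι ≫ q.left) h hsurj.denseRange fun A _ _ _ u y w => ?_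
  obtain ⟨l, hl, hlj⟩ := exists_lift_mod a f q hf hp A (u ≫ R'.subschemeι) y (by
    rw [Category.assoc, ← reassoc_of% hh]; exact w)
  obtain ⟨lz, hlz⟩ := H23.RedSub.exists_lift_closed (l ≫ f.left) ι (by
    rw [hιr]; rintro _ ⟨z, rfl⟩; exact ⟨l z, rfl⟩)
  refine ⟨lz, by rw [reassoc_of% hlz, hl], ?_⟩
  rw [← cancel_mono ι, Category.assoc, hlz, hlj, Category.assoc, Category.assoc, hh]

end Groth.Agent.S14998
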