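import Groth.Statements.S14999
import Groth.Agent.S14998
import Groth.Agent.NagataLib.Field
import Groth.Agent.NagataLib.IntClosure

set_option autoImplicit false
universe u
open CategoryTheory CategoryTheory.Limits AlgebraicGeometry
open AlgGrp

namespace Groth.Agent.S14999

/-- An invariant function is integral over the base. -/
theorem isIntegral_of_invariant {k : Type u} [Field k] {G Y : Over (Spec (CommRingCat.of k))} [GrpObj G]
    [LocallyOfFiniteType Y.hom] [CompactSpace ↥Y.left] [IsReduced Y.left]
    {A : Type u} [CommRing A] [Algebra k A] [Algebra.FiniteType k A] (a : AlgGrp.Action G Y)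
    (p : Y ⟶ Over.mk (Spec.map (CommRingCat.ofHom (algebraMap k A))))
    (hp : W4c2lssmoduli.IsGUnivClosed a p) (s : Γ(Y.left, ⊤))
    (hs : a.act.left.appTop s = (CartesianMonoidalCategory.snd G Y).left.appTop s) :
    ((Scheme.ΓSpecIso (CommRingCat.of A)).inv ≫ p.left.appTop).hom.IsIntegralElem s := by
  let φ : CommRingCat.of A ⟶ Γ(Y.left, ⊤) := (Scheme.ΓSpecIso (CommRingCat.of A)).inv ≫ p.left.appTop
  let ev : CommRingCat.of (Polynomial A) ⟶ Γ(Y.left, ⊤) := CommRingCat.ofHom (Polynomial.eval₂RingHom φ.hom s)
  let cA : CommRingCat.of A ⟶ CommRingCat.of (Polynomial A) := CommRingCat.ofHom Polynomial.C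
  have hev : cA ≫ ev = φ := CommRingCat.hom_ext (RingHom.ext fun x => Polynomial.eval₂_C _ _)
  let T : Over (Spec (CommRingCat.of k)) := Over.mk (Spec.map (CommRingCat.ofHom (algebraMap k A)))
  let S : Over (Spec (CommRingCat.of k)) :=
    Over.mk (Spec.map cA ≫ Spec.map (CommRingCat.ofHom (algebraMap k A)))
  have hsp : (Y.left.toSpecΓ ≫ Spec.map ev) ≫ Spec.map cA = p.left := by
    rw [Category.assoc, ← Spec.map_comp, hev, Spec.map_comp, ← Category.assoc,
      ← Scheme.toSpecΓ_naturality, Category.assoc]
    exact (congrArg (p.left ≫ ·) (toSpecΓ_SpecMap_ΓSpecIso_inv _)).trans (Category.comp_id _)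
  let f : Y ⟶ S := Over.homMk (Y.left.toSpecΓ ≫ Spec.map ev) (by
    show (Y.left.toSpecΓ ≫ Spec.map ev) ≫ Spec.map cA ≫ _ = Y.hom
    rw [← Category.assoc, hsp]
    exact Over.w p)
  let q : S ⟶ T := Over.homMk (Spec.map cA) rfl
  have hfq : f ≫ q = p := Over.OverMorphism.ext hsp
  have hf : W4c2lssmoduli.IsInvariantMor a f := by
    refine Over.OverMorphism.ext ?_
    show a.act.left ≫ Y.left.toSpecΓ ≫ Spec.map ev = (CartesianMonoidalCategory.snd G Y).left ≫ Y.left.toSpecΓ ≫ Spec.map ev
    rw [Scheme.toSpecΓ_naturality_assoc, Scheme.toSpecΓ_naturality_assoc, ← Spec.map_comp, ← Spec.map_comp]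
    congr 2
    refine CommRingCat.hom_ext (Polynomial.ringHom_ext (fun x => ?_) ?_)
    · have e := congrArg (fun m => m.left) hp.1
      simp only [Over.comp_left] at e
      have e2 := congrArg (fun m : (MonoidalCategoryStruct.tensorObj G Y).left ⟶ T.left => ((Scheme.ΓSpecIso (CommRingCat.of A)).inv ≫ m.appTop).hom x) e
      simp only [Scheme.Hom.comp_appTop] at e2
      show a.act.left.appTop (Polynomial.eval₂ φ.hom s (Polynomial.C x)) =
        (CartesianMonoidalCategory.snd G Y).left.appTop (Polynomial.eval₂ φ.hom s (Polynomial.C x))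
      rw [Polynomial.eval₂_C]
      exact e2
    · show a.act.left.appTop (Polynomial.eval₂ φ.hom s Polynomial.X) =
        (CartesianMonoidalCategory.snd G Y).left.appTop (Polynomial.eval₂ φ.hom s Polynomial.X)
      rw [Polynomial.eval₂_X]
      exact hs
  haveI : LocallyOfFiniteType T.hom :=
    (HasRingHomProperty.Spec_iff (P := @LocallyOfFiniteType)).mpr (RingHom.finiteType_algebraMap.mpr inferInstance)
  haveI : LocallyOfFiniteType S.hom := by
    haveI : LocallyOfFiniteType (Spec.map cA) :=
      (HasRingHomProperty.Spec_iff (P := @LocallyOfFiniteType)).mpr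
        (RingHom.finiteType_algebraMap.mpr (inferInstance : Algebra.FiniteType A (Polynomial A)))
    exact MorphismProperty.comp_mem @LocallyOfFiniteType _ _ ‹_› ‹_›
  haveI : CompactSpace ↥S.left := inferInstanceAs (CompactSpace (PrimeSpectrum (Polynomial A)))
  haveI : CompactSpace ↥T.left := inferInstanceAs (CompactSpace (PrimeSpectrum A))
  haveI : IsSeparated q.left := inferInstanceAs (IsSeparated (Spec.map cA))
  obtain ⟨hcl, hZ⟩ := S14998.result k G Y S T a f q hf (hfq ▸ hp)
  let Z : TopologicalSpace.Closeds S.left := ⟨closure (Set.range f.left.base), isClosed_closure⟩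
  let ι := (Scheme.IdealSheafData.vanishingIdeal Z).subschemeι
  obtain ⟨h, hh⟩ := H23.RedSub.exists_lift_closed f.left ι (by
    rw [H23.RedSub.range_vanishingIdeal]; exact subset_closure)
  haveI : IsAffineHom q.left := inferInstanceAs (IsAffineHom (Spec.map cA))
  haveI : IsFinite (ι ≫ q.left) := IsFinite.iff_isProper_and_isAffineHom.mpr ⟨hZ, inferInstance⟩
  haveI : IsAffine T.left := inferInstanceAs (IsAffine (Spec (CommRingCat.of A)))
  let ψ : CommRingCat.of A ⟶ Γ((Scheme.IdealSheafData.vanishingIdeal Z).subscheme, ⊤) :=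
    (Scheme.ΓSpecIso (CommRingCat.of A)).inv ≫ (ι ≫ q.left).appTop
  have hψ : ψ.hom.IsIntegral := by
    refine RingHom.IsIntegral.trans _ _ ?_ (RingHom.Finite.to_isIntegral (Scheme.Hom.finite_appTop (ι ≫ q.left)))
    exact RingHom.isIntegral_of_surjective _ (ConcreteCategory.bijective_of_isIso (Scheme.ΓSpecIso (CommRingCat.of A)).inv).2
  have hψh : ψ ≫ h.appTop = φ := by
    show ((Scheme.ΓSpecIso (CommRingCat.of A)).inv ≫ (ι ≫ q.left).appTop) ≫ h.appTop = _
    rw [Category.assoc, ← Scheme.Hom.comp_appTop, reassoc_of% hh, show f.left ≫ q.left = p.left from hsp]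
  have hs' : h.appTop (ι.appTop ((Scheme.ΓSpecIso (CommRingCat.of (Polynomial A))).inv Polynomial.X)) = s := by
    show (((Scheme.ΓSpecIso (CommRingCat.of (Polynomial A))).inv ≫ ι.appTop) ≫ h.appTop).hom Polynomial.X = s
    rw [Category.assoc, ← Scheme.Hom.comp_appTop, hh]
    show ((Scheme.ΓSpecIso (CommRingCat.of (Polynomial A))).inv ≫ (Y.left.toSpecΓ ≫ Spec.map ev).appTop).hom Polynomial.X = s
    rw [Scheme.Hom.comp_appTop, ← Category.assoc, ← Scheme.ΓSpecIso_inv_naturality, Category.assoc,
      Scheme.toSpecΓ_appTop, Iso.inv_hom_id, Category.comp_id]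
    exact Polynomial.eval₂_X _ _
  rw [← hs']
  obtain ⟨P, hP, hP0⟩ := hψ (ι.appTop ((Scheme.ΓSpecIso (CommRingCat.of (Polynomial A))).inv Polynomial.X))
  refine ⟨P, hP, ?_⟩
  have := congrArg h.appTop.hom hP0
  rw [Polynomial.hom_eval₂, map_zero, ← CommRingCat.hom_comp, hψh] at this
  exact this

/-- Let k be a field, A a finitely generated k-algebra and G a group scheme over k acting on an integral
k-scheme Y of finite type; let p : Y → Spec A be a morphism over k which is G-universally closed
(invariant under the action, and for every discrete valuation ring over k with fraction field K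
every commutative square of a K-point of Y and a point of Spec A with values in that ring lifts, up
to translation of the K-point by a K-point of G, to a point of Y with values in the ring). Call a
global function s on Y invariant when its pullbacks along the action morphism and along the
projection G ×_k Y → Y agree. Then the invariant global functions form a finite A-module: there are
finitely many invariant functions such that every invariant function is a linear combination of them
with coefficients from A (acting on Γ(Y, O_Y) through p). (The published statement is for an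
integral G-stable closed subscheme Y of a G-universally closed scheme over Spec A, with k the
complex numbers and G a connected algebraic group; such a Y is itself G-universally closed over Spec
A, and the printed argument uses only a field k and a group scheme G.) -/
theorem result (k : Type u) [Field k]
    (G Y : Over (Spec (CommRingCat.of k))) [GrpObj G]
    [LocallyOfFiniteType Y.hom] [CompactSpace ↥Y.left] [IsIntegral Y.left]
    (A : Type u) [CommRing A] [Algebra k A] [Algebra.FiniteType k A]
    (a : AlgGrp.Action G Y)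
    (p : Y ⟶ Over.mk (Spec.map (CommRingCat.ofHom (algebraMap k A))))
    (hp : W4c2lssmoduli.IsGUnivClosed a p) :
    ∃ t : Finset ↑Γ(Y.left, ⊤),
      (∀ s ∈ t, a.act.left.appTop s = (CartesianMonoidalCategory.snd G Y).left.appTop s) ∧
      ∀ s : ↑Γ(Y.left, ⊤), a.act.left.appTop s = (CartesianMonoidalCategory.snd G Y).left.appTop s →
        ∃ c : ↑Γ(Y.left, ⊤) → A,
          s = ∑ x ∈ t, ((Scheme.ΓSpecIso (CommRingCat.of A)).inv ≫ p.left.appTop) (c x) * x := by
  classical
  let φ : A →+* Γ(Y.left, ⊤) := ((Scheme.ΓSpecIso (CommRingCat.of A)).inv ≫ p.left.appTop).hom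
  letI : Algebra A Γ(Y.left, ⊤) := φ.toAlgebra
  obtain ⟨V, hV, hyV, -⟩ := exists_isAffineOpen_mem_and_subset
    (show (Classical.arbitrary ↥Y.left) ∈ (⊤ : Y.left.Opens) from trivial)
  haveI : Nonempty V := ⟨⟨_, hyV⟩⟩
  let r : Γ(Y.left, ⊤) →+* Γ(Y.left, V) := (Y.left.presheaf.map (homOfLE (le_top : V ≤ ⊤)).op).hom
  have hr : Function.Injective r := map_injective_of_isIntegral _ _
  letI : Algebra A Γ(Y.left, V) := (r.comp φ).toAlgebra
  haveI : Algebra.FiniteType A Γ(Y.left, V) := by
    haveI : LocallyOfFiniteType p.left := by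
      have : LocallyOfFiniteType (p.left ≫ (Over.mk (Spec.map (CommRingCat.ofHom (algebraMap k A)))).hom) := by
        rw [Over.w p]; infer_instance
      exact locallyOfFiniteType_of_comp p.left (Over.mk (Spec.map (CommRingCat.ofHom (algebraMap k A)))).hom
    have h1 : (p.left.appLE ⊤ V le_top).hom.FiniteType :=
      HasRingHomProperty.appLE (P := @LocallyOfFiniteType) p.left inferInstance
        ⟨⊤, isAffineOpen_top (Spec (CommRingCat.of A))⟩ ⟨V, hV⟩ le_top
    have h2 : ((p.left.appLE ⊤ V le_top).hom.comp (Scheme.ΓSpecIso (CommRingCat.of A)).inv.hom).FiniteType :=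
      h1.comp (RingHom.FiniteType.of_surjective _
        (ConcreteCategory.bijective_of_isIso (Scheme.ΓSpecIso (CommRingCat.of A)).inv).2)
    exact h2
  haveI : IsNoetherianRing A := Algebra.FiniteType.isNoetherianRing k A
  haveI := NagataLib.finite_integralClosure_domain (NagataLib.isNagata_of_finiteType k A) Γ(Y.left, V)
  haveI : IsNoetherian A (integralClosure A Γ(Y.left, V)) := isNoetherian_of_isNoetherianRing_of_finite A _
  have hA : ∀ x : A, a.act.left.appTop (φ x) = (CartesianMonoidalCategory.snd G Y).left.appTop (φ x) := fun x => by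
    have e := congrArg (fun m => m.left) hp.1
    simp only [Over.comp_left] at e
    have e2 := congrArg (fun m : (MonoidalCategoryStruct.tensorObj G Y).left ⟶ Spec (CommRingCat.of A) =>
      ((Scheme.ΓSpecIso (CommRingCat.of A)).inv ≫ m.appTop).hom x) e
    simp only [Scheme.Hom.comp_appTop] at e2
    exact e2
  let N : Submodule A Γ(Y.left, ⊤) :=
    { carrier := {s | a.act.left.appTop s = (CartesianMonoidalCategory.snd G Y).left.appTop s}
      add_mem' := fun {x y} hx hy => by
        show a.act.left.appTop (x + y) = _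
        rw [map_add, map_add, hx, hy]
      zero_mem' := by
        show a.act.left.appTop 0 = _
        rw [map_zero, map_zero]
      smul_mem' := fun c x hx => by
        show a.act.left.appTop (φ c * x) = (CartesianMonoidalCategory.snd G Y).left.appTop (φ c * x)
        rw [map_mul, map_mul, hx, hA] }
  let i : N →ₗ[A] integralClosure A Γ(Y.left, V) :=
    { toFun := fun x => ⟨r x.1, by
        obtain ⟨P, hP, h0⟩ := isIntegral_of_invariant a p hp x.1 x.2
        refine ⟨P, hP, ?_⟩
        have := congrArg r h0
        rw [Polynomial.hom_eval₂, map_zero] at this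
        exact this⟩
      map_add' := fun x y => Subtype.ext (map_add r _ _)
      map_smul' := fun c x => Subtype.ext (map_mul r _ _) }
  haveI : Module.Finite A N := Module.Finite.of_injective i fun x y e =>
    Subtype.ext (hr (congrArg Subtype.val e))
  obtain ⟨t, ht⟩ := (Module.Finite.fg_top (R := A) (M := N))
  refine ⟨t.map ⟨Subtype.val, Subtype.val_injective⟩, fun x hx => ?_, fun x hx => ?_⟩
  · obtain ⟨y, -, rfl⟩ := Finset.mem_map.mp hx
    exact y.2
  · have hm : (⟨x, hx⟩ : N) ∈ Submodule.span A (t : Set N) := ht ▸ Submodule.mem_top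
    obtain ⟨c, -, hc⟩ := Submodule.mem_span_finset.mp hm
    refine ⟨fun z => if hz : z ∈ N then c ⟨z, hz⟩ else 0, ?_⟩
    rw [Finset.sum_map]
    have := congrArg Subtype.val hc
    simp only [AddSubmonoidClass.coe_finset_sum, SetLike.val_smul] at this
    rw [← this]
    refine Finset.sum_congr rfl fun z _ => ?_
    simp only [Function.Embedding.coeFn_mk]
    rw [dif_pos z.2]
    rfl

end Groth.Agent.S14999
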