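import Groth.Statements.S15000
import Groth.Agent.ProjAvoid.Basic
import Groth.Agent.GGAmple.Basic
import Groth.Agent.GGAmple.Finite
import Groth.Agent.TwistX.Global
import Groth.Agent.NormX.NormalAmple
import Groth.Agent.S10829
import Groth.Agent.PnCoh.Finite.TwistInv

set_option autoImplicit false
set_option backward.isDefEq.respectTransparency false
set_option backward.isDefEq.respectTransparency.types false
set_option linter.style.haveILetI false
universe u
open CategoryTheory CategoryTheory.Limits AlgebraicGeometry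
open ProjDeg

namespace Groth.Agent.S15000
open Groth.Agent

/-- Let k be an algebraically closed field and Y a closed subscheme of projective N-space over k, given
by a closed immersion ι compatible with the structure morphisms to Spec k, and suppose the
underlying topological space of Y has Krull dimension d. Then there is a morphism π : Y → P^d_k over
k which is finite and surjective and under which O(1) of P^d_k pulls back to a module isomorphic to
O_Y(1) = ι^*O(1). This row records the existence of such a finite surjective π together with the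
existence of an isomorphism π^*O(1) ≅ O_Y(1) (existence of an isomorphism only). -/
theorem result (k : Type u) [Field k] [IsAlgClosed k]
    (N d : ℕ) (Y : Scheme.{u}) (f : Y ⟶ Spec (CommRingCat.of k))
    (ι : Y ⟶ CohB1.ProjSpace N k) [IsClosedImmersion ι] (hι : ι ≫ CohB1.ProjSpace.toSpec N k = f)
    (hdim : topologicalKrullDim ↥Y = (d : WithBot ℕ∞)) :
    ∃ π : Y ⟶ CohB1.ProjSpace d k, π ≫ CohB1.ProjSpace.toSpec d k = f ∧ IsFinite π ∧ Function.Surjective π.base ∧
      Nonempty ((Scheme.Modules.pullback π).obj (Twist.twistProjSpace d k 1) ≅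
        (Scheme.Modules.pullback ι).obj (Twist.twistProjSpace N k 1)) := by
  classical
  let P := CohB1.ProjSpace N k
  haveI : Infinite k := inferInstance
  subst hι
  let f := ι ≫ CohB1.ProjSpace.toSpec N k
  haveI : IsProper (CohB1.ProjSpace.toSpec N k) := PnCoh.Chow.isProper_toSpec N k
  haveI : IsProper (CohB1.ProjSpace.toSpec d k) := PnCoh.Chow.isProper_toSpec d k
  haveI : IsProper f := inferInstance
  haveI : IsNoetherian P := Proj16.isNoetherian_proj _
  haveI : CompactSpace Y := QuasiCompact.compactSpace_of_compactSpace f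
  haveI : IsLocallyNoetherian Y := LocallyOfFiniteType.isLocallyNoetherian f
  haveI : IsNoetherian Y := {}
  haveI : JacobsonSpace Y := LocallyOfFiniteType.jacobsonSpace f
  have hFd : topologicalKrullDim (Set.range ι.base) ≤ (d : WithBot ℕ∞) := by
    rw [← hdim, IsHomeomorph.topologicalKrullDim_eq _ ι.isClosedEmbedding.isEmbedding.toHomeomorph.isHomeomorph]
  obtain ⟨h, hh⟩ := ProjAvoid.exists_linear ι.isClosedEmbedding.isClosed_range hFd
  let O1 : P.Modules := Twist.twistProjSpace N k 1
  let L : Y.Modules := (Scheme.Modules.pullback ι).obj O1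
  have hO : CohB1.IsAmple O1 := by
    refine AmpleX.isAmple_twist_one (𝒜 := CohB1.polyGrading N k) (Finset.univ.image fun j : Fin (N + 1) => MvPolynomial.X j) ?_ ?_
    · intro g hg
      obtain ⟨j, -, rfl⟩ := Finset.mem_image.1 hg
      exact ProjPt.X_mem j
    · refine eq_top_iff.2 fun y _ => ?_
      obtain ⟨j, hj⟩ := TopologicalSpace.Opens.mem_iSup.1 ((AmpleEmbed.iSup_basicOpen_X N k).ge (trivial : y ∈ (⊤ : TopologicalSpace.Opens _)))
      exact TopologicalSpace.Opens.mem_iSup.2 ⟨⟨MvPolynomial.X j, Finset.mem_image.2 ⟨j, Finset.mem_univ _, rfl⟩⟩, hj⟩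
  have hL : CohB1.IsAmple L := NormX.isAmple_pullback_affine ι hO
  let s : Fin (d + 1) → Γ(L, ⊤) := fun i =>
    InvX.pullElt ι (U := ⊤) (show Γ(O1, ⊤) from Twist.globalOf (CohB1.polyGrading N k) (h i))
  have hs : ProjUP.GeneratedBy L s := ProjUPX.generatedBy_of_frames _ fun x => by
    obtain ⟨i, hi⟩ := hh (ι x) ⟨x, rfl⟩
    refine ⟨i, ι ⁻¹ᵁ Proj.basicOpen (CohB1.polyGrading N k) (h i : MvPolynomial (Fin (N + 1)) k), hi, ?_⟩
    have e := InvX.res_pullElt ι (le_top : Proj.basicOpen (CohB1.polyGrading N k) (h i : MvPolynomial (Fin (N + 1)) k) ≤ ⊤)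
      (show Γ(O1, ⊤) from Twist.globalOf (CohB1.polyGrading N k) (h i))
    exact e ▸ InvX.isFrame_pullElt ι (TwistX.isFrame_res_globalOf (h i).2 fun y => y.2)
  obtain ⟨r, hr, τ, -⟩ := S3572.result d f L hL.1 s hs
  refine ⟨r, hr, ?_⟩
  haveI : IsProper r := by
    haveI : IsProper (r ≫ CohB1.ProjSpace.toSpec d k) := hr ▸ ‹IsProper f›
    exact IsProper.of_comp r (CohB1.ProjSpace.toSpec d k)
  have hN : PicF.IsInvertible (Twist.twistProjSpace d k 1) :=
    PnCoh.Finite.isInvertible_twist (fun j : ULift.{u} (Fin (d + 1)) => MvPolynomial.X j.down)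
      (fun j => ProjPt.X_mem j.down) (by
        refine top_le_iff.1 ((AmpleEmbed.iSup_basicOpen_X d k).ge.trans (iSup_le fun j => ?_))
        exact le_iSup_of_le (ULift.up j) le_rfl) _
  haveI : LocallyQuasiFinite r := AVAmple.locallyQuasiFinite_of_closed r fun q hq =>
    AVAmple.finite_preimage r hL.1 hN τ (fun {C} j hj hint htriv => by
      haveI := hj
      letI : C.Over (Spec (CommRingCat.of k)) := ⟨j ≫ f⟩
      haveI : IsProper (C ↘ Spec (CommRingCat.of k)) := inferInstanceAs (IsProper (j ≫ f))
      obtain ⟨e⟩ := htriv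
      exact GGAmple.finite_of_isAmple_structure k C (AmpleX.isAmple_of_iso e (NormX.isAmple_pullback_affine j hL))) q hq
  haveI : IsFinite r := IsFinite.of_isProper_of_locallyQuasiFinite r
  refine ⟨inferInstance, fun y => ?_, ⟨τ⟩⟩
  by_contra hy
  haveI : IsIntegral (CohB1.ProjSpace d k) := H23.PnChart.isIntegral_projSpace d k
  have hlt := H23.TopDim.dim_lt_of_ssubset (X := CohB1.ProjSpace d k)
    (by rw [S10829.result k d]; exact (WithBot.coe_lt_coe.2 (ENat.coe_lt_top d)).ne)
    r.isClosedMap.isClosed_range (fun hu => hy (Set.mem_range.mp (hu.ge (Set.mem_univ y))))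
  rw [S10829.result k d] at hlt
  exact not_le_of_gt hlt (hdim ▸ GGAmple.dim_le_range r)

end Groth.Agent.S15000
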