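import Groth.Statements.S15002
import Groth.Agent.HilbPoly.Simple
import Groth.Agent.HilbPoly.PnTwist
import Groth.Agent.AmpleVan.Pull
import Groth.Agent.Bounded.CurveSS

set_option backward.isDefEq.respectTransparency false
set_option backward.isDefEq.respectTransparency.types false
set_option maxHeartbeats 1000000

set_option autoImplicit false
universe u
open CategoryTheory CategoryTheory.Limits AlgebraicGeometry
open Coherent

namespace Groth.Agent.S15002

open Groth.Agent StabCat Polynomial

/-- Strict lexicographic comparison of normalised coefficients gives strict reduced comparison. -/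
lemma redLT_of_lex {d ℓ : ℕ} (hℓd : ℓ ≤ d) {P Q : ℚ[X]} (hPd : P.natDegree ≤ d) (hQd : Q.natDegree ≤ d)
    (hP : 0 < P.coeff d) (hQ : 0 < Q.coeff d)
    (h : toLex (fun j : Fin ℓ => ((Q).coeff (d - 1 - (j : ℕ)) * (Nat.factorial (d - 1 - (j : ℕ)) : ℚ)) / ((Q).coeff d * (Nat.factorial d : ℚ))) < toLex (fun j : Fin ℓ => ((P).coeff (d - 1 - (j : ℕ)) * (Nat.factorial (d - 1 - (j : ℕ)) : ℚ)) / ((P).coeff d * (Nat.factorial d : ℚ)))) :
    RedLT d Q P := by
  obtain ⟨j, hj, hlt⟩ := h
  have hfd : (0 : ℚ) < (d.factorial : ℚ) := by exact_mod_cast d.factorial_pos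
  let D := alpha d Q • P - alpha d P • Q
  have hD : ∀ i, D.coeff i = (d.factorial : ℚ) * (Q.coeff d * P.coeff i - P.coeff d * Q.coeff i) := fun i => by
    simp only [D, alpha, Polynomial.coeff_sub, Polynomial.coeff_smul, smul_eq_mul]; ring
  have hpos : 0 < D.coeff (d - 1 - (j : ℕ)) := by
    have hf : (0 : ℚ) < ((d - 1 - (j : ℕ)).factorial : ℚ) := by exact_mod_cast Nat.factorial_pos _
    simp only [Pi.toLex_apply] at hlt
    rw [div_lt_div_iff₀ (by positivity) (by positivity)] at hlt
    rw [hD]
    refine mul_pos hfd (pos_of_mul_pos_left ?_ (le_of_lt (mul_pos hf hfd)))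
    nlinarith [hlt]
  have hdeg : D.natDegree ≤ d - 1 - (j : ℕ) := Polynomial.natDegree_le_iff_coeff_eq_zero.2 fun i hi => by
    rw [hD]
    by_cases hid : d ≤ i
    · rcases hid.lt_or_eq with hid | rfl
      · rw [Polynomial.coeff_eq_zero_of_natDegree_lt (lt_of_le_of_lt hPd hid),
          Polynomial.coeff_eq_zero_of_natDegree_lt (lt_of_le_of_lt hQd hid)]
        ring
      · ring
    · have he := hj ⟨d - 1 - i, by omega⟩ (by show d - 1 - i < (j : ℕ); omega)
      simp only [Pi.toLex_apply] at he
      rw [show d - 1 - (d - 1 - i) = i by omega, div_eq_div_iff (by positivity) (by positivity)] at he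
      have hf : (0 : ℚ) < (i.factorial : ℚ) := by exact_mod_cast Nat.factorial_pos _
      have : ((Q.coeff d * P.coeff i - P.coeff d * Q.coeff i)) * ((i.factorial : ℚ) * (d.factorial : ℚ)) = 0 := by
        linear_combination -he
      rw [(mul_eq_zero.1 this).resolve_right (by positivity), mul_zero]
  obtain ⟨N, hN⟩ := HilbPoly.eventually_pos hdeg hpos
  refine ⟨N, fun m hm => ?_⟩
  have := hN m hm
  simp only [D, Polynomial.eval_sub, Polynomial.eval_smul, smul_eq_mul] at this ⊢
  linarith


open Polynomial in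
/-- Let k be an algebraically closed field and X an integral scheme, smooth and proper over k, with a
closed immersion ι into projective N-space over k compatible with the structure maps; write E(m) = E
⊗ ι^*O(m). Let 1 ≤ ℓ ≤ d and let E be a coherent O_X-module whose Hilbert polynomial P (χ(E(m)) =
P(m) for all integers m) is nonzero of degree d, which is pure of dimension d (every nonzero
coherent subsheaf of E has support of Krull dimension d) and ℓ-stable: writing R(m) = Σ_i α_i(R)
m^i/i! for a polynomial R, for every coherent subsheaf F of E with Hilbert polynomial Q such that 0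
< α_d(Q) < α_d(P), the vector (α_{d−1}(Q)/α_d(Q), …, α_{d−ℓ}(Q)/α_d(Q)) is strictly smaller than
(α_{d−1}(P)/α_d(P), …, α_{d−ℓ}(P)/α_d(P)) in the lexicographic order. Then E is simple: every
endomorphism φ of E is multiplication by a scalar, i.e. there is c ∈ k with φ(s) = c·s for every
local section s of E. (The published statement gives more generally, for such E, that the
endomorphisms of the restriction of E to the complement of any closed subset meeting the support of
E in codimension at least ℓ + 1 are the scalars; this row is the case of the empty closed subset.) -/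
theorem result (k : Type u) [Field k] [IsAlgClosed k]
    (X : Scheme.{u}) [X.Over (Spec (CommRingCat.of k))] [IsIntegral X]
    [Smooth (X ↘ Spec (CommRingCat.of k))] [IsProper (X ↘ Spec (CommRingCat.of k))]
    (N : ℕ) (ι : X ⟶ CohB1.ProjSpace N k) [IsClosedImmersion ι] (hι : ι ≫ CohB1.ProjSpace.toSpec N k = X ↘ Spec (CommRingCat.of k))
    (d ℓ : ℕ) (hℓ : 1 ≤ ℓ) (hℓd : ℓ ≤ d)
    (E : X.Modules) (hE : Coh.IsCoh E) (P : ℚ[X]) (hPd : P.natDegree = d) (hP0 : P ≠ 0)
    (hP : ∀ m : ℤ, (Curv2.euler k X (Pic13.twistOn k ι E m) : ℚ) = P.eval (m : ℚ))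
    (hpure : ∀ (F : X.Modules) (j : F ⟶ E), Mono j → Coh.IsCoh F → ¬ IsZero F →
      topologicalKrullDim (CohB1.support F) = (d : WithBot ℕ∞))
    (hst : ∀ (F : X.Modules) (j : F ⟶ E), Mono j → Coh.IsCoh F → ∀ Q : ℚ[X],
      (∀ m : ℤ, (Curv2.euler k X (Pic13.twistOn k ι F m) : ℚ) = Q.eval (m : ℚ)) →
        0 < Q.coeff d → Q.coeff d < P.coeff d →
          toLex (fun j : Fin ℓ => ((Q).coeff (d - 1 - (j : ℕ)) * (Nat.factorial (d - 1 - (j : ℕ)) : ℚ)) / ((Q).coeff d * (Nat.factorial d : ℚ))) < toLex (fun j : Fin ℓ => ((P).coeff (d - 1 - (j : ℕ)) * (Nat.factorial (d - 1 - (j : ℕ)) : ℚ)) / ((P).coeff d * (Nat.factorial d : ℚ))))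
    (φ : E ⟶ E) :
    ∃ c : k, ∀ (V : X.Opens) (s : E.val.obj (Opposite.op V)),
      (φ.val.app (Opposite.op V)) s = (X.ringCatSheaf.obj.map (homOfLE (le_top : V ≤ ⊤)).op (Coh.toGlobal (X ↘ Spec (CommRingCat.of k)) c : X.ringCatSheaf.obj.obj (Opposite.op ⊤))) • s := by
  let L := (Scheme.Modules.pullback ι).obj (Twist.twistProjSpace N k 1)
  haveI : QuasiCompact (X ↘ Spec (CommRingCat.of k)) := inferInstance
  haveI : CompactSpace X := HasAffineProperty.iff_of_isAffine.1 this
  haveI : IsNoetherian X := CurveCohLib.isNoetherian_of_proper (k := k)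
  have hL : CohB1.IsAmple L :=
    AmpleVan.isAmple_pullback_of_isEmbedding ι ι.isClosedEmbedding.isEmbedding (HilbPoly.isAmple_twistProjSpace_one N k)
  have hL' : Nonempty (L ≅ (Scheme.Modules.pullback ι).obj (Twist.twistProjSpace N k 1)) := ⟨Iso.refl _⟩
  -- conversion between the two kinds of Hilbert polynomials
  have key : ∀ F : X.Modules, Coh.IsCoh F → ∀ (m : ℤ),
      UnifReg.chi ((Scheme.Modules.pushforward ι).obj F) m = Curv2.euler k X (Pic13.twistOn k ι F m) := by
    intro F hF m
    obtain ⟨e⟩ := IntNum.push_tensor ι F (Twist.twistProjSpace N k m)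
    rw [← Bounded.euler_eq_chi_zero ι hι (Bounded.isCoh_twistOn ι hF m)]
    exact ((UnifReg.chi_iso e _).trans ((UnifReg.chi_twist _ _ _).trans (by rw [add_zero]))).symm
  have hPE : ShStab.IsHilbPoly k X L E P := fun m => by
    rw [← UnifReg.chi_push ι hL' hι hE.1 m, key E hE, hP]
    simp
  have hE0 : ¬ IsZero E := fun h => hP0 (HilbPoly.isHilbPoly_unique hPE (HilbPoly.hilb_isZero h))
  have hdE := HilbPoly.dim_of_isPure (d := d) hpure hE hE0
  have hPpos : 0 < P.coeff d := by
    have := HilbPoly.alpha_pos hL hE hdE hPE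
    exact pos_of_mul_pos_right this (Nat.cast_nonneg _)
  have hstab : ShStab.IsStable k X L E d := by
    refine ⟨hE, hE0, hpure, fun F j hj hFc hF0 hji pF pE hpF hpE => ?_⟩
    haveI := hj
    obtain rfl := HilbPoly.isHilbPoly_unique hpE hPE
    obtain ⟨hpos, h | h⟩ := HilbPoly.sub_cases hL hE hpure j hFc hF0 hji hpF hpE
    · have hQ : ∀ m : ℤ, (Curv2.euler k X (Pic13.twistOn k ι F m) : ℚ) = pF.eval (m : ℚ) := fun m => by
        rw [← key F hFc, Bounded.chi_eq_eval ι hι hL' hFc hpF]
      have hQd : 0 < pF.coeff d := pos_of_mul_pos_right hpos (Nat.cast_nonneg _)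
      have hlt : pF.coeff d < pE.coeff d := lt_of_mul_lt_mul_left h (Nat.cast_nonneg _)
      exact redLT_of_lex hℓd hPd.le
        (HilbPoly.hilb_props hL.1 hFc (HilbPoly.dim_mono hFc hE j hdE.le) hpF).1 hPpos hQd
        (hst F j hj hFc pF hQ hQd hlt)
    · exact h
  obtain ⟨c, rfl⟩ := HilbPoly.exists_scalar (X ↘ Spec (CommRingCat.of k)) hE hE0
    (fun ψ hψ => HilbPoly.isIso_end hL hstab hψ) φ
  exact ⟨c, fun V s => HilbPoly.smulG_app E _ V s⟩

end Groth.Agent.S15002
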