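import Groth.Statements.S15003
import Groth.Agent.S10881
import Mathlib.AlgebraicGeometry.AlgClosed.Basic
import Mathlib.RingTheory.Unramified.Field
import Mathlib.RingTheory.Artinian.Module

set_option autoImplicit false
universe u
open CategoryTheory CategoryTheory.Limits AlgebraicGeometry
open Harb

namespace Groth.Agent.S15003

/-- A finite unramified algebra over an algebraically closed field has as many points as its dimension. -/
theorem natCard_primeSpectrum (K A : Type u) [Field K] [IsAlgClosed K] [CommRing A] [Algebra K A]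
    [Module.Finite K A] [Algebra.FormallyUnramified K A] :
    Nat.card (PrimeSpectrum A) = Module.finrank K A := by
  classical
  haveI : IsArtinianRing A := isArtinian_of_tower K inferInstance
  haveI : IsReduced A := Algebra.FormallyUnramified.isReduced_of_field K A
  haveI : Fintype (MaximalSpectrum A) := Fintype.ofFinite _
  have h1 : ∀ I : MaximalSpectrum A, Module.finrank K (A ⧸ I.asIdeal) = 1 := fun I => by
    haveI := I.isMaximal
    letI := Ideal.Quotient.field I.asIdeal
    have hb : Function.Bijective (algebraMap K (A ⧸ I.asIdeal)) :=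
      IsAlgClosed.algebraMap_bijective_of_isIntegral
    exact (LinearEquiv.ofBijective (Algebra.linearMap K (A ⧸ I.asIdeal)) hb).finrank_eq.symm.trans
      (Module.finrank_self K)
  rw [((IsArtinianRing.equivPi A).restrictScalars K).toLinearEquiv.finrank_eq, Module.finrank_pi_fintype]
  simp only [h1, Finset.sum_const, Finset.card_univ, smul_eq_mul, mul_one]
  rw [← Nat.card_eq_fintype_card]
  exact Nat.card_congr IsArtinianRing.primeSpectrumEquivMaximalSpectrum

theorem natCard_fibre {k : Type u} [Field k] [IsAlgClosed k] {X Y : Scheme.{u}} (s : X ⟶ Spec (CommRingCat.of k))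
    [LocallyOfFiniteType s] (π : Y ⟶ X) [IsFinite π] [Flat π] [FormallyUnramified π] (p : X)
    (hp : IsClosed ({p} : Set X)) : Nat.card {q : Y // π q = p} = π.finrank p := by
  haveI : IsAlgClosed (X.residueField p) :=
    IsAlgClosed.of_ringEquiv k _ (residueFieldIsoBase s p hp).commRingCatIsoToRingEquiv.symm
  let P := π.fiber p
  let b : P ⟶ Spec (X.residueField p) := π.fiberToSpecResidueField p
  haveI : IsFinite b := inferInstanceAs (IsFinite (pullback.snd π (X.fromSpecResidueField p)))
  haveI : Flat b := inferInstanceAs (Flat (pullback.snd π (X.fromSpecResidueField p)))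
  haveI : FormallyUnramified b :=
    MorphismProperty.of_isPullback (P := @FormallyUnramified) (IsPullback.of_hasPullback π (X.fromSpecResidueField p)) ‹_›
  haveI : IsAffine P := isAffine_of_isAffineHom b
  obtain ⟨φ, hφ⟩ := Spec.map_surjective (P.isoSpec.inv ≫ b)
  have hfin : φ.hom.Finite := (IsFinite.SpecMap_iff φ).1 (hφ ▸ inferInstance)
  have hflat : φ.hom.Flat := Flat.SpecMap_iff.1 (hφ ▸ inferInstance)
  haveI : MorphismProperty.RespectsIso @FormallyUnramified :=
    MorphismProperty.IsStableUnderBaseChange.respectsIso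
  have hunr : φ.hom.FormallyUnramified :=
    (HasRingHomProperty.Spec_iff (P := @FormallyUnramified)).1
      (hφ ▸ (MorphismProperty.cancel_left_of_respectsIso @FormallyUnramified P.isoSpec.inv b).2 ‹_›)
  let c : Spec (X.residueField p) := IsLocalRing.closedPoint (X.residueField p)
  have h1 : π.finrank p = (Spec.map φ).finrank c := by
    rw [hφ, Scheme.Hom.finrank_comp_left_of_isIso]
    show _ = (pullback.snd π (X.fromSpecResidueField p)).finrank c
    rw [Scheme.Hom.finrank_pullback_snd, Scheme.fromSpecResidueField_apply]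
  letI := φ.hom.toAlgebra
  haveI : Module.Finite (X.residueField p) Γ(P, ⊤) := hfin
  haveI : Algebra.FormallyUnramified (X.residueField p) Γ(P, ⊤) := hunr
  rw [h1, Scheme.Hom.finrank_SpecMap_eq_finrank hfin hflat, ← RingHom.algebraMap_toAlgebra φ.hom,
    RingHom.finrank_algebraMap, Module.rankAtStalk_eq_finrank_of_free]
  show _ = Module.finrank (X.residueField p) Γ(P, ⊤)
  rw [← natCard_primeSpectrum]
  exact Nat.card_congr ((π.fiberHomeo p).symm.toEquiv.trans P.isoSpec.hom.homeomorph.toEquiv)

theorem finrank_genericPoint {X Y : Scheme.{u}} [IsIntegral X] [IsIntegral Y] (π : Y ⟶ X) [IsFinite π]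
    [Flat π] [LocallyOfFinitePresentation π] (e : π (genericPoint Y) = genericPoint X) (x : X) :
    π.finrank x =
      Models.homDegree (X.presheaf.stalkSpecializes (specializes_of_eq e) ≫ π.stalkMap (genericPoint Y)).hom := by
  set ψ := (X.presheaf.stalkSpecializes (specializes_of_eq e) ≫ π.stalkMap (genericPoint Y)).hom with hψ
  rw [π.isLocallyConstant_finrank.apply_eq_of_preconnectedSpace x (genericPoint X)]
  obtain ⟨U, hU, hη, -⟩ := exists_isAffineOpen_mem_and_subset (x := genericPoint X) (U := ⊤) trivial
  have hV : genericPoint Y ∈ π ⁻¹ᵁ U := by show π (genericPoint Y) ∈ U; rw [e]; exact hη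
  haveI : Nonempty U := ⟨⟨_, hη⟩⟩
  haveI : Nonempty (π ⁻¹ᵁ U : Y.Opens) := ⟨⟨_, hV⟩⟩
  letI : Algebra Γ(X, U) Γ(Y, π ⁻¹ᵁ U) := (π.app U).hom.toAlgebra
  haveI : Module.Finite Γ(X, U) Γ(Y, π ⁻¹ᵁ U) := π.finite_app _ hU
  haveI : Module.Flat Γ(X, U) Γ(Y, π ⁻¹ᵁ U) := by
    have := π.flat_appLE hU (hU.preimage π) le_rfl
    rwa [Scheme.Hom.appLE_eq_app] at this
  have hsq : IsPullback (hU.preimage π).fromSpec (Spec.map (π.app U)) π hU.fromSpec := by
    refine IsPullback.flip (IsOpenImmersion.isPullback _ _ _ _ ?_ ?_)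
    · rw [← IsAffineOpen.SpecMap_appLE_fromSpec π hU (hU.preimage π) le_rfl, Scheme.Hom.appLE_eq_app]
    · apply TopologicalSpace.Opens.ext
      simp only [Scheme.Hom.coe_opensRange, Scheme.Hom.coe_preimage, IsAffineOpen.range_fromSpec]
  obtain ⟨q, hq⟩ : genericPoint X ∈ Set.range hU.fromSpec := by rw [hU.range_fromSpec]; exact hη
  rw [show π.finrank (genericPoint X) = π.finrank (hU.fromSpec q) by rw [hq],
    ← Scheme.Hom.finrank_of_isPullback _ _ _ _ hsq q]
  rw [Scheme.Hom.finrank_SpecMap_eq_finrank (π.finite_app _ hU) (RingHom.flat_algebraMap_iff.2 ‹_›),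
    ← RingHom.algebraMap_toAlgebra (π.app U).hom, RingHom.finrank_algebraMap]
  erw [Module.rankAtStalk_eq]
  rw [Ideal.finrank_fiber_eq_finrank]
  haveI := functionField_isFractionRing_of_isAffineOpen X U hU
  haveI := functionField_isFractionRing_of_isAffineOpen Y (π ⁻¹ᵁ U) (hU.preimage π)
  letI : Algebra X.functionField Y.functionField := ψ.toAlgebra
  letI : Algebra Γ(X, U) Y.functionField :=
    ((algebraMap Γ(Y, π ⁻¹ᵁ U) Y.functionField).comp (algebraMap Γ(X, U) Γ(Y, π ⁻¹ᵁ U))).toAlgebra
  haveI : IsScalarTower Γ(X, U) Γ(Y, π ⁻¹ᵁ U) Y.functionField := IsScalarTower.of_algebraMap_eq fun _ => rfl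
  have hgm : ∀ a, ψ (X.germToFunctionField U a) = Y.germToFunctionField (π ⁻¹ᵁ U) (π.app U a) := by
    intro a
    show π.stalkMap _ (X.presheaf.stalkSpecializes _ (X.presheaf.germ U _ _ a)) = _
    rw [TopCat.Presheaf.germ_stalkSpecializes_apply]
    exact Scheme.Hom.germ_stalkMap_apply π U _ hV a
  haveI : IsScalarTower Γ(X, U) X.functionField Y.functionField :=
    IsScalarTower.of_algebraMap_eq fun a => (hgm a).symm
  haveI : FaithfulSMul Γ(X, U) Γ(Y, π ⁻¹ᵁ U) := (faithfulSMul_iff_algebraMap_injective _ _).2 fun a b hab => by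
    refine germ_injective_of_isIntegral X (genericPoint X) hη (ψ.injective ?_)
    exact (hgm a).trans ((congrArg (Y.germToFunctionField (π ⁻¹ᵁ U)) hab).trans (hgm b).symm)
  haveI : Algebra.IsAlgebraic Γ(X, U) Γ(Y, π ⁻¹ᵁ U) := Algebra.IsIntegral.isAlgebraic
  exact (IsFractionRing.finrank_eq Γ(X, U) X.functionField Γ(Y, π ⁻¹ᵁ U) Y.functionField).symm


/-- Let k be an algebraically closed field and let π : Y → X be a finite, surjective and unramified
k-morphism of smooth varieties over k (X and Y integral, separated and of finite type over k with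
all local rings regular) which sends the generic point of Y to the generic point of X, so that the
function field k(X) embeds in k(Y). Then for every closed point p of X the fibre π⁻¹(p) consists of
exactly deg π points, where deg π = [k(Y) : k(X)] is the degree of that field extension. -/
theorem result (k : Type u) [Field k] [IsAlgClosed k]
    (X Y : Scheme.{u}) [X.Over (Spec (CommRingCat.of k))] [Y.Over (Spec (CommRingCat.of k))]
    [IsIntegral X] [IsIntegral Y]
    [IsSeparated (X ↘ (Spec (CommRingCat.of k)))] [LocallyOfFiniteType (X ↘ (Spec (CommRingCat.of k)))]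
    [QuasiCompact (X ↘ (Spec (CommRingCat.of k)))]
    [IsSeparated (Y ↘ (Spec (CommRingCat.of k)))] [LocallyOfFiniteType (Y ↘ (Spec (CommRingCat.of k)))]
    [QuasiCompact (Y ↘ (Spec (CommRingCat.of k)))]
    (hregX : ∀ x : X, IsRegularLocalRing (X.presheaf.stalk x))
    (hregY : ∀ y : Y, IsRegularLocalRing (Y.presheaf.stalk y))
    (π : Y ⟶ X) (hπ : π ≫ (X ↘ (Spec (CommRingCat.of k))) = (Y ↘ (Spec (CommRingCat.of k))))
    [AlgebraicGeometry.IsFinite π] [AlgebraicGeometry.Surjective π] [AlgebraicGeometry.FormallyUnramified π]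
    (e : π.base (genericPoint Y) = genericPoint X) (p : X) (hp : IsClosed ({p} : Set X)) :
    Nat.card {q : Y // π.base q = p} =
      Models.homDegree (X.presheaf.stalkSpecializes (specializes_of_eq e) ≫ π.stalkMap (genericPoint Y)).hom := by
  haveI : IsLocallyNoetherian X := LocallyOfFiniteType.isLocallyNoetherian (X ↘ Spec (CommRingCat.of k))
  haveI : IsLocallyNoetherian Y := LocallyOfFiniteType.isLocallyNoetherian (Y ↘ Spec (CommRingCat.of k))
  haveI : Flat π := Groth.Agent.S10881.result π hregY hregX fun Z hZ => by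
    rw [irreducibleComponents_eq_singleton, Set.mem_singleton_iff] at hZ
    rw [hZ, Set.image_univ, π.surjective.range_eq, closure_univ, irreducibleComponents_eq_singleton]
    rfl
  haveI : LocallyOfFiniteType π := inferInstance
  haveI : LocallyOfFinitePresentation π := inferInstance
  exact (natCard_fibre (X ↘ Spec (CommRingCat.of k)) π p hp).trans (finrank_genericPoint π e p)

end Groth.Agent.S15003
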