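import Groth.Statements.S1501
import Groth.Agent.NormX.NilIdeal
import Groth.Agent.RGLib.Lim8RelAmple
import Groth.Agent.AmpleX.RelAffine
import Groth.Agent.MorLib.Thick.QuasiAffine

set_option autoImplicit false
attribute [-instance] CategoryTheory.catToReflQuiver
set_option backward.isDefEq.respectTransparency false
set_option backward.isDefEq.respectTransparency.types false
set_option linter.style.haveILetI false
universe u
open FlatMor

namespace Groth.Agent.S1501

open AlgebraicGeometry CategoryTheory Limits in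
/-- Let (f, f') : (X ⊂ X') → (S ⊂ S') be a morphism of thickenings (iX : X → X' and iS : S → S'
thickenings with f ≫ iS = iX ≫ f') and L' an invertible O_{X'}-module with pullback L to X. Then L'
is ample relative to f' if and only if L is ample relative to f. -/
theorem result {X X' S S' : Scheme.{u}} (iX : X ⟶ X') (iS : S ⟶ S') (f : X ⟶ S) (f' : X' ⟶ S')
    (hX : MoreMor.IsThickening iX) (hS : MoreMor.IsThickening iS) (w : iX ≫ f' = f ≫ iS)
    (L' : X'.Modules) (hL' : PicF.IsInvertible L') :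
    RelAmple.IsRelAmple f' L' ↔ RelAmple.IsRelAmple f ((Scheme.Modules.pullback iX).obj L') := by
  obtain ⟨hXc, hXs⟩ := hX
  obtain ⟨hSc, hSs⟩ := hS
  haveI := hXc
  haveI := hXs
  haveI := hSc
  haveI := hSs
  let L := (Scheme.Modules.pullback iX).obj L'
  -- the restrictions correspond
  have key : ∀ (W : X'.Opens) (W₀ : X.Opens) (_ : W₀ = iX ⁻¹ᵁ W),
      CohB1.IsAmple (L'.restrict W.ι) ↔ CohB1.IsAmple (L.restrict W₀.ι) := by
    rintro W _ rfl
    haveI : IsClosedImmersion (iX ∣_ W) := IsZariskiLocalAtTarget.restrict ‹IsClosedImmersion iX› _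
    haveI : Surjective (iX ∣_ W) := IsZariskiLocalAtTarget.restrict ‹Surjective iX› _
    let e : (Scheme.Modules.pullback (iX ∣_ W)).obj (L'.restrict W.ι) ≅ L.restrict (iX ⁻¹ᵁ W).ι :=
      (Scheme.Modules.pullback (iX ∣_ W)).mapIso ((Scheme.Modules.restrictFunctorIsoPullback W.ι).app L') ≪≫
        (Scheme.Modules.pullbackComp (iX ∣_ W) W.ι).app L' ≪≫
        (Scheme.Modules.pullbackCongr (morphismRestrict_ι iX W)).app L' ≪≫
        ((Scheme.Modules.pullbackComp (iX ⁻¹ᵁ W).ι iX).app L').symm ≪≫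
        ((Scheme.Modules.restrictFunctorIsoPullback (iX ⁻¹ᵁ W).ι).app L).symm
    have hinv : PicF.IsInvertible (L'.restrict W.ι) :=
      Groth.Agent.H23.PicMul.isInvertible_of_iso ((Scheme.Modules.restrictFunctorIsoPullback W.ι).app L').symm
        (Groth.Agent.PicClLib.isInvertible_pullback W.ι hL')
    exact ⟨fun h => Groth.Agent.AmpleX.isAmple_of_iso e (Groth.Agent.RGLib.Lim8.isAmple_pullback_affine (iX ∣_ W) h),
      fun h => Groth.Agent.NormX.isAmple_of_thickening (iX ∣_ W) hinv (Groth.Agent.AmpleX.isAmple_of_iso e.symm h)⟩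
  have hpre : ∀ V : S'.Opens, f ⁻¹ᵁ (iS ⁻¹ᵁ V) = iX ⁻¹ᵁ (f' ⁻¹ᵁ V) := fun V => by
    rw [← Scheme.Hom.comp_preimage, ← w, Scheme.Hom.comp_preimage]
  constructor
  · rintro ⟨hq, h⟩
    haveI := hq
    haveI : QuasiCompact (f ≫ iS) := w ▸ inferInstance
    refine ⟨QuasiCompact.of_comp f iS, fun V => ?_⟩
    obtain ⟨O, hO, hOV⟩ := iS.isClosedEmbedding.isInducing.isOpen_iff.1 V.1.2
    have hV : iS ⁻¹ᵁ ⟨O, hO⟩ = V.1 := TopologicalSpace.Opens.ext hOV
    have hO' : IsAffineOpen (⟨O, hO⟩ : S'.Opens) :=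
      Groth.Agent.MorLib.Thick.isAffineOpen_of_preimage iS iS.surjective (hV.symm ▸ V.2)
    exact (key _ _ (by rw [← hV]; exact hpre _)).1 (h ⟨_, hO'⟩)
  · rintro ⟨hq, h⟩
    haveI := hq
    refine ⟨⟨fun U hUo hUc => ?_⟩, fun V => (key _ _ (hpre V.1)).2 (h ⟨_, V.2.preimage iS⟩)⟩
    have h1 : IsCompact ((iX ≫ f') ⁻¹' U) := by
      rw [w]
      exact QuasiCompact.isCompact_preimage (f := f ≫ iS) U hUo hUc
    have h2 := h1.image iX.continuous
    rwa [show (iX ≫ f') ⁻¹' U = iX ⁻¹' (f' ⁻¹' U) from rfl, Set.image_preimage_eq _ iX.surjective] at h2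

end Groth.Agent.S1501
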