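import Groth.Statements.S7688
import Groth.Agent.Boundary.Birational
import Groth.Agent.DimOne.Completion
import Groth.Agent.InvUfdLib.Semilocal

set_option autoImplicit false
universe u
open CategoryTheory CategoryTheory.Limits AlgebraicGeometry
open Variety

namespace Groth.Agent.S7688

/-- Let f : X → Y be finite with Y Noetherian of dimension at most one, and suppose that over some dense
open V ⊆ Y the restriction f⁻¹(V) → V is a closed immersion. Then each invertible O_X-module arises,
up to isomorphism, by pulling back an invertible O_Y-module along f. -/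
theorem result {X Y : Scheme.{u}} (f : X ⟶ Y)
    [IsFinite f] [IsNoetherian Y] (hdim : topologicalKrullDim Y ≤ 1)
    (V : Y.Opens) (hV : Dense (V : Set Y)) (hfV : IsClosedImmersion (f ∣_ V))
    (L : X.Modules) (hL : PicF.IsInvertible L) :
    ∃ N : Y.Modules, PicF.IsInvertible N ∧ Nonempty ((Scheme.Modules.pullback f).obj N ≅ L) := by
  refine Groth.Agent.Boundary.exists_pullback_iso hdim f
    (fun c hc => Groth.Agent.DimOne.mem_range_of_isGen V.2 hV hc) hfV fun y => ?_
  obtain ⟨V₀, hV₀, hy, -⟩ := exists_isAffineOpen_mem_and_subset (U := (⊤ : Y.Opens)) (x := y) trivial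
  have hd : ∀ x ∈ f ⁻¹' {y}, ∀ x' ∈ f ⁻¹' {y}, x ⤳ x' → x = x' := by
    intro x hx x' hx' h
    have := (f.isDiscrete_preimage_singleton y).1
    have h' : (⟨x, hx⟩ : f ⁻¹' {y}) ⤳ ⟨x', hx'⟩ := (subtype_specializes_iff _ _).2 h
    exact congrArg Subtype.val h'.eq
  obtain ⟨O, s, hFO, hs⟩ := Groth.Agent.InvUfdLib.exists_frame_finset hL (hV₀.preimage f) (f ⁻¹' {y})
    (f.finite_preimage_singleton y) (fun x (hx : f x = y) => show f x ∈ V₀ from hx ▸ hy) hd
  let W : Y.Opens := ⟨(f '' ((O : Set X)ᶜ))ᶜ, (f.isClosedMap _ O.isOpen.isClosed_compl).isOpen_compl⟩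
  have hle : f ⁻¹ᵁ W ≤ O := fun x hx => not_not.1 fun h => hx ⟨x, h, rfl⟩
  exact ⟨W, fun ⟨x, hx, hxy⟩ => hx (hFO hxy), Groth.Agent.AModX.res L hle s, hs.res hle⟩

end Groth.Agent.S7688
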