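import Groth.Statements.S15027
import Groth.Agent.CurvFree7.Main

set_option autoImplicit false
set_option backward.isDefEq.respectTransparency false
set_option backward.isDefEq.respectTransparency.types false
set_option linter.style.haveILetI false
set_option maxHeartbeats 1000000
universe u
open CategoryTheory CategoryTheory.Limits AlgebraicGeometry
open TFCurv

namespace Groth.Agent.S15027

/-- Let X be an integral proper curve (integral, proper, of dimension one) over an algebraically closed
field k, and let F be a coherent torsion-free O_X-module of rank n (its stalk at the generic point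
has dimension n over the function field). Then there are finite locally free modules E, E' of rank
n, a monomorphism E → F and a monomorphism F → E', whose cokernels have zero stalk at every point of
X with regular local ring (they are torsion modules supported at the singular points). (The
published statement identifies the two cokernels with sums of the local torsion modules of minimal
length attached to the stalks at the singular points; this row asserts only that the cokernels are
supported at the singular points.) -/
theorem result (k : Type u) [Field k] [IsAlgClosed k] (X : Scheme.{u}) [X.Over (Spec (CommRingCat.of k))] [IsIntegral X] [IsProper (X ↘ Spec (CommRingCat.of k))] (hdim : topologicalKrullDim X = 1) (F : X.Modules) (hFc : Coh.IsCoh F) (hFt : TorSh.IsTorsionFree F) (n : ℕ) (hn : Module.finrank (X.presheaf.stalk (genericPoint X)) (F.presheaf.stalk (genericPoint X)) = n) : (∃ (E : X.Modules) (i : E ⟶ F), FlatMod.IsFinLocFreeOfRank n E ∧ Mono i ∧ ∀ x : X, IsRegularLocalRing (X.presheaf.stalk x) → Subsingleton ((cokernel i).presheaf.stalk x)) ∧ (∃ (E' : X.Modules) (j : F ⟶ E'), FlatMod.IsFinLocFreeOfRank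 n E' ∧ Mono j ∧ ∀ x : X, IsRegularLocalRing (X.presheaf.stalk x) → Subsingleton ((cokernel j).presheaf.stalk x)) := by
  classical
  haveI := Groth.Agent.CurveCohLib.isNoetherian_of_proper (k := k) (X := X)
  obtain ⟨U, hgU, hUreg⟩ := Groth.Agent.NefCurve.exists_regular_open k (X := X) hdim
  have hbad : {x : X | ¬ IsRegularLocalRing (X.presheaf.stalk x) ∧ IsClosed ({x} : Set X)}.Finite :=
    (Groth.Agent.DimOne.finite_of_forall_not_isGen hdim.le U.2.isClosed_compl
      fun x hx hg => hx (by rw [← hg (genericPoint X) (genericPoint_specializes x)]; exact hgU)).subset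
      fun x hx hxU => hx.1 (hUreg x hxU hx.2)
  have hd : ∀ x : X, ringKrullDim (X.presheaf.stalk x) ≤ 1 := fun x =>
    (Groth.Agent.CurveCohLib.ringKrullDim_stalk_le_topologicalKrullDim x).trans hdim.le
  have hreg : ∀ x ∉ hbad.toFinset, IsRegularLocalRing (X.presheaf.stalk x) := fun x hx => by
    by_contra h
    refine hx ((Set.Finite.mem_toFinset hbad).2 ⟨h, ?_⟩)
    by_contra hc
    obtain rfl := Groth.Agent.CurveCohLib.eq_genericPoint_of_not_isClosed hdim hc
    letI := (Groth.Agent.CurveBundle.isField_stalk_generic (X := X)).toField
    exact h inferInstance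
  have hη : genericPoint X ∉ hbad.toFinset := fun h => by
    letI := (Groth.Agent.CurveBundle.isField_stalk_generic (X := X)).toField
    exact ((Set.Finite.mem_toFinset hbad).1 h).1 inferInstance
  obtain ⟨⟨E, i, hE, hi, hsi⟩, ⟨E', j, hE', hj, hsj⟩⟩ := Groth.Agent.CurvFree7.exists_sub_super hFc hFt n hn
    hbad.toFinset (fun x hx => ((Set.Finite.mem_toFinset hbad).1 hx).2) (fun x _ => hd x) hη
    (fun x hx => by
      haveI := hreg x hx
      exact Groth.Agent.DimFormula.isPrincipalIdealRing_of_regular_dim_le_one (hd x))
  have key : ∀ {A B : X.Modules} (f : A ⟶ B) (x : X),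
      Function.Surjective (RefHull.stalkMapₗ f x) → Subsingleton ((cokernel f).presheaf.stalk x) := fun f x hf =>
    (Groth.Agent.CycK.cokerEquiv f x).symm.subsingleton_congr.2 (Submodule.Quotient.subsingleton_iff.2
      (LinearMap.range_eq_top.2 hf))
  exact ⟨⟨E, i, hE, hi, fun x hx => key i x (hsi x fun h => ((Set.Finite.mem_toFinset hbad).1 h).1 hx)⟩,
    ⟨E', j, hE', hj, fun x hx => key j x (hsj x fun h => ((Set.Finite.mem_toFinset hbad).1 h).1 hx)⟩⟩

end Groth.Agent.S15027
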