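import Groth.Statements.S15039
import Groth.Agent.NormPush7.Normal

set_option autoImplicit false
set_option backward.isDefEq.respectTransparency false
set_option backward.isDefEq.respectTransparency.types false
set_option linter.style.haveILetI false
set_option maxHeartbeats 1000000
universe u
open CategoryTheory CategoryTheory.Limits AlgebraicGeometry
open TFCurv

namespace Groth.Agent.S15039

/-- Let X be an integral proper curve (integral, proper, of dimension one) over an algebraically closed
field k, with normalisation ν : X~ → X, and write Õ_x for the integral closure of the local ring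
O_{X,x} in the function field of X. Then ν_* induces a bijection from isomorphism classes of locally
free modules of rank n on X~ to isomorphism classes of coherent O_X-modules all of whose stalks F_x
are isomorphic to Õ_x^n as O_{X,x}-modules: every such module is isomorphic to ν_*E for some locally
free E of rank n on X~, and two locally free modules of rank n on X~ with isomorphic direct images
are isomorphic. -/
theorem result (k : Type u) [Field k] [IsAlgClosed k] (X : Scheme.{u}) [X.Over (Spec (CommRingCat.of k))] [IsIntegral X] [IsProper (X ↘ Spec (CommRingCat.of k))] (hdim : topologicalKrullDim X = 1) [QuasiCompact (X.fromSpecStalk (genericPoint X))] [QuasiSeparated (X.fromSpecStalk (genericPoint X))] (n : ℕ) : (∀ F : X.Modules, Coh.IsCoh F → (∀ x : X, Nonempty (↑(F.presheaf.stalk x) ≃ₗ[↑(X.presheaf.stalk x)] (Fin n → ↥(integralClosure ↑(X.presheaf.stalk x) X.functionField)))) → ∃ E : (Curv2.normalization X).Modules, FlatMod.IsFinLocFreeOfRank n E ∧ Nonempty ((Coh.push (Curv2.normalizationι X)).obj E ≅ F)) ∧ (∀ E E' : (Curv2.normalization X).Modules, FlatMod.IsFinLocFreeOfRank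 n E → FlatMod.IsFinLocFreeOfRank n E' → Nonempty ((Coh.push (Curv2.normalizationι X)).obj E ≅ (Coh.push (Curv2.normalizationι X)).obj E') → Nonempty (E ≅ E')) := by
  haveI : IsLocallyNoetherian X := LocallyOfFiniteType.isLocallyNoetherian (X ↘ Spec (CommRingCat.of k))
  have hN : ∀ U : X.affineOpens, CAlg.IsNagata Γ(X, (U : X.Opens)) :=
    fun U => Groth.Agent.NagataLib.isNagata_affineOpen (X ↘ Spec (CommRingCat.of k)) U
  haveI := Groth.Agent.NormCurve.isFinite_normalizationι X hN
  haveI : IsIntegral (Curv2.normalization X) :=
    inferInstanceAs (IsIntegral (X.fromSpecStalk (genericPoint X)).normalization)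
  haveI := Groth.Agent.NormCurve.isLocallyNoetherian_normalization X hdim.le
  obtain ⟨U, hU, hUiso⟩ := Groth.Agent.NormCurve.exists_isIso X hN
  haveI := hUiso
  have hgen : Curv2.normalizationι X (genericPoint (Curv2.normalization X)) = genericPoint X := by
    obtain ⟨w, hw⟩ := Groth.Agent.NormCurve.genericPoint_mem_range X
    exact (((genericPoint_specializes w).map (Curv2.normalizationι X).continuous).trans (hw ▸ specializes_rfl)).antisymm
      (genericPoint_specializes _) |>.eq
  have hηU : genericPoint X ∈ U := ((genericPoint_spec X).mem_open_set_iff U.2).2 (by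
    rw [Set.univ_inter]; exact hU.nonempty)
  have hU' : Dense ((Curv2.normalizationι X ⁻¹ᵁ U : (Curv2.normalization X).Opens) : Set (Curv2.normalization X)) :=
    (Curv2.normalizationι X ⁻¹ᵁ U).2.dense ⟨genericPoint _, show _ ∈ U by rw [hgen]; exact hηU⟩
  refine ⟨fun F hF he => Groth.Agent.NormPush7.exists_model _ hU hU'
    (Groth.Agent.NormPush7.isPrincipalIdealRing_stalk_normalization X hdim.le) hgen hF n he,
    fun E E' hE hE' ⟨e⟩ => ?_⟩
  exact Groth.Agent.NormPush7.nonempty_iso (Curv2.normalizationι X) hU hU'
    (Groth.Agent.QCoh.isQCoh_of_isFinLocFree fun y => let ⟨W, hy, h⟩ := hE y; ⟨W, n, hy, h⟩)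
    (Groth.Agent.QCoh.isQCoh_of_isFinLocFree fun y => let ⟨W, hy, h⟩ := hE' y; ⟨W, n, hy, h⟩)
    (Groth.Agent.NormPush7.isTorsionFree_of_finLocFree hE) (Groth.Agent.NormPush7.isTorsionFree_of_finLocFree hE') e

end Groth.Agent.S15039
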