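import Groth.Statements.S15056
import Mathlib

set_option autoImplicit false
universe u
open scoped TensorProduct
open FrobAlg

namespace Groth.Agent.S15056

/-- Let p be a prime number, R a Noetherian ring of characteristic p and A a finitely generated
commutative Hopf algebra over R (an affine algebraic R-group G = Spec A). The n-fold relative
Frobenius of G is the trivial homomorphism exactly when a^(p^n) = 0 for every a in the augmentation
ideal; G has finite Frobenius height when this holds for some n. Then G has finite Frobenius height
if and only if A is a finite R-module and, for every algebraically closed field K and every ring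
homomorphism R → K, the base change K ⊗_R A is a local ring (G is finite over R with connected
geometric fibres). -/
theorem result (p : ℕ) [Fact p.Prime] (R : Type u) [CommRing R] [CharP R p]
    [IsNoetherianRing R] (A : Type u) [CommRing A] [HopfAlgebra R A] [Algebra.FiniteType R A] :
    (∃ n : ℕ, ∀ a : A, Bialgebra.counitAlgHom R A a = 0 → a ^ p ^ n = 0) ↔
      (Module.Finite R A ∧ ∀ (K : Type u) [Field K] [IsAlgClosed K] [Algebra R K], IsLocalRing (K ⊗[R] A)) := by
  classical
  constructor
  · rintro ⟨n, hn⟩
    have hnil : ∀ a : A, a - algebraMap R A (Bialgebra.counitAlgHom R A a) ∈ nilradical A := fun a =>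
      ⟨p ^ n, hn _ (by rw [map_sub, AlgHom.commutes]; exact sub_self _)⟩
    haveI : Algebra.IsIntegral R A := ⟨fun a => by
      have h1 : IsIntegral R (a - algebraMap R A (Bialgebra.counitAlgHom R A a)) := by
        obtain ⟨m, hm⟩ := mem_nilradical.1 (hnil a)
        exact ⟨Polynomial.X ^ (m + 1), Polynomial.monic_X_pow _, by rw [← Polynomial.aeval_def, map_pow, Polynomial.aeval_X, pow_succ, hm, zero_mul]⟩
      simpa using h1.add (isIntegral_algebraMap (x := Bialgebra.counitAlgHom R A a))⟩
    refine ⟨Algebra.IsIntegral.finite, fun K _ _ _ => ?_⟩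
    let ε : K ⊗[R] A →ₐ[K] K := Algebra.TensorProduct.lift (AlgHom.id K K)
      ((Algebra.ofId R K).comp (Bialgebra.counitAlgHom R A)) fun _ _ => Commute.all _ _
    have hz : ∀ z : K ⊗[R] A, z - algebraMap K _ (ε z) ∈ nilradical (K ⊗[R] A) := by
      intro z
      induction z with
      | zero => simp
      | tmul c a =>
        have h1 : IsNilpotent ((1 : K) ⊗ₜ[R] (a - algebraMap R A (Bialgebra.counitAlgHom R A a))) :=
          IsNilpotent.map (hnil a) (Algebra.TensorProduct.includeRight : A →ₐ[R] K ⊗[R] A)
        have e : c ⊗ₜ[R] a - algebraMap K _ (ε (c ⊗ₜ[R] a)) =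
            (c ⊗ₜ[R] (1 : A)) * ((1 : K) ⊗ₜ[R] (a - algebraMap R A (Bialgebra.counitAlgHom R A a))) := by
          have h2 : ε (c ⊗ₜ[R] a) = Bialgebra.counitAlgHom R A a • c := by
            simp [ε, Algebra.ofId_apply, Algebra.smul_def, mul_comm]
          rw [h2, Algebra.TensorProduct.algebraMap_apply, Algebra.TensorProduct.tmul_mul_tmul, mul_one, one_mul,
            TensorProduct.tmul_sub, Algebra.algebraMap_self, RingHom.id_apply, TensorProduct.smul_tmul,
            ← Algebra.algebraMap_eq_smul_one]
        rw [e]
        exact (nilradical (K ⊗[R] A)).mul_mem_left _ h1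
      | add z w hz hw =>
        rw [map_add, map_add, add_sub_add_comm]
        exact add_mem hz hw
    haveI : Nontrivial (K ⊗[R] A) := ε.toRingHom.domain_nontrivial
    refine IsLocalRing.of_isUnit_or_isUnit_of_isUnit_add fun {x y} hxy => ?_
    have hu : ∀ z, ε z ≠ 0 → IsUnit z := fun z h0 => by
      obtain ⟨m, hm⟩ := hz z
      have := IsNilpotent.isUnit_add_right_of_commute (r := z - algebraMap K _ (ε z)) ⟨m, hm⟩
        ((Ne.isUnit h0).map (algebraMap K (K ⊗[R] A))) (Commute.all _ _)
      simpa using this
    by_cases hx : ε x = 0
    · refine Or.inr (hu y fun hy => ?_)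
      exact (hxy.map ε).ne_zero (by rw [map_add, hx, hy, add_zero])
    · exact Or.inl (hu x hx)
  · rintro ⟨hfin, hloc⟩
    haveI : IsNoetherianRing A := Algebra.FiniteType.isNoetherianRing R A
    have hle : RingHom.ker (Bialgebra.counitAlgHom R A).toRingHom ≤ nilradical A := by
      intro a ha
      rw [mem_nilradical, nilpotent_iff_mem_prime]
      intro P hP
      let p' := P.comap (algebraMap R A)
      let K := AlgebraicClosure p'.ResidueField
      haveI := hloc K
      let ε : K ⊗[R] A →ₐ[K] K := Algebra.TensorProduct.lift (AlgHom.id K K)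
        ((Algebra.ofId R K).comp (Bialgebra.counitAlgHom R A)) fun _ _ => Commute.all _ _
      haveI : Module.Finite K (K ⊗[R] A) := inferInstance
      haveI : IsArtinianRing (K ⊗[R] A) := IsArtinianRing.of_finite K _
      have h1 : IsNilpotent ((1 : K) ⊗ₜ[R] a) := by
        have hmem : (1 : K) ⊗ₜ[R] a ∈ IsLocalRing.maximalIdeal (K ⊗[R] A) := by
          rw [IsLocalRing.mem_maximalIdeal, mem_nonunits_iff]
          intro hu
          refine (hu.map ε).ne_zero ?_
          simp [ε, show Bialgebra.counitAlgHom R A a = 0 from ha]
        obtain ⟨m, hm⟩ := IsArtinianRing.isNilpotent_jacobson_bot (R := K ⊗[R] A)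
        refine ⟨m, ?_⟩
        have := Ideal.pow_mem_pow (IsLocalRing.maximalIdeal_le_jacobson ⊥ hmem) m
        rw [hm] at this
        simpa using this
      let q : PrimeSpectrum A := ⟨P, hP⟩
      let kP := P.ResidueField
      letI : Algebra p'.ResidueField kP := (Ideal.ResidueField.mapₐ p' P (Algebra.ofId R A) rfl).toRingHom.toAlgebra
      let L := AlgebraicClosure kP
      letI : Algebra p'.ResidueField L := ((algebraMap kP L).comp (algebraMap p'.ResidueField kP)).toAlgebra
      letI : Algebra R L := ((algebraMap kP L).comp (algebraMap R kP)).toAlgebra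
      let j : K →ₐ[p'.ResidueField] L := IsAlgClosed.lift
      let jR : K →ₐ[R] L :=
        { j.toRingHom with
          commutes' := fun r => by
            show j (algebraMap R K r) = algebraMap R L r
            rw [IsScalarTower.algebraMap_apply R p'.ResidueField K, j.commutes]
            show algebraMap kP L ((Ideal.ResidueField.mapₐ p' P (Algebra.ofId R A) rfl) (algebraMap R p'.ResidueField r)) = _
            rw [AlgHom.commutes]
            rfl }
      let aR : A →ₐ[R] L :=
        { (algebraMap kP L).comp (algebraMap A kP) with
          commutes' := fun r => by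
            show algebraMap kP L (algebraMap A kP (algebraMap R A r)) = _
            rw [← IsScalarTower.algebraMap_apply]
            rfl }
      have h2 := h1.map (Algebra.TensorProduct.lift jR aR fun _ _ => Commute.all _ _)
      rw [Algebra.TensorProduct.lift_tmul, map_one, one_mul] at h2
      have h3 : algebraMap A kP a = 0 := (algebraMap kP L).injective (by rw [map_zero]; exact h2.eq_zero)
      exact Ideal.algebraMap_residueField_eq_zero.1 h3
    obtain ⟨N, hN⟩ := IsNoetherianRing.isNilpotent_nilradical A
    refine ⟨N, fun a ha => ?_⟩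
    have h1 : a ^ N = 0 := by
      have := Ideal.pow_mem_pow (hle (show a ∈ RingHom.ker (Bialgebra.counitAlgHom R A).toRingHom from ha)) N
      rwa [hN, Ideal.zero_eq_bot, Ideal.mem_bot] at this
    exact pow_eq_zero_of_le (Nat.lt_pow_self (Fact.out : p.Prime).one_lt).le h1

end Groth.Agent.S15056
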