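import Groth.Statements.S15085
import Groth.Agent.LargeFieldLib.Algebra
-- import your own Groth.Agent.* helpers here

set_option autoImplicit false
set_option backward.isDefEq.respectTransparency false
set_option backward.isDefEq.respectTransparency.types false
set_option linter.style.haveILetI false
set_option maxHeartbeats 1000000
universe u
open CategoryTheory CategoryTheory.Limits AlgebraicGeometry
open MovLem

namespace Groth.Agent.S15085
open Groth.Agent

/-- Let k be a field, X an affine scheme of finite type over k which is equidimensional (all irreducible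
components have the same dimension), B̂ a proper smooth geometrically integral k-scheme and B ⊆ B̂ a
nonempty affine open subscheme. Let Z be an integral closed subscheme of X ×_k B of dimension dim X
(that is, of codimension dim B, the product X ×_k B being equidimensional of dimension dim X + dim
B). Then the projection Z → X is finite and maps Z onto an irreducible component of X if and only if
Z is closed in X ×_k B̂. (The published statement allows X to be essentially of finite type, i.e.
also a localization of such a scheme at finitely many points, takes B̂ projective of positive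
dimension, and phrases the dimension condition as codimension dim B; this row is the finite-type
case with properness in place of projectivity.) -/
theorem result
    {k : Type u} [Field k] {X Bhat Z : Scheme.{u}}
    (sX : X ⟶ Spec (CommRingCat.of k)) (sB : Bhat ⟶ Spec (CommRingCat.of k))
    [IsAffine X] [LocallyOfFiniteType sX]
    (hXeq : ∀ T ∈ irreducibleComponents (X : Type u), topologicalKrullDim T = topologicalKrullDim X)
    [IsProper sB] [Smooth sB] [GeometricallyIntegral sB]
    (B : Bhat.Opens) (hB : IsAffineOpen B) (hBne : (B : Set Bhat).Nonempty)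
    [IsIntegral Z] (ι : Z ⟶ ((pullback.snd sX sB) ⁻¹ᵁ B).toScheme) [IsClosedImmersion ι]
    (hZ : topologicalKrullDim Z = topologicalKrullDim X)
    (j : Z ⟶ pullback sX sB) (hj : j = ι ≫ ((pullback.snd sX sB) ⁻¹ᵁ B).ι) :
    (IsFinite (j ≫ pullback.fst sX sB) ∧
        Set.range (j ≫ pullback.fst sX sB).base ∈ irreducibleComponents (X : Type u)) ↔
      IsClosed (Set.range j.base) := by
  let W : (pullback sX sB).Opens := (pullback.snd sX sB) ⁻¹ᵁ B
  haveI : IsAffineHom sX := isAffineHom_of_isAffine sX
  haveI : IsAffineHom (pullback.snd sX sB) := MorphismProperty.pullback_snd _ _ ‹_›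
  have hWaff : IsAffineOpen W := hB.preimage (pullback.snd sX sB)
  haveI : IsAffine W.toScheme := hWaff
  haveI : IsAffine Z := isAffine_of_isAffineHom ι
  let π := j ≫ pullback.fst sX sB
  haveI : LocallyOfFiniteType j := by subst hj; infer_instance
  haveI : LocallyOfFiniteType π := inferInstance
  have hclosed : IsFinite π → IsClosed (Set.range j.base) := fun h => by
    haveI := h
    haveI : IsProper (j ≫ pullback.fst sX sB) := (IsFinite.iff_isProper_and_isAffineHom.mp h).1
    haveI : IsProper j := IsProper.of_comp j (pullback.fst sX sB)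
    exact j.isClosedMap.isClosed_range
  constructor
  · exact fun h => hclosed h.1
  intro hc
  haveI : IsClosedImmersion j := by
    subst hj
    exact IsClosedImmersion.of_isPreimmersion _ hc
  haveI : IsProper π := inferInstance
  haveI : IsAffineHom π := inferInstance
  haveI hfin : IsFinite π := IsFinite.iff_isProper_and_isAffineHom.mpr ⟨inferInstance, inferInstance⟩
  refine ⟨hfin, ?_⟩
  let g : TopologicalSpace.IrreducibleCloseds Z → TopologicalSpace.IrreducibleCloseds X := fun C =>
    ⟨π '' (C : Set Z), C.isIrreducible.image _ π.continuous.continuousOn, π.isClosedMap _ C.isClosed⟩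
  have hg : StrictMono g := by
    intro C D hCD
    refine lt_of_le_of_ne (Set.image_mono (f := π) hCD.le) fun h => ?_
    obtain ⟨a, ha⟩ := QuasiSober.sober C.isIrreducible C.isClosed
    obtain ⟨b, hb⟩ := QuasiSober.sober D.isIrreducible D.isClosed
    have hab : b ⤳ a := hb.specializes (hCD.le ha.mem)
    obtain ⟨c, hc, hce⟩ : π b ∈ π '' (C : Set Z) :=
      (congrArg (fun Z : TopologicalSpace.IrreducibleCloseds X => (Z : Set X)) h).ge ⟨b, hb.mem, rfl⟩
    have h1 : π a ⤳ π b := hce ▸ (ha.specializes hc).map π.continuous
    have he : π a = π b := (h1.antisymm (hab.map π.continuous)).eq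
    exact hCD.ne (TopologicalSpace.IrreducibleCloseds.ext (by
      have e : b = a := by
        have hd : _root_.IsDiscrete (π ⁻¹' {π a}) := π.isDiscrete_preimage_singleton _
        haveI := hd.to_subtype
        have h' : (⟨b, he.symm⟩ : (π ⁻¹' {π a} : Set Z)) ⤳ ⟨a, rfl⟩ := (subtype_specializes_iff _ _).2 hab
        exact congrArg Subtype.val h'.eq
      rw [← ha.def, ← hb.def, e]))
  let top : TopologicalSpace.IrreducibleCloseds Z := ⟨Set.univ, IrreducibleSpace.isIrreducible_univ Z, isClosed_univ⟩
  have hdimZ : topologicalKrullDim Z ≤ (Order.height top : WithBot ℕ∞) := by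
    show Order.krullDim (TopologicalSpace.IrreducibleCloseds Z) ≤ _
    rw [Order.krullDim_eq_iSup_height]
    exact iSup_le fun C => WithBot.coe_le_coe.mpr (Order.height_mono (show C ≤ top from Set.subset_univ _))
  have hXfin : topologicalKrullDim X ≠ ⊤ := by
    haveI : LocallyOfFiniteType (X.isoSpec.inv ≫ sX) := inferInstance
    obtain ⟨ρ, hρ⟩ : ∃ ρ, Spec.map ρ = X.isoSpec.inv ≫ sX := ⟨Spec.preimage _, Spec.map_preimage _⟩
    have hft : ρ.hom.FiniteType := (HasRingHomProperty.Spec_iff (P := @LocallyOfFiniteType)).mp (hρ ▸ inferInstance)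
    letI : Algebra k Γ(X, ⊤) := ρ.hom.toAlgebra
    haveI : Algebra.FiniteType k Γ(X, ⊤) := hft
    obtain ⟨n, φ, hφ⟩ := Algebra.FiniteType.iff_quotient_mvPolynomial''.mp (inferInstance : Algebra.FiniteType k Γ(X, ⊤))
    rw [IsHomeomorph.topologicalKrullDim_eq X.isoSpec.hom X.isoSpec.hom.homeomorph.isHomeomorph]
    show topologicalKrullDim (PrimeSpectrum Γ(X, ⊤)) ≠ ⊤
    rw [PrimeSpectrum.topologicalKrullDim_eq_ringKrullDim Γ(X, ⊤)]
    refine ne_top_of_le_ne_top ?_ (ringKrullDim_le_of_surjective φ.toRingHom hφ)
    rw [MvPolynomial.ringKrullDim_of_isNoetherianRing, ringKrullDim_eq_zero_of_field]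
    simp only [Nat.card_fin, zero_add, ne_eq]
    exact fun h => ENat.natCast_ne_top n (WithBot.coe_injective h)
  obtain ⟨T, hT, hsub⟩ := exists_mem_irreducibleComponents_subset_of_isIrreducible _ (g top).isIrreducible
  have hrange : Set.range π.base = (g top : Set X) := (Set.image_univ).symm
  show Set.range π.base ∈ _
  rw [hrange]
  by_contra hne
  have hlt : g top < ⟨T, hT.1, isClosed_of_mem_irreducibleComponents T hT⟩ :=
    lt_of_le_of_ne hsub fun h => hne (by rw [h]; exact hT)
  have h1 : Order.height top + 1 ≤ Order.height (⟨T, hT.1, isClosed_of_mem_irreducibleComponents T hT⟩ : TopologicalSpace.IrreducibleCloseds X) :=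
    (add_le_add_left (Order.height_le_height_apply_of_strictMono g hg top) 1).trans (Order.height_add_one_le hlt)
  have h2 : ((Order.height top + 1 : ℕ∞) : WithBot ℕ∞) ≤ topologicalKrullDim X :=
    (WithBot.coe_le_coe.mpr h1).trans (Order.height_le_krullDim _)
  rw [← hZ] at h2 hXfin
  have h3 := h2.trans hdimZ
  rw [WithBot.coe_le_coe] at h3
  have h4 : Order.height top ≠ ⊤ := by
    intro htop
    apply hXfin
    refine top_le_iff.mp ((le_trans ?_ h2))
    simp [htop]
  exact absurd h3 (not_le.mpr (ENat.lt_add_one_iff h4 |>.mpr le_rfl))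

end Groth.Agent.S15085
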