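import Groth.Statements.S15087
import Groth.Agent.MovLemLib.Translate
-- import your own Groth.Agent.* helpers here

set_option autoImplicit false
set_option backward.isDefEq.respectTransparency false
set_option backward.isDefEq.respectTransparency.types false
set_option linter.style.haveILetI false
set_option maxHeartbeats 1000000
universe u v w
open MovLem

namespace Groth.Agent.S15087
open Groth.Agent

/-- Let k be an infinite perfect field, r, m, s ≥ 1 and d ≥ 0, and put N = s(m+1). In affine space with
coordinates x_1, …, x_r, t, y_1, …, y_d (the cube of dimension d taken as affine d-space with faces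
given by setting some coordinates equal to 0 or 1), let Z = V(I) be an integral closed subscheme of
dimension r which does not meet the hyperplane t = 0 and which meets every face {y_i = ε_i for i ∈
S} (S nonempty, ε_i ∈ {0, 1}) in dimension at most r − |S|. Let Σ be a finite set of closed points
of affine r-space over k. Then there is a nonzero polynomial h in k[g_1, …, g_r] such that for every
field K over k and every g ∈ K^r with h(g) ≠ 0, the translate of Z_K by x ↦ x + t^N g meets no set
{x ∈ Σ} × A^1 × F with F a proper face: for every field L over K, every point ξ of affine r-space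
over L lying on a point of Σ, every t ∈ L and every y ∈ L^d lying on a proper face, the point (ξ +
t^N g, t, y) is not a zero of I. (The published statement assumes that Z is an irreducible
admissible additive cycle meeting the faces through Σ properly; the two consequences of
admissibility that its proof uses — Z misses t = 0, and Z meets all faces properly — are the
hypotheses here, and the dense open subset of affine r-space is given as the locus h ≠ 0.) -/
theorem result
    {k : Type u} [Field k] [Infinite k] [PerfectField k] (r m s d : ℕ) (hr : 1 ≤ r) (hm : 1 ≤ m) (hs : 1 ≤ s)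
    (I : Ideal (MvPolynomial (Fin r ⊕ (Unit ⊕ Fin d)) k)) (hI : I.IsPrime)
    (hdim : ringKrullDim (MvPolynomial (Fin r ⊕ (Unit ⊕ Fin d)) k ⧸ I) = r)
    (ht0 : I ⊔ Ideal.span {MvPolynomial.X (Sum.inr (Sum.inl ()))} = ⊤)
    (hface : ∀ (S : Finset (Fin d)), S.Nonempty → ∀ (ε : Fin d → k), (∀ i, ε i = 0 ∨ ε i = 1) →
      ringKrullDim (MvPolynomial (Fin r ⊕ (Unit ⊕ Fin d)) k ⧸
        (I ⊔ Ideal.span ((fun i => MvPolynomial.X (Sum.inr (Sum.inr i)) - MvPolynomial.C (ε i)) '' (S : Set (Fin d))))) ≤ (r - S.card : ℕ))
    (Sigma : Finset (Ideal (MvPolynomial (Fin r) k))) (hSigma : ∀ P ∈ Sigma, P.IsMaximal) :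
    ∃ h : MvPolynomial (Fin r) k, h ≠ 0 ∧
      ∀ (K : Type v) [Field K] [Algebra k K] (g : Fin r → K), MvPolynomial.aeval g h ≠ 0 →
        ∀ (L : Type w) [Field L] [Algebra k L] [Algebra K L] [IsScalarTower k K L]
          (ξ : Fin r → L) (t : L) (y : Fin d → L),
          ∀ P ∈ Sigma, (∀ p ∈ P, MvPolynomial.aeval ξ p = 0) →
            ∀ (S : Finset (Fin d)), S.Nonempty → ∀ (ε : Fin d → k), (∀ i, ε i = 0 ∨ ε i = 1) →
              (∀ i ∈ S, y i = algebraMap k L (ε i)) →
                ¬ (∀ q ∈ I, MvPolynomial.aeval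
                    (Sum.elim (fun i => ξ i + t ^ (s * (m + 1)) * algebraMap K L (g i))
                      (Sum.elim (fun _ : Unit => t) y)) q = 0) := by
  classical
  let ε' : (Fin d → Bool) → Fin d → k := fun E i => if E i then 1 else 0
  let J : Finset (Fin d) → (Fin d → Bool) → Ideal (MvPolynomial (Fin r ⊕ (Unit ⊕ Fin d)) k) := fun S E =>
    I ⊔ Ideal.span ((fun i => MvPolynomial.X (Sum.inr (Sum.inr i)) - MvPolynomial.C (ε' E i)) '' (S : Set (Fin d)))
  choose h hne hh using fun x : {P // P ∈ Sigma} × {S : Finset (Fin d) // S.Nonempty} × (Fin d → Bool) =>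
    haveI := hSigma x.1.1 x.1.2
    Groth.Agent.MovLemLib.exists_avoid_face.{u, w} r d (s * (m + 1)) hr I ht0 (J x.2.1.1 x.2.2) le_sup_left
      ((hface x.2.1.1 x.2.1.2 (ε' x.2.2) (fun i => by by_cases hE : x.2.2 i <;> simp [ε', hE])).trans (by
        have := Finset.card_pos.2 x.2.1.2
        exact_mod_cast Nat.sub_le_sub_left this r)) x.1.1
  refine ⟨∏ x, h x, Finset.prod_ne_zero_iff.2 fun x _ => hne x,
    fun K _ _ g hg L _ _ _ _ ξ t y P hP hξ S hS ε hε hy hI0 => hg ?_⟩
  let E : Fin d → Bool := fun i => decide (ε i = 1)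
  have hεE : ∀ i, ε' E i = ε i := fun i => by rcases hε i with h' | h' <;> simp [ε', E, h']
  have hJ : ∀ q ∈ J S E, MvPolynomial.aeval
      (Sum.elim (fun i => ξ i + t ^ (s * (m + 1)) * algebraMap K L (g i))
        (Sum.elim (fun _ : Unit => t) y)) q = 0 := fun q hq => by
    refine RingHom.mem_ker.1 ((sup_le ?_ ?_ : J S E ≤ RingHom.ker (MvPolynomial.aeval (R := k)
      (Sum.elim (fun i => ξ i + t ^ (s * (m + 1)) * algebraMap K L (g i))
        (Sum.elim (fun _ : Unit => t) y)))) hq)
    · intro a ha
      exact RingHom.mem_ker.2 (hI0 a ha)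
    · rw [Ideal.span_le]
      rintro _ ⟨i, hi, rfl⟩
      simp [RingHom.mem_ker, hεE, hy i hi]
  have h1 := hh (⟨P, hP⟩, ⟨S, hS⟩, E) L ξ (fun i => algebraMap K L (g i)) t y hξ hJ
  rw [show (fun i => algebraMap K L (g i)) = algebraMap K L ∘ g from rfl, MvPolynomial.aeval_algebraMap_apply, map_eq_zero] at h1
  rw [map_prod]
  exact Finset.prod_eq_zero (Finset.mem_univ _) h1

end Groth.Agent.S15087
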