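import Groth.Statements.S15098
import Groth.Agent.SurfRR.Divisor
-- import your own Groth.Agent.* helpers here

set_option autoImplicit false
set_option backward.isDefEq.respectTransparency false
set_option backward.isDefEq.respectTransparency.types false
set_option linter.style.haveILetI false
set_option maxHeartbeats 1000000
universe u
open CategoryTheory CategoryTheory.Limits AlgebraicGeometry TopologicalSpace
open Surf

namespace Groth.Agent.S15098
open Groth.Agent

/-- Let k be an algebraically closed field, X a smooth projective surface over k (integral, proper and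
smooth, of dimension 2) and D an effective Cartier divisor on X, given by its ideal sheaf I_D, which
is numerically positive: (D·D) > 0 and (D·Γ) ≥ 0 for every integral curve Γ ⊆ X, that is χ(O_Γ ⊗
I_D) − χ(O_Γ) ≤ 0. Then D is numerically connected: whenever D = D₁ + D₂ with D₁, D₂ non-zero
effective Cartier divisors (I_D = I_{D₁}·I_{D₂} with both ideal sheaves different from O_X), (D₁·D₂)
> 0. Intersection numbers of divisors are computed on their ideal sheaves: (D₁·D₂) = χ(O_X) −
χ(I_{D₁}) − χ(I_{D₂}) + χ(I_{D₁} ⊗ I_{D₂}). (The published lemma sits in a positive-characteristic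
setting; its argument does not use the characteristic, so none is assumed here.) -/
theorem result (k : Type u) [Field k] [IsAlgClosed k]
    (X : Scheme.{u}) [X.Over (Spec (CommRingCat.of k))] [IsProper (X ↘ (Spec (CommRingCat.of k)))]
    [Smooth (X ↘ (Spec (CommRingCat.of k)))] [IsIntegral X] (hdim : topologicalKrullDim X = 2)
    (D : X.IdealSheafData) (hD : FGA.IsEffCartier D)
    (hpos : 0 < FGA.intNum k X 2 ![(ClSub.idealMod D), (ClSub.idealMod D)] (Coh.structureModule X))
    (hnef : ∀ Γ : X.IdealSheafData, IsIntegral Γ.subscheme → topologicalKrullDim (Γ.support : Set X) = 1 →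
      Curv2.euler k X (CohB1.tensorMod (ClSub.quotMod Γ) (ClSub.idealMod D)) - Curv2.euler k X (ClSub.quotMod Γ) ≤ 0)
    (D₁ D₂ : X.IdealSheafData) (hD₁ : FGA.IsEffCartier D₁) (hD₂ : FGA.IsEffCartier D₂)
    (hne₁ : D₁ ≠ ⊤) (hne₂ : D₂ ≠ ⊤) (hsum : D = D₁ * D₂) :
    0 < FGA.intNum k X 2 ![(ClSub.idealMod D₁), (ClSub.idealMod D₂)] (Coh.structureModule X) := by
  have hd : topologicalKrullDim X = ((2 : ℕ) : WithBot ℕ∞) := by rw [hdim]; rfl
  haveI := CurveCohLib.isNoetherian_of_proper (k := k) (X := X)
  subst hsum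
  have hI₁ := (S8914.result D₁).2 hD₁
  have hI₂ := (S8914.result D₂).2 hD₂
  have hI := (S8914.result _).2 hD
  obtain ⟨N, hN, ⟨u⟩⟩ := H23.PicInv.exists_inverse hI
  rw [SurfRR.intNum_two k hd.le hI₁ hI₂]
  rw [SurfRR.intNum_two k hd.le hI hI] at hpos
  refine SurfRR.pair_pos_of_nef_big k hd hD₁ hD₂ hne₁ hne₂ hN (CurveTensor.commIso _ _ ≪≫ u)
    (SurfRR.nef_of_curves k hN fun C hC hC1 => ?_) ?_
  · have hQd : topologicalKrullDim ↥(CohB1.support (ClSub.quotMod C)) ≤ ((1 : ℕ) : WithBot ℕ∞) :=
      IntSym.dim_push_le C.subschemeι QCoh.isQCoh_structureModule (SurfRR.dim_subscheme hC1).le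
    have h1 := hnef C hC hC1
    have h2 := IntSym.sym_inverse_head k hN hI (CurveTensor.commIso _ _ ≪≫ u) (l := []) (List.forall_mem_nil _)
      (ParShLib.isCoh_quotMod C) hQd
    rw [SurfRR.eulerDiff] at h1 ⊢
    omega
  · rw [SurfRR.pair_inverse k hd.le hI hN u hN, SurfRR.pair_comm k hI hN,
      SurfRR.pair_inverse k hd.le hI hN u hI, neg_neg]
    exact hpos

end Groth.Agent.S15098
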