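import Groth.Statements.S15099
import Groth.Agent.SurfRR.ConnectedIso
-- import your own Groth.Agent.* helpers here

set_option autoImplicit false
set_option backward.isDefEq.respectTransparency false
set_option backward.isDefEq.respectTransparency.types false
set_option linter.style.haveILetI false
set_option maxHeartbeats 1000000
universe u
open CategoryTheory CategoryTheory.Limits AlgebraicGeometry TopologicalSpace
open Surf

namespace Groth.Agent.S15099
open Groth.Agent

/-- Let k be an algebraically closed field, X a smooth projective surface over k (integral, proper and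
smooth, of dimension 2) and D a non-zero effective Cartier divisor on X (ideal sheaf I_D ≠ O_X)
which is numerically connected: whenever D = D₁ + D₂ with D₁, D₂ non-zero effective Cartier divisors
(I_D = I_{D₁}·I_{D₂}, both different from O_X), (D₁·D₂) = χ(O_X) − χ(I_{D₁}) − χ(I_{D₂}) + χ(I_{D₁}
⊗ I_{D₂}) > 0. Then H⁰(D, O_D) = k, i.e. it is one-dimensional over k (computed on X through the
direct image of O_D). (The published lemma sits in a positive-characteristic setting; the printed
argument does not use the characteristic, so none is assumed here.) -/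
theorem result (k : Type u) [Field k] [IsAlgClosed k]
    (X : Scheme.{u}) [X.Over (Spec (CommRingCat.of k))] [IsProper (X ↘ (Spec (CommRingCat.of k)))]
    [Smooth (X ↘ (Spec (CommRingCat.of k)))] [IsIntegral X] (hdim : topologicalKrullDim X = 2)
    (D : X.IdealSheafData) (hD : FGA.IsEffCartier D) (hD0 : D ≠ ⊤)
    (hnc : ∀ D₁ D₂ : X.IdealSheafData, FGA.IsEffCartier D₁ → FGA.IsEffCartier D₂ → D₁ ≠ ⊤ → D₂ ≠ ⊤ →
      D = D₁ * D₂ → 0 < FGA.intNum k X 2 ![(ClSub.idealMod D₁), (ClSub.idealMod D₂)] (Coh.structureModule X)) :
    Module.finrank k (Coh.HH X (ClSub.quotMod D) 0) = 1 := by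
  have hd : topologicalKrullDim X = ((2 : ℕ) : WithBot ℕ∞) := by rw [hdim]; rfl
  haveI := CurveCohLib.isNoetherian_of_proper (k := k) (X := X)
  have e : CohB1.tensorMod (ClSub.quotMod D) (Coh.structureModule X) ≅ ClSub.quotMod D := AmpleVan.twUnit.app (ClSub.quotMod D)
  have h1 := SurfRR.h0_le_one k hd hD hD0 hnc InvX.isInvertible_structureModule
    (fun C _ _ _ => (IntSym.sym_structure_head k (List.forall_mem_nil _) _).le)
  rw [(S2926.hhIso k e 0).finrank_eq] at h1
  refine le_antisymm h1 (Nat.one_le_iff_ne_zero.2 fun h0 => hD0 ?_)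
  haveI := CurvePoint.epi_toSubscheme D
  have hz : IsZero (ClSub.quotMod D) := IsZero.of_epi_eq_zero (ClSub.toSubscheme D)
    (SurfRR.hom_eq_zero_of_h0 k (ParShLib.isCoh_quotMod D) h0 _)
  refine (Scheme.IdealSheafData.support_eq_bot_iff D).1 (TopologicalSpace.Closeds.ext ?_)
  rw [← SurfRR.support_quotMod, Closeds.coe_bot, Set.eq_empty_iff_forall_notMem]
  intro x hx
  exact hx (ModuleCat.subsingleton_of_isZero ((DerSch.stalkFunctor X x).map_isZero hz))

end Groth.Agent.S15099
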