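import Groth.Statements.S15100
import Mathlib.RingTheory.Kaehler.Basic
import Mathlib.Algebra.Module.LocalizedModule.Basic
import Mathlib.Algebra.Module.LocalizedModule.Exact
import Mathlib.RingTheory.LocalRing.Module
import Mathlib.RingTheory.Ideal.KrullsHeightTheorem

set_option autoImplicit false
universe u
open TensorProduct
open CAlg

namespace Groth.Agent.S15100

/-- If the cokernel of a nonzero vector is free at a prime, some coordinate is a unit there. -/
theorem not_mem_of_free {A F N : Type u} [CommRing A] [IsDomain A] [AddCommGroup F] [Module A F] [Module.Free A F]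
    [AddCommGroup N] [Module A N] (f : F →ₗ[A] N) (hf : Function.Surjective f) (b0 b1 v : F) (hv : v ≠ 0)
    (a b : A) (hvab : v = a • b0 + b • b1) (hker : ∀ x, f x = 0 ↔ ∃ c : A, x = c • v)
    (P : Ideal A) [P.IsPrime] (hfree : Module.Free (Localization.AtPrime P) (LocalizedModule P.primeCompl N))
    (ha : a ∈ P) (hb : b ∈ P) : False := by
  let p := LocalizedModule.map P.primeCompl f
  have hp : Function.Surjective p := LocalizedModule.map_surjective P.primeCompl f hf
  obtain ⟨s, hs⟩ := Module.projective_lifting_property p LinearMap.id hp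
  let v' : LocalizedModule P.primeCompl F := LocalizedModule.mk v 1
  have hex : Function.Exact (LocalizedModule.map P.primeCompl (LinearMap.toSpanSingleton A F v)) p :=
    LocalizedModule.map_exact P.primeCompl _ _ fun x => by
      rw [hker]
      exact ⟨fun ⟨c, hc⟩ => ⟨c, hc.symm⟩, fun ⟨c, hc⟩ => ⟨c, hc.symm⟩⟩
  have hψ : ∀ x, ∃ c : Localization.AtPrime P, x - s (p x) = c • v' := by
    intro x
    obtain ⟨t, ht⟩ := (hex _).1 (show p (x - s (p x)) = 0 by
      rw [map_sub, show p (s (p x)) = p x from LinearMap.congr_fun hs _, sub_self])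
    induction t using LocalizedModule.induction_on with
    | h m σ =>
      refine ⟨Localization.mk m σ, ?_⟩
      rw [← ht, LocalizedModule.map_mk, LocalizedModule.mk_smul_mk, mul_one]
      rfl
  have hpv : p v' = 0 := by
    show LocalizedModule.map P.primeCompl f (LocalizedModule.mk v 1) = 0
    rw [LocalizedModule.map_mk, (hker v).2 ⟨1, (one_smul A v).symm⟩, LocalizedModule.zero_mk]
  obtain ⟨c0, hc0⟩ := hψ (LocalizedModule.mk b0 1)
  obtain ⟨c1, hc1⟩ := hψ (LocalizedModule.mk b1 1)
  let al := algebraMap A (Localization.AtPrime P)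
  have hv' : v' = al a • LocalizedModule.mk b0 1 + al b • LocalizedModule.mk b1 1 := by
    simp only [v', al, hvab, ← Localization.mk_one_eq_algebraMap, LocalizedModule.mk_smul_mk, one_mul]
    rw [LocalizedModule.mk_add_mk]
    simp
  have hkey : v' - s (p v') = (al a * c0 + al b * c1) • v' := by
    conv_lhs => rw [hv']
    simp only [map_add, map_smul, add_smul, mul_smul, ← hc0, ← hc1, smul_sub]
    abel
  rw [hpv, map_zero, sub_zero] at hkey
  have hr : al a * c0 + al b * c1 ∈ IsLocalRing.maximalIdeal (Localization.AtPrime P) :=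
    add_mem (Ideal.mul_mem_right _ _ ((IsLocalization.AtPrime.to_map_mem_maximal_iff (Localization.AtPrime P) P a).2 ha))
      (Ideal.mul_mem_right _ _ ((IsLocalization.AtPrime.to_map_mem_maximal_iff (Localization.AtPrime P) P b).2 hb))
  have hz : (1 - (al a * c0 + al b * c1)) • v' = 0 := by rw [sub_smul, one_smul, ← hkey, sub_self]
  have hz' : v' = 0 := (IsLocalRing.isUnit_one_sub_self_of_mem_nonunits _ hr).smul_eq_zero.1 hz
  rw [← LocalizedModule.zero_mk (1 : P.primeCompl), LocalizedModule.mk_eq] at hz'
  obtain ⟨t, ht⟩ := hz'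
  simp only [one_smul, smul_zero, Submonoid.smul_def] at ht
  rcases smul_eq_zero.1 ht with h | h
  · exact t.2 (by rw [h]; exact P.zero_mem)
  · exact hv h

/-- Let V be a discrete valuation ring with uniformizer u and V → R → A commutative V-algebras with A an
R-algebra compatibly; assume A is a Noetherian local domain of Krull dimension 3 with u in its
maximal ideal, that Ω_{A/V} is a free A-module of rank 2 and that A ⊗_R Ω_{R/V} is a free A-module
of rank 1. Suppose that on the special fibre Ω_{A/R} is locally free exactly away from the closed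
point: for every prime P of A containing u other than the maximal ideal the localization (Ω_{A/R})_P
is free over A_P, while Ω_{A/R} is not free over A. Then Ω_{A/R} is not locally free on the generic
fibre: there is a prime Q of A not containing u with (Ω_{A/R})_Q not free over A_Q. (In the
published statement R is a regular local ring of dimension 2 and A a local ring of dimension 3, both
smooth over V, which yields the two freeness hypotheses used here, and the hypothesis is phrased as
local freeness of Ω of the special fibre of A over that of R away from the closed point.) -/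
theorem result
    (V R A : Type u) [CommRing V] [IsDomain V] [IsDiscreteValuationRing V] [CommRing R] [CommRing A]
    [IsDomain A] [IsNoetherianRing A] [IsLocalRing A]
    [Algebra V R] [Algebra V A] [Algebra R A] [IsScalarTower V R A]
    (u : V) (hu : Irreducible u) (huA : algebraMap V A u ∈ IsLocalRing.maximalIdeal A)
    (hdimA : ringKrullDim A = 3)
    (hΩA : Module.Free A (Ω[A⁄V])) (hrkA : Module.finrank A (Ω[A⁄V]) = 2)
    (hΩR : Module.Free A (A ⊗[R] Ω[R⁄V])) (hrkR : Module.finrank A (A ⊗[R] Ω[R⁄V]) = 1)
    (h0 : ∀ P : PrimeSpectrum A, algebraMap V A u ∈ P.asIdeal → P.asIdeal ≠ IsLocalRing.maximalIdeal A →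
      Module.Free (Localization.AtPrime P.asIdeal) (LocalizedModule P.asIdeal.primeCompl (Ω[A⁄R])))
    (hm : ¬ Module.Free A (Ω[A⁄R])) :
    ∃ Q : PrimeSpectrum A, algebraMap V A u ∉ Q.asIdeal ∧
      ¬ Module.Free (Localization.AtPrime Q.asIdeal) (LocalizedModule Q.asIdeal.primeCompl (Ω[A⁄R])) := by
  classical
  by_contra hcon
  push Not at hcon
  let Φ := KaehlerDifferential.mapBaseChange V R A
  let f := KaehlerDifferential.map V R A A
  have hf : Function.Surjective f := KaehlerDifferential.map_surjective V R A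
  have hex : Function.Exact Φ f := KaehlerDifferential.exact_mapBaseChange_map V R A
  haveI := hΩA
  haveI := hΩR
  haveI : Module.Finite A (Ω[A⁄V]) := Module.finite_of_finrank_eq_succ hrkA
  haveI : Module.Finite A (A ⊗[R] Ω[R⁄V]) := Module.finite_of_finrank_eq_succ hrkR
  let e := Module.finBasisOfFinrankEq A (A ⊗[R] Ω[R⁄V]) hrkR
  let β := Module.finBasisOfFinrankEq A (Ω[A⁄V]) hrkA
  let v := Φ (e 0)
  have hker : ∀ x, f x = 0 ↔ ∃ c : A, x = c • v := by
    intro x
    constructor
    · intro hx
      obtain ⟨t, rfl⟩ := (hex x).1 hx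
      refine ⟨e.repr t 0, ?_⟩
      conv_lhs => rw [← e.sum_repr t, Fin.sum_univ_one, map_smul]
    · rintro ⟨c, rfl⟩
      rw [map_smul, hex.apply_apply_eq_zero, smul_zero]
  have hv : v ≠ 0 := by
    intro h0
    refine hm (Module.Free.of_equiv (LinearEquiv.ofBijective f ⟨(injective_iff_map_eq_zero f).2 fun x hx => ?_, hf⟩))
    obtain ⟨c, rfl⟩ := (hker x).1 hx
    rw [h0, smul_zero]
  have hvsum : v = β.repr v 0 • β 0 + β.repr v 1 • β 1 := by
    conv_lhs => rw [← β.sum_repr v, Fin.sum_univ_two]
  let I : Ideal A := Ideal.span {β.repr v 0, β.repr v 1}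
  have hIm : I ≠ ⊤ := by
    intro htop
    obtain ⟨c0, c1, hc⟩ := Ideal.mem_span_pair.1 (htop.symm ▸ (Submodule.mem_top : (1 : A) ∈ ⊤))
    let l : Ω[A⁄V] →ₗ[A] A := c0 • β.coord 0 + c1 • β.coord 1
    have hl : l v = 1 := by rw [← hc]; rfl
    let g : Ω[A⁄V] →ₗ[A] Ω[A⁄V] := LinearMap.id - l.smulRight v
    have hg : LinearMap.ker f ≤ LinearMap.ker g := by
      intro x hx
      obtain ⟨c, rfl⟩ := (hker x).1 hx
      show c • v - l (c • v) • v = 0
      rw [map_smul, hl, smul_eq_mul, mul_one, sub_self]
    let sec : Ω[A⁄R] →ₗ[A] Ω[A⁄V] :=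
      (LinearMap.ker f).liftQ g hg ∘ₗ (LinearMap.quotKerEquivOfSurjective f hf).symm.toLinearMap
    haveI : Module.Projective A (Ω[A⁄R]) := Module.Projective.of_split sec f (by
      refine LinearMap.ext fun y => ?_
      obtain ⟨x, rfl⟩ := hf y
      show f ((LinearMap.ker f).liftQ g hg ((LinearMap.quotKerEquivOfSurjective f hf).symm (f x))) = f x
      rw [LinearMap.quotKerEquivOfSurjective_symm_apply, Submodule.liftQ_apply]
      show f (x - l x • v) = f x
      rw [map_sub, (hker (l x • v)).2 ⟨_, rfl⟩, sub_zero])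
    haveI : Module.Finite A (Ω[A⁄R]) := Module.Finite.of_surjective f hf
    exact hm Module.free_of_flat_of_isLocalRing
  obtain ⟨P, hP⟩ := Ideal.nonempty_minimalPrimes hIm
  haveI := hP.1.1
  have hPm : P = IsLocalRing.maximalIdeal A := by
    by_contra hne
    have hfree : Module.Free (Localization.AtPrime P) (LocalizedModule P.primeCompl (Ω[A⁄R])) := by
      by_cases hu' : algebraMap V A u ∈ P
      · exact h0 ⟨P, hP.1.1⟩ hu' hne
      · exact hcon ⟨P, hP.1.1⟩ hu'
    exact not_mem_of_free f hf (β 0) (β 1) v hv _ _ hvsum hker P hfree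
      (hP.1.2 (Ideal.subset_span (Set.mem_insert _ _))) (hP.1.2 (Ideal.subset_span (Set.mem_insert_of_mem _ rfl)))
  have hht : P.height ≤ 2 := by
    refine (Ideal.height_le_spanRank_toENat_of_mem_minimalPrimes I P hP).trans ?_
    rw [Submodule.fg_iff_spanRank_eq_spanFinrank.mpr (IsNoetherian.noetherian I), map_natCast]
    refine Nat.cast_le.2 ((Submodule.spanFinrank_span_le_ncard_of_finite (Set.toFinite _)).trans ?_)
    exact (Set.ncard_insert_le _ _).trans (by rw [Set.ncard_singleton])
  have h3 : ((P.height : ℕ∞) : WithBot ℕ∞) = 3 := by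
    rw [hPm, IsLocalRing.maximalIdeal_height_eq_ringKrullDim, hdimA]
  have : ((3 : ℕ∞) : WithBot ℕ∞) ≤ ((2 : ℕ∞) : WithBot ℕ∞) :=
    h3.symm.le.trans (WithBot.coe_le_coe.2 hht)
  exact absurd (WithBot.coe_le_coe.1 this) (by decide)

end Groth.Agent.S15100
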