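import Groth.Statements.S15121
-- no helpers

set_option autoImplicit false
universe u v w
open InvQ

namespace Groth.Agent.S15121

/-- Let k be a field of characteristic zero and A a commutative k-algebra graded by a finitely generated
free abelian group Λ (the character group of a torus acting on Spec A) whose grading monoid is
positive: if the pieces of degrees w and −w are both non-zero then w = 0. Let δ be a locally
nilpotent k-derivation of A (an action of the additive group) that is homogeneous of degree d, with
the piece of degree d equal to zero (the graded condition on the Lie algebra weight). Suppose that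
no maximal ideal of A contains both all graded pieces of non-zero degree and the image of δ (every
torus-fixed closed point has trivial stabiliser under the additive group). Then δ has a homogeneous
slice: some s of degree −d with δ s = 1. (The published statement is for the coordinate ring of an
affine variety over an algebraically closed field of characteristic zero and concludes moreover that
the quotient map by the additive group is a trivial principal bundle, which follows from the slice
by a standard argument not restated here; this row keeps the algebraic content, for any such graded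
algebra.) -/
theorem result
    (k : Type u) [Field k] [CharZero k]
    (A : Type v) [CommRing A] [Algebra k A]
    (Λ : Type w) [AddCommGroup Λ] [DecidableEq Λ] [Module.Free ℤ Λ] [Module.Finite ℤ Λ]
    (𝒜 : Λ → Submodule k A) [GradedAlgebra 𝒜]
    (hpos : ∀ w : Λ, 𝒜 w ≠ ⊥ → 𝒜 (-w) ≠ ⊥ → w = 0)
    (δ : Derivation k A A) (hnil : ∀ a : A, ∃ n : ℕ, ((δ : A →ₗ[k] A) ^ n) a = 0)
    (d : Λ) (hhom : ∀ (w : Λ) (a : A), a ∈ 𝒜 w → δ a ∈ 𝒜 (w + d)) (hd : 𝒜 d = ⊥)
    (hfix : ∀ m : Ideal A, m.IsMaximal → (∀ w : Λ, w ≠ 0 → (𝒜 w : Set A) ⊆ m) → ¬ (Set.range δ ⊆ m)) :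
    ∃ s ∈ 𝒜 (-d), δ s = 1 := by
  classical
  let I : Ideal A := Ideal.span ((⋃ w ∈ {w : Λ | w ≠ 0}, (𝒜 w : Set A)) ∪ Set.range δ)
  have htop : I = ⊤ := by
    by_contra hne
    obtain ⟨m, hm, hle⟩ := Ideal.exists_le_maximal I hne
    exact hfix m hm (fun w hw a ha => hle (Ideal.subset_span (Or.inl (Set.mem_biUnion (s := {w : Λ | w ≠ 0}) hw ha))))
      (fun a ha => hle (Ideal.subset_span (Or.inr ha)))
  let pr : A →+ A := (𝒜 0).subtype.toAddMonoidHom.comp
    ((DFinsupp.evalAddMonoidHom 0).comp (DirectSum.decomposeAddEquiv 𝒜).toAddMonoidHom)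
  have pr_same : ∀ {a}, a ∈ 𝒜 0 → pr a = a := fun {a} ha => DirectSum.decompose_of_mem_same 𝒜 ha
  have pr_ne : ∀ {a w}, a ∈ 𝒜 w → w ≠ 0 → pr a = 0 := fun {a w} ha hw => DirectSum.decompose_of_mem_ne 𝒜 ha hw
  let J : AddSubgroup A := (𝒜 (-d)).toAddSubgroup.map (δ : A →ₗ[k] A).toAddMonoidHom
  have hJ : ∀ {a}, a ∈ 𝒜 (-d) → δ a ∈ J := fun {a} ha => ⟨a, ha, rfl⟩
  have hA : ∀ (a b : A) (u v : Λ), a ∈ 𝒜 u → b ∈ 𝒜 v → v ≠ 0 → pr (a * b) = 0 := by
    intro a b u v ha hb hv
    by_cases huv : u + v = 0
    · have hu : u = -v := eq_neg_of_add_eq_zero_left huv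
      subst hu
      rcases eq_or_ne a 0 with rfl | ha0
      · simp
      rcases eq_or_ne b 0 with rfl | hb0
      · simp
      refine absurd (hpos v (fun h => hb0 ?_) (fun h => ha0 ?_)) hv
      · simpa [h] using hb
      · simpa [h] using ha
    · exact pr_ne (SetLike.mul_mem_graded ha hb) huv
  have hB : ∀ (a b : A) (u v : Λ), a ∈ 𝒜 u → b ∈ 𝒜 v → pr (a * δ b) ∈ J := by
    intro a b u v ha hb
    by_cases hv : v + d = 0
    · have hb' : b ∈ 𝒜 (-d) := by rwa [← eq_neg_of_add_eq_zero_left hv]
      by_cases hu : u = 0
      · subst hu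
        have hm : a * b ∈ 𝒜 (-d) := by simpa using SetLike.mul_mem_graded ha hb'
        have hda : δ a = 0 := by
          have := hhom 0 a ha
          rwa [zero_add, hd, Submodule.mem_bot] at this
        have : δ (a * b) = a * δ b := by rw [Derivation.leibniz, hda]; simp
        rw [pr_same (by simpa [hv] using SetLike.mul_mem_graded ha (hhom v b hb)), ← this]
        exact hJ hm
      · rw [mul_comm, hA (δ b) a _ u (hhom v b hb) ha hu]
        exact J.zero_mem
    · rw [hA a (δ b) u _ ha (hhom v b hb) hv]
      exact J.zero_mem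
  have hI : ∀ x ∈ I, ∀ c : A, pr (c * x) ∈ J := by
    intro x hx
    induction hx using Submodule.span_induction with
    | mem x hx =>
      intro c
      induction c using DirectSum.Decomposition.inductionOn 𝒜 with
      | zero => simp
      | add b c hb hc => rw [add_mul, map_add]; exact J.add_mem hb hc
      | homogeneous m =>
        rcases hx with hx | ⟨b, rfl⟩
        · obtain ⟨w, hw, hxw⟩ := Set.mem_iUnion₂.1 hx
          rw [hA _ _ _ _ m.2 hxw hw]; exact J.zero_mem
        · induction b using DirectSum.Decomposition.inductionOn 𝒜 with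
          | zero => simp
          | homogeneous l => exact hB _ _ _ _ m.2 l.2
          | add b e hb he => rw [map_add, mul_add, map_add]; exact J.add_mem hb he
    | zero => intro c; simp
    | add x y _ _ hx hy => intro c; rw [mul_add, map_add]; exact J.add_mem (hx c) (hy c)
    | smul e x _ hx => intro c; rw [smul_eq_mul, ← mul_assoc]; exact hx _
  obtain ⟨s, hs, h1⟩ := hI 1 (htop ▸ Submodule.mem_top) 1
  exact ⟨s, hs, h1.trans (by rw [one_mul]; exact pr_same SetLike.GradedOne.one_mem)⟩

end Groth.Agent.S15121
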