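import Groth.Statements.S15133
import Groth.Agent.H1ArtFlat.Basic
set_option backward.isDefEq.respectTransparency false
set_option backward.isDefEq.respectTransparency.types false

set_option autoImplicit false
universe u
open CategoryTheory
open CAlg

namespace Groth.Agent.S15133

/-- Let A be an Artinian local ring with residue field k, n ≥ 1, and 0 → I → P₀ → P₁ → ⋯ → Pₙ a complex
of A-modules with P₀, …, Pₙ flat whose reduction 0 → k ⊗ I → k ⊗ P₀ → ⋯ → k ⊗ Pₙ is exact. Then I
and coker(Pₙ₋₁ → Pₙ) are flat. The complex is written as a cochain complex C indexed by ℕ with C⁰ =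
I and Cⁱ⁺¹ = Pᵢ; its terms in degrees above n + 1 play no role. (The published statement adds that I
maps onto the kernel of k ⊗ P₀ → k ⊗ P₁, which is already part of the exactness hypothesis, and is
for local Artinian algebras over an algebraically closed field of characteristic zero having that
field as residue field; this row allows any Artinian local ring.) -/
theorem result
    (A : Type u) [CommRing A] [IsLocalRing A] [IsArtinianRing A] (n : ℕ) (hn : 0 < n)
    (C : CochainComplex (ModuleCat.{u} A) ℕ)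
    (hflat : ∀ i, i ≤ n → Module.Flat A (C.X (i + 1)))
    (hred : ∀ j, j ≤ n →
      (((MonoidalCategory.tensorLeft (ModuleCat.of A (IsLocalRing.ResidueField A))).mapHomologicalComplex
        (ComplexShape.up ℕ)).obj C).ExactAt j) :
    Module.Flat A (C.X 0) ∧ Module.Flat A (C.X (n + 1) ⧸ LinearMap.range (C.d n (n + 1)).hom) := by
  classical
  have hm : IsNilpotent (IsLocalRing.maximalIdeal A) :=
    (IsLocalRing.jacobson_eq_maximalIdeal (⊥ : Ideal A) bot_ne_top) ▸ IsArtinianRing.isNilpotent_jacobson_bot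
  let k := IsLocalRing.ResidueField A
  let d : ∀ j, C.X j →ₗ[A] C.X (j + 1) := fun j => (C.d j (j + 1)).hom
  have hdd : ∀ j (x : C.X j), d (j + 1) (d j x) = 0 := fun j x => by
    show (C.d j (j + 1) ≫ C.d (j + 1) (j + 1 + 1)) x = 0
    rw [C.d_comp_d]
    rfl
  have hex : ∀ j ≤ n, ∀ (i : ℕ), (ComplexShape.up ℕ).prev j = i → ∀ t : TensorProduct A k (C.X j),
      (d j).lTensor k t = 0 → ∃ s : TensorProduct A k (C.X i), (C.d i j).hom.lTensor k s = t := by
    intro j hj i hi t ht
    have h := (HomologicalComplex.exactAt_iff' _ i j (j + 1) hi (ComplexShape.next_eq' _ rfl)).1 (hred j hj)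
    rw [CategoryTheory.ShortComplex.moduleCat_exact_iff] at h
    exact h t ht
  have E0 : ∀ y : C.X 0, d 0 y ∈ IsLocalRing.maximalIdeal A • (⊤ : Submodule A (C.X 1)) →
      y ∈ IsLocalRing.maximalIdeal A • (⊤ : Submodule A (C.X 0)) := by
    intro y hy
    rw [← H1ArtFlat.mk_eq_zero_iff] at hy ⊢
    obtain ⟨s, hs⟩ := hex 0 (Nat.zero_le _) 0 (CochainComplex.prev_nat_zero) (1 ⊗ₜ y) hy
    rw [C.shape 0 0 (by simp)] at hs
    rw [← hs]
    simp
  have E : ∀ j, j + 1 ≤ n → ∀ y : C.X (j + 1), d (j + 1) y ∈ IsLocalRing.maximalIdeal A • (⊤ : Submodule A (C.X (j + 1 + 1))) →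
      ∃ x : C.X j, y - d j x ∈ IsLocalRing.maximalIdeal A • (⊤ : Submodule A (C.X (j + 1))) := by
    intro j hj y hy
    rw [← H1ArtFlat.mk_eq_zero_iff] at hy
    obtain ⟨s, hs⟩ := hex (j + 1) hj j (CochainComplex.prev_nat_succ j) (1 ⊗ₜ y) hy
    obtain ⟨x, rfl⟩ := H1ArtFlat.mk_surjective s
    refine ⟨x, (H1ArtFlat.mk_eq_zero_iff _).1 ?_⟩
    rw [TensorProduct.tmul_sub, sub_eq_zero]
    exact hs.symm
  have hreg : ∀ j, j + 1 ≤ n → ∃ h, d (j + 1) ∘ₗ h ∘ₗ d (j + 1) = d (j + 1) := by
    intro j hj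
    haveI := hflat (j + 1) hj
    refine H1ArtFlat.exists_regular hm (d (j + 1)) fun y hy => ?_
    obtain ⟨x, hx⟩ := E j hj y hy
    exact ⟨d j x, hdd j x, hx⟩
  obtain ⟨n, rfl⟩ : ∃ n', n = n' + 1 := ⟨n - 1, by omega⟩
  haveI := hflat (n + 1) le_rfl
  refine ⟨?_, ?_⟩
  · haveI := hflat 0 (Nat.zero_le _)
    obtain ⟨h, hg⟩ := hreg 0 (by omega)
    refine H1ArtFlat.flat_first hm (d 0) (d 1) (LinearMap.ext (hdd 0)) h hg E0 fun y hy => ?_
    exact E 0 (by omega) y (by rw [show d (0 + 1) y = 0 from hy]; exact Submodule.zero_mem _)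
  · obtain ⟨h, hg⟩ := hreg n le_rfl
    exact H1ArtFlat.flat_coker (d (n + 1)) h hg

end Groth.Agent.S15133
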