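import Groth.Statements.S15136
import Groth.Agent.MdlInter.CohFlat
import Groth.Agent.Lib.CurvePoint

set_option autoImplicit false
set_option backward.isDefEq.respectTransparency false
set_option backward.isDefEq.respectTransparency.types false
set_option maxHeartbeats 1000000
set_option linter.style.haveILetI false
universe u
open CategoryTheory CategoryTheory.Limits AlgebraicGeometry Opposite
open Models

namespace Groth.Agent.S15136
open Groth.Agent

/-- Let R be a discrete valuation ring with residue field k and let X be a scheme proper and flat over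
Spec R, with closed fibre X_s = X ×_R Spec k, the closed subscheme cut out by the ideal sheaf 𝔪_R ·
O_X. Then X is cohomologically flat over R in dimension 0, in the sense that the restriction map
H^0(X, O_X) → H^0(X_s, O_{X_s}) is surjective (equivalently H^0(X, O_X) ⊗_R k ≅ H^0(X_s, O_{X_s})),
precisely when H^1(X, O_X) has no R-torsion. (The published statement is for a proper relative curve
over R, normal with smooth geometrically connected generic fibre and with the fraction field of R of
characteristic zero, and phrases cohomological flatness as the formation of the direct image of O_X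
commuting with every base change; the argument uses only properness and flatness, and for X proper
and flat over R that condition amounts to surjectivity onto the sections of the closed fibre, which
is the form taken here.) -/
theorem result (R : Type u) [CommRing R] [IsDomain R]
    [IsDiscreteValuationRing R] (X : Scheme.{u}) [X.Over (Spec (CommRingCat.of R))]
    [IsProper (X ↘ Spec (CommRingCat.of R))] [Flat (X ↘ Spec (CommRingCat.of R))] :
    Function.Surjective (Sheaf.H.map ((SheafOfModules.toSheaf X.ringCatSheaf).map
      (ClSub.toSubscheme (Models.specialFibreIdeal R (Over.mk (X ↘ Spec (CommRingCat.of R)))))) 0) ↔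
      NoZeroSMulDivisors R (Coh.HH X (Coh.structureModule X) 1) := by
  obtain ⟨ϖ, hϖ⟩ := IsDiscreteValuationRing.exists_irreducible R
  let p : X ⟶ Spec (CommRingCat.of R) := X ↘ Spec (CommRingCat.of R)
  let J : X.IdealSheafData := Models.specialFibreIdeal R (Over.mk p)
  let t : Γ(X, ⊤) := Coh.toGlobal p ϖ
  have hspan : ∀ U : X.affineOpens,
      J.ideal U = Ideal.span {X.presheaf.map (homOfLE (le_top : U.1 ≤ ⊤)).op t} := fun U => by
    dsimp only [J]
    rw [Models.specialFibreIdeal, MeroX.ideal_comap_idealSheaf, hϖ.maximalIdeal_eq, Ideal.map_span,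
      Set.image_singleton]
    rfl
  have hcart : BlowUp.IsEffCartierIdeal J := fun x => by
    obtain ⟨_, ⟨W, hW, rfl⟩, hxW, -⟩ := X.isBasis_affineOpens.exists_subset_of_mem_open
      (Set.mem_univ x) isOpen_univ
    refine ⟨⟨W, hW⟩, hxW, _, ?_, hspan ⟨W, hW⟩⟩
    have hflat : ((p.appLE ⊤ W le_top).hom.comp (Scheme.ΓSpecIso (CommRingCat.of R)).inv.hom).Flat :=
      RingHom.Flat.comp (RingHom.Flat.of_bijective
        (ConcreteCategory.bijective_of_isIso (Scheme.ΓSpecIso (CommRingCat.of R)).inv))
        (Flat.flat_appLE p (isAffineOpen_top _) hW le_top)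
    letI := ((p.appLE ⊤ W le_top).hom.comp (Scheme.ΓSpecIso (CommRingCat.of R)).inv.hom).toAlgebra
    haveI : Module.Flat R Γ(X, W) := hflat
    have hreg := Module.IsTorsionFree.isSMulRegular (R := R) (M := Γ(X, W)) (IsRegular.of_ne_zero hϖ.ne_zero)
    have ht : X.presheaf.map (homOfLE (le_top : W ≤ ⊤)).op t = algebraMap R Γ(X, W) ϖ := by
      simp only [t, RingHom.algebraMap_toAlgebra, RingHom.comp_apply, Coh.toGlobal, Scheme.Hom.appLE]
      rfl
    refine mem_nonZeroDivisors_iff_right.2 fun z hz => hreg ?_
    show ϖ • z = ϖ • 0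
    rw [smul_zero, Algebra.smul_def, ← ht, mul_comm]
    exact hz
  obtain ⟨e, he⟩ := MdlInter.exists_structure_iso_idealMod J ((S8914.result _).2 hcart) t hspan
  haveI := CurvePoint.epi_toSubscheme J
  have hS := CurveSlope.shortExact_kernel_of_epi (ClSub.toSubscheme J)
  refine (show Function.Surjective (PnCoh.Finite.mapLin R (ClSub.toSubscheme J) 0) ↔ _ from
    (MdlInter.surjective_map_zero_iff R hS).trans ?_)
  rw [MdlInter.noZeroSMulDivisors_iff_uniformizer hϖ]
  have hψ : (QCoh.toAbFunctor X).map (e.hom ≫ ClSub.idealModι J) = Coh.smulAb (Coh.structureModule X) t := by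
    let ψ : Coh.structureModule X ⟶ Coh.structureModule X := e.hom ≫ ClSub.idealModι J
    have hkey : ∀ (V : X.Opens) (x : Γ(X, V)), ψ.app V x = AModX.resR (le_top : V ≤ ⊤) t * x := by
      intro V x
      have h1 : ψ.app V (AModX.res (Coh.structureModule X) (le_top : V ≤ ⊤) (1 : Γ(X, ⊤))) =
          AModX.resR (le_top : V ≤ ⊤) t := (AModX.app_res ψ le_top _).trans (congrArg (AModX.resR (le_top : V ≤ ⊤)) he)
      rw [show (AModX.res (Coh.structureModule X) (le_top : V ≤ ⊤) (1 : Γ(X, ⊤)) : Γ(X, V)) = (1 : Γ(X, V)) from
        map_one (X.presheaf.map (homOfLE (le_top : V ≤ ⊤)).op).hom] at h1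
      have h2 := Scheme.Modules.Hom.app_smul ψ (U := V) x (show Γ(Coh.structureModule X, V) from (1 : Γ(X, V)))
      rw [show (x • (show Γ(Coh.structureModule X, V) from (1 : Γ(X, V))) : Γ(Coh.structureModule X, V)) = x from
        mul_one x, h1] at h2
      exact h2.trans (mul_comm x _)
    ext U m
    exact hkey U.unop m
  have hcomp : ∀ x, PnCoh.Finite.mapLin R (ClSub.idealModι J) 1 (PnCoh.Finite.mapLin R e.hom 1 x) = ϖ • x := by
    intro x
    exact (PnCoh.Finite.map_map (Y := X.toPresheafedSpace.carrier)
      ((Functor.map_comp _ _ _).symm.trans hψ) 1 x)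
  have hbij : Function.Bijective (PnCoh.Finite.mapLin R e.hom 1) :=
    Function.bijective_iff_has_inverse.2 ⟨PnCoh.Finite.mapLin R e.inv 1,
      fun x => (PnCoh.Finite.map_map (Y := X.toPresheafedSpace.carrier)
        ((Functor.map_comp _ _ _).symm.trans ((congrArg _ e.hom_inv_id).trans (CategoryTheory.Functor.map_id _ _))) 1 x).trans
          (Sheaf.H.map_id_apply _),
      fun x => (PnCoh.Finite.map_map (Y := X.toPresheafedSpace.carrier)
        ((Functor.map_comp _ _ _).symm.trans ((congrArg _ e.inv_hom_id).trans (CategoryTheory.Functor.map_id _ _))) 1 x).trans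
          (Sheaf.H.map_id_apply _)⟩
  refine ((Function.Injective.of_comp_iff' _ hbij).symm.trans ?_)
  exact iff_of_eq (congrArg Function.Injective (funext hcomp))

end Groth.Agent.S15136
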