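import Groth.Statements.S15140
import Groth.Agent.S0386
import Groth.Agent.S9346
import Groth.Agent.AlgSpVal.EtaleModel
import Groth.Agent.CurveCohLib.SubBundle
import Groth.Agent.CurveCohLib.Proper
import Groth.Agent.FinGD.Basic

set_option autoImplicit false
set_option maxHeartbeats 1000000
set_option linter.style.haveILetI false
universe u
open CategoryTheory CategoryTheory.Limits AlgebraicGeometry
open Models

namespace Groth.Agent.S15140

open Groth.Agent

/-- Let R be a discrete valuation ring whose fraction field has characteristic zero and let X and Y be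
relative curves over R: flat, of finite type and separated over Spec R, normal and integral, of
dimension two (pure relative dimension one; properness is not assumed). Let f : X → Y be a finite
surjective morphism over R. Then there is an open subset V ⊆ Y such that the complement of V in Y
and the complement of f⁻¹(V) in X are finite sets of points at which the local rings have Krull
dimension two (closed points of the closed fibres), and f is flat over V. -/
theorem result (R : Type u) [CommRing R] [IsDomain R]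
    [IsDiscreteValuationRing R] [CharZero (FractionRing R)]
    (X Y : Scheme.{u}) (pX : X ⟶ Spec (CommRingCat.of R)) (pY : Y ⟶ Spec (CommRingCat.of R))
    [Flat pX] [LocallyOfFiniteType pX] [QuasiCompact pX] [IsSeparated pX]
    [Flat pY] [LocallyOfFiniteType pY] [QuasiCompact pY] [IsSeparated pY]
    [IsIntegral X] [IsIntegral Y] (hnX : Pi1.IsNormalScheme X) (hnY : Pi1.IsNormalScheme Y)
    (hdX : topologicalKrullDim X = 2) (hdY : topologicalKrullDim Y = 2)
    (f : X ⟶ Y) [IsFinite f] [Surjective f] (hf : f ≫ pY = pX) :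
    ∃ V : Y.Opens, ((V : Set Y)ᶜ).Finite ∧ (∀ y : Y, y ∉ V → ringKrullDim (Y.presheaf.stalk y) = 2) ∧
      (((f ⁻¹ᵁ V : X.Opens) : Set X)ᶜ).Finite ∧ (∀ x : X, x ∉ f ⁻¹ᵁ V → ringKrullDim (X.presheaf.stalk x) = 2) ∧
      Flat (f ∣_ V) := by
  haveI : LocallyOfFinitePresentation f := by
    haveI : IsLocallyNoetherian Y := LocallyOfFiniteType.isLocallyNoetherian pY
    infer_instance
  haveI : IsLocallyNoetherian Y := LocallyOfFiniteType.isLocallyNoetherian pY
  haveI : CompactSpace Y := QuasiCompact.compactSpace_of_compactSpace pY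
  haveI : IsLocallyNoetherian X := LocallyOfFiniteType.isLocallyNoetherian pX
  haveI : CompactSpace X := QuasiCompact.compactSpace_of_compactSpace pX
  haveI : IsNoetherian X := {}
  haveI : IsNoetherian Y := {}
  haveI : IsDominant f := inferInstance
  let N : Set X := {x | (f.stalkMap x).hom.Flat}ᶜ
  have hN : IsClosed N := (Groth.Agent.S0386.result f).isClosed_compl
  let V : Y.Opens := ⟨(f '' N)ᶜ, (f.isClosedMap _ hN).isOpen_compl⟩
  have hVmem : ∀ y, y ∉ V → ∃ x, ¬ (f.stalkMap x).hom.Flat ∧ f x = y := fun y hy => by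
    obtain ⟨x, hx, hxy⟩ := not_not.1 hy
    exact ⟨x, hx, hxy⟩
  have hflat : ∀ x : X, ringKrullDim (Y.presheaf.stalk (f x)) ≤ 1 → (f.stalkMap x).hom.Flat := by
    intro x h1
    haveI := (hnY (f x)).1
    haveI := (hnY (f x)).2
    haveI : Ring.KrullDimLE 1 (Y.presheaf.stalk (f x)) := Ring.krullDimLE_iff.2 h1
    haveI : ValuationRing (Y.presheaf.stalk (f x)) :=
      ((tfae_of_isNoetherianRing_of_isLocalRing_of_isDomain (Y.presheaf.stalk (f x))).out 3 1).1
        (show IsIntegrallyClosed (Y.presheaf.stalk (f x)) ∧ _ from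
        ⟨inferInstance, fun P hP hPp => IsLocalRing.eq_maximalIdeal
          (Ring.krullDimLE_one_iff_of_noZeroDivisors.1 inferInstance P hP hPp)⟩)
    algebraize [(f.stalkMap x).hom]
    exact AlgSpVal.flat_of_injective (S9346.stalkMap_injective f x)
  have hle : ∀ (Z : Scheme.{u}) (z : Z), topologicalKrullDim Z = 2 → Order.coheight z ≤ 2 := by
    intro Z z hZ
    have h := CurveCohLib.ringKrullDim_stalk_le_topologicalKrullDim z
    rw [ringKrullDim_stalk_eq_coheight, hZ] at h
    exact WithBot.coe_le_coe.1 h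
  have hY2 : ∀ y : Y, y ∉ V → Order.coheight y = 2 := fun y hy => by
    refine le_antisymm (hle Y y hdY) ?_
    by_contra hlt
    obtain ⟨x, hx, rfl⟩ := hVmem y hy
    refine hx (hflat x ?_)
    rw [ringKrullDim_stalk_eq_coheight]
    have h2 : Order.coheight (f x) ≤ 1 := Order.le_of_lt_succ (lt_of_not_ge hlt)
    exact WithBot.coe_le_coe.2 h2
  have hclosed : ∀ (Z : Scheme.{u}), topologicalKrullDim Z = 2 → ∀ z : Z, Order.coheight z = 2 →
      IsClosed ({z} : Set Z) := by
    intro Z hZ z hz
    refine closure_subset_iff_isClosed.1 fun w hw => ?_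
    have hs : z ⤳ w := specializes_iff_mem_closure.2 hw
    by_contra hne
    have hlt : w < z := lt_iff_le_not_ge.2 ⟨Scheme.le_iff_specializes.2 hs,
      fun h => hne ((Scheme.le_iff_specializes.1 h).antisymm hs).eq⟩
    have := Order.coheight_add_one_le hlt
    rw [hz] at this
    exact absurd (this.trans (hle Z w hZ)) (by decide)
  have hX2 : ∀ x : X, x ∉ f ⁻¹ᵁ V → Order.coheight x = 2 := fun x hx => by
    refine le_antisymm (hle X x hdX) ?_
    have hgen := FinGD.generalizingMap_of_isNormal hnY f f.surjective.denseRange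
    have h2 := hY2 (f x) hx
    have lift : ∀ (a : X) (b : Y), f a < b → ∃ a', a < a' ∧ f a' = b := fun a b hab => by
      obtain ⟨a', ha', hfa⟩ := hgen (Scheme.le_iff_specializes.1 hab.le)
      refine ⟨a', lt_iff_le_not_ge.2 ⟨Scheme.le_iff_specializes.2 ha', fun h => ?_⟩, hfa⟩
      have h' : f a' ≤ f a := Scheme.le_iff_specializes.2
        ((Scheme.le_iff_specializes.1 h).map f.continuous)
      rw [hfa] at h'
      exact lt_iff_le_not_ge.1 hab |>.2 h'
    obtain ⟨y1, hy1, hy1h⟩ := (Order.coe_lt_coheight_iff (x := f x) (n := 1)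
      (by rw [h2]; exact ENat.coe_lt_top 2)).1 (by rw [h2]; decide)
    obtain ⟨y2, hy2, -⟩ := (Order.coe_lt_coheight_iff (x := y1) (n := 0)
      (by rw [hy1h]; exact ENat.coe_lt_top _)).1 (by rw [hy1h]; decide)
    obtain ⟨x1, hx1, rfl⟩ := lift x y1 hy1
    obtain ⟨x2, hx2, rfl⟩ := lift x1 y2 hy2
    calc (2 : ℕ∞) ≤ Order.coheight x2 + 1 + 1 := by
          rw [add_assoc]; exact le_add_self
      _ ≤ Order.coheight x1 + 1 := by gcongr; exact Order.coheight_add_one_le hx2
      _ ≤ Order.coheight x := Order.coheight_add_one_le hx1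
  refine ⟨V, CurveCohLib.finite_of_closedPoints V.isOpen.isClosed_compl fun y hy => hclosed Y hdY y (hY2 y hy),
    fun y hy => ?_, CurveCohLib.finite_of_closedPoints (f ⁻¹ᵁ V).isOpen.isClosed_compl
      fun x hx => hclosed X hdX x (hX2 x hx), fun x hx => ?_, ?_⟩
  · rw [ringKrullDim_stalk_eq_coheight, hY2 y hy]; rfl
  · rw [ringKrullDim_stalk_eq_coheight, hX2 x hx]; rfl
  · refine (Flat.iff_flat_stalkMap _).2 fun z => ?_
    exact (RingHom.Flat.respectsIso.arrow_mk_iso_iff (morphismRestrictStalkMap f V z)).2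
      (by_contra fun h => z.2 ⟨z.1, h, rfl⟩)

end Groth.Agent.S15140
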