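import Groth.Statements.S15144
import Groth.Agent.AbSchCube.Omega

set_option autoImplicit false
set_option backward.isDefEq.respectTransparency false
set_option backward.isDefEq.respectTransparency.types false
set_option maxHeartbeats 1000000
set_option linter.style.haveILetI false
universe u
open CategoryTheory CategoryTheory.Limits MonoidalCategory CartesianMonoidalCategory MonObj GrpObj AlgebraicGeometry Opposite
open AbSch

namespace Groth.Agent.S15144
open Groth.Agent

/-- Let S be a scheme and A an abelian scheme over S, an S-group scheme whose structure morphism is
proper, flat and locally of finite presentation with geometrically reduced and geometrically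
connected fibres, with unit section e : S → A. Then every global section of Ω_{A/S} is invariant;
equivalently, the canonical map Γ(A, Ω_{A/S}) → Γ(S, e^*Ω_{A/S}) to the sections of the sheaf of
invariant differentials ω_A = e^*Ω_{A/S}, namely the map on global sections of the unit Ω_{A/S} →
e_*e^*Ω_{A/S} of the adjunction between pullback and pushforward along e, is bijective. -/
theorem result {S : Scheme.{u}} (A : Over S) [GrpObj A]
    [IsProper A.hom] [Flat A.hom] [LocallyOfFinitePresentation A.hom]
    [GeometricallyReduced A.hom] [GeometricallyConnected A.hom] :
    Function.Bijective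
      (((Scheme.Modules.pullbackPushforwardAdjunction η[A].left).unit.app (Omega.sheaf A.hom)).val.app (op ⊤)).hom := by
  obtain ⟨eΩ⟩ := AbSchCube.omega_iso A
  have h := AbSchCube.bijective_unit_pullback A (AbSchCube.isFinLocFree_conormal A)
  let η' := (Scheme.Modules.pullbackPushforwardAdjunction η[A].left).unit
  let T := Scheme.Modules.pullback η[A].left ⋙ Scheme.Modules.pushforward η[A].left
  have hn := η'.naturality eΩ.inv
  have hh : η'.app (Omega.sheaf A.hom) = eΩ.hom ≫ η'.app _ ≫ T.map eΩ.inv := by
    rw [← hn, Functor.id_map, Iso.hom_inv_id_assoc]
  show Function.Bijective ((η'.app (Omega.sheaf A.hom)).app ⊤)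
  rw [hh, Scheme.Modules.Hom.comp_app, Scheme.Modules.Hom.comp_app]
  have h1 : Function.Bijective ((eΩ.hom).app ⊤) :=
    (ConcreteCategory.isIso_iff_bijective _).1 inferInstance
  have h2 : Function.Bijective ((T.map eΩ.inv).app ⊤) :=
    (ConcreteCategory.isIso_iff_bijective _).1 inferInstance
  exact (h2.comp h).comp h1

end Groth.Agent.S15144
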