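import Groth.Statements.S15155
import Mathlib

set_option autoImplicit false
open CAlg

namespace Groth.Agent.S15155

/-- Alternating determinants over a field are squares. -/
theorem isSquare_field {K : Type} [Field K] : ∀ (n : ℕ) (M : Matrix (Fin n) (Fin n) K),
    M.transpose = -M → (∀ i, M i i = 0) → IsSquare M.det
  | 0, M, _, _ => ⟨1, by simp⟩
  | 1, M, _, h => ⟨0, by simp [Matrix.det_fin_one, h 0]⟩
  | n + 2, M, hT, h0 => by
    classical
    by_cases hz : ∀ j, M 0 j = 0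
    · exact ⟨0, by rw [Matrix.det_eq_zero_of_row_eq_zero 0 hz, mul_zero]⟩
    push_neg at hz
    obtain ⟨j, hj⟩ := hz
    have hj0 : j ≠ 0 := fun h => hj (h ▸ h0 0)
    let e : Fin 2 ⊕ Fin n ≃ Fin (n + 2) :=
      (finSumFinEquiv.trans (finCongr (Nat.add_comm 2 n))).trans (Equiv.swap 1 j)
    let M' := M.submatrix e e
    have he0 : e (Sum.inl 0) = 0 := by
      simp only [e, Equiv.trans_apply]
      rw [show (finCongr (Nat.add_comm 2 n)) (finSumFinEquiv (Sum.inl (0 : Fin 2) : Fin 2 ⊕ Fin n)) = (0 : Fin (n + 2)) from Fin.ext (by simp)]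
      exact Equiv.swap_apply_of_ne_of_ne Fin.zero_ne_one hj0.symm
    have he1 : e (Sum.inl 1) = j := by
      simp only [e, Equiv.trans_apply]
      rw [show (finCongr (Nat.add_comm 2 n)) (finSumFinEquiv (Sum.inl (1 : Fin 2) : Fin 2 ⊕ Fin n)) = (1 : Fin (n + 2)) from Fin.ext (by simp)]
      exact Equiv.swap_apply_left _ _
    have hT' : ∀ x y, M' x y = -M' y x := fun x y => by
      show M (e x) (e y) = -M (e y) (e x)
      rw [← Matrix.neg_apply, ← hT, Matrix.transpose_apply]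
    have h0' : ∀ x, M' x x = 0 := fun x => h0 _
    let a := M' (Sum.inl 0) (Sum.inl 1)
    have ha : a ≠ 0 := by show M (e _) (e _) ≠ 0; rw [he0, he1]; exact hj
    have hA : M'.toBlocks₁₁ = !![0, a; -a, 0] := by
      ext x y
      fin_cases x <;> fin_cases y
      · exact h0' _
      · rfl
      · exact hT' _ _
      · exact h0' _
    let Ainv : Matrix (Fin 2) (Fin 2) K := !![0, -a⁻¹; a⁻¹, 0]
    have hAinv : M'.toBlocks₁₁ * Ainv = 1 := by
      rw [hA]; ext x y; fin_cases x <;> fin_cases y <;> simp [Ainv, ha]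
    letI : Invertible M'.toBlocks₁₁ := ⟨Ainv, mul_eq_one_comm.mp hAinv, hAinv⟩
    have hinv : ⅟ M'.toBlocks₁₁ = Ainv := invOf_eq_right_inv hAinv
    rw [← Matrix.det_submatrix_equiv_self e M, show M.submatrix e e = M' from rfl, ← Matrix.fromBlocks_toBlocks M',
      Matrix.det_fromBlocks₁₁, hinv]
    let S := M'.toBlocks₂₂ - M'.toBlocks₂₁ * Ainv * M'.toBlocks₁₂
    have hS : ∀ p q, S p q = M' (Sum.inr p) (Sum.inr q) -
        (-(M' (Sum.inr p) (Sum.inl 0)) * a⁻¹ * M' (Sum.inl 1) (Sum.inr q) +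
          M' (Sum.inr p) (Sum.inl 1) * a⁻¹ * M' (Sum.inl 0) (Sum.inr q)) := fun p q => by
      simp [S, Ainv, Matrix.mul_apply, Fin.sum_univ_two, Matrix.toBlocks₂₁, Matrix.toBlocks₁₂, Matrix.toBlocks₂₂]
      ring
    obtain ⟨r, hr⟩ := isSquare_field n S (by
      ext p q
      rw [Matrix.transpose_apply, Matrix.neg_apply, hS, hS, hT' (Sum.inr q) (Sum.inr p), hT' (Sum.inr q) (Sum.inl 0),
        hT' (Sum.inr q) (Sum.inl 1), hT' (Sum.inl 0) (Sum.inr p), hT' (Sum.inl 1) (Sum.inr p)]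
      ring) (fun p => by
      rw [hS, h0', hT' (Sum.inl 1) (Sum.inr p), hT' (Sum.inl 0) (Sum.inr p)]
      ring)
    refine ⟨a * r, ?_⟩
    rw [show (M'.toBlocks₂₂ - M'.toBlocks₂₁ * Ainv * M'.toBlocks₁₂).det = r * r from hr, hA, Matrix.det_fin_two]
    simp
    ring

/-- A universal Pfaffian. -/
theorem exists_pf (ι : Type) [Fintype ι] [DecidableEq ι] :
    ∃ pf : MvPolynomial (ι × ι) ℤ, ∀ (S : Type) [CommRing S] (N : Matrix ι ι S), N.transpose = -N →
      (∀ i, N i i = 0) → N.det = (MvPolynomial.aeval (fun ij => N ij.1 ij.2) pf) ^ 2 := by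
  classical
  let e := Fintype.equivFin ι
  let R := MvPolynomial (ι × ι) ℤ
  let M : Matrix ι ι R := Matrix.of fun i j =>
    if e i < e j then MvPolynomial.X (i, j) else if e j < e i then -MvPolynomial.X (j, i) else 0
  have hMT : ∀ i j, M i j = -M j i := fun i j => by
    simp only [M, Matrix.of_apply]
    rcases lt_trichotomy (e i) (e j) with h | h | h
    · rw [if_pos h, if_neg h.not_gt, if_pos h]; exact (neg_neg (MvPolynomial.X (i, j) : R)).symm
    · simp [h]
    · rw [if_neg h.not_gt, if_pos h, if_pos h]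
  let K := FractionRing R
  obtain ⟨x, hx⟩ := isSquare_field (K := K) _ ((Matrix.of fun a b => algebraMap R K (M (e.symm a) (e.symm b))))
    (by ext a b; simp only [Matrix.transpose_apply, Matrix.neg_apply, Matrix.of_apply, hMT (e.symm b) (e.symm a), map_neg])
    (fun a => by simp [M])
  have hdet : (Matrix.of fun a b => algebraMap R K (M (e.symm a) (e.symm b))).det = algebraMap R K M.det := by
    rw [RingHom.map_det, RingHom.mapMatrix_apply, ← Matrix.det_submatrix_equiv_self e.symm]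
    rfl
  rw [hdet] at hx
  have hint : IsIntegral R x := IsIntegral.of_pow two_pos (by rw [pow_two, ← hx]; exact isIntegral_algebraMap)
  obtain ⟨pf, hpf⟩ := IsIntegrallyClosed.isIntegral_iff.1 hint
  refine ⟨pf, fun S _ N hT h0 => ?_⟩
  have hM : M.det = pf ^ 2 := IsFractionRing.injective R K (by rw [hx, map_pow, hpf, pow_two])
  let ev : R →+* S := (MvPolynomial.aeval (R := ℤ) fun ij : ι × ι => N ij.1 ij.2).toRingHom
  have : ev.mapMatrix M = N := by
    ext i j
    have hN : N i j = -N j i := by rw [← Matrix.neg_apply, ← hT, Matrix.transpose_apply]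
    simp only [RingHom.mapMatrix_apply, Matrix.map_apply, M, Matrix.of_apply]
    rcases lt_trichotomy (e i) (e j) with h | h | h
    · rw [if_pos h]; exact MvPolynomial.aeval_X _ _
    · rw [if_neg (h ▸ lt_irrefl _), if_neg (h ▸ lt_irrefl _), map_zero, e.injective h, h0]
    · rw [if_neg h.not_gt, if_pos h, map_neg, hN]; exact congrArg Neg.neg (MvPolynomial.aeval_X _ _)
  rw [← this, ← RingHom.map_det, hM, map_pow, this]
  rfl

/-- Let J be the 2m × 2m block matrix with blocks 0, I_m in the first row and −I_m, 0 in the second,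
over the complex numbers. On the set of complex 2m × 2m matrices A with ᵗA · J = J · A (equivalently
ᵗA = J A J⁻¹, J being invertible), the characteristic polynomial is the square of a single
polynomial in the entries of A with coefficients in ℂ[X], and the determinant is the square of a
single polynomial in the entries of A. -/
theorem result (m : ℕ) :
    (∃ P : MvPolynomial ((Fin m ⊕ Fin m) × (Fin m ⊕ Fin m)) (Polynomial ℂ),
      ∀ A : Matrix (Fin m ⊕ Fin m) (Fin m ⊕ Fin m) ℂ,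
        A.transpose * Matrix.fromBlocks 0 1 (-1) 0 = Matrix.fromBlocks 0 1 (-1) 0 * A →
        A.charpoly = (MvPolynomial.eval (fun ij => Polynomial.C (A ij.1 ij.2)) P) ^ 2) ∧
    (∃ Q : MvPolynomial ((Fin m ⊕ Fin m) × (Fin m ⊕ Fin m)) ℂ,
      ∀ A : Matrix (Fin m ⊕ Fin m) (Fin m ⊕ Fin m) ℂ,
        A.transpose * Matrix.fromBlocks 0 1 (-1) 0 = Matrix.fromBlocks 0 1 (-1) 0 * A →
        A.det = (MvPolynomial.eval (fun ij => A ij.1 ij.2) Q) ^ 2) := by
  classical
  obtain ⟨pf, hpf⟩ := exists_pf (Fin m ⊕ Fin m)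
  have hJdet : ∀ (S : Type) [CommRing S], (Matrix.fromBlocks 0 1 (-1) 0 : Matrix (Fin m ⊕ Fin m) (Fin m ⊕ Fin m) S).det = 1 := by
    intro S _
    obtain ⟨q, hq⟩ := exists_pf (Fin m ⊕ Fin m)
    have hJT : (Matrix.fromBlocks 0 1 (-1) 0 : Matrix (Fin m ⊕ Fin m) (Fin m ⊕ Fin m) ℤ).transpose = -(Matrix.fromBlocks 0 1 (-1) 0) := by
      simp [Matrix.fromBlocks_transpose, Matrix.fromBlocks_neg]
    have hZ : (Matrix.fromBlocks 0 1 (-1) 0 : Matrix (Fin m ⊕ Fin m) (Fin m ⊕ Fin m) ℤ).det = 1 := by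
      have hsq := hq ℤ (Matrix.fromBlocks 0 1 (-1) 0) hJT (fun i => by rcases i with i | i <;> simp)
      have hu : (Matrix.fromBlocks 0 1 (-1) 0 : Matrix (Fin m ⊕ Fin m) (Fin m ⊕ Fin m) ℤ).det * (-(Matrix.fromBlocks 0 1 (-1) 0 : Matrix (Fin m ⊕ Fin m) (Fin m ⊕ Fin m) ℤ)).det = 1 := by
        rw [← Matrix.det_mul, Matrix.fromBlocks_neg, Matrix.fromBlocks_multiply]
        simp
      have hu' : IsUnit ((Matrix.fromBlocks 0 1 (-1) 0 : Matrix (Fin m ⊕ Fin m) (Fin m ⊕ Fin m) ℤ).det) := IsUnit.of_mul_eq_one _ hu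
      rw [hsq] at hu' ⊢
      exact Int.isUnit_sq (isUnit_pow_iff two_ne_zero |>.1 hu')
    have := congrArg (Int.castRingHom S) hZ
    rw [RingHom.map_det, map_one] at this
    refine Eq.trans ?_ this
    congr 1
    ext i j
    rcases i with i | i <;> rcases j with j | j <;> simp [Matrix.one_apply, apply_ite (Int.cast : ℤ → S)]
  have hdiag : ∀ (S : Type) [CommRing S] [IsDomain S] [CharZero S] (B : Matrix (Fin m ⊕ Fin m) (Fin m ⊕ Fin m) S), B.transpose = -B → ∀ i, B i i = 0 := by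
    intro S _ _ _ B hB i
    have := congrFun (congrFun hB i) i
    rw [Matrix.transpose_apply, Matrix.neg_apply] at this
    exact CharZero.eq_neg_self_iff.1 this
  constructor
  · let G : Matrix (Fin m ⊕ Fin m) (Fin m ⊕ Fin m) (MvPolynomial ((Fin m ⊕ Fin m) × (Fin m ⊕ Fin m)) (Polynomial ℂ)) :=
      (Matrix.fromBlocks 0 1 (-1) 0) * (Matrix.scalar (Fin m ⊕ Fin m) (MvPolynomial.C (Polynomial.X : Polynomial ℂ)) -
        Matrix.of fun i j => MvPolynomial.X (i, j))
    refine ⟨MvPolynomial.aeval (fun ij : (Fin m ⊕ Fin m) × (Fin m ⊕ Fin m) => G ij.1 ij.2) pf, fun A hA => ?_⟩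
    let ev : MvPolynomial ((Fin m ⊕ Fin m) × (Fin m ⊕ Fin m)) (Polynomial ℂ) →+* Polynomial ℂ :=
      MvPolynomial.eval (fun ij => Polynomial.C (A ij.1 ij.2))
    have hG : ev.mapMatrix G = (Matrix.fromBlocks 0 1 (-1) 0) * A.charmatrix := by
      rw [map_mul]
      congr 1
      · ext i j; rcases i with i | i <;> rcases j with j | j <;> simp [Matrix.one_apply, apply_ite ev]
      · ext i j
        rcases eq_or_ne i j with rfl | hij
        · simp [ev, Matrix.charmatrix_apply]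
        · simp [ev, Matrix.charmatrix_apply, hij, Matrix.diagonal_apply_ne _ hij]
    have hT : (ev.mapMatrix G).transpose = -(ev.mapMatrix G) := by
      rw [hG, Matrix.transpose_mul, Matrix.charmatrix, Matrix.transpose_sub]
      simp only [RingHom.mapMatrix_apply, Matrix.scalar_apply, Matrix.diagonal_transpose, Matrix.fromBlocks_transpose,
        Matrix.transpose_zero, Matrix.transpose_one, Matrix.transpose_neg, Matrix.transpose_map]
      have hJ : (Matrix.fromBlocks 0 (-1) 1 0 : Matrix (Fin m ⊕ Fin m) (Fin m ⊕ Fin m) (Polynomial ℂ)) = -(Matrix.fromBlocks 0 1 (-1) 0) := by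
        simp [Matrix.fromBlocks_neg]
      have hA' : (A.transpose.map Polynomial.C) * (Matrix.fromBlocks 0 1 (-1) 0 : Matrix (Fin m ⊕ Fin m) (Fin m ⊕ Fin m) (Polynomial ℂ)) =
          (Matrix.fromBlocks 0 1 (-1) 0) * A.map Polynomial.C := by
        have := congrArg (fun M : Matrix (Fin m ⊕ Fin m) (Fin m ⊕ Fin m) ℂ => M.map (Polynomial.C : ℂ →+* Polynomial ℂ)) hA
        have hJm : ((Matrix.fromBlocks 0 1 (-1) 0 : Matrix (Fin m ⊕ Fin m) (Fin m ⊕ Fin m) ℂ)).map Polynomial.C =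
            Matrix.fromBlocks 0 1 (-1) 0 := by
          ext i j; rcases i with i | i <;> rcases j with j | j <;> simp [Matrix.one_apply, apply_ite Polynomial.C]
        simp only [Matrix.map_mul, hJm] at this
        exact this
      rw [hJ, mul_neg, sub_mul, ← Matrix.transpose_map, hA', mul_sub]
      congr 2
      exact (Matrix.scalar_commute (Polynomial.X : Polynomial ℂ) (fun r => Commute.all _ r) _).eq
    have hsq := hpf (Polynomial ℂ) _ hT (hdiag _ _ hT)
    rw [hG, Matrix.det_mul, hJdet, one_mul] at hsq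
    rw [Matrix.charpoly, hsq, ← hG]
    congr 1
    show MvPolynomial.aeval (fun ij : (Fin m ⊕ Fin m) × (Fin m ⊕ Fin m) => ev (G ij.1 ij.2)) pf = ev (MvPolynomial.aeval (fun ij : (Fin m ⊕ Fin m) × (Fin m ⊕ Fin m) => G ij.1 ij.2) pf)
    exact (AlgHom.congr_fun (MvPolynomial.comp_aeval (fun ij : (Fin m ⊕ Fin m) × (Fin m ⊕ Fin m) => G ij.1 ij.2) ev.toIntAlgHom) pf).symm
  · let G : Matrix (Fin m ⊕ Fin m) (Fin m ⊕ Fin m) (MvPolynomial ((Fin m ⊕ Fin m) × (Fin m ⊕ Fin m)) ℂ) :=
      (Matrix.fromBlocks 0 1 (-1) 0) * Matrix.of fun i j => MvPolynomial.X (i, j)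
    refine ⟨MvPolynomial.aeval (fun ij : (Fin m ⊕ Fin m) × (Fin m ⊕ Fin m) => G ij.1 ij.2) pf, fun A hA => ?_⟩
    let ev : MvPolynomial ((Fin m ⊕ Fin m) × (Fin m ⊕ Fin m)) ℂ →+* ℂ := MvPolynomial.eval (fun ij => A ij.1 ij.2)
    have hG : ev.mapMatrix G = (Matrix.fromBlocks 0 1 (-1) 0) * A := by
      rw [map_mul]
      congr 1
      · ext i j; rcases i with i | i <;> rcases j with j | j <;> simp [Matrix.one_apply, apply_ite ev]
      · ext i j; simp [ev]
    have hT : (ev.mapMatrix G).transpose = -(ev.mapMatrix G) := by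
      rw [hG, Matrix.transpose_mul, Matrix.fromBlocks_transpose]
      have hJ : (Matrix.fromBlocks 0 (-1) 1 0 : Matrix (Fin m ⊕ Fin m) (Fin m ⊕ Fin m) ℂ) = -(Matrix.fromBlocks 0 1 (-1) 0) := by
        simp [Matrix.fromBlocks_neg]
      simp only [Matrix.transpose_zero, Matrix.transpose_one, Matrix.transpose_neg]
      rw [hJ, mul_neg, hA]
    have hsq := hpf ℂ _ hT (hdiag _ _ hT)
    rw [hG, Matrix.det_mul, hJdet, one_mul] at hsq
    rw [hsq, ← hG]
    congr 1
    show MvPolynomial.aeval (fun ij : (Fin m ⊕ Fin m) × (Fin m ⊕ Fin m) => ev (G ij.1 ij.2)) pf = ev (MvPolynomial.aeval (fun ij : (Fin m ⊕ Fin m) × (Fin m ⊕ Fin m) => G ij.1 ij.2) pf)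
    exact (AlgHom.congr_fun (MvPolynomial.comp_aeval (fun ij : (Fin m ⊕ Fin m) × (Fin m ⊕ Fin m) => G ij.1 ij.2) ev.toIntAlgHom) pf).symm

end Groth.Agent.S15155
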