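import Groth.Statements.S15225
import Groth.Agent.Lib.CurveHiggs
import Groth.Agent.Lib.CurveSection
import Groth.Agent.Lib.CurveDualPrep
import Groth.Agent.CurveFF.Omega
import Groth.Agent.H23.PicMul

set_option autoImplicit false
open CategoryTheory CategoryTheory.Limits AlgebraicGeometry MonoidalCategory
open VBCurve

namespace Groth.Agent.S15225

/-- Let X be a smooth proper integral curve over ℂ of genus at least 2 which is non-hyperelliptic (no
invertible module of degree 2 has two independent global sections), K a module isomorphic to its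
sheaf of differentials, and E a slope-stable finite locally free module of rank 2 and degree 0 or 1
(degrees are χ(−) minus rank times χ(O_X)). Call E very stable when every O_X-linear map α : E → E ⊗
K with α ∘ α = 0 (the composite E → E ⊗ K → (E ⊗ K) ⊗ K) is zero; for rank 2 this is the absence of
non-zero nilpotent K-valued endomorphisms. Then E fails to be very stable exactly when E has a line
subbundle L, i.e. an invertible submodule whose quotient E/L is invertible, together with a non-zero
O_X-linear map E/L → L ⊗ K. (With det E = Λ and L the dual of a line bundle L₀ the space of such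
maps is H^0(K ⊗ L₀^{-2} ⊗ Λ^{-1}), which is how the criterion is usually written.) -/
theorem result
    (X : Scheme.{0}) [X.Over (Spec (CommRingCat.of ℂ))] [IsIntegral X]
    [IsProper (X ↘ Spec (CommRingCat.of ℂ))] [Smooth (X ↘ Spec (CommRingCat.of ℂ))]
    (hdim : topologicalKrullDim X = 1) (hg : 2 ≤ Curv2.genus ℂ X)
    (hnh : ∀ M : X.Modules, PicF.IsInvertible M → Curv2.deg ℂ X M 1 = 2 →
      Module.finrank ℂ (Coh.HH X M 0) ≤ 1)
    (K : X.Modules) (eK : K ≅ Omega.sheaf (X ↘ Spec (CommRingCat.of ℂ)))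
    (E : X.Modules) (hE : FlatMod.IsFinLocFreeOfRank 2 E)
    (hdegE : Curv2.deg ℂ X E 2 = 0 ∨ Curv2.deg ℂ X E 2 = 1)
    (hst : ModFun.IsSlopeStable ℂ X E 2) :
    (¬ ∀ α : E ⟶ CohB1.tensorMod E K,
        α ≫ (CohB1.sheafifyMod X).map
          (MonoidalCategoryStruct.whiskerRight (C := CohB1.PMod X) α.val (CohB1.toPMod K)) = 0 → α = 0) ↔
      ∃ (L : X.Modules) (j : L ⟶ E), PicF.IsInvertible L ∧ Mono j ∧ PicF.IsInvertible (cokernel j) ∧
        ∃ β : cokernel j ⟶ CohB1.tensorMod L K, β ≠ 0 := by
  haveI := Groth.Agent.CurveCohLib.isNoetherian_of_proper (k := ℂ) (X := X)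
  have hK : PicF.IsInvertible K := Groth.Agent.H23.PicMul.isInvertible_of_iso eK.symm
    (Groth.Agent.CurveFF.isInvertible_Ωm ℂ X hdim)
  have hKf := Groth.Agent.CurveStable.isFinLocFree_of_rank (Groth.Agent.InvEnd.isFinLocFreeOfRank_one hK)
  have hEf := Groth.Agent.CurveStable.isFinLocFree_of_rank hE
  have hEc := Groth.Agent.CurveStable.coh_of_free ℂ hEf
  constructor
  · intro h
    push Not at h
    obtain ⟨α, hα, hα0⟩ := h
    let α₁ : E ⟶ (DCoh.tensorBi.obj E).obj K := α
    have hα₁ : α₁ ≫ Groth.Agent.CurveHiggs.twist K α₁ = 0 := hα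
    have hW := Groth.Agent.CurveHiggs.isFinLocFree_twist hK hEf
    obtain ⟨I, π, f, -, -, -, hker, -, hr, -, hpos, -⟩ := Groth.Agent.CurveStable.exists_decomp ℂ hdim.le hEf hW α₁
    have hpos' := hpos hα0
    rw [Groth.Agent.CurveBundle.rk_eq hE] at hr
    let j := kernel.ι α₁
    have hker0 : Groth.Agent.CurveBundle.rk (kernel α₁) = 1 := by
      by_contra hne
      haveI : Mono α₁ := Preadditive.mono_of_isZero_kernel α₁
        (Groth.Agent.CurveBundle.isZero_of_rk_zero hker (by omega))
      haveI := Groth.Agent.CurveHiggs.mono_twist hKf α₁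
      have h1 : α₁ = 0 := by rw [← cancel_mono (Groth.Agent.CurveHiggs.twist K α₁), zero_comp]; exact hα₁
      exact hα0 h1
    let d : cokernel j ⟶ (DCoh.tensorBi.obj E).obj K := Abelian.factorThruCoimage α₁
    haveI : Mono d := inferInstanceAs (Mono (Abelian.factorThruCoimage α₁))
    haveI := Groth.Agent.CurveHiggs.mono_twist hKf d
    have hd : cokernel.π j ≫ d = α₁ := Abelian.coimage.fac α₁
    have hkc := Groth.Agent.CurveStable.coh_of_free ℂ hker
    have hQc : Coh.IsCoh (cokernel j) := Groth.Agent.QCoh.isCoh_cokernel hkc.1 hEc j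
    have hQ := Groth.Agent.CurveBundle.isFinLocFree_of_mono ℂ hdim.le hQc d hW
    have hS := Groth.Agent.CurveSlope.shortExact_cokernel_of_mono j
    have e1 := Groth.Agent.CurveSlope.rk_add_coh ℂ _ _ _ hS hEc
    rw [Groth.Agent.CurveBundle.rk_eq hE, hker0] at e1
    have hπ : α₁ ≫ Groth.Agent.CurveHiggs.twist K (cokernel.π j) = 0 := by
      rw [← cancel_mono (Groth.Agent.CurveHiggs.twist K d), zero_comp, Category.assoc,
        ← Groth.Agent.CurveHiggs.twist_comp, hd]
      exact hα₁
    obtain ⟨y, hy⟩ := Groth.Agent.CurveHiggs.exists_lift hKf j (cokernel.π j) _ hS α₁ hπ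
    haveI := Groth.Agent.CurveHiggs.mono_twist hKf j
    have hjy : j ≫ y = 0 := by
      rw [← cancel_mono (Groth.Agent.CurveHiggs.twist K j), Category.assoc, hy, zero_comp]
      exact kernel.condition α₁
    refine ⟨kernel α₁, j,
      Groth.Agent.CurveDuality.isInvertible_of_rank_one (hker0 ▸ Groth.Agent.CurveBundle.isFinLocFreeOfRank_rk hker),
      inferInstance, Groth.Agent.CurveDuality.isInvertible_of_rank_one
        ((show Groth.Agent.CurveBundle.rk (cokernel j) = 1 by omega) ▸ Groth.Agent.CurveBundle.isFinLocFreeOfRank_rk hQ),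
      cokernel.desc j y hjy, fun h0 => hα0 ?_⟩
    have hy0 : y = 0 := by
      rw [← cokernel.π_desc j y hjy]
      exact (congrArg (cokernel.π j ≫ ·) h0).trans comp_zero
    exact (hy.symm.trans (by rw [hy0, zero_comp]) : α₁ = 0)
  · rintro ⟨L, j, hL, hj, hQ, β, hβ⟩ h
    haveI := hj
    let β₁ : cokernel j ⟶ (DCoh.tensorBi.obj L).obj K := β
    haveI := Groth.Agent.CurveHiggs.mono_twist hKf j
    let α : E ⟶ (DCoh.tensorBi.obj E).obj K := cokernel.π j ≫ β₁ ≫ Groth.Agent.CurveHiggs.twist K j
    have hjα : j ≫ α = 0 := cokernel.condition_assoc j _ |>.trans zero_comp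
    have hα : α ≫ Groth.Agent.CurveHiggs.twist K α = 0 := by
      show (cokernel.π j ≫ β₁ ≫ Groth.Agent.CurveHiggs.twist K j) ≫ Groth.Agent.CurveHiggs.twist K α = 0
      rw [Category.assoc, Category.assoc, ← Groth.Agent.CurveHiggs.twist_comp, hjα,
        Groth.Agent.CurveHiggs.twist_zero, comp_zero, comp_zero]
    have h0 : α = 0 := h α hα
    have hβ0 : β₁ = 0 := by
      rw [← cancel_mono (Groth.Agent.CurveHiggs.twist K j), ← cancel_epi (cokernel.π j), zero_comp, comp_zero]
      exact h0
    exact hβ hβ0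

end Groth.Agent.S15225
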