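import Groth.Statements.S15226
import Groth.Agent.Lib.CurveHiggs
import Groth.Agent.Lib.CurveSection
import Groth.Agent.Lib.CurveDualPrep
import Groth.Agent.CurveFF.Omega
import Groth.Agent.H23.PicMul

set_option autoImplicit false
open CategoryTheory CategoryTheory.Limits AlgebraicGeometry MonoidalCategory
open VBCurve

namespace Groth.Agent.S15226

/-- Let X be a smooth proper integral curve over ℂ of genus at least 2 which is non-hyperelliptic, K a
module isomorphic to its sheaf of differentials, and E a slope-stable finite locally free module of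
rank 2 and degree 0 or 1 which is very stable: every O_X-linear α : E → E ⊗ K with α ∘ α = 0 (as a
map E → (E ⊗ K) ⊗ K) vanishes. Let L be an invertible module occurring as a line subbundle of E of
maximal degree (a monomorphism L → E with invertible quotient exists, and every invertible module
mapping monomorphically into E has degree at most deg L). Then for every non-zero s : L → E and
every non-zero t : E → L ⊗ K the composite L → E → L ⊗ K is non-zero; in other words the pairing
Hom(L, E) × Hom(E, L ⊗ K) → Hom(L, L ⊗ K) ≅ H^0(K) vanishes on no pair of non-zero elements. -/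
theorem result
    (X : Scheme.{0}) [X.Over (Spec (CommRingCat.of ℂ))] [IsIntegral X]
    [IsProper (X ↘ Spec (CommRingCat.of ℂ))] [Smooth (X ↘ Spec (CommRingCat.of ℂ))]
    (hdim : topologicalKrullDim X = 1) (hg : 2 ≤ Curv2.genus ℂ X)
    (hnh : ∀ M : X.Modules, PicF.IsInvertible M → Curv2.deg ℂ X M 1 = 2 →
      Module.finrank ℂ (Coh.HH X M 0) ≤ 1)
    (K : X.Modules) (eK : K ≅ Omega.sheaf (X ↘ Spec (CommRingCat.of ℂ)))
    (E : X.Modules) (hE : FlatMod.IsFinLocFreeOfRank 2 E)
    (hdegE : Curv2.deg ℂ X E 2 = 0 ∨ Curv2.deg ℂ X E 2 = 1)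
    (hst : ModFun.IsSlopeStable ℂ X E 2)
    (hvs : ∀ α : E ⟶ CohB1.tensorMod E K,
        α ≫ (CohB1.sheafifyMod X).map
          (MonoidalCategoryStruct.whiskerRight (C := CohB1.PMod X) α.val (CohB1.toPMod K)) = 0 → α = 0)
    (L : X.Modules) (hL : PicF.IsInvertible L)
    (hmax : ∃ j : L ⟶ E, Mono j ∧ PicF.IsInvertible (cokernel j) ∧
      ∀ (M : X.Modules) (i : M ⟶ E), PicF.IsInvertible M → Mono i → Curv2.deg ℂ X M 1 ≤ Curv2.deg ℂ X L 1)
    (s : L ⟶ E) (hs : s ≠ 0) (t : E ⟶ CohB1.tensorMod L K) (ht : t ≠ 0) :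
    s ≫ t ≠ 0 := by
  haveI := Groth.Agent.CurveCohLib.isNoetherian_of_proper (k := ℂ) (X := X)
  have hK : PicF.IsInvertible K := Groth.Agent.H23.PicMul.isInvertible_of_iso eK.symm
    (Groth.Agent.CurveFF.isInvertible_Ωm ℂ X hdim)
  have hKf := Groth.Agent.CurveStable.isFinLocFree_of_rank (Groth.Agent.InvEnd.isFinLocFreeOfRank_one hK)
  have hEf := Groth.Agent.CurveStable.isFinLocFree_of_rank hE
  have hEc := Groth.Agent.CurveStable.coh_of_free ℂ hEf
  let t₁ : E ⟶ (DCoh.tensorBi.obj L).obj K := t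
  have hs' : Mono s := Groth.Agent.CurveSection.mono_of_ne_zero ℂ hdim.le
    (Groth.Agent.CurveStable.isFinLocFree_of_rank (Groth.Agent.InvEnd.isFinLocFreeOfRank_one hL))
    (Groth.Agent.CurveBundle.rk_eq (Groth.Agent.InvEnd.isFinLocFreeOfRank_one hL)) hEf s hs
  haveI := Groth.Agent.CurveHiggs.mono_twist hKf s
  intro h
  have h₁ : s ≫ t₁ = 0 := h
  let α : E ⟶ (DCoh.tensorBi.obj E).obj K := t₁ ≫ Groth.Agent.CurveHiggs.twist K s
  have hα : α ≫ Groth.Agent.CurveHiggs.twist K α = 0 := by
    have h2 : s ≫ α = 0 := by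
      show s ≫ t₁ ≫ _ = 0
      rw [← Category.assoc, h₁, zero_comp]
    show (t₁ ≫ Groth.Agent.CurveHiggs.twist K s) ≫ Groth.Agent.CurveHiggs.twist K α = 0
    rw [Category.assoc, ← Groth.Agent.CurveHiggs.twist_comp, h2, Groth.Agent.CurveHiggs.twist_zero, comp_zero]
  have h0 : α = 0 := hvs α hα
  refine ht ?_
  have h1 : t₁ = 0 := by
    rw [← cancel_mono (Groth.Agent.CurveHiggs.twist K s), zero_comp]
    exact h0
  exact h1

end Groth.Agent.S15226
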