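import Groth.Statements.S15228
import Groth.Agent.CurveExt.Secant
import Groth.Agent.Lib.CurveEnd
import Groth.Agent.Lib.CurveSection

set_option autoImplicit false
open CategoryTheory CategoryTheory.Limits AlgebraicGeometry MonoidalCategory
open VBCurve

namespace Groth.Agent.S15228

/-- Let X be a smooth proper integral curve over ℂ of genus g ≥ 3 which is non-hyperelliptic, K a module
isomorphic to its sheaf of differentials, and N an invertible module of degree g with h^0(N) ≤ 1, so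
that the complete linear system of K ⊗ N maps X to a projective space of dimension 2g − 2 as a curve
of degree 3g − 2. An effective divisor D of degree d, recorded through its invertible ideal sheaf I
⊂ O_X (of degree −d), is a d-secant when its linear span has dimension d − 2, i.e. h^0(I ⊗ K ⊗ N) =
h^0(K ⊗ N) − d + 1. Then X has exactly one g-secant: some invertible ideal I ⊂ O_X of degree −g
satisfies h^0(I ⊗ K ⊗ N) + (g − 1) = h^0(K ⊗ N), and any two such ideals are equal as subobjects of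
O_X (an isomorphism between them commutes with the inclusions). -/
theorem result
    (X : Scheme.{0}) [X.Over (Spec (CommRingCat.of ℂ))] [IsIntegral X]
    [IsProper (X ↘ Spec (CommRingCat.of ℂ))] [Smooth (X ↘ Spec (CommRingCat.of ℂ))]
    (hdim : topologicalKrullDim X = 1) (hg : 2 ≤ Curv2.genus ℂ X)
    (hnh : ∀ M : X.Modules, PicF.IsInvertible M → Curv2.deg ℂ X M 1 = 2 →
      Module.finrank ℂ (Coh.HH X M 0) ≤ 1)
    (K : X.Modules) (eK : K ≅ Omega.sheaf (X ↘ Spec (CommRingCat.of ℂ)))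
    (g : ℕ) (hg3 : 3 ≤ g) (hgen : Curv2.genus ℂ X = g)
    (N : X.Modules) (hN : PicF.IsInvertible N) (hdN : Curv2.deg ℂ X N 1 = (g : ℤ))
    (h0 : Module.finrank ℂ (Coh.HH X N 0) ≤ 1) :
    (∃ (I : X.Modules) (ι : I ⟶ Coh.structureModule X),
        PicF.IsInvertible I ∧ Mono ι ∧ Curv2.deg ℂ X I 1 = -((g : ℤ)) ∧
        Module.finrank ℂ (Coh.HH X (CohB1.tensorMod I (CohB1.tensorMod K N)) 0) + (g - 1) =
          Module.finrank ℂ (Coh.HH X (CohB1.tensorMod K N) 0)) ∧
      ∀ (I I' : X.Modules) (ι : I ⟶ Coh.structureModule X) (ι' : I' ⟶ Coh.structureModule X),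
        (PicF.IsInvertible I ∧ Mono ι ∧ Curv2.deg ℂ X I 1 = -((g : ℤ)) ∧
        Module.finrank ℂ (Coh.HH X (CohB1.tensorMod I (CohB1.tensorMod K N)) 0) + (g - 1) =
          Module.finrank ℂ (Coh.HH X (CohB1.tensorMod K N) 0)) →
        (PicF.IsInvertible I' ∧ Mono ι' ∧ Curv2.deg ℂ X I' 1 = -((g : ℤ)) ∧
        Module.finrank ℂ (Coh.HH X (CohB1.tensorMod I' (CohB1.tensorMod K N)) 0) + (g - 1) =
          Module.finrank ℂ (Coh.HH X (CohB1.tensorMod K N) 0)) →
        ∃ φ : I' ≅ I, φ.hom ≫ ι = ι' := by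
  haveI : ConnectedSpace X := inferInstance
  have hK : PicF.IsInvertible K := Groth.Agent.H23.PicMul.isInvertible_of_iso eK.symm
    (Groth.Agent.CurveFF.isInvertible_Ωm ℂ X hdim)
  have hKN : PicF.IsInvertible (CohB1.tensorMod K N) := Groth.Agent.H23.PicMul.isInvertible_tensor hK hN
  have hO := Groth.Agent.CurveCohLib.finrank_h0_eq_one ℂ X
  have hdK : Curv2.deg ℂ X K 1 = 2 * (g : ℤ) - 2 := by
    rw [Groth.Agent.CurveRR.deg_congr ℂ eK, ← hgen]
    exact (Groth.Agent.CurveBC.canonical_invariants ℂ X hdim hO).2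
  have hdKN : Curv2.deg ℂ X (CohB1.tensorMod K N) 1 = Curv2.deg ℂ X K 1 + Curv2.deg ℂ X N 1 :=
    Groth.Agent.CurveRR.deg_tensor ℂ hdim hK hN
  have hKN0 := Groth.Agent.CurveExt.h0_line ℂ hdim hKN (by rw [hdKN, hdK, hdN, hgen]; omega)
  rw [hdKN, hdK, hdN, hgen] at hKN0
  haveI := Groth.Agent.CurveCohLib.isNoetherian_of_proper (k := ℂ) (X := X)
  have hNf := Groth.Agent.CurveStable.isFinLocFree_of_rank (Groth.Agent.InvEnd.isFinLocFreeOfRank_one hN)
  have hN0 : Module.finrank ℂ (Coh.HH X N 0) = 1 := by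
    have h1 := Groth.Agent.CurveSlope.euler_le_h0 ℂ hdim.le (Groth.Agent.CurveStable.coh_of_free ℂ hNf)
    have h2 : Curv2.deg ℂ X N 1 = (g : ℤ) := hdN
    unfold Curv2.deg at h2
    rw [Groth.Agent.CurveRR.euler_structureModule ℂ hdim.le, hgen] at h2
    push_cast at h2
    omega
  refine ⟨?_, ?_⟩
  · obtain ⟨D, hD, hdD, ⟨d⟩⟩ := Groth.Agent.CurveDuality.exists_inverse_deg ℂ hdim hN
    obtain ⟨s, hs⟩ := Groth.Agent.CurveRR.exists_hom_ne_zero ℂ (P := N) (by rw [hN0]; exact one_ne_zero)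
    have hD1 := Groth.Agent.InvEnd.isFinLocFreeOfRank_one hD
    have hO1 := Groth.Agent.InvEnd.isFinLocFreeOfRank_one (Groth.Agent.CurveDeg.isInvertible_structureModule (X := X))
    haveI := Groth.Agent.CurveSection.mono_of_ne_zero ℂ hdim.le (Groth.Agent.CurveStable.isFinLocFree_of_rank hO1)
      (Groth.Agent.CurveBundle.rk_eq hO1) hNf s hs
    haveI : Mono ((DCoh.tensorBi.obj D).map s) :=
      (Groth.Agent.CurveTensor.shortExact_tensor (Groth.Agent.CurveStable.isFinLocFree_of_rank hD1) s (cokernel.π s)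
        (cokernel.condition s) (Groth.Agent.CurveSlope.shortExact_cokernel_of_mono s)).mono_f
    refine ⟨D, (Groth.Agent.KFlatLib.tensorUnitIso D).inv ≫ (DCoh.tensorBi.obj D).map s ≫
      (Groth.Agent.CurveTensor.commIso D N ≪≫ d).hom, hD, inferInstance, by rw [hdD, hdN], ?_⟩
    obtain ⟨c⟩ := Groth.Agent.H23.PicMul.comm K N
    obtain ⟨a⟩ := Groth.Agent.H23.PicMul.assoc D N K
    obtain ⟨c'⟩ := Groth.Agent.H23.PicMul.comm D N
    obtain ⟨c''⟩ := Groth.Agent.H23.PicMul.comm (Coh.structureModule X) K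
    obtain ⟨u⟩ := Groth.Agent.H23.PicMul.unit K
    have d' : CohB1.tensorMod N D ≅ Coh.structureModule X := d
    rw [Groth.Agent.SlopeBound.finrank_h0_congr ℂ (PicGrp.tensorModIso (Iso.refl D) c ≪≫ a.symm ≪≫
      PicGrp.tensorModIso (c' ≪≫ d') (Iso.refl K) ≪≫ c'' ≪≫ u ≪≫ eK)]
    have h1 := (Groth.Agent.CurveBC.canonical_invariants ℂ X hdim hO).1
    omega
  · rintro I I' ι ι' ⟨hI, hι, hdI, hsI⟩ ⟨hI', hι', hdI', hsI'⟩
    haveI := hι
    haveI := hι'
    obtain ⟨e⟩ := Groth.Agent.CurveExt.nonempty_iso_of_secant ℂ hdim eK hI hN (by rw [hdI, hdN]; ring)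
      (by rw [hgen]; omega)
    obtain ⟨e'⟩ := Groth.Agent.CurveExt.nonempty_iso_of_secant ℂ hdim eK hI' hN (by rw [hdI', hdN]; ring)
      (by rw [hgen]; omega)
    refine Groth.Agent.CurveExt.exists_iso_comp_eq ℂ hdim hI' e e' hN0 ι ?_ ι' ?_
    · exact fun h => Groth.Agent.CurveEnd.not_isZero I 1 one_pos (Groth.Agent.InvEnd.isFinLocFreeOfRank_one hI)
        (IsZero.of_mono_eq_zero ι h)
    · exact fun h => Groth.Agent.CurveEnd.not_isZero I' 1 one_pos (Groth.Agent.InvEnd.isFinLocFreeOfRank_one hI')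
        (IsZero.of_mono_eq_zero ι' h)

end Groth.Agent.S15228
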