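import Groth.Statements.S15248
import Groth.Agent.FanoLib.SeqDim.Forms
-- import your own Groth.Agent.* helpers here

set_option autoImplicit false
set_option backward.isDefEq.respectTransparency false
set_option backward.isDefEq.respectTransparency.types false
set_option linter.style.haveILetI false
set_option maxHeartbeats 1000000
open Fano

namespace Groth.Agent.S15248
open Groth.Agent

/-- Over ℂ, let m and d be integers with 1 ≤ d ≤ m − 2, and consider sequences (X_1, …, X_d) of
hypersurfaces of projective m-space with X_j of degree j. The sequences whose intersection X_1 ∩ ⋯ ∩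
X_d has dimension greater than m − d form a locus of codimension greater than m in the product of
the projective spaces of hypersurfaces of degrees 1, …, d. Here a sequence is a point G of the
affine space of tuples of forms in the m + 1 homogeneous coordinates with G_j of degree j (zero
forms allowed), the dimension condition reads dim ℂ[x_0, …, x_m]/(G_1, …, G_d) ≥ m + 2 − d, and the
conclusion is that this locus has codimension at least m + 1 in that affine space (the ideal of
polynomial functions vanishing on it has height at least m + 1). The tuples with some G_j = 0 belong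
to the locus and form a closed subset of codimension exactly m + 1, and away from them the locus is
the inverse image of the projective one, so this affine form carries the same content as the
projective one. -/
theorem result (m d : ℕ) (hd : 1 ≤ d) (hdm : d + 2 ≤ m) :
    LefPen.CodimGE ℂ
      {G : (j : Fin d) → LefPen.Form m ℂ (j.1 + 1) |
        ((m + 2 - d : ℕ) : WithBot ℕ∞) ≤
          ringKrullDim (MvPolynomial (Fin (m + 1)) ℂ ⧸
            Ideal.span (Set.range fun j : Fin d => (G j).1))}
      (m + 1) := by
  classical
  obtain ⟨eq, heq⟩ := FanoLib.SeqDim.exists_equiv (k := ℂ) m d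
  refine FanoLib.SeqDim.codimGE_of_forall_prime eq _ (m + 1) fun P hP => ?_
  haveI := hP.1.1
  let A := MvPolynomial (FanoLib.SeqDim.Idx m d) ℂ
  let φ : A →ₐ[ℂ] FanoLib.SeqDim.GenPt P := IsScalarTower.toAlgHom ℂ A (FanoLib.SeqDim.GenPt P)
  obtain ⟨S, hS, halg⟩ := FanoLib.SeqDim.exists_finset_of_bad (k := ℂ) (F := FanoLib.SeqDim.GenPt P)
    (by omega : d ≤ m) (fun i => φ (MvPolynomial.X i)) fun e he y hy honly => by
    obtain ⟨v, hv0, hv⟩ := FanoLib.SeqDim.exists_zero_generic _ hP
      (Sum.elim (FanoLib.SeqDim.tuple fun i => (MvPolynomial.X i : A)) fun a => MvPolynomial.map (algebraMap ℂ A) (y a))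
      (by
        rintro _ ⟨G, hG, rfl⟩
        by_contra hno
        push Not at hno
        have hG' : ((m + 2 - d : ℕ) : WithBot ℕ∞) ≤
            ringKrullDim (MvPolynomial (Fin (m + 1)) ℂ ⧸ Ideal.span (Set.range fun j : Fin d => (G j).1)) := hG
        have h1 := hG'.trans (FanoLib.SeqDim.ringKrullDim_le_of_only
          (G := fun j : Fin d => (G j).1) (D := fun j => j.1 + 1)
          (fun j => (MvPolynomial.mem_homogeneousSubmodule _ _).1 (G j).2) hy fun v hvG hvy => by
            by_contra hv0
            obtain ⟨i, hi⟩ := hno v hv0
            apply hi
            rcases i with j | a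
            · simp only [Sum.elim_inl, FanoLib.SeqDim.map_tuple, MvPolynomial.eval_X]
              rw [heq]; exact hvG j
            · rw [Sum.elim_inr]
              erw [MvPolynomial.map_map]
              rw [show (MvPolynomial.eval (eq G)).comp (algebraMap ℂ A) = RingHom.id ℂ from
                RingHom.ext fun z => MvPolynomial.eval_C z, MvPolynomial.map_id]
              exact hvy a)
        have : m + 2 - d ≤ e := by exact_mod_cast h1
        omega)
    refine hv0 (honly v (fun j => ?_) fun a => ?_)
    · have := hv (Sum.inl j)
      rwa [Sum.elim_inl, FanoLib.SeqDim.map_tuple] at this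
    · have := hv (Sum.inr a)
      rwa [Sum.elim_inr, MvPolynomial.map_map, ← IsScalarTower.algebraMap_eq] at this
  exact FanoLib.SeqDim.le_height_of_isAlgebraic P φ (FanoLib.SeqDim.ker_genPt P) S halg hS

end Groth.Agent.S15248
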