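import Groth.Statements.S15268
import Groth.Agent.HomFibre.Point
import Groth.Agent.PnPic.Over
import Groth.Agent.ChowX.QuasiProj
import Groth.Agent.RGLib.Lim8RelAmple
import Groth.Agent.AmpleX.RelAffine
set_option backward.isDefEq.respectTransparency false
set_option backward.isDefEq.respectTransparency.types false

set_option autoImplicit false
open CategoryTheory CategoryTheory.Limits AlgebraicGeometry
open Coherent

namespace Groth.Agent.S15268

/-- Over the complex numbers, let S be a separated scheme of finite type, X a closed subscheme of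
projective n-space over S which is flat over S and whose fibre X_t over every complex point t of S
is irreducible of dimension d, and ξ a section of X over S. Let E and F be coherent sheaves on X,
flat over S, such that for every complex point t of S, on the fibre X_t polarised by the pull-back
of O(1): the restrictions E_t and F_t are semistable of dimension d (nonzero, pure of dimension d,
reduced Hilbert polynomials of nonzero proper coherent subsheaves at most that of the sheaf for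
large arguments) with the same reduced Hilbert polynomial (r(F_t)·p_{E_t} = r(E_t)·p_{F_t}, r
denoting d! times the degree-d coefficient), and each of E_t, F_t has a filtration by coherent
subsheaves with stable d-dimensional successive quotients of that reduced Hilbert polynomial whose
associated graded sheaf is finite locally free on an open neighbourhood of the point ξ(t). Then
every morphism φ from E to F whose pull-back along ξ is the zero map is zero. (The published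
statement is for modules over a sheaf of rings of differential operators and imposes the fibre
conditions at the closed points of the base; this row is the case of the structure sheaf, with the
conditions at complex points, which are the closed points here.) -/
theorem result
    (S : Scheme.{0}) (sS : S ⟶ Spec (CommRingCat.of ℂ)) [LocallyOfFiniteType sS] [QuasiCompact sS] [IsSeparated sS]
    (n : ℕ) (X : Scheme.{0}) (i : X ⟶ CohB1.ProjSpaceOver n S) [IsClosedImmersion i] [Flat (i ≫ (CohB1.ProjSpaceOver n S ↘ S))] (d : ℕ)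
    (ξ : S ⟶ X) (hξ : ξ ≫ (i ≫ (CohB1.ProjSpaceOver n S ↘ S)) = 𝟙 S)
    (hfib : ∀ (t : Spec (CommRingCat.of ℂ) ⟶ S), t ≫ sS = 𝟙 (Spec (CommRingCat.of ℂ)) →
      IrreducibleSpace (PicF.XT (i ≫ (CohB1.ProjSpaceOver n S ↘ S)) (Over.mk t)) ∧ topologicalKrullDim (PicF.XT (i ≫ (CohB1.ProjSpaceOver n S ↘ S)) (Over.mk t)) = (d : WithBot ℕ∞))
    (E F : X.Modules) (hE : Coh.IsCoh E) (hF : Coh.IsCoh F)
    (hEfl : FlatMod.IsFlatOver (i ≫ (CohB1.ProjSpaceOver n S ↘ S)) E) (hFfl : FlatMod.IsFlatOver (i ≫ (CohB1.ProjSpaceOver n S ↘ S)) F)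
    (hss : ∀ (t : Spec (CommRingCat.of ℂ) ⟶ S), t ≫ sS = 𝟙 (Spec (CommRingCat.of ℂ)) →
      @ShStab.IsSemistable ℂ _ (PicF.XT (i ≫ (CohB1.ProjSpaceOver n S ↘ S)) (Over.mk t)) ⟨PicF.XTproj (i ≫ (CohB1.ProjSpaceOver n S ↘ S)) (Over.mk t)⟩ ((Scheme.Modules.pullback (pullback.fst (i ≫ (CohB1.ProjSpaceOver n S ↘ S)) (Over.mk t).hom ≫ i)).obj (Twist.twistOver n S 1)) ((Scheme.Modules.pullback (pullback.fst (i ≫ (CohB1.ProjSpaceOver n S ↘ S)) (Over.mk t).hom)).obj E) d ∧
      @ShStab.IsSemistable ℂ _ (PicF.XT (i ≫ (CohB1.ProjSpaceOver n S ↘ S)) (Over.mk t)) ⟨PicF.XTproj (i ≫ (CohB1.ProjSpaceOver n S ↘ S)) (Over.mk t)⟩ ((Scheme.Modules.pullback (pullback.fst (i ≫ (CohB1.ProjSpaceOver n S ↘ S)) (Over.mk t).hom ≫ i)).obj (Twist.twistOver n S 1)) ((Scheme.Modules.pullback (pullback.fst (i ≫ (CohB1.ProjSpaceOver n S ↘ S)) (Over.mk t).hom)).obj F) d ∧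
      ∀ pE pF : Polynomial ℚ, @ShStab.IsHilbPoly ℂ _ (PicF.XT (i ≫ (CohB1.ProjSpaceOver n S ↘ S)) (Over.mk t)) ⟨PicF.XTproj (i ≫ (CohB1.ProjSpaceOver n S ↘ S)) (Over.mk t)⟩ ((Scheme.Modules.pullback (pullback.fst (i ≫ (CohB1.ProjSpaceOver n S ↘ S)) (Over.mk t).hom ≫ i)).obj (Twist.twistOver n S 1)) ((Scheme.Modules.pullback (pullback.fst (i ≫ (CohB1.ProjSpaceOver n S ↘ S)) (Over.mk t).hom)).obj E) pE →
        @ShStab.IsHilbPoly ℂ _ (PicF.XT (i ≫ (CohB1.ProjSpaceOver n S ↘ S)) (Over.mk t)) ⟨PicF.XTproj (i ≫ (CohB1.ProjSpaceOver n S ↘ S)) (Over.mk t)⟩ ((Scheme.Modules.pullback (pullback.fst (i ≫ (CohB1.ProjSpaceOver n S ↘ S)) (Over.mk t).hom ≫ i)).obj (Twist.twistOver n S 1)) ((Scheme.Modules.pullback (pullback.fst (i ≫ (CohB1.ProjSpaceOver n S ↘ S)) (Over.mk t).hom)).obj F) pF → StabCat.RedEq d pE pF)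
    (hLF : ∀ (t : Spec (CommRingCat.of ℂ) ⟶ S), t ≫ sS = 𝟙 (Spec (CommRingCat.of ℂ)) →
      (∃ sE : LTSeries (Subobject ((Scheme.Modules.pullback (pullback.fst (i ≫ (CohB1.ProjSpaceOver n S ↘ S)) (Over.mk t).hom)).obj E)), @ShStab.IsJHFiltration ℂ _ (PicF.XT (i ≫ (CohB1.ProjSpaceOver n S ↘ S)) (Over.mk t)) ⟨PicF.XTproj (i ≫ (CohB1.ProjSpaceOver n S ↘ S)) (Over.mk t)⟩ ((Scheme.Modules.pullback (pullback.fst (i ≫ (CohB1.ProjSpaceOver n S ↘ S)) (Over.mk t).hom ≫ i)).obj (Twist.twistOver n S 1)) ((Scheme.Modules.pullback (pullback.fst (i ≫ (CohB1.ProjSpaceOver n S ↘ S)) (Over.mk t).hom)).obj E) d sE ∧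
          ∀ x ∈ Set.range (PicF.secT (i ≫ (CohB1.ProjSpaceOver n S ↘ S)) ξ hξ (Over.mk t)).base, ∃ U : (PicF.XT (i ≫ (CohB1.ProjSpaceOver n S ↘ S)) (Over.mk t)).Opens, x ∈ U ∧ FlatMod.IsFinLocFree ((StabCat.grObj sE).restrict U.ι)) ∧
      (∃ sF : LTSeries (Subobject ((Scheme.Modules.pullback (pullback.fst (i ≫ (CohB1.ProjSpaceOver n S ↘ S)) (Over.mk t).hom)).obj F)), @ShStab.IsJHFiltration ℂ _ (PicF.XT (i ≫ (CohB1.ProjSpaceOver n S ↘ S)) (Over.mk t)) ⟨PicF.XTproj (i ≫ (CohB1.ProjSpaceOver n S ↘ S)) (Over.mk t)⟩ ((Scheme.Modules.pullback (pullback.fst (i ≫ (CohB1.ProjSpaceOver n S ↘ S)) (Over.mk t).hom ≫ i)).obj (Twist.twistOver n S 1)) ((Scheme.Modules.pullback (pullback.fst (i ≫ (CohB1.ProjSpaceOver n S ↘ S)) (Over.mk t).hom)).obj F) d sF ∧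
          ∀ x ∈ Set.range (PicF.secT (i ≫ (CohB1.ProjSpaceOver n S ↘ S)) ξ hξ (Over.mk t)).base, ∃ U : (PicF.XT (i ≫ (CohB1.ProjSpaceOver n S ↘ S)) (Over.mk t)).Opens, x ∈ U ∧ FlatMod.IsFinLocFree ((StabCat.grObj sF).restrict U.ι)))
    (φ : E ⟶ F) (hφ : (Scheme.Modules.pullback ξ).map φ = 0) : φ = 0 := by
  haveI : IsLocallyNoetherian S := LocallyOfFiniteType.isLocallyNoetherian sS
  haveI : IsProper (CohB1.ProjSpaceOver n S ↘ S) := Groth.Agent.PnPic.isProper_toBase n S
  let f := i ≫ (CohB1.ProjSpaceOver n S ↘ S)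
  haveI : IsProper f := inferInstanceAs (IsProper (i ≫ _))
  haveI : IsLocallyNoetherian X := LocallyOfFiniteType.isLocallyNoetherian f
  haveI : CompactSpace S := QuasiCompact.compactSpace_of_compactSpace sS
  let A₀ := (Scheme.Modules.pullback i).obj (Twist.twistOver n S 1)
  have hA₀ : RelAmple.IsRelAmple f A₀ :=
    Groth.Agent.AmpleX.isRelAmple_pullback_embedding _ i i.isEmbedding (Groth.Agent.ChowX.isRelAmple_twistOver n S)
  -- flatness along the section
  let W : Set X := {x | ∃ (U : X.Opens) (m : ℕ), x ∈ U ∧ Nonempty (F.restrict U.ι ≅ FlatMod.freeMod (↑U) m)}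
  have hWo : IsOpen W := isOpen_iff_forall_mem_open.2 fun x ⟨U, m, hx, hm⟩ =>
    ⟨U, fun y hy => ⟨U, m, hy, hm⟩, U.2, hx⟩
  have hpre : ξ.base ⁻¹' W = Set.univ := by
    by_contra hne
    obtain ⟨s, hs, hsc⟩ := ((hWo.preimage ξ.continuous).isClosed_compl).exists_closed_singleton
      (Set.nonempty_compl.2 hne)
    obtain ⟨t, ht, hts⟩ := Groth.Agent.HomFibre.exists_rational_point sS hsc
    haveI : IsClosedImmersion (t ≫ sS) := by rw [ht]; infer_instance
    haveI : IsClosedImmersion t := IsClosedImmersion.of_comp t sS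
    obtain ⟨-, sF, hsF, hgr⟩ := hLF t ht
    haveI : IsLocallyNoetherian (pullback f t) := LocallyOfFiniteType.isLocallyNoetherian (pullback.fst f t)
    haveI : IsLocallyNoetherian (PicF.XT f (Over.mk t)) := inferInstanceAs (IsLocallyNoetherian (pullback f t))
    let z : PicF.XT f (Over.mk t) := (PicF.secT f ξ hξ (Over.mk t)).base (IsLocalRing.closedPoint ℂ)
    obtain ⟨V, hzV, hV⟩ := hgr z ⟨_, rfl⟩
    have hproj := Groth.Agent.HomVanish.projective_of_filtration z sF hsF.1 hsF.2.1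
      (Groth.Agent.HomVanish.projective_factor sF (fun j => (hsF.2.2 j).1.1) hzV hV)
    obtain ⟨U, m, hU, he⟩ := Groth.Agent.HomVanish.exists_free_of_fibre f F hF hFfl t z
      (@Module.Flat.of_projective _ _ _ _ _ hproj)
    have hz : PicF.secT f ξ hξ (Over.mk t) ≫ pullback.fst f t = t ≫ ξ := pullback.lift_fst _ _ _
    have h1 : pullback.fst f t z = ξ s := by
      rw [← hts]
      show _ = (t ≫ ξ).base (IsLocalRing.closedPoint ℂ)
      rw [← hz]; rfl
    exact hs ⟨U, m, h1 ▸ hU, he⟩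
  have hflat : FlatMod.IsFlat ((Scheme.Modules.pullback ξ).obj F) := fun s => by
    obtain ⟨U, m, hU, ⟨e⟩⟩ : ξ s ∈ W := Set.eq_univ_iff_forall.1 hpre s
    haveI := Groth.Agent.HomVanish.free_stalk_of_nhd hF.1 hU (Groth.Agent.HomVanish.isFinLocFree_of_free_restrict e)
    letI : Algebra (X.presheaf.stalk (ξ s)) (S.presheaf.stalk s) := (ξ.stalkMap s).hom.toAlgebra
    obtain ⟨l⟩ := Groth.Agent.QCoh.nonempty_pullStalkEquiv ξ hF.1 s
    exact Module.Flat.of_linearEquiv l
  refine Groth.Agent.HomFibre.eq_zero_of_closed_fibres f ξ hξ sS hE hF hFfl hflat (fun t ht g hg => ?_) φ hφ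
  letI : (PicF.XT f (Over.mk t)).Over (Spec (CommRingCat.of ℂ)) := ⟨PicF.XTproj f (Over.mk t)⟩
  haveI hP : IsProper (PicF.XT f (Over.mk t) ↘ Spec (CommRingCat.of ℂ)) :=
    inferInstanceAs (IsProper (pullback.snd f t))
  haveI : IsNoetherian (PicF.XT f (Over.mk t)) := Groth.Agent.CurveCohLib.isNoetherian_of_proper (k := ℂ)
  obtain ⟨hirr, hdim⟩ := hfib t ht
  haveI := hirr
  obtain ⟨hsE, hsF', hred⟩ := hss t ht
  obtain ⟨⟨sE, hJE, -⟩, sF, hJF, hgr⟩ := hLF t ht
  have hL : CohB1.IsAmple ((Scheme.Modules.pullback (pullback.fst f (Over.mk t).hom ≫ i)).obj (Twist.twistOver n S 1)) := by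
    have h := (Groth.Agent.AmpleX.isRelAmple_iff_isAmple (pullback.snd f t) _).1
      (Groth.Agent.RGLib.Lim8.isRelAmple_of_isPullback (IsPullback.of_hasPullback f t) hA₀)
    exact Groth.Agent.AmpleX.isAmple_of_iso ((Scheme.Modules.pullbackComp (pullback.fst f t) i).app _) h
  obtain ⟨pE, hpE, -, -⟩ := Groth.Agent.HilbPoly.exists_hilb (k := ℂ) hL.1 hsE.1
    (Groth.Agent.HilbPoly.dim_le_of_isPure hsE.2.2.1 hsE.1)
  obtain ⟨pF, hpF, -, -⟩ := Groth.Agent.HilbPoly.exists_hilb (k := ℂ) hL.1 hsF'.1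
    (Groth.Agent.HilbPoly.dim_le_of_isPure hsF'.2.2.1 hsF'.1)
  let sec := PicF.secT f ξ hξ (Over.mk t)
  haveI : IsClosedImmersion (sec ≫ PicF.XTproj f (Over.mk t)) := by
    rw [show sec ≫ PicF.XTproj f (Over.mk t) = 𝟙 _ from pullback.lift_snd _ _ _]; infer_instance
  haveI : IsSeparated (PicF.XTproj f (Over.mk t)) := inferInstanceAs (IsSeparated (pullback.snd f t))
  haveI : IsClosedImmersion sec := IsClosedImmersion.of_comp sec (PicF.XTproj f (Over.mk t))
  let x := sec.base (IsLocalRing.closedPoint ℂ)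
  obtain ⟨U, hxU, hU⟩ := hgr x ⟨_, rfl⟩
  exact Groth.Agent.HomVanish.hom_eq_zero hL hdim hsE hsF' hpE hpF (hred pE pF hpE hpF) sE hJE sF hJF x
    (Groth.Agent.HomVanish.projective_factor sF (fun j => (hJF.2.2 j).1.1) hxU hU) g
    (Groth.Agent.HomVanish.small_of_pullback_eq_zero sec (IsLocalRing.closedPoint ℂ) g hg)

end Groth.Agent.S15268
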