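import Groth.Statements.S15271
import Groth.Agent.HomVanish.SubQuot
set_option backward.isDefEq.respectTransparency false
set_option backward.isDefEq.respectTransparency.types false

set_option autoImplicit false
open CategoryTheory CategoryTheory.Limits AlgebraicGeometry
open Coherent

namespace Groth.Agent.S15271

/-- Over the complex numbers, let X be a proper scheme with an ample invertible sheaf L and let ξ be a
complex point of X. Let E be a coherent sheaf on X which is semistable of dimension d with respect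
to L (nonzero, pure of dimension d, and the reduced Hilbert polynomial of every nonzero proper
coherent subsheaf is at most that of E for large arguments) and which has a filtration by coherent
subsheaves with stable d-dimensional successive quotients of the reduced Hilbert polynomial of E
whose associated graded sheaf (the direct sum of the quotients) is finite locally free on an open
neighbourhood of ξ. Let G be a coherent subsheaf of E whose reduced Hilbert polynomial equals that
of E (r(E)·p_G = r(G)·p_E for Hilbert polynomials p_G, p_E with respect to L, r denoting d! times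
the degree-d coefficient). Then G, and likewise the quotient E/G, has a filtration by coherent
subsheaves with stable d-dimensional successive quotients of the same reduced Hilbert polynomial
whose associated graded sheaf is finite locally free on an open neighbourhood of ξ. (The published
statement is for modules over a sheaf of rings of differential operators on the closed fibres of a
projective flat family with a section; this row is the case of the structure sheaf on one complex
fibre, and does not assume the fibre irreducible.) -/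
theorem result
    (X : Scheme.{0}) [X.Over (Spec (CommRingCat.of ℂ))] [IsProper (X ↘ Spec (CommRingCat.of ℂ))]
    (L : X.Modules) (hL : CohB1.IsAmple L) (d : ℕ)
    (E : X.Modules) (hE : ShStab.IsSemistable ℂ X L E d)
    (ξ : Spec (CommRingCat.of ℂ) ⟶ X) (hξ : ξ ≫ (X ↘ Spec (CommRingCat.of ℂ)) = 𝟙 (Spec (CommRingCat.of ℂ)))
    (sE : LTSeries (Subobject E)) (hsE : ShStab.IsJHFiltration ℂ X L E d sE)
    (hgrE : ∀ x ∈ Set.range ξ.base, ∃ U : X.Opens, x ∈ U ∧ FlatMod.IsFinLocFree ((StabCat.grObj sE).restrict U.ι))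
    (G : X.Modules) (ι : G ⟶ E) [Mono ι] (hG : Coh.IsCoh G)
    (pG pE : Polynomial ℚ) (hpG : ShStab.IsHilbPoly ℂ X L G pG) (hpE : ShStab.IsHilbPoly ℂ X L E pE)
    (hred : StabCat.RedEq d pG pE) :
    (∃ sG : LTSeries (Subobject G), ShStab.IsJHFiltration ℂ X L G d sG ∧
        ∀ x ∈ Set.range ξ.base, ∃ U : X.Opens, x ∈ U ∧ FlatMod.IsFinLocFree ((StabCat.grObj sG).restrict U.ι)) ∧
    (∃ sQ : LTSeries (Subobject (cokernel ι)), ShStab.IsJHFiltration ℂ X L (cokernel ι) d sQ ∧
        ∀ x ∈ Set.range ξ.base, ∃ U : X.Opens, x ∈ U ∧ FlatMod.IsFinLocFree ((StabCat.grObj sQ).restrict U.ι)) := by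
  classical
  haveI : IsNoetherian X := Groth.Agent.CurveCohLib.isNoetherian_of_proper (k := ℂ)
  let pt : ↥(Spec (CommRingCat.of ℂ)) := default
  obtain ⟨U₀, hU₀, hfree⟩ := hgrE (ξ.base pt) ⟨pt, rfl⟩
  have hproj := Groth.Agent.HomVanish.projective_factor sE (fun j => (hsE.2.2 j).1.1) hU₀ hfree
  have hαE := Groth.Agent.HilbPoly.alpha_pos hL hE.1 (Groth.Agent.HilbPoly.dim_of_isPure hE.2.2.1 hE.1 hE.2.1) hpE
  have hdE := Groth.Agent.HilbPoly.dim_le_of_isPure hE.2.2.1 hE.1
  have hGgood : Groth.Agent.HomVanish.GoodSub ℂ L d pE ι :=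
    ⟨inferInstance, hG, fun p hp => by rw [Groth.Agent.HilbPoly.isHilbPoly_unique hp hpG]; exact hred⟩
  -- it suffices to find filtrations with factors among those of `E`
  have fin : ∀ (M : X.Modules) (s : LTSeries (Subobject M)), ShStab.IsJHFiltration ℂ X L M d s →
      (∀ i : Fin s.length, ∃ j, Nonempty (StabCat.factor sE j ≅ StabCat.factor s i)) →
      ∃ s : LTSeries (Subobject M), ShStab.IsJHFiltration ℂ X L M d s ∧
        ∀ x ∈ Set.range ξ.base, ∃ U : X.Opens, x ∈ U ∧ FlatMod.IsFinLocFree ((StabCat.grObj s).restrict U.ι) := by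
    intro M s hs hiso
    refine ⟨s, hs, ?_⟩
    rintro x ⟨p, rfl⟩
    obtain rfl : p = pt := Subsingleton.elim _ _
    refine Groth.Agent.HomVanish.exists_nhd_of_projective s (fun i => (hs.2.2 i).1.1) _ fun i => ?_
    obtain ⟨j, ⟨e⟩⟩ := hiso i
    haveI := hproj j
    exact Groth.Agent.HomVanish.projective_stalk_iso _ e
  have zeroCase : ∀ M : X.Modules, IsZero M → ∃ s : LTSeries (Subobject M), ShStab.IsJHFiltration ℂ X L M d s ∧
        ∀ x ∈ Set.range ξ.base, ∃ U : X.Opens, x ∈ U ∧ FlatMod.IsFinLocFree ((StabCat.grObj s).restrict U.ι) := by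
    intro M hM
    have htb : (⊤ : Subobject M) = ⊥ := by
      rw [Subobject.top_eq_id, Subobject.mk_eq_bot_iff_zero]
      exact hM.eq_of_src _ _
    exact fin M (RelSeries.singleton _ ⊤) ⟨htb, rfl, fun i => i.elim0⟩ fun i => i.elim0
  constructor
  · by_cases hG0 : IsZero G
    · exact zeroCase G hG0
    have hGs := hGgood.semistable hL hE hpE hG0
    obtain ⟨s, hs⟩ := Groth.Agent.HilbPoly.exists_JH hL hGs
    have hαG := Groth.Agent.HilbPoly.alpha_pos hL hG (Groth.Agent.HilbPoly.dim_of_isPure hGs.2.2.1 hG hG0) hpG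
    have hfp : ∀ i p, ShStab.IsHilbPoly ℂ X L (StabCat.factor s i) p → StabCat.RedEq d p pE := fun i p hp =>
      Groth.Agent.HomVanish.redEq_trans hαG.ne' ((hs.2.2 i).2 p pG hp hpG) hred
    refine fin G s hs fun i => ?_
    have hgood := Groth.Agent.HomVanish.goodSub_series hL hE hG hpG
      (Groth.Agent.HilbPoly.dim_le_of_isPure hGs.2.2.1 hG) s hs.1 (fun i => (hs.2.2 i).1.1) hfp i.succ
    haveI := hgood.mono
    refine Groth.Agent.HomVanish.exists_factor_iso hL hE hpE sE hsE
      (a := (s i.succ).arrow ≫ ι) ⟨mono_comp _ _, hgood.coh, hgood.red⟩ (cokernel.π _) (hs.2.2 i).1 (hfp i)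
  · by_cases hQ0 : IsZero (cokernel ι)
    · exact zeroCase _ hQ0
    obtain ⟨hQs, hQp⟩ : ShStab.IsSemistable ℂ X L (cokernel ι) d ∧
        ∀ q, ShStab.IsHilbPoly ℂ X L (cokernel ι) q → StabCat.RedEq d q pE := by
      by_cases hG0 : IsZero G
      · haveI : IsIso (cokernel.π ι) := by
          have : ι = 0 := hG0.eq_of_src _ _
          subst this
          infer_instance
        have e := asIso (cokernel.π ι)
        have hQc : Coh.IsCoh (cokernel ι) := Groth.Agent.HilbPoly.isCoh_of_iso e hE.1
        refine ⟨Groth.Agent.HomVanish.GoodSub.semistable hL hE hpE (a := e.inv) ⟨inferInstance, hQc,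
          fun q hq => ?_⟩ hQ0, fun q hq => ?_⟩ <;>
        (rw [Groth.Agent.HilbPoly.isHilbPoly_unique (Groth.Agent.HilbPoly.hilb_iso e.symm hq) hpE]; rfl)
      · have hGs := hGgood.semistable hL hE hpE hG0
        obtain ⟨h1, h2⟩ := ((Groth.Agent.HilbPoly.kernel_cokernel hL hGs hE hpG hpE hred ι).2).resolve_left hQ0
        exact ⟨h1, fun q hq => Groth.Agent.HomVanish.redEq_trans
          (Groth.Agent.HilbPoly.alpha_pos hL hG (Groth.Agent.HilbPoly.dim_of_isPure hGs.2.2.1 hG hG0) hpG).ne'
          (h2 q hq) hred⟩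
    obtain ⟨pQ, hpQ, -, -⟩ := Groth.Agent.HilbPoly.exists_hilb (k := ℂ) hL.1 hQs.1
      (Groth.Agent.HilbPoly.dim_le_of_isPure hQs.2.2.1 hQs.1)
    obtain ⟨s, hs⟩ := Groth.Agent.HilbPoly.exists_JH hL hQs
    have hαQ := Groth.Agent.HilbPoly.alpha_pos hL hQs.1
      (Groth.Agent.HilbPoly.dim_of_isPure hQs.2.2.1 hQs.1 hQ0) hpQ
    have hfp : ∀ i p, ShStab.IsHilbPoly ℂ X L (StabCat.factor s i) p → StabCat.RedEq d p pE := fun i p hp =>
      Groth.Agent.HomVanish.redEq_trans hαQ.ne' ((hs.2.2 i).2 p pQ hp hpQ) (hQp pQ hpQ)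
    refine fin _ s hs fun i => ?_
    have hgood := Groth.Agent.HomVanish.goodSub_series hL hE hQs.1 hpQ
      (Groth.Agent.HilbPoly.dim_le_of_isPure hQs.2.2.1 hQs.1) s hs.1 (fun i => (hs.2.2 i).1.1) hfp i.succ
    let W := (s i.succ : X.Modules)
    let w : W ⟶ cokernel ι := (s i.succ).arrow
    have hW0 : ¬ IsZero W := fun hz => (hs.2.2 i).1.2.1 (IsZero.of_epi (cokernel.π _) hz)
    have hWs := Groth.Agent.HomVanish.GoodSub.semistable hL hQs hpQ (a := w)
      ⟨inferInstance, hgood.coh, fun p hp => Groth.Agent.HomVanish.redEq_trans hαE.ne' (hgood.red p hp)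
        (hQp pQ hpQ).symm⟩ hW0
    obtain ⟨pW, hpW, -, -⟩ := Groth.Agent.HilbPoly.exists_hilb (k := ℂ) hL.1 hgood.coh
      (Groth.Agent.HilbPoly.dim_le_of_isPure hWs.2.2.1 hgood.coh)
    have hαW := Groth.Agent.HilbPoly.alpha_pos hL hgood.coh
      (Groth.Agent.HilbPoly.dim_of_isPure hWs.2.2.1 hgood.coh hW0) hpW
    -- the preimage of `W`
    let g : E ⟶ cokernel w := cokernel.π ι ≫ cokernel.π w
    have hker : Groth.Agent.HomVanish.GoodSub ℂ L d pE (kernel.ι g) := by
      rcases (Groth.Agent.HilbPoly.kernel_cokernel hL hWs hQs hpW hpQ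
        (Groth.Agent.HomVanish.redEq_trans hαE.ne' (hgood.red pW hpW) (hQp pQ hpQ).symm) w).2 with hz | ⟨hC, hCp⟩
      · haveI : IsIso (kernel.ι g) := by
          have : g = 0 := hz.eq_of_tgt _ _
          rw [this]
          infer_instance
        refine ⟨inferInstance, Groth.Agent.HilbPoly.isCoh_of_iso (asIso (kernel.ι g)).symm hE.1, fun p hp => ?_⟩
        rw [Groth.Agent.HilbPoly.isHilbPoly_unique (Groth.Agent.HilbPoly.hilb_iso (asIso (kernel.ι g)) hp) hpE]
        rfl
      · have := Groth.Agent.HomVanish.GoodSub.kernel hL hE hpE (a := 𝟙 E)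
          ⟨inferInstance, hE.1, fun p hp => by rw [Groth.Agent.HilbPoly.isHilbPoly_unique hp hpE]; rfl⟩
          hE.2.1 hC (fun q hq => Groth.Agent.HomVanish.redEq_trans hαW.ne' (hCp q hq) (hgood.red pW hpW)) g
        rwa [Category.comp_id] at this
    have hlw : (kernel.ι g ≫ cokernel.π ι) ≫ cokernel.π w = 0 := by
      rw [Category.assoc]; exact kernel.condition g
    let l : kernel g ⟶ W := Abelian.monoLift w (kernel.ι g ≫ cokernel.π ι) hlw
    have hl : l ≫ w = kernel.ι g ≫ cokernel.π ι := Abelian.monoLift_comp _ _ _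
    haveI : Epi l := by
      rw [epi_iff_surjective_up_to_refinements]
      intro A y
      obtain ⟨A', π, hπ, x, hx⟩ := surjective_up_to_refinements_of_epi (cokernel.π ι) (y ≫ w)
      refine ⟨A', π, hπ, kernel.lift g x ?_, ?_⟩
      · show x ≫ cokernel.π ι ≫ cokernel.π w = 0
        rw [← Category.assoc, ← hx, Category.assoc, Category.assoc, cokernel.condition, comp_zero, comp_zero]
      · rw [← cancel_mono w, Category.assoc, Category.assoc, hl, kernel.lift_ι_assoc, hx]
    haveI : Epi (l ≫ cokernel.π (Subobject.ofLE (s i.castSucc) (s i.succ) (s.step i).le)) := epi_comp _ _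
    exact Groth.Agent.HomVanish.exists_factor_iso hL hE hpE sE hsE hker
      (l ≫ cokernel.π (Subobject.ofLE (s i.castSucc) (s i.succ) (s.step i).le)) (hs.2.2 i).1 (hfp i)

end Groth.Agent.S15271
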