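import Groth.Statements.S15283
import Groth.Agent.S0406
import Mathlib.RingTheory.Unramified.LocalRing
import Mathlib.RingTheory.Unramified.LocalStructure
import Mathlib.RingTheory.QuasiFinite.Basic
import Mathlib.RingTheory.Etale.Basic
import Mathlib.RingTheory.Kaehler.Basic
import Mathlib.RingTheory.Flat.TorsionFree

set_option autoImplicit false
universe u
open CAlg

namespace Groth.Agent.S15283

theorem mem_of_loc {R S : Type u} [CommRing R] [CommRing S] [IsDomain S] [Algebra R S]
    {B : Subalgebra R S} (π : R) (p : Ideal R) (hdiv : ∀ a ∈ p, ∀ n : ℕ, ∃ a' ∈ p, a = π ^ n * a')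
    (hB : ∀ y : S, ∃ n : ℕ, algebraMap R S π ^ n * y ∈ B) {x : S}
    (hx : x ∈ p.map (algebraMap R S)) : x ∈ B := by
  refine Submodule.span_induction (p := fun z _ => ∀ c : S, c * z ∈ B) ?_ (fun c => by simp) ?_ ?_ hx 1
    |> fun h => by simpa using h
  · rintro _ ⟨a, ha, rfl⟩ c
    obtain ⟨n, hn⟩ := hB c
    obtain ⟨a', -, rfl⟩ := hdiv a ha n
    rw [map_mul, map_pow, ← mul_assoc, mul_comm c]
    exact B.mul_mem hn (B.algebraMap_mem a')
  · intro a b _ _ ha hb c
    rw [mul_add]
    exact B.add_mem (ha c) (hb c)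
  · intro d z _ hz c
    rw [smul_eq_mul, ← mul_assoc]
    exact hz (c * d)

theorem exists_avoid (B : Type u) [CommRing B] (P : Ideal B) [P.IsPrime] [Finite (PrimeSpectrum B)] :
    ∃ s ∉ P, ∀ q : PrimeSpectrum B, ¬ q.asIdeal ≤ P → s ∈ q.asIdeal := by
  classical
  haveI := Fintype.ofFinite (PrimeSpectrum B)
  have hex : ∀ q : PrimeSpectrum B, ∃ a : B, a ∉ P ∧ (¬ q.asIdeal ≤ P → a ∈ q.asIdeal) := fun q => by
    by_cases h : q.asIdeal ≤ P
    · exact ⟨1, (Ideal.ne_top_iff_one P).mp (Ideal.IsPrime.ne_top ‹_›), fun h' => absurd h h'⟩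
    · obtain ⟨a, ha, ha'⟩ := SetLike.not_le_iff_exists.mp h
      exact ⟨a, ha', fun _ => ha⟩
  choose a ha ha' using hex
  refine ⟨∏ q, a q, fun h => ?_, fun q hq => q.isPrime.prod_mem_iff.mpr ⟨q, Finset.mem_univ q, ha' q hq⟩⟩
  obtain ⟨q, -, hq⟩ := (‹P.IsPrime›.prod_mem_iff).mp h
  exact ha q hq

theorem dvd_pow_of_notMem (B : Type u) [CommRing B] (P : Ideal B) (s : B)
    (h : ∀ q : PrimeSpectrum B, ¬ q.asIdeal ≤ P → s ∈ q.asIdeal) {b : B} (hb : b ∉ P) :
    ∃ n : ℕ, b ∣ s ^ n := by
  have : s ∈ (Ideal.span {b}).radical := by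
    rw [Ideal.radical_eq_sInf, Submodule.mem_sInf]
    exact fun q hq => h ⟨q, hq.2⟩ fun hle => hb (hle (hq.1 (Ideal.mem_span_singleton_self b)))
  obtain ⟨n, hn⟩ := this
  exact ⟨n, Ideal.mem_span_singleton.mp hn⟩

/-- The maximal ideal `P` of the fibre is generated by `p`. -/
theorem le_map {R S : Type u} [CommRing R] [IsDomain R] [ValuationRing R] [CommRing S] [IsDomain S]
    [Algebra R S] (hinj : Function.Injective (algebraMap R S))
    (P : Ideal S) [P.IsPrime] (π : R) (hπ : π ∉ P.comap (algebraMap R S))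
    (hdvdS : ∀ t : S, t ∉ P → ∃ n : ℕ, t ∣ algebraMap R S π ^ n)
    (hA : (Localization.localRingHom (P.comap (algebraMap R S)) P (algebraMap R S) rfl).Etale) :
    (∀ a ∈ P.comap (algebraMap R S), ∀ n : ℕ, ∃ a' ∈ P.comap (algebraMap R S), a = π ^ n * a') ∧
      P ≤ (P.comap (algebraMap R S)).map (algebraMap R S) := by
  have hπn : ∀ n : ℕ, π ^ n ∉ P.comap (algebraMap R S) := fun n h =>
    hπ (Ideal.IsPrime.mem_of_pow_mem inferInstance n h)
  have hdiv : ∀ a ∈ P.comap (algebraMap R S), ∀ n : ℕ, ∃ a' ∈ P.comap (algebraMap R S), a = π ^ n * a' := by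
    intro a ha n
    rcases ValuationRing.iff_dvd_total.mp ‹_› |>.total (π ^ n) a with ⟨a', h⟩ | ⟨c, h⟩
    · exact ⟨a', (Ideal.IsPrime.mem_or_mem inferInstance (h ▸ ha)).resolve_left (hπn n), h⟩
    · exact absurd (h ▸ Ideal.mul_mem_right c _ ha) (hπn n)
  refine ⟨hdiv, fun x hx => ?_⟩
  let φ := Localization.localRingHom (P.comap (algebraMap R S)) P (algebraMap R S) rfl
  letI := φ.toAlgebra
  haveI : Algebra.Etale (Localization.AtPrime (P.comap (algebraMap R S))) (Localization.AtPrime P) :=
    RingHom.etale_algebraMap.mp hA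
  haveI : IsLocalHom (algebraMap (Localization.AtPrime (P.comap (algebraMap R S))) (Localization.AtPrime P)) :=
    Localization.isLocalHom_localRingHom _ _ _ _
  have hmax := Algebra.FormallyUnramified.map_maximalIdeal
    (R := Localization.AtPrime (P.comap (algebraMap R S))) (S := Localization.AtPrime P)
  have hxm : algebraMap S (Localization.AtPrime P) x ∈
      ((P.comap (algebraMap R S)).map (algebraMap R S)).map (algebraMap S (Localization.AtPrime P)) := by
    have h1 : algebraMap S (Localization.AtPrime P) x ∈ IsLocalRing.maximalIdeal (Localization.AtPrime P) := by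
      rw [← Localization.AtPrime.map_eq_maximalIdeal]
      exact Ideal.mem_map_of_mem _ hx
    rw [← hmax, ← Localization.AtPrime.map_eq_maximalIdeal, Ideal.map_map,
      show (algebraMap _ (Localization.AtPrime P)).comp
          (algebraMap R (Localization.AtPrime (P.comap (algebraMap R S)))) =
          (algebraMap S (Localization.AtPrime P)).comp (algebraMap R S) from
        RingHom.ext fun r => Localization.localRingHom_to_map _ _ (algebraMap R S) rfl r,
      ← Ideal.map_map] at h1
    exact h1
  obtain ⟨⟨⟨z, hz⟩, t⟩, ht⟩ := (IsLocalization.mem_map_algebraMap_iff P.primeCompl _).mp hxm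
  rw [← map_mul] at ht
  have heq : x * (t : S) = z := IsLocalization.injective (Localization.AtPrime P)
    P.primeCompl_le_nonZeroDivisors ht
  obtain ⟨n, c, hc⟩ := hdvdS _ t.2
  -- `π ^ n * x ∈ p S = π ^ n • p S`
  have h2 : algebraMap R S π ^ n * x ∈ (P.comap (algebraMap R S)).map (algebraMap R S) := by
    rw [hc, mul_comm, ← mul_assoc, heq]
    exact Ideal.mul_mem_right _ _ hz
  have h3 : (P.comap (algebraMap R S)).map (algebraMap R S) ≤
      Ideal.span {algebraMap R S π ^ n} * (P.comap (algebraMap R S)).map (algebraMap R S) := by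
    rw [Ideal.map_le_iff_le_comap]
    intro a ha
    obtain ⟨a', ha', rfl⟩ := hdiv a ha n
    rw [Ideal.mem_comap, map_mul, map_pow]
    exact Ideal.mul_mem_mul (Ideal.mem_span_singleton_self _) (Ideal.mem_map_of_mem _ ha')
  obtain ⟨w, hw, hwe⟩ := Ideal.mem_span_singleton_mul.mp (h3 h2)
  have h0 : algebraMap R S π ^ n ≠ 0 := pow_ne_zero n ((map_ne_zero_iff _ hinj).mpr fun h => hπ (h ▸ zero_mem _))
  exact mul_left_cancel₀ h0 hwe ▸ hw

theorem unramified_of_quot {R S : Type u} [CommRing R] [CommRing S] [IsLocalRing S] [Algebra R S]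
    [Algebra.EssFiniteType R S] {P : Ideal S} [hP : P.IsPrime] [Algebra.FormallyUnramified R (S ⧸ P)]
    (hle : P ≤ (P.comap (algebraMap R S)).map (algebraMap R S)) : Algebra.FormallyUnramified R S := by
  refine ⟨?_⟩
  haveI : IsScalarTower R S (S ⧸ P) := inferInstance
  have hD : ∀ x ∈ (P.comap (algebraMap R S)).map (algebraMap R S),
      KaehlerDifferential.D R S x ∈ P • (⊤ : Submodule S (Ω[S⁄R])) := by
    intro x hx
    refine Submodule.span_induction ?_ (by simp) ?_ ?_ hx
    · rintro _ ⟨a, -, rfl⟩
      simp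
    · intro a b _ _ ha hb
      rw [map_add]
      exact add_mem ha hb
    · intro c a ha' ha
      rw [smul_eq_mul, Derivation.leibniz]
      exact add_mem (Submodule.smul_mem _ _ ha)
        (Submodule.smul_mem_smul (Ideal.map_comap_le ha') Submodule.mem_top)
  have htop : P • (⊤ : Submodule S (Ω[S⁄R])) = ⊤ := by
    refine eq_top_iff.mpr fun w _ => ?_
    have h0 : KaehlerDifferential.mapBaseChange R S (S ⧸ P) (1 ⊗ₜ w) = 0 := Subsingleton.elim _ _
    obtain ⟨z', hz⟩ := (KaehlerDifferential.exact_kerCotangentToTensor_mapBaseChange R S (S ⧸ P)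
      Ideal.Quotient.mk_surjective _).mp h0
    obtain ⟨z, rfl⟩ := Ideal.toCotangent_surjective _ z'
    rw [KaehlerDifferential.kerCotangentToTensor_toCotangent] at hz
    have h1 : ((1 : S ⧸ P) ⊗ₜ[S] w) = 0 := by
      rw [← hz]
      have hzP : (z : S) ∈ P := Ideal.Quotient.eq_zero_iff_mem.mp z.2
      apply (TensorProduct.quotTensorEquivQuotSMul (Ω[S⁄R]) P).injective
      rw [map_zero, ← map_one (Ideal.Quotient.mk P), TensorProduct.quotTensorEquivQuotSMul_mk_tmul, one_smul,
        Submodule.Quotient.mk_eq_zero]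
      exact hD _ (hle hzP)
    have h2 := congrArg (TensorProduct.quotTensorEquivQuotSMul (Ω[S⁄R]) P) h1
    rw [map_zero, ← map_one (Ideal.Quotient.mk P), TensorProduct.quotTensorEquivQuotSMul_mk_tmul, one_smul,
      Submodule.Quotient.mk_eq_zero] at h2
    exact h2
  have hbot : (⊤ : Submodule S (Ω[S⁄R])) = ⊥ :=
    Submodule.eq_bot_of_le_smul_of_le_jacobson_bot P ⊤ Module.Finite.fg_top htop.ge
      ((IsLocalRing.le_maximalIdeal hP.ne_top).trans (IsLocalRing.jacobson_eq_maximalIdeal ⊥ bot_ne_top).ge)
  exact ⟨fun a b => (Submodule.mem_bot S).mp (hbot ▸ Submodule.mem_top (x := a)) |>.trans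
    ((Submodule.mem_bot S).mp (hbot ▸ Submodule.mem_top (x := b))).symm⟩

theorem etale_of_composed (R S : Type u) [CommRing R] [IsDomain R] [ValuationRing R] [CommRing S]
    [IsDomain S] [ValuationRing S] [Algebra R S] (hinj : Function.Injective (algebraMap R S))
    [Finite (PrimeSpectrum R)] (P : Ideal S) [P.IsPrime]
    (hA : (Localization.localRingHom (P.comap (algebraMap R S)) P (algebraMap R S) rfl).Etale)
    (hB : (Ideal.quotientMap P (algebraMap R S) (le_refl (P.comap (algebraMap R S)))).Etale) :
    Algebra.Etale R S := by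
  classical
  obtain ⟨π, hπ, hπmem⟩ := exists_avoid R (P.comap (algebraMap R S))
  letI := (Ideal.quotientMap P (algebraMap R S) (le_refl (P.comap (algebraMap R S)))).toAlgebra
  haveI : Algebra.Etale (R ⧸ P.comap (algebraMap R S)) (S ⧸ P) := RingHom.etale_algebraMap.mp hB
  haveI : IsScalarTower R (R ⧸ P.comap (algebraMap R S)) (S ⧸ P) := IsScalarTower.of_algebraMap_eq' rfl
  haveI : Algebra.FormallyUnramified R (S ⧸ P) :=
    Algebra.FormallyUnramified.comp R (R ⧸ P.comap (algebraMap R S)) (S ⧸ P)
  have hSmem : ∀ Q : PrimeSpectrum S, ¬ Q.asIdeal ≤ P → algebraMap R S π ∈ Q.asIdeal := fun Q hQ => by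
    refine hπmem (PrimeSpectrum.comap (algebraMap R S) Q) fun hle => hQ ?_
    have hPQ : P ≤ Q.asIdeal := ((ValuationRing.le_total_ideal S).total P Q.asIdeal).resolve_right hQ
    haveI : Algebra.FiniteType R (S ⧸ P) :=
      Algebra.FiniteType.trans (R := R) (S := R ⧸ P.comap (algebraMap R S)) inferInstance inferInstance
    haveI : Algebra.QuasiFinite R (S ⧸ P) := inferInstance
    haveI : (Q.asIdeal.map (Ideal.Quotient.mk P)).IsPrime :=
      Ideal.map_isPrime_of_surjective Ideal.Quotient.mk_surjective (by rwa [Ideal.mk_ker])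
    have key := Algebra.QuasiFinite.eq_of_le_of_under_eq (R := R) (P := (⊥ : Ideal (S ⧸ P)))
      (Q := Q.asIdeal.map (Ideal.Quotient.mk P)) bot_le ?_
    · intro x hx
      have : Ideal.Quotient.mk P x ∈ (⊥ : Ideal (S ⧸ P)) := key ▸ Ideal.mem_map_of_mem _ hx
      exact Ideal.Quotient.eq_zero_iff_mem.mp (Ideal.mem_bot.mp this)
    · ext a
      rw [Ideal.mem_comap, Ideal.mem_comap, IsScalarTower.algebraMap_apply R S (S ⧸ P),
        Ideal.Quotient.algebraMap_eq, Ideal.mem_bot, Ideal.Quotient.eq_zero_iff_mem,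
        ← Ideal.mem_comap (f := Ideal.Quotient.mk P),
        Ideal.comap_map_of_surjective' _ Ideal.Quotient.mk_surjective, Ideal.mk_ker, sup_eq_left.mpr hPQ]
      exact ⟨fun h => hPQ h, fun h => hle h⟩
  have hdvdS := fun t (ht : t ∉ P) => dvd_pow_of_notMem S P _ hSmem ht
  obtain ⟨hdiv, hPle⟩ := le_map hinj P π hπ hdvdS hA
  have hft : Algebra.FiniteType R S := by
    let φ := Localization.localRingHom (P.comap (algebraMap R S)) P (algebraMap R S) rfl
    letI := φ.toAlgebra
    haveI : Algebra.Etale (Localization.AtPrime (P.comap (algebraMap R S))) (Localization.AtPrime P) :=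
      RingHom.etale_algebraMap.mp hA
    obtain ⟨G, hG⟩ := (inferInstance :
      Algebra.FiniteType (Localization.AtPrime (P.comap (algebraMap R S))) (Localization.AtPrime P)).1
    obtain ⟨F, hF⟩ := (Algebra.FiniteType.trans (R := R) (S := R ⧸ P.comap (algebraMap R S)) (A := S ⧸ P)
      inferInstance inferInstance).1
    have hex : ∀ g : Localization.AtPrime P, ∃ (n : ℕ) (b : S),
        algebraMap S (Localization.AtPrime P) (algebraMap R S π ^ n) * g =
          algebraMap S (Localization.AtPrime P) b := fun g => by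
      obtain ⟨⟨a, t⟩, ht⟩ := IsLocalization.surj P.primeCompl g
      obtain ⟨n, c, hc⟩ := hdvdS _ t.2
      exact ⟨n, a * c, by rw [hc, map_mul, map_mul, ← ht]; ring⟩
    choose en num hnum using hex
    let gens : Finset S := G.image num ∪ F.image (Function.surjInv Ideal.Quotient.mk_surjective)
    let B : Subalgebra R S := Algebra.adjoin R (gens : Set S)
    have hπB : ∀ n : ℕ, algebraMap R S π ^ n ∈ B := fun n => B.pow_mem (B.algebraMap_mem π) n
    have hclaim : ∀ z : Localization.AtPrime P, ∃ (n : ℕ) (b : S), b ∈ B ∧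
        algebraMap S (Localization.AtPrime P) (algebraMap R S π ^ n) * z =
          algebraMap S (Localization.AtPrime P) b := by
      intro z
      have hz : z ∈ (⊤ : Subalgebra (Localization.AtPrime (P.comap (algebraMap R S))) (Localization.AtPrime P)) :=
        Algebra.mem_top
      rw [← hG] at hz
      refine Algebra.adjoin_induction ?_ ?_ ?_ ?_ hz
      · exact fun g hg => ⟨en g, num g,
          Algebra.subset_adjoin (Finset.mem_union_left _ (Finset.mem_image_of_mem _ hg)), hnum g⟩
      · intro r
        obtain ⟨⟨a, s⟩, hs⟩ := IsLocalization.surj (P.comap (algebraMap R S)).primeCompl r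
        obtain ⟨n, c, hc⟩ := dvd_pow_of_notMem R _ π hπmem s.2
        refine ⟨n, algebraMap R S (a * c), B.algebraMap_mem _, ?_⟩
        rw [← map_pow, hc]
        have h1 := congrArg φ hs
        rw [map_mul, Localization.localRingHom_to_map, Localization.localRingHom_to_map] at h1
        show _ * φ r = _
        rw [map_mul, map_mul, map_mul, map_mul, ← h1]
        ring
      · rintro x y _ _ ⟨n, b, hb, hx⟩ ⟨m, c, hc, hy⟩
        refine ⟨n + m, algebraMap R S π ^ m * b + algebraMap R S π ^ n * c,
          B.add_mem (B.mul_mem (hπB m) hb) (B.mul_mem (hπB n) hc), ?_⟩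
        rw [map_add, map_mul _ _ b, map_mul _ _ c, ← hx, ← hy, pow_add, map_mul]
        ring
      · rintro x y _ _ ⟨n, b, hb, hx⟩ ⟨m, c, hc, hy⟩
        refine ⟨n + m, b * c, B.mul_mem hb hc, ?_⟩
        rw [map_mul _ b, ← hx, ← hy, pow_add, map_mul]
        ring
    have hBy : ∀ y : S, ∃ n : ℕ, algebraMap R S π ^ n * y ∈ B := fun y => by
      obtain ⟨n, b, hb, he⟩ := hclaim (algebraMap S (Localization.AtPrime P) y)
      rw [← map_mul] at he
      exact ⟨n, (IsLocalization.injective (Localization.AtPrime P) P.primeCompl_le_nonZeroDivisors he) ▸ hb⟩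
    have hPB : ∀ x ∈ P, x ∈ B := fun x hx => mem_of_loc π _ hdiv hBy (hPle hx)
    have htop : B = ⊤ := by
      refine Algebra.eq_top_iff.mpr fun y => ?_
      have hy : Ideal.Quotient.mk P y ∈ (⊤ : Subalgebra R (S ⧸ P)) := Algebra.mem_top
      rw [← hF] at hy
      have hsub : Algebra.adjoin R (F : Set (S ⧸ P)) ≤ B.map (Ideal.Quotient.mkₐ R P) :=
        Algebra.adjoin_le fun f hf => ⟨_,
          Algebra.subset_adjoin (Finset.mem_union_right _ (Finset.mem_image_of_mem _ hf)),
          Function.surjInv_eq Ideal.Quotient.mk_surjective f⟩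
      obtain ⟨b, hb, hbe⟩ := hsub hy
      have := hPB _ (Ideal.Quotient.eq.mp (hbe.symm : Ideal.Quotient.mk P y = Ideal.Quotient.mk P b))
      simpa using B.add_mem this hb
    exact ⟨gens, htop⟩
  haveI := hft
  haveI : Module.IsTorsionFree R S := Module.isTorsionFree_iff_algebraMap_injective.mpr hinj
  haveI : Module.Flat R S := Module.Flat.flat_iff_torsion_eq_bot_of_isBezout.mpr
    (Submodule.isTorsionFree_iff_torsion_eq_bot.mp inferInstance)
  haveI : Algebra.FinitePresentation R S := S0406.result
  haveI : Algebra.FormallyUnramified R S := unramified_of_quot hPle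
  exact Algebra.Etale.of_formallyUnramified_of_flat

/-- Let L/K be a finite extension of valued fields, v_L extending v_K up to equivalence, such that the
valuation rings K° and L° both have finitely many prime ideals, and let P be a prime ideal of L°
lying over the prime p of K°. Then v_K is composed from the valuation of K with ring the
localization (K°)_p and the valuation of the residue field of (K°)_p with ring K°/p, and similarly
for v_L with (L°)_P and L°/P. If the induced homomorphisms (K°)_p → (L°)_P and K°/p → L°/P are both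
étale, then K° → L° is étale. (For finite extensions of valued fields of finite height, being
unramified is the same as the map of valuation rings being étale, so this is the statement that an
extension composed from two unramified extensions is unramified.) -/
theorem result
    {K L Γ₀ Γ₁ : Type u} [Field K] [Field L] [Algebra K L] [FiniteDimensional K L]
    [LinearOrderedCommGroupWithZero Γ₀] [LinearOrderedCommGroupWithZero Γ₁]
    (vK : Valuation K Γ₀) (vL : Valuation L Γ₁) [vK.HasExtension vL]
    [Finite (PrimeSpectrum vK.valuationSubring)] [Finite (PrimeSpectrum vL.valuationSubring)]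
    (P : Ideal vL.valuationSubring) [P.IsPrime]
    (hA : (Localization.localRingHom (Ideal.comap (algebraMap vK.valuationSubring vL.valuationSubring) P) P
      (algebraMap vK.valuationSubring vL.valuationSubring) rfl).Etale)
    (hB : (Ideal.quotientMap P (algebraMap vK.valuationSubring vL.valuationSubring)
      (le_refl (Ideal.comap (algebraMap vK.valuationSubring vL.valuationSubring) P))).Etale) :
    Algebra.Etale vK.valuationSubring vL.valuationSubring := by
  exact etale_of_composed _ _ (fun x y h => Subtype.ext ((algebraMap K L).injective (congrArg Subtype.val h))) P hA hB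

end Groth.Agent.S15283
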