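import Groth.Statements.S15298
import Mathlib

set_option autoImplicit false
set_option linter.style.haveILetI false
universe u
open CAlg

namespace Groth.Agent.S15298

/-- A formally smooth quotient of a complete ring has an algebra section. -/
lemma exists_section {k A : Type u} [CommRing k] [CommRing A] [Algebra k A] (I : Ideal A)
    [IsAdicComplete I A] [Algebra.FormallySmooth k (A ⧸ I)] :
    ∃ s : (A ⧸ I) →ₐ[k] A, ∀ b, Ideal.Quotient.mk I (s b) = b := by
  have hle' : ∀ n : ℕ, I ^ (n + 2) ≤ I ^ (n + 1) := fun n => Ideal.pow_le_pow_right (by omega)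
  have step : ∀ (n : ℕ) (g : (A ⧸ I) →ₐ[k] A ⧸ I ^ (n + 1)), ∃ g' : (A ⧸ I) →ₐ[k] A ⧸ I ^ (n + 2),
      (Ideal.Quotient.factorₐ k (hle' n)).comp g' = g := by
    intro n g
    have hker : IsNilpotent (RingHom.ker (Ideal.Quotient.factorₐ k (hle' n))) := by
      refine ⟨2, le_bot_iff.1 ?_⟩
      have h : RingHom.ker (Ideal.Quotient.factorₐ k (hle' n)) =
          (I ^ (n + 1)).map (Ideal.Quotient.mk (I ^ (n + 2))) :=
        Ideal.Quotient.factor_ker (hle' n)
      rw [h, ← Ideal.map_pow, Ideal.map_le_iff_le_comap, ← RingHom.ker, Ideal.mk_ker, ← pow_mul]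
      exact Ideal.pow_le_pow_right (by omega)
    have hs : Function.Surjective (Ideal.Quotient.factorₐ k (hle' n)) :=
      Ideal.Quotient.factor_surjective (hle' n)
    exact ⟨Algebra.FormallySmooth.liftOfSurjective g (Ideal.Quotient.factorₐ k (hle' n)) hs hker,
      Algebra.FormallySmooth.comp_liftOfSurjective g (Ideal.Quotient.factorₐ k (hle' n)) hs hker⟩
  choose next hnext using step
  let g : (n : ℕ) → (A ⧸ I) →ₐ[k] A ⧸ I ^ (n + 1) := fun n =>
    Nat.rec (motive := fun n => (A ⧸ I) →ₐ[k] A ⧸ I ^ (n + 1))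
      (Ideal.Quotient.factorₐ k (le_of_eq (pow_one I).symm))
      (fun n gn => next n gn) n
  let f : (n : ℕ) → (A ⧸ I) →ₐ[k] A ⧸ I ^ n := fun n =>
    (Ideal.Quotient.factorₐ k (Ideal.pow_le_pow_right (Nat.le_succ n))).comp (g n)
  have hcomp : ∀ {m n : ℕ} (hle : m ≤ n) (b : A ⧸ I),
      Ideal.Quotient.factorₐ k (Ideal.pow_le_pow_right (Nat.succ_le_succ hle)) (g n b) = g m b := by
    intro m n hle b
    induction n, hle using Nat.le_induction with
    | base => obtain ⟨a, ha⟩ := Ideal.Quotient.mk_surjective (g m b); rw [← ha]; rfl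
    | succ n hmn ih =>
      obtain ⟨a, ha⟩ := Ideal.Quotient.mk_surjective (next n (g n) b)
      have e : g n b = Ideal.Quotient.factorₐ k (hle' n) (next n (g n) b) :=
        (DFunLike.congr_fun (hnext n (g n)) b).symm
      rw [← ih, e, show g (n + 1) b = next n (g n) b from rfl, ← ha]
      rfl
  have hf : ∀ {m n : ℕ} (hle : m ≤ n),
      (Ideal.Quotient.factorₐ k (Ideal.pow_le_pow_right (I := I) hle)).comp (f n) = f m := by
    intro m n hle
    refine AlgHom.ext fun b => ?_
    obtain ⟨a, ha⟩ := Ideal.Quotient.mk_surjective (g n b)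
    have h2 := hcomp hle b
    simp only [f, AlgHom.comp_apply]
    rw [← h2, ← ha]
    rfl
  refine ⟨IsAdicComplete.liftAlgHom I f hf, fun b => ?_⟩
  have h1 := IsAdicComplete.mk_liftAlgHom I f hf 1 b
  have h2 := congrArg (Ideal.Quotient.factor (le_of_eq (pow_one I))) h1
  refine h2.trans ?_
  have h0 := hcomp (Nat.zero_le 1) b
  obtain ⟨a, ha⟩ := Ideal.Quotient.mk_surjective (g 1 b)
  obtain ⟨a', rfl⟩ := Ideal.Quotient.mk_surjective b
  simp only [f, AlgHom.comp_apply]
  rw [← ha] at h0 ⊢
  exact (congrArg (Ideal.Quotient.factor (le_of_eq (pow_one I))) h0).trans rfl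

/-- Let k be a field, A a Noetherian k-algebra and x a non-zero-divisor of A such that A is separated
and complete for the (x)-adic topology, and assume that B = A/xA is formally smooth over k. Then A
is a power series ring over B in the variable x: there is a k-algebra isomorphism e : B[[T]] ≅ A
with e(T) = x whose reduction modulo x is the constant-coefficient map, i.e. e(f) ≡ f(0) mod x for
every power series f. -/
theorem result (k A : Type u) [Field k]
    [CommRing A] [Algebra k A] [IsNoetherianRing A] (x : A) (hx : x ∈ nonZeroDivisors A)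
    [IsAdicComplete (Ideal.span {x}) A] [Algebra.FormallySmooth k (A ⧸ Ideal.span {x})] :
    ∃ e : PowerSeries (A ⧸ Ideal.span {x}) ≃ₐ[k] A,
      e PowerSeries.X = x ∧
      ∀ f : PowerSeries (A ⧸ Ideal.span {x}),
        Ideal.Quotient.mk (Ideal.span {x}) (e f) = PowerSeries.constantCoeff f := by
  let I : Ideal A := Ideal.span {x}
  let B := A ⧸ I
  obtain ⟨s, hs⟩ := exists_section (k := k) I
  letI : Algebra B A := (s : B →+* A).toAlgebra
  haveI : IsScalarTower k B A := IsScalarTower.of_algebraMap_eq fun c => (s.commutes c).symm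
  have hreg : ∀ y : A, x * y = 0 → y = 0 := fun y hy => hx.1 y hy
  have hI : ∀ (n : ℕ) (a : A), a ∈ I ^ n ↔ x ^ n ∣ a := fun n a => by
    rw [Ideal.span_singleton_pow, Ideal.mem_span_singleton]
  have hlim : ∀ a b : A, (∀ n, a - b ∈ I ^ n) → a = b := fun a b h =>
    sub_eq_zero.1 (IsHausdorff.haus (I := I) inferInstance _ fun n => by
      rw [SModEq.zero, Ideal.smul_eq_mul, Ideal.mul_top]; exact h n)
  let ev : Polynomial B →ₐ[B] A := Polynomial.aeval x
  have hkey : ∀ (n : ℕ) (P Q : Polynomial B), (∀ i < n, P.coeff i = Q.coeff i) →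
      ev P - ev Q ∈ I ^ n := by
    intro n P Q h
    obtain ⟨T, hT⟩ : (Polynomial.X : Polynomial B) ^ n ∣ P - Q :=
      Polynomial.X_pow_dvd_iff.2 fun i hi => by rw [Polynomial.coeff_sub, h i hi, sub_self]
    rw [← map_sub, hT, map_mul, map_pow, hI]
    simp [ev]
  let f : (n : ℕ) → PowerSeries B →+* A ⧸ I ^ n := fun n =>
    { toFun := fun s => Ideal.Quotient.mk _ (ev (PowerSeries.trunc n s))
      map_one' := by
        rw [← map_one (Ideal.Quotient.mk (I ^ n)), Ideal.Quotient.eq, ← map_one ev]
        exact hkey n _ _ fun i hi => by simp [PowerSeries.coeff_trunc, hi, Polynomial.coeff_one, PowerSeries.coeff_one]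
      map_mul' := fun s t => by
        rw [← map_mul, Ideal.Quotient.eq, ← map_mul]
        refine hkey n _ _ fun i hi => ?_
        rw [← PowerSeries.trunc_trunc_mul_trunc, PowerSeries.coeff_trunc, if_pos hi,
          ← Polynomial.coe_mul, Polynomial.coeff_coe]
      map_zero' := by simp
      map_add' := fun s t => by simp }
  have hf : ∀ {a b : ℕ} (hle : a ≤ b), (Ideal.Quotient.factorPow I hle).comp (f b) = f a := by
    intro a b hle
    refine RingHom.ext fun s => ?_
    change Ideal.Quotient.mk _ _ = Ideal.Quotient.mk _ _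
    rw [Ideal.Quotient.eq]
    exact hkey a _ _ fun i hi => by simp [PowerSeries.coeff_trunc, hi, hi.trans_le hle]
  let φ₀ : PowerSeries B →+* A := IsAdicComplete.liftRingHom I f hf
  have hφ : ∀ g n, φ₀ g - ev (PowerSeries.trunc n g) ∈ I ^ n := fun g n => by
    rw [← Ideal.Quotient.eq, IsAdicComplete.mk_liftRingHom]
    rfl
  have hC : ∀ c : B, φ₀ (PowerSeries.C c) = s c := fun c => by
    refine hlim _ _ fun n => ?_
    rcases n with _ | n
    · simp
    · have := hφ (PowerSeries.C c) (n + 1)
      rw [PowerSeries.trunc_C] at this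
      simpa [ev, RingHom.algebraMap_toAlgebra] using this
  let φ : PowerSeries B →ₐ[k] A :=
    { φ₀ with
      commutes' := fun c => by
        show φ₀ (algebraMap k (PowerSeries B) c) = _
        rw [PowerSeries.algebraMap_apply, hC]
        exact s.commutes c }
  have hX : φ PowerSeries.X = x := by
    refine hlim _ _ fun n => ?_
    have h2 := Ideal.pow_le_pow_right (show n ≤ n + 2 by omega) (hφ PowerSeries.X (n + 2))
    rw [PowerSeries.trunc_X] at h2
    simp only [ev, Polynomial.aeval_X] at h2
    exact h2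
  have hmod : ∀ g : PowerSeries B, Ideal.Quotient.mk I (φ g) = PowerSeries.constantCoeff g := by
    intro g
    have h1 := hφ g 1
    rw [pow_one] at h1
    refine (Ideal.Quotient.eq.2 h1).trans ?_
    rw [PowerSeries.trunc_one_left]
    simp [ev, RingHom.algebraMap_toAlgebra]
    exact hs _
  have hinj : Function.Injective φ := by
    rw [injective_iff_map_eq_zero]
    intro g hg
    have h0 : ∀ g : PowerSeries B, φ g = 0 → PowerSeries.constantCoeff g = 0 := fun g hg => by
      rw [← hmod, hg, map_zero]
    ext i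
    induction i generalizing g with
    | zero => rw [PowerSeries.coeff_zero_eq_constantCoeff_apply, h0 g hg, map_zero]
    | succ i ih =>
      obtain ⟨g', rfl⟩ := PowerSeries.X_dvd_iff.2 (h0 g hg)
      rw [PowerSeries.coeff_succ_X_mul]
      rw [map_mul, hX] at hg
      exact ih g' (hreg _ hg)
  have hsurj : Function.Surjective φ := by
    intro a
    have hdec : ∀ b : A, ∃ b' : A, b = s (Ideal.Quotient.mk I b) + x * b' := by
      intro b
      have : b - s (Ideal.Quotient.mk I b) ∈ I := by
        rw [← Ideal.Quotient.eq_zero_iff_mem, map_sub, hs, sub_self]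
      rw [Ideal.mem_span_singleton'] at this
      obtain ⟨b', hb'⟩ := this
      exact ⟨b', by rw [mul_comm, hb']; ring⟩
    choose b' hdec using hdec
    let rem : ℕ → A := fun n => b'^[n] a
    let g : PowerSeries B := PowerSeries.mk fun n => Ideal.Quotient.mk I (rem n)
    refine ⟨g, hlim _ _ fun n => ?_⟩
    have hev : ∀ n, ev (PowerSeries.trunc n g) + x ^ n * rem n = a := by
      intro n
      induction n with
      | zero => simp [rem]
      | succ n ih =>
        conv_rhs => rw [← ih, hdec (rem n)]
        rw [PowerSeries.trunc_succ, map_add]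
        simp only [ev, g, rem, PowerSeries.coeff_mk, Polynomial.aeval_monomial,
          RingHom.algebraMap_toAlgebra, RingHom.coe_coe, Function.iterate_succ_apply']
        ring
    have h1 := hφ g n
    have h2 : φ g - a = (φ₀ g - ev (PowerSeries.trunc n g)) - x ^ n * rem n := by
      conv_lhs => rw [← hev n]
      rw [sub_add_eq_sub_sub]; rfl
    rw [h2]
    exact Ideal.sub_mem _ h1 ((hI n _).2 (dvd_mul_right _ _))
  exact ⟨AlgEquiv.ofBijective φ ⟨hinj, hsurj⟩, hX, hmod⟩

end Groth.Agent.S15298
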