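import Groth.Statements.S15302
import Groth.Agent.CohDer7.NatDiscs

set_option autoImplicit false
universe v u
open HomAlg3

namespace Groth.Agent.S15302

open CategoryTheory CategoryTheory.Limits in
/-- In an abelian category with enough injectives, let α : G ⟶ F be a morphism and I an injective
resolution of F. Then G has an injective resolution J together with a morphism of cochain complexes
β : J ⟶ I lying over α (the augmentations commute with α and β) such that for every p there are an
object K^p and an isomorphism J^p ≅ I^p ⊕ K^p identifying β^p with the projection onto the first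
factor (so K^p is injective as well). (The published statement is for abelian sheaves on a
topological space; its proof uses only an embedding of G into an injective object and cokernels, so
the row is stated in any abelian category with enough injectives.) -/
theorem result {C : Type u} [Category.{v} C] [Abelian C]
    [EnoughInjectives C] {G F : C} (α : G ⟶ F) (I : InjectiveResolution F) :
    ∃ (J : InjectiveResolution G) (β : J.cocomplex ⟶ I.cocomplex),
      J.ι ≫ β = (CochainComplex.single₀ C).map α ≫ I.ι ∧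
      ∀ p : ℕ, ∃ (K : C) (e : J.cocomplex.X p ≅ I.cocomplex.X p ⊞ K), β.f p = e.hom ≫ biprod.fst := by
  obtain ⟨I'⟩ : Nonempty (InjectiveResolution G) := ⟨InjectiveResolution.of G⟩
  let M := Groth.Agent.CohDer7.NatDiscs.cx I.cocomplex
  have hinj : ∀ p, Injective (Groth.Agent.CohDer7.NatDiscs.Pr I.cocomplex p) := by
    intro p
    cases p with
    | zero => exact Limits.IsZero.injective (Limits.isZero_zero C)
    | succ p => exact I.injective p
  let e : HomotopyEquiv I'.cocomplex (I'.cocomplex ⊞ M) :=
    { hom := biprod.inl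
      inv := biprod.fst
      homotopyHomInvId := Homotopy.ofEq biprod.inl_fst
      homotopyInvHomId :=
        let h₁ := ((Groth.Agent.CohDer7.NatDiscs.contraction I.cocomplex).compRight
          (biprod.inr : M ⟶ I'.cocomplex ⊞ M)).compLeft (biprod.snd : I'.cocomplex ⊞ M ⟶ M)
        let h₂ := Homotopy.add (Homotopy.refl ((biprod.fst : I'.cocomplex ⊞ M ⟶ _) ≫ biprod.inl)) h₁
        (Homotopy.ofEq (by simp)).trans (h₂.symm.trans (Homotopy.ofEq (by simp [M]))) }
  haveI hXinj : ∀ p, Injective ((I'.cocomplex ⊞ M).X p) := by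
    intro p
    haveI := hinj p
    haveI : Injective (M.X p) := inferInstanceAs (Injective (I.cocomplex.X p ⊞ Groth.Agent.CohDer7.NatDiscs.Pr I.cocomplex p))
    exact Injective.of_iso ((HomologicalComplex.eval C (ComplexShape.up ℕ) p).mapBiprod I'.cocomplex M).symm
      (inferInstanceAs (Injective (I'.cocomplex.X p ⊞ M.X p)))
  haveI : QuasiIso e.hom := homotopyEquivalences_le_quasiIso C _ e.hom ⟨e, rfl⟩
  let J : InjectiveResolution G :=
    { cocomplex := I'.cocomplex ⊞ M
      ι := I'.ι ≫ e.hom
      quasiIso := quasiIso_comp _ _ }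
  refine ⟨J, biprod.desc (InjectiveResolution.desc α I I') (Groth.Agent.CohDer7.NatDiscs.q I.cocomplex), ?_, ?_⟩
  · show (I'.ι ≫ biprod.inl) ≫ _ = _
    rw [Category.assoc, biprod.inl_desc, InjectiveResolution.desc_commutes]
  · intro p
    let a : I'.cocomplex.X p ⟶ I.cocomplex.X p := (InjectiveResolution.desc α I I').f p
    let ep := Groth.Agent.CohDer7.NatDiscs.e I.cocomplex p
    let P := Groth.Agent.CohDer7.NatDiscs.Pr I.cocomplex p
    let e₁ : (I'.cocomplex ⊞ M).X p ≅ I'.cocomplex.X p ⊞ (I.cocomplex.X p ⊞ P) :=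
      (HomologicalComplex.eval C (ComplexShape.up ℕ) p).mapBiprod I'.cocomplex M
    let e₂ : I'.cocomplex.X p ⊞ (I.cocomplex.X p ⊞ P) ≅ I.cocomplex.X p ⊞ (I'.cocomplex.X p ⊞ P) :=
      { hom := biprod.desc (biprod.lift a biprod.inl)
          (biprod.desc biprod.inl (biprod.lift ep biprod.inr))
        inv := biprod.desc (biprod.inl ≫ biprod.inr)
          (biprod.desc (biprod.lift (𝟙 _) (biprod.lift (-a) 0))
            (biprod.lift 0 (biprod.lift (-ep) (𝟙 _))))
        hom_inv_id := by
          refine biprod.hom_ext' _ _ ?_ (biprod.hom_ext' _ _ ?_ ?_) <;>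
            refine biprod.hom_ext _ _ ?_ (biprod.hom_ext _ _ ?_ ?_) <;>
              simp [biprod.lift_eq]
        inv_hom_id := by
          refine biprod.hom_ext' _ _ ?_ (biprod.hom_ext' _ _ ?_ ?_) <;>
            refine biprod.hom_ext _ _ ?_ (biprod.hom_ext _ _ ?_ ?_) <;>
              simp [biprod.lift_eq] }
    refine ⟨I'.cocomplex.X p ⊞ P, e₁ ≪≫ e₂, ?_⟩
    have h2 : e₂.hom ≫ biprod.fst = biprod.desc a (biprod.desc (𝟙 _) ep) := by
      refine biprod.hom_ext' _ _ ?_ (biprod.hom_ext' _ _ ?_ ?_) <;> simp [e₂]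
    show _ = (e₁.hom ≫ e₂.hom) ≫ biprod.fst
    rw [Category.assoc, h2, ← Iso.inv_comp_eq]
    refine biprod.hom_ext' _ _ ?_ ?_
    · have hinl : (biprod.inl : I'.cocomplex.X p ⟶ I'.cocomplex.X p ⊞ (I.cocomplex.X p ⊞ P)) ≫ e₁.inv =
          (biprod.inl : I'.cocomplex ⟶ I'.cocomplex ⊞ M).f p := biprod.inl_desc _ _
      rw [reassoc_of% hinl, biprod.inl_desc, ← HomologicalComplex.comp_f, biprod.inl_desc]
    · have hinr : (biprod.inr : I.cocomplex.X p ⊞ P ⟶ I'.cocomplex.X p ⊞ (I.cocomplex.X p ⊞ P)) ≫ e₁.inv =
          (biprod.inr : M ⟶ I'.cocomplex ⊞ M).f p := biprod.inr_desc _ _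
      rw [reassoc_of% hinr, biprod.inr_desc]
      exact ((HomologicalComplex.comp_f _ _ p).symm.trans
        (congrArg (fun t : M ⟶ I.cocomplex => t.f p) (biprod.inr_desc _ _))).trans rfl

end Groth.Agent.S15302
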