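import Groth.Statements.S15308
import Groth.Agent.AcycHyper7.DeRham
import Groth.Agent.SiteBase.Global

set_option autoImplicit false
universe u
open DeRhamSh

open CategoryTheory.Limits
namespace Groth.Agent.S15308

open CategoryTheory AlgebraicGeometry TopologicalSpace in
/-- Let k be a field of characteristic zero and U a smooth k-scheme of finite type of dimension at most
n whose cohomological dimension is less than r, in the sense that H^q(U, F) vanishes for every
quasi-coherent O_U-module F and every q ≥ r. Then the algebraic de Rham cohomology H^i_dR(U/k), the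
hypercohomology of the de Rham complex of U over k, vanishes for all i ≥ n + r. (The published
statement is the Lefschetz-type comparison H^i(X) → H^i(Y) for a proper X of dimension n with X − Y
smooth of cohomological dimension less than r; this row is the first step of its proof, the
vanishing on the smooth open part, stated for any de Rham complex of U over k and with the
conclusion as vanishing of an additive group.) -/
theorem result (k : Type u) [Field k] [CharZero k] (X : Scheme.{u})
    (f : X ⟶ Spec (CommRingCat.of k)) [QuasiCompact f] [QuasiSeparated f] [Smooth f]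
    (n : ℕ) (hn : topologicalKrullDim ↥X ≤ n) (r : ℕ)
    (hcd : ∀ (F : X.Modules), Coh.IsQCoh F → ∀ q : ℕ, r ≤ q → Subsingleton (Coh.HH X F q))
    (D : DeRhamSh.OmegaCx f)
    [HasDerivedCategory.{u} (Sheaf (Opens.grothendieckTopology ↥X) AddCommGrpCat.{u})]
    (i : ℤ) (hi : (n : ℤ) + r ≤ i) :
    Subsingleton (DeRhamSh.HdR D i) := by
  have hq := fun p => AcycHyper7.isQCoh_term f n hn D p
  have hcd' : ∀ p, AcycHyper7.CdLE (J := Opens.grothendieckTopology ↥X) (max 1 r) (⊤ : X.Opens) (Coh.toAb (D.term p)) :=
    fun p t ht => (SiteBase.huTerminalEquiv (J := Opens.grothendieckTopology ↥X) isTerminalTop _ (t + 1)).toEquiv.subsingleton_congr.2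
      (hcd _ (hq p) (t + 1) (by omega))
  rcases Nat.eq_zero_or_pos r with hr | hr
  · subst hr
    have h0 : ∀ p, AcycHyper7.CdLE (J := Opens.grothendieckTopology ↥X) 1 (⊤ : X.Opens) (Coh.toAb (D.term p)) := hcd'
    obtain ⟨e⟩ := AcycHyper7.nonempty_iso_homology (⊤ : X.Opens) D.KZ 0 (AcycHyper7.cdLE_KZ D h0) i
    refine AddCommGrpCat.subsingleton_of_isZero (G := AddCommGrpCat.of (DeRhamSh.HdR D i)) (IsZero.of_iso ?_ e)
    rw [← HomologicalComplex.exactAt_iff_isZero_homology]
    refine ShortComplex.exact_of_isZero_X₂ _ ?_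
    obtain ⟨p, rfl⟩ := Int.eq_ofNat_of_zero_le (show 0 ≤ i by omega)
    refine IsZero.of_iso ?_ ((AcycHyper7.sec _).mapIso ((D.K.extendXIso _ (rfl : ComplexShape.embeddingUpNat.f p = (p : ℤ))) ≪≫ D.iso p))
    have : Subsingleton ((Coh.toAb (D.term p)).obj.obj (Opposite.op (⊤ : X.Opens))) :=
      (Sheaf.H.equiv₀ (Coh.toAb (D.term p)) isTerminalTop).toEquiv.subsingleton_congr.1 (hcd _ (hq p) 0 le_rfl)
    exact @AddCommGrpCat.isZero_of_subsingleton _ this
  · exact AcycHyper7.subsingleton_hdR D n (fun p hp => AcycHyper7.isZero_term f n hn D p hp) r hr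
      (fun p => AcycHyper7.cdLE_mono (by omega) (hcd' p)) i hi

end Groth.Agent.S15308
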