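import Groth.Statements.S15311
import Groth.Agent.AcycHyper7.Affine
import Groth.Agent.AcycHyper7.Poincare

set_option autoImplicit false
universe u
open DeRhamSh

namespace Groth.Agent.S15311

open CategoryTheory AlgebraicGeometry TopologicalSpace in
/-- Let k be a field of characteristic zero and n ≥ 0. Then the algebraic de Rham cohomology of affine
n-space Spec k[x_1, …, x_n] over k, the hypercohomology of its de Rham complex, vanishes in every
degree i ≠ 0, and in degree 0 it is additively isomorphic to k (existence of an additive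
isomorphism; the identification of H^0 with the constants is canonical). (The published computation
also gives the de Rham homology of affine space; this row is the cohomology statement, for any de
Rham complex of affine n-space over k.) -/
theorem result (k : Type u) [Field k] [CharZero k] (n : ℕ)
    [QuasiSeparated (Spec.map (CommRingCat.ofHom (algebraMap k (MvPolynomial (Fin n) k))))]
    (D : DeRhamSh.OmegaCx (Spec.map (CommRingCat.ofHom (algebraMap k (MvPolynomial (Fin n) k)))))
    [HasDerivedCategory.{u} (Sheaf (Opens.grothendieckTopology ↥(Spec (CommRingCat.of (MvPolynomial (Fin n) k)))) AddCommGrpCat.{u})] :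
    (∀ i : ℤ, i ≠ 0 → Subsingleton (DeRhamSh.HdR D i)) ∧ Nonempty (DeRhamSh.HdR D 0 ≃+ k) := by
  obtain ⟨d, hd⟩ := AcycHyper7.exists_isDiff k (MvPolynomial (Fin n) k) D
  have hq : ∀ p, Coh.IsQCoh (D.term p) := fun p =>
    ExtLoc7.isQCoh_of_isExtPow (OmegaUniv.isQCoh_omega _) (D.isExtPow p)
  constructor
  · intro i hi
    rcases lt_or_ge i 0 with h | h
    · exact AcycHyper7.subsingleton_hdRU_neg D hq (isAffineOpen_top _) i h
    · obtain ⟨m, rfl⟩ := Int.eq_ofNat_of_zero_le h
      obtain ⟨j, rfl⟩ : ∃ j, m = j + 1 := Nat.exists_eq_succ_of_ne_zero (by omega)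
      obtain ⟨e⟩ := AcycHyper7.nonempty_hdR_affine k (MvPolynomial (Fin n) k) D d hd (j + 1)
      haveI : Subsingleton ↑(DeRham.H hd (j + 1)) := by
        refine ModuleCat.subsingleton_of_isZero ?_
        unfold DeRham.H
        rw [← HomologicalComplex.exactAt_iff_isZero_homology,
          HomologicalComplex.exactAt_iff' _ j (j + 1) (j + 1 + 1) (by simp) (by simp),
          CategoryTheory.ShortComplex.moduleCat_exact_iff]
        intro z hz
        have e1 : ∀ m, (DeRham.cx hd).d m (m + 1) = ModuleCat.ofHom (d m) := fun m => by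
          simp [DeRham.cx]
        change ((DeRham.cx hd).d (j + 1) (j + 1 + 1)).hom z = 0 at hz
        rw [e1] at hz
        obtain ⟨w, hw⟩ := AcycHyper7.mem_coboundaries d hd j z hz
        exact ⟨w, by show ((DeRham.cx hd).d j (j + 1)).hom w = z; rw [e1]; exact hw⟩
      exact e.toEquiv.subsingleton
  · obtain ⟨e⟩ := AcycHyper7.nonempty_hdR_affine k (MvPolynomial (Fin n) k) D d hd 0
    let z₀ := exteriorPower.zeroEquiv (MvPolynomial (Fin n) k) (Ω[MvPolynomial (Fin n) k⁄k])
    have hC : ∀ c : k, d 0 (z₀.symm (MvPolynomial.C c)) = 0 := fun c => by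
      have h1 : z₀.symm (MvPolynomial.C c) =
          DeRham.gen (KaehlerDifferential.D k (MvPolynomial (Fin n) k)) 0 (MvPolynomial.C c) Fin.elim0 := by
        apply z₀.injective
        rw [LinearEquiv.apply_symm_apply, DeRham.gen, map_smul, exteriorPower.zeroEquiv_ιMulti, smul_eq_mul, mul_one]
      rw [h1, hd.1]
      exact AlternatingMap.map_coord_zero _ 0 (by
        rw [Fin.cons_zero, ← MvPolynomial.algebraMap_eq, Derivation.map_algebraMap])
    let κ : ↥(LinearMap.ker (d 0)) ≃+ k :=
      { toFun := fun z => MvPolynomial.coeff 0 (z₀ z.1)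
        invFun := fun c => ⟨z₀.symm (MvPolynomial.C c), hC c⟩
        left_inv := fun z => by
          refine Subtype.ext ?_
          show z₀.symm (MvPolynomial.C (MvPolynomial.coeff 0 (z₀ z.1))) = z.1
          rw [← AcycHyper7.zeroEquiv_eq_C d hd z.1 z.2, LinearEquiv.symm_apply_apply]
        right_inv := fun c => by
          show MvPolynomial.coeff 0 (z₀ (z₀.symm (MvPolynomial.C c))) = c
          rw [LinearEquiv.apply_symm_apply, MvPolynomial.coeff_C, if_pos rfl]
        map_add' := fun a b => by simp }
    have e0 : ∀ m, (DeRham.cx hd).d m (m + 1) = ModuleCat.ofHom (d m) := fun m => by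
      simp [DeRham.cx]
    have e1 : ((DeRham.cx hd).d 0 1).hom = d 0 := congrArg (fun t => t.hom) (e0 0)
    let C := DeRham.cx hd
    let i₁ : DeRham.H hd 0 ≅ C.cycles 0 :=
      (CochainComplex.isoHomologyπ₀ C).symm
    let i₂ := (C.sc' 0 0 1).moduleCatCyclesIso
    refine ⟨e.trans (((i₁ ≪≫ C.cyclesIsoSc' 0 0 1 (by simp) (by simp) ≪≫ i₂).toLinearEquiv.toAddEquiv).trans
      ((LinearEquiv.ofEq _ _ (congrArg LinearMap.ker e1)).toAddEquiv.trans κ))⟩

end Groth.Agent.S15311
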