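import Groth.Statements.S15328
import Groth.Agent.Lib.CurveHiggs
import Groth.Agent.Lib.CurveSection
import Groth.Agent.Lib.CurveDualPrep

set_option autoImplicit false
open CategoryTheory AlgebraicGeometry CategoryTheory.Limits
open VBCurve

namespace Groth.Agent.S15328

/-- Let X be a smooth proper integral curve over the complex numbers, L an invertible module on X and
(E, φ) an L-valued Higgs bundle on X: E finite locally free of rank r ≥ 1 and φ : E → E ⊗ L. A
submodule j : G → E (a monomorphism) is a Higgs submodule when φ restricts to it, that is, some ψ :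
G → G ⊗ L followed by j ⊗ L equals j followed by φ; (E, φ) is semistable when deg G · r ≤ deg E · r'
for every finite locally free Higgs submodule G of rank r' ≥ 1, degrees being χ − rank · χ(O).
Suppose (E, φ) is semistable and F is a finite locally free Higgs submodule of rank r' ≥ 1 with the
same slope, deg F · r = deg E · r'. Then the quotient E/F is finite locally free of rank r − r' and
is semistable of the same slope for its induced Higgs field: for every φ' : E/F → (E/F) ⊗ L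
compatible with φ along the projection and every finite locally free submodule G of E/F of rank s ≥
1 to which φ' restricts, deg G · (r − r') ≤ deg(E/F) · s. (The published statement also assumes F
semistable, which the published argument does not use; this row omits it.) -/
theorem result
    (X : Scheme.{0}) [X.Over (Spec (CommRingCat.of ℂ))] [IsIntegral X]
    [IsProper (X ↘ Spec (CommRingCat.of ℂ))] [Smooth (X ↘ Spec (CommRingCat.of ℂ))]
    (hdim : topologicalKrullDim X = 1)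
    (L : X.Modules) (hL : PicF.IsInvertible L)
    (r : ℕ) (hr : 0 < r) (E : X.Modules) (hE : FlatMod.IsFinLocFreeOfRank r E)
    (φ : E ⟶ CohB1.tensorMod E L)
    (hss : ∀ (G : X.Modules) (s : ℕ) (j : G ⟶ E) (ψ : G ⟶ CohB1.tensorMod G L), Mono j → 0 < s →
      FlatMod.IsFinLocFreeOfRank s G →
      ψ ≫ (CohB1.sheafifyMod X).map (MonoidalCategoryStruct.whiskerRight (C := CohB1.PMod X) j.val (CohB1.toPMod L)) = j ≫ φ →
      Curv2.deg ℂ X G s * (r : ℤ) ≤ Curv2.deg ℂ X E r * (s : ℤ))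
    (F : X.Modules) (r' : ℕ) (hr' : 0 < r') (hF : FlatMod.IsFinLocFreeOfRank r' F)
    (i : F ⟶ E) [Mono i] (ψF : F ⟶ CohB1.tensorMod F L)
    (hψF : ψF ≫ (CohB1.sheafifyMod X).map (MonoidalCategoryStruct.whiskerRight (C := CohB1.PMod X) i.val (CohB1.toPMod L)) = i ≫ φ)
    (hslope : Curv2.deg ℂ X F r' * (r : ℤ) = Curv2.deg ℂ X E r * (r' : ℤ)) :
    FlatMod.IsFinLocFreeOfRank (r - r') (cokernel i) ∧
    ∀ (φ' : cokernel i ⟶ CohB1.tensorMod (cokernel i) L),
      cokernel.π i ≫ φ' = φ ≫ (CohB1.sheafifyMod X).map (MonoidalCategoryStruct.whiskerRight (C := CohB1.PMod X) (cokernel.π i).val (CohB1.toPMod L)) →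
      ∀ (G : X.Modules) (s : ℕ) (j : G ⟶ cokernel i) (ψ : G ⟶ CohB1.tensorMod G L), Mono j → 0 < s →
        FlatMod.IsFinLocFreeOfRank s G →
        ψ ≫ (CohB1.sheafifyMod X).map (MonoidalCategoryStruct.whiskerRight (C := CohB1.PMod X) j.val (CohB1.toPMod L)) = j ≫ φ' →
        Curv2.deg ℂ X G s * ((r - r' : ℕ) : ℤ) ≤ Curv2.deg ℂ X (cokernel i) (r - r') * (s : ℤ) := by
  haveI := Groth.Agent.CurveCohLib.isNoetherian_of_proper (k := ℂ) (X := X)
  have hEf := Groth.Agent.CurveStable.isFinLocFree_of_rank hE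
  have hEc := Groth.Agent.CurveStable.coh_of_free ℂ hEf
  have hFf := Groth.Agent.CurveStable.isFinLocFree_of_rank hF
  have hFc := Groth.Agent.CurveStable.coh_of_free ℂ hFf
  have hLf := Groth.Agent.CurveStable.isFinLocFree_of_rank (Groth.Agent.InvEnd.isFinLocFreeOfRank_one hL)
  have hrF := Groth.Agent.CurveBundle.rk_eq hF
  have hrE := Groth.Agent.CurveBundle.rk_eq hE
  let φ₁ : E ⟶ (DCoh.tensorBi.obj E).obj L := φ
  rw [Groth.Agent.CurveSlope.deg_eq_dg ℂ hF, Groth.Agent.CurveSlope.deg_eq_dg ℂ hE] at hslope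
  -- the largest subbundle of rank r' over F
  obtain ⟨d, ⟨G, g, hg, hG, hrG, ⟨l, hl⟩, rfl⟩, hmax⟩ := Int.exists_greatest_of_bdd
    (P := fun d => ∃ (G : X.Modules) (g : G ⟶ E), Mono g ∧ FlatMod.IsFinLocFree G ∧
      Groth.Agent.CurveBundle.rk G = r' ∧ (∃ l : F ⟶ G, l ≫ g = i) ∧ Groth.Agent.CurveSlope.dg ℂ G = d)
    ⟨(Module.finrank ℂ (Coh.HH X E 0) : ℤ) - (r' : ℤ) * Curv2.euler ℂ X (Coh.structureModule X),
      fun d ⟨G, g, hg, hG, hrG, _, hd⟩ => by
        haveI := hg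
        rw [← hd, ← hrG]
        exact Groth.Agent.CurveStable.dg_le_h0 ℂ hdim.le g (Groth.Agent.CurveStable.coh_of_free ℂ hG) hEc⟩
    ⟨_, F, i, inferInstance, hFf, hrF, ⟨𝟙 _, Category.id_comp _⟩, rfl⟩
  haveI := hg
  have hGc := Groth.Agent.CurveStable.coh_of_free ℂ hG
  have hSG := Groth.Agent.CurveSlope.shortExact_cokernel_of_mono g
  have hQG := Groth.Agent.CurveSection.isFinLocFree_of_max_over ℂ hdim.le g (cokernel.π g) _ hSG hGc hEf
    (Groth.Agent.QCoh.isCoh_cokernel hGc.1 hEc g) fun P p hp hP hrP ⟨u, hu⟩ =>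
      hmax _ ⟨P, p, hp, hP, hrP.trans hrG, ⟨l ≫ u, by rw [Category.assoc, hu, hl]⟩, rfl⟩
  -- it is invariant
  let c : G ⟶ (DCoh.tensorBi.obj (cokernel g)).obj L := (g ≫ φ₁) ≫ Groth.Agent.CurveHiggs.twist L (cokernel.π g)
  have hc : c = 0 := by
    haveI : Mono l := mono_of_mono_fac hl
    let ψF₁ : F ⟶ (DCoh.tensorBi.obj F).obj L := ψF
    have hψF' : ψF₁ ≫ Groth.Agent.CurveHiggs.twist L i = i ≫ φ₁ := hψF
    have hlc : l ≫ c = 0 := by
      show l ≫ (g ≫ φ₁) ≫ _ = 0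
      rw [← Category.assoc, ← Category.assoc, hl, ← hψF', Category.assoc, ← Groth.Agent.CurveHiggs.twist_comp,
        ← hl, Category.assoc, cokernel.condition, comp_zero, Groth.Agent.CurveHiggs.twist_zero, comp_zero]
    have hTc : Coh.IsCoh (cokernel l) := Groth.Agent.QCoh.isCoh_cokernel hFc.1 hGc l
    have hT0 := Groth.Agent.CurveSlope.rk_add_coh ℂ _ _ _ (Groth.Agent.CurveSlope.shortExact_cokernel_of_mono l) hGc
    have hW : FlatMod.IsFinLocFree ((DCoh.tensorBi.obj (cokernel g)).obj L) :=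
      Groth.Agent.CurveHiggs.isFinLocFree_twist hL hQG
    rw [← cokernel.π_desc l c hlc]
    obtain ⟨I, π, j, hj, hfac, hKc, hIc, hπ, w, hS⟩ := Groth.Agent.CurveSlope.exists_factor hTc
      (Groth.Agent.CurveStable.coh_of_free ℂ hW) (cokernel.desc l c hlc)
    haveI := hj
    have hI := Groth.Agent.CurveBundle.isFinLocFree_of_mono ℂ hdim.le hIc j hW
    have hr1 := Groth.Agent.CurveSlope.rk_add_coh ℂ _ _ _ hS hTc
    rw [← hfac, (Groth.Agent.CurveBundle.isZero_of_rk_zero hI (by omega)).eq_of_tgt π 0, zero_comp, comp_zero]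
  obtain ⟨χ, hχ⟩ := Groth.Agent.CurveHiggs.exists_lift hLf g (cokernel.π g) _ hSG (g ≫ φ₁) hc
  have hrG1 : FlatMod.IsFinLocFreeOfRank r' G := hrG ▸ Groth.Agent.CurveBundle.isFinLocFreeOfRank_rk hG
  have hdG := hss G r' g χ hg hr' hrG1 hχ
  rw [Groth.Agent.CurveSlope.deg_eq_dg ℂ hrG1, Groth.Agent.CurveSlope.deg_eq_dg ℂ hE, ← hslope] at hdG
  have hle := le_of_mul_le_mul_right hdG (by exact_mod_cast hr : (0 : ℤ) < r)
  have hS := Groth.Agent.CurveSlope.shortExact_cokernel_of_mono i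
  have hQc : Coh.IsCoh (cokernel i) := Groth.Agent.QCoh.isCoh_cokernel hFc.1 hEc i
  have hQ := Groth.Agent.CurveSection.isFinLocFree_of_max_over ℂ hdim.le i (cokernel.π i) _ hS hFc hEf hQc
    fun P p hp hP hrP hu => (hmax _ ⟨P, p, hp, hP, hrP.trans hrF, hu, rfl⟩).trans hle
  have e1 := Groth.Agent.CurveSlope.rk_add_coh ℂ _ _ _ hS hEc
  have e2 := Groth.Agent.CurveSlope.dg_add ℂ _ _ _ hS hFc hEc hQc
  rw [hrE, hrF] at e1
  have hQr : FlatMod.IsFinLocFreeOfRank (r - r') (cokernel i) :=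
    (show Groth.Agent.CurveBundle.rk (cokernel i) = r - r' by omega) ▸ Groth.Agent.CurveBundle.isFinLocFreeOfRank_rk hQ
  refine ⟨hQr, fun φ' hφ' P s j ψ hj hs hP hψ => ?_⟩
  haveI := hj
  let φ₂ : cokernel i ⟶ (DCoh.tensorBi.obj (cokernel i)).obj L := φ'
  have hφ₂ : cokernel.π i ≫ φ₂ = φ₁ ≫ Groth.Agent.CurveHiggs.twist L (cokernel.π i) := hφ'
  let ψ₁ : P ⟶ (DCoh.tensorBi.obj P).obj L := ψ
  have hψ₂ : ψ₁ ≫ Groth.Agent.CurveHiggs.twist L j = j ≫ φ₂ := hψ
  have hPf := Groth.Agent.CurveStable.isFinLocFree_of_rank hP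
  have hPc := Groth.Agent.CurveStable.coh_of_free ℂ hPf
  -- the preimage
  let q : E ⟶ cokernel j := cokernel.π i ≫ cokernel.π j
  have hC : Coh.IsCoh (cokernel j) := Groth.Agent.QCoh.isCoh_cokernel hPc.1 hQc j
  haveI : Epi q := epi_comp _ _
  have hK := Groth.Agent.QCoh.isCoh_kernel hEc hC q
  have hKf := Groth.Agent.CurveBundle.isFinLocFree_of_mono ℂ hdim.le hK (kernel.ι q) hEf
  have hSq := Groth.Agent.CurveSlope.shortExact_kernel_of_epi q
  have hSj := Groth.Agent.CurveSlope.shortExact_cokernel_of_mono j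
  haveI := hSj.mono_f
  have hwu : (kernel.ι q ≫ cokernel.π i) ≫ cokernel.π j = 0 := by rw [Category.assoc]; exact kernel.condition q
  let u := hSj.exact.lift (kernel.ι q ≫ cokernel.π i) hwu
  have hu : u ≫ j = kernel.ι q ≫ cokernel.π i := hSj.exact.lift_f _ _
  have hKc : (kernel.ι q ≫ φ₁) ≫ Groth.Agent.CurveHiggs.twist L q = 0 := by
    show (kernel.ι q ≫ φ₁) ≫ Groth.Agent.CurveHiggs.twist L (cokernel.π i ≫ cokernel.π j) = 0
    rw [Groth.Agent.CurveHiggs.twist_comp, Category.assoc, ← Category.assoc φ₁, ← hφ₂, Category.assoc,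
      ← Category.assoc (kernel.ι q), ← hu, Category.assoc, ← Category.assoc j, ← hψ₂, Category.assoc,
      ← Groth.Agent.CurveHiggs.twist_comp, cokernel.condition, Groth.Agent.CurveHiggs.twist_zero, comp_zero,
      comp_zero]
  obtain ⟨χK, hχK⟩ := Groth.Agent.CurveHiggs.exists_lift hLf (kernel.ι q) q _ hSq (kernel.ι q ≫ φ₁) hKc
  have h1 := Groth.Agent.CurveSlope.rk_add_coh ℂ _ _ _ hSq hEc
  have h2 := Groth.Agent.CurveSlope.dg_add ℂ _ _ _ hSq hK hEc hC
  have h3 := Groth.Agent.CurveSlope.rk_add_coh ℂ _ _ _ hSj hQc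
  have h4 := Groth.Agent.CurveSlope.dg_add ℂ _ _ _ hSj hPc hQc hC
  have hrP := Groth.Agent.CurveBundle.rk_eq hP
  rw [hrP] at h3
  rw [hrE] at h1
  have hKr : Groth.Agent.CurveBundle.rk (kernel q) = r' + s := by omega
  have hK1 : FlatMod.IsFinLocFreeOfRank (r' + s) (kernel q) := hKr ▸ Groth.Agent.CurveBundle.isFinLocFreeOfRank_rk hKf
  have h5 := hss _ (r' + s) (kernel.ι q) χK inferInstance (by omega) hK1 hχK
  rw [Groth.Agent.CurveSlope.deg_eq_dg ℂ hK1, Groth.Agent.CurveSlope.deg_eq_dg ℂ hE] at h5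
  rw [Groth.Agent.CurveSlope.deg_eq_dg ℂ hP, Groth.Agent.CurveSlope.deg_eq_dg ℂ hQr]
  have hsub : ((r - r' : ℕ) : ℤ) = (r : ℤ) - r' := by
    rw [Nat.cast_sub (by omega)]
  rw [hsub]
  push_cast at h5
  have hle' : (0 : ℤ) ≤ (r : ℤ) - r' := by omega
  have h6 : Groth.Agent.CurveSlope.dg ℂ P * (r : ℤ) ≤ Groth.Agent.CurveSlope.dg ℂ E * (s : ℤ) := by
    have hKd : Groth.Agent.CurveSlope.dg ℂ (kernel q) =
        Groth.Agent.CurveSlope.dg ℂ F + Groth.Agent.CurveSlope.dg ℂ P := by linarith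
    rw [hKd] at h5
    linarith
  refine le_of_mul_le_mul_right ?_ (by exact_mod_cast hr : (0 : ℤ) < r)
  have h7 := mul_le_mul_of_nonneg_right h6 hle'
  linear_combination h7 + (s : ℤ) * (r : ℤ) * e2 + (s : ℤ) * hslope

end Groth.Agent.S15328
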