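import Groth.Statements.S1534
import Groth.Agent.S7835
import Groth.Agent.S5752
import Groth.Agent.CurveBC.Geometry
import Groth.Agent.DimOne.Basic
import Groth.Agent.CurveCohLib.SubBundle
import Groth.Agent.H23.ClosedPushLen
import Groth.Agent.GGAmple.Basic
import Groth.Agent.LC.ExtDim

set_option autoImplicit false
set_option backward.isDefEq.respectTransparency false
set_option backward.isDefEq.respectTransparency.types false
set_option linter.style.haveILetI false
universe u
open CategoryTheory CategoryTheory.Limits AlgebraicGeometry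
open Curves

namespace Groth.Agent.S1534
open Groth.Agent

/-- A proper scheme of dimension one over a field k whose global functions are k is connected, all of
its local rings are Cohen–Macaulay, and every irreducible component has dimension one. -/
theorem result (k : Type u) [Field k] (X : Scheme.{u}) [X.Over (Spec (CommRingCat.of k))]
    [IsProper (X ↘ (Spec (CommRingCat.of k)))] (hdim : topologicalKrullDim X = 1) (h0 : Module.finrank k (Coh.HH X (Coh.structureModule X) 0) = 1) :
    ConnectedSpace X ∧ (∀ x : X, LocCoh.IsCohenMacaulayLocalRing (X.presheaf.stalk x)) ∧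
      ∀ Z ∈ irreducibleComponents (X : Type u), topologicalKrullDim Z = 1 := by
  classical
  haveI := CurveCohLib.isNoetherian_of_proper (k := k) (X := X)
  haveI := CurveBC.connectedSpace_of_h0 k X h0
  have hbij := CurveBC.bijective_appTop k X h0
  have hred : _root_.IsReduced Γ(X, ⊤) := by
    haveI : _root_.IsReduced Γ(Spec (CommRingCat.of k), ⊤) :=
      isReduced_of_injective (Scheme.ΓSpecIso (CommRingCat.of k)).hom.hom
        (ConcreteCategory.bijective_of_isIso (Scheme.ΓSpecIso (CommRingCat.of k)).hom).1
    let e := RingEquiv.ofBijective (X ↘ Spec (CommRingCat.of k)).appTop.hom hbij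
    exact isReduced_of_injective e.symm.toRingHom e.symm.injective
  have hemb := S7835.result X hdim hred
  have hass : ∀ x : X, x ∈ AssSch.Ass (Coh.structureModule X) ↔
      LocCoh.depth (X.presheaf.stalk x) (X.presheaf.stalk x) = 0 := fun x => by
    rw [S5752.result]
    let e := LinearEquiv.ofBijective (LinearMap.toSpanSingleton (X.presheaf.stalk x)
      ((Coh.structureModule X).presheaf.stalk x) (H23.UnitSec.one x))
      ⟨fun a b h => sub_eq_zero.1 (H23.UnitSec.eq_zero_of_smul_one (a - b) (by rw [sub_smul]; exact sub_eq_zero.2 h)),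
        fun m => Submodule.mem_span_singleton.1 ((H23.UnitSec.span_one x).ge (Submodule.mem_top : m ∈ ⊤))⟩
    rw [LinearEquiv.AssociatedPrimes.eq e]
    rfl
  have hd1 : ∀ x : X, ringKrullDim (X.presheaf.stalk x) ≤ 1 := fun x =>
    (CurveCohLib.ringKrullDim_stalk_le_topologicalKrullDim x).trans hdim.le
  have hgen : ∀ η : X, DimOne.IsGen η → ringKrullDim (X.presheaf.stalk η) = 0 := fun η hη => by
    rw [ringKrullDim_stalk_eq_coheight, Order.coheight_eq_zero.2 fun y hy => ?_]
    · rfl
    · rw [hη y hy]
  have hgen' : ∀ η : X, DimOne.IsGen η → η ∈ AssSch.Ass (Coh.structureModule X) := fun η hη => by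
    rw [hass]
    have h1 := LC.depth_le_supportDim (R := X.presheaf.stalk η) (M := X.presheaf.stalk η)
    rw [Module.supportDim_self_eq_ringKrullDim, hgen η hη] at h1
    exact nonpos_iff_eq_zero.1 (WithBot.coe_le_coe.1 h1)
  refine ⟨inferInstance, fun x => ?_, fun Z hZ => ?_⟩
  · haveI : IsNoetherianRing (X.presheaf.stalk x) := inferInstance
    refine { supportDim_eq_depth := ?_ }
    rw [Module.supportDim_self_eq_ringKrullDim]
    have hle := LC.depth_le_supportDim (R := X.presheaf.stalk x) (M := X.presheaf.stalk x)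
    rw [Module.supportDim_self_eq_ringKrullDim] at hle
    refine le_antisymm ?_ hle
    by_cases hx : DimOne.IsGen x
    · rw [hgen x hx]
      exact WithBot.coe_le_coe.2 bot_le
    · obtain ⟨η, hη, hηx⟩ := DimOne.exists_isGen_specializes x
      refine (hd1 x).trans (WithBot.coe_le_coe.2 (Order.one_le_iff_pos.2 (pos_iff_ne_zero.2 fun h => hx ?_)))
      rwa [hemb x ((hass x).2 h) η (hgen' η hη) hηx]
  · refine le_antisymm ((H23.TopDim.dim_le_dim_of_subset (Set.subset_univ Z)).trans
      ((IsHomeomorph.topologicalKrullDim_eq _ (Homeomorph.Set.univ X).isHomeomorph).le.trans hdim.le)) ?_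
    by_contra hlt
    haveI : Nonempty ↥Z := hZ.1.nonempty.to_subtype
    haveI : TopologicalSpace.NoetherianSpace ↥Z := Topology.IsInducing.subtypeVal.noetherianSpace
    obtain ⟨hfin, hdisc⟩ := H23.TopDim.finite_discrete_of_dim_le_zero (GGAmple.withBot_le_zero _ (not_le.1 hlt))
    obtain ⟨z, hz⟩ := hZ.1.nonempty
    have hsub : ∀ w ∈ Z, w = z := fun w hw => by
      obtain ⟨η, hη⟩ := QuasiSober.sober hZ.1 (isClosed_of_mem_irreducibleComponents Z hZ)
      have h2 : ∀ v ∈ Z, v = η := fun v hv => congrArg Subtype.val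
        (((subtype_specializes_iff _ _).2 (hη.specializes hv) : (⟨η, hη.mem⟩ : ↥Z) ⤳ ⟨v, hv⟩).eq).symm
      rw [h2 w hw, h2 z hz]
    have hZz : Z = {z} := Set.eq_singleton_iff_unique_mem.2 ⟨hz, hsub⟩
    obtain ⟨O, hO, hOne, hOZ⟩ := TopologicalSpace.NoetherianSpace.exists_isOpen_nonempty_subset_irreducibleComponent Z hZ
    have hopen : IsOpen Z := by
      obtain ⟨o, ho⟩ := hOne
      rw [show Z = O from Set.Subset.antisymm (fun w hw => by rw [hsub w hw, ← hsub o (hOZ ho)]; exact ho) hOZ]
      exact hO
    have huniv : Z = Set.univ := IsClopen.eq_univ ⟨isClosed_of_mem_irreducibleComponents Z hZ, hopen⟩ ⟨z, hz⟩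
    have hle : topologicalKrullDim X ≤ topologicalKrullDim ↥Z :=
      (IsHomeomorph.topologicalKrullDim_eq _ (Homeomorph.Set.univ X).isHomeomorph).ge.trans
        (H23.TopDim.dim_le_dim_of_subset huniv.ge)
    exact hlt (hdim.ge.trans hle)

end Groth.Agent.S1534
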