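import Groth.Statements.S15358
import Groth.Agent.AlgStLib.DiagQC

set_option autoImplicit false
set_option linter.style.haveILetI false
set_option backward.isDefEq.respectTransparency false
set_option backward.isDefEq.respectTransparency.types false
universe u
open CategoryTheory AlgebraicGeometry
open AlgSt

namespace Groth.Agent.S15358

open Groth.Agent.AlgStLib Groth.Agent.FibBase

variable {S : Scheme.{u}} {𝒳 : AlgSt.Cat S}

local notation "Δ" => FibCat.diag (FibCat.toSelf 𝒳)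
local notation "pr₁" => FibCat.fpFst (FibCat.toSelf 𝒳) (FibCat.toSelf 𝒳)
local notation "pr₂" => FibCat.fpSnd (FibCat.toSelf 𝒳) (FibCat.toSelf 𝒳)

/-- A point of the image of the diagonal makes the components isomorphic over a field. -/
theorem exists_field_iso (h𝒳 : AlgSt.IsAlgStack Scheme.fppfPrecoverage 𝒳) {V : Over S}
    (a : FibCat.overCat V ⥤ᵇ FibCat.fp (FibCat.toSelf 𝒳) (FibCat.toSelf 𝒳)) (p : ↥V.left)
    (hp : AlgSt.Points.ofChart a p ∈ Set.range (AlgSt.Points.map Δ)) :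
    ∃ (L : Type u) (_ : Field L) (g : Spec (CommRingCat.of L) ⟶ V.left), Set.range g.base = {p} ∧
      Nonempty (BasedFunctor.comp (AlgSt.overMap (Over.homMk g rfl : Over.mk (g ≫ V.hom) ⟶ V)) (BasedFunctor.comp a pr₁) ≅
        BasedFunctor.comp (AlgSt.overMap (Over.homMk g rfl : Over.mk (g ≫ V.hom) ⟶ V)) (BasedFunctor.comp a pr₂)) := by
  have hP := isAlgStack_fp h𝒳 h𝒳 isStack_selfOver repByAlgSpWith_diag_toSelf_selfOver
    (FibCat.toSelf 𝒳) (FibCat.toSelf 𝒳)
  obtain ⟨x₀, hx₀⟩ := hp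
  obtain ⟨w, hw, -⟩ := exists_pts_fp h𝒳.isStack.1 hP.isStack.1 (isFibGrpd_overCat V) Δ a (ptAt V p) x₀ hx₀.symm
  obtain ⟨⟨L, str, o, lies⟩, rfl⟩ := AlgSt.Points.mk_surjective w
  have hg : FibCat.IsFibGrpd (FibCat.fp a Δ).p :=
    fp_isFibGrpd (isFibGrpd_overCat V) h𝒳.isStack.1 hP.isStack.1
  obtain ⟨E, i, hi⟩ := exists_overCat_obj hg o lies
  obtain ⟨c, ⟨ic⟩⟩ := GerbFlat.exists_overMap_iso (BasedFunctor.comp E (FibCat.fpFst a Δ))
  let κ : ↥(Over.mk str).left := IsLocalRing.closedPoint L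
  let one : (FibCat.overCat (Over.mk str) : AlgSt.Cat S).obj := Over.mk (𝟙 _)
  have hE : AlgSt.Points.map E (ptAt (Over.mk str) κ) = AlgSt.Points.mk ⟨L, str, o, lies⟩ := by
    haveI : Subsingleton (AlgSt.Points (FibCat.overCat (Over.mk str) : AlgSt.Cat S)) := OnePt.subsingleton_points_field
    rw [Subsingleton.elim (ptAt (Over.mk str) κ) (AlgSt.Points.mk { K := L, str := str, obj := one, lies := rfl })]
    exact pts_eq_of_hom (p := AlgSt.FPt.map E { K := L, str := str, obj := one, lies := rfl })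
      (q := ⟨L, str, o, lies⟩) i.hom
  have hc : c.left κ = p := by
    rw [← hE, ← pts_map_comp, pts_map_congr ic] at hw
    have := congrArg (toSch V) hw
    rwa [toSch_map_overMap, toSch_ptAt, toSch_ptAt] at this
  let g : Spec (CommRingCat.of L) ⟶ V.left := c.left
  refine ⟨L, inferInstance, g, Set.eq_singleton_iff_unique_mem.2 ⟨⟨κ, hc⟩, ?_⟩, ?_⟩
  · rintro _ ⟨s, rfl⟩
    obtain rfl : s = κ := Subsingleton.elim (α := PrimeSpectrum L) _ _
    exact hc
  let e : Over.mk (g ≫ V.hom) ⟶ Over.mk str := Over.homMk (𝟙 _) (by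
    show 𝟙 _ ≫ str = g ≫ V.hom
    rw [Category.id_comp]
    exact (Over.w c).symm)
  have hec : e ≫ c = (Over.homMk g rfl : Over.mk (g ≫ V.hom) ⟶ V) := Over.OverMorphism.ext (Category.id_comp _)
  let E' := BasedFunctor.comp (AlgSt.overMap e) E
  let m : BasedFunctor.comp (AlgSt.overMap (Over.homMk g rfl : Over.mk (g ≫ V.hom) ⟶ V)) a ≅
      BasedFunctor.comp (BasedFunctor.comp E' (FibCat.fpSnd a Δ)) Δ :=
    whiskerRightIso ((eqToIso (congrArg AlgSt.overMap hec)).symm ≪≫ (overMapCompIso e c).symm ≪≫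
      whiskerLeftIso (AlgSt.overMap e) ic.symm) a ≪≫ whiskerLeftIso E' (FibCat.fpIso a Δ)
  exact ⟨whiskerRightIso m pr₁ ≪≫ (whiskerRightIso m pr₂).symm⟩


/-- Let S be a locally Noetherian scheme and 𝒳 an algebraic stack over S in the weak sense (no
quasi-separatedness assumed) which is locally of finite presentation over S (every scheme smooth
over 𝒳 is locally of finite presentation over S). Assume: for every affine scheme U over S and every
object x of 𝒳 over U, the sheaf Aut(x) = Isom(x, x) is an algebraic space quasi-compact over U; and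
for every integral affine scheme U over S and all objects x, y of 𝒳 over U such that, at each point
t of some dense subset of U, x and y become isomorphic after pulling back to the spectrum of some
field mapping onto t, the objects x and y become isomorphic over some dense open subscheme of U.
Then the diagonal of 𝒳 over S is quasi-compact. (The published statement, for stacks whose diagonal
is representable by quasi-separated algebraic spaces, concludes that 𝒳 is quasi-separated; this row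
assumes nothing on the diagonal beyond representability and concludes that it is quasi-compact.) -/
theorem result (S : Scheme.{u})
    [IsLocallyNoetherian S] (𝒳 : AlgSt.Cat S) (h𝒳 : AlgSt.IsAlgStack Scheme.fppfPrecoverage 𝒳)
    (hlfp : ∀ (U : Over S) (x : FibCat.overCat U ⥤ᵇ 𝒳),
      AlgSt.RepByAlgSpWith (AlgSp.LocP @Smooth) x → LocallyOfFinitePresentation U.hom)
    (hi : ∀ (U : Over S), IsAffine U.left → ∀ (x : FibCat.overCat U ⥤ᵇ 𝒳),
      ∃ (F : AlgSp.Space S) (e : AlgSt.ofSp F.obj ⥤ᵇ FibCat.fp (FibCat.fpLift x x (Iso.refl _)) (FibCat.diag (FibCat.toSelf 𝒳))),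
        FibCat.IsEquivOver e ∧
          AlgSp.IsQuasiCompactMor (AlgSt.spMapOfOver (BasedFunctor.comp e (FibCat.fpFst _ _))))
    (hii : ∀ (U : Over S), IsAffine U.left → IsIntegral U.left → ∀ (x y : FibCat.overCat U ⥤ᵇ 𝒳)
      (D : Set ↥U.left), Dense D →
      (∀ t ∈ D, ∃ (L : Type u) (_ : Field L) (g : Spec (CommRingCat.of L) ⟶ U.left), Set.range g.base = {t} ∧
        Nonempty (BasedFunctor.comp (AlgSt.overMap (Over.homMk g rfl : Over.mk (g ≫ U.hom) ⟶ U)) x ≅
          BasedFunctor.comp (AlgSt.overMap (Over.homMk g rfl : Over.mk (g ≫ U.hom) ⟶ U)) y)) →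
      ∃ V : U.left.Opens, Dense (V : Set ↥U.left) ∧
        Nonempty (BasedFunctor.comp (AlgSt.overMap (Over.homMk V.ι rfl : Over.mk (V.ι ≫ U.hom) ⟶ U)) x ≅
          BasedFunctor.comp (AlgSt.overMap (Over.homMk V.ι rfl : Over.mk (V.ι ≫ U.hom) ⟶ U)) y)) :
    AlgSt.RepByAlgSpWith AlgSp.IsQuasiCompactMor (FibCat.diag (FibCat.toSelf 𝒳)) := by
  have hX := h𝒳.isStack.1
  have hP := isAlgStack_fp h𝒳 h𝒳 isStack_selfOver repByAlgSpWith_diag_toSelf_selfOver
    (FibCat.toSelf 𝒳) (FibCat.toSelf 𝒳)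
  refine (repByAlgSpWith_isQuasiCompactMor_iff h𝒳 hP.isStack hP.diag h𝒳.diag).2
    (isQuasiCompactMor_of_affine h𝒳 hP.isStack hP.diag fun U u hU => ?_)
  haveI := hU
  -- lifts spread out
  have hc : MonoQC.SpreadsPts (FibCat.diag (FibCat.toSelf 𝒳)) := by
    intro A _ _ sA a D hD hDp
    obtain ⟨V, hV, ⟨j⟩⟩ := hii (Over.mk sA) (inferInstanceAs (IsAffine (Spec (CommRingCat.of A))))
      (inferInstanceAs (IsIntegral (Spec (CommRingCat.of A))))
      (BasedFunctor.comp a (FibCat.fpFst (FibCat.toSelf 𝒳) (FibCat.toSelf 𝒳)))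
      (BasedFunctor.comp a (FibCat.fpSnd (FibCat.toSelf 𝒳) (FibCat.toSelf 𝒳))) D hD
      fun t ht => exists_field_iso h𝒳 a t (hDp t ht)
    haveI : Nonempty ↥(Over.mk sA).left := inferInstanceAs (Nonempty (PrimeSpectrum A))
    let o : Over.mk (V.ι ≫ (Over.mk sA).hom) ⟶ Over.mk sA := Over.homMk V.ι rfl
    let y : FibCat.overCat (Over.mk (V.ι ≫ (Over.mk sA).hom)) ⥤ᵇ 𝒳 :=
      BasedFunctor.comp (AlgSt.overMap o) (BasedFunctor.comp a (FibCat.fpFst (FibCat.toSelf 𝒳) (FibCat.toSelf 𝒳)))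
    exact ⟨V, hV.nonempty, y, ⟨DiagQC.fpSelfIso (c := BasedFunctor.comp y (FibCat.diag (FibCat.toSelf 𝒳)))
      (c' := BasedFunctor.comp (AlgSt.overMap o) a) (Iso.refl y) j⟩⟩
  -- automorphism sheaves are quasi-compact
  have hfib : ∀ (W : Over S), IsAffine W.left → ∀ y : FibCat.overCat W ⥤ᵇ 𝒳,
      AlgSt.IsQuasiCompact (FibCat.fp (BasedFunctor.comp y (FibCat.diag (FibCat.toSelf 𝒳)))
        (FibCat.diag (FibCat.toSelf 𝒳))) := fun W hW y => by
    haveI := hW
    obtain ⟨F, e, he, hq⟩ := hi W hW y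
    have hFq : AlgSt.IsQuasiCompact (FibCat.fp (FibCat.fpLift y y (Iso.refl _)) (FibCat.diag (FibCat.toSelf 𝒳))) :=
      isQuasiCompact_of_equiv he (isQuasiCompact_ofSp F
        (hq (AlgSp.IsAlgSpace.yon_obj W) (Groth.Agent.AlgSpLib.isQuasiCompactSp_yon W) (𝟙 _) (𝟙 F.obj) _
          (IsPullback.of_horiz_isIso ⟨(Category.id_comp _).trans (Category.comp_id _).symm⟩)))
    have : (BasedFunctor.id (FibCat.fp (FibCat.toSelf 𝒳) (FibCat.toSelf 𝒳))).toFunctor.Full :=
      inferInstanceAs (𝟭 _).Full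
    have : (BasedFunctor.id (FibCat.fp (FibCat.toSelf 𝒳) (FibCat.toSelf 𝒳))).toFunctor.Faithful :=
      inferInstanceAs (𝟭 _).Faithful
    exact isQuasiCompact_of_equiv
      (fpMap_isEquivOver (F := BasedFunctor.comp y (FibCat.diag (FibCat.toSelf 𝒳)))
        (G := FibCat.diag (FibCat.toSelf 𝒳)) (F' := FibCat.fpLift y y (Iso.refl _))
        (G' := FibCat.diag (FibCat.toSelf 𝒳)) (a := BasedFunctor.id _) (b := BasedFunctor.id _)
        (c := BasedFunctor.id _) (DiagQC.fpSelfIso (Iso.refl _) (Iso.refl _)) (Iso.refl _)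
        isEquivOver_id isEquivOver_id) hFq
  -- a locally Noetherian chart through which `u` lifts
  obtain ⟨V, v, hv, hv'⟩ := h𝒳.atlas
  haveI : LocallyOfFinitePresentation V.hom := hlfp V v hv
  obtain ⟨T₁, k₁, h₁, ⟨i₁⟩, -, hR₁, hs₁⟩ := exists_chart_fp hX
    (BasedFunctor.comp u (FibCat.fpFst (FibCat.toSelf 𝒳) (FibCat.toSelf 𝒳))) (repByAlgSp1_of_repByAlgSpWith hv)
  obtain ⟨T₂, k₂, h₂, ⟨i₂⟩, -, hR₂, hs₂⟩ := exists_chart_fp hX
    (BasedFunctor.comp u (FibCat.fpSnd (FibCat.toSelf 𝒳) (FibCat.toSelf 𝒳))) (repByAlgSp1_of_repByAlgSpWith hv)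
  let V₂ : Over S := Over.mk (Limits.pullback.fst V.hom V.hom ≫ V.hom)
  haveI : IsLocallyNoetherian V.left := LocallyOfFiniteType.isLocallyNoetherian V.hom
  haveI : IsLocallyNoetherian V₂.left := LocallyOfFiniteType.isLocallyNoetherian (Limits.pullback.fst V.hom V.hom)
  let q₁ : V₂ ⟶ V := Over.homMk (Limits.pullback.fst V.hom V.hom) rfl
  let q₂ : V₂ ⟶ V := Over.homMk (Limits.pullback.snd V.hom V.hom) Limits.pullback.condition.symm
  let v₂ : FibCat.overCat V₂ ⥤ᵇ FibCat.fp (FibCat.toSelf 𝒳) (FibCat.toSelf 𝒳) :=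
    FibCat.fpLift (BasedFunctor.comp (AlgSt.overMap q₁) v) (BasedFunctor.comp (AlgSt.overMap q₂) v) (selfIso _ _)
  haveI : Flat k₁.left := hR₁ _ etale_le_flat (repByAlgSpWith_flat_of_smooth hv)
  haveI : LocallyOfFinitePresentation k₁.left := hR₁ _ etale_le_lfp (repByAlgSpWith_lfp_of_smooth hv)
  haveI : Flat k₂.left := hR₂ _ etale_le_flat (repByAlgSpWith_flat_of_smooth hv)
  haveI : LocallyOfFinitePresentation k₂.left := hR₂ _ etale_le_lfp (repByAlgSpWith_lfp_of_smooth hv)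
  let T : Over S := Over.mk (Limits.pullback.fst k₁.left k₂.left ≫ T₁.hom)
  let l₁ : T ⟶ T₁ := Over.homMk (Limits.pullback.fst k₁.left k₂.left) rfl
  let l₂ : T ⟶ T₂ := Over.homMk (Limits.pullback.snd k₁.left k₂.left) (by
    show Limits.pullback.snd k₁.left k₂.left ≫ T₂.hom = Limits.pullback.fst k₁.left k₂.left ≫ T₁.hom
    rw [← Over.w k₁, ← Over.w k₂, Limits.pullback.condition_assoc])
  let k := l₁ ≫ k₁
  have hk12 : k = l₂ ≫ k₂ := Over.OverMorphism.ext Limits.pullback.condition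
  let h : T ⟶ V₂ := Over.homMk (Limits.pullback.lift (l₁ ≫ h₁).left (l₂ ≫ h₂).left
    ((Over.w (l₁ ≫ h₁)).trans (Over.w (l₂ ≫ h₂)).symm)) (by
      show _ ≫ Limits.pullback.fst V.hom V.hom ≫ V.hom = _
      rw [Limits.pullback.lift_fst_assoc]
      exact Over.w (l₁ ≫ h₁))
  have hq₁ : h ≫ q₁ = l₁ ≫ h₁ := Over.OverMorphism.ext (Limits.pullback.lift_fst _ _ _)
  have hq₂ : h ≫ q₂ = l₂ ≫ h₂ := Over.OverMorphism.ext (Limits.pullback.lift_snd _ _ _)
  let ikh : BasedFunctor.comp (AlgSt.overMap k) u ≅ BasedFunctor.comp (AlgSt.overMap h) v₂ :=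
    DiagQC.fpSelfIso
      (whiskerRightIso (overMapCompIso l₁ k₁).symm
          (BasedFunctor.comp u (FibCat.fpFst (FibCat.toSelf 𝒳) (FibCat.toSelf 𝒳))) ≪≫
        whiskerLeftIso (AlgSt.overMap l₁) i₁ ≪≫ whiskerRightIso (overMapCompIso l₁ h₁) v ≪≫
        whiskerRightIso ((eqToIso (congrArg AlgSt.overMap hq₁.symm)) ≪≫ (overMapCompIso h q₁).symm) v)
      (whiskerRightIso (eqToIso (congrArg AlgSt.overMap hk12) ≪≫ (overMapCompIso l₂ k₂).symm)
          (BasedFunctor.comp u (FibCat.fpSnd (FibCat.toSelf 𝒳) (FibCat.toSelf 𝒳))) ≪≫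
        whiskerLeftIso (AlgSt.overMap l₂) i₂ ≪≫ whiskerRightIso (overMapCompIso l₂ h₂) v ≪≫
        whiskerRightIso ((eqToIso (congrArg AlgSt.overMap hq₂.symm)) ≪≫ (overMapCompIso h q₂).symm) v)
  haveI : Surjective k₁.left := ⟨hs₁ hv'⟩
  haveI : Surjective k₂.left := ⟨hs₂ hv'⟩
  have hkl : k.left = Limits.pullback.fst k₁.left k₂.left ≫ k₁.left := rfl
  have hko : IsOpenMap k.left := by
    rw [hkl]
    exact isOpenMap_of_flat_lfp _ inferInstance inferInstance
  have hks : Function.Surjective k.left := by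
    rw [hkl]
    exact (Limits.pullback.fst k₁.left k₂.left ≫ k₁.left).surjective
  obtain ⟨I, hI, Z, z, hZ, hl, hcov⟩ := MonoQC.exists_pieces hc v₂ U u T k h ikh hko hks
  haveI := hI
  exact DiagQC.isQuasiCompact_fp hP h𝒳 hfib u Z z hZ hl hcov

end Groth.Agent.S15358
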