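import Groth.Statements.S15362
import Groth.Agent.LangLib.Semilinear

set_option autoImplicit false
universe u v w
open CAlg

namespace Groth.Agent.S15362

/-- For an algebraically closed field L of characteristic p > 0, a commutative L-algebra R integral over
L, and a finitely presented R-module M carrying an additive endomorphism φ with φ(r·m) = r^p·φ(m)
for r ∈ R, m ∈ M, the map m ↦ φ(m) − m is onto. (R is taken of exponential characteristic p so that
its Frobenius is a ring endomorphism; for a non-zero L-algebra this is automatic.) -/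
theorem result (p : ℕ) [Fact p.Prime]
    (L : Type u) [Field L] [IsAlgClosed L] [CharP L p]
    (R : Type v) [CommRing R] [Algebra L R] [Algebra.IsIntegral L R] [ExpChar R p]
    (M : Type w) [AddCommGroup M] [Module R M] [Module.FinitePresentation R M]
    (φ : M →ₛₗ[frobenius R p] M) :
    Function.Surjective fun m : M => φ m - m := by
  classical
  obtain ⟨b, e, he⟩ := Module.Finite.exists_fin (R := R) (M := M)
  have hrep : ∀ m : M, ∃ y : Fin b → R, ∑ i, y i • e i = m := fun m =>
    (Submodule.mem_span_range_iff_exists_fun R).1 (by rw [he]; trivial)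
  intro m
  choose C hC using fun j => hrep (φ (e j))
  obtain ⟨y, hy⟩ := hrep m
  let R₀ := Algebra.adjoin L (Set.range (fun q : Fin b × Fin b => C q.1 q.2) ∪ Set.range y)
  have : Module.Finite L R₀ := by
    rw [← RingHom.finite_algebraMap]
    exact RingHom.finite_algebraMap.2 (Module.Finite.iff_fg.2
      (fg_adjoin_of_finite ((Set.finite_range _).union (Set.finite_range _))
        fun x _ => Algebra.IsIntegral.isIntegral x))
  let Cc : Fin b → Fin b → R₀ := fun j i => ⟨C j i, Algebra.subset_adjoin (Or.inl ⟨(j, i), rfl⟩)⟩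
  let yy : Fin b → R₀ := fun i => ⟨y i, Algebra.subset_adjoin (Or.inr ⟨i, rfl⟩)⟩
  have hadd : ∀ a c : R₀, (a + c) ^ p = a ^ p + c ^ p := fun a c => Subtype.ext (by
    push_cast
    exact add_pow_expChar (a : R) (c : R) p)
  let F : (Fin b → R₀) →+ (Fin b → R₀) :=
    AddMonoidHom.mk' (fun x i => ∑ j, Cc j i * x j ^ p) (fun x x' => funext fun i => by
      simp only [Pi.add_apply, hadd, mul_add, Finset.sum_add_distrib])
  obtain ⟨x, hx⟩ := LangLib.exists_sub_eq (k := L) p F (fun c v => funext fun i => by
    show ∑ j, Cc j i * (c • v j) ^ p = c ^ p • ∑ j, Cc j i * v j ^ p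
    simp only [smul_pow, Finset.smul_sum, mul_smul_comm]) yy
  refine ⟨∑ j, (x j : R) • e j, ?_⟩
  show φ _ - _ = m
  have hx' : ∀ i, (∑ j, C j i * (x j : R) ^ p) - (x i : R) = y i := fun i => by
    simpa [F, Cc, yy] using congrArg Subtype.val (congrFun hx i)
  have h1 : φ (∑ j, (x j : R) • e j) = ∑ i, (∑ j, C j i * (x j : R) ^ p) • e i := by
    rw [map_sum]
    simp only [map_smulₛₗ, frobenius_def, ← hC, Finset.smul_sum, smul_smul, Finset.sum_smul]
    rw [Finset.sum_comm]
    exact Finset.sum_congr rfl fun i _ => Finset.sum_congr rfl fun j _ => by rw [mul_comm]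
  rw [h1, ← Finset.sum_sub_distrib]
  simp only [← sub_smul, hx', hy]

end Groth.Agent.S15362
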