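import Groth.Statements.S15365
import Mathlib

set_option autoImplicit false
universe u
open scoped BigOperators
open CAlg

namespace Groth.Agent.S15365

/-- Let A be a commutative ring of characteristic p > 0 and (h_{ij})_{1 ≤ i,j ≤ n} a square matrix over
A, the matrix of a commutative p-Lie algebra (L, φ) with L free with basis e_1, …, e_n and φ(e_j) =
Σ_i h_{ij} e_i. The associated finite group scheme Spec A[X_1, …, X_n]/(X_j^p − Σ_i h_{ij} X_i)_{1 ≤
j ≤ n} is étale over A if and only if the matrix (h_{ij}) is invertible, i.e. its determinant is a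
unit of A. Only the algebra structure enters this assertion. -/
theorem result (p : ℕ) [Fact p.Prime]
    (A : Type u) [CommRing A] [CharP A p] (n : ℕ) (h : Matrix (Fin n) (Fin n) A) :
    Algebra.Etale A (MvPolynomial (Fin n) A ⧸ Ideal.span (Set.range fun j : Fin n =>
        (MvPolynomial.X j : MvPolynomial (Fin n) A) ^ p -
          ∑ i : Fin n, MvPolynomial.C (h i j) * MvPolynomial.X i)) ↔
      IsUnit h.det := by
  classical
  have hp2 : 2 ≤ p := (Fact.out : p.Prime).two_le
  set F : Fin n → MvPolynomial (Fin n) A := fun j => MvPolynomial.X j ^ p - ∑ i, MvPolynomial.C (h i j) * MvPolynomial.X i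
  set J : Ideal (MvPolynomial (Fin n) A) := Ideal.span (Set.range F)
  constructor
  · intro _
    by_contra hdet
    obtain ⟨m, hm, hle⟩ := Ideal.exists_le_maximal (Ideal.span {h.det}) (by rwa [Ne, Ideal.span_singleton_eq_top])
    letI := Ideal.Quotient.field m
    let hb := (Ideal.Quotient.mk m).mapMatrix h
    have hd : hb.transpose.det = 0 := by
      rw [Matrix.det_transpose, ← RingHom.map_det, Ideal.Quotient.eq_zero_iff_mem]
      exact hle (Ideal.mem_span_singleton_self _)
    obtain ⟨v, hv, hv0⟩ := Matrix.exists_mulVec_eq_zero_iff.2 hd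
    let D := DualNumber (A ⧸ m)
    have heps : ∀ a b : A ⧸ m, (TrivSqZeroExt.inr a : D) * TrivSqZeroExt.inr b = 0 :=
      fun a b => TrivSqZeroExt.inr_mul_inr _ a b
    have hkill : ∀ w : Fin n → A ⧸ m, (∀ j, ∑ i, Ideal.Quotient.mk m (h i j) * w i = 0) →
        J ≤ RingHom.ker (MvPolynomial.aeval (R := A) (fun i => (TrivSqZeroExt.inr (w i) : D))) := by
      intro w hw
      rw [Ideal.span_le]
      rintro _ ⟨j, rfl⟩
      show MvPolynomial.aeval (R := A) (fun i => (TrivSqZeroExt.inr (w i) : D)) (F j) = 0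
      simp only [F, map_sub, map_pow, MvPolynomial.aeval_X, map_sum, map_mul, MvPolynomial.aeval_C]
      rw [show (TrivSqZeroExt.inr (w j) : D) ^ p = 0 by
        obtain ⟨e, he⟩ := Nat.exists_eq_add_of_le hp2
        rw [he, pow_add, pow_two, heps, zero_mul], zero_sub, neg_eq_zero]
      have hsum : ∑ i, algebraMap A D (h i j) * TrivSqZeroExt.inr (w i) =
          TrivSqZeroExt.inr (∑ i, Ideal.Quotient.mk m (h i j) * w i) := by
        rw [TrivSqZeroExt.inr_sum]
        refine Finset.sum_congr rfl fun i _ => ?_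
        rw [ IsScalarTower.algebraMap_apply A (A ⧸ m) D,
          show algebraMap (A ⧸ m) D = TrivSqZeroExt.inlHom (A ⧸ m) (A ⧸ m) from rfl]
        exact TrivSqZeroExt.inl_mul_inr _ _
      rw [hsum, hw, TrivSqZeroExt.inr_zero]
    let I : Ideal D := RingHom.ker (TrivSqZeroExt.fstHom A (A ⧸ m) (A ⧸ m))
    have hI : I ^ 2 = ⊥ := by
      rw [eq_bot_iff, pow_two, Ideal.mul_le]
      intro a ha b hb
      have ha' : TrivSqZeroExt.fst a = 0 := ha
      have hb' : TrivSqZeroExt.fst b = 0 := hb
      rw [← TrivSqZeroExt.inl_fst_add_inr_snd_eq a, ← TrivSqZeroExt.inl_fst_add_inr_snd_eq b, ha', hb',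
        TrivSqZeroExt.inl_zero, zero_add, zero_add, heps]
      exact zero_mem _
    let φ : (w : Fin n → A ⧸ m) → (∀ j, ∑ i, Ideal.Quotient.mk m (h i j) * w i = 0) →
        ((MvPolynomial (Fin n) A ⧸ J) →ₐ[A] D) := fun w hw =>
      Ideal.Quotient.liftₐ J (MvPolynomial.aeval (fun i => (TrivSqZeroExt.inr (w i) : D))) (fun a ha => hkill w hw ha)
    have hv' : ∀ j, ∑ i, Ideal.Quotient.mk m (h i j) * v i = 0 := fun j => congrFun hv0 j
    have h0 : ∀ j : Fin n, ∑ i : Fin n, Ideal.Quotient.mk m (h i j) * (0 : Fin n → A ⧸ m) i = 0 := by simp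
    have heq : φ v hv' = φ 0 h0 := by
      refine Algebra.FormallyUnramified.comp_injective I hI (Ideal.Quotient.algHom_ext _ (MvPolynomial.algHom_ext fun i => ?_))
      show Ideal.Quotient.mk I (MvPolynomial.aeval (R := A) (fun i => (TrivSqZeroExt.inr (v i) : D)) (MvPolynomial.X i)) =
        Ideal.Quotient.mk I (MvPolynomial.aeval (R := A) (fun i => (TrivSqZeroExt.inr ((0 : Fin n → A ⧸ m) i) : D)) (MvPolynomial.X i))
      rw [MvPolynomial.aeval_X, MvPolynomial.aeval_X, Ideal.Quotient.eq]
      show TrivSqZeroExt.fst _ = (0 : A ⧸ m)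
      simp
    refine hv (funext fun i => ?_)
    have := congrArg TrivSqZeroExt.snd (AlgHom.congr_fun heq (Ideal.Quotient.mk J (MvPolynomial.X i)))
    change TrivSqZeroExt.snd (MvPolynomial.aeval (R := A) (fun i => (TrivSqZeroExt.inr (v i) : D)) (MvPolynomial.X i)) =
      TrivSqZeroExt.snd (MvPolynomial.aeval (R := A) (fun i => (TrivSqZeroExt.inr ((0 : Fin n → A ⧸ m) i) : D)) (MvPolynomial.X i)) at this
    simpa using this
  · intro hdet
    refine ⟨?_, Algebra.FinitePresentation.quotient (Submodule.fg_span (Set.finite_range F))⟩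
    rw [Algebra.FormallyEtale.iff_comp_bijective]
    intro B _ _ I hI
    have hpB : (p : B) = 0 := by rw [← map_natCast (algebraMap A B), CharP.cast_eq_zero, map_zero]
    have hprod : ∀ a ∈ I, ∀ b ∈ I, a * b = 0 := fun a ha b hb => by
      have := Ideal.mul_mem_mul ha hb
      rwa [← pow_two, hI, Ideal.mem_bot] at this
    have hpow : ∀ b e : B, e ∈ I → (b + e) ^ p = b ^ p := by
      intro b e he
      rw [add_pow_prime_eq (Fact.out : p.Prime), hpB, zero_mul, zero_mul, zero_mul, add_zero]
      obtain ⟨r, hr⟩ := Nat.exists_eq_add_of_le hp2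
      rw [hr, pow_add e, pow_two e, hprod e he e he, zero_mul, add_zero]
    let M : Matrix (Fin n) (Fin n) B := (h.map (algebraMap A B)).transpose
    haveI : Invertible M := by
      refine Matrix.invertibleOfIsUnitDet M ?_
      rw [Matrix.det_transpose, ← RingHom.mapMatrix_apply, ← RingHom.map_det]
      exact hdet.map _
    have hF : ∀ (b : Fin n → B) (j : Fin n), MvPolynomial.aeval b (F j) = b j ^ p - M.mulVec b j := by
      intro b j
      simp [F, M, Matrix.mulVec, dotProduct]
    have hshift : ∀ (b e : Fin n → B), (∀ i, e i ∈ I) → ∀ j,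
        MvPolynomial.aeval (b + e) (F j) = MvPolynomial.aeval b (F j) - M.mulVec e j := by
      intro b e he j
      rw [hF, hF, Matrix.mulVec_add, Pi.add_apply, Pi.add_apply, hpow _ _ (he j)]
      ring
    constructor
    · intro f g hfg
      have hd : ∀ i, g (Ideal.Quotient.mk J (MvPolynomial.X i)) - f (Ideal.Quotient.mk J (MvPolynomial.X i)) ∈ I :=
        fun i => Ideal.Quotient.eq.1 (AlgHom.congr_fun hfg.symm (Ideal.Quotient.mk J (MvPolynomial.X i)))
      let b : Fin n → B := fun i => f (Ideal.Quotient.mk J (MvPolynomial.X i))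
      let c : Fin n → B := fun i => g (Ideal.Quotient.mk J (MvPolynomial.X i))
      have hf : ∀ (f : (MvPolynomial (Fin n) A ⧸ J) →ₐ[A] B) (j : Fin n),
          MvPolynomial.aeval (fun i => f (Ideal.Quotient.mk J (MvPolynomial.X i))) (F j) = 0 := by
        intro f j
        rw [show (fun i => f (Ideal.Quotient.mk J (MvPolynomial.X i))) = fun i => (f.comp (Ideal.Quotient.mkₐ A J)) (MvPolynomial.X i) from rfl,
          show (fun i => (f.comp (Ideal.Quotient.mkₐ A J)) (MvPolynomial.X i)) = (f.comp (Ideal.Quotient.mkₐ A J)) ∘ MvPolynomial.X from rfl,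
          ← MvPolynomial.aeval_unique]
        show f (Ideal.Quotient.mk J (F j)) = 0
        rw [Ideal.Quotient.eq_zero_iff_mem.2 (Ideal.subset_span (Set.mem_range_self j) : F j ∈ J), map_zero]
      have h0 : M.mulVec (c - b) = 0 := by
        funext j
        have := hshift b (c - b) hd j
        rw [add_sub_cancel] at this
        rw [show MvPolynomial.aeval c (F j) = 0 from hf g j, show MvPolynomial.aeval b (F j) = 0 from hf f j, zero_sub] at this
        exact neg_eq_zero.1 this.symm
      have h1 := congrArg (⅟M).mulVec h0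
      rw [Matrix.mulVec_mulVec, invOf_mul_self, Matrix.one_mulVec, Matrix.mulVec_zero, sub_eq_zero] at h1
      exact Ideal.Quotient.algHom_ext _ (MvPolynomial.algHom_ext fun i => (congrFun h1 i).symm)
    · intro g
      choose b hb using fun i => Ideal.Quotient.mk_surjective (g (Ideal.Quotient.mk J (MvPolynomial.X i)))
      have hg : ((Ideal.Quotient.mkₐ A I).comp (MvPolynomial.aeval b)) = g.comp (Ideal.Quotient.mkₐ A J) :=
        MvPolynomial.algHom_ext fun i => by simp [hb]
      have hr : ∀ j, MvPolynomial.aeval b (F j) ∈ I := fun j => by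
        rw [← Ideal.Quotient.eq_zero_iff_mem]
        refine (AlgHom.congr_fun hg (F j)).trans ?_
        show g (Ideal.Quotient.mk J (F j)) = 0
        rw [Ideal.Quotient.eq_zero_iff_mem.2 (Ideal.subset_span (Set.mem_range_self j) : F j ∈ J), map_zero]
      let e : Fin n → B := (⅟M).mulVec (fun j => MvPolynomial.aeval b (F j))
      have he : ∀ i, e i ∈ I := fun i => by
        show (⅟M).mulVec (fun j => MvPolynomial.aeval b (F j)) i ∈ I
        simp only [Matrix.mulVec, dotProduct]
        exact Ideal.sum_mem _ fun j _ => Ideal.mul_mem_left _ _ (hr j)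
      have hz : J ≤ RingHom.ker (MvPolynomial.aeval (R := A) (b + e)) := by
        rw [Ideal.span_le]
        rintro _ ⟨j, rfl⟩
        show MvPolynomial.aeval (b + e) (F j) = 0
        rw [hshift b e he j]
        simp only [e, Matrix.mulVec_mulVec, mul_invOf_self, Matrix.one_mulVec, sub_self]
      refine ⟨Ideal.Quotient.liftₐ J (MvPolynomial.aeval (b + e)) (fun a ha => hz ha), ?_⟩
      refine Ideal.Quotient.algHom_ext _ (MvPolynomial.algHom_ext fun i => ?_)
      show Ideal.Quotient.mk I (MvPolynomial.aeval (R := A) (b + e) (MvPolynomial.X i)) = g (Ideal.Quotient.mk J (MvPolynomial.X i))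
      rw [MvPolynomial.aeval_X, ← hb, Ideal.Quotient.eq]
      simpa using he i

end Groth.Agent.S15365
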