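import Groth.Statements.S15366
import Mathlib.RingTheory.MvPowerSeries.Equiv
import Mathlib.RingTheory.LaurentSeries
import Mathlib.RingTheory.AdicCompletion.Completeness
import Mathlib.RingTheory.PowerSeries.Inverse
import Mathlib.RingTheory.Localization.AtPrime.Basic
import Mathlib.FieldTheory.IsAlgClosed.AlgebraicClosure

set_option autoImplicit false
universe u
open CAlg

namespace Groth.Agent.S15366

noncomputable section

abbrev Lfield (k : Type u) [Field k] : Type u := AlgebraicClosure (LaurentSeries k)

def iota (k : Type u) [Field k] : MvPowerSeries (Fin 1) k →+* Lfield k :=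
  ((algebraMap (LaurentSeries k) (Lfield k)).comp (HahnSeries.ofPowerSeries ℤ k)).comp
    (MvPowerSeries.renameEquiv k (Equiv.ofUnique (Fin 1) Unit)).toRingEquiv.toRingHom

theorem iota_injective (k : Type u) [Field k] : Function.Injective (iota k) :=
  ((algebraMap (LaurentSeries k) (Lfield k)).injective.comp HahnSeries.ofPowerSeries_injective).comp
    (MvPowerSeries.renameEquiv k (Equiv.ofUnique (Fin 1) Unit)).injective

/-- `k[[t₁,t₂]] → L[[t]]` with `L` an algebraic closure of `k((t₂))`. -/
def psi (k : Type u) [Field k] : MvPowerSeries (Fin 2) k →ₐ[k] PowerSeries (Lfield k) :=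
  { (PowerSeries.map (iota k)).comp (MvPowerSeries.finSuccEquiv k 1).toRingEquiv.toRingHom with
    commutes' := fun r => by
      show PowerSeries.map (iota k) (MvPowerSeries.finSuccEquiv k 1 (MvPowerSeries.C r)) = _
      rw [MvPowerSeries.finSuccEquiv_C, PowerSeries.map_C, PowerSeries.algebraMap_apply]
      congr 1
      show algebraMap (LaurentSeries k) (Lfield k) (HahnSeries.ofPowerSeries ℤ k
        (MvPowerSeries.renameEquiv k (Equiv.ofUnique (Fin 1) Unit) (algebraMap k (MvPowerSeries (Fin 1) k) r))) = _
      rw [AlgEquiv.commutes]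
      rw [IsScalarTower.algebraMap_apply k (LaurentSeries k) (Lfield k)]
      congr 1 }

theorem psi_injective (k : Type u) [Field k] : Function.Injective (psi k) :=
  (PowerSeries.map_injective _ (iota_injective k)).comp (MvPowerSeries.finSuccEquiv k 1).injective

theorem psi_X (k : Type u) [Field k] : psi k (MvPowerSeries.X 0) = PowerSeries.X := by
  show PowerSeries.map (iota k) (MvPowerSeries.finSuccEquiv k 1 (MvPowerSeries.X 0)) = _
  rw [MvPowerSeries.finSuccEquiv_X_zero, PowerSeries.map_X]

theorem isUnit_psi (k : Type u) [Field k] (f : MvPowerSeries (Fin 2) k)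
    (hf : f ∉ Ideal.span {(MvPowerSeries.X 0 : MvPowerSeries (Fin 2) k)}) : IsUnit (psi k f) := by
  rw [PowerSeries.isUnit_iff_constantCoeff, isUnit_iff_ne_zero]
  intro h0
  refine hf ?_
  let g := MvPowerSeries.finSuccEquiv k 1 f
  have hg : PowerSeries.constantCoeff g = 0 := by
    have h1 : PowerSeries.constantCoeff (PowerSeries.map (iota k) g) = 0 := h0
    rw [← PowerSeries.coeff_zero_eq_constantCoeff_apply, PowerSeries.coeff_map, PowerSeries.coeff_zero_eq_constantCoeff_apply] at h1
    exact iota_injective k (h1.trans (map_zero _).symm)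
  obtain ⟨q, hq⟩ := PowerSeries.X_dvd_iff.mpr hg
  rw [Ideal.mem_span_singleton]
  refine ⟨(MvPowerSeries.finSuccEquiv k 1).symm q, (MvPowerSeries.finSuccEquiv k 1).injective ?_⟩
  rw [map_mul, AlgEquiv.apply_symm_apply, MvPowerSeries.finSuccEquiv_X_zero]
  exact hq

theorem main (k : Type u) [Field k]
    (P : Ideal (MvPowerSeries (Fin 2) k))
    (hP : P = Ideal.span {(MvPowerSeries.X 0 : MvPowerSeries (Fin 2) k)}) [P.IsPrime] :
    ∃ (A : Type u) (_ : CommRing A) (_ : IsDomain A) (_ : IsDiscreteValuationRing A) (_ : Algebra k A)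
      (φ : Localization.AtPrime P →ₐ[k] A),
      IsAdicComplete (IsLocalRing.maximalIdeal A) A ∧ IsAlgClosed (IsLocalRing.ResidueField A) ∧
        Function.Injective φ ∧ IsLocalHom φ.toRingHom ∧
          Irreducible (φ (algebraMap (MvPowerSeries (Fin 2) k) (Localization.AtPrime P)
            (MvPowerSeries.X 0))) := by
  have hu : ∀ y : P.primeCompl, IsUnit (psi k y) := fun y => isUnit_psi k y (fun h => y.2 (hP.symm ▸ h))
  let φ : Localization.AtPrime P →ₐ[k] PowerSeries (Lfield k) := IsLocalization.liftAlgHom hu
  have hφ : ∀ x, φ (algebraMap (MvPowerSeries (Fin 2) k) (Localization.AtPrime P) x) = psi k x := fun x =>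
    IsLocalization.lift_eq _ x
  refine ⟨PowerSeries (Lfield k), inferInstance, inferInstance, inferInstance, inferInstance, φ, ?_, ?_, ?_, ?_, ?_⟩
  · rw [PowerSeries.maximalIdeal_eq_span_X]
    infer_instance
  · exact IsAlgClosed.of_ringEquiv _ _ (PowerSeries.residueFieldOfPowerSeries (k := Lfield k)).symm
  · exact (IsLocalization.lift_injective_iff (S := Localization.AtPrime P) hu).mpr fun x y =>
      ⟨fun h => (hφ x).symm.trans ((congrArg φ h).trans (hφ y)), fun h => congrArg _ (psi_injective k h)⟩
  · refine ((IsLocalRing.local_hom_TFAE φ.toRingHom).out 0 2).mpr ?_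
    rw [← Localization.AtPrime.map_eq_maximalIdeal, Ideal.map_map, Ideal.map_le_iff_le_comap]
    refine hP.trans_le ((Ideal.span_singleton_le_iff_mem _).mpr ?_)
    show φ (algebraMap (MvPowerSeries (Fin 2) k) (Localization.AtPrime P) (MvPowerSeries.X 0)) ∈
      IsLocalRing.maximalIdeal (PowerSeries (Lfield k))
    rw [hφ, psi_X, PowerSeries.maximalIdeal_eq_span_X]
    exact Ideal.mem_span_singleton_self _
  · rw [hφ, psi_X]
    exact PowerSeries.X_irreducible

end

/-- Let k be an algebraically closed field of characteristic p > 0, R = k[[t₁, t₂]], and O = R_{(t₁)}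
the local ring of Spec R at the generic point x of the divisor t₁ = 0 (a discrete valuation ring,
with uniformizer t₁ and residue field k((t₂))). Then O embeds, by an injective local k-algebra map
φ, into some complete discrete valuation ring A containing k whose residue field is algebraically
closed and in which φ(t₁) is still a uniformizer. The prime ideal (t₁) is passed as an ideal P equal
to it together with its primality. -/
theorem result
    (p : ℕ) [Fact p.Prime] (k : Type u) [Field k] [IsAlgClosed k] [CharP k p]
    (P : Ideal (MvPowerSeries (Fin 2) k))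
    (hP : P = Ideal.span {(MvPowerSeries.X 0 : MvPowerSeries (Fin 2) k)}) [P.IsPrime] :
    ∃ (A : Type u) (_ : CommRing A) (_ : IsDomain A) (_ : IsDiscreteValuationRing A) (_ : Algebra k A)
      (φ : Localization.AtPrime P →ₐ[k] A),
      IsAdicComplete (IsLocalRing.maximalIdeal A) A ∧ IsAlgClosed (IsLocalRing.ResidueField A) ∧
        Function.Injective φ ∧ IsLocalHom φ.toRingHom ∧
          Irreducible (φ (algebraMap (MvPowerSeries (Fin 2) k) (Localization.AtPrime P)
            (MvPowerSeries.X 0))) := by
  exact main k P hP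

end Groth.Agent.S15366
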