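import Groth.Statements.S15376
import Groth.Agent.SurfRR.Basic
import Groth.Agent.SurfRR.Curve
import Groth.Agent.S14810
import Groth.Agent.Lib.AmpleEmbed
import Groth.Agent.VolLib.Basic
import Groth.Agent.CurveEmbed.Pow

set_option autoImplicit false
set_option backward.isDefEq.respectTransparency false
set_option backward.isDefEq.respectTransparency.types false
set_option maxHeartbeats 1000000
set_option linter.style.haveILetI false
universe u
open CategoryTheory CategoryTheory.Limits AlgebraicGeometry
open Biell

namespace Groth.Agent.S15376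
open Groth.Agent Groth.Agent.H23.PicMul

/-- Let k be an algebraically closed field and X a (quasi-)bielliptic surface over k, meaning here: X is
an integral k-scheme, proper and smooth of relative dimension 2 over k and carrying an ample
invertible sheaf, whose canonical sheaf ω (a second exterior power of Ω_{X/k}) is numerically
trivial (degree 0 on every integral closed curve in X) and whose second ℓ-adic Betti number (the
rank of lim_ν H²(X_et, Z/ℓ^ν)) equals 2 for every prime ℓ invertible in k. Then the geometric genus
p_g(X) = dim_k H²(X, O_X) equals 1 if and only if ω ≅ O_X, i.e. ω has order 1 in Pic(X). (The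
published statement is for bielliptic surfaces and has a third equivalent condition, non-reducedness
of the identity component of the Picard scheme, which is not stated here; the equivalence of the two
conditions stated rests only on the numerical triviality of ω on an integral smooth projective
surface, so this row states it for quasi-bielliptic surfaces as well.) -/
theorem result (k : Type u) [Field k] [IsAlgClosed k] (X : Scheme.{u}) [X.Over (Spec (CommRingCat.of k))]
    [IsIntegral X] [IsProper (X ↘ Spec (CommRingCat.of k))] [SmoothOfRelativeDimension 2 (X ↘ Spec (CommRingCat.of k))]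
    (hproj : ∃ H : X.Modules, CohB1.IsAmple H)
    (ω : X.Modules) (hω : Canon.IsTopDiff (X ↘ Spec (CommRingCat.of k)) 2 ω) (hnum : Pic13.IsNumEquivZero k X ω)
    (hb2 : ∀ ℓ : ℕ, ℓ.Prime → (ℓ : k) ≠ 0 → EtAdic.betti X ℓ 2 = 2) :
    Module.finrank k (Coh.HH X (Coh.structureModule X) 2) = 1 ↔ Nonempty (ω ≅ Coh.structureModule X) := by
  haveI : Smooth (X ↘ Spec (CommRingCat.of k)) := SmoothOfRelativeDimension.smooth (n := 2) _
  haveI := CurveCohLib.isNoetherian_of_proper (k := k) (X := X)
  have hdim : topologicalKrullDim X = ((2 : ℕ) : WithBot ℕ∞) :=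
    ExtShX.SmDual.dim_eq (k := k) (r := 2)
  obtain ⟨H, hH⟩ := hproj
  have hproj' : ∃ (n : ℕ) (ι : X ⟶ CohB1.ProjSpace n k), IsClosedImmersion ι ∧
      ι ≫ CohB1.ProjSpace.toSpec n k = X ↘ Spec (CommRingCat.of k) := by
    obtain ⟨n, r, hr, hrk⟩ := AmpleEmbed.exists_closedImmersion (X ↘ Spec (CommRingCat.of k)) hH
    exact ⟨n, r, hr, hrk⟩
  have hωi := SurfRR.isInvertible_canonical k hdim hproj' hω
  have uO : CohB1.tensorMod (Coh.structureModule X) (Coh.structureModule X) ≅ Coh.structureModule X :=
    (IntSym.CurveSurface.nonempty_unit_tensor (Coh.structureModule X)).some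
  obtain ⟨eω⟩ : Nonempty (CohB1.tensorMod ω (Coh.structureModule X) ≅ ω) := cl_eq_iff.1 (by
    rw [cl_tensor, ← H23.PicMul.one_def, mul_one])
  have hdual := SurfRR.finrank_dual k hdim hproj' hω InvX.isInvertible_structureModule uO (q := 2) le_rfl
  rw [HilbPoly.finrank_HH_iso k eω, show 2 - 2 = 0 from rfl] at hdual
  rw [hdual]
  refine ⟨fun h => ?_, fun ⟨e⟩ => ?_⟩
  · obtain ⟨τ, hτ⟩ := VolLib.exists_section_of_pos (k := k) (E := ω) (by omega)
    exact S14810.result k X (isField_of_universallyClosed (f := X ↘ Spec (CommRingCat.of k))) ω hωi hnum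
      (InvX.ofSect τ) (CurveEmbed.ofSect_ne_zero hτ)
  · rw [HilbPoly.finrank_HH_iso k e]
    exact SurfRR.finrank_h0_structure k X

end Groth.Agent.S15376
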