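import Groth.Statements.S15386
import Groth.Agent.QuotLib.BalProdEquiv

/-!
The product of a homogeneous space `G/H` with a `G`-scheme `X` is the balanced product of `X` along `H`,
so the quotient stack of `G/H × X` by `G` is the quotient stack of `X` by `H`.
-/

set_option autoImplicit false
set_option backward.isDefEq.respectTransparency false
set_option backward.isDefEq.respectTransparency.types false
universe u
open QuotStk

namespace Groth.Agent.S15386

open CategoryTheory CategoryTheory.Limits MonoidalCategory CartesianMonoidalCategory MonObj GrpObj AlgebraicGeometry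
  Groth.Agent.GrpSchLib

variable {S : Scheme.{u}} {G H X Q : Over S} [GrpObj G] [GrpObj H] {i : H ⟶ G} [IsMonHom i]
  {aX : AlgGrp.Action G X} {aQ : AlgGrp.Action G Q} {q₀ : 𝟙_ (Over S) ⟶ Q}

local notation "K₀" => Scheme.fppfPrecoverage

variable (aX aQ q₀) in
/-- `(g, x) ↦ (g · q₀, g · x)`. -/
noncomputable def orbitProd : G ⊗ X ⟶ Q ⊗ X := lift (fst G X ≫ aQ.orbitMap q₀) aX.act

theorem lift_orbitProd {T : Over S} (g : T ⟶ G) (x : T ⟶ X) :
    lift g x ≫ orbitProd aX aQ q₀ = lift (lift g (toUnit T ≫ q₀) ≫ aQ.act) (lift g x ≫ aX.act) := by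
  rw [orbitProd, comp_lift, lift_fst_assoc, AlgGrp.Action.comp_orbitMap]

theorem isBalProd [Mono i] (hQ : ChGrp.IsHomog K₀ i aQ q₀) :
    ChGrp.IsBalProd K₀ i (aX.restrict i) (aQ.prod aX) (orbitProd aX aQ q₀) := by
  have horb : ∀ {T : Over S} (g : T ⟶ G) (h : T ⟶ H),
      lift (g * (h ≫ i)) (toUnit T ≫ q₀) ≫ aQ.act = lift g (toUnit T ≫ q₀) ≫ aQ.act := fun {T} g h => by
    have h1 := congrArg (lift g h ≫ ·) hQ.2.1.w
    simp only [lift_fst_assoc, Category.assoc, lift_whiskerLeft_assoc] at h1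
    rw [← Category.assoc (lift g (h ≫ i)), ← Hom.mul_def, AlgGrp.Action.comp_orbitMap,
      AlgGrp.Action.comp_orbitMap] at h1
    exact h1.symm
  refine ⟨?_, ?_, ?_⟩
  · refine AlgGrp.Action.hom_ext_lift₂ fun T g p => ?_
    have hp : lift (p ≫ fst G X) (p ≫ snd G X) = p := by rw [← comp_lift, lift_fst_snd, Category.comp_id]
    rw [lift_whiskerLeft_assoc, ← hp, AlgGrp.Action.lift_prod_act_assoc, AlgGrp.Action.lift_trivial_act,
      lift_orbitProd, lift_orbitProd, AlgGrp.Action.lift_prod_act]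
    show lift (lift (lift g (p ≫ fst G X) ≫ μ[G]) _ ≫ aQ.act) _ = _
    rw [← Hom.mul_def, AlgGrp.Action.lift_mul_act]
    congr 1
    exact AlgGrp.Action.lift_mul_act aX g (p ≫ fst G X) (p ≫ snd G X)
  · have hw : (ChGrp.twist i (aX.restrict i)).act ≫ orbitProd aX aQ q₀ = snd H (G ⊗ X) ≫ orbitProd aX aQ q₀ := by
      refine AlgGrp.Action.hom_ext_lift₂ fun T h p => ?_
      have hp : lift (p ≫ fst G X) (p ≫ snd G X) = p := by rw [← comp_lift, lift_fst_snd, Category.comp_id]
      rw [lift_snd_assoc, ← hp, ChGrp.lift_twist_act_assoc, lift_orbitProd, lift_orbitProd,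
        AlgGrp.Action.lift_restrict_act, ← AlgGrp.Action.lift_mul_act, inv_mul_cancel_right]
      congr 1
      rw [← horb (p ≫ fst G X * (h ≫ i)⁻¹) h, inv_mul_cancel_right]
    refine ⟨⟨hw⟩, ⟨PullbackCone.isLimitAux' _ fun s => ?_⟩⟩
    let g₁ := s.fst ≫ fst G X
    let x₁ := s.fst ≫ snd G X
    let g₂ := s.snd ≫ fst G X
    let x₂ := s.snd ≫ snd G X
    have e₁ : lift g₁ x₁ = s.fst := by rw [← comp_lift, lift_fst_snd, Category.comp_id]
    have e₂ : lift g₂ x₂ = s.snd := by rw [← comp_lift, lift_fst_snd, Category.comp_id]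
    have hc := s.condition
    rw [← e₁, ← e₂, lift_orbitProd, lift_orbitProd] at hc
    have hq : g₁ ≫ aQ.orbitMap q₀ = g₂ ≫ aQ.orbitMap q₀ := by
      rw [AlgGrp.Action.comp_orbitMap, AlgGrp.Action.comp_orbitMap]
      simpa using congrArg (· ≫ fst Q X) hc
    have hx : lift g₁ x₁ ≫ aX.act = lift g₂ x₂ ≫ aX.act := by simpa using congrArg (· ≫ snd Q X) hc
    let l := hQ.2.1.lift g₁ g₂ hq
    let h := l ≫ snd G H
    have hl : l = lift g₁ h := by
      apply CartesianMonoidalCategory.hom_ext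
      · rw [lift_fst]; exact hQ.2.1.lift_fst _ _ _
      · rw [lift_snd]
    have hh : g₁ * (h ≫ i) = g₂ := by
      have := hQ.2.1.lift_snd g₁ g₂ hq
      rw [show hQ.2.1.lift g₁ g₂ hq = lift g₁ h from hl, lift_whiskerLeft_assoc, ← Hom.mul_def] at this
      exact this
    have hg : g₂ * (h ≫ i)⁻¹ = g₁ := by rw [← hh, mul_inv_cancel_right]
    have hz : lift (h ≫ i) x₂ ≫ aX.act = x₁ := by
      have := congrArg (fun k => lift g₁⁻¹ k ≫ aX.act) hx
      rw [← AlgGrp.Action.lift_mul_act, ← AlgGrp.Action.lift_mul_act, inv_mul_cancel, AlgGrp.Action.lift_one_act,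
        ← hh, inv_mul_cancel_left] at this
      exact this.symm
    have hact : lift h s.snd ≫ (ChGrp.twist i (aX.restrict i)).act = s.fst := by
      rw [← e₂, ChGrp.lift_twist_act, AlgGrp.Action.lift_restrict_act, hg, hz, e₁]
    refine ⟨lift h s.snd, hact, lift_snd _ _, fun {m} hm₁ hm₂ => ?_⟩
    change m ≫ (ChGrp.twist i (aX.restrict i)).act = s.fst at hm₁
    change m ≫ snd H (G ⊗ X) = s.snd at hm₂
    have hm : m = lift (m ≫ fst H (G ⊗ X)) s.snd := by
      apply CartesianMonoidalCategory.hom_ext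
      · rw [lift_fst]
      · rw [lift_snd, hm₂]
    rw [hm, ← e₂, ChGrp.lift_twist_act, ← e₁] at hm₁
    have h' := congrArg (· ≫ fst G X) hm₁
    simp only [lift_fst] at h'
    have : m ≫ fst H (G ⊗ X) = h := by
      rw [← cancel_mono i, ← inv_inj]
      exact mul_left_cancel (h'.trans hg.symm)
    rw [hm, this]
  · obtain ⟨R, hR, hsec⟩ := hQ.2.2
    obtain ⟨J₀, W, c, rfl⟩ := Presieve.exists_eq_ofArrows R
    rw [Groth.Agent.AlgStLib.SpQuot.mem_fppfPrecoverage_iff] at hR
    refine ⟨Presieve.ofArrows (fun j => pullback (fst Q X).left (c j)) (fun j => pullback.fst (fst Q X).left (c j)),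
      Groth.Agent.AlgStLib.SpQuot.mem_fppfPrecoverage_iff.2 ⟨fun x => ?_, fun j => ?_⟩, ?_⟩
    · obtain ⟨j, y, hy⟩ := hR.1 ((fst Q X).left x)
      obtain ⟨w, hw, -⟩ := Scheme.Pullback.exists_preimage_pullback x y hy.symm
      exact ⟨j, w, hw⟩
    · obtain ⟨_, _⟩ := hR.2 j
      exact ⟨inferInstance, inferInstance⟩
    · rintro _ _ ⟨j⟩
      obtain ⟨s, hs⟩ := hsec (c j) ⟨j⟩
      have hs' : s ≫ (aQ.orbitMap q₀).left = c j := hs
      let T : Over S := Over.mk (pullback.fst (fst Q X).left (c j) ≫ (Q ⊗ X).hom)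
      let p : T ⟶ Q ⊗ X := Over.homMk (pullback.fst (fst Q X).left (c j)) rfl
      have hg' : (pullback.snd (fst Q X).left (c j) ≫ s) ≫ (aQ.orbitMap q₀).left = p.left ≫ (fst Q X).left := by
        rw [Category.assoc, hs']
        exact pullback.condition.symm
      let g : T ⟶ G := Over.homMk (pullback.snd (fst Q X).left (c j) ≫ s) (by
        rw [← Over.w (aQ.orbitMap q₀), ← Category.assoc, hg', Category.assoc, Over.w (fst Q X)]
        exact Over.w p)
      have hg : g ≫ aQ.orbitMap q₀ = p ≫ fst Q X := Over.OverMorphism.ext hg'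
      rw [AlgGrp.Action.comp_orbitMap] at hg
      let l : T ⟶ G ⊗ X := lift g (lift g⁻¹ (p ≫ snd Q X) ≫ aX.act)
      have hl : l ≫ orbitProd aX aQ q₀ = p := by
        rw [lift_orbitProd, hg, ← AlgGrp.Action.lift_mul_act, mul_inv_cancel, AlgGrp.Action.lift_one_act, ← comp_lift,
          lift_fst_snd, Category.comp_id]
      exact ⟨l.left, congrArg CommaMorphism.left hl⟩

open CategoryTheory MonoidalCategory CartesianMonoidalCategory MonObj AlgebraicGeometry in
/-- `[X/H] ≅ [G/H × X / G]`. -/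
theorem result (k : Type u) [Field k]
    (G H X Q : Over (Spec (CommRingCat.of k))) [GrpObj G] [GrpObj H]
    (i : H ⟶ G) [IsMonHom i] [IsClosedImmersion i.left] [Smooth G.hom] [IsAffineHom G.hom]
    (aX : AlgGrp.Action G X) (aQ : AlgGrp.Action G Q) (q₀ : 𝟙_ (Over (Spec (CommRingCat.of k))) ⟶ Q)
    (hQ : ChGrp.IsHomog Scheme.fppfPrecoverage i aQ q₀) :
    AlgSt.IsQuotientOf Scheme.fppfPrecoverage H (aX.restrict i)
      (AlgSt.QuotSt Scheme.fppfPrecoverage G (aQ.prod aX)) := by
  haveI : Mono i := (Over.forget _).mono_of_mono_map (show Mono i.left from inferInstance)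
  haveI : IsAffineHom H.hom := by rw [← Over.w i]; infer_instance
  exact Groth.Agent.QuotLib.BalProd.exists_equiv (isBalProd hQ)

end Groth.Agent.S15386
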