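import Groth.Statements.S15392
import Groth.Agent.FinDecomp.Square

set_option autoImplicit false
set_option backward.isDefEq.respectTransparency false
set_option backward.isDefEq.respectTransparency.types false
set_option maxHeartbeats 1000000
set_option linter.style.haveILetI false
universe u
open CategoryTheory CategoryTheory.Limits MonoidalCategory CartesianMonoidalCategory MonObj GrpObj AlgebraicGeometry
open AbVar

namespace Groth.Agent.S15392

/-- Let k be an algebraically closed field of characteristic zero, A and B abelian varieties over k
(proper smooth k-group schemes with geometrically connected fibres), π : A → B a homomorphism which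
is an isogeny (finite and surjective), and E a finite locally free O_A-module. For a k-rational
point a of A write t_a : A → A for the translation by a (the product of the identity and the
constant map a in the group Hom(A, A)). Then π^*π_*E is isomorphic to the direct sum of the
translates t_a^*E over the k-rational points a of A with π(a) equal to the unit of B, that is over
the k-points of the kernel of π (existence of an isomorphism). -/
theorem result (k : Type u) [Field k] [IsAlgClosed k] [CharZero k]
    (A B : Over (Spec (CommRingCat.of k))) [GrpObj A] [IsProper A.hom] [Smooth A.hom] [GeometricallyConnected A.hom]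
    [GrpObj B] [IsProper B.hom] [Smooth B.hom] [GeometricallyConnected B.hom]
    (π : A ⟶ B) [IsMonHom π] [IsFinite π.left] [Surjective π.left]
    (E : A.left.Modules) (hE : FlatMod.IsFinLocFree E) :
    Nonempty ((Scheme.Modules.pullback π.left).obj ((Scheme.Modules.pushforward π.left).obj E) ≅
      ∐ fun a : {a : 𝟙_ (Over (Spec (CommRingCat.of k))) ⟶ A // a ≫ π = 1} =>
        (Scheme.Modules.pullback (𝟙 A * (toUnit A ≫ a.1)).left).obj E) := by
  classical
  haveI := Groth.Agent.FinDecomp.finite_kerPt π
  let s := Groth.Agent.FinDecomp.sec π
  haveI hs : ∀ a, IsOpenImmersion (s a) := Groth.Agent.FinDecomp.isOpenImmersion_sec π inferInstance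
  let p₁ := Limits.pullback.fst π.left π.left
  let p₂ := Limits.pullback.snd π.left π.left
  haveI hbc : IsIso (CohBC.bc0 π.left π.left p₂ p₁ (IsPullback.of_hasPullback π.left π.left).w E) :=
    Groth.Agent.FlatBC6.isIso_bc0_affine (IsPullback.of_hasPullback π.left π.left)
      (Groth.Agent.QCoh.isQCoh_of_isFinLocFree hE)
  let M := (Scheme.Modules.pullback p₁).obj E
  let Fp := fun a => (Scheme.Modules.pushforward (s a)).obj (M.restrict (s a))
  haveI : IsIso (Groth.Agent.FinDecomp.toProd s M) := Groth.Agent.FinDecomp.isIso_toProd s
    (fun p => Groth.Agent.FinDecomp.exists_mem_range π p)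
    (fun i j h => disjoint_iff_inf_le.2 fun x hx =>
      (Set.disjoint_left.1 (Groth.Agent.FinDecomp.disjoint_range π h) hx.1 hx.2).elim) M
  haveI : PreservesLimitsOfSize.{u, u} (Scheme.Modules.pushforward p₂) :=
    (Scheme.Modules.pullbackPushforwardAdjunction p₂).rightAdjoint_preservesLimits
  let T := fun a : Groth.Agent.FinDecomp.KerPt π => (Scheme.Modules.pullback (𝟙 A * (toUnit A ≫ a.1)).left).obj E
  let e : ∀ a, (Scheme.Modules.pushforward p₂).obj (Fp a) ≅ T a := fun a =>
    (Scheme.Modules.pushforwardComp (s a) p₂).app _ ≪≫
      (Scheme.Modules.pushforwardCongr (Groth.Agent.FinDecomp.sec_snd π a)).app _ ≪≫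
      (Scheme.Modules.pushforwardId A.left).app _ ≪≫
      (Scheme.Modules.restrictFunctorIsoPullback (s a)).app M ≪≫
      (Scheme.Modules.pullbackComp (s a) p₁).app E ≪≫
      (Scheme.Modules.pullbackCongr (Groth.Agent.FinDecomp.sec_fst π a)).app E
  haveI : HasFiniteBiproducts A.left.Modules := Abelian.hasFiniteBiproducts
  exact ⟨asIso (CohBC.bc0 π.left π.left p₂ p₁ (IsPullback.of_hasPullback π.left π.left).w E) ≪≫
    (Scheme.Modules.pushforward p₂).mapIso (asIso (Groth.Agent.FinDecomp.toProd s M)) ≪≫
    PreservesProduct.iso (Scheme.Modules.pushforward p₂) Fp ≪≫ Pi.mapIso e ≪≫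
    (biproduct.isoProduct T).symm ≪≫ biproduct.isoCoproduct T⟩

end Groth.Agent.S15392
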