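import Groth.Statements.S15399
import Groth.Agent.S15400

set_option autoImplicit false
universe u
open CategoryTheory CategoryTheory.Limits AlgebraicGeometry
open PicGrp

namespace Groth.Agent.S15399

/-- Let X be a quasi-compact separated scheme, J a quasi-coherent ideal of O_X with J² = 0 and X₀ the
closed subscheme it cuts out, with inclusion i, and assume that the restriction of global functions
O_X(X) → O_{X₀}(X₀) is surjective. Assume the Picard group laws on X and X₀ and that pullback of
invertible classes along i is multiplicative. Then the kernel of the pullback homomorphism Pic(X) →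
Pic(X₀) is isomorphic, as a group, to the additive group H¹(X, J) (J viewed as an O_X-module),
written multiplicatively. (Existence of a group isomorphism only; the compatibility of the
isomorphism with pullback along morphisms Y → X is not stated.) -/
theorem result (X : Scheme.{u}) [CompactSpace X] [X.IsSeparated]
    (J : X.IdealSheafData) (hJ : J * J = ⊥)
    [PicGrp.Law X] [PicGrp.Law J.subscheme] (hi : PicGrp.PullMul J.subschemeι)
    (hsurj : Function.Surjective J.subschemeι.appTop.hom) :
    Nonempty ((PicGrp.pullHom J.subschemeι hi).ker ≃* Multiplicative (Coh.HH X (ClSub.idealMod J) 1)) := by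
  have h2 : J ^ 2 = ⊥ := (pow_two J).trans hJ
  haveI : Surjective J.subschemeι := ⟨LineLift.surjective_ι h2⟩
  obtain ⟨ε, δ₀, α, δ₁, -, -, hδ₀, hα, hker, -⟩ := S15400.result X J hJ hi
  have hu : Function.Surjective (Units.map J.subschemeι.appTop.hom.toMonoidHom) := fun v => by
    obtain ⟨a, ha⟩ := hsurj v
    have hau : IsUnit a := TorsPic.isUnit_of_isUnit_app J.subschemeι a (by
      show IsUnit (J.subschemeι.appTop.hom a)
      rw [ha]
      exact v.isUnit)
    exact ⟨hau.unit, Units.ext ha⟩
  have hinj : Function.Injective α := (MonoidHom.ker_eq_bot_iff α).1 (by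
    rw [hα]
    ext x
    rw [Subgroup.mem_bot, MonoidHom.mem_range]
    refine ⟨?_, fun hx => ⟨1, by rw [map_one, hx]⟩⟩
    rintro ⟨v, rfl⟩
    have h1 : v ∈ δ₀.ker := by
      rw [hδ₀]
      exact hu v
    exact h1)
  exact ⟨(MulEquiv.subgroupCongr hker).trans (MonoidHom.ofInjective hinj).symm⟩

end Groth.Agent.S15399
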