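import Groth.Statements.S15404
import Groth.Agent.MilnorPic.Exact

set_option autoImplicit false
set_option backward.isDefEq.respectTransparency false
set_option backward.isDefEq.respectTransparency.types false
set_option maxHeartbeats 1000000
set_option linter.style.haveILetI false
universe u
open CategoryTheory CategoryTheory.Limits AlgebraicGeometry
open PicGrp

namespace Groth.Agent.S15404

/-- Let π : X ⟶ B be quasi-compact and separated and let X be the union of the closed subschemes Y =
V(I) and Z = V(J), I and J quasi-coherent ideals with I ∩ J = 0 (so that O_X → O_Y × O_Z is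
injective with cokernel O_W, W = Y ∩ Z = V(I + J)); assume that W is flat, proper and of finite
presentation over B, that W → B has a section, and that the geometric fibres of W → B are reduced
and connected. Assume the Picard group laws on B, X, Y, Z, W and that pullback of invertible classes
along π, along the inclusions of Y, Z in X and of W in Y, Z, and along the structure maps of Y, Z, W
is multiplicative. Then the square of groups formed by Pic(X)/π^*Pic(B), Pic(Y)/Pic(B),
Pic(Z)/Pic(B) and Pic(W)/Pic(B) under restriction is cartesian: (a) an invertible class on X whose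
restrictions to Y and to Z are pulled back from B is itself pulled back from B; (b) for invertible
classes y on Y and z on Z whose restrictions to W agree up to a class pulled back from B, there is a
class on X whose restrictions to Y and Z are y and z up to classes pulled back from B. (The
published statement asserts this for the functor T ↦ Pic(X ×_B T)/Pic(T) on all B-schemes T and
assumes only that π is quasi-compact and separated, W flat over B with a section and geometrically
reduced connected fibres; its proof uses that every global unit on W comes from B, through a lemma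
on flat proper morphisms, and without properness the assertion fails — over a field, two affine
planes glued along the hyperbola ts = 1 have non-trivial Picard group — so W is taken proper and of
finite presentation over B here (finite presentation being automatic over a locally Noetherian
base), and only the value at T = B is stated.) -/
theorem result {X B : Scheme.{u}} (π : X ⟶ B)
    [QuasiCompact π] [IsSeparated π] (I J : X.IdealSheafData) (hIJ : I ⊓ J = ⊥)
    [Flat ((I ⊔ J).subschemeι ≫ π)] [IsProper ((I ⊔ J).subschemeι ≫ π)]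
    [LocallyOfFinitePresentation ((I ⊔ J).subschemeι ≫ π)]
    (s : B ⟶ (I ⊔ J).subscheme) (hs : s ≫ (I ⊔ J).subschemeι ≫ π = 𝟙 B)
    (hfib : ∀ (K : Type u) [Field K] [IsAlgClosed K] (g : Spec (CommRingCat.of K) ⟶ B),
      IsReduced (pullback ((I ⊔ J).subschemeι ≫ π) g) ∧ ConnectedSpace ↥(pullback ((I ⊔ J).subschemeι ≫ π) g))
    [PicGrp.Law B] [PicGrp.Law X] [PicGrp.Law I.subscheme] [PicGrp.Law J.subscheme] [PicGrp.Law (I ⊔ J).subscheme]
    (hπ : PicGrp.PullMul π) (hY : PicGrp.PullMul I.subschemeι) (hZ : PicGrp.PullMul J.subschemeι)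
    (hπY : PicGrp.PullMul (I.subschemeι ≫ π)) (hπZ : PicGrp.PullMul (J.subschemeι ≫ π))
    (hπW : PicGrp.PullMul ((I ⊔ J).subschemeι ≫ π))
    (hWY : PicGrp.PullMul (Scheme.IdealSheafData.inclusion (le_sup_left : I ≤ I ⊔ J)))
    (hWZ : PicGrp.PullMul (Scheme.IdealSheafData.inclusion (le_sup_right : J ≤ I ⊔ J))) :
    (∀ c : PicLoc.PicSet X,
        (∃ b₁ : PicLoc.PicSet B, PicGrp.pullHom I.subschemeι hY c = PicGrp.pullHom (I.subschemeι ≫ π) hπY b₁) →
        (∃ b₂ : PicLoc.PicSet B, PicGrp.pullHom J.subschemeι hZ c = PicGrp.pullHom (J.subschemeι ≫ π) hπZ b₂) →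
          ∃ b : PicLoc.PicSet B, c = PicGrp.pullHom π hπ b) ∧
      (∀ (y : PicLoc.PicSet I.subscheme) (z : PicLoc.PicSet J.subscheme),
        (∃ b : PicLoc.PicSet B,
            PicGrp.pullHom (Scheme.IdealSheafData.inclusion (le_sup_left : I ≤ I ⊔ J)) hWY y =
              PicGrp.pullHom (Scheme.IdealSheafData.inclusion (le_sup_right : J ≤ I ⊔ J)) hWZ z *
                PicGrp.pullHom ((I ⊔ J).subschemeι ≫ π) hπW b) →
          ∃ (c : PicLoc.PicSet X) (b₁ b₂ : PicLoc.PicSet B),
            PicGrp.pullHom I.subschemeι hY c = y * PicGrp.pullHom (I.subschemeι ≫ π) hπY b₁ ∧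
              PicGrp.pullHom J.subschemeι hZ c = z * PicGrp.pullHom (J.subschemeι ≫ π) hπZ b₂) := by
  let k := (I ⊔ J).subschemeι
  refine ⟨fun c hc₁ hc₂ => ?_, fun y z h => ?_⟩
  · obtain ⟨b₁, h₁⟩ := hc₁
    obtain ⟨b₂, h₂⟩ := hc₂
    let c' := c * (PicGrp.pullHom π hπ b₁)⁻¹
    let b := b₂ * b₁⁻¹
    have hcY : PicGrp.pullHom I.subschemeι hY c' = 1 := by
      show PicGrp.pullHom _ hY (_ * _) = 1
      rw [map_mul, map_inv, h₁, ← PicGrp.pullHom_comp_apply I.subschemeι π hY hπ hπY, mul_inv_cancel]
    have hcZ : PicGrp.pullHom J.subschemeι hZ c' = PicGrp.pullHom (J.subschemeι ≫ π) hπZ b := by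
      show PicGrp.pullHom _ hZ (_ * _) = PicGrp.pullHom _ hπZ (_ * _)
      rw [map_mul, map_inv, h₂, ← PicGrp.pullHom_comp_apply J.subschemeι π hZ hπ hπZ, map_mul, map_inv]
    have hb : b = 1 := by
      have e1 : PicF.pullCl (MilnorPic.inclL I J) (PicF.pullCl I.subschemeι c'.1) = (1 : PicLoc.PicSet (I ⊔ J).subscheme).1 :=
        (congrArg (fun t : PicLoc.PicSet I.subscheme => PicF.pullCl (MilnorPic.inclL I J) t.1) hcY).trans
          (congrArg Subtype.val (map_one (PicGrp.pullHom _ hWY)))
      rw [← PicLoc.pullCl_comp, MilnorPic.inclL_ι] at e1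
      have e2 : PicF.pullCl (MilnorPic.inclR I J) (PicF.pullCl J.subschemeι c'.1) =
          PicF.pullCl (MilnorPic.inclR I J) (PicF.pullCl (J.subschemeι ≫ π) b.1) :=
        congrArg (fun t : PicLoc.PicSet J.subscheme => PicF.pullCl (MilnorPic.inclR I J) t.1) hcZ
      rw [← PicLoc.pullCl_comp, MilnorPic.inclR_ι, e1, ← PicLoc.pullCl_comp, ← Category.assoc,
        MilnorPic.inclR_ι] at e2
      have e3 := congrArg (PicF.pullCl s) e2
      rw [← PicLoc.pullCl_comp, hs, PicLoc.pullCl_id] at e3
      refine Subtype.ext (e3.symm.trans ?_)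
      rw [PicGrp.one_eq_unitPicSet, PicGrp.one_eq_unitPicSet]
      exact congrArg Subtype.val (PicLoc.invCl_map_unitPicSet s)
    rw [hb, map_one] at hcZ
    refine ⟨b₁, mul_inv_eq_one.1 (MilnorPic.eq_one_of_restrict hIJ hY hZ (fun w => ?_) c' hcY hcZ)⟩
    haveI := DerBC7.isIso_app_of_geometric (k ≫ π) hfib ⊤
    let φ : Γ(B, ⊤) ⟶ Γ((I ⊔ J).subscheme, (k ≫ π) ⁻¹ᵁ ⊤) := (k ≫ π).app ⊤
    let v : (Γ(B, ⊤))ˣ := Units.map (inv φ).hom.toMonoidHom w
    refine ⟨Units.map (π.app ⊤).hom.toMonoidHom v, Units.ext ?_⟩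
    show k.app (π ⁻¹ᵁ ⊤) (π.app ⊤ (inv φ w.val)) = w.val
    exact (ConcreteCategory.congr_hom (Scheme.Hom.comp_app k π ⊤) _).symm.trans
      (ConcreteCategory.congr_hom (IsIso.inv_hom_id φ) _)
  · obtain ⟨b, hb⟩ := h
    let z' := z * PicGrp.pullHom (J.subschemeι ≫ π) hπZ b
    have h' : PicGrp.pullHom (MilnorPic.inclL I J) hWY y = PicGrp.pullHom (MilnorPic.inclR I J) hWZ z' := by
      show _ = PicGrp.pullHom _ hWZ (_ * _)
      refine hb.trans ?_
      rw [map_mul]
      refine congrArg (_ * ·) (Subtype.ext ?_)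
      show PicF.pullCl (k ≫ π) b.1 = PicF.pullCl (MilnorPic.inclR I J) (PicF.pullCl (J.subschemeι ≫ π) b.1)
      rw [← PicLoc.pullCl_comp, ← Category.assoc, MilnorPic.inclR_ι]
    obtain ⟨c, hc₁, hc₂⟩ := MilnorPic.exists_glue hIJ hY hZ hWY hWZ y z' h'
    exact ⟨c, 1, b, by rw [hc₁, map_one, mul_one], hc₂⟩

end Groth.Agent.S15404
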