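import Groth.Statements.S15405
import Groth.Agent.ASBunLib.IndInv
-- import your own Groth.Agent.* helpers here

set_option autoImplicit false
set_option backward.isDefEq.respectTransparency false
set_option backward.isDefEq.respectTransparency.types false
set_option linter.style.haveILetI false
set_option maxHeartbeats 1000000
universe u
open CategoryTheory CategoryTheory.Limits AlgebraicGeometry
open ASBun

namespace Groth.Agent.S15405
open Groth.Agent

open W4c1astiltbs12 in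
/-- Let X be proper over a field k, K an algebraic closure of k such that X_K is connected, and π : X_K
→ X the projection; assume the Picard group laws on X and on X_K and that pullback of invertible
classes along π is multiplicative. Suppose that Pic(X_K) is infinite cyclic, generated by the class
of an invertible module L; that J is an invertible O_X-module with π^*J ≅ L^{⊗r} for some r ≥ 1; and
that there is an indecomposable finite locally free O_X-module (nonzero, and in any direct-sum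
decomposition one summand is zero) whose pullback to X_K is isomorphic to L^{⊕d} for some d. Then:
(a) every indecomposable finite locally free O_X-module E whose pullback to X_K is a finite direct
sum of invertible modules is isomorphic to M ⊗ J_a, where 0 ≤ j < r, M is an indecomposable finite
locally free O_X-module with π^*M ≅ (L^{⊗j})^{⊕d} for some d, a is an integer and J_a is an
invertible O_X-module whose class in Pic(X) is the a-th power of the class of J; (b) the integers a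
and j in such an expression are determined by E. (The published statement takes r to be the least
such integer, the period, and leaves the connectedness of X_K implicit; the argument treats
invertible modules on X_K as indecomposable, whence that hypothesis, and does not use the minimality
of r.) -/
theorem result (k : Type u) [Field k] {X : Scheme.{u}}
    (p : X ⟶ Spec (CommRingCat.of k)) [IsProper p] (K : Type u) [Field K] [Algebra k K] [IsAlgClosure k K]
    [ConnectedSpace ↥(W4bk4gw11416.baseChange p K)]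
    [PicGrp.Law X] [PicGrp.Law (W4bk4gw11416.baseChange p K)] (hπ : PicGrp.PullMul (proj p K))
    (L : (W4bk4gw11416.baseChange p K).Modules) (hL : PicF.IsInvertible L)
    (e : PicLoc.PicSet (W4bk4gw11416.baseChange p K) ≃* Multiplicative ℤ)
    (he : e (PicGrp.cls L hL) = Multiplicative.ofAdd 1)
    (r : ℕ) (hr : 1 ≤ r) (J : X.Modules) (hJ : PicF.IsInvertible J)
    (hJL : Nonempty (bcMod p K J ≅ CohB1.tensorPow L r))
    (hML : ∃ (M₁ : X.Modules) (d₁ : ℕ), FlatMod.IsFinLocFree M₁ ∧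
      (¬ IsZero M₁ ∧ ∀ A B : X.Modules, Nonempty (M₁ ≅ A ⊞ B) → IsZero A ∨ IsZero B) ∧
      Nonempty (bcMod p K M₁ ≅ pow L d₁))
    (E : X.Modules) (hE : FlatMod.IsFinLocFree E)
    (hEi : (¬ IsZero E ∧ ∀ A B : X.Modules, Nonempty (E ≅ A ⊞ B) → IsZero A ∨ IsZero B))
    (n : ℕ) (Ls : Fin n → (W4bk4gw11416.baseChange p K).Modules) (hLs : ∀ i, PicF.IsInvertible (Ls i))
    (hEs : Nonempty (bcMod p K E ≅ ∐ Ls)) :
    (∃ (a : ℤ) (j : ℕ), j < r ∧ ∃ (M : X.Modules) (d : ℕ) (Ja : X.Modules) (hJa : PicF.IsInvertible Ja),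
      FlatMod.IsFinLocFree M ∧ (¬ IsZero M ∧ ∀ A B : X.Modules, Nonempty (M ≅ A ⊞ B) → IsZero A ∨ IsZero B) ∧
      Nonempty (bcMod p K M ≅ pow (CohB1.tensorPow L j) d) ∧
      PicGrp.cls Ja hJa = PicGrp.cls J hJ ^ a ∧ Nonempty (E ≅ CohB1.tensorMod M Ja)) ∧
    (∀ (a a' : ℤ) (j j' : ℕ) (M M' : X.Modules) (d d' : ℕ) (Ja Ja' : X.Modules)
      (hJa : PicF.IsInvertible Ja) (hJa' : PicF.IsInvertible Ja'),
      j < r → j' < r →
      (¬ IsZero M ∧ ∀ A B : X.Modules, Nonempty (M ≅ A ⊞ B) → IsZero A ∨ IsZero B) → (¬ IsZero M' ∧ ∀ A B : X.Modules, Nonempty (M' ≅ A ⊞ B) → IsZero A ∨ IsZero B) →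
      Nonempty (bcMod p K M ≅ pow (CohB1.tensorPow L j) d) → Nonempty (bcMod p K M' ≅ pow (CohB1.tensorPow L j') d') →
      PicGrp.cls Ja hJa = PicGrp.cls J hJ ^ a → PicGrp.cls Ja' hJa' = PicGrp.cls J hJ ^ a' →
      Nonempty (E ≅ CohB1.tensorMod M Ja) → Nonempty (E ≅ CohB1.tensorMod M' Ja') → a = a' ∧ j = j') := by
  classical

  letI : X.Over (Spec (CommRingCat.of k)) := ⟨p⟩
  haveI : IsProper (X ↘ Spec (CommRingCat.of k)) := ‹IsProper p›
  letI : (W4bk4gw11416.baseChange p K).Over (Spec (CommRingCat.of K)) := ⟨W4bk4gw11416.baseChangeTo p K⟩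
  haveI : IsProper ((W4bk4gw11416.baseChange p K) ↘ Spec (CommRingCat.of K)) :=
    inferInstanceAs (IsProper (Limits.pullback.snd p (Spec.map (CommRingCat.ofHom (algebraMap k K)))))
  haveI := Groth.Agent.CurveCohLib.isNoetherian_of_proper (k := k) (X := X)
  haveI := Groth.Agent.CurveCohLib.isNoetherian_of_proper (k := K) (X := W4bk4gw11416.baseChange p K)
  haveI := Abelian.hasFiniteBiproducts (C := (W4bk4gw11416.baseChange p K).Modules)
  let π := W4c1astiltbs12.proj p K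
  have hbc : IsPullback π
      ((W4bk4gw11416.baseChange p K) ↘ Spec (CommRingCat.of K)) (X ↘ Spec (CommRingCat.of k))
      (Spec.map (CommRingCat.ofHom (algebraMap k K))) := IsPullback.of_hasPullback _ _
  let φ := PicGrp.pullHom π hπ
  let ℓ := PicGrp.cls L hL
  have hφJ : φ (PicGrp.cls J hJ) = ℓ ^ r := by
    refine Subtype.ext ?_
    rw [PicGrp.cls_pow_val, PicGrp.pullHom_apply_val]
    exact (PicGrp.cl_eq_cl_iff _ _).2 hJL
  have hinj : ∀ x y : ℤ, ℓ ^ x = ℓ ^ y → x = y := fun x y h => by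
    have h2 := congrArg e h
    rw [map_zpow, map_zpow, he, ← ofAdd_zsmul, ← ofAdd_zsmul] at h2
    simpa using Multiplicative.ofAdd.injective h2
  have hcls : ∀ (N : (W4bk4gw11416.baseChange p K).Modules) (hN : PicF.IsInvertible N),
      PicGrp.cls N hN = ℓ ^ Multiplicative.toAdd (e (PicGrp.cls N hN)) := fun N hN => by
    apply e.injective
    rw [map_zpow, he, ← ofAdd_zsmul]
    simp
  have hLj : ∀ i : ℕ, PicF.IsInvertible (CohB1.tensorPow L i) := fun i =>
    Groth.Agent.H23.PicMul.isInvertible_tensorPow hL i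
  have hclj : ∀ i : ℕ, PicGrp.cls (CohB1.tensorPow L i) (hLj i) = ℓ ^ (i : ℤ) := fun i => by
    refine Subtype.ext ?_
    rw [zpow_natCast, PicGrp.cls_pow_val, PicGrp.cls_val]
  have hbund : ∀ i : ℕ, ∃ (T : X.Modules) (m : ℕ), FlatMod.IsFinLocFree T ∧ 0 < m ∧
      Nonempty ((Scheme.Modules.pullback π).obj T ≅ Groth.Agent.ASBunLib.powM (CohB1.tensorPow L i) m) := by
    intro i
    induction i with
    | zero =>
      exact ⟨Coh.structureModule X, 1,
        Groth.Agent.H23.PullPush.isFinLocFree_of_isInvertible (PicLoc.isInvertible_structureModule X), one_pos,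
        ⟨(Groth.Agent.PicClLib.nonempty_pullback_structureModule π).some ≪≫
          (Groth.Agent.ASBunLib.nonempty_powM_one _).some.symm⟩⟩
    | succ i ih =>
      obtain ⟨T, m, hT, hm, ⟨eT⟩⟩ := ih
      obtain ⟨M₁, d₁, hM₁, hM₁i, ⟨e₁⟩⟩ := hML
      have hd₁ : 0 < d₁ := Groth.Agent.ASBunLib.pos_of_ind hbc
        (Groth.Agent.CurveDeg.isCoh_of_isFinLocFree hM₁) hM₁i e₁
      obtain ⟨p1⟩ := Groth.Agent.H23.PicMul.pull π T M₁
      obtain ⟨p2⟩ := Groth.Agent.ASBunLib.nonempty_tensor_powM (CohB1.tensorPow L i) ((Scheme.Modules.pullback π).obj M₁) m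
      obtain ⟨p3⟩ := Groth.Agent.H23.PicMul.comm (CohB1.tensorPow L i) ((Scheme.Modules.pullback π).obj M₁)
      obtain ⟨p4⟩ := Groth.Agent.ASBunLib.nonempty_tensor_powM L (CohB1.tensorPow L i) d₁
      obtain ⟨p5⟩ := Groth.Agent.H23.PicMul.comm L (CohB1.tensorPow L i)
      obtain ⟨p6⟩ := Groth.Agent.ASBunLib.nonempty_pow_pow (CohB1.tensorPow L (i + 1)) d₁ m
      exact ⟨CohB1.tensorMod T M₁, m * d₁, Groth.Agent.KFlatLib.isFinLocFree_tensor hT hM₁, Nat.mul_pos hm hd₁,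
        ⟨p1 ≪≫ PicGrp.tensorModIso eT (Iso.refl _) ≪≫ p2 ≪≫
          Limits.Sigma.mapIso (fun _ => p3 ≪≫ PicGrp.tensorModIso e₁ (Iso.refl _) ≪≫ p4 ≪≫
            Limits.Sigma.mapIso (fun _ => p5)) ≪≫ p6⟩⟩
  have htw : ∀ (M : X.Modules) (d : ℕ) (j : ℕ) (Ja : X.Modules) (hJa : PicF.IsInvertible Ja) (a : ℤ),
      PicGrp.cls Ja hJa = PicGrp.cls J hJ ^ a →
      Nonempty ((Scheme.Modules.pullback π).obj M ≅ Groth.Agent.ASBunLib.powM (CohB1.tensorPow L j) d) →
      ∀ (N : (W4bk4gw11416.baseChange p K).Modules) (hN : PicF.IsInvertible N),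
      PicGrp.cls N hN = ℓ ^ ((j : ℤ) + a * r) →
      Nonempty ((Scheme.Modules.pullback π).obj (CohB1.tensorMod M Ja) ≅ Groth.Agent.ASBunLib.powM N d) := by
    rintro M d j Ja hJa a hJac ⟨eM⟩ N hN hNc
    obtain ⟨p1⟩ := Groth.Agent.H23.PicMul.pull π M Ja
    obtain ⟨p2⟩ := Groth.Agent.ASBunLib.nonempty_tensor_powM (CohB1.tensorPow L j) ((Scheme.Modules.pullback π).obj Ja) d
    have h1 : PicGrp.cls (CohB1.tensorPow L j) (hLj j) * φ (PicGrp.cls Ja hJa) = PicGrp.cls N hN := by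
      rw [hJac, map_zpow, hφJ, hclj, hNc, zpow_add, mul_comm a, zpow_mul]
      simp only [zpow_natCast]
    have h2 := congrArg Subtype.val h1
    rw [PicGrp.Law.mul_val] at h2
    obtain ⟨p3⟩ := (PicGrp.cl_eq_cl_iff _ _).1 h2
    exact ⟨p1 ≪≫ PicGrp.tensorModIso eM (Iso.refl _) ≪≫ p2 ≪≫ Limits.Sigma.mapIso (fun _ => p3)⟩
  have hinvJ : ∀ (Ja : X.Modules), PicF.IsInvertible Ja → ∃ Ja' : X.Modules,
      Nonempty (CohB1.tensorMod Ja Ja' ≅ Coh.structureModule X) := fun Ja hJa => by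
    obtain ⟨Ja', hJa', hinv⟩ := PicGrp.exists_eq_cls (PicGrp.cls Ja hJa)⁻¹
    exact ⟨Ja', (PicGrp.cls_mul_cls_eq_one_iff hJa hJa').1 (by rw [← hinv, mul_inv_cancel])⟩
  have hEc := Groth.Agent.CurveDeg.isCoh_of_isFinLocFree hE
  refine ⟨?_, ?_⟩
  · obtain ⟨hfl, hsurj⟩ := Groth.Agent.ASBunLib.flat_surjective_proj hbc
    haveI := hfl
    haveI := hsurj
    obtain ⟨es⟩ := hEs
    have hn : 0 < n := by
      refine Nat.pos_of_ne_zero fun h0 => ?_
      subst h0
      exact hEi.1 (Groth.Agent.KFlatLib.isZero_of_isZero_pullback π E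
        (((IsZero.iff_id_eq_zero _).2 (Limits.Sigma.hom_ext _ _ fun i => i.elim0)).of_iso es))
    let N := Ls ⟨0, hn⟩
    have hN : PicF.IsInvertible N := hLs _
    let c : ℤ := Multiplicative.toAdd (e (PicGrp.cls N hN))
    have hr0 : (0 : ℤ) < r := by exact_mod_cast hr
    let j : ℕ := (c % (r : ℤ)).toNat
    have hjc : (j : ℤ) = c % (r : ℤ) := Int.toNat_of_nonneg (Int.emod_nonneg _ hr0.ne')
    have hjr : j < r := by
      have := Int.emod_lt_of_pos c hr0
      omega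
    have hNc : PicGrp.cls N hN = ℓ ^ ((j : ℤ) + c / (r : ℤ) * r) := by
      rw [hjc, mul_comm (c / (r : ℤ)), Int.emod_add_mul_ediv]
      exact hcls N hN
    obtain ⟨T, m, hT, hm, ⟨eT⟩⟩ := hbund j
    obtain ⟨M, d, hM, hMi, hd, ⟨eM⟩⟩ :=
      Groth.Agent.ASBunLib.exists_ind_summand hbc hT (Groth.Agent.ASBunLib.ind_of_invertible (hLj j)) hm eT
    obtain ⟨Ja, hJa, hJac⟩ := PicGrp.exists_eq_cls (PicGrp.cls J hJ ^ (c / (r : ℤ)))
    obtain ⟨eMJ⟩ := htw M d j Ja hJa _ hJac.symm ⟨eM⟩ N hN hNc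
    obtain ⟨Ja', ⟨eJ⟩⟩ := hinvJ Ja hJa
    have hMJi := Groth.Agent.ASBunLib.ind_tensor_invertible (M := M) hMi eJ
    have hMJc : Coh.IsCoh (CohB1.tensorMod M Ja) := Groth.Agent.CurveDeg.isCoh_of_isFinLocFree
      (Groth.Agent.KFlatLib.isFinLocFree_tensor hM (Groth.Agent.H23.PullPush.isFinLocFree_of_isInvertible hJa))
    let b' := es ≪≫ (biproduct.isoCoproduct Ls).symm
    obtain ⟨r', -, ⟨eE⟩⟩ := Groth.Agent.ASBunLib.nonempty_iso_pow_of_retract hbc hEc hEi hMJc
      (Groth.Agent.ASBunLib.ind_of_invertible hN) hd eMJ (biproduct.ι Ls ⟨0, hn⟩ ≫ b'.inv)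
      (b'.hom ≫ biproduct.π Ls ⟨0, hn⟩) (by rw [Category.assoc, b'.inv_hom_id_assoc, biproduct.ι_π_self])
    exact ⟨_, j, hjr, M, d, Ja, hJa, hM, hMi, ⟨eM⟩, hJac.symm,
      Groth.Agent.ASBunLib.ind_unique hbc hEc hMJc hEi hMJi N r' d eE eMJ⟩
  · rintro a a' j j' M M' d d' Ja Ja' hJa hJa' hj hj' hMi hM'i ⟨eM⟩ ⟨eM'⟩ hJac hJac' ⟨i₁⟩ ⟨i₂⟩
    obtain ⟨N, hN, hNc⟩ := PicGrp.exists_eq_cls (ℓ ^ ((j : ℤ) + a * r))
    obtain ⟨N', hN', hN'c⟩ := PicGrp.exists_eq_cls (ℓ ^ ((j' : ℤ) + a' * r))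
    obtain ⟨t₁⟩ := htw M d j Ja hJa a hJac ⟨eM⟩ N hN hNc.symm
    obtain ⟨t₂⟩ := htw M' d' j' Ja' hJa' a' hJac' ⟨eM'⟩ N' hN' hN'c.symm
    let g : Groth.Agent.ASBunLib.powM N d ≅ Groth.Agent.ASBunLib.powM N' d' :=
      t₁.symm ≪≫ (Scheme.Modules.pullback π).mapIso (i₁.symm ≪≫ i₂) ≪≫ t₂
    have hd : 0 < d := Groth.Agent.ASBunLib.pos_of_ind hbc hEc hEi ((Scheme.Modules.pullback π).mapIso i₁ ≪≫ t₁)
    obtain ⟨-, hiso⟩ := Groth.Agent.ASBunLib.pow_unique (k := K) (Groth.Agent.ASBunLib.ind_of_invertible hN)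
      (Groth.Agent.ASBunLib.ind_of_invertible hN')
      (Groth.Agent.CurveDeg.isCoh_of_isFinLocFree (Groth.Agent.H23.PullPush.isFinLocFree_of_isInvertible hN)) d d' g
    have h1 := (PicGrp.cls_eq_cls_iff hN hN').2 (hiso hd)
    rw [← hNc, ← hN'c] at h1
    have h2 := hinj _ _ h1
    have h3 : a = a' := by
      have hjj : (j : ℤ) < r ∧ (j' : ℤ) < r := ⟨by exact_mod_cast hj, by exact_mod_cast hj'⟩
      have h4 : ((j : ℤ) + a * r) / r = ((j' : ℤ) + a' * r) / r := by rw [h2]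
      rw [Int.add_mul_ediv_right _ _ (by omega), Int.add_mul_ediv_right _ _ (by omega),
        Int.ediv_eq_zero_of_lt (by omega) hjj.1, Int.ediv_eq_zero_of_lt (by omega) hjj.2] at h4
      omega
    refine ⟨h3, ?_⟩
    subst h3
    omega

end Groth.Agent.S15405
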