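import Groth.Statements.S15406
import Groth.Agent.MdlHoriz.Pic

set_option autoImplicit false
set_option backward.isDefEq.respectTransparency false
set_option backward.isDefEq.respectTransparency.types false
set_option maxHeartbeats 1000000
set_option linter.style.haveILetI false
universe u
open CategoryTheory CategoryTheory.Limits AlgebraicGeometry
open Models

namespace Groth.Agent.S15406
open scoped Groth.Agent.H23.PicMul

/-- Let R be a complete discrete valuation ring with algebraically closed residue field k and fraction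
field K, C a smooth proper curve over K with H⁰(C, O_C) = K and dim_K H¹(C, O_C) ≥ 2, and X → Spec R
a regular proper model of C, with g : C → X exhibiting C as the generic fibre. Let Γ₁, …, Γ_n
enumerate the irreducible components of the closed fibre, with multiplicities of greatest common
divisor 1, and for each i let L_i be an invertible O_X-module inverse to the ideal sheaf of Γ_i (so
that (L_i · Γ_j) is the intersection number Γ_i · Γ_j). Assume the Picard group laws on X and on C
and that pullback of invertible classes along g is multiplicative. Let G be the quotient of ℤⁿ by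
the subgroup spanned by the vectors ((L_i · Γ_j))_j, i = 1, …, n. Then: (a) an invertible O_X-module
of degree 0 on every Γ_j whose pullback to C is trivial is itself trivial; (b) there is a surjective
homomorphism ψ from Pic(C) (written additively) onto G which sends the class of g^*L, for every
invertible O_X-module L, to the class of the vector ((L · Γ_j))_j, and whose kernel consists exactly
of the classes g^*L with L invertible on X of degree 0 on every Γ_j. In other words 0 → Pic⁰(X) →
Pic(C) → G → 0 is exact, Pic⁰(X) denoting the classes of degree 0 on all components of the closed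
fibre. -/
theorem result
    (R : Type u) [CommRing R] [IsDomain R] [IsDiscreteValuationRing R]
    [IsAdicComplete (IsLocalRing.maximalIdeal R) R] (hk : IsAlgClosed (IsLocalRing.ResidueField R))
    (C : Scheme.{u}) (fC : C ⟶ Spec (CommRingCat.of (FractionRing R))) [IsProper fC] [Smooth fC]
    (hC0 : Models.hRank (FractionRing R) C fC (Coh.structureModule C) 0 = 1)
    (hg2 : 2 ≤ Models.curveGenus (FractionRing R) C fC)
    (X : Scheme.{u}) (p : X ⟶ Spec (CommRingCat.of R)) (hX : Models.IsRegularProperModel R X p C fC)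
    (g : C ⟶ X) (hg : IsPullback g fC p (Spec.map (CommRingCat.ofHom (algebraMap R (FractionRing R)))))
    {n : ℕ} (Γ : Fin n → ArSurf.VertComp R (Over.mk p)) (hΓ : Models.IsComponentList R (Over.mk p) Γ)
    (hgcd : Models.multGcd R (Over.mk p) Γ = 1)
    (LD : Fin n → X.Modules) (hLD : ∀ i, ClSub.IsInverseOf (LD i) (ClSub.idealMod (Γ i).ι.ker))
    [PicGrp.Law X] [PicGrp.Law C] (hgm : PicGrp.PullMul g) :
    (∀ (L : X.Modules) (hL : PicF.IsInvertible L), (∀ j, ArSurf.inter R (Over.mk p) L (Γ j) = 0) →
        PicGrp.pullHom g hgm (PicGrp.cls L hL) = 1 → PicGrp.cls L hL = 1) ∧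
      ∃ ψ : Additive (PicLoc.PicSet C) →+
          ((Fin n → ℤ) ⧸ LinearMap.range (Matrix.mulVecLin
            (Matrix.of fun j i => ArSurf.inter R (Over.mk p) (LD i) (Γ j)))),
        (∀ (L : X.Modules) (hL : PicF.IsInvertible L),
            ψ (Additive.ofMul (PicGrp.pullHom g hgm (PicGrp.cls L hL))) =
              Submodule.Quotient.mk (fun j => ArSurf.inter R (Over.mk p) L (Γ j))) ∧
          Function.Surjective ψ ∧
          (∀ c : PicLoc.PicSet C, ψ (Additive.ofMul c) = 0 →
            ∃ (L : X.Modules) (hL : PicF.IsInvertible L),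
              (∀ j, ArSurf.inter R (Over.mk p) L (Γ j) = 0) ∧ PicGrp.pullHom g hgm (PicGrp.cls L hL) = c) := by
  classical
  haveI := hk
  haveI := hX.2.1
  have hH0 := Groth.Agent.MdlInter.isIso_appTop_of_hRank fC hC0
  have S := Groth.Agent.MdlInter.setting_of_model hX hΓ
  refine ⟨fun L hL hdeg h => Subtype.ext ?_, ?_⟩
  · rw [PicGrp.one_val]
    exact (Groth.Agent.MdlInter.cls_eq_one_of_deg_zero hH0 hX hΓ hgcd LD hLD g hg hL hdeg
      ((congrArg Subtype.val h).trans PicGrp.one_val)).trans Groth.Agent.H23.PicMul.one_def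
  have hex : ∀ c : PicLoc.PicSet C, ∃ L : X.Modules, PicF.IsInvertible L ∧
      Groth.Agent.H23.PicMul.pullHom g (PicF.cl L) = c.1 := fun c => by
    obtain ⟨N, hN, rfl⟩ := PicGrp.exists_eq_cls c
    obtain ⟨L, hL, e⟩ := Groth.Agent.MdlInter.exists_extension_generic hX g hg hN
    exact ⟨L, hL, Groth.Agent.H23.PicMul.cl_eq_iff.2 e⟩
  choose ext hext hextc using hex
  have key : ∀ (L : X.Modules) (hL : PicF.IsInvertible L) (c : PicLoc.PicSet C),
      Groth.Agent.H23.PicMul.pullHom g (PicF.cl L) = c.1 →
      (Submodule.Quotient.mk (Groth.Agent.MdlInter.degVec Γ (ext c)) :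
        (Fin n → ℤ) ⧸ LinearMap.range (Matrix.mulVecLin (Groth.Agent.MdlInter.interMat Γ LD))) =
      Submodule.Quotient.mk (Groth.Agent.MdlInter.degVec Γ L) := fun L hL c h =>
    (Submodule.Quotient.eq _).2 (Groth.Agent.MdlInter.deg_sub_mem hX hΓ LD hLD g hg (hext c) hL
      ((hextc c).trans h.symm))
  let ψ : Additive (PicLoc.PicSet C) →+
      ((Fin n → ℤ) ⧸ LinearMap.range (Matrix.mulVecLin (Groth.Agent.MdlInter.interMat Γ LD))) :=
    AddMonoidHom.mk' (fun c => Submodule.Quotient.mk (Groth.Agent.MdlInter.degVec Γ (ext (Additive.toMul c))))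
      fun a b => by
        rw [key (CohB1.tensorMod (ext (Additive.toMul a)) (ext (Additive.toMul b)))
          (Groth.Agent.InvX.isInvertible_tensorMod (hext _) (hext _)) (Additive.toMul (a + b)) (by
            rw [Groth.Agent.H23.PicMul.cl_tensor, map_mul, hextc, hextc, toMul_add, PicGrp.mul_val]; rfl),
          ← Submodule.Quotient.mk_add]
        refine congrArg _ (funext fun j => ?_)
        exact Groth.Agent.MdlInter.inter_tensor (Γ j) (hext _) (hext _)
  refine ⟨ψ, fun L hL => key L hL _ rfl, fun γ => ?_, fun c hc => ?_⟩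
  · obtain ⟨v, rfl⟩ := Submodule.Quotient.mk_surjective _ γ
    choose M hM hMv using fun i => S.exists_inter_eq_ite i
    refine Submodule.span_induction
      (p := fun w _ => ∃ a, ψ a = Submodule.Quotient.mk w) ?_ ⟨0, map_zero ψ⟩ ?_ ?_
      (show v ∈ Submodule.span ℤ (Set.range fun i : Fin n => (Pi.single i 1 : Fin n → ℤ)) from ?_)
    · rintro _ ⟨i, rfl⟩
      refine ⟨Additive.ofMul (PicGrp.pullHom g hgm (PicGrp.cls (M i) (hM i))), (key (M i) (hM i) _ rfl).trans ?_⟩
      refine congrArg _ (funext fun j => ?_)
      show ArSurf.inter R (Over.mk p) (M i) (Γ j) = _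
      rw [hMv i j]; exact (Pi.single_apply i (1 : ℤ) j).symm
    · rintro x y _ _ ⟨a, ha⟩ ⟨b, hb⟩
      exact ⟨a + b, by rw [map_add, ha, hb, Submodule.Quotient.mk_add]⟩
    · rintro m x _ ⟨a, ha⟩
      exact ⟨m • a, by rw [map_zsmul, ha, Submodule.Quotient.mk_smul]⟩
    · rw [show Set.range (fun i : Fin n => (Pi.single i 1 : Fin n → ℤ)) = Set.range (Pi.basisFun ℤ (Fin n)) from
        congrArg _ (funext fun i => (Pi.basisFun_apply ℤ (Fin n) i).symm), (Pi.basisFun ℤ (Fin n)).span_eq]
      exact Submodule.mem_top
  · have hc' : Groth.Agent.MdlInter.degVec Γ (ext c) ∈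
        LinearMap.range (Matrix.mulVecLin (Groth.Agent.MdlInter.interMat Γ LD)) :=
      (Submodule.Quotient.mk_eq_zero _).1 hc
    obtain ⟨v, hv⟩ := hc'
    obtain ⟨M, hM, hMc⟩ := S.exists_module LD hLD (hext c) (-v)
    refine ⟨M, hM, fun j => ?_, Subtype.ext ?_⟩
    · have h1 := congrFun hv j
      rw [Groth.Agent.MdlInter.mulVec_interMat] at h1
      rw [S.inter_eq LD hLD hM (hext c) (-v) hMc j]
      simp only [Pi.neg_apply, neg_mul, Finset.sum_neg_distrib, h1]
      exact sub_eq_zero.2 rfl
    · show Groth.Agent.H23.PicMul.pullHom g (PicF.cl M) = c.1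
      rw [hMc, map_mul, S.pullCl_comboCl LD hLD g hg, mul_one, hextc]

end Groth.Agent.S15406
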