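import Groth.Statements.S15409
import Groth.Agent.ASBunLib.Multiplicity
-- import your own Groth.Agent.* helpers here

set_option autoImplicit false
set_option backward.isDefEq.respectTransparency false
set_option backward.isDefEq.respectTransparency.types false
set_option linter.style.haveILetI false
set_option maxHeartbeats 1000000
universe u
open CategoryTheory CategoryTheory.Limits AlgebraicGeometry
open ASBun

namespace Groth.Agent.S15409
open Groth.Agent

open W4c1astiltbs12 in
/-- Let X be proper over a field k with k ≅ H⁰(X, O_X), K an algebraic closure of k with X_K connected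
and projection π : X_K → X; assume the Picard group laws on X and X_K with pullback along π
multiplicative, that Pic(X_K) is infinite cyclic generated by the class of an invertible module L,
and that J is an invertible O_X-module whose pullback to X_K has class the r-th power of the class
of L, r ≥ 1. Let j and a be integers and N, N' invertible O_{X_K}-modules with classes (cls L)^j and
(cls L)^{j'} where either j' = −j or j' = j + a·r. If W, W' are indecomposable finite locally free
O_X-modules (nonzero, and in any direct-sum decomposition one summand is zero) with π^*W ≅ N^{⊕d}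
and π^*W' ≅ N'^{⊕d'}, then d = d': the rank of the indecomposable absolutely isotypical sheaf of
type L^{⊗j} depends only on ±j modulo r. (The published statement phrases this for the sheaves
W_{L^{⊗j}}, whose existence for every j it assumes through an indecomposable absolutely isotypical
sheaf of type L; here the two sheaves are given, and r need not be minimal.) -/
theorem result (k : Type u) [Field k] {X : Scheme.{u}}
    (p : X ⟶ Spec (CommRingCat.of k)) [IsProper p] (hO : IsIso p.appTop) (K : Type u) [Field K] [Algebra k K] [IsAlgClosure k K]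
    [ConnectedSpace ↥(W4bk4gw11416.baseChange p K)]
    [PicGrp.Law X] [PicGrp.Law (W4bk4gw11416.baseChange p K)] (hπ : PicGrp.PullMul (proj p K))
    (L : (W4bk4gw11416.baseChange p K).Modules) (hL : PicF.IsInvertible L)
    (e : PicLoc.PicSet (W4bk4gw11416.baseChange p K) ≃* Multiplicative ℤ)
    (he : e (PicGrp.cls L hL) = Multiplicative.ofAdd 1)
    (r : ℕ) (hr : 1 ≤ r) (J : X.Modules) (hJ : PicF.IsInvertible J)
    (hJL : PicGrp.cls (bcMod p K J) (PicLoc.isInvertible_pullback (proj p K) hJ) = PicGrp.cls L hL ^ r)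
    (j a j' : ℤ) (hj' : j' = -j ∨ j' = j + a * r)
    (N N' : (W4bk4gw11416.baseChange p K).Modules) (hN : PicF.IsInvertible N) (hN' : PicF.IsInvertible N')
    (hNj : PicGrp.cls N hN = PicGrp.cls L hL ^ j) (hN'j : PicGrp.cls N' hN' = PicGrp.cls L hL ^ j')
    (W W' : X.Modules) (hW : FlatMod.IsFinLocFree W) (hW' : FlatMod.IsFinLocFree W')
    (hWi : (¬ IsZero W ∧ ∀ A B : X.Modules, Nonempty (W ≅ A ⊞ B) → IsZero A ∨ IsZero B)) (hW'i : (¬ IsZero W' ∧ ∀ A B : X.Modules, Nonempty (W' ≅ A ⊞ B) → IsZero A ∨ IsZero B))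
    (d d' : ℕ) (eW : Nonempty (bcMod p K W ≅ pow N d)) (eW' : Nonempty (bcMod p K W' ≅ pow N' d')) :
    d = d' := by
  classical
  letI : X.Over (Spec (CommRingCat.of k)) := ⟨p⟩
  haveI : IsProper (X ↘ Spec (CommRingCat.of k)) := ‹IsProper p›
  letI : (W4bk4gw11416.baseChange p K).Over (Spec (CommRingCat.of K)) := ⟨W4bk4gw11416.baseChangeTo p K⟩
  haveI : IsProper ((W4bk4gw11416.baseChange p K) ↘ Spec (CommRingCat.of K)) :=
    inferInstanceAs (IsProper (Limits.pullback.snd p (Spec.map (CommRingCat.ofHom (algebraMap k K)))))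
  haveI := Groth.Agent.CurveCohLib.isNoetherian_of_proper (k := k) (X := X)
  obtain ⟨eW⟩ := eW
  obtain ⟨eW'⟩ := eW'
  have hbc : IsPullback (proj p K)
      ((W4bk4gw11416.baseChange p K) ↘ Spec (CommRingCat.of K)) (X ↘ Spec (CommRingCat.of k))
      (Spec.map (CommRingCat.ofHom (algebraMap k K))) := IsPullback.of_hasPullback _ _
  have hsX : Function.Surjective (Coh.toGlobal (X ↘ Spec (CommRingCat.of k))) := fun a => by
    haveI : IsIso p.appTop := hO
    obtain ⟨b, hb⟩ := ((ConcreteCategory.isIso_iff_bijective p.appTop).1 inferInstance).2 a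
    exact ⟨(Scheme.ΓSpecIso (CommRingCat.of k)).hom b,
      (congrArg p.appTop (Iso.hom_inv_id_apply (Scheme.ΓSpecIso (CommRingCat.of k)) b)).trans hb⟩
  haveI : Nonempty ↥(W4bk4gw11416.baseChange p K) := ConnectedSpace.toNonempty
  have hs := Groth.Agent.ASBunLib.surjective_toGlobal_bc hbc hsX
  let φ := PicGrp.pullHom (proj p K) hπ
  have twist : ∀ (b : ℤ) (M : X.Modules) (hM : PicF.IsInvertible M) (A B : (W4bk4gw11416.baseChange p K).Modules)
      (hA : PicF.IsInvertible A) (hB : PicF.IsInvertible B), PicGrp.cls M hM = PicGrp.cls J hJ ^ b →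
      PicGrp.cls B hB = PicGrp.cls A hA * PicGrp.cls L hL ^ ((r : ℤ) * b) →
      Nonempty (CohB1.tensorMod A (bcMod p K M) ≅ B) := by
    intro b M hM A B hA hB hMb hBA
    have h1 : φ (PicGrp.cls M hM) = PicGrp.cls L hL ^ ((r : ℤ) * b) := by
      rw [hMb, map_zpow, zpow_mul, zpow_natCast, ← hJL]
      congr 1
    rw [← h1] at hBA
    have h2 := congrArg Subtype.val hBA
    rw [PicGrp.Law.mul_val] at h2
    exact ((PicGrp.cl_eq_cl_iff _ _).1 h2.symm)
  rcases hj' with hj' | hj'
  · have hprod : PicGrp.cls N hN * PicGrp.cls N' hN' = 1 := by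
      rw [hNj, hN'j, hj', ← zpow_add, add_neg_cancel, zpow_zero]
    have h2 := congrArg Subtype.val hprod
    rw [PicGrp.Law.mul_val, PicGrp.Law.one_eq] at h2
    obtain ⟨eO⟩ := (PicGrp.cl_eq_cl_iff _ _).1 h2
    obtain ⟨c⟩ := Groth.Agent.H23.PicMul.comm N' N
    exact Nat.dvd_antisymm
      (Groth.Agent.ASBunLib.dvd_of_inverse hbc hs hW hWi hW' hW'i hN eW eW' eO)
      (Groth.Agent.ASBunLib.dvd_of_inverse hbc hs hW' hW'i hW hWi hN' eW' eW (c ≪≫ eO))
  · obtain ⟨M₁, hM₁, e₁⟩ := PicGrp.exists_eq_cls (PicGrp.cls J hJ ^ a)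
    obtain ⟨M₂, hM₂, e₂⟩ := PicGrp.exists_eq_cls (PicGrp.cls J hJ ^ (-a))
    obtain ⟨t₁⟩ := twist a M₁ hM₁ N N' hN hN' e₁.symm (by
      rw [hNj, hN'j, hj', ← zpow_add]; ring_nf)
    obtain ⟨t₂⟩ := twist (-a) M₂ hM₂ N' N hN' hN e₂.symm (by
      rw [hNj, hN'j, hj', ← zpow_add]; ring_nf)
    exact Nat.dvd_antisymm
      (Groth.Agent.ASBunLib.dvd_of_twist hbc hs hW hWi hW' hW'i hN hN' eW eW' hM₁ t₁)
      (Groth.Agent.ASBunLib.dvd_of_twist hbc hs hW' hW'i hW hWi hN' hN eW' eW hM₂ t₂)

end Groth.Agent.S15409
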