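import Groth.Statements.S15433
import Groth.Agent.S15425
import Groth.Agent.GrLib8.StdField
import Mathlib

set_option autoImplicit false
universe u
open GrSyz

namespace Groth.Agent.S15433

section

variable {k : Type u} [Field k]

theorem sub_C_mem_irrel {n : ℕ} (p : MvPolynomial (Fin n) k) :
    p - MvPolynomial.C (MvPolynomial.constantCoeff p) ∈ (GrSyz.irrel (GrSyz.stdGr k (Fin n))).toIdeal := by
  induction p using MvPolynomial.induction_on with
  | C a => simp
  | add p q hp hq => rw [map_add, map_add, add_sub_add_comm]; exact add_mem hp hq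
  | mul_X p i _ =>
    rw [map_mul, MvPolynomial.constantCoeff_X, mul_zero, map_zero, sub_zero]
    exact Ideal.mul_mem_left _ _ (Ideal.subset_span
      ⟨1, one_pos, (GrSyz.mem_stdGr_iff k _ _ _).2 (MvPolynomial.isWeightedHomogeneous_X k _ i)⟩)

theorem length_le_of_torsion {n : ℕ} {N : Type u} [AddCommGroup N] [Module k N] [Module (MvPolynomial (Fin n) k) N]
    [IsScalarTower k (MvPolynomial (Fin n) k) N]
    (ht : LocCoh.IsPowerTorsion (GrSyz.irrel (GrSyz.stdGr k (Fin n))).toIdeal N)
    (hfl : IsFiniteLength (MvPolynomial (Fin n) k) N) :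
    Module.length k N ≤ Module.length (MvPolynomial (Fin n) k) N := by
  classical
  set A := MvPolynomial (Fin n) k
  obtain ⟨_, _⟩ := isFiniteLength_iff_isNoetherian_isArtinian.1 hfl
  suffices h : ∀ P : Submodule A N, Module.length k P ≤ Module.length A P by
    have := h ⊤
    rwa [Submodule.topEquiv.length_eq, (Submodule.topEquiv.restrictScalars k).length_eq] at this
  intro P
  induction P using WellFoundedLT.induction with
  | ind P ih =>
    by_cases hne : P = ⊥
    · subst hne
      rw [Module.length_bot]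
      exact (Module.length_eq_zero (R := k) (M := (⊥ : Submodule A N))).le
    haveI : Nontrivial P := Submodule.nontrivial_iff_ne_bot.2 hne
    obtain ⟨C, hC, -⟩ := (IsCoatomic.eq_top_or_exists_le_coatom (⊥ : Submodule A P)).resolve_left
      bot_ne_top
    haveI : IsSimpleModule A (P ⧸ C) := isSimpleModule_iff_isCoatom.2 hC
    let C' : Submodule A N := C.map P.subtype
    let e : C ≃ₗ[A] C' := Submodule.equivMapOfInjective P.subtype Subtype.val_injective C
    have hlt : C' < P := by
      refine lt_of_le_of_ne (Submodule.map_subtype_le P C) fun h => hC.1 ?_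
      rw [← Submodule.comap_map_eq_of_injective P.injective_subtype C]
      exact (congrArg (Submodule.comap P.subtype) h).trans (Submodule.comap_subtype_self P)
    have hex : Function.Exact C.subtype C.mkQ := LinearMap.exact_subtype_mkQ C
    have hA := Module.length_eq_add_of_exact (R := A) (M := P) (N := C) (P := P ⧸ C) C.subtype C.mkQ C.subtype_injective C.mkQ_surjective hex
    have hk := Module.length_eq_add_of_exact (R := k) (M := P) (N := C) (P := P ⧸ C) (C.subtype.restrictScalars k) (C.mkQ.restrictScalars k)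
        C.subtype_injective C.mkQ_surjective hex
    have heA : Module.length A C = Module.length A C' := LinearEquiv.length_eq (R := A) e
    have hek : Module.length k C = Module.length k C' := LinearEquiv.length_eq (R := k) (e.restrictScalars k)
    rw [hA, hk, heA, hek, Module.length_eq_one A (P ⧸ C)]
    refine add_le_add (ih C' hlt) ?_
    haveI : Nontrivial (P ⧸ C) := IsSimpleModule.nontrivial A _
    obtain ⟨v, hv⟩ := exists_ne (0 : P ⧸ C)
    obtain ⟨J, hJ⟩ : ∃ J : Ideal A, J = LinearMap.ker (LinearMap.toSpanSingleton A (P ⧸ C) v) := ⟨_, rfl⟩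
    have hJmax : J.IsMaximal := hJ ▸ IsSimpleModule.ker_toSpanSingleton_isMaximal A hv
    obtain ⟨w, hw⟩ := C.mkQ_surjective v
    obtain ⟨j, hj⟩ := ht (w : N)
    have hle : (GrSyz.irrel (GrSyz.stdGr k (Fin n))).toIdeal ≤ J := by
      refine hJmax.isPrime.le_of_pow_le (n := j) fun c hc => ?_
      rw [hJ, LinearMap.mem_ker, LinearMap.toSpanSingleton_apply, ← hw, ← map_smul,
        show c • w = 0 from Subtype.ext (hj c hc), map_zero]
    have hsurj : Function.Surjective (LinearMap.toSpanSingleton k (P ⧸ C) v) := fun y => by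
      obtain ⟨a, rfl⟩ := IsSimpleModule.toSpanSingleton_surjective A hv y
      have h0 := hJ.le (hle (sub_C_mem_irrel a))
      rw [LinearMap.mem_ker, map_sub, sub_eq_zero] at h0
      refine ⟨MvPolynomial.constantCoeff a, ?_⟩
      rw [h0, LinearMap.toSpanSingleton_apply, LinearMap.toSpanSingleton_apply,
        ← MvPolynomial.algebraMap_eq, algebraMap_smul]
    refine (Module.length_le_of_surjective _ hsurj).trans ?_
    exact (Module.length_eq_one k k).le

theorem exists_X_mul {m : ℕ} (a : k) (d : Fin m →₀ ℕ) (n : ℕ)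
    (hd : Finsupp.weight (fun _ : Fin m => (1 : ℤ)) d = ((n + 1 : ℕ) : ℤ)) :
    ∃ i, MvPolynomial.monomial d a = MvPolynomial.X i * MvPolynomial.monomial (d - Finsupp.single i 1) a ∧
      MvPolynomial.monomial (d - Finsupp.single i 1) a ∈ GrSyz.stdGr k (Fin m) (n : ℤ) := by
  obtain ⟨i, hi⟩ : ∃ i, d i ≠ 0 := by
    by_contra h
    push Not at h
    rw [show d = 0 from Finsupp.ext h, map_zero] at hd
    push_cast at hd
    omega
  have hd' : Finsupp.single i 1 + (d - Finsupp.single i 1) = d := by
    ext j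
    by_cases hj : i = j
    · subst hj
      simp
      omega
    · simp [Finsupp.single_apply, hj]
  refine ⟨i, ?_, (GrSyz.mem_stdGr_iff k _ _ _).2 (MvPolynomial.isWeightedHomogeneous_monomial _ _ _ ?_)⟩
  · rw [MvPolynomial.X, MvPolynomial.monomial_mul, hd', one_mul]
  · have h2 := congrArg (Finsupp.weight (fun _ : Fin m => (1 : ℤ))) hd'
    rw [map_add, hd, Finsupp.weight_single, one_smul] at h2
    push_cast at h2 ⊢
    linarith

open Classical in
theorem decompose_one_mem {m : ℕ} (ys : List (MvPolynomial (Fin m) k))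
    (hys : ∀ y ∈ ys, y ∈ GrSyz.stdGr k (Fin m) 1) (c : MvPolynomial (Fin m) k) (hc : c ∈ Ideal.ofList ys) :
    (DirectSum.decompose (GrSyz.stdGr k (Fin m)) c 1 : MvPolynomial (Fin m) k) ∈
      Submodule.span k (ys.toFinset : Set (MvPolynomial (Fin m) k)) := by
  classical
  set 𝒜 := GrSyz.stdGr k (Fin m)
  suffices h : ∀ a : MvPolynomial (Fin m) k, (DirectSum.decompose 𝒜 (a * c) 1 : MvPolynomial (Fin m) k) ∈
      Submodule.span k (ys.toFinset : Set (MvPolynomial (Fin m) k)) by simpa using h 1
  refine Submodule.span_induction (p := fun z _ => ∀ a : MvPolynomial (Fin m) k,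
    (DirectSum.decompose 𝒜 (a * z) 1 : MvPolynomial (Fin m) k) ∈
      Submodule.span k (ys.toFinset : Set (MvPolynomial (Fin m) k))) ?_ ?_ ?_ ?_ hc
  · intro y hy a
    rw [← zero_add (1 : ℤ), DirectSum.coe_decompose_mul_add_of_right_mem 𝒜 (hys y hy),
      GrLib8.eq_C_of_stdGr_zero k _ _ (SetLike.coe_mem (DirectSum.decompose 𝒜 a 0)),
      MvPolynomial.C_mul']
    exact Submodule.smul_mem _ _ (Submodule.subset_span (List.mem_toFinset.2 hy))
  · intro a
    simp
  · intro x y _ _ hx hy a
    rw [mul_add, DirectSum.decompose_add, DirectSum.add_apply, Submodule.coe_add]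
    exact add_mem (hx a) (hy a)
  · intro b x _ hx a
    rw [smul_eq_mul, ← mul_assoc]
    exact hx _

theorem finrank_stdGr_one (k : Type u) [Field k] (m : ℕ) : Module.finrank k (GrSyz.stdGr k (Fin m) 1) = m := by
  classical
  have hli : LinearIndependent k (MvPolynomial.X : Fin m → MvPolynomial (Fin m) k) := by
    have h := (MvPolynomial.basisMonomials (Fin m) k).linearIndependent.comp (fun i => Finsupp.single i 1)
      (Finsupp.single_left_injective one_ne_zero)
    rw [MvPolynomial.coe_basisMonomials] at h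
    exact h
  have heq : GrSyz.stdGr k (Fin m) 1 = Submodule.span k (Set.range (MvPolynomial.X : Fin m → MvPolynomial (Fin m) k)) := by
    refine le_antisymm (fun p hp => ?_) (Submodule.span_le.2 ?_)
    · rw [p.as_sum]
      refine Submodule.sum_mem _ fun d hd => ?_
      obtain ⟨i, hi, hq⟩ := exists_X_mul (MvPolynomial.coeff d p) d 0
        (by simpa using (GrSyz.mem_stdGr_iff k _ _ p).1 hp (MvPolynomial.mem_support_iff.1 hd))
      rw [hi, GrLib8.eq_C_of_stdGr_zero k _ _ hq, mul_comm, MvPolynomial.C_mul']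
      exact Submodule.smul_mem _ _ (Submodule.subset_span ⟨i, rfl⟩)
    · rintro _ ⟨i, rfl⟩
      exact (GrSyz.mem_stdGr_iff k _ _ _).2 (MvPolynomial.isWeightedHomogeneous_X k _ i)
  rw [heq, finrank_span_eq_card hli, Fintype.card_fin]

theorem sum_finrank_le {N : Type u} [AddCommGroup N] [Module k N] [Module.Finite k N]
    (𝒩 : ℤ → Submodule k N) [DirectSum.Decomposition 𝒩] (s : Finset ℤ) :
    ∑ n ∈ s, Module.finrank k (𝒩 n) ≤ Module.finrank k N := by
  classical
  rw [← Finset.sum_coe_sort, ← Module.finrank_pi_fintype k (M := fun n : s => 𝒩 n.1)]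
  let f : ((n : s) → 𝒩 n.1) →ₗ[k] N := ∑ n : s, (𝒩 n.1).subtype ∘ₗ LinearMap.proj n
  have hf : ∀ v, f v = ∑ n : s, (v n : N) := fun v => by simp [f]
  refine LinearMap.finrank_le_finrank_of_injective (f := f) ((injective_iff_map_eq_zero f).2 fun v hv => ?_)
  funext n
  refine Subtype.ext ?_
  rw [hf] at hv
  have h : ∑ b : s, (DirectSum.decompose 𝒩 (v b : N) n.1 : N) = 0 := by
    have h0 := congrArg ((𝒩 n.1).subtype ∘ₗ DirectSum.component k ℤ (fun i => 𝒩 i) n.1 ∘ₗ
      (DirectSum.decomposeLinearEquiv 𝒩).toLinearMap) hv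
    rw [map_sum, map_zero] at h0
    exact h0
  rw [Finset.sum_eq_single n, DirectSum.decompose_of_mem_same 𝒩 (v n).2] at h
  · exact h
  · intro b _ hb
    exact (DirectSum.decompose_of_mem_ne 𝒩 (v b).2 fun hbn => hb (Subtype.ext hbn) :)
  · exact fun h => absurd (Finset.mem_univ n) h

end

/-- Let k be a field, S = k[x_0, …, x_r] graded by degree, 𝔪 = (x_0, …, x_r), and M = S/I a graded
quotient of S, given with a surjective degree-preserving S-linear map π : S → M whose kernel I
contains no nonzero linear form. Let y_0, …, y_t be linear forms forming a weakly regular sequence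
on M (each a non-zerodivisor modulo the previous ones) and N = M/(y_0, …, y_t)M, given as a graded
module with a surjective degree-preserving S-linear map σ : M → N with kernel (y_0, …, y_t)M, and
suppose N has finite length ℓ. Then reg M + (r − t) ≤ ℓ, reg being the Castelnuovo–Mumford
regularity of M in the sense of minimal graded free resolutions. (The published statement is reg S_X
≤ deg X − codim X for an arithmetically Cohen–Macaulay subvariety X of P^r not contained in a
hyperplane; this row is the algebraic statement its proof establishes, with S_X any graded quotient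
of S by an ideal without linear forms, the maximal regular sequence of linear forms given, deg X
replaced by the length of S_X/(y_0, …, y_t)S_X and codim X by r − t, which agree with the degree and
the codimension in that situation.) -/
theorem result (k : Type u) [Field k] (r : ℕ)
    (M : Type u) [AddCommGroup M] [Module k M] [Module (MvPolynomial (Fin (r + 1)) k) M]
    [IsScalarTower k (MvPolynomial (Fin (r + 1)) k) M] [Module.Finite (MvPolynomial (Fin (r + 1)) k) M]
    (ℳ : ℤ → Submodule k M) [DirectSum.Decomposition ℳ] [SetLike.GradedSMul (GrSyz.stdGr k (Fin (r + 1))) ℳ]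
    (π : MvPolynomial (Fin (r + 1)) k →ₗ[MvPolynomial (Fin (r + 1)) k] M) (hπ : Function.Surjective π)
    (hπg : GrLC.IsGrHom (GrSyz.stdGr k (Fin (r + 1))) ℳ π)
    (hlin : ∀ x : MvPolynomial (Fin (r + 1)) k, x ∈ GrSyz.stdGr k (Fin (r + 1)) 1 → π x = 0 → x = 0)
    (ys : List (MvPolynomial (Fin (r + 1)) k)) (hys : ∀ y ∈ ys, y ∈ GrSyz.stdGr k (Fin (r + 1)) 1)
    (hreg : RingTheory.Sequence.IsWeaklyRegular M ys)
    (N : Type u) [AddCommGroup N] [Module k N] [Module (MvPolynomial (Fin (r + 1)) k) N]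
    [IsScalarTower k (MvPolynomial (Fin (r + 1)) k) N]
    (𝒩 : ℤ → Submodule k N) [DirectSum.Decomposition 𝒩] [SetLike.GradedSMul (GrSyz.stdGr k (Fin (r + 1))) 𝒩]
    (σ : M →ₗ[MvPolynomial (Fin (r + 1)) k] N) (hσ : Function.Surjective σ) (hσg : GrLC.IsGrHom ℳ 𝒩 σ)
    (hker : LinearMap.ker σ = Ideal.ofList ys • (⊤ : Submodule (MvPolynomial (Fin (r + 1)) k) M))
    (ℓ : ℕ) (hℓ : Module.length (MvPolynomial (Fin (r + 1)) k) N = (ℓ : ℕ∞)) :
    GrSyz.reg (GrSyz.stdGr k (Fin (r + 1))) ℳ (GrSyz.irrel (GrSyz.stdGr k (Fin (r + 1)))).toIdeal + ((((r : ℤ) + 1 - (ys.length : ℤ) : ℤ) : WithTop ℤ) : WithBot (WithTop ℤ)) ≤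
      (((ℓ : ℤ) : WithTop ℤ) : WithBot (WithTop ℤ)) := by
  classical
  let S := MvPolynomial (Fin (r + 1)) k
  let 𝒜 := GrSyz.stdGr k (Fin (r + 1))
  let φ : S →ₗ[S] N := σ ∘ₗ π
  have hφ : Function.Surjective φ := hσ.comp hπ
  have hφg : GrLC.IsGrHom 𝒜 𝒩 φ := fun g m hm => hσg g _ (hπg g m hm)
  haveI : Module.Finite S N := Module.Finite.of_surjective σ hσ
  have hfl : IsFiniteLength S N := Module.length_ne_top_iff.1 (by rw [hℓ]; exact ENat.coe_ne_top ℓ)
  rw [Groth.Agent.S15425.result k r M ℳ ys hys hreg N 𝒩 σ hσ hσg hker hfl]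
  have hlen : Module.length k N ≤ (ℓ : ℕ∞) :=
    hℓ ▸ length_le_of_torsion (GrLib8.isPowerTorsion_of_isFiniteLength 𝒜 𝒩
      (GrLib8.stdGr_nonneg k (Fin (r + 1))) hfl) hfl
  haveI : IsNoetherian k N := ((isFiniteLength_iff_isNoetherian_isArtinian).1
    (Module.length_ne_top_iff.1 (ne_top_of_le_ne_top (ENat.coe_ne_top ℓ) hlen))).1
  haveI : Module.Finite k N := Module.IsNoetherian.finite k N
  have hrank : Module.finrank k N ≤ ℓ := by
    rw [Module.length_eq_rank, ← Module.finrank_eq_rank, Cardinal.toENat_nat] at hlen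
    exact_mod_cast hlen
  -- the pieces of `N` are images of the pieces of `S`
  have hpiece : ∀ g (y : N), y ∈ 𝒩 g → ∃ p ∈ 𝒜 g, φ p = y := fun g y hy => by
    obtain ⟨p, hp, he⟩ := GrLib8.exists_preimage_mem (ℳ := 𝒜) (𝒩 := 𝒩) φ
      (GrLib8.isGrHomDeg_zero_iff.2 hφg) hy (hφ y)
    exact ⟨p, by rwa [sub_zero] at hp, he⟩
  have hstep : ∀ n : ℕ, 𝒩 (n : ℤ) = ⊥ → 𝒩 ((n + 1 : ℕ) : ℤ) = ⊥ := by
    intro n hn
    rw [Submodule.eq_bot_iff]
    intro y hy
    obtain ⟨p, hp, rfl⟩ := hpiece _ y hy
    rw [p.as_sum, map_sum]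
    refine Finset.sum_eq_zero fun d hd => ?_
    obtain ⟨i, hi, hq⟩ := exists_X_mul (MvPolynomial.coeff d p) d n
      ((GrSyz.mem_stdGr_iff k _ _ p).1 hp (MvPolynomial.mem_support_iff.1 hd))
    rw [hi, ← smul_eq_mul, map_smul, (Submodule.eq_bot_iff _).1 hn _ (hφg _ _ hq), smul_zero]
  -- dimension of the degree one piece
  have h1 : r + 1 ≤ Module.finrank k (𝒩 1) + ys.length := by
    let φ₁ : 𝒜 1 →ₗ[k] 𝒩 1 :=
      LinearMap.codRestrict (𝒩 1) ((φ.restrictScalars k) ∘ₗ (𝒜 1).subtype) fun p => hφg 1 _ p.2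
    let W : Submodule k S := Submodule.span k (ys.toFinset : Set S)
    have hker₁ : Submodule.map (𝒜 1).subtype (LinearMap.ker φ₁) ≤ W := by
      rintro _ ⟨x, hx, rfl⟩
      have hx0 : φ (x : S) = 0 := congrArg Subtype.val (LinearMap.mem_ker.1 hx)
      have hmem : π (x : S) ∈ Submodule.map π (Ideal.ofList ys • (⊤ : Submodule S S)) := by
        rw [Submodule.map_smul'', Submodule.map_top, LinearMap.range_eq_top.2 hπ, ← hker]
        exact LinearMap.mem_ker.2 hx0
      obtain ⟨c, hc, hcx⟩ := hmem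
      rw [smul_eq_mul, Ideal.mul_top] at hc
      let c₁ : S := (DirectSum.decompose 𝒜 c 1 : S)
      have hc₁ : c₁ ∈ W := decompose_one_mem ys hys c hc
      have hx1 : (x : S) = c₁ := by
        refine sub_eq_zero.1 (hlin _ (sub_mem x.2 (SetLike.coe_mem _)) ?_)
        rw [map_sub, sub_eq_zero, GrLib8.map_decompose_deg (ℳ := 𝒜) (𝒩 := ℳ) π
          (GrLib8.isGrHomDeg_zero_iff.2 hπg), hcx, add_zero]
        exact (DirectSum.decompose_of_mem_same ℳ (hπg 1 _ x.2)).symm
      show (x : S) ∈ W
      rw [hx1]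
      exact hc₁
    haveI : Module.Finite k W := Module.Finite.span_of_finite k ys.toFinset.finite_toSet
    have hk : Module.finrank k (LinearMap.ker φ₁) ≤ ys.length := by
      rw [(Submodule.equivMapOfInjective (𝒜 1).subtype (Submodule.injective_subtype _) (LinearMap.ker φ₁)).finrank_eq]
      exact (Submodule.finrank_mono hker₁).trans
        ((finrank_span_finset_le_card ys.toFinset).trans ys.toFinset_card_le)
    have hX : r + 1 = Module.finrank k (𝒜 1) := (finrank_stdGr_one k (r + 1)).symm
    haveI : Module.Finite k (𝒜 1) := Module.finite_of_finrank_pos (by omega)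
    have := LinearMap.finrank_range_add_finrank_ker φ₁
    have := Submodule.finrank_le (LinearMap.range φ₁)
    omega
  have hsum : ∀ s : Finset ℤ, ∑ n ∈ s, Module.finrank k (𝒩 n) ≤ ℓ := fun s =>
    (sum_finrank_le 𝒩 s).trans hrank
  have hnum : ∀ g : ℤ, (𝒩 g).toAddSubgroup ≠ ⊥ → g + ((r : ℤ) + 1 - ys.length) ≤ ℓ := by
    intro g hg
    have hg' : 𝒩 g ≠ ⊥ := fun h => hg (by rw [h]; rfl)
    have hg0 : 0 ≤ g := by
      by_contra hneg
      refine hg' ((Submodule.eq_bot_iff _).2 fun y hy => ?_)
      obtain ⟨p, hp, rfl⟩ := hpiece _ y hy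
      rw [GrLib8.stdGr_nonneg k _ g (not_le.1 hneg) p hp, map_zero]
    obtain ⟨m, rfl⟩ := Int.eq_ofNat_of_zero_le hg0
    rcases m with _ | m
    · have := hsum {1}
      rw [Finset.sum_singleton] at this
      push_cast
      omega
    · have hall : ∀ n ≤ m + 1, 1 ≤ Module.finrank k (𝒩 (n : ℤ)) := by
        intro n hn
        rw [Nat.one_le_iff_ne_zero, ne_eq, Submodule.finrank_eq_zero]
        intro h
        exact hg' (Nat.le_induction h (fun j _ => hstep j) (m + 1) hn)
      have h2 := hsum ((Finset.range (m + 1 + 1)).map Nat.castEmbedding)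
      rw [Finset.sum_map, Finset.sum_range_succ', Finset.sum_range_succ'] at h2
      change _ + Module.finrank k (𝒩 ((0 + 1 : ℕ) : ℤ)) + Module.finrank k (𝒩 ((0 : ℕ) : ℤ)) ≤ ℓ at h2
      have h3 : m ≤ ∑ x ∈ Finset.range m, Module.finrank k (𝒩 (Nat.castEmbedding (x + 1 + 1) : ℤ)) := by
        refine le_trans (le_of_eq (by simp)) (Finset.sum_le_sum (f := fun _ => 1) fun x hx => hall _ ?_)
        have := Finset.mem_range.1 hx
        omega
      have h0 := hall 0 (by omega)
      push_cast at h2 h3 h0 h1 ⊢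
      omega
  have hend : GrLC.endDeg (fun n => (𝒩 n).toAddSubgroup) ≤
      (((((ℓ : ℤ) - ((r : ℤ) + 1 - ys.length)) : ℤ) : WithTop ℤ) : WithBot (WithTop ℤ)) := by
    rw [GrLib8.endDeg_le_iff]
    intro g hg
    by_contra hne
    have := hnum g hne
    omega
  refine (add_le_add hend le_rfl).trans (le_of_eq ?_)
  rw [← WithBot.coe_add, ← WithTop.coe_add, sub_add_cancel]

end Groth.Agent.S15433
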