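import Groth.Statements.S15439
import Groth.Agent.DiagFamily.Graph
import Groth.Agent.PnCoh.Chow.Proper
-- import your own Groth.Agent.* helpers here

set_option autoImplicit false
set_option backward.isDefEq.respectTransparency false
set_option backward.isDefEq.respectTransparency.types false
set_option linter.style.haveILetI false
set_option maxHeartbeats 1000000
universe u
open AlgEqCyc

namespace Groth.Agent.S15439
open Groth.Agent

open AlgebraicGeometry CategoryTheory CategoryTheory.Limits in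
/-- Let k be an algebraically closed field, X a scheme over k and C₁, …, Cₙ finitely many closed
subschemes of X, given as closed immersions ιᵢ : Cᵢ → X over k, such that each Cᵢ is smooth over k,
projective over k, integral and of dimension one and such that the union of the ιᵢ(Cᵢ) is a
connected subset of X. Then for any two k-rational points P and Q of X lying on this union, the
zero-cycles [P] and [Q] on X are algebraically equivalent: [P] − [Q] lies in the subgroup of cycles
on X generated by the elementary algebraically trivial ones. (The published statement speaks of a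
connected curve whose irreducible components are smooth and integral and of two of its points,
inside an ambient smooth projective scheme over an algebraically closed field of characteristic
zero; this row takes any finite family of such curves with connected union in any k-scheme X, k
algebraically closed, and k-rational points.) -/
theorem result (k : Type u) [Field k]
    [IsAlgClosed k] (X : Scheme.{u}) [DecidableEq ↥X] (p : X ⟶ Spec (CommRingCat.of k)) (n : ℕ)
    (C : Fin n → Scheme.{u}) (q : (i : Fin n) → (C i ⟶ Spec (CommRingCat.of k)))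
    (ι : (i : Fin n) → (C i ⟶ X)) (hι : ∀ i, IsClosedImmersion (ι i)) (hq : ∀ i, ι i ≫ p = q i)
    (hs : ∀ i, Smooth (q i)) (hpr : ∀ i, Neron.IsProjectiveOver k (Over.mk (q i)))
    (hint : ∀ i, IsIntegral (C i)) (hd : ∀ i, topologicalKrullDim ↥(C i) = 1)
    (hconn : _root_.IsConnected (⋃ i, Set.range ⇑(ι i)))
    (P Q : Spec (CommRingCat.of k) ⟶ X) (hP : P ≫ p = 𝟙 _) (hQ : Q ≫ p = 𝟙 _)
    (hPC : P (IsLocalRing.closedPoint k) ∈ ⋃ i, Set.range ⇑(ι i))
    (hQC : Q (IsLocalRing.closedPoint k) ∈ ⋃ i, Set.range ⇑(ι i)) :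
    AlgEqCyc.IsAlgEquiv p (Function.locallyFinsuppWithin.single (P (IsLocalRing.closedPoint k)) (1 : ℤ))
      (Function.locallyFinsuppWithin.single (Q (IsLocalRing.closedPoint k)) (1 : ℤ)) := by
  let pt := IsLocalRing.closedPoint k
  let R : X → X → Prop := fun a b =>
    AlgEqCyc.IsAlgEquiv p (Function.locallyFinsuppWithin.single a (1 : ℤ)) (Function.locallyFinsuppWithin.single b (1 : ℤ))
  have trans : ∀ {a b c : X}, R a b → R b c → R a c := fun {a b c} h h' => by
    have := (AlgEqCyc.algTriv p).add_mem h h'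
    rwa [sub_add_sub_cancel] at this
  have hsep : ∀ i, IsSeparated (q i) := fun i => by
    obtain ⟨N, j, hj, hjw⟩ := hpr i
    haveI := hj
    have h : q i = j ≫ CohB1.ProjSpaceOver.toBase N (Spec (CommRingCat.of k)) := hjw.symm
    haveI : IsProper (CohB1.ProjSpace.toSpec N (ULift.{u} ℤ)) := PnCoh.Chow.isProper_toSpec N _
    haveI : IsSeparated (CohB1.ProjSpaceOver.toBase N (Spec (CommRingCat.of k))) :=
      MorphismProperty.pullback_snd _ _ inferInstance
    rw [h]
    infer_instance
  have hlft : ∀ i, LocallyOfFiniteType (q i) := fun i => by haveI := hs i; infer_instance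
  have hpoint : ∀ (i : Fin n) (x : X), x ∈ Set.range ⇑(ι i) → IsClosed ({x} : Set X) →
      ∃ s : Spec (CommRingCat.of k) ⟶ C i, s ≫ q i = 𝟙 _ ∧ ι i (s pt) = x := by
    intro i x hx hxc
    obtain ⟨z, rfl⟩ := hx
    haveI := hι i
    haveI := hlft i
    have hz : IsClosed ({z} : Set (C i)) := by
      have he : ({z} : Set (C i)) = ι i ⁻¹' {ι i z} :=
        Set.ext fun w => ⟨fun h => congrArg (ι i) h, fun h => (ι i).isEmbedding.injective h⟩
      rw [he]
      exact hxc.preimage (ι i).continuous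
    refine ⟨((pointEquivClosedPoint (q i)).symm ⟨z, hz⟩).1, ((pointEquivClosedPoint (q i)).symm ⟨z, hz⟩).2, ?_⟩
    exact congrArg (ι i) (congrArg Subtype.val ((pointEquivClosedPoint (q i)).apply_symm_apply ⟨z, hz⟩))
  have same : ∀ (i : Fin n) (x y : X), x ∈ Set.range ⇑(ι i) → y ∈ Set.range ⇑(ι i) → IsClosed ({x} : Set X) →
      IsClosed ({y} : Set X) → R x y := by
    intro i x y hx hy hxc hyc
    obtain ⟨s, hs1, rfl⟩ := hpoint i x hx hxc
    obtain ⟨s', hs2, rfl⟩ := hpoint i y hy hyc
    haveI := hι i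
    haveI := hint i
    haveI := hsep i
    exact AddSubgroup.subset_closure
      (DiagFamily.Graph.isElemAlgTriv_single_sub_single p (q i) (ι i) (hq i) (hs i) (hpr i) (hd i) s s' hs1 hs2)
  have hclosedPt : ∀ (T : Spec (CommRingCat.of k) ⟶ X), T ≫ p = 𝟙 _ → IsClosed ({T pt} : Set X) := by
    intro T hT
    refine closure_subset_iff_isClosed.1 fun w hw => ?_
    have hsp : T pt ⤳ w := specializes_iff_mem_closure.2 hw
    obtain ⟨U, hU, hwU, -⟩ := exists_isAffineOpen_mem_and_subset (x := w) (U := ⊤) trivial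
    have hrange : Set.range T ⊆ Set.range hU.fromSpec := by
      rintro _ ⟨t, rfl⟩
      rw [hU.range_fromSpec, Subsingleton.elim (α := PrimeSpectrum k) t pt]
      exact hsp.mem_open U.isOpen hwU
    obtain ⟨φ, hφ⟩ := Spec.map_surjective (IsOpenImmersion.lift hU.fromSpec T hrange)
    obtain ⟨W, hW⟩ : w ∈ Set.range hU.fromSpec := hU.range_fromSpec.symm ▸ hwU
    obtain ⟨χ, hχ⟩ := Spec.map_surjective (hU.fromSpec ≫ p)
    have hφsurj : Function.Surjective φ.hom := fun c => ⟨χ.hom c, by
      have h1 : χ ≫ φ = 𝟙 _ := Spec.map_injective (by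
        rw [Spec.map_comp, hφ, hχ, IsOpenImmersion.lift_fac_assoc, hT, Spec.map_id])
      exact congr($h1 c)⟩
    have hT' : hU.fromSpec (Spec.map φ pt) = T pt := by
      rw [← Scheme.Hom.comp_apply, hφ, IsOpenImmersion.lift_fac]
    let M : PrimeSpectrum Γ(X, U) := Spec.map φ pt
    have hmax : M.asIdeal.IsMaximal :=
      Ideal.comap_isMaximal_of_surjective φ.hom hφsurj (K := IsLocalRing.maximalIdeal k)
    have hle : M ≤ (W : PrimeSpectrum Γ(X, U)) := (PrimeSpectrum.le_iff_specializes _ _).2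
      (hU.fromSpec.isOpenEmbedding.isInducing.specializes_iff.1 (by rw [hW, hT']; exact hsp))
    have hMW : M = W := PrimeSpectrum.ext (hmax.eq_of_le (W : PrimeSpectrum Γ(X, U)).2.ne_top hle)
    show w = T pt
    rw [← hW, ← hT']
    exact congrArg hU.fromSpec hMW.symm
  have hPc := hclosedPt P hP
  have hQc := hclosedPt Q hQ
  let S : Set (Fin n) := {i | ∃ x ∈ Set.range ⇑(ι i), IsClosed ({x} : Set X) ∧ R (P pt) x}
  let A : Set X := ⋃ i ∈ S, Set.range ⇑(ι i)
  let B : Set X := ⋃ i ∈ Sᶜ, Set.range ⇑(ι i)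
  have hcl : ∀ i, IsClosed (Set.range ⇑(ι i)) := fun i => haveI := hι i; (ι i).isClosedEmbedding.isClosed_range
  have hA : IsClosed A := (Set.toFinite S).isClosed_biUnion fun i _ => hcl i
  have hB : IsClosed B := (Set.toFinite Sᶜ).isClosed_biUnion fun i _ => hcl i
  obtain ⟨iQ, hiQ⟩ := Set.mem_iUnion.1 hQC
  by_cases hQS : iQ ∈ S
  · obtain ⟨x, hx, hxc, hR⟩ := hQS
    exact trans hR (same iQ x (Q pt) hx hiQ hxc hQc)
  exfalso
  obtain ⟨iP, hiP⟩ := Set.mem_iUnion.1 hPC
  have hPS : iP ∈ S := ⟨P pt, hiP, hPc, by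
    show _ - _ ∈ AlgEqCyc.algTriv p
    rw [sub_self]
    exact AddSubgroup.zero_mem _⟩
  have hcov : (⋃ i, Set.range ⇑(ι i)) ⊆ A ∪ B := fun z hz => by
    obtain ⟨i, hi⟩ := Set.mem_iUnion.1 hz
    by_cases h : i ∈ S
    · exact Or.inl (Set.mem_biUnion h hi)
    · exact Or.inr (Set.mem_biUnion (show i ∈ Sᶜ from h) hi)
  obtain ⟨z, -, hzA, hzB⟩ := isPreconnected_closed_iff.1 hconn.isPreconnected A B hA hB hcov
    ⟨P pt, hPC, Set.mem_biUnion hPS hiP⟩ ⟨Q pt, hQC, Set.mem_biUnion (show iQ ∈ Sᶜ from hQS) hiQ⟩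
  obtain ⟨i, hi, z', rfl⟩ := Set.mem_iUnion₂.1 hzA
  obtain ⟨j, hj, hzj⟩ := Set.mem_iUnion₂.1 hzB
  haveI := hι i
  haveI := hlft i
  haveI : JacobsonSpace (C i) := LocallyOfFiniteType.jacobsonSpace (q i)
  obtain ⟨c, hc, hcc⟩ := nonempty_inter_closedPoints (Z := ι i ⁻¹' Set.range ⇑(ι j))
    ⟨z', hzj⟩ ((hcl j).preimage (ι i).continuous).isLocallyClosed
  have hxc : IsClosed ({ι i c} : Set X) := by
    rw [← Set.image_singleton]
    exact (ι i).isClosedEmbedding.isClosedMap _ hcc
  obtain ⟨x, hx, hxc', hR⟩ := hi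
  exact hj ⟨ι i c, hc, hxc, trans hR (same i x (ι i c) hx ⟨c, rfl⟩ hxc' hxc)⟩

end Groth.Agent.S15439
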