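import Groth.Statements.S15465
import Mathlib.CategoryTheory.Abelian.Refinements

set_option autoImplicit false
universe v u
open HomAlg

namespace Groth.Agent.S15465

open CategoryTheory CategoryTheory.Limits in
/-- In an abelian category let 0 → A₂ → B₂ → C₂ → 0 (maps i₂, π₂), 0 → A₁ → A₂ → A₃ → 0 (maps i₁, p₁)
and 0 → C₁ → C₂ → C₃ → 0 (maps j, q) be short exact sequences, let α = i₁ ≫ i₂ : A₁ → B₂ and β = π₂
≫ q : B₂ → C₃, and let K = ker β / im α be the homology object of the complex A₁ → B₂ → C₃. Let f :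
A₃ → K be the map induced by i₂ (the unique map whose composite with p₁ is the homology class of the
cycle i₂) and g : K → C₁ the map induced by π₂ (the unique map whose composite with j is the map K →
C₂ induced by π₂). Then 0 → A₃ → K → C₁ → 0, with maps f and g, is a short exact sequence. (The
hypotheses w, h₂, h₃ are consequences of i₂ ≫ π₂ = 0, carried so that the maps can be named; the
published statement assumes in addition that the category has enough injective objects, which plays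
no role in this assertion.) -/
theorem result
    {C : Type u} [Category.{v} C] [Abelian C] {A₁ A₂ A₃ B₂ C₁ C₂ C₃ : C}
    (i₁ : A₁ ⟶ A₂) (p₁ : A₂ ⟶ A₃) (wA : i₁ ≫ p₁ = 0) (hA : (ShortComplex.mk i₁ p₁ wA).ShortExact)
    (i₂ : A₂ ⟶ B₂) (π₂ : B₂ ⟶ C₂) (wB : i₂ ≫ π₂ = 0) (hB : (ShortComplex.mk i₂ π₂ wB).ShortExact)
    (j : C₁ ⟶ C₂) (q : C₂ ⟶ C₃) (wC : j ≫ q = 0) (hC : (ShortComplex.mk j q wC).ShortExact)
    (w : (i₁ ≫ i₂) ≫ (π₂ ≫ q) = 0) (h₂ : i₂ ≫ (π₂ ≫ q) = 0) (h₃ : (i₁ ≫ i₂) ≫ π₂ = 0)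
    (f : A₃ ⟶ (CategoryTheory.ShortComplex.mk (i₁ ≫ i₂) (π₂ ≫ q) w).homology)
    (g : (CategoryTheory.ShortComplex.mk (i₁ ≫ i₂) (π₂ ≫ q) w).homology ⟶ C₁)
    (hf : p₁ ≫ f = (CategoryTheory.ShortComplex.mk (i₁ ≫ i₂) (π₂ ≫ q) w).liftCycles i₂ h₂ ≫ (CategoryTheory.ShortComplex.mk (i₁ ≫ i₂) (π₂ ≫ q) w).homologyπ)
    (hg : g ≫ j = (CategoryTheory.ShortComplex.mk (i₁ ≫ i₂) (π₂ ≫ q) w).homologyι ≫ (CategoryTheory.ShortComplex.mk (i₁ ≫ i₂) (π₂ ≫ q) w).descOpcycles π₂ h₃) :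
    ∃ wfg : f ≫ g = 0, (ShortComplex.mk f g wfg).ShortExact := by
  haveI := hA.mono_f
  haveI := hA.epi_g
  haveI := hB.mono_f
  haveI := hB.epi_g
  haveI := hC.mono_f
  haveI := hC.epi_g
  let S := CategoryTheory.ShortComplex.mk (i₁ ≫ i₂) (π₂ ≫ q) w
  have hf' : p₁ ≫ f = S.liftCycles i₂ h₂ ≫ S.homologyπ := hf
  have hg' : S.homologyπ ≫ g ≫ j = S.iCycles ≫ π₂ := by
    refine (congrArg (S.homologyπ ≫ ·) hg).trans ?_
    show S.homologyπ ≫ S.homologyι ≫ S.descOpcycles π₂ h₃ = _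
    rw [S.homology_π_ι_assoc, S.p_descOpcycles]
  have wfg : f ≫ g = 0 := by
    rw [← cancel_epi p₁, ← cancel_mono j]
    simp only [Category.assoc, comp_zero, zero_comp]
    rw [reassoc_of% hf', hg', ← Category.assoc, S.liftCycles_i, wB]
  have hmono : Mono f := by
    refine Preadditive.mono_of_cancel_zero _ fun {T} x hx => ?_
    obtain ⟨T₁, π₁, hπ₁, a₂, ha₂⟩ := surjective_up_to_refinements_of_epi p₁ x
    have hz : (a₂ ≫ S.liftCycles i₂ h₂) ≫ S.homologyπ = 0 := by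
      rw [Category.assoc, ← hf', ← Category.assoc, ← ha₂, Category.assoc, hx, comp_zero]
    obtain ⟨T₂, π₂', hπ₂, a₁, ha₁⟩ :=
      (S.comp_homologyπ_eq_zero_iff_up_to_refinements _).1 hz
    have h1 : π₂' ≫ a₂ = a₁ ≫ i₁ := by
      rw [← cancel_mono i₂]
      have := congrArg (· ≫ S.iCycles) ha₁
      simpa [S] using this
    have h2 : π₂' ≫ π₁ ≫ x = 0 := by
      rw [ha₂, ← Category.assoc, h1, Category.assoc, wA, comp_zero]
    rw [← cancel_epi π₁, ← cancel_epi π₂', comp_zero, comp_zero, h2]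
  have hepi : Epi g := by
    rw [epi_iff_surjective_up_to_refinements]
    intro T c₁
    obtain ⟨T₁, π₁, hπ₁, b, hb⟩ := surjective_up_to_refinements_of_epi π₂ (c₁ ≫ j)
    have hbq : b ≫ (π₂ ≫ q) = 0 := by
      rw [← Category.assoc, ← hb, Category.assoc, Category.assoc, wC, comp_zero, comp_zero]
    refine ⟨T₁, π₁, hπ₁, S.liftCycles b hbq ≫ S.homologyπ, ?_⟩
    rw [← cancel_mono j]
    simp only [Category.assoc]
    rw [hg', ← Category.assoc (S.liftCycles b hbq), S.liftCycles_i, hb]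
  refine ⟨wfg, ShortComplex.ShortExact.mk' ?_ hmono hepi⟩
  rw [ShortComplex.exact_iff_exact_up_to_refinements]
  intro T y hy
  obtain ⟨T₁, π₁, hπ₁, z, hz, hzy⟩ := S.eq_liftCycles_homologyπ_up_to_refinements y
  have hz0 : z ≫ π₂ = 0 := by
    have h1 : (π₁ ≫ y) ≫ g ≫ j = 0 := by
      have hy' : y ≫ g = 0 := hy
      rw [Category.assoc, reassoc_of% hy']
      simp
    rw [hzy, Category.assoc, hg', ← Category.assoc, S.liftCycles_i] at h1
    exact h1
  haveI : Mono (ShortComplex.mk i₂ π₂ wB).f := hB.mono_f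
  let x₂ : T₁ ⟶ A₂ := hB.exact.lift z hz0
  have hx₂ : x₂ ≫ i₂ = z := hB.exact.lift_f z hz0
  refine ⟨T₁, π₁, hπ₁, x₂ ≫ p₁, ?_⟩
  show π₁ ≫ y = (x₂ ≫ p₁) ≫ f
  rw [hzy, Category.assoc, hf', ← Category.assoc]
  congr 1
  rw [← cancel_mono S.iCycles, Category.assoc, S.liftCycles_i, S.liftCycles_i, hx₂]

end Groth.Agent.S15465
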