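import Groth.Statements.S15466
import Mathlib

set_option autoImplicit false
universe v u
open HomAlg

namespace Groth.Agent.S15466

open CategoryTheory CategoryTheory.Limits

variable {C : Type u} [Category.{v} C] [Abelian C]

lemma subobject_eq (S : ShortComplex C) {X : C} (s : X ⟶ S.homology) [Mono s] :
    (Subobject.map S.iCycles).obj ((Subobject.pullback S.homologyπ).obj (imageSubobject s)) =
      Subobject.mk (pullback.snd s S.homologyπ ≫ S.iCycles) := by
  rw [imageSubobject_mono, Subobject.pullback_obj, Subobject.map_mk]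
  refine Subobject.mk_eq_mk_of_comm _ _
    (asIso (pullback.map _ _ _ _ (Subobject.underlyingIso s).hom (𝟙 _) (𝟙 _)
      (by simp) (by simp))) ?_
  simp only [asIso_hom, pullback.map, pullback.lift_snd_assoc, Category.comp_id]

lemma exact_iff_lift {S : ShortComplex C}
    (h : ∀ {T : C} (t : T ⟶ S.X₂), t ≫ S.g = 0 →
      ∃ (T' : C) (π : T' ⟶ T) (_ : Epi π) (x : T' ⟶ S.X₁), π ≫ t = x ≫ S.f) : S.Exact :=
  S.exact_iff_exact_up_to_refinements.2 fun _ t ht => h t ht


open CategoryTheory CategoryTheory.Limits in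
/-- In an abelian category let 0 → A₂ → B₂ → C₂ → 0 (maps i₂, π₂), 0 → A₁ → A₂ → A₃ → 0 (maps i₁, p₁)
and 0 → C₁ → C₂ → C₃ → 0 (maps j, q) be short exact sequences, α = i₁ ≫ i₂, β = π₂ ≫ q, K = ker β /
im α, and let f : A₃ → K and g : K → C₁ be the maps induced by i₂ and π₂ (pinned by their defining
squares), so that 0 → A₃ → K → C₁ → 0 is short exact. Sending a section s of g to the subobject B₁
of B₂ obtained by pulling the image of s back along ker β → K and then including ker β into B₂ is a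
bijection from the sections of g (equivalently, the splittings of that sequence) onto the subobjects
B₁ of B₂ that complete the data to a 3 × 3 diagram with exact rows and columns: there are maps A₁ →
B₁ → C₁ over i₁ ≫ i₂ and under π₂ forming a short exact sequence, and maps A₃ → B₂/B₁ → C₃ under i₂
and over π₂ ≫ q forming a short exact sequence. (The hypotheses w, h₂, h₃ are consequences of i₂ ≫
π₂ = 0, carried so that the maps can be named; the published statement assumes in addition that the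
category has enough injective objects, which plays no role here.) -/
theorem result
    {C : Type u} [Category.{v} C] [Abelian C] {A₁ A₂ A₃ B₂ C₁ C₂ C₃ : C}
    (i₁ : A₁ ⟶ A₂) (p₁ : A₂ ⟶ A₃) (wA : i₁ ≫ p₁ = 0) (hA : (ShortComplex.mk i₁ p₁ wA).ShortExact)
    (i₂ : A₂ ⟶ B₂) (π₂ : B₂ ⟶ C₂) (wB : i₂ ≫ π₂ = 0) (hB : (ShortComplex.mk i₂ π₂ wB).ShortExact)
    (j : C₁ ⟶ C₂) (q : C₂ ⟶ C₃) (wC : j ≫ q = 0) (hC : (ShortComplex.mk j q wC).ShortExact)
    (w : (i₁ ≫ i₂) ≫ (π₂ ≫ q) = 0) (h₂ : i₂ ≫ (π₂ ≫ q) = 0) (h₃ : (i₁ ≫ i₂) ≫ π₂ = 0)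
    (f : A₃ ⟶ (CategoryTheory.ShortComplex.mk (i₁ ≫ i₂) (π₂ ≫ q) w).homology)
    (g : (CategoryTheory.ShortComplex.mk (i₁ ≫ i₂) (π₂ ≫ q) w).homology ⟶ C₁)
    (hf : p₁ ≫ f = (CategoryTheory.ShortComplex.mk (i₁ ≫ i₂) (π₂ ≫ q) w).liftCycles i₂ h₂ ≫ (CategoryTheory.ShortComplex.mk (i₁ ≫ i₂) (π₂ ≫ q) w).homologyπ)
    (hg : g ≫ j = (CategoryTheory.ShortComplex.mk (i₁ ≫ i₂) (π₂ ≫ q) w).homologyι ≫ (CategoryTheory.ShortComplex.mk (i₁ ≫ i₂) (π₂ ≫ q) w).descOpcycles π₂ h₃) :
    (∀ B₁ : Subobject B₂,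
      (∃ (a : A₁ ⟶ (B₁ : C)) (c : (B₁ : C) ⟶ C₁) (wac : a ≫ c = 0)
         (a' : A₃ ⟶ cokernel B₁.arrow) (c' : cokernel B₁.arrow ⟶ C₃) (wac' : a' ≫ c' = 0),
         a ≫ B₁.arrow = i₁ ≫ i₂ ∧ c ≫ j = B₁.arrow ≫ π₂ ∧ (ShortComplex.mk a c wac).ShortExact ∧
         p₁ ≫ a' = i₂ ≫ cokernel.π B₁.arrow ∧ cokernel.π B₁.arrow ≫ c' = π₂ ≫ q ∧
         (ShortComplex.mk a' c' wac').ShortExact) ↔
      ∃ s : C₁ ⟶ (CategoryTheory.ShortComplex.mk (i₁ ≫ i₂) (π₂ ≫ q) w).homology, s ≫ g = 𝟙 C₁ ∧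
        (Subobject.map (CategoryTheory.ShortComplex.mk (i₁ ≫ i₂) (π₂ ≫ q) w).iCycles).obj ((Subobject.pullback (CategoryTheory.ShortComplex.mk (i₁ ≫ i₂) (π₂ ≫ q) w).homologyπ).obj (imageSubobject s)) = B₁) ∧
    (∀ s s' : C₁ ⟶ (CategoryTheory.ShortComplex.mk (i₁ ≫ i₂) (π₂ ≫ q) w).homology, s ≫ g = 𝟙 C₁ → s' ≫ g = 𝟙 C₁ →
      (Subobject.map (CategoryTheory.ShortComplex.mk (i₁ ≫ i₂) (π₂ ≫ q) w).iCycles).obj ((Subobject.pullback (CategoryTheory.ShortComplex.mk (i₁ ≫ i₂) (π₂ ≫ q) w).homologyπ).obj (imageSubobject s)) = (Subobject.map (CategoryTheory.ShortComplex.mk (i₁ ≫ i₂) (π₂ ≫ q) w).iCycles).obj ((Subobject.pullback (CategoryTheory.ShortComplex.mk (i₁ ≫ i₂) (π₂ ≫ q) w).homologyπ).obj (imageSubobject s')) → s = s') := by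
  have := hA.mono_f
  have := hA.epi_g
  have := hB.mono_f
  have := hB.epi_g
  have := hC.mono_f
  have := hC.epi_g
  dsimp only at *
  let S := CategoryTheory.ShortComplex.mk (i₁ ≫ i₂) (π₂ ≫ q) w
  have : Mono S.f := mono_comp i₁ i₂
  have hπι : S.homologyπ ≫ g ≫ j = S.iCycles ≫ π₂ := by
    rw [hg, ShortComplex.homology_π_ι_assoc, ShortComplex.p_descOpcycles]
  have hexS : ∀ {T : C} (y : T ⟶ S.cycles), y ≫ S.homologyπ = 0 →
      ∃ (T' : C) (π : T' ⟶ T) (_ : Epi π) (x : T' ⟶ A₁), π ≫ y = x ≫ S.toCycles :=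
    fun y hy => (ShortComplex.exact_of_g_is_cokernel (ShortComplex.mk S.toCycles S.homologyπ
      S.toCycles_comp_homologyπ) S.homologyIsCokernel).exact_up_to_refinements y hy
  -- the middle object attached to a section
  have key : ∀ s : C₁ ⟶ S.homology, s ≫ g = 𝟙 C₁ →
      (pullback.snd s S.homologyπ ≫ S.iCycles) ≫ π₂ = pullback.fst s S.homologyπ ≫ j := by
    intro s hs
    rw [Category.assoc, ← hπι, ← pullback.condition_assoc, reassoc_of% hs]
  refine ⟨fun B₁ => ⟨?_, ?_⟩, ?_⟩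
  · rintro ⟨a, c, wac, a', c', wac', haα, hcj, hac, ha', hc', -⟩
    have := hac.mono_f
    have := hac.epi_g
    have hβ : B₁.arrow ≫ (π₂ ≫ q) = 0 := by rw [← reassoc_of% hcj, wC, comp_zero]
    let l : (B₁ : C) ⟶ S.cycles := S.liftCycles B₁.arrow hβ
    have hal : a ≫ l = S.toCycles := by
      rw [← cancel_mono S.iCycles]
      simp [l, haα, S]
    have hlπ : a ≫ l ≫ S.homologyπ = 0 := by
      rw [reassoc_of% hal, ShortComplex.toCycles_comp_homologyπ]
    let s : C₁ ⟶ S.homology := hac.exact.desc (l ≫ S.homologyπ) hlπ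
    have hcs : c ≫ s = l ≫ S.homologyπ := hac.exact.g_desc _ _
    have hs : s ≫ g = 𝟙 C₁ := by
      rw [← cancel_mono j, ← cancel_epi c, Category.id_comp, Category.assoc, reassoc_of% hcs,
        hπι, hcj, ← Category.assoc, ShortComplex.liftCycles_i]
    have : Mono s := mono_of_mono_fac hs
    refine ⟨s, hs, ?_⟩
    rw [subobject_eq S s]
    refine le_antisymm (Subobject.mk_le_of_comm (Abelian.monoLift B₁.arrow
      (pullback.snd s S.homologyπ ≫ S.iCycles) ?_) (Abelian.monoLift_comp _ _ _)) ?_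
    · obtain ⟨T, π, hπ, b, hb⟩ := surjective_up_to_refinements_of_epi c (pullback.fst s S.homologyπ)
      obtain ⟨T', π', hπ', x, hx⟩ := hexS (π ≫ pullback.snd s S.homologyπ - b ≫ l) (by
        rw [Preadditive.sub_comp, sub_eq_zero, Category.assoc, Category.assoc,
          ← pullback.condition, reassoc_of% hb, hcs])
      have e : π' ≫ π ≫ pullback.snd s S.homologyπ = (x ≫ a + π' ≫ b) ≫ l := by
        rw [Preadditive.comp_sub, sub_eq_iff_eq_add] at hx
        simp [hx, hal]
      rw [← cancel_epi π, comp_zero, ← cancel_epi π', comp_zero]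
      simp only [Category.assoc]
      rw [reassoc_of% e]
      simp [l]
    · exact Subobject.le_mk_of_comm (pullback.lift c l hcs)
        (by rw [pullback.lift_snd_assoc]; exact S.liftCycles_i _ _)
  · rintro ⟨s, hs, rfl⟩
    have : Mono s := mono_of_mono_fac hs
    suffices H : ∀ (B : Subobject B₂), B = Subobject.mk (pullback.snd s S.homologyπ ≫ S.iCycles) →
      ∃ (a : A₁ ⟶ (B : C)) (c : (B : C) ⟶ C₁) (wac : a ≫ c = 0)
         (a' : A₃ ⟶ cokernel B.arrow) (c' : cokernel B.arrow ⟶ C₃) (wac' : a' ≫ c' = 0),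
         a ≫ B.arrow = i₁ ≫ i₂ ∧ c ≫ j = B.arrow ≫ π₂ ∧ (ShortComplex.mk a c wac).ShortExact ∧
         p₁ ≫ a' = i₂ ≫ cokernel.π B.arrow ∧ cokernel.π B.arrow ≫ c' = π₂ ≫ q ∧
         (ShortComplex.mk a' c' wac').ShortExact from H _ (subobject_eq S s)
    intro B hBm
    let e : (B : C) ≅ pullback s S.homologyπ :=
      eqToIso (by rw [hBm]) ≪≫ Subobject.underlyingIso _
    have he : e.hom ≫ pullback.snd s S.homologyπ ≫ S.iCycles = B.arrow := by
      subst hBm; simp [e]
    let a₀ : A₁ ⟶ pullback s S.homologyπ :=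
      pullback.lift 0 S.toCycles (by rw [zero_comp, ShortComplex.toCycles_comp_homologyπ])
    let a : A₁ ⟶ (B : C) := a₀ ≫ e.inv
    let c : (B : C) ⟶ C₁ := e.hom ≫ pullback.fst s S.homologyπ
    have haB : a ≫ B.arrow = i₁ ≫ i₂ := by
      rw [← he]
      simp only [a, a₀, Category.assoc, Iso.inv_hom_id_assoc, pullback.lift_snd_assoc]
      exact S.toCycles_i
    have hcj : c ≫ j = B.arrow ≫ π₂ := by
      rw [← he, Category.assoc e.hom (pullback.snd s S.homologyπ ≫ S.iCycles) π₂, key s hs, ← Category.assoc]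
    have hac0 : a ≫ c = 0 := by
      simp only [a, a₀, c, Category.assoc, Iso.inv_hom_id_assoc, pullback.lift_fst]
    have hac : (ShortComplex.mk a c hac0).ShortExact := by
      have this' : Mono a := mono_of_mono_fac (haB.trans rfl : a ≫ B.arrow = S.f)
      have : Epi c := epi_comp _ _
      refine ShortComplex.ShortExact.mk' (exact_iff_lift fun {T} t ht => ?_) this' this
      obtain ⟨T', π, hπ, x, hx⟩ := hexS (t ≫ e.hom ≫ pullback.snd s S.homologyπ) (by
        dsimp [c] at ht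
        rw [Category.assoc, Category.assoc, ← pullback.condition, reassoc_of% ht, zero_comp])
      refine ⟨T', π, hπ, x, ?_⟩
      rw [← cancel_mono B.arrow, Category.assoc, Category.assoc]
      erw [haB]
      rw [← he, reassoc_of% hx, ShortComplex.toCycles_i]
    have h₁ : i₁ ≫ i₂ ≫ cokernel.π B.arrow = 0 := by
      rw [← Category.assoc, ← haB, Category.assoc, cokernel.condition, comp_zero]
    let a' : A₃ ⟶ cokernel B.arrow := hA.exact.desc (i₂ ≫ cokernel.π B.arrow) h₁
    have ha' : p₁ ≫ a' = i₂ ≫ cokernel.π B.arrow := hA.exact.g_desc _ _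
    let c' : cokernel B.arrow ⟶ C₃ := cokernel.desc _ (π₂ ≫ q)
      (by rw [← reassoc_of% hcj, wC, comp_zero])
    have hc' : cokernel.π B.arrow ≫ c' = π₂ ≫ q := cokernel.π_desc _ _ _
    have hac' : a' ≫ c' = 0 := by rw [← cancel_epi p₁, reassoc_of% ha', hc', h₂, comp_zero]
    refine ⟨a, c, hac0, a', c', hac', haB, hcj, hac, ha', hc', ?_⟩
    have hπβ : Epi (π₂ ≫ q) := epi_comp _ _
    have hc'' : Epi c' := epi_of_epi_fac hc'
    have hcok : (ShortComplex.mk B.arrow (cokernel.π B.arrow) (cokernel.condition _)).Exact :=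
      ShortComplex.exact_of_g_is_cokernel _ (cokernelIsCokernel _)
    have ha'' : Mono a' := by
      refine Preadditive.mono_of_cancel_zero _ fun {T} t ht => ?_
      obtain ⟨T₁, π, hπ, u, hu⟩ := surjective_up_to_refinements_of_epi p₁ t
      obtain ⟨T₂, π', hπ', b, hb⟩ := hcok.exact_up_to_refinements (u ≫ i₂) (by
        dsimp; rw [Category.assoc, ← ha', ← reassoc_of% hu, ht, comp_zero])
      dsimp at b hb
      have := hac.epi_g
      obtain ⟨T₃, π'', hπ'', x, hx⟩ := hac.exact.exact_up_to_refinements b (by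
        dsimp; rw [← cancel_mono j, Category.assoc, hcj, ← reassoc_of% hb, wB, comp_zero,
          comp_zero, zero_comp])
      dsimp at x hx
      have e₂ : π'' ≫ π' ≫ u = x ≫ i₁ := by
        rw [← cancel_mono i₂]
        simp only [Category.assoc]
        rw [hb, reassoc_of% hx, haB]
      rw [← cancel_epi π, comp_zero, hu, ← cancel_epi π', comp_zero, ← cancel_epi π'', comp_zero,
        reassoc_of% e₂, wA, comp_zero]
    refine ShortComplex.ShortExact.mk' (exact_iff_lift fun {T} t ht => ?_) ha'' hc''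
    dsimp at t ht ⊢
    obtain ⟨T₁, π, hπ, y, hy⟩ := surjective_up_to_refinements_of_epi (cokernel.π B.arrow) t
    obtain ⟨T₂, π', hπ', z, hz⟩ := hC.exact.exact_up_to_refinements (y ≫ π₂) (by
      dsimp; rw [Category.assoc, ← hc', ← reassoc_of% hy, ht, comp_zero])
    dsimp at z hz
    have := hac.epi_g
    obtain ⟨T₃, π'', hπ'', b, hb⟩ := surjective_up_to_refinements_of_epi c z
    obtain ⟨T₄, π₄, hπ₄, u, hu⟩ := hB.exact.exact_up_to_refinements
      (π'' ≫ π' ≫ y - b ≫ B.arrow) (by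
        dsimp
        rw [Preadditive.sub_comp, sub_eq_zero]
        simp only [Category.assoc]
        rw [hz, reassoc_of% hb, hcj])
    dsimp at u hu
    refine ⟨T₄, π₄ ≫ π'' ≫ π' ≫ π, inferInstance, u ≫ p₁, ?_⟩
    rw [Category.assoc u, ha', ← reassoc_of% hu]
    simp [hy]
  · intro s s' hs hs' h
    have : Mono s := mono_of_mono_fac hs
    have : Mono s' := mono_of_mono_fac hs'
    change (Subobject.map S.iCycles).obj ((Subobject.pullback S.homologyπ).obj (imageSubobject s)) =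
      (Subobject.map S.iCycles).obj ((Subobject.pullback S.homologyπ).obj (imageSubobject s')) at h
    rw [subobject_eq S s, subobject_eq S s'] at h
    let θ := Subobject.isoOfMkEqMk _ _ h
    have hθ : θ.hom ≫ pullback.snd s' S.homologyπ = pullback.snd s S.homologyπ := by
      rw [← cancel_mono S.iCycles, Category.assoc]
      simp [θ]
    have hf' : θ.hom ≫ pullback.fst s' S.homologyπ = pullback.fst s S.homologyπ := by
      rw [← cancel_mono j, Category.assoc, ← key s' hs', ← key s hs]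
      simp only [Category.assoc]
      rw [reassoc_of% hθ]
    have : Epi (pullback.fst s S.homologyπ) := inferInstance
    rw [← cancel_epi (pullback.fst s S.homologyπ), pullback.condition, ← hθ, Category.assoc,
      ← pullback.condition, reassoc_of% hf']

end Groth.Agent.S15466
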