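import Groth.Statements.S1549
import Groth.Agent.GenSub.GeomRed
import Groth.Agent.GeomField.Reduced
import Groth.Agent.GrpSchLib.IsogenyFibre
import Groth.Agent.SmoothReg.GenPt
import Groth.Agent.FDescent.MaxPoint
-- import your own Groth.Agent.* helpers here

set_option autoImplicit false
set_option backward.isDefEq.respectTransparency false
set_option backward.isDefEq.respectTransparency.types false
set_option linter.style.haveILetI false
set_option maxHeartbeats 1000000
universe u
open CategoryTheory CategoryTheory.Limits AlgebraicGeometry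
open Variety

namespace Groth.Agent.S1549
open Groth.Agent

/-- For a reduced scheme locally of finite type over k, being geometrically reduced is equivalent to
having a dense open subscheme that is smooth over k. -/
theorem result (k : Type u) [Field k] (X : Scheme.{u}) [X.Over (Spec (CommRingCat.of k))] [IsReduced X] [LocallyOfFiniteType (X ↘ (Spec (CommRingCat.of k)))] :
    GeometricallyReduced (X ↘ (Spec (CommRingCat.of k))) ↔ ∃ U : X.Opens, Dense (U : Set X) ∧ Smooth (U.ι ≫ (X ↘ (Spec (CommRingCat.of k)))) := by
  constructor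
  swap
  · rintro ⟨U, hU, hsm⟩
    haveI := hsm
    haveI : ∀ _ : PUnit.{1}, GeometricallyReduced (U.ι ≫ (X ↘ (Spec (CommRingCat.of k)))) :=
      fun _ => GrpSchLib.IsogenyFibre.geometricallyReduced_of_smooth' _
    refine @GenSub.geometricallyReduced_of_dense k _ X _ (X ↘ (Spec (CommRingCat.of k))) PUnit.{1} (fun _ => (U : Scheme.{u})) (fun _ => U.ι) this ?_
    rw [Set.iUnion_const, Scheme.Opens.range_ι]
    exact hU
  intro h
  let f := X ↘ (Spec (CommRingCat.of k))
  haveI : LocallyOfFinitePresentation f := inferInstance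
  refine ⟨f.smoothLocus, ?_, ?_⟩
  swap
  · rw [← Scheme.Hom.smoothLocus_eq_top_iff, ← Scheme.Hom.preimage_smoothLocus_eq]
    exact top_le_iff.1 fun z _ => z.2
  refine dense_iff_inter_open.2 fun O hO hne => ?_
  obtain ⟨x, hx⟩ := hne
  obtain ⟨η, he, hmax⟩ := FDescent.exists_maximal_of_mem_irreducibleComponents
    (irreducibleComponent_mem_irreducibleComponents x)
  have hsp : η ⤳ x := specializes_iff_mem_closure.2 (he ▸ mem_irreducibleComponent)
  refine ⟨η, hsp.mem_open hO hx, ?_⟩
  obtain ⟨c, P, rfl⟩ := GeomField.exists_chart (k := k) η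
  haveI : LocallyOfFiniteType (Spec.map (CommRingCat.ofHom (algebraMap k c.R))) := by
    rw [← c.over_eq]; infer_instance
  haveI : Algebra.FiniteType k c.R := RingHom.finiteType_algebraMap.1
    ((HasRingHomProperty.Spec_iff (P := @LocallyOfFiniteType) (φ := CommRingCat.ofHom (algebraMap k c.R))).mp inferInstance)
  haveI : Algebra.FinitePresentation k c.R := Algebra.FinitePresentation.of_finiteType.mp inferInstance
  let p : Ideal c.R := PrimeSpectrum.asIdeal (R := c.R) P
  have hp : p ∈ minimalPrimes c.R := by
    refine ⟨⟨(P : PrimeSpectrum c.R).2, bot_le⟩, fun q hq hle => ?_⟩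
    have h1 : (⟨q, hq.1⟩ : PrimeSpectrum c.R) ⤳ (P : PrimeSpectrum c.R) :=
      (PrimeSpectrum.le_iff_specializes _ _).1 hle
    have h2 := c.emb.isOpenEmbedding.injective (hmax _ (Specializes.map h1 c.emb.continuous))
    exact (congrArg (fun z : PrimeSpectrum c.R => z.asIdeal) h2).ge
  have hgr := (GeomField.isGeomReducedAt_iff (c.emb P)).mp ((GeomField.geometricallyReduced_iff (k := k) (X := X)).mp h (c.emb P))
  letI := Curv2.stalkAlgebra k X (c.emb P)
  letI := c.stalkAlg P
  haveI := c.isScalarTower_stalk P
  haveI := c.isLocalization_stalk P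
  haveI : Algebra.IsGeometricallyReduced k (Localization.AtPrime p) :=
    haveI := hgr
    Algebra.IsGeometricallyReduced.of_injective
      ((IsLocalization.algEquiv p.primeCompl (Localization.AtPrime p) (X.presheaf.stalk (c.emb P))).toAlgHom.restrictScalars k)
      (AlgEquiv.injective _)
  haveI := SmoothReg.isSmoothAt_of_geomRed k c.R p hp
  obtain ⟨g, hg, hgs⟩ := Algebra.IsSmoothAt.exists_notMem_smooth (R := k) p
  let φ := CommRingCat.ofHom (algebraMap c.R (Localization.Away g))
  let e : Spec (CommRingCat.of (Localization.Away g)) ⟶ X := Spec.map φ ≫ c.emb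
  haveI : IsOpenImmersion (Spec.map φ) := IsOpenImmersion.of_isLocalization g
  haveI : Smooth (e ≫ f) := by
    have he' : e ≫ f = Spec.map (CommRingCat.ofHom (algebraMap k (Localization.Away g))) := by
      show (Spec.map φ ≫ c.emb) ≫ _ = _
      rw [Category.assoc, c.over_eq, ← Spec.map_comp]
      exact congrArg (fun t => Spec.map t) (CommRingCat.hom_ext (IsScalarTower.algebraMap_eq k c.R (Localization.Away g)).symm)
    rw [he']
    exact HasRingHomProperty.Spec_iff.2 (RingHom.smooth_algebraMap.2 hgs)
  obtain ⟨Q, hQ⟩ : (P : PrimeSpectrum c.R) ∈ Set.range (PrimeSpectrum.comap (algebraMap c.R (Localization.Away g))) := by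
    rw [PrimeSpectrum.localization_away_comap_range (Localization.Away g) g]
    exact hg
  have hmem : Q ∈ e ⁻¹ᵁ f.smoothLocus := by
    rw [Scheme.Hom.preimage_smoothLocus_eq, Scheme.Hom.smoothLocus_eq_top]
    trivial
  have : e Q = c.emb P := congrArg c.emb hQ
  exact this ▸ hmem

end Groth.Agent.S1549
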