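import Groth.Statements.S15499
import Groth.Agent.S17853
import Mathlib.RingTheory.Spectrum.Prime.FreeLocus
import Mathlib.RingTheory.LocalRing.Module

set_option autoImplicit false
open Polynomial LaurentPolynomial
open scoped TensorProduct
universe u
open CAlg

namespace Groth.Agent.S15499

/-- Let S = Spec R be a smooth connected affine complex variety, so that R is a finitely generated
smooth ℂ-algebra and an integral domain, and let F be a locally free sheaf of finite rank on the
projective line over S, presented by its two standard charts: a finitely generated projective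
R[X]-module P on the affine line over S, a finitely generated projective R[X]-module P' on the chart
at infinity, and an identification of their base changes to R[X, X⁻¹] that is additive, bijective
and semilinear over the R-algebra involution X ↦ X⁻¹. Then S is covered by basic open sets D(g_1),
…, D(g_n) such that F restricted to the affine line over each D(g_i) is free: the localisation of P
at g_i is a free module over the localisation of R[X] at g_i. -/
theorem result
    (R : Type u) [CommRing R] [IsDomain R] [Algebra ℂ R] [Algebra.FiniteType ℂ R]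
    [Algebra.Smooth ℂ R]
    (P : Type u) [AddCommGroup P] [Module R[X] P] [Module.Finite R[X] P]
    [Module.Projective R[X] P]
    (P' : Type u) [AddCommGroup P'] [Module R[X] P'] [Module.Finite R[X] P']
    [Module.Projective R[X] P']
    (e : R[T;T⁻¹] ⊗[R[X]] P ≃+ R[T;T⁻¹] ⊗[R[X]] P')
    (he : ∀ (a : R[T;T⁻¹]) (m : R[T;T⁻¹] ⊗[R[X]] P),
      e (a • m) = LaurentPolynomial.invert a • e m) :
    ∃ (n : ℕ) (g : Fin n → R), Ideal.span (Set.range g) = ⊤ ∧
      ∀ i, Module.Free (Localization.Away (Polynomial.C (g i) : R[X]))
        (LocalizedModule (Submonoid.powers (Polynomial.C (g i) : R[X])) P) := by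
  classical
  let σ := (LaurentPolynomial.invert (R := R)).toRingEquiv.toRingHom
  let eL : (R[T;T⁻¹] ⊗[R[X]] P) →ₛₗ[σ] (R[T;T⁻¹] ⊗[R[X]] P') :=
    { toFun := e, map_add' := e.map_add, map_smul' := he }
  obtain ⟨Q, _, _, ⟨ψ⟩⟩ := (S17853.result R P).2 ⟨P', inferInstance, inferInstance, inferInstance, inferInstance,
    eL, e.bijective⟩
  letI : Algebra R[X] R := (Polynomial.evalRingHom (0 : R)).toAlgebra
  haveI : IsScalarTower R R[X] R := IsScalarTower.of_algebraMap_eq fun r => by
    show r = Polynomial.eval 0 (Polynomial.C r)
    simp
  let eQ : (R ⊗[R[X]] P) ≃ₗ[R] Q :=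
    ((LinearEquiv.baseChange R[X] R _ _ ψ).trans
      (TensorProduct.AlgebraTensorModule.cancelBaseChange R R[X] R R Q)).trans (TensorProduct.lid R Q)
  haveI : Module.Finite R Q := Module.Finite.equiv eQ
  haveI : Module.Projective R Q := Module.Projective.of_equiv eQ
  haveI : Module.FinitePresentation R Q := Module.finitePresentation_of_projective R Q
  have hloc : ∀ x : PrimeSpectrum R, ∃ r, r ∉ x.asIdeal ∧
      Module.Free (Localization.Away r) (LocalizedModule (Submonoid.powers r) Q) := by
    intro x
    haveI : Module.Free (Localization.AtPrime x.asIdeal) (LocalizedModule x.asIdeal.primeCompl Q) :=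
      Module.free_of_flat_of_isLocalRing
    obtain ⟨r, hr, hr', -⟩ := Module.FinitePresentation.exists_free_localizedModule_powers
      x.asIdeal.primeCompl (LocalizedModule.mkLinearMap x.asIdeal.primeCompl Q)
      (Localization.AtPrime x.asIdeal)
    exact ⟨r, hr, hr'⟩
  choose r hr hfree using hloc
  have hspan : Ideal.span (Set.range r) = ⊤ := by
    by_contra h
    obtain ⟨M, hM, hle⟩ := Ideal.exists_le_maximal _ h
    exact hr ⟨M, hM.isPrime⟩ (hle (Ideal.subset_span ⟨_, rfl⟩))
  obtain ⟨s, hs, h1⟩ := Submodule.mem_span_finite_of_mem_span ((Ideal.eq_top_iff_one _).1 hspan)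
  refine ⟨s.card, fun i => ((s.equivFin.symm i : s) : R), ?_, fun i => ?_⟩
  · rw [Ideal.eq_top_iff_one]
    refine Ideal.span_mono ?_ h1
    intro a ha
    exact ⟨s.equivFin ⟨a, ha⟩, by simp⟩
  obtain ⟨x, hx⟩ := hs (s.equivFin.symm i).2
  set g : R := ((s.equivFin.symm i : s) : R)
  haveI : Module.Free (Localization.Away g) (LocalizedModule (Submonoid.powers g) Q) := hx ▸ hfree x
  let A := Localization.Away (Polynomial.C g : R[X])
  letI : Algebra (Localization.Away g) A :=
    (IsLocalization.Away.lift (g := (algebraMap R[X] A).comp Polynomial.C) g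
      (IsLocalization.Away.algebraMap_isUnit (Polynomial.C g : R[X]))).toAlgebra
  haveI : IsScalarTower R (Localization.Away g) A := IsScalarTower.of_algebraMap_eq fun a =>
    (IsScalarTower.algebraMap_apply R R[X] A a).trans (IsLocalization.Away.lift_eq
      (g := (algebraMap R[X] A).comp Polynomial.C) g
      (IsLocalization.Away.algebraMap_isUnit (Polynomial.C g : R[X])) a).symm
  haveI : Module.Free (Localization.Away g) (Localization.Away g ⊗[R] Q) :=
    Module.Free.of_equiv (LocalizedModule.equivTensorProduct (Submonoid.powers g) Q)
  refine Module.Free.of_equiv (R := A)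
    ((((LinearEquiv.baseChange R[X] A _ _ ψ).trans
      (TensorProduct.AlgebraTensorModule.cancelBaseChange R R[X] A A Q)).trans
      (TensorProduct.AlgebraTensorModule.cancelBaseChange R (Localization.Away g) A A Q).symm).symm.trans
      (LocalizedModule.equivTensorProduct (Submonoid.powers (Polynomial.C g : R[X])) P).symm)

end Groth.Agent.S15499
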