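import Groth.Statements.S15510
import Groth.Agent.H23.RatProductK
import Groth.Agent.H23.RatExt
import Groth.Agent.H23.MaxAbelian
import Groth.Agent.WeilExt.Dedekind
import Groth.Agent.H23.RigidGamma

set_option autoImplicit false
set_option backward.isDefEq.respectTransparency false
set_option backward.isDefEq.respectTransparency.types false
set_option maxHeartbeats 1000000
set_option linter.style.haveILetI false
universe u
open CategoryTheory CategoryTheory.Limits MonoidalCategory CartesianMonoidalCategory MonObj AlgebraicGeometry
open AbVar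

namespace Groth.Agent.S15510

/-- Let F be a field and A a principally polarized abelian variety over F: a commutative group scheme
over Spec F, smooth and proper with geometrically connected fibres of dimension g, given together
with a commutative group scheme At, data φ presenting At as the dual of A for the fppf topology, and
a polarization lam : A ⟶ At which is an isomorphism. Let Q = F(t_1, …, t_n) be the field of rational
functions in n variables over F. Then base change from F to Q is a bijection from the F-rational
points of A onto the Q-valued points of A over Spec F: every Q-point of A comes from exactly one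
F-point. -/
theorem result
    (F : Type u) [Field F]
    (A At : Over (Spec (CommRingCat.of F))) [GrpObj A] [IsCommMonObj A] [GrpObj At] [IsCommMonObj At]
    (g : ℕ) (hA : AgPol.IsAbSch A g)
    (φ : AgPol.DualMap A At) (hdual : AbDual.IsDualAV Scheme.fppfPrecoverage A At φ)
    (lam : A ⟶ At) (hpol : AgPol.IsPolarization A At φ lam) (hiso : IsIso lam) (n : ℕ) :
    Function.Bijective (fun x : (Over.mk (𝟙 (Spec (CommRingCat.of F))) ⟶ A) =>
      (Over.homMk (Spec.map (CommRingCat.ofHom (algebraMap F (FractionRing (MvPolynomial (Fin n) F)))))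
          (Category.comp_id _) :
        Over.mk (Spec.map (CommRingCat.ofHom (algebraMap F (FractionRing (MvPolynomial (Fin n) F))))) ⟶
          Over.mk (𝟙 (Spec (CommRingCat.of F)))) ≫ x) := by
  haveI := hA.smooth
  haveI := hA.proper
  haveI := hA.geomConnected
  haveI : ConnectedSpace A.left := GeometricallyConnected.connectedSpace A.hom A.hom.isOpenMap
  haveI : GeometricallyReduced A.hom := Groth.Agent.H23.RigidGamma.geometricallyReduced_of_smooth A.hom
  haveI : GeometricallyIntegral A.hom := Groth.Agent.H23.MaxAbelian.geometricallyIntegral_of_connected A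
  let P := MvPolynomial (Fin n) F
  let L := FractionRing P
  let q : Spec (CommRingCat.of L) ⟶ Spec (CommRingCat.of F) :=
    Spec.map (CommRingCat.ofHom (algebraMap F L))
  constructor
  · intro x y hxy
    refine Over.OverMorphism.ext ?_
    haveI : Flat q := HasRingHomProperty.Spec_iff.mpr (RingHom.flat_algebraMap_iff.mpr inferInstance)
    haveI : Surjective q := ⟨fun s => ⟨IsLocalRing.closedPoint L, Subsingleton.elim (α := PrimeSpectrum F) _ _⟩⟩
    haveI : QuasiCompact q := inferInstance
    exact (cancel_epi q).1 (congrArg (fun m => m.left) hxy)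
  · intro y
    let p : Spec (CommRingCat.of P) ⟶ Spec (CommRingCat.of F) :=
      Spec.map (CommRingCat.ofHom (MvPolynomial.C : F →+* P))
    haveI : IsDomain (CommRingCat.of P) := inferInstanceAs (IsDomain P)
    haveI : IsNoetherianRing (CommRingCat.of P) := inferInstanceAs (IsNoetherianRing P)
    let e : Spec (CommRingCat.of P) ≅ 𝔸(ULift.{u} (Fin n); Spec (CommRingCat.of F)) :=
      Scheme.Spec.mapIso (MvPolynomial.renameEquiv F Equiv.ulift.{u}).toRingEquiv.toCommRingCatIso.op ≪≫
        (AffineSpace.SpecIso (ULift.{u} (Fin n)) (CommRingCat.of F)).symm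
    have he : e.hom ≫ (Groth.Agent.H23.RatProductK.affine F (ULift.{u} (Fin n))).hom = p := by
      change (_ ≫ (AffineSpace.SpecIso (ULift.{u} (Fin n)) (CommRingCat.of F)).inv) ≫ _ = p
      rw [Category.assoc]
      refine (congrArg (_ ≫ ·) (AffineSpace.SpecIso_inv_over (CommRingCat.of F))).trans ?_
      change Spec.map _ ≫ Spec.map _ = _
      rw [← Spec.map_comp]
      refine congrArg Spec.map (CommRingCat.hom_ext (RingHom.ext fun r => ?_))
      exact MvPolynomial.rename_C _ r
    obtain ⟨σ, hσ, hσf⟩ := Groth.Agent.WeilExt.exists_iso_generic (CommRingCat.of P) L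
    haveI := hσ
    have hq : Spec.map (CommRingCat.ofHom (algebraMap P L)) ≫ p = q := by
      rw [← Spec.map_comp, ← CommRingCat.ofHom_comp]
      exact congrArg (fun r => Spec.map (CommRingCat.ofHom r)) (IsScalarTower.algebraMap_eq F P L).symm
    have hy : y.left ≫ A.hom = q := Over.w y
    obtain ⟨U, hgU, f, hf1, hf2⟩ := spread_out_of_isGermInjective' p A.hom
      (x := genericPoint (Spec (CommRingCat.of P))) (σ ≫ y.left)
      (by rw [Category.assoc, hy, ← hq, reassoc_of% hσf])
    haveI := Groth.Agent.H23.RatProductK.smooth_affine (K := F) (ULift.{u} (Fin n))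
    haveI : IsSeparated (Groth.Agent.H23.RatProductK.affine F (ULift.{u} (Fin n))).hom :=
      inferInstanceAs (IsSeparated (𝔸(ULift.{u} (Fin n); Spec (CommRingCat.of F)) ↘ _))
    haveI : GeometricallyIntegral (Groth.Agent.H23.RatProductK.affine F (ULift.{u} (Fin n))).hom :=
      inferInstanceAs (GeometricallyIntegral (𝔸(ULift.{u} (Fin n); Spec (CommRingCat.of F)) ↘ _))
    obtain ⟨g, hg⟩ := Groth.Agent.H23.RatExt.exists_extension
      (X := Groth.Agent.H23.RatProductK.affine F (ULift.{u} (Fin n))) (G := A) (e.inv ⁻¹ᵁ U)
      ⟨e.hom (genericPoint _), by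
        change e.inv (e.hom _) ∈ U
        rw [← Scheme.Hom.comp_apply, Iso.hom_inv_id]
        exact hgU⟩
      ((e.inv ∣_ U) ≫ f)
      (by rw [Category.assoc, hf2, ← he, morphismRestrict_ι_assoc, Iso.inv_hom_id_assoc])
    obtain ⟨a, rfl⟩ := Groth.Agent.H23.RatProductK.affine_const (ULift.{u} (Fin n)) g
    refine ⟨a, Over.OverMorphism.ext ?_⟩
    change q ≫ a.left = y.left
    rw [← cancel_epi σ, hf1]
    have hfa : f = U.ι ≫ p ≫ a.left := by
      rw [← cancel_epi (e.inv ∣_ U), ← hg]
      change _ ≫ (Groth.Agent.H23.RatProductK.affine F (ULift.{u} (Fin n))).hom ≫ a.left = _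
      rw [← he, morphismRestrict_ι_assoc, Category.assoc, Iso.inv_hom_id_assoc]
    rw [hfa, Scheme.Opens.fromSpecStalkOfMem_ι_assoc, ← hq, Category.assoc, reassoc_of% hσf]

end Groth.Agent.S15510
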