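import Groth.Statements.S15515
import Groth.Agent.S10934
import Groth.Agent.ExtShX.DualX

set_option autoImplicit false
set_option backward.isDefEq.respectTransparency false
set_option backward.isDefEq.respectTransparency.types false
universe u
open CategoryTheory AlgebraicGeometry
open ProjDual

namespace Groth.Agent.S15515

/-- (iii) ⇒ (i): let k be a field and X a k-scheme of dimension n with a closed immersion ι into P^N_k
over k. Let (ω, t) be a dualizing sheaf for X: ω is a coherent O_X-module and t : H^n(X, ω) → k a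
k-linear map such that for every coherent F and every k-linear form ψ on H^n(X, F) there is exactly
one φ : F → ω with ψ = t ∘ H^n(φ). Suppose that for every coherent O_X-module F and every i ≤ n, the
group Ext^i(F, ω) in the category of all O_X-modules (the Ext instance is the stated hypothesis; it
holds) vanishes if and only if H^(n-i)(X, F) vanishes. Then the local ring of X at every closed
point is Cohen–Macaulay of Krull dimension n. (The published statement assumes X connected and that
the duality maps Ext^i(F, ω) → H^(n-i)(X, F)' are bijective for all i and F, and concludes that X is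
Cohen–Macaulay; the weaker vanishing hypothesis used here suffices for the published proof, which
also yields the dimension of the local rings at closed points.) -/
theorem result
    (k : Type u) [Field k] (N n : ℕ) (X : Scheme.{u}) [X.Over (Spec (CommRingCat.of k))]
    (ι : X ⟶ CohB1.ProjSpace N k) [IsClosedImmersion ι]
    (hι : ι ≫ CohB1.ProjSpace.toSpec N k = X ↘ Spec (CommRingCat.of k))
    (hn : topologicalKrullDim ↥X = n) [HasExt.{u} X.Modules]
    (ω : X.Modules) (hω : Coh.IsCoh ω) (t : Coh.HH X ω n →ₗ[k] k)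
    (hdual : ∀ F : X.Modules, Coh.IsCoh F → ∀ ψ : Coh.HH X F n →ₗ[k] k,
        ∃! φ : F ⟶ ω, ∀ x : Coh.HH X F n,
          ψ x = t (Sheaf.H.map ((SheafOfModules.toSheaf X.ringCatSheaf).map φ) n x))
    (h : ∀ F : X.Modules, Coh.IsCoh F → ∀ i : ℕ, i ≤ n →
        (Subsingleton (Abelian.Ext F ω i) ↔ Subsingleton (Coh.HH X F (n - i)))) :
    ∀ x : X, IsClosed ({x} : Set ↥X) →
      LocCoh.IsCohenMacaulayLocalRing (X.presheaf.stalk x) ∧ ringKrullDim (X.presheaf.stalk x) = n := by
  intro x hx
  haveI := ExtShX.isLocallyNoetherian_pn (k := k) (r := N)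
  haveI : IsLocallyNoetherian X := LocallyOfFiniteType.isLocallyNoetherian ι
  have hdim : ringKrullDim (X.presheaf.stalk x) ≤ (n : WithBot ℕ∞) := (SchTop.ringKrullDim_stalk_le x).trans_eq hn
  have hne : (LocCoh.depth (X.presheaf.stalk x) (X.presheaf.stalk x) : WithBot ℕ∞) ≤
      ringKrullDim (X.presheaf.stalk x) := by
    rw [← Module.supportDim_self_eq_ringKrullDim]
    exact LC.depth_le_supportDim (R := X.presheaf.stalk x) (M := X.presheaf.stalk x)
  suffices hd : (n : ℕ∞) ≤ LocCoh.depth (X.presheaf.stalk x) (X.presheaf.stalk x) by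
    have h2 : ringKrullDim (X.presheaf.stalk x) =
        ((LocCoh.depth (X.presheaf.stalk x) (X.presheaf.stalk x) : ℕ∞) : WithBot ℕ∞) :=
      le_antisymm (hdim.trans (WithBot.coe_le_coe.2 hd)) hne
    refine ⟨@LocCoh.IsCohenMacaulayLocalRing.mk _ _ inferInstance inferInstance ((Module.supportDim_self_eq_ringKrullDim _).trans h2), ?_⟩
    exact le_antisymm hdim (h2.symm ▸ WithBot.coe_le_coe.2 hd)
  rcases Nat.eq_zero_or_pos n with rfl | hn0
  · exact_mod_cast bot_le
  have hm : ∀ p : ℕ, ∃ m₀ : ℕ, p < n → ∀ m : ℤ, (m₀ : ℤ) ≤ m →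
      Subsingleton (Coh.HH (CohB1.ProjSpace N k) (Twist.twistBy (CohB1.polyGrading N k)
        ((Scheme.Modules.pushforward ι).obj (Coh.structureModule X)) (-m)) p) := fun p => by
    by_cases hp : p < n
    · obtain ⟨m₀, hm₀⟩ := ExtShX.negTwist_vanishing_of_dual ι hι hω p (n - p - 1) fun G hG h' => by
        have e1 : n - p - 1 + 1 = n - p := by omega
        have e2 : n - (n - p) = p := by omega
        rw [e1] at h'
        simpa only [e2] using (h G hG (n - p) (by omega)).1 h'
      exact ⟨m₀.toNat, fun _ m hm => (ExtShX.subsingleton_HH_pullTwist_iff ι (-m) p).1 (hm₀ m (by omega))⟩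
    · exact ⟨0, fun h' => absurd h' hp⟩
  choose f hf using hm
  have hy : IsClosed ({ι.base x} : Set (CohB1.ProjSpace N k)) := by
    rw [← Set.image_singleton]
    exact ι.isClosedEmbedding.isClosedMap _ hx
  have hd := (S2928.result k N _ (ExtShX.isCoh_pushUnit ι) (n - 1)).1 ⟨(((Finset.range n).sup f : ℕ) : ℤ), fun m hm j hj =>
    hf j (by omega) m (le_trans (Int.ofNat_le.2 (Finset.le_sup (Finset.mem_range.2 (by omega)))) hm)⟩ (ι.base x) hy
  rw [Alg6.depth_eq_of_semilinear (ι.stalkMap x).hom (SurjectiveOnStalks.stalkMap_surjective ι x)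
      (ExtShX.stalkPushEquiv ι (Coh.structureModule X) x) (ExtShX.stalkPushEquiv_smul ι (Coh.structureModule X) x),
    Hensel.depth_congr (RefX.unitStalk x).symm, ← ENat.add_one_le_iff (ENat.natCast_ne_top _)] at hd
  have e : ((n - 1 : ℕ) : ℕ∞) + 1 = (n : ℕ∞) := by exact_mod_cast Nat.sub_add_cancel hn0
  exact e ▸ hd

end Groth.Agent.S15515
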