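import Groth.Statements.S1552
import Groth.Agent.Boundary.Glue
import Groth.Agent.Boundary.Components
import Groth.Agent.NormX.Line
-- import your own Groth.Agent.* helpers here

set_option autoImplicit false
set_option backward.isDefEq.respectTransparency false
set_option backward.isDefEq.respectTransparency.types false
set_option linter.style.haveILetI false
set_option maxHeartbeats 1000000
universe u
open CategoryTheory CategoryTheory.Limits AlgebraicGeometry
open Variety

namespace Groth.Agent.S1552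
open Groth.Agent

/-- Let f : X → Y be finite, and V ⊆ Y an open over which f is an isomorphism, with Y minus V a discrete
space. Then every invertible O_X-module is isomorphic to the pullback of an invertible O_Y-module. -/
theorem result {X Y : Scheme.{u}} (f : X ⟶ Y) [IsFinite f]
    (V : Y.Opens) (hV : IsIso (f ∣_ V)) (hdisc : DiscreteTopology ((V : Set Y)ᶜ : Set Y))
    (L : X.Modules) (hL : PicF.IsInvertible L) :
    ∃ N : Y.Modules, PicF.IsInvertible N ∧ Nonempty ((Scheme.Modules.pullback f).obj N ≅ L) := by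
  classical
  open Groth.Agent.AModX Groth.Agent.InvX in
  have key : ∃ (N : Y.Modules), PicF.IsInvertible N ∧ Nonempty ((Scheme.Modules.pullback f).obj N ≅ L) := by
    have happ : ∀ T : Y.Opens, T ≤ V → Function.Bijective (f.app T) := fun T hT => by
      have h : IsIso ((f ∣_ V).app (V.ι ⁻¹ᵁ T)) := inferInstance
      rw [morphismRestrict_app] at h
      have h1 : IsIso (f.app (V.ι ''ᵁ (V.ι ⁻¹ᵁ T))) := (isIso_comp_right_iff _ _).mp h
      have he : V.ι ''ᵁ (V.ι ⁻¹ᵁ T) = T := by
        rw [Scheme.Hom.image_preimage_eq_opensRange_inf, Scheme.Opens.opensRange_ι, inf_eq_right]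
        exact hT
      rw [he] at h1
      exact ConcreteCategory.bijective_of_isIso (f.app T)
    choose W e hyW he using fun y : Y => NormX.exists_frame_preimage (π := f) hL y
    have hiso : ∀ z : ↥((V : Set Y)ᶜ), ∃ B : Y.Opens, z.1 ∈ B ∧ ∀ p ∈ B, p ∉ V → p = z.1 := fun z => by
      obtain ⟨O, hO, hOz⟩ : ∃ O : Set Y, IsOpen O ∧ Subtype.val ⁻¹' O = ({z} : Set ↥((V : Set Y)ᶜ)) :=
        isOpen_induced_iff.mp (isOpen_discrete ({z} : Set ↥((V : Set Y)ᶜ)))
      exact ⟨⟨O, hO⟩, (hOz.ge rfl : z ∈ Subtype.val ⁻¹' O), fun p hp hpV =>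
        congrArg Subtype.val (hOz.le (show (⟨p, hpV⟩ : ↥((V : Set Y)ᶜ)) ∈ Subtype.val ⁻¹' O from hp))⟩
    choose B hzB hB using hiso
    let O : ↥((V : Set Y)) ⊕ ↥((V : Set Y)ᶜ) → Y.Opens := Sum.elim (fun z => W z.1 ⊓ V) (fun z => W z.1 ⊓ B z)
    let n : ∀ i, Γ(L, f ⁻¹ᵁ O i) := fun i => match i with
      | .inl z => res L (f.preimage_mono inf_le_left) (e z.1)
      | .inr z => res L (f.preimage_mono inf_le_left) (e z.1)
    have hn : ∀ i, IsFrame (n i) := fun i => match i with
      | .inl z => (he z.1).res _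
      | .inr z => (he z.1).res _
    have hnV : ∀ i, IsFrame (res ((Scheme.Modules.pushforward f).obj L) (inf_le_left : O i ⊓ V ≤ O i) (n i)) := by
      intro i T hT
      have h := ((hn i).res (f.preimage_mono (inf_le_left : O i ⊓ V ≤ O i)) (f ⁻¹ᵁ T) (f.preimage_mono hT)).comp
        (happ T (hT.trans inf_le_right))
      refine Iff.mp (Iff.of_eq (congrArg Function.Bijective (funext fun r => ?_))) h
      rw [QCoh.pushforward_smul f T r]
      rfl
    have hcov : ∀ p, ∃ i, p ∈ O i := fun p =>
      if h : p ∈ V then ⟨.inl ⟨p, h⟩, hyW p, h⟩ else ⟨.inr ⟨p, h⟩, hyW p, hzB ⟨p, h⟩⟩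
    have hov : ∀ i j, i ≠ j → O i ⊓ O j ≤ V := fun i j hij p hp => by
      by_contra hpV
      match i, j with
      | .inl z, _ => exact hpV hp.1.2
      | .inr x, .inl z => exact hpV hp.2.2
      | .inr x, .inr y => exact hij (congrArg Sum.inr (Subtype.ext ((hB x p hp.1.2 hpV).symm.trans (hB y p hp.2.2 hpV))))
    obtain ⟨N, φ, fr, hN, hfr, hφ, -⟩ := Boundary.exists_glue ((Scheme.Modules.pushforward f).obj L) V O hcov hov n hnV
    let ψ := ((Scheme.Modules.pullbackPushforwardAdjunction f).homEquiv N L).symm φ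
    haveI : IsIso ψ := Boundary.isIso_of_frames ψ (fun i => f ⁻¹ᵁ O i) (fun x => hcov (f x))
      (fun i => pullElt f (fr i)) (fun i => isFrame_pullElt f (hfr i)) fun i => by
        rw [Boundary.pullback_adjunct_pullElt]
        show IsFrame (M := L) (φ.app (O i) (fr i))
        rw [hφ]
        exact hn i
    exact ⟨N, hN, ⟨asIso ψ⟩⟩
  exact key

end Groth.Agent.S1552
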