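import Groth.Statements.S15538
import Groth.Agent.H1RegExt.Alg
import Groth.Agent.H1RegExt.Sheaf
import Groth.Agent.ExtShX.FundIso
import Groth.Agent.ExtShX.AdjShift
import Groth.Agent.QCoh.LocFree
import Groth.Agent.QCoh.Qcqs
import Mathlib

set_option autoImplicit false
universe u
open RegImm
set_option backward.isDefEq.respectTransparency false
set_option backward.isDefEq.respectTransparency.types false
set_option linter.style.haveILetI false
set_option maxHeartbeats 2000000

namespace Groth.Agent.S15538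

open CategoryTheory CategoryTheory.Limits AlgebraicGeometry TopologicalSpace in
/-- The direct image of the structure sheaf along a regular immersion is of finite presentation. -/
theorem isFP_OX {X Z : Scheme.{u}} (i : Z ⟶ X) [IsClosedImmersion i] {c : ℕ}
    (hi : RegImm.IsRegularImmersionOfCodim RegImm.Kind.regular c i) : CohB1.IsFP (ExtShX.Fund.OX i) := by
  classical
  have hq : Coh.IsQCoh (ExtShX.Fund.OX i) := QCoh.isQCoh_pushforward i QCoh.isQCoh_structureModule
  have hcov : ∀ x : X, ∃ U : X.affineOpens, x ∈ U.1 ∧ (RingHom.ker (i.app U.1).hom).FG := fun x => by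
    by_cases hx : x ∈ Set.range i
    · obtain ⟨z, rfl⟩ := hx
      obtain ⟨U, hU, -, rs, -, -, hker⟩ := hi.2 z
      exact ⟨U, hU, hker ▸ ⟨rs.toFinset, congrArg Ideal.span (Set.ext fun a => by simp)⟩⟩
    · obtain ⟨_, ⟨U, hU, rfl⟩, hxU, hle⟩ := X.isBasis_affineOpens.exists_subset_of_mem_open
        (show x ∈ (Set.range i)ᶜ from hx) i.isClosedEmbedding.isClosed_range.isOpen_compl
      refine ⟨⟨U, hU⟩, hxU, ?_⟩
      have hempty : i ⁻¹ᵁ U = ⊥ := eq_bot_iff.2 fun z hz => (hle hz ⟨z, rfl⟩).elim
      haveI : Subsingleton Γ(Z, i ⁻¹ᵁ U) := hempty ▸ inferInstance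
      exact ⟨{1}, by
        rw [Finset.coe_singleton]
        refine Ideal.span_singleton_one.trans ?_
        exact ((Ideal.eq_top_iff_one _).2 (Subsingleton.elim _ _)).symm⟩
  choose U hxU hfg using hcov
  refine QCoh.isFP_of_finitePresentation hq (fun x => (U x).1)
    (TopologicalSpace.IsOpenCover.mk (eq_top_iff.2 fun x _ => Opens.mem_iSup.2 ⟨x, hxU x⟩)) (fun x => (U x).2) fun x => ?_
  let φ : Γ(X, (U x).1) →ₗ[Γ(X, (U x).1)] Γ(ExtShX.Fund.OX i, (U x).1) :=
    LinearMap.toSpanSingleton _ _ (H23.UnitSec.oneG (i ⁻¹ᵁ (U x).1) : Γ(Coh.structureModule Z, i ⁻¹ᵁ (U x).1))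
  have hφ : ∀ r, @Eq Γ(Z, i ⁻¹ᵁ (U x).1) (φ r) (i.app (U x).1 r) := fun r =>
    mul_one (show Γ(Z, i ⁻¹ᵁ (U x).1) from i.app (U x).1 r)
  have hsurj : Function.Surjective φ := fun m => by
    obtain ⟨r, hr⟩ := i.app_surjective (U x).1 (U x).2 m
    exact ⟨r, (hφ r).trans hr⟩
  refine Module.finitePresentation_of_surjective φ hsurj ?_
  have : LinearMap.ker φ = RingHom.ker (i.app (U x).1).hom := by
    ext r
    exact ⟨fun h => (hφ r).symm.trans h, fun h => (hφ r).trans h⟩
  rw [this]
  exact hfg x

open CategoryTheory AlgebraicGeometry in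
/-- For a closed immersion i : Z → X which is a regular immersion of codimension c, a finite locally
free O_X-module E and any O_Z-module F, the groups Ext^q(i_*F, E), computed in the category of all
O_X-modules (the Ext instance is the stated hypothesis; it holds), vanish for q < c. (The published
statement allows any locally free E, possibly of infinite rank; E is taken finite locally free
here.) -/
theorem result (X Z : Scheme.{u}) [HasExt.{u} X.Modules]
    (i : Z ⟶ X) [IsClosedImmersion i] (c : ℕ)
    (hi : RegImm.IsRegularImmersionOfCodim RegImm.Kind.regular c i) (E : X.Modules)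
    (hE : FlatMod.IsFinLocFree E) (F : Z.Modules) (q : ℕ) (hq : q < c) :
    Subsingleton (Abelian.Ext ((Scheme.Modules.pushforward i).obj F) E q) := by
  classical
  haveI : EnoughInjectives X.Modules := IsGrothendieckAbelian.enoughInjectives
  haveI : EnoughInjectives (ModSite.Mod X.sheaf) := ‹EnoughInjectives X.Modules›
  haveI : ∀ M : X.Modules, ModSite.HasSheafHom (O := X.sheaf) M := fun M => ModTensor.hasSheafHom (O := X.sheaf) M
  haveI := ChangeRings.preservesFiniteColimits_push i
  haveI := ChangeRings.additive_tFun i (Coh.structureModule Z)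
  let L : Z.Modules ⥤ X.Modules := Scheme.Modules.pushforward i
  haveI : L.PreservesMonomorphisms := inferInstanceAs (Scheme.Modules.pushforward i).PreservesMonomorphisms
  let unitIso : ChangeRings.lFun i (Coh.structureModule Z) ≅ L :=
    Functor.isoWhiskerRight (KFlatLib.tensorStructureIso Z : SheafHomX.ten (Coh.structureModule Z) ≅ 𝟭 Z.Modules) _ ≪≫
      (Scheme.Modules.pushforward i).leftUnitor
  let adj : L ⊣ ChangeRings.tFun i (Coh.structureModule Z) :=
    (ChangeRings.tAdj i (Coh.structureModule Z)).ofNatIsoLeft unitIso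
  refine ExtShX.subsingleton_ext_of_rightDerived adj E c (fun j hj => ?_) F q hq
  let I := injectiveResolution E
  haveI : HasInjectiveResolutions X.Modules := inferInstance
  haveI : HasInjectiveResolutions (ModSite.Mod X.sheaf) := ‹HasInjectiveResolutions X.Modules›
  have hFP := isFP_OX i hi
  suffices h0 : Limits.IsZero ((ExtShX.Fund.Kc i I).homology j) by
    haveI : (ModSite.sheafHom (O := X.sheaf) (ExtShX.Fund.OX i) : X.Modules ⥤ X.Modules).Additive :=
      ModSite.sheafHom_additive X.sheaf (ExtShX.Fund.OX i)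
    have h1 : Limits.IsZero ((ModSite.extSh (O := X.sheaf) (ExtShX.Fund.OX i) j).obj E) :=
      h0.of_iso (I.isoRightDerivedObj (ModSite.sheafHom (O := X.sheaf) (ExtShX.Fund.OX i) : X.Modules ⥤ X.Modules) j)
    obtain ⟨M₀, hM₀⟩ : ∃ M₀ : Z.Modules, Limits.IsZero M₀ := Limits.HasZeroObject.zero
    obtain ⟨e⟩ := ChangeRings.nonempty_rightDerived_tFun i (Coh.structureModule Z) E j M₀
      ⟨(L.map_isZero hM₀).iso h1⟩
    exact hM₀.of_iso e
  refine KFlatLib.isZero_of_stalk _ fun x => ?_
  haveI : Subsingleton (((ExtShX.Fund.Kc i I).homology j).presheaf.stalk x) := by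
    haveI : Limits.PreservesFiniteColimits (DerSch.stalkFunctor X x) := inferInstance
    have hπ : Function.Surjective (RefHull.stalkMapₗ ((ExtShX.Fund.Kc i I).homologyπ j) x) :=
      (ModuleCat.epi_iff_surjective _).1
        (inferInstance : Epi ((DerSch.stalkFunctor X x).map ((ExtShX.Fund.Kc i I).homologyπ j)))
    suffices h : ∀ z, RefHull.stalkMapₗ ((ExtShX.Fund.Kc i I).homologyπ j) x z = 0 by
      refine subsingleton_of_forall_eq 0 fun v => ?_
      obtain ⟨z, rfl⟩ := hπ v
      exact h z
    intro z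
    have hs0 : ExtShX.Fund.di I x j (ExtShX.Fund.ζ i I j x z) = 0 := ExtShX.Fund.ζ_d i I j x z
    by_cases hx : x ∈ Set.range i
    · obtain ⟨a, rfl⟩ := hx
      obtain ⟨U, hxU, -, rs, hlen, hrs, hker⟩ := hi.2 a
      have hreg : ∀ (y : X) (hy : y ∈ U.1), RingTheory.Sequence.IsWeaklyRegular (X.presheaf.stalk y)
          (rs.map (X.presheaf.germ U.1 y hy)) := fun y hy => by
        letI : Algebra Γ(X, U.1) (X.presheaf.stalk y) := X.presheaf.algebra_section_stalk ⟨y, hy⟩
        haveI := U.2.isLocalization_stalk ⟨y, hy⟩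
        haveI : Module.Flat Γ(X, U.1) (X.presheaf.stalk y) :=
          IsLocalization.flat _ (U.2.primeIdealOf ⟨y, hy⟩).asIdeal.primeCompl
        exact hrs.toIsWeaklyRegular.of_flat
      let g : Γ(X, U.1) → X.presheaf.stalk (i a) := fun r => X.presheaf.germ U.1 (i a) hxU r
      have hJ : ExtShX.Fund.Jst i (i a) = Ideal.ofList (rs.map g) := by
        rw [ExtShX.Fund.Jst_eq_ker, RegNear.ker_stalkMap i a U.2 hxU, hker, Ideal.map_ofList]
      haveI : Module.Flat (X.presheaf.stalk (i a)) (E.presheaf.stalk (i a)) :=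
        ((QCoh.isFlat_and_isFP_iff).2 hE).1 (i a)
      have hregE : RingTheory.Sequence.IsWeaklyRegular (E.presheaf.stalk (i a)) (rs.map g) :=
        ((TensorProduct.rid (X.presheaf.stalk (i a)) (E.presheaf.stalk (i a))).isWeaklyRegular_congr _).1
          (RingTheory.Sequence.IsWeaklyRegular.isWeaklyRegular_lTensor (M₂ := E.presheaf.stalk (i a)) (hreg (i a) hxU))
      let ε₀ : E.presheaf.stalk (i a) →ₗ[X.presheaf.stalk (i a)] LinearMap.ker (ExtShX.Fund.di I (i a) 0) :=
        (RefHull.stalkMapₗ (ExtShX.Fund.εh I) (i a)).codRestrict _ fun m => ExtShX.Fund.di_εh I (i a) m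
      let e₀ := LinearEquiv.ofBijective ε₀
        ⟨fun m m' h => ExtShX.Fund.εh_injective I (i a) (congrArg Subtype.val h), fun v => by
          obtain ⟨m, hm⟩ := ExtShX.Fund.exists_εh I (i a) v.1 v.2
          exact ⟨m, Subtype.ext hm⟩⟩
      have hmain := H1RegExt.vanish (rs.map g) (fun k => (I.cocomplex.X k).presheaf.stalk (i a))
        (ExtShX.Fund.di I (i a)) 0 (E.presheaf.stalk (i a)) e₀.symm.toLinearMap (ExtShX.Fund.di_di I (i a))
        (fun k hk y hy => by
          cases k with
          | zero => exact absurd rfl hk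
          | succ k => exact ExtShX.Fund.exists_di I (i a) k y hy)
        e₀.symm.surjective
        (fun v => by
          rw [LinearEquiv.coe_coe, e₀.symm.map_eq_zero_iff]
          exact ⟨fun h => congrArg Subtype.val h, fun h => Subtype.ext h⟩)
        hregE
        (fun l g' r h k y hy => by
          obtain ⟨l₁, l₂, h₁, rfl, h₂⟩ := List.map_eq_append_iff.1 h
          obtain ⟨f, r₁, rfl, rfl, rfl⟩ := List.map_eq_cons_iff.1 h₂
          haveI := I.injective k
          obtain ⟨z', hz', hf'⟩ := H1RegExt.exists_div_germ (I.cocomplex.X k) hxU l₁ f (fun w hw => by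
            have h := hreg w hw
            rw [h₁, show l₁ ++ f :: r₁ = (l₁ ++ [f]) ++ r₁ by simp, List.map_append] at h
            exact ((RingTheory.Sequence.isWeaklyRegular_append_iff _ _ _).1 h).1) y
            (fun b hb => hy _ (List.mem_map.2 ⟨b, hb, rfl⟩))
          refine ⟨z', fun b hb => ?_, hf'⟩
          obtain ⟨b', hb', rfl⟩ := List.mem_map.1 hb
          exact hz' b' hb')
        j (by rw [List.length_map, hlen, zero_add]; exact hj) (ExtShX.Fund.ζ i I j (i a) z)
        (fun b hb => ExtShX.Fund.ζ_J i I j (i a) z (by rw [hJ]; exact Ideal.subset_span hb)) hs0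
      rcases hmain with h | ⟨k, rfl, v, hv, hdv⟩
      · rw [ExtShX.Fund.ζ_injective i I hFP j (i a) (h.trans (map_zero _).symm), map_zero]
      · obtain ⟨θ, hθ⟩ := ExtShX.Fund.exists_ev₁ i hFP (I.cocomplex.X k) (i a) v (fun b hb => by
          rw [hJ] at hb
          exact Submodule.span_induction (p := fun b _ => b • v = 0) (fun p hp => hv p hp) (zero_smul _ v)
            (fun p p' _ _ hp hp' => by rw [add_smul, hp, hp', add_zero])
            (fun p p' _ hp' => by rw [smul_eq_mul, mul_smul, hp', smul_zero]) hb)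
        let θ' : ((ExtShX.Fund.Kc i I).X k).presheaf.stalk (i a) := θ
        have hz : RefHull.stalkMapₗ ((ExtShX.Fund.Kc i I).toCycles k (k + 1)) (i a) θ' = z :=
          ExtShX.Fund.ζ_injective i I hFP _ (i a) (by
            rw [ExtShX.Fund.ζ_apply, ← LinearMap.comp_apply, ← HomShX.stalkMapₗ_comp, HomologicalComplex.toCycles_i]
            refine (ExtShX.Fund.ev₁_natural i (I.cocomplex.d k (k + 1)) (i a) θ').trans ?_
            rw [show ExtShX.Fund.ev₁ i (I.cocomplex.X k) (i a) θ' = v from hθ]
            exact hdv)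
        rw [← hz]
        exact ExtShX.Fund.stalk_comp_zero _ _
          (HomologicalComplex.toCycles_comp_homologyπ (ExtShX.Fund.Kc i I) k (k + 1)) (i a) θ'
    · have hz : z = 0 := ExtShX.Fund.ζ_injective i I hFP j x (by
        rw [map_zero, ← one_smul (X.presheaf.stalk x) (ExtShX.Fund.ζ i I j x z)]
        exact ExtShX.Fund.ζ_J i I j x z (by rw [ExtShX.Fund.Jst_eq_top i hx]; trivial))
      rw [hz, map_zero]
  exact @ModuleCat.isZero_of_subsingleton _ _ _ ‹_›

end Groth.Agent.S15538
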