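import Groth.Statements.S1554
import Groth.Agent.FibDimGen.Main
-- import your own Groth.Agent.* helpers here

set_option autoImplicit false
set_option backward.isDefEq.respectTransparency false
set_option backward.isDefEq.respectTransparency.types false
set_option linter.style.haveILetI false
set_option maxHeartbeats 1000000
universe u
open CategoryTheory CategoryTheory.Limits AlgebraicGeometry
open Variety

namespace Groth.Agent.S1554
open Groth.Agent

/-- Let f : X → Y be locally of finite type, x a point with image y such that the local ring of Y at y
is Noetherian of dimension at most one, and d a natural number such that the local fibre dimension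
is d at the generic points of the irreducible components of X passing through x. Then the local
dimension at x of the fibre over y equals d. -/
theorem result {X Y : Scheme.{u}} (f : X ⟶ Y) [LocallyOfFiniteType f]
    (x : X) [IsNoetherianRing (Y.presheaf.stalk (f.base x))] (hdimY : ringKrullDim (Y.presheaf.stalk (f.base x)) ≤ 1) (d : ℕ)
    (hgen : ∀ Z ∈ irreducibleComponents (X : Type u), x ∈ Z → ∀ η : X, IsGenericPoint η Z → FlatMor.fibreDimAt f η = d) :
    FlatMor.fibreDimAt f x = d := by
  obtain ⟨η, hη, hmax, h⟩ := FibDimGen.exists_maximal_bound f x
  obtain ⟨hZ, hxZ⟩ := FibDimGen.mem_component hη hmax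
  have hd := hgen _ hZ hxZ η isGenericPoint_closure
  rcases h with ⟨-, he⟩ | h
  · rw [he, hd]
  · rw [hd] at h
    obtain ⟨w, -, -, hw, he⟩ := FibDim.exists_fibMax_generization f x
    rw [he]
    have h1 := FibDim.fibreDimAt_ge_rd f hη
    rw [← FibDim.fibreDimAt_eq_rd f (FibDim.fibMax_of_maximal f hmax), hd, he] at h1
    rw [he] at h
    have h2 := h.trans (add_le_add le_rfl hdimY)
    have h1' : d ≤ FibDim.rd f w := by exact_mod_cast h1
    have h2' : FibDim.rd f w + 1 ≤ d + 1 := by exact_mod_cast h2
    exact_mod_cast (by omega : FibDim.rd f w = d)

end Groth.Agent.S1554
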