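import Groth.Statements.S15547
import Mathlib

set_option autoImplicit false
set_option backward.isDefEq.respectTransparency false
set_option backward.isDefEq.respectTransparency.types false
open CategoryTheory AlgebraicGeometry TopologicalSpace
universe u
open Coherent

namespace Groth.Agent.S15547

/-- Let g : Z ⟶ X be a finite morphism of schemes (Z is the spectrum of the finite quasi-coherent
O_X-algebra C = g_*O_Z) and x a point of X. Then the points of Z over x correspond bijectively to
the maximal ideals of the stalk C_x = (g_*O_Z)_x: the map sending z with g(z) = x to the preimage of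
the maximal ideal of O_{Z,z} under the canonical map (g_*O_Z)_x ⟶ O_{Z,z} is a bijection from the
fibre onto the set of maximal ideals. -/
theorem result {Z X : Scheme.{u}} (g : Z ⟶ X)
    [IsFinite g] (x : X) :
    Set.BijOn (fun z : {z : Z // g.base z = x} =>
        Ideal.comap (((g.base _* Z.presheaf).stalkCongr (Inseparable.of_eq z.2)).inv ≫
            TopCat.Presheaf.stalkPushforward CommRingCat g.base Z.presheaf z.1).hom
          (IsLocalRing.maximalIdeal (Z.presheaf.stalk z.1)))
      Set.univ {I : Ideal ((g.base _* Z.presheaf).stalk x) | I.IsMaximal} := by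
  let P := (g.base _* Z.presheaf)
  let φ : ∀ z : {z : Z // g.base z = x}, P.stalk x →+* Z.presheaf.stalk z.1 := fun z =>
    ((P.stalkCongr (Inseparable.of_eq z.2)).inv ≫
      TopCat.Presheaf.stalkPushforward CommRingCat g.base Z.presheaf z.1).hom
  let m : {z : Z // g.base z = x} → Ideal (P.stalk x) := fun z =>
    Ideal.comap (φ z) (IsLocalRing.maximalIdeal (Z.presheaf.stalk z.1))
  have hmem : ∀ (z : {z : Z // g.base z = x}) (U : X.Opens) (hx : x ∈ U) (s : Γ(Z, g ⁻¹ᵁ U)),
      P.germ U x hx s ∈ m z ↔ z.1 ∉ Z.basicOpen s := fun z U hx s => by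
    have hz : g.base z.1 ∈ U := by rw [z.2]; exact hx
    have h1 : φ z (P.germ U x hx s) = Z.presheaf.germ (g ⁻¹ᵁ U) z.1 hz s := by
      show (TopCat.Presheaf.stalkPushforward CommRingCat g.base Z.presheaf z.1).hom
        ((P.stalkCongr (Inseparable.of_eq z.2)).inv (P.germ U x hx s)) = _
      erw [TopCat.Presheaf.germ_stalkSpecializes_apply]
      exact TopCat.Presheaf.stalkPushforward_germ_apply CommRingCat g.base Z.presheaf U z.1 hz s
      exact (Inseparable.of_eq z.2).specializes
    show φ z _ ∈ IsLocalRing.maximalIdeal _ ↔ _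
    rw [h1, IsLocalRing.mem_maximalIdeal, mem_nonunits_iff, ← Scheme.mem_basicOpen]
  have hunit : ∀ c : P.stalk x, (∀ z, c ∉ m z) → IsUnit c := fun c hc => by
    obtain ⟨U, hx, s, rfl⟩ := TopCat.Presheaf.exists_germ_eq P c
    have hcl : IsClosedMap g.base := g.isClosedMap
    let T : Set X := g.base '' ((Z.basicOpen (U := g ⁻¹ᵁ U) s : Set Z)ᶜ)
    have hT : IsClosed T := hcl _ (Z.basicOpen (U := g ⁻¹ᵁ U) s).2.isClosed_compl
    let W : X.Opens := U ⊓ ⟨Tᶜ, hT.isOpen_compl⟩
    have hxW : x ∈ W := ⟨hx, fun ⟨z, hz, hzx⟩ => hz (by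
      have := hc ⟨z, hzx⟩
      rwa [hmem, not_not] at this)⟩
    have hle : (g ⁻¹ᵁ W : Z.Opens) ≤ Z.basicOpen (U := g ⁻¹ᵁ U) s := fun z hz => by
      by_contra hn
      exact hz.2 ⟨z, hn, rfl⟩
    have hu : IsUnit (Z.presheaf.map (homOfLE (hle.trans (Z.basicOpen_le _))).op s) := by
      refine AlgebraicGeometry.RingedSpace.isUnit_of_isUnit_germ Z.toRingedSpace _ _ fun z hz => ?_
      erw [TopCat.Presheaf.germ_res_apply]
      exact (Scheme.mem_basicOpen _ _ _ _).1 (hle hz)
    rw [← P.germ_res_apply (homOfLE (inf_le_left : W ≤ U)) x hxW s]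
    exact hu.map (P.germ W x hxW).hom
  obtain ⟨_, ⟨U, hU, rfl⟩, hxU, -⟩ :=
    X.isBasis_affineOpens.exists_subset_of_mem_open (Set.mem_univ x) isOpen_univ
  have hfin : Finite {z : Z // g.base z = x} := (g.finite_preimage_singleton x).to_subtype
  haveI := Fintype.ofFinite {z : Z // g.base z = x}
  have hincomp : ∀ z z', m z ≤ m z' → z = z' := fun z z' hle => by
    by_contra hne
    have hns : ¬ z.1 ⤳ z'.1 := fun hs => by
      have hd := (g.isDiscrete_preimage_singleton x).to_subtype
      have : (⟨z.1, z.2⟩ : g.base ⁻¹' {x}) ⤳ ⟨z'.1, z'.2⟩ := (subtype_specializes_iff _ _).2 hs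
      exact hne (Subtype.ext (Subtype.mk.inj this.eq))
    obtain ⟨O, hO, hz'O, hzO⟩ := not_specializes_iff_exists_open.1 hns
    have hz'U : g.base z'.1 ∈ U := by rw [z'.2]; exact hxU
    obtain ⟨s, hs, hz's⟩ := (hU.preimage g).exists_basicOpen_le (V := (⟨O, hO⟩ : Z.Opens)) ⟨z'.1, hz'O⟩ hz'U
    have h1 : P.germ U x hxU s ∈ m z := (hmem z U hxU s).2 fun h => hzO (hs h)
    exact (hmem z' U hxU s).1 (hle h1) hz's
  have hprime : ∀ z, (m z).IsPrime := fun z => Ideal.IsPrime.comap (φ z)
  have hsub : ∀ I : Ideal (P.stalk x), I ≠ ⊤ → ∃ z, I ≤ m z := fun I hI => by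
    have hcov : (I : Set (P.stalk x)) ⊆ ⋃ z ∈ (↑(Finset.univ : Finset {z : Z // g.base z = x}) : Set _), (m z : Set (P.stalk x)) :=
      fun c hc => by
        by_contra h
        simp only [Finset.coe_univ, Set.mem_univ, Set.iUnion_true, Set.mem_iUnion, not_exists] at h
        exact hI (Ideal.eq_top_of_isUnit_mem _ hc (hunit c h))
    cases isEmpty_or_nonempty {z : Z // g.base z = x} with
    | inl he =>
      exact absurd (Ideal.eq_top_of_isUnit_mem _ I.zero_mem (hunit 0 fun z => he.elim z)) hI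
    | inr hne =>
      obtain ⟨a⟩ := hne
      obtain ⟨z, -, hz⟩ := (Ideal.subset_union_prime a a (fun z _ _ _ => hprime z)).1 hcov
      exact ⟨z, hz⟩
  show Set.BijOn m Set.univ _
  refine ⟨fun z _ => ?_, fun z _ z' _ h => hincomp z z' (le_of_eq h), fun I hI => ?_⟩
  · refine Ideal.isMaximal_def.2 ⟨(hprime z).ne_top, fun J hJ => ?_⟩
    by_contra hne
    obtain ⟨z', hz'⟩ := hsub J hne
    obtain rfl := hincomp z z' (hJ.le.trans hz')
    exact hJ.not_ge hz'
  · obtain ⟨z, hz⟩ := hsub I hI.ne_top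
    exact ⟨z, trivial, ((hI : I.IsMaximal).eq_of_le (hprime z).ne_top hz).symm⟩

end Groth.Agent.S15547
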