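import Groth.Statements.S15548
import Groth.Agent.TorBridge.KerNat
import Groth.Agent.TorBridge.Basic
import Mathlib

set_option autoImplicit false
universe u
open CategoryTheory
open CAlg

namespace Groth.Agent.S15548

/-- Let R be a Noetherian commutative ring, I an ideal of R and M a finitely generated R-module. Then
for every natural number n there is m ≥ n such that the map Tor_1^R(M, R/I^m) → Tor_1^R(M, R/I^n)
induced by the projection R/I^m → R/I^n is the zero map. Here Tor_1^R(M, -) is the first left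
derived functor of M ⊗_R - (derived in the second variable). -/
theorem result (R : Type u) [CommRing R] [IsNoetherianRing R] (I : Ideal R)
    (M : Type u) [AddCommGroup M] [Module R M] [Module.Finite R M] (n : ℕ) :
    ∃ m : ℕ, n ≤ m ∧ ∀ h : I ^ m ≤ I ^ n,
      ((CategoryTheory.Tor (ModuleCat.{u} R) 1).obj (ModuleCat.of R M)).map
        (ModuleCat.ofHom (Submodule.factor h)) = 0 := by
  open Groth.Agent.TorBridge TensorProduct in
  classical
  obtain ⟨k, π, hπ⟩ := Module.Finite.exists_fin' R M
  obtain ⟨c, hc⟩ := Ideal.exists_pow_inf_eq_pow_smul I (LinearMap.ker π)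
  refine ⟨n + c, Nat.le_add_right n c, fun h => ?_⟩
  let S : ShortComplex (ModuleCat.{u} R) := ShortComplex.mk (ModuleCat.ofHom (LinearMap.ker π).subtype)
    (ModuleCat.ofHom π) (ModuleCat.hom_ext (LinearMap.ext fun x => x.2))
  have hS : S.ShortExact :=
    { exact := (ShortComplex.ShortExact.moduleCat_exact_iff_function_exact _).2 (LinearMap.exact_subtype_ker_map π)
      mono_f := (ModuleCat.mono_iff_injective _).2 Subtype.val_injective
      epi_g := (ModuleCat.epi_iff_surjective _).2 hπ }
  haveI : Module.Flat R S.X₂ := inferInstanceAs (Module.Flat R (Fin k → R))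
  let f : ModuleCat.of R (R ⧸ I ^ (n + c)) ⟶ ModuleCat.of R (R ⧸ I ^ n) := ModuleCat.ofHom (Submodule.factor h)
  have hAR : ∀ y : LinearMap.ker π, (y : Fin k → R) ∈ I ^ (n + c) • (⊤ : Submodule R (Fin k → R)) →
      y ∈ I ^ n • (⊤ : Submodule R (LinearMap.ker π)) := by
    intro y hy
    have h1 : (y : Fin k → R) ∈ I ^ n • LinearMap.ker π := by
      have h2 := hc (n + c) (Nat.le_add_left c n)
      rw [Nat.add_sub_cancel] at h2
      exact Submodule.smul_mono le_rfl inf_le_right (h2.le ⟨hy, y.2⟩)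
    have h3 : (LinearMap.ker π).subtype y ∈
        Submodule.map (LinearMap.ker π).subtype (I ^ n • (⊤ : Submodule R (LinearMap.ker π))) := by
      rw [Submodule.map_smul'', Submodule.map_top, Submodule.range_subtype]
      exact h1
    obtain ⟨w, hw, hwy⟩ := h3
    rwa [Subtype.val_injective hwy] at hw
  refine ModuleCat.hom_ext (LinearMap.ext fun x => ?_)
  apply KerNat.θ_injective hS (ModuleCat.of R (R ⧸ I ^ n))
  refine Eq.trans ?_ (map_zero _).symm
  have hnat := congrArg (fun φ => φ.hom x) (KerNat.θ_natural hS f)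
  refine hnat.trans ?_
  show (f.hom.lTensor (LinearMap.ker π)) ((KerNat.θ hS (ModuleCat.of R (R ⧸ I ^ (n + c)))).hom x) = 0
  generalize hz : (KerNat.θ hS (ModuleCat.of R (R ⧸ I ^ (n + c)))).hom x = z
  have hz0 : ((LinearMap.ker π).subtype.rTensor (R ⧸ I ^ (n + c))) z = 0 := by
    rw [← hz]
    exact (KerNat.θ_range hS (ModuleCat.of R (R ⧸ I ^ (n + c)))).apply_apply_eq_zero x
  obtain ⟨y, rfl⟩ : ∃ y : LinearMap.ker π, y ⊗ₜ[R] Ideal.Quotient.mk (I ^ (n + c)) 1 = z := by
    obtain ⟨y, hy⟩ := Submodule.mkQ_surjective _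
      (TensorProduct.tensorQuotEquivQuotSMul (LinearMap.ker π) (I ^ (n + c)) z)
    exact ⟨y, (TensorProduct.tensorQuotEquivQuotSMul (LinearMap.ker π) (I ^ (n + c))).injective
      (by rw [← hy, map_one]; exact TensorProduct.tensorQuotEquivQuotSMul_tmul_mk (I ^ (n + c)) y 1 |>.trans (by simp))⟩
  rw [LinearMap.rTensor_tmul, Submodule.coe_subtype, ← map_eq_zero_iff _
    (TensorProduct.tensorQuotEquivQuotSMul (Fin k → R) (I ^ (n + c))).injective,
    TensorProduct.tensorQuotEquivQuotSMul_tmul_mk, one_smul, Submodule.Quotient.mk_eq_zero] at hz0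
  rw [LinearMap.lTensor_tmul, show f.hom (Ideal.Quotient.mk (I ^ (n + c)) 1) = Ideal.Quotient.mk (I ^ n) 1 from
    Submodule.factor_mk h 1, ← map_eq_zero_iff _ (TensorProduct.tensorQuotEquivQuotSMul (LinearMap.ker π) (I ^ n)).injective]
  exact (TensorProduct.tensorQuotEquivQuotSMul_tmul_mk (I ^ n) y 1).trans
    ((Submodule.Quotient.mk_eq_zero _).2 (by rw [one_smul]; exact hAR y hz0))

end Groth.Agent.S15548
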