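import Groth.Statements.S15549
import Mathlib.RingTheory.GradedAlgebra.Radical
import Mathlib.RingTheory.Finiteness.Ideal

set_option autoImplicit false
universe u
open CategoryTheory AlgebraicGeometry
open LocCoh

namespace Groth.Agent.S15549

/-- Let R be a Noetherian commutative ring, positively graded by additive subgroups R_d, with irrelevant
ideal R_+ and X = Proj R, and let M be a graded R-module which is the direct sum of its pieces M_i,
i ≥ 0 (non-negatively graded here). For every i and every m ∈ M_i, the global section of M(i)~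
defined by m (the value m/1 at every point) is zero if and only if some power of R_+ annihilates m.
Equivalently, degree by degree, the kernel of the canonical map from M to the direct sum over all n
of Γ(X, M(n)~) is the R_+-power-torsion submodule H^0_{R_+}(M). -/
theorem result {R σ : Type u} [CommRing R] [IsNoetherianRing R] [SetLike σ R] [AddSubgroupClass σ R]
    (𝒜 : ℕ → σ) [GradedRing 𝒜] {M τ : Type u} [AddCommGroup M] [Module R M] [SetLike τ M] [AddSubgroupClass τ M]
    (ℳ : ℕ → τ) [SetLike.GradedSMul 𝒜 ℳ] [DirectSum.Decomposition ℳ]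
    (i : ℕ) (m : ℳ i) :
    GrMod.alpha 𝒜 ℳ i m = 0 ↔
      ∃ k : ℕ, ∀ r : R, r ∈ (HomogeneousIdeal.irrelevant 𝒜).toIdeal ^ k → r • (m : M) = 0 := by
  classical
  let A : Ideal R := (Submodule.span R {(m : M)}).annihilator
  have hA : ∀ r, r ∈ A ↔ r • (m : M) = 0 := fun r => Submodule.mem_annihilator_span_singleton _ _
  have hhom : A.IsHomogeneous 𝒜 := by
    intro j r hr
    rw [hA] at hr ⊢
    have h1 : (DirectSum.decompose ℳ (r • (m : M)) (j + i) : M) = (DirectSum.decompose 𝒜 r j : R) • (m : M) := by
      conv_lhs => rw [← DirectSum.sum_support_decompose 𝒜 r, Finset.sum_smul, DirectSum.decompose_sum,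
        DFinsupp.finsetSum_apply, AddSubmonoidClass.coe_finsetSum]
      have hmem : ∀ l, (DirectSum.decompose 𝒜 r l : R) • (m : M) ∈ ℳ (l + i) := fun l =>
        SetLike.GradedSMul.smul_mem (A := 𝒜) (B := ℳ) (i := l) (j := i) (SetLike.coe_mem _) m.2
      rw [Finset.sum_eq_single j (fun l _ hl => DirectSum.decompose_of_mem_ne ℳ (hmem l) (by omega))
        (fun hj => by
          rw [DFinsupp.notMem_support_iff.1 hj, ZeroMemClass.coe_zero, zero_smul, DirectSum.decompose_zero]
          rfl), DirectSum.decompose_of_mem_same ℳ (hmem j)]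
    rw [← h1, hr, DirectSum.decompose_zero]
    rfl
  constructor
  · intro h
    have hle : (HomogeneousIdeal.irrelevant 𝒜).toIdeal ≤ A.radical := by
      rw [hhom.radical_eq]
      refine le_sInf fun J ⟨hJ, hAJ, hJp⟩ => ?_
      by_contra hirr
      let x : ProjectiveSpectrum 𝒜 := ⟨⟨J, hJ⟩, hJp, hirr⟩
      have hx : LocalizedModule.mk (m : M) (1 : x.asHomogeneousIdeal.toIdeal.primeCompl) =
          (0 : LocalizedModule x.asHomogeneousIdeal.toIdeal.primeCompl M) :=
        congrArg (fun s => ((s.1 ⟨x, trivial⟩).1)) h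
      rw [← LocalizedModule.zero_mk (1 : x.asHomogeneousIdeal.toIdeal.primeCompl), LocalizedModule.mk_eq] at hx
      obtain ⟨u, hu⟩ := hx
      simp only [one_smul, smul_zero] at hu
      exact u.2 (hAJ ((hA _).2 hu))
    obtain ⟨k, hk⟩ := Ideal.exists_pow_le_of_le_radical_of_fg hle (IsNoetherian.noetherian _)
    exact ⟨k, fun r hr => (hA r).1 (hk hr)⟩
  · rintro ⟨k, hk⟩
    refine Subtype.ext (funext fun x => Subtype.ext ?_)
    obtain ⟨f, hf, hfx⟩ := SetLike.not_le_iff_exists.1 x.1.not_irrelevant_le
    show LocalizedModule.mk (m : M) (1 : x.1.asHomogeneousIdeal.toIdeal.primeCompl) = 0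
    rw [← LocalizedModule.zero_mk (1 : x.1.asHomogeneousIdeal.toIdeal.primeCompl), LocalizedModule.mk_eq]
    refine ⟨⟨f ^ k, fun h => hfx (x.1.isPrime.mem_of_pow_mem k h)⟩, ?_⟩
    simp only [one_smul, smul_zero]
    exact hk _ (Ideal.pow_mem_pow hf k)

end Groth.Agent.S15549
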