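import Groth.Statements.S15551
import Groth.Agent.ConnCompl.Ample
import Groth.Agent.Pi1X.NormalCover
import Groth.Agent.NormX.NormalAmple
import Groth.Agent.InvX.GenLocusPull
import Groth.Agent.DimLift.Basic

set_option autoImplicit false
universe u
open CategoryTheory CategoryTheory.Limits AlgebraicGeometry
open Pi1

namespace Groth.Agent.S15551

/-- Let k be an algebraically closed field and X an integral normal scheme (all local rings integrally
closed domains), proper over k and of dimension at least 2, with an ample invertible module L; let s
be a nonzero global section of L, given as a monomorphism O_X → L, and D = Z(s) ⊆ X its zero scheme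
(the support of an effective ample divisor). Then for every finite étale cover Y → X with Y
connected, the fibre product Y ×_X D is connected. This is the statement that the étale fundamental
group of D maps onto that of X. (The published statement takes X projective over k; this row takes X
proper over k with an ample invertible module, which is equivalent.) -/
theorem result (k : Type u) [Field k] [IsAlgClosed k]
    (X : Scheme.{u}) (f : X ⟶ Spec (CommRingCat.of k)) [IsProper f] [IsIntegral X] (hN : Pi1.IsNormalScheme X)
    (hdim : (2 : WithBot ℕ∞) ≤ topologicalKrullDim X)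
    (L : X.Modules) (hL : CohB1.IsAmple L) (s : Coh.structureModule X ⟶ L) (hs : Mono s)
    (Y : FEt.Cat X) [ConnectedSpace Y.left] :
    ConnectedSpace ↥(pullback Y.hom (PicF2.zeroScheme L s).subschemeι) := by
  letI : X.Over (Spec (CommRingCat.of k)) := ⟨f⟩
  haveI : IsProper (X ↘ Spec (CommRingCat.of k)) := ‹IsProper f›
  haveI : IsFinite Y.hom := Y.prop.1
  haveI : Etale Y.hom := Y.prop.2
  haveI : IsIntegral Y.left := Pi1X.isIntegral_of_connected hN Y.hom
  letI : Y.left.Over (Spec (CommRingCat.of k)) := ⟨Y.hom ≫ f⟩
  haveI : IsProper (Y.left ↘ Spec (CommRingCat.of k)) := inferInstanceAs (IsProper (Y.hom ≫ f))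
  have hsurj : Function.Surjective Y.hom := by
    haveI : PreconnectedSpace ↥X := inferInstance
    have hne : (Set.range Y.hom).Nonempty := ⟨_, ⟨(Classical.arbitrary Y.left : Y.left), rfl⟩⟩
    exact Set.range_eq_univ.1
      (IsClopen.eq_univ (α := ↥X) ⟨Y.hom.isClosedMap.isClosed_range, Y.hom.isOpenMap.isOpen_range⟩ hne)
  have hdim' : (2 : WithBot ℕ∞) ≤ topologicalKrullDim Y.left :=
    hdim.trans (DimLift.le_of_specializing Y.hom hsurj Y.hom.isClosedMap.specializingMap)
  have hL' := NormX.isAmple_pullback_affine Y.hom hL
  obtain ⟨e⟩ := PicClLib.nonempty_pullback_structureModule Y.hom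
  let s' := e.inv ≫ (Scheme.Modules.pullback Y.hom).map s
  haveI := ConnCompl.connectedSpace_zeroScheme k hdim' hL' s'
  have hg := InvX.genLocus_pullback Y.hom hL.1 s e.symm
  have hr : Set.range (pullback.fst Y.hom (PicF2.zeroScheme L s).subschemeι) =
      Set.range (PicF2.zeroScheme _ s').subschemeι := by
    rw [Scheme.Pullback.range_fst, Scheme.IdealSheafData.range_subschemeι,
      Scheme.IdealSheafData.range_subschemeι]
    ext y
    rw [Set.mem_preimage, SetLike.mem_coe, SetLike.mem_coe, DepthTwist.mem_support_zeroScheme_iff hL.1,
      DepthTwist.mem_support_zeroScheme_iff hL'.1]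
    exact not_congr (iff_of_eq (congrArg (fun V : Y.left.Opens => y ∈ V) hg.symm))
  have hc : _root_.IsConnected (Set.range (pullback.fst Y.hom (PicF2.zeroScheme L s).subschemeι)) := by
    rw [hr]
    exact isConnected_range (Scheme.Hom.continuous _)
  haveI := isConnected_iff_connectedSpace.1 hc
  exact (pullback.fst Y.hom (PicF2.zeroScheme L s).subschemeι).isClosedEmbedding.isEmbedding.toHomeomorph.symm.surjective.connectedSpace
    (Homeomorph.continuous _)

end Groth.Agent.S15551
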