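import Groth.Statements.S15554
import Groth.Agent.HyperSmooth.Main
import Groth.Agent.PnCoh.Chow.Proper

set_option autoImplicit false
attribute [-instance] CategoryTheory.catToReflQuiver
set_option backward.isDefEq.respectTransparency false
set_option backward.isDefEq.respectTransparency.types false
universe u
open CategoryTheory CategoryTheory.Limits AlgebraicGeometry
open SmVar

namespace Groth.Agent.S15554

/-- Let k be an infinite field and X ⊆ P^n_k a smooth projective variety, given as an integral scheme X
with a closed immersion ι into projective n-space over k through which X is smooth over k. Then X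
has a smooth hyperplane section defined over k: there is a global section s of the twisting sheaf
O(1) on P^n_k whose zero scheme H, a hyperplane defined over k, does not contain X and for which the
scheme-theoretic intersection X ∩ H = X ×_{P^n_k} H is smooth over k. (The published statement also
records that X ∩ H has dimension dim X − 1; that is automatic once X is integral and not contained
in H, so this row states smoothness together with X ⊄ H.) -/
theorem result (k : Type u) [Field k] [Infinite k] (n : ℕ)
    (X : Scheme.{u}) [IsIntegral X] (ι : X ⟶ CohB1.ProjSpace n k) [IsClosedImmersion ι]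
    [Smooth (ι ≫ CohB1.ProjSpace.toSpec n k)] :
    ∃ s : Coh.structureModule (CohB1.ProjSpace n k) ⟶ Twist.twistProjSpace n k 1,
      (∃ x : ↥X, ι.base x ∉ (PicF2.zeroScheme (Twist.twistProjSpace n k 1) s).support) ∧
      Smooth (pullback.fst ι (PicF2.zeroScheme (Twist.twistProjSpace n k 1) s).subschemeι ≫ ι ≫
        CohB1.ProjSpace.toSpec n k) := by
  classical
  letI : X.Over (Spec (CommRingCat.of k)) := ⟨ι ≫ CohB1.ProjSpace.toSpec n k⟩
  haveI : Smooth (X ↘ Spec (CommRingCat.of k)) := ‹Smooth (ι ≫ CohB1.ProjSpace.toSpec n k)›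
  haveI : IsProper (CohB1.ProjSpace.toSpec n k) := Groth.Agent.PnCoh.Chow.isProper_toSpec n k
  haveI : CompactSpace (CohB1.ProjSpace n k) := QuasiCompact.compactSpace_of_compactSpace (CohB1.ProjSpace.toSpec n k)
  haveI : CompactSpace X := QuasiCompact.compactSpace_of_compactSpace ι
  -- a polynomial for each point
  choose j U hU hle hxU q hq0 hq using fun x => HyperSmooth.exists_good_chart k n X ι rfl x
  obtain ⟨T, hT⟩ := isCompact_univ.elim_finite_subcover (fun x : X => (U x : Set X)) (fun x => (U x).2)
    fun x _ => Set.mem_iUnion.2 ⟨x, hxU x⟩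
  obtain ⟨i₁, hi₁⟩ := ProjUPX.cov_X (n := n) (R := k) (ι (genericPoint X))
  obtain ⟨g₁, hg₁, hg₁'⟩ := HyperSmooth.exists_not_mem (ι (genericPoint X)).asHomogeneousIdeal.toIdeal i₁ hi₁
  obtain ⟨c, hc⟩ : ∃ c : Fin (n + 1) → k, MvPolynomial.eval c (g₁ * ∏ x ∈ T, q x) ≠ 0 := by
    by_contra! h0
    have hne : g₁ * ∏ x ∈ T, q x ≠ 0 := mul_ne_zero hg₁ (Finset.prod_ne_zero_iff.2 fun x _ => hq0 x)
    exact hne (MvPolynomial.funext fun c => by rw [h0 c, map_zero])
  rw [map_mul, map_prod, mul_ne_zero_iff, Finset.prod_ne_zero_iff] at hc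
  let a : MvPolynomial (Fin (n + 1)) k := ∑ i, MvPolynomial.C (c i) * MvPolynomial.X i
  have ha : a ∈ CohB1.polyGrading n k 1 := HyperSmooth.linear_mem c
  let s : Coh.structureModule (CohB1.ProjSpace n k) ⟶ Twist.twistProjSpace n k 1 :=
    InvX.ofSect (ProjUPX.sec (CohB1.polyGrading n k) ha)
  refine ⟨s, ⟨genericPoint X, fun hmem => ?_⟩, ?_⟩
  · -- the generic point is off the hyperplane
    let P := ι (genericPoint X)
    let i := i₁
    have hPi : P ∈ Proj.basicOpen (CohB1.polyGrading n k) (MvPolynomial.X i) := hi₁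
    have h1 := ((PicF2.zeroScheme (Twist.twistProjSpace n k 1) s).coe_support_inter
      ⟨_, Proj.isAffineOpen_basicOpen _ (MvPolynomial.X i : MvPolynomial (Fin (n + 1)) k)
        (MvPolynomial.isHomogeneous_X k i) one_pos⟩).subset ⟨hmem, hPi⟩
    have h2 := h1.1
    rw [HyperSmooth.ideal_hyperplane k n c ha i, Scheme.zeroLocus_span, Scheme.mem_zeroLocus_iff] at h2
    refine h2 _ rfl ?_
    rw [HyperSmooth.mem_basicOpen_awayToSection k n c ha i hPi]
    exact hg₁' c hc.1
  · rw [← Scheme.IdealSheafData.comapIso_inv_subschemeι, Category.assoc,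
      MorphismProperty.cancel_left_of_respectsIso (P := @Smooth)]
    refine HyperSmooth.smooth_comap k n X ι rfl c ha fun x => ?_
    obtain ⟨y, hyT, hxy⟩ := Set.mem_iUnion₂.1 (hT (Set.mem_univ x))
    exact ⟨j y, U y, hU y, hle y, hxy, hq y c (hc.2 y hyT)⟩

end Groth.Agent.S15554
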