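import Groth.Statements.S15558
-- import your own Groth.Agent.* helpers here

set_option autoImplicit false
universe u v
open CategoryTheory AlgebraicGeometry
open Lim

namespace Groth.Agent.S15558
set_option backward.isDefEq.respectTransparency false
set_option backward.isDefEq.respectTransparency.types false
set_option maxHeartbeats 800000
open Opposite TopologicalSpace

structure Dat {Λ : Type v} [PartialOrder Λ] (X : Λᵒᵖ ⥤ Scheme.{u}) (l : Λ) where
  N : ℕ
  V : ℕ → (X.obj (op l)).Opens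
  r : Λ → ℕ → ℕ

variable {Λ : Type v} [PartialOrder Λ] (X : Λᵒᵖ ⥤ Scheme.{u})

abbrev tr {l m : Λ} (h : m ≤ l) : X.obj (op l) ⟶ X.obj (op m) := X.map (homOfLE h).op

def Step (l : Λ) (prev : ∀ m, m < l → Dat X m) (d : Dat X l) : Prop :=
  (∀ i, i < d.N → IsAffineOpen (d.V i)) ∧
  (∀ i, i < d.N → ∀ (m : Λ) (h : m < l),
    d.r m i < (prev m h).N ∧ d.V i ≤ tr X h.le ⁻¹ᵁ (prev m h).V (d.r m i) ∧
    ∀ (n : Λ) (h' : n < m), (prev m h).r n (d.r m i) = d.r n i) ∧
  (∀ (t : Λ → ℕ) (x : X.obj (op l)),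
    (∀ (m : Λ) (h : m < l), t m < (prev m h).N ∧ tr X h.le x ∈ (prev m h).V (t m) ∧
      ∀ (n : Λ), n < m → (prev m h).r n (t m) = t n) →
    ∃ i, i < d.N ∧ x ∈ d.V i ∧ ∀ (m : Λ), m < l → d.r m i = t m)

theorem isCompact_iInf_preimage {Z : Scheme.{u}} [CompactSpace Z] [QuasiSeparatedSpace Z] {κ : Type*} (s : Finset κ)
    (U : κ → Z.Opens) (hU : ∀ k ∈ s, IsCompact (U k : Set Z)) :
    IsCompact (⋂ k ∈ s, (U k : Set Z)) ∧ IsOpen (⋂ k ∈ s, (U k : Set Z)) := by
  classical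
  induction s using Finset.induction with
  | empty => simp [isCompact_univ]
  | @insert a s ha ih =>
    rw [Finset.set_biInter_insert]
    obtain ⟨h1, h2⟩ := ih fun k hk => hU k (Finset.mem_insert_of_mem hk)
    exact ⟨QuasiSeparatedSpace.inter_isCompact _ _ (U a).isOpen (hU a (Finset.mem_insert_self _ _)) h2 h1,
      (U a).isOpen.inter h2⟩

theorem exists_step (hqc : ∀ l : Λ, CompactSpace ↥(X.obj (op l)))
    (hqs : ∀ l : Λ, QuasiSeparatedSpace ↥(X.obj (op l))) (hΛ : ∀ l : Λ, (Set.Iic l).Finite)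
    (l : Λ) (prev : ∀ m, m < l → Dat X m) (hprev : ∀ m h, ∀ i, i < (prev m h).N → IsAffineOpen ((prev m h).V i)) :
    ∃ d, Step X l prev d := by
  classical
  haveI := hqc l
  haveI := hqs l
  haveI : Finite {m : Λ // m < l} := ((hΛ l).subset fun m hm => le_of_lt hm).to_subtype
  haveI := Fintype.ofFinite {m : Λ // m < l}
  let T := {t : ∀ m : {m : Λ // m < l}, Fin (prev m.1 m.2).N //
    ∀ (m : {m : Λ // m < l}) (n : Λ) (h' : n < m.1),
      (prev m.1 m.2).r n (t m) = t ⟨n, h'.trans m.2⟩}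
  let W : T → Set (X.obj (op l)) := fun t => ⋂ m ∈ (Finset.univ : Finset {m : Λ // m < l}),
    ((tr X m.2.le ⁻¹ᵁ (prev m.1 m.2).V (t.1 m) : (X.obj (op l)).Opens) : Set (X.obj (op l)))
  have hW : ∀ t, IsCompact (W t) ∧ IsOpen (W t) := fun t =>
    isCompact_iInf_preimage _ _ fun m _ => by
      haveI := hqs m.1
      exact (tr X m.2.le).isCompact_preimage ((hprev m.1 m.2 _ (t.1 m).2).isCompact)
  have hs : ∀ t, ∃ s : Set (X.obj (op l)).affineOpens, s.Finite ∧ W t = ⋃ U ∈ s, ((U : (X.obj (op l)).Opens) : Set (X.obj (op l))) :=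
    fun t => isCompact_and_isOpen_iff_finite_and_eq_biUnion_affineOpens.1 (hW t)
  choose s hsf hse using hs
  haveI : ∀ t, Finite (s t) := fun t => (hsf t).to_subtype
  obtain ⟨N, ⟨e⟩⟩ := Finite.exists_equiv_fin (Σ t : T, s t)
  refine ⟨⟨N, fun i => if h : i < N then ((e.symm ⟨i, h⟩).2.1 : (X.obj (op l)).Opens) else ⊥,
    fun m i => if h : i < N ∧ m < l then ((e.symm ⟨i, h.1⟩).1.1 ⟨m, h.2⟩).1 else 0⟩, ?_, ?_, ?_⟩
  · intro i hi
    simp only [dif_pos hi]
    exact (e.symm ⟨i, hi⟩).2.1.2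
  · intro i hi m h
    simp only [dif_pos hi, dif_pos (And.intro hi h)]
    refine ⟨((e.symm ⟨i, hi⟩).1.1 ⟨m, h⟩).2, ?_, fun n h' => ?_⟩
    · intro x hx
      have h1 : x ∈ W (e.symm ⟨i, hi⟩).1 := by
        rw [hse]
        exact Set.mem_biUnion (e.symm ⟨i, hi⟩).2.2 hx
      exact Set.mem_iInter₂.1 h1 ⟨m, h⟩ (Finset.mem_univ _)
    · rw [dif_pos (And.intro hi (h'.trans h))]
      exact (e.symm ⟨i, hi⟩).1.2 ⟨m, h⟩ n h'
  · intro t x ht
    let t' : T := ⟨fun m => ⟨t m.1, (ht m.1 m.2).1⟩, fun m n h' => (ht m.1 m.2).2.2 n h'⟩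
    have h1 : x ∈ W t' := Set.mem_iInter₂.2 fun m _ => (ht m.1 m.2).2.1
    rw [hse] at h1
    obtain ⟨U, hU, hx⟩ := Set.mem_iUnion₂.1 h1
    refine ⟨e ⟨t', ⟨U, hU⟩⟩, (e ⟨t', ⟨U, hU⟩⟩).2, ?_, fun m hm => ?_⟩
    · simp only [dif_pos (e ⟨t', ⟨U, hU⟩⟩).2, Fin.eta]
      have key : ∀ z, z = (⟨t', ⟨U, hU⟩⟩ : Σ t : T, s t) → x ∈ (z.2.1 : (X.obj (op l)).Opens) := by
        rintro z rfl
        exact hx
      exact key _ (e.symm_apply_apply _)
    · simp only [dif_pos (And.intro (e ⟨t', ⟨U, hU⟩⟩).2 hm), Fin.eta, Equiv.symm_apply_apply]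
      rfl

theorem wellFounded_lt_of_cofinite (hΛ : ∀ l : Λ, (Set.Iic l).Finite) : WellFounded (α := Λ) (· < ·) :=
  Subrelation.wf (r := InvImage (· < ·) fun l : Λ => (hΛ l).toFinset.card)
    (fun {a b} (hab : a < b) => Finset.card_lt_card (Finset.ssubset_iff_of_subset
      (fun c hc => by simp only [Set.Finite.mem_toFinset, Set.mem_Iic] at hc ⊢; exact hc.trans hab.le) |>.2
      ⟨b, by simp, by simp only [Set.Finite.mem_toFinset, Set.mem_Iic]; exact hab.not_ge⟩))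
    (InvImage.wf _ wellFounded_lt)

theorem exists_system (hqc : ∀ l : Λ, CompactSpace ↥(X.obj (op l)))
    (hqs : ∀ l : Λ, QuasiSeparatedSpace ↥(X.obj (op l))) (hΛ : ∀ l : Λ, (Set.Iic l).Finite) :
    ∃ D : ∀ l, Dat X l, ∀ l, Step X l (fun m _ => D m) (D l) := by
  classical
  let F : ∀ l, (∀ m, m < l → Dat X m) → Dat X l := fun l prev =>
    @Classical.epsilon _ ⟨⟨0, fun _ => ⊥, fun _ _ => 0⟩⟩ (Step X l prev)
  have hF : ∀ l prev, (∃ d, Step X l prev d) → Step X l prev (F l prev) := fun l prev h => by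
    exact Classical.epsilon_spec h
  let D : ∀ l, Dat X l := (wellFounded_lt_of_cofinite hΛ).fix F
  refine ⟨D, fun l => ?_⟩
  induction l using (wellFounded_lt_of_cofinite hΛ).induction with
  | _ l ih =>
    have e : D l = F l (fun m _ => D m) := (wellFounded_lt_of_cofinite hΛ).fix_eq F l
    rw [e]
    exact hF l _ (exists_step X hqc hqs hΛ l _ fun m hm => (ih m hm).1)

theorem exists_compatible {D : ∀ l, Dat X l} (hD : ∀ l, Step X l (fun m _ => D m) (D l)) {l : Λ}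
    (x : X.obj (op l)) (S : Finset Λ) (hS : ∀ m ∈ S, m ≤ l) (hS' : ∀ m ∈ S, ∀ n, n < m → n ∈ S) :
    ∃ t : Λ → ℕ, ∀ (m : Λ) (h : m ∈ S), t m < (D m).N ∧ tr X (hS m h) x ∈ (D m).V (t m) ∧
      ∀ n, n < m → (D m).r n (t m) = t n := by
  classical
  induction S using Finset.strongInduction with
  | _ S ih =>
    rcases S.eq_empty_or_nonempty with rfl | hne
    · exact ⟨fun _ => 0, by simp⟩
    · obtain ⟨a, ha⟩ := Finset.exists_maximal hne
      obtain ⟨t, ht⟩ := ih (S.erase a) (Finset.erase_ssubset ha.1) (fun m hm => hS m (Finset.mem_of_mem_erase hm))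
        (fun m hm n hn => Finset.mem_erase.2 ⟨fun e => by
          subst e
          exact hn.not_ge (ha.2 (Finset.mem_of_mem_erase hm) hn.le), hS' m (Finset.mem_of_mem_erase hm) n hn⟩)
      have hlt : ∀ m, m < a → m ∈ S.erase a := fun m hm => Finset.mem_erase.2 ⟨hm.ne, hS' a ha.1 m hm⟩
      obtain ⟨i, hi, hxi, hr⟩ := (hD a).2.2 t (tr X (hS a ha.1) x) (fun m hm => by
        obtain ⟨h1, h2, h3⟩ := ht m (hlt m hm)
        refine ⟨h1, ?_, h3⟩
        rw [← Scheme.Hom.comp_apply]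
        show (X.map (homOfLE (hS a ha.1)).op ≫ X.map (homOfLE hm.le).op) x ∈ _
        rw [← X.map_comp]
        exact h2)
      refine ⟨Function.update t a i, fun m hm => ?_⟩
      by_cases e : m = a
      · subst e
        simp only [Function.update_self]
        exact ⟨hi, hxi, fun n hn => by rw [hr n hn, Function.update_of_ne hn.ne]⟩
      · rw [Function.update_of_ne e]
        obtain ⟨h1, h2, h3⟩ := ht m (Finset.mem_erase.2 ⟨e, hm⟩)
        refine ⟨h1, h2, fun n hn => ?_⟩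
        rw [h3 n hn, Function.update_of_ne]
        rintro rfl
        exact hn.not_ge (ha.2 hm hn.le)

open Classical in
noncomputable def R (D : ∀ l, Dat X l) (l m : Λ) (i : ℕ) : ℕ := if m = l then i else (D l).r m i

variable {X}

theorem R_spec {D : ∀ l, Dat X l} (hD : ∀ l, Step X l (fun m _ => D m) (D l)) {a b : Λᵒᵖ} (h : a ⟶ b) {i : ℕ}
    (hi : i < (D a.unop).N) :
    R X D a.unop b.unop i < (D b.unop).N ∧ (D a.unop).V i ≤ X.map h ⁻¹ᵁ (D b.unop).V (R X D a.unop b.unop i) := by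
  obtain ⟨l⟩ := a
  obtain ⟨m⟩ := b
  have hle : m ≤ l := leOfHom h.unop
  rcases eq_or_lt_of_le hle with rfl | hlt
  · have : h = 𝟙 _ := Subsingleton.elim _ _
    subst this
    refine ⟨by simpa [R] using hi, ?_⟩
    simp [R]
  · obtain ⟨h1, h2, -⟩ := (hD l).2.1 i hi m hlt
    have e : h = (homOfLE hle).op := Subsingleton.elim _ _
    subst e
    simp only [R, hlt.ne, if_false]
    exact ⟨h1, h2⟩

theorem R_comp {D : ∀ l, Dat X l} (hD : ∀ l, Step X l (fun m _ => D m) (D l)) {a b c : Λᵒᵖ} (h : a ⟶ b) (h' : b ⟶ c)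
    {i : ℕ} (hi : i < (D a.unop).N) :
    R X D b.unop c.unop (R X D a.unop b.unop i) = R X D a.unop c.unop i := by
  obtain ⟨l⟩ := a
  obtain ⟨m⟩ := b
  obtain ⟨n⟩ := c
  have hle : m ≤ l := leOfHom h.unop
  have hle' : n ≤ m := leOfHom h'.unop
  rcases eq_or_lt_of_le hle with rfl | hlt
  · simp [R]
  rcases eq_or_lt_of_le hle' with rfl | hlt'
  · simp [R]
  simp only [R, hlt.ne, hlt'.ne, (hlt'.trans hlt).ne, if_false]
  exact ((hD l).2.1 i hi m hlt).2.2 n hlt'

noncomputable def yObj (D : ∀ l, Dat X l) (a : Λᵒᵖ) : Scheme.{u} :=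
  ∐ fun i : ULift.{u} (Fin (D a.unop).N) => ((D a.unop).V i.down).toScheme

noncomputable def yι (D : ∀ l, Dat X l) (a : Λᵒᵖ) (i : ℕ) (hi : i < (D a.unop).N) :
    ((D a.unop).V i).toScheme ⟶ yObj D a :=
  Limits.Sigma.ι (fun i : ULift.{u} (Fin (D a.unop).N) => ((D a.unop).V i.down).toScheme) ⟨⟨i, hi⟩⟩

noncomputable def yπ (D : ∀ l, Dat X l) (a : Λᵒᵖ) : yObj D a ⟶ X.obj a :=
  Limits.Sigma.desc fun i => ((D a.unop).V i.down).ι

theorem yι_yπ (D : ∀ l, Dat X l) (a : Λᵒᵖ) (i : ℕ) (hi : i < (D a.unop).N) :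
    yι D a i hi ≫ yπ D a = ((D a.unop).V i).ι :=
  Limits.Sigma.ι_desc _ _

theorem yι_congr (D : ∀ l, Dat X l) (a : Λᵒᵖ) {Z : Scheme.{u}} {i j : ℕ} (hi : i < (D a.unop).N) (hj : j < (D a.unop).N)
    (e : i = j) (p : Z ⟶ ((D a.unop).V i).toScheme) (q : Z ⟶ ((D a.unop).V j).toScheme)
    (h : p ≫ ((D a.unop).V i).ι = q ≫ ((D a.unop).V j).ι) : p ≫ yι D a i hi = q ≫ yι D a j hj := by
  subst e
  rw [cancel_mono] at h
  rw [h]

noncomputable def yMap {D : ∀ l, Dat X l} (hD : ∀ l, Step X l (fun m _ => D m) (D l)) {a b : Λᵒᵖ} (h : a ⟶ b) :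
    yObj D a ⟶ yObj D b :=
  Limits.Sigma.desc fun i => (X.map h).resLE _ _ (R_spec hD h i.down.2).2 ≫ yι D b _ (R_spec hD h i.down.2).1

theorem yι_yMap {D : ∀ l, Dat X l} (hD : ∀ l, Step X l (fun m _ => D m) (D l)) {a b : Λᵒᵖ} (h : a ⟶ b) (i : ℕ)
    (hi : i < (D a.unop).N) :
    yι D a i hi ≫ yMap hD h = (X.map h).resLE _ _ (R_spec hD h hi).2 ≫ yι D b _ (R_spec hD h hi).1 :=
  Limits.Sigma.ι_desc _ _

theorem yObj_ext (D : ∀ l, Dat X l) {a : Λᵒᵖ} {Z : Scheme.{u}} {p q : yObj D a ⟶ Z}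
    (h : ∀ i hi, yι D a i hi ≫ p = yι D a i hi ≫ q) : p = q :=
  Limits.Sigma.hom_ext _ _ fun i => h i.down.1 i.down.2

noncomputable def ySys {D : ∀ l, Dat X l} (hD : ∀ l, Step X l (fun m _ => D m) (D l)) : Λᵒᵖ ⥤ Scheme.{u} where
  obj := yObj D
  map h := yMap hD h
  map_id a := yObj_ext D fun i hi => by
    rw [yι_yMap, Category.comp_id]
    refine (yι_congr D a _ hi ?_ _ (𝟙 _) ?_).trans (Category.id_comp _)
    · simp [R]
    · simp
  map_comp {a b c} h h' := yObj_ext D fun i hi => by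
    rw [← Category.assoc, yι_yMap, yι_yMap, Category.assoc, yι_yMap, ← Category.assoc]
    refine yι_congr D c _ _ (R_comp hD h h' hi).symm _ _ ?_
    simp

noncomputable def yTrans {D : ∀ l, Dat X l} (hD : ∀ l, Step X l (fun m _ => D m) (D l)) : ySys hD ⟶ X where
  app := yπ D
  naturality {a b} h := yObj_ext D fun i hi => by
    show yι D a i hi ≫ yMap hD h ≫ yπ D b = yι D a i hi ≫ yπ D a ≫ X.map h
    rw [← Category.assoc, yι_yMap, Category.assoc, yι_yπ, ← Category.assoc, yι_yπ]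
    simp


/-- Let Λ be a cofinite partially ordered set (every element has finitely many elements below it; Λ need
not be directed) and X : Λᵒᵖ ⥤ Scheme an inverse system of quasi-compact quasi-separated schemes.
Then there exist an inverse system Y : Λᵒᵖ ⥤ Scheme of affine schemes and a morphism of inverse
systems π : Y ⟶ X such that each π_λ : Y_λ → X_λ is a Zariski covering: it is surjective and Y_λ is
covered by pairwise disjoint open subschemes each of which maps to X_λ by an open immersion. (The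
published statement is for schemes over a fixed perfect field; the base field plays no role, and the
version for schemes over a base follows by composing with the structure morphisms.) -/
theorem result {Λ : Type v} [PartialOrder Λ]
    (hΛ : ∀ l : Λ, (Set.Iic l).Finite) (X : Λᵒᵖ ⥤ Scheme.{u})
    (hqc : ∀ l : Λ, CompactSpace ↥(X.obj (Opposite.op l)))
    (hqs : ∀ l : Λ, QuasiSeparatedSpace ↥(X.obj (Opposite.op l))) :
    ∃ (Y : Λᵒᵖ ⥤ Scheme.{u}) (π : Y ⟶ X), ∀ l : Λ,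
      IsAffine (Y.obj (Opposite.op l)) ∧ Surjective (π.app (Opposite.op l)) ∧
        ∃ (ι : Type u) (U : ι → (Y.obj (Opposite.op l)).Opens),
          Pairwise (fun i j => Disjoint (U i) (U j)) ∧ iSup U = ⊤ ∧
            ∀ i, IsOpenImmersion ((U i).ι ≫ π.app (Opposite.op l)) := by
  classical
  obtain ⟨D, hD⟩ := exists_system X hqc hqs hΛ
  refine ⟨ySys hD, yTrans hD, fun l => ⟨?_, ⟨fun x => ?_⟩, ?_⟩⟩
  · haveI : ∀ i : ULift.{u} (Fin (D l).N), IsAffine ((D l).V i.down).toScheme := fun i => (hD l).1 _ i.down.2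
    show IsAffine (∐ fun i : ULift.{u} (Fin (D l).N) => ((D l).V i.down).toScheme)
    infer_instance
  · obtain ⟨t, ht⟩ := exists_compatible X hD x (hΛ l).toFinset (fun m hm => by simpa using hm)
      (fun m hm n hn => by simp only [Set.Finite.mem_toFinset, Set.mem_Iic] at hm ⊢; exact hn.le.trans hm)
    obtain ⟨h1, h2, -⟩ := ht l (by simp)
    have h2' : x ∈ (D l).V (t l) := by
      have h3 : tr X (le_refl l) = 𝟙 _ := (congrArg X.map (Subsingleton.elim (homOfLE (le_refl l)).op (𝟙 _))).trans (X.map_id _)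
      simpa [h3] using h2
    exact ⟨yι D (Opposite.op l) (t l) h1 ⟨x, h2'⟩, by
      show (yι D (Opposite.op l) (t l) h1 ≫ yπ D (Opposite.op l)) _ = x
      rw [yι_yπ]
      rfl⟩
  · let g := fun i : ULift.{u} (Fin (D l).N) => ((D l).V i.down).toScheme
    refine ⟨ULift.{u} (Fin (D l).N), fun i => (Limits.Sigma.ι g i).opensRange,
      fun i j hij => disjoint_opensRange_sigmaι g i j hij, ?_, fun i => ?_⟩
    · exact (sigmaOpenCover g).iSup_opensRange
    · show IsOpenImmersion ((Limits.Sigma.ι g i).opensRange.ι ≫ yπ D (Opposite.op l))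
      rw [← Scheme.Hom.isoOpensRange_inv_comp, Category.assoc,
        show Limits.Sigma.ι g i ≫ yπ D (Opposite.op l) = ((D l).V i.down).ι from Limits.Sigma.ι_desc _ _]
      infer_instance

end Groth.Agent.S15558
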