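import Groth.Statements.S15568
import Mathlib
-- import your own Groth.Agent.* helpers here

set_option autoImplicit false
universe u
open QuiverStab

namespace Groth.Agent.S15568

/-- Walls and chambers for stability weights of a quiver. Let I be the finite vertex set, d ∈ ℕ^I a
dimension vector, and call two weights θ₁, θ₂ ∈ ℝ^I orthogonal to d numerically equivalent when, for
every d′ ≤ d in ℕ^I, the numbers θ₁·d′ and θ₂·d′ are both positive, both negative or both zero. The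
walls are the hyperplanes W(d′) = {θ ⊥ d : θ·d′ = 0} of d^⊥ for d′ ≤ d such that d is not a multiple
of d′. Then θ₁ and θ₂ are numerically equivalent if and only if there is a set J₁ of such d′ for
which θ₁ and θ₂ lie in the same connected component of the locally closed subset of d^⊥ consisting
of the weights lying on W(d₁) for every d₁ ∈ J₁ and off W(d₂) for every other wall W(d₂). (Only the
quiver's vertex set enters; multiples are taken with natural-number factors.) -/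
theorem result
    (I : Type u) [Fintype I] (d : I → ℕ) (θ₁ θ₂ : I → ℝ)
    (h₁ : ∑ i, θ₁ i * (d i : ℝ) = 0) (h₂ : ∑ i, θ₂ i * (d i : ℝ) = 0) :
    (∀ d' : I → ℕ, d' ≤ d →
        SignType.sign (∑ i, θ₁ i * (d' i : ℝ)) = SignType.sign (∑ i, θ₂ i * (d' i : ℝ))) ↔
    ∃ J₁ : Set (I → ℕ), J₁ ⊆ {d' | d' ≤ d ∧ ¬ ∃ m : ℕ, d = m • d'} ∧
      θ₂ ∈ connectedComponentIn
        {θ : I → ℝ | ∑ i, θ i * (d i : ℝ) = 0 ∧ (∀ d₁ ∈ J₁, ∑ i, θ i * (d₁ i : ℝ) = 0) ∧
          ∀ d₂ : I → ℕ, d₂ ≤ d → (¬ ∃ m : ℕ, d = m • d₂) → d₂ ∉ J₁ →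
            ∑ i, θ i * (d₂ i : ℝ) ≠ 0} θ₁ := by
  constructor
  · intro h
    refine ⟨{d' | d' ≤ d ∧ (¬ ∃ m : ℕ, d = m • d') ∧ ∑ i, θ₁ i * (d' i : ℝ) = 0},
      fun x hx => ⟨hx.1, hx.2.1⟩, ?_⟩
    refine (convex_segment θ₁ θ₂).isPreconnected.subset_connectedComponentIn
      (left_mem_segment ℝ θ₁ θ₂) ?_ (right_mem_segment ℝ θ₁ θ₂)
    rintro θ ⟨a, b, ha, hb, hab, rfl⟩
    have hlin : ∀ c : I → ℕ, ∑ i, (a • θ₁ + b • θ₂) i * (c i : ℝ) =
        a * ∑ i, θ₁ i * (c i : ℝ) + b * ∑ i, θ₂ i * (c i : ℝ) := fun c => by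
      simp only [Pi.add_apply, Pi.smul_apply, smul_eq_mul, Finset.mul_sum, ← Finset.sum_add_distrib]
      exact Finset.sum_congr rfl fun i _ => by ring
    refine ⟨by rw [hlin, h₁, h₂]; ring, fun c hc => ?_, fun c hcd hm hcJ => ?_⟩
    · have h' : ∑ i, θ₂ i * (c i : ℝ) = 0 := by
        rw [← sign_eq_zero_iff, ← h c hc.1, sign_eq_zero_iff]
        exact hc.2.2
      rw [hlin, hc.2.2, h']
      ring
    · have h' : ∑ i, θ₁ i * (c i : ℝ) ≠ 0 := fun e => hcJ ⟨hcd, hm, e⟩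
      rw [hlin]
      rcases lt_or_gt_of_ne h' with hx | hx
      · have hy : ∑ i, θ₂ i * (c i : ℝ) < 0 := by
          rw [← sign_eq_neg_one_iff, ← h c hcd, sign_eq_neg_one_iff]
          exact hx
        rcases ha.eq_or_lt with ha' | ha'
        · rw [← ha'] at hab ⊢
          rw [zero_add] at hab
          rw [hab]; linarith
        · nlinarith [mul_neg_of_pos_of_neg ha' hx, mul_nonpos_of_nonneg_of_nonpos hb hy.le]
      · have hy : 0 < ∑ i, θ₂ i * (c i : ℝ) := by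
          rw [← sign_eq_one_iff, ← h c hcd, sign_eq_one_iff]
          exact hx
        rcases ha.eq_or_lt with ha' | ha'
        · rw [← ha'] at hab ⊢
          rw [zero_add] at hab
          rw [hab]; linarith
        · nlinarith [mul_pos ha' hx, mul_nonneg hb hy.le]
  · rintro ⟨J, hJ, hmem⟩ c hc
    have hθ₁ := connectedComponentIn_nonempty_iff.mp ⟨θ₂, hmem⟩
    have hθ₂ := connectedComponentIn_subset _ _ hmem
    by_cases hm : ∃ m : ℕ, d = m • c
    · obtain ⟨m, hm⟩ := hm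
      have hz : ∀ θ : I → ℝ, ∑ i, θ i * (d i : ℝ) = 0 → ∑ i, θ i * (c i : ℝ) = 0 := by
        intro θ hθ
        rcases Nat.eq_zero_or_pos m with h0 | h0
        · refine Finset.sum_eq_zero fun i _ => ?_
          have h1 := hc i
          rw [hm, h0, zero_smul] at h1
          rw [Nat.le_zero.mp h1, Nat.cast_zero, mul_zero]
        · have h3 : (m : ℝ) * ∑ i, θ i * (c i : ℝ) = 0 := by
            rw [← hθ, hm, Finset.mul_sum]
            refine Finset.sum_congr rfl fun i _ => ?_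
            rw [Pi.smul_apply, smul_eq_mul, Nat.cast_mul]
            ring
          exact (mul_eq_zero.mp h3).resolve_left (Nat.cast_ne_zero.mpr h0.ne')
      rw [hz _ h₁, hz _ h₂]
    by_cases hcJ : c ∈ J
    · rw [hθ₁.2.1 c hcJ, hθ₂.2.1 c hcJ]
    · have hnz := fun θ (hθ : θ ∈ connectedComponentIn {θ : I → ℝ | ∑ i, θ i * (d i : ℝ) = 0 ∧ (∀ d₁ ∈ J, ∑ i, θ i * (d₁ i : ℝ) = 0) ∧
          ∀ d₂ : I → ℕ, d₂ ≤ d → (¬ ∃ m : ℕ, d = m • d₂) → d₂ ∉ J →
            ∑ i, θ i * (d₂ i : ℝ) ≠ 0} θ₁) =>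
        (connectedComponentIn_subset _ _ hθ).2.2 c hc hm hcJ
      have hcont : Continuous fun θ : I → ℝ => ∑ i, θ i * (c i : ℝ) := by fun_prop
      have hmem₁ := mem_connectedComponentIn hθ₁
      have key : ∀ x y : I → ℝ, x ∈ connectedComponentIn {θ : I → ℝ | ∑ i, θ i * (d i : ℝ) = 0 ∧ (∀ d₁ ∈ J, ∑ i, θ i * (d₁ i : ℝ) = 0) ∧
          ∀ d₂ : I → ℕ, d₂ ≤ d → (¬ ∃ m : ℕ, d = m • d₂) → d₂ ∉ J →
            ∑ i, θ i * (d₂ i : ℝ) ≠ 0} θ₁ → y ∈ connectedComponentIn {θ : I → ℝ | ∑ i, θ i * (d i : ℝ) = 0 ∧ (∀ d₁ ∈ J, ∑ i, θ i * (d₁ i : ℝ) = 0) ∧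
          ∀ d₂ : I → ℕ, d₂ ≤ d → (¬ ∃ m : ℕ, d = m • d₂) → d₂ ∉ J →
            ∑ i, θ i * (d₂ i : ℝ) ≠ 0} θ₁ →
          ¬ (∑ i, x i * (c i : ℝ) < 0 ∧ 0 < ∑ i, y i * (c i : ℝ)) := by
        rintro x y hx hy ⟨h1', h2'⟩
        obtain ⟨z, hz, hz0⟩ := isPreconnected_connectedComponentIn.intermediate_value hx hy
          hcont.continuousOn ⟨h1'.le, h2'.le⟩
        exact hnz z hz hz0
      rcases lt_or_gt_of_ne (hnz θ₁ hmem₁) with hx | hx <;>
        rcases lt_or_gt_of_ne (hnz θ₂ hmem) with hy | hy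
      · rw [sign_neg hx, sign_neg hy]
      · exact (key θ₁ θ₂ hmem₁ hmem ⟨hx, hy⟩).elim
      · exact (key θ₂ θ₁ hmem hmem₁ ⟨hy, hx⟩).elim
      · rw [sign_pos hx, sign_pos hy]

end Groth.Agent.S15568
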