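import Groth.Statements.S15595
import Groth.Agent.Hensel.HenselizationLoc

set_option autoImplicit false
universe u
open TensorProduct
attribute [local instance] RingHom.ker_isPrime
open CAlg

namespace Groth.Agent.S15595

/-- Let k ⊆ K be a field extension and A a Noetherian local k-algebra with residue field k, recorded by
a k-algebra map π : A → k whose kernel is the maximal ideal. Let π_K : K ⊗_k A → K be the induced
K-algebra map, m' its kernel, and A' the localization of K ⊗_k A at m'. Assume A' is Noetherian.
Then A is a regular local ring if and only if A' is a regular local ring. -/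
theorem result (k K A : Type u) [Field k] [Field K]
    [Algebra k K] [CommRing A] [Algebra k A] [IsLocalRing A] [IsNoetherianRing A]
    (π : A →ₐ[k] k) (hπ : RingHom.ker π = IsLocalRing.maximalIdeal A)
    [IsNoetherianRing (Localization.AtPrime (RingHom.ker
      ((Algebra.TensorProduct.rid k K K).toAlgHom.comp (Algebra.TensorProduct.map (AlgHom.id K K) π))))] :
    IsRegularLocalRing A ↔ IsRegularLocalRing (Localization.AtPrime (RingHom.ker
      ((Algebra.TensorProduct.rid k K K).toAlgHom.comp (Algebra.TensorProduct.map (AlgHom.id K K) π)))) := by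
  letI : Algebra A (K ⊗[k] A) := Algebra.TensorProduct.rightAlgebra
  set g : K ⊗[k] A →ₐ[K] K :=
    (Algebra.TensorProduct.rid k K K).toAlgHom.comp (Algebra.TensorProduct.map (AlgHom.id K K) π) with hg
  let m' : Ideal (K ⊗[k] A) := RingHom.ker g
  haveI : Module.Flat A (K ⊗[k] A) :=
    Module.Flat.of_linearEquiv (Algebra.TensorProduct.commRight k A K).symm.toLinearEquiv
  haveI : Module.Flat (K ⊗[k] A) (Localization.AtPrime m') := IsLocalization.flat _ m'.primeCompl
  haveI : Module.Flat A (Localization.AtPrime m') :=
    Module.Flat.trans A (K ⊗[k] A) (Localization.AtPrime m')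
  have hπs : Function.Surjective π := fun x => ⟨algebraMap k A x, π.commutes x⟩
  have hker : (IsLocalRing.maximalIdeal A).map (algebraMap A (K ⊗[k] A)) = m' := by
    have h := Algebra.TensorProduct.lTensor_ker (A := K) π hπs
    change Ideal.map _ _ = RingHom.ker g
    have h2 : RingHom.ker g = RingHom.ker (Algebra.TensorProduct.map (AlgHom.id k K) π) := by
      ext x
      simp only [RingHom.mem_ker, hg, AlgHom.comp_apply]
      exact map_eq_zero_iff _ (Algebra.TensorProduct.rid k K K).injective
    rw [h2, h, ← hπ]
    rfl
  have hm : (IsLocalRing.maximalIdeal A).map (algebraMap A (Localization.AtPrime m')) =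
      IsLocalRing.maximalIdeal (Localization.AtPrime m') := by
    rw [IsScalarTower.algebraMap_eq A (K ⊗[k] A), ← Ideal.map_map, hker,
      Localization.AtPrime.map_eq_maximalIdeal]
  haveI : IsLocalHom (algebraMap A (Localization.AtPrime m')) :=
    ((IsLocalRing.local_hom_TFAE _).out 0 2).2 hm.le
  exact Groth.Agent.Hensel.isRegularLocalRing_iff_of_flat hm

end Groth.Agent.S15595
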