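import Groth.Statements.S15645
import Groth.Agent.StrictSSLib.Models

set_option autoImplicit false
universe u
open StrictSS

namespace Groth.Agent.S15645

open CategoryTheory CategoryTheory.Limits AlgebraicGeometry in
/-- A strictly semistable multipointed curve (C, D) over a scheme S is semistable. Here (C, D) is a
multipointed S-curve (C flat, finitely presented and of pure relative dimension one over S; D a
closed subscheme of C, flat, finitely presented and of relative dimension zero over S) every point
of which has an open neighbourhood U, over an affine open Spec A of S, with an etale morphism of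
pairs from (U, D ∩ U) to the line model (Spec A[T], zero section) or, when no marked point lies in
U, an etale morphism from U to a node model Spec A[u, v]/(uv - a); the conclusion is that C → S is
an at-worst-nodal family of curves, D → S is etale and D misses the non-smooth locus of C → S. (The
published remark concerns curves over the spectrum of a valuation ring; the notion and the
implication are local on the base, and this row states the implication over an arbitrary base
scheme.) -/
theorem result
    {C D S : Scheme.{u}} (φ : C ⟶ S) (i : D ⟶ C) (h : StrictSS.IsStrictlySemistable φ i) :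
    SSMod.IsSemistable φ i := by
  classical
  obtain ⟨hmp, hch⟩ := h
  have hmp' := hmp
  obtain ⟨hfl, hfp, -, -, -, hci, hDfl, hDfp, -⟩ := hmp
  haveI := hfl
  haveI := hfp
  haveI := hci
  have hnodal : ∀ x : C, ∃ U : C.Opens, x ∈ U ∧ Curv2.IsNodalFamily (U.ι ≫ φ) := fun x => by
    rcases hch x with ⟨A, j, hj, U, hx, q, hq, f, fD, hf, hfq, -, -⟩ | ⟨A, j, hj, U, hx, q, hq, a, f, hf, hfq, -⟩
    · refine ⟨U, hx, ?_⟩
      rw [hq, ← hfq]
      exact NodeLib.isNodalFamily_postcomp j _
        (NodeLib.isNodalFamily_precomp _ (StrictSSLib.isNodalFamily_lineToBase A) f)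
    · refine ⟨U, hx, ?_⟩
      rw [hq, ← hfq]
      exact NodeLib.isNodalFamily_postcomp j _
        (NodeLib.isNodalFamily_precomp _ (StrictSSLib.isNodalFamily_nodeToBase A a) f)
  choose U hxU hU using hnodal
  have hN : Curv2.IsNodalFamily φ := NodeLib.isNodalFamily_of_etale_cover φ C (fun x => (U x : Scheme.{u}))
    (fun x => (U x).ι) (fun x => ⟨x, ⟨x, hxU x⟩, rfl⟩) hU
  have hline : ∀ d : D, ∃ (V : D.Opens), d ∈ V ∧ Etale (V.ι ≫ i ≫ φ) ∧ i d ∈ φ.smoothLocus := fun d => by
    rcases hch (i d) with ⟨A, j, hj, U, hx, q, hq, f, fD, hf, hfq, hfD, hsq⟩ | ⟨A, j, hj, U, hx, q, hq, a, f, hf, -, hdisj⟩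
    · refine ⟨i ⁻¹ᵁ U, hx, ?_, ?_⟩
      · have hz : StrictSS.lineZero A ≫ StrictSS.lineToBase A = 𝟙 _ := by
          simp only [StrictSS.lineZero, StrictSS.lineToBase, ← Spec.map_comp, ← Spec.map_id]
          congr 1
          ext x; simp
        have : (i ⁻¹ᵁ U).ι ≫ i ≫ φ = fD ≫ j := by
          rw [← morphismRestrict_ι_assoc i U φ, hq, ← hfq, ← Category.assoc, ← Category.assoc, ← hsq,
            Category.assoc, Category.assoc, reassoc_of% hz]
        rw [this]; infer_instance
      · have hsm : Smooth (U.ι ≫ φ) := by
          haveI : Smooth (StrictSS.lineToBase A) := by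
            rw [HasRingHomProperty.Spec_iff (P := @Smooth)]
            exact RingHom.smooth_algebraMap.mpr ⟨inferInstance, inferInstance⟩
          rw [hq, ← hfq]; infer_instance
        have h1 : (⟨i d, hx⟩ : U) ∈ (U.ι ≫ φ).smoothLocus := by rw [Scheme.Hom.smoothLocus_eq_top]; trivial
        rw [← Scheme.Hom.preimage_smoothLocus_eq U.ι φ] at h1
        exact h1
    · exact absurd hx (Set.disjoint_left.mp hdisj ⟨d, rfl⟩)
  choose V hdV hV hsmo using hline
  refine ⟨hmp', hN, ?_, ?_⟩
  · exact IsZariskiLocalAtSource.of_iSup_eq_top (P := @Etale) V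
      (TopologicalSpace.Opens.ext (Set.eq_univ_of_forall fun d => by
        rw [TopologicalSpace.Opens.coe_iSup]; exact Set.mem_iUnion.mpr ⟨d, hdV d⟩)) hV
  · rw [Set.disjoint_left]
    rintro _ ⟨d, rfl⟩ hd
    exact hd (hsmo d)

end Groth.Agent.S15645
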