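import Groth.Statements.S15651
import Groth.Agent.AVSplitLib.Regular

set_option autoImplicit false
set_option linter.style.haveILetI false
set_option backward.isDefEq.respectTransparency false
set_option backward.isDefEq.respectTransparency.types false
set_option maxHeartbeats 1000000
set_option synthInstance.maxHeartbeats 200000
universe u
open CategoryTheory MonoidalCategory CartesianMonoidalCategory MonObj GrpObj AlgebraicGeometry
open AbVar

namespace Groth.Agent.S15651

/-- Let A be an abelian variety over a field k (a proper, geometrically integral commutative group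
scheme over k). Then the rational endomorphism algebra End⁰(A) = ℚ ⊗_ℤ End_k(A), where End_k(A) is
the ring of endomorphisms of A defined over k (sum pointwise in the group law, product by
composition), is a semisimple ring. -/
theorem result (k : Type u) [Field k]
    (A : Over (Spec (CommRingCat.of k)))
    [GrpObj A] [IsCommMonObj A] [IsProper A.hom] [GeometricallyIntegral A.hom] :
    IsSemisimpleRing (EndAV.End0 A) := by
  haveI : Module.Finite ℤ (EndAV.End A) := Groth.Agent.AVHomForm.moduleFinite_hom (A := A) (B := A)
  haveI : Module.Finite ℚ (EndAV.End0 A) := Module.Finite.base_change ℤ ℚ (EndAV.End A)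
  haveI : IsArtinianRing (EndAV.End0 A) := isArtinian_of_tower ℚ inferInstance
  rw [IsArtinianRing.isSemisimpleRing_iff_jacobson, eq_bot_iff]
  intro x hx
  obtain ⟨y, hy⟩ := Groth.Agent.AVSplitLib.exists_regular x
  rw [← Ideal.jacobson_bot] at hx
  obtain ⟨z, hz⟩ := Ideal.mem_jacobson_iff.1 (Ideal.mul_mem_right y _ hx) (-1)
  rw [Ideal.mem_bot] at hz
  have h1 : z * (1 - x * y) = 1 := by
    rw [← sub_eq_zero, ← hz]
    have e1 : z * -1 * (x * y) = -(z * (x * y)) :=
      (congrArg (· * (x * y)) (mul_neg_one z)).trans (neg_mul z (x * y))
    rw [e1, mul_sub, _root_.mul_one]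
    abel
  rw [Ideal.mem_bot]
  calc x = z * (1 - x * y) * x := by rw [h1, _root_.one_mul]
    _ = 0 := by rw [_root_.mul_assoc, sub_mul, _root_.one_mul, hy, sub_self, mul_zero]

end Groth.Agent.S15651
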