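import Groth.Statements.S15653
import Groth.Agent.TateIsog.Field

set_option autoImplicit false
set_option backward.isDefEq.respectTransparency false
set_option backward.isDefEq.respectTransparency.types false
set_option maxHeartbeats 1000000
set_option linter.style.haveILetI false
universe u
open CategoryTheory MonoidalCategory CartesianMonoidalCategory MonObj GrpObj AlgebraicGeometry
open AbVar

namespace Groth.Agent.S15653
open Groth.Agent

/-- Let A be a simple abelian variety of dimension g over a finite field k with q elements — a proper,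
geometrically integral commutative group scheme over k, of Krull dimension g, whose only abelian
subvarieties over k (geometrically integral closed subgroup schemes) are the trivial subgroup and A
itself — and π_A its q-Frobenius endomorphism (the identity on points and the q-th power map on
sections; a homomorphism). Then End⁰(A) = ℚ ⊗_ℤ End_k(A) is finite-dimensional over ℚ and its
reduced degree [End⁰(A) : ℚ[π_A]]^(1/2) · [ℚ[π_A] : ℚ] equals 2g: there is a natural number n such
that End⁰(A) has rank n² as a module (by left multiplication) over the ℚ-subalgebra ℚ[π_A] generated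
by the image of π_A — a field when A is non-trivial — and n · [ℚ[π_A] : ℚ] = 2g. -/
theorem result (k : Type u) [Field k] [Finite k]
    (A : Over (Spec (CommRingCat.of k)))
    [GrpObj A] [IsCommMonObj A] [IsProper A.hom] [GeometricallyIntegral A.hom]
    (g : ℕ) (hg : topologicalKrullDim A.left = g)
    (hsimple : ∀ (B : Over (Spec (CommRingCat.of k))) [GrpObj B] [GeometricallyIntegral B.hom] (i : B ⟶ A) [IsMonHom i]
      [IsClosedImmersion i.left], Subsingleton B.left ∨ IsIso i)
    (πA : A ⟶ A) [IsMonHom πA] (hπAb : πA.left.base = 𝟙 _)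
    (hπAle : ∀ U : A.left.Opens, U ≤ πA.left ⁻¹ᵁ U)
    (hπAapp : ∀ (U : A.left.Opens) (s : Γ(A.left, U)), (πA.left.appLE U U (hπAle U)).hom s = s ^ Nat.card k) :
    Module.Finite ℚ (EndAV.End0 A) ∧ ∃ n : ℕ,
      Module.finrank (EndAV.QAdj (EndAV.End.of πA)) (EndAV.End0 A) = n ^ 2 ∧
      n * Module.finrank ℚ (EndAV.QAdj (EndAV.End.of πA)) = 2 * g := by
  classical
  haveI : Module.Finite ℤ (EndAV.End A) := AVHomForm.moduleFinite_hom (A := A) (B := A)
  haveI : Module.Finite ℚ (EndAV.End0 A) := Module.Finite.base_change ℤ ℚ (EndAV.End A)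
  refine ⟨inferInstance, ?_⟩
  have hπ : WeilLib.IsPowMap (EndAV.End.of πA).toHom.left (Nat.card k) :=
    WeilLib.isPowMap_of_hyp πA.left _ hπAb hπAle hπAapp
  rcases subsingleton_or_nontrivial (EndAV.End0 A) with hs | hs
  · haveI : Subsingleton (EndAV.QAdj (EndAV.End.of πA)) := ⟨fun a b => Subtype.ext (Subsingleton.elim _ _)⟩
    obtain ⟨l, hp, hl⟩ := AVHomForm.exists_prime_ne_zero (k := k)
    obtain ⟨hfree, hfin, hrk⟩ := AVHomForm.tate_free (AlgebraicClosure k) l hl A hg
    have hg0 : 2 * g = 0 := by
      rw [← hrk]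
      haveI := hfree; haveI := hfin
      have h1 : (1 : EndAV.End A) = 0 := AVCharpoly.toEnd0_injective (Subsingleton.elim _ _)
      have h2 := congrArg (EndAV.End.tateRep l (SGA7.pt (AlgebraicClosure k))) h1
      rw [map_one, map_zero] at h2
      haveI : Subsingleton (AbDual.TateMod A l (SGA7.pt (AlgebraicClosure k))) := ⟨fun x y => by
        rw [← Module.End.one_apply (R := ℤ_[l]) x, ← Module.End.one_apply (R := ℤ_[l]) y, h2, LinearMap.zero_apply,
          LinearMap.zero_apply]⟩
      exact Module.finrank_zero_of_subsingleton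
    refine ⟨1, ?_, by rw [hg0, Module.finrank_zero_of_subsingleton, mul_zero]⟩
    rw [one_pow, Module.finrank, rank_subsingleton, Cardinal.one_toNat]
  · have hK : IsField (EndAV.QAdj (EndAV.End.of πA)) := by
      haveI : NoZeroDivisors (EndAV.End0 A) := ⟨fun {a b} hab => by
        by_contra hc
        push Not at hc
        exact ((AVSimpleLib.isUnit_of_ne_zero hsimple a hc.1).mul (AVSimpleLib.isUnit_of_ne_zero hsimple b hc.2)).ne_zero hab⟩
      exact TateIsog.isField_qAdj (EndAV.End.of πA)
    obtain ⟨l, hp, hl⟩ := AVHomForm.exists_prime_ne_zero (k := k)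
    obtain ⟨hfree, hfin, hrk⟩ := AVHomForm.tate_free (AlgebraicClosure k) l hl A hg
    haveI : Module.Free ℤ_[l] (AbDual.TateMod A l (SGA7.pt (AlgebraicClosure k))) := hfree
    haveI : Module.Finite ℤ_[l] (AbDual.TateMod A l (SGA7.pt (AlgebraicClosure k))) := hfin
    obtain ⟨P, -, -, -, hP⟩ := AVCharpoly.exists_charpoly (AlgebraicClosure k) l hl hg (EndAV.End.of πA)
    obtain ⟨d, h1, h2, -⟩ := TateIsog.field_invariants (Ω := AlgebraicClosure k) l hl _ hπ hg hP hK
    refine ⟨d, ?_, h2⟩
    letI : Field (EndAV.QAdj (EndAV.End.of πA)) := hK.toField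
    have h3 := Module.finrank_mul_finrank ℚ (EndAV.QAdj (EndAV.End.of πA)) (EndAV.End0 A)
    rw [h1] at h3
    exact Nat.eq_of_mul_eq_mul_left Module.finrank_pos h3

end Groth.Agent.S15653
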