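import Groth.Statements.S15654
import Groth.Agent.AVFrobLib.Data

set_option autoImplicit false
universe u
open CategoryTheory MonoidalCategory CartesianMonoidalCategory MonObj GrpObj AlgebraicGeometry
open AbVar

namespace Groth.Agent.S15654

/-- First assertion: let A be an abelian variety over a finite field k with q elements (a proper,
geometrically integral commutative group scheme over k) and π_A its q-Frobenius endomorphism (the
identity on points and the q-th power map on sections; a homomorphism). Then the ℚ-subalgebra ℚ[π_A]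
of End⁰(A) = ℚ ⊗_ℤ End_k(A) (End_k(A) the ring of endomorphisms defined over k) generated by the
image 1 ⊗ π_A of the Frobenius endomorphism is a semisimple ring. -/
theorem result (k : Type u) [Field k] [Finite k]
    (A : Over (Spec (CommRingCat.of k)))
    [GrpObj A] [IsCommMonObj A] [IsProper A.hom] [GeometricallyIntegral A.hom]
    (πA : A ⟶ A) [IsMonHom πA] (hπAb : πA.left.base = 𝟙 _)
    (hπAle : ∀ U : A.left.Opens, U ≤ πA.left ⁻¹ᵁ U)
    (hπAapp : ∀ (U : A.left.Opens) (s : Γ(A.left, U)), (πA.left.appLE U U (hπAle U)).hom s = s ^ Nat.card k) :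
    IsSemisimpleRing (EndAV.QAdj (EndAV.End.of πA)) := by
  have hπ : Groth.Agent.WeilLib.IsPowMap (EndAV.End.of πA).toHom.left (Nat.card k) :=
    Groth.Agent.WeilLib.isPowMap_of_hyp πA.left _ hπAb hπAle hπAapp
  obtain ⟨ν, hm, h0, he, hli⟩ := Groth.Agent.AVCharpoly.exists_int_minpoly (EndAV.End.of πA)
  refine Groth.Agent.AVFrobLib.isSemisimpleRing_adjoin (EndAV.toEnd0 (EndAV.End.of πA)) ?_ ?_
  · exact ⟨ν.map (Int.castRingHom ℚ), hm.map _, by
      show Polynomial.aeval (EndAV.toEnd0 (EndAV.End.of πA)) (ν.map (Int.castRingHom ℚ)) = 0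
      rw [he, minpoly.aeval]⟩
  · rw [← he]
    exact (Groth.Agent.AVFrobLib.separable_minpoly (EndAV.End.of πA) hπ hm h0 hli).squarefree

end Groth.Agent.S15654
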