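import Groth.Statements.S15701


set_option autoImplicit false
open CategoryTheory CategoryTheory.Limits
universe u
open CategoryTheory AlgebraicGeometry
open RatVar

namespace Groth.Agent.S15701

/-- A faithful action of a finite group on a geometrically integral variety is almost free. Here k is a
field of characteristic zero, X is an integral separated scheme of finite type over k, and the
finite group G acts on X by k-automorphisms through an injective homomorphism to Aut X; the
conclusion is a non-empty G-stable open subscheme U of X such that for every field K and every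
morphism Spec K → X whose image lies in U, an element of G fixing that K-point is the identity. (X
is taken separated: for the affine line with a doubled origin and the involution exchanging the two
origins the action is faithful while every point off the origins is fixed, so no such U exists;
integrality replaces geometric integrality, which is all the codimension argument uses.) -/
theorem result (k : Type u) [Field k] [CharZero k]
    (X : Scheme.{u}) (f : X ⟶ Spec (CommRingCat.of k)) [IsIntegral X] [LocallyOfFiniteType f]
    [QuasiCompact f] [IsSeparated f]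
    (G : Type u) [Group G] [Finite G] (ρ : G →* Aut X)
    (hρ : ∀ g : G, (ρ g).hom ≫ f = f) (hfaith : Function.Injective ρ) :
    ∃ U : X.Opens, (U : Set X).Nonempty ∧ (∀ g : G, (ρ g).hom ⁻¹ᵁ U = U) ∧
      ∀ (K : Type u) [Field K] (x : Spec (CommRingCat.of K) ⟶ X),
        Set.range x.base ⊆ (U : Set X) → ∀ g : G, x ≫ (ρ g).hom = x → g = 1 := by
  classical
  let d : ∀ g : G, X ⟶ pullback f f := fun g =>
    pullback.lift (𝟙 X) (ρ g).hom (by rw [Category.id_comp, hρ])
  let i : ∀ g : G, pullback (d g) (pullback.diagonal f) ⟶ X := fun g => pullback.fst _ _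
  have hi : ∀ g, IsClosedImmersion (i g) := fun g => inferInstance
  have heq : ∀ g, i g ≫ (ρ g).hom = i g := fun g => by
    have h := pullback.condition (f := d g) (g := pullback.diagonal f)
    have h1 := congrArg (· ≫ pullback.fst f f) h
    have h2 := congrArg (· ≫ pullback.snd f f) h
    simp only [d, Category.assoc, pullback.lift_fst, pullback.lift_snd, pullback.diagonal_fst,
      pullback.diagonal_snd, Category.comp_id] at h1 h2
    exact h2.trans h1.symm
  have hne : ∀ g : G, g ≠ 1 → Set.range (i g).base ≠ Set.univ := by
    intro g hg hu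
    apply hg
    haveI : Surjective (i g) := ⟨Set.range_eq_univ.1 hu⟩
    haveI := hi g
    haveI : IsIso (i g) := isIso_of_isClosedImmersion_of_surjective (i g)
    apply hfaith
    rw [map_one]
    refine Iso.ext ?_
    exact (cancel_epi (i g)).1 ((heq g).trans (Category.comp_id _).symm)
  have hmem : ∀ (g : G) (K : Type u) [Field K] (x : Spec (CommRingCat.of K) ⟶ X),
      x ≫ (ρ g).hom = x → ∀ z, x z ∈ Set.range (i g).base := by
    intro g K _ x hx z
    let l : Spec (CommRingCat.of K) ⟶ pullback (d g) (pullback.diagonal f) :=
      pullback.lift x x (by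
        apply pullback.hom_ext
        · simp only [d, Category.assoc, pullback.lift_fst, pullback.diagonal_fst, Category.comp_id]
        · simp only [d, Category.assoc, pullback.lift_snd, pullback.diagonal_snd, Category.comp_id]
          exact hx)
    refine ⟨l z, ?_⟩
    have hl : l ≫ i g = x := pullback.lift_fst _ _ _
    exact congr($(hl).base z)
  have hcl : ∀ g, IsClosed (Set.range (i g).base) := fun g => (i g).isClosedEmbedding.isClosed_range
  let Z : G × G → Set X := fun p => (ρ p.1).hom.base ⁻¹' Set.range (i p.2).base
  let U₀ : Set X := ⋂ p ∈ {p : G × G | p.2 ≠ 1}, (Z p)ᶜ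
  have hU₀ : IsOpen U₀ :=
    (Set.toFinite _).isOpen_biInter fun p _ => ((hcl p.2).preimage (ρ p.1).hom.continuous).isOpen_compl
  have hne' : U₀.Nonempty := by
    refine ⟨genericPoint X, Set.mem_iInter₂.2 fun p hp hmem' => ?_⟩
    have hall : Set.univ ⊆ Z p := by
      rw [← genericPoint_closure (α := X)]
      exact closure_minimal (Set.singleton_subset_iff.2 hmem') ((hcl p.2).preimage (ρ p.1).hom.continuous)
    refine hne p.2 hp (Set.eq_univ_of_forall fun y => ?_)
    obtain ⟨w, rfl⟩ : ∃ w, (ρ p.1).hom.base w = y := ⟨(ρ p.1).inv.base y, congr($((ρ p.1).inv_hom_id).base y)⟩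
    exact hall (Set.mem_univ w)
  refine ⟨⟨U₀, hU₀⟩, hne', fun g => ?_, ?_⟩
  · refine TopologicalSpace.Opens.ext (Set.ext fun y => ?_)
    have key : ∀ (a : G) (y : X), (ρ a).hom.base ((ρ g).hom.base y) = (ρ (a * g)).hom.base y := fun a y => by
      rw [map_mul, Aut.Aut_mul_def]
      rfl
    show (ρ g).hom.base y ∈ U₀ ↔ y ∈ U₀
    simp only [U₀, Z, Set.mem_iInter₂, Set.mem_compl_iff, Set.mem_preimage, key]
    refine ⟨fun h p hp => ?_, fun h p hp => ?_⟩
    · have := h (p.1 * g⁻¹, p.2) hp
      rwa [inv_mul_cancel_right] at this
    · exact h (p.1 * g, p.2) hp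
  · intro K _ x hx g hg
    by_contra h1
    have h := Set.mem_iInter₂.1 (hx ⟨IsLocalRing.closedPoint K, rfl⟩) (1, g) h1
    refine h ?_
    show (ρ 1).hom.base _ ∈ Set.range (i g).base
    rw [map_one]
    exact hmem g K x hg _

end Groth.Agent.S15701
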