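import Groth.Statements.S15712
import Groth.Agent.LC.GorFlat
import Groth.Agent.AlgSpDec.CodimOne
import Groth.Agent.DimFormula.Codim

set_option autoImplicit false
universe u
open CategoryTheory AlgebraicGeometry TopologicalSpace
open RatSing

namespace Groth.Agent.S15712

/-- Let X be a locally Noetherian scheme with Serre's property (S_1), i.e. every local ring O_{X,x} has
depth at least min(1, dim O_{X,x}) (for instance X Cohen–Macaulay), and let U ⊆ X be open. Then
scheme-theoretic density of U in X is equivalent to U being dense as a subset. (The published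
statement assumes every scheme excellent, in particular locally Noetherian.) -/
theorem result (X : Scheme.{u}) [IsLocallyNoetherian X]
    (hS1 : ∀ x : X, min (1 : WithBot ℕ∞) (ringKrullDim (X.presheaf.stalk x)) ≤
      ((LocCoh.depth (X.presheaf.stalk x) (X.presheaf.stalk x) : ℕ∞) : WithBot ℕ∞))
    (U : X.Opens) : CInt.IsSchematicallyDense U ↔ Dense (U : Set X) := by
  constructor
  · intro hU
    rw [dense_iff_inter_open]
    intro V hV hne
    by_contra hempty
    let W : X.Opens := ⟨V, hV⟩
    have hbot : W ⊓ U = ⊥ := SetLike.coe_injective (by simpa [W, Set.not_nonempty_iff_eq_empty] using hempty)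
    haveI : Subsingleton Γ(X, W ⊓ U) := by rw [hbot]; infer_instance
    haveI : Subsingleton Γ(X, W) := (hU W).subsingleton
    obtain ⟨x, hx⟩ := hne
    refine zero_ne_one (α := X.presheaf.stalk x) ?_
    rw [← map_zero (X.presheaf.germ W x hx).hom, ← map_one (X.presheaf.germ W x hx).hom,
      Subsingleton.elim (0 : Γ(X, W)) 1]
  · intro hd V
    rw [injective_iff_map_eq_zero]
    intro t ht
    by_contra hne
    obtain ⟨x, hxV, hx⟩ : ∃ (x : X) (hx : x ∈ V), X.presheaf.germ V x hx t ≠ 0 := by
      by_contra hall
      push Not at hall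
      exact hne (TopCat.Presheaf.section_ext X.sheaf V t 0 fun x hx => (hall x hx).trans (map_zero _).symm)
    obtain ⟨W, hW, hxW, hWV⟩ := exists_isAffineOpen_mem_and_subset (x := x) (U := V) hxV
    haveI : IsNoetherianRing Γ(X, W) := IsLocallyNoetherian.component_noetherian ⟨W, hW⟩
    let A := Γ(X, W)
    let t' : A := X.presheaf.map (homOfLE (show W ≤ V from hWV)).op t
    have ht' : t' ≠ 0 := fun h0 => hx (by
      rw [← X.presheaf.germ_res_apply (homOfLE (show W ≤ V from hWV)) x hxW t]
      exact (congrArg (X.presheaf.germ W x hxW) h0).trans (map_zero _))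
    haveI : Nontrivial (Submodule.span A {t'}) :=
      ⟨⟨t', Submodule.mem_span_singleton_self t'⟩, 0, fun h => ht' (congrArg Subtype.val h)⟩
    obtain ⟨P, hP⟩ := associatedPrimes.nonempty A (Submodule.span A {t'})
    rw [AssociatedPrimes.mem_iff, isAssociatedPrime_iff_exists_injective_linearMap] at hP
    obtain ⟨hPprime, φ, hφ⟩ := hP
    let c : A := (φ (Submodule.Quotient.mk 1)).1
    have hann : ∀ a : A, a * c = 0 ↔ a ∈ P := fun a => by
      have h1 : a • φ (Submodule.Quotient.mk 1) = φ (Submodule.Quotient.mk a) := by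
        rw [← map_smul, ← Submodule.Quotient.mk_smul, smul_eq_mul, mul_one]
      have h2 : a * c = (φ (Submodule.Quotient.mk a)).1 := congrArg Subtype.val h1
      rw [h2, ZeroMemClass.coe_eq_zero, map_eq_zero_iff φ hφ, Submodule.Quotient.mk_eq_zero]
    obtain ⟨b, hb⟩ : ∃ b : A, b * t' = c :=
      (Submodule.mem_span_singleton.1 (φ (Submodule.Quotient.mk 1)).2).imp fun _ h => h
    let y : X := hW.fromSpec ⟨P, hPprime⟩
    have hyW : y ∈ W := by
      have : y ∈ Set.range hW.fromSpec := ⟨_, rfl⟩
      rwa [hW.range_fromSpec] at this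
    letI := TopCat.Presheaf.algebra_section_stalk X.presheaf ⟨y, hyW⟩
    have hloc : IsLocalization.AtPrime (X.presheaf.stalk y) P := by
      have h := hW.isLocalization_stalk' ⟨P, hPprime⟩ hyW
      exact h
    -- the germ of `c` spans the socle
    let s : X.presheaf.stalk y := algebraMap A (X.presheaf.stalk y) c
    have hs : s ≠ 0 := fun h0 => by
      obtain ⟨m, hm⟩ := (IsLocalization.map_eq_zero_iff P.primeCompl (X.presheaf.stalk y) c).1 h0
      exact m.2 ((hann m.1).1 hm)
    have hms : ∀ r ∈ IsLocalRing.maximalIdeal (X.presheaf.stalk y), r * s = 0 := fun r hr => by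
      obtain ⟨a, m, rfl⟩ := IsLocalization.exists_mk'_eq P.primeCompl r
      have ha : a ∈ P := (IsLocalization.AtPrime.mk'_mem_maximal_iff (X.presheaf.stalk y) P a m).1 hr
      rw [show s = IsLocalization.mk' (X.presheaf.stalk y) c (1 : P.primeCompl) from (IsLocalization.mk'_one _ c).symm, ← IsLocalization.mk'_mul, (hann a).2 ha, IsLocalization.mk'_zero]
    have hdepth := Groth.Agent.LC.depth_eq_zero_of_socle hs hms
    have hy0 : DimFormula.codim y = 0 := by
      have h := hS1 y
      rw [hdepth, DimFormula.ringKrullDim_stalk] at h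
      rcases Nat.eq_zero_or_pos (DimFormula.codim y) with h0 | hpos
      · exact h0
      · rw [min_eq_left (by exact_mod_cast hpos)] at h
        exact absurd (show (1 : ℕ) ≤ 0 by exact_mod_cast h) (by omega)
    have hyU : y ∈ U := AlgSpDec.CodimOne.mem_of_dense U.isOpen hd (by
      have h := DimFormula.coe_codim y
      rw [hy0] at h
      simpa using h.symm)
    refine hs ?_
    have hgt : X.presheaf.germ W y hyW t' = 0 := by
      rw [X.presheaf.germ_res_apply, ← X.presheaf.germ_res_apply (homOfLE (inf_le_left : V ⊓ U ≤ V)) y ⟨hWV hyW, hyU⟩ t]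
      exact (congrArg (X.presheaf.germ (V ⊓ U) y ⟨hWV hyW, hyU⟩) ht).trans (map_zero _)
    show X.presheaf.germ W y hyW c = 0
    rw [← hb, map_mul, hgt, mul_zero]

end Groth.Agent.S15712
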