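import Groth.Statements.S15715
import Groth.Agent.QCoh.Localize
import Mathlib.RingTheory.Ideal.AssociatedPrime.Finiteness

set_option autoImplicit false
universe u
open CategoryTheory AlgebraicGeometry TopologicalSpace
open RatSing

namespace Groth.Agent.S15715

/-- Let X be a locally Noetherian scheme, φ : F → G a homomorphism of O_X-modules with F quasi-coherent
and torsion-free (over every affine open V, no nonzero section of F is killed by a regular element
of O_X(V)), and U a scheme-theoretically dense open subset of X such that the restriction of φ to U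
is injective. Then φ is injective. (The published statement allows an arbitrary O_X-module F; for
the skyscraper sheaf on the affine line over a field, placed at a closed point with value the local
ring at that point, which is torsion-free in this sense, the zero map to the zero module is
injective over the dense open complement of the point but not injective. This row takes F
quasi-coherent.) -/
theorem result (X : Scheme.{u})
    [IsLocallyNoetherian X] (F G : X.Modules) (hF : Coh.IsQCoh F)
    (htf : ∀ V : X.affineOpens, Submodule.torsion Γ(X, V.1) (F.val.obj (Opposite.op V.1)) = ⊥)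
    (φ : F ⟶ G) (U : X.Opens) (hU : CInt.IsSchematicallyDense U)
    (hφU : ∀ V : X.Opens, V ≤ U → Function.Injective ⇑(ConcreteCategory.hom (φ.val.app (Opposite.op V)))) (V : X.Opens) :
    Function.Injective ⇑(ConcreteCategory.hom (φ.val.app (Opposite.op V))) := by
  -- injectivity on affine opens
  have key : ∀ W : X.Opens, IsAffineOpen W → ∀ m : Γ(F, W), φ.app W m = 0 → m = 0 := by
    intro W hW m hm
    haveI : IsNoetherianRing Γ(X, W) := IsLocallyNoetherian.component_noetherian ⟨W, hW⟩
    let Z : Set (PrimeSpectrum Γ(X, W)) := hW.fromSpec ⁻¹' (U : Set X)ᶜ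
    have hZ : IsClosed Z := U.isOpen.isClosed_compl.preimage hW.fromSpec.continuous
    let J := PrimeSpectrum.vanishingIdeal Z
    have hJ : ∀ P : PrimeSpectrum Γ(X, W), J ≤ P.asIdeal → hW.fromSpec P ∉ U := fun P hP => by
      have h1 : P ∈ PrimeSpectrum.zeroLocus (J : Set Γ(X, W)) := hP
      rw [PrimeSpectrum.zeroLocus_vanishingIdeal_eq_closure, hZ.closure_eq] at h1
      exact h1
    have hass : ∀ P ∈ associatedPrimes Γ(X, W) Γ(X, W), ¬ J ≤ P := by
      intro P hP hle
      rw [AssociatedPrimes.mem_iff, isAssociatedPrime_iff_exists_injective_linearMap] at hP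
      obtain ⟨hPprime, ψ, hψ⟩ := hP
      let c : Γ(X, W) := ψ (Submodule.Quotient.mk 1)
      have hann : ∀ a : Γ(X, W), a * c = 0 ↔ a ∈ P := fun a => by
        rw [show a * c = ψ (Submodule.Quotient.mk a) by
          show a • ψ (Submodule.Quotient.mk 1) = _
          rw [← map_smul, ← Submodule.Quotient.mk_smul, smul_eq_mul, mul_one],
          map_eq_zero_iff ψ hψ, Submodule.Quotient.mk_eq_zero]
      have hc : c ≠ 0 := fun h0 => hPprime.ne_top ((Ideal.eq_top_iff_one P).2 ((hann 1).1 (by rw [h0, mul_zero])))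
      refine hc (hU W ?_)
      rw [map_zero]
      refine TopCat.Presheaf.section_ext X.sheaf (W ⊓ U) _ _ fun q hq => ?_
      change X.presheaf.germ (W ⊓ U) q hq (X.presheaf.map (homOfLE (inf_le_left : W ⊓ U ≤ W)).op c) = X.presheaf.germ (W ⊓ U) q hq 0
      rw [X.presheaf.germ_res_apply, map_zero]
      obtain ⟨Q, rfl⟩ : ∃ Q, hW.fromSpec Q = q := by
        have h1 : q ∈ (W : Set X) := hq.1
        rwa [← hW.range_fromSpec] at h1
      letI := TopCat.Presheaf.algebra_section_stalk X.presheaf (⟨hW.fromSpec Q, hq.1⟩ : W)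
      have hloc : IsLocalization.AtPrime (X.presheaf.stalk (hW.fromSpec Q)) Q.asIdeal :=
        hW.isLocalization_stalk' Q hq.1
      change algebraMap Γ(X, W) (X.presheaf.stalk (hW.fromSpec Q)) c = 0
      rw [IsLocalization.map_eq_zero_iff Q.asIdeal.primeCompl]
      obtain ⟨a, haP, haQ⟩ : ∃ a ∈ P, a ∉ Q.asIdeal :=
        SetLike.not_le_iff_exists.1 fun hPQ => hJ Q (hle.trans hPQ) hq.2
      exact ⟨⟨a, haQ⟩, (hann a).2 haP⟩
    obtain ⟨r, hrJ, hr⟩ : ∃ r ∈ J, r ∈ nonZeroDivisors Γ(X, W) := by
      by_contra hcon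
      push Not at hcon
      have hsub : (J : Set Γ(X, W)) ⊆ ⋃ P ∈ associatedPrimes Γ(X, W) Γ(X, W), (P : Set Γ(X, W)) := by
        rw [biUnion_associatedPrimes_eq_compl_nonZeroDivisors]
        exact fun r hr => hcon r hr
      let S := (associatedPrimes.finite Γ(X, W) Γ(X, W)).toFinset
      have hsub' : (J : Set Γ(X, W)) ⊆ ⋃ P ∈ (S : Set (Ideal Γ(X, W))), (P : Set Γ(X, W)) := by
        simpa [S] using hsub
      obtain ⟨P, hP, hle⟩ := (Ideal.subset_union_prime (f := fun P : Ideal Γ(X, W) => P) ⊤ ⊤
        (fun P hP _ _ => ((associatedPrimes.finite Γ(X, W) Γ(X, W)).mem_toFinset.1 hP).isPrime)).1 hsub'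
      exact hass P ((associatedPrimes.finite Γ(X, W) Γ(X, W)).mem_toFinset.1 hP) hle
    have hbo : X.basicOpen r ≤ U := fun q hq => by
      obtain ⟨Q, rfl⟩ : ∃ Q, hW.fromSpec Q = q := by
        have h1 : q ∈ (W : Set X) := X.basicOpen_le r hq
        rwa [← hW.range_fromSpec] at h1
      by_contra hqU
      have h1 : Q ∈ PrimeSpectrum.basicOpen r := by
        rw [← hW.fromSpec_preimage_basicOpen r]
        exact hq
      exact h1 ((PrimeSpectrum.mem_vanishingIdeal Z r).1 hrJ Q hqU)
    have hres : F.presheaf.map (homOfLE (X.basicOpen_le r)).op m = 0 := by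
      refine hφU _ hbo ?_
      refine Eq.trans ?_ (map_zero _).symm
      refine (ConcreteCategory.congr_hom (φ.mapPresheaf.naturality (homOfLE (X.basicOpen_le r)).op) m).trans ?_
      exact (congrArg (G.presheaf.map (homOfLE (X.basicOpen_le r)).op) hm).trans (map_zero _)
    obtain ⟨n, hn⟩ := Groth.Agent.QCoh.exists_pow_smul_eq_zero hF hW r m hres
    have hmem : m ∈ Submodule.torsion Γ(X, W) (F.val.obj (Opposite.op W)) :=
      ⟨⟨r ^ n, pow_mem hr n⟩, hn⟩
    exact (Submodule.mem_bot Γ(X, W)).1 ((htf ⟨W, hW⟩).le hmem)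
  change Function.Injective (φ.app V)
  rw [injective_iff_map_eq_zero]
  intro m hm
  refine TopCat.Presheaf.section_ext ⟨F.presheaf, F.isSheaf⟩ V m 0 fun x hx => ?_
  obtain ⟨W, hW, hxW, hWV⟩ := exists_isAffineOpen_mem_and_subset (x := x) (U := V) hx
  change F.presheaf.germ V x hx m = F.presheaf.germ V x hx 0
  rw [map_zero, ← F.presheaf.germ_res_apply (homOfLE (show W ≤ V from hWV)) x hxW m,
    key W hW (F.presheaf.map (homOfLE (show W ≤ V from hWV)).op m) ?_, map_zero]
  refine (ConcreteCategory.congr_hom (φ.mapPresheaf.naturality (homOfLE (show W ≤ V from hWV)).op) m).trans ?_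
  exact (congrArg (G.presheaf.map (homOfLE (show W ≤ V from hWV)).op) hm).trans (map_zero _)

end Groth.Agent.S15715
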