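import Groth.Statements.S15723
import Groth.Agent.H1GeomHt.Basic

set_option autoImplicit false
universe u v
open CAlg

namespace Groth.Agent.S15723

/-- Let A be a Noetherian commutative ring graded by the natural numbers, J a homogeneous ideal of
uniform geometric height h (the height of the homogeneous localization J_(f) in the degree-zero ring
A_(f) is h for every homogeneous f of positive degree outside the radical of J), and q_1, ..., q_t
finitely many prime ideals none of which contains J or the irrelevant ideal A_+. Then there are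
homogeneous elements z_1, ..., z_h of positive degree, lying in J and in no q_i, such that for every
homogeneous f of positive degree outside the radical of J and every 1 ≤ j ≤ h the ideal (z_1, ...,
z_j) has geometric height j with respect to f. (The published statement lets f range over all
homogeneous elements outside the radical of J, degree 0 included; then it fails: in A = k[t][x] with
t of degree 0 and x of degree 1, the ideal J = (t) has geometric height 1 with respect to every
homogeneous f outside its radical, f = 1 included, while (z)_(1) = 0 has height 0 for every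
homogeneous z of positive degree. This row takes f of positive degree, in the hypothesis and in the
conclusion.) -/
theorem result {R : Type u} {A : Type v} [CommRing R] [CommRing A]
    [Algebra R A] [IsNoetherianRing A] (𝒜 : ℕ → Submodule R A) [GradedRing 𝒜]
    (J : Ideal A) (hJ : J.IsHomogeneous 𝒜) (h : ℕ) (hJh : W4c2ratsingkovacs.HasUniformGeomHeight 𝒜 J h)
    (P : Finset (Ideal A)) (hP : ∀ q ∈ P, q.IsPrime ∧ ¬ J ≤ q ∧ ¬ (HomogeneousIdeal.irrelevant 𝒜).toIdeal ≤ q) :
    ∃ zs : List A, zs.length = h ∧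
      (∀ z ∈ zs, (∃ n : ℕ, 0 < n ∧ z ∈ 𝒜 n) ∧ z ∈ J ∧ ∀ q ∈ P, z ∉ q) ∧
      ∀ (f : A) (n : ℕ), 0 < n → f ∈ 𝒜 n → f ∉ J.radical →
        ∀ j : ℕ, 1 ≤ j → j ≤ h → W4c2ratsingkovacs.geomHeight 𝒜 (Ideal.ofList (zs.take j)) f = j := by
  classical
  have hJx : ∀ x : ProjectiveSpectrum 𝒜, J ≤ x.asHomogeneousIdeal.toIdeal → (h : ℕ∞) ≤ Order.height x := by
    intro x hx
    obtain ⟨d, f, hd, hf, hfx⟩ := H1GeomHt.exists_pos_notMem (𝒜 := 𝒜) x.not_irrelevant_le
    rw [← hJh f d hd hf (fun hr => hfx (x.isPrime.radical_le_iff.2 hx hr))]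
    exact H1GeomHt.geomHeight_le hf hd x hfx hx
  have hom : ∀ l : List A, (∀ z ∈ l, SetLike.IsHomogeneousElem 𝒜 z) → (Ideal.ofList l).IsHomogeneous 𝒜 :=
    fun l hl => Ideal.homogeneous_span 𝒜 _ hl
  suffices key : ∀ j ≤ h, ∃ zs : List A, zs.length = j ∧
      (∀ z ∈ zs, (∃ n : ℕ, 0 < n ∧ z ∈ 𝒜 n) ∧ z ∈ J ∧ ∀ q ∈ P, z ∉ q) ∧
      ∀ i ≤ j, ∀ x : ProjectiveSpectrum 𝒜, Ideal.ofList (zs.take i) ≤ x.asHomogeneousIdeal.toIdeal → (i : ℕ∞) ≤ Order.height x by
    obtain ⟨zs, hlen, hzs, hht⟩ := key h le_rfl
    refine ⟨zs, hlen, hzs, fun f n hn hf hfJ j _ hjh => ?_⟩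
    have hh' : (Ideal.ofList (zs.take j)).IsHomogeneous 𝒜 := hom _ fun z hz => by
      obtain ⟨⟨m, -, hm⟩, -⟩ := hzs z (List.mem_of_mem_take hz)
      exact ⟨m, hm⟩
    refine le_antisymm ?_ (H1GeomHt.le_geomHeight hh' hf hn _ (hht j hjh))
    have hle : Ideal.ofList (zs.take j) ≤ J := Ideal.span_le.2 fun z hz => (hzs z (List.mem_of_mem_take hz)).2.1
    obtain ⟨x, hfx, hx⟩ := H1GeomHt.exists_point hh' hf hn (fun hr => hfJ (Ideal.radical_mono hle hr))
    refine (H1GeomHt.geomHeight_le hf hn x hfx hx.1.2).trans ((H1GeomHt.height_le_idealHeight x).trans ?_)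
    haveI := x.isPrime
    have he : Ideal.ofList (zs.take j) = Ideal.span ((zs.take j).toFinset : Set A) := by
      rw [Ideal.ofList, List.coe_toFinset]
    rw [he] at hx
    refine (Ideal.height_le_card_of_mem_minimalPrimes_span_finset hx).trans ?_
    exact_mod_cast (List.toFinset_card_le _).trans (List.length_take_le _ _)
  intro j hj
  induction j with
  | zero => exact ⟨[], rfl, by simp, fun i hi x _ => by simp [Nat.le_zero.1 hi]⟩
  | succ j ih =>
    obtain ⟨zs, hlen, hzs, hht⟩ := ih (by omega)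
    have hI : (Ideal.ofList zs).IsHomogeneous 𝒜 := hom _ fun z hz => by
      obtain ⟨⟨m, -, hm⟩, -⟩ := hzs z hz
      exact ⟨m, hm⟩
    let S : Finset (Ideal A) := P.image (fun q => (q.homogeneousCore 𝒜).toIdeal) ∪
      ((Ideal.ofList zs).finite_minimalPrimes_of_isNoetherianRing A).toFinset.filter
        (fun p => ¬ J ≤ p ∧ ¬ (HomogeneousIdeal.irrelevant 𝒜).toIdeal ≤ p)
    obtain ⟨e, z, he, hze, hzJ, hzS⟩ := H1GeomHt.exists_avoid hJ S (by
      intro p hp
      rcases Finset.mem_union.1 hp with hp | hp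
      · obtain ⟨q, hq, rfl⟩ := Finset.mem_image.1 hp
        obtain ⟨hqp, hqJ, hqi⟩ := hP q hq
        exact ⟨hqp.homogeneousCore, (q.homogeneousCore 𝒜).isHomogeneous,
          fun h => hqJ (h.trans (q.toIdeal_homogeneousCore_le 𝒜)), fun h => hqi (h.trans (q.toIdeal_homogeneousCore_le 𝒜))⟩
      · simp only [Finset.mem_filter, Set.Finite.mem_toFinset] at hp
        exact ⟨hp.1.1.1, H1GeomHt.isHomogeneous_of_minimal hI hp.1, hp.2⟩)
    refine ⟨zs ++ [z], by simp [hlen], ?_, ?_⟩
    · intro w hw
      rcases List.mem_append.1 hw with hw | hw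
      · exact hzs w hw
      · rw [List.mem_singleton.1 hw]
        refine ⟨⟨e, he, hze⟩, hzJ, fun q hq hzq => hzS _ (Finset.mem_union_left _ (Finset.mem_image_of_mem _ hq)) ?_⟩
        exact Ideal.mem_homogeneousCore_of_homogeneous_of_mem ⟨e, hze⟩ hzq
    · intro i hi x hx
      rcases Nat.lt_or_eq_of_le hi with hi' | rfl
      · rw [List.take_append_of_le_length (by omega)] at hx
        exact hht i (by omega) x hx
      by_cases hJle : J ≤ x.asHomogeneousIdeal.toIdeal
      · exact le_trans (Nat.cast_le.2 hj) (hJx x hJle)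
      rw [List.take_of_length_le (by simp [hlen])] at hx
      have hzsx : Ideal.ofList zs ≤ x.asHomogeneousIdeal.toIdeal :=
        (Ideal.span_mono fun w (hw : w ∈ zs) => List.mem_append_left _ hw).trans hx
      haveI := x.isPrime
      obtain ⟨p, hp, hpx⟩ := Ideal.exists_minimalPrimes_le hzsx
      have hpirr : ¬ (HomogeneousIdeal.irrelevant 𝒜).toIdeal ≤ p := fun h => x.not_irrelevant_le (h.trans hpx)
      let y : ProjectiveSpectrum 𝒜 := ⟨⟨p, H1GeomHt.isHomogeneous_of_minimal hI hp⟩, hp.1.1, hpirr⟩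
      have hzp : z ∉ p := hzS p (Finset.mem_union_right _ (by
        simp only [Finset.mem_filter, Set.Finite.mem_toFinset]
        exact ⟨hp, fun h => hJle (h.trans hpx), hpirr⟩))
      have hlt : y < x := lt_of_le_of_ne hpx fun h => hzp (by
        have hz : z ∈ x.asHomogeneousIdeal.toIdeal := hx (Ideal.subset_span (List.mem_append_right _ (List.mem_singleton_self z)))
        rwa [← h] at hz)
      have h1 := hht j le_rfl y (by rw [List.take_of_length_le hlen.le]; exact hp.1.2)
      push_cast
      exact le_trans (add_le_add h1 le_rfl) (Order.height_add_one_le hlt)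

end Groth.Agent.S15723
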