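import Groth.Statements.S1574
import Groth.Agent.S5161
import Mathlib.RingTheory.Ideal.Height
import Mathlib.RingTheory.Ideal.MinimalPrime.Noetherian

set_option autoImplicit false
universe u
open CategoryTheory CategoryTheory.Limits AlgebraicGeometry
open Divisors

namespace Groth.Agent.S1574

/-- For a Noetherian local ring A, the punctured spectrum (Spec A minus the closed point, as an open
subscheme) is affine if and only if dim A ≤ 1. -/
theorem result (A : Type u) [CommRing A] [IsLocalRing A] [IsNoetherianRing A] :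
    IsAffine (FEt.puncturedSpec A : Scheme.{u}) ↔ ringKrullDim A ≤ 1 := by
  have hmem : ∀ p : Spec (CommRingCat.of A), p ∈ FEt.puncturedSpec A ↔ p ≠ IsLocalRing.closedPoint A :=
    fun p => Iff.rfl
  constructor
  · intro h
    rw [← IsLocalRing.maximalIdeal_height_eq_ringKrullDim]
    refine WithBot.coe_le_coe.2 (Groth.Agent.S5161.result A (FEt.puncturedSpec A) h (IsLocalRing.closedPoint A)
      (fun hp => hp rfl) fun q _ hq => ?_)
    by_contra hne
    exact hq ((hmem q).2 hne)
  · intro hdim
    have hht : (IsLocalRing.maximalIdeal A).height ≤ 1 := by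
      rw [← IsLocalRing.maximalIdeal_height_eq_ringKrullDim] at hdim
      exact WithBot.coe_le_coe.1 hdim
    have hminp : ∀ p : Spec (CommRingCat.of A), p ≠ IsLocalRing.closedPoint A → p.asIdeal ∈ minimalPrimes A := by
      intro p hp
      haveI : p.asIdeal.IsPrime := p.2
      refine Ideal.height_eq_zero_iff.mp ?_
      have hlt : p.asIdeal < IsLocalRing.maximalIdeal A :=
        lt_of_le_of_ne (IsLocalRing.le_maximalIdeal p.2.ne_top) fun e => hp (PrimeSpectrum.ext e)
      have h1 := Ideal.height_strict_mono_of_isPrime hlt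
      exact Order.lt_one_iff.1 (h1.trans_le hht)
    by_cases h0 : IsLocalRing.maximalIdeal A ∈ minimalPrimes A
    · have : FEt.puncturedSpec A = ⊥ := by
        refine eq_bot_iff.2 fun p hp => (hp ?_).elim
        exact PrimeSpectrum.ext (le_antisymm (IsLocalRing.le_maximalIdeal p.2.ne_top)
          (h0.2 ⟨p.2, bot_le⟩ (IsLocalRing.le_maximalIdeal p.2.ne_top)))
      rw [this]
      exact AlgebraicGeometry.isAffineOpen_bot _
    obtain ⟨f, hfm, hf⟩ : ∃ f ∈ IsLocalRing.maximalIdeal A, ∀ q ∈ minimalPrimes A, f ∉ q := by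
      have hfin := minimalPrimes.finite_of_isNoetherianRing A
      by_contra! hall
      have hsub : (IsLocalRing.maximalIdeal A : Set A) ⊆ ⋃ q ∈ (hfin.toFinset : Set (Ideal A)), (q : Set A) :=
        fun x hx => let ⟨q, hq, hxq⟩ := hall x hx; Set.mem_biUnion (hfin.mem_toFinset.2 hq) hxq
      obtain ⟨q, hq, hle⟩ := (Ideal.subset_union_prime (⊤ : Ideal A) ⊤
        (fun q hq _ _ => (hfin.mem_toFinset.1 hq).1.1)).1 hsub
      have hq' := hfin.mem_toFinset.1 hq
      exact h0 ((IsLocalRing.maximalIdeal.isMaximal A).eq_of_le hq'.1.1.ne_top hle ▸ hq')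
    have hU : FEt.puncturedSpec A = PrimeSpectrum.basicOpen f := by
      refine TopologicalSpace.Opens.ext (Set.ext fun p => ⟨fun hp => hf _ (hminp p hp), fun hp e => ?_⟩)
      exact hp (by rw [show p = IsLocalRing.closedPoint A from e]; exact hfm)
    rw [hU]
    exact AlgebraicGeometry.IsAffineOpen.Spec_basicOpen (R := CommRingCat.of A) f

end Groth.Agent.S1574
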