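import Groth.Statements.S1573
import Groth.Agent.S1574
import Mathlib.Topology.NoetherianSpace

set_option autoImplicit false
universe u
open CategoryTheory CategoryTheory.Limits AlgebraicGeometry
open Divisors

namespace Groth.Agent.S1573

/-- Let X be locally Noetherian and U an open subscheme whose inclusion is an affine morphism. At every
point ξ outside U which is maximal under generisation among points outside U, the local ring of X
has dimension at most one; if U is dense the dimension equals one. -/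
theorem result (X : Scheme.{u}) [IsLocallyNoetherian X]
    (U : X.Opens) [IsAffineHom U.ι] (ξ : X) (hξ : ξ ∉ U) (hgen : ∀ y : X, y ∉ U → y ⤳ ξ → y = ξ) :
    ringKrullDim (X.presheaf.stalk ξ) ≤ 1 ∧ (Dense (U : Set X) → ringKrullDim (X.presheaf.stalk ξ) = 1) := by
  let A := X.presheaf.stalk ξ
  let g : Spec A ⟶ X := X.fromSpecStalk ξ
  have hrange : ∀ y : X, y ⤳ ξ → ∃ z, g z = y := fun y hy => by
    have : y ∈ Set.range g := by rw [Scheme.range_fromSpecStalk]; exact hy
    exact this
  have hspec : ∀ z, g z ⤳ ξ := fun z => by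
    have : g z ∈ Set.range g := ⟨z, rfl⟩
    rw [Scheme.range_fromSpecStalk] at this
    exact this
  have hcl : g (IsLocalRing.closedPoint A) = ξ := X.fromSpecStalk_closedPoint
  have hV : (g ⁻¹ᵁ U : Set (Spec A)) = {IsLocalRing.closedPoint A}ᶜ := by
    ext z
    refine ⟨fun hz e => ?_, fun hz => ?_⟩
    · obtain rfl : z = IsLocalRing.closedPoint A := e
      exact hξ (hcl ▸ hz)
    · by_contra hzU
      exact hz (g.isEmbedding.injective ((hgen _ hzU (hspec z)).trans hcl.symm))
  have hU' : g ⁻¹ᵁ U = FEt.puncturedSpec A := TopologicalSpace.Opens.ext hV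
  have haff : IsAffine (FEt.puncturedSpec A : Scheme.{u}) := by
    haveI : IsAffineHom (g ⁻¹ᵁ U).ι :=
      MorphismProperty.of_isPullback (isPullback_morphismRestrict g U) (inferInstance : IsAffineHom U.ι)
    have := isAffine_of_isAffineHom (g ⁻¹ᵁ U).ι
    rw [hU'] at this
    exact this
  have hdim : ringKrullDim A ≤ 1 := (Groth.Agent.S1574.result A).1 haff
  refine ⟨hdim, fun hd => le_antisymm hdim (by_contra fun hlt => ?_)⟩
  have h0 : Ring.KrullDimLE 0 A := (Ring.krullDimLE_iff).2 (by
    have h : ringKrullDim A < 1 := lt_of_not_ge hlt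
    have hb := IsLocalRing.maximalIdeal_height_eq_ringKrullDim (R := A)
    rw [← hb] at h ⊢
    exact WithBot.coe_le_coe.2 (Order.lt_one_iff.1 (WithBot.coe_lt_coe.1 h)).le)
  -- `ξ` has no proper generisation
  have hmax : ∀ y : X, y ⤳ ξ → y = ξ := fun y hy => by
    obtain ⟨z, rfl⟩ := hrange y hy
    rw [← hcl]
    refine congrArg g (PrimeSpectrum.ext ?_)
    haveI := z.2
    exact ((Ideal.isMaximal_of_isPrime z.asIdeal).eq_of_le (IsLocalRing.maximalIdeal.isMaximal A).ne_top
      (IsLocalRing.le_maximalIdeal z.2.ne_top))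
  obtain ⟨W, hW, hξW, -⟩ := exists_isAffineOpen_mem_and_subset (U := (⊤ : X.Opens)) (Set.mem_univ ξ)
  haveI : IsNoetherianRing Γ(X, W) := IsLocallyNoetherian.component_noetherian ⟨W, hW⟩
  have hNS := noetherianSpace_of_isAffineOpen W hW
  let x : W := ⟨ξ, hξW⟩
  obtain ⟨Z, hZ, hxZ⟩ := exists_mem_irreducibleComponents_subset_of_isIrreducible {x}
    isIrreducible_singleton
  obtain ⟨O, hO, hO0, hOZ⟩ :=
    @TopologicalSpace.NoetherianSpace.exists_isOpen_nonempty_subset_irreducibleComponent _ _ hNS Z hZ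
  obtain ⟨w, hwO⟩ := hO0
  obtain ⟨v, hv, hvU⟩ := hd.inter_open_nonempty _ (W.isOpen.isOpenMap_subtype_val O hO)
    ⟨w.1, w, hwO, rfl⟩
  obtain ⟨v', hv', rfl⟩ := hv
  -- the generic point of the component specialises to `ξ`, hence is `ξ`
  have hQS : QuasiSober W := inferInstanceAs (QuasiSober W.toScheme)

  obtain ⟨η, hη⟩ := @QuasiSober.sober _ _ hQS _ hZ.1 (isClosed_of_mem_irreducibleComponents Z hZ)
  have e : η.1 = ξ := hmax _ ((hη.specializes (hxZ rfl)).map continuous_subtype_val)
  have h2 : η.1 ⤳ v'.1 := (hη.specializes (hOZ hv')).map continuous_subtype_val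
  rw [e] at h2
  exact hξ (h2.mem_open U.isOpen hvU)

end Groth.Agent.S1573
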