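import Groth.Statements.S19779
import Groth.Agent.H1Approx.HensLaurent

set_option autoImplicit false
universe u
open Polynomial TensorProduct
open CAlg

namespace Groth.Agent.S19779

/-- For general linear groups, in the case R{t}[1/t] → R((t)), let R be a commutative ring, B = R{t} a
henselization of R[t] along (t), ψ : B → R[[t]] the R[t]-algebra map, L = B[1/t], and L' an
L-algebra identified with R((t)) compatibly with ψ. Then base change along L → L' is a bijection on
isomorphism classes of finitely generated projective modules: two finitely generated projective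
L-modules isomorphic over L' are isomorphic, and every finitely generated projective L'-module is
extended from one over L. (The published statement is the bijection H¹(R{t}[1/t], G) ≅ H¹(R((t)), G)
for every quasi-affine smooth group G; this row is the case of the general linear groups, stated for
finitely generated projective modules of arbitrary rank.) -/
theorem result (R : Type u) [CommRing R]
    (B : Type u) [CommRing B] [Algebra R[X] B] (hB : Hens2.IsPairHenselization R[X] (Ideal.span {(X : R[X])}) B)
    (ψ : B →ₐ[R[X]] PowerSeries R)
    (L' : Type u) [CommRing L'] [Algebra (Localization.Away (algebraMap R[X] B X)) L'] (e : L' ≃+* LaurentSeries R)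
    (he : ∀ b : B, e (algebraMap (Localization.Away (algebraMap R[X] B X)) L' (algebraMap B (Localization.Away (algebraMap R[X] B X)) b)) =
      HahnSeries.ofPowerSeries ℤ R (ψ b)) :
    (∀ (M N : Type u) [AddCommGroup M] [Module (Localization.Away (algebraMap R[X] B X)) M] [Module.Finite (Localization.Away (algebraMap R[X] B X)) M] [Module.Projective (Localization.Away (algebraMap R[X] B X)) M]
        [AddCommGroup N] [Module (Localization.Away (algebraMap R[X] B X)) N] [Module.Finite (Localization.Away (algebraMap R[X] B X)) N] [Module.Projective (Localization.Away (algebraMap R[X] B X)) N],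
        Nonempty (L' ⊗[Localization.Away (algebraMap R[X] B X)] M ≃ₗ[L'] L' ⊗[Localization.Away (algebraMap R[X] B X)] N) → Nonempty (M ≃ₗ[Localization.Away (algebraMap R[X] B X)] N)) ∧
    (∀ (M' : Type u) [AddCommGroup M'] [Module L' M'] [Module.Finite L' M'] [Module.Projective L' M'],
        ∃ (M : Type u) (_ : AddCommGroup M) (_ : Module (Localization.Away (algebraMap R[X] B X)) M),
          Module.Finite (Localization.Away (algebraMap R[X] B X)) M ∧ Module.Projective (Localization.Away (algebraMap R[X] B X)) M ∧
          Nonempty (L' ⊗[Localization.Away (algebraMap R[X] B X)] M ≃ₗ[L'] M')) := by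
  refine ⟨fun M N _ _ _ _ _ _ _ _ h => ?_, fun M' _ _ _ _ => ?_⟩
  · obtain ⟨e'⟩ := h
    exact (H1Approx.hensLaurentSetting hB ψ e he).nonempty_linearEquiv_of_baseChange e'
  · obtain ⟨n, π, hπ⟩ := Module.Finite.exists_fin' L' M'
    obtain ⟨s, hs⟩ := Module.projective_lifting_property π LinearMap.id hπ
    let em := (H1Approx.stdB (L := Localization.Away (algebraMap R[X] B X)) L' n).equivFun
    let π' := π ∘ₗ em.toLinearMap
    let ι' := em.symm.toLinearMap ∘ₗ s
    have hπι : π' ∘ₗ ι' = LinearMap.id := LinearMap.ext fun x => by
      simpa [π', ι'] using LinearMap.congr_fun hs x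
    have hee : H1Approx.mat (ι' ∘ₗ π') * H1Approx.mat (ι' ∘ₗ π') = H1Approx.mat (ι' ∘ₗ π') := by
      rw [← LinearMap.toMatrix_comp, LinearMap.comp_assoc, ← LinearMap.comp_assoc π' ι' π', hπι, LinearMap.id_comp]
    obtain ⟨E, hE, hnear⟩ := H1Approx.exists_idempotent_near_hensLaurent hB ψ e he _ hee
    refine (H1Approx.hensLaurentSetting hB ψ e he).exists_model_of_idempotent π' ι' hπι
      (fun k => Matrix.toLin (Pi.basisFun (Localization.Away (algebraMap R[X] B X)) (Fin n))
        (Pi.basisFun (Localization.Away (algebraMap R[X] B X)) (Fin n)) (E k))
      (fun k => by rw [← Matrix.toLin_mul, hE]) ?_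
    unfold H1Approx.Setting.LNear
    simp only [H1Approx.mat, LinearMap.toMatrix_baseChange, LinearMap.toMatrix_toLin]
    exact hnear

end Groth.Agent.S19779
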