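import Groth.Statements.S15753
import Groth.Agent.H1PicInv.Laurent
import Groth.Agent.S19779
import Groth.Agent.Hensel.Henselization

set_option autoImplicit false
universe u
open Polynomial TensorProduct
open CAlg

namespace Groth.Agent.S15753

/-- Let R be a Henselian local ring and regard R((t)) as an R[s]-algebra through s ↦ t⁻¹. Then the
pullback map Pic(R[t⁻¹]) → Pic(R((t))) is bijective: an invertible R[s]-module that becomes free
over R((t)) is free, and every invertible R((t))-module is extended from an invertible R[s]-module.
(The published statement is the chain of three bijections Pic(R[t⁻¹]) ≅ Pic((R[t]_{1+tR[t]})[1/t]) ≅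
Pic(R{t}[1/t]) ≅ Pic(R((t))), each induced by pullback; this row states the composite.) -/
theorem result (R : Type u) [CommRing R]
    [HenselianLocalRing R] [Algebra R[X] (LaurentSeries R)]
    (halg : algebraMap R[X] (LaurentSeries R) =
      Polynomial.eval₂RingHom (HahnSeries.C) (HahnSeries.single (-1 : ℤ) (1 : R))) :
    (∀ (M : Type u) [AddCommGroup M] [Module R[X] M] [Module.Invertible R[X] M],
        Module.Free (LaurentSeries R) (LaurentSeries R ⊗[R[X]] M) → Module.Free R[X] M) ∧
    (∀ (L : Type u) [AddCommGroup L] [Module (LaurentSeries R) L] [Module.Invertible (LaurentSeries R) L],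
        ∃ (M : Type u) (_ : AddCommGroup M) (_ : Module R[X] M), Module.Invertible R[X] M ∧
          Nonempty (L ≃ₗ[LaurentSeries R] LaurentSeries R ⊗[R[X]] M)) := by
  obtain ⟨B, hBring, hBalg, hB⟩ := Hensel.exists_isPairHenselization R[X] (Ideal.span {(X : R[X])})
  letI : Algebra R B := ((algebraMap R[X] B).comp (algebraMap R R[X])).toAlgebra
  haveI : IsScalarTower R R[X] B := IsScalarTower.of_algebraMap_eq fun _ => rfl
  obtain ⟨w, hw⟩ := IsLocalization.Away.algebraMap_isUnit (S := Localization.Away (algebraMap R[X] B X)) (algebraMap R[X] B X)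
  let ψ : R[X] →ₐ[R] Localization.Away (algebraMap R[X] B X) := Polynomial.aeval (↑w⁻¹ : Localization.Away (algebraMap R[X] B X))
  have hψ : ψ X * algebraMap B (Localization.Away (algebraMap R[X] B X)) (algebraMap R[X] B X) = 1 := by
    rw [← hw, show ψ X = ↑w⁻¹ from Polynomial.aeval_X _, Units.inv_mul]
  -- the map to power series
  have hPS : HenselianRing (PowerSeries R) (Ideal.span {(PowerSeries.X : PowerSeries R)}) := inferInstance
  have hX : (algebraMap R[X] (PowerSeries R)) X = PowerSeries.X := by
    simp [PowerSeries.algebraMap_apply']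
  obtain ⟨g, hg, -⟩ := hB.2 (PowerSeries R) _ (algebraMap R[X] (PowerSeries R)) hPS (by
    rw [Ideal.map_span, Set.image_singleton, hX])
  let ψP : B →ₐ[R[X]] PowerSeries R := { g with commutes' := fun p => RingHom.congr_fun hg p }
  have hT : IsUnit ((HahnSeries.ofPowerSeries ℤ R).comp ψP.toRingHom (algebraMap R[X] B X)) := by
    rw [RingHom.comp_apply, show ψP.toRingHom (algebraMap R[X] B X) = PowerSeries.X from (ψP.commutes X).trans hX]
    exact IsLocalization.map_units (M := Submonoid.powers (PowerSeries.X : PowerSeries R)) (LaurentSeries R)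
      ⟨PowerSeries.X, Submonoid.mem_powers _⟩
  letI : Algebra (Localization.Away (algebraMap R[X] B X)) (LaurentSeries R) :=
    (IsLocalization.Away.lift (algebraMap R[X] B X) hT).toAlgebra
  have he : ∀ b : B, RingEquiv.refl (LaurentSeries R) (algebraMap (Localization.Away (algebraMap R[X] B X)) (LaurentSeries R)
      (algebraMap B (Localization.Away (algebraMap R[X] B X)) b)) = HahnSeries.ofPowerSeries ℤ R (ψP b) := fun b =>
    IsLocalization.Away.lift_eq (algebraMap R[X] B X) hT b
  have he' : ∀ b : B, algebraMap (Localization.Away (algebraMap R[X] B X)) (LaurentSeries R)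
      (algebraMap B (Localization.Away (algebraMap R[X] B X)) b) = HahnSeries.ofPowerSeries ℤ R (ψP b) := he
  letI : Algebra R[X] (Localization.Away (algebraMap R[X] B X)) := ψ.toRingHom.toAlgebra
  letI : SMul R[X] (Localization.Away (algebraMap R[X] B X)) := Algebra.toSMul
  letI : Module R[X] (Localization.Away (algebraMap R[X] B X)) := Algebra.toModule
  haveI : IsScalarTower R[X] (Localization.Away (algebraMap R[X] B X)) (LaurentSeries R) := by
    refine IsScalarTower.of_algebraMap_eq' (R := R[X]) (S := Localization.Away (algebraMap R[X] B X)) (A := LaurentSeries R) ?_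
    rw [halg]
    refine Polynomial.ringHom_ext (fun r => ?_) ?_
    · rw [Polynomial.coe_eval₂RingHom, Polynomial.eval₂_C, RingHom.comp_apply,
        show algebraMap R[X] (Localization.Away (algebraMap R[X] B X)) (C r) = ψ (algebraMap R R[X] r) from rfl,
        AlgHom.commutes, IsScalarTower.algebraMap_apply R B (Localization.Away (algebraMap R[X] B X)), he',
        IsScalarTower.algebraMap_apply R R[X] B, AlgHom.commutes]
      simp [PowerSeries.algebraMap_apply']
    · rw [Polynomial.coe_eval₂RingHom, Polynomial.eval₂_X, RingHom.comp_apply,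
        show algebraMap R[X] (Localization.Away (algebraMap R[X] B X)) X = ψ X from rfl]
      have h1 := congrArg (algebraMap (Localization.Away (algebraMap R[X] B X)) (LaurentSeries R)) hψ
      rw [map_mul, map_one, he', AlgHom.commutes, hX, HahnSeries.ofPowerSeries_X] at h1
      calc HahnSeries.single (-1 : ℤ) (1 : R)
          = (algebraMap _ (LaurentSeries R) (ψ X) * HahnSeries.single (1 : ℤ) (1 : R)) * HahnSeries.single (-1 : ℤ) (1 : R) := by
            rw [h1, one_mul]
        _ = algebraMap _ (LaurentSeries R) (ψ X) := by
            rw [mul_assoc, HahnSeries.single_mul_single]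
            simp
  have hpack := H1PicInv.pack hB ψ hψ
  obtain ⟨hinj, hsurj⟩ := S19779.result R B hB ψP (LaurentSeries R) (RingEquiv.refl _) he
  refine ⟨fun M _ _ _ hfree => ?_, fun Linv _ _ _ => ?_⟩
  · have hinv : Module.Invertible (Localization.Away (algebraMap R[X] B X)) ((Localization.Away (algebraMap R[X] B X)) ⊗[R[X]] M) := inferInstance
    refine hpack.free_of_free M (H1PicInv.exists_generator M) ?_
    obtain ⟨g'⟩ := Module.Invertible.free_iff_linearEquiv.1 hfree
    obtain ⟨g''⟩ := hinj ((Localization.Away (algebraMap R[X] B X)) ⊗[R[X]] M) (Localization.Away (algebraMap R[X] B X))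
      ⟨((TensorProduct.AlgebraTensorModule.cancelBaseChange R[X] (Localization.Away (algebraMap R[X] B X))
        (LaurentSeries R) (LaurentSeries R) M).trans g').trans
        (TensorProduct.AlgebraTensorModule.rid (Localization.Away (algebraMap R[X] B X)) (LaurentSeries R) (LaurentSeries R)).symm⟩
    exact Module.Free.of_equiv g''.symm
  · obtain ⟨P, _, _, _, _, ⟨eP⟩⟩ := hsurj Linv
    obtain ⟨P₂, _, _, _, _, ⟨eP₂⟩⟩ := hsurj (Module.Dual (LaurentSeries R) Linv)
    obtain ⟨g''⟩ := hinj (P₂ ⊗[Localization.Away (algebraMap R[X] B X)] P) (Localization.Away (algebraMap R[X] B X))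
      ⟨(((TensorProduct.AlgebraTensorModule.distribBaseChange (Localization.Away (algebraMap R[X] B X)) (LaurentSeries R) P₂ P).trans
        (TensorProduct.congr eP₂ eP)).trans (Module.Invertible.linearEquiv (LaurentSeries R) Linv)).trans
        (TensorProduct.AlgebraTensorModule.rid (Localization.Away (algebraMap R[X] B X)) (LaurentSeries R) (LaurentSeries R)).symm⟩
    have : Module.Invertible (Localization.Away (algebraMap R[X] B X)) P := Module.Invertible.right g''
    obtain ⟨J, hJ, ⟨eJ⟩⟩ := hpack.exists_model P
    refine ⟨J, inferInstance, inferInstance, hJ, ⟨?_⟩⟩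
    exact ((TensorProduct.AlgebraTensorModule.cancelBaseChange R[X] (Localization.Away (algebraMap R[X] B X))
      (LaurentSeries R) (LaurentSeries R) J).symm.trans
        ((LinearEquiv.baseChange (Localization.Away (algebraMap R[X] B X)) (LaurentSeries R) _ _ eJ).trans eP)).symm

end Groth.Agent.S15753
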