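import Groth.Statements.S15751
import Groth.Agent.S15753
import Groth.Agent.H1PicInv.Seminormal

set_option autoImplicit false
universe u
open CAlg

namespace Groth.Agent.S15751

/-- For a seminormal Henselian local ring R the Picard group of the Laurent series ring R((t)) is
trivial: every invertible R((t))-module is free. -/
theorem result (R : Type u) [CommRing R]
    [HenselianLocalRing R] (hR : HTop.IsSeminormalRing R)
    (M : Type u) [AddCommGroup M] [Module (LaurentSeries R) M] [Module.Invertible (LaurentSeries R) M] :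
    Module.Free (LaurentSeries R) M := by
  letI : Algebra (Polynomial R) (LaurentSeries R) :=
    (Polynomial.eval₂RingHom (HahnSeries.C) (HahnSeries.single (-1 : ℤ) (1 : R))).toAlgebra
  obtain ⟨-, hsurj⟩ := S15753.result R rfl
  obtain ⟨M₀, _, _, hinv, ⟨e⟩⟩ := hsurj M
  obtain ⟨φ, y, hy⟩ := H1PicInv.exists_generator (R := R) M₀
  have hQ0 : IsUnit ((φ y).coeff 0) := by
    have h := (S15773.coeff_of_sub_mem hy).1
    rwa [sub_sub_cancel] at h
  have hreg : ∀ r : (Polynomial R), φ y * r = 0 → r = 0 := H1PicInv.regular_of_coeff_zero hQ0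
  have hinj : Function.Injective φ := H1PicInv.injective_of_regular φ y hreg
  let J : Ideal (Polynomial R) := LinearMap.range φ
  let eJ : M₀ ≃ₗ[(Polynomial R)] J := LinearEquiv.ofInjective φ hinj
  have : Module.Invertible (Polynomial R) J := Module.Invertible.congr eJ
  obtain ⟨J', -, hJJ⟩ := H1PicInv.exists_mul_eq_span J (φ y) ⟨y, rfl⟩
  obtain ⟨f, hf0, hf⟩ := H1PicInv.exists_eq_span hR J J' (φ y) hQ0 hJJ
  have hfJ : f ∈ J := by rw [hf]; exact Ideal.mem_span_singleton_self f
  have : Module.Free (Polynomial R) J := by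
    refine Module.Free.of_equiv (LinearEquiv.ofBijective (LinearMap.toSpanSingleton (Polynomial R) J ⟨f, hfJ⟩) ⟨?_, ?_⟩)
    · rw [injective_iff_map_eq_zero]
      intro c hc
      refine H1PicInv.regular_of_coeff_zero (f := f) (by rw [hf0]; exact isUnit_one) c ?_
      have := congrArg Subtype.val hc
      simpa [mul_comm] using this
    · intro x
      obtain ⟨c, hc⟩ := Ideal.mem_span_singleton'.1 (hf.le x.2)
      exact ⟨c, Subtype.ext (by simpa using hc)⟩
  have : Module.Free (Polynomial R) M₀ := Module.Free.of_equiv eJ.symm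
  exact Module.Free.of_equiv e.symm

end Groth.Agent.S15751
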