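import Groth.Statements.S15756
import Groth.Agent.H1Elkik.Smooth

set_option autoImplicit false
universe u
open CAlg

namespace Groth.Agent.S15756

/-- Case of the whole affine base U = Spec A, the unit ideal I = A and an affine scheme X: let A be a
ring with an element t such that (A, tA) is a Henselian pair and the t-power torsion of A is
bounded, let Â be the t-adic completion, and let B be an A-algebra of finite type with B[1/t] smooth
over A[1/t]. Then every A-algebra homomorphism B → Â is congruent modulo t^n, for any prescribed n,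
to an A-algebra homomorphism B → A. (The published statement allows any quasi-compact open U of Spec
A containing Spec A[1/t], any bounded Zariski Gabber–Ramero triple (A, t, I) that is Henselian (or,
instead, satisfies a lifting condition for Zariski pairs over A[1/t]), and U-schemes locally of
finite type that are ind-quasi-affine or subprojective and smooth over A[1/t], and it asserts
density of X(U) in X(U_Â) for the (t, I)-adic topology; this row is the case U = Spec A, I = A, X =
Spec B affine, under the Henselian alternative.) -/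
theorem result (A : Type u) [CommRing A] (t : A)
    [HenselianRing A (Ideal.span {t})]
    (hbd : ∃ N : ℕ, ∀ a : A, (∃ m : ℕ, t ^ m * a = 0) → t ^ N * a = 0)
    (B : Type u) [CommRing B] [Algebra A B] [Algebra.FiniteType A B]
    (hsm : Algebra.Smooth (Localization.Away t)
      (Localization (Algebra.algebraMapSubmonoid B (Submonoid.powers t))))
    (n : ℕ) (σ : B →ₐ[A] AdicCompletion (Ideal.span {t}) A) :
    ∃ τ : B →ₐ[A] A,
      (Ideal.Quotient.mkₐ A (Ideal.span {t} ^ n)).comp τ =
        (AdicCompletion.evalₐ (Ideal.span {t}) n).comp σ := by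
  classical
  obtain ⟨m, π, hπ⟩ := (Algebra.FiniteType.iff_quotient_mvPolynomial'' (R := A) (S := B)).1 inferInstance
  let L := Localization.Away (MvPolynomial.C t : MvPolynomial (Fin m) A)
  let Bt := Localization (Algebra.algebraMapSubmonoid B (Submonoid.powers t))
  let ι : MvPolynomial (Fin m) A →+* L := algebraMap _ L
  let φ : MvPolynomial (Fin m) A →ₐ[A] Bt := (IsScalarTower.toAlgHom A B Bt).comp π
  have hT : IsUnit (φ (MvPolynomial.C t)) := by
    show IsUnit (φ (algebraMap A _ t))
    rw [AlgHom.commutes, IsScalarTower.algebraMap_apply A B Bt]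
    exact IsLocalization.map_units Bt (⟨algebraMap A B t, t, Submonoid.mem_powers t, rfl⟩ :
      Algebra.algebraMapSubmonoid B (Submonoid.powers t))
  let ρ : L →ₐ[A] Bt := IsLocalization.Away.liftAlgHom (MvPolynomial.C t) hT
  have hρι : ∀ p, ρ (ι p) = φ p := fun p =>
    IsLocalization.Away.lift_eq (MvPolynomial.C t) hT p
  have hρ : Function.Surjective ρ := by
    intro z
    obtain ⟨⟨b, ⟨_, _, ⟨k, rfl⟩, rfl⟩⟩, hb⟩ := IsLocalization.surj (Algebra.algebraMapSubmonoid B (Submonoid.powers t)) z
    obtain ⟨p, rfl⟩ := hπ b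
    obtain ⟨u, hu⟩ := (IsLocalization.map_units L (⟨_, k, rfl⟩ : Submonoid.powers (MvPolynomial.C t : MvPolynomial (Fin m) A)))
    refine ⟨ι p * ↑u⁻¹, ?_⟩
    have hcu : IsUnit (φ (MvPolynomial.C t ^ k)) := by rw [map_pow]; exact hT.pow k
    refine hcu.mul_left_injective ?_
    dsimp only
    rw [← hρι (MvPolynomial.C t ^ k), ← map_mul, show ι p * ↑u⁻¹ * ι (MvPolynomial.C t ^ k) = ι p by
      rw [show ι (MvPolynomial.C t ^ k) = ↑u from hu.symm, mul_assoc, Units.inv_mul, mul_one], hρι]
    show φ p = z * ρ (ι (MvPolynomial.C t ^ k))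
    rw [hρι, show φ p = algebraMap B Bt (π p) from rfl, ← hb]
    congr 1
    show algebraMap B Bt (algebraMap A B (t ^ k)) = φ (MvPolynomial.C t ^ k)
    rw [← IsScalarTower.algebraMap_apply, map_pow, map_pow, ← φ.commutes]
    rfl
  have : Algebra.FinitePresentation A (Localization.Away t) := IsLocalization.Away.finitePresentation t
  have : Algebra.FormallyEtale A (Localization.Away t) := Algebra.FormallyEtale.of_isLocalization (Submonoid.powers t)
  have : Algebra.FinitePresentation A Bt :=
    haveI : Algebra.FinitePresentation (Localization.Away t) Bt := hsm.finitePresentation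
    Algebra.FinitePresentation.trans A (Localization.Away t) Bt
  have : Algebra.FormallySmooth A Bt :=
    haveI : Algebra.FormallySmooth (Localization.Away t) Bt := hsm.formallySmooth
    Algebra.FormallySmooth.comp A (Localization.Away t) Bt
  have : Algebra.FinitePresentation A L :=
    haveI : Algebra.FinitePresentation (MvPolynomial (Fin m) A) L := IsLocalization.Away.finitePresentation (MvPolynomial.C t)
    Algebra.FinitePresentation.trans A (MvPolynomial (Fin m) A) L
  obtain ⟨s, hs⟩ := Algebra.FinitePresentation.ker_fG_of_surjective ρ hρ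
  have hg : ∀ g : s, ∃ f : MvPolynomial (Fin m) A, π f = 0 ∧ ∃ u : L, IsUnit u ∧ ι f = u * g := by
    intro g
    obtain ⟨⟨w, ⟨_, k, rfl⟩⟩, hw⟩ := IsLocalization.surj (Submonoid.powers (MvPolynomial.C t : MvPolynomial (Fin m) A)) (g : L)
    have hg0 : ρ (g : L) = 0 := by
      have : (g : L) ∈ RingHom.ker ρ.toRingHom := by rw [← hs]; exact Ideal.subset_span g.2
      exact this
    have hw0 : algebraMap B Bt (π w) = 0 := by
      have := congrArg ρ hw
      rw [map_mul, hg0, zero_mul] at this
      exact ((hρι w).symm.trans this.symm)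
    obtain ⟨⟨_, _, ⟨k', rfl⟩, rfl⟩, hk'⟩ := (IsLocalization.map_eq_zero_iff (Algebra.algebraMapSubmonoid B (Submonoid.powers t)) Bt _).1 hw0
    refine ⟨MvPolynomial.C t ^ k' * w, ?_, ι (MvPolynomial.C t ^ k' * MvPolynomial.C t ^ k), ?_, ?_⟩
    · rw [map_mul, map_pow, ← MvPolynomial.algebraMap_eq, AlgHom.commutes, ← map_pow]; exact hk'
    · rw [← pow_add]
      exact IsLocalization.map_units L (⟨_, k' + k, rfl⟩ : Submonoid.powers (MvPolynomial.C t : MvPolynomial (Fin m) A))
    · rw [map_mul, map_mul, show ι w = (g : L) * ι (MvPolynomial.C t ^ k) from hw.symm]; ring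
  choose F hF uu huu hFg using hg
  let f : Fin (Fintype.card s) → MvPolynomial (Fin m) A := fun j => F ((Fintype.equivFin s).symm j)
  have hI : (H1Elkik.rel f).map ι = RingHom.ker ρ.toRingHom := by
    refine le_antisymm ?_ ?_
    · rw [Ideal.map_le_iff_le_comap, H1Elkik.rel, Ideal.span_le]
      rintro _ ⟨j, rfl⟩
      show ρ (ι (f j)) = 0
      rw [hρι]
      show algebraMap B Bt (π (f j)) = 0
      rw [hF, map_zero]
    · rw [← hs]
      refine Ideal.span_le.2 fun g hg => ?_
      have h1 : ι (F ⟨g, hg⟩) ∈ (H1Elkik.rel f).map ι :=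
        Ideal.mem_map_of_mem ι (Ideal.subset_span ⟨Fintype.equivFin s ⟨g, hg⟩, by simp [f]⟩)
      rw [hFg] at h1
      exact (Ideal.unit_mul_mem_iff_mem _ (huu _)).1 h1
  have : Algebra.FormallySmooth A (L ⧸ (H1Elkik.rel f).map ι) :=
    Algebra.FormallySmooth.of_equiv
      (((Ideal.quotientEquivAlgOfEq A hI).trans (Ideal.quotientKerAlgEquivOfSurjective hρ)).symm)
  obtain ⟨c, hc⟩ := H1Elkik.exists_sgood t f
  obtain ⟨Nt, hNt⟩ := hbd
  let I := Ideal.span {t}
  let M := n + Nt + 3 * c + 1
  have hlift : ∀ k, ∃ a : A, Ideal.Quotient.mk (I ^ M) a = AdicCompletion.evalₐ I M (σ (π (MvPolynomial.X k))) :=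
    fun k => Ideal.Quotient.mk_surjective _
  choose a₀ ha₀ using hlift
  have hev : ∀ p, Ideal.Quotient.mk (I ^ M) (MvPolynomial.eval a₀ p) = AdicCompletion.evalₐ I M (σ (π p)) := by
    intro p
    have h := AlgHom.congr_fun (show (Ideal.Quotient.mkₐ A (I ^ M)).comp (MvPolynomial.aeval a₀) =
      ((AdicCompletion.evalₐ I M).comp σ).comp π from MvPolynomial.algHom_ext fun k => by
        simpa using ha₀ k) p
    simpa [MvPolynomial.aeval_eq_eval] using h
  have hker : ∀ p, π p = 0 → MvPolynomial.eval a₀ p ∈ Ideal.span {t ^ M} := by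
    intro p hp
    rw [← Ideal.span_singleton_pow, ← Ideal.Quotient.eq_zero_iff_mem, hev, hp, map_zero, map_zero]
  obtain ⟨a₁, ha₁, hd⟩ := H1Elkik.exists_root_of_sgood t Nt c (fun k x h => hNt x ⟨k, h⟩) f hc M
    (by omega) a₀ (fun j => hker _ (hF _))
  have hzero : ∀ p, π p = 0 → MvPolynomial.eval a₁ p = 0 := by
    intro p hp
    have h1 : MvPolynomial.eval a₁ p ∈ Ideal.span {t ^ (M - 2 * c)} := by
      have h3 := (GreenbergLib.taylor_mem (Ideal.span {t ^ (M - 2 * c)}) a₀ (a₁ - a₀) hd p).1
      rw [add_sub_cancel, MvPolynomial.aeval_eq_eval] at h3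
      have h4 : MvPolynomial.eval a₀ p ∈ Ideal.span {t ^ (M - 2 * c)} :=
        Ideal.span_singleton_le_span_singleton.2 (pow_dvd_pow t (by omega)) (hker p hp)
      simpa using add_mem h3 h4
    have h2 : ι p ∈ (H1Elkik.rel f).map ι := by
      rw [hI]
      show ρ (ι p) = 0
      rw [hρι]
      show algebraMap B Bt (π p) = 0
      rw [hp, map_zero]
    obtain ⟨_, ⟨d, rfl⟩, hdp⟩ := (IsLocalization.algebraMap_mem_map_algebraMap_iff
      (Submonoid.powers (MvPolynomial.C t : MvPolynomial (Fin m) A)) L _ _).1 h2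
    have h5 := H1Elkik.eval_mem_of_mem_rel a₁ hdp
    rw [Ideal.span_eq_bot.2 (by rintro _ ⟨j, rfl⟩; exact ha₁ j), Ideal.mem_bot, map_mul, map_pow,
      MvPolynomial.eval_C] at h5
    obtain ⟨w, hw⟩ := Ideal.mem_span_singleton'.1 h1
    have h6 := hNt w ⟨d + (M - 2 * c), by rw [pow_add]; rw [← hw] at h5; linear_combination h5⟩
    rw [← hw, show M - 2 * c = (M - 2 * c - Nt) + Nt by omega, pow_add]
    linear_combination t ^ (M - 2 * c - Nt) * h6
  let τ : B →ₐ[A] A := (Ideal.Quotient.liftₐ (RingHom.ker π.toRingHom) (MvPolynomial.aeval a₁)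
    (fun p hp => by rw [MvPolynomial.aeval_eq_eval]; exact hzero p hp)).comp
      (Ideal.quotientKerAlgEquivOfSurjective hπ).symm.toAlgHom
  have hτ : ∀ p, τ (π p) = MvPolynomial.eval a₁ p := by
    intro p
    have h0 : (Ideal.quotientKerAlgEquivOfSurjective hπ).symm (π p) = Ideal.Quotient.mk _ p := by
      rw [AlgEquiv.symm_apply_eq]; rfl
    show Ideal.Quotient.liftₐ (RingHom.ker π.toRingHom) (MvPolynomial.aeval a₁) (fun p hp => by rw [MvPolynomial.aeval_eq_eval]; exact hzero p hp) ((Ideal.quotientKerAlgEquivOfSurjective hπ).symm (π p)) = _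
    rw [h0]
    show MvPolynomial.aeval a₁ p = MvPolynomial.eval a₁ p
    rw [MvPolynomial.aeval_eq_eval]
  have hfac : ∀ x, Ideal.Quotient.factor (Ideal.pow_le_pow_right (show n ≤ M by omega))
      (AdicCompletion.evalₐ I M x) = AdicCompletion.evalₐ I n x := by
    intro x
    obtain ⟨q, rfl⟩ := AdicCompletion.mk_surjective I A x
    rw [AdicCompletion.evalₐ_mk, AdicCompletion.evalₐ_mk, Ideal.Quotient.factor_mk]
    exact AdicCompletion.Ideal.mk_eq_mk I (show n ≤ M by omega) q
  have hcomp : ((Ideal.Quotient.mkₐ A (I ^ n)).comp τ).comp π = ((AdicCompletion.evalₐ I n).comp σ).comp π :=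
    MvPolynomial.algHom_ext fun k => by
      show Ideal.Quotient.mk (I ^ n) (τ (π (MvPolynomial.X k))) = AdicCompletion.evalₐ I n (σ (π (MvPolynomial.X k)))
      rw [hτ, MvPolynomial.eval_X, ← hfac, ← ha₀, Ideal.Quotient.factor_mk, Ideal.Quotient.eq]
      show a₁ k - a₀ k ∈ I ^ n
      rw [Ideal.span_singleton_pow]
      exact Ideal.span_singleton_le_span_singleton.2 (pow_dvd_pow t (by omega)) (hd k)
  exact ⟨τ, AlgHom.ext fun b => by obtain ⟨p, rfl⟩ := hπ b; exact AlgHom.congr_fun hcomp p⟩

end Groth.Agent.S15756
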