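import Groth.Statements.S15802
import Groth.Agent.H1Wild.Purity
import Groth.Agent.WQ7.Invariants

set_option autoImplicit false
universe u v w
open WildQuot

namespace Groth.Agent.S15802

/-- Let `R` be a regular local ring and `A` a normal local domain, finite over `R` (with `R → A`
injective) and with the same residue field; let a finite group `H` act faithfully on `A` by
`R`-algebra automorphisms with ring of invariants exactly `R` (so `Frac(A)/Frac(R)` is Galois with
group `H`). Then `H` is generated by the inertia subgroups of the height-one prime ideals `P` of `A`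
(the elements acting trivially on `A/P`). (The published statement is for `A` a complete regular
local ring with an action ramified precisely at the origin, `R = k[[x_1, …, x_n]]` a norm subring
and `H` the Galois group of `Frac(A)/Frac(R)`, when that extension is Galois; this row assumes only
the hypotheses listed above.) -/
theorem result
    (R : Type u) [CommRing R] [IsRegularLocalRing R]
    (A : Type v) [CommRing A] [IsDomain A] [IsIntegrallyClosed A] [IsLocalRing A]
    [Algebra R A] [Module.Finite R A] (hinj : Function.Injective (algebraMap R A))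
    (hres : Function.Surjective (IsLocalRing.residue A ∘ algebraMap R A))
    (H : Type w) [Group H] [Finite H] [MulSemiringAction H A] [SMulCommClass H R A] [FaithfulSMul H A]
    (hfix : ∀ a : A, (∀ h : H, h • a = a) → a ∈ Set.range (algebraMap R A)) :
    (⨆ P : {P : Ideal A // P.IsPrime ∧ P.height = 1}, P.1.inertia H) = ⊤ := by
  classical
  let N : Subgroup H := ⨆ P : {P : Ideal A // P.IsPrime ∧ P.height = 1}, P.1.inertia H
  have hN : N.Normal := ⟨fun n hn g => by
    induction hn using Subgroup.iSup_induction' with
    | hp P x hx =>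
      have hP := P.2.1
      let P' : {Q : Ideal A // Q.IsPrime ∧ Q.height = 1} :=
        ⟨P.1.map (MulSemiringAction.toRingEquiv H A g), Ideal.map_isPrime_of_equiv _,
          by rw [RingEquiv.height_map]; exact P.2.2⟩
      refine Subgroup.mem_iSup_of_mem P' fun a => ?_
      have h := Ideal.mem_map_of_mem (MulSemiringAction.toRingEquiv H A g) (hx (g⁻¹ • a))
      rw [map_sub] at h
      simpa [mul_smul, P'] using h
    | h1 => simp
    | hmul x y _ _ hx hy => rw [show g * (x * y) * g⁻¹ = (g * x * g⁻¹) * (g * y * g⁻¹) by group]; exact mul_mem hx hy⟩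
  show N = ⊤
  let R' : Subring A := (algebraMap R A).range
  let e : R ≃+* R' := RingEquiv.ofBijective (algebraMap R A).rangeRestrict
    ⟨fun a b h => hinj (congrArg Subtype.val h), (algebraMap R A).rangeRestrict_surjective⟩
  haveI : IsRegularLocalRing R' := IsRegularLocalRing.of_ringEquiv e
  haveI : Module.Finite R' A := by
    letI : Algebra R R' := e.toRingHom.toAlgebra
    haveI : IsScalarTower R R' A := IsScalarTower.of_algebraMap_eq fun r => rfl
    exact Module.Finite.of_restrictScalars_finite R R' A
  haveI : SMulCommClass H R' A := ⟨fun g r a => by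
    obtain ⟨_, r, rfl⟩ := r
    show g • (algebraMap R A r * a) = algebraMap R A r * g • a
    rw [smul_mul', smul_algebraMap]⟩
  haveI : Algebra.IsInvariant R' A H := ⟨fun a ha => by
    obtain ⟨r, rfl⟩ := hfix a ha
    exact ⟨⟨_, r, rfl⟩, rfl⟩⟩
  haveI : Algebra.IsIntegral R' A := Algebra.IsIntegral.of_finite R' A
  let B := FixedPoints.subalgebra R' A N
  haveI : IsIntegrallyClosed B := Groth.Agent.WQ7.isIntegrallyClosed_fixed (A := A) (G := N)
  haveI : Module.Finite R' B := Module.Finite.of_injective B.val.toLinearMap Subtype.val_injective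
  haveI : FaithfulSMul R' B := (faithfulSMul_iff_algebraMap_injective R' B).mpr
    fun r s h => Subtype.ext (congrArg Subtype.val h :)
  haveI : Algebra.IsIntegral B A := ⟨fun a => (Algebra.IsIntegral.isIntegral (R := R') a).tower_top⟩
  -- an element which is trivial modulo `P` on the invariants of `N` lies in `N`
  have key : ∀ (P : Ideal A) [P.IsPrime], P.inertia H ≤ N → ∀ h : H,
      (∀ b : B, ((h : H ⧸ N) • b : B).1 - b.1 ∈ P) → h ∈ N := fun P _ hP h hh => by
    have := Groth.Agent.WQ7.mem_inertia_sup N P h fun x hx => hh ⟨x, fun g => hx g g.2⟩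
    rwa [sup_eq_right.mpr hP] at this
  have hbot : (⊥ : Ideal A).inertia H ≤ N := fun g hg => by
    rw [show g = 1 from FaithfulSMul.eq_of_smul_eq_smul (α := A) fun a => by
      rw [one_smul]; exact sub_eq_zero.mp (hg a)]
    exact one_mem N
  haveI : FaithfulSMul (H ⧸ N) B := ⟨fun {x y} hxy => by
    obtain ⟨x, rfl⟩ := QuotientGroup.mk_surjective x
    obtain ⟨y, rfl⟩ := QuotientGroup.mk_surjective y
    rw [QuotientGroup.eq]
    refine key ⊥ hbot _ fun b => ?_
    rw [QuotientGroup.mk_mul, QuotientGroup.mk_inv, mul_smul, ← hxy, inv_smul_smul, sub_self]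
    exact zero_mem _⟩
  have h1 : ∀ Q : Ideal B, Q.IsPrime → (Q.comap (algebraMap R' B)).height ≤ 1 →
      Q.inertia (H ⧸ N) = ⊥ := fun Q hQ hQ1 => by
    obtain ⟨P, -, hP, hPQ⟩ := Ideal.exists_ideal_over_prime_of_isIntegral Q (⊥ : Ideal A) (fun x hx => by
      have : x = 0 := Subtype.ext ((Submodule.mem_bot A).mp hx)
      rw [this]; exact zero_mem _)
    have hP1 : P.height ≤ 1 := by
      have hsm : StrictMono (PrimeSpectrum.comap (algebraMap R' A)) := fun I J hIJ => by
        obtain ⟨hle, x, hxJ, hxI⟩ := SetLike.lt_iff_le_and_exists.mp (show I.asIdeal < J.asIdeal from hIJ)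
        exact Ideal.comap_lt_comap_of_integral_mem_sdiff hle ⟨hxJ, hxI⟩ (Algebra.IsIntegral.isIntegral x)
      have h := Order.height_le_height_apply_of_strictMono _ hsm ⟨P, hP⟩
      rw [← PrimeSpectrum.height_eq_orderHeight, ← PrimeSpectrum.height_eq_orderHeight] at h
      refine h.trans (le_of_eq_of_le ?_ hQ1)
      rw [← hPQ, Ideal.comap_comap]
      rfl
    have hPN : P.inertia H ≤ N := by
      rcases lt_or_eq_of_le hP1 with h0 | h0
      · haveI : IsDomain A := inferInstance
        rwa [Ideal.height_eq_zero_iff_eq_bot.mp (ENat.lt_one_iff_eq_zero.mp h0)]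
      · exact fun g hg => Subgroup.mem_iSup_of_mem (⟨P, hP, h0⟩ : {P : Ideal A // P.IsPrime ∧ P.height = 1}) hg
    rw [Subgroup.eq_bot_iff_forall]
    intro x hx
    obtain ⟨x, rfl⟩ := QuotientGroup.mk_surjective x
    refine (QuotientGroup.eq_one_iff x).mpr (key P hPN x fun b => ?_)
    exact (hPQ.ge (hx b) : (x : H ⧸ N) • b - b ∈ P.comap (algebraMap B A))
  obtain ⟨n, hn⟩ : ∃ d : ℕ, ringKrullDim R' = d :=
    ⟨_, ((isRegularLocalRing_iff R').1 inferInstance).symm⟩
  rw [eq_top_iff]
  intro g _
  have hres' : ∀ a : A, g • a - a ∈ IsLocalRing.maximalIdeal A := fun a => by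
    obtain ⟨r, hr⟩ := hres (IsLocalRing.residue A a)
    have hr' : algebraMap R A r - a ∈ IsLocalRing.maximalIdeal A := Ideal.Quotient.eq.mp hr
    have hga : g • (algebraMap R A r - a) ∈ IsLocalRing.maximalIdeal A := by
      rw [IsLocalRing.mem_maximalIdeal, mem_nonunits_iff]
      intro hu
      have := hu.map (MulSemiringAction.toRingHom H A g⁻¹)
      rw [MulSemiringAction.toRingHom_apply, inv_smul_smul] at this
      exact (IsLocalRing.mem_maximalIdeal _).mp hr' this
    have := sub_mem hr' hga
    rw [smul_sub, smul_algebraMap] at this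
    simpa using this
  refine (QuotientGroup.eq_one_iff g).mp ((Subgroup.eq_bot_iff_forall _).mp
    (Groth.Agent.H1Wild.inertia_eq_bot_aux (H ⧸ N) n R' B hn.le h1
      ((IsLocalRing.maximalIdeal A).comap (algebraMap B A)) inferInstance) (g : H ⧸ N) fun b => ?_)
  exact hres' b.1

end Groth.Agent.S15802
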