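import Groth.Statements.S15803
import Groth.Agent.S15802

set_option autoImplicit false
universe u v w
open WildQuot

namespace Groth.Agent.S15803

/-- Let `R` be a regular local ring and `A` a normal local domain, finite over `R` (with `R → A`
injective) and with the same residue field; let a finite group `H` act faithfully on `A` by
`R`-algebra automorphisms with ring of invariants exactly `R` (so `Frac(A)/Frac(R)` is Galois with
group `H`); let `p` be a prime and suppose that every nontrivial inertia subgroup of a height-one
prime of `A` has order `p` and is normal in `H`. Then `H` is commutative and every element satisfies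
`h ^ p = 1`: `H` is an elementary abelian `p`-group (of order the degree of `Frac(A)` over
`Frac(R)`). (The published statement is for `A` a complete regular local ring with an action
ramified precisely at the origin, `R = k[[x_1, …, x_n]]` a norm subring and `H` the Galois group of
`Frac(A)/Frac(R)`, when that extension is Galois; this row assumes only the hypotheses listed
above.) -/
theorem result
    (p : ℕ) [Fact p.Prime] (R : Type u) [CommRing R] [IsRegularLocalRing R]
    (A : Type v) [CommRing A] [IsDomain A] [IsIntegrallyClosed A] [IsLocalRing A]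
    [Algebra R A] [Module.Finite R A] (hinj : Function.Injective (algebraMap R A))
    (hres : Function.Surjective (IsLocalRing.residue A ∘ algebraMap R A))
    (H : Type w) [Group H] [Finite H] [MulSemiringAction H A] [SMulCommClass H R A] [FaithfulSMul H A]
    (hfix : ∀ a : A, (∀ h : H, h • a = a) → a ∈ Set.range (algebraMap R A))
    (hMR2 : ∀ P : Ideal A, P.IsPrime → P.height = 1 → P.inertia H ≠ ⊥ →
      Nat.card (P.inertia H) = p ∧ (P.inertia H).Normal) :
    (∀ g h : H, g * h = h * g) ∧ ∀ h : H, h ^ p = 1 := by
  classical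
  have htop := Groth.Agent.S15802.result R A hinj hres H hfix
  let ι := {P : Ideal A // P.IsPrime ∧ P.height = 1}
  have hn : ∀ P : ι, (P.1.inertia H).Normal := fun P => by
    by_cases h : P.1.inertia H = ⊥
    · rw [h]; infer_instance
    · exact (hMR2 P.1 P.2.1 P.2.2 h).2
  have hpc : ∀ P : ι, ∀ x ∈ P.1.inertia H, x ^ p = 1 := fun P x hx => by
    by_cases h : P.1.inertia H = ⊥
    · rw [h, Subgroup.mem_bot] at hx; rw [hx, one_pow]
    · rw [← (hMR2 P.1 P.2.1 P.2.2 h).1]
      exact congrArg Subtype.val (pow_card_eq_one' (x := (⟨x, hx⟩ : P.1.inertia H)))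
  have hcp : ∀ P Q : ι, ∀ x ∈ P.1.inertia H, ∀ y ∈ Q.1.inertia H, x * y = y * x := fun P Q x hx y hy => by
    by_cases hP : P.1.inertia H = ⊥
    · rw [hP, Subgroup.mem_bot] at hx; simp [hx]
    by_cases hQ : Q.1.inertia H = ⊥
    · rw [hQ, Subgroup.mem_bot] at hy; simp [hy]
    by_cases e : P.1.inertia H = Q.1.inertia H
    · haveI : Fact (Nat.card (P.1.inertia H)).Prime := ⟨by rw [(hMR2 P.1 P.2.1 P.2.2 hP).1]; exact Fact.out⟩
      haveI : IsCyclic (P.1.inertia H) := isCyclic_of_prime_card rfl
      let := IsCyclic.commGroup (α := P.1.inertia H)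
      exact congrArg Subtype.val (mul_comm (⟨x, hx⟩ : P.1.inertia H) ⟨y, e ▸ hy⟩)
    · have hdis : Disjoint (P.1.inertia H) (Q.1.inertia H) := by
        rw [disjoint_iff]
        by_contra h
        have hp' : (Nat.card (P.1.inertia H)).Prime := by
          rw [(hMR2 P.1 P.2.1 P.2.2 hP).1]; exact Fact.out
        have hq' : (Nat.card (Q.1.inertia H)).Prime := by
          rw [(hMR2 Q.1 Q.2.1 Q.2.2 hQ).1]; exact Fact.out
        have hd := Subgroup.card_dvd_of_le (inf_le_left : P.1.inertia H ⊓ Q.1.inertia H ≤ _)
        have hd' := Subgroup.card_dvd_of_le (inf_le_right : P.1.inertia H ⊓ Q.1.inertia H ≤ _)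
        have h1 : Nat.card ↥(P.1.inertia H ⊓ Q.1.inertia H) ≠ 1 := fun h1 => h (Subgroup.card_eq_one.mp h1)
        have e1 := Subgroup.eq_of_le_of_card_ge (inf_le_left : P.1.inertia H ⊓ Q.1.inertia H ≤ _)
          (((Nat.dvd_prime hp').mp hd).resolve_left h1).ge
        have e2 := Subgroup.eq_of_le_of_card_ge (inf_le_right : P.1.inertia H ⊓ Q.1.inertia H ≤ _)
          (((Nat.dvd_prime hq').mp hd').resolve_left h1).ge
        exact e (e1.symm.trans e2)
      exact Subgroup.commute_of_normal_of_disjoint _ _ (hn P) (hn Q) hdis x y hx hy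
  have hcomm : ∀ g h : H, g * h = h * g := by
    have h1 : ∀ P : ι, ∀ x ∈ P.1.inertia H, ∀ h : H, Commute x h := fun P x hx h => by
      have hh : h ∈ ⨆ Q : ι, Q.1.inertia H := htop ▸ Subgroup.mem_top h
      induction hh using Subgroup.iSup_induction' with
      | hp Q y hy => exact hcp P Q x hx y hy
      | h1 => exact Commute.one_right x
      | hmul y z _ _ hy hz => exact hy.mul_right hz
    intro g h
    have hg : g ∈ ⨆ Q : ι, Q.1.inertia H := htop ▸ Subgroup.mem_top g
    show Commute g h
    induction hg using Subgroup.iSup_induction' with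
    | hp Q y hy => exact h1 Q y hy h
    | h1 => exact Commute.one_left h
    | hmul y z _ _ hy hz => exact hy.mul_left hz
  refine ⟨hcomm, fun h => ?_⟩
  have hh : h ∈ ⨆ Q : ι, Q.1.inertia H := htop ▸ Subgroup.mem_top h
  induction hh using Subgroup.iSup_induction' with
  | hp Q y hy => exact hpc Q y hy
  | h1 => exact one_pow p
  | hmul y z _ _ hy hz => rw [(show Commute y z from hcomm y z).mul_pow, hy, hz, one_mul]

end Groth.Agent.S15803
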