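import Groth.Statements.S15806
import Mathlib

set_option autoImplicit false
universe u
open CategoryTheory AlgebraicGeometry
open WildQuot

namespace Groth.Agent.S15806

open AlgebraicGeometry CategoryTheory Limits TopologicalSpace in
theorem ker_eq_bot (S : Scheme.{u}) [AlgebraicGeometry.IsNoetherian S] (U : S.Opens)
    (hU : ∀ s : S, IsLocalRing.maximalIdeal (S.presheaf.stalk s) ∈
        associatedPrimes (S.presheaf.stalk s) (S.presheaf.stalk s) → s ∈ U)
    (V : S.Opens) (hV : IsAffineOpen V) : RingHom.ker (U.ι.app V).hom = ⊥ := by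
  refine le_bot_iff.1 fun s hs => ?_
  rw [Ideal.mem_bot]
  by_contra hne
  haveI : IsNoetherianRing Γ(S, V) := IsLocallyNoetherian.component_noetherian ⟨V, hV⟩
  obtain ⟨q, hq, hle⟩ := exists_le_isAssociatedPrime_of_isNoetherianRing Γ(S, V) s hne
  haveI := hq.isPrime
  let x : S := hV.fromSpec ⟨q, inferInstance⟩
  have hxV : x ∈ V := hV.range_fromSpec.subset ⟨_, rfl⟩
  letI := S.presheaf.algebra_section_stalk ⟨x, hxV⟩
  haveI hloc : IsLocalization.AtPrime (S.presheaf.stalk x) q := hV.isLocalization_stalk' ⟨q, inferInstance⟩ hxV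
  haveI : IsLocalizedModule q.primeCompl (Algebra.linearMap Γ(S, V) (S.presheaf.stalk x)) :=
    (isLocalizedModule_iff_isLocalization' q.primeCompl (S.presheaf.stalk x)).2 hloc
  have hxU : x ∈ U := hU x (Module.associatedPrimes.mem_associatedPrimes_of_comap_mem_associatedPrimes_of_isLocalizedModule
    q.primeCompl (Algebra.linearMap Γ(S, V) (S.presheaf.stalk x)) _ (by
      rw [← Ideal.under_def, IsLocalization.AtPrime.under_maximalIdeal (S.presheaf.stalk x) q]; exact hq))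
  have hgerm : algebraMap Γ(S, V) (S.presheaf.stalk x) s = 0 := by
    show S.presheaf.germ V x hxV s = 0
    have h1 := RingHom.mem_ker.1 hs
    rw [Scheme.Opens.ι_app] at h1
    have hle' : U.ι ''ᵁ U.ι ⁻¹ᵁ V ≤ V := by rintro _ ⟨y, hy, rfl⟩; exact hy
    have hmem : x ∈ U.ι ''ᵁ U.ι ⁻¹ᵁ V := ⟨⟨x, hxU⟩, hxV, rfl⟩
    rw [← S.presheaf.germ_res_apply (homOfLE hle') x hmem s]
    exact (congrArg _ h1).trans (map_zero _)
  obtain ⟨⟨m, hm⟩, hms⟩ := (IsLocalization.map_eq_zero_iff q.primeCompl (S.presheaf.stalk x) s).1 hgerm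
  exact hm (hle (Submodule.mem_colon_singleton.2 (by simpa using hms)))

open AlgebraicGeometry CategoryTheory Limits in
theorem ext_of_dominant {S G₁ G₂ : Scheme.{u}} [AlgebraicGeometry.IsNoetherian S] (f₁ : G₁ ⟶ S) (f₂ : G₂ ⟶ S)
    [IsSeparated f₂] [Flat f₁] (U : S.Opens) (φ ψ : G₁ ⟶ G₂) (hφ : φ ≫ f₂ = f₁) (hψ : ψ ≫ f₂ = f₁)
    (h : (f₁ ⁻¹ᵁ U).ι ≫ φ = (f₁ ⁻¹ᵁ U).ι ≫ ψ) (hdom : IsSchemeTheoreticallyDominant U.ι) : φ = ψ := by
  haveI := hdom
  haveI : IsSchemeTheoreticallyDominant (f₁ ⁻¹ᵁ U).ι :=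
    .of_isPullback (isPullback_morphismRestrict f₁ U)
  let X' : Over S := Over.mk f₁
  let Y' : Over S := Over.mk f₂
  let U' : Over S := Over.mk ((f₁ ⁻¹ᵁ U).ι ≫ f₁)
  let f' : X' ⟶ Y' := Over.homMk φ hφ
  let g' : X' ⟶ Y' := Over.homMk ψ hψ
  let ι' : U' ⟶ X' := Over.homMk (f₁ ⁻¹ᵁ U).ι
  have : IsSeparated Y'.hom := ‹_›
  have hlift : (equalizer.lift ι' (by ext1; exact h)).left ≫ (equalizer.ι f' g').left = (f₁ ⁻¹ᵁ U).ι := by
    rw [← Over.comp_left, equalizer.lift_ι]; rfl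
  have hker : (equalizer.ι f' g').left.ker = ⊥ := by
    refine le_bot_iff.1 ((Scheme.Hom.le_ker_comp (equalizer.lift ι' (by ext1; exact h)).left _).trans ?_)
    rw [hlift, Scheme.Hom.ker_eq_bot]
  haveI := IsClosedImmersion.isIso_iff_ker_eq_bot.mpr hker
  rw [← cancel_epi (equalizer.ι f' g').left]
  exact congr($(equalizer.condition f' g').left)

/-- Let `S` be a Noetherian scheme, `G_1 → S` and `G_2 → S` finite flat morphisms, and `U ⊆ S` an open
subset containing every associated point of `S`, i.e. every point whose local ring has the maximal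
ideal as an associated prime (for `S` Noetherian this says exactly that `U` is dense and contains
all points at which `S` does not satisfy Serre's condition `S_1`, which is the printed hypothesis).
If two `S`-morphisms `φ, ψ : G_1 → G_2` agree on the preimage of `U`, then `φ = ψ`. -/
theorem result
    (S G₁ G₂ : Scheme.{u}) [AlgebraicGeometry.IsNoetherian S] (f₁ : G₁ ⟶ S) (f₂ : G₂ ⟶ S)
    [AlgebraicGeometry.IsFinite f₁] [AlgebraicGeometry.Flat f₁]
    [AlgebraicGeometry.IsFinite f₂] [AlgebraicGeometry.Flat f₂]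
    (U : S.Opens)
    (hU : ∀ s : S, IsLocalRing.maximalIdeal (S.presheaf.stalk s) ∈
        associatedPrimes (S.presheaf.stalk s) (S.presheaf.stalk s) → s ∈ U)
    (φ ψ : G₁ ⟶ G₂) (hφ : φ ≫ f₂ = f₁) (hψ : ψ ≫ f₂ = f₁)
    (h : (f₁ ⁻¹ᵁ U).ι ≫ φ = (f₁ ⁻¹ᵁ U).ι ≫ ψ) : φ = ψ := by
  have hdom : IsSchemeTheoreticallyDominant U.ι := by
    rw [isSchemeTheoreticallyDominant_iff]
    refine Scheme.IdealSheafData.ext (funext fun V => ?_)
    rw [Scheme.Hom.ker_apply, Scheme.IdealSheafData.ideal_bot, Pi.bot_apply]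
    exact Groth.Agent.S15806.ker_eq_bot S U hU V.1 V.2
  exact Groth.Agent.S15806.ext_of_dominant f₁ f₂ U φ ψ hφ hψ h hdom

end Groth.Agent.S15806
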