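import Groth.Statements.S15809
import Groth.Agent.H1Cod.Iso
import Groth.Agent.FibIso.Basic

set_option autoImplicit false
universe u
open CategoryTheory MonoidalCategory CartesianMonoidalCategory AlgebraicGeometry Limits
open WildQuot

namespace Groth.Agent.S15809

theorem away_of_isIso {Z₁ Z₂ : Scheme.{u}} (h : Z₁ ⟶ Z₂) {U : Z₂.Opens} (hU : IsAffineOpen U)
    (hU1 : IsAffineOpen (h ⁻¹ᵁ U)) (f : Γ(Z₂, U)) (hiso : IsIso (h ∣_ Z₂.basicOpen f)) :
    (∀ x : Γ(Z₁, h ⁻¹ᵁ U), ∃ (n : ℕ) (y : Γ(Z₂, U)), h.app U y = h.app U f ^ n * x) ∧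
      ∀ y : Γ(Z₂, U), h.app U y = 0 → ∃ n : ℕ, f ^ n * y = 0 := by
  let W := Z₂.basicOpen f
  have hW : W ≤ U := Z₂.basicOpen_le f
  have hA : IsIso (h.app W) := by
    haveI := hiso
    have h1 : IsIso ((h ∣_ W).app ⊤) := inferInstance
    rw [morphismRestrict_app] at h1
    have h2 : IsIso (h.app (W.ι ''ᵁ ⊤)) := @IsIso.of_isIso_comp_right _ _ _ _ _ (h.app (W.ι ''ᵁ ⊤))
      (Z₁.presheaf.map (eqToHom (image_morphismRestrict_preimage h W ⊤)).op) inferInstance h1
    rwa [Scheme.Opens.ι_image_top] at h2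
  have hbij : Function.Bijective (h.app W) := (ConcreteCategory.isIso_iff_bijective _).1 hA
  have hnat : ∀ y : Γ(Z₂, U), h.app W (Z₂.presheaf.map (homOfLE hW).op y) =
      Z₁.presheaf.map ((TopologicalSpace.Opens.map h.base).map (homOfLE hW)).op (h.app U y) := fun y =>
    ConcreteCategory.congr_hom (h.naturality (homOfLE hW).op) y
  letI := (Z₂.presheaf.map (homOfLE hW).op).hom.toAlgebra
  letI := (Z₁.presheaf.map ((TopologicalSpace.Opens.map h.base).map (homOfLE hW)).op).hom.toAlgebra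
  haveI L2 : IsLocalization.Away f Γ(Z₂, W) := hU.isLocalization_of_eq_basicOpen f (homOfLE hW) rfl
  haveI L1 : IsLocalization.Away (h.app U f) Γ(Z₁, h ⁻¹ᵁ W) :=
    hU1.isLocalization_of_eq_basicOpen _ _ (Scheme.preimage_basicOpen h f)
  constructor
  · intro x
    obtain ⟨z, hz⟩ := hbij.2 (algebraMap _ _ x)
    obtain ⟨⟨y, ⟨_, n, rfl⟩⟩, hy⟩ := IsLocalization.surj (Submonoid.powers f) z
    have h1 : algebraMap _ Γ(Z₁, h ⁻¹ᵁ W) (h.app U y) = algebraMap _ Γ(Z₁, h ⁻¹ᵁ W) (h.app U f ^ n * x) := by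
      have h2 := congrArg (h.app W) hy
      rw [map_mul, hz] at h2
      erw [hnat, hnat] at h2
      rw [map_mul, mul_comm]
      simp only [map_pow] at h2 ⊢
      exact h2.symm
    obtain ⟨⟨_, m, rfl⟩, hm⟩ := IsLocalization.exists_of_eq (M := Submonoid.powers (h.app U f)) h1
    refine ⟨m + n, f ^ m * y, ?_⟩
    rw [map_mul, map_pow, pow_add, mul_assoc]
    exact hm
  · intro y hy
    have h1 : algebraMap _ Γ(Z₂, W) y = 0 := hbij.1 ((hnat y).trans (by rw [hy, map_zero, map_zero]))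
    obtain ⟨⟨_, n, rfl⟩, hn⟩ := (IsLocalization.map_eq_zero_iff (Submonoid.powers f) _ y).1 h1
    exact ⟨n, hn⟩

theorem isIso_of_codOne {S Z₁ Z₂ : Scheme.{u}} [AlgebraicGeometry.IsNoetherian S] (g₁ : Z₁ ⟶ S) (g₂ : Z₂ ⟶ S)
    [AlgebraicGeometry.IsFinite g₁] [Flat g₁] [AlgebraicGeometry.IsFinite g₂] [Flat g₂] (h : Z₁ ⟶ Z₂)
    (w : h ≫ g₂ = g₁)
    (hfib : ∀ s : S, ringKrullDim (S.presheaf.stalk s) ≤ 1 →
      IsIso (pullback.map g₁ (S.fromSpecResidueField s) g₂ (S.fromSpecResidueField s) h (𝟙 _) (𝟙 S)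
        ((Category.comp_id _).trans w.symm) ((Category.comp_id _).trans (Category.id_comp _).symm))) :
    IsIso h := by
  subst w
  haveI : AlgebraicGeometry.IsFinite h := AlgebraicGeometry.IsFinite.of_comp h g₂
  haveI : LocallyOfFinitePresentation (h ≫ g₂) := inferInstance
  have hfib' : ∀ s : S, ringKrullDim (S.presheaf.stalk s) ≤ 1 → IsIso (MoreMor.fiberMap h g₂ s) := fun s hs => by
    rw [← FibIso.fiberMap_cInt_eq h g₂ s]
    exact hfib s hs
  let O : S.Opens := ⟨_, FibIso.isOpen_setOf_isIso_fiberMap h g₂⟩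
  have hO : IsIso (h ∣_ (g₂ ⁻¹ᵁ O)) := FibIso.isIso_restrict h g₂ O fun s hs => hs
  rw [← MorphismProperty.isomorphisms.iff, IsZariskiLocalAtTarget.iff_of_iSup_eq_top (P := .isomorphisms Scheme)
    (fun V : S.affineOpens => g₂ ⁻¹ᵁ V.1) (by
      rw [← Scheme.Hom.preimage_iSup, iSup_affineOpens_eq_top]; rfl)]
  rintro ⟨V, hV⟩
  rw [MorphismProperty.isomorphisms.iff]
  let U := g₂ ⁻¹ᵁ V
  have hU : IsAffineOpen U := hV.preimage g₂
  have hU1 : IsAffineOpen (h ⁻¹ᵁ U) := hU.preimage h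
  haveI : IsNoetherianRing Γ(S, V) := IsLocallyNoetherian.component_noetherian ⟨V, hV⟩
  algebraize [(g₂.app V).hom, (h.app U).hom.comp (g₂.app V).hom]
  haveI : Module.Finite Γ(S, V) Γ(Z₂, U) := g₂.finite_app V hV
  haveI : Module.Finite Γ(S, V) Γ(Z₁, h ⁻¹ᵁ U) := by
    have := (h ≫ g₂).finite_app V hV
    rw [Scheme.Hom.comp_app] at this
    exact this
  haveI : Module.Flat Γ(S, V) Γ(Z₂, U) := by
    have := g₂.flat_appLE hV hU le_rfl
    rwa [← Scheme.Hom.app_eq_appLE] at this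
  haveI : Module.Flat Γ(S, V) Γ(Z₁, h ⁻¹ᵁ U) := by
    have := (h ≫ g₂).flat_appLE hV hU1 le_rfl
    erw [← Scheme.Hom.app_eq_appLE, Scheme.Hom.comp_app] at this
    exact this
  let φ : Γ(Z₂, U) →ₗ[Γ(S, V)] Γ(Z₁, h ⁻¹ᵁ U) :=
    { toFun := h.app U
      map_add' := map_add _
      map_smul' := fun r x => by
        rw [RingHom.id_apply, Algebra.smul_def, Algebra.smul_def, map_mul]; rfl }
  have hφ : H1Cod.IsoCodOne φ := by
    intro p hp hh
    have hsV : hV.fromSpec ⟨p, hp⟩ ∈ V := (Set.ext_iff.1 hV.range_fromSpec _).1 (Set.mem_range_self _)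
    have hd : ringKrullDim (S.presheaf.stalk (hV.fromSpec ⟨p, hp⟩)) ≤ 1 := by
      letI := TopCat.Presheaf.algebra_section_stalk S.presheaf ⟨hV.fromSpec ⟨p, hp⟩, hsV⟩
      haveI : IsLocalization.AtPrime (S.presheaf.stalk (hV.fromSpec ⟨p, hp⟩)) p :=
        hV.isLocalization_stalk' ⟨p, hp⟩ hsV
      rw [IsLocalization.AtPrime.ringKrullDim_eq_height p (S.presheaf.stalk (hV.fromSpec ⟨p, hp⟩))]
      exact_mod_cast hh
    obtain ⟨r, hr, hrs⟩ := hV.exists_basicOpen_le (V := O) ⟨_, hfib' _ hd⟩ hsV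
    have hrp : r ∉ p := by
      have h1 : (⟨p, hp⟩ : PrimeSpectrum _) ∈ hV.fromSpec ⁻¹ᵁ S.basicOpen r := hrs
      rw [hV.fromSpec_preimage_basicOpen] at h1
      exact h1
    have hiso : IsIso (h ∣_ Z₂.basicOpen (g₂.app V r)) := by
      rw [← Scheme.preimage_basicOpen]
      exact FibIso.isIso_restrict h g₂ _ fun s hs => hr hs
    obtain ⟨h1, h2⟩ := away_of_isIso h hU hU1 (g₂.app V r) hiso
    refine ⟨r, hrp, fun y => ?_, fun x hx => ?_⟩
    · obtain ⟨n, z, hz⟩ := h1 y
      refine ⟨n, z, ?_⟩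
      rw [Algebra.smul_def, map_pow]
      exact hz
    · obtain ⟨n, hn⟩ := h2 x hx
      refine ⟨n, ?_⟩
      rw [Algebra.smul_def, map_pow]
      exact hn
  have hbij : Function.Bijective (h.app U) := H1Cod.bijective φ hφ
  haveI : IsIso (h.app U) := (ConcreteCategory.isIso_iff_bijective _).2 hbij
  haveI : IsAffine (U : Scheme.{u}) := hU
  haveI : IsAffine (h ⁻¹ᵁ U : Scheme.{u}) := hU1
  haveI : IsIso ((h ∣_ U).appTop) := by
    rw [morphismRestrict_appTop]
    have hA : IsIso (h.app (U.ι ''ᵁ ⊤)) := by rw [Scheme.Opens.ι_image_top]; infer_instance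
    exact @IsIso.comp_isIso _ _ _ _ _ (h.app (U.ι ''ᵁ ⊤))
      (Z₁.presheaf.map (eqToHom (image_morphismRestrict_preimage h U ⊤)).op) hA inferInstance
  exact (HasAffineProperty.iff_of_isAffine (P := MorphismProperty.isomorphisms Scheme.{u})).2 ⟨inferInstance, this⟩

/-- Let `S` be a Noetherian scheme, `G` a finite flat `S`-group scheme and `Y` a finite flat `S`-scheme
with an action of `G`; let `Ψ : G ×_S Y → Y ×_S Y` be `(g, y) ↦ (g y, y)`. Suppose that for every
point `s ∈ S` of codimension at most `1` (local ring of dimension `≤ 1`) the fibre `Y_s` is a torsor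
under `G_s`: it is nonempty and the base change of `Ψ` to `Spec κ(s)` is an isomorphism. Then `Y` is
a `G`-torsor: `Ψ` is an isomorphism and `Y → S` is surjective (so the finite flat cover `Y → S`
itself trivialises `Y`). -/
theorem result
    (S : Scheme.{u}) [AlgebraicGeometry.IsNoetherian S]
    (G Y : Over S) [GrpObj G]
    [AlgebraicGeometry.IsFinite G.hom] [AlgebraicGeometry.Flat G.hom]
    [AlgebraicGeometry.IsFinite Y.hom] [AlgebraicGeometry.Flat Y.hom]
    (a : AlgGrp.Action G Y)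
    (hfib : ∀ s : S, ringKrullDim (S.presheaf.stalk s) ≤ 1 →
      s ∈ Set.range Y.hom.base ∧
      IsIso (pullback.map (G ⊗ Y).hom (S.fromSpecResidueField s) (Y ⊗ Y).hom (S.fromSpecResidueField s)
        (CartesianMonoidalCategory.lift a.act (CartesianMonoidalCategory.snd G Y)).left
        (𝟙 _) (𝟙 S)
        ((Category.comp_id _).trans
          (Over.w (CartesianMonoidalCategory.lift a.act (CartesianMonoidalCategory.snd G Y))).symm)
        ((Category.comp_id _).trans (Category.id_comp _).symm))) :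
    IsIso (CartesianMonoidalCategory.lift a.act (CartesianMonoidalCategory.snd G Y)).left ∧
      Function.Surjective Y.hom.base := by
  haveI hGY1 : AlgebraicGeometry.IsFinite (G ⊗ Y).hom := by
    rw [Over.tensorObj_hom]; infer_instance
  haveI hGY2 : AlgebraicGeometry.Flat (G ⊗ Y).hom := by
    rw [Over.tensorObj_hom]; infer_instance
  haveI hYY1 : AlgebraicGeometry.IsFinite (Y ⊗ Y).hom := by
    rw [Over.tensorObj_hom]; infer_instance
  haveI hYY2 : AlgebraicGeometry.Flat (Y ⊗ Y).hom := by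
    rw [Over.tensorObj_hom]; infer_instance
  refine ⟨isIso_of_codOne _ _ _ (Over.w _) fun s hs => (hfib s hs).2, fun s => ?_⟩
  let C := irreducibleComponent s
  have hC : IsIrreducible C := isIrreducible_irreducibleComponent
  have hgen : IsGenericPoint hC.genericPoint C := by
    have := hC.isGenericPoint_genericPoint_closure
    rwa [isClosed_irreducibleComponent.closure_eq] at this
  have h0 : ringKrullDim (S.presheaf.stalk hC.genericPoint) ≤ 1 := by
    have hmin : ∀ y : S, y ⤳ hC.genericPoint → y = hC.genericPoint := fun y hy => by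
      have h1 : irreducibleComponent s ⊆ closure {y} := by
        show C ⊆ _
        rw [← hgen.def]
        exact hy.closure_subset
      have h2 := eq_irreducibleComponent (x := s) (isIrreducible_singleton.closure).isPreirreducible h1
      exact (show IsGenericPoint y (irreducibleComponent s) from h2).eq hgen
    refine le_trans (le_of_eq ?_) zero_le_one
    rw [ringKrullDim_stalk_eq_coheight, Order.coheight_eq_zero.2]
    · rfl
    · intro y hy
      exact (hmin y hy).symm ▸ le_rfl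
  exact (hgen.specializes mem_irreducibleComponent).mem_closed (Y.hom.isClosedMap.isClosed_range) (hfib _ h0).1

end Groth.Agent.S15809
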