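import Groth.Statements.S15824
import Groth.Agent.RegImmLib.FibreQuasi
import Groth.Agent.LC.ExtDim
import Mathlib.AlgebraicGeometry.Morphisms.ClosedImmersion

set_option autoImplicit false
universe u
open CategoryTheory AlgebraicGeometry
open RegImm

namespace Groth.Agent.S15824

/-- Let X be a locally Noetherian scheme all of whose local rings are Cohen–Macaulay, and i : Z → X a
closed immersion which is regular (around every point, on some affine open of X the ideal of Z is
generated by a regular sequence). Then Z has no embedded points (each associated point of Z is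
generic in an irreducible component): for every point z of Z, if the maximal ideal of O_{Z,z} is an
associated prime of O_{Z,z} (as a module over itself), then O_{Z,z} has Krull dimension 0. (The
published statement takes X Noetherian and Z a local complete intersection subscheme; the assertion
is local on X and uses only that the ideal of Z is locally generated by a regular sequence.) -/
theorem result {X Z : Scheme.{u}}
    [IsLocallyNoetherian X] (hCM : ∀ x : X, LocCoh.IsCohenMacaulayLocalRing (X.presheaf.stalk x))
    (i : Z ⟶ X) [IsClosedImmersion i] (hi : RegImm.IsRegularImmersion RegImm.Kind.regular i) (z : Z)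
    (hz : IsAssociatedPrime (IsLocalRing.maximalIdeal (Z.presheaf.stalk z)) (Z.presheaf.stalk z)) :
    ringKrullDim (Z.presheaf.stalk z) = 0 := by
  haveI := hCM (i z)
  obtain ⟨rs, hrs, hker⟩ := RegImmLib.exists_stalk_of_regularImmersionAt i z (hi.2 z)
  let O := X.presheaf.stalk (i z)
  let φ := (i.stalkMap z).hom
  have hφ : Function.Surjective φ := i.stalkMap_surjective z
  have hCMM : LocCoh.IsCohenMacaulayModule O O := LocCoh.IsCohenMacaulayLocalRing.supportDim_eq_depth
  have hmem : ∀ r ∈ rs, r ∈ IsLocalRing.maximalIdeal O := fun r hr =>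
    IsLocalRing.le_maximalIdeal (RingHom.ker_ne_top φ) (hker.ge (Ideal.subset_span hr))
  have hCMq := LC.isCM_quot_ofList (R := O) O hCMM hrs.toIsWeaklyRegular hmem
  have hJ : (Ideal.ofList rs • ⊤ : Submodule O O) = RingHom.ker φ := by
    rw [smul_eq_mul, Ideal.mul_top, ← hker]
  have hlocal : ∀ a : O, φ a ∈ IsLocalRing.maximalIdeal (Z.presheaf.stalk z) ↔ a ∈ IsLocalRing.maximalIdeal O := by
    intro a
    exact ⟨fun ha hu => ha (hu.map φ), fun ha hu => ha (IsLocalHom.map_nonunit (f := φ) a hu)⟩
  haveI : IsNoetherianRing (Z.presheaf.stalk z) := isNoetherianRing_of_surjective O _ φ hφ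
  obtain ⟨-, w', hw'⟩ := (Alg6.mem_ass_iff (R := Z.presheaf.stalk z) (M := Z.presheaf.stalk z)).1 hz
  obtain ⟨w, rfl⟩ := hφ w'
  have hm : IsLocalRing.maximalIdeal O ∈ associatedPrimes O (O ⧸ (Ideal.ofList rs • ⊤ : Submodule O O)) := by
    refine Alg6.mem_ass_iff.2 ⟨inferInstance, Submodule.Quotient.mk w, fun a => ?_⟩
    rw [← Submodule.Quotient.mk_smul, Submodule.Quotient.mk_eq_zero, hJ, RingHom.mem_ker, smul_eq_mul,
      map_mul, ← smul_eq_mul (φ a), ← hw', hlocal]
  have h0 := LC.coheight_eq_of_ass_of_isCM _ hCMq (p := IsLocalRing.closedPoint O) hm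
  have hmax : Order.coheight (IsLocalRing.closedPoint O) = 0 :=
    Order.coheight_eq_zero.2 fun q _ => IsLocalRing.le_maximalIdeal q.isPrime.ne_top
  rw [hmax, Module.supportDim_eq_of_equiv (Submodule.quotEquivOfEq _ _ hJ),
    Module.supportDim_quotient_eq_ringKrullDim] at h0
  rw [← ringKrullDim_eq_of_ringEquiv (RingHom.quotientKerEquivOfSurjective hφ)]
  exact h0.symm

end Groth.Agent.S15824
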