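import Groth.Statements.S15825
import Groth.Agent.H1CMReg.Basic
import Groth.Agent.LC.LiaisonLocal
import Groth.Agent.RegNear.Basic
import Groth.Agent.H1Syn.Regular
import Groth.Agent.KRegLib.Mor
import Groth.Agent.KRegLib.Kinds
import Groth.Agent.QCoh.Stalk
import Mathlib
-- import your own Groth.Agent.* helpers here

set_option autoImplicit false
universe u
open CategoryTheory CategoryTheory.Limits AlgebraicGeometry
open RegImm
set_option backward.isDefEq.respectTransparency false
set_option backward.isDefEq.respectTransparency.types false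
set_option linter.style.haveILetI false
set_option maxHeartbeats 2000000

namespace Groth.Agent.S15825

open RingTheory.Sequence

/-- Points of an affine open whose prime contains the kernel of a closed immersion lie in its image. -/
theorem mem_range_of_le {X Y : Scheme.{u}} (i : Y ⟶ X) [IsClosedImmersion i] {U : X.Opens} (hU : IsAffineOpen U)
    (p : PrimeSpectrum Γ(X, U)) (hp : RingHom.ker (i.app U).hom ≤ p.asIdeal) :
    ∃ y : Y, i y = hU.fromSpec p := by
  have hV : IsAffineOpen (i ⁻¹ᵁ U) := hU.preimage i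
  have hs : Function.Surjective (i.app U) := i.app_surjective U hU
  haveI : (p.asIdeal.map (i.app U).hom).IsPrime := Ideal.map_isPrime_of_surjective hs hp
  let Q : PrimeSpectrum Γ(Y, i ⁻¹ᵁ U) := ⟨p.asIdeal.map (i.app U).hom, inferInstance⟩
  refine ⟨hV.fromSpec Q, ?_⟩
  have h1 := IsAffineOpen.SpecMap_appLE_fromSpec i hU hV le_rfl
  have h2 : Spec.map (i.appLE U (i ⁻¹ᵁ U) le_rfl) Q = p := by
    rw [← Scheme.Hom.app_eq_appLE]
    refine PrimeSpectrum.ext ?_
    exact (Ideal.comap_map_of_surjective' _ hs _).trans (sup_eq_left.2 hp)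
  rw [← h2]
  exact (congrArg (fun φ : Spec Γ(Y, i ⁻¹ᵁ U) ⟶ X => φ.base Q) h1).symm

/-- The equations of a regular immersion in the local ring at a point. -/
theorem exists_stalk_gens {X Y : Scheme.{u}} (i : Y ⟶ X) [IsClosedImmersion i] {c : ℕ}
    (hi : RegImm.IsRegularImmersionOfCodim RegImm.Kind.regular c i) {U : X.Opens} (hU : IsAffineOpen U) (x : X)
    (hxU : x ∈ U) (hxi : x ∈ Set.range i) :
    ∃ f : List (X.presheaf.stalk x), f.length = c ∧ (∀ r ∈ f, r ∈ IsLocalRing.maximalIdeal (X.presheaf.stalk x)) ∧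
      (RingHom.ker (i.app U).hom).map (X.presheaf.germ U x hxU).hom = Ideal.ofList f := by
  obtain ⟨y, rfl⟩ := hxi
  obtain ⟨V, hyV, -, rs, hlen, -, hker⟩ := hi.2 y
  have h1 : RingHom.ker (i.stalkMap y).hom = Ideal.ofList (rs.map (X.presheaf.germ V.1 (i y) hyV).hom) := by
    rw [RegNear.ker_stalkMap i y V.2 hyV, hker, Ideal.map_ofList]
  refine ⟨rs.map (X.presheaf.germ V.1 (i y) hyV).hom, by rw [List.length_map, hlen], fun r hr => ?_,
    (RegNear.ker_stalkMap i y hU hxU).symm.trans h1⟩
  exact IsLocalRing.le_maximalIdeal (RingHom.ker_ne_top (i.stalkMap y).hom) (h1 ▸ Ideal.subset_span hr)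

/-- The kernel of an intersection of closed subschemes on an affine open. -/
theorem ker_inter {X Y Z : Scheme.{u}} (iY : Y ⟶ X) (iZ : Z ⟶ X) [IsClosedImmersion iY] [IsClosedImmersion iZ]
    (U : X.affineOpens) :
    RingHom.ker ((pullback.fst iY iZ ≫ iY).app U.1).hom =
      RingHom.ker (iY.app U.1).hom ⊔ RingHom.ker (iZ.app U.1).hom := by
  let K := iY.ker ⊔ iZ.ker
  let a := IsClosedImmersion.lift iY K.subschemeι (le_sup_left.trans K.ker_subschemeι.ge)
  let b := IsClosedImmersion.lift iZ K.subschemeι (le_sup_right.trans K.ker_subschemeι.ge)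
  have hab : a ≫ iY = b ≫ iZ := (IsClosedImmersion.lift_fac _ _ _).trans (IsClosedImmersion.lift_fac _ _ _).symm
  have hfac : pullback.lift a b hab ≫ (pullback.fst iY iZ ≫ iY) = K.subschemeι := by
    rw [pullback.lift_fst_assoc]
    exact IsClosedImmersion.lift_fac _ _ _
  have h : (pullback.fst iY iZ ≫ iY).ker = K := by
    refine le_antisymm ?_ (sup_le (Scheme.Hom.le_ker_comp _ _) ?_)
    · conv_rhs => rw [← K.ker_subschemeι, ← hfac]
      exact Scheme.Hom.le_ker_comp _ _
    · rw [pullback.condition]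
      exact Scheme.Hom.le_ker_comp _ _
  have h2 := congrArg (fun J : X.IdealSheafData => J.ideal U) h
  simp only [K, Scheme.IdealSheafData.ideal_sup, Pi.sup_apply, Scheme.Hom.ker_apply] at h2
  exact h2

/-- Let X be a locally Noetherian scheme all of whose local rings are Cohen–Macaulay, and let iY : Y → X
and iZ : Z → X be closed immersions which are regular of constant codimension a and b respectively
(around every point, on some affine open of X the ideal is generated by a regular sequence of length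
a, resp. b). Let W = Y ×_X Z be the scheme-theoretic intersection, with closed immersion w = pr_1 ≫
iY : W → X, and suppose W has the expected codimension: at every point of W the local ring of X has
Krull dimension at least a + b. Then w is a regular immersion of codimension a + b (so W is again a
local complete intersection in X), and the fibre square formed by W, Y, Z, X is Tor-independent: for
every affine open U of X and every i > 0 the module Tor_i over Γ(X, U) of Γ(Y, iY⁻¹U) and Γ(Z,
iZ⁻¹U) (module structures through iY and iZ; Tor computed by resolving the second argument) is zero.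
(The published statement is phrased with local complete intersections in a Cohen–Macaulay scheme and
the global codimension of Y ∩ Z; regular sequences of the stated lengths and the pointwise dimension
bound express the same hypotheses, and the vanishing of these Tor modules on affine opens is
equivalent to the vanishing of the stalkwise Tor groups at the points of W.) -/
theorem result {X Y Z : Scheme.{u}}
    [IsLocallyNoetherian X] (hCM : ∀ x : X, LocCoh.IsCohenMacaulayLocalRing (X.presheaf.stalk x))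
    (iY : Y ⟶ X) (iZ : Z ⟶ X) [IsClosedImmersion iY] [IsClosedImmersion iZ] (a b : ℕ)
    (hY : RegImm.IsRegularImmersionOfCodim RegImm.Kind.regular a iY)
    (hZ : RegImm.IsRegularImmersionOfCodim RegImm.Kind.regular b iZ)
    (hcodim : ∀ w : ↥(pullback iY iZ), ((a + b : ℕ) : WithBot ℕ∞) ≤
      ringKrullDim (X.presheaf.stalk ((pullback.fst iY iZ ≫ iY).base w))) :
    RegImm.IsRegularImmersionOfCodim RegImm.Kind.regular (a + b) (pullback.fst iY iZ ≫ iY) ∧
      ∀ (U : X.Opens), IsAffineOpen U → ∀ (i : ℕ), 0 < i →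
        Subsingleton (@DRing.Tor Γ(X, U) _ i Γ(Y, iY ⁻¹ᵁ U) Γ(Z, iZ ⁻¹ᵁ U) _ (iY.app U).hom.toModule _ (iZ.app U).hom.toModule) := by
  classical
  -- the height bound
  have hht : ∀ {U : X.Opens} (hU : IsAffineOpen U) (p : PrimeSpectrum Γ(X, U)),
      RingHom.ker (iY.app U).hom ⊔ RingHom.ker (iZ.app U).hom ≤ p.asIdeal →
        ((a + b : ℕ) : ℕ∞) ≤ p.asIdeal.height := fun {U} hU p hp => by
    obtain ⟨y, hy⟩ := mem_range_of_le iY hU p (le_sup_left.trans hp)
    obtain ⟨z, hz⟩ := mem_range_of_le iZ hU p (le_sup_right.trans hp)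
    obtain ⟨w, hw, -⟩ := Scheme.Pullback.exists_preimage_pullback (f := iY) (g := iZ) y z (hy.trans hz.symm)
    have hwp : (pullback.fst iY iZ ≫ iY).base w = hU.fromSpec p := by
      show iY (pullback.fst iY iZ w) = _
      rw [hw, hy]
    have h := hcodim w
    rw [hwp] at h
    have hmem : hU.fromSpec p ∈ U := by
      have : hU.fromSpec p ∈ Set.range hU.fromSpec := ⟨p, rfl⟩
      rwa [hU.range_fromSpec] at this
    have hp' : hU.primeIdealOf ⟨hU.fromSpec p, hmem⟩ = p :=
      hU.fromSpec.isOpenEmbedding.injective (hU.fromSpec_primeIdealOf ⟨hU.fromSpec p, hmem⟩)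
    letI : Algebra Γ(X, U) (X.presheaf.stalk (hU.fromSpec p)) := (X.presheaf.germ U _ hmem).hom.toAlgebra
    haveI : IsLocalization.AtPrime (X.presheaf.stalk (hU.fromSpec p)) p.asIdeal := by
      have hM : p.asIdeal.primeCompl = (hU.primeIdealOf ⟨hU.fromSpec p, hmem⟩).asIdeal.primeCompl :=
        Submonoid.ext fun r => (not_congr (SetLike.ext_iff.1 (congrArg PrimeSpectrum.asIdeal hp') r)).symm
      show IsLocalization p.asIdeal.primeCompl _
      rw [hM]
      exact hU.isLocalization_stalk ⟨_, hmem⟩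
    rw [IsLocalization.AtPrime.ringKrullDim_eq_height p.asIdeal] at h
    exact WithBot.coe_le_coe.1 h
  -- the local rings of the points of the intersection
  have hloc : ∀ {U : X.Opens} (hU : IsAffineOpen U) (q : Ideal Γ(X, U)) [q.IsPrime],
      RingHom.ker (iY.app U).hom ⊔ RingHom.ker (iZ.app U).hom ≤ q →
      ∃ f g : List (Localization.AtPrime q), f.length = a ∧ g.length = b ∧
        (RingHom.ker (iY.app U).hom).map (algebraMap _ (Localization.AtPrime q)) = Ideal.ofList f ∧
        (RingHom.ker (iZ.app U).hom).map (algebraMap _ (Localization.AtPrime q)) = Ideal.ofList g ∧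
        (∀ r ∈ f ++ g, r ∈ IsLocalRing.maximalIdeal (Localization.AtPrime q)) ∧
        LocCoh.IsCohenMacaulayLocalRing (Localization.AtPrime q) := fun {U} hU q _ hq => by
    let p : PrimeSpectrum Γ(X, U) := ⟨q, inferInstance⟩
    have hmem : hU.fromSpec p ∈ U := by
      have : hU.fromSpec p ∈ Set.range hU.fromSpec := ⟨p, rfl⟩
      rwa [hU.range_fromSpec] at this
    have hp' : hU.primeIdealOf ⟨hU.fromSpec p, hmem⟩ = p :=
      hU.fromSpec.isOpenEmbedding.injective (hU.fromSpec_primeIdealOf ⟨hU.fromSpec p, hmem⟩)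
    letI : Algebra Γ(X, U) (X.presheaf.stalk (hU.fromSpec p)) := (X.presheaf.germ U _ hmem).hom.toAlgebra
    haveI : IsLocalization.AtPrime (X.presheaf.stalk (hU.fromSpec p)) q := by
      have hM : q.primeCompl = (hU.primeIdealOf ⟨hU.fromSpec p, hmem⟩).asIdeal.primeCompl :=
        Submonoid.ext fun r => (not_congr (SetLike.ext_iff.1 (congrArg PrimeSpectrum.asIdeal hp') r)).symm
      show IsLocalization q.primeCompl _
      rw [hM]
      exact hU.isLocalization_stalk ⟨_, hmem⟩
    let e : X.presheaf.stalk (hU.fromSpec p) ≃ₐ[Γ(X, U)] Localization.AtPrime q :=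
      IsLocalization.algEquiv q.primeCompl _ _
    obtain ⟨f, hf, hfm, hfI⟩ := exists_stalk_gens iY hY hU _ hmem
      (mem_range_of_le iY hU p (le_sup_left.trans hq))
    obtain ⟨g, hg, hgm, hgJ⟩ := exists_stalk_gens iZ hZ hU _ hmem
      (mem_range_of_le iZ hU p (le_sup_right.trans hq))
    have hmap : ∀ (I : Ideal Γ(X, U)) (l : List (X.presheaf.stalk (hU.fromSpec p))),
        I.map (X.presheaf.germ U (hU.fromSpec p) hmem).hom = Ideal.ofList l →
          I.map (algebraMap _ (Localization.AtPrime q)) = Ideal.ofList (l.map e.toRingEquiv.toRingHom) :=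
      fun I l h => by
        rw [← Ideal.map_ofList, ← h, Ideal.map_map]
        exact congrArg (fun φ => I.map φ) (RingHom.ext fun r => (e.commutes r).symm)
    refine ⟨f.map e.toRingEquiv.toRingHom, g.map e.toRingEquiv.toRingHom, by simp [hf], by simp [hg],
      hmap _ _ hfI, hmap _ _ hgJ, fun r hr => ?_, ?_⟩
    · have hm : ∀ s ∈ IsLocalRing.maximalIdeal (X.presheaf.stalk (hU.fromSpec p)),
          e s ∈ IsLocalRing.maximalIdeal (Localization.AtPrime q) := fun s hs => by
        rw [IsLocalRing.mem_maximalIdeal, mem_nonunits_iff] at hs ⊢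
        exact fun hu => hs (by simpa using hu.map e.symm)
      rcases List.mem_append.1 hr with h | h <;> obtain ⟨s, hs, rfl⟩ := List.mem_map.1 h
      · exact hm s (hfm s hs)
      · exact hm s (hgm s hs)
    · haveI := hCM (hU.fromSpec p)
      haveI : IsNoetherianRing (Localization.AtPrime q) := isNoetherianRing_of_ringEquiv _ e.toRingEquiv
      exact LC.Liaison.isCMLocal_of_ringEquiv e.toRingEquiv
  -- joint regularity
  have hreg : ∀ {U : X.Opens} (hU : IsAffineOpen U) (q : Ideal Γ(X, U)) [q.IsPrime]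
      [LocCoh.IsCohenMacaulayLocalRing (Localization.AtPrime q)],
      RingHom.ker (iY.app U).hom ⊔ RingHom.ker (iZ.app U).hom ≤ q →
      ∀ L : List (Localization.AtPrime q), L.length = a + b →
        (∀ r ∈ L, r ∈ IsLocalRing.maximalIdeal (Localization.AtPrime q)) →
        (RingHom.ker (iY.app U).hom ⊔ RingHom.ker (iZ.app U).hom).map (algebraMap _ (Localization.AtPrime q)) ≤
          Ideal.ofList L →
        RingTheory.Sequence.IsWeaklyRegular (Localization.AtPrime q) L := fun {U} hU q _ _ hq L hlen hmem hle =>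
    H1CMReg.weaklyRegular_of_height L hmem fun Q hQ hL => by
      rw [hlen, ← IsLocalization.height_under q.primeCompl Q]
      exact hht hU ⟨Q.comap (algebraMap _ _), hQ.comap _⟩
        (Ideal.map_le_iff_le_comap.1 (hle.trans (Ideal.span_le.2 hL)))
  refine ⟨⟨inferInstance, fun w => ?_⟩, fun U hU i hi => ?_⟩
  · -- the regular immersion
    let wι := pullback.fst iY iZ ≫ iY
    obtain ⟨VY, hyV, -, rY, hlY, -, hkY⟩ := hY.2 (pullback.fst iY iZ w)
    obtain ⟨VZ, hzV, -, rZ, hlZ, -, hkZ⟩ := hZ.2 (pullback.snd iY iZ w)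
    have hxY : wι w ∈ VY.1 := hyV
    have hxZ : wι w ∈ VZ.1 := by
      show (pullback.fst iY iZ ≫ iY) w ∈ VZ.1
      rw [pullback.condition]
      exact hzV
    obtain ⟨_, ⟨U, hU, rfl⟩, hxU, hle⟩ := X.isBasis_affineOpens.exists_subset_of_mem_open
      (show wι w ∈ VY.1 ⊓ VZ.1 from ⟨hxY, hxZ⟩) (VY.1 ⊓ VZ.1).isOpen
    have hleY : U ≤ VY.1 := fun t ht => (hle ht).1
    have hleZ : U ≤ VZ.1 := fun t ht => (hle ht).2
    let L : List Γ(X, U) :=
      rY.map (X.presheaf.map (homOfLE hleY).op).hom ++ rZ.map (X.presheaf.map (homOfLE hleZ).op).hom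
    have hIY : RingHom.ker (iY.app U).hom = Ideal.ofList (rY.map (X.presheaf.map (homOfLE hleY).op).hom) := by
      rw [← Ideal.map_ofList, ← hkY, ← Scheme.Hom.ker_apply iY ⟨U, hU⟩, ← Scheme.Hom.ker_apply iY VY]
      exact (Scheme.IdealSheafData.map_ideal iY.ker (U := ⟨U, hU⟩) (V := VY) hleY).symm
    have hIZ : RingHom.ker (iZ.app U).hom = Ideal.ofList (rZ.map (X.presheaf.map (homOfLE hleZ).op).hom) := by
      rw [← Ideal.map_ofList, ← hkZ, ← Scheme.Hom.ker_apply iZ ⟨U, hU⟩, ← Scheme.Hom.ker_apply iZ VZ]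
      exact (Scheme.IdealSheafData.map_ideal iZ.ker (U := ⟨U, hU⟩) (V := VZ) hleZ).symm
    have hI : Ideal.ofList L = RingHom.ker (wι.app U).hom := by
      rw [Ideal.ofList_append, ← hIY, ← hIZ]
      exact (ker_inter iY iZ ⟨U, hU⟩).symm
    have hlenL : L.length = a + b := by simp [L, hlY, hlZ]
    haveI : IsNoetherianRing Γ(X, U) := IsLocallyNoetherian.component_noetherian ⟨U, hU⟩
    obtain ⟨g, hg, hwr⟩ := H1Syn.exists_regular_away L fun q _ hq => by
      have hle' : RingHom.ker (iY.app U).hom ⊔ RingHom.ker (iZ.app U).hom ≤ q := by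
        rw [hIY, hIZ, ← Ideal.ofList_append]
        exact Ideal.span_le.2 hq
      obtain ⟨f₀, g₀, -, -, -, -, -, hCMq⟩ := hloc hU q hle'
      refine hreg hU q hle' _ (by rw [List.length_map, hlenL]) (fun r hr => ?_) ?_
      · obtain ⟨s, hs, rfl⟩ := List.mem_map.1 hr
        exact (IsLocalization.AtPrime.to_map_mem_maximal_iff _ q s).2 (hq s hs)
      · rw [hIY, hIZ, ← Ideal.ofList_append, Ideal.map_ofList]
    letI : Algebra Γ(X, U) Γ(X, X.basicOpen g) := (X.presheaf.map (homOfLE (X.basicOpen_le g)).op).hom.toAlgebra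
    haveI : IsLocalization.Away g Γ(X, X.basicOpen g) := hU.isLocalization_basicOpen g
    let e' : Localization.Away g ≃ₐ[Γ(X, U)] Γ(X, X.basicOpen g) :=
      IsLocalization.algEquiv (Submonoid.powers g) _ _
    have hV : IsAffineOpen (wι ⁻¹ᵁ U) := hU.preimage wι
    have hs : Function.Surjective (wι.app U) := wι.app_surjective U hU
    have hxg : wι w ∈ X.basicOpen g := by
      refine (QCoh.mem_basicOpen_iff_notMem hU hxU g).2 fun hgp => ?_
      have hle := KRegLib.ker_app_le_primeIdealOf wι hU hV w hxU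
      have h1 : g - 1 ∈ (hU.primeIdealOf ⟨wι w, hxU⟩).asIdeal := hle (hI ▸ hg)
      have h2 := Submodule.sub_mem _ hgp h1
      rw [sub_sub_cancel] at h2
      exact (hU.primeIdealOf ⟨wι w, hxU⟩).2.ne_top ((Ideal.eq_top_iff_one _).2 h2)
    have hprops := KRegLib.app_basicOpen_props wι hU hV hs g
    refine ⟨⟨X.basicOpen g, hU.basicOpen g⟩, hxg, IsZariskiLocalAtTarget.restrict (P := @IsClosedImmersion) inferInstance _,
      L.map (algebraMap Γ(X, U) Γ(X, X.basicOpen g)), by rw [List.length_map, hlenL], ⟨?_, ?_⟩, ?_⟩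
    · refine (AddEquiv.isWeaklyRegular_congr (e := e'.toRingEquiv.toAddEquiv) ?_).1 hwr
      refine List.forall₂_map_left_iff.2 (List.forall₂_map_right_iff.2 (List.forall₂_same.2 fun y _ v => ?_))
      exact (map_mul e' _ v).trans (congrArg (· * e' v) (e'.commutes y))
    · rw [smul_eq_mul, Ideal.mul_top, ← Ideal.map_ofList, hI]
      have h3 := hprops.2.2
      rw [RingHom.algebraMap_toAlgebra, ← h3]
      intro htop
      haveI : Nonempty ↥(wι ⁻¹ᵁ X.basicOpen g).toScheme := ⟨⟨w, hxg⟩⟩
      haveI := Scheme.component_nontrivial (pullback iY iZ) (wι ⁻¹ᵁ X.basicOpen g)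
      exact RingHom.ker_ne_top _ htop.symm
    · rw [← Ideal.map_ofList, hI]
      exact hprops.2.2
  · -- Tor independence
    let I := RingHom.ker (iY.app U).hom
    let J := RingHom.ker (iZ.app U).hom
    haveI : IsNoetherianRing Γ(X, U) := IsLocallyNoetherian.component_noetherian ⟨U, hU⟩
    have h0 : Subsingleton (DRing.Tor Γ(X, U) i (Γ(X, U) ⧸ I) (Γ(X, U) ⧸ J)) := by
      refine H1CMReg.tor_of_local I J i fun m _ => ?_
      haveI : IsNoetherianRing (Localization.AtPrime m) :=
        IsLocalization.isNoetherianRing m.primeCompl _ inferInstance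
      by_cases hm : I ⊔ J ≤ m
      · obtain ⟨f, g, hf, hg, hfI, hgJ, hmem, hCMq⟩ := hloc hU m hm
        have hlee : ∀ l, Ideal.ofList l = Ideal.ofList (f ++ g) →
            (I ⊔ J).map (algebraMap _ (Localization.AtPrime m)) ≤ Ideal.ofList l := fun l hl => by
          rw [hl, Ideal.map_sup, hfI, hgJ, Ideal.ofList_append]
        refine H1CMReg.tor_local f g hfI hgJ ?_ (hreg hU m hm _ (by simp [hf, hg]) hmem (hlee _ rfl))
          (hreg hU m hm _ (by simp [hf, hg, add_comm])
            (fun r hr => hmem r (by simp only [List.mem_append] at hr ⊢; exact hr.symm))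
            (hlee _ (by rw [Ideal.ofList_append, Ideal.ofList_append, sup_comm]))) i hi
        rw [← Ideal.map_sup]
        exact ne_top_of_le_ne_top (IsLocalRing.maximalIdeal.isMaximal _).ne_top
          (Ideal.map_le_iff_le_comap.2 (hm.trans
            (IsLocalization.AtPrime.comap_maximalIdeal (Localization.AtPrime m) m).ge))
      · refine H1CMReg.tor_of_subsingleton _ _ ?_ i hi
        have hcase : ∀ K : Ideal Γ(X, U), ¬ K ≤ m →
            Subsingleton (Localization.AtPrime m ⧸ K.map (algebraMap _ (Localization.AtPrime m))) := fun K hK => by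
          obtain ⟨r, hr, hrm⟩ := SetLike.not_le_iff_exists.1 hK
          refine Ideal.Quotient.subsingleton_iff.2 (Ideal.eq_top_of_isUnit_mem _ (Ideal.mem_map_of_mem _ hr) ?_)
          exact IsLocalization.map_units (Localization.AtPrime m) (⟨r, hrm⟩ : m.primeCompl)
        by_cases hIm : I ≤ m
        · exact Or.inr (hcase J fun hJm => hm (sup_le hIm hJm))
        · exact Or.inl (hcase I hIm)
    letI : Module Γ(X, U) Γ(Y, iY ⁻¹ᵁ U) := (iY.app U).hom.toModule
    letI : Module Γ(X, U) Γ(Z, iZ ⁻¹ᵁ U) := (iZ.app U).hom.toModule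
    let φ : Γ(X, U) →ₗ[Γ(X, U)] Γ(Y, iY ⁻¹ᵁ U) :=
      { toFun := iY.app U, map_add' := map_add _, map_smul' := fun r s => map_mul (iY.app U).hom r s }
    let ψ : Γ(X, U) →ₗ[Γ(X, U)] Γ(Z, iZ ⁻¹ᵁ U) :=
      { toFun := iZ.app U, map_add' := map_add _, map_smul' := fun r s => map_mul (iZ.app U).hom r s }
    exact H1CMReg.tor_congr
      ((Submodule.quotEquivOfEq I (LinearMap.ker φ) rfl).trans
        (φ.quotKerEquivOfSurjective (iY.app_surjective U hU))).symm
      ((Submodule.quotEquivOfEq J (LinearMap.ker ψ) rfl).trans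
        (ψ.quotKerEquivOfSurjective (iZ.app_surjective U hU))).symm i h0

end Groth.Agent.S15825
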