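import Groth.Statements.S15826
import Groth.Agent.ExtShX.FundCon
import Groth.Agent.QCoh.Stalk
import Groth.Agent.QCoh.LocFree
import Mathlib

set_option autoImplicit false
universe u
open CategoryTheory AlgebraicGeometry Opposite
open RegImm

namespace Groth.Agent.S15826

open scoped TensorProduct

/-- Let X be a scheme, E a finite locally free O_X-module of rank n and s : E → O_X a regular section,
meaning that around every point of X there is an affine open U and a basis e_1, …, e_n of E(U) over
Γ(X, U) such that s(e_1), …, s(e_n) is a weakly regular sequence in Γ(X, U) (each a non-zero-divisor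
modulo the previous ones). Let i : Y → X be a closed immersion whose ideal sheaf I_Y is the image of
s: t : E → I_Y is an epimorphism of O_X-modules with t followed by the inclusion I_Y → O_X equal to
s. Then the pulled-back map i^*t : i^*E → i^*I_Y is an isomorphism of O_Y-modules; its target is the
conormal sheaf C_{Y/X} = I_Y/I_Y², so E|_Y ≅ C_{Y/X} via s and, dually, N_{Y/X} ≅ E^∨|_Y. (The
published statement calls s regular when its image is a regular ideal sheaf locally generated by
rank-many sections; the local bases mapping to regular sequences used here are how the published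
proofs read that condition.) -/
theorem result {X Y : Scheme.{u}} (n : ℕ) (E : X.Modules)
    (hE : FlatMod.IsFinLocFreeOfRank n E) (s : E ⟶ Coh.structureModule X)
    (hs : ∀ x : X, ∃ U : X.affineOpens, x ∈ U.1 ∧
      ∃ b : Module.Basis (Fin n) Γ(X, U.1) (E.val.obj (op U.1)),
        @RingTheory.Sequence.IsWeaklyRegular Γ(X, U.1) Γ(X, U.1) _ _ _ (List.ofFn fun k => (s.val.app (op U.1)).hom (b k)))
    (i : Y ⟶ X) [IsClosedImmersion i] (t : E ⟶ ClSub.idealMod i.ker) [Epi t]
    (hts : t ≫ ClSub.idealModι i.ker = s) :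
    IsIso ((Scheme.Modules.pullback i).map t) := by
  classical
  refine Groth.Agent.KFlatLib.isIso_of_stalk _ fun a => ?_
  obtain ⟨U, hU, b, hb⟩ := hs (i a)
  have hEq : Coh.IsQCoh E := Groth.Agent.QCoh.isQCoh_of_isFinLocFree fun x => by
    obtain ⟨V, hxV, hV⟩ := hE x
    exact ⟨V, n, hxV, hV⟩
  let m₀ : Fin n → Γ(E, U.1) := fun k => b k
  let f : Fin n → Γ(X, U.1) := fun k => OmegaSh.idealSect i.ker U.1 (t.app U.1 (m₀ k))
  have hf : ∀ k, f k = (s.val.app (op U.1)).hom (b k) := fun k => by rw [← hts]; rfl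
  have hgen : ∀ (x : X) (hx : x ∈ U.1) (y : (DerSch.stalkFunctor X x).obj E),
      ∃ C : Fin n → X.presheaf.stalk x,
        ∑ k, C k • Groth.Agent.Synt29.OmegaStalk.gm E hx (m₀ k) = y := by
    intro x hx y
    letI := Groth.Agent.QCoh.stalkModule E hx
    haveI := Groth.Agent.QCoh.isLocalizedModule_germLin hEq U.2 hx
    obtain ⟨⟨m, r⟩, hr⟩ := IsLocalizedModule.surj (U.2.primeIdealOf ⟨x, hx⟩).asIdeal.primeCompl
      (Groth.Agent.QCoh.germLin E hx) y
    have hu : IsUnit (X.presheaf.germ U.1 x hx (r : Γ(X, U.1))) :=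
      (X.mem_basicOpen _ x hx).1 ((Groth.Agent.QCoh.mem_basicOpen_iff_notMem U.2 hx _).2 r.2)
    refine ⟨fun k => hu.unit⁻¹.val * X.presheaf.germ U.1 x hx (b.repr m k), ?_⟩
    simp only [mul_smul, ← Finset.smul_sum]
    have hsum : ∑ k, X.presheaf.germ U.1 x hx (b.repr m k) • Groth.Agent.Synt29.OmegaStalk.gm E hx (m₀ k) =
        Groth.Agent.Synt29.OmegaStalk.gm E hx (show Γ(E, U.1) from m) := by
      refine Eq.trans ?_ (congrArg (Groth.Agent.Synt29.OmegaStalk.gm E hx) (b.sum_repr m))
      refine Eq.trans ?_ (map_sum (Groth.Agent.Synt29.OmegaStalk.gm E hx) (fun k => (show Γ(E, U.1) from b.repr m k • b k)) _).symm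
      exact Finset.sum_congr rfl fun k _ => (Groth.Agent.Synt29.OmegaStalk.gm_smul E hx (b.repr m k) (m₀ k)).symm
    rw [hsum]
    refine (congrArg (hu.unit⁻¹.val • ·) (hr.symm : _ = (X.presheaf.germ U.1 x hx (r : Γ(X, U.1))) • y)).trans ?_
    show hu.unit⁻¹.val • (X.presheaf.germ U.1 x hx (r : Γ(X, U.1))) • y = y
    rw [smul_smul, IsUnit.val_inv_mul, one_smul]
  -- the chart
  let c : Groth.Agent.ExtShX.Fund.Chart i n :=
    { U := U.1
      hU := U.2
      f := f
      exact' := fun x hx => by
        letI : Algebra Γ(X, U.1) (X.presheaf.stalk x) := X.presheaf.algebra_section_stalk ⟨x, hx⟩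
        haveI := U.2.isLocalization_stalk ⟨x, hx⟩
        haveI : Module.Flat Γ(X, U.1) (X.presheaf.stalk x) :=
          IsLocalization.flat _ (U.2.primeIdealOf ⟨x, hx⟩).asIdeal.primeCompl
        refine Groth.Agent.WiebeLib.isExact_map (Groth.Agent.KRegLib.isExact_of_isWeaklyRegular f ?_)
        convert hb using 2
        funext k
        exact hf k
      span := fun x hx => le_antisymm (fun z hz => by
          obtain ⟨W, hW, e, he, rfl⟩ : ∃ (W : X.Opens) (hW : x ∈ W) (e : Γ(X, W)),
              i.app W e = 0 ∧ X.presheaf.germ W x hW e = z := by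
            by_cases hr : x ∈ Set.range i
            · obtain ⟨p, rfl⟩ := hr
              rw [Groth.Agent.ExtShX.Fund.Jst_eq_ker, RingHom.mem_ker] at hz
              obtain ⟨W, hW, -, e, he, h⟩ := Groth.Agent.Synt29.ConormalStalk.exists_killed i z hz ⊤ trivial
              exact ⟨W, hW, e, he, h⟩
            · obtain ⟨V, hV, e, rfl⟩ := X.presheaf.exists_germ_eq (x := x) z
              let W : X.Opens := V ⊓ ⟨(Set.range i)ᶜ, i.isClosedEmbedding.isClosed_range.isOpen_compl⟩
              haveI : Subsingleton Γ(Y, i ⁻¹ᵁ W) := by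
                have h0 : i ⁻¹ᵁ W = ⊥ := eq_bot_iff.2 fun p hp => hp.2 ⟨p, rfl⟩
                rw [h0]
                infer_instance
              exact ⟨W, ⟨hV, hr⟩, X.presheaf.map (homOfLE inf_le_left).op e, Subsingleton.elim _ _,
                X.presheaf.germ_res_apply _ _ _ _⟩
          obtain ⟨k, hk⟩ := Groth.Agent.OmegaUniv.exists_idealSect_of_app_eq_zero i W e he
          have hts' : Function.Surjective ((DerSch.stalkFunctor X x).map t) :=
            (ModuleCat.epi_iff_surjective _).1 inferInstance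
          obtain ⟨y, hy⟩ := hts' (Groth.Agent.Synt29.OmegaStalk.gm _ hW k)
          obtain ⟨C, hC⟩ := hgen x hx y
          have h1 : Groth.Agent.Synt29.ConormalStalk.Rep i x (Groth.Agent.Synt29.OmegaStalk.gm _ hW k)
              (∑ j, C j * X.presheaf.germ U.1 x hx (f j)) := by
            rw [← hy, ← hC, map_sum]
            refine Finset.induction_on (Finset.univ : Finset (Fin n)) ?_ fun j T hj ih => ?_
            · simpa using Groth.Agent.Synt29.ConormalStalk.rep_zero i x
            · rw [Finset.sum_insert hj, Finset.sum_insert hj]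
              refine Groth.Agent.Synt29.ConormalStalk.rep_add i ?_ ih
              rw [map_smul]
              exact Groth.Agent.Synt29.ConormalStalk.rep_smul i
                ⟨U.1, hx, t.app U.1 (m₀ j), (DerSch.stalkFunctor_map_germ x t U.1 hx (m₀ j)).symm, rfl⟩ (C j)
          rw [Groth.Agent.Synt29.ConormalSeq.rep_unique i
            (show Groth.Agent.Synt29.ConormalStalk.Rep i x _ _ from ⟨W, hW, k, rfl, congrArg (X.presheaf.germ W x hW) hk⟩) h1]
          exact (Submodule.mem_span_range_iff_exists_fun _).2 ⟨C, rfl⟩)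
        (Ideal.span_le.2 (by
          rintro _ ⟨k, rfl⟩
          by_cases hr : x ∈ Set.range i
          · obtain ⟨p, rfl⟩ := hr
            rw [SetLike.mem_coe, Groth.Agent.ExtShX.Fund.Jst_eq_ker, RingHom.mem_ker]
            refine (Scheme.Hom.germ_stalkMap_apply i U.1 p hx (f k)).trans ?_
            rw [Groth.Agent.OmegaUniv.app_idealSect, map_zero]
          · rw [Groth.Agent.ExtShX.Fund.Jst_eq_top i hr]
            exact Submodule.mem_top))
      app_eq := fun k => Groth.Agent.OmegaUniv.app_idealSect i U.1 _ }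
  have hco : ∀ k, Groth.Agent.ExtShX.Fund.coSec i c k = OmegaSh.conormalSect i U.1 (t.app U.1 (m₀ k)) := fun k => by
    refine congrArg (OmegaSh.conormalSect i U.1) (Groth.Agent.OmegaLib.idealSect_injective i.ker U.1 ?_)
    exact Groth.Agent.ExtShX.Fund.idealSect_choose i c k
  have ha : a ∈ i ⁻¹ᵁ c.U := hU
  have hbij := Groth.Agent.ExtShX.Fund.coSec_bijective i c a ha
  let P := (Scheme.Modules.pullback i).obj E
  let p : Fin n → (DerSch.stalkFunctor Y a).obj P := fun k =>
    Groth.Agent.Synt29.OmegaStalk.gm P ha (OmegaSh.pullSect i E U.1 (m₀ k))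
  have hsurj : Function.Surjective fun e : Fin n → Y.presheaf.stalk a => ∑ k, e k • p k := by
    intro z
    let Pi' := (Groth.Agent.KFlatLib.stalkPullbackIso i a).app E
    let un := ((ModuleCat.extendRestrictScalarsAdj (i.stalkMap a).hom).unit.app ((DerSch.stalkFunctor X (i a)).obj E)).hom
    have hun : Function.Surjective un := by
      intro w
      let _ := (i.stalkMap a).hom.toAlgebra
      change (Y.presheaf.stalk a) ⊗[X.presheaf.stalk (i a)] ((DerSch.stalkFunctor X (i a)).obj E) at w
      induction w using TensorProduct.induction_on with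
      | zero => exact ⟨0, map_zero _⟩
      | tmul r m =>
        obtain ⟨r', hr'⟩ := i.stalkMap_surjective a r
        refine ⟨r' • m, (map_smul un r' m).trans ?_⟩
        show (i.stalkMap a r' * 1) ⊗ₜ[X.presheaf.stalk (i a)] m = r ⊗ₜ[X.presheaf.stalk (i a)] m
        rw [mul_one, hr']
      | add z w ihz ihw =>
        obtain ⟨m, hm⟩ := ihz
        obtain ⟨m', hm'⟩ := ihw
        exact ⟨m + m', (map_add _ m m').trans (congrArg₂ (· + ·) hm hm')⟩
    obtain ⟨w, hw⟩ := hun (Pi'.hom z)
    obtain ⟨C, rfl⟩ := hgen (i a) hU w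
    refine ⟨fun k => i.stalkMap a (C k), (ConcreteCategory.bijective_of_isIso Pi'.hom).1 ?_⟩
    rw [← hw, map_sum]
    refine Eq.trans ?_ (map_sum un _ _).symm
    refine Finset.sum_congr rfl fun k _ => ?_
    rw [map_smul]
    refine Eq.trans ?_ (map_smul un (C k) _).symm
    exact congrArg (i.stalkMap a (C k) • ·) (Groth.Agent.Synt29.OmegaStalk.stalkPullbackIso_gm i E a ha (m₀ k))
  let φ := (DerSch.stalkFunctor Y a).map ((Scheme.Modules.pullback i).map t)
  have hφ : ∀ e : Fin n → Y.presheaf.stalk a, φ (∑ k, e k • p k) =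
      ∑ k, e k • (Omega.conormal i).presheaf.germ (i ⁻¹ᵁ c.U) a ha (Groth.Agent.ExtShX.Fund.coSec i c k) := by
    intro e
    rw [map_sum]
    refine Finset.sum_congr rfl fun k _ => ?_
    rw [map_smul]
    refine congrArg (e k • ·) ((DerSch.stalkFunctor_map_germ a _ (i ⁻¹ᵁ U.1) ha _).trans ?_)
    rw [hco]
    refine congrArg ((Omega.conormal i).presheaf.germ (i ⁻¹ᵁ U.1) a ha) ?_
    exact ((congrArg (fun g => (Scheme.Modules.Hom.app g U.1) (m₀ k))
      ((Scheme.Modules.pullbackPushforwardAdjunction i).unit.naturality t)) :).symm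
  rw [ConcreteCategory.isIso_iff_bijective]
  refine ⟨fun z z' h => ?_, fun w => ?_⟩
  · obtain ⟨e, rfl⟩ := hsurj z
    obtain ⟨e', rfl⟩ := hsurj z'
    rw [hbij.1 (((hφ e).symm.trans h).trans (hφ e'))]
  · obtain ⟨e, he⟩ := hbij.2 w
    exact ⟨_, (hφ e).trans he⟩

end Groth.Agent.S15826
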