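import Groth.Statements.S15848
import Groth.Agent.DepthTwist.Induction
import Groth.Agent.PlanarExt.Basic
import Groth.Agent.TorRise7.Scheme
import Groth.Agent.H23.ClosedPushLen
import Groth.Agent.QCoh.Support
import Groth.Agent.PointBlowUp.SurfPic
import Groth.Agent.SmoothReg.Scheme
-- import your own Groth.Agent.* helpers here

set_option autoImplicit false
set_option backward.isDefEq.respectTransparency false
set_option backward.isDefEq.respectTransparency.types false
set_option linter.style.haveILetI false
set_option maxHeartbeats 1000000
universe u
open CategoryTheory CategoryTheory.Limits AlgebraicGeometry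
open Surf

namespace Groth.Agent.S15848
open Groth.Agent

/-- Let k be an algebraically closed field of characteristic zero and S a smooth surface over k (an
integral k-scheme, smooth over k, of dimension two). Let j : C → S be a closed immersion with C
integral of dimension one, M a coherent O_C-module whose stalks are torsion-free modules over the
local rings of C, F a finite locally free O_S-module and f : F → j_*M an epimorphism of O_S-modules.
Then the kernel of f, the elementary transformation of F along f, is a finite locally free
O_S-module. (The published setting takes S projective; the argument is local on S and projectivity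
is not assumed here.) -/
theorem result
    (k : Type u) [Field k] [IsAlgClosed k] [CharZero k]
    (S : Scheme.{u}) [S.Over (Spec (CommRingCat.of k))] [IsIntegral S]
    [Smooth (S ↘ Spec (CommRingCat.of k))] (hdim : topologicalKrullDim S = 2)
    (C : Scheme.{u}) (j : C ⟶ S) [IsClosedImmersion j] [IsIntegral C]
    (hC : topologicalKrullDim C = 1)
    (M : C.Modules) (hM : Coh.IsCoh M) (hMtf : TorSh.IsTorsionFree M)
    (F : S.Modules) (hF : FlatMod.IsFinLocFree F)
    (f : F ⟶ (Coh.push j).obj M) [Epi f] :
    FlatMod.IsFinLocFree (kernel f) := by
  haveI : LocallyOfFiniteType (S ↘ Spec (CommRingCat.of k)) := inferInstance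
  haveI : IsLocallyNoetherian S := LocallyOfFiniteType.isLocallyNoetherian (S ↘ Spec (CommRingCat.of k))
  haveI : JacobsonSpace S := LocallyOfFiniteType.jacobsonSpace (S ↘ Spec (CommRingCat.of k))
  have hN : Coh.IsCoh ((Coh.push j).obj M) := QCoh.isCoh_pushforward_finite j hM
  have hK : Coh.IsCoh (kernel f) := QCoh.isCoh_kernel (CurveDeg.isCoh_of_isFinLocFree hF) hN f
  let T : ShortComplex S.Modules := ShortComplex.mk (kernel.ι f) f (kernel.condition f)
  have hT : T.ShortExact := { exact := ShortComplex.exact_of_f_is_kernel _ (kernelIsKernel f) }
  refine DepthTwist.isFinLocFree_of_pdLT hK fun x hx => ?_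
  let G := DerSch.stalkFunctor S x
  obtain ⟨hreg, hd⟩ := PointBlowUp.regular_point (k := k) hdim x hx
  haveI := hreg
  have hF1 : HasProjectiveDimensionLT (G.obj F) 1 := by
    haveI : Module.Free (S.presheaf.stalk x) (F.presheaf.stalk x) := QCoh.free_stalk_of_isFinLocFree hF x
    haveI : Module.Free (S.presheaf.stalk x) (G.obj F) := this
    exact projective_iff_hasProjectiveDimensionLT_one.1
      ((IsProjective.iff_projective (R := S.presheaf.stalk x) (G.obj F)).1 inferInstance)
  haveI : Module.Finite (S.presheaf.stalk x) (G.obj ((Coh.push j).obj M)) :=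
    QCoh.finite_stalk_of_isFT hN.1 hN.2 x
  have hN2 : HasProjectiveDimensionLT (G.obj ((Coh.push j).obj M)) 2 := by
    have h : RegLoc6.PdLE (S.presheaf.stalk x) 1 (G.obj ((Coh.push j).obj M)) := by
      refine LC.pdLE_of_le_depth (S.presheaf.stalk x) 2 (by rw [hd]; rfl) _ 1 ?_
      suffices h1 : (1 : ℕ∞) ≤ LocCoh.depth (S.presheaf.stalk x) (G.obj ((Coh.push j).obj M)) from
        le_trans (le_of_eq (by norm_num)) (add_le_add h1 le_rfl)
      by_cases hr : x ∈ Set.range j
      · obtain ⟨c, rfl⟩ := hr
        have hc : IsClosed ({c} : Set C) := by
          have := hx.preimage j.continuous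
          rwa [← Set.image_singleton, Set.preimage_image_eq _ j.isClosedEmbedding.injective] at this
        have hdc : ringKrullDim (C.presheaf.stalk c) = 1 :=
          (SmoothReg.ringKrullDim_stalk_closedPoint (j ≫ (S ↘ Spec (CommRingCat.of k))) hc).trans hC
        have hne : IsLocalRing.maximalIdeal (C.presheaf.stalk c) ≠ ⊥ := fun h0 => by
          rw [ringKrullDim_eq_zero_of_isField (IsLocalRing.isField_iff_maximalIdeal_eq.2 h0)] at hdc
          exact zero_ne_one hdc
        obtain ⟨a, ha, ha0⟩ := Submodule.exists_mem_ne_zero_of_ne_bot hne
        obtain ⟨b, rfl⟩ := j.stalkMap_surjective c a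
        have hb : b ∈ IsLocalRing.maximalIdeal (S.presheaf.stalk (j c)) := by
          rw [IsLocalRing.mem_maximalIdeal, mem_nonunits_iff] at ha ⊢
          exact fun hu => ha (hu.map _)
        refine PlanarExt.one_le_depth_of_regular hb ?_
        let w := ((TorRise7.stalkPushModIso j c).app M).toLinearEquiv
        refine fun p q hpq => w.injective ?_
        haveI := hMtf c
        refine (IsRegular.of_ne_zero ha0).isSMulRegular (M := M.presheaf.stalk c) ?_
        have := congrArg w hpq
        simp only [map_smul] at this
        exact this
      · haveI : Subsingleton (G.obj ((Coh.push j).obj M)) := H23.ClosedPushLen.subsingleton_stalk j M hr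
        exact PlanarExt.one_le_depth_of_regular (zero_mem _) fun p q _ => Subsingleton.elim p q
    exact h
  exact (hT.map_of_exact G).hasProjectiveDimensionLT_X₁ 1 hF1 hN2

end Groth.Agent.S15848
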