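import Groth.Statements.S15874
import Groth.Agent.SchTorsor.GenericExtend

set_option autoImplicit false
universe u
open CategoryTheory MonoidalCategory CartesianMonoidalCategory MonObj GrpObj AlgebraicGeometry
open NonAbH1

namespace Groth.Agent.S15874

/-- Let G be an étale k-group scheme and S a normal integral k-scheme with generic point η. Then an fppf
torsor over S under G whose base change to Spec κ(η) is trivial is itself trivial: the kernel of
H¹(S, G) → H¹(κ(η), G) on classes of torsors that are schemes is the base point. (The published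
statement takes S merely integral; the connected étale double cover of a nodal cubic over an
algebraically closed field is a non-trivial torsor under the constant group of order 2 that is
trivial at the generic point, so S is taken normal here, which is what the published proof uses.) -/
theorem result (k : Type u) [Field k]
    (G : Over (Spec (CommRingCat.of k))) [GrpObj G] [Etale G.hom]
    (S : Scheme.{u}) [IsIntegral S] (hS : Pi1.IsNormalScheme S) (s : S ⟶ Spec (CommRingCat.of k))
    (c : NonAbH1.H1Sch (Red.bc s G) Scheme.fppfPrecoverage)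
    (hc : NonAbH1.H1Sch.bcMap (S.fromSpecResidueField (genericPoint S)) (Red.bc s G) Scheme.fppfPrecoverage c = 1) :
    c = 1 := by
  induction c using Quot.ind with | _ P => ?_
  let j := S.fromSpecResidueField (genericPoint S)
  let T : NonAbH1.TorsorSch (Red.bc j (Red.bc s G)) Scheme.fppfPrecoverage :=
    ⟨Red.bc j (Red.bc s G), NonAbH1.trivialAction _, NonAbH1.isTorsorFor_trivialAction _ _⟩
  change Quot.mk _ (P.bc j) = Quot.mk _ T at hc
  have hrel : Nonempty (NonAbH1.EquivIso (P.bc j).act T.act) := by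
    refine Equivalence.eqvGen_iff ?_ |>.1 (Quot.eqvGen_exact hc)
    refine ⟨fun T => ⟨⟨Iso.refl _, ?_⟩⟩, fun {T U} ⟨e⟩ => ⟨⟨e.iso.symm, ?_⟩⟩,
      fun {T U V} ⟨e⟩ ⟨e'⟩ => ⟨⟨e.iso.trans e'.iso, ?_⟩⟩⟩
    · simp
    · rw [Iso.symm_hom, ← cancel_mono e.iso.hom]
      simp only [Category.assoc, Iso.inv_hom_id, Category.comp_id]
      rw [e.comm, ← MonoidalCategory.whiskerLeft_comp_assoc, Iso.inv_hom_id, MonoidalCategory.whiskerLeft_id,
        Category.id_comp]
    · rw [Iso.trans_hom, reassoc_of% e.comm, e'.comm, MonoidalCategory.whiskerLeft_comp_assoc]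
  obtain ⟨e⟩ := hrel
  let p : 𝟙_ (Over (Spec (S.residueField (genericPoint S)))) ⟶ Red.bc j P.X := η[Red.bc j (Red.bc s G)] ≫ e.iso.inv
  have hp : p.left ≫ Limits.pullback.snd P.X.hom j = 𝟙 _ := Over.w p
  have hx : (p.left ≫ Limits.pullback.fst P.X.hom j) ≫ P.X.hom = j := by
    rw [Category.assoc, Limits.pullback.condition, reassoc_of% hp]
  have ha : NonAbH1.IsTorsorFor Scheme.fpqcPrecoverage P.act :=
    ⟨P.isTorsor.1, P.isTorsor.2.choose,
      Scheme.fppfPrecoverage_le_fpqcPrecoverage _ P.isTorsor.2.choose_spec.1, P.isTorsor.2.choose_spec.2⟩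
  obtain ⟨σ, hσ, -⟩ := SchTorsor.GenericExtend.exists_section hS ha hx
  let σ' : 𝟙_ (Over S) ⟶ P.X := Over.homMk σ hσ
  let f : Red.bc s G ⟶ P.X := lift (𝟙 _) (toUnit _ ≫ σ') ≫ P.act.act
  have hf : (NonAbH1.trivialAction (Red.bc s G)).act ≫ f = (Red.bc s G ◁ f) ≫ P.act.act := by
    have h1 := Groth.Agent.SchTorsor.act_assoc P.act (fst (Red.bc s G) (Red.bc s G)) (snd _ _) (toUnit _ ≫ σ')
    rw [Hom.mul_def, lift_fst_snd, Category.id_comp] at h1
    change μ ≫ f = _
    simp only [f, comp_lift_assoc, Category.comp_id, comp_toUnit_assoc]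
    rw [h1]
    have h2 : (Red.bc s G ◁ (lift (𝟙 _) (toUnit _ ≫ σ') ≫ P.act.act)) =
        lift (fst _ _) (lift (snd _ _) (toUnit _ ≫ σ') ≫ P.act.act) := by
      refine CartesianMonoidalCategory.hom_ext _ _ (by simp) ?_
      simp [comp_lift_assoc]
    rw [← h2]
  haveI := Groth.Agent.SchTorsor.isIso_of_equivariant
    (a := NonAbH1.trivialAction (Red.bc s G)) (NonAbH1.isTorsorFor_trivialAction _ _) P.isTorsor.1 f hf
  exact (Quot.sound ⟨⟨asIso f, hf⟩⟩).symm

end Groth.Agent.S15874
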