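import Groth.Statements.S15875
import Groth.Agent.GrpSchLib.HomQC
import Groth.Agent.GrpSchLib.AntiAffineHom
import Groth.Agent.GrpSchLib.HomFibre
import Groth.Agent.EtFound.Descent

set_option autoImplicit false
universe u
open CategoryTheory MonoidalCategory CartesianMonoidalCategory MonObj GrpObj AlgebraicGeometry
open AGF

namespace Groth.Agent.S15875

/-- Let k'/k be a finite purely inseparable field extension, G a k-group locally of finite type, q :
G_{k'} → Ḡ a faithfully flat homomorphism onto a k'-group Ḡ locally of finite type with
quasi-compact kernel N, and (R, q_R) a Weil restriction of Ḡ to k carrying a group structure for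
which q_R is a homomorphism. Then the comparison morphism i : G → R corresponding to q is
quasi-compact. (The published statement allows any finite extension k'/k and adds that the kernel of
i is quasi-compact as well; the published proof goes through the purely inseparable case of the
kernel of the counit of Weil restriction, so k'/k is taken purely inseparable here.) -/
theorem result (k k' : Type u) [Field k] [Field k'] [Algebra k k']
    [Module.Finite k k'] [IsPurelyInseparable k k']
    (G : Over (Spec (CommRingCat.of k))) [GrpObj G] [LocallyOfFiniteType G.hom]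
    (Gbar : Over (Spec (CommRingCat.of k'))) [GrpObj Gbar] [LocallyOfFiniteType Gbar.hom]
    (q : Red.bc (Spec.map (CommRingCat.ofHom (algebraMap k k'))) G ⟶ Gbar) [IsMonHom q] [Surjective q.left] [Flat q.left]
    (N : Over (Spec (CommRingCat.of k'))) (iN : N ⟶ Red.bc (Spec.map (CommRingCat.ofHom (algebraMap k k'))) G) (hN : AlgGrp.IsKernel iN q) [CompactSpace N.left]
    (R : Over (Spec (CommRingCat.of k))) [GrpObj R] (qR : Red.bc (Spec.map (CommRingCat.ofHom (algebraMap k k'))) R ⟶ Gbar) [IsMonHom qR]
    (hR : WeilRes.IsWeilRes (Spec.map (CommRingCat.ofHom (algebraMap k k'))) Gbar R qR) :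
    QuasiCompact (hR.lift G q).left := by
  let b : Spec (CommRingCat.of k') ⟶ Spec (CommRingCat.of k) := Spec.map (CommRingCat.ofHom (algebraMap k k'))
  let f : G ⟶ R := hR.lift G q
  have hf : (Over.pullback b).map f ≫ qR = q := hR.restr_lift G q
  have := GrpSchLib.AntiAffine.isSeparated_grp Gbar
  have hRs := GrpSchLib.AntiAffine.isSeparated_grp R
  have : IsLocallyNoetherian Gbar.left := LocallyOfFiniteType.isLocallyNoetherian Gbar.hom
  have : LocallyOfFiniteType q.left := by
    have : LocallyOfFiniteType (q.left ≫ Gbar.hom) := by
      rw [Over.w q]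
      show LocallyOfFiniteType (Limits.pullback.snd G.hom b)
      infer_instance
    exact locallyOfFiniteType_of_comp q.left Gbar.hom
  have hqc : QuasiCompact q.left := GrpSchLib.quasiCompact_of_kernel iN q hN
  have : QuasiSeparated qR.left := by
    have : QuasiSeparated (qR.left ≫ Gbar.hom) := by
      rw [Over.w qR]
      show QuasiSeparated (Limits.pullback.snd R.hom b)
      infer_instance
    exact QuasiSeparated.of_comp qR.left Gbar.hom
  have hbf : QuasiCompact ((Over.pullback b).map f).left := by
    have : QuasiCompact (((Over.pullback b).map f).left ≫ qR.left) := by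
      rw [← Over.comp_left, hf]; exact hqc
    exact QuasiCompact.of_comp _ qR.left
  let Q : MorphismProperty Scheme.{u} := @Surjective ⊓ @Flat ⊓ @QuasiCompact
  have : Surjective b := ⟨fun x => ⟨IsLocalRing.closedPoint k', Subsingleton.elim (α := PrimeSpectrum k) _ _⟩⟩
  have : Flat b := by
    rw [HasRingHomProperty.Spec_iff (P := @Flat)]
    exact RingHom.flat_algebraMap_iff.mpr inferInstance
  have hQ : Q (Limits.pullback.fst R.hom b) := ⟨⟨inferInstance, inferInstance⟩, inferInstance⟩
  have := EtFound.fpqc_quasiCompact.{u}
  exact MorphismProperty.of_isPullback_of_descendsAlong (P := @QuasiCompact) (Q := Q)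
    (GrpSchLib.HomFibre.map_isPullback f b).flip hQ hbf

end Groth.Agent.S15875
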