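import Groth.Statements.S15877
import Groth.Agent.WeilKer.Nilp
import Groth.Agent.BalLib.Descent
import Groth.Agent.GrpSchLib.HomFibre
import Groth.Agent.S0593

set_option autoImplicit false
universe u
open CategoryTheory MonoidalCategory CartesianMonoidalCategory MonObj GrpObj AlgebraicGeometry
open AGF

namespace Groth.Agent.S15877

open CategoryTheory.Limits GrpSchLib GrpSchLib.BundleQuot GrpSchLib.TopDescent

section adj

variable {S S' : Scheme.{u}} (b : S' ⟶ S)

/-- A scheme over the source as a scheme over the target. -/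
noncomputable abbrev push (T : Over S') : Over S := Over.mk (T.hom ≫ b)

/-- The graph of the structure map. -/
noncomputable def unit' (T : Over S') : T ⟶ (Over.pullback b).obj (push b T) :=
  Over.homMk (pullback.lift (𝟙 _) T.hom (Category.id_comp _)) (pullback.lift_snd _ _ _)

/-- The transpose of a morphism to a base change. -/
noncomputable def dn {T : Over S'} {X : Over S} (a : T ⟶ (Over.pullback b).obj X) : push b T ⟶ X :=
  Over.homMk (a.left ≫ pullback.fst X.hom b) (by
    rw [Category.assoc, pullback.condition, ← Category.assoc]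
    show (a.left ≫ ((Over.pullback b).obj X).hom) ≫ b = _
    rw [Over.w a]
    rfl)

theorem unit_dn {T : Over S'} {X : Over S} (a : T ⟶ (Over.pullback b).obj X) :
    unit' b T ≫ (Over.pullback b).map (dn b a) = a := by
  refine Over.OverMorphism.ext (pullback.hom_ext ?_ ((Over.w _).trans (Over.w a).symm))
  show (pullback.lift _ _ _ ≫ pullback.lift _ _ _) ≫ pullback.fst _ _ = _
  rw [Category.assoc, pullback.lift_fst, pullback.lift_fst_assoc]
  exact Category.id_comp _

theorem dn_comp {T : Over S'} {X Y : Over S} (a : T ⟶ (Over.pullback b).obj X) (f : X ⟶ Y) :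
    dn b (a ≫ (Over.pullback b).map f) = dn b a ≫ f := by
  refine Over.OverMorphism.ext ?_
  show (a.left ≫ pullback.lift _ _ _) ≫ pullback.fst _ _ = (a.left ≫ pullback.fst _ _) ≫ f.left
  rw [Category.assoc, pullback.lift_fst, Category.assoc]

variable {G H X : Over S} [GrpObj G] [GrpObj H] {i : H ⟶ G} {qX : G ⟶ X}
  (hX : IsPullback (fst G H) ((G ◁ i) ≫ μ[G]) qX qX)

include hX in
theorem bc_exists_eq_mul {T : Over S'} {g₁ g₂ : T ⟶ Red.bc b G}
    (h : g₁ ≫ (Over.pullback b).map qX = g₂ ≫ (Over.pullback b).map qX) :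
    ∃ t : T ⟶ Red.bc b H, g₁ * (t ≫ (Over.pullback b).map i) = g₂ := by
  have h' := congrArg (dn b) h
  rw [dn_comp, dn_comp] at h'
  obtain ⟨t, ht⟩ := exists_eq_mul hX h'
  refine ⟨unit' b T ≫ (Over.pullback b).map t, ?_⟩
  rw [← unit_dn b g₂, ← ht, CategoryTheory.Functor.map_mul, MonObj.comp_mul, unit_dn, Functor.map_comp, Category.assoc]

include hX in
theorem bc_mul_comp_proj {T : Over S'} (g : T ⟶ Red.bc b G) (t : T ⟶ Red.bc b H) :
    (g * (t ≫ (Over.pullback b).map i)) ≫ (Over.pullback b).map qX = g ≫ (Over.pullback b).map qX := by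
  have e : g * (t ≫ (Over.pullback b).map i) = unit' b T ≫ (Over.pullback b).map (dn b g * (dn b t ≫ i)) := by
    rw [CategoryTheory.Functor.map_mul, MonObj.comp_mul, unit_dn, Functor.map_comp, ← Category.assoc (unit' b T),
      unit_dn]
  rw [e, Category.assoc, ← Functor.map_comp, mul_comp_proj hX, Functor.map_comp, ← Category.assoc, unit_dn]

theorem hasLocSec_bc {U Y : Over S} {j : U ⟶ Y} (hj : BalLib.HasLocSec j) :
    HasLocSec Scheme.fppfTopology ((Over.pullback b).map j) := by
  obtain ⟨R, hR, hsec⟩ := hj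
  refine ⟨R.pullback (pullback.fst Y.hom b), Scheme.fppfTopology.pullback_stable _ hR, fun T a ha => ?_⟩
  obtain ⟨s, hs⟩ := hsec _ ha
  refine ⟨pullback.lift s (a ≫ pullback.snd Y.hom b) (by
    rw [← Over.w j, reassoc_of% hs, pullback.condition, Category.assoc]), pullback.hom_ext ?_ ?_⟩
  · show (_ ≫ pullback.lift _ _ _) ≫ pullback.fst _ _ = _
    rw [Category.assoc, pullback.lift_fst, pullback.lift_fst_assoc, hs]
  · show (_ ≫ pullback.lift _ _ _) ≫ pullback.snd _ _ = _
    rw [Category.assoc, pullback.lift_snd, pullback.lift_snd]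

end adj

theorem hasLocSec_comp {S : Scheme.{u}} {U Y Z : Over S} {j : U ⟶ Y} {l : Y ⟶ Z}
    (hj : HasLocSec Scheme.fppfTopology j) (hl : HasLocSec Scheme.fppfTopology l) :
    HasLocSec Scheme.fppfTopology (j ≫ l) := by
  obtain ⟨Rl, hRl, hsl⟩ := hl
  obtain ⟨Rj, hRj, hsj⟩ := hj
  choose s hs using hsl
  refine ⟨Sieve.bind Rl (fun T a ha => Rj.pullback (s a ha)), Scheme.fppfTopology.bind_covering hRl
    (fun T a ha => Scheme.fppfTopology.pullback_stable _ hRj), ?_⟩
  rintro T' _ ⟨T, g, a, ha, hg, rfl⟩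
  obtain ⟨x, hx⟩ := hsj _ hg
  exact ⟨x, by rw [Over.comp_left, reassoc_of% hx, hs]⟩

/-- Let k'/k be finite purely inseparable, G a k-group locally of finite type, q : G_{k'} → Ḡ a
faithfully flat homomorphism onto a k'-group locally of finite type with quasi-compact kernel, (R,
q_R) a Weil restriction of Ḡ to k with a group structure making q_R a homomorphism, i : G → R the
comparison homomorphism corresponding to q, H the closed subgroup of R through which i factors by a
faithfully flat homomorphism, and (Q, q₀) the fppf homogeneous space R/H. Then Q is an affine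
scheme. -/
theorem result (k k' : Type u) [Field k] [Field k']
    [Algebra k k'] [Module.Finite k k'] [IsPurelyInseparable k k']
    (G : Over (Spec (CommRingCat.of k))) [GrpObj G] [LocallyOfFiniteType G.hom]
    (Gbar : Over (Spec (CommRingCat.of k'))) [GrpObj Gbar] [LocallyOfFiniteType Gbar.hom]
    (q : Red.bc (Spec.map (CommRingCat.ofHom (algebraMap k k'))) G ⟶ Gbar) [IsMonHom q] [Surjective q.left] [Flat q.left]
    (N : Over (Spec (CommRingCat.of k'))) (iN : N ⟶ Red.bc (Spec.map (CommRingCat.ofHom (algebraMap k k'))) G) (hN : AlgGrp.IsKernel iN q) [CompactSpace N.left]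
    (R : Over (Spec (CommRingCat.of k))) [GrpObj R] (qR : Red.bc (Spec.map (CommRingCat.ofHom (algebraMap k k'))) R ⟶ Gbar) [IsMonHom qR]
    (hR : WeilRes.IsWeilRes (Spec.map (CommRingCat.ofHom (algebraMap k k'))) Gbar R qR)
    (H : Over (Spec (CommRingCat.of k))) [GrpObj H] (j : H ⟶ R) [IsMonHom j] [IsClosedImmersion j.left]
    (p : G ⟶ H) [IsMonHom p] [Surjective p.left] [Flat p.left] (hfac : p ≫ j = hR.lift G q)
    (Q : Over (Spec (CommRingCat.of k))) (aQ : AlgGrp.Action R Q) (q₀ : 𝟙_ (Over (Spec (CommRingCat.of k))) ⟶ Q)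
    (hQ : ChGrp.IsHomog Scheme.fppfPrecoverage j aQ q₀) :
    IsAffine Q.left := by
  let b : Spec (CommRingCat.of k') ⟶ Spec (CommRingCat.of k) := Spec.map (CommRingCat.ofHom (algebraMap k k'))
  let F := Over.pullback b
  obtain ⟨-, hsq, hlt⟩ := hQ
  haveI := AntiAffine.isSeparated_grp Gbar
  obtain ⟨K, _, iK, _, _, -, hK⟩ := exists_kernel qR
  obtain ⟨hKaff, -, hKft⟩ := WeilKer.affine_smooth k k' qR hR iK hK
  haveI := hKaff
  haveI := hKft
  obtain ⟨n, hn⟩ := WeilKer.exists_nilpotentAt k k' qR hR iK hK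
  haveI : Mono iK.left := inferInstance
  haveI : Mono iK := Over.mono_of_mono_left iK
  let π' : Red.bc b R ⟶ Red.bc b Q := F.map (aQ.orbitMap q₀)
  let i' : Red.bc b G ⟶ Red.bc b R := F.map (hR.lift G q)
  have hi' : i' ≫ qR = q := hR.restr_lift G q
  let j' : Red.bc b H ⟶ Red.bc b R := F.map j
  let c : K ⟶ Red.bc b Q := iK ≫ π'
  let Φ : Red.bc b G ⊗ K ⟶ Red.bc b R := (snd (Red.bc b G) K ≫ iK) * (fst (Red.bc b G) K ≫ i')
  have hΦ : IsPullback Φ (fst (Red.bc b G) K) qR q := by
    refine ⟨⟨?_⟩, ⟨Limits.PullbackCone.IsLimit.mk _ (fun s => lift s.snd (hK.lift (s.fst * (s.snd ≫ i')⁻¹) (toUnit _) ?_)) ?_ ?_ ?_⟩⟩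
    · rw [MonObj.mul_comp, Category.assoc, Category.assoc, hi', hK.w, ← Category.assoc (snd _ _),
        toUnit_unique (snd (Red.bc b G) K ≫ toUnit K) (toUnit _), ← Hom.one_def, _root_.one_mul]
    · rw [MonObj.mul_comp, GrpObj.inv_comp, Category.assoc, hi', s.condition, mul_inv_cancel]
      rfl
    · intro s
      simp only [Φ, MonObj.comp_mul, lift_fst_assoc, lift_snd_assoc, IsPullback.lift_fst, inv_mul_cancel_right]
    · intro s; simp
    · intro s w h1 h2
      apply CartesianMonoidalCategory.hom_ext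
      · rw [lift_fst, h2]
      · rw [lift_snd]
        refine hK.hom_ext ?_ (toUnit_unique _ _)
        rw [IsPullback.lift_fst, ← h1, ← h2]
        simp only [Φ, MonObj.comp_mul, Category.assoc, mul_inv_cancel_right]
  have hΦc : Φ ≫ π' = snd (Red.bc b G) K ≫ c := by
    have e : fst (Red.bc b G) K ≫ i' = (fst (Red.bc b G) K ≫ F.map p) ≫ j' := by
      simp only [i', j', ← hfac, Functor.map_comp, Category.assoc]
    show ((snd (Red.bc b G) K ≫ iK) * (fst (Red.bc b G) K ≫ i')) ≫ F.map _ = _
    rw [e, bc_mul_comp_proj b hsq, Category.assoc]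
  haveI : IsLocallyNoetherian Gbar.left := LocallyOfFiniteType.isLocallyNoetherian Gbar.hom
  haveI : LocallyOfFiniteType q.left := by
    have : LocallyOfFiniteType (q.left ≫ Gbar.hom) := by
      rw [Over.w q]
      show LocallyOfFiniteType (Limits.pullback.snd G.hom b)
      infer_instance
    exact locallyOfFiniteType_of_comp q.left Gbar.hom
  have hΦl := hΦ.map (Over.forget _)
  have hΦcov : Cover Φ :=
    ⟨MorphismProperty.of_isPullback (P := @Flat) hΦl.flip ‹Flat q.left›,
      MorphismProperty.of_isPullback (P := @Surjective) hΦl.flip ‹Surjective q.left›,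
      MorphismProperty.of_isPullback (P := @LocallyOfFinitePresentation) hΦl.flip
        (inferInstance : LocallyOfFinitePresentation q.left)⟩
  have hloc : HasLocSec Scheme.fppfTopology c := by
    obtain ⟨S₀, hS₀, hsec⟩ := hasLocSec_comp hΦcov.hasLocSec
      (hasLocSec_bc b (BalLib.hasLocSec_of_isLocallyTrivialFor (aQ.orbitMap q₀) hlt))
    refine ⟨S₀, hS₀, fun T a ha => ?_⟩
    obtain ⟨x, hx⟩ := hsec a ha
    refine ⟨x ≫ (snd (Red.bc b G) K).left, ?_⟩
    rw [Category.assoc, ← Over.comp_left, ← hΦc]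
    exact hx
  haveI : IsClosedImmersion j'.left :=
    MorphismProperty.of_isPullback (P := @IsClosedImmersion) (HomFibre.map_isPullback j b) ‹IsClosedImmersion j.left›
  obtain ⟨M, _, iM, _, _, -, hM⟩ := exists_kernel (j' ≫ qR)
  haveI : Mono iM.left := inferInstance
  haveI : Mono iM := Over.mono_of_mono_left iM
  haveI : Mono j'.left := inferInstance
  haveI : Mono j' := Over.mono_of_mono_left j'
  let iMK : M ⟶ K := hK.lift (iM ≫ j') (toUnit M) (by rw [Category.assoc]; exact hM.w)
  have hMK : iMK ≫ iK = iM ≫ j' := hK.lift_fst _ _ _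
  haveI : IsClosedImmersion (iMK.left ≫ iK.left) := by
    rw [← Over.comp_left, hMK, Over.comp_left]; infer_instance
  haveI : IsClosedImmersion iMK.left := IsClosedImmersion.of_comp iMK.left iK.left
  haveI : Mono iMK.left := inferInstance
  haveI : Mono iMK := Over.mono_of_mono_left iMK
  haveI : IsMonHom iMK := by
    refine ⟨?_, ?_⟩
    · rw [← cancel_mono iK, Category.assoc, hMK, IsMonHom.one_hom iK, ← Category.assoc, IsMonHom.one_hom iM,
        IsMonHom.one_hom j']
    · rw [← cancel_mono iK, Category.assoc, hMK, Category.assoc, IsMonHom.mul_hom iK, IsMonHom.mul_hom_assoc iM,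
        IsMonHom.mul_hom j', MonoidalCategory.tensorHom_comp_tensorHom_assoc,
        MonoidalCategory.tensorHom_comp_tensorHom_assoc, hMK]
  have hcmul : ∀ (T : Over (Spec (CommRingCat.of k'))) (g : T ⟶ K) (m : T ⟶ M), (g * (m ≫ iMK)) ≫ c = g ≫ c := by
    intro T g m
    show (g * (m ≫ iMK)) ≫ iK ≫ π' = g ≫ iK ≫ π'
    rw [← Category.assoc, MonObj.mul_comp, Category.assoc, hMK, ← Category.assoc]
    exact (bc_mul_comp_proj b hsq _ _).trans (Category.assoc _ _ _)
  have hceq : ∀ (T : Over (Spec (CommRingCat.of k'))) (g g' : T ⟶ K), g ≫ c = g' ≫ c →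
      ∃ m : T ⟶ M, g * (m ≫ iMK) = g' := by
    intro T g g' h
    obtain ⟨t, ht⟩ := bc_exists_eq_mul b hsq (g₁ := g ≫ iK) (g₂ := g' ≫ iK) (by simpa [c] using h)
    have h1 : t ≫ j' ≫ qR = toUnit T ≫ η[Gbar] := by
      have h2 := congrArg (· ≫ qR) ht
      simp only [MonObj.mul_comp, Category.assoc, hK.w] at h2
      simp only [← Category.assoc, toUnit_unique _ (toUnit T)] at h2
      rw [← Hom.one_def, _root_.one_mul, Category.assoc] at h2
      exact h2
    refine ⟨hM.lift t (toUnit T) h1, ?_⟩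
    rw [← cancel_mono iK, MonObj.mul_comp, Category.assoc, hMK, ← Category.assoc, hM.lift_fst]
    exact ht
  haveI : IsAffineHom K.hom := inferInstance
  haveI : QuasiCompact K.hom := inferInstance
  haveI : IsAffine M.left := isAffine_of_isAffineHom iMK.left
  haveI : LocallyOfFiniteType M.hom := by rw [← Over.w iMK]; infer_instance
  haveI : IsAffineHom M.hom := inferInstance
  haveI : QuasiCompact M.hom := inferInstance
  obtain ⟨X, aX, oX, hXft, -, hXf, hXs, hXsq⟩ := S3279.result k' K M iMK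
  haveI := hXft
  haveI := hXf
  haveI := hXs
  have hXc := NilpQuot.cover_of_lft (aX.orbitMap oX)
  haveI : IsAffine X.left := NilpQuot.isAffine_quotient n hn iMK _ hXc hXsq
  obtain ⟨u, hu, -⟩ := hXc.hasLocSec.existsUnique_desc c fun T g g' hg => by
    obtain ⟨m, rfl⟩ := exists_eq_mul hXsq hg
    exact (hcmul T g m).symm
  obtain ⟨v, hv, -⟩ := hloc.existsUnique_desc (aX.orbitMap oX) fun T g g' hg => by
    obtain ⟨m, rfl⟩ := hceq T g g' hg
    exact (mul_comp_proj hXsq g m).symm
  have e1 : u ≫ v = 𝟙 _ := hXc.hasLocSec.hom_ext (by rw [← Category.assoc, hu, hv, Category.comp_id])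
  have e2 : v ≫ u = 𝟙 _ := hloc.hom_ext (by rw [← Category.assoc, hv, hu, Category.comp_id])
  haveI : IsIso v.left := ⟨u.left, by rw [← Over.comp_left, e2]; rfl, by rw [← Over.comp_left, e1]; rfl⟩
  haveI : IsAffine (Red.bc b Q).left := IsAffine.of_isIso v.left
  haveI : Surjective b := ⟨fun x => ⟨IsLocalRing.closedPoint k', Subsingleton.elim (α := PrimeSpectrum k) _ _⟩⟩
  haveI : IsFinite b := (IsFinite.SpecMap_iff _).mpr (RingHom.finite_algebraMap.mpr inferInstance)
  haveI : IsAffine (Limits.pullback Q.hom b) := ‹IsAffine (Red.bc b Q).left›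
  exact S0593.result _ _ (Limits.pullback.fst Q.hom b)

end Groth.Agent.S15877
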