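import Groth.Statements.S15878
import Groth.Agent.WeilKer.Geom
import Groth.Agent.WeilKer.NoTorus
import Groth.Agent.GrpSchLib.AffToProper
import Groth.Agent.GrpSchLib.AntiAffineHom
import Groth.Agent.GrpSchLib.HomFibre
import Groth.Agent.S3278
import Groth.Agent.S18510
import Groth.Agent.S0593

set_option autoImplicit false
universe u
open CategoryTheory MonoidalCategory CartesianMonoidalCategory MonObj GrpObj AlgebraicGeometry
open AGF

namespace Groth.Agent.S15878

/-- With k'/k finite purely inseparable, G a k-group locally of finite type, q : G_{k'} → Ḡ a faithfully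
flat homomorphism with quasi-compact kernel onto a commutative k'-group locally of finite type, (R,
q_R) a Weil restriction of Ḡ to k with q_R a homomorphism, H the image of the comparison
homomorphism i : G → R (H a closed subgroup of R through which i factors by a faithfully flat
homomorphism), and π : R → Q the fppf quotient group of R by H: Q is affine and its geometric fibre
has no non-trivial subtorus. (The published statement says that Q is a commutative unipotent
k-group; the absence of geometric subtori is the weaker property recorded here, and commutativity is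
inherited from R.) -/
theorem result (k k' : Type u) [Field k] [Field k']
    [Algebra k k'] [Module.Finite k k'] [IsPurelyInseparable k k']
    (G : Over (Spec (CommRingCat.of k))) [GrpObj G] [LocallyOfFiniteType G.hom]
    (Gbar : Over (Spec (CommRingCat.of k'))) [GrpObj Gbar] [LocallyOfFiniteType Gbar.hom]
    (q : Red.bc (Spec.map (CommRingCat.ofHom (algebraMap k k'))) G ⟶ Gbar) [IsMonHom q] [Surjective q.left] [Flat q.left]
    (N : Over (Spec (CommRingCat.of k'))) (iN : N ⟶ Red.bc (Spec.map (CommRingCat.ofHom (algebraMap k k'))) G) (hN : AlgGrp.IsKernel iN q) [CompactSpace N.left]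
    (R : Over (Spec (CommRingCat.of k))) [GrpObj R] (qR : Red.bc (Spec.map (CommRingCat.ofHom (algebraMap k k'))) R ⟶ Gbar) [IsMonHom qR]
    (hR : WeilRes.IsWeilRes (Spec.map (CommRingCat.ofHom (algebraMap k k'))) Gbar R qR)
    (H : Over (Spec (CommRingCat.of k))) [GrpObj H] (j : H ⟶ R) [IsMonHom j] [IsClosedImmersion j.left]
    (p : G ⟶ H) [IsMonHom p] [Surjective p.left] [Flat p.left] (hfac : p ≫ j = hR.lift G q)
    [IsCommMonObj Gbar]
    (Q : Over (Spec (CommRingCat.of k))) [GrpObj Q] (π : R ⟶ Q) [IsMonHom π] (hQ : RedSub.IsQuotient j π) :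
    IsAffine Q.left ∧ (∀ s : ↥(Spec (CommRingCat.of k)), Red.HasNoSubtorus (AlgebraicClosure ((Spec (CommRingCat.of k)).residueField s)) (Red.geomFibre s Q)) := by
  let b : Spec (CommRingCat.of k') ⟶ Spec (CommRingCat.of k) := Spec.map (CommRingCat.ofHom (algebraMap k k'))
  let F := Over.pullback b
  obtain ⟨p₀, hp₀⟩ := ExpChar.exists k
  haveI := hp₀
  haveI : ExpChar k' p₀ := expChar_of_injective_ringHom (algebraMap k k').injective p₀
  haveI := GrpSchLib.AntiAffine.isSeparated_grp Gbar
  obtain ⟨K, _, iK, _, _, -, hK⟩ := GrpSchLib.exists_kernel qR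
  obtain ⟨hKaff, -, hKft⟩ := WeilKer.affine_smooth k k' qR hR iK hK
  haveI := hKaff
  haveI := hKft
  obtain ⟨m, hm⟩ := WeilKer.exists_exponent k k' qR hR iK hK p₀
  haveI : Surjective π.left := hQ.1
  haveI : Flat π.left := hQ.2.1
  let π' : Red.bc b R ⟶ Red.bc b Q := F.map π
  let i' : Red.bc b G ⟶ Red.bc b R := F.map (hR.lift G q)
  have hi' : i' ≫ qR = q := hR.restr_lift G q
  have hjπ : j ≫ π = 1 := by
    have h := congrArg (lift (1 : H ⟶ R) (𝟙 H) ≫ ·) hQ.2.2.2.w
    have e : lift (1 : H ⟶ R) (𝟙 H) ≫ (R ◁ j) = lift (1 : H ⟶ R) j := by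
      apply CartesianMonoidalCategory.hom_ext <;> simp
    simp only [lift_fst_assoc] at h
    rw [← Category.assoc, ← Category.assoc, e, ← Hom.mul_def, _root_.one_mul, MonObj.one_comp] at h
    exact h.symm
  have hiπ : i' ≫ π' = 1 := by
    show F.map (hR.lift G q) ≫ F.map π = 1
    rw [← hfac, ← Functor.map_comp, Category.assoc, hjπ, MonObj.comp_one, CategoryTheory.Functor.map_one]
  let Φ : Red.bc b G ⊗ K ⟶ Red.bc b R := (fst (Red.bc b G) K ≫ i') * (snd (Red.bc b G) K ≫ iK)
  have hΦ : IsPullback Φ (fst (Red.bc b G) K) qR q := by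
    refine ⟨⟨?_⟩, ⟨Limits.PullbackCone.IsLimit.mk _ (fun s => lift s.snd (hK.lift ((s.snd ≫ i')⁻¹ * s.fst) (toUnit _) ?_)) ?_ ?_ ?_⟩⟩
    · rw [MonObj.mul_comp, Category.assoc, Category.assoc, hi', hK.w, ← Category.assoc (snd _ _),
        toUnit_unique (snd (Red.bc b G) K ≫ toUnit K) (toUnit _), ← Hom.one_def, _root_.mul_one]
    · rw [MonObj.mul_comp, GrpObj.inv_comp, Category.assoc, hi', s.condition, inv_mul_cancel]
      rfl
    · intro s
      simp only [Φ, MonObj.comp_mul, lift_fst_assoc, lift_snd_assoc, IsPullback.lift_fst, mul_inv_cancel_left]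
    · intro s; simp
    · intro s w h1 h2
      apply CartesianMonoidalCategory.hom_ext
      · rw [lift_fst, h2]
      · rw [lift_snd]
        refine hK.hom_ext ?_ (toUnit_unique _ _)
        rw [IsPullback.lift_fst, ← h1, ← h2]
        simp only [Φ, MonObj.comp_mul, Category.assoc, inv_mul_cancel_left]
  let c : K ⟶ Red.bc b Q := iK ≫ π'
  have hc : snd (Red.bc b G) K ≫ c = Φ ≫ π' := by
    rw [MonObj.mul_comp, Category.assoc, hiπ, MonObj.comp_one, _root_.one_mul, Category.assoc]
  have hΦl := hΦ.map (Over.forget _)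
  haveI : Surjective Φ.left := MorphismProperty.of_isPullback (P := @Surjective) hΦl.flip ‹Surjective q.left›
  haveI : Flat Φ.left := MorphismProperty.of_isPullback (P := @Flat) hΦl.flip ‹Flat q.left›
  haveI : Surjective π'.left := MorphismProperty.of_isPullback (P := @Surjective)
    (GrpSchLib.HomFibre.map_isPullback π b) hQ.1
  haveI : Flat π'.left := MorphismProperty.of_isPullback (P := @Flat)
    (GrpSchLib.HomFibre.map_isPullback π b) hQ.2.1
  haveI : Nonempty (Red.bc b G).left := ⟨η[Red.bc b G].left (IsLocalRing.closedPoint k')⟩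
  haveI : Surjective (Red.bc b G).hom :=
    ⟨fun y => ⟨Classical.arbitrary _, Subsingleton.elim (α := PrimeSpectrum k') _ _⟩⟩
  haveI : Flat (Red.bc b G).hom := inferInstance
  haveI : Surjective (snd (Red.bc b G) K).left := by rw [Over.snd_left]; infer_instance
  haveI : Flat (snd (Red.bc b G) K).left := by rw [Over.snd_left]; infer_instance
  have hcl : (snd (Red.bc b G) K).left ≫ c.left = Φ.left ≫ π'.left := congrArg Over.Hom.left hc
  haveI : Surjective c.left := by
    haveI : Surjective ((snd (Red.bc b G) K).left ≫ c.left) := by rw [hcl]; infer_instance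
    exact Surjective.of_comp (snd (Red.bc b G) K).left c.left
  haveI : Flat c.left := by
    haveI : Flat ((snd (Red.bc b G) K).left ≫ c.left) := by rw [hcl]; infer_instance
    exact S18510.flat_of_comp (snd (Red.bc b G) K).left c.left
  haveI := GrpSchLib.AntiAffine.isSeparated_grp (Red.bc b Q)
  haveI : QuasiCompact (c.left ≫ (Red.bc b Q).hom) := by rw [Over.w c]; infer_instance
  haveI : QuasiCompact c.left := QuasiCompact.of_comp c.left (Red.bc b Q).hom
  haveI : IsMonHom c := inferInstance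
  obtain ⟨M, _, iM, _, _, hMn, hM⟩ := GrpSchLib.exists_kernel c
  obtain ⟨Q₁, _, q₁, _, hQ₁, _, _, _, hM₁⟩ := S3278.result k' K M iM hMn
  haveI := hQ₁
  haveI : QuasiCompact q₁.left := inferInstance
  have hl := GrpSchLib.AffToProper.hasLocSec_of_flat_surjective c
  have hl₁ := GrpSchLib.AffToProper.hasLocSec_of_flat_surjective q₁
  have hsame : ∀ {X Y : Over (Spec (CommRingCat.of k'))} [GrpObj X] [GrpObj Y] (f : K ⟶ X) (g : K ⟶ Y) [IsMonHom f]
      [IsMonHom g], AlgGrp.IsKernel iM f → AlgGrp.IsKernel iM g →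
      ∀ (T : Over (Spec (CommRingCat.of k'))) (a a' : T ⟶ K), a ≫ f = a' ≫ f → a ≫ g = a' ≫ g := by
    intro X Y _ _ f g _ _ hf hg T a a' h
    have h1 : (a * a'⁻¹) ≫ f = toUnit T ≫ η[X] := by
      rw [MonObj.mul_comp, GrpObj.inv_comp, h, mul_inv_cancel]; rfl
    have h2 : (hf.lift _ _ h1 ≫ iM) ≫ g = 1 := by
      rw [Category.assoc, hg.w, ← Category.assoc, toUnit_unique (hf.lift _ _ h1 ≫ toUnit M) (toUnit T)]; rfl
    rw [hf.lift_fst, MonObj.mul_comp, GrpObj.inv_comp, mul_inv_eq_one] at h2
    exact h2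
  obtain ⟨u, hu, -⟩ := hl.existsUnique_desc q₁ (hsame c q₁ hM hM₁)
  obtain ⟨v, hv, -⟩ := hl₁.existsUnique_desc c (hsame q₁ c hM₁ hM)
  have e1 : u ≫ v = 𝟙 _ := hl.hom_ext (by rw [← Category.assoc, hu, hv, Category.comp_id])
  have e2 : v ≫ u = 𝟙 _ := hl₁.hom_ext (by rw [← Category.assoc, hv, hu, Category.comp_id])
  haveI : IsIso u.left := ⟨v.left, by rw [← Over.comp_left, e1]; rfl, by rw [← Over.comp_left, e2]; rfl⟩
  haveI : IsAffine (Red.bc b Q).left := IsAffine.of_isIso u.left
  haveI : Surjective b := ⟨fun x => ⟨IsLocalRing.closedPoint k', Subsingleton.elim (α := PrimeSpectrum k) _ _⟩⟩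
  haveI : Flat b := by
    rw [HasRingHomProperty.Spec_iff (P := @Flat)]
    exact RingHom.flat_algebraMap_iff.mpr inferInstance
  haveI : IsFinite b := (IsFinite.SpecMap_iff _).mpr (RingHom.finite_algebraMap.mpr inferInstance)
  let w : (Red.bc b Q).left ⟶ Q.left := Limits.pullback.fst Q.hom b
  have hQaff : IsAffine Q.left := S0593.result _ _ w
  haveI : Epi w := Flat.epi_of_flat_of_surjective _
  refine ⟨hQaff, fun s T _ t _ _ hT => WeilKer.hasNoSubtorus_of_exponent Q p₀ m ?_ s T t hT⟩
  have h1 : (𝟙 (Red.bc b Q) : Red.bc b Q ⟶ _) ^ (p₀ ^ m) = 1 := hl.hom_ext (by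
    rw [WeilKer.comp_pow, Category.comp_id, MonObj.comp_one, ← Category.id_comp c, ← WeilKer.pow_comp, hm,
      MonObj.one_comp])
  refine Over.OverMorphism.ext ((cancel_epi w).mp ?_)
  have h2 : (Over.pullback b).map ((𝟙 Q : Q ⟶ Q) ^ (p₀ ^ m)) = (Over.pullback b).map 1 := by
    rw [show (Over.pullback b).map ((𝟙 Q : Q ⟶ Q) ^ (p₀ ^ m)) = (Over.pullback b).homMonoidHom ((𝟙 Q : Q ⟶ Q) ^ (p₀ ^ m))
      from rfl, map_pow, CategoryTheory.Functor.map_one]
    rw [show (Over.pullback b).homMonoidHom (𝟙 Q) = 𝟙 (Red.bc b Q) from (Over.pullback b).map_id Q]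
    exact h1
  have h3 : ∀ (g : Q ⟶ Q), w ≫ g.left = ((Over.pullback b).map g).left ≫ Limits.pullback.fst Q.hom b :=
    fun g => (Limits.pullback.lift_fst _ _ _).symm
  rw [h3, h3, h2]

end Groth.Agent.S15878
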