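import Groth.Statements.S15881
import Groth.Agent.GlueTor.Equiv
-- import your own Groth.Agent.* helpers here

set_option autoImplicit false
universe u
set_option backward.isDefEq.respectTransparency false
open CategoryTheory MonoidalCategory CartesianMonoidalCategory MonObj GrpObj AlgebraicGeometry
open NonAbH1

namespace Groth.Agent.S15881

open GlueTor

theorem main (A A' : Type u) [CommRing A] [CommRing A'] [Algebra A A'] (t : A)
    (hq : QuotBij t (algebraMap A A')) (htor : TorBij t (algebraMap A A'))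
    (h : Spec.map (CommRingCat.ofHom (Localization.awayMap (algebraMap A A') t)) ≫
        Spec.map (CommRingCat.ofHom (algebraMap A (Localization.Away t))) =
      Spec.map (CommRingCat.ofHom (algebraMap A' (Localization.Away (algebraMap A A' t)))) ≫
        Spec.map (CommRingCat.ofHom (algebraMap A A')))
    (G : Over (Spec (CommRingCat.of A))) [GrpObj G] [Flat G.hom] [G.left.IsQuasiAffine]
    (P P' : NonAbH1.TorsorSch G Scheme.fppfPrecoverage)
    (αU : NonAbH1.EquivIso (P.act.bc (Spec.map (CommRingCat.ofHom (algebraMap A (Localization.Away t)))))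
      (P'.act.bc (Spec.map (CommRingCat.ofHom (algebraMap A (Localization.Away t))))))
    (αV : NonAbH1.EquivIso (P.act.bc (Spec.map (CommRingCat.ofHom (algebraMap A A'))))
      (P'.act.bc (Spec.map (CommRingCat.ofHom (algebraMap A A')))))
    (hc : Compat h αU.iso.hom αV.iso.hom) :
    ∃! α : NonAbH1.EquivIso P.act P'.act,
      (NonAbH1.EquivIso.bc (Spec.map (CommRingCat.ofHom (algebraMap A (Localization.Away t)))) α).iso = αU.iso ∧
        (NonAbH1.EquivIso.bc (Spec.map (CommRingCat.ofHom (algebraMap A A'))) α).iso = αV.iso := by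
  let u := Spec.map (CommRingCat.ofHom (algebraMap A (Localization.Away t)))
  let v := Spec.map (CommRingCat.ofHom (algebraMap A A'))
  haveI : Flat P.X.hom := flat_hom P.act P.isTorsor.1 P.isTorsor.2
  haveI : Flat P'.X.hom := flat_hom P'.act P'.isTorsor.1 P'.isTorsor.2
  have hd : 𝟙 _ ≫ Spec.map (CommRingCat.ofHom (algebraMap A' (Localization.Away (algebraMap A A' t)))) ≫ v =
      (W A A' t).hom := by
    rw [Category.id_comp]; show _ ≫ Spec.map (CommRingCat.ofHom (algebraMap A A')) = _; rw [ ← Spec.map_comp, ← CommRingCat.ofHom_comp, ← IsScalarTower.algebraMap_eq]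
    rfl
  have agree : ∀ {X Y : Over (Spec (CommRingCat.of A))} (eU : Red.bc u X ⟶ Red.bc u Y) (eV : Red.bc v X ⟶ Red.bc v Y),
      Compat h eU eV → (X ◁ iU A A' t) ≫ zOf u eU = (X ◁ iV A A' t) ≫ zOf v eV := fun eU eV hh =>
    Compat.agree h hh (W := W A A' t) (𝟙 _) hd (iU A A' t) (Category.id_comp _).symm
      (iV A A' t) (Category.id_comp _).symm
  obtain ⟨f, hfU, hfV⟩ := ex_flat hq htor P'.act P'.isTorsor.1 P'.isTorsor.2 P.X (zOf u αU.iso.hom)
    (zOf v αV.iso.hom) (agree _ _ hc)
  obtain ⟨g, hgU, hgV⟩ := ex_flat hq htor P.act P.isTorsor.1 P.isTorsor.2 P'.X (zOf u αU.iso.inv)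
    (zOf v αV.iso.inv) (agree _ _ (Compat.symm h hc))
  have round : ∀ {X Y : Over (Spec (CommRingCat.of A))} {B : Scheme.{u}} (b : B ⟶ Spec (CommRingCat.of A))
      (f : X ⟶ Y) (g : Y ⟶ X) (e : Red.bc b X ⟶ Red.bc b Y) (e' : Red.bc b Y ⟶ Red.bc b X),
      fst _ (Over.mk b) ≫ f = zOf b e → fst _ (Over.mk b) ≫ g = zOf b e' → e ≫ e' = 𝟙 _ →
      fst _ (Over.mk b) ≫ f ≫ g = fst _ (Over.mk b) ≫ 𝟙 _ := by
    intro X Y B b f g e e' hf hg he
    rw [← Category.assoc, hf, Category.comp_id, ← lift_fst (zOf b e) (snd X (Over.mk b)), Category.assoc, hg,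
      lift_zOf, he, zOf_id]
  have hfg : f ≫ g = 𝟙 _ := sep_flat hq htor P.act P.isTorsor.1 P.isTorsor.2 P.X _ _
    (round u f g _ _ hfU hgU αU.iso.hom_inv_id) (round v f g _ _ hfV hgV αV.iso.hom_inv_id)
  have hgf : g ≫ f = 𝟙 _ := sep_flat hq htor P'.act P'.isTorsor.1 P'.isTorsor.2 P'.X _ _
    (round u g f _ _ hgU hfU αU.iso.inv_hom_id) (round v g f _ _ hgV hfV αV.iso.inv_hom_id)
  haveI : Flat (G ⊗ P.X).hom := inferInstanceAs (Flat (Limits.pullback.fst G.hom P.X.hom ≫ G.hom))
  have comm' : ∀ {B : Scheme.{u}} (b : B ⟶ Spec (CommRingCat.of A)) (e : NonAbH1.EquivIso (P.act.bc b) (P'.act.bc b)),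
      fst _ (Over.mk b) ≫ f = zOf b e.iso.hom →
      fst _ (Over.mk b) ≫ P.act.act ≫ f = fst _ (Over.mk b) ≫ (G ◁ f) ≫ P'.act.act := by
    intro B b e hf
    rw [← whiskerRight_fst_assoc, hf, zOf_comm]
    rw [← Category.assoc (fst (G ⊗ P.X) (Over.mk b)) (G ◁ f)]
    congr 1
    apply CartesianMonoidalCategory.hom_ext
    · rw [lift_fst, Category.assoc, whiskerLeft_fst]
    · rw [lift_snd, Category.assoc, whiskerLeft_snd, ← hf, whiskerRight_fst_assoc]
  have hcomm : P.act.act ≫ f = (G ◁ f) ≫ P'.act.act :=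
    sep_flat hq htor P'.act P'.isTorsor.1 P'.isTorsor.2 (G ⊗ P.X) _ _ (comm' u αU hfU) (comm' v αV hfV)
  refine ⟨⟨⟨f, g, hfg, hgf⟩, hcomm⟩, ⟨?_, ?_⟩, ?_⟩
  · exact Iso.ext (zOf_injective u ((zOf_map u f).trans hfU))
  · exact Iso.ext (zOf_injective v ((zOf_map v f).trans hfV))
  · rintro ⟨e, he⟩ ⟨hU, hV⟩
    have : e.hom = f := sep_flat hq htor P'.act P'.isTorsor.1 P'.isTorsor.2 P.X _ _
      (((zOf_map u e.hom).symm.trans (congrArg (fun k => zOf u (Iso.hom k)) hU)).trans hfU.symm)
      (((zOf_map v e.hom).symm.trans (congrArg (fun k => zOf v (Iso.hom k)) hV)).trans hfV.symm)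
    have he' : e = ⟨f, g, hfg, hgf⟩ := Iso.ext this
    subst he'
    rfl

/-- With φ : A → A' and t as in the glueing set-up (A/t^m → A'/t^m bijective for all m, φ bijective on
t-power torsion), G a flat A-group scheme with quasi-affine underlying scheme, and P, P' fppf
G-torsors over A: an equivariant isomorphism of the base changes to A[1/t] and one of the base
changes to A', which agree over A'[1/t] under the canonical identifications of iterated base
changes, are the base changes of a unique equivariant isomorphism P ≅ P' over A. (The hypothesis h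
is the evident commutativity of the square of base rings.) -/
theorem result (A A' : Type u) [CommRing A] [CommRing A']
    (φ : A →+* A') (t : A)
    (hq : ∀ m : ℕ, Function.Bijective (Ideal.quotientMap (Ideal.map φ (Ideal.span {t} ^ m)) φ Ideal.le_comap_map))
    (htor : ∀ a' : A', (∃ m : ℕ, φ t ^ m * a' = 0) → ∃! a : A, (∃ m : ℕ, t ^ m * a = 0) ∧ φ a = a')
    (h : Spec.map (CommRingCat.ofHom (Localization.awayMap φ t)) ≫
        Spec.map (CommRingCat.ofHom (algebraMap A (Localization.Away t))) =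
      Spec.map (CommRingCat.ofHom (algebraMap A' (Localization.Away (φ t)))) ≫ Spec.map (CommRingCat.ofHom φ))
    (G : Over (Spec (CommRingCat.of A))) [GrpObj G] [Flat G.hom] [G.left.IsQuasiAffine]
    (P P' : NonAbH1.TorsorSch G Scheme.fppfPrecoverage)
    (αU : NonAbH1.EquivIso (P.act.bc (Spec.map (CommRingCat.ofHom (algebraMap A (Localization.Away t))))) (P'.act.bc (Spec.map (CommRingCat.ofHom (algebraMap A (Localization.Away t))))))
    (α' : NonAbH1.EquivIso (P.act.bc (Spec.map (CommRingCat.ofHom φ))) (P'.act.bc (Spec.map (CommRingCat.ofHom φ))))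
    (hagree : (NonAbH1.EquivIso.bc (Spec.map (CommRingCat.ofHom (Localization.awayMap φ t))) αU).iso.hom ≫ (ActBC.bcCompIso (Spec.map (CommRingCat.ofHom (Localization.awayMap φ t))) (Spec.map (CommRingCat.ofHom (algebraMap A (Localization.Away t)))) P'.X h).hom =
      (ActBC.bcCompIso (Spec.map (CommRingCat.ofHom (Localization.awayMap φ t))) (Spec.map (CommRingCat.ofHom (algebraMap A (Localization.Away t)))) P.X h).hom ≫ (ActBC.bcCompIso (Spec.map (CommRingCat.ofHom (algebraMap A' (Localization.Away (φ t))))) (Spec.map (CommRingCat.ofHom φ)) P.X rfl).inv ≫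
        (NonAbH1.EquivIso.bc (Spec.map (CommRingCat.ofHom (algebraMap A' (Localization.Away (φ t))))) α').iso.hom ≫ (ActBC.bcCompIso (Spec.map (CommRingCat.ofHom (algebraMap A' (Localization.Away (φ t))))) (Spec.map (CommRingCat.ofHom φ)) P'.X rfl).hom) :
    ∃! α : NonAbH1.EquivIso P.act P'.act,
      (NonAbH1.EquivIso.bc (Spec.map (CommRingCat.ofHom (algebraMap A (Localization.Away t)))) α).iso = αU.iso ∧ (NonAbH1.EquivIso.bc (Spec.map (CommRingCat.ofHom φ)) α).iso = α'.iso := by
  letI : Algebra A A' := φ.toAlgebra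
  exact main A A' t hq htor h G P P' αU α' hagree

end Groth.Agent.S15881
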