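import Groth.Statements.S15902
import Mathlib
import Groth.Agent.S15899
import Groth.Agent.RegNear.Basic
import Groth.Agent.H1Sk.Spread
import Groth.Agent.H1CMDim.RegSeq
import Groth.Agent.KFlatLib.Perfect.LocFree
import Groth.Agent.H23.Frame

set_option autoImplicit false
set_option linter.style.haveILetI false
set_option backward.isDefEq.respectTransparency false
set_option backward.isDefEq.respectTransparency.types false
universe u
open CategoryTheory AlgebraicGeometry Opposite
open KoszSh

namespace Groth.Agent.S15902

/-- The standard basis of the sections of a free module. -/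
lemma exists_basis_freeMod {X : Scheme.{u}} (n : ℕ) :
    ∃ b : Module.Basis (Fin n) Γ(X, ⊤) Γ(FlatMod.freeMod X n, ⊤),
      ∀ k, b k = (Limits.Sigma.ι (fun _ : Fin n => Coh.structureModule X) k).app ⊤
        (OmegaSh.strSect X ⊤ 1) := by
  let e : Fin n → Γ(FlatMod.freeMod X n, ⊤) := fun k => (H23.Frame.incl X n k).app ⊤ (H23.Frame.one ⊤)
  have hbij : Function.Bijective (Fintype.linearCombination Γ(X, ⊤) e) := by
    convert H23.Frame.incl_isFrame (X := X) (n := n) ⊤ le_rfl using 1
    funext c
    simp only [Fintype.linearCombination_apply, H23.Frame.comb]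
    refine Finset.sum_congr rfl fun k _ => congrArg (c k • ·) ?_
    simp [e]
  refine ⟨Module.Basis.ofEquivFun (LinearEquiv.ofBijective _ hbij).symm, fun k => ?_⟩
  rw [Module.Basis.coe_ofEquivFun]
  simp only [LinearEquiv.symm_symm, LinearEquiv.ofBijective_apply, Fintype.linearCombination_apply_single, one_smul]
  rfl

/-- Let X be a locally Noetherian scheme all of whose local rings are Cohen–Macaulay, i : Y → X a closed
immersion and c a natural number such that Y is a local complete intersection of codimension c in
the following sense: around every point of Y there is an affine open of X on which c sections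
generate the ideal sheaf of Y, and for every point y of Y the ideal of Y in the local ring O_{X,y}
(the kernel of O_{X,y} → O_{Y,y}) has height at least c. Then around every point of Y there is an
affine open U of X and sections f_1, …, f_c ∈ Γ(X, U) which generate the ideal of Y on U and form a
weakly regular sequence in Γ(X, U); consequently, on the open subscheme U, for every cosection s :
O_U^c → O_U sending the k-th standard basis section to f_k and every Koszul complex K(O_U^c, s) of
s, the homology sheaves of K(O_U^c, s) vanish in every degree q ≥ 1, so that K(O_U^c, s) is a finite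
free resolution of the restriction of i_*O_Y to U. (The published statement takes Y a local complete
intersection in a smooth variety X over a field, the ideal being generated near each closed point by
codim(Y, X) elements, and asserts the existence of such a neighbourhood with a free Koszul
resolution; the hypotheses here are what that gives at every point of Y over a Cohen–Macaulay base,
the existence of the Koszul complex is not asserted, and the resolution property is stated for every
Koszul complex of the local free pair.) -/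
theorem result {X Y : Scheme.{u}}
    [IsLocallyNoetherian X] (hCM : ∀ x : X, LocCoh.IsCohenMacaulayLocalRing (X.presheaf.stalk x))
    (i : Y ⟶ X) [IsClosedImmersion i] (c : ℕ)
    (hgen : ∀ y : Y, ∃ U : X.affineOpens, i.base y ∈ U.1 ∧ ∃ g : Fin c → Γ(X, U.1), i.ker.ideal U = Ideal.span (Set.range g))
    (hht : ∀ y : Y, (c : ℕ∞) ≤ (RingHom.ker (i.stalkMap y).hom).height) :
    ∀ y : Y, ∃ U : X.affineOpens, i.base y ∈ U.1 ∧ ∃ f : Fin c → Γ(X, U.1),
      i.ker.ideal U = Ideal.span (Set.range f) ∧ RingTheory.Sequence.IsWeaklyRegular Γ(X, U.1) (List.ofFn f) ∧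
      ∀ (s : FlatMod.freeMod (↑U.1) c ⟶ Coh.structureModule (↑U.1)),
        (∀ k : Fin c, KoszSh.secForm s ⊤ ((Limits.Sigma.ι (fun _ : Fin c => Coh.structureModule (↑U.1)) k).app ⊤
            (OmegaSh.strSect (↑U.1) ⊤ 1)) = U.1.topIso.inv (f k)) →
        ∀ (C : KoszSh.Cx (FlatMod.freeMod (↑U.1) c) s) (q : ℕ), 1 ≤ q → Limits.IsZero (C.K.homology q) := by
  intro y
  obtain ⟨U, hyU, g, hg⟩ := hgen y
  haveI : IsNoetherianRing Γ(X, U.1) := IsLocallyNoetherian.component_noetherian U
  let A := Γ(X, U.1)
  let O := X.presheaf.stalk (i y)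
  letI : Algebra A O := (X.presheaf.germ U.1 (i y) hyU).hom.toAlgebra
  let p := (U.2.primeIdealOf ⟨i y, hyU⟩).asIdeal
  haveI : IsLocalization.AtPrime O p := U.2.isLocalization_stalk ⟨i y, hyU⟩
  haveI : LocCoh.IsCohenMacaulayLocalRing O := hCM (i y)
  let rs : List A := List.ofFn g
  have hJ : RingHom.ker (i.stalkMap y).hom = Ideal.ofList (rs.map (algebraMap A O)) := by
    rw [Groth.Agent.RegNear.ker_stalkMap i y U.2 hyU, ← Scheme.Hom.ker_apply, hg, ← Ideal.map_ofList]
    congr 1
    simp [rs, Ideal.ofList, Set.range]
    rfl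
  have hne : Ideal.ofList (rs.map (algebraMap A O)) ≠ ⊤ := by
    rw [← hJ]; exact RingHom.ker_ne_top _
  have hregO : RingTheory.Sequence.IsWeaklyRegular O (rs.map (algebraMap A O)) := by
    refine Groth.Agent.H1CMDim.isWeaklyRegular_of_dim _ O
      LocCoh.IsCohenMacaulayLocalRing.supportDim_eq_depth (fun r hr => ?_) ?_
    · exact IsLocalRing.le_maximalIdeal hne (Ideal.subset_span hr)
    · rw [Module.supportDim_eq_of_equiv (Submodule.quotEquivOfEq (Ideal.ofList (rs.map (algebraMap A O)) • (⊤ : Submodule O O))
        (Ideal.ofList (rs.map (algebraMap A O))) (by rw [smul_eq_mul, Ideal.mul_top])),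
        Module.supportDim_quotient_eq_ringKrullDim, Module.supportDim_self_eq_ringKrullDim,
        ← Groth.Agent.LC.height_add_ringKrullDim_quotient (Ideal.ofList (rs.map (algebraMap A O))) hne]
      have h := hht y
      rw [hJ] at h
      have hlen : (rs.map (algebraMap A O)).length = c := by simp [rs]
      rw [hlen]
      exact add_le_add le_rfl (WithBot.coe_le_coe.2 h)
  have hregp : RingTheory.Sequence.IsWeaklyRegular (LocalizedModule p.primeCompl A) rs := by
    have h1 := (RingTheory.Sequence.isWeaklyRegular_map_algebraMap_iff O O rs).1 hregO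
    haveI : IsLocalizedModule p.primeCompl (IsScalarTower.toAlgHom A A O).toLinearMap :=
      isLocalizedModule_iff_isLocalization.2 (by
        rw [Algebra.algebraMapSubmonoid_self]; exact inferInstanceAs (IsLocalization p.primeCompl O))
    exact ((IsLocalizedModule.iso p.primeCompl (IsScalarTower.toAlgHom A A O).toLinearMap).isWeaklyRegular_congr rs).2 h1
  obtain ⟨g₀, hg₀, hregg⟩ := Groth.Agent.H1Sk.exists_away p rs hregp
  let V : X.affineOpens := ⟨X.basicOpen g₀, U.2.basicOpen g₀⟩
  have hyV : i y ∈ X.basicOpen g₀ := by
    rw [Scheme.mem_basicOpen _ _ _ hyU]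
    exact IsLocalization.map_units O (⟨g₀, hg₀⟩ : p.primeCompl)
  let res : A →+* Γ(X, V.1) := (X.presheaf.map (homOfLE (X.basicOpen_le g₀)).op).hom
  letI : Algebra A Γ(X, V.1) := res.toAlgebra
  haveI : IsLocalization.Away g₀ Γ(X, V.1) := U.2.isLocalization_basicOpen g₀
  have hregV : RingTheory.Sequence.IsWeaklyRegular Γ(X, V.1) (rs.map res) := by
    haveI : IsLocalizedModule (Submonoid.powers g₀) (IsScalarTower.toAlgHom A A Γ(X, V.1)).toLinearMap :=
      isLocalizedModule_iff_isLocalization.2 (by
        rw [Algebra.algebraMapSubmonoid_self]; exact inferInstanceAs (IsLocalization.Away g₀ Γ(X, V.1)))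
    exact (RingTheory.Sequence.isWeaklyRegular_map_algebraMap_iff Γ(X, V.1) Γ(X, V.1) rs).2
      (((IsLocalizedModule.iso (Submonoid.powers g₀) (IsScalarTower.toAlgHom A A Γ(X, V.1)).toLinearMap).isWeaklyRegular_congr rs).1 hregg)
  have hl : List.ofFn (res ∘ g) = rs.map res := by simp [rs, List.map_ofFn]
  refine ⟨V, hyV, res ∘ g, ?_, by rw [hl]; exact hregV, ?_⟩
  · show i.ker.ideal (X.affineBasicOpen g₀) = _
    rw [← i.ker.map_ideal_basicOpen U g₀, hg, Ideal.map_span, ← Set.range_comp]
  · intro s hs C q hq
    haveI : IsAffine (V.1 : Scheme.{u}) := V.2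
    obtain ⟨b, hb⟩ := exists_basis_freeMod (X := (V.1 : Scheme.{u})) c
    refine Groth.Agent.S15899.result c _ (fun _ => ⟨⊤, trivial, ⟨(Scheme.Modules.restrictFunctorIsoPullback _).app _ ≪≫ Groth.Agent.KFlatLib.pullFreeIso _ c⟩⟩) s
      (fun x => ⟨⟨⊤, isAffineOpen_top _⟩, trivial, b, ?_⟩) C q hq
    have e : (List.ofFn fun k => KoszSh.secForm s ⊤ (b k)) = (rs.map res).map V.1.topIso.inv.hom := by
      rw [← hl, List.map_ofFn]
      congr 1
      funext k
      rw [hb]
      exact hs k
    rw [e]
    refine (AddEquiv.isWeaklyRegular_congr (e := V.1.topIso.symm.commRingCatIsoToRingEquiv.toAddEquiv)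
      (as := rs.map res) (bs := (rs.map res).map V.1.topIso.inv.hom) ?_).1 hregV
    exact List.forall₂_map_right_iff.2 (List.forall₂_same.2 fun a _ z => map_mul V.1.topIso.inv.hom a z)

end Groth.Agent.S15902
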