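import Groth.Statements.S15923
import Groth.Agent.S8914
import Groth.Agent.SmoothReg.Scheme
import Groth.Agent.MultiCross.Point
import Groth.Agent.MeroX.EffCartier
import Groth.Agent.RegLoc6.Serre
-- import your own Groth.Agent.* helpers here

set_option autoImplicit false
set_option backward.isDefEq.respectTransparency false
set_option backward.isDefEq.respectTransparency.types false
set_option linter.style.haveILetI false
set_option maxHeartbeats 1000000
universe u
open CategoryTheory CategoryTheory.Limits AlgebraicGeometry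
open Curves

namespace Groth.Agent.S15923
open Groth.Agent

/-- Let k be an algebraically closed field, X a curve over k (proper over k, reduced, connected, every
irreducible component of dimension one) and P a closed point of X, with m_P the ideal sheaf of the
reduced point P as an O_X-module. Then m_P is invertible (locally on X isomorphic to the structure
sheaf) exactly when some open neighbourhood of P is smooth over k. -/
theorem result (k : Type u) [Field k] [IsAlgClosed k] (X : Scheme.{u}) [X.Over (Spec (CommRingCat.of k))] [IsProper (X ↘ (Spec (CommRingCat.of k)))] [IsReduced X] [ConnectedSpace X]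
    (hequi : ∀ Z ∈ irreducibleComponents (X : Type u), topologicalKrullDim Z = 1)
    (P : X) (hP : IsClosed ({P} : Set X)) :
    PicF.IsInvertible (ClSub.idealMod (Scheme.IdealSheafData.vanishingIdeal ⟨{P}, hP⟩)) ↔
      ∃ U : X.Opens, P ∈ U ∧ Smooth (U.ι ≫ (X ↘ (Spec (CommRingCat.of k)))) := by
  set f := X ↘ Spec (CommRingCat.of k)
  haveI : IsLocallyNoetherian X := LocallyOfFiniteType.isLocallyNoetherian f
  have hd : ringKrullDim (X.presheaf.stalk P) = 1 := MultiCross.ringKrullDim_stalk_eq_one f hequi hP
  have hmax : ∀ (V : X.affineOpens) (hPV : P ∈ (V : X.Opens)),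
      ((Scheme.IdealSheafData.vanishingIdeal ⟨{P}, hP⟩).ideal V).map (X.presheaf.germ V.1 P hPV).hom =
        IsLocalRing.maximalIdeal (X.presheaf.stalk P) := by
    intro V hPV
    letI := X.presheaf.algebra_section_stalk ⟨P, hPV⟩
    haveI := V.2.isLocalization_stalk ⟨P, hPV⟩
    have h1 : V.2.fromSpec ⁻¹' {P} = {V.2.primeIdealOf ⟨P, hPV⟩} := by
      ext p
      constructor
      · intro hp
        exact V.2.fromSpec.isOpenEmbedding.injective (hp.trans (V.2.fromSpec_primeIdealOf ⟨P, hPV⟩).symm)
      · rintro rfl
        exact V.2.fromSpec_primeIdealOf ⟨P, hPV⟩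
    have h2 : (Scheme.IdealSheafData.vanishingIdeal ⟨{P}, hP⟩).ideal V = (V.2.primeIdealOf ⟨P, hPV⟩).asIdeal := by
      show PrimeSpectrum.vanishingIdeal (V.2.fromSpec ⁻¹' {P}) = _
      rw [h1, PrimeSpectrum.vanishingIdeal_singleton]
    rw [h2]
    exact IsLocalization.AtPrime.map_eq_maximalIdeal _ _
  constructor
  · intro h
    obtain ⟨V, hPV, t, -, ht⟩ := (S8914.result _).1 h P
    have h1 := hmax V hPV
    rw [ht, Ideal.map_span, Set.image_singleton] at h1
    haveI : IsRegularLocalRing (X.presheaf.stalk P) := by
      refine IsRegularLocalRing.of_spanFinrank_maximalIdeal_le _ ?_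
      rw [hd, ← h1]
      exact_mod_cast (Submodule.spanFinrank_span_le_ncard_of_finite (Set.finite_singleton _)).trans
        (Set.ncard_singleton _).le
    refine ⟨f.smoothLocus, (SmoothReg.mem_smoothLocus_iff_isRegularLocalRing f P).2 inferInstance, ?_⟩
    rw [← Scheme.Hom.smoothLocus_eq_top_iff, ← Scheme.Hom.preimage_smoothLocus_eq]
    exact Scheme.Opens.ι_preimage_self f.smoothLocus
  · rintro ⟨U, hPU, hU⟩
    have hs : P ∈ f.smoothLocus := by
      have h1 : (⟨P, hPU⟩ : U.toScheme) ∈ (U.ι ≫ f).smoothLocus := by
        rw [Scheme.Hom.smoothLocus_eq_top_iff.2 hU]; trivial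
      rw [← Scheme.Hom.preimage_smoothLocus_eq] at h1
      exact h1
    haveI hreg := (SmoothReg.mem_smoothLocus_iff_isRegularLocalRing f P).1 hs
    haveI : IsDomain (X.presheaf.stalk P) := RegLoc6.isDomain_of_isRegularLocalRing _
    haveI : IsDiscreteValuationRing (X.presheaf.stalk P) := by
      refine IsLocalRing.finrank_CotangentSpace_eq_one_iff.mp ?_
      rw [IsRegularLocalRing.iff_finrank_cotangentSpace, hd] at hreg
      exact_mod_cast hreg
    refine (S8914.result _).2 (MeroX.isEffCartier_of_stalk _ fun y hy V hyV => ?_)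
    obtain rfl : y = P := Set.mem_singleton_iff.1
      (show y ∈ ((Scheme.IdealSheafData.vanishingIdeal ⟨{P}, hP⟩).support : Set X) from hy)
    obtain ⟨ϖ, hϖ⟩ := IsDiscreteValuationRing.exists_irreducible (X.presheaf.stalk y)
    exact ⟨ϖ, mem_nonZeroDivisors_of_ne_zero hϖ.ne_zero, (hmax V hyV).trans hϖ.maximalIdeal_eq⟩

end Groth.Agent.S15923
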