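import Groth.Statements.S15938
import Groth.Agent.S15936
import Groth.Agent.SteinFE.Strict
import Groth.Agent.GrpSchLib.IsogenyFibre
import Groth.Agent.H23.PullPush
import Groth.Agent.InvX.Pullback
import Groth.Agent.PicClLib.Basic
import Groth.Agent.Lib.CurveDualPrep
import Groth.Agent.H23.PicMul
-- import your own Groth.Agent.* helpers here

set_option autoImplicit false
set_option backward.isDefEq.respectTransparency false
set_option backward.isDefEq.respectTransparency.types false
set_option linter.style.haveILetI false
set_option maxHeartbeats 1000000
universe u
open CategoryTheory CategoryTheory.Limits AlgebraicGeometry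
open Canon

namespace Groth.Agent.S15938
open Groth.Agent

/-- Let S be a locally Noetherian scheme, f : X ⟶ S locally projective and smooth of relative dimension
n with non-empty geometrically connected fibres, ω an n-th exterior power of the relative
differentials (the relative canonical sheaf K_{X/S}), and m ≥ 1 such that the evaluation map f^* f_*
K^{⊗m} ⟶ K^{⊗m} is an isomorphism. Then the formation of f_* K^{⊗m} commutes with base change: for
every morphism g : S′ ⟶ S with S′ locally Noetherian, writing f′ : X ×_S S′ ⟶ S′ and g′ : X ×_S S′ ⟶
X for the projections, the base-change morphism g^* f_* K^{⊗m} ⟶ f′_* g′^* K^{⊗m} (adjoint to g′^*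
of the evaluation map, through the canonical identifications of iterated pullbacks) is an
isomorphism. (The published statement has f projective and smooth, of possibly varying relative
dimension; this row takes f locally projective of constant relative dimension n and base changes by
locally Noetherian schemes.) -/
theorem result
    {X S : Scheme.{u}} [IsLocallyNoetherian S] (f : X ⟶ S)
    (hproj : RedSub.IsLocallyProjective (Over.mk f))
    (n : ℕ) [SmoothOfRelativeDimension n f] [GeometricallyConnected f]
    (ω : X.Modules) (hω : Canon.IsTopDiff f n ω) (m : ℕ) (hm : 1 ≤ m)
    (hev : IsIso ((Scheme.Modules.pullbackPushforwardAdjunction f).counit.app (CohB1.tensorPow ω m)))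
    {S' : Scheme.{u}} [IsLocallyNoetherian S'] (g : S' ⟶ S) :
    IsIso (((Scheme.Modules.pullbackPushforwardAdjunction (pullback.snd f g)).homEquiv _ _)
      ((Scheme.Modules.pullbackComp (pullback.snd f g) g).hom.app _ ≫
        (Scheme.Modules.pullbackCongr (pullback.condition (f := f) (g := g))).inv.app _ ≫
        (Scheme.Modules.pullbackComp (pullback.fst f g) f).inv.app _ ≫
        (Scheme.Modules.pullback (pullback.fst f g)).map
          ((Scheme.Modules.pullbackPushforwardAdjunction f).counit.app (CohB1.tensorPow ω m)))) := by
  haveI : IsProper f := Groth.Agent.CanonTriv.isProper_of_isLocallyProjective f hproj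
  haveI : Smooth f := SmoothOfRelativeDimension.smooth n f
  haveI : GeometricallyReduced f := Groth.Agent.GrpSchLib.IsogenyFibre.geometricallyReduced_of_smooth' f
  have hM := Groth.Agent.CurveDuality.isInvertible_of_rank_one (Groth.Agent.S15936.result f hproj n ω hω m hm hev)
  have hb : ∀ U : S'.Opens, Function.Bijective ((pullback.snd f g).app U) := fun U => by
    haveI := Groth.Agent.SteinFE.isIso_app_of_geomConn f S' g U
    exact ConcreteCategory.bijective_of_isIso _
  have hfree : FlatMod.IsFinLocFree ((Scheme.Modules.pullback g).obj
      ((Scheme.Modules.pushforward f).obj (CohB1.tensorPow ω m))) :=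
    Groth.Agent.H23.PullPush.isFinLocFree_of_isInvertible (Groth.Agent.PicClLib.isInvertible_pullback g hM)
  haveI := Groth.Agent.H23.PullPush.isIso_unit_of_isFinLocFree (pullback.snd f g) hb _ hfree
  haveI := hev
  rw [Adjunction.homEquiv_unit]
  infer_instance

end Groth.Agent.S15938
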