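import Groth.Statements.S15939
import Groth.Agent.H1Ram.Generic
import Mathlib.FieldTheory.PurelyInseparable.Basic
import Mathlib.FieldTheory.Minpoly.Field
import Mathlib.Algebra.DualNumber

set_option autoImplicit false
universe u
open CAlg

namespace Groth.Agent.S15939

open Polynomial in
/-- Let κ be a field and A a commutative κ-algebra whose only κ-subalgebras are the image of κ and A
itself, these two being different. Then A is finite-dimensional over κ, and A is isomorphic as a
κ-algebra to the dual numbers over κ, or to κ × κ, or A is a field which is either separable over κ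
or isomorphic to κ[X]/(X^p - a) with p the (positive) characteristic of κ and a an element of κ that
is not a p-th power. (The published statement also records that these four cases exclude one
another; that part is not restated.) -/
theorem result (κ A : Type u) [Field κ] [CommRing A] [Algebra κ A]
    (h : IsSimpleOrder (Subalgebra κ A)) :
    FiniteDimensional κ A ∧
    (Nonempty (A ≃ₐ[κ] DualNumber κ) ∨ Nonempty (A ≃ₐ[κ] (κ × κ)) ∨
      (IsField A ∧ (Algebra.IsSeparable κ A ∨
        ∃ (p : ℕ) (a : κ), p.Prime ∧ CharP κ p ∧ (∀ b : κ, b ^ p ≠ a) ∧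
          Nonempty (A ≃ₐ[κ] AdjoinRoot (X ^ p - C a))))) := by
  classical
  haveI : Nontrivial A := nontrivial_of_ne (0 : A) 1 fun h0 => (bot_ne_top : (⊥ : Subalgebra κ A) ≠ ⊤) (by
    haveI : Subsingleton A := subsingleton_of_zero_eq_one h0
    exact Subsingleton.elim _ _)
  have hadj : ∀ a : A, a ∉ (⊥ : Subalgebra κ A) → Algebra.adjoin κ {a} = ⊤ := fun a ha =>
    (IsSimpleOrder.eq_bot_or_eq_top _).resolve_left fun hb => ha (hb ▸ Algebra.self_mem_adjoin_singleton κ a)
  obtain ⟨a, ha⟩ : ∃ a : A, a ∉ (⊥ : Subalgebra κ A) := by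
    by_contra hno
    push Not at hno
    exact (bot_ne_top : (⊥ : Subalgebra κ A) ≠ ⊤) (eq_top_iff.2 fun x _ => hno x)
  have hsurj : Function.Surjective (aeval a : κ[X] →ₐ[κ] A) := fun x => by
    have hx : x ∈ (Algebra.adjoin κ {a} : Subalgebra κ A) := by rw [hadj a ha]; exact Algebra.mem_top
    rw [Algebra.adjoin_singleton_eq_range_aeval] at hx
    exact hx
  have hint : IsIntegral κ a := by
    by_contra hni
    have htr : Transcendental κ a := fun h' => hni h'.isIntegral
    have hinj : Function.Injective (aeval a : κ[X] →ₐ[κ] A) := transcendental_iff_injective.1 htr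
    have ha2 : a ^ 2 ∉ (⊥ : Subalgebra κ A) := by
      intro hb
      obtain ⟨c, hc⟩ := Algebra.mem_bot.1 hb
      have h1 := congrArg natDegree (hinj (show aeval a (X ^ 2 : κ[X]) = aeval a (C c) by simp [← hc]))
      simp at h1
    have hx : a ∈ (Algebra.adjoin κ {a ^ 2} : Subalgebra κ A) := by rw [hadj _ ha2]; exact Algebra.mem_top
    rw [Algebra.adjoin_singleton_eq_range_aeval] at hx
    obtain ⟨P, hP : aeval (a ^ 2) P = a⟩ := hx
    have h1 := congrArg natDegree (hinj (show aeval a (P.comp (X ^ 2)) = aeval a X by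
      rw [aeval_comp, map_pow, aeval_X, hP]))
    rw [natDegree_comp, natDegree_X_pow, natDegree_X] at h1
    omega
  haveI hfin : FiniteDimensional κ A := by
    have hfg := hint.fg_adjoin_singleton
    rw [hadj a ha, Algebra.top_toSubmodule] at hfg
    exact ⟨hfg⟩
  refine ⟨hfin, ?_⟩
  haveI : IsArtinianRing A := IsArtinianRing.of_finite κ A
  by_cases hf : IsField A
  · right; right
    refine ⟨hf, ?_⟩
    by_cases hsep : Algebra.IsSeparable κ A
    · exact Or.inl hsep
    right
    letI : Field A := hf.toField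
    obtain ⟨p, hpc⟩ := CharP.exists κ
    have hp : p.Prime := (CharP.char_is_prime_or_zero κ p).resolve_right fun hp0 => by
      subst hp0
      haveI := CharP.charP_to_charZero κ
      exact hsep inferInstance
    haveI : Fact p.Prime := ⟨hp⟩
    haveI : ExpChar κ p := .prime hp
    haveI : CharP A p := charP_of_injective_algebraMap (algebraMap κ A).injective p
    have hscl : separableClosure κ A = ⊥ := by
      rcases IsSimpleOrder.eq_bot_or_eq_top (separableClosure κ A).toSubalgebra with h' | h'
      · exact IntermediateField.toSubalgebra_injective (h'.trans IntermediateField.bot_toSubalgebra.symm)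
      · exact absurd ((separableClosure.eq_top_iff κ A).1
          (IntermediateField.toSubalgebra_injective (h'.trans IntermediateField.top_toSubalgebra.symm))) hsep
    haveI : IsPurelyInseparable κ A := separableClosure.eq_bot_iff.1 hscl
    obtain ⟨n, c, hc⟩ := IsPurelyInseparable.minpoly_eq_X_pow_sub_C κ p a
    have hn : n ≠ 0 := fun hn => ha (by
      have h1 := minpoly.aeval κ a
      rw [hc, hn, pow_zero, pow_one, map_sub, aeval_X, aeval_C, sub_eq_zero] at h1
      exact Algebra.mem_bot.2 ⟨c, h1.symm⟩)
    obtain ⟨n, rfl⟩ := Nat.exists_eq_succ_of_ne_zero hn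
    have hap : a ^ p ∈ (⊥ : Subalgebra κ A) := by
      by_contra hb
      have hx : a ∈ (Algebra.adjoin κ {a ^ p} : Subalgebra κ A) := by rw [hadj _ hb]; exact Algebra.mem_top
      have hpow : (a ^ p) ^ (p ^ n) = algebraMap κ A c := by
        have h1 := minpoly.aeval κ a
        rw [hc, map_sub, map_pow, aeval_X, aeval_C, sub_eq_zero] at h1
        rw [← pow_mul, ← pow_succ', h1]
      have h2 : ∀ y ∈ (Algebra.adjoin κ {a ^ p} : Subalgebra κ A), y ^ p ^ n ∈ (⊥ : Subalgebra κ A) := by
        intro y hy
        induction hy using Algebra.adjoin_induction with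
        | mem y hy => rw [Set.mem_singleton_iff.1 hy, hpow]; exact Subalgebra.algebraMap_mem _ c
        | algebraMap r => exact pow_mem (Subalgebra.algebraMap_mem _ r) _
        | add y z _ _ hy hz => rw [add_pow_char_pow]; exact add_mem hy hz
        | mul y z _ _ hy hz => rw [mul_pow]; exact mul_mem hy hz
      obtain ⟨d, hd⟩ := Algebra.mem_bot.1 (h2 a hx)
      have h3 : minpoly κ a ∣ X ^ p ^ n - C d := minpoly.dvd κ a (by simp [hd])
      have h4 := natDegree_le_of_dvd h3 (X_pow_sub_C_ne_zero (pow_pos hp.pos n) d)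
      rw [hc, natDegree_X_pow_sub_C, natDegree_X_pow_sub_C] at h4
      exact absurd h4 (not_le.2 (Nat.pow_lt_pow_right hp.one_lt n.lt_succ_self))
    obtain ⟨d, hd⟩ := Algebra.mem_bot.1 hap
    have hdp : ∀ b : κ, b ^ p ≠ d := fun b hb => ha (Algebra.mem_bot.2 ⟨b, by
      refine frobenius_inj A p ?_
      simp only [frobenius_def, ← map_pow, hb]
      exact hd⟩)
    refine ⟨p, d, hp, hpc, hdp, ⟨(AlgEquiv.ofBijective (AdjoinRoot.liftAlgHom (X ^ p - C d) (Algebra.ofId κ A) a
      (by simp [← hd])) ⟨?_, fun x => ?_⟩).symm⟩⟩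
    · haveI : Fact (Irreducible (X ^ p - C d)) := ⟨X_pow_sub_C_irreducible_of_prime hp hdp⟩
      exact RingHom.injective _
    · obtain ⟨P, rfl⟩ := hsurj x
      refine ⟨AdjoinRoot.mk _ P, ?_⟩
      rw [AdjoinRoot.liftAlgHom_mk]
      rfl
  by_cases hred : IsReduced A
  · right; left
    obtain ⟨x, hx0, hxu⟩ : ∃ x : A, x ≠ 0 ∧ ¬ IsUnit x := by
      by_contra hno
      push Not at hno
      exact hf ⟨exists_pair_ne A, mul_comm, fun {x} hx => (hno x hx).exists_right_inv⟩
    obtain ⟨y, hy⟩ := Groth.Agent.H1Ram.exists_sq x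
    obtain ⟨e, he⟩ : ∃ e, e = x * y := ⟨_, rfl⟩
    have hee : e * e = e := by rw [he]; linear_combination -(y : A) * hy
    have he0 : e ≠ 0 := fun h0 => hx0 (by rw [hy, mul_assoc, ← he, h0, mul_zero])
    have he1 : e ≠ 1 := fun h1 => hxu (IsUnit.of_mul_eq_one y (he ▸ h1))
    have heb : e ∉ (⊥ : Subalgebra κ A) := by
      intro hb
      obtain ⟨c, hc⟩ := Algebra.mem_bot.1 hb
      have hcc : c * c = c := (algebraMap κ A).injective (by rw [map_mul, hc, hee])
      rcases eq_or_ne c 0 with rfl | hc0
      · exact he0 (by rw [← hc, map_zero])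
      · exact he1 (by rw [← hc, mul_right_cancel₀ hc0 (hcc.trans (one_mul c).symm), map_one])
    let φ : (κ × κ) →ₐ[κ] A :=
      { toFun := fun q => algebraMap κ A q.1 * e + algebraMap κ A q.2 * (1 - e)
        map_one' := by simp
        map_mul' := fun q r => by
          simp only [Prod.fst_mul, Prod.snd_mul, map_mul]
          linear_combination (-(algebraMap κ A q.1 * algebraMap κ A r.1) - algebraMap κ A q.2 * algebraMap κ A r.2
            + algebraMap κ A q.1 * algebraMap κ A r.2 + algebraMap κ A q.2 * algebraMap κ A r.1) * hee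
        map_zero' := by simp
        map_add' := fun q r => by simp only [Prod.fst_add, Prod.snd_add, map_add]; ring
        commutes' := fun r => by
          show algebraMap κ A r * e + algebraMap κ A r * (1 - e) = algebraMap κ A r
          ring }
    refine ⟨(AlgEquiv.ofBijective φ ⟨(injective_iff_map_eq_zero φ).2 fun q hq => ?_, fun z => ?_⟩).symm⟩
    · have hq' : algebraMap κ A q.1 * e + algebraMap κ A q.2 * (1 - e) = 0 := hq
      refine Prod.ext ?_ ?_
      · by_contra hne
        refine he0 ((((isUnit_iff_ne_zero.2 hne).map (algebraMap κ A))).mul_right_eq_zero.1 ?_)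
        linear_combination (e : A) * hq' + (-algebraMap κ A q.1 + algebraMap κ A q.2) * hee
      · by_contra hne
        refine he1 (sub_eq_zero.1 ((((isUnit_iff_ne_zero.2 hne).map (algebraMap κ A))).mul_right_eq_zero.1 ?_)).symm
        linear_combination (1 - e : A) * hq' + (algebraMap κ A q.1 - algebraMap κ A q.2) * hee
    · have hz : z ∈ (Algebra.adjoin κ {e} : Subalgebra κ A) := by rw [hadj e heb]; exact Algebra.mem_top
      have hle : (Algebra.adjoin κ {e} : Subalgebra κ A) ≤ φ.range :=
        Algebra.adjoin_le fun w hw => ⟨(1, 0), by rw [Set.mem_singleton_iff.1 hw]; show algebraMap κ A 1 * e + algebraMap κ A 0 * (1 - e) = e; simp⟩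
      exact hle hz
  · left
    obtain ⟨ε, hε0, hεε⟩ : ∃ ε : A, ε ≠ 0 ∧ ε * ε = 0 := by
      by_contra hno
      push Not at hno
      exact hred ((isReduced_iff_pow_one_lt 2 one_lt_two).2 fun x hx => by
        by_contra hx0
        exact hno x hx0 (by rw [← pow_two]; exact hx))
    have hεb : ε ∉ (⊥ : Subalgebra κ A) := by
      intro hb
      obtain ⟨c, hc⟩ := Algebra.mem_bot.1 hb
      have hcc : c * c = 0 := (algebraMap κ A).injective (by rw [map_mul, hc, hεε, map_zero])
      exact hε0 (by rw [← hc, mul_self_eq_zero.1 hcc, map_zero])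
    let φ : DualNumber κ →ₐ[κ] A := DualNumber.lift ⟨(Algebra.ofId κ A, ε), hεε, fun r => Commute.all _ _⟩
    refine ⟨(AlgEquiv.ofBijective φ ⟨(injective_iff_map_eq_zero φ).2 fun q hq => ?_, fun z => ?_⟩).symm⟩
    · have hq' : algebraMap κ A q.fst + algebraMap κ A q.snd * ε = 0 := hq
      have h1 : algebraMap κ A q.fst * ε = 0 := by linear_combination (ε : A) * hq' - algebraMap κ A q.snd * hεε
      have hfst : q.fst = 0 := by
        by_contra hne
        exact hε0 (((isUnit_iff_ne_zero.2 hne).map (algebraMap κ A)).mul_right_eq_zero.1 h1)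
      rw [hfst, map_zero, zero_add] at hq'
      refine TrivSqZeroExt.ext hfst ?_
      by_contra hne
      exact hε0 (((isUnit_iff_ne_zero.2 hne).map (algebraMap κ A)).mul_right_eq_zero.1 hq')
    · have hz : z ∈ (Algebra.adjoin κ {ε} : Subalgebra κ A) := by rw [hadj ε hεb]; exact Algebra.mem_top
      have hle : (Algebra.adjoin κ {ε} : Subalgebra κ A) ≤ φ.range :=
        Algebra.adjoin_le fun w hw => ⟨DualNumber.eps, by rw [Set.mem_singleton_iff.1 hw]; exact DualNumber.lift_apply_eps _⟩
      exact hle hz

end Groth.Agent.S15939
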