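import Groth.Statements.S15957
import Groth.Agent.NeronSH.Lft
import Groth.Agent.S18498

set_option autoImplicit false
set_option backward.isDefEq.respectTransparency false
set_option backward.isDefEq.respectTransparency.types false
set_option maxHeartbeats 1000000
set_option linter.style.haveILetI false
universe u
open Neron

set_option backward.isDefEq.respectTransparency false
set_option backward.isDefEq.respectTransparency.types false
set_option maxHeartbeats 1000000
open TopologicalSpace CategoryTheory.Limits

namespace Groth.Agent.S15957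

open CategoryTheory AlgebraicGeometry in
/-- (ii) ⇒ (i): let R be a discrete valuation ring with field of fractions K and G a smooth separated
group scheme over Spec R. Suppose that for every local extension R ⊆ R' of discrete valuation rings
of ramification index one (the maximal ideal of R generates that of R' and the residue field
extension is separable, i.e. geometrically reduced) with R' strictly Henselian, and K' the fraction
field of R', every K'-valued point of G over R extends to an R'-valued point. Then G is a Néron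
lft-model of its generic fibre: for every smooth scheme Y over Spec R, restriction to generic fibres
is a bijection from morphisms Y → G over R onto morphisms Y_K → G_K over K. (The published statement
is the equivalence of this criterion, of the Néron lft property, and of a third intermediate
criterion; only this implication is stated.) -/
theorem result
    (R : Type u) [CommRing R] [IsDomain R] [IsDiscreteValuationRing R]
    (G : Over (Spec (CommRingCat.of R))) [GrpObj G] [Smooth G.hom] [IsSeparated G.hom]
    (h : ∀ (R' : Type u) [CommRing R'] [IsDomain R'] [IsDiscreteValuationRing R'] [Algebra R R']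
        [IsLocalHom (algebraMap R R')] [HenselianLocalRing R'] [IsSepClosed (IsLocalRing.ResidueField R')],
      (IsLocalRing.maximalIdeal R).map (algebraMap R R') = IsLocalRing.maximalIdeal R' →
      Algebra.IsGeometricallyReduced (IsLocalRing.ResidueField R) (IsLocalRing.ResidueField R') →
      ∀ x : Spec (CommRingCat.of (FractionRing R')) ⟶ G.left,
        x ≫ G.hom = Spec.map (CommRingCat.ofHom ((algebraMap R' (FractionRing R')).comp (algebraMap R R'))) →
        ∃ y : Spec (CommRingCat.of R') ⟶ G.left, y ≫ G.hom = Spec.map (CommRingCat.ofHom (algebraMap R R')) ∧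
          Spec.map (CommRingCat.ofHom (algebraMap R' (FractionRing R'))) ≫ y = x) :
    ∀ Y : Over (Spec (CommRingCat.of R)), Smooth Y.hom →
      Function.Bijective (fun g : Y ⟶ G => (Neron.genericFibre R).map g) := by
  intro Y hY
  haveI := hY
  obtain ⟨π, hπ⟩ := IsDiscreteValuationRing.exists_irreducible R
  haveI hloc : IsLocalization.Away π (FractionRing R) := by
    refine ⟨?_, fun z => ?_, fun {a b} h => ⟨1, by rw [IsFractionRing.injective R (FractionRing R) h]⟩⟩
    · rintro ⟨_, n, rfl⟩
      exact IsUnit.mk0 _ ((map_ne_zero_iff _ (IsFractionRing.injective R (FractionRing R))).2 (pow_ne_zero n hπ.ne_zero))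
    · obtain ⟨⟨a, s, hs⟩, hz⟩ := IsLocalization.surj (nonZeroDivisors R) z
      obtain ⟨n, u, rfl⟩ := IsDiscreteValuationRing.eq_unit_mul_pow_irreducible (nonZeroDivisors.ne_zero hs) hπ
      refine ⟨⟨↑u⁻¹ * a, π ^ n, n, rfl⟩, ?_⟩
      show z * algebraMap R _ (π ^ n) = algebraMap R _ (↑u⁻¹ * a)
      rw [map_mul, ← hz, mul_left_comm, ← map_mul, Units.inv_mul_cancel_left]
  haveI : IsOpenImmersion (Neron.genPt R) := IsOpenImmersion.of_isLocalization π
  have hrg : Set.range (Neron.genPt R) = (PrimeSpectrum.basicOpen π : Set (PrimeSpectrum R)) :=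
    PrimeSpectrum.localization_away_comap_range (FractionRing R) π
  constructor
  · intro f g hfg
    exact S18498.result R Y G f g hfg
  intro φ
  let j : ((Neron.genericFibre R).obj Y).left ⟶ Y.left := pullback.fst Y.hom (Neron.genPt R)
  haveI : IsOpenImmersion j := inferInstanceAs (IsOpenImmersion (pullback.fst Y.hom (Neron.genPt R)))
  let Ug := j.opensRange
  have hUg : Ug = Y.hom ⁻¹ᵁ PrimeSpectrum.basicOpen π := by
    refine Opens.ext ?_
    show Set.range (pullback.fst Y.hom (Neron.genPt R)) = _
    rw [Scheme.Pullback.range_fst, hrg]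
    rfl
  let q : ((Neron.genericFibre R).obj Y).left ⟶ G.left := φ.left ≫ pullback.fst G.hom (Neron.genPt R)
  let v : (Ug : Scheme.{u}) ⟶ G.left := j.isoOpensRange.inv ≫ q
  have hv : v ≫ G.hom = Ug.ι ≫ Y.hom := by
    rw [← cancel_epi j.isoOpensRange.hom]
    simp only [v, q, Category.assoc, Iso.hom_inv_id_assoc, pullback.condition, reassoc_of% j.isoOpensRange_hom_ι]
    rw [show φ.left ≫ pullback.snd G.hom (Neron.genPt R) ≫ Neron.genPt R =
      (φ.left ≫ pullback.snd G.hom (Neron.genPt R)) ≫ Neron.genPt R from (Category.assoc _ _ _).symm,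
      show φ.left ≫ pullback.snd G.hom (Neron.genPt R) = pullback.snd Y.hom (Neron.genPt R) from Over.w φ]
    refine pullback.condition.symm.trans ?_
    exact ((congrArg (· ≫ Y.hom) j.isoOpensRange_hom_ι).symm.trans (Category.assoc _ _ _))
  have hUd : Dense (Ug : Set Y.left) := by
    intro y
    obtain ⟨z, hzy, hz⟩ := Flat.generalizingMap Y.hom
      (show (⟨⊥, Ideal.isPrime_bot⟩ : PrimeSpectrum R) ⤳ Y.hom y from (PrimeSpectrum.le_iff_specializes _ _).1 bot_le)
    refine hzy.mem_closed isClosed_closure (subset_closure ?_)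
    show z ∈ Ug
    rw [hUg]
    show π ∉ (Y.hom z : PrimeSpectrum R).asIdeal
    rw [show (Y.hom z : PrimeSpectrum R) = ⟨⊥, Ideal.isPrime_bot⟩ from hz, Ideal.mem_bot]
    exact hπ.ne_zero
  have hreg : ∀ y : Y.left, IsRegularLocalRing (Y.left.presheaf.stalk y) :=
    WeilExt.isRegularLocalRing_stalk (WeilExt.isRegularLocalRing_stalk_spec (R := R)) Y.hom
  let T := {y : Y.left // Order.coheight y ≤ 1 ∧ Y.hom y = IsLocalRing.closedPoint R}
  have hpiece : ∀ y : T, ∃ (V : Y.left.Opens) (g : (V : Scheme.{u}) ⟶ G.left), y.1 ∈ V ∧ g ≫ G.hom = V.ι ≫ Y.hom ∧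
      ∀ {P : Scheme.{u}} (a : P ⟶ (V : Scheme.{u})) (b : P ⟶ (Ug : Scheme.{u})),
        a ≫ V.ι = b ≫ Ug.ι → a ≫ g = b ≫ v := by
    intro y
    obtain ⟨X₀, hy₀, hI, -⟩ := WeilExt.exists_component (WeilExt.isRegularLocalRing_stalk_spec (R := R)) Y.hom y.1
    haveI := hI
    let X' : Over (Spec (CommRingCat.of R)) := Over.mk (X₀.ι ≫ Y.hom)
    haveI : IsIntegral X'.left := hI
    haveI : Smooth X'.hom := inferInstanceAs (Smooth (X₀.ι ≫ Y.hom))
    let jX : X' ⟶ Y := Over.homMk X₀.ι
    haveI : IsOpenImmersion jX.left := inferInstanceAs (IsOpenImmersion X₀.ι)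
    have hgen : genericPoint X'.left ∈ jX.left ⁻¹ᵁ Ug :=
      ((genericPoint_spec X'.left).mem_open_set_iff (jX.left ⁻¹ᵁ Ug).isOpen).2 (by
        obtain ⟨z, hz⟩ := hUd.inter_open_nonempty (X₀ : Set Y.left) X₀.2 ⟨y.1, hy₀⟩
        exact ⟨⟨z, hz.1⟩, trivial, hz.2⟩)
    obtain ⟨V, g, hV, hg, hgf⟩ := WeilExt.exists_piece Ug v hv jX hgen {⟨y.1, hy₀⟩} fun φ _ z hz => by
      rw [Set.mem_singleton_iff] at hz
      subst hz
      refine NeronSH.defAt_special h φ π hπ _ ?_ y.2.2 ?_
      · exact (le_of_eq (WeilExt.coheight_ι X₀ ⟨y.1, hy₀⟩).symm).trans y.2.1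
      · have h1 : jX.left (genericPoint X'.left) ∈ Ug := hgen
        rw [hUg] at h1
        exact h1
    exact ⟨V, g, hV ⟨⟨y.1, hy₀⟩, rfl, rfl⟩, hg, hgf⟩
  choose V g hyV hg hgv using hpiece
  let V' : Option T → Y.left.Opens := fun o => o.elim Ug V
  let g' : ∀ o, (V' o).toScheme ⟶ G.left := fun o => match o with
    | none => v
    | some y => g y
  haveI := WeilExt.isReduced_smooth (WeilExt.isRegularLocalRing_stalk_spec (R := R)) Y.hom
  obtain ⟨h, hh, hhi⟩ := WeilExt.glue_extensions Y.hom G.hom v hUd V' g'
    (fun o => match o with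
      | none => hv
      | some y => hg y)
    (fun o => match o with
      | none => fun a b hab => by rw [(cancel_mono Ug.ι).1 hab]
      | some y => fun a b hab => hgv y a b hab)
  have hmem : ∀ y : Y.left, Order.coheight y ≤ 1 → y ∈ ⨆ o, V' o := by
    intro y hy
    by_cases hc : Y.hom y = IsLocalRing.closedPoint R
    · exact Opens.mem_iSup.2 ⟨some ⟨y, hy, hc⟩, hyV ⟨y, hy, hc⟩⟩
    · refine Opens.mem_iSup.2 ⟨none, ?_⟩
      show y ∈ Ug
      rw [hUg]
      refine fun hmem => hc (PrimeSpectrum.ext ?_)
      exact IsLocalRing.eq_maximalIdeal (Ideal.IsPrime.isMaximal_of_ne_bot (Y.hom y : PrimeSpectrum R).isPrime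
        fun h0 => hπ.ne_zero (Ideal.mem_bot.1 (h0 ▸ hmem)))
  obtain ⟨F, ⟨hF, hFh⟩, -⟩ := WeilExt.existsUnique_extension (WeilExt.isRegularLocalRing_stalk_spec (R := R))
    (X := Y) (G := G) _ hmem (WeilExt.exists_fibre_generization_of_coheight Y.hom _ hmem) h hh
  refine ⟨Over.homMk F hF, ?_⟩
  show (Neron.genericFibre R).map (Over.homMk F hF) = φ
  apply Over.OverMorphism.ext
  apply pullback.hom_ext
  · refine (pullback.lift_fst _ _ _).trans ?_
    show j ≫ F = q
    have h3 := hhi none
    rw [← hFh, Scheme.homOfLE_ι_assoc] at h3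
    rw [← j.isoOpensRange_hom_ι, Category.assoc]
    refine (congrArg (j.isoOpensRange.hom ≫ ·) h3).trans ?_
    exact j.isoOpensRange.hom_inv_id_assoc q
  · exact (pullback.lift_snd _ _ _).trans (Over.w φ).symm

end Groth.Agent.S15957
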