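import Groth.Statements.S1596
import Groth.Agent.RelCurveCoh.Basic
import Groth.Agent.NodeLib.NodalLocal
import Groth.Agent.H23.TopDim
import Groth.Agent.S1536
-- import your own Groth.Agent.* helpers here

set_option autoImplicit false
set_option backward.isDefEq.respectTransparency false
set_option backward.isDefEq.respectTransparency.types false
set_option linter.style.haveILetI false
set_option maxHeartbeats 1000000
universe u
open CategoryTheory CategoryTheory.Limits AlgebraicGeometry
open Curves

namespace Groth.Agent.S1596
open Groth.Agent

/-- Let f : X → S be a proper morphism of schemes that is at-worst-nodal of relative dimension one with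
geometrically connected fibres. Then R¹f_*O_X is a finite locally free O_S-module and R^q f_*O_X = 0
for every q ≥ 2. The published statement also includes the compatibility of these direct images with
base change, which is not asserted here. (Existence of injective resolutions in the category of
O_X-modules is carried as an instance binder.) -/
theorem result {X S : Scheme.{u}} (f : X ⟶ S) [IsProper f] (hf : Curv2.IsNodalFamily f)
    [GeometricallyConnected f] [HasInjectiveResolutions X.Modules] :
    FlatMod.IsFinLocFree ((Coh.Rpush f 1).obj (Coh.structureModule X)) ∧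
      ∀ q : ℕ, 2 ≤ q → IsZero ((Coh.Rpush f q).obj (Coh.structureModule X)) := by
  obtain ⟨hfl, hlfp, hfib⟩ := hf
  obtain ⟨hq, hfp⟩ := RelCurveCoh.isQCoh_fp_structure (X := X)
  have hFl := DerBC7.isFlatOver_structureModule f
  have hdim : ∀ s : S, topologicalKrullDim (f.fiber s) ≤ ((1 : ℕ) : WithBot ℕ∞) := fun s => by
    rw [H23.TopDim.dim_eq_iSup_irreducibleComponents]
    exact iSup₂_le fun Z hZ => ((hfib s).1 Z hZ).le
  have hv : ∀ (s : S) (q : ℕ), 2 ≤ q → CohPullLib.VanAt f (Coh.structureModule X) q s := fun s q hq2 =>
    CohPullLib.vanAt_of_subsingleton hq hfp hFl q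
      (CohPullLib.subsingleton_fiberH_of_dim f hq hfp s (hdim s) (by omega))
  have h0 : ∀ s : S, CohPullLib.ExchAt f (Coh.structureModule X) 0 s := fun s => by
    refine RelCurveCoh.exchAt_zero_structure ?_
    rw [RelCurveCoh.fiberRank_structure]
    letI : (f.fiber s).Over (Spec (CommRingCat.of (S.residueField s))) := ⟨f.fiberToSpecResidueField s⟩
    haveI : IsProper (f.fiber s ↘ Spec (CommRingCat.of (S.residueField s))) :=
      inferInstanceAs (IsProper (pullback.snd f (S.fromSpecResidueField s)))
    haveI : LocallyOfFinitePresentation (f.fiber s ↘ Spec (CommRingCat.of (S.residueField s))) :=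
      MorphismProperty.pullback_snd (P := @LocallyOfFinitePresentation) f (S.fromSpecResidueField s) hlfp
    haveI : GeometricallyConnected (f.fiber s ↘ Spec (CommRingCat.of (S.residueField s))) :=
      inferInstanceAs (GeometricallyConnected (pullback.snd f (S.fromSpecResidueField s)))
    haveI := (NodeLib.gorenstein_and_geometricallyReduced (k := S.residueField s) (X := f.fiber s)
      (by simpa using hdim s) (hfib s).2).2
    exact S1536.result (S.residueField s) (f.fiber s)
  refine ⟨CohPullLib.isFinLocFree_of_exchAt hq hfp hFl (fun s => (hv s 2 le_rfl).exchAt_pred)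
    (fun s p' hp' => ?_), fun q hq2 => CohPullLib.isZero_of_vanAt hq q fun s => hv s q hq2⟩
  obtain rfl : p' = 0 := by omega
  exact h0 s

end Groth.Agent.S1596
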