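import Groth.Statements.S1598
import Groth.Agent.CplQuot.Scheme
import Groth.Agent.Hensel.HenselizationLoc
import Groth.Agent.FlatLoc6.Cpl
-- import your own Groth.Agent.* helpers here

set_option autoImplicit false
set_option backward.isDefEq.respectTransparency false
set_option backward.isDefEq.respectTransparency.types false
set_option linter.style.haveILetI false
set_option maxHeartbeats 1000000
universe u
open CategoryTheory CategoryTheory.Limits AlgebraicGeometry
open Resolve

namespace Groth.Agent.S1598
open Groth.Agent

/-- Let A be a Noetherian local ring with completion A^, X locally of finite type over Spec A, Y its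
base change to Spec A^, and y a point of Y lying over the closed point of Spec A^ with image x in X.
Then the local ring of Y at y is regular if and only if the local ring of X at x is regular. -/
theorem result (A : Type u) [CommRing A] [IsLocalRing A] [IsNoetherianRing A]
    (X : Scheme.{u}) (f : X ⟶ Spec (CommRingCat.of A)) [LocallyOfFiniteType f]
    (y : Curv2.bcCpl A f) (hy : (Curv2.bcCplSnd A f).base y = IsLocalRing.closedPoint (Curv2.cpl A)) :
    IsRegularLocalRing ((Curv2.bcCpl A f).presheaf.stalk y) ↔
      IsRegularLocalRing (X.presheaf.stalk ((Curv2.bcCplFst A f).base y)) := by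
  haveI := FlatLoc6.isNoetherianRing_cpl A
  haveI : IsLocalHom (algebraMap A (Curv2.cpl A)) := inferInstance
  haveI : IsLocallyNoetherian X := LocallyOfFiniteType.isLocallyNoetherian f
  haveI : IsLocallyNoetherian (Curv2.bcCpl A f) := LocallyOfFiniteType.isLocallyNoetherian (Curv2.bcCplSnd A f)
  have hx : f ((Curv2.bcCplFst A f) y) = IsLocalRing.closedPoint A := by
    have h := congrArg (fun φ : Curv2.bcCpl A f ⟶ Spec (CommRingCat.of A) => φ y)
      (pullback.condition (f := f) (g := Spec.map (CommRingCat.ofHom (algebraMap A (Curv2.cpl A)))))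
    refine h.trans ?_
    show Spec.map (CommRingCat.ofHom (algebraMap A (Curv2.cpl A))) ((Curv2.bcCplSnd A f).base y) = _
    rw [hy]
    exact IsLocalRing.comap_closedPoint (algebraMap A (Curv2.cpl A))
  haveI : Flat (Spec.map (CommRingCat.ofHom (algebraMap A (Curv2.cpl A)))) := by
    rw [HasRingHomProperty.Spec_iff (P := @Flat), CommRingCat.hom_ofHom, RingHom.flat_algebraMap_iff]
    exact AdicCompletion.flat_of_isNoetherian _
  haveI : Flat (Curv2.bcCplFst A f) := MorphismProperty.pullback_fst _ _ inferInstance
  let R := X.presheaf.stalk ((Curv2.bcCplFst A f).base y)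
  let S := (Curv2.bcCpl A f).presheaf.stalk y
  let g : R →+* S := ((Curv2.bcCplFst A f).stalkMap y).hom
  have hle : IsLocalRing.maximalIdeal R ^ 2 ≤ (IsLocalRing.maximalIdeal S ^ 2).comap g := by
    refine le_trans (Ideal.pow_right_mono ?_ 2) (Ideal.le_comap_pow g 2)
    exact le_of_eq (IsLocalRing.maximalIdeal_comap g).symm
  have hb := CplQuot.quotientMap_bijective A (IsNoetherian.noetherian _) y hx two_ne_zero hle
  letI : Algebra R S := g.toAlgebra
  haveI : IsLocalHom (algebraMap R S) := inferInstanceAs (IsLocalHom g)
  haveI : Module.Flat R S := Flat.stalkMap (Curv2.bcCplFst A f) y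
  have hm : (IsLocalRing.maximalIdeal R).map (algebraMap R S) = IsLocalRing.maximalIdeal S := by
    refine le_antisymm (IsLocalRing.map_maximalIdeal_le g) ?_
    refine Submodule.le_of_le_smul_of_le_jacobson_bot (I := IsLocalRing.maximalIdeal S)
      (IsNoetherian.noetherian _) (IsLocalRing.maximalIdeal_le_jacobson _) fun z hz => ?_
    obtain ⟨r, hr⟩ := hb.2 (Ideal.Quotient.mk _ z)
    obtain ⟨r, rfl⟩ := Ideal.Quotient.mk_surjective r
    rw [Ideal.quotientMap_mk, Ideal.Quotient.eq, pow_two] at hr
    have hr' : g r ∈ IsLocalRing.maximalIdeal S := by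
      simpa using add_mem (Ideal.mul_le_left hr) hz
    have hrm : r ∈ IsLocalRing.maximalIdeal R := by
      rw [← IsLocalRing.maximalIdeal_comap g]; exact hr'
    refine Submodule.mem_sup.2 ⟨g r, Ideal.mem_map_of_mem _ hrm, z - g r, ?_, by abel⟩
    rw [smul_eq_mul, ← neg_sub]
    exact neg_mem hr
  exact (Hensel.isRegularLocalRing_iff_of_flat hm).symm

end Groth.Agent.S1598
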