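import Groth.Statements.S1597
import Groth.Agent.S1598
import Groth.Agent.CIntRegGen.Main
import Groth.Agent.AmpleVan.NakayamaFibre
-- import your own Groth.Agent.* helpers here

set_option autoImplicit false
set_option backward.isDefEq.respectTransparency false
set_option backward.isDefEq.respectTransparency.types false
set_option linter.style.haveILetI false
set_option maxHeartbeats 1000000
universe u
open CategoryTheory CategoryTheory.Limits AlgebraicGeometry
open Resolve

namespace Groth.Agent.S1597
open Groth.Agent

/-- Let A be a Noetherian local ring with completion A^, X a scheme proper over Spec A and Y its base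
change to Spec A^. Then all local rings of X are regular if and only if all local rings of Y are
regular. -/
theorem result (A : Type u) [CommRing A] [IsLocalRing A] [IsNoetherianRing A]
    (X : Scheme.{u}) (f : X ⟶ Spec (CommRingCat.of A)) [IsProper f] :
    (∀ x : X, IsRegularLocalRing (X.presheaf.stalk x)) ↔
      ∀ y : Curv2.bcCpl A f, IsRegularLocalRing ((Curv2.bcCpl A f).presheaf.stalk y) := by
  haveI : IsLocalHom (algebraMap A (Curv2.cpl A)) := inferInstance
  letI : X.Over (Spec (CommRingCat.of A)) := ⟨f⟩
  haveI : IsProper (X ↘ Spec (CommRingCat.of A)) := ‹IsProper f›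
  letI : (Curv2.bcCpl A f).Over (Spec (CommRingCat.of (Curv2.cpl A))) := ⟨Curv2.bcCplSnd A f⟩
  haveI : IsProper ((Curv2.bcCpl A f) ↘ Spec (CommRingCat.of (Curv2.cpl A))) :=
    inferInstanceAs (IsProper (pullback.snd f _))
  constructor
  · intro h y
    obtain ⟨z, hyz, hz⟩ := AmpleVan.exists_specializes_closedPoint (A := Curv2.cpl A) y
    haveI := (S1598.result A X f z hz).2 (h _)
    exact CIntRegGen.regular_of_specializes hyz
  · intro h x
    obtain ⟨z, hxz, hz⟩ := AmpleVan.exists_specializes_closedPoint (A := A) x
    obtain ⟨y, hy₁, hy₂⟩ := Scheme.Pullback.exists_preimage_pullback (f := f)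
      (g := Spec.map (CommRingCat.ofHom (algebraMap A (Curv2.cpl A)))) z (IsLocalRing.closedPoint _)
      (hz.trans (IsLocalRing.comap_closedPoint (algebraMap A (Curv2.cpl A))).symm)
    haveI : IsRegularLocalRing (X.presheaf.stalk z) := hy₁ ▸ (S1598.result A X f y hy₂).1 (h y)
    exact CIntRegGen.regular_of_specializes hxz

end Groth.Agent.S1597
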