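import Groth.Statements.S1599
import Groth.Agent.ResolveLib.SubNormal
import Groth.Agent.Hensel.Local
import Groth.Agent.FormalFib6.Cplt
import Groth.Agent.GeomNormalInsep.Basic
-- import your own Groth.Agent.* helpers here

set_option autoImplicit false
set_option backward.isDefEq.respectTransparency false
set_option backward.isDefEq.respectTransparency.types false
set_option linter.style.haveILetI false
set_option maxHeartbeats 1000000
universe u
open CategoryTheory CategoryTheory.Limits AlgebraicGeometry
open Resolve

namespace Groth.Agent.S1599
open Groth.Agent

/-- Let A be a Noetherian local ring with maximal ideal m and B ⊆ C finite A-algebras. If B is a normal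
ring and the m-adic completion of C is a normal ring, then the m-adic completion of B is a normal
ring. -/
theorem result (A : Type u) [CommRing A] [IsLocalRing A] [IsNoetherianRing A]
    (B C : Type u) [CommRing B] [CommRing C] [Algebra A B] [Algebra A C] [Algebra B C] [IsScalarTower A B C]
    [Module.Finite A B] [Module.Finite A C] (hinj : Function.Injective (algebraMap B C))
    (hB : EGA4.IsNormalRing B)
    (hC : EGA4.IsNormalRing (AdicCompletion ((IsLocalRing.maximalIdeal A).map (algebraMap A C)) C)) :
    EGA4.IsNormalRing (AdicCompletion ((IsLocalRing.maximalIdeal A).map (algebraMap A B)) B) := by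
  haveI : IsNoetherianRing B := IsNoetherianRing.of_finite A B
  haveI : IsNoetherianRing C := IsNoetherianRing.of_finite A C
  haveI : Module.Finite B C := Module.Finite.of_restrictScalars_finite A B C
  let J := (IsLocalRing.maximalIdeal A).map (algebraMap A B)
  haveI := Groth.Agent.FormalFib6.isNoetherianRing_adicCompletion B J
  have hmap : J.map (algebraMap B C) = (IsLocalRing.maximalIdeal A).map (algebraMap A C) := by
    rw [Ideal.map_map, ← IsScalarTower.algebraMap_eq]
  let K := (IsLocalRing.maximalIdeal A).map (algebraMap A C)
  have hCnormal : EGA4.IsNormalRing C := by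
    haveI : Module.Flat C (AdicCompletion K C) := AdicCompletion.flat_of_isNoetherian K
    haveI : Module.FaithfullyFlat C (AdicCompletion K C) := by
      refine ⟨fun {m} hm htop => hm.ne_top ?_⟩
      have hK : K ≤ m := (Groth.Agent.Hensel.map_maximalIdeal_le_jacobson A C).trans (sInf_le ⟨bot_le, hm⟩)
      have hle : (m • ⊤ : Submodule C (AdicCompletion K C)) ≤
          ((m.map (Ideal.Quotient.mk K)).comap (AdicCompletion.evalOneₐ K).toRingHom).restrictScalars C :=
        Submodule.smul_le.2 fun r hr x _ => by
          rw [Submodule.restrictScalars_mem, Ideal.mem_comap, Algebra.smul_def, map_mul]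
          refine Ideal.mul_mem_right _ _ ?_
          have h1 : (AdicCompletion.evalOneₐ K).toRingHom (algebraMap C (AdicCompletion K C) r) = Ideal.Quotient.mk K r :=
            (AdicCompletion.evalOneₐ K).commutes r
          rw [h1]
          exact Ideal.mem_map_of_mem _ hr
      have h1 := hle (htop ▸ Submodule.mem_top (x := (1 : AdicCompletion K C)))
      rw [Submodule.restrictScalars_mem, Ideal.mem_comap, map_one, ← Ideal.eq_top_iff_one] at h1
      have h2 := congrArg (Ideal.comap (Ideal.Quotient.mk K)) h1
      rw [Ideal.comap_map_of_surjective _ Ideal.Quotient.mk_surjective, Ideal.comap_top,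
        ← RingHom.ker_eq_comap_bot, Ideal.mk_ker, sup_eq_left.2 hK] at h2
      exact h2
    exact Groth.Agent.GeomNormalInsep.isNormalRing_descend C (AdicCompletion K C) hC
  exact Groth.Agent.ResolveLib.SubNormal.isNormalRing_completion J hinj hB (by rw [hmap]; exact hC) hCnormal

end Groth.Agent.S1599
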