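import Groth.Statements.S15990
import Groth.Agent.SecDiv.Section

set_option autoImplicit false
set_option backward.isDefEq.respectTransparency false
set_option backward.isDefEq.respectTransparency.types false
universe u
open SDiv

namespace Groth.Agent.S15990

open AlgebraicGeometry CategoryTheory in
/-- Let f : X → Y be separated and smooth of relative dimension 1 and let σ : Y → X be a section of f.
Then σ(Y) is a relative effective Cartier divisor on X/Y: the kernel ideal sheaf of the closed
immersion σ is the ideal sheaf of an effective Cartier divisor (locally on affine opens generated by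
one nonzerodivisor) and the closed subscheme it defines is flat over Y. (The source adds the special
case of the diagonal of X ×_Y X, a section of the first projection.) -/
theorem result
    {X Y : Scheme.{u}} (f : X ⟶ Y) [IsSeparated f] [SmoothOfRelativeDimension 1 f]
    (σ : Y ⟶ X) (hσ : σ ≫ f = 𝟙 Y) :
    BlowUp.IsEffCartierIdeal σ.ker ∧ Flat (σ.ker.subschemeι ≫ f) := by
  refine ⟨Groth.Agent.SecDiv.isEffCartierIdeal_ker_section f σ hσ, ?_⟩
  haveI : IsClosedImmersion (σ ≫ f) := by rw [hσ]; infer_instance
  haveI : IsClosedImmersion σ := IsClosedImmersion.of_comp σ f
  have h : σ.ker.subschemeι ≫ f = inv σ.toImage := by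
    refine (IsIso.inv_eq_of_hom_inv_id ?_).symm
    rw [← Category.assoc, show σ.toImage ≫ σ.ker.subschemeι = σ from σ.toImage_imageι, hσ]
  rw [h]
  infer_instance

end Groth.Agent.S15990
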