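import Groth.Statements.S15993
import Groth.Agent.AlgSpDec.SchDenseFacts
import Mathlib.AlgebraicGeometry.Morphisms.FlatDescent

set_option autoImplicit false
open CategoryTheory AlgebraicGeometry
universe u
open EtHull

namespace Groth.Agent.S15993

open Groth.Agent.AlgSpDec

/-- Let f : X → S be a morphism of schemes which is faithfully flat (flat and surjective), quasi-compact
and separated, and schematically birational in the following sense: there are schematically dense
opens U of S and V of X, with the inclusion V → X quasi-compact, such that f maps V into U and the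
induced morphism V → U is an isomorphism. Then f is an isomorphism. (The source states this for
algebraic spaces and puts no quasi-compactness condition on the dense opens. Its proof base-changes
along f and uses that the inverse image of V in X ×_S X is again schematically dense, which holds
when V → X is quasi-compact, for instance when X is locally Noetherian, and fails in general: over
the Boolean ring of eventually constant sequences of elements of the field with two elements, the
spectrum of the ring of eventually two-periodic sequences is faithfully flat and affine, and it is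
an isomorphism above the open set of principal points, which is schematically dense on both sides,
yet it is not an isomorphism, the point at infinity being doubled. So V is taken retrocompact in X
here, and X, S are schemes.) -/
theorem result {X S : Scheme.{u}} (f : X ⟶ S)
    [Flat f] [Surjective f] [QuasiCompact f] [IsSeparated f]
    (U : S.Opens) (V : X.Opens) [QuasiCompact V.ι]
    (hU : CInt.IsSchematicallyDense U) (hV : CInt.IsSchematicallyDense V)
    (hle : V ≤ f ⁻¹ᵁ U) (hiso : IsIso (f.resLE U V hle)) : IsIso f := by
  let T := Limits.pullback f f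
  let p₁ : T ⟶ X := Limits.pullback.fst f f
  let p₂ : T ⟶ X := Limits.pullback.snd f f
  let δ : X ⟶ T := Limits.pullback.diagonal f
  let D : T.Opens := p₁ ⁻¹ᵁ V ⊓ p₂ ⁻¹ᵁ V
  have hc : ∀ W : X.Opens, IsAffineOpen W → IsCompact ((W ⊓ V : X.Opens) : Set X) := fun W hW =>
    SchDenseFacts.isCompact_inf_of_quasiCompact V W hW
  have hD : CInt.IsSchematicallyDense D :=
    SchDenseFacts.inf (SchDenseFacts.preimage_of_flat_qc p₁ V hV hc)
      (SchDenseFacts.preimage_of_flat_qc p₂ V hV hc)
  have hmono : ∀ {Z : Scheme.{u}} (a b : Z ⟶ V.toScheme), (a ≫ V.ι) ≫ f = (b ≫ V.ι) ≫ f → a = b := by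
    intro Z a b hab
    rw [Category.assoc, Category.assoc, ← Scheme.Hom.resLE_comp_ι f hle] at hab
    haveI := hiso
    rwa [← Category.assoc, ← Category.assoc, cancel_mono U.ι, cancel_mono] at hab
  have heq : D.ι ≫ p₁ = D.ι ≫ p₂ := by
    have h₁ : Set.range (D.ι ≫ p₁) ⊆ Set.range V.ι := by
      rintro _ ⟨z, rfl⟩
      rw [Scheme.Opens.range_ι]
      exact z.2.1
    have h₂ : Set.range (D.ι ≫ p₂) ⊆ Set.range V.ι := by
      rintro _ ⟨z, rfl⟩
      rw [Scheme.Opens.range_ι]
      exact z.2.2
    rw [← IsOpenImmersion.lift_fac V.ι _ h₁, ← IsOpenImmersion.lift_fac V.ι _ h₂]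
    refine congrArg (· ≫ V.ι) (hmono _ _ ?_)
    rw [IsOpenImmersion.lift_fac, IsOpenImmersion.lift_fac, Category.assoc, Category.assoc]
    exact congrArg (D.ι ≫ ·) Limits.pullback.condition
  have hfac : (D.ι ≫ p₁) ≫ δ = D.ι := by
    apply Limits.pullback.hom_ext <;> simp [δ, p₁]
    exact heq
  haveI : IsIso δ := by
    rw [IsClosedImmersion.isIso_iff_ker_eq_bot]
    refine Scheme.IdealSheafData.ext (funext fun W => ?_)
    rw [Scheme.IdealSheafData.ideal_bot, Pi.bot_apply, eq_bot_iff]
    intro b hb
    rw [Scheme.Hom.ker_apply, RingHom.mem_ker] at hb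
    refine (Submodule.mem_bot _).2 ((Groth.Agent.SchDenseLib.iff_eq_zero D).1 hD W.1 b ?_)
    have h0 : D.ι.app W.1 b = 0 := by
      rw [Scheme.Hom.congr_app hfac.symm W.1, Scheme.Hom.comp_app]
      exact (congrArg ((Scheme.Hom.app (D.ι ≫ p₁) (δ ⁻¹ᵁ W.1) ≫ (D : Scheme).presheaf.map _).hom) hb).trans (map_zero _)
    rw [Scheme.Opens.ι_app] at h0
    exact Groth.Agent.SchDenseLib.map_eq_zero_of_le b (Scheme.Hom.image_preimage_le _ _)
      (by rw [Scheme.Hom.image_preimage_eq_opensRange_inf, Scheme.Opens.opensRange_ι, inf_comm]) h0
  haveI : Mono f := (Limits.pullback.isIso_diagonal_iff f).1 ‹IsIso δ›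
  haveI : IsIso (Limits.pullback.fst f f) := inferInstance
  exact MorphismProperty.of_pullback_fst_of_descendsAlong
    (P := MorphismProperty.isomorphisms Scheme.{u}) (Q := @Surjective ⊓ @Flat ⊓ @QuasiCompact)
    ⟨⟨inferInstance, inferInstance⟩, inferInstance⟩ (show IsIso (Limits.pullback.fst f f) from inferInstance)

end Groth.Agent.S15993
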