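import Groth.Statements.S1600
import Groth.Agent.S0414
import Groth.Agent.S1297
import Groth.Agent.S2102
import Groth.Agent.RegLoc6.Normal
import Groth.Agent.RegLoc6.Descent
-- import your own Groth.Agent.* helpers here

set_option autoImplicit false
set_option backward.isDefEq.respectTransparency false
set_option backward.isDefEq.respectTransparency.types false
set_option linter.style.haveILetI false
set_option maxHeartbeats 1000000
universe u
open CategoryTheory CategoryTheory.Limits AlgebraicGeometry
open Resolve

namespace Groth.Agent.S1600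
open Groth.Agent

/-- Let A be a Noetherian domain such that Spec A admits an alteration f : X → Spec A with X regular.
Then the integral closure of A in its fraction field is a finite A-module (A is N-1), and some
nonempty open subset of Spec A consists of points whose local ring is regular. (The published
statement is for any Noetherian integral scheme; it is stated here for an affine one.) -/
theorem result (A : Type u) [CommRing A] [IsDomain A] [IsNoetherianRing A]
    (X : Scheme.{u}) (f : X ⟶ Spec (CommRingCat.of A)) (hf : Curv2.IsAlteration f)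
    (hreg : ∀ x : X, IsRegularLocalRing (X.presheaf.stalk x)) :
    CAlg.IsN1 A ∧ ∃ U : (Spec (CommRingCat.of A)).Opens, (U : Set (Spec (CommRingCat.of A))).Nonempty ∧
      ∀ y ∈ U, IsRegularLocalRing ((Spec (CommRingCat.of A)).presheaf.stalk y) := by
  obtain ⟨hp, hXi, -, hdom, -⟩ := hf
  haveI := hp
  haveI := hXi
  haveI := hdom
  haveI : IsLocallyNoetherian X := LocallyOfFiniteType.isLocallyNoetherian f
  refine ⟨?_, ?_⟩
  · have hnorm : Pi1.IsNormalScheme X := fun x => by
      haveI := hreg x
      exact ⟨inferInstance, RegLoc6.isIntegrallyClosed_of_isRegularLocalRing _⟩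
    let R := Γ(X, ⊤)
    let φ : CommRingCat.of A ⟶ R := (Scheme.ΓSpecIso (CommRingCat.of A)).inv ≫ f.appTop
    letI : Algebra A R := φ.hom.toAlgebra
    haveI : Module.Finite A R := by
      rw [← RingHom.finite_algebraMap, RingHom.algebraMap_toAlgebra]
      exact (S1297.finite_appTop f).comp
        (RingHom.Finite.of_surjective _ (Scheme.ΓSpecIso (CommRingCat.of A)).symm.commRingCatIsoToRingEquiv.surjective)
    have hinj : Function.Injective (algebraMap A R) := by
      haveI : IsSchemeTheoreticallyDominant f := IsSchemeTheoreticallyDominant.of_isDominant f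
      exact (f.app_injective ⊤).comp (Scheme.ΓSpecIso (CommRingCat.of A)).symm.commRingCatIsoToRingEquiv.injective
    haveI : IsIntegrallyClosed R := S2102.result X hnorm
    let L := FractionRing R
    let K := FractionRing A
    have hinjL : Function.Injective (algebraMap A L) := by
      rw [IsScalarTower.algebraMap_eq A R L]
      exact (IsFractionRing.injective R L).comp hinj
    let ι : K →ₐ[A] L := IsFractionRing.liftAlgHom (g := Algebra.ofId A L) hinjL
    haveI : IsNoetherian A R := isNoetherian_of_isNoetherianRing_of_finite A R
    have hmem : ∀ z : integralClosure A K, ∃ r : R, algebraMap R L r = ι z := fun z =>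
      IsIntegrallyClosed.isIntegral_iff.1 ((z.2 : IsIntegral A (z : K)).map ι |>.tower_top (A := R))
    choose r hr using hmem
    let ℓ : integralClosure A K →ₗ[A] R :=
      { toFun := r
        map_add' := fun z w => IsFractionRing.injective R L (by rw [map_add, hr, hr, hr]; exact map_add ι _ _)
        map_smul' := fun a z => IsFractionRing.injective R L (by
          rw [RingHom.id_apply, Algebra.smul_def a (r z), map_mul, hr, hr, ← IsScalarTower.algebraMap_apply,
            ← Algebra.smul_def]
          exact map_smul ι a (z : K)) }
    refine Module.Finite.of_injective ℓ fun z w h => Subtype.ext (ι.toRingHom.injective ?_)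
    have := congrArg (algebraMap R L) h
    simpa [ℓ, hr] using this
  · obtain ⟨U, hU, hflat, -⟩ := S0414.result f
    refine ⟨U, hU.nonempty, fun y hy => ?_⟩
    haveI : Surjective f := ⟨fun z => (f.isClosedMap.isClosed_range.closure_eq ▸ hdom.denseRange z : z ∈ Set.range f)⟩
    obtain ⟨x, rfl⟩ := f.surjective y
    haveI := hflat
    let x' : (f ⁻¹ᵁ U : X.Opens) := ⟨x, hy⟩
    haveI : IsRegularLocalRing ((f ⁻¹ᵁ U : X.Opens).toScheme.presheaf.stalk x') :=
      haveI := hreg x'.1
      IsRegularLocalRing.of_ringEquiv ((f ⁻¹ᵁ U).stalkIso x').symm.commRingCatIsoToRingEquiv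
    let y' := (f ∣_ U) x'
    letI : Algebra (U.toScheme.presheaf.stalk y') ((f ⁻¹ᵁ U : X.Opens).toScheme.presheaf.stalk x') :=
      ((f ∣_ U).stalkMap x').hom.toAlgebra
    haveI : Module.Flat (U.toScheme.presheaf.stalk y') ((f ⁻¹ᵁ U : X.Opens).toScheme.presheaf.stalk x') :=
      Flat.stalkMap (f ∣_ U) x'
    haveI : IsLocalHom (algebraMap (U.toScheme.presheaf.stalk y') ((f ⁻¹ᵁ U : X.Opens).toScheme.presheaf.stalk x')) :=
      inferInstanceAs (IsLocalHom ((f ∣_ U).stalkMap x').hom)
    haveI : IsRegularLocalRing (U.toScheme.presheaf.stalk y') := RegLoc6.isRegularLocalRing_of_flat (B := (f ⁻¹ᵁ U : X.Opens).toScheme.presheaf.stalk x')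
    have hy' : y'.1 = f x := morphismRestrict_base_coe f U x'
    exact hy' ▸ IsRegularLocalRing.of_ringEquiv (U.stalkIso y').commRingCatIsoToRingEquiv

end Groth.Agent.S1600
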