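import Groth.Statements.S16000
import Groth.Agent.H1Perf.Basic
import Groth.Agent.H1Perf.Flat
import Groth.Agent.S13045

set_option autoImplicit false
universe u
open FrobAlg

namespace Groth.Agent.S16000

open TensorProduct in
/-- Let p be a prime, R a commutative ring of characteristic p such that R is a projective R-module
through its absolute Frobenius, and A a commutative R-algebra of characteristic p, with Frobenius
twists A^{p^i/R} = R ⊗_{F^i,R} A, relative Frobenius maps A^{p^{i+1}/R} → A^{p^i/R} and
preperfection A^{p^∞/R} = lim_i A^{p^i/R} ⊆ Π_i A^{p^i/R}. Let R' be the direct-limit perfection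
colim(R → R → ⋯) of R along Frobenius, an R-module through the canonical map R → R'. Then the
natural map R' ⊗_R A^{p^∞/R} → Π_i (R' ⊗_R A^{p^i/R}), r ⊗ x ↦ (r ⊗ x_i)_i, is injective; in
particular the base-change map R' ⊗_R lim_i A^{p^i/R} → lim_i (R' ⊗_R A^{p^i/R}) is injective. (The
published statement identifies the target limit with the preperfection of A ⊗_R R' over R'; that
identification is not part of this row.) -/
theorem result
    (p : ℕ) [Fact p.Prime] (R : Type u) [CommRing R] [CharP R p]
    (A : Type u) [CommRing A] [Algebra R A] [CharP A p]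
    [Module.Projective R (FrobAlg.Twist p R)] :
    letI : Algebra R (PerfectClosure R p) := (PerfectClosure.of R p).toAlgebra
    Function.Injective
      (LinearMap.pi fun i : ℕ =>
        LinearMap.lTensor (PerfectClosure R p)
          (((Pi.evalAlgHom R (fun k => W4c1imperftorsors.Twist p R A k) i).comp
            (W4c1imperftorsors.prePerf p R A).val).toLinearMap) :
        PerfectClosure R p ⊗[R] ↥(W4c1imperftorsors.prePerf p R A) →ₗ[R]
          (Π i : ℕ, PerfectClosure R p ⊗[R] W4c1imperftorsors.Twist p R A i)) := by
  letI : Algebra R (PerfectClosure R p) := (PerfectClosure.of R p).toAlgebra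
  haveI := Groth.Agent.H1Perf.isReduced_of_projective p R
  have halg : ∀ r : R, algebraMap R (PerfectClosure R p) r = PerfectClosure.of R p r := fun _ => rfl
  have hff : Module.FaithfullyFlat R (PerfectClosure R p) := Groth.Agent.H1Perf.faithfullyFlat_of p R
  refine (injective_iff_map_eq_zero _).2 fun z hz => ?_
  obtain ⟨n, i, z', hi, rfl⟩ := Groth.Agent.H1Perf.exists_stage p R halg z
  haveI := Groth.Agent.H1Perf.projective_st p R n
  suffices z' = 0 by rw [this, map_zero]
  refine Groth.Agent.S13045.result p R A (Groth.Agent.H1Perf.St p R n) (((funext fun j => ?_) : _ = (0 : Π j : ℕ, _)).trans (map_zero _).symm)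
  refine Groth.Agent.H1Perf.rTensor_injective p R halg hff n i hi _ (Eq.trans ?_ (map_zero _).symm)
  have h := congrFun hz j
  simp only [LinearMap.pi_apply, Pi.zero_apply] at h ⊢
  rw [← h, ← LinearMap.comp_apply, ← LinearMap.comp_apply, LinearMap.rTensor_comp_lTensor, LinearMap.lTensor_comp_rTensor]

end Groth.Agent.S16000
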