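import Groth.Statements.S16004
import Groth.Agent.CurvePairs.Basic

set_option autoImplicit false
open CategoryTheory AlgebraicGeometry CategoryTheory.Limits
open VBCurve

namespace Groth.Agent.S16004

open Groth.Agent Groth.Agent.CurveBundle Groth.Agent.CurveSlope Groth.Agent.CurveStable


/-- Let X be a smooth proper integral curve over the complex numbers and L an invertible O_X-module of
degree 0; an L-valued pair is a finite locally free O_X-module E of rank r ≥ 1 with a map φ : E → E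
⊗ L; a submodule j : G → E (a monomorphism) is φ-invariant when some χ : G → G ⊗ L followed by j ⊗ L
equals j followed by φ; the pair is semistable when deg G · r ≤ deg E · n for every φ-invariant
finite locally free submodule G of rank n ≥ 1, degrees being χ − rank · χ(O_X). If (E, φ) is a
semistable pair then E is slope-semistable as a module of rank r: deg G · r ≤ deg E · n for every
finite locally free submodule G of rank n ≥ 1, invariant or not. (The published statement deletes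
one degree-zero twisting map from a tuple of finitely many commuting ones; this is the case of a
single map.) -/
theorem result
    (X : Scheme.{0}) [X.Over (Spec (CommRingCat.of ℂ))] [IsIntegral X]
    [IsProper (X ↘ Spec (CommRingCat.of ℂ))] [Smooth (X ↘ Spec (CommRingCat.of ℂ))]
    (hdim : topologicalKrullDim X = 1)
    (L : X.Modules) (hL : PicF.IsInvertible L) (hL0 : Curv2.deg ℂ X L 1 = 0)
    (r : ℕ) (hr : 0 < r) (E : X.Modules) (hE : FlatMod.IsFinLocFreeOfRank r E)
    (φ : E ⟶ CohB1.tensorMod E L)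
    (hss : (∀ (G : X.Modules) (n : ℕ) (j : G ⟶ E) (χ : G ⟶ CohB1.tensorMod G L), Mono j → 0 < n →
      FlatMod.IsFinLocFreeOfRank n G →
      χ ≫ (CohB1.sheafifyMod X).map (MonoidalCategoryStruct.whiskerRight (C := CohB1.PMod X) j.val (CohB1.toPMod L)) = j ≫ φ →
      Curv2.deg ℂ X G n * (r : ℤ) ≤ Curv2.deg ℂ X E r * (n : ℤ))) :
    ∀ (G : X.Modules) (n : ℕ) (j : G ⟶ E), Mono j → 0 < n → FlatMod.IsFinLocFreeOfRank n G →
      Curv2.deg ℂ X G n * (r : ℤ) ≤ Curv2.deg ℂ X E r * (n : ℤ) := by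
  haveI := Groth.Agent.CurveSlope.isLocallyNoetherian' ℂ (X := X)
  have hEf := isFinLocFree_of_rank hE
  have hEc := coh_of_free ℂ hEf
  have hLf := isFinLocFree_of_rank (Groth.Agent.InvEnd.isFinLocFreeOfRank_one hL)
  obtain ⟨E₁, i₁, hi₁, h1pos, hE₁, hmax⟩ := exists_max_slope ℂ hdim.le hr hE
  haveI := hi₁
  have hE₁c := coh_of_free ℂ hE₁
  let Q := cokernel i₁
  let p : E ⟶ Q := cokernel.π i₁
  have hQc : Coh.IsCoh Q := QCoh.isCoh_cokernel hE₁c.1 hEc i₁
  have hse := shortExact_cokernel_of_mono i₁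
  let φ' : E ⟶ (DCoh.tensorBi.obj E).obj L := φ
  let ψ : E₁ ⟶ (DCoh.tensorBi.obj Q).obj L := (i₁ ≫ φ') ≫ CurveHiggs.twist L p
  have hψ : ψ = 0 := by
    obtain ⟨I, π, j, hj, hfac, hKc, hIc, hπ, w, hS⟩ :=
      exists_factor hE₁c (CurveHiggs.isCoh_twist hLf hQc) ψ
    haveI := hj
    suffices hI : IsZero I by rw [← hfac, hI.eq_of_tgt π 0, zero_comp]
    obtain ⟨I', j', hj', hI'c, hI'r, hI'd⟩ := CurvePairs.exists_untwist ℂ hdim hL hL0 j hIc
    haveI := hj'
    obtain ⟨P, g, hg, hP, hPr, hPd⟩ :=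
      exists_preimage ℂ hdim.le i₁ p _ hse hE₁c hEf hQc j' hI'c
    haveI := hg
    have hrk := rk_add_coh ℂ _ _ w hS hE₁c
    have hdg := dg_add ℂ _ _ w hS hKc hE₁c hIc
    have hK : dg ℂ (kernel ψ) * (rk E₁ : ℤ) ≤ dg ℂ E₁ * (rk (kernel ψ) : ℤ) := by
      have hKf := isFinLocFree_of_mono ℂ hdim.le hKc (kernel.ι ψ) hE₁
      rcases Nat.eq_zero_or_pos (rk (kernel ψ)) with h0 | h0
      · rw [h0, dg_eq_zero_of_isZero ℂ (isZero_of_rk_zero hKf h0)]
        simp
      · exact (hmax _ (kernel.ι ψ ≫ i₁) inferInstance hKf h0).1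
    have hrk' : (rk E₁ : ℤ) = (rk (kernel ψ) : ℤ) + (rk I : ℤ) := by exact_mod_cast hrk
    have hge : dg ℂ E₁ * (rk I : ℤ) ≤ dg ℂ I * (rk E₁ : ℤ) := by
      linear_combination hK + (rk E₁ : ℤ) * hdg - (dg ℂ E₁) * hrk'
    obtain ⟨hle, heq⟩ := hmax P g inferInstance hP (by omega)
    rw [hPr, hPd, hI'r, hI'd] at hle heq
    push_cast at hle heq
    have hkey : dg ℂ I * (rk E₁ : ℤ) = dg ℂ E₁ * (rk I : ℤ) := by linarith
    have hI0 : rk I = 0 := by
      have := heq (by linarith)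
      omega
    refine (CurvePairs.dg_nonneg_of_rk_zero ℂ hdim.le hIc hI0).2 ?_
    rw [hI0] at hkey
    simp only [Nat.cast_zero, mul_zero, mul_eq_zero] at hkey
    rcases hkey with h | h <;> omega
  obtain ⟨χ, hχ⟩ := CurveHiggs.exists_lift hLf i₁ p _ hse (i₁ ≫ φ') hψ
  have h1 := hss E₁ (rk E₁) i₁ χ hi₁ h1pos (isFinLocFreeOfRank_rk hE₁) hχ
  rw [deg_eq_dg ℂ (isFinLocFreeOfRank_rk hE₁), deg_eq_dg ℂ hE] at h1
  intro G n j hj hn hG
  have hGf := isFinLocFree_of_rank hG
  have hnG : rk G = n := rk_eq hG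
  have h2 := (hmax G j hj hGf (by omega)).1
  rw [deg_eq_dg ℂ hG, deg_eq_dg ℂ hE]
  rw [hnG] at h2
  have hp : (0 : ℤ) < rk E₁ := by exact_mod_cast h1pos
  nlinarith [mul_le_mul_of_nonneg_right h1 (Int.natCast_nonneg n),
    mul_le_mul_of_nonneg_right h2 (Int.natCast_nonneg r)]

end Groth.Agent.S16004
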