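import Groth.Statements.S16005
import Groth.Agent.CurvePairs.Basic

set_option autoImplicit false
open CategoryTheory AlgebraicGeometry CategoryTheory.Limits
open VBCurve

namespace Groth.Agent.S16005

open Groth.Agent Groth.Agent.CurveBundle Groth.Agent.CurveSlope Groth.Agent.CurveStable


/-- Let X be a smooth proper integral curve over the complex numbers and L an invertible O_X-module; an
L-valued pair is a finite locally free O_X-module E of rank r ≥ 1 with a map φ : E → E ⊗ L; a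
submodule j : G → E (a monomorphism) is φ-invariant when some χ : G → G ⊗ L followed by j ⊗ L equals
j followed by φ; the pair is semistable when deg G · r ≤ deg E · n for every φ-invariant finite
locally free submodule G of rank n ≥ 1, degrees being χ − rank · χ(O_X). Let (E, φ) be a pair and ψ
: E → E an endomorphism commuting with φ (ψ followed by φ equals φ followed by ψ ⊗ L); a submodule
is ψ-invariant when ψ restricts to an endomorphism of it. Then (E, φ, ψ) is semistable, meaning deg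
G · r ≤ deg E · n for every finite locally free submodule G of rank n ≥ 1 that is both φ-invariant
and ψ-invariant, if and only if the pair (E, φ) is semistable. (The published statement takes L to
be the canonical sheaf; the row allows any invertible L.) -/
theorem result
    (X : Scheme.{0}) [X.Over (Spec (CommRingCat.of ℂ))] [IsIntegral X]
    [IsProper (X ↘ Spec (CommRingCat.of ℂ))] [Smooth (X ↘ Spec (CommRingCat.of ℂ))]
    (hdim : topologicalKrullDim X = 1)
    (L : X.Modules) (hL : PicF.IsInvertible L)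
    (r : ℕ) (hr : 0 < r) (E : X.Modules) (hE : FlatMod.IsFinLocFreeOfRank r E)
    (φ : E ⟶ CohB1.tensorMod E L) (ψ : E ⟶ E)
    (hcomm : ψ ≫ φ = φ ≫ (CohB1.sheafifyMod X).map (MonoidalCategoryStruct.whiskerRight (C := CohB1.PMod X) ψ.val (CohB1.toPMod L))) :
    (∀ (G : X.Modules) (n : ℕ) (j : G ⟶ E) (χ : G ⟶ CohB1.tensorMod G L) (ψ' : G ⟶ G), Mono j → 0 < n →
      FlatMod.IsFinLocFreeOfRank n G →
      χ ≫ (CohB1.sheafifyMod X).map (MonoidalCategoryStruct.whiskerRight (C := CohB1.PMod X) j.val (CohB1.toPMod L)) = j ≫ φ → ψ' ≫ j = j ≫ ψ →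
      Curv2.deg ℂ X G n * (r : ℤ) ≤ Curv2.deg ℂ X E r * (n : ℤ)) ↔
    (∀ (G : X.Modules) (n : ℕ) (j : G ⟶ E) (χ : G ⟶ CohB1.tensorMod G L), Mono j → 0 < n →
      FlatMod.IsFinLocFreeOfRank n G →
      χ ≫ (CohB1.sheafifyMod X).map (MonoidalCategoryStruct.whiskerRight (C := CohB1.PMod X) j.val (CohB1.toPMod L)) = j ≫ φ →
      Curv2.deg ℂ X G n * (r : ℤ) ≤ Curv2.deg ℂ X E r * (n : ℤ)) := by
  haveI := Groth.Agent.CurveSlope.isLocallyNoetherian' ℂ (X := X)
  constructor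
  swap
  · intro h G n j χ ψ' hj hn hG h1 _
    exact h G n j χ hj hn hG h1
  intro hss
  have hEf := isFinLocFree_of_rank hE
  have hEc := coh_of_free ℂ hEf
  have hLf := isFinLocFree_of_rank (Groth.Agent.InvEnd.isFinLocFreeOfRank_one hL)
  let φ₀ : E ⟶ (DCoh.tensorBi.obj E).obj L := φ
  have hcomm' : ψ ≫ φ₀ = φ₀ ≫ CurveHiggs.twist L ψ := hcomm
  obtain ⟨E₁, i₁, hi₁, ⟨χ₁, hχ₁⟩, h1pos, hE₁, hmax⟩ := CurvePairs.exists_max_slope_of ℂ hdim.le hr hE
    (fun F i => ∃ χ : F ⟶ (DCoh.tensorBi.obj F).obj L, χ ≫ CurveHiggs.twist L i = i ≫ φ₀)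
    ⟨φ₀, by simp [CurveHiggs.twist]⟩
  haveI := hi₁
  have hE₁c := coh_of_free ℂ hE₁
  let p : E ⟶ cokernel i₁ := cokernel.π i₁
  have hQc : Coh.IsCoh (cokernel i₁) := QCoh.isCoh_cokernel hE₁c.1 hEc i₁
  have hse := shortExact_cokernel_of_mono i₁
  have hip : CurveHiggs.twist L i₁ ≫ CurveHiggs.twist L p = 0 := by
    rw [← CurveHiggs.twist_comp, cokernel.condition, CurveHiggs.twist_zero]
  let φQ := cokernel.desc i₁ (φ₀ ≫ CurveHiggs.twist L p)
    (by rw [← Category.assoc, ← hχ₁, Category.assoc, hip, comp_zero])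
  have hφQ : p ≫ φQ = φ₀ ≫ CurveHiggs.twist L p := cokernel.π_desc _ _ _
  let f : E₁ ⟶ cokernel i₁ := (i₁ ≫ ψ) ≫ p
  have hfeq : f ≫ φQ = χ₁ ≫ CurveHiggs.twist L f := by
    simp only [f, CurveHiggs.twist_comp, Category.assoc, hφQ]
    rw [reassoc_of% hcomm', reassoc_of% hχ₁]
  have hf : f = 0 := by
    obtain ⟨I, π, j, hj, hfac, hKc, hIc, hπ, w, hS⟩ := exists_factor hE₁c hQc f
    haveI := hj
    haveI := hπ
    suffices hI : IsZero I by rw [← hfac, hI.eq_of_tgt π 0, zero_comp]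
    obtain ⟨⟨χK, hχK⟩, χI, hχI⟩ := CurveHiggs.exists_invariant hLf χ₁ φQ f hfeq π j hfac
    have hjq : CurveHiggs.twist L j ≫ CurveHiggs.twist L (cokernel.π j) = 0 := by
      rw [← CurveHiggs.twist_comp, cokernel.condition, CurveHiggs.twist_zero]
    let φC := cokernel.desc j (φQ ≫ CurveHiggs.twist L (cokernel.π j))
      (by rw [← Category.assoc, ← hχI, Category.assoc, hjq, comp_zero])
    let q : E ⟶ cokernel j := p ≫ cokernel.π j
    have hq : q ≫ φC = φ₀ ≫ CurveHiggs.twist L q := by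
      simp only [q, φC, CurveHiggs.twist_comp, Category.assoc, cokernel.π_desc, reassoc_of% hφQ]
    haveI : Epi q := epi_comp _ _
    obtain ⟨⟨χP, hχP⟩, -⟩ := CurveHiggs.exists_invariant hLf φ₀ φC q hq q (𝟙 _) (Category.comp_id q)
    have hC : Coh.IsCoh (cokernel j) := QCoh.isCoh_cokernel hIc.1 hQc j
    have hP := QCoh.isCoh_kernel hEc hC q
    have a1 := rk_add_coh ℂ _ _ _ (shortExact_kernel_of_epi q) hEc
    have a2 := rk_add_coh ℂ _ _ _ hse hEc
    have a3 := dg_add ℂ _ _ _ (shortExact_kernel_of_epi q) hP hEc hC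
    have a4 := dg_add ℂ _ _ _ hse hE₁c hEc hQc
    have a5 := rk_add_coh ℂ _ _ _ (shortExact_cokernel_of_mono j) hQc
    have a6 := dg_add ℂ _ _ _ (shortExact_cokernel_of_mono j) hIc hQc hC
    have hrk := rk_add_coh ℂ _ _ w hS hE₁c
    have hdg := dg_add ℂ _ _ w hS hKc hE₁c hIc
    have hPr : rk (kernel q) = rk E₁ + rk I := by omega
    have hPd : dg ℂ (kernel q) = dg ℂ E₁ + dg ℂ I := by omega
    have hK : dg ℂ (kernel f) * (rk E₁ : ℤ) ≤ dg ℂ E₁ * (rk (kernel f) : ℤ) := by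
      have hKf := isFinLocFree_of_mono ℂ hdim.le hKc (kernel.ι f) hE₁
      rcases Nat.eq_zero_or_pos (rk (kernel f)) with h0 | h0
      · rw [h0, dg_eq_zero_of_isZero ℂ (isZero_of_rk_zero hKf h0)]
        simp
      · refine (hmax _ (kernel.ι f ≫ i₁) inferInstance ⟨χK, ?_⟩ hKf h0).1
        rw [CurveHiggs.twist_comp, reassoc_of% hχK, hχ₁, Category.assoc]
    have hrk' : (rk E₁ : ℤ) = (rk (kernel f) : ℤ) + (rk I : ℤ) := by exact_mod_cast hrk
    obtain ⟨hle, heq⟩ := hmax (kernel q) (kernel.ι q) inferInstance ⟨χP, hχP⟩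
      (isFinLocFree_of_mono ℂ hdim.le hP (kernel.ι q) hEf) (by omega)
    rw [hPr, hPd] at hle heq
    push_cast at hle heq
    exact CurvePairs.isZero_of_extremal ℂ hdim.le hIc h1pos
      (by linear_combination hK + (rk E₁ : ℤ) * hdg - (dg ℂ E₁) * hrk') hle rfl heq
  have h1 := hss E₁ (rk E₁) i₁ χ₁ (hse.exact.lift (i₁ ≫ ψ) hf) hi₁ h1pos (isFinLocFreeOfRank_rk hE₁) hχ₁
    (hse.exact.lift_f _ _)
  rw [deg_eq_dg ℂ (isFinLocFreeOfRank_rk hE₁), deg_eq_dg ℂ hE] at h1
  intro G n j χ hj hn hG hχ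
  have hGf := isFinLocFree_of_rank hG
  have hnG : rk G = n := rk_eq hG
  have h2 := (hmax G j hj ⟨χ, hχ⟩ hGf (by omega)).1
  rw [deg_eq_dg ℂ hG, deg_eq_dg ℂ hE]
  rw [hnG] at h2
  have hp : (0 : ℤ) < rk E₁ := by exact_mod_cast h1pos
  nlinarith [mul_le_mul_of_nonneg_right h1 (Int.natCast_nonneg n),
    mul_le_mul_of_nonneg_right h2 (Int.natCast_nonneg r)]

end Groth.Agent.S16005
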