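import Groth.Statements.S16006
import Groth.Agent.CurveExt.GenusOne
import Groth.Agent.Lib.CurveHiggs
import Groth.Agent.CurveCohLib.SmoothCurve
import Groth.Agent.H23.PicMul
import Groth.Agent.InvX.Tensor

set_option autoImplicit false
open CategoryTheory AlgebraicGeometry CategoryTheory.Limits
open VBCurve

namespace Groth.Agent.S16006

/-- Let X be a smooth proper integral curve of genus 1 over the complex numbers (genus = dim H¹(O_X))
and L an invertible O_X-module of degree 0 such that L ⊗ L is not isomorphic to O_X; an L-valued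
pair is a finite locally free O_X-module E of rank r ≥ 1 with a map φ : E → E ⊗ L; a submodule j : G
→ E (a monomorphism) is φ-invariant when some χ : G → G ⊗ L followed by j ⊗ L equals j followed by
φ; the pair is semistable when deg G · r ≤ deg E · n for every φ-invariant finite locally free
submodule G of rank n ≥ 1, degrees being χ − rank · χ(O_X), and it is stable when deg G · r < deg E
· n for every φ-invariant finite locally free submodule G of rank n with 1 ≤ n < r. If (E, φ) is a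
stable pair of rank 2, then E is slope-stable as a module of rank 2: deg G · 2 < deg E · n for every
finite locally free submodule G of rank n with 1 ≤ n < 2, φ-invariant or not. (The published
statement assumes only that L is not isomorphic to O_X. For L of order two and E = O_X ⊕ L, the
isomorphism φ : E → E ⊗ L = (O_X ⊗ L) ⊕ (L ⊗ L) that maps the summand O_X of E onto the summand L ⊗
L ≅ O_X and the summand L onto O_X ⊗ L ≅ L leaves no rank-one submodule of degree 0 invariant, so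
(E, φ) is a stable pair while E is not stable; the published argument derives L ⊗ L ≅ O_X in the
split case, so the row assumes L ⊗ L ≄ O_X.) -/
theorem result
    (X : Scheme.{0}) [X.Over (Spec (CommRingCat.of ℂ))] [IsIntegral X]
    [IsProper (X ↘ Spec (CommRingCat.of ℂ))] [Smooth (X ↘ Spec (CommRingCat.of ℂ))]
    (hdim : topologicalKrullDim X = 1)
    (hg : Curv2.genus ℂ X = 1)
    (L : X.Modules) (hL : PicF.IsInvertible L) (hL0 : Curv2.deg ℂ X L 1 = 0)
    (hL2 : ¬ Nonempty (CohB1.tensorMod L L ≅ Coh.structureModule X))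
    (E : X.Modules) (hE : FlatMod.IsFinLocFreeOfRank 2 E)
    (φ : E ⟶ CohB1.tensorMod E L)
    (hst : (∀ (G : X.Modules) (n : ℕ) (j : G ⟶ E) (χ : G ⟶ CohB1.tensorMod G L), Mono j → 0 < n → n < 2 →
      FlatMod.IsFinLocFreeOfRank n G →
      χ ≫ (CohB1.sheafifyMod X).map (MonoidalCategoryStruct.whiskerRight (C := CohB1.PMod X) j.val (CohB1.toPMod L)) = j ≫ φ →
      Curv2.deg ℂ X G n * (2 : ℤ) < Curv2.deg ℂ X E 2 * (n : ℤ))) :
    ∀ (G : X.Modules) (n : ℕ) (j : G ⟶ E), Mono j → 0 < n → n < 2 → FlatMod.IsFinLocFreeOfRank n G →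
      Curv2.deg ℂ X G n * (2 : ℤ) < Curv2.deg ℂ X E 2 * (n : ℤ) := by
  haveI := Groth.Agent.CurveCohLib.isNoetherian_of_proper (k := ℂ) (X := X)
  haveI : ConnectedSpace X := inferInstance
  have hO := Groth.Agent.CurveCohLib.finrank_h0_eq_one ℂ X
  have hEf := Groth.Agent.CurveStable.isFinLocFree_of_rank hE
  have hEc := Groth.Agent.CurveStable.coh_of_free ℂ hEf
  have hLf := Groth.Agent.CurveStable.isFinLocFree_of_rank (Groth.Agent.InvEnd.isFinLocFreeOfRank_one hL)
  intro G n j hj hn hn2 hG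
  obtain rfl : n = 1 := by omega
  haveI := hj
  by_contra hcon
  push Not at hcon
  -- saturate
  obtain ⟨d, ⟨A, i, hi, hA, hrA, rfl⟩, hmax⟩ := Int.exists_greatest_of_bdd
    (P := fun d => ∃ (A : X.Modules) (i : A ⟶ E), Mono i ∧ FlatMod.IsFinLocFree A ∧
      Groth.Agent.CurveBundle.rk A = 1 ∧ Groth.Agent.CurveSlope.dg ℂ A = d)
    ⟨(Module.finrank ℂ (Coh.HH X E 0) : ℤ) - ((1 : ℕ) : ℤ) * Curv2.euler ℂ X (Coh.structureModule X),
      fun d ⟨A, i, hi, hA, hr, hd⟩ => by
        haveI := hi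
        rw [← hd, ← hr]
        exact Groth.Agent.CurveStable.dg_le_h0 ℂ hdim.le i (Groth.Agent.CurveStable.coh_of_free ℂ hA) hEc⟩
    ⟨_, G, j, hj, Groth.Agent.CurveStable.isFinLocFree_of_rank hG, Groth.Agent.CurveBundle.rk_eq hG, rfl⟩
  haveI := hi
  have hGA := hmax _ ⟨G, j, hj, Groth.Agent.CurveStable.isFinLocFree_of_rank hG, Groth.Agent.CurveBundle.rk_eq hG, rfl⟩
  rw [← Groth.Agent.CurveSlope.deg_eq_dg ℂ hG] at hGA
  have hAc := Groth.Agent.CurveStable.coh_of_free ℂ hA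
  have hA1 : FlatMod.IsFinLocFreeOfRank 1 A := hrA ▸ Groth.Agent.CurveBundle.isFinLocFreeOfRank_rk hA
  have hAI := Groth.Agent.CurveDuality.isInvertible_of_rank_one hA1
  have hS := Groth.Agent.CurveSlope.shortExact_cokernel_of_mono i
  have hQc : Coh.IsCoh (cokernel i) := Groth.Agent.QCoh.isCoh_cokernel hAc.1 hEc i
  have hQ := Groth.Agent.CurveSlope.isFinLocFree_of_max ℂ hdim.le i (cokernel.π i) _ hS hAc hEf hQc
    fun P g hg hP hrP => hmax _ ⟨P, g, hg, hP, hrP.trans hrA, rfl⟩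
  have e1 := Groth.Agent.CurveSlope.rk_add_coh ℂ _ _ _ hS hEc
  have e2 := Groth.Agent.CurveSlope.dg_add ℂ _ _ _ hS hAc hEc hQc
  rw [Groth.Agent.CurveBundle.rk_eq hE, hrA] at e1
  have hQ1 : FlatMod.IsFinLocFreeOfRank 1 (cokernel i) :=
    (show Groth.Agent.CurveBundle.rk (cokernel i) = 1 by omega) ▸ Groth.Agent.CurveBundle.isFinLocFreeOfRank_rk hQ
  have hQI := Groth.Agent.CurveDuality.isInvertible_of_rank_one hQ1
  rw [← Groth.Agent.CurveSlope.deg_eq_dg ℂ hE, ← Groth.Agent.CurveSlope.deg_eq_dg ℂ hA1,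
    ← Groth.Agent.CurveSlope.deg_eq_dg ℂ hQ1] at e2
  rw [← Groth.Agent.CurveSlope.deg_eq_dg ℂ hA1] at hGA
  push_cast at hcon
  have hge : Curv2.deg ℂ X E 2 ≤ 2 * Curv2.deg ℂ X A 1 := by linarith
  -- destabilising lines are not invariant
  let φ' : E ⟶ (DCoh.tensorBi.obj E).obj L := φ
  have hni : ∀ (B : X.Modules) (b : B ⟶ E) (C : X.Modules) (p : E ⟶ C) (w : b ≫ p = 0),
      (ShortComplex.mk b p w).ShortExact → FlatMod.IsFinLocFreeOfRank 1 B → Mono b →
      Curv2.deg ℂ X E 2 ≤ 2 * Curv2.deg ℂ X B 1 → (b ≫ φ') ≫ Groth.Agent.CurveHiggs.twist L p ≠ 0 := by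
    intro B b C p w hBS hB hb hBd h0
    obtain ⟨χ, hχ⟩ := Groth.Agent.CurveHiggs.exists_lift hLf b p w hBS (b ≫ φ') h0
    have h := hst B 1 b χ hb one_pos one_lt_two hB hχ
    push_cast at h
    linarith
  have hQL : PicF.IsInvertible ((DCoh.tensorBi.obj (cokernel i)).obj L) := Groth.Agent.InvX.isInvertible_tensorMod hQI hL
  have hdQL : Curv2.deg ℂ X ((DCoh.tensorBi.obj (cokernel i)).obj L) 1 = Curv2.deg ℂ X (cokernel i) 1 :=
    (Groth.Agent.CurveRR.deg_tensor ℂ hdim hQI hL).trans (by rw [hL0, add_zero])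
  obtain ⟨h1, h1'⟩ := Groth.Agent.CurveDeg.deg_le_and_isIso ℂ hdim.le hAI hQL _
    (hni A i _ (cokernel.π i) _ hS hA1 hi hge)
  rw [hdQL] at h1 h1'
  have hdeq : Curv2.deg ℂ X A 1 = Curv2.deg ℂ X (cokernel i) 1 := by omega
  haveI := h1' hdeq
  let eA : A ≅ (DCoh.tensorBi.obj (cokernel i)).obj L := asIso ((i ≫ φ') ≫ Groth.Agent.CurveHiggs.twist L (cokernel.π i))
  obtain ⟨D, -, -, ⟨eD⟩⟩ := Groth.Agent.CurveDuality.exists_inverse_deg ℂ hdim hQI
  have cancel : ∀ M : X.Modules, (cokernel i ≅ CohB1.tensorMod (cokernel i) M) →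
      Nonempty (M ≅ Coh.structureModule X) := by
    intro M e
    obtain ⟨a⟩ := Groth.Agent.H23.PicMul.assoc D (cokernel i) M
    obtain ⟨c⟩ := Groth.Agent.H23.PicMul.comm D (cokernel i)
    let eD' : CohB1.tensorMod D (cokernel i) ≅ Coh.structureModule X := c ≪≫ eD
    obtain ⟨u⟩ := Groth.Agent.H23.PicMul.unit M
    obtain ⟨c'⟩ := Groth.Agent.H23.PicMul.comm (Coh.structureModule X) M
    exact ⟨(u.symm ≪≫ c'.symm ≪≫ PicGrp.tensorModIso eD'.symm (Iso.refl M) ≪≫ a ≪≫
      PicGrp.tensorModIso (Iso.refl D) e.symm ≪≫ eD')⟩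
  obtain ⟨uQ⟩ := Groth.Agent.H23.PicMul.unit (cokernel i)
  -- the extension splits
  haveI : IsSplitEpi (cokernel.π i) := Groth.Agent.CurveExt.isSplitEpi_of_hom_eq_zero ℂ hO hdim hg hS hA hQ
    fun ψ => by
      by_contra hψ
      haveI := (Groth.Agent.CurveDeg.deg_le_and_isIso ℂ hdim.le hAI hQI ψ hψ).2 hdeq
      obtain ⟨eL⟩ := cancel L ((asIso ψ).symm ≪≫ eA)
      exact hL2 ⟨PicGrp.tensorModIso eL eL ≪≫ (Groth.Agent.H23.PicMul.unit (Coh.structureModule X)).some⟩
  let hsp := ShortComplex.Splitting.ofExactOfSection _ hS.exact (section_ (cokernel.π i))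
    (IsSplitEpi.id (cokernel.π i)) inferInstance
  let m : cokernel i ⟶ E := hsp.s
  let r : E ⟶ A := hsp.r
  have hmono : Mono m := mono_of_mono_fac (show m ≫ cokernel.π i = 𝟙 _ from hsp.s_g)
  have hwr : m ≫ r = 0 := hsp.s_r
  have hS' : (ShortComplex.mk m r hwr).ShortExact :=
    (ShortComplex.Splitting.mk (S := ShortComplex.mk m r hwr) (cokernel.π i) i hsp.s_g hsp.f_r
      (by rw [add_comm]; exact hsp.id)).shortExact
  have hAL : PicF.IsInvertible ((DCoh.tensorBi.obj A).obj L) := Groth.Agent.InvX.isInvertible_tensorMod hAI hL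
  let g₂ : cokernel i ⟶ (DCoh.tensorBi.obj A).obj L := (m ≫ φ') ≫ Groth.Agent.CurveHiggs.twist L r
  haveI : IsIso g₂ := (Groth.Agent.CurveDeg.deg_le_and_isIso ℂ hdim.le hQI hAL g₂
    (hni (cokernel i) m A r hwr hS' hQ1 hmono (by rw [← hdeq]; exact hge))).2
      (by rw [← hdeq]; exact ((Groth.Agent.CurveRR.deg_tensor ℂ hdim hAI hL).trans (by rw [hL0, add_zero])).symm)
  let eQ' : cokernel i ≅ (DCoh.tensorBi.obj A).obj L := asIso g₂
  let eQ : cokernel i ≅ CohB1.tensorMod A L := eQ'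
  obtain ⟨a⟩ := Groth.Agent.H23.PicMul.assoc (cokernel i) L L
  obtain ⟨eLL⟩ := cancel (CohB1.tensorMod L L) (eQ ≪≫ PicGrp.tensorModIso eA (Iso.refl L) ≪≫ a)
  exact hL2 ⟨eLL⟩

end Groth.Agent.S16006
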