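import Groth.Statements.S16017
import Mathlib.Analysis.Normed.Group.InfiniteSum
import Mathlib.Tactic.FieldSimp

set_option autoImplicit false
universe u
open W4c3ghconstell

namespace Groth.Agent.S16017

/-- Let ι index the irreducible representations, θ : ι → ℚ a weight negative at only finitely many
indices (the finite set D₋), h h' : ι → ℕ with h' ≤ h pointwise (the isotypic dimensions of an
object and of a sub-object) and Σ_i θ_i h_i summable. For a finite set D of indices put S_D = Σ_{i ∉
D} θ_i h_i, d = #(D ∖ D₋), and θ̃_D = Σ_{i ∈ D} θ_i h'_i + (S_D / d) · Σ_{i ∈ D ∖ D₋} h'_i / h_i,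
the modified weight attached to the parameters chosen for D (for D ⊇ D₋ the first sum is the
negative part plus the part over D ∖ D₋). Then θ̃_D tends to Σ_i θ_i h'_i as D grows through the
finite subsets of ι. (Here D runs over all finite sets of indices and a quotient by zero is zero;
the source lets D run over the finite subsets of the locus θ ≠ 0 containing D₋, and the same tail
estimate gives both.) -/
theorem result {ι : Type u} [DecidableEq ι] (θ : ι → ℚ) (h h' : ι → ℕ)
    (hle : ∀ i, h' i ≤ h i) (hfin : {i | θ i < 0}.Finite)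
    (hsum : Summable (fun i => (θ i : ℝ) * (h i : ℝ))) :
    Filter.Tendsto
      (fun D : Finset ι =>
        (∑ i ∈ D, (θ i : ℝ) * (h' i : ℝ)) +
          ((∑' i, if i ∈ D then (0 : ℝ) else (θ i : ℝ) * (h i : ℝ)) / ((D \ hfin.toFinset).card : ℝ)) *
            ∑ i ∈ D \ hfin.toFinset, ((h' i : ℝ) / (h i : ℝ)))
      Filter.atTop (nhds (∑' i, (θ i : ℝ) * (h' i : ℝ))) := by
  have hsum' : Summable (fun i => (θ i : ℝ) * (h' i : ℝ)) := by
    refine Summable.of_norm_bounded hsum.abs fun i => ?_
    rw [Real.norm_eq_abs, abs_mul, abs_mul, Nat.abs_cast, Nat.abs_cast]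
    exact mul_le_mul_of_nonneg_left (by exact_mod_cast hle i) (abs_nonneg _)
  have h1 : Filter.Tendsto (fun D : Finset ι => ∑' i, if i ∈ D then (0 : ℝ) else (θ i : ℝ) * (h i : ℝ))
      Filter.atTop (nhds 0) := by
    have e : ∀ D : Finset ι, (∑' i, if i ∈ D then (0 : ℝ) else (θ i : ℝ) * (h i : ℝ)) =
        (∑' i, (θ i : ℝ) * (h i : ℝ)) - ∑ i ∈ D, (θ i : ℝ) * (h i : ℝ) := fun D => by
      have hf : HasSum (fun i => if i ∈ D then (θ i : ℝ) * (h i : ℝ) else 0) (∑ i ∈ D, (θ i : ℝ) * (h i : ℝ)) := by
        have hh := hasSum_sum_of_ne_finset_zero (s := D) (L := SummationFilter.unconditional ι)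
          (f := fun i => if i ∈ D then (θ i : ℝ) * (h i : ℝ) else 0) (fun i hi => if_neg hi)
        rwa [Finset.sum_congr rfl (fun i hi => if_pos hi)] at hh
      rw [← (hsum.hasSum.sub hf).tsum_eq]
      exact tsum_congr fun i => by split_ifs <;> ring
    simp only [e]
    simpa using ((tendsto_const_nhds (x := ∑' i, (θ i : ℝ) * (h i : ℝ))).sub hsum.hasSum)
  rw [← add_zero (∑' i, (θ i : ℝ) * (h' i : ℝ))]
  refine Filter.Tendsto.add hsum'.hasSum (squeeze_zero_norm (fun D => ?_) (by simpa using h1.abs))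
  set n := (D \ hfin.toFinset).card with hn
  rw [Real.norm_eq_abs, abs_mul, abs_div, Nat.abs_cast]
  have hA : |∑ i ∈ D \ hfin.toFinset, ((h' i : ℝ) / (h i : ℝ))| ≤ n := by
    rw [abs_of_nonneg (Finset.sum_nonneg fun i _ => by positivity)]
    refine (Finset.sum_le_card_nsmul _ _ (1 : ℝ) fun i _ => ?_).trans (by simp [hn])
    exact div_le_one_of_le₀ (by exact_mod_cast hle i) (Nat.cast_nonneg _)
  rcases Nat.eq_zero_or_pos n with h0 | h0
  · simp [h0]
  · rw [div_mul_eq_mul_div, div_le_iff₀ (by exact_mod_cast h0)]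
    exact mul_le_mul_of_nonneg_left hA (abs_nonneg _)

end Groth.Agent.S16017
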