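import Groth.Statements.S1602
import Groth.Agent.GenusLe.Basic

set_option autoImplicit false
universe u
open CategoryTheory CategoryTheory.Limits AlgebraicGeometry
open Curves

namespace Groth.Agent.S1602
open Groth.Agent

/-- Let X be proper of dimension at most one over k and f : X' → X a proper morphism which is an
isomorphism over a dense open of X whose preimage is dense in X'. Then the k-dimension of H^1 of the
structure sheaf of X' is at most that of X. -/
theorem result (k : Type u) [Field k] (X X' : Scheme.{u}) [X.Over (Spec (CommRingCat.of k))] [X'.Over (Spec (CommRingCat.of k))]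
    [IsProper (X ↘ (Spec (CommRingCat.of k)))] (hdim : topologicalKrullDim X ≤ 1) (f : X' ⟶ X) [IsProper f] (hf : f ≫ (X ↘ (Spec (CommRingCat.of k))) = X' ↘ (Spec (CommRingCat.of k)))
    (U : X.Opens) (hU : Dense (U : Set X)) (hU' : Dense ((f ⁻¹ᵁ U : X'.Opens) : Set X')) (hfU : IsIso (f ∣_ U)) :
    Curv2.genus k X' ≤ Curv2.genus k X := by
  haveI := CurveCohLib.isNoetherian_of_proper (k := k) (X := X)
  haveI : IsProper (X' ↘ Spec (CommRingCat.of k)) := by rw [← hf]; infer_instance
  haveI := CurveCohLib.isNoetherian_of_proper (k := k) (X := X')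
  haveI := hfU
  let j : (f ⁻¹ᵁ U : Scheme.{u}) ⟶ X' := (f ⁻¹ᵁ U).ι
  have hdim' : topologicalKrullDim X' ≤ 1 := by
    refine (DimOne.topologicalKrullDim_le_of_dense k (X' ↘ Spec (CommRingCat.of k)) j ?_).trans ?_
    · rw [Scheme.Opens.range_ι]; exact hU'
    · exact ((TopCat.homeoOfIso (Scheme.forgetToTop.mapIso (asIso (f ∣_ U)))).isInducing.topologicalKrullDim_le).trans
        ((Topology.IsInducing.topologicalKrullDim_le U.ι.isOpenEmbedding.isInducing).trans hdim)
  have hfib : ∀ x : X, (f ⁻¹' {x}).Finite := fun x => by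
    by_cases hx : x ∈ U
    · refine Set.Subsingleton.finite fun a ha b hb => ?_
      have ha' : a ∈ f ⁻¹ᵁ U := show f a ∈ U by rw [show f a = x from ha]; exact hx
      have hb' : b ∈ f ⁻¹ᵁ U := show f b ∈ U by rw [show f b = x from hb]; exact hx
      have heq : (f ∣_ U) ⟨a, ha'⟩ = (f ∣_ U) ⟨b, hb'⟩ := by
        apply U.ι.isOpenEmbedding.injective
        rw [← Scheme.Hom.comp_apply, ← Scheme.Hom.comp_apply, morphismRestrict_ι, Scheme.Hom.comp_apply, Scheme.Hom.comp_apply]
        exact (ha : f a = x).trans (hb : f b = x).symm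
      exact congrArg Subtype.val ((f ∣_ U).homeomorph.injective heq)
    · have hcl : IsClosed ({x} : Set X) := DimOne.isClosed_singleton hdim fun hg =>
        hx (DimOne.mem_range_of_isGen U.2 hU hg)
      refine DimOne.finite_of_forall_not_isGen hdim' (hcl.preimage f.continuous) fun z hz hg => hx ?_
      have := DimOne.mem_range_of_isGen (f ⁻¹ᵁ U).2 hU' hg
      rw [← (hz : f z = x)]
      exact this
  haveI : LocallyQuasiFinite f := LocallyQuasiFinite.of_finite_preimage_singleton _ hfib
  haveI : IsFinite f := IsFinite.of_isProper_of_locallyQuasiFinite f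
  exact GenusLe.genus_le k hdim f hf U hU inferInstance

end Groth.Agent.S1602
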