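import Groth.Statements.S1603
import Groth.Agent.GenusLe.Basic
import Groth.Agent.S1602
import Groth.Agent.CurveCohLib.Proper
import Groth.Agent.KFlatLib.Scheme.Exact
import Groth.Agent.MorLib.Birat

set_option autoImplicit false
set_option backward.isDefEq.respectTransparency false
set_option backward.isDefEq.respectTransparency.types false
set_option linter.style.haveILetI false
universe u
open CategoryTheory CategoryTheory.Limits AlgebraicGeometry
open Curves

namespace Groth.Agent.S1603
open Groth.Agent TopologicalSpace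

/-- In the situation of the first part assume moreover that X is reduced, that H^0(X, O_X) → H^0(X',
O_{X'}) is surjective and that the two H^1 have the same dimension. Then f is an isomorphism. -/
theorem result (k : Type u) [Field k] (X X' : Scheme.{u}) [X.Over (Spec (CommRingCat.of k))] [X'.Over (Spec (CommRingCat.of k))]
    [IsProper (X ↘ (Spec (CommRingCat.of k)))] [IsReduced X] (hdim : topologicalKrullDim X ≤ 1) (f : X' ⟶ X) [IsProper f] (hf : f ≫ (X ↘ (Spec (CommRingCat.of k))) = X' ↘ (Spec (CommRingCat.of k)))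
    (U : X.Opens) (hU : Dense (U : Set X)) (hU' : Dense ((f ⁻¹ᵁ U : X'.Opens) : Set X')) (hfU : IsIso (f ∣_ U))
    (h0 : Function.Surjective (f.app ⊤).hom) (h1 : Curv2.genus k X' = Curv2.genus k X) : IsIso f := by
  haveI := CurveCohLib.isNoetherian_of_proper (k := k) (X := X)
  haveI : IsProper (X' ↘ Spec (CommRingCat.of k)) := by rw [← hf]; infer_instance
  haveI := CurveCohLib.isNoetherian_of_proper (k := k) (X := X')
  haveI := hfU
  let j : (f ⁻¹ᵁ U : Scheme.{u}) ⟶ X' := (f ⁻¹ᵁ U).ι
  have hdim' : topologicalKrullDim X' ≤ 1 := by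
    refine (DimOne.topologicalKrullDim_le_of_dense k (X' ↘ Spec (CommRingCat.of k)) j ?_).trans ?_
    · rw [Scheme.Opens.range_ι]; exact hU'
    · exact ((TopCat.homeoOfIso (Scheme.forgetToTop.mapIso (asIso (f ∣_ U)))).isInducing.topologicalKrullDim_le).trans
        ((Topology.IsInducing.topologicalKrullDim_le U.ι.isOpenEmbedding.isInducing).trans hdim)
  have hfib : ∀ x : X, (f ⁻¹' {x}).Finite := fun x => by
    by_cases hx : x ∈ U
    · refine Set.Subsingleton.finite fun a ha b hb => ?_
      have ha' : a ∈ f ⁻¹ᵁ U := show f a ∈ U by rw [show f a = x from ha]; exact hx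
      have hb' : b ∈ f ⁻¹ᵁ U := show f b ∈ U by rw [show f b = x from hb]; exact hx
      have heq : (f ∣_ U) ⟨a, ha'⟩ = (f ∣_ U) ⟨b, hb'⟩ := by
        apply U.ι.isOpenEmbedding.injective
        rw [← Scheme.Hom.comp_apply, ← Scheme.Hom.comp_apply, morphismRestrict_ι, Scheme.Hom.comp_apply, Scheme.Hom.comp_apply]
        exact (ha : f a = x).trans (hb : f b = x).symm
      exact congrArg Subtype.val ((f ∣_ U).homeomorph.injective heq)
    · have hcl : IsClosed ({x} : Set X) := DimOne.isClosed_singleton hdim fun hg =>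
        hx (DimOne.mem_range_of_isGen U.2 hU hg)
      refine DimOne.finite_of_forall_not_isGen hdim' (hcl.preimage f.continuous) fun z hz hg => hx ?_
      have := DimOne.mem_range_of_isGen (f ⁻¹ᵁ U).2 hU' hg
      rw [← (hz : f z = x)]
      exact this
  haveI : LocallyQuasiFinite f := LocallyQuasiFinite.of_finite_preimage_singleton _ hfib
  haveI : IsFinite f := IsFinite.of_isProper_of_locallyQuasiFinite f
  haveI := hfU
  let φ := ClSub.unitToPush f
  have hinj : ∀ W : X.Opens, Function.Injective (f.app W) := fun W a b h => by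
    rw [← sub_eq_zero, ← AlgebraicGeometry.basicOpen_eq_bot_iff, ← le_bot_iff]
    intro x hx
    obtain ⟨z, hzb, hzU⟩ := hU.inter_open_nonempty _ (X.basicOpen (a - b)).2 ⟨x, hx⟩
    obtain ⟨y, hy⟩ := (f ∣_ U).surjective ⟨z, hzU⟩
    have hy' : f y.1 = z := by
      rw [← Scheme.Opens.ι_apply (f ⁻¹ᵁ U) y]
      exact ((Scheme.Hom.comp_apply _ _ _).symm.trans ((congrArg (fun g => g y) (morphismRestrict_ι f U)).symm.trans
        ((Scheme.Hom.comp_apply _ _ _).trans (congrArg U.ι hy))))
    have h2 : y.1 ∈ f ⁻¹ᵁ X.basicOpen (a - b) := show f y.1 ∈ X.basicOpen (a - b) by rw [hy']; exact hzb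
    rw [Scheme.preimage_basicOpen, map_sub, h, sub_self, Scheme.basicOpen_zero] at h2
    exact h2.elim
  haveI : Mono φ := by
    refine (KFlatLib.toAb X).mono_of_mono_map ?_
    refine (TopCat.Sheaf.forget AddCommGrpCat.{u} X).mono_of_mono_map ?_
    haveI : ∀ W : (Opens X)ᵒᵖ, Mono (((TopCat.Sheaf.forget AddCommGrpCat.{u} X).map
        ((KFlatLib.toAb X).map φ)).app W) := fun W => (AddCommGrpCat.mono_iff_injective _).2 (hinj W.unop)
    exact NatTrans.mono_of_mono_app _
  have hS := CurveSlope.shortExact_cokernel_of_mono φ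
  have hOY : Coh.IsCoh (Coh.structureModule X') := QCoh.isCoh_structureModule'
  have hOX : Coh.IsCoh (Coh.structureModule X) := QCoh.isCoh_structureModule'
  have hP : Coh.IsCoh ((Scheme.Modules.pushforward f).obj (Coh.structureModule X')) :=
    QCoh.isCoh_pushforward_finite f hOY
  have hQ : Coh.IsCoh (cokernel φ) := QCoh.isCoh_cokernel hOX.1 hP φ
  have hng : ∀ x ∈ ((U : Set X))ᶜ, ¬ DimOne.IsGen x := fun x hx hg => hx (DimOne.mem_range_of_isGen U.2 hU hg)
  have hcl : ∀ x ∈ ((U : Set X))ᶜ, IsClosed ({x} : Set X) := fun x hx => DimOne.isClosed_singleton hdim (hng x hx)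
  have hst : ∀ x, x ∉ ((U : Set X))ᶜ → Subsingleton ((cokernel φ).presheaf.stalk x) := fun x hx =>
    GenusLe.subsingleton_stalk_cokernel f U inferInstance x (not_not.1 hx)
  have hsurj := GenusLe.surjective_mapLin_one_of_cokernel k hdim hOX.1 hP.1 φ
    (DimOne.finite_of_forall_not_isGen hdim U.2.isClosed_compl hng) hcl hst
  haveI := CurveCohLib.finite_HH (k := k) hOX 1
  haveI := CurveCohLib.finite_HH (k := k) hP 1
  obtain ⟨e⟩ := QCoh.HH_push_linear f (Coh.toGlobal (X ↘ Spec (CommRingCat.of k)))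
    (Coh.toGlobal (X' ↘ Spec (CommRingCat.of k))) (fun a => by rw [← hf]; rfl) hOY.1 1
  have hker : Function.Injective (PnCoh.Finite.mapLin k φ 1) :=
    (LinearMap.injective_iff_surjective_of_finrank_eq_finrank (h1.symm.trans (LinearEquiv.finrank_eq e))).2 hsurj
  have hzero : ∀ q : Γ(cokernel φ, ⊤), q = 0 := fun q => by
    let y : Coh.HH X (cokernel φ) 0 := (Sheaf.H.equiv₀ (Coh.toAb (cokernel φ)) isTerminalTop).symm q
    have hd : PnCoh.Finite.deltaLin k hS 0 y = 0 := hker ((LinearMap.mem_ker.1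
      ((CurveCohLib.ker_mapLin_f_succ k hS 0).ge ⟨y, rfl⟩)).trans (map_zero _).symm)
    obtain ⟨z, hz⟩ := PnCoh.Finite.exists_of_deltaLin_eq_zero k hS 0 hd
    let w : Γ(X', f ⁻¹ᵁ ⊤) :=
      Sheaf.H.equiv₀ (Coh.toAb ((Scheme.Modules.pushforward f).obj (Coh.structureModule X'))) isTerminalTop z
    obtain ⟨a, ha⟩ := h0 w
    have h2 := Sheaf.H.equiv₀_naturality isTerminalTop ((QCoh.toAbFunctor X).map (cokernel.π φ)) z
    have h3 : (cokernel.π φ).app ⊤ (show Γ((Scheme.Modules.pushforward f).obj (Coh.structureModule X'), ⊤) from w) = q :=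
      h2.trans ((congrArg (Sheaf.H.equiv₀ (Coh.toAb (cokernel φ)) isTerminalTop) hz).trans
        (AddEquiv.apply_symm_apply _ _))
    have h4 : (cokernel.π φ).app ⊤ (φ.app ⊤ (show Γ(X, ⊤) from a)) = 0 :=
      congr(($(cokernel.condition φ)).app ⊤ (show Γ(X, ⊤) from a))
    have h5 : φ.app ⊤ (show Γ(X, ⊤) from a) =
        (show Γ((Scheme.Modules.pushforward f).obj (Coh.structureModule X'), ⊤) from w) := ha
    rw [← h3, ← h5]
    exact h4
  have hz : IsZero (cokernel φ) := CurveCohLib.isZero_of_closedSupport hQ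
    (fun x hx => hcl x fun hxU => hx (hst x fun hc => hc hxU)) hzero
  haveI : Epi φ := Abelian.epi_of_cokernel_π_eq_zero φ (hz.eq_of_tgt _ _)
  haveI : IsIso φ := isIso_of_mono_of_epi φ
  have happ : ∀ W : X.Opens, IsIso (f.app W) := fun W => by
    rw [ConcreteCategory.isIso_iff_bijective]
    refine ⟨hinj W, fun b => ⟨(inv φ).app W (show Γ((Scheme.Modules.pushforward f).obj (Coh.structureModule X'), W) from b), ?_⟩⟩
    exact congr(($(IsIso.inv_hom_id φ)).app W (show Γ((Scheme.Modules.pushforward f).obj (Coh.structureModule X'), W) from b))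
  refine IsZariskiLocalAtTarget.of_forall_exists_morphismRestrict (P := .isomorphisms _) fun x => ?_
  obtain ⟨_, ⟨V, hV, rfl⟩, hxV, -⟩ := X.isBasis_affineOpens.exists_subset_of_mem_open (Set.mem_univ x) isOpen_univ
  refine ⟨V, hxV, ?_⟩
  haveI : IsAffine (V : Scheme.{u}) := hV
  haveI : IsAffine ((f ⁻¹ᵁ V) : Scheme.{u}) := hV.preimage f
  haveI : IsIso (f ∣_ V).appTop := by
    show IsIso ((f ∣_ V).app ⊤)
    rw [morphismRestrict_app]
    haveI := happ (Scheme.Opens.ι V ''ᵁ ⊤)
    infer_instance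
  exact MorLib.Birat.isIso_of_appTop (f ∣_ V)

end Groth.Agent.S1603
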