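import Groth.Statements.S16033
import Groth.Agent.Chevalley.CommAff.AntiAffTools
import Groth.Agent.GrpSchLib.AntiAffineRosenlicht
import Groth.Agent.S3036
import Groth.Agent.S7982
import Groth.Agent.GrpSchLib.KernelGrp
import Groth.Agent.Chevalley.CommAff.Isogeny
-- import your own Groth.Agent.* helpers here

set_option autoImplicit false
set_option backward.isDefEq.respectTransparency false
set_option maxHeartbeats 1000000
set_option linter.style.haveILetI false
universe u
open CategoryTheory CategoryTheory.Limits AlgebraicGeometry MonoidalCategory MonObj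
open GrpSch

namespace Groth.Agent.S16033

/-- For a commutative group scheme G of finite type over a field and an integer n > 0, the n-th power
homomorphism n_G : G ⟶ G is an affine morphism. -/
theorem result
    (k : Type u) [Field k] (G : Over (Spec (CommRingCat.of k))) [GrpObj G] [IsCommMonObj G]
    [LocallyOfFiniteType G.hom] [QuasiCompact G.hom] (n : ℕ) (hn : 0 < n) :
    IsAffineHom ((𝟙 G ^ n : G ⟶ G).left) := by

  open CartesianMonoidalCategory MonObj in
    haveI := Groth.Agent.GrpSchLib.AntiAffine.isSeparated_grp G
    haveI := Groth.Agent.Chevalley.CommAff.isMonHom_pow G n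
    obtain ⟨u, hu⟩ : ∃ u : G ⟶ G, u = 𝟙 G ^ n := ⟨_, rfl⟩
    rw [← hu]
    haveI : IsMonHom u := hu ▸ inferInstance
    obtain ⟨J, _, r, b, hr, hb, hrb, hbc, hrf, hrs, hJl, hJq⟩ := Groth.Agent.GrpSchLib.ImageFactor.exists_image u
    haveI := hr; haveI := hb; haveI := hbc; haveI := hrf; haveI := hrs; haveI := hJl; haveI := hJq
    haveI := Groth.Agent.GrpSchLib.AntiAffine.isSeparated_grp J
    obtain ⟨N, _, i, hi, hic, -, hk⟩ := Groth.Agent.GrpSchLib.exists_kernel r
    haveI := hi; haveI := hic
    haveI : LocallyOfFiniteType N.hom := by rw [← Over.w i]; infer_instance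
    haveI : QuasiCompact N.hom := by rw [← Over.w i]; infer_instance
    obtain ⟨I, _, p, K, _, κ, hp, hIa, hIl, hIq, -, -, hκ, hκc, hKk, hK⟩ :=
      Groth.Agent.GrpSchLib.Rosenlicht.exists_antiAffine_kernel N
    haveI := hp; haveI := hIa; haveI := hIl; haveI := hIq; haveI := hκ; haveI := hκc
    haveI : Mono i := Over.mono_of_mono_left _
    haveI : Mono κ := Over.mono_of_mono_left _
    haveI : LocallyOfFiniteType K.hom := by rw [← Over.w κ]; infer_instance
    haveI : QuasiCompact K.hom := by rw [← Over.w κ]; infer_instance
    have hpow : (𝟙 K) ^ n = 1 := by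
      rw [← cancel_mono κ, ← cancel_mono i, MonObj.one_comp, MonObj.one_comp,
        Groth.Agent.Chevalley.BC.pow_comp, Category.id_comp, Groth.Agent.Chevalley.BC.pow_comp,
        show (κ ≫ i) ^ n = (κ ≫ i) ≫ u by rw [hu, Groth.Agent.Chevalley.BC.comp_pow, Category.comp_id],
        ← hrb, Category.assoc, ← Category.assoc i, hk.w, ← Hom.one_def, MonObj.one_comp, MonObj.comp_one]
    haveI : Smooth K.hom := Groth.Agent.GrpSchLib.AntiAffineSmooth.smooth hK
    haveI : Subsingleton K.left := by
      haveI := Groth.Agent.Chevalley.CommAff.surjective_pow_antiAffine hK hn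
      haveI : Surjective (toUnit K ≫ η[K]).left := by rw [← Hom.one_def, ← hpow]; infer_instance
      haveI : Surjective ((toUnit K).left ≫ η[K].left) := by rw [← Over.comp_left]; infer_instance
      haveI : Surjective η[K].left := Surjective.of_comp (toUnit K).left η[K].left
      haveI : Subsingleton ↥(𝟙_ (Over (Spec (CommRingCat.of k)))).left := Groth.Agent.FibDim.subsingleton_spec_field k
      exact η[K].left.surjective.subsingleton
    haveI : ConnectedSpace K.left := Groth.Agent.GrpSchLib.AntiAffine.connectedSpace_of_bijective hK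
    have hK1 := Groth.Agent.Chevalley.CommAff.isTrivial_of_subsingleton K
    haveI : Mono p := ⟨fun {T} x y hxy => by
      have h1 : (x * y⁻¹) ≫ p = toUnit T ≫ η[I] := by
        rw [MonObj.mul_comp, GrpObj.inv_comp, hxy, mul_inv_cancel, Hom.one_def]
      have h2 := hKk.lift_fst (x * y⁻¹) (toUnit T) h1
      rw [← Category.comp_id (hKk.lift _ _ _), hK1, MonObj.comp_one, MonObj.one_comp] at h2
      exact mul_inv_eq_one.1 h2.symm⟩
    haveI := Groth.Agent.GrpSchLib.AntiAffine.isSeparated_grp I
    haveI : QuasiCompact p.left := by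
      haveI : QuasiCompact (p.left ≫ I.hom) := by rw [Over.w p]; infer_instance
      exact QuasiCompact.of_comp p.left I.hom
    haveI : IsClosedImmersion p.left := Groth.Agent.S3036.result k N I p
    haveI : IsAffine N.left := isAffine_of_isAffineHom p.left
    haveI : QuasiCompact r.left := by
      haveI : QuasiCompact (r.left ≫ J.hom) := by rw [Over.w r]; infer_instance
      exact QuasiCompact.of_comp r.left J.hom
    haveI := Groth.Agent.EtFound.fpqc_isAffineHom.{u}
    haveI : IsAffineHom r.left :=
      Groth.Agent.S7982.property_of_kernel i r hk @IsAffineHom (isAffineHom_of_isAffine N.hom)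
    rw [← hrb, Over.comp_left]
    infer_instance



end Groth.Agent.S16033
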