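import Groth.Statements.S16046
import Mathlib.RingTheory.Polynomial.GaussLemma
import Mathlib.RingTheory.PowerBasis
import Mathlib.RingTheory.Valuation.ValuationRing
import Mathlib.RingTheory.TensorProduct.Free
import Mathlib.RingTheory.Localization.Integral
import Mathlib.LinearAlgebra.TensorProduct.Pi
import Mathlib.Algebra.GCDMonoid.IntegrallyClosed
import Mathlib.RingTheory.Bezout

set_option autoImplicit false
universe u
open TensorProduct
open ValRing

namespace Groth.Agent.S16046

theorem approx (A K A' K' : Type u) [CommRing A] [IsDomain A] [Field K] [Algebra A K] [IsFractionRing A K]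
    [CommRing A'] [IsDomain A'] [Field K'] [Algebra A' K'] [IsFractionRing A' K']
    [Algebra A A'] [ValuationRing A'] (hinj : Function.Injective (algebraMap A A'))
    [Algebra K K'] [Algebra A K'] [IsScalarTower A A' K'] [IsScalarTower A K K']
    (hdense : ∀ a' b' : A', b' ≠ 0 → ∃ a : A, b' ∣ a' - algebraMap A A' a) (c : K') :
    ∃ (k : K) (a : A'), c = algebraMap K K' k + algebraMap A' K' a := by
  obtain ⟨n, d, hd, rfl⟩ := IsFractionRing.div_surjective A' c
  have hd0 : (d : A') ≠ 0 := nonZeroDivisors.ne_zero hd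
  have hdK : algebraMap A' K' (d : A') ≠ 0 := fun h => hd0 (IsFractionRing.injective A' K' (h.trans (map_zero _).symm))
  by_cases hu : IsUnit (d : A')
  · obtain ⟨u, hu⟩ := hu
    refine ⟨0, n * ((u⁻¹ : A'ˣ) : A'), ?_⟩
    rw [map_zero, zero_add, map_mul, div_eq_iff hdK, mul_assoc, ← map_mul, ← hu, Units.inv_mul, map_one, mul_one]
  obtain ⟨d₁, t, ht⟩ := hdense d (d * d) (mul_ne_zero hd0 hd0)
  have hsu : IsUnit (1 - (d : A') * t) := by
    by_contra h
    have h1 : (1 : A') ∈ IsLocalRing.maximalIdeal A' := by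
      have := Ideal.add_mem _ ((IsLocalRing.mem_maximalIdeal _).2 h)
        (Ideal.mul_mem_right t _ ((IsLocalRing.mem_maximalIdeal (d : A')).2 hu))
      rwa [sub_add_cancel] at this
    exact (IsLocalRing.maximalIdeal.isMaximal A').ne_top ((Ideal.eq_top_iff_one _).2 h1)
  obtain ⟨s, hs⟩ := hsu
  have h1 : algebraMap A A' d₁ = d * s := by rw [hs]; linear_combination -ht
  have hd₁ : algebraMap A A' d₁ ≠ 0 := by rw [h1]; exact mul_ne_zero hd0 s.ne_zero
  obtain ⟨n₁, t', ht'⟩ := hdense (n * s) (algebraMap A A' d₁) hd₁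
  refine ⟨algebraMap A K n₁ / algebraMap A K d₁, t', ?_⟩
  rw [map_div₀, ← IsScalarTower.algebraMap_apply, ← IsScalarTower.algebraMap_apply,
    IsScalarTower.algebraMap_apply A A' K', IsScalarTower.algebraMap_apply A A' K']
  have hs0 : algebraMap A' K' (s : A') ≠ 0 := (s.isUnit.map _).ne_zero
  have h2 : algebraMap A' K' (algebraMap A A' n₁) = algebraMap A' K' n * algebraMap A' K' (s : A') -
      algebraMap A' K' (algebraMap A A' d₁) * algebraMap A' K' t' := by
    rw [← map_mul, ← map_mul, ← map_sub, ← ht', sub_sub_cancel]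
  rw [h2, h1, map_mul]
  field_simp
  ring

theorem isIntegral_aux (A K L A' K' : Type u) [CommRing A] [IsDomain A] [ValuationRing A] [Field K] [Algebra A K] [IsFractionRing A K]
    [Field L] [Algebra K L] [FiniteDimensional K L] [Algebra A L] [IsScalarTower A K L]
    [CommRing A'] [IsDomain A'] [ValuationRing A'] [Field K'] [Algebra A' K'] [IsFractionRing A' K']
    [Algebra A A'] [IsLocalHom (algebraMap A A')]
    [Algebra K K'] [Algebra A K'] [IsScalarTower A A' K'] [IsScalarTower A K K'] (l : L)
    (h : ((Ideal.Quotient.mk (nilradical (K' ⊗[K] L))).comp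
            ((Algebra.TensorProduct.includeLeft : K' →ₐ[K] K' ⊗[K] L).toRingHom.comp (algebraMap A' K'))).IsIntegralElem
          (Ideal.Quotient.mk (nilradical (K' ⊗[K] L)) ((1 : K') ⊗ₜ[K] l))) :
    IsIntegral A l := by
  classical
  obtain ⟨P, hP, hPl⟩ := h
  rw [← Polynomial.hom_eval₂, Ideal.Quotient.eq_zero_iff_mem, mem_nilradical] at hPl
  obtain ⟨N, hN⟩ := hPl
  let Q := (P ^ N).map (algebraMap A' K')
  have hQ : Polynomial.aeval ((1 : K') ⊗ₜ[K] l) Q = 0 := by
    rw [← hN, Polynomial.aeval_def, Polynomial.eval₂_map, Polynomial.eval₂_pow]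
    rfl
  let G := (minpoly K l).map (algebraMap K K')
  have hl : IsIntegral K l := Algebra.IsIntegral.isIntegral l
  have hG : G.Monic := (minpoly.monic hl).map _
  have hGl : Polynomial.aeval ((1 : K') ⊗ₜ[K] l) G = 0 := by
    rw [Polynomial.aeval_map_algebraMap]
    have := Polynomial.aeval_algHom_apply (Algebra.TensorProduct.includeRight : L →ₐ[K] K' ⊗[K] L) l (minpoly K l)
    rw [minpoly.aeval, map_zero] at this
    exact this
  have hr : Q %ₘ G = 0 := by
    let n := (minpoly K l).natDegree
    let r := Q %ₘ G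
    have hrl : Polynomial.aeval ((1 : K') ⊗ₜ[K] l) r = 0 := by
      rw [Polynomial.aeval_modByMonic_eq_self_of_root hGl, hQ]
    have hrdeg : r.natDegree < n := by
      have := Polynomial.natDegree_modByMonic_lt Q hG (fun h => by
        have h1 := congrArg Polynomial.natDegree h
        rw [(minpoly.monic hl).natDegree_map, Polynomial.natDegree_one] at h1
        exact (minpoly.natDegree_pos hl).ne' h1)
      rwa [(minpoly.monic hl).natDegree_map] at this
    let φ : (Fin n → K) →ₗ[K] L := Fintype.linearCombination K fun i : Fin n => l ^ (i : ℕ)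
    obtain ⟨ψ, hψ⟩ := φ.exists_leftInverse_of_injective (LinearMap.ker_eq_bot.2 (linearIndependent_iff_injective_fintypeLinearCombination.1 (linearIndependent_pow l)))
    have hψl : ∀ i : Fin n, ψ (l ^ (i : ℕ)) = Pi.single i 1 := fun i => by
      have := LinearMap.congr_fun hψ (Pi.single i 1)
      simpa [φ, Fintype.linearCombination_apply_single] using this
    rw [Polynomial.aeval_eq_sum_range' hrdeg, ← Fin.sum_univ_eq_sum_range (fun i => r.coeff i • ((1 : K') ⊗ₜ[K] l) ^ i)] at hrl
    have h2 := congrArg (fun z => TensorProduct.piScalarRight K K' K' (Fin n) (LinearMap.lTensor K' ψ z)) hrl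
    simp only [map_sum, map_zero, Algebra.TensorProduct.tmul_pow, one_pow, smul_tmul', LinearMap.lTensor_tmul,
      smul_eq_mul, mul_one, TensorProduct.piScalarRight_apply, TensorProduct.piScalarRightHom_tmul, hψl] at h2
    ext i
    rw [Polynomial.coeff_zero]
    by_cases hi : i < n
    · have h3 := congrFun h2 ⟨i, hi⟩
      simpa [Pi.single_apply] using h3
    · exact Polynomial.coeff_eq_zero_of_natDegree_lt (lt_of_lt_of_le hrdeg (not_lt.1 hi))
  obtain ⟨G', hG'⟩ := IsIntegrallyClosed.eq_map_mul_C_of_dvd K' (hP.pow N) ((Polynomial.modByMonic_eq_zero_iff_dvd hG).1 hr)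
  rw [hG.leadingCoeff] at hG'; simp only [inv_one, map_one, mul_one] at hG'
  have hcoef : ∀ i, ∃ q : A, algebraMap A K q = (minpoly K l).coeff i := fun i => by
    set k := (minpoly K l).coeff i with hk
    have h1 : algebraMap A' K' (G'.coeff i) = algebraMap K K' k := by
      rw [← Polynomial.coeff_map, hG', Polynomial.coeff_map]
    rcases ValuationRing.isInteger_or_isInteger A k with ⟨q, hq⟩ | ⟨q, hq⟩
    · exact ⟨q, hq⟩
    · by_cases hk0 : k = 0
      · exact ⟨0, by rw [hk0, map_zero]⟩
      have h2 : algebraMap A A' q * G'.coeff i = 1 := IsFractionRing.injective A' K' (by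
        rw [map_mul, h1, map_one, ← IsScalarTower.algebraMap_apply, IsScalarTower.algebraMap_apply A K K', ← map_mul, hq,
          inv_mul_cancel₀ hk0, map_one])
      obtain ⟨w, hw⟩ := (isUnit_map_iff (algebraMap A A') q).1 (IsUnit.of_mul_eq_one _ h2)
      refine ⟨((w⁻¹ : Aˣ) : A), mul_left_cancel₀ (inv_ne_zero hk0) ?_⟩
      rw [inv_mul_cancel₀ hk0, ← hq, ← hw, ← map_mul, Units.mul_inv, map_one]
  obtain ⟨q, hq, -, hqm⟩ := Polynomial.lifts_and_degree_eq_and_monic
    ((Polynomial.lifts_iff_coeff_lifts _).2 fun i => hcoef i) (minpoly.monic hl)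
  refine ⟨q, hqm, ?_⟩
  have := minpoly.aeval K l
  rwa [← hq, Polynomial.aeval_map_algebraMap, Polynomial.aeval_def] at this

/-- Surjectivity assertion: let A ⊆ A' be valuation rings with fraction fields K ⊆ K', A' dominating A
and A dense in A' for the valuation topology, and L a finite extension of K; put L' = K' ⊗_K L. Then
every element of L' modulo its nilradical which is integral over A' is a finite sum Σ a'ᵢ·lᵢ with
a'ᵢ ∈ A' and lᵢ ∈ L integral over A. (The published statement also identifies the kernel of the map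
from the tensor product with the nilradical; that part is not stated here.) -/
theorem result
    (A K L A' K' : Type u) [CommRing A] [IsDomain A] [ValuationRing A] [Field K] [Algebra A K] [IsFractionRing A K]
    [Field L] [Algebra K L] [FiniteDimensional K L] [Algebra A L] [IsScalarTower A K L]
    [CommRing A'] [IsDomain A'] [ValuationRing A'] [Field K'] [Algebra A' K'] [IsFractionRing A' K']
    [Algebra A A'] [IsLocalHom (algebraMap A A')] (hinj : Function.Injective (algebraMap A A'))
    [Algebra K K'] [Algebra A K'] [IsScalarTower A A' K'] [IsScalarTower A K K']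
    (hdense : ∀ a' b' : A', b' ≠ 0 → ∃ a : A, b' ∣ a' - algebraMap A A' a)
    (x : (K' ⊗[K] L) ⧸ nilradical (K' ⊗[K] L))
    (hx : ((Ideal.Quotient.mk (nilradical (K' ⊗[K] L))).comp
            ((Algebra.TensorProduct.includeLeft : K' →ₐ[K] K' ⊗[K] L).toRingHom.comp (algebraMap A' K'))).IsIntegralElem x) :
    ∃ (n : ℕ) (a : Fin n → A') (l : Fin n → L), (∀ i, IsIntegral A (l i)) ∧
      x = Ideal.Quotient.mk (nilradical (K' ⊗[K] L)) (∑ i, algebraMap A' K' (a i) ⊗ₜ[K] l i) := by
  classical
  let T := K' ⊗[K] L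
  let mk := Ideal.Quotient.mk (nilradical T)
  let g : A' →+* T := (Algebra.TensorProduct.includeLeft : K' →ₐ[K] T).toRingHom.comp (algebraMap A' K')
  let f : A' →+* T ⧸ nilradical T := mk.comp g
  obtain ⟨y, rfl⟩ := Ideal.Quotient.mk_surjective x
  let b := Module.finBasis K L
  let bb := Algebra.TensorProduct.basis K' b
  have hd : ∀ i, ∃ d : nonZeroDivisors A, IsIntegral A (d • b i) := fun i =>
    IsIntegral.exists_multiple_integral_of_isLocalization (nonZeroDivisors A) (b i) (Algebra.IsIntegral.isIntegral (R := K) (b i))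
  choose d hd using hd
  have hd0 : ∀ i, algebraMap A K (d i : A) ≠ 0 := fun i h0 =>
    nonZeroDivisors.ne_zero (d i).2 (IsFractionRing.injective A K (h0.trans (map_zero _).symm))
  have he : ∀ i, IsIntegral A (algebraMap A K (d i : A) • b i) := fun i => by
    have h := hd i
    rw [Submonoid.smul_def, ← algebraMap_smul K (d i : A) (b i)] at h
    exact h
  choose k a hka using fun c => approx A K A' K' hinj hdense c
  let c : Fin (Module.finrank K L) → K' := fun i => bb.repr y i * algebraMap K K' (algebraMap A K (d i : A))⁻¹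
  let e : Fin (Module.finrank K L) → L := fun i => algebraMap A K (d i : A) • b i
  let l : L := ∑ i, k (c i) • e i
  have hy : y = (1 : K') ⊗ₜ[K] l + ∑ i, algebraMap A' K' (a (c i)) ⊗ₜ[K] e i := by
    conv_lhs => rw [← bb.sum_repr y]
    rw [tmul_sum, ← Finset.sum_add_distrib]
    refine Finset.sum_congr rfl fun i _ => ?_
    have h1 : (1 : K') ⊗ₜ[K] (k (c i) • e i) = algebraMap K K' (k (c i)) ⊗ₜ[K] e i := by
      rw [tmul_smul, smul_tmul', Algebra.smul_def, mul_one]
    rw [h1, ← add_tmul, ← hka, Algebra.TensorProduct.basis_apply, smul_tmul', smul_eq_mul, mul_one]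
    show _ = (bb.repr y i * algebraMap K K' (algebraMap A K (d i : A))⁻¹) ⊗ₜ[K] (algebraMap A K (d i : A) • b i)
    rw [tmul_smul, smul_tmul', Algebra.smul_def, mul_comm, mul_assoc, ← map_mul, inv_mul_cancel₀ (hd0 i), map_one, mul_one]
  have hcomp : (algebraMap A' K').comp (algebraMap A A') = (algebraMap K K').comp (algebraMap A K) := by
    rw [← IsScalarTower.algebraMap_eq, ← IsScalarTower.algebraMap_eq]
  have hint : ∀ z : L, IsIntegral A z → f.IsIntegralElem (mk ((1 : K') ⊗ₜ[K] z)) := by
    rintro z ⟨P, hP, hPz⟩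
    refine ⟨P.map (algebraMap A A'), hP.map _, ?_⟩
    rw [Polynomial.eval₂_map]
    have e0 : f.comp (algebraMap A A') =
        ((mk.comp (Algebra.TensorProduct.includeRight : L →ₐ[K] T).toRingHom)).comp (algebraMap A L) := by
      refine RingHom.ext fun q => ?_
      show mk (algebraMap A' K' (algebraMap A A' q) ⊗ₜ[K] (1 : L)) = mk ((1 : K') ⊗ₜ[K] algebraMap A L q)
      rw [← IsScalarTower.algebraMap_apply, IsScalarTower.algebraMap_apply A K K', IsScalarTower.algebraMap_apply A K L,
        Algebra.algebraMap_eq_smul_one (R := K) (A := L), tmul_smul, smul_tmul', Algebra.smul_def, mul_one]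
    rw [e0]
    exact (Polynomial.hom_eval₂ P (algebraMap A L) (mk.comp (Algebra.TensorProduct.includeRight : L →ₐ[K] T).toRingHom) z).symm.trans
      (by rw [hPz, map_zero])
  have hl : IsIntegral A l := by
    refine isIntegral_aux A K L A' K' l ?_
    have hsum : f.IsIntegralElem (mk (∑ i, algebraMap A' K' (a (c i)) ⊗ₜ[K] e i)) := by
      rw [map_sum]
      refine Finset.sum_induction _ f.IsIntegralElem (fun u v => RingHom.IsIntegralElem.add f) f.isIntegralElem_zero fun i _ => ?_
      rw [show algebraMap A' K' (a (c i)) ⊗ₜ[K] e i = g (a (c i)) * ((1 : K') ⊗ₜ[K] e i) by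
        show _ = (algebraMap A' K' (a (c i)) ⊗ₜ[K] (1 : L)) * _
        rw [Algebra.TensorProduct.tmul_mul_tmul, mul_one, one_mul], map_mul]
      exact RingHom.IsIntegralElem.mul f f.isIntegralElem_map (hint _ (he i))
    have h2 := RingHom.IsIntegralElem.sub f hx hsum
    rwa [← map_sub, hy, add_sub_cancel_right] at h2
  refine ⟨Module.finrank K L + 1, Fin.cons 1 fun i => a (c i), Fin.cons l e, Fin.cases hl he, ?_⟩
  rw [Fin.sum_univ_succ]
  simp only [Fin.cons_zero, Fin.cons_succ, map_one]
  rw [← hy]

end Groth.Agent.S16046
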