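import Groth.Statements.S16057
import Groth.Agent.H1SerreRees.Basic

set_option autoImplicit false
universe u
open GrLC

namespace Groth.Agent.S16057

/-- Let A be a Noetherian local ring with maximal ideal m, and I an ideal of A whose radical is m (an
m-primary ideal), and M a finitely generated A-module; let R(I) = ⊕_{n ≥ 0} Iⁿ Xⁿ ⊆ A[X] be the Rees
algebra, graded by the powers of X, with irrelevant ideal R(I)_+ = ⊕_{n ≥ 1} Iⁿ Xⁿ, and M* = ⊕_{n ≥
0} IⁿM Xⁿ the Rees module of M, a graded R(I)-module; let P ∈ ℚ[t] be the Hilbert–Samuel polynomial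
of M with respect to I, that is, P(n) = ℓ_A(M/IⁿM) for all sufficiently large n. Then for every
integer n ≥ 0, writing H^i_{R(I)_+}(M*)_n for the degree-n homogeneous piece of the i-th graded
local cohomology module of M* with support in R(I)_+ (computed from any *injective resolution of M*
in the category of graded R(I)-modules), a module over R(I)_0 = A: each H^i_{R(I)_+}(M*)_n has
finite length, only finitely many of them are nonzero, and P(n) − ℓ_A(M/IⁿM) = Σ_{i ≥ 0} (−1)^i
ℓ(H^i_{R(I)_+}(M*)_n). -/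
theorem result (A : Type u) [CommRing A]
    [IsNoetherianRing A] [IsLocalRing A] (I : Ideal A) (hI : I.radical = IsLocalRing.maximalIdeal A)
    (M : Type u) [AddCommGroup M] [Module A M] [Module.Finite A M] (P : Polynomial ℚ)
    (hP : ∃ N : ℕ, ∀ n : ℕ, N ≤ n →
      P.eval (n : ℚ) = ((Module.length A (M ⧸ (I ^ n • (⊤ : Submodule A M)))).toNat : ℚ))
    (E : GrLC.StarInjRes (Rees.degZ (reesAlgebra I)) (Rees.mdegZ (Rees.powFilt I M))) (n : ℕ) :
    (∀ i : ℕ, IsFiniteLength (GrLC.deg0 (Rees.degZ (reesAlgebra I))) (E.Hcomp (GrSyz.irrel (Rees.degZ (reesAlgebra I))) i (n : ℤ))) ∧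
      Set.Finite {i : ℕ | E.Hcomp (GrSyz.irrel (Rees.degZ (reesAlgebra I))) i (n : ℤ) ≠ ⊥} ∧
      P.eval (n : ℚ) - ((Module.length A (M ⧸ (I ^ n • (⊤ : Submodule A M)))).toNat : ℚ) =
        finsum (fun i : ℕ => (-1 : ℚ) ^ i *
          ((Module.length (GrLC.deg0 (Rees.degZ (reesAlgebra I))) (E.Hcomp (GrSyz.irrel (Rees.degZ (reesAlgebra I))) i (n : ℤ))).toNat : ℚ)) := by
  obtain ⟨N, hN, hmain⟩ := Groth.Agent.H1SerreRees.main I M hI P hP
  let F : GrLC.StarInjRes (Rees.degZ (reesAlgebra I)) (Groth.Agent.H1SerreRees.X0 I M).gr :=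
    Groth.Agent.GrLib8.starRes (Groth.Agent.H1SerreRees.X0 I M).gr
  have he : ∀ i, Nonempty (E.Hcomp (GrSyz.irrel (Rees.degZ (reesAlgebra I))) i (n : ℤ) ≃ₗ[GrLC.deg0 (Rees.degZ (reesAlgebra I))]
      F.Hcomp (GrSyz.irrel (Rees.degZ (reesAlgebra I))) i (n : ℤ)) := fun i =>
    Groth.Agent.GrLib8.nonempty_piece_equiv E F _ i _
  have hbot : ∀ i, N < i → E.Hcomp (GrSyz.irrel (Rees.degZ (reesAlgebra I))) i (n : ℤ) = ⊥ := fun i hi => by
    obtain ⟨e⟩ := he i
    haveI := Submodule.subsingleton_iff_eq_bot.2 (hN i hi n F)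
    exact Submodule.subsingleton_iff_eq_bot.1 e.toEquiv.subsingleton
  have hlen : ∀ i, (Module.length (GrLC.deg0 (Rees.degZ (reesAlgebra I))) (E.Hcomp (GrSyz.irrel (Rees.degZ (reesAlgebra I))) i (n : ℤ))).toNat =
      Groth.Agent.H1SerreFin.lenH (GrSyz.irrel (Rees.degZ (reesAlgebra I))) (Groth.Agent.H1SerreRees.X0 I M) i (n : ℤ) := fun i => by
    obtain ⟨e⟩ := he i
    exact congrArg ENat.toNat e.length_eq
  refine ⟨fun i => ?_, ?_, ?_⟩
  · obtain ⟨e⟩ := he i
    refine Module.length_ne_top_iff.1 ?_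
    rw [e.length_eq]
    exact (Groth.Agent.H1SerreRees.finLen_X0_X1 I M hI n (Int.natCast_nonneg n) i).1 F
  · refine (Set.finite_Iic N).subset fun i hi => ?_
    by_contra h
    exact hi (hbot i (not_le.1 h))
  · rw [hmain n, finsum_eq_sum_of_support_subset (s := Finset.range (N + 1))]
    · simp only [hlen, Groth.Agent.H1SerreFin.eulerH]
      push_cast
      rfl
    · intro i hi
      simp only [Finset.coe_range, Set.mem_Iio]
      by_contra h
      apply hi
      haveI := Submodule.subsingleton_iff_eq_bot.2 (hbot i (by omega))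
      simp [Module.length_eq_zero]

end Groth.Agent.S16057
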