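import Groth.Statements.S16085
import Groth.Agent.RefX2.Class

set_option autoImplicit false
universe u
open CategoryTheory CategoryTheory.Limits AlgebraicGeometry TopologicalSpace
open SDiv

namespace Groth.Agent.S16085

/-- Let X be an integral locally Noetherian normal scheme. Sending (F, G) to the reflexive hull (F
⊗_{O_X} G)^** makes the isomorphism classes of rank one coherent reflexive O_X-modules into an
abelian group: on that set there are a commutative and associative composition law, a neutral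
element and inverses, such that the product of the classes of F and G is the class of the reflexive
hull of F ⊗_{O_X} G, the neutral element is the class of O_X, and the inverse of the class of F is
the class of its dual 𝓗om_{O_X}(F, O_X). -/
theorem result (X : Scheme.{u}) [IsIntegral X] [IsLocallyNoetherian X] (hX : Pi1.IsNormalScheme X) :
    ∃ (mul : {c : PicF.Cl X // ∃ F : X.Modules, PicF.cl F = c ∧ RefHull.IsRef1 F} →
          {c : PicF.Cl X // ∃ F : X.Modules, PicF.cl F = c ∧ RefHull.IsRef1 F} →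
            {c : PicF.Cl X // ∃ F : X.Modules, PicF.cl F = c ∧ RefHull.IsRef1 F})
      (one : {c : PicF.Cl X // ∃ F : X.Modules, PicF.cl F = c ∧ RefHull.IsRef1 F})
      (inv : {c : PicF.Cl X // ∃ F : X.Modules, PicF.cl F = c ∧ RefHull.IsRef1 F} →
          {c : PicF.Cl X // ∃ F : X.Modules, PicF.cl F = c ∧ RefHull.IsRef1 F}),
      (∀ a b, mul a b = mul b a) ∧ (∀ a b c, mul (mul a b) c = mul a (mul b c)) ∧ (∀ a, mul one a = a) ∧
        (∀ a, mul (inv a) a = one) ∧
        (∀ (F G : X.Modules) (hF : RefHull.IsRef1 F) (hG : RefHull.IsRef1 G),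
          (mul ⟨PicF.cl F, F, rfl, hF⟩ ⟨PicF.cl G, G, rfl, hG⟩).1 = PicF.cl (RefHull.ddual (CohB1.tensorMod F G))) ∧
        one.1 = PicF.cl (Coh.structureModule X) ∧
        (∀ (F : X.Modules) (hF : RefHull.IsRef1 F), (inv ⟨PicF.cl F, F, rfl, hF⟩).1 = PicF.cl (RefHull.dual F)) := by
  classical
  let C := {c : PicF.Cl X // ∃ F : X.Modules, PicF.cl F = c ∧ RefHull.IsRef1 F}
  let rep : C → X.Modules := fun a => a.2.choose
  have hrep : ∀ a : C, RefHull.IsRef1 (rep a) := fun a => a.2.choose_spec.2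
  have hcl : ∀ a : C, PicF.cl (rep a) = a.1 := fun a => a.2.choose_spec.1
  have hdiv : ∀ (a : C) (F : X.Modules), PicF.cl F = a.1 → ∀ d, RefX2.HasDiv F d → RefX2.HasDiv (rep a) d := by
    intro a F hF d hd
    obtain ⟨e⟩ := (PicGrp.cl_eq_cl_iff _ _).1 (hF.trans (hcl a).symm)
    exact hd.of_iso hX (hrep a) e
  have hex : ∀ a : C, ∃ d, RefX2.HasDiv (rep a) d := fun a => RefX2.exists_hasDiv (hrep a)
  choose d hd using hex
  have hext : ∀ (a b : C) (e : ↥X → ℤ), RefX2.HasDiv (rep a) e → RefX2.HasDiv (rep b) e → a = b := by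
    intro a b e ha hb
    refine Subtype.ext ?_
    rw [← hcl a, ← hcl b]
    exact (PicGrp.cl_eq_cl_iff _ _).2 (ha.iso hX hb)
  let mul : C → C → C := fun a b =>
    ⟨PicF.cl (RefHull.ddual (CohB1.tensorMod (rep a) (rep b))), _, rfl, RefX2.isRef1_refTensor (hrep a) (hrep b)⟩
  let one : C := ⟨PicF.cl (Coh.structureModule X), _, rfl, RefX2.isRef1_unit⟩
  let inv : C → C := fun a => ⟨PicF.cl (RefHull.dual (rep a)), _, rfl, RefX2.isRef1_dual (hrep a)⟩
  have hmul : ∀ a b e e', RefX2.HasDiv (rep a) e → RefX2.HasDiv (rep b) e' → RefX2.HasDiv (rep (mul a b)) (e + e') :=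
    fun a b e e' h h' => hdiv _ _ rfl _ (h.tensor hX h')
  have hinv : ∀ a e, RefX2.HasDiv (rep a) e → RefX2.HasDiv (rep (inv a)) (-e) := fun a e h => hdiv _ _ rfl _ (h.dual hX)
  have hone : RefX2.HasDiv (rep one) 0 := hdiv _ _ rfl _ (RefX2.hasDiv_unit hX)
  refine ⟨mul, one, inv, fun a b => ?_, fun a b c => ?_, fun a => ?_, fun a => ?_, fun F G hF hG => ?_, rfl,
    fun F hF => ?_⟩
  · exact hext _ _ _ (hmul a b _ _ (hd a) (hd b)) (add_comm (d a) (d b) ▸ hmul b a _ _ (hd b) (hd a))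
  · exact hext _ _ _ (hmul _ c _ _ (hmul a b _ _ (hd a) (hd b)) (hd c))
      ((add_assoc (d a) (d b) (d c)).symm ▸ hmul a _ _ _ (hd a) (hmul b c _ _ (hd b) (hd c)))
  · exact hext _ _ _ (zero_add (d a) ▸ hmul one a _ _ hone (hd a)) (hd a)
  · exact hext _ _ _ (neg_add_cancel (d a) ▸ hmul _ a _ _ (hinv a _ (hd a)) (hd a)) hone
  · let a : C := ⟨PicF.cl F, F, rfl, hF⟩
    let b : C := ⟨PicF.cl G, G, rfl, hG⟩
    obtain ⟨e, he⟩ := RefX2.exists_hasDiv hF
    obtain ⟨e', he'⟩ := RefX2.exists_hasDiv hG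
    exact (PicGrp.cl_eq_cl_iff _ _).2 (((hdiv a F rfl e he).tensor hX (hdiv b G rfl e' he')).iso hX (he.tensor hX he'))
  · let a : C := ⟨PicF.cl F, F, rfl, hF⟩
    obtain ⟨e, he⟩ := RefX2.exists_hasDiv hF
    exact (PicGrp.cl_eq_cl_iff _ _).2 (((hdiv a F rfl e he).dual hX).iso hX (he.dual hX))

end Groth.Agent.S16085
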