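import Groth.Statements.S16093
import Groth.Agent.H1KoszTw.Basic

set_option autoImplicit false
set_option linter.style.haveILetI false
set_option backward.isDefEq.respectTransparency false
set_option backward.isDefEq.respectTransparency.types false
universe u
open CategoryTheory AlgebraicGeometry Opposite
open KoszTw

namespace Groth.Agent.S16093

/-- Let X be a scheme, F a finite locally free O_X-module, L an invertible O_X-module, s : F → O_X a
cosection, λ : O_X → L an injective morphism (a global section of L) and t : F ⊗ L → O_X a cosection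
of the twisted module compatible with s and λ, in the sense that λ(t(f ⊗ l)) = s(f) · l for all
sections f of F and l of L over every open. Let K(F, s) and K(F ⊗ L, t) be Koszul complexes of s and
of t, with differentials ∂ and δ and with degree-p terms K_p(F, s) and K_p(F ⊗ L, t) the p-th
exterior powers of F and of F ⊗ L; fix q ≥ 0 and let θ : K_{q+1}(F ⊗ L, t) ≅ K_{q+1}(F, s) ⊗
L^{⊗(q+1)} be the identification Λ^{q+1}(F ⊗ L) ≅ Λ^{q+1} F ⊗ L^{⊗(q+1)} that sends (f_0 ⊗ l_0) ∧ ⋯
∧ (f_q ⊗ l_q) to (f_0 ∧ ⋯ ∧ f_q) ⊗ (l_0 ⊗ ⋯ ⊗ l_q) on sections over every affine open. Then the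
kernel of the composite of θ with ∂_{q+1} ⊗ 1 : K_{q+1}(F, s) ⊗ L^{⊗(q+1)} → K_q(F, s) ⊗ L^{⊗(q+1)}
equals the kernel of δ_{q+1} : K_{q+1}(F ⊗ L, t) → K_q(F ⊗ L, t), as subobjects of K_{q+1}(F ⊗ L,
t); in words, θ identifies Ker(δ_{q+1}) with Ker(∂_{q+1} ⊗ 1_{L^{⊗(q+1)}}). (The published statement
is for an arbitrary integer twist n and reads Ker(∂_{q+1} ⊗ 1_{L^{⊗n}}) = Ker(δ_{q+1}) ⊗
L^{⊗(n-q-1)}; that family follows from the case n = q + 1 stated here by tensoring with the
invertible module L^{⊗(n-q-1)}, negative tensor powers not being used here. The published hypothesis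
is that s is non-zero, which forces λ to be injective when X is integral; injectivity of λ is what
the argument uses and is assumed here directly, for an arbitrary scheme X: on the spectrum of k × k
with F = L = O_X, s = λ = multiplication by (1, 0) and t the identity, s is non-zero while the two
kernels differ.) -/
theorem result {X : Scheme.{u}} (F L : X.Modules)
    (hF : FlatMod.IsFinLocFree F) (hL : PicF.IsInvertible L)
    (s : F ⟶ Coh.structureModule X) (lam : Coh.structureModule X ⟶ L) [Mono lam]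
    (t : CohB1.tensorMod F L ⟶ Coh.structureModule X) (htri : KoszTw.TwistTriangle s lam t)
    (C : KoszSh.Cx F s) (D : KoszSh.Cx (CohB1.tensorMod F L) t) (q : ℕ) (θ : KoszTw.CxDecData C D (q + 1)) :
    Limits.kernelSubobject (θ.iso.hom ≫ KoszTw.tensorMap (C.K.d (q + 1) q) (𝟙 (CohB1.tensorPow L (q + 1)))) =
      Limits.kernelSubobject (D.K.d (q + 1) q) := by
  have key : ∀ (x : X) (U : X.Opens), x ∈ U → ∀ y : Γ(D.K.X (q + 1), U), ∃ (V : X.Opens) (i : V ≤ U), x ∈ V ∧
      ((θ.iso.hom ≫ KoszTw.tensorMap (C.K.d (q + 1) q) (𝟙 (CohB1.tensorPow L (q + 1)))).app V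
          ((D.K.X (q + 1)).presheaf.map (homOfLE i).op y) = 0 ↔
        (D.K.d (q + 1) q).app V ((D.K.X (q + 1)).presheaf.map (homOfLE i).op y) = 0) := by
    intro x U hx y
    obtain ⟨V, hxV, i, e, he, k, ⟨b⟩⟩ := Groth.Agent.H1KoszTw.exists_chart hF hL hx
    refine ⟨V.1, i, hxV, ?_⟩
    obtain ⟨a, ha⟩ := he.exists_coord le_rfl (lam.app V.1 ((1 : Γ(X, V.1)) : Γ(Coh.structureModule X, V.1)))
    rw [Groth.Agent.AModX.res_self] at ha
    obtain ⟨z, hz⟩ := (Groth.Agent.H1KoszTw.Θ_bijective V he (q + 1)).2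
      (D.loc (q + 1) V ((D.K.X (q + 1)).presheaf.map (homOfLE i).op y))
    have hy : (D.K.X (q + 1)).presheaf.map (homOfLE i).op y =
        (D.loc (q + 1) V).symm (Groth.Agent.H1KoszTw.Θ V he (q + 1) z) := by
      rw [hz, LinearEquiv.symm_apply_apply]
    have hd := Groth.Agent.H1KoszTw.smul_d_twist C D V he htri ha q z
    have hθ : (θ.iso.hom ≫ KoszTw.tensorMap (C.K.d (q + 1) q) (𝟙 (CohB1.tensorPow L (q + 1)))).app V.1
        ((D.K.X (q + 1)).presheaf.map (homOfLE i).op y) =
        SecTwist.tmul (C.K.X q) (CohB1.tensorPow L (q + 1)) V.1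
          ((C.K.d (q + 1) q).app V.1 ((C.loc (q + 1) V).symm z))
          (KoszTw.tprod L (q + 1) V.1 fun _ => e) := by
      rw [hy]
      show (KoszTw.tensorMap (C.K.d (q + 1) q) (𝟙 (CohB1.tensorPow L (q + 1)))).app V.1
        (θ.iso.hom.app V.1 ((D.loc (q + 1) V).symm (Groth.Agent.H1KoszTw.Θ V he (q + 1) z))) = _
      rw [Groth.Agent.H1KoszTw.theta_twist C D V he (q + 1) θ z, KoszTw.tensorMap_tmul]
      rfl
    have hinj := (Groth.Agent.H1KoszTw.tmul_frame_bijective (M := C.K.X q)
      (Groth.Agent.H1KoszTw.isFrame_tprod he (q + 1))).1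
    have h0 : SecTwist.tmul (C.K.X q) (CohB1.tensorPow L (q + 1)) V.1 0
          (KoszTw.tprod L (q + 1) V.1 fun _ => e) = 0 :=
      (Groth.Agent.H1KoszTw.tmulEquiv (C.K.X q) (Groth.Agent.H1KoszTw.isFrame_tprod he (q + 1))).map_zero
    rw [hθ]
    constructor
    · intro h
      have h1 := hinj (h.trans h0.symm)
      rw [h1, map_zero, map_zero, ← hy] at hd
      refine (D.loc q V).injective ?_
      rw [map_zero]
      exact Groth.Agent.H1KoszTw.smul_exteriorPower_eq_zero (b.map (Groth.Agent.H1KoszTw.tmulEquiv F he))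
        (fun r hr => Groth.Agent.H1KoszTw.regular_of_mono lam ha hr) q hd
    · intro h
      rw [← hy, h, map_zero, smul_zero] at hd
      have h1 : (C.K.d (q + 1) q).app V.1 ((C.loc (q + 1) V).symm z) = 0 := by
        refine (C.loc q V).injective ((Groth.Agent.H1KoszTw.Θ_bijective V he q).1 ?_)
        rw [map_zero, map_zero]
        exact hd.symm
      rw [h1]
      exact h0
  refine le_antisymm (Limits.le_kernelSubobject _ _ ?_) (Limits.le_kernelSubobject _ _ ?_)
  · refine Groth.Agent.H1KoszTw.hom_eq_zero_of_locally _ fun U z x hx => ?_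
    let g := θ.iso.hom ≫ KoszTw.tensorMap (C.K.d (q + 1) q) (𝟙 (CohB1.tensorPow L (q + 1)))
    obtain ⟨V, i, hxV, hiff⟩ := key x U hx ((Limits.kernelSubobject g).arrow.app U z)
    refine ⟨V, i, hxV, ?_⟩
    show (D.K.d (q + 1) q).app V ((Limits.kernelSubobject g).arrow.app V _) = 0
    rw [Groth.Agent.QCoh.map_app_comm]
    refine hiff.1 ?_
    rw [← Groth.Agent.QCoh.map_app_comm]
    show ((Limits.kernelSubobject g).arrow ≫ g).app V _ = 0
    rw [Limits.kernelSubobject_arrow_comp]
    rfl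
  · refine Groth.Agent.H1KoszTw.hom_eq_zero_of_locally _ fun U z x hx => ?_
    let g := θ.iso.hom ≫ KoszTw.tensorMap (C.K.d (q + 1) q) (𝟙 (CohB1.tensorPow L (q + 1)))
    obtain ⟨V, i, hxV, hiff⟩ := key x U hx ((Limits.kernelSubobject (D.K.d (q + 1) q)).arrow.app U z)
    refine ⟨V, i, hxV, ?_⟩
    show g.app V ((Limits.kernelSubobject (D.K.d (q + 1) q)).arrow.app V _) = 0
    rw [Groth.Agent.QCoh.map_app_comm]
    refine hiff.2 ?_
    rw [← Groth.Agent.QCoh.map_app_comm]
    show ((Limits.kernelSubobject (D.K.d (q + 1) q)).arrow ≫ D.K.d (q + 1) q).app V _ = 0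
    rw [Limits.kernelSubobject_arrow_comp]
    rfl

end Groth.Agent.S16093
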