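import Groth.Statements.S16094
import Groth.Agent.H1KoszTw.Basic

set_option autoImplicit false
set_option linter.style.haveILetI false
set_option backward.isDefEq.respectTransparency false
set_option backward.isDefEq.respectTransparency.types false
universe u
open CategoryTheory AlgebraicGeometry Opposite
open KoszTw

namespace Groth.Agent.S16094

/-- Let X be a scheme, F a finite locally free O_X-module, L an invertible O_X-module, s : F → O_X and t
: F ⊗ L → O_X cosections and λ : O_X → L a global section such that λ(t(f ⊗ l)) = s(f) · l for all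
sections f of F and l of L over every open. Let K(F, s) and K(F ⊗ L, t) be Koszul complexes of s and
of t, with differentials ∂ and δ and degree-p terms K_p(F, s), K_p(F ⊗ L, t) the p-th exterior
powers of F and of F ⊗ L; fix q ≥ 0 and let θ : K_q(F ⊗ L, t) ≅ K_q(F, s) ⊗ L^{⊗q} be the
identification Λ^q(F ⊗ L) ≅ Λ^q F ⊗ L^{⊗q} that sends (f_1 ⊗ l_1) ∧ ⋯ ∧ (f_q ⊗ l_q) to (f_1 ∧ ⋯ ∧
f_q) ⊗ (l_1 ⊗ ⋯ ⊗ l_q) on sections over every affine open. Write L^{⊗(q+1)} as L^{⊗q} ⊗ L (no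
associativity isomorphism is used). Then, as subobjects of (K_q(F, s) ⊗ L^{⊗q}) ⊗ L, the image of
(∂_{q+1} ⊗ 1_{L^{⊗q}}) ⊗ 1_L : (K_{q+1}(F, s) ⊗ L^{⊗q}) ⊗ L → (K_q(F, s) ⊗ L^{⊗q}) ⊗ L equals the
image of the composite of K_{q+1}(F ⊗ L, t) ≅ K_{q+1}(F ⊗ L, t) ⊗ O_X, of δ_{q+1} ⊗ λ : K_{q+1}(F ⊗
L, t) ⊗ O_X → K_q(F ⊗ L, t) ⊗ L, and of θ ⊗ 1_L; in words, θ ⊗ 1_L identifies Im(δ_{q+1}) ⊗ λ(O_X)
with Im(∂_{q+1} ⊗ 1_{L^{⊗(q+1)}}). (The published statement is for an arbitrary integer twist n and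
prints the right-hand side as Im(δ_{q+1}) ⊗ λ(O_X) ⊗ L^{⊗(n-q+1)}; the exponent that makes both
sides subsheaves of Λ^q F ⊗ L^{⊗n}, and the one the argument yields, is n - q - 1, and that family
follows from the case n = q + 1 stated here by tensoring with the invertible module L^{⊗(n-q-1)},
negative tensor powers not being used here. The published hypothesis that s is non-zero is dropped:
the image identity needs no injectivity of λ.) -/
theorem result {X : Scheme.{u}} (F L : X.Modules)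
    (hF : FlatMod.IsFinLocFree F) (hL : PicF.IsInvertible L)
    (s : F ⟶ Coh.structureModule X) (lam : Coh.structureModule X ⟶ L)
    (t : CohB1.tensorMod F L ⟶ Coh.structureModule X) (htri : KoszTw.TwistTriangle s lam t)
    (C : KoszSh.Cx F s) (D : KoszSh.Cx (CohB1.tensorMod F L) t) (q : ℕ) (θ : KoszTw.CxDecData C D q) :
    Limits.imageSubobject (KoszTw.tensorMap (KoszTw.tensorMap (C.K.d (q + 1) q) (𝟙 (CohB1.tensorPow L q))) (𝟙 L)) =
      Limits.imageSubobject ((SecTwist.unitorR (D.K.X (q + 1))).inv ≫ KoszTw.tensorMap (D.K.d (q + 1) q) lam ≫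
        KoszTw.tensorMap θ.iso.hom (𝟙 L)) := by
  let A := KoszTw.tensorMap (KoszTw.tensorMap (C.K.d (q + 1) q) (𝟙 (CohB1.tensorPow L q))) (𝟙 L)
  let B := (SecTwist.unitorR (D.K.X (q + 1))).inv ≫ KoszTw.tensorMap (D.K.d (q + 1) q) lam ≫
    KoszTw.tensorMap θ.iso.hom (𝟙 L)
  have key : ∀ (V : X.affineOpens) (e : Γ(L, V.1)) (he : Groth.Agent.InvX.IsFrame e)
      (z : ↥(⋀[Γ(X, V.1)]^(q + 1) Γ(F, V.1))),
      B.app V.1 ((D.loc (q + 1) V).symm (Groth.Agent.H1KoszTw.Θ V he (q + 1) z)) =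
        A.app V.1 (SecTwist.tmul _ L V.1 (SecTwist.tmul (C.K.X (q + 1)) (CohB1.tensorPow L q) V.1
          ((C.loc (q + 1) V).symm z) (KoszTw.tprod L q V.1 fun _ => e)) e) := by
    intro V e he z
    obtain ⟨a, ha⟩ := he.exists_coord le_rfl (lam.app V.1 ((1 : Γ(X, V.1)) : Γ(Coh.structureModule X, V.1)))
    rw [Groth.Agent.AModX.res_self] at ha
    have hd := Groth.Agent.H1KoszTw.smul_d_twist C D V he htri ha q z
    let w : Γ(D.K.X (q + 1), V.1) := (D.loc (q + 1) V).symm (Groth.Agent.H1KoszTw.Θ V he (q + 1) z)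
    have hu : (SecTwist.unitorR (D.K.X (q + 1))).inv.app V.1 w =
        SecTwist.tmul (D.K.X (q + 1)) (Coh.structureModule X) V.1 w (1 : Γ(X, V.1)) := by
      have h : (SecTwist.unitorR (D.K.X (q + 1))).hom.app V.1
          (SecTwist.tmul (D.K.X (q + 1)) (Coh.structureModule X) V.1 w (1 : Γ(X, V.1))) = w :=
        (SecTwist.unitorR_tmul (D.K.X (q + 1)) V.1 w (1 : Γ(X, V.1))).trans (one_smul _ _)
      conv_lhs => rw [← h]
      show ((SecTwist.unitorR (D.K.X (q + 1))).hom ≫ (SecTwist.unitorR (D.K.X (q + 1))).inv).app V.1 _ = _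
      rw [Iso.hom_inv_id]
      rfl
    show (KoszTw.tensorMap θ.iso.hom (𝟙 L)).app V.1 ((KoszTw.tensorMap (D.K.d (q + 1) q) lam).app V.1
      ((SecTwist.unitorR (D.K.X (q + 1))).inv.app V.1 w)) = _
    rw [hu, KoszTw.tensorMap_tmul, ha, Groth.Agent.H1KoszTw.tmul_smul, ← Groth.Agent.H1KoszTw.smul_tmul,
      KoszTw.tensorMap_tmul, KoszTw.tensorMap_tmul, KoszTw.tensorMap_tmul]
    refine congrArg₂ (SecTwist.tmul _ L V.1) ?_ rfl
    have hw : a • (D.K.d (q + 1) q).app V.1 w = (D.loc q V).symm (Groth.Agent.H1KoszTw.Θ V he q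
        (C.loc q V ((C.K.d (q + 1) q).app V.1 ((C.loc (q + 1) V).symm z)))) := by
      rw [← hd, map_smul, LinearEquiv.symm_apply_apply]
    rw [hw, Groth.Agent.H1KoszTw.theta_twist C D V he q θ, LinearEquiv.symm_apply_apply]
    rfl
  refine le_antisymm (Groth.Agent.H1KoszTw.imageSubobject_le_of_comp_cokernel _ _ ?_)
    (Groth.Agent.H1KoszTw.imageSubobject_le_of_comp_cokernel _ _ ?_)
  · refine Groth.Agent.H1KoszTw.hom_eq_zero_of_locally _ fun U y x hx => ?_
    obtain ⟨V, hxV, i, e, he, k, -⟩ := Groth.Agent.H1KoszTw.exists_chart hF hL hx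
    refine ⟨V.1, i, hxV, ?_⟩
    obtain ⟨y₁, hy₁⟩ := (Groth.Agent.H1KoszTw.tmul_frame_bijective
      (M := CohB1.tensorMod (C.K.X (q + 1)) (CohB1.tensorPow L q)) he).2
      ((CohB1.tensorMod (CohB1.tensorMod (C.K.X (q + 1)) (CohB1.tensorPow L q)) L).presheaf.map (homOfLE i).op y)
    obtain ⟨m, hm⟩ := (Groth.Agent.H1KoszTw.tmul_frame_bijective (M := C.K.X (q + 1))
      (Groth.Agent.H1KoszTw.isFrame_tprod he q)).2 y₁
    rw [← hy₁, ← hm]
    show (Limits.cokernel.π B).app V.1 (A.app V.1 _) = 0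
    have h1 := key V e he (C.loc (q + 1) V m)
    rw [LinearEquiv.symm_apply_apply] at h1
    rw [← h1]
    show (B ≫ Limits.cokernel.π B).app V.1 _ = 0
    rw [Limits.cokernel.condition]
    rfl
  · refine Groth.Agent.H1KoszTw.hom_eq_zero_of_locally _ fun U y x hx => ?_
    obtain ⟨V, hxV, i, e, he, k, -⟩ := Groth.Agent.H1KoszTw.exists_chart hF hL hx
    refine ⟨V.1, i, hxV, ?_⟩
    obtain ⟨z, hz⟩ := (Groth.Agent.H1KoszTw.Θ_bijective V he (q + 1)).2
      (D.loc (q + 1) V ((D.K.X (q + 1)).presheaf.map (homOfLE i).op y))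
    have hy : (D.K.X (q + 1)).presheaf.map (homOfLE i).op y =
        (D.loc (q + 1) V).symm (Groth.Agent.H1KoszTw.Θ V he (q + 1) z) := by
      rw [hz, LinearEquiv.symm_apply_apply]
    rw [hy]
    show (Limits.cokernel.π A).app V.1 (B.app V.1 _) = 0
    rw [key V e he z]
    show (A ≫ Limits.cokernel.π A).app V.1 _ = 0
    rw [Limits.cokernel.condition]
    rfl

end Groth.Agent.S16094
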