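import Groth.Statements.S16105
import Groth.Agent.ComodLib.Invariants
import Groth.Agent.ComodLib.Integral
import Groth.Agent.AdicLib.Basic
import Mathlib.RingTheory.Filtration
import Mathlib.RingTheory.Artinian.Module
import Groth.Agent.ArtFunLib.Hull.Ring
-- import your own Groth.Agent.* helpers here

set_option autoImplicit false
universe u v w w'
open LunaSt

namespace Groth.Agent.S16105

section chevalley

variable {R : Type*} [CommRing R] [IsLocalRing R] [IsNoetherianRing R]
  [IsAdicComplete (IsLocalRing.maximalIdeal R) R]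
variable {P : Type*} [AddCommGroup P] [Module R P] [Module.Finite R P]

local notation "𝔪" => IsLocalRing.maximalIdeal R

theorem closed (F : Submodule R P) {y : P} (h : ∀ j, y ∈ F ⊔ 𝔪 ^ j • (⊤ : Submodule R P)) : y ∈ F := by
  rw [← Submodule.Quotient.mk_eq_zero]
  have hH : IsHausdorff 𝔪 (P ⧸ F) := IsHausdorff.of_le_jacobson _ _ (IsAdicComplete.le_jacobson_bot _)
  refine hH.haus _ fun j => ?_
  rw [SModEq.zero]
  have := Submodule.mem_map_of_mem (f := F.mkQ) (h j)
  rw [Submodule.map_sup, Submodule.map_smul'', Submodule.map_top, Submodule.range_mkQ,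
    Submodule.mkQ_map_self, bot_sup_eq] at this
  exact this

theorem isArtinian_quotient (j : ℕ) : IsArtinian R (P ⧸ 𝔪 ^ j • (⊤ : Submodule R P)) := by
  have : IsArtinianRing (R ⧸ 𝔪 ^ j) := Groth.Agent.ArtFunLib.Hull.isArtinianRing_quotient_pow _ j
  have : Module.Finite (R ⧸ 𝔪 ^ j) (P ⧸ 𝔪 ^ j • (⊤ : Submodule R P)) :=
    Module.Finite.of_restrictScalars_finite R _ _
  exact isArtinian_of_surjective_algebraMap (R := R ⧸ 𝔪 ^ j) (S := R) Ideal.Quotient.mk_surjective

theorem stabilises (F : ℕ → Submodule R P) (hF : Antitone F) (j : ℕ) :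
    ∃ n₀, ∀ n, n₀ ≤ n → F n ⊔ 𝔪 ^ j • (⊤ : Submodule R P) = F n₀ ⊔ 𝔪 ^ j • ⊤ := by
  have := isArtinian_quotient (R := R) (P := P) j
  obtain ⟨n₀, hn₀⟩ := IsArtinian.monotone_stabilizes (R := R) (M := P ⧸ 𝔪 ^ j • (⊤ : Submodule R P))
    ⟨fun n => OrderDual.toDual ((F n).map (Submodule.mkQ _)), fun a b hab => Submodule.map_mono (hF hab)⟩
  refine ⟨n₀, fun n hn => ?_⟩
  have e : (F n₀).map (Submodule.mkQ (𝔪 ^ j • (⊤ : Submodule R P))) = (F n).map (Submodule.mkQ _) :=
    congrArg OrderDual.ofDual (hn₀ n hn)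
  have e' := congrArg (Submodule.comap (Submodule.mkQ _)) e
  rw [Submodule.comap_map_mkQ, Submodule.comap_map_mkQ] at e'
  rw [sup_comm, ← e', sup_comm]


/-- Chevalley's lemma. -/
theorem chevalley (F : ℕ → Submodule R P) (hF : Antitone F) (h0 : ∀ x, (∀ n, x ∈ F n) → x = 0) (j : ℕ) :
    ∃ n, F n ≤ 𝔪 ^ j • (⊤ : Submodule R P) := by
  have := Groth.Agent.AdicLib.isAdicComplete_of_finite 𝔪 P
  choose N hN using stabilises F hF
  let G : ℕ → Submodule R P := fun i => F (N i) ⊔ 𝔪 ^ i • ⊤
  have hG : ∀ i n, G i ≤ F n ⊔ 𝔪 ^ i • ⊤ := fun i n => by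
    rcases le_total (N i) n with h | h
    · exact (hN i n h).ge
    · exact sup_le_sup_right (hF h) _
  have step : ∀ i, ∀ x ∈ G i, ∃ x' ∈ G (i + 1), x' - x ∈ 𝔪 ^ i • (⊤ : Submodule R P) := by
    intro i x hx
    obtain ⟨f, hf, e, he, rfl⟩ := Submodule.mem_sup.1 (hG i (N (i + 1)) hx)
    exact ⟨f, Submodule.mem_sup_left hf, by simpa using neg_mem he⟩
  refine ⟨N j, fun x hx => ?_⟩
  choose! φ hφ1 hφ2 using step
  let s : ℕ → P := fun i => Nat.rec x (fun i y => φ (j + i) y) i
  have hs : ∀ i, s i ∈ G (j + i) := fun i => by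
    induction i with
    | zero => exact Submodule.mem_sup_left hx
    | succ i ih => exact hφ1 _ _ ih
  have hs' : ∀ i, s (i + 1) - s i ∈ 𝔪 ^ (j + i) • (⊤ : Submodule R P) := fun i => hφ2 _ _ (hs i)
  have hle : ∀ {a b}, a ≤ b → s b - s a ∈ 𝔪 ^ (j + a) • (⊤ : Submodule R P) := by
    intro a b hab
    induction b, hab using Nat.le_induction with
    | base => simp
    | succ b hab ih =>
      rw [← sub_add_sub_cancel (s (b + 1)) (s b) (s a)]
      exact add_mem (Submodule.smul_mono_left (Ideal.pow_le_pow_right (by omega)) (hs' b)) ih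
  obtain ⟨y, hy⟩ := IsPrecomplete.prec (inferInstance : IsPrecomplete 𝔪 P) (f := s) fun {a b} hab => by
    rw [SModEq.sub_mem, ← neg_sub]
    exact neg_mem (Submodule.smul_mono_left (Ideal.pow_le_pow_right (by omega)) (hle hab))
  have hyF : y = 0 := h0 y fun n => closed _ fun i => by
    have h1 := hG (j + i) n (hs i)
    have h2 : y - s i ∈ 𝔪 ^ i • (⊤ : Submodule R P) := by
      rw [← neg_sub]; exact neg_mem (SModEq.sub_mem.1 (hy i))
    rw [← add_sub_cancel (s i) y]
    exact add_mem (sup_le_sup_left (Submodule.smul_mono_left (Ideal.pow_le_pow_right (Nat.le_add_left i j))) (F n) h1)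
      (Submodule.mem_sup_right h2)
  have h1 := SModEq.sub_mem.1 (hy j)
  rw [hyF, sub_zero] at h1
  have hs0 : s 0 = x := rfl
  have h2 := hle (Nat.zero_le j)
  rw [hs0, add_zero] at h2
  simpa using sub_mem h1 h2


theorem exists_limit (F : ℕ → Submodule R P) (hF : Antitone F) (h0 : ∀ x, (∀ n, x ∈ F n) → x = 0)
    (x : ℕ → P) (hx : ∀ n, x (n + 1) - x n ∈ F n) : ∃ y, ∀ n, y - x n ∈ F n := by
  have := Groth.Agent.AdicLib.isAdicComplete_of_finite 𝔪 P
  have hle : ∀ {a b}, a ≤ b → x b - x a ∈ F a := by
    intro a b hab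
    induction b, hab using Nat.le_induction with
    | base => simp
    | succ b hab ih =>
      rw [← sub_add_sub_cancel (x (b + 1)) (x b) (x a)]
      exact add_mem (hF hab (hx b)) ih
  choose N hN using chevalley F hF h0
  let N' : ℕ → ℕ := fun i => Nat.rec (N 0) (fun i m => max m (N (i + 1))) i
  have hN'mono : Monotone N' := monotone_nat_of_le_succ fun i => le_max_left _ _
  have hN' : ∀ i, N i ≤ N' i := fun i => by
    cases i with
    | zero => exact le_rfl
    | succ i => exact le_max_right _ _
  obtain ⟨y, hy⟩ := IsPrecomplete.prec (inferInstance : IsPrecomplete 𝔪 P) (f := fun i => x (N' i))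
    fun {a b} hab => by
      rw [SModEq.sub_mem, ← neg_sub]
      exact neg_mem (hN a (hF (hN' a) (hle (hN'mono hab))))
  refine ⟨y, fun n => closed _ fun i => ?_⟩
  have h1 : y - x (N' i) ∈ 𝔪 ^ i • (⊤ : Submodule R P) := by
    rw [← neg_sub]; exact neg_mem (SModEq.sub_mem.1 (hy i))
  rcases le_total n (N' i) with h | h
  · rw [← sub_add_sub_cancel y (x (N' i)) (x n)]
    exact add_mem (Submodule.mem_sup_right h1) (Submodule.mem_sup_left (hle h))
  · rw [← sub_sub_sub_cancel_right y (x n) (x (N' i))]
    exact sub_mem (Submodule.mem_sup_right h1)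
      (Submodule.mem_sup_right (hN i (hF (hN' i) (hle h))))

end chevalley

/-- The key claim of its proof. Let k be a field and H a commutative Hopf algebra of finite type over k
all of whose finite-dimensional comodules are semisimple (a linearly reductive affine group G = Spec
H). Let A be a Noetherian commutative k-algebra with a coaction of H that is an algebra map (an
action of G on Spec A), let m be a maximal ideal of A stable under the coaction (for instance the
ideal of a closed point fixed by G), and assume that the ring of invariants A^G is a Noetherian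
local ring, complete with respect to its maximal ideal. Let M be a finite A-module with a compatible
H-coaction (a coherent G-module on Spec A). Then (i) an invariant element of M which lies in m^n M
for every n is zero, and (ii) for every sequence of invariants x_0, x_1, … with x_(n+1) − x_n ∈ m^n
M there is an invariant x with x − x_n ∈ m^n M for all n. In other words M^G → lim_n M^G/(m^n M)^G
is bijective: the m-adic filtration and the filtration by powers of the maximal ideal of A^G induce
the same topology on M^G. (The ring of invariants is assumed Noetherian here; this also follows from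
linear reductivity.) -/
theorem result
    (k : Type u) [Field k] (H : Type v) [CommRing H] [HopfAlgebra k H] [Algebra.FiniteType k H]
    (hG : HopfRep.IsLinearlyReductive k H)
    (A : Type w) [CommRing A] [Algebra k A] [IsNoetherianRing A]
    [HopfRep.Comod k H A] [GLin.IsCoactAlg k H A]
    (m : Ideal A) [m.IsMaximal] (hm : HopfRep.IsSubcomod (k := k) (A := H) (m.restrictScalars k))
    [IsLocalRing ↥(GLin.invariants k H A)] [IsNoetherianRing ↥(GLin.invariants k H A)]
    [IsAdicComplete (IsLocalRing.maximalIdeal ↥(GLin.invariants k H A)) ↥(GLin.invariants k H A)]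
    (M : Type w') [AddCommGroup M] [Module k M] [Module A M] [IsScalarTower k A M] [Module.Finite A M]
    [HopfRep.Comod k H M] [TameAct.IsHopfMod k H A M] :
    (∀ x ∈ HopfRep.fixedPts k H M, (∀ n : ℕ, x ∈ (m ^ n • ⊤ : Submodule A M)) → x = 0) ∧
      ∀ x : ℕ → M, (∀ n, x n ∈ HopfRep.fixedPts k H M) →
        (∀ n, x (n + 1) - x n ∈ (m ^ n • ⊤ : Submodule A M)) →
          ∃ y ∈ HopfRep.fixedPts k H M, ∀ n, y - x n ∈ (m ^ n • ⊤ : Submodule A M) := by
  obtain ⟨α, hα, h1⟩ := ComodLib.exists_integral_of_isLinearlyReductive hG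
  have hsep : ∀ x ∈ HopfRep.fixedPts k H M, (∀ n : ℕ, x ∈ (m ^ n • ⊤ : Submodule A M)) → x = 0 := by
    intro x hx hxn
    obtain ⟨⟨a, ha⟩, hax⟩ := (m.mem_iInf_smul_pow_eq_bot_iff x).1 (Submodule.mem_iInf _ |>.2 hxn)
    have h2 : ComodLib.rey α a • x = x := by
      rw [← ComodLib.rey_smul_fixed a hx, show a • x = x from hax, ComodLib.rey_of_fixed h1 hx]
    let e : GLin.invariants k H A := ⟨ComodLib.rey α a, ComodLib.rey_mem_fixedPts hα a⟩
    have he : ¬ IsUnit e := fun hu => ‹m.IsMaximal›.ne_top (Ideal.eq_top_of_isUnit_mem _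
      (ComodLib.rey_mem_of_isSubcomod (α := α) hm (show a ∈ m.restrictScalars k from ha))
      (hu.map (GLin.invariants k H A).val))
    obtain ⟨v, hv⟩ := (IsLocalRing.isUnit_one_sub_self_of_mem_nonunits _ he).exists_left_inv
    have h3 := congrArg (fun r : GLin.invariants k H A => (r : A) • x) hv
    simp only [Subalgebra.coe_mul, Subalgebra.coe_sub, Subalgebra.coe_one, one_smul, mul_smul, sub_smul] at h3
    rw [show (e : A) • x = x from h2, sub_self, smul_zero] at h3
    exact h3.symm
  refine ⟨hsep, fun x hx hxn => ?_⟩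
  let P : Submodule (GLin.invariants k H A) M :=
    { carrier := HopfRep.fixedPts k H M
      add_mem' := fun ha hb => add_mem ha hb
      zero_mem' := zero_mem _
      smul_mem' := fun b y hy => by
        show (b : A) • y ∈ HopfRep.fixedPts k H M
        have h2 := ComodLib.rey_smul_fixed (α := α) (b : A) hy
        rw [ComodLib.rey_of_fixed h1 (show (b : A) ∈ HopfRep.fixedPts k H A from b.2)] at h2
        exact h2 ▸ ComodLib.rey_mem_fixedPts hα _ }
  haveI : Module.Finite (GLin.invariants k H A) P := by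
    classical
    obtain ⟨s, hs, hgen⟩ := ComodLib.exists_finset_fixedPts (R := A) (M := M) hα h1
    rw [Module.Finite.iff_fg]
    refine ⟨s, le_antisymm (Submodule.span_le.2 hs) fun y hy => ?_⟩
    obtain ⟨c, hc, rfl⟩ := hgen y hy
    exact sum_mem fun z hz => (Submodule.span _ _).smul_mem (⟨c z, hc z hz⟩ : GLin.invariants k H A)
      (Submodule.subset_span hz)
  let F : ℕ → Submodule (GLin.invariants k H A) P := fun n =>
    ((m ^ n • ⊤ : Submodule A M).restrictScalars (GLin.invariants k H A)).comap P.subtype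
  have hFmem : ∀ (n : ℕ) (z : P), z ∈ F n ↔ P.subtype z ∈ (m ^ n • ⊤ : Submodule A M) := fun n z => Iff.rfl
  have hanti : Antitone F := fun a b hab z hz =>
    (hFmem a z).2 (Submodule.smul_mono_left (Ideal.pow_le_pow_right hab) ((hFmem b z).1 hz))
  have h0 : ∀ z : P, (∀ n, z ∈ F n) → z = 0 := fun z hz =>
    Subtype.ext (hsep (P.subtype z) z.2 fun n => (hFmem n z).1 (hz n))
  let x' : ℕ → P := fun n => ⟨x n, hx n⟩
  have hx' : ∀ n, x' (n + 1) - x' n ∈ F n := fun n => (hFmem n _).2 (by
    rw [map_sub]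
    exact hxn n)
  obtain ⟨y, hy⟩ := exists_limit F hanti h0 x' hx'
  refine ⟨P.subtype y, y.2, fun n => ?_⟩
  have h2 := (hFmem n _).1 (hy n)
  rw [map_sub] at h2
  exact h2

end Groth.Agent.S16105
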