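import Groth.Statements.S16107
import Groth.Agent.ComodLib.Invariants
import Groth.Agent.ComodLib.Integral
-- import your own Groth.Agent.* helpers here

set_option autoImplicit false
universe u v w
open LunaSt

namespace Groth.Agent.S16107

open TensorProduct WithConv

section diag

variable {k : Type u} [Field k] {H : Type v} [CommRing H] [HopfAlgebra k H]
  {A : Type w} [CommRing A] [Algebra k A] [HopfRep.Comod k H A] [GLin.IsCoactAlg k H A]

noncomputable def inA : A ⊗[k] H →ₐ[k] (A ⊗[k] H) ⊗[k] H :=
  Algebra.TensorProduct.map Algebra.TensorProduct.includeLeft (AlgHom.id k H)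

noncomputable def inH : H ⊗[k] H →ₐ[k] (A ⊗[k] H) ⊗[k] H :=
  Algebra.TensorProduct.map Algebra.TensorProduct.includeRight (AlgHom.id k H)

variable (k H A) in
/-- The diagonal coaction on `A ⊗ H`. -/
noncomputable def rho : A ⊗[k] H →ₐ[k] (A ⊗[k] H) ⊗[k] H :=
  Algebra.TensorProduct.lift (inA.comp (GLin.coactAlgHom k H A)) (inH.comp (Bialgebra.comulAlgHom k H))
    fun _ _ => Commute.all _ _

theorem rho_tmul (a : A) (h : H) : rho k H A (a ⊗ₜ h) =
    inA (HopfRep.Comod.coact (k := k) (A := H) a) * inH (Coalgebra.comul (R := k) h) := by
  simp [rho, Algebra.TensorProduct.lift_tmul]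

/-- `A ⊗ H` with the diagonal coaction. -/
@[reducible] noncomputable def diagComod : HopfRep.Comod k H (A ⊗[k] H) where
  coact := (rho k H A).toLinearMap
  coassoc := by
    let L : A ⊗[k] H →ₐ[k] (A ⊗[k] H) ⊗[k] (H ⊗[k] H) :=
      (Algebra.TensorProduct.assoc k k k (A ⊗[k] H) H H).toAlgHom.comp
        ((Algebra.TensorProduct.map (rho k H A) (AlgHom.id k H)).comp (rho k H A))
    let R : A ⊗[k] H →ₐ[k] (A ⊗[k] H) ⊗[k] (H ⊗[k] H) :=
      (Algebra.TensorProduct.map (AlgHom.id k (A ⊗[k] H)) (Bialgebra.comulAlgHom k H)).comp (rho k H A)
    have e : L = R := by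
      refine Algebra.TensorProduct.ext ?_ ?_
      · refine AlgHom.ext fun a => ?_
        have h := LinearMap.congr_fun (HopfRep.Comod.coassoc (k := k) (A := H) (V := A)) a
        have h' := congrArg (LinearMap.rTensor (H ⊗[k] H)
          (Algebra.TensorProduct.includeLeft : A →ₐ[k] A ⊗[k] H).toLinearMap) h
        simp only [LinearMap.comp_apply, LinearEquiv.coe_coe] at h'
        show L (a ⊗ₜ 1) = R (a ⊗ₜ 1)
        have hl : ∀ z : A ⊗[k] H, (Algebra.TensorProduct.assoc k k k (A ⊗[k] H) H H).toAlgHom
            (Algebra.TensorProduct.map (rho k H A) (AlgHom.id k H) (inA z)) =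
            LinearMap.rTensor (H ⊗[k] H) (Algebra.TensorProduct.includeLeft : A →ₐ[k] A ⊗[k] H).toLinearMap
              (TensorProduct.assoc k A H H ((HopfRep.Comod.coact (k := k) (A := H)).rTensor H z)) := fun z => by
          induction z using TensorProduct.induction_on with
          | zero => simp
          | add p q hp hq => simp only [map_add, hp, hq]
          | tmul b g =>
            simp only [inA, Algebra.TensorProduct.map_tmul, AlgHom.id_apply, LinearMap.rTensor_tmul,
              Algebra.TensorProduct.includeLeft_apply]
            rw [rho_tmul, Bialgebra.comul_one, map_one, mul_one]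
            generalize HopfRep.Comod.coact (k := k) (A := H) b = y
            induction y using TensorProduct.induction_on with
            | zero => simp
            | add p q hp hq => simp only [add_tmul, map_add, hp, hq]
            | tmul c d => simp [inA]
        have hr : ∀ z : A ⊗[k] H, Algebra.TensorProduct.map (AlgHom.id k (A ⊗[k] H)) (Bialgebra.comulAlgHom k H) (inA z) =
            LinearMap.rTensor (H ⊗[k] H) (Algebra.TensorProduct.includeLeft : A →ₐ[k] A ⊗[k] H).toLinearMap
              ((Coalgebra.comul (R := k)).lTensor A z) := fun z => by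
          induction z using TensorProduct.induction_on with
          | zero => simp
          | add p q hp hq => simp only [map_add, hp, hq]
          | tmul b g => simp [inA]
        simp only [L, R, AlgHom.comp_apply, rho_tmul, Bialgebra.comul_one, map_one, mul_one]
        rw [hl, hr]
        exact h'
      · refine AlgHom.ext fun g => ?_
        have h := Coalgebra.coassoc_apply (R := k) g
        have h' := congrArg (LinearMap.rTensor (H ⊗[k] H)
          (Algebra.TensorProduct.includeRight : H →ₐ[k] A ⊗[k] H).toLinearMap) h
        show L (1 ⊗ₜ g) = R (1 ⊗ₜ g)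
        have hl : ∀ z : H ⊗[k] H, (Algebra.TensorProduct.assoc k k k (A ⊗[k] H) H H).toAlgHom
            (Algebra.TensorProduct.map (rho k H A) (AlgHom.id k H) (inH z)) =
            LinearMap.rTensor (H ⊗[k] H) (Algebra.TensorProduct.includeRight : H →ₐ[k] A ⊗[k] H).toLinearMap
              (TensorProduct.assoc k H H H ((Coalgebra.comul (R := k)).rTensor H z)) := fun z => by
          induction z using TensorProduct.induction_on with
          | zero => simp
          | add p q hp hq => simp only [map_add, hp, hq]
          | tmul b g =>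
            simp only [inH, Algebra.TensorProduct.map_tmul, AlgHom.id_apply, LinearMap.rTensor_tmul,
              Algebra.TensorProduct.includeRight_apply]
            rw [rho_tmul, GLin.IsCoactAlg.coact_one, map_one, one_mul]
            generalize Coalgebra.comul (R := k) b = y
            induction y using TensorProduct.induction_on with
            | zero => simp
            | add p q hp hq => simp only [add_tmul, map_add, hp, hq]
            | tmul c d => simp [inH]
        have hr : ∀ z : H ⊗[k] H, Algebra.TensorProduct.map (AlgHom.id k (A ⊗[k] H)) (Bialgebra.comulAlgHom k H) (inH z) =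
            LinearMap.rTensor (H ⊗[k] H) (Algebra.TensorProduct.includeRight : H →ₐ[k] A ⊗[k] H).toLinearMap
              ((Coalgebra.comul (R := k)).lTensor H z) := fun z => by
          induction z using TensorProduct.induction_on with
          | zero => simp
          | add p q hp hq => simp only [map_add, hp, hq]
          | tmul b g => simp [inH]
        simp only [L, R, AlgHom.comp_apply, rho_tmul, GLin.IsCoactAlg.coact_one, map_one, one_mul]
        rw [hl, hr]
        exact h'
    refine LinearMap.ext fun z => ?_
    have := AlgHom.congr_fun e z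
    exact this
  counit_comp := by
    let L : A ⊗[k] H →ₐ[k] (A ⊗[k] H) ⊗[k] k :=
      (Algebra.TensorProduct.map (AlgHom.id k (A ⊗[k] H)) (Bialgebra.counitAlgHom k H)).comp (rho k H A)
    have e : L = Algebra.TensorProduct.includeLeft := by
      refine Algebra.TensorProduct.ext ?_ ?_
      · refine AlgHom.ext fun a => ?_
        have h := LinearMap.congr_fun (HopfRep.Comod.counit_comp (k := k) (A := H) (V := A)) a
        simp only [LinearMap.comp_apply, LinearMap.flip_apply, TensorProduct.mk_apply] at h
        have h' := congrArg (LinearMap.rTensor k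
          (Algebra.TensorProduct.includeLeft : A →ₐ[k] A ⊗[k] H).toLinearMap) h
        have hl : ∀ z : A ⊗[k] H, Algebra.TensorProduct.map (AlgHom.id k (A ⊗[k] H)) (Bialgebra.counitAlgHom k H) (inA z) =
            LinearMap.rTensor k (Algebra.TensorProduct.includeLeft : A →ₐ[k] A ⊗[k] H).toLinearMap
              ((Coalgebra.counit (R := k)).lTensor A z) := fun z => by
          induction z using TensorProduct.induction_on with
          | zero => simp
          | add p q hp hq => simp only [map_add, hp, hq]
          | tmul b g => simp [inA]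
        show L (a ⊗ₜ 1) = (a ⊗ₜ 1) ⊗ₜ 1
        simp only [L, AlgHom.comp_apply, rho_tmul, Bialgebra.comul_one, map_one, mul_one]
        rw [hl]
        exact h'
      · refine AlgHom.ext fun g => ?_
        have h := LinearMap.congr_fun (Coalgebra.lTensor_counit_comp_comul (R := k) (A := H)) g
        have h' := congrArg (LinearMap.rTensor k
          (Algebra.TensorProduct.includeRight : H →ₐ[k] A ⊗[k] H).toLinearMap) h
        have hl : ∀ z : H ⊗[k] H, Algebra.TensorProduct.map (AlgHom.id k (A ⊗[k] H)) (Bialgebra.counitAlgHom k H) (inH z) =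
            LinearMap.rTensor k (Algebra.TensorProduct.includeRight : H →ₐ[k] A ⊗[k] H).toLinearMap
              ((Coalgebra.counit (R := k)).lTensor H z) := fun z => by
          induction z using TensorProduct.induction_on with
          | zero => simp
          | add p q hp hq => simp only [map_add, hp, hq]
          | tmul b g => simp [inH]
        show L (1 ⊗ₜ g) = (1 ⊗ₜ g) ⊗ₜ 1
        simp only [L, AlgHom.comp_apply, rho_tmul, GLin.IsCoactAlg.coact_one, map_one, one_mul]
        rw [hl]
        exact h'
    refine LinearMap.ext fun z => ?_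
    exact AlgHom.congr_fun e z

variable (k H A) in
/-- `a ↦ ∑ a₀ ⊗ S a₁`. -/
noncomputable def iota : A →ₐ[k] A ⊗[k] H :=
  (Algebra.TensorProduct.map (AlgHom.id k A) (HopfAlgebra.antipodeAlgHom k H)).comp (GLin.coactAlgHom k H A)

theorem conv_key (h : H) :
    Algebra.TensorProduct.lift (Algebra.TensorProduct.includeRight : H →ₐ[k] H ⊗[k] H)
      ((Bialgebra.comulAlgHom k H).comp (HopfAlgebra.antipodeAlgHom k H)) (fun _ _ => Commute.all _ _)
      (Coalgebra.comul (R := k) h) = HopfAlgebra.antipode k h ⊗ₜ 1 := by
  let iL : H →ₐ[k] H ⊗[k] H := Algebra.TensorProduct.includeLeft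
  let iR : H →ₐ[k] H ⊗[k] H := Algebra.TensorProduct.includeRight
  have hδ : toConv iL * toConv iR = toConv (Bialgebra.comulAlgHom k H) := by
    refine WithConv.ofConv_injective (AlgHom.ext fun c => ?_)
    rw [AlgHom.convMul_apply]
    show _ = Coalgebra.comul (R := k) c
    simp only [ofConv_toConv]
    induction Coalgebra.comul (R := k) c using TensorProduct.induction_on with
    | zero => simp
    | tmul p q => simp [iL, iR]
    | add p q hp hq => rw [map_add, hp, hq]
  have hh : toConv iR * (toConv (Bialgebra.comulAlgHom k H))⁻¹ = (toConv iL)⁻¹ := by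
    rw [← hδ, mul_inv_rev (G := WithConv (H →ₐ[k] H ⊗[k] H)), ← mul_assoc,
      mul_inv_cancel (G := WithConv (H →ₐ[k] H ⊗[k] H)), one_mul]
  have h' := DFunLike.congr_fun (congrArg WithConv.ofConv hh) h
  rw [AlgHom.convMul_apply] at h'
  refine Eq.trans ?_ h'
  induction Coalgebra.comul (R := k) h using TensorProduct.induction_on with
  | zero => simp
  | tmul p q =>
    rw [Algebra.TensorProduct.lift_tmul]
    show _ = iR p * Bialgebra.comulAlgHom k H (HopfAlgebra.antipodeAlgHom k H q)
    rfl
  | add p q hp hq => simp only [map_add, hp, hq]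

theorem rho_iota (a : A) : rho k H A (iota k H A a) = iota k H A a ⊗ₜ 1 := by
  let S : H →ₐ[k] H := HopfAlgebra.antipodeAlgHom k H
  let Φ : H ⊗[k] H →ₐ[k] H ⊗[k] H :=
    Algebra.TensorProduct.lift (Algebra.TensorProduct.includeRight : H →ₐ[k] H ⊗[k] H)
      ((Bialgebra.comulAlgHom k H).comp S) (fun _ _ => Commute.all _ _)
  let K : (A ⊗[k] H) ⊗[k] H →ₐ[k] (A ⊗[k] H) ⊗[k] H :=
    Algebra.TensorProduct.lift inA (inH.comp ((Bialgebra.comulAlgHom k H).comp S)) fun _ _ => Commute.all _ _
  have h1 : ∀ z : A ⊗[k] H, rho k H A (Algebra.TensorProduct.map (AlgHom.id k A) S z) =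
      K ((HopfRep.Comod.coact (k := k) (A := H)).rTensor H z) := fun z => by
    induction z using TensorProduct.induction_on with
    | zero => simp
    | add p q hp hq => simp only [map_add, hp, hq]
    | tmul b g => simp [K, rho_tmul, Algebra.TensorProduct.lift_tmul]
  have h2 : ∀ (b : A) (y : H ⊗[k] H), K ((TensorProduct.assoc k A H H).symm (b ⊗ₜ y)) =
      inA (b ⊗ₜ 1) * inH (Φ y) := fun b y => by
    induction y using TensorProduct.induction_on with
    | zero => simp
    | add p q hp hq => simp only [tmul_add, map_add, hp, hq, mul_add]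
    | tmul p q =>
      simp only [TensorProduct.assoc_symm_tmul, K, Φ, Algebra.TensorProduct.lift_tmul, AlgHom.comp_apply, map_mul]
      rw [← mul_assoc]
      congr 1
      simp [inA, inH]
  have h3 : ∀ z : A ⊗[k] H, K ((TensorProduct.assoc k A H H).symm ((Coalgebra.comul (R := k)).lTensor A z)) =
      (Algebra.TensorProduct.map (AlgHom.id k A) S z) ⊗ₜ 1 := fun z => by
    induction z using TensorProduct.induction_on with
    | zero => simp
    | add p q hp hq => simp only [map_add, hp, hq, add_tmul]
    | tmul b g =>
      rw [LinearMap.lTensor_tmul, h2, conv_key]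
      simp [inA, inH, S]
  have hc := congrArg (TensorProduct.assoc k A H H).symm
    (LinearMap.congr_fun (HopfRep.Comod.coassoc (k := k) (A := H) (V := A)) a)
  simp only [LinearMap.comp_apply, LinearEquiv.coe_coe, LinearEquiv.symm_apply_apply] at hc
  show rho k H A (Algebra.TensorProduct.map (AlgHom.id k A) S (HopfRep.Comod.coact (k := k) (A := H) a)) = _
  rw [h1, hc, h3]
  rfl

theorem psi_iota (a : A) :
    Algebra.TensorProduct.productMap (AlgHom.id k A) ((Algebra.ofId k A).comp (Bialgebra.counitAlgHom k H))
      (iota k H A a) = a := by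
  have h : ∀ z : A ⊗[k] H, Algebra.TensorProduct.productMap (AlgHom.id k A)
      ((Algebra.ofId k A).comp (Bialgebra.counitAlgHom k H))
      (Algebra.TensorProduct.map (AlgHom.id k A) (HopfAlgebra.antipodeAlgHom k H) z) =
      TensorProduct.rid k A ((Coalgebra.counit (R := k)).lTensor A z) := fun z => by
    induction z using TensorProduct.induction_on with
    | zero => simp
    | add p q hp hq => simp only [map_add, hp, hq]
    | tmul b g => simp [Algebra.smul_def, mul_comm, Algebra.ofId_apply]
  refine (h _).trans ?_
  have hc := LinearMap.congr_fun (HopfRep.Comod.counit_comp (k := k) (A := H) (V := A)) a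
  simp only [LinearMap.comp_apply, LinearMap.flip_apply, TensorProduct.mk_apply] at hc
  show TensorProduct.rid k A ((Coalgebra.counit (R := k)).lTensor A (HopfRep.Comod.coact (k := k) (A := H) a)) = a
  rw [hc, TensorProduct.rid_tmul, one_smul]

end diag

/-- Let k be a field and H a commutative Hopf algebra of finite type over k all of whose
finite-dimensional comodules are semisimple (a linearly reductive affine group G = Spec H of finite
type). Let A be a Noetherian commutative k-algebra with a coaction of H that is an algebra map (an
action of G on Spec A). Then A is of finite type as an algebra over its subring of invariants A^G.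
(The published statement is that a good moduli space with affine diagonal of a Noetherian algebraic
stack is of finite type; this row is its case [Spec A/G] → Spec A^G.) -/
theorem result
    (k : Type u) [Field k] (H : Type v) [CommRing H] [HopfAlgebra k H] [Algebra.FiniteType k H]
    (hG : HopfRep.IsLinearlyReductive k H)
    (A : Type w) [CommRing A] [Algebra k A] [IsNoetherianRing A]
    [HopfRep.Comod k H A] [GLin.IsCoactAlg k H A] :
    Algebra.FiniteType ↥(GLin.invariants k H A) A := by
  classical
  obtain ⟨α, hα, h1⟩ := ComodLib.exists_integral_of_isLinearlyReductive hG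
  letI : HopfRep.Comod k H (A ⊗[k] H) := diagComod
  haveI : GLin.IsCoactAlg k H (A ⊗[k] H) := ⟨map_one (rho k H A), fun f g => map_mul (rho k H A) f g⟩
  have hRC : Hoch.IsComodHom H (IsScalarTower.toAlgHom k A (A ⊗[k] H)).toLinearMap := by
    refine LinearMap.ext fun a => ?_
    show rho k H A (a ⊗ₜ 1) = LinearMap.rTensor H (IsScalarTower.toAlgHom k A (A ⊗[k] H)).toLinearMap
      (HopfRep.Comod.coact (k := k) (A := H) a)
    rw [rho_tmul, Bialgebra.comul_one, map_one, mul_one]
    induction HopfRep.Comod.coact (k := k) (A := H) a using TensorProduct.induction_on with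
    | zero => simp
    | add p q hp hq => simp only [map_add, hp, hq]
    | tmul b g => simp [inA]
  obtain ⟨s, hs⟩ := ComodLib.exists_finset_invariants_eq_adjoin (α := α) hRC hα h1
  let ψ : A ⊗[k] H →ₐ[k] A :=
    Algebra.TensorProduct.productMap (AlgHom.id k A) ((Algebra.ofId k A).comp (Bialgebra.counitAlgHom k H))
  let T : Subalgebra ↥(GLin.invariants k H A) A := Algebra.adjoin _ (ψ '' ↑s)
  refine ⟨s.image ψ, ?_⟩
  rw [Finset.coe_image]
  refine eq_top_iff.2 fun a _ => ?_
  have hle : GLin.invariants k H (A ⊗[k] H) ≤ (T.restrictScalars k).comap ψ := by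
    rw [hs]
    refine Algebra.adjoin_le ?_
    rintro z (⟨r, hr, rfl⟩ | hz)
    · show ψ (r ⊗ₜ 1) ∈ T
      have : ψ (r ⊗ₜ 1) = r := by simp [ψ]
      rw [this]
      exact T.algebraMap_mem ⟨r, hr⟩
    · exact Algebra.subset_adjoin ⟨z, hz, rfl⟩
  have h2 : ψ (iota k H A a) ∈ T := hle (rho_iota a)
  rw [show ψ (iota k H A a) = a from psi_iota a] at h2
  exact h2

end Groth.Agent.S16107
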