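import Groth.Statements.S16109
import Groth.Agent.RHomO7.CoevalCoh
import Groth.Agent.RHomO7.CohBounded
import Groth.Agent.KFlatLib.Scheme.CohD

set_option autoImplicit false
set_option backward.isDefEq.respectTransparency false
set_option linter.style.haveILetI false
universe u
open CategoryTheory CategoryTheory.Limits
attribute [local instance] HasDerivedCategory.standard
open DCoh

namespace Groth.Agent.S16109
open Groth.Agent.KFlatLib Groth.Agent.RHomO7

open AlgebraicGeometry in
/-- Let X be a separated Noetherian scheme; let E be an object of D^b_coh(X), given by a cochain complex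
K of O_X-modules whose image in D(O_X) has coherent and bounded cohomology sheaves; let F and G be
given by bounded complexes L and I of injective O_X-modules whose images in D(O_X) have coherent
cohomology sheaves (so F and G lie in D^b_coh(X) and have finite injective dimension); assume
moreover that RHom(−, F) and RHom(−, G) send D^b_coh(X) into itself. Then for every cochain complex
D representing RHom(E, F) there is an isomorphism RHom(F, G) ⊗^L E ≅ RHom(RHom(E, F), G) in D(O_X);
the derived tensor functors and their right adjoints RHom are taken under their existence binders.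
(The published statement does not assume that F and G have finite injective dimension and names a
canonical map; this row assumes F and G given by bounded complexes of injective modules, the case
its printed argument treats, and asserts only the existence of an isomorphism.) -/
theorem result
    (X : Scheme.{u}) [X.IsSeparated] [IsNoetherian X]
    (K : CochainComplex X.Modules ℤ) [DCoh.HasLTensorCx K] [DCoh.HasRSheafHom K]
    (hKcoh : ∀ i : ℤ, Coh.IsCoh (DCoh.HD (DCoh.toD X K) i))
    (hKbdd : ∃ a b : ℤ, ∀ i : ℤ, (i < a ∨ b < i) → IsZero (DCoh.HD (DCoh.toD X K) i))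
    (L : CochainComplex X.Modules ℤ) [DCoh.HasLTensorCx L] [DCoh.HasRSheafHom L]
    (hLinj : ∀ i : ℤ, Injective (L.X i)) (hLbdd : ∃ a b : ℤ, ∀ i : ℤ, (i < a ∨ b < i) → IsZero (L.X i))
    (hLcoh : ∀ i : ℤ, Coh.IsCoh (DCoh.HD (DCoh.toD X L) i))
    (I : CochainComplex X.Modules ℤ)
    (hIinj : ∀ i : ℤ, Injective (I.X i)) (hIbdd : ∃ a b : ℤ, ∀ i : ℤ, (i < a ∨ b < i) → IsZero (I.X i))
    (hIcoh : ∀ i : ℤ, Coh.IsCoh (DCoh.HD (DCoh.toD X I) i))
    (hF : ∀ (P : CochainComplex X.Modules ℤ) [DCoh.HasLTensorCx P] [DCoh.HasRSheafHom P],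
      (∀ i : ℤ, Coh.IsCoh (DCoh.HD (DCoh.toD X P) i)) →
      (∃ a b : ℤ, ∀ i : ℤ, (i < a ∨ b < i) → IsZero (DCoh.HD (DCoh.toD X P) i)) →
      (∀ i : ℤ, Coh.IsCoh (DCoh.HD ((DCoh.RSheafHom P).obj (DCoh.toD X L)) i)) ∧
        ∃ a b : ℤ, ∀ i : ℤ, (i < a ∨ b < i) → IsZero (DCoh.HD ((DCoh.RSheafHom P).obj (DCoh.toD X L)) i))
    (hG : ∀ (P : CochainComplex X.Modules ℤ) [DCoh.HasLTensorCx P] [DCoh.HasRSheafHom P],
      (∀ i : ℤ, Coh.IsCoh (DCoh.HD (DCoh.toD X P) i)) →
      (∃ a b : ℤ, ∀ i : ℤ, (i < a ∨ b < i) → IsZero (DCoh.HD (DCoh.toD X P) i)) →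
      (∀ i : ℤ, Coh.IsCoh (DCoh.HD ((DCoh.RSheafHom P).obj (DCoh.toD X I)) i)) ∧
        ∃ a b : ℤ, ∀ i : ℤ, (i < a ∨ b < i) → IsZero (DCoh.HD ((DCoh.RSheafHom P).obj (DCoh.toD X I)) i))
    (D : CochainComplex X.Modules ℤ) [DCoh.HasLTensorCx D] [DCoh.HasRSheafHom D]
    (hD : Nonempty (DCoh.toD X D ≅ (DCoh.RSheafHom K).obj (DCoh.toD X L))) :
    Nonempty ((DCoh.LTensorCx K).obj ((DCoh.RSheafHom L).obj (DCoh.toD X I)) ≅
      (DCoh.RSheafHom D).obj (DCoh.toD X I)) := by
  obtain ⟨eD⟩ := hD
  obtain ⟨aK, bK, hab⟩ := hKbdd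
  obtain ⟨a, b, hL⟩ := hLbdd
  obtain ⟨a', b', hI⟩ := hIbdd
  haveI := hLinj
  haveI := hIinj
  haveI : L.IsStrictlyGE a := by
    rw [CochainComplex.isStrictlyGE_iff]; exact fun n hn => hL n (Or.inl hn)
  haveI : L.IsStrictlyLE b := by
    rw [CochainComplex.isStrictlyLE_iff]; exact fun n hn => hL n (Or.inr hn)
  haveI : I.IsStrictlyGE a' := by
    rw [CochainComplex.isStrictlyGE_iff]; exact fun n hn => hI n (Or.inl hn)
  haveI : I.IsStrictlyLE b' := by
    rw [CochainComplex.isStrictlyLE_iff]; exact fun n hn => hI n (Or.inr hn)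
  haveI : L.IsKInjective := CochainComplex.isKInjective_of_injective L a
  haveI : I.IsKInjective := CochainComplex.isKInjective_of_injective I a'
  haveI : (DCoh.toD X L).IsGE a := (DerivedCategory.isGE_Q_obj_iff L a).2 inferInstance
  obtain ⟨eL⟩ := nonempty_RSheafHom_iso L I
  obtain ⟨eK⟩ := nonempty_RSheafHom_iso K L
  obtain ⟨eH⟩ := nonempty_RSheafHom_iso D I
  obtain ⟨eH'⟩ := nonempty_iHom_iso_of_iso (eD ≪≫ eK) I
  let R := (kRes X).obj ((Inner.innerHom DCoh.tensorBi L).obj I)
  let a₀ : R ⟶ (Inner.innerHom DCoh.tensorBi L).obj I := (flatCover X).ψ.app _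
  haveI ha₀ : QuasiIso a₀ := (flatCover X).quasiIso_ψ _
  haveI := isIso_Q_map a₀ ha₀
  let c := ((Inner.innerAdj DCoh.tensorBi L).homEquiv R I).symm a₀
  have hc : QuasiIso ((Inner.innerAdj DCoh.tensorBi L).homEquiv R I c) := by
    rw [show (Inner.innerAdj DCoh.tensorBi L).homEquiv R I c = a₀ from Equiv.apply_symm_apply _ a₀]
    exact ha₀
  have hR₀ : ∀ q, b' - a < q → IsZero (R.homology q) := fun q hq =>
    (BoundedInj.isLE_RSheafHom L a I a' b' q hq).of_iso
      (((DerivedCategory.homologyFunctorFactors X.Modules q).app R).symm ≪≫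
        (DerivedCategory.homologyFunctor X.Modules q).mapIso (asIso (DerivedCategory.Q.map a₀) ≪≫ eL.symm))
  have hpc : ∀ m : ℤ, DCoh.IsPseudoCoherentD m (DCoh.toD X K) := fun m =>
    (isPseudoCoherentD_iff _ _).2 (locPC_of_coh (isCohD_isQCohD hKcoh) (fun i _ => hKcoh i) bK
      fun i hi => hab i (Or.inr hi))
  have hamp : ∀ x : X, ∃ (V : X.Opens) (c₁ d₁ c₂ d₂ r : ℤ), x ∈ V ∧
      LocalAmp.AmpOn V R L I c₁ d₁ c₂ d₂ r := fun x => by
    refine ⟨⊤, a, b, a', b', b' - a, trivial, ⟨fun U j _ _ => ?_, fun U j _ _ => ?_, fun U j _ _ q hq => ?_⟩⟩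
    · haveI : ((rCx j).obj L).IsStrictlyGE a := by
        rw [CochainComplex.isStrictlyGE_iff]
        exact fun n hn => Functor.map_isZero (Scheme.Modules.restrictFunctor j) (hL n (Or.inl hn))
      haveI : ((rCx j).obj L).IsStrictlyLE b := by
        rw [CochainComplex.isStrictlyLE_iff]
        exact fun n hn => Functor.map_isZero (Scheme.Modules.restrictFunctor j) (hL n (Or.inr hn))
      haveI : ∀ n, Injective (((rCx j).obj L).X n) := injective_rCx j L
      exact LocalAmp.LocInj.of_model j L ((rCx j).obj L) a b (Iso.refl _)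
    · haveI : ((rCx j).obj I).IsStrictlyGE a' := by
        rw [CochainComplex.isStrictlyGE_iff]
        exact fun n hn => Functor.map_isZero (Scheme.Modules.restrictFunctor j) (hI n (Or.inl hn))
      haveI : ((rCx j).obj I).IsStrictlyLE b' := by
        rw [CochainComplex.isStrictlyLE_iff]
        exact fun n hn => Functor.map_isZero (Scheme.Modules.restrictFunctor j) (hI n (Or.inr hn))
      haveI : ∀ n, Injective (((rCx j).obj I).X n) := injective_rCx j I
      exact LocalAmp.LocInj.of_model j I ((rCx j).obj I) a' b' (Iso.refl _)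
    · exact (Functor.map_isZero (Scheme.Modules.restrictFunctor j) (hR₀ q hq)).of_iso
        ((ShortComplex.homologyFunctorIso (Scheme.Modules.restrictFunctor j)).app
          ((HomologicalComplex.shortComplexFunctor X.Modules (ComplexShape.up ℤ) q).obj R))
  haveI := isIso_Q_map _ (LocalAmp.quasiIso_coevalMap_of_pc R L I c (isKFlat_kRes _) (isFlat_kRes _) hc K hpc hamp)
  exact ⟨(DCoh.LTensorCx K).mapIso (eL ≪≫ (asIso (DerivedCategory.Q.map a₀)).symm) ≪≫
    ltensorCxIso K (isKFlat_kRes _) ≪≫ asIso (DerivedCategory.Q.map (coevalMap R L I c K)) ≪≫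
    eH'.symm ≪≫ eH.symm⟩

end Groth.Agent.S16109
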