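import Groth.Statements.S16185
import Groth.Agent.AlgSpDec.GorSpace

set_option autoImplicit false
universe u
open CategoryTheory CategoryTheory.Limits AlgebraicGeometry
open Dual3

namespace Groth.Agent.S16185

set_option backward.isDefEq.respectTransparency false
set_option backward.isDefEq.respectTransparency.types false

/-- Let A be an Artinian local ring with maximal ideal m and let f : P → Spec A be a flat morphism of
schemes whose closed fibre X = P ×_{Spec A} Spec (A/m) is a Gorenstein scheme (locally Noetherian,
all local rings Gorenstein). Then f is a Gorenstein morphism: flat at every point with Gorenstein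
local rings on its fibres. (The source takes A to be a local Artinian algebra over a field k with
residue field k and X a k-scheme deformed flatly over A; the k-algebra structure plays no role, so
the residue field of A is used directly.) -/
theorem result
    {A : Type u} [CommRing A] [IsArtinianRing A] [IsLocalRing A]
    {P X : Scheme.{u}} (f : P ⟶ Spec (CommRingCat.of A)) [Flat f]
    (i : X ⟶ P) (q : X ⟶ Spec (CommRingCat.of (IsLocalRing.ResidueField A)))
    (hsq : IsPullback i q f (Spec.map (CommRingCat.ofHom (IsLocalRing.residue A))))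
    (hX : Dual3.IsGorenstein X) : Dual3.IsGorensteinMor f := by
  intro x
  let pt : (Spec (CommRingCat.of A)) := IsLocalRing.closedPoint A
  have hpt : ∀ y : (Spec (CommRingCat.of A)), y = pt := fun y => Subsingleton.elim (α := PrimeSpectrum A) _ _
  let g := Spec.map (CommRingCat.ofHom (IsLocalRing.residue A))
  obtain ⟨⟨y, φ⟩, hφ⟩ :=
    (Scheme.SpecToEquivOfField (IsLocalRing.ResidueField A) (Spec (CommRingCat.of A))).symm.surjective g
  obtain rfl := hpt y
  have hφ' : Spec.map φ ≫ (Spec (CommRingCat.of A)).fromSpecResidueField pt = g := hφ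
  have hb : Function.Bijective φ := by
    refine ⟨φ.hom.injective, fun z => ?_⟩
    obtain ⟨a, rfl⟩ := IsLocalRing.residue_surjective z
    obtain ⟨ψ, hψ⟩ := Spec.map_surjective ((Spec (CommRingCat.of A)).fromSpecResidueField pt)
    refine ⟨ψ a, ?_⟩
    have h1 : Spec.map (ψ ≫ φ) = Spec.map (CommRingCat.ofHom (IsLocalRing.residue A)) := by
      rw [Spec.map_comp, hψ]; exact hφ'
    exact ConcreteCategory.congr_hom (Spec.map_injective h1) a
  have : IsIso φ := (ConcreteCategory.isIso_iff_bijective φ).2 hb
  have sq : IsPullback i q f ((asIso (Spec.map φ)).hom ≫ (Spec (CommRingCat.of A)).fromSpecResidueField pt) := by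
    rw [asIso_hom, hφ']; exact hsq
  obtain ⟨w, hw⟩ : ∃ w, i w = x := by
    obtain ⟨y, hy, -⟩ := Scheme.Pullback.exists_preimage_pullback (f := f) (g := g) x
      (IsLocalRing.closedPoint (IsLocalRing.ResidueField A)) ((hpt _).trans (hpt _).symm)
    exact ⟨hsq.isoPullback.inv y, by rw [← Scheme.Hom.comp_apply, hsq.isoPullback_inv_fst, hy]⟩
  subst hw
  obtain ⟨e⟩ := Groth.Agent.AlgSpDec.GorAt.exists_equiv_pullback_stalk f pt i q _ sq w
  exact (Groth.Agent.AlgSpDec.GorAt.gorAt_iff f (i w)).2
    ⟨Flat.stalkMap f _, Groth.Agent.CurvLocusLib.gor_of_equiv e.symm (hX.2 w)⟩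

end Groth.Agent.S16185
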