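import Groth.Statements.S16187
import Groth.Agent.S12482
import Groth.Agent.FittX.Transpose
import Groth.Agent.FittX.Ideal
import Groth.Agent.Synt29.ExtSeq
import Groth.Agent.SmoothReg.GeomRegular
import Groth.Agent.TFCurvLib.ExtOne
import Mathlib.RingTheory.Kaehler.Polynomial

set_option autoImplicit false
universe u
open CategoryTheory
open Fitt

namespace Groth.Agent.S16187

open TensorProduct in
theorem exists_presentation (k : Type u) [Field k] (r c : ℕ) (B : Type u) [CommRing B] [Algebra k B]
    (φ : MvPolynomial (Fin r) k →ₐ[k] B) (hφ : Function.Surjective φ) (a : Fin c → MvPolynomial (Fin r) k)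
    (hker : RingHom.ker φ.toRingHom = Ideal.span (Set.range a))
    (J : (Fin c → B) →ₗ[B] (Fin r → B)) (hJ : ∀ i, J (Pi.single i 1) = fun j => φ (MvPolynomial.pderiv j (a i))) :
    ∃ g : (Fin r → B) →ₗ[B] KaehlerDifferential k B, Function.Surjective g ∧ Function.Exact J g := by
  classical
  letI : Algebra (MvPolynomial (Fin r) k) B := φ.toRingHom.toAlgebra
  haveI : IsScalarTower k (MvPolynomial (Fin r) k) B := IsScalarTower.of_algebraMap_eq' φ.comp_algebraMap.symm
  let ψ : B ⊗[(MvPolynomial (Fin r) k)] KaehlerDifferential k (MvPolynomial (Fin r) k) ≃ₗ[B] (Fin r → B) :=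
    ((KaehlerDifferential.mvPolynomialBasis k (Fin r)).baseChange B).equivFun
  have hψ : ∀ (b : B) (p : (MvPolynomial (Fin r) k)), ψ (b ⊗ₜ[(MvPolynomial (Fin r) k)] KaehlerDifferential.D k (MvPolynomial (Fin r) k) p) = fun j => φ (MvPolynomial.pderiv j p) * b := fun b p => by
    funext j
    simp only [ψ, Module.Basis.equivFun_apply, Module.Basis.baseChange_repr_tmul, KaehlerDifferential.mvPolynomialBasis_repr_apply]
    rw [Algebra.smul_def]
    rfl
  let m := KaehlerDifferential.mapBaseChange k (MvPolynomial (Fin r) k) B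
  have hex := KaehlerDifferential.exact_kerCotangentToTensor_mapBaseChange k (MvPolynomial (Fin r) k) B hφ
  let g : (Fin r → B) →ₗ[B] KaehlerDifferential k B := m ∘ₗ ψ.symm.toLinearMap
  refine ⟨g, (KaehlerDifferential.mapBaseChange_surjective k (MvPolynomial (Fin r) k) B hφ).comp ψ.symm.surjective, fun y => ⟨fun hy => ?_, ?_⟩⟩
  · obtain ⟨z, hz⟩ := (hex (ψ.symm y)).1 hy
    obtain ⟨⟨x, hx⟩, rfl⟩ := Ideal.toCotangent_surjective _ z
    have hy' : y = ψ ((1 : B) ⊗ₜ[(MvPolynomial (Fin r) k)] KaehlerDifferential.D k (MvPolynomial (Fin r) k) x) := by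
      rw [← KaehlerDifferential.kerCotangentToTensor_toCotangent k (MvPolynomial (Fin r) k) B ⟨x, hx⟩, hz, LinearEquiv.apply_symm_apply]
    obtain ⟨p, hp⟩ := (Submodule.mem_span_range_iff_exists_fun (MvPolynomial (Fin r) k)).1 (hker.le hx)
    refine ⟨fun i => φ (p i), ?_⟩
    rw [hy', hψ, pi_eq_sum_univ (fun i => φ (p i)) (R := B), map_sum]
    funext j
    rw [← hp, Finset.sum_apply, map_sum, map_sum, Finset.sum_mul]
    refine Finset.sum_congr rfl fun i _ => ?_
    rw [map_smul, Pi.smul_apply, show (fun l => if i = l then (1 : B) else 0) = Pi.single i 1 by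
      funext l; simp [Pi.single_apply, eq_comm], hJ, smul_eq_mul, smul_eq_mul, mul_one, MvPolynomial.pderiv_mul,
      map_add, map_mul, map_mul]
    have h0 : φ (a i) = 0 := hker.ge (Ideal.subset_span ⟨i, rfl⟩)
    rw [h0, mul_zero, zero_add]
  · rintro ⟨z, rfl⟩
    have h0 : g ∘ₗ J = 0 := LinearMap.pi_ext' fun i => LinearMap.ext_ring (by
      show g (J (Pi.single i 1)) = 0
      rw [hJ, show (fun j => φ (MvPolynomial.pderiv j (a i))) = ψ ((1 : B) ⊗ₜ[(MvPolynomial (Fin r) k)] KaehlerDifferential.D k (MvPolynomial (Fin r) k) (a i)) by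
        rw [hψ]; simp]
      show m (ψ.symm (ψ _)) = 0
      rw [LinearEquiv.symm_apply_apply]
      show KaehlerDifferential.mapBaseChange k (MvPolynomial (Fin r) k) B ((1 : B) ⊗ₜ[(MvPolynomial (Fin r) k)] KaehlerDifferential.D k (MvPolynomial (Fin r) k) (a i)) = 0
      rw [KaehlerDifferential.mapBaseChange_tmul, KaehlerDifferential.map_D]
      have h0 : algebraMap (MvPolynomial (Fin r) k) B (a i) = 0 := hker.ge (Ideal.subset_span ⟨i, rfl⟩)
      rw [h0, map_zero, smul_zero])
    exact LinearMap.congr_fun h0 z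

open TensorProduct in
theorem jac_injective (k : Type u) [Field k] [IsAlgClosed k] (r c : ℕ) (B : Type u) [CommRing B] [Algebra k B]
    [IsReduced B] (φ : MvPolynomial (Fin r) k →ₐ[k] B) (hφ : Function.Surjective φ) (a : Fin c → MvPolynomial (Fin r) k)
    (ha : RingTheory.Sequence.IsWeaklyRegular (MvPolynomial (Fin r) k) (List.ofFn a))
    (hker : RingHom.ker φ.toRingHom = Ideal.span (Set.range a))
    (J : (Fin c → B) →ₗ[B] (Fin r → B)) (hJ : ∀ i, J (Pi.single i 1) = fun j => φ (MvPolynomial.pderiv j (a i))) :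
    Function.Injective J := by
  classical
  let I : Ideal (MvPolynomial (Fin r) k) := Ideal.span (Set.range a)
  haveI : Algebra.FiniteType k B := Algebra.FiniteType.of_surjective φ hφ
  have hI : ∀ x, φ x = 0 ↔ x ∈ I := fun x => SetLike.ext_iff.1 hker x
  let Q := (MvPolynomial (Fin r) k) ⧸ I ^ 2
  let π : Q →ₐ[k] B := Ideal.Quotient.liftₐ (I ^ 2) φ fun x hx => (hI x).2 (Ideal.pow_le_self two_ne_zero hx)
  let mq : (MvPolynomial (Fin r) k) →ₐ[k] Q := Ideal.Quotient.mkₐ k (I ^ 2)
  let E : Algebra.Extension.{u} k B := Algebra.Extension.ofSurjective π fun b => by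
    obtain ⟨p, rfl⟩ := hφ b; exact ⟨mq p, rfl⟩
  have hπ : ∀ p : (MvPolynomial (Fin r) k), algebraMap E.Ring B (mq p) = φ p := fun _ => rfl
  have hkerE : E.ker ≤ I.map (Ideal.Quotient.mk (I ^ 2)) := fun q hq => by
    obtain ⟨p, rfl⟩ := Ideal.Quotient.mk_surjective q
    exact Ideal.mem_map_of_mem _ ((hI p).1 hq)
  have hsq : E.ker ^ 2 = ⊥ := le_bot_iff.1 ((Ideal.pow_right_mono hkerE 2).trans
    (le_of_eq ((Ideal.map_pow (Ideal.Quotient.mk (I ^ 2)) I 2).symm.trans (Ideal.map_quotient_self _))))
  have hmem : ∀ x ∈ I, (mq x : E.Ring) ∈ E.ker := fun x hx => RingHom.mem_ker.2 ((hπ x).trans ((hI x).2 hx))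
  have haI : ∀ i, a i ∈ I := fun i => Ideal.subset_span ⟨i, rfl⟩
  let σ := Function.surjInv hφ
  have hσ := Function.surjInv_eq hφ
  let L : (Fin c → B) →ₗ[B] E.Cotangent :=
    Fintype.linearCombination B fun i => Algebra.Extension.Cotangent.mk ⟨mq (a i), hmem _ (haI i)⟩
  have hL : ∀ (p : Fin c → (MvPolynomial (Fin r) k)) (h : ∑ i, p i * a i ∈ I),
      L (fun i => φ (p i)) = Algebra.Extension.Cotangent.mk ⟨mq (∑ i, p i * a i), hmem _ h⟩ := by
    intro p h
    have e : (⟨mq (∑ i, p i * a i), hmem _ h⟩ : E.ker) = ∑ i, (show E.Ring from mq (p i)) • (⟨mq (a i), hmem _ (haI i)⟩ : E.ker) :=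
      Subtype.ext (by
        rw [Submodule.coe_sum]
        show mq (∑ i, p i * a i) = _
        rw [map_sum]
        exact Finset.sum_congr rfl fun i _ => map_mul mq _ _)
    rw [e, map_sum]
    simp only [L, Fintype.linearCombination_apply]
    refine Finset.sum_congr rfl fun i _ => ?_
    rw [map_smul, ← algebraMap_smul B (show E.Ring from mq (p i))]
    rfl
  have hsum : ∀ p : Fin c → (MvPolynomial (Fin r) k), ∑ i, p i * a i ∈ I := fun p => Submodule.sum_mem _ fun i _ => Ideal.mul_mem_left _ _ (haI i)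
  obtain ⟨bas, hbas⟩ := S12482.result (MvPolynomial (Fin r) k) c a ha
  have hindep : ∀ p : Fin c → (MvPolynomial (Fin r) k), ∑ i, p i * a i ∈ I ^ 2 → ∀ i, p i ∈ I := fun p hp i => by
    rw [← Ideal.Quotient.eq_zero_iff_mem]
    refine Fintype.linearIndependent_iff.1 bas.linearIndependent (fun i => Ideal.Quotient.mk I (p i)) ?_ i
    have h0 : I.toCotangent ⟨_, hsum p⟩ = 0 := (I.toCotangent_eq_zero _).2 hp
    rw [← h0, show (⟨_, hsum p⟩ : I) = ∑ i, p i • (⟨a i, haI i⟩ : I) from Subtype.ext (by simp [Submodule.coe_sum]), map_sum]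
    refine Finset.sum_congr rfl fun i _ => ?_
    rw [map_smul, hbas i]
    exact IsScalarTower.algebraMap_smul ((MvPolynomial (Fin r) k) ⧸ I) (p i) _
  have hLinj : Function.Injective L := (injective_iff_map_eq_zero _).2 fun b hb => by
    obtain ⟨p, rfl⟩ : ∃ p : Fin c → (MvPolynomial (Fin r) k), (fun i => φ (p i)) = b := ⟨fun i => σ (b i), funext fun i => hσ _⟩
    rw [hL p (hsum p)] at hb
    have h2 : mq (∑ i, p i * a i) = 0 := congrArg Subtype.val (Synt29.ExtSeq.mk_injective E hsq (hb.trans (map_zero _).symm))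
    funext i
    exact (hI _).2 (hindep p (Ideal.Quotient.eq_zero_iff_mem.1 h2) i)
  have hLsurj : Function.Surjective L := fun z => by
    obtain ⟨⟨q, hq⟩, rfl⟩ := Algebra.Extension.Cotangent.mk_surjective z
    obtain ⟨x, rfl⟩ := Ideal.Quotient.mk_surjective q
    obtain ⟨p, hp⟩ := (Submodule.mem_span_range_iff_exists_fun (MvPolynomial (Fin r) k)).1 ((hI x).1 hq)
    subst hp
    exact ⟨fun i => φ (p i), hL p (hsum p)⟩
  haveI : Module.Projective B E.Cotangent := Module.Projective.of_equiv (LinearEquiv.ofBijective L ⟨hLinj, hLsurj⟩)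
  have hsm : ∀ p : PrimeSpectrum B, p.asIdeal ∈ minimalPrimes B → Algebra.IsSmoothAt k p.asIdeal := fun p hp => by
    haveI : IsReduced (k ⊗[k] B) := isReduced_of_injective (Algebra.TensorProduct.lid k B) (Algebra.TensorProduct.lid k B).injective
    exact SmoothReg.isSmoothAt_minimal k k B p.asIdeal hp
  have hcc := Synt29.ExtSeq.cotangentComplex_injective hsm E hsq
  refine (injective_iff_map_eq_zero _).2 fun b hb => hLinj ((hcc ?_).trans (map_zero L).symm)
  rw [map_zero]
  obtain ⟨p, rfl⟩ : ∃ p : Fin c → (MvPolynomial (Fin r) k), (fun i => φ (p i)) = b := ⟨fun i => σ (b i), funext fun i => hσ _⟩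
  rw [hL p (hsum p), Algebra.Extension.cotangentComplex_mk]
  letI : Algebra (MvPolynomial (Fin r) k) B := φ.toRingHom.toAlgebra
  letI : Algebra (MvPolynomial (Fin r) k) E.Ring := mq.toRingHom.toAlgebra
  haveI : IsScalarTower k (MvPolynomial (Fin r) k) B := IsScalarTower.of_algebraMap_eq' φ.comp_algebraMap.symm
  haveI : IsScalarTower k (MvPolynomial (Fin r) k) E.Ring := IsScalarTower.of_algebraMap_eq fun t => (mq.commutes t).symm
  haveI : IsScalarTower (MvPolynomial (Fin r) k) E.Ring B := IsScalarTower.of_algebraMap_eq fun _ => rfl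
  let ψ := ((KaehlerDifferential.mvPolynomialBasis k (Fin r)).baseChange B).equivFun
  have hw : (1 : B) ⊗ₜ[(MvPolynomial (Fin r) k)] KaehlerDifferential.D k (MvPolynomial (Fin r) k) (∑ i, p i * a i) = 0 := by
    apply ψ.injective
    rw [map_zero]
    funext j
    have hb' := congrFun hb j
    rw [pi_eq_sum_univ (fun i => φ (p i)) (R := B), map_sum, Finset.sum_apply, Pi.zero_apply] at hb'
    simp only [ψ, Module.Basis.equivFun_apply, Module.Basis.baseChange_repr_tmul, KaehlerDifferential.mvPolynomialBasis_repr_apply,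
      Pi.zero_apply]
    rw [Algebra.smul_def, mul_one]
    show φ _ = 0
    rw [map_sum, map_sum, ← hb']
    refine Finset.sum_congr rfl fun i _ => ?_
    rw [map_smul, Pi.smul_apply, show (fun l => if i = l then (1 : B) else 0) = Pi.single i 1 by
      funext l; simp [Pi.single_apply, eq_comm], hJ, smul_eq_mul, MvPolynomial.pderiv_mul, map_add, map_mul, map_mul,
      (hI _).2 (haI i), mul_zero, zero_add]
  let Φ : B ⊗[(MvPolynomial (Fin r) k)] KaehlerDifferential k (MvPolynomial (Fin r) k) →ₗ[(MvPolynomial (Fin r) k)] B ⊗[E.Ring] KaehlerDifferential k E.Ring :=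
    TensorProduct.lift (LinearMap.mk₂ (MvPolynomial (Fin r) k) (fun b ω => b ⊗ₜ[E.Ring] KaehlerDifferential.map k k (MvPolynomial (Fin r) k) E.Ring ω)
      (fun b b' ω => TensorProduct.add_tmul _ _ _)
      (fun q b ω => by rw [← algebraMap_smul E.Ring q b, ← TensorProduct.smul_tmul', algebraMap_smul])
      (fun b ω ω' => by rw [map_add, TensorProduct.tmul_add])
      (fun q b ω => by rw [map_smul, ← algebraMap_smul E.Ring q, TensorProduct.tmul_smul, algebraMap_smul]))
  have hΦ := congrArg Φ hw
  rw [map_zero] at hΦ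
  simp only [Φ, TensorProduct.lift.tmul, LinearMap.mk₂_apply, KaehlerDifferential.map_D] at hΦ
  exact hΦ

/-- Let k be an algebraically closed field and let B be a reduced k-algebra presented as k[T_1, …,
T_r]/(a_1, …, a_c) with a_1, …, a_c a regular sequence in the polynomial ring, so that Spec B is a
reduced complete intersection of dimension d = r - c. Then the d-th Fitting ideal of Ω_{B/k} equals
the 0-th Fitting ideal of the B-module T^1 = Ext^1_B(Ω_{B/k}, B). (The source states the equality
Fitt_d of the formal sheaf of differentials = Fitt_0 of T^1 for a flat morphism 𝔛 → Spf k[[t]] of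
locally Noetherian formal schemes that is a local complete intersection of relative dimension d and
has reduced closed fibre, and obtains it on affine charts from a two-term free resolution of the
differentials given by the conormal sequence; stated here is that chart computation on the closed
fibre, for a global complete intersection in affine r-space.) -/
theorem result
    (k : Type u) [Field k] [IsAlgClosed k] (r c : ℕ)
    (B : Type u) [CommRing B] [Algebra k B] [IsReduced B]
    (φ : MvPolynomial (Fin r) k →ₐ[k] B) (hφ : Function.Surjective φ)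
    (a : Fin c → MvPolynomial (Fin r) k)
    (ha : RingTheory.Sequence.IsRegular (MvPolynomial (Fin r) k) (List.ofFn a))
    (hker : RingHom.ker φ.toRingHom = Ideal.span (Set.range a)) :
    Fitt.ideal B (KaehlerDifferential k B) (r - c) =
      Fitt.ideal B (Abelian.Ext.{u} (ModuleCat.of B (KaehlerDifferential k B)) (ModuleCat.of B B) 1) 0 := by
  classical
  letI : Algebra (MvPolynomial (Fin r) k) B := φ.toRingHom.toAlgebra
  haveI : IsScalarTower k (MvPolynomial (Fin r) k) B := IsScalarTower.of_algebraMap_eq' φ.comp_algebraMap.symm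
  haveI : Nontrivial B := by
    by_contra hB
    rw [not_nontrivial_iff_subsingleton] at hB
    refine ha.top_ne_smul ?_
    rw [smul_eq_mul, Ideal.mul_top, show Ideal.ofList (List.ofFn a) = Ideal.span (Set.range a) by
      show Ideal.span {p | p ∈ List.ofFn a} = _; congr 1; ext p; exact List.mem_ofFn, ← hker]
    exact (eq_top_iff.2 fun p _ => hB.elim _ _).symm
  haveI : Algebra.FiniteType k B := Algebra.FiniteType.of_surjective φ hφ
  let J : (Fin c → B) →ₗ[B] (Fin r → B) := Fintype.linearCombination B fun i j => φ (MvPolynomial.pderiv j (a i))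
  obtain ⟨g, hg, hJg⟩ := exists_presentation k r c B φ hφ a hker J (fun i => by
    simp [J, Fintype.linearCombination_apply_single])
  have hJ : Function.Injective J := jac_injective k r c B φ hφ a ha.toIsWeaklyRegular hker J (fun i => by
    simp [J, Fintype.linearCombination_apply_single])
  have hcr : c ≤ r := le_of_fin_injective B J hJ
  have h1 : Fitt.ideal B (KaehlerDifferential k B) (r - c) = FittX.minors c (LinearMap.range J) := by
    let e : ((Fin r → B) ⧸ LinearMap.range J) ≃ₗ[B] KaehlerDifferential k B :=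
      (Submodule.quotEquivOfEq _ _ (LinearMap.exact_iff.1 hJg).symm).trans (g.quotKerEquivOfSurjective hg)
    rw [← FittX.ideal_congr' e, FittX.ideal_quotient_eq_minors, show r - (r - c) = c by omega]
  let δ := TFCurvLib.extDelta J g hJ hg hJg B
  let w : ((Fin c → B) →ₗ[B] B) ≃ₗ[B] (Fin c → B) := (Module.piEquiv (Fin c) B B).symm
  let K : Submodule B (Fin c → B) := (LinearMap.range J.dualMap).map (w : ((Fin c → B) →ₗ[B] B) →ₗ[B] (Fin c → B))
  have h2 : Fitt.ideal B (Abelian.Ext.{u} (ModuleCat.of B (KaehlerDifferential k B)) (ModuleCat.of B B) 1) 0 =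
      FittX.minors c (LinearMap.range J.dualMap) := by
    let e : ((Fin c → B) ⧸ K) ≃ₗ[B]
        Abelian.Ext.{u} (ModuleCat.of B (KaehlerDifferential k B)) (ModuleCat.of B B) 1 :=
      (Submodule.Quotient.equiv _ K w rfl).symm.trans
        ((Submodule.quotEquivOfEq _ _ (TFCurvLib.extDelta_ker J g hJ hg hJg B).symm).trans
          (δ.quotKerEquivOfSurjective (TFCurvLib.extDelta_surjective J g hJ hg hJg B)))
    rw [← FittX.ideal_congr' e, FittX.ideal_quotient_eq_minors, Nat.sub_zero]
    exact FittX.minors_map_equiv w _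
  rw [h1, h2, FittX.minors_range_dualMap]

end Groth.Agent.S16187
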