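import Groth.Statements.S16190
import Groth.Agent.CurveExpand.Basic
import Groth.Agent.SmoothReg.Scheme

set_option autoImplicit false
universe u
open CategoryTheory CategoryTheory.Limits AlgebraicGeometry
open Deform

namespace Groth.Agent.S16190

set_option backward.isDefEq.respectTransparency false
set_option backward.isDefEq.respectTransparency.types false

/-- Let k be an algebraically closed field and let X have a geometric smoothing, i.e. there are an
integral k-scheme C smooth of dimension one over k, a k-rational point c of C and a flat proper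
morphism π : Y → C whose fibre over c is X (as a k-scheme) and whose fibre over the generic point of
C is smooth. Then X has a smoothing over Spec k[[t]]: a flat proper morphism P → Spec k[[t]] with
closed fibre X over k and smooth generic fibre P ⊗ Frac k[[t]]. (The published lemma concludes that
X, assumed projective and equidimensional, is formally smoothable; its proof builds exactly this
family over the completed local ring of C at c, identified with k[[t]], and then appeals to a
criterion equating smoothings over a discrete valuation ring with formal smoothings, which is not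
restated; the hypotheses on X are not used in the step stated.) -/
theorem result
    (k : Type u) [Field k] [IsAlgClosed k]
    (X : Scheme.{u}) (pX : X ⟶ Spec (CommRingCat.of k))
    (C : Scheme.{u}) (qC : C ⟶ Spec (CommRingCat.of k)) (c : Spec (CommRingCat.of k) ⟶ C)
    (hc : c ≫ qC = 𝟙 (Spec (CommRingCat.of k))) [IsIntegral C] [Smooth qC]
    (hC : topologicalKrullDim C = 1)
    (Y : Scheme.{u}) (π : Y ⟶ C) [Flat π] [IsProper π] (j : X ⟶ Y) (hsq : IsPullback j pX π c)
    (hgen : Smooth (π.fiberToSpecResidueField (genericPoint C))) :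
    ∃ (P : Scheme.{u}) (p : P ⟶ Spec (CommRingCat.of (PowerSeries k))) (_ : Flat p) (_ : IsProper p)
      (i : X ⟶ P),
      IsPullback i pX p (Spec.map (CommRingCat.ofHom (PowerSeries.constantCoeff (R := k)))) ∧
      Smooth (pullback.snd p
        (Spec.map (CommRingCat.ofHom (algebraMap (PowerSeries k) (FractionRing (PowerSeries k)))))) := by
  let x₀ := c (IsLocalRing.closedPoint k)
  haveI : LocallyOfFiniteType qC := inferInstance
  haveI : JacobsonSpace C := LocallyOfFiniteType.jacobsonSpace qC
  haveI : LocallyOfFiniteType (c ≫ qC) := by rw [hc]; infer_instance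
  haveI : LocallyOfFiniteType c := locallyOfFiniteType_of_comp c qC
  have hx₀ : IsClosed ({x₀} : Set C) :=
    c.closePoints_subset_preimage_closedPoints
      (show IsLocalRing.closedPoint k ∈ closedPoints (Spec (CommRingCat.of k)) from
        mem_closedPoints_iff.2 isClosed_singleton)
  haveI : IsLocallyNoetherian C := LocallyOfFiniteType.isLocallyNoetherian qC
  haveI hreg : IsRegularLocalRing (C.presheaf.stalk x₀) :=
    Groth.Agent.SmoothReg.isRegularLocalRing_stalk_of_mem_smoothLocus qC (by
      rw [(Scheme.Hom.smoothLocus_eq_top_iff (f := qC)).2 inferInstance]; trivial)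
  have hd : ringKrullDim (C.presheaf.stalk x₀) = 1 :=
    (Groth.Agent.SmoothReg.ringKrullDim_stalk_closedPoint qC hx₀).trans hC
  haveI : IsDiscreteValuationRing (C.presheaf.stalk x₀) := by
    refine IsLocalRing.finrank_CotangentSpace_eq_one_iff.mp ?_
    have hreg' := hreg
    rw [IsRegularLocalRing.iff_finrank_cotangentSpace, hd] at hreg'
    exact_mod_cast hreg'
  let evR : C.presheaf.stalk x₀ ⟶ CommRingCat.of k := Scheme.stalkClosedPointTo c
  let ι : CommRingCat.of k ⟶ C.presheaf.stalk x₀ :=
    (Scheme.ΓSpecIso (CommRingCat.of k)).inv ≫ qC.appTop ≫ C.presheaf.germ ⊤ x₀ trivial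
  letI : Algebra k (C.presheaf.stalk x₀) := ι.hom.toAlgebra
  have hretr : ι ≫ evR = 𝟙 _ := by
    simp only [ι, evR, Category.assoc]
    rw [Scheme.germ_stalkClosedPointTo c ⊤ trivial]
    have h1 := congrArg Scheme.Hom.appTop hc
    rw [Scheme.Hom.comp_appTop, Scheme.Hom.id_appTop] at h1
    rw [reassoc_of% h1]
    exact (Scheme.ΓSpecIso (CommRingCat.of k)).inv_hom_id
  let ev : C.presheaf.stalk x₀ →ₐ[k] k :=
    AlgHom.mk evR.hom (fun r => by
      have h := RingHom.congr_fun (congrArg CommRingCat.Hom.hom hretr) r
      rw [CommRingCat.hom_comp, CommRingCat.hom_id, RingHom.comp_apply] at h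
      exact h)
  obtain ⟨ϖ, hϖ⟩ := IsDiscreteValuationRing.exists_irreducible (C.presheaf.stalk x₀)
  have hev : ∀ a, ev a = 0 ↔ ϖ ∣ a := fun a => by
    rw [← Ideal.mem_span_singleton, ← (IsDiscreteValuationRing.irreducible_iff_uniformizer ϖ).1 hϖ,
      IsLocalRing.mem_maximalIdeal, mem_nonunits_iff, ← (isUnit_map_iff evR.hom a), isUnit_iff_ne_zero, not_not]
    rfl
  obtain ⟨φ, hφi, hφc⟩ := Groth.Agent.CurveExpand.exists_hom ev ϖ hev hϖ.ne_zero fun a ha => by
    have h := Ideal.iInf_pow_eq_bot_of_isLocalRing (IsLocalRing.maximalIdeal (C.presheaf.stalk x₀))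
      (IsLocalRing.maximalIdeal.isMaximal _).ne_top
    rw [← Ideal.mem_bot, ← h, Submodule.mem_iInf]
    intro n
    rw [(IsDiscreteValuationRing.irreducible_iff_uniformizer ϖ).1 hϖ, Ideal.span_singleton_pow,
      Ideal.mem_span_singleton]
    exact ha n
  let g : Spec (CommRingCat.of (PowerSeries k)) ⟶ C := Spec.map (CommRingCat.ofHom φ) ≫ C.fromSpecStalk x₀
  have hg : Spec.map (CommRingCat.ofHom (PowerSeries.constantCoeff (R := k))) ≫ g = c := by
    have : CommRingCat.ofHom φ ≫ CommRingCat.ofHom (PowerSeries.constantCoeff (R := k)) = evR :=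
      CommRingCat.hom_ext (RingHom.ext hφc)
    simp only [g, ← Category.assoc, ← Spec.map_comp, this]
    exact Scheme.Spec_stalkClosedPointTo_fromSpecStalk c
  let sK := Spec.map (CommRingCat.ofHom (algebraMap (PowerSeries k) (FractionRing (PowerSeries k))))
  let gK : Spec (CommRingCat.of (FractionRing (PowerSeries k))) ⟶ C := sK ≫ g
  have hη : gK (IsLocalRing.closedPoint (FractionRing (PowerSeries k))) = genericPoint C := by
    let w₀ : Spec (C.presheaf.stalk x₀) := Spec.map (CommRingCat.ofHom φ) (sK (IsLocalRing.closedPoint _))
    have hw₀ : w₀.asIdeal = ⊥ := by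
      show Ideal.comap φ (Ideal.comap (algebraMap (PowerSeries k) (FractionRing (PowerSeries k)))
        (IsLocalRing.maximalIdeal (FractionRing (PowerSeries k)))) = ⊥
      rw [IsLocalRing.isField_iff_maximalIdeal_eq.1 (Field.toIsField _), Ideal.comap_bot_of_injective _
        (IsFractionRing.injective _ _), Ideal.comap_bot_of_injective _ hφi]
    obtain ⟨w₁, hw₁⟩ : genericPoint C ∈ Set.range (C.fromSpecStalk x₀) := by
      rw [Scheme.range_fromSpecStalk]; exact genericPoint_specializes x₀
    refine Specializes.antisymm ?_ (genericPoint_specializes _) |>.eq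
    rw [← hw₁]
    exact ((PrimeSpectrum.le_iff_specializes w₀ w₁).1 (show w₀.asIdeal ≤ w₁.asIdeal from hw₀ ▸ bot_le)).map
      (C.fromSpecStalk x₀).continuous
  have hgen' : Smooth (π.fiberToSpecResidueField (gK (IsLocalRing.closedPoint _))) := by
    rw [hη]; exact hgen
  refine ⟨pullback π g, pullback.snd π g, inferInstance, inferInstance,
    pullback.lift j (pX ≫ Spec.map (CommRingCat.ofHom (PowerSeries.constantCoeff (R := k))))
      (by rw [Category.assoc, hg]; exact hsq.w), ?_, ?_⟩
  · exact IsPullback.of_right (by rw [pullback.lift_fst, hg]; exact hsq) (pullback.lift_snd _ _ _)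
      (IsPullback.of_hasPullback π g)
  · let pt := gK (IsLocalRing.closedPoint (FractionRing (PowerSeries k)))
    let sh : Spec (CommRingCat.of (FractionRing (PowerSeries k))) ⟶ Spec (C.residueField pt) :=
      Spec.map (Scheme.descResidueField (Scheme.stalkClosedPointTo gK))
    have hsh : sh ≫ C.fromSpecResidueField pt = gK :=
      Scheme.descResidueField_stalkClosedPointTo_fromSpecResidueField _ C gK
    have h1 : IsPullback (pullback.fst (pullback.snd π g) sK ≫ pullback.fst π g)
        (pullback.snd (pullback.snd π g) sK) π (sh ≫ C.fromSpecResidueField pt) := by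
      rw [hsh]
      exact (IsPullback.of_hasPullback (pullback.snd π g) sK).paste_horiz (IsPullback.of_hasPullback π g)
    let m : pullback (pullback.snd π g) sK ⟶ pullback π (C.fromSpecResidueField pt) :=
      pullback.lift (pullback.fst (pullback.snd π g) sK ≫ pullback.fst π g)
        (pullback.snd (pullback.snd π g) sK ≫ sh) (by rw [Category.assoc]; exact h1.w.trans (Category.assoc _ _ _).symm)
    have h2 : IsPullback m (pullback.snd (pullback.snd π g) sK) (pullback.snd π (C.fromSpecResidueField pt)) sh :=
      IsPullback.of_right (by rw [pullback.lift_fst]; exact h1) (pullback.lift_snd _ _ _)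
        (IsPullback.of_hasPullback π (C.fromSpecResidueField pt))
    have h3 : Smooth (pullback.snd π (C.fromSpecResidueField pt)) := hgen'
    exact MorphismProperty.of_isPullback (P := @Smooth) h2 h3

end Groth.Agent.S16190
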