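import Groth.Statements.S16206
-- import your own Groth.Agent.* helpers here

set_option autoImplicit false
open RatCurv

namespace Groth.Agent.S16206

open W4c3cyccovratcurv SimpleGraph

variable {n k : ℕ}

/-- The graph of a parent function rooted at `c`. -/
def pg (c : Fin n) (π : Fin n → Fin n) : SimpleGraph (Fin n) :=
  SimpleGraph.fromRel fun a b => a ≠ c ∧ π a = b

lemma pg_adj (c : Fin n) (π : Fin n → Fin n) (a b : Fin n) :
    (pg c π).Adj a b ↔ a ≠ b ∧ ((a ≠ c ∧ π a = b) ∨ (b ≠ c ∧ π b = a)) := by
  simp [pg, SimpleGraph.fromRel_adj]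

/-- `d` decreases along the parent function. -/
def Desc (c : Fin n) (π : Fin n → Fin n) (d : Fin n → ℕ) : Prop :=
  ∀ v, v ≠ c → d (π v) < d v

lemma Desc.ne {c : Fin n} {π : Fin n → Fin n} {d : Fin n → ℕ} (h : Desc c π d) {v : Fin n}
    (hv : v ≠ c) : π v ≠ v := by
  intro e
  have := h v hv
  rw [e] at this
  exact lt_irrefl _ this

lemma pg_isTree {c : Fin n} {π : Fin n → Fin n} {d : Fin n → ℕ} (h : Desc c π d) :
    (pg c π).IsTree := by
  rw [SimpleGraph.isTree_iff_connected_and_card]
  constructor
  · haveI : Nonempty (Fin n) := ⟨c⟩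
    have hr : ∀ N, ∀ v, d v ≤ N → (pg c π).Reachable v c := by
      intro N
      induction N with
      | zero =>
        intro v hv
        by_cases hc : v = c
        · subst hc; rfl
        · have := h v hc; omega
      | succ N ih =>
        intro v hv
        by_cases hc : v = c
        · subst hc; rfl
        · have ha : (pg c π).Adj v (π v) :=
            (pg_adj c π v (π v)).2 ⟨(h.ne hc).symm, Or.inl ⟨hc, rfl⟩⟩
          exact ha.reachable.trans (ih _ (by have := h v hc; omega))
    exact ⟨fun a b => (hr _ a le_rfl).trans (hr _ b le_rfl).symm⟩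
  · let e : {v : Fin n // v ≠ c} → (pg c π).edgeSet := fun v =>
      ⟨s(v.1, π v.1), (pg_adj c π v.1 (π v.1)).2 ⟨(h.ne v.2).symm, Or.inl ⟨v.2, rfl⟩⟩⟩
    have he : Function.Bijective e := by
      constructor
      · rintro ⟨v, hv⟩ ⟨w, hw⟩ hvw
        have h' : s(v, π v) = s(w, π w) := congrArg Subtype.val hvw
        rcases Sym2.eq_iff.mp h' with ⟨h1, -⟩ | ⟨h1, h2⟩
        · exact Subtype.ext h1
        · exfalso
          have a := h v hv
          have b := h w hw
          rw [h2] at a
          rw [← h1] at b
          omega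
      · rintro ⟨x, hx⟩
        induction x using Sym2.ind with
        | h a b =>
          rcases ((pg_adj c π a b).1 hx).2 with ⟨ha, hb⟩ | ⟨hb, ha⟩
          · exact ⟨⟨a, ha⟩, Subtype.ext (by simp [e, hb])⟩
          · exact ⟨⟨b, hb⟩, Subtype.ext (by simp [e, ha, Sym2.eq_swap])⟩
    rw [← Nat.card_congr (Equiv.ofBijective e he)]
    have : Nat.card {v : Fin n // v ≠ c} = n - 1 := by
      simp [Nat.card_eq_fintype_card, Fintype.card_subtype_compl]
    have := c.pos
    simp only [Nat.card_eq_fintype_card, Fintype.card_fin] at *
    omega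

lemma exists_pg {G : SimpleGraph (Fin n)} (hG : G.IsTree) (c : Fin n) :
    ∃ (π : Fin n → Fin n) (d : Fin n → ℕ), Desc c π d ∧ pg c π = G := by
  have hc := hG.connected
  have hex : ∀ v : Fin n, ∃ u, v ≠ c → G.Adj v u ∧ G.dist u c < G.dist v c := by
    intro v
    by_cases hv : v = c
    · exact ⟨c, fun h => absurd hv h⟩
    · obtain ⟨p, hp⟩ := hc.exists_walk_length_eq_dist v c
      cases p with
      | nil => exact absurd rfl hv
      | @cons _ u _ ha q =>
        refine ⟨u, fun _ => ⟨ha, ?_⟩⟩
        have := G.dist_le q
        simp only [SimpleGraph.Walk.length_cons] at hp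
        omega
  choose π hπ using hex
  have hd : Desc c π (fun v => G.dist v c) := fun v hv => (hπ v hv).2
  refine ⟨π, _, hd, ?_⟩
  have hle : pg c π ≤ G := by
    intro a b hab
    rcases ((pg_adj c π a b).1 hab).2 with ⟨ha, hb⟩ | ⟨hb, ha⟩
    · exact hb ▸ (hπ a ha).1
    · exact ha ▸ ((hπ b hb).1).symm
  obtain ⟨-, hmax⟩ := SimpleGraph.isTree_iff_maximal_isAcyclic.1 (pg_isTree hd)
  exact le_antisymm hle (hmax.2 hG.IsAcyclic hle)

/-- The marked tree of a parent function. -/
def mkT (c : Fin n) (π : Fin n → Fin n) (m : Fin k → Fin n)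
    (h : ∃ d, Desc c π d) : MarkedTree k where
  n := n
  graph := pg c π
  isTree := pg_isTree h.choose_spec
  mark := m

lemma step (c w : Fin n) (π : Fin n → Fin n) (m : Fin k → Fin n) (hwc : w ≠ c) (hπw : π w = c)
    (h : ∃ d, Desc c π d)
    (h' : ∃ d, Desc c (fun x => if π x = w then c else π x) d) :
    ConicAdj (mkT c π m h)
      (mkT c (fun x => if π x = w then c else π x) (fun i => if m i = w then c else m i) h') := by
  have ha : (pg c π).Adj c w := (pg_adj c π c w).2 ⟨Ne.symm hwc, Or.inr ⟨hwc, hπw⟩⟩
  have hπ'w : (if π w = w then c else π w) = c := by rw [hπw, if_neg (Ne.symm hwc)]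
  have ha' : (pg c (fun x => if π x = w then c else π x)).Adj c w :=
    (pg_adj c _ c w).2 ⟨Ne.symm hwc, Or.inr ⟨hwc, hπ'w⟩⟩
  have heq : contract (pg c π) c w = contract (pg c (fun x => if π x = w then c else π x)) c w := by
    ext a b
    obtain ⟨a, ha1⟩ := a
    obtain ⟨b, hb1⟩ := b
    simp only [contract, SimpleGraph.fromRel_adj, pg_adj, ne_eq, Subtype.mk.injEq]
    grind
  refine ⟨c, w, c, w, ha, ha', ⟨Equiv.refl _, fun {a b} => ?_⟩, rfl, fun i => ?_⟩
  · show (contract (pg c (fun x => if π x = w then c else π x)) c w).Adj a b ↔ _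
    rw [← heq]
    rfl
  · show contractMark m c w ha.ne i =
      contractMark (fun i => if m i = w then c else m i) c w ha'.ne i
    unfold contractMark
    by_cases hm : m i = w
    · simp [hm, Ne.symm hwc]
    · simp [hm]

lemma conicAdj_symm {T₁ T₂ : MarkedTree k} (h : ConicAdj T₁ T₂) : ConicAdj T₂ T₁ := by
  obtain ⟨u₁, w₁, u₂, w₂, h₁, h₂, φ, hφ, hm⟩ := h
  refine ⟨u₂, w₂, u₁, w₁, h₂, h₁, φ.symm, ?_, fun i => ?_⟩
  · rw [← hφ]; exact φ.symm_apply_apply _
  · rw [← hm i]; exact φ.symm_apply_apply _

open Finset in
lemma reach (c : Fin n) : ∀ (N : ℕ) (π : Fin n → Fin n) (m : Fin k → Fin n)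
    (h : ∃ d, Desc c π d),
    (univ.filter fun v => v ≠ c ∧ π v ≠ c).card + (univ.filter fun i => m i ≠ c).card ≤ N →
    Relation.ReflTransGen ConicAdj (mkT c π m h)
      (mkT c (fun _ => c) (fun _ => c)
        ⟨fun v => if v = c then 0 else 1, fun v hv => by simp [hv]⟩) := by
  intro N
  induction N with
  | zero =>
    intro π m h hN
    have hπ : ∀ v, v ≠ c → π v = c := fun v hv => by
      by_contra hne
      have : 0 < (univ.filter fun v => v ≠ c ∧ π v ≠ c).card :=
        card_pos.2 ⟨v, by simp [hv, hne]⟩
      omega
    have hm : m = fun _ => c := funext fun i => by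
      by_contra hne
      have : 0 < (univ.filter fun i => m i ≠ c).card := card_pos.2 ⟨i, by simp [hne]⟩
      omega
    subst hm
    have he : pg c π = pg c (fun _ => c) := by
      ext a b
      simp only [pg_adj]
      grind
    unfold mkT
    simp only [he]
    exact Relation.ReflTransGen.refl
  | succ N ih =>
    intro π m h hN
    obtain ⟨d, hd⟩ := h
    have hd' : ∀ w, Desc c (fun x => if π x = w then c else π x)
        (fun x => if x = c then 0 else d x + 1) := by
      intro w v hv
      have := hd v hv
      simp only [hv, if_false]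
      split_ifs <;> first | omega | (simp_all; omega) | simp_all
    by_cases hex : ∃ v, v ≠ c ∧ π v ≠ c
    · obtain ⟨v, hv, hmin⟩ := (univ.filter fun v => v ≠ c ∧ π v ≠ c).exists_min_image d
        ⟨hex.choose, by simpa using hex.choose_spec⟩
      simp only [mem_filter, mem_univ, true_and] at hv hmin
      have hw : π (π v) = c := by
        by_contra hne
        have := hmin (π v) ⟨hv.2, hne⟩
        have := hd v hv.1
        omega
      refine Relation.ReflTransGen.head (step c (π v) π m hv.2 hw _ ⟨_, hd' _⟩) (ih _ _ _ ?_)
      have h1 : (univ.filter fun x => x ≠ c ∧ (if π x = π v then c else π x) ≠ c) ⊂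
          (univ.filter fun x => x ≠ c ∧ π x ≠ c) := by
        rw [Finset.ssubset_iff_of_subset (fun x hx => by
          simp only [mem_filter, mem_univ, true_and] at hx ⊢
          grind)]
        exact ⟨v, by simp [hv], by simp⟩
      have h2 : (univ.filter fun i => (if m i = π v then c else m i) ≠ c).card ≤
          (univ.filter fun i => m i ≠ c).card := card_le_card fun x hx => by
          simp only [mem_filter, mem_univ, true_and] at hx ⊢
          grind
      have := card_lt_card h1
      omega
    · push_neg at hex
      by_cases hmx : ∃ i, m i ≠ c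
      · obtain ⟨i, hi⟩ := hmx
        refine Relation.ReflTransGen.head (step c (m i) π m hi (hex _ hi) _ ⟨_, hd' _⟩)
          (ih _ _ _ ?_)
        have h1 : (univ.filter fun x => x ≠ c ∧ (if π x = m i then c else π x) ≠ c).card ≤
            (univ.filter fun x => x ≠ c ∧ π x ≠ c).card := card_le_card fun x hx => by
          simp only [mem_filter, mem_univ, true_and] at hx ⊢
          grind
        have h2 : (univ.filter fun j => (if m j = m i then c else m j) ≠ c) ⊂
            (univ.filter fun j => m j ≠ c) := by
          rw [Finset.ssubset_iff_of_subset (fun x hx => by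
            simp only [mem_filter, mem_univ, true_and] at hx ⊢
            grind)]
          exact ⟨i, by simp [hi], by simp⟩
        have := card_lt_card h2
        omega
      · push_neg at hmx
        have hz1 : (univ.filter fun v => v ≠ c ∧ π v ≠ c).card = 0 := by
          simp only [card_eq_zero, filter_eq_empty_iff, mem_univ, true_implies]
          grind
        have hz2 : (univ.filter fun i => m i ≠ c).card = 0 := by
          simp only [card_eq_zero, filter_eq_empty_iff, mem_univ, true_implies]
          grind
        exact ih π m ⟨d, hd⟩ (by omega)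

lemma reach_tree (T : MarkedTree k) (c : Fin T.n) :
    Relation.ReflTransGen ConicAdj T
      (mkT c (fun _ => c) (fun _ => c)
        ⟨fun v => if v = c then 0 else 1, fun v hv => by simp [hv]⟩) := by
  obtain ⟨π, d, hd, hg⟩ := exists_pg T.isTree c
  have := reach c _ π T.mark ⟨d, hd⟩ le_rfl
  unfold mkT at this ⊢
  simp only [hg] at this
  exact this

/-- Let G₁ and G₂ be dual graphs of linear trees of the same total degree e and with k marked points
each, that is finite trees with e vertices, every vertex of degree one, together with a list of k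
marked vertices (repetitions allowed). Then a finite chain of conic deformations leads from G₁ to
G₂. Here a conic deformation of such a graph is the marked graph obtained by contracting one edge
(the contracted vertex being the unique vertex of degree two), two marked trees are one step apart
when they have isomorphic conic deformations, the isomorphism matching the contracted vertices and
the i-th marked vertices, and the conclusion is that G₁ and G₂ are related by the
reflexive-transitive closure of this one-step relation. -/
theorem result (k : ℕ) (T₁ T₂ : W4c3cyccovratcurv.MarkedTree k)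
    (h : T₁.n = T₂.n) :
    Relation.ReflTransGen W4c3cyccovratcurv.ConicAdj T₁ T₂ := by
  obtain ⟨n, G₁, hG₁, m₁⟩ := T₁
  obtain ⟨n₂, G₂, hG₂, m₂⟩ := T₂
  subst h
  obtain ⟨c⟩ := hG₁.connected.nonempty
  exact (reach_tree ⟨n, G₁, hG₁, m₁⟩ c).trans
    (Relation.ReflTransGen.mono (fun a b h => conicAdj_symm h) _ _ (reach_tree ⟨n, G₂, hG₂, m₂⟩ c).swap)

end Groth.Agent.S16206
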