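import Groth.Statements.S16212
import Groth.Agent.FixPtLib.Smooth
-- import your own Groth.Agent.* helpers here

set_option autoImplicit false
set_option backward.isDefEq.respectTransparency false
set_option maxHeartbeats 1000000
set_option linter.style.haveILetI false
universe u v
open CategoryTheory AlgebraicGeometry
open AlgGrp

namespace Groth.Agent.S16212

/-- Let S be a scheme, X an S-scheme that is smooth, separated and of finite presentation over S, and G
a finite group whose order is invertible on S (a unit among the global functions of S) acting on X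
by S-automorphisms. Then the scheme of G-fixed points of X, namely any S-scheme Z with an S-morphism
ι to X that is itself fixed by every element of G (ι followed by the automorphism of each g equals
ι) and such that an S-morphism T → X is fixed by every element of G exactly when it factors through
ι, and then uniquely, is a closed subscheme of X (ι is a closed immersion) which is smooth and of
finite presentation over S (smooth, quasi-compact and quasi-separated). The published statement
assumes X only smooth and of finite presentation over S; this row also assumes X separated over S. -/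
theorem result (S : Scheme.{u})
    (X : Over S) [Smooth X.hom] [QuasiCompact X.hom] [IsSeparated X.hom]
    (G : Type v) [Group G] [Finite G] (ρ : G →* Aut X)
    (hG : IsUnit (Nat.card G : Γ(S, ⊤)))
    (Z : Over S) (ι : Z ⟶ X) (hι : ∀ g : G, ι ≫ (ρ g).hom = ι)
    (hZ : ∀ (T : Over S) (t : T ⟶ X), (∀ g : G, t ≫ (ρ g).hom = t) ↔ ∃! t' : T ⟶ Z, t' ≫ ι = t) :
    IsClosedImmersion ι.left ∧ Smooth Z.hom ∧ QuasiCompact Z.hom ∧ QuasiSeparated Z.hom := by
  classical
  haveI : Mono ι := ⟨fun {T} a b hab => by
    have hfix : ∀ g : G, (a ≫ ι) ≫ (ρ g).hom = a ≫ ι := fun g => by rw [Category.assoc, hι g]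
    exact ((hZ T (a ≫ ι)).1 hfix).unique rfl hab.symm⟩
  have hfin : ((fun g : G => (ρ g).hom) '' Set.univ).Finite := Set.finite_univ.image _
  obtain ⟨h1, h2⟩ := Groth.Agent.FixPtLib.closed_of_universal hfin Z ι
    (by rintro f ⟨g, -, rfl⟩; exact hι g)
    (fun T t h => ((hZ T t).1 fun g => h _ ⟨g, trivial, rfl⟩).exists) inferInstance
  haveI := h1; haveI := h2
  haveI : Finite ρ.range := Finite.of_surjective ρ.rangeRestrict ρ.rangeRestrict_surjective
  have hn : IsUnit (Nat.card ρ.range : Γ(S, ⊤)) :=
    isUnit_of_dvd_unit (by exact_mod_cast (Nat.cast_dvd_cast (Subgroup.card_range_dvd ρ))) hG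
  have h3 : Smooth Z.hom := Groth.Agent.FixPtLib.smooth_fixed ρ.range.subtype hn Z ι
    (by rintro ⟨m, g, rfl⟩; exact hι g)
    (fun T t h => ((hZ T t).1 fun g => h ⟨ρ g, g, rfl⟩).exists)
  have hZhom : Z.hom = ι.left ≫ X.hom := (Over.w ι).symm
  refine ⟨h1, h3, ?_, ?_⟩
  · rw [hZhom]; infer_instance
  · rw [hZhom]; infer_instance

end Groth.Agent.S16212
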