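import Groth.Statements.S16219
import Groth.Agent.LimDomAlg.Basic

set_option autoImplicit false
universe u
open Lim

namespace Groth.Agent.S16219

open AlgebraicGeometry CategoryTheory in
/-- Let A be a commutative ring, X a scheme of finite type over Spec A (quasi-compact and locally of
finite type), C an A-algebra that is an integral domain and the union of a directed family of
A-subalgebras C_i, and g : Spec C → X an A-morphism. Then for some index i there is an A-morphism
Spec C_i → X whose composite with the morphism Spec C → Spec C_i induced by the inclusion is g. The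
published statement asserts that the map from the colimit of the sets of A-morphisms Spec C_i → X to
the set of A-morphisms Spec C → X is bijective; this row states only that it is surjective
(injectivity holds for every filtered colimit of A-algebras). -/
theorem result
    {ι : Type u} (A C : Type u) [CommRing A] [CommRing C] [Algebra A C] [IsDomain C]
    (S : ι → Subalgebra A C) (hdir : Directed (· ≤ ·) S) (hcov : ∀ c : C, ∃ i, c ∈ S i)
    (X : Scheme.{u}) (f : X ⟶ Spec (CommRingCat.of A))
    [LocallyOfFiniteType f] [QuasiCompact f]
    (g : Spec (CommRingCat.of C) ⟶ X)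
    (hg : g ≫ f = Spec.map (CommRingCat.ofHom (algebraMap A C))) :
    ∃ (i : ι) (g' : Spec (CommRingCat.of (S i)) ⟶ X),
      g' ≫ f = Spec.map (CommRingCat.ofHom (algebraMap A (S i))) ∧
      Spec.map (CommRingCat.ofHom (S i).val.toRingHom) ≫ g' = g := by
  classical
  obtain ⟨s, g₁, h1, h2⟩ := Groth.Agent.LimDomAlg.exists_factor A C f g hg
  obtain ⟨i, hi⟩ : ∃ i, ∀ c ∈ s, c ∈ S i := by
    suffices key : ∀ t : Finset C, ∃ i, ∀ c ∈ t, c ∈ S i from key s
    intro t
    induction t using Finset.induction with
    | empty => exact ⟨(hcov 0).choose, by simp⟩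
    | insert c t' _ ih' =>
      obtain ⟨i, hi⟩ := ih'
      obtain ⟨j, hj⟩ := hcov c
      obtain ⟨l, hl1, hl2⟩ := hdir i j
      exact ⟨l, fun x hx => (Finset.mem_insert.1 hx).elim (fun e => e ▸ hl2 hj) fun hx => hl1 (hi x hx)⟩
  have hle : Groth.Agent.LimDomAlg.gen A C s ≤ S i := Algebra.adjoin_le fun c hc => hi c hc
  refine ⟨i, Spec.map (CommRingCat.ofHom (Subalgebra.inclusion hle).toRingHom) ≫ g₁, ?_, ?_⟩
  · rw [Category.assoc, h1, ← Spec.map_comp]
    exact congrArg Spec.map (CommRingCat.hom_ext (RingHom.ext fun r => rfl))
  · rw [← Spec.map_comp_assoc]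
    exact h2

end Groth.Agent.S16219
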