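import Groth.Statements.S1622
import Groth.Agent.PointBlowUp.Regular

set_option autoImplicit false
set_option backward.isDefEq.respectTransparency false
set_option backward.isDefEq.respectTransparency.types false
set_option linter.style.haveILetI false
universe u
open CategoryTheory CategoryTheory.Limits AlgebraicGeometry
open Resolve

namespace Groth.Agent.S1622
open Groth.Agent

/-- Let A be a regular local ring of dimension two and b : X → Spec A a blowing up of Spec A in the
maximal ideal (characterised by its universal property). Then X is irreducible and all of its local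
rings are regular. -/
theorem result (A : Type u) [CommRing A] [IsRegularLocalRing A] (hA : ringKrullDim A = 2)
    (X : Scheme.{u}) (b : X ⟶ Spec (CommRingCat.of A)) (hb : BlowUp.IsBlowUp b (Curv2.idealSheaf A (IsLocalRing.maximalIdeal A))) :
    IrreducibleSpace X ∧ ∀ x : X, IsRegularLocalRing (X.presheaf.stalk x) := by
  haveI := PointBlowUp.isIntegral A hA
  obtain ⟨e, he⟩ := BlowUpLib.exists_iso hb (BlowUpLib.isBlowUp_local (IsLocalRing.maximalIdeal A))
  haveI : IsIntegral X := H23.MaxAbelian.isIntegral_of_iso e
  refine ⟨inferInstance, fun x => ?_⟩
  haveI := PointBlowUp.isRegularLocalRing_stalk hA (e.hom x)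
  exact IsRegularLocalRing.of_ringEquiv (asIso (e.hom.stalkMap x)).commRingCatIsoToRingEquiv

end Groth.Agent.S1622
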