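import Groth.Statements.S16240
import Groth.Agent.KZ.LFRes
import Groth.Agent.SchTop.Closed

set_option autoImplicit false
set_option backward.isDefEq.respectTransparency false
set_option backward.isDefEq.respectTransparency.types false
universe u
open CategoryTheory CategoryTheory.Limits AlgebraicGeometry
open Coh

namespace Groth.Agent.S16240

/-- Let X be a Noetherian scheme all of whose local rings are regular, of (topological Krull) dimension
at most m, and let S be an exact sequence of O_X-modules G ⟶ E_m ⟶ ⋯ ⟶ E_1 ⟶ F with m + 2 terms (G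
in position 0, F in position m + 1), injective at the first map and surjective at the last, in which
F is coherent and E_1, …, E_m are finite locally free. Then G is finite locally free. (The source
asks for p + 1 vector bundles with p ≥ dim X − 1, i.e. at least dim X of them, and finite dimension;
here m bounds the dimension.) -/
theorem result (X : Scheme.{u}) [IsNoetherian X]
    (hreg : ∀ x : X, IsRegularLocalRing (X.presheaf.stalk x)) (m : ℕ)
    (hdim : topologicalKrullDim ↥X ≤ (m : WithBot ℕ∞))
    (S : ComposableArrows X.Modules (m + 1)) (hS : S.Exact)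
    (hmono : Mono (S.map' 0 1 (Nat.zero_le 1) (Nat.le_add_left 1 m)))
    (hepi : Epi (S.map' m (m + 1) (Nat.le_succ m) (le_refl (m + 1))))
    (hE : ∀ i : Fin m, FlatMod.IsFinLocFree (S.obj ⟨i.1 + 1, Nat.succ_lt_succ (Nat.lt_succ_of_lt i.2)⟩))
    (hF : Coh.IsCoh (S.obj (Fin.last (m + 1)))) :
    FlatMod.IsFinLocFree (S.obj 0) := by
  open Groth.Agent Groth.Agent.KZ.LFRes in
  haveI := hmono
  haveI := hepi
  have hpd : ∀ N : X.Modules, Coh.IsCoh N → KZ.LFRes.PDLT (m + 1) N := by
    intro N hN
    refine ⟨hN, fun x => ?_⟩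
    haveI := hreg x
    haveI : Module.Finite (X.presheaf.stalk x) (KZ.LFRes.stk N x) := QCoh.finite_stalk_of_isFT hN.1 hN.2 x
    have h1 : (IsLocalRing.maximalIdeal (X.presheaf.stalk x)).spanFinrank ≤ m := by
      have e := (isRegularLocalRing_iff (X.presheaf.stalk x)).1 (hreg x)
      have := (e.le.trans (SchTop.ringKrullDim_stalk_le x)).trans hdim
      exact_mod_cast this
    exact RegLoc6.pdLE_mono h1 (RegLoc6.pdLE_of_isRegularLocalRing (X.presheaf.stalk x) (KZ.LFRes.stk N x))
  let f : ∀ (j : ℕ) (h : j ≤ m), S.obj ⟨j, by omega⟩ ⟶ S.obj ⟨j + 1, by omega⟩ := fun j h =>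
    S.map' j (j + 1)
  have key : ∀ (k j : ℕ) (h : j + k = m), KZ.LFRes.PDLT (j + 1) (image (f j (by omega))) := by
    intro k
    induction k with
    | zero =>
      intro j h
      obtain rfl : j = m := by omega
      haveI : Epi (f j le_rfl) := hepi
      haveI : Epi (image.ι (f j le_rfl)) := epi_of_epi_fac (image.fac _)
      haveI := isIso_of_mono_of_epi (image.ι (f j le_rfl))
      exact KZ.LFRes.PDLT.iso (asIso (image.ι (f j le_rfl))).symm (hpd _ hF)
    | succ k ih =>
      intro j h
      have hj := ih (j + 1) (by omega)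
      have hE' : KZ.LFRes.PDLT (j + 1) (S.obj ⟨j + 1, by omega⟩) :=
        (KZ.LFRes.pdlt_one_iff.2 (hE ⟨j, by omega⟩)).mono (by omega)
      have hex := hS.exact j (by omega)
      have w : f j (by omega) ≫ f (j + 1) (by omega) = 0 := hS.toIsComplex.zero j (by omega)
      let a := f j (by omega)
      let b := f (j + 1) (by omega)
      have w1 : a ≫ factorThruImage b = 0 := by
        rw [← cancel_mono (image.ι b), Category.assoc, image.fac, zero_comp]
        exact w
      have w2 : image.ι a ≫ factorThruImage b = 0 := by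
        rw [← cancel_epi (factorThruImage a), ← Category.assoc, image.fac, comp_zero]
        exact w1
      let T₁ := ShortComplex.mk a (factorThruImage b) w1
      let T₂ := ShortComplex.mk (image.ι a) (factorThruImage b) w2
      have hT₁ : T₁.Exact := by
        let ψ : T₁ ⟶ ShortComplex.mk a b w :=
          ShortComplex.homMk (𝟙 _) (𝟙 _) (image.ι b) (by simp [T₁]) (by simp [T₁])
        haveI : Mono ψ.τ₃ := inferInstanceAs (Mono (image.ι b))
        haveI : Epi ψ.τ₁ := inferInstanceAs (Epi (𝟙 _))
        haveI : IsIso ψ.τ₂ := inferInstanceAs (IsIso (𝟙 _))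
        exact (ShortComplex.exact_iff_of_epi_of_isIso_of_mono ψ).2 hex
      let φ : T₁ ⟶ T₂ := ShortComplex.homMk (factorThruImage a) (𝟙 _) (𝟙 _) (by simp [T₁, T₂]) (by simp [T₁, T₂])
      haveI : Epi φ.τ₁ := inferInstanceAs (Epi (factorThruImage a))
      haveI : Mono φ.τ₃ := inferInstanceAs (Mono (𝟙 _))
      haveI : IsIso φ.τ₂ := inferInstanceAs (IsIso (𝟙 _))
      have hT₂ : T₂.ShortExact :=
        .mk' ((ShortComplex.exact_iff_of_epi_of_isIso_of_mono φ).1 hT₁) inferInstance inferInstance
      exact KZ.LFRes.PDLT.kernel_of hT₂ hE' hj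
  have h0 := key m 0 (by omega)
  haveI : Mono (f 0 (Nat.zero_le m)) := hmono
  haveI : Mono (factorThruImage (f 0 (Nat.zero_le m))) := mono_of_mono_fac (image.fac _)
  haveI := isIso_of_mono_of_epi (factorThruImage (f 0 (Nat.zero_le m)))
  exact KZ.LFRes.pdlt_one_iff.1 (h0.iso (asIso (factorThruImage (f 0 (Nat.zero_le m)))).symm)

end Groth.Agent.S16240
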