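import Groth.Statements.S16248
import Groth.Agent.H23.MulEtale
import Groth.Agent.GrpSchLib.IsogenyFibre

set_option autoImplicit false
set_option backward.isDefEq.respectTransparency false
set_option backward.isDefEq.respectTransparency.types false
set_option maxHeartbeats 1000000
set_option linter.style.haveILetI false
universe u
open CategoryTheory CategoryTheory.Limits AlgebraicGeometry MonObj
open AgPol

namespace Groth.Agent.S16248

open Groth.Agent MonObj MonoidalCategory CartesianMonoidalCategory

set_option maxHeartbeats 1600000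
set_option linter.style.haveILetI false
set_option backward.isDefEq.respectTransparency false
set_option backward.isDefEq.respectTransparency.types false

/-- Let E be an S-group scheme which is smooth and proper over S with geometrically connected fibres of
dimension one (a family of elliptic curves over S with its group law), and let N ≥ 1 be an integer
invertible on S. Consider, for an S-scheme T, the T-valued points Q of E with N·Q = 0 whose value at
every geometric point of T has order exactly N (for N invertible these are exactly the level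
structures of type ℤ/N sending 1 to Q). This functor is represented by an S-scheme Z which is finite
and étale over S: there are such a Z and a point P of E with values in Z having this property, such
that every Q with the property over any T is the pull-back of P along a unique S-morphism T → Z. -/
theorem result
    {S : Scheme.{u}} (E : Over S) [GrpObj E] (hE : AgPol.IsAbSch E 1)
    (N : ℕ) (hN : 1 ≤ N) (hNu : IsUnit (N : Γ(S, ⊤))) :
    ∃ (Z : Over S) (P : Z ⟶ E), IsFinite Z.hom ∧ Etale Z.hom ∧
      (P ^ N = 1 ∧ ∀ (Ω : Type u) [Field Ω] [IsAlgClosed Ω] (t : Spec (CommRingCat.of Ω) ⟶ Z.left),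
        orderOf ((Over.homMk t rfl : Over.mk (t ≫ Z.hom) ⟶ Z) ≫ P) = N) ∧
      ∀ (T : Over S) (Q : T ⟶ E), Q ^ N = 1 →
        (∀ (Ω : Type u) [Field Ω] [IsAlgClosed Ω] (t : Spec (CommRingCat.of Ω) ⟶ T.left),
          orderOf ((Over.homMk t rfl : Over.mk (t ≫ T.hom) ⟶ T) ≫ Q) = N) →
        ∃! v : T ⟶ Z, v ≫ P = Q := by
  obtain ⟨hsm, hp, hgc, -⟩ := hE
  haveI := hp; haveI := hsm; haveI := hgc
  haveI : GeometricallyReduced E.hom := GrpSchLib.IsogenyFibre.geometricallyReduced_of_smooth' _
  haveI hfin : IsFinite (𝟙 E ^ (N : ℤ) : E ⟶ E).left := H23.MulEtale.isFinite_zpow (N : ℤ) (by simpa using hNu)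
  haveI het : Etale (𝟙 E ^ (N : ℤ) : E ⟶ E).left := H23.MulEtale.etale_zpow (N : ℤ) (by simpa using hNu)
  let ν : E ⟶ E := 𝟙 E ^ (N : ℤ)
  let e : S ⟶ E.left := η[E].left
  have he : e ≫ E.hom = 𝟙 S := Over.w η[E]
  let a : pullback ν.left e ⟶ E.left := pullback.fst ν.left e
  let b : pullback ν.left e ⟶ S := pullback.snd ν.left e
  haveI : IsFinite b := MorphismProperty.pullback_snd (P := @IsFinite) _ _ hfin
  haveI : Etale b := MorphismProperty.pullback_snd (P := @Etale) _ _ het
  have hab : a ≫ E.hom = b := by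
    have h := congrArg (· ≫ E.hom) (pullback.condition (f := ν.left) (g := e))
    simp only [Category.assoc, Over.w, he, Category.comp_id] at h
    exact h
  let K : Over S := Over.mk b
  let κ : K ⟶ E := Over.homMk a hab
  have hpow : ∀ {T : Over S} (x : T ⟶ E), x ≫ ν = x ^ N := fun {T} x => by
    show x ≫ (𝟙 E ^ (N : ℤ)) = _
    rw [zpow_natCast, MonObj.comp_pow, Category.comp_id]
  have hone : ∀ (T : Over S), (1 : T ⟶ E).left = T.hom ≫ e := fun T => rfl
  have hκ : κ ^ N = 1 := by
    rw [← hpow]
    exact Over.OverMorphism.ext ((pullback.condition (f := ν.left) (g := e)).trans (hone K).symm)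
  have hlift : ∀ {T : Over S} (x : T ⟶ E), x ^ N = 1 → ∃ y : T ⟶ K, y ≫ κ = x := fun {T} x hx => by
    have h1 : x.left ≫ ν.left = T.hom ≫ e := by
      rw [← Over.comp_left, hpow, hx]; rfl
    exact ⟨Over.homMk (pullback.lift x.left T.hom h1) (pullback.lift_snd _ _ _),
      Over.OverMorphism.ext (pullback.lift_fst _ _ _)⟩
  obtain ⟨o, ho⟩ := hlift (1 : Over.mk (𝟙 S) ⟶ E) (one_pow N)
  have hob : o.left ≫ b = 𝟙 S := Over.w o
  haveI : IsClosedImmersion o.left := by
    haveI : IsClosedImmersion (o.left ≫ b) := by rw [hob]; exact inferInstanceAs (IsClosedImmersion (𝟙 S))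
    exact IsClosedImmersion.of_comp o.left b
  haveI : Etale o.left := by
    haveI : Etale (o.left ≫ b) := by rw [hob]; exact inferInstanceAs (Etale (𝟙 S))
    exact Etale.of_comp o.left b
  haveI : IsOpenImmersion o.left := IsOpenImmersion.of_flat_of_mono o.left
  have hm : ∀ d : ℕ, ∃ y : K ⟶ K, y ≫ κ = κ ^ d := fun d => hlift _ (by rw [← pow_mul, mul_comm, pow_mul, hκ, one_pow])
  choose md hmd using hm
  let W : Set K.left := ⋂ d ∈ Finset.Ioo 0 N, ((md d).left ⁻¹' Set.range o.left)ᶜ
  have hW : IsClopen W := isClopen_biInter_finset fun d _ =>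
    ((show IsClopen (Set.range o.left) from ⟨o.left.isClosedEmbedding.isClosed_range, o.left.isOpenEmbedding.isOpen_range⟩).preimage
      (md d).left.continuous).compl
  let U : K.left.Opens := ⟨W, hW.2⟩
  haveI : IsClosedImmersion U.ι := IsClosedImmersion.of_isPreimmersion U.ι (by rw [Scheme.Opens.range_ι]; exact hW.1)
  let Z : Over S := Over.mk (U.ι ≫ b)
  let iZ : Z ⟶ K := Over.homMk U.ι rfl
  have key : ∀ (Ω : Type u) [Field Ω] (X : Over S) (t : Spec (CommRingCat.of Ω) ⟶ X.left) (y : X ⟶ K),
      (orderOf ((Over.homMk t rfl : Over.mk (t ≫ X.hom) ⟶ X) ≫ y ≫ κ) = N ↔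
        y.left (t (IsLocalRing.closedPoint Ω)) ∈ W) := by
    intro Ω _ X t y
    let τ : Over.mk (t ≫ X.hom) ⟶ X := Over.homMk t rfl
    have hN1 : (τ ≫ y ≫ κ) ^ N = 1 := by
      rw [← MonObj.comp_pow, ← MonObj.comp_pow, hκ, MonObj.comp_one, MonObj.comp_one]
    rw [orderOf_eq_iff (by omega : 0 < N)]
    simp only [W, Set.mem_iInter, Set.mem_compl_iff, Set.mem_preimage, Finset.mem_Ioo]
    refine ⟨fun h d hd hmem => h.2 d hd.2 hd.1 ?_, fun h => ⟨hN1, fun d hd hd0 h1 => h d ⟨hd0, hd⟩ ?_⟩⟩
    · let w : Spec (CommRingCat.of Ω) ⟶ K.left := (τ ≫ y ≫ md d).left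
      haveI : Subsingleton (Spec (CommRingCat.of Ω)) := inferInstanceAs (Subsingleton (PrimeSpectrum Ω))
      have hr : Set.range w ⊆ Set.range o.left := by
        rintro _ ⟨z, rfl⟩
        rw [Subsingleton.elim z (IsLocalRing.closedPoint Ω)]
        exact hmem
      let l := IsOpenImmersion.lift o.left w hr
      have hl : l ≫ o.left = w := IsOpenImmersion.lift_fac _ _ _
      have hl2 : l = t ≫ X.hom := by
        have h2 : w ≫ b = t ≫ X.hom := Over.w (τ ≫ y ≫ md d)
        rw [← h2, ← hl, Category.assoc, hob]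
        exact (Category.comp_id l).symm
      rw [← MonObj.comp_pow, ← MonObj.comp_pow, ← hmd d]
      refine Over.OverMorphism.ext ?_
      show (τ ≫ y ≫ md d ≫ κ).left = (t ≫ X.hom) ≫ e
      have h3 : o.left ≫ a = e := (congrArg CommaMorphism.left ho).trans ((hone _).trans (Category.id_comp e))
      calc (τ ≫ y ≫ md d ≫ κ).left = w ≫ a := by simp [w, κ]
        _ = _ := by rw [← hl, Category.assoc, h3, hl2]
    · have h4 : τ ≫ y ≫ md d = Over.homMk (show (Over.mk (t ≫ X.hom)).left ⟶ S from t ≫ X.hom)
          (Category.comp_id _) ≫ o := by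
        refine Over.OverMorphism.ext (pullback.hom_ext ?_ ?_)
        · have h5 : τ ≫ y ≫ md d ≫ κ = 1 := by rw [hmd, MonObj.comp_pow, MonObj.comp_pow]; exact h1
          show (τ ≫ y ≫ md d).left ≫ a = ((t ≫ X.hom) ≫ o.left) ≫ a
          rw [show (τ ≫ y ≫ md d).left ≫ a = (τ ≫ y ≫ md d ≫ κ).left from by simp [κ], h5, Category.assoc,
            show o.left ≫ a = e from (congrArg CommaMorphism.left ho).trans ((hone _).trans (Category.id_comp e))]
          exact hone _
        · show (τ ≫ y ≫ md d).left ≫ b = ((t ≫ X.hom) ≫ o.left) ≫ b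
          rw [Category.assoc, hob, Category.comp_id]
          exact Over.w (τ ≫ y ≫ md d)
      exact ⟨(t ≫ X.hom) (IsLocalRing.closedPoint Ω),
        (congrArg (fun φ : Over.mk (t ≫ X.hom) ⟶ K => φ.left (IsLocalRing.closedPoint Ω)) h4).symm⟩
  refine ⟨Z, iZ ≫ κ, inferInstanceAs (IsFinite (U.ι ≫ b)), inferInstanceAs (Etale (U.ι ≫ b)), ⟨?_, ?_⟩, ?_⟩
  · rw [← MonObj.comp_pow, hκ, MonObj.comp_one]
  · intro Ω _ _ t
    exact (key Ω Z t iZ).2 (t (IsLocalRing.closedPoint Ω)).2
  · intro T Q hQ hord
    obtain ⟨y, hy⟩ := hlift Q hQ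
    have hr : Set.range y.left ⊆ Set.range U.ι := by
      rw [Scheme.Opens.range_ι]
      rintro _ ⟨z, rfl⟩
      let Ω := AlgebraicClosure (T.left.residueField z)
      let t : Spec (CommRingCat.of Ω) ⟶ T.left :=
        Spec.map (CommRingCat.ofHom (algebraMap (T.left.residueField z) Ω)) ≫ T.left.fromSpecResidueField z
      have ht : t (IsLocalRing.closedPoint Ω) = z := by
        show T.left.fromSpecResidueField z _ = z
        exact T.left.fromSpecResidueField_apply z _
      have h := (key Ω T t y).1 (by rw [hy]; exact hord Ω t)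
      rwa [ht] at h
    let l := IsOpenImmersion.lift U.ι y.left hr
    have hl : l ≫ U.ι = y.left := IsOpenImmersion.lift_fac _ _ _
    refine ⟨Over.homMk l (by show l ≫ U.ι ≫ b = _; rw [← Category.assoc, hl]; exact Over.w y), ?_, fun v hv => ?_⟩
    · show _ ≫ iZ ≫ κ = Q
      rw [← Category.assoc, ← hy]
      congr 1
      exact Over.OverMorphism.ext hl
    · refine Over.OverMorphism.ext ((cancel_mono U.ι).1 (Eq.trans ?_ hl.symm))
      refine pullback.hom_ext ?_ ?_
      · exact (congrArg CommaMorphism.left (show (v ≫ iZ) ≫ κ = y ≫ κ by rw [Category.assoc, hv, hy]))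
      · exact (Over.w (v ≫ iZ)).trans (Over.w y).symm

end Groth.Agent.S16248
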