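import Groth.Statements.S16249
import Groth.Agent.GenusOneX.Sections

set_option autoImplicit false
set_option backward.isDefEq.respectTransparency false
set_option backward.isDefEq.respectTransparency.types false
set_option maxHeartbeats 1000000
set_option linter.style.haveILetI false
universe u
open CategoryTheory CategoryTheory.Limits AlgebraicGeometry
open PicF

namespace Groth.Agent.S16249

open Groth.Agent Groth.Agent.H23 Groth.Agent.H23.PicMul
open scoped Groth.Agent.H23.PicMul

set_option maxHeartbeats 1600000
set_option backward.isDefEq.respectTransparency false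
set_option backward.isDefEq.respectTransparency.types false

attribute [local instance] GenusOneX.fibreOver

/-- Let f : E → S be a family of elliptic curves: f is proper and smooth of relative dimension one with
geometrically connected fibres whose structure sheaf has Euler characteristic 0 (genus one), and σ
is a section of f. Then for every invertible O_E-module L whose restriction to every fibre of f has
degree zero (Euler characteristic equal to that of the structure sheaf of the fibre) there is
exactly one section P of f such that L ⊗ I_P ≅ I_σ ⊗ f^*M for some invertible O_S-module M, where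
I_P and I_σ are the ideal sheaves of the closed subschemes P(S) and σ(S) of E. In other words P ↦
O(P − σ) is a bijection from E(S) onto the classes of fibrewise-degree-zero invertible modules
modulo modules pulled back from S. (The published statement goes on to say that E is thereby an
S-group scheme, with P + Q = R exactly when O(P) ⊗ O(Q) ⊗ O(−σ) ≅ O(R) ⊗ f^*M for some invertible M
on the base — its printed formula has O(−R), a misprint — ; that transport of the group structure is
not part of this statement.) -/
theorem result
    {E S : Scheme.{u}} (f : E ⟶ S) [IsProper f] [SmoothOfRelativeDimension 1 f]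
    (hc : GeometricallyConnected f)
    (hg : ∀ s : S, @FGA.eulerCharLE (S.residueField s) _ (f.fiber s) (f.fiberOverSpecResidueField s)
      (Coh.structureModule (f.fiber s)) 1 = 0)
    (σ : S ⟶ E) (hσ : σ ≫ f = 𝟙 S)
    (L : E.Modules) (hL : PicF.IsInvertible L)
    (hL0 : ∀ s : S, @FGA.eulerCharLE (S.residueField s) _ (f.fiber s) (f.fiberOverSpecResidueField s)
      ((Scheme.Modules.pullback (f.fiberι s)).obj L) 1 = 0) :
    ∃! P : S ⟶ E, P ≫ f = 𝟙 S ∧ ∃ M : S.Modules, PicF.IsInvertible M ∧
      Nonempty (CohB1.tensorMod L (ClSub.idealMod P.ker) ≅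
        CohB1.tensorMod (ClSub.idealMod σ.ker) ((Scheme.Modules.pullback f).obj M)) := by
  haveI := hc
  obtain ⟨D, hD, hDe⟩ := H23.PicInv.exists_inverse (GenusOneX.isInvertible_ker f hσ)
  have hσD : PicF.cl (ClSub.idealMod σ.ker) * PicF.cl D = 1 := by
    rw [← cl_tensor, one_def]; exact cl_eq_iff.2 hDe
  have hLD := InvX.isInvertible_tensorMod hL hD
  have hN : GenusOneX.IsDegOne f (CohB1.tensorMod L D) := by
    refine ⟨hLD, fun s => ?_⟩
    haveI := GenusOneX.fibre_isProper f s
    haveI := GenusOneX.fibre_isIntegral f s
    have h1 := GenusOneX.deg_mul f s hL hD (cl_tensor L D).symm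
    have h2 := GenusOneX.deg_mul f s (GenusOneX.isInvertible_ker f hσ) hD hσD
    rw [GenusOneX.deg_ker f hσ s] at h2
    have hO := PicClLib.nonempty_pullback_structureModule (f.fiberι s)
    rw [CurveRR.deg_congr (S.residueField s) hO.some 1, CurveDeg.deg_structureModule] at h2
    have h3 : Curv2.deg (S.residueField s) (f.fiber s) ((Scheme.Modules.pullback (f.fiberι s)).obj L) 1 = 0 := by
      unfold Curv2.deg
      rw [EulerConst.euler_eq_eulerCharLE (S.residueField s) 1 (GenusOneX.fibre_dim f s).le
        (ProjUPX.isQCoh_of_isInvertible (PicClLib.isInvertible_pullback _ hL)), GenusOneX.euler_eq_zero f hg s, hL0 s]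
      simp
    rw [h1, h3]
    omega
  have conv : ∀ (I M : E.Modules), Nonempty (CohB1.tensorMod L I ≅ CohB1.tensorMod (ClSub.idealMod σ.ker) M) ↔
      PicF.cl I * PicF.cl (CohB1.tensorMod L D) = PicF.cl M := by
    intro I M
    rw [← cl_eq_iff, cl_tensor, cl_tensor, cl_tensor]
    constructor
    · intro h
      calc PicF.cl I * (PicF.cl L * PicF.cl D) = (PicF.cl L * PicF.cl I) * PicF.cl D := by rw [mul_left_comm, mul_assoc]
        _ = (PicF.cl (ClSub.idealMod σ.ker) * PicF.cl D) * PicF.cl M := by rw [h, mul_right_comm]
        _ = PicF.cl M := by rw [hσD, one_mul]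
    · intro h
      calc PicF.cl L * PicF.cl I = PicF.cl I * (PicF.cl L * PicF.cl D) * PicF.cl (ClSub.idealMod σ.ker) := by
              rw [mul_assoc (PicF.cl I), mul_assoc (PicF.cl L), mul_comm (PicF.cl D), hσD, mul_one, mul_comm]
        _ = _ := by rw [h, mul_comm]
  obtain ⟨P, ⟨hP, M, hM, hPM⟩, huniq⟩ := GenusOneX.existsUnique_section f hg hN
  refine ⟨P, ⟨hP, M, hM, (conv _ _).2 hPM⟩, fun Q ⟨hQ, M', hM', hQM⟩ => huniq Q ⟨hQ, M', hM', (conv _ _).1 hQM⟩⟩

end Groth.Agent.S16249
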