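import Groth.Statements.S16253
import Groth.Agent.FittSmooth.Chart

set_option autoImplicit false
set_option backward.isDefEq.respectTransparency false
set_option backward.isDefEq.respectTransparency.types false
set_option linter.style.haveILetI false
universe u
open CategoryTheory CategoryTheory.Limits AlgebraicGeometry TopologicalSpace
open SDiv

namespace Groth.Agent.S16253

/-- Let f : X ⟶ Y be locally of finite presentation and quasi-separated and p ≥ 0, and let J^p(X/Y) ⊆ X
be the closed subset cut out by the p-th Fitting ideal of the module of differentials Ω_{X/Y} (the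
p-th Jacobian locus). Then a point x of X lies outside J^p(X/Y) if and only if x has an open
neighbourhood U admitting a closed immersion over Y into a Y-scheme U' which is smooth of relative
dimension p over Y. (The published statement takes f of finite presentation and asks U' smooth over
Y with fibre dimension p at x; after shrinking U' this is smoothness of relative dimension p.
Quasi-separatedness of f is assumed because the module Ω_{X/Y} used here is defined for such f.) -/
theorem result
    {X Y : Scheme.{u}} (f : X ⟶ Y) [LocallyOfFinitePresentation f] [QuasiSeparated f] (p : ℕ) (x : ↥X) :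
    x ∉ (Fitt.sheafIdeal (Omega.sheaf f) p).support ↔
      ∃ (U : X.Opens) (U' : Scheme.{u}) (i : (U : Scheme.{u}) ⟶ U') (g : U' ⟶ Y),
        x ∈ U ∧ IsClosedImmersion i ∧ SmoothOfRelativeDimension p g ∧ i ≫ g = U.ι ≫ f := by
  obtain ⟨W, hW, hxW, -⟩ := exists_isAffineOpen_mem_and_subset (x := f x) (U := (⊤ : Y.Opens)) trivial
  constructor
  · intro hx
    obtain ⟨V, hV, hxV, e⟩ := exists_isAffineOpen_mem_and_subset (x := x) (U := f ⁻¹ᵁ W) hxW
    letI := (f.appLE W V e).hom.toAlgebra
    letI := (X.presheaf.germ V x hxV).hom.toAlgebra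
    haveI : Algebra.FinitePresentation Γ(Y, W) Γ(X, V) := f.finitePresentation_appLE hW hV e
    let κ := IsLocalRing.ResidueField (X.presheaf.stalk x)
    have hne : (Fitt.ideal Γ(X, V) Ω[Γ(X, V)⁄Γ(Y, W)] p).map (algebraMap Γ(X, V) κ) ≠ ⊥ := by
      obtain ⟨a, ha, hxa⟩ := (FittSmooth.mem_support_iff_finrank f p x hW hV e hxV).1 hx
      intro h
      have h1 : algebraMap Γ(X, V) κ a = 0 := (Ideal.map_eq_bot_iff_le_ker _).1 h ha
      rw [IsScalarTower.algebraMap_apply Γ(X, V) (X.presheaf.stalk x) κ, IsLocalRing.ResidueField.algebraMap_eq,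
        IsLocalRing.residue_eq_zero_iff] at h1
      exact h1 ((X.mem_basicOpen a x hxV).1 hxa)
    obtain ⟨b, hb, C, _, _, hC, ψ, hψ⟩ :=
      FittSmooth.exists_smooth_chart Γ(Y, W) Γ(X, V) κ p ((FittSmooth.fitting_fiber κ p).1 hne)
    let U := X.basicOpen b
    have hU : IsAffineOpen U := hV.basicOpen b
    have hxU : x ∈ U := (X.mem_basicOpen b x hxV).2 (by
      by_contra hnu
      apply hb
      rw [IsScalarTower.algebraMap_apply Γ(X, V) (X.presheaf.stalk x) κ, IsLocalRing.ResidueField.algebraMap_eq,
        IsLocalRing.residue_eq_zero_iff]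
      exact hnu)
    have eU : U ≤ f ⁻¹ᵁ W := le_trans (X.basicOpen_le b) e
    haveI := hV.isLocalization_basicOpen b
    let E : Localization.Away b ≃ₐ[Γ(X, V)] Γ(X, U) := IsLocalization.algEquiv (Submonoid.powers b) _ _
    let φ : C →+* Γ(X, U) := E.toRingEquiv.toRingHom.comp ψ.toRingHom
    have hcomp : CommRingCat.ofHom (algebraMap Γ(Y, W) C) ≫ CommRingCat.ofHom φ = f.appLE W U eU := by
      refine CommRingCat.hom_ext (RingHom.ext fun s => ?_)
      show E (ψ (algebraMap Γ(Y, W) C s)) = _
      rw [AlgHom.commutes, IsScalarTower.algebraMap_apply Γ(Y, W) Γ(X, V) (Localization.Away b), E.commutes]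
      exact ConcreteCategory.congr_hom (Scheme.Hom.appLE_map f e (homOfLE (X.basicOpen_le b)).op) s
    refine ⟨U, Spec (CommRingCat.of C), hU.isoSpec.hom ≫ Spec.map (CommRingCat.ofHom φ),
      Spec.map (CommRingCat.ofHom (algebraMap Γ(Y, W) C)) ≫ hW.fromSpec, hxU, ?_, ?_, ?_⟩
    · haveI := IsClosedImmersion.spec_of_surjective (CommRingCat.ofHom φ) (E.surjective.comp hψ)
      infer_instance
    · haveI : SmoothOfRelativeDimension p (Spec.map (CommRingCat.ofHom (algebraMap Γ(Y, W) C))) :=
        HasRingHomProperty.Spec_iff.2 (RingHom.locally_of RingHom.isStandardSmoothOfRelativeDimension_respectsIso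
          _ ((RingHom.isStandardSmoothOfRelativeDimension_algebraMap p).2 hC))
      exact inferInstanceAs (SmoothOfRelativeDimension (p + 0) _)
    · rw [Category.assoc, ← Spec.map_comp_assoc, hcomp, IsAffineOpen.SpecMap_appLE_fromSpec f hW hU eU,
        ← Category.assoc, hU.isoSpec_hom_fromSpec]
  · rintro ⟨U, U', i, g, hxU, hi, hg, hcomp⟩
    haveI := hi
    haveI := hg
    let u : (U : Scheme.{u}) := ⟨x, hxU⟩
    obtain ⟨V, hV, huV, e⟩ := exists_isAffineOpen_mem_and_subset (x := u) (U := (U.ι ≫ f) ⁻¹ᵁ W) hxW
    exact (FittSmooth.mem_support_iff_restrict f p U u hW hV e huV).2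
      ((FittSmooth.finrank_fiber_le_iff (U.ι ≫ f) hW hV e huV p).1
        (FittSmooth.finrank_le_of_closedImmersion i g p (U.ι ≫ f) hcomp u))

end Groth.Agent.S16253
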