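import Groth.Statements.S1627
import Groth.Agent.DimOne.Ample
import Groth.Agent.DimOne.Completion
import Groth.Agent.S7645

set_option autoImplicit false
universe u
open CategoryTheory CategoryTheory.Limits AlgebraicGeometry
open Variety

namespace Groth.Agent.S1627

/-- A curve X over k (integral, separated, of finite type, of dimension one) is either affine or
H-projective, i.e. admits a closed immersion into some P^d_k over k. -/
theorem result (k : Type u) [Field k] (X : Scheme.{u}) [X.Over (Spec (CommRingCat.of k))] [IsIntegral X] [IsSeparated (X ↘ (Spec (CommRingCat.of k)))] [LocallyOfFiniteType (X ↘ (Spec (CommRingCat.of k)))] [QuasiCompact (X ↘ (Spec (CommRingCat.of k)))] (hdim : topologicalKrullDim X = 1) :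
    IsAffine X ∨ ∃ (d : ℕ) (c : X ⟶ CohB1.ProjSpace d k), IsClosedImmersion c ∧ c ≫ CohB1.ProjSpace.toSpec d k = X ↘ (Spec (CommRingCat.of k)) := by
  haveI : IsLocallyNoetherian X := LocallyOfFiniteType.isLocallyNoetherian (X ↘ Spec (CommRingCat.of k))
  haveI : CompactSpace X := QuasiCompact.compactSpace_of_compactSpace (X ↘ Spec (CommRingCat.of k))
  haveI : AlgebraicGeometry.IsNoetherian X := {}
  haveI : X.IsSeparated := ⟨by rw [← terminal.comp_from (X ↘ Spec (CommRingCat.of k))]; infer_instance⟩
  by_cases hp : IsProper (X ↘ Spec (CommRingCat.of k))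
  · exact Or.inr (Groth.Agent.S7645.result k X hdim.le)
  obtain ⟨L, hL⟩ := Groth.Agent.DimOne.exists_isAmple hdim.le
  refine Or.inl (Groth.Agent.DimOne.isAffine_of_no_proper_component k (X ↘ Spec (CommRingCat.of k)) hdim.le hL
    fun C hC _ hpr => hp ?_)
  have hCuniv : C = Set.univ :=
    Set.eq_univ_of_univ_subset (hC.2 (IrreducibleSpace.isIrreducible_univ X) (Set.subset_univ _))
  haveI : Surjective (X.irreducibleComponentIdeal C hC).radical.subschemeι := ⟨Set.range_eq_univ.1 (by
    rw [Scheme.IdealSheafData.range_subschemeι, Scheme.IdealSheafData.support_radical]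
    exact hCuniv)⟩
  haveI := isIso_of_isClosedImmersion_of_surjective (X.irreducibleComponentIdeal C hC).radical.subschemeι
  exact (MorphismProperty.cancel_left_of_respectsIso @IsProper _ _).1 hpr

end Groth.Agent.S1627
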