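import Groth.Statements.S16281
import Groth.Agent.KFlatLib.Scheme.RpushRestrict
import Groth.Agent.KFlatLib.Scheme.ExtZero
import Groth.Agent.SiteBase.UnivDelta
import Groth.Agent.SiteBase.Horseshoe
import Groth.Agent.ExtShX.Resolution

set_option autoImplicit false
set_option backward.isDefEq.respectTransparency false
set_option backward.isDefEq.respectTransparency.types false
universe u
open CategoryTheory CategoryTheory.Limits AlgebraicGeometry
open Coherent

namespace Groth.Agent.S16281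

/-- Let f : X → Y be a morphism of schemes, F and G O_X-modules, W ⊆ Y an open subscheme and p ≥ 0.
Write Ext^p_f(F, -) for the p-th right derived functor of the left exact functor G ↦ f_*
Hom_{O_X}(F, G) from O_X-modules to O_Y-modules (the relative Ext sheaves). Then the restriction of
Ext^p_f(F, G) to W is isomorphic to Ext^p_{f'}(F|_{f⁻¹W}, G|_{f⁻¹W}), where f' : f⁻¹W → W is the
restricted morphism. (Stated for schemes, the published statement being for ringed spaces; existence
of an isomorphism of O_W-modules only. The internal Hom functors, injective resolutions and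
additivity of the composite functors on X and on f⁻¹W are the stated instance hypotheses, all true.) -/
theorem result (X Y : Scheme.{u}) (f : X ⟶ Y) (W : Y.Opens)
    (F G : X.Modules) (p : ℕ)
    [ModSite.HasSheafHom (O := X.sheaf) F] [HasInjectiveResolutions (ModSite.Mod X.sheaf)]
    [(ModSite.sheafHom (O := X.sheaf) F ⋙ Scheme.Modules.pushforward f).Additive]
    [ModSite.HasSheafHom (O := (↑(f ⁻¹ᵁ W) : Scheme.{u}).sheaf) (F.restrict (f ⁻¹ᵁ W).ι)]
    [HasInjectiveResolutions (ModSite.Mod (↑(f ⁻¹ᵁ W) : Scheme.{u}).sheaf)]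
    [(ModSite.sheafHom (O := (↑(f ⁻¹ᵁ W) : Scheme.{u}).sheaf) (F.restrict (f ⁻¹ᵁ W).ι) ⋙ Scheme.Modules.pushforward (f ∣_ W)).Additive] :
    Nonempty ((Scheme.Modules.restrictFunctor W.ι).obj (((ModSite.sheafHom (O := X.sheaf) F ⋙ Scheme.Modules.pushforward f).rightDerived p).obj G) ≅
      ((ModSite.sheafHom (O := (↑(f ⁻¹ᵁ W) : Scheme.{u}).sheaf) (F.restrict (f ⁻¹ᵁ W).ι) ⋙ Scheme.Modules.pushforward (f ∣_ W)).rightDerived p).obj
        (G.restrict (f ⁻¹ᵁ W).ι)) := by
  let U : X.Opens := f ⁻¹ᵁ W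
  haveI : HasInjectiveResolutions X.Modules := ‹HasInjectiveResolutions (ModSite.Mod X.sheaf)›
  haveI : HasInjectiveResolutions (↑U : Scheme.{u}).Modules :=
    ‹HasInjectiveResolutions (ModSite.Mod (↑(f ⁻¹ᵁ W) : Scheme.{u}).sheaf)›
  haveI : EnoughInjectives X.Modules :=
    SpObjSS.enoughInjectives_of_hasInjectiveResolutions (C := ModSite.Mod X.sheaf)
  haveI : EnoughInjectives (↑U : Scheme.{u}).Modules :=
    SpObjSS.enoughInjectives_of_hasInjectiveResolutions (C := ModSite.Mod (↑(f ⁻¹ᵁ W) : Scheme.{u}).sheaf)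
  let R := Scheme.Modules.restrictFunctor U.ι
  haveI : R.IsRightAdjoint := KFlatLib.isRightAdjoint_restrictFunctor U.ι
  haveI : R.Additive := (Scheme.Modules.restrictAdjunction U.ι).left_adjoint_additive
  haveI : Limits.PreservesFiniteLimits R := by
    have : Limits.PreservesLimitsOfSize.{0, 0} R := (KFlatLib.lshAdj U.ι).rightAdjoint_preservesLimits
    exact ⟨fun _ => inferInstance⟩
  haveI : Limits.PreservesFiniteColimits R := by
    have : Limits.PreservesColimitsOfSize.{0, 0} R := (Scheme.Modules.restrictAdjunction U.ι).leftAdjoint_preservesColimits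
    exact ⟨fun _ => inferInstance⟩
  haveI : R.PreservesInjectiveObjects :=
    ⟨fun {Q} hQ => (KFlatLib.lshAdj U.ι).map_injective Q hQ⟩
  let RW := Scheme.Modules.restrictFunctor W.ι
  haveI : RW.IsRightAdjoint := KFlatLib.isRightAdjoint_restrictFunctor W.ι
  haveI : RW.Additive := (Scheme.Modules.restrictAdjunction W.ι).left_adjoint_additive
  haveI : Limits.PreservesFiniteLimits RW := by
    have : Limits.PreservesLimitsOfSize.{0, 0} RW := (KFlatLib.lshAdj W.ι).rightAdjoint_preservesLimits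
    exact ⟨fun _ => inferInstance⟩
  haveI : Limits.PreservesFiniteColimits RW := by
    have : Limits.PreservesColimitsOfSize.{0, 0} RW := (Scheme.Modules.restrictAdjunction W.ι).leftAdjoint_preservesColimits
    exact ⟨fun _ => inferInstance⟩
  let SX : X.Modules ⥤ X.Modules := ModSite.sheafHom (O := X.sheaf) F
  let SU : (↑U : Scheme.{u}).Modules ⥤ (↑U : Scheme.{u}).Modules :=
    ModSite.sheafHom (O := (↑(f ⁻¹ᵁ W) : Scheme.{u}).sheaf) (F.restrict (f ⁻¹ᵁ W).ι)
  let G₁ : X.Modules ⥤ Y.Modules := SX ⋙ Scheme.Modules.pushforward f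
  let G₂ : (↑U : Scheme.{u}).Modules ⥤ (↑W : Scheme.{u}).Modules := SU ⋙ Scheme.Modules.pushforward (f ∣_ W)
  haveI : G₁.Additive := ‹(ModSite.sheafHom (O := X.sheaf) F ⋙ Scheme.Modules.pushforward f).Additive›
  haveI : G₂.Additive := ‹(ModSite.sheafHom (O := (↑(f ⁻¹ᵁ W) : Scheme.{u}).sheaf) (F.restrict (f ⁻¹ᵁ W).ι) ⋙
    Scheme.Modules.pushforward (f ∣_ W)).Additive›
  let TU : (↑U : Scheme.{u}).Modules ⥤ (↑U : Scheme.{u}).Modules :=
    (ModSite.tensorBi (↑U : Scheme.{u}).sheaf).flip.obj (F.restrict U.ι)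
  let TX : X.Modules ⥤ X.Modules := (ModSite.tensorBi X.sheaf).flip.obj F
  let aX : TX ⊣ SX := ModSite.sheafHomAdj (O := X.sheaf) F
  let aU : TU ⊣ SU := ModSite.sheafHomAdj (O := (↑U : Scheme.{u}).sheaf) (F.restrict U.ι)
  let q : TU ⋙ KFlatLib.lsh U.ι ≅ KFlatLib.lsh U.ι ⋙ TX :=
    Functor.isoWhiskerRight (KFlatLib.projIso U.ι) ((CategoryTheory.evaluation _ _).obj F)
  let e : SX ⋙ R ≅ R ⋙ SU :=
    (((KFlatLib.lshAdj U.ι).comp aX).ofNatIsoLeft q.symm).rightAdjointUniq (aU.comp (KFlatLib.lshAdj U.ι))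
  let e' : G₁ ⋙ RW ≅ R ⋙ G₂ :=
    Functor.associator _ _ _ ≪≫ Functor.isoWhiskerLeft SX (KFlatLib.pushRestrictIso f W) ≪≫
      (Functor.associator _ _ _).symm ≪≫ Functor.isoWhiskerRight e _ ≪≫ Functor.associator _ _ _
  exact ⟨((SiteBase.rightDerivedCompIso G₁ RW p).symm ≪≫ SiteBase.rightDerivedCongr e' p ≪≫
    SiteBase.rightDerivedPrecompIso R G₂ p).app G⟩

end Groth.Agent.S16281
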