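import Groth.Statements.S16282
import Groth.Agent.ExtShX.SHTensor
import Groth.Agent.ExtShX.TensorInjective
import Groth.Agent.KFlatLib.Perfect.LocFree
import Groth.Agent.SiteBase.UnivDelta
import Groth.Agent.SiteBase.Horseshoe

set_option autoImplicit false
set_option linter.style.haveILetI false
set_option backward.isDefEq.respectTransparency false
set_option backward.isDefEq.respectTransparency.types false
universe u
open CategoryTheory CategoryTheory.Limits AlgebraicGeometry
open Coherent

namespace Groth.Agent.S16282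

/-- Let f : X → Y be a morphism of schemes, F and G O_X-modules, L a finite locally free O_X-module with
dual L^∨ = Hom_{O_X}(L, O_X), N a finite locally free O_Y-module and p ≥ 0. Write Ext^p_f(M, -) for
the p-th right derived functor of the left exact functor G ↦ f_* Hom_{O_X}(M, G) from O_X-modules to
O_Y-modules. Then Ext^p_f(F ⊗ L, G ⊗ f^*N) is isomorphic to Ext^p_f(F, G ⊗ L^∨) ⊗ N. (Stated for
schemes, the published statement being for ringed spaces and a chain of two functorial isomorphisms;
existence of an isomorphism of O_Y-modules only. The internal Hom functors, injective resolutions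
and additivity of the composite functors are the stated instance hypotheses, all true.) -/
theorem result (X Y : Scheme.{u}) (f : X ⟶ Y) (F G L : X.Modules) (N : Y.Modules)
    (hL : FlatMod.IsFinLocFree L) (hN : FlatMod.IsFinLocFree N) (p : ℕ)
    [ModSite.HasSheafHom (O := X.sheaf) F] [ModSite.HasSheafHom (O := X.sheaf) L]
    [ModSite.HasSheafHom (O := X.sheaf) (CohB1.tensorMod F L)] [HasInjectiveResolutions (ModSite.Mod X.sheaf)]
    [(ModSite.sheafHom (O := X.sheaf) F ⋙ Scheme.Modules.pushforward f).Additive]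
    [(ModSite.sheafHom (O := X.sheaf) (CohB1.tensorMod F L) ⋙ Scheme.Modules.pushforward f).Additive] :
    Nonempty (((ModSite.sheafHom (O := X.sheaf) (CohB1.tensorMod F L) ⋙ Scheme.Modules.pushforward f).rightDerived p).obj
        (CohB1.tensorMod G ((Scheme.Modules.pullback f).obj N)) ≅
      CohB1.tensorMod (((ModSite.sheafHom (O := X.sheaf) F ⋙ Scheme.Modules.pushforward f).rightDerived p).obj
        (CohB1.tensorMod G ((ModSite.sheafHom (O := X.sheaf) L).obj (Coh.structureModule X)))) N) := by
  haveI : HasInjectiveResolutions X.Modules := ‹HasInjectiveResolutions (ModSite.Mod X.sheaf)›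
  haveI : EnoughInjectives X.Modules :=
    SpObjSS.enoughInjectives_of_hasInjectiveResolutions (C := ModSite.Mod X.sheaf)
  let E : X.Modules := (Scheme.Modules.pullback f).obj N
  have hE : FlatMod.IsFinLocFree E := KFlatLib.isFinLocFree_pullback f hN
  let SF : X.Modules ⥤ X.Modules := ModSite.sheafHom (O := X.sheaf) F
  let SL : X.Modules ⥤ X.Modules := ModSite.sheafHom (O := X.sheaf) L
  let S : X.Modules ⥤ X.Modules := ModSite.sheafHom (O := X.sheaf) (CohB1.tensorMod F L)
  let P : X.Modules ⥤ Y.Modules := Scheme.Modules.pushforward f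
  let TE : X.Modules ⥤ X.Modules := DCoh.tensorBi.flip.obj E
  let TN : Y.Modules ⥤ Y.Modules := DCoh.tensorBi.flip.obj N
  haveI : (SF ⋙ P).Additive := ‹(ModSite.sheafHom (O := X.sheaf) F ⋙ Scheme.Modules.pushforward f).Additive›
  haveI : (S ⋙ P).Additive :=
    ‹(ModSite.sheafHom (O := X.sheaf) (CohB1.tensorMod F L) ⋙ Scheme.Modules.pushforward f).Additive›
  -- `Hom(L, -)` is exact and preserves injectives
  let aF : DCoh.tensorBi.flip.obj F ⊣ SF := ModSite.sheafHomAdj (O := X.sheaf) F
  let aL : DCoh.tensorBi.flip.obj L ⊣ SL := ModSite.sheafHomAdj (O := X.sheaf) L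
  let aS : DCoh.tensorBi.flip.obj (CohB1.tensorMod F L) ⊣ S := ModSite.sheafHomAdj (O := X.sheaf) (CohB1.tensorMod F L)
  haveI : SL.Additive := aL.right_adjoint_additive
  haveI : Limits.PreservesFiniteLimits SL := by
    have : Limits.PreservesLimitsOfSize.{0, 0} SL := aL.rightAdjoint_preservesLimits
    exact ⟨fun _ => inferInstance⟩
  haveI : SL.PreservesEpimorphisms := ExtShX.preservesEpimorphisms_sheafHom hL
  haveI : SL.PreservesHomology := Functor.preservesHomology_of_preservesEpis_and_kernels SL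
  haveI : Limits.PreservesFiniteColimits SL := Functor.preservesFiniteColimits_of_preservesHomology SL
  haveI : (DCoh.tensorBi.flip.obj L : X.Modules ⥤ X.Modules).PreservesMonomorphisms :=
    ⟨fun g _ => ExtShX.mono_tensorRight hL g⟩
  haveI : SL.PreservesInjectiveObjects := ⟨fun {Q} hQ => aL.map_injective Q hQ⟩
  -- tensor products with `E` and `N` are exact
  haveI : ModSite.HasSheafHom (O := X.sheaf) E := ⟨_, ⟨SheafHomX.adj E⟩⟩
  haveI : ModSite.HasSheafHom (O := Y.sheaf) N := ⟨_, ⟨SheafHomX.adj N⟩⟩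
  let aE : TE ⊣ SheafHomX.hom E := SheafHomX.adj E
  let aN : TN ⊣ SheafHomX.hom N := SheafHomX.adj N
  haveI : TE.Additive := aE.left_adjoint_additive
  haveI : TN.Additive := aN.left_adjoint_additive
  haveI : Limits.PreservesFiniteColimits TE := by
    have : Limits.PreservesColimitsOfSize.{0, 0} TE := aE.leftAdjoint_preservesColimits
    exact ⟨fun _ => inferInstance⟩
  haveI : Limits.PreservesFiniteColimits TN := by
    have : Limits.PreservesColimitsOfSize.{0, 0} TN := aN.leftAdjoint_preservesColimits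
    exact ⟨fun _ => inferInstance⟩
  haveI : TE.PreservesMonomorphisms := ⟨fun g _ => ExtShX.mono_tensorRight hE g⟩
  haveI : TN.PreservesMonomorphisms := ⟨fun g _ => ExtShX.mono_tensorRight hN g⟩
  haveI : TE.PreservesHomology := Functor.preservesHomology_of_preservesMonos_and_cokernels TE
  haveI : TN.PreservesHomology := Functor.preservesHomology_of_preservesMonos_and_cokernels TN
  haveI : Limits.PreservesFiniteLimits TE := Functor.preservesFiniteLimits_of_preservesHomology TE
  haveI : Limits.PreservesFiniteLimits TN := Functor.preservesFiniteLimits_of_preservesHomology TN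
  haveI : TE.PreservesInjectiveObjects := ⟨fun {Q} hQ => (haveI := hQ; ExtShX.injective_tensor hE Q)⟩
  -- `Hom(F ⊗ L, -) = Hom(F, Hom(L, -))`
  let q : DCoh.tensorBi.flip.obj F ⋙ DCoh.tensorBi.flip.obj L ≅ DCoh.tensorBi.flip.obj (CohB1.tensorMod F L) :=
    NatIso.ofComponents (F := DCoh.tensorBi.flip.obj F ⋙ DCoh.tensorBi.flip.obj L)
      (G := DCoh.tensorBi.flip.obj ((DCoh.tensorBi.obj F).obj L))
      (fun M => (((KFlatLib.tensorAssocSch X).app M).app F).app L)
      (fun {M M'} g => congrArg (fun t => (NatTrans.app (NatTrans.app t F) L))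
        ((KFlatLib.tensorAssocSch X).hom.naturality g))
  let e1 : S ≅ SL ⋙ SF := aS.rightAdjointUniq ((aF.comp aL).ofNatIsoLeft q)
  let e2 : S ⋙ P ≅ SL ⋙ (SF ⋙ P) := Functor.isoWhiskerRight e1 P ≪≫ Functor.associator _ _ _
  -- `f_* Hom(F, - ⊗ f^*N) = f_* Hom(F, -) ⊗ N`
  let a : SF ⋙ TE ≅ TE ⋙ SF :=
    NatIso.ofComponents (F := SF ⋙ TE) (G := TE ⋙ SF)
      (fun M => haveI := ExtShX.isIso_shTensorHom F M hE; asIso (ExtShX.shTensorHom F M E))
      (fun {M M'} g => ExtShX.shTensorHom_natural_left F g E)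
  let b : P ⋙ TN ≅ TE ⋙ P :=
    NatIso.ofComponents (F := P ⋙ TN) (G := TE ⋙ P)
      (fun M => haveI := ExtShX.isIso_projMod f M hN; asIso (KFlatLib.projMod f M N))
      (fun {M M'} g => KFlatLib.projMod_naturality_left f g N)
  let e3 : TE ⋙ (SF ⋙ P) ≅ (SF ⋙ P) ⋙ TN :=
    (Functor.associator _ _ _).symm ≪≫ Functor.isoWhiskerRight a.symm P ≪≫ Functor.associator _ _ _ ≪≫
      Functor.isoWhiskerLeft SF b.symm ≪≫ (Functor.associator _ _ _).symm
  obtain ⟨t⟩ := ExtShX.nonempty_tensor_dual_iso hL G
  let L' : X.Modules := SL.obj (Coh.structureModule X)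
  let s : SL.obj (TE.obj G) ≅ TE.obj (CohB1.tensorMod G L') :=
    (haveI := ExtShX.isIso_shTensorHom L G hE; (asIso (ExtShX.shTensorHom L G E)).symm) ≪≫ TE.mapIso t.symm
  exact ⟨(SiteBase.rightDerivedCongr e2 p ≪≫ SiteBase.rightDerivedPrecompIso SL (SF ⋙ P) p).app (TE.obj G) ≪≫
    ((SF ⋙ P).rightDerived p).mapIso s ≪≫
    ((SiteBase.rightDerivedPrecompIso TE (SF ⋙ P) p).symm ≪≫ SiteBase.rightDerivedCongr e3 p ≪≫
      SiteBase.rightDerivedCompIso (SF ⋙ P) TN p).app (CohB1.tensorMod G L')⟩

end Groth.Agent.S16282
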