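import Groth.Statements.S16287
import Groth.Agent.H1MV.Basic

set_option autoImplicit false
universe u
open CategoryTheory CategoryTheory.Limits TopologicalSpace
open LocCohZ

namespace Groth.Agent.S16287

open Groth.Agent.H1MV

variable {X : TopCat.{u}} {F : CohTop.Ab X} {i : ℕ} (U U' : Opens X)

/-- A class on the direct sum. -/
noncomputable abbrev pair (y : LocCohZ.HZc F i U) (y' : LocCohZ.HZc F i U') :
    Abelian.Ext (mvSeq U U').X₂ F i :=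
  (Abelian.Ext.mk₀ biprod.fst).comp y (zero_add i) + (Abelian.Ext.mk₀ biprod.snd).comp y' (zero_add i)

theorem inl_pair (y : LocCohZ.HZc F i U) (y' : LocCohZ.HZc F i U') :
    (Abelian.Ext.mk₀ biprod.inl).comp (pair U U' y y') (zero_add i) = y := by
  rw [pair, Abelian.Ext.comp_add, Abelian.Ext.mk₀_comp_mk₀_assoc, Abelian.Ext.mk₀_comp_mk₀_assoc, biprod.inl_fst,
    biprod.inl_snd, Abelian.Ext.mk₀_id_comp, Abelian.Ext.mk₀_zero, Abelian.Ext.zero_comp, add_zero]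

theorem inr_pair (y : LocCohZ.HZc F i U) (y' : LocCohZ.HZc F i U') :
    (Abelian.Ext.mk₀ biprod.inr).comp (pair U U' y y') (zero_add i) = y' := by
  rw [pair, Abelian.Ext.comp_add, Abelian.Ext.mk₀_comp_mk₀_assoc, Abelian.Ext.mk₀_comp_mk₀_assoc, biprod.inr_fst,
    biprod.inr_snd, Abelian.Ext.mk₀_id_comp, Abelian.Ext.mk₀_zero, Abelian.Ext.zero_comp, zero_add]

theorem pair_eta (z : Abelian.Ext (mvSeq U U').X₂ F i) :
    pair U U' ((Abelian.Ext.mk₀ biprod.inl).comp z (zero_add i)) ((Abelian.Ext.mk₀ biprod.inr).comp z (zero_add i)) = z := by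
  rw [pair, Abelian.Ext.mk₀_comp_mk₀_assoc, Abelian.Ext.mk₀_comp_mk₀_assoc, ← Abelian.Ext.add_comp,
    ← Abelian.Ext.mk₀_add, biprod.total, Abelian.Ext.mk₀_id_comp]

theorem pre_f (y : LocCohZ.HZc F i U) (y' : LocCohZ.HZc F i U') :
    (Abelian.Ext.mk₀ (mvSeq U U').f).comp (pair U U' y y') (zero_add i) =
      LocCohZ.resZ F i (le_top : U ≤ ⊤) (le_top : U ⊓ U' ≤ ⊤) inf_le_left le_rfl y -
        LocCohZ.resZ F i (le_top : U' ≤ ⊤) (le_top : U ⊓ U' ≤ ⊤) inf_le_right le_rfl y' := by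
  show (Abelian.Ext.mk₀ (biprod.lift (aL U U') (-aR U U'))).comp _ _ = _
  rw [Abelian.Ext.comp_add, Abelian.Ext.mk₀_comp_mk₀_assoc, Abelian.Ext.mk₀_comp_mk₀_assoc, biprod.lift_fst,
    biprod.lift_snd, Abelian.Ext.mk₀_neg, Abelian.Ext.neg_comp, ← sub_eq_add_neg]
  rfl

theorem pre_inl (x : LocCohZ.HZc F i (U ⊔ U')) :
    (Abelian.Ext.mk₀ biprod.inl).comp ((Abelian.Ext.mk₀ (mvSeq U U').g).comp x (zero_add i)) (zero_add i) =
      LocCohZ.resZ F i (le_top : U ⊔ U' ≤ ⊤) (le_top : U ≤ ⊤) le_sup_left le_rfl x := by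
  rw [Abelian.Ext.mk₀_comp_mk₀_assoc]
  show (Abelian.Ext.mk₀ (biprod.inl ≫ biprod.desc (bL U U') (bR U U'))).comp x _ = _
  rw [biprod.inl_desc]
  rfl

theorem pre_inr (x : LocCohZ.HZc F i (U ⊔ U')) :
    (Abelian.Ext.mk₀ biprod.inr).comp ((Abelian.Ext.mk₀ (mvSeq U U').g).comp x (zero_add i)) (zero_add i) =
      LocCohZ.resZ F i (le_top : U ⊔ U' ≤ ⊤) (le_top : U' ≤ ⊤) le_sup_right le_rfl x := by
  rw [Abelian.Ext.mk₀_comp_mk₀_assoc]
  show (Abelian.Ext.mk₀ (biprod.inr ≫ biprod.desc (bL U U') (bR U U'))).comp x _ = _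
  rw [biprod.inr_desc]
  rfl

theorem pre_g (x : LocCohZ.HZc F i (U ⊔ U')) :
    pair U U' (LocCohZ.resZ F i (le_top : U ⊔ U' ≤ ⊤) (le_top : U ≤ ⊤) le_sup_left le_rfl x)
      (LocCohZ.resZ F i (le_top : U ⊔ U' ≤ ⊤) (le_top : U' ≤ ⊤) le_sup_right le_rfl x) =
      (Abelian.Ext.mk₀ (mvSeq U U').g).comp x (zero_add i) := by
  rw [← pre_inl, ← pre_inr, pair_eta]

theorem comp_g_zero (x : LocCohZ.HZc F i (U ⊔ U')) :
    (Abelian.Ext.mk₀ (mvSeq U U').f).comp ((Abelian.Ext.mk₀ (mvSeq U U').g).comp x (zero_add i)) (zero_add i) = 0 := by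
  rw [Abelian.Ext.mk₀_comp_mk₀_assoc, ShortComplex.zero, Abelian.Ext.mk₀_zero, Abelian.Ext.zero_comp]

/-- Let X be a topological space, F an abelian sheaf on X, and U, U' open subsets with closed
complements Z = X ∖ U and Z' = X ∖ U' (so Z ∩ Z' = X ∖ (U ∪ U') and Z ∪ Z' = X ∖ (U ∩ U')). With
H^i_{X∖W}(X, F) = Ext^i(Z_X/Z_W, F) and the enlargement-of-support maps r : H^i_{Z∩Z'} → H^i_Z, r' :
H^i_{Z∩Z'} → H^i_{Z'}, s : H^i_Z → H^i_{Z∪Z'}, s' : H^i_{Z'} → H^i_{Z∪Z'}: the map H^0_{Z∩Z'} →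
H^0_Z ⊕ H^0_{Z'}, x ↦ (r x, r' x), is injective, and there are connecting homomorphisms δ_i :
H^i_{Z∪Z'}(X, F) → H^{i+1}_{Z∩Z'}(X, F) such that for every i the sequence H^i_{Z∩Z'} → H^i_Z ⊕
H^i_{Z'} → H^i_{Z∪Z'} → H^{i+1}_{Z∩Z'} → H^{i+1}_Z ⊕ H^{i+1}_{Z'} is exact, the middle map being (y,
y') ↦ s y − s' y'. -/
theorem result {X : TopCat.{u}} (F : CohTop.Ab X) (U U' : Opens X) :
    Function.Injective (fun x : LocCohZ.HZc F 0 (U ⊔ U') =>
      (LocCohZ.resZ F 0 (le_top : U ⊔ U' ≤ ⊤) (le_top : U ≤ ⊤) le_sup_left le_rfl x,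
       LocCohZ.resZ F 0 (le_top : U ⊔ U' ≤ ⊤) (le_top : U' ≤ ⊤) le_sup_right le_rfl x)) ∧
    ∃ δ : ∀ i : ℕ, LocCohZ.HZc F i (U ⊓ U') →+ LocCohZ.HZc F (i + 1) (U ⊔ U'),
      ∀ i : ℕ,
        (∀ y : LocCohZ.HZc F i U × LocCohZ.HZc F i U',
          LocCohZ.resZ F i (le_top : U ≤ ⊤) (le_top : U ⊓ U' ≤ ⊤) inf_le_left le_rfl y.1 -
              LocCohZ.resZ F i (le_top : U' ≤ ⊤) (le_top : U ⊓ U' ≤ ⊤) inf_le_right le_rfl y.2 = 0 ↔
            ∃ x : LocCohZ.HZc F i (U ⊔ U'),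
              LocCohZ.resZ F i (le_top : U ⊔ U' ≤ ⊤) (le_top : U ≤ ⊤) le_sup_left le_rfl x = y.1 ∧
              LocCohZ.resZ F i (le_top : U ⊔ U' ≤ ⊤) (le_top : U' ≤ ⊤) le_sup_right le_rfl x = y.2) ∧
        (∀ w : LocCohZ.HZc F i (U ⊓ U'),
          δ i w = 0 ↔ ∃ y : LocCohZ.HZc F i U × LocCohZ.HZc F i U',
            LocCohZ.resZ F i (le_top : U ≤ ⊤) (le_top : U ⊓ U' ≤ ⊤) inf_le_left le_rfl y.1 -
              LocCohZ.resZ F i (le_top : U' ≤ ⊤) (le_top : U ⊓ U' ≤ ⊤) inf_le_right le_rfl y.2 = w) ∧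
        (∀ x : LocCohZ.HZc F (i + 1) (U ⊔ U'),
          (LocCohZ.resZ F (i + 1) (le_top : U ⊔ U' ≤ ⊤) (le_top : U ≤ ⊤) le_sup_left le_rfl x = 0 ∧
            LocCohZ.resZ F (i + 1) (le_top : U ⊔ U' ≤ ⊤) (le_top : U' ≤ ⊤) le_sup_right le_rfl x = 0) ↔
            ∃ w : LocCohZ.HZc F i (U ⊓ U'), δ i w = x) := by
  open Groth.Agent.H1MV in
  refine ⟨?_, fun i => ((mvSeq_shortExact U U').extClass).precomp F (show 1 + i = i + 1 by omega), fun i => ⟨?_, ?_, ?_⟩⟩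
  · intro x x' hxx
    obtain ⟨h1, h2⟩ := Prod.mk.inj hxx
    obtain ⟨φ, rfl⟩ := (Abelian.Ext.mk₀_bijective _ _).2 x
    obtain ⟨φ', rfl⟩ := (Abelian.Ext.mk₀_bijective _ _).2 x'
    haveI := epi_desc U U'
    refine congrArg Abelian.Ext.mk₀ ((cancel_epi (biprod.desc (bL U U') (bR U U'))).1 (biprod.hom_ext' _ _ ?_ ?_))
    · rw [biprod.inl_desc_assoc, biprod.inl_desc_assoc]
      exact (Abelian.Ext.mk₀_bijective _ _).1 (((Abelian.Ext.mk₀_comp_mk₀ _ _).symm.trans h1).trans (Abelian.Ext.mk₀_comp_mk₀ _ _))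
    · rw [biprod.inr_desc_assoc, biprod.inr_desc_assoc]
      exact (Abelian.Ext.mk₀_bijective _ _).1 (((Abelian.Ext.mk₀_comp_mk₀ _ _).symm.trans h2).trans (Abelian.Ext.mk₀_comp_mk₀ _ _))
  · intro y
    refine (Iff.of_eq (congrArg (· = 0) (pre_f U U' y.1 y.2))).symm.trans ⟨fun h => ?_, fun h => ?_⟩
    · obtain ⟨x, hx⟩ := Abelian.Ext.contravariant_sequence_exact₂ (mvSeq_shortExact U U') F (pair U U' y.1 y.2) h
      refine ⟨x, ?_, ?_⟩
      · exact (pre_inl U U' x).symm.trans ((congrArg (fun v => (Abelian.Ext.mk₀ _).comp v (zero_add i)) hx).trans (inl_pair U U' y.1 y.2))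
      · exact (pre_inr U U' x).symm.trans ((congrArg (fun v => (Abelian.Ext.mk₀ _).comp v (zero_add i)) hx).trans (inr_pair U U' y.1 y.2))
    · obtain ⟨x, hx1, hx2⟩ := h
      rw [← hx1, ← hx2, pre_g U U' x]
      exact comp_g_zero U U' x
  · intro w
    refine ⟨fun h => ?_, ?_⟩
    · obtain ⟨z, hz⟩ := Abelian.Ext.contravariant_sequence_exact₁ (mvSeq_shortExact U U') F w (show 1 + i = i + 1 by omega) h
      refine ⟨((Abelian.Ext.mk₀ biprod.inl).comp z (zero_add i), (Abelian.Ext.mk₀ biprod.inr).comp z (zero_add i)), ?_⟩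
      refine ((pre_f U U' _ _).symm.trans ?_).trans hz
      rw [pair_eta U U' z]
    · rintro ⟨y, rfl⟩
      refine (congrArg (fun v => (mvSeq_shortExact U U').extClass.comp v (show 1 + i = i + 1 by omega)) (pre_f U U' y.1 y.2).symm).trans ?_
      exact (mvSeq_shortExact U U').extClass_comp_assoc _
  · intro x
    refine ⟨fun h => ?_, ?_⟩
    · have hz : (Abelian.Ext.mk₀ (mvSeq U U').g).comp x (zero_add (i + 1)) = 0 := by
        refine (pre_g U U' x).symm.trans ?_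
        rw [h.1, h.2]
        simp [pair]
      obtain ⟨w, hw⟩ := Abelian.Ext.contravariant_sequence_exact₃ (mvSeq_shortExact U U') F x hz (show 1 + i = i + 1 by omega)
      exact ⟨w, hw⟩
    · rintro ⟨w, rfl⟩
      have hz : (Abelian.Ext.mk₀ (mvSeq U U').g).comp
          ((mvSeq_shortExact U U').extClass.comp w (show 1 + i = i + 1 by omega)) (zero_add (i + 1)) = 0 :=
        (mvSeq_shortExact U U').comp_extClass_assoc _ _
      exact ⟨((pre_inl U U' _).symm.trans (congrArg (fun v => (Abelian.Ext.mk₀ _).comp v (zero_add (i + 1))) hz)).trans (by simp),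
        ((pre_inr U U' _).symm.trans (congrArg (fun v => (Abelian.Ext.mk₀ _).comp v (zero_add (i + 1))) hz)).trans (by simp)⟩

end Groth.Agent.S16287
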