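import Groth.Statements.S16289
import Groth.Agent.RelExtLES.Injective

set_option autoImplicit false
set_option backward.isDefEq.respectTransparency false
set_option backward.isDefEq.respectTransparency.types false
universe u
open CategoryTheory CategoryTheory.Limits AlgebraicGeometry
open Coherent

namespace Groth.Agent.S16289

/-- For relative Ext sheaves in the first variable; let f : X → Y be a morphism of schemes, 0 → F' → F →
F'' → 0 a short exact sequence of O_X-modules (S below, with S.X₁ = F', S.X₂ = F, S.X₃ = F'') and G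
an O_X-module. For an O_X-module M write Ext^p_f(M, -) for the p-th right derived functor of the
left exact functor G ↦ f_* Hom_{O_X}(M, G), and for u : M' → M write u^* : Ext^p_f(M, G) →
Ext^p_f(M', G) for the map induced (right derived natural transformation) by Hom(M, -) → Hom(M', -).
Then Ext^0_f(F'', G) → Ext^0_f(F, G) is a monomorphism, for every p the pair Ext^p_f(F'', G) →
Ext^p_f(F, G) → Ext^p_f(F', G) composes to zero and is exact, and there are connecting morphisms δ_p
: Ext^p_f(F', G) → Ext^{p+1}_f(F'', G) making Ext^p_f(F, G) → Ext^p_f(F', G) → Ext^{p+1}_f(F'', G)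
and Ext^p_f(F', G) → Ext^{p+1}_f(F'', G) → Ext^{p+1}_f(F, G) compose to zero and exact. (Stated for
schemes, the published statement being for ringed spaces; the connecting maps are asserted to exist
only. The internal Hom functors, injective resolutions and additivity of the composite functors are
the stated instance hypotheses, all true.) -/
theorem result (X Y : Scheme.{u}) (f : X ⟶ Y) (S : ShortComplex X.Modules) (hS : S.ShortExact)
    (G : X.Modules)
    [ModSite.HasSheafHom (O := X.sheaf) S.X₁] [ModSite.HasSheafHom (O := X.sheaf) S.X₂] [ModSite.HasSheafHom (O := X.sheaf) S.X₃]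
    [HasInjectiveResolutions (ModSite.Mod X.sheaf)]
    [(ModSite.sheafHom (O := X.sheaf) S.X₁ ⋙ Scheme.Modules.pushforward f).Additive]
    [(ModSite.sheafHom (O := X.sheaf) S.X₂ ⋙ Scheme.Modules.pushforward f).Additive]
    [(ModSite.sheafHom (O := X.sheaf) S.X₃ ⋙ Scheme.Modules.pushforward f).Additive] :
    Mono ((NatTrans.rightDerived (Functor.whiskerRight (ExtSupp.sheafHomMap (O := X.sheaf) S.g) (Scheme.Modules.pushforward f)) 0).app G) ∧
    (∀ p : ℕ, ∃ w : (NatTrans.rightDerived (Functor.whiskerRight (ExtSupp.sheafHomMap (O := X.sheaf) S.g) (Scheme.Modules.pushforward f)) p).app G ≫ (NatTrans.rightDerived (Functor.whiskerRight (ExtSupp.sheafHomMap (O := X.sheaf) S.f) (Scheme.Modules.pushforward f)) p).app G = 0,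
      (ShortComplex.mk _ _ w).Exact) ∧
    ∃ δ : ∀ p : ℕ, ((ModSite.sheafHom (O := X.sheaf) S.X₁ ⋙ Scheme.Modules.pushforward f).rightDerived p).obj G ⟶ ((ModSite.sheafHom (O := X.sheaf) S.X₃ ⋙ Scheme.Modules.pushforward f).rightDerived (p + 1)).obj G,
      ∀ p : ℕ,
        (∃ w : (NatTrans.rightDerived (Functor.whiskerRight (ExtSupp.sheafHomMap (O := X.sheaf) S.f) (Scheme.Modules.pushforward f)) p).app G ≫ δ p = 0, (ShortComplex.mk _ _ w).Exact) ∧
        (∃ w : δ p ≫ (NatTrans.rightDerived (Functor.whiskerRight (ExtSupp.sheafHomMap (O := X.sheaf) S.g) (Scheme.Modules.pushforward f)) (p + 1)).app G = 0, (ShortComplex.mk _ _ w).Exact) := by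
  haveI : HasInjectiveResolutions X.Modules := ‹HasInjectiveResolutions (ModSite.Mod X.sheaf)›
  let F₁ : X.Modules ⥤ Y.Modules := ModSite.sheafHom (O := X.sheaf) S.X₁ ⋙ Scheme.Modules.pushforward f
  let F₂ : X.Modules ⥤ Y.Modules := ModSite.sheafHom (O := X.sheaf) S.X₂ ⋙ Scheme.Modules.pushforward f
  let F₃ : X.Modules ⥤ Y.Modules := ModSite.sheafHom (O := X.sheaf) S.X₃ ⋙ Scheme.Modules.pushforward f
  haveI : F₁.Additive := ‹(ModSite.sheafHom (O := X.sheaf) S.X₁ ⋙ Scheme.Modules.pushforward f).Additive›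
  haveI : F₂.Additive := ‹(ModSite.sheafHom (O := X.sheaf) S.X₂ ⋙ Scheme.Modules.pushforward f).Additive›
  haveI : F₃.Additive := ‹(ModSite.sheafHom (O := X.sheaf) S.X₃ ⋙ Scheme.Modules.pushforward f).Additive›
  let α : F₃ ⟶ F₂ := Functor.whiskerRight (ExtSupp.sheafHomMap (O := X.sheaf) S.g) (Scheme.Modules.pushforward f)
  let β : F₂ ⟶ F₁ := Functor.whiskerRight (ExtSupp.sheafHomMap (O := X.sheaf) S.f) (Scheme.Modules.pushforward f)
  let I : InjectiveResolution G := injectiveResolution G
  let A := (NatTrans.mapHomologicalComplex α (ComplexShape.up ℕ)).app I.cocomplex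
  let B := (NatTrans.mapHomologicalComplex β (ComplexShape.up ℕ)).app I.cocomplex
  have hz : A ≫ B = 0 := HomologicalComplex.hom_ext _ _ fun j =>
    ((Groth.Agent.RelExtLES.homShort S (I.cocomplex.X j)).map (Scheme.Modules.pushforward f)).zero
  let K : ShortComplex (CochainComplex Y.Modules ℕ) := ShortComplex.mk A B hz
  have hK : K.ShortExact := HomologicalComplex.shortExact_of_degreewise_shortExact _ fun j => by
    haveI := I.injective j
    exact Groth.Agent.RelExtLES.shortExact_map_homShort f S hS (I.cocomplex.X j)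
  have ha : ∀ p, (NatTrans.rightDerived α p).app G = (I.isoRightDerivedObj F₃ p).hom ≫
      HomologicalComplex.homologyMap A p ≫ (I.isoRightDerivedObj F₂ p).inv := fun p => I.rightDerived_app_eq α p
  have hb : ∀ p, (NatTrans.rightDerived β p).app G = (I.isoRightDerivedObj F₂ p).hom ≫
      HomologicalComplex.homologyMap B p ≫ (I.isoRightDerivedObj F₁ p).inv := fun p => I.rightDerived_app_eq β p
  have hr : ∀ p : ℕ, (ComplexShape.up ℕ).Rel p (p + 1) := fun p => rfl
  refine ⟨?_, fun p => ?_, ⟨fun p => (I.isoRightDerivedObj F₁ p).hom ≫ hK.δ p (p + 1) (hr p) ≫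
    (I.isoRightDerivedObj F₃ (p + 1)).inv, fun p => ⟨?_, ?_⟩⟩⟩
  · show Mono ((NatTrans.rightDerived α 0).app G)
    haveI : Mono (A.f 0) := by
      haveI := hK.mono_f
      exact inferInstanceAs (Mono (K.f.f 0))
    haveI : Mono (HomologicalComplex.homologyMap A 0) :=
      HomologicalComplex.mono_homologyMap_of_mono_of_not_rel A 0 fun i h => Nat.succ_ne_zero i h
    rw [ha]
    infer_instance
  · show ∃ w : (NatTrans.rightDerived α p).app G ≫ (NatTrans.rightDerived β p).app G = 0, _
    have w : (NatTrans.rightDerived α p).app G ≫ (NatTrans.rightDerived β p).app G = 0 := by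
      rw [ha, hb]
      simp only [Category.assoc, Iso.inv_hom_id_assoc]
      rw [← HomologicalComplex.homologyMap_comp_assoc, hz, HomologicalComplex.homologyMap_zero, zero_comp, comp_zero]
    refine ⟨w, (ShortComplex.exact_iff_of_iso (ShortComplex.isoMk (I.isoRightDerivedObj F₃ p)
      (I.isoRightDerivedObj F₂ p) (I.isoRightDerivedObj F₁ p) ?_ ?_)).2 (hK.homology_exact₂ p)⟩
    · show _ ≫ HomologicalComplex.homologyMap A p = (NatTrans.rightDerived α p).app G ≫ _
      refine Eq.trans ?_ (congrArg (fun v => v ≫ (I.isoRightDerivedObj F₂ p).hom) (ha p)).symm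
      simp
    · show _ ≫ HomologicalComplex.homologyMap B p = (NatTrans.rightDerived β p).app G ≫ _
      refine Eq.trans ?_ (congrArg (fun v => v ≫ (I.isoRightDerivedObj F₁ p).hom) (hb p)).symm
      simp
  · show ∃ w : (NatTrans.rightDerived β p).app G ≫ _ = 0, _
    have w : (NatTrans.rightDerived β p).app G ≫ ((I.isoRightDerivedObj F₁ p).hom ≫ hK.δ p (p + 1) (hr p) ≫
        (I.isoRightDerivedObj F₃ (p + 1)).inv) = 0 := by
      rw [hb]
      simp only [Category.assoc, Iso.inv_hom_id_assoc]
      rw [show HomologicalComplex.homologyMap B p ≫ hK.δ p (p + 1) (hr p) ≫ _ = 0 from hK.comp_δ_assoc p (p + 1) (hr p) _ |>.trans zero_comp,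
        comp_zero]
    refine ⟨w, (ShortComplex.exact_iff_of_iso (ShortComplex.isoMk (I.isoRightDerivedObj F₂ p)
      (I.isoRightDerivedObj F₁ p) (I.isoRightDerivedObj F₃ (p + 1)) ?_ ?_)).2 (hK.homology_exact₃ p (p + 1) (hr p))⟩
    · show _ ≫ HomologicalComplex.homologyMap B p = (NatTrans.rightDerived β p).app G ≫ _
      refine Eq.trans ?_ (congrArg (fun v => v ≫ (I.isoRightDerivedObj F₁ p).hom) (hb p)).symm
      simp
    · simp
  · show ∃ w : _ ≫ (NatTrans.rightDerived α (p + 1)).app G = 0, _
    have w : ((I.isoRightDerivedObj F₁ p).hom ≫ hK.δ p (p + 1) (hr p) ≫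
        (I.isoRightDerivedObj F₃ (p + 1)).inv) ≫ (NatTrans.rightDerived α (p + 1)).app G = 0 := by
      rw [ha]
      simp only [Category.assoc, Iso.inv_hom_id_assoc]
      rw [show hK.δ p (p + 1) (hr p) ≫ HomologicalComplex.homologyMap A (p + 1) ≫ _ = 0 from hK.δ_comp_assoc p (p + 1) (hr p) _ |>.trans zero_comp,
        comp_zero]
    refine ⟨w, (ShortComplex.exact_iff_of_iso (ShortComplex.isoMk (I.isoRightDerivedObj F₁ p)
      (I.isoRightDerivedObj F₃ (p + 1)) (I.isoRightDerivedObj F₂ (p + 1)) ?_ ?_)).2 (hK.homology_exact₁ p (p + 1) (hr p))⟩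
    · simp
    · show _ ≫ HomologicalComplex.homologyMap A (p + 1) = (NatTrans.rightDerived α (p + 1)).app G ≫ _
      refine Eq.trans ?_ (congrArg (fun v => v ≫ (I.isoRightDerivedObj F₂ (p + 1)).hom) (ha (p + 1))).symm
      simp

end Groth.Agent.S16289
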