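import Groth.Statements.S16298
import Groth.Agent.GenusLe.Basic
import Groth.Agent.S1585
-- import your own Groth.Agent.* helpers here

set_option autoImplicit false
set_option backward.isDefEq.respectTransparency false
set_option backward.isDefEq.respectTransparency.types false
set_option linter.style.haveILetI false
set_option maxHeartbeats 1000000
universe u
open CategoryTheory CategoryTheory.Limits AlgebraicGeometry
open Curves

namespace Groth.Agent.S16298
open Groth.Agent

/-- Let k be a field and X a genus-zero curve over k, that is, an integral scheme proper over k of
dimension one with H^1(X, O_X) = 0. Then the normalization Y of X again satisfies H^1(Y, O_Y) = 0,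
so Y is again a genus-zero curve. (The two instance binders on the morphism from the generic point
always hold; they are only needed to form the normalization.) -/
theorem result (k : Type u) [Field k] (X : Scheme.{u}) [X.Over (Spec (CommRingCat.of k))]
    [IsIntegral X] [IsProper (X ↘ (Spec (CommRingCat.of k)))] (hdim : topologicalKrullDim X = 1)
    (h1 : Subsingleton (Coh.HH X (Coh.structureModule X) 1))
    [QuasiCompact (X.fromSpecStalk (genericPoint X))] [QuasiSeparated (X.fromSpecStalk (genericPoint X))] :
    Subsingleton (Coh.HH (Curv2.normalization X) (Coh.structureModule (Curv2.normalization X)) 1) := by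
  obtain ⟨hfin, -, ⟨V, hV, hiso⟩, -, -⟩ := S1585.result k X
  haveI := hfin
  haveI := hiso
  letI : (Curv2.normalization X).Over (Spec (CommRingCat.of k)) :=
    ⟨Curv2.normalizationι X ≫ (X ↘ Spec (CommRingCat.of k))⟩
  have hg : Curv2.genus k (Curv2.normalization X) ≤ Curv2.genus k X :=
    GenusLe.genus_le k hdim.le (Curv2.normalizationι X) rfl V (V.2.dense hV) inferInstance
  haveI : IsProper (Curv2.normalization X ↘ Spec (CommRingCat.of k)) :=
    inferInstanceAs (IsProper (Curv2.normalizationι X ≫ (X ↘ Spec (CommRingCat.of k))))
  haveI := CurveCohLib.isNoetherian_of_proper (k := k) (X := Curv2.normalization X)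
  haveI := CurveCohLib.finite_HH (k := k) (QCoh.isCoh_structureModule' (X := Curv2.normalization X)) 1
  have h0 : Curv2.genus k X = 0 := Module.finrank_zero_of_subsingleton
  rw [h0, Nat.le_zero] at hg
  exact Module.finrank_zero_iff.mp hg

end Groth.Agent.S16298
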