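import Groth.Statements.S16301
import Groth.Agent.NefCurve.RegPoints

set_option autoImplicit false
set_option backward.isDefEq.respectTransparency false
set_option backward.isDefEq.respectTransparency.types false
set_option linter.style.haveILetI false
universe u
open CategoryTheory CategoryTheory.Limits AlgebraicGeometry
open Curves

namespace Groth.Agent.S16301
open Groth.Agent

/-- Let k be an infinite field and X a genus-zero curve over k, that is, an integral scheme proper over
k of dimension one with H^1(X, O_X) = 0. Let P be a closed point of X whose local ring is regular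
and whose degree deg_k P = dim_k H^0(P, O_P) is least among all closed points of X with regular
local ring, and let I_P be the ideal sheaf of the reduced point P (an invertible module, P being a
regular point of a curve; this is carried as a hypothesis). Then the Picard group of X is generated
by the class of I_P, equivalently by O_X(P): every class of an invertible O_X-module is an integer
power of the class of I_P (the group law on the Picard group is the tensor product, supplied by the
binder). (The published statement is for an arbitrary base field; this row assumes k infinite, the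
case in which the published argument applies: it twice replaces an ample divisor by a member of its
base-point-free complete linear system whose support avoids the finitely many non-regular points of
X, and over a finite field such a member need not exist.) -/
theorem result (k : Type u) [Field k] [Infinite k] (X : Scheme.{u}) [X.Over (Spec (CommRingCat.of k))]
    [IsIntegral X] [IsProper (X ↘ (Spec (CommRingCat.of k)))] (hdim : topologicalKrullDim X = 1)
    (h1 : Subsingleton (Coh.HH X (Coh.structureModule X) 1))
    (P : X) (hPc : IsClosed ({P} : Set X)) (hPreg : IsRegularLocalRing (X.presheaf.stalk P))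
    (hmin : ∀ (Q : X) (hQc : IsClosed ({Q} : Set X)), IsRegularLocalRing (X.presheaf.stalk Q) →
      Module.finrank k (Coh.HH X (ClSub.quotMod (Scheme.IdealSheafData.vanishingIdeal ⟨{P}, hPc⟩)) 0) ≤ Module.finrank k (Coh.HH X (ClSub.quotMod (Scheme.IdealSheafData.vanishingIdeal ⟨{Q}, hQc⟩)) 0))
    (hI : PicF.IsInvertible (ClSub.idealMod (Scheme.IdealSheafData.vanishingIdeal ⟨{P}, hPc⟩))) [PicGrp.Law X]
    (c : PicLoc.PicSet X) :
    c ∈ Subgroup.zpowers (PicGrp.cls (ClSub.idealMod (Scheme.IdealSheafData.vanishingIdeal ⟨{P}, hPc⟩)) hI) := by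
  classical
  haveI := CurveCohLib.isNoetherian_of_proper (k := k) (X := X)
  let I := ClSub.idealMod (Scheme.IdealSheafData.vanishingIdeal ⟨{P}, hPc⟩)
  let δ : PicLoc.PicSet X → ℤ := fun c => Curv2.deg k X (PicGrp.exists_eq_cls c).choose 1
  have hδ : ∀ (L : X.Modules) (hL : PicF.IsInvertible L), δ (PicGrp.cls L hL) = Curv2.deg k X L 1 := fun L hL => by
    obtain ⟨hL', heq⟩ := (PicGrp.exists_eq_cls (PicGrp.cls L hL)).choose_spec
    obtain ⟨e⟩ := (PicGrp.cls_eq_cls_iff hL hL').1 heq
    exact (CurveRR.deg_congr k e 1).symm
  let φ : PicLoc.PicSet X →* Multiplicative ℤ := MonoidHom.mk' (fun c => Multiplicative.ofAdd (δ c)) fun a b => by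
    obtain ⟨A, hA, rfl⟩ := PicGrp.exists_eq_cls a
    obtain ⟨B, hB, rfl⟩ := PicGrp.exists_eq_cls b
    have h : PicGrp.cls A hA * PicGrp.cls B hB = PicGrp.cls _ (InvX.isInvertible_tensorMod hA hB) :=
      Subtype.ext (PicGrp.cls_mul_cls_val hA hB)
    rw [h, hδ, hδ, hδ, ← ofAdd_add]
    exact congrArg Multiplicative.ofAdd (CurveRR.deg_tensor k hdim hA hB)
  let d := Module.finrank k (Coh.HH X (ClSub.quotMod (CurvePoint.ptIdeal P hPc)) 0)
  have hQc : Coh.IsCoh (ClSub.quotMod (CurvePoint.ptIdeal P hPc)) := ParShLib.isCoh_quotMod _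
  have hdI : Curv2.deg k X I 1 = -(d : ℤ) := by
    have he := CurveBundle.euler_add' k _ _ _ (CurvePoint.shortExact_pt P hPc) (CurveDeg.isCoh_of_isInvertible hI)
      QCoh.isCoh_structureModule' hQc
    rw [CurveCohLib.euler_eq_finrank_zero hQc (CurvePoint.closed_support P hPc)] at he
    unfold Curv2.deg
    push_cast
    linarith
  have hd : 0 < d := by
    by_contra h
    have hz := CurveCohLib.isZero_of_euler_eq_zero (k := k) hQc (CurvePoint.closed_support P hPc)
      (by rw [CurveCohLib.euler_eq_finrank_zero hQc (CurvePoint.closed_support P hPc)]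
          exact_mod_cast Nat.eq_zero_of_not_pos h)
    exact CurvePoint.not_subsingleton_stalk P hPc (ModuleCat.subsingleton_of_isZero
      (Functor.map_isZero (DerSch.stalkFunctor X P) hz))
  let g := PicGrp.cls I hI
  let q : ℤ := δ c / (d : ℤ)
  obtain ⟨R, hR, hr⟩ := PicGrp.exists_eq_cls (c * g ^ q)
  have hdR : Curv2.deg k X R 1 = δ c % (d : ℤ) := by
    have h := φ.map_mul c (g ^ q)
    rw [map_zpow, hr] at h
    have h' : δ (PicGrp.cls R hR) = δ c + q * δ g := by
      have h2 := congrArg Multiplicative.toAdd h
      simp only [φ, MonoidHom.mk'_apply, toAdd_ofAdd, toAdd_mul, toAdd_zpow, smul_eq_mul] at h2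
      exact h2
    rw [hδ, hδ I hI, hdI] at h'
    rw [h', Int.emod_def]
    ring
  have hzero : Curv2.deg k X R 1 = 0 := by
    by_contra hne
    have h0 : 0 ≤ Curv2.deg k X R 1 := hdR ▸ Int.emod_nonneg _ (by omega)
    have h2 : Curv2.deg k X R 1 < (d : ℤ) := hdR ▸ Int.emod_lt_of_pos _ (by omega)
    obtain ⟨Q, hQ, -, hQreg, hle⟩ := NefCurve.exists_point_deg_le k hdim h1 hR (by omega) Set.finite_empty
    have := hmin Q hQ hQreg
    change d ≤ Module.finrank k (Coh.HH X (ClSub.quotMod (CurvePoint.ptIdeal Q hQ)) 0) at this
    omega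
  obtain ⟨hR1, hRg⟩ := NefCurve.main k hdim.le h1 hR (NefCurve.isNef_of_deg k hdim hR hzero.ge)
  haveI := hR1
  haveI := h1
  have hRc := CurveDeg.isCoh_of_isInvertible hR
  have hχR := NefCurve.euler_eq k hdim.le hRc.1
  have hχO := NefCurve.euler_eq k hdim.le (QCoh.isCoh_structureModule' (X := X)).1
  rw [Module.finrank_zero_of_subsingleton (M := Coh.HH X R 1)] at hχR
  rw [Module.finrank_zero_of_subsingleton (M := Coh.HH X (Coh.structureModule X) 1)] at hχO
  have hO0 : 0 < Module.finrank k (Coh.HH X (Coh.structureModule X) 0) := by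
    haveI := CurveCohLib.finite_HH (k := k) (QCoh.isCoh_structureModule' (X := X)) 0
    refine Module.finrank_pos_iff_exists_ne_zero.2
      ⟨(Sheaf.H.equiv₀ (Coh.toAb (Coh.structureModule X)) isTerminalTop).symm (H23.Frame.one ⊤), fun h => ?_⟩
    have h2 := congrArg (Sheaf.H.equiv₀ (Coh.toAb (Coh.structureModule X)) isTerminalTop) h
    rw [AddEquiv.apply_symm_apply, map_zero] at h2
    exact one_ne_zero (α := Γ(X, ⊤)) h2
  have hR0 : Module.finrank k (Coh.HH X R 0) ≠ 0 := by
    unfold Curv2.deg at hzero
    push_cast at hzero hχR hχO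
    omega
  obtain ⟨s, hs⟩ := CurveRR.exists_hom_ne_zero (P := R) k hR0
  haveI := (CurveDeg.deg_le_and_isIso k hdim.le CurveDeg.isInvertible_structureModule hR s hs).2
    (by rw [CurveDeg.deg_structureModule, hzero])
  have hone : c * g ^ q = 1 := by
    rw [hr, ← PicGrp.cls_structureModule_eq_one, PicGrp.cls_eq_cls_iff]
    exact ⟨(asIso s).symm⟩
  refine Subgroup.mem_zpowers_iff.2 ⟨-q, ?_⟩
  rw [zpow_neg]
  exact (eq_inv_of_mul_eq_one_left hone).symm

end Groth.Agent.S16301
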