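import Groth.Statements.S16308
import Groth.Agent.NefCurve.Koszul
import Groth.Agent.S6578

set_option autoImplicit false
set_option backward.isDefEq.respectTransparency false
set_option backward.isDefEq.respectTransparency.types false
set_option linter.style.haveILetI false
universe u
open CategoryTheory CategoryTheory.Limits AlgebraicGeometry
open Curves

namespace Groth.Agent.S16308
open Groth.Agent

/-- Let k be a field and X a proper scheme over k of dimension one (a one-dimensional projective scheme)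
with H^0(X, O_X) = k. Let A be a globally generated ample invertible O_X-module and m ≥ 0 an integer
with H^1(X, A^{⊗ m}) = 0. Then for every n ≥ m + 1 the global sections of A^{⊗ n} ⊗ A = A^{⊗ (n+1)}
are spanned over H^0(X, O_X) = k by the sections a ⊗ b with a a global section of A^{⊗ n} and b a
global section of A; consequently the section ring ⊕_{n ≥ 0} H^0(X, A^{⊗ n}) is generated as a
k-algebra by its homogeneous pieces of degrees 1, …, m + 1. -/
theorem result (k : Type u) [Field k] (X : Scheme.{u}) [X.Over (Spec (CommRingCat.of k))]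
    [IsProper (X ↘ (Spec (CommRingCat.of k)))] (hdim : topologicalKrullDim X = 1)
    (h0 : Module.finrank k (Coh.HH X (Coh.structureModule X) 0) = 1)
    (A : X.Modules) (hA : CohB1.IsAmple A) (hgg : Curv2.IsGloballyGenerated A)
    (m : ℕ) (hm : Subsingleton (Coh.HH X (CohB1.tensorPow A m) 1))
    (n : ℕ) (hn : m + 1 ≤ n) :
    Submodule.span (X.ringCatSheaf.obj.obj (Opposite.op ⊤))
        (Set.range (fun p : (CohB1.tensorPow A n).val.obj (Opposite.op ⊤) × A.val.obj (Opposite.op ⊤) =>
          SecTwist.tmul (CohB1.tensorPow A n) A ⊤ p.1 p.2)) = ⊤ := by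
  classical
  haveI := CurveCohLib.isNoetherian_of_proper (k := k) (X := X)
  obtain ⟨J, q, hq⟩ := hgg
  haveI := hq
  have hAg : NefCurve.Gen A := fun P g hg => by
    refine (cancel_epi q).1 ?_
    rw [comp_zero]
    refine Sigma.hom_ext (f := fun _ : J => SheafOfModules.unit X.ringCatSheaf) _ _ fun i => ?_
    rw [comp_zero]
    exact (Category.assoc _ _ _).symm.trans (hg (Sigma.ι (fun _ : J => SheafOfModules.unit X.ringCatSheaf) i ≫ q))
  have hAc := CurveDeg.isCoh_of_isInvertible hA.1
  have hf : ∀ {L : X.Modules}, PicF.IsInvertible L → FlatMod.IsFinLocFree L := fun hL x =>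
    let ⟨W, hx, he⟩ := InvEnd.isFinLocFreeOfRank_one hL x; ⟨W, 1, hx, he⟩
  have hOX : Coh.IsCoh (Coh.structureModule X) := QCoh.isCoh_structureModule'
  have hquot : ∀ (j : ℕ) (Q : X.Modules), Coh.IsCoh Q → NefCurve.Gen Q →
      Subsingleton (Coh.HH X (CohB1.tensorPow A j) 1) →
      Subsingleton (Coh.HH X ((DCoh.tensorBi.obj (CohB1.tensorPow A j)).obj Q) 1) := by
    intro j Q hQ hQg hj
    obtain ⟨M, p', hp', -⟩ := NefCurve.exists_epi_basis k hQ hQg
    have hP := hf (InvX.isInvertible_tensorPow hA.1 j)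
    let G := DCoh.tensorBi.obj (CohB1.tensorPow A j)
    haveI : Epi (G.map p') :=
      (CurveTensor.shortExact_tensor hP _ _ _ (CurveSlope.shortExact_kernel_of_epi p')).epi_g
    refine NefCurve.subsingleton_h1_of_epi k hdim.le
      (CurveTensor.isCoh_tensor hP (QCoh.isCoh_biproduct _ fun _ => hOX)).1
      (CurveTensor.isCoh_tensor hP hQ).1 (G.map p') ?_
    exact NefCurve.subsingleton_of_summands k G _ 1 fun _ =>
      (CurveCohLib.hhEquiv (k := k) (KFlatLib.tensorUnitIso (CohB1.tensorPow A j)) 1).toEquiv.subsingleton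
  have hpow : ∀ j, m ≤ j → Subsingleton (Coh.HH X (CohB1.tensorPow A j) 1) := fun j hj => by
    induction j, hj using Nat.le_induction with
    | base => exact hm
    | succ j _ ih => exact hquot j A hAc hAg ih
  obtain ⟨j, rfl⟩ : ∃ j, n = j + 1 := ⟨n - 1, by omega⟩
  obtain ⟨N, p, hp, -⟩ := NefCurve.exists_epi_basis k hAc hAg
  haveI := hp
  have hcov : ∀ x, ∃ l, x ∈ H23.TrivBasic.locus ((biproduct.ι (NefCurve.T0 X N) l ≫ p).app ⊤
      (show Γ(Coh.structureModule X, ⊤) from (1 : Γ(X, ⊤)))) := fun x => by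
    let T : ULift.{u} (Fin N) → X.Modules := NefCurve.T0 X N
    let p₂ : (∐ fun _ : Fin N => Coh.structureModule X) ⟶ A := Sigma.desc fun l => biproduct.ι T ⟨l⟩ ≫ p
    haveI : Epi p₂ := Preadditive.epi_of_cancel_zero _ fun {P} g hg => by
      refine (cancel_epi p).1 ((biproduct.hom_ext' _ _ fun l => ?_).trans comp_zero.symm)
      rw [comp_zero, ← Category.assoc, show biproduct.ι T l ≫ p =
        Sigma.ι (fun _ : Fin N => Coh.structureModule X) l.down ≫ p₂ from
          (Sigma.ι_desc (fun l : Fin N => biproduct.ι T ⟨l⟩ ≫ p) l.down).symm, Category.assoc, hg, comp_zero]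
    obtain ⟨l, hl⟩ := NefCurve.exists_mem_locus hA.1 _ (S6578.generatedBy_of_epi p₂) x
    refine ⟨⟨l⟩, ?_⟩
    rw [Sigma.ι_desc] at hl
    exact hl
  have hK : Coh.IsCoh (kernel p) := QCoh.isCoh_kernel (QCoh.isCoh_biproduct _ fun _ => hOX) hAc p
  have hAK := hquot j _ (CurveTensor.isCoh_tensor (hf hA.1) hK) (NefCurve.gen_kernel hA.1 (hf hA.1) p hcov)
    (hpow j (by omega))
  have hMK : Subsingleton (Coh.HH X ((DCoh.tensorBi.obj (CohB1.tensorPow A (j + 1))).obj (kernel p)) 1) :=
    @Equiv.subsingleton _ _ (CurveCohLib.hhEquiv (k := k) ((CurveRR.tensorCompIso (CohB1.tensorPow A j) A).app (kernel p)) 1).symm.toEquiv hAK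
  refine eq_top_iff.2 fun z _ => ?_
  refine (AddSubgroup.closure_le (K := (Submodule.span (X.ringCatSheaf.obj.obj (Opposite.op ⊤))
        (Set.range (fun p : (CohB1.tensorPow A (j + 1)).val.obj (Opposite.op ⊤) × A.val.obj (Opposite.op ⊤) =>
          SecTwist.tmul (CohB1.tensorPow A (j + 1)) A ⊤ p.1 p.2))).toAddSubgroup)).2 ?_
    (NefCurve.tmul_closure_of_kernel k (hf (InvX.isInvertible_tensorPow hA.1 (j + 1))) p hMK z)
  rintro _ ⟨⟨a, b⟩, rfl⟩
  exact Submodule.subset_span ⟨(a, b), rfl⟩

end Groth.Agent.S16308
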