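import Groth.Statements.S16319
import Groth.Agent.CurveExt.CliffordEq
import Groth.Agent.CurveCohLib.Pencil
import Groth.Agent.CurveCohLib.PointTwist

set_option autoImplicit false
open CategoryTheory CategoryTheory.Limits AlgebraicGeometry
universe u
open Curves

namespace Groth.Agent.S16319

/-- Let k be an algebraically closed field of characteristic zero and X a smooth proper integral curve
over k (integral, proper and smooth over k, of dimension one) of genus 9 whose Clifford index is 3:
some invertible module M with h^0(M) ≥ 2 and h^1(M) ≥ 2 has deg M − 2(h^0(M) − 1) = 3, and every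
invertible module M with h^0(M) ≥ 2 and h^1(M) ≥ 2 has deg M − 2(h^0(M) − 1) ≥ 3 (degrees are χ(M) −
χ(O_X); in particular X is not hyperelliptic); let H be an invertible module of degree 7 with h^0(H)
= 3 (a g^2_7) and D a globally generated invertible module of degree 5 with h^0(D) = 2 (a
base-point-free complete g^1_5). Then every module N with D ⊗ N ≅ H has h^0(N) = 1: the difference
of the two series is the class of an effective divisor of degree 2 with a one-dimensional space of
sections, so the pencil is cut out by the lines through a double point of the plane model of degree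
7. -/
theorem result
    (k : Type u) [Field k] [IsAlgClosed k] [CharZero k]
    (X : Scheme.{u}) [X.Over (Spec (CommRingCat.of k))] [IsIntegral X]
    [IsProper (X ↘ Spec (CommRingCat.of k))] [Smooth (X ↘ Spec (CommRingCat.of k))]
    (hdim : topologicalKrullDim X = 1) (hg : Curv2.genus k X = 9)
    (hex : ∃ M : X.Modules, PicF.IsInvertible M ∧ 2 ≤ Module.finrank k (Coh.HH X M 0) ∧
      2 ≤ Module.finrank k (Coh.HH X M 1) ∧ Curv2.deg k X M 1 = 2 * (Module.finrank k (Coh.HH X M 0) : ℤ) + 1)
    (hmin : ∀ M : X.Modules, PicF.IsInvertible M → 2 ≤ Module.finrank k (Coh.HH X M 0) →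
      2 ≤ Module.finrank k (Coh.HH X M 1) → 2 * (Module.finrank k (Coh.HH X M 0) : ℤ) + 1 ≤ Curv2.deg k X M 1)
    (H : X.Modules) (hH : PicF.IsInvertible H) (hdH : Curv2.deg k X H 1 = 7)
    (h0H : Module.finrank k (Coh.HH X H 0) = 3)
    (D : X.Modules) (hD : PicF.IsInvertible D) (hgD : Curv2.IsGloballyGenerated D)
    (hdD : Curv2.deg k X D 1 = 5) (h0D : Module.finrank k (Coh.HH X D 0) = 2)
    (N : X.Modules) (e : CohB1.tensorMod D N ≅ H) :
    Module.finrank k (Coh.HH X N 0) = 1 := by
  haveI := Groth.Agent.CurveCohLib.isNoetherian_of_proper (k := k) (X := X)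
  have small : ∀ M : X.Modules, PicF.IsInvertible M →
      (Curv2.deg k X M 1 ≤ 4 → Module.finrank k (Coh.HH X M 0) ≤ 1) ∧
      (Curv2.deg k X M 1 = 10 → Module.finrank k (Coh.HH X M 0) ≤ 4) ∧
      (Curv2.deg k X M 1 = 12 → Module.finrank k (Coh.HH X M 0) ≤ 5) := fun M hM => by
    have hRR := Groth.Agent.CurveCohLib.Clifford.deg_eq k hdim hM
    rw [hg] at hRR
    refine ⟨fun h => ?_, fun h => ?_, fun h => ?_⟩ <;> by_contra hc <;>
      · have := hmin M hM (by omega) (by omega)
        omega
  obtain ⟨D', hD', hdD', ⟨d⟩⟩ := Groth.Agent.CurveDuality.exists_inverse_deg k hdim hD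
  have d' : (DCoh.tensorBi.obj D').obj D ≅ Coh.structureModule X := Groth.Agent.CurveTensor.commIso D' D ≪≫ d
  let eN : (DCoh.tensorBi.obj D').obj H ≅ N := ((DCoh.tensorBi.obj D').mapIso e).symm ≪≫
    (Groth.Agent.CurveRR.cancelIso d').app N
  have hNI : PicF.IsInvertible N :=
    Groth.Agent.H23.PicMul.isInvertible_of_iso eN (Groth.Agent.InvX.isInvertible_tensorMod hD' hH)
  have hdN : Curv2.deg k X N 1 = 2 := by
    rw [← Groth.Agent.CurveRR.deg_congr k eN, Groth.Agent.CurveRR.deg_tensor k hdim hD' hH, hdD', hdD, hdH]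
    norm_num
  have hle := (small N hNI).1 (by omega)
  by_contra hne
  have h0 : Module.finrank k (Coh.HH X N 0) = 0 := by omega
  have hom0 : ∀ φ : D ⟶ H, φ = 0 := fun φ => by
    obtain ⟨t, ht⟩ := Groth.Agent.CurveDuality.exists_homOfTwist k d φ
    by_contra hφ
    haveI : Module.Finite k (Coh.HH X ((DCoh.tensorBi.obj D').obj H) 0) :=
      Groth.Agent.CurveCohLib.finite_HH (k := k) (Groth.Agent.CurveDeg.isCoh_of_isInvertible
        (Groth.Agent.InvX.isInvertible_tensorMod hD' hH)) 0
    haveI : Subsingleton (Coh.HH X ((DCoh.tensorBi.obj D').obj H) 0) := Module.finrank_zero_iff.1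
      ((Groth.Agent.SlopeBound.finrank_h0_congr k eN).trans h0)
    obtain rfl : t = 0 := Subsingleton.elim _ _
    refine hφ ?_
    rw [← ht]
    have h2 := Groth.Agent.CurveExt.Cliff.homOfTwist_add (M := H) d 0 0
    rw [add_zero] at h2
    exact left_eq_add.1 h2
  have h6 := Groth.Agent.CurveCohLib.Pencil.two_mul_h0_le k hdim hD hH h0D
    (fun p hp => Groth.Agent.CurveCohLib.PointTwist.lt_of_gg k hD p hp hgD) hom0
  have hDH := Groth.Agent.InvX.isInvertible_tensorMod hD hH
  have := (small _ hDH).2.2 ((Groth.Agent.CurveRR.deg_tensor k hdim hD hH).trans (by rw [hdD, hdH]; norm_num))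
  omega

end Groth.Agent.S16319
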