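import Groth.Statements.S16320
import Groth.Agent.CurveExt.CliffordEq
import Groth.Agent.CurveCohLib.Pencil
import Groth.Agent.CurveCohLib.PointTwist

set_option autoImplicit false
open CategoryTheory CategoryTheory.Limits AlgebraicGeometry
universe u
open Curves

namespace Groth.Agent.S16320

/-- Let k be an algebraically closed field of characteristic zero and X a smooth proper integral curve
over k (integral, proper and smooth over k, of dimension one) of genus 9 whose Clifford index is 3: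
some invertible module M with h^0(M) ≥ 2 and h^1(M) ≥ 2 has deg M − 2(h^0(M) − 1) = 3, and every
invertible module M with h^0(M) ≥ 2 and h^1(M) ≥ 2 has deg M − 2(h^0(M) − 1) ≥ 3 (degrees are χ(M) −
χ(O_X); in particular X is not hyperelliptic), and let D be a globally generated invertible module
of degree 5 with h^0(D) = 2 (a base-point-free complete g^1_5). Then h^0(D^{⊗2}) is 3 or 4,
h^0(D^{⊗3}) is 7 or 8, and h^0(D^{⊗3}) = 7 whenever h^0(D^{⊗2}) = 3. (The published statement says,
equivalently by Riemann–Roch applied to the numbers h^0(K − iD) − h^0(K − (i+1)D) for a canonical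
module K, that the rational normal fourfold scroll formed by the linear spans of the pencil's
divisors in the canonical embedding has type S(2,1,1,1), S(2,2,1,0) or S(3,1,1,0); the scroll itself
is not restated here.) -/
theorem result
    (k : Type u) [Field k] [IsAlgClosed k] [CharZero k]
    (X : Scheme.{u}) [X.Over (Spec (CommRingCat.of k))] [IsIntegral X]
    [IsProper (X ↘ Spec (CommRingCat.of k))] [Smooth (X ↘ Spec (CommRingCat.of k))]
    (hdim : topologicalKrullDim X = 1) (hg : Curv2.genus k X = 9)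
    (hex : ∃ M : X.Modules, PicF.IsInvertible M ∧ 2 ≤ Module.finrank k (Coh.HH X M 0) ∧
      2 ≤ Module.finrank k (Coh.HH X M 1) ∧ Curv2.deg k X M 1 = 2 * (Module.finrank k (Coh.HH X M 0) : ℤ) + 1)
    (hmin : ∀ M : X.Modules, PicF.IsInvertible M → 2 ≤ Module.finrank k (Coh.HH X M 0) →
      2 ≤ Module.finrank k (Coh.HH X M 1) → 2 * (Module.finrank k (Coh.HH X M 0) : ℤ) + 1 ≤ Curv2.deg k X M 1)
    (D : X.Modules) (hD : PicF.IsInvertible D) (hgD : Curv2.IsGloballyGenerated D)
    (hdD : Curv2.deg k X D 1 = 5) (h0D : Module.finrank k (Coh.HH X D 0) = 2) :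
    (Module.finrank k (Coh.HH X (CohB1.tensorPow D 2) 0) = 3 ∨
        Module.finrank k (Coh.HH X (CohB1.tensorPow D 2) 0) = 4) ∧
      (Module.finrank k (Coh.HH X (CohB1.tensorPow D 3) 0) = 7 ∨
        Module.finrank k (Coh.HH X (CohB1.tensorPow D 3) 0) = 8) ∧
      (Module.finrank k (Coh.HH X (CohB1.tensorPow D 2) 0) = 3 →
        Module.finrank k (Coh.HH X (CohB1.tensorPow D 3) 0) = 7) := by
  haveI := Groth.Agent.CurveCohLib.isNoetherian_of_proper (k := k) (X := X)
  have small : ∀ M : X.Modules, PicF.IsInvertible M →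
      (Curv2.deg k X M 1 ≤ 4 → Module.finrank k (Coh.HH X M 0) ≤ 1) ∧
      (Curv2.deg k X M 1 = 10 → Module.finrank k (Coh.HH X M 0) ≤ 4) ∧
      (Curv2.deg k X M 1 = 12 → Module.finrank k (Coh.HH X M 0) ≤ 5) := fun M hM => by
    have hRR := Groth.Agent.CurveCohLib.Clifford.deg_eq k hdim hM
    rw [hg] at hRR
    refine ⟨fun h => ?_, fun h => ?_, fun h => ?_⟩ <;> by_contra hc <;>
      · have := hmin M hM (by omega) (by omega)
        omega
  obtain ⟨p, hp, -⟩ := Groth.Agent.CurveTwist.exists_closed_notMem k hdim (Z := (∅ : Set X)) Set.finite_empty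
  haveI := Groth.Agent.GrpSchLib.isRegularLocalRing_stalk_of_smooth (X ↘ Spec (CommRingCat.of k)) p
  have hT : ∀ j, PicF.IsInvertible (CohB1.tensorPow D j) := Groth.Agent.H23.PicMul.isInvertible_tensorPow hD
  have hdT : ∀ j : ℕ, Curv2.deg k X (CohB1.tensorPow D j) 1 = (j : ℤ) * 5 := fun j => by
    rw [Groth.Agent.CurveExt.Cliff.deg_tensorPow k hdim hD, hdD]
  have h2ge := Groth.Agent.CurveExt.Cliff.le_h0_tensorPow k hdim hD h0D.ge 2
  have h2le := (small _ (hT 2)).2.1 (by rw [hdT]; norm_num)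
  -- residual modules
  obtain ⟨D3, hD3, hdD3, ⟨e3⟩⟩ := Groth.Agent.CurveDuality.exists_inverse_deg k hdim (hT 3)
  have hΩ := Groth.Agent.CurveFF.isInvertible_Ωm k X hdim
  let E3 : X.Modules := CohB1.tensorMod (Groth.Agent.CurveFF.Ωm k X) D3
  have hE3 : PicF.IsInvertible E3 := Groth.Agent.InvX.isInvertible_tensorMod hΩ hD3
  have hdE3 : Curv2.deg k X E3 1 = 1 := by
    refine (Groth.Agent.CurveRR.deg_tensor k hdim hΩ hD3).trans ?_
    rw [(Groth.Agent.CurveFF.canonical_invariants k X hdim).2, hdD3, hdT, hg]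
    norm_num
  have hE3le := (small _ hE3).1 (by omega)
  have h13 : Module.finrank k (Coh.HH X (CohB1.tensorPow D 3) 1) = Module.finrank k (Coh.HH X E3 0) :=
    Groth.Agent.CurveFF.finrank_h1_eq k hdim (hT 3) e3
  have hRR3 := Groth.Agent.CurveCohLib.Clifford.deg_eq k hdim (hT 3)
  rw [hdT, h13, hg] at hRR3
  refine ⟨by omega, by omega, fun h2 => ?_⟩
  by_contra h7
  have hE30 : 0 < Module.finrank k (Coh.HH X E3 0) := by omega
  let E2 : X.Modules := CohB1.tensorMod E3 D
  have hE2 : PicF.IsInvertible E2 := Groth.Agent.InvX.isInvertible_tensorMod hE3 hD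
  have hHopf := Groth.Agent.CurveCohLib.Hopf.finrank_tensor k hdim hp hE3 hD
    (Module.nontrivial_of_finrank_pos (R := k) hE30) (Module.nontrivial_of_finrank_pos (R := k) (by omega))
  change _ ≤ Module.finrank k (Coh.HH X E2 0) + 1 at hHopf
  -- `E2` is residual to the square
  let D2 : X.Modules := CohB1.tensorMod D3 D
  have e3' : CohB1.tensorMod (CohB1.tensorPow D 3) D3 ≅ Coh.structureModule X := e3
  obtain ⟨a1⟩ := Groth.Agent.H23.PicMul.assoc (CohB1.tensorPow D 2) D D3
  obtain ⟨c1⟩ := Groth.Agent.H23.PicMul.comm D D3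
  have e2 : CohB1.tensorMod (CohB1.tensorPow D 2) D2 ≅ Coh.structureModule X :=
    PicGrp.tensorModIso (Iso.refl _) c1.symm ≪≫ a1.symm ≪≫ e3'
  have h12 : Module.finrank k (Coh.HH X (CohB1.tensorPow D 2) 1) =
      Module.finrank k (Coh.HH X (CohB1.tensorMod (Groth.Agent.CurveFF.Ωm k X) D2) 0) :=
    Groth.Agent.CurveFF.finrank_h1_eq k hdim (hT 2) e2
  obtain ⟨a2⟩ := Groth.Agent.H23.PicMul.assoc (Groth.Agent.CurveFF.Ωm k X) D3 D
  have h12' : Module.finrank k (Coh.HH X (CohB1.tensorPow D 2) 1) = Module.finrank k (Coh.HH X E2 0) :=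
    h12.trans (Groth.Agent.SlopeBound.finrank_h0_congr k a2).symm
  have hRR2 := Groth.Agent.CurveCohLib.Clifford.deg_eq k hdim (hT 2)
  rw [hdT, h12', hg] at hRR2
  omega

end Groth.Agent.S16320
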