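import Groth.Statements.S1633
import Groth.Agent.IntClFF.Completion
import Groth.Agent.AlgSpDec.OneFlat
-- import your own Groth.Agent.* helpers here

set_option autoImplicit false
set_option backward.isDefEq.respectTransparency false
set_option backward.isDefEq.respectTransparency.types false
set_option linter.style.haveILetI false
set_option maxHeartbeats 1000000
universe u
open CategoryTheory CategoryTheory.Limits AlgebraicGeometry
open Resolve

namespace Groth.Agent.S1633
open Groth.Agent

/-- Let (A, m) be a Noetherian local ring whose m-adic completion is reduced, and X an integral scheme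
locally of finite type over Spec A such that some open neighbourhood of the generic point of X is
étale over Spec A. Then the normalization morphism of X is finite. -/
theorem result (A : Type u) [CommRing A] [IsLocalRing A] [IsNoetherianRing A]
    [IsReduced (AdicCompletion (IsLocalRing.maximalIdeal A) A)]
    (X : Scheme.{u}) [IsIntegral X] (f : X ⟶ Spec (CommRingCat.of A)) [LocallyOfFiniteType f]
    (U : X.Opens) (hU : genericPoint X ∈ U) [Etale (U.ι ≫ f)]
    [QuasiCompact (X.fromSpecStalk (genericPoint X))] [QuasiSeparated (X.fromSpecStalk (genericPoint X))] :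
    IsFinite (Curv2.normalizationι X) := by
  refine IntClFF.isFinite_normalizationι X fun W hW hne => ?_
  haveI := hne
  have hgW : genericPoint X ∈ W :=
    ((genericPoint_spec X).mem_open_set_iff W.isOpen).mpr (hne.elim fun w => ⟨w.1, trivial, w.2⟩)
  obtain ⟨b, hbU, hgb⟩ := hW.exists_basicOpen_le (V := U) ⟨genericPoint X, hU⟩ hgW
  have hb : b ≠ 0 := fun h => by
    rw [h, Scheme.basicOpen_zero] at hgb
    exact hgb
  refine IntClFF.finite_integralClosure_of_reduced_off X A f W hW b hb fun y hy => ?_
  let g := Curv2.bcCplFst A f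
  let c := Spec.map (CommRingCat.ofHom (algebraMap A (Curv2.cpl A)))
  rw [← Scheme.Hom.preimage_basicOpen] at hy
  have hyU : y ∈ g ⁻¹ᵁ U := hbU hy
  have hsq : IsPullback ((g ⁻¹ᵁ U).ι ≫ Curv2.bcCplSnd A f) (g ∣_ U) c (U.ι ≫ f) :=
    (isPullback_morphismRestrict g U).flip.paste_horiz (IsPullback.of_hasPullback f c).flip
  haveI : Etale ((g ⁻¹ᵁ U).ι ≫ Curv2.bcCplSnd A f) := MorphismProperty.of_isPullback hsq.flip ‹_›
  haveI : _root_.IsReduced (Curv2.cpl A) := ‹_›
  haveI : AlgebraicGeometry.IsReduced (Spec (CommRingCat.of (Curv2.cpl A))) := inferInstance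
  haveI := AlgSpDec.isReduced_of_etaleMor ((g ⁻¹ᵁ U).ι ≫ Curv2.bcCplSnd A f)
  exact isReduced_of_injective ((g ⁻¹ᵁ U).stalkIso ⟨y, hyU⟩).commRingCatIsoToRingEquiv.symm.toRingHom
    ((g ⁻¹ᵁ U).stalkIso ⟨y, hyU⟩).commRingCatIsoToRingEquiv.symm.injective

end Groth.Agent.S1633
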