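import Groth.Statements.S16338
import Groth.Agent.AlgStLib.DiagQC
import Groth.Agent.AlgStLib.LocQ
import Groth.Agent.GerbLib.Glue
import Groth.Agent.AlgStLib.DiagLFT
import Groth.Agent.AlgStLib.LocSurjObj
import Groth.Agent.AlgStLib.Small
import Groth.Agent.AlgStLib.Imm
import Groth.Agent.S10262
import Groth.Agent.S12969

set_option linter.style.haveILetI false
set_option backward.isDefEq.respectTransparency false
set_option backward.isDefEq.respectTransparency.types false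

set_option autoImplicit false
universe u
open CategoryTheory
open AlgSt

namespace Groth.Agent.S16338

section Aux

open CategoryTheory CategoryTheory.Functor CategoryTheory.Limits AlgebraicGeometry AlgSp Opposite
open Groth.Agent.FibBase Groth.Agent.AlgStLib Groth.Agent.AlgSpLib Groth.Agent.GerbLib

variable {S : Scheme.{u}}

/-- Two sections of a separated unramified space which agree densely are equal. -/
theorem sections_eq {F : AlgSp.Space S} {U T : Over S} (π : F.obj ⟶ (yon S).obj U) (hs : IsSeparatedMor π)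
    (hu : LocP (@LocallyOfFiniteType ⊓ @FormallyUnramified) π) (s₁ s₂ : (yon S).obj U ⟶ F.obj)
    (h₁ : s₁ ≫ π = 𝟙 _) (h₂ : s₂ ≫ π = 𝟙 _) (k : T ⟶ U) (hk : Dense (Set.range k.left))
    (e : (yon S).map k ≫ s₁ = (yon S).map k ≫ s₂) : s₁ = s₂ := by
  let g : (yon S).obj U ⟶ pullback π π := pullback.lift s₁ s₂ (h₁.trans h₂.symm)
  have ho : RepWith @IsOpenImmersion (pullback.diagonal π) :=
    (S10262.result (X := F) (Y := ⟨_, IsAlgSpace.yon_obj U⟩) (ObjectProperty.homMk π)).1 hu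
  have hc : RepWith @IsClosedImmersion (pullback.diagonal π) := hs
  have sq := hc.rep.isPullback g
  let p := hc.rep.snd g
  haveI : IsClosedImmersion p.left := hc.property_snd g
  haveI : IsOpenImmersion p.left := ho.property g _ p sq
  obtain ⟨l, -, hl₂⟩ := sq.exists_lift ((yon S).map k ≫ s₁) ((yon S).map k) (by
    apply pullback.hom_ext <;> simp [g, e])
  obtain ⟨l', rfl⟩ := (yon S).map_surjective l
  have hkp : l' ≫ p = k := (yon S).map_injective (by rw [Functor.map_comp]; exact hl₂)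
  haveI : Surjective p.left := ⟨by
    rw [← Set.range_eq_univ]
    refine Set.univ_subset_iff.1 (hk.closure_eq.ge.trans
      (closure_minimal ?_ p.left.isClosedEmbedding.isClosed_range))
    rintro _ ⟨w, rfl⟩
    exact ⟨l'.left w, by rw [← Scheme.Hom.comp_apply, ← Over.comp_left, hkp]⟩⟩
  haveI : IsIso p.left := (isIso_iff_isOpenImmersion_and_surjective _).2 ⟨inferInstance, inferInstance⟩
  haveI : IsIso ((Over.forget S).map p) := inferInstanceAs (IsIso p.left)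
  haveI : IsIso p := isIso_of_reflects_iso p (Over.forget S)
  have w := sq.w
  have w₁ := congrArg (· ≫ pullback.fst π π) w
  have w₂ := congrArg (· ≫ pullback.snd π π) w
  simp only [Category.assoc, pullback.diagonal_fst, pullback.diagonal_snd, g, pullback.lift_fst,
    pullback.lift_snd, Category.comp_id] at w₁ w₂
  exact (cancel_epi ((yon S).map p)).1 (w₁.symm.trans w₂)

variable {𝒳 𝒴 : AlgSt.Cat S}

/-- A transformation trivial densely on a chart is trivial on it. -/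
theorem app_eq_id (hY : FibCat.IsFibGrpd 𝒴.p)
    (hd : AlgSt.RepByAlgSpWith IsSeparatedMor (FibCat.diag (FibCat.toSelf 𝒴)))
    (hu : AlgSt.RepByAlgSpWith (LocP (@LocallyOfFiniteType ⊓ @FormallyUnramified))
      (FibCat.diag (FibCat.toSelf 𝒴)))
    (F : 𝒳 ⥤ᵇ 𝒴) (α : F ⟶ F) {U T : Over S} (x : FibCat.overCat U ⥤ᵇ 𝒳) (k : T ⟶ U)
    (hk : Dense (Set.range k.left))
    (hα : α.toNatTrans.app (x.obj (Over.mk k)) = 𝟙 _) (a : (FibCat.overCat U : AlgSt.Cat S).obj) :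
    α.toNatTrans.app (x.obj a) = 𝟙 _ := by
  let y₁ := BasedFunctor.comp x F
  let t := FibCat.toSelf 𝒴
  let y := FibCat.fpLift y₁ y₁ (Iso.refl (BasedFunctor.comp y₁ t))
  -- transports of `α` along morphisms into an object where it is trivial
  have trans : ∀ (a a₀ : (FibCat.overCat U : AlgSt.Cat S).obj) (m : a ⟶ a₀),
      α.toNatTrans.app (x.obj a₀) = 𝟙 _ → α.toNatTrans.app (x.obj a) = 𝟙 _ := fun a a₀ m h₀ => by
    refine hom_ext_cart hY (F.map (x.map m)) ?_ ?_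
    · have := α.isHomLift (rfl : 𝒳.p.obj (x.obj a) = _)
      rw [IsHomLift.fac' 𝒴.p (𝟙 (𝒳.p.obj (x.obj a))) (α.toNatTrans.app (x.obj a))]
      first | done | simp
    · rw [← α.toNatTrans.naturality, Category.id_comp, h₀, Category.comp_id]
  haveI : ∀ a, IsIso (α.toNatTrans.app (x.obj a)) := fun a =>
    have := α.isHomLift (rfl : 𝒳.p.obj (x.obj a) = _)
    isIso_of_lift (hp := hY) (𝟙 (𝒳.p.obj (x.obj a))) _
  let βα : y₁ ≅ y₁ := BasedNatIso.mkNatIso
    (NatIso.ofComponents (fun a => asIso (α.toNatTrans.app (x.obj a)))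
      (fun {a b} φ => α.toNatTrans.naturality (x.map φ)))
    (fun a => α.isHomLift (x.w_obj a))
  let J' : ∀ β : y₁ ≅ y₁, BasedFunctor.comp (BasedFunctor.id _) y ≅ BasedFunctor.comp y₁ (FibCat.diag t) :=
    fun β => DiagQC.fpSelfIso (Iso.refl y₁) β
  let C := fun β : y₁ ≅ y₁ => FibCat.fpLift (BasedFunctor.id (FibCat.overCat U)) y₁ (J' β)
  obtain ⟨I, e, he, hs⟩ := hd U y
  obtain ⟨-, hu'⟩ := RepOver.property_of_stableBC stableBC_locP (hu U y) e he
  obtain ⟨g, -, -, ⟨ig⟩⟩ := isEquivOver_inv he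
  let π := AlgSt.spMapOfOver (BasedFunctor.comp e (FibCat.fpFst y (FibCat.diag t)))
  let s := fun β : y₁ ≅ y₁ => spHom (BasedFunctor.comp (AlgSt.toOverCat U) (BasedFunctor.comp (C β) g))
  have hπ : ∀ β, s β ≫ π = 𝟙 ((yon S).obj U) := fun β => by
    let q := FibCat.fpFst y (FibCat.diag t)
    let j : BasedFunctor.comp (BasedFunctor.comp (AlgSt.toOverCat U) (BasedFunctor.comp (C β) g))
        (BasedFunctor.comp e q) ≅ AlgSt.toOverCat U :=
      whiskerLeftIso (AlgSt.toOverCat U) (whiskerLeftIso (C β) (whiskerRightIso ig q))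
    rw [← spMapOfOver_comp, spMapOfOver_congr j]
    rw [spMapOfOver_eq, spHom_congr (toOverCatIso U), ← spHom_ofSpMap (𝟙 ((yon S).obj U))]
    exact spHom_congr (pshIso _ _ fun _ => rfl)
  have hJ : ∀ β w, ((J' β).hom.toNatTrans.app w).hom.snd = β.hom.toNatTrans.app w := fun _ _ => rfl
  have hk₁₂ : (yon S).map k ≫ s βα = (yon S).map k ≫ s (Iso.refl y₁) := by
    rw [← spHom_ofSpMap ((yon S).map k), ← spHom_comp, ← spHom_comp]
    refine spHom_congr ?_
    refine whiskerRightIso (toOverCatMapIso k).symm (BasedFunctor.comp (C βα) g) ≪≫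
      whiskerLeftIso (AlgSt.toOverCat T)
        (whiskerRightIso (?_ : BasedFunctor.comp (AlgSt.overMap k) (C βα) ≅
          BasedFunctor.comp (AlgSt.overMap k) (C (Iso.refl y₁))) g) ≪≫
      whiskerRightIso (toOverCatMapIso k) (BasedFunctor.comp (C (Iso.refl y₁)) g)
    refine BasedNatIso.mkNatIso (NatIso.ofComponents (fun w => fpIsoMk (Iso.refl _) (Iso.refl _) ?_)
      (fun {w w'} φ => ?_)) (fun w => fp_isHomLift (F := y) (G := FibCat.diag t) (𝟙 _) _
        (h := IsHomLift.id (p := (FibCat.overCat U : AlgSt.Cat S).p) ((AlgSt.overMap k).w_obj w)))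
    · have hw : α.toNatTrans.app (x.obj ((AlgSt.overMap k).obj w)) = 𝟙 _ :=
        trans _ _ (Over.homMk (U := (AlgSt.overMap k).obj w) (V := (Over.mk k : Over U)) w.hom rfl) hα
      show y.map (𝟙 _) ≫ ((J' (Iso.refl y₁)).hom.toNatTrans.app _) =
        ((J' βα).hom.toNatTrans.app ((AlgSt.overMap k).obj w)) ≫ (FibCat.diag t).map (𝟙 _)
      rw [y.toFunctor.map_id, (FibCat.diag t).toFunctor.map_id, Category.id_comp]
      refine Eq.trans ?_ (Category.comp_id _).symm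
      refine ObjectProperty.hom_ext _ (CategoricalPullback.hom_ext rfl ?_)
      rw [hJ, hJ]
      exact hw.symm
    · refine ObjectProperty.hom_ext _ (CategoricalPullback.hom_ext ?_ ?_)
      · exact (Category.comp_id _).trans (Category.id_comp _).symm
      · exact (Category.comp_id _).trans (Category.id_comp _).symm
  have hs₁₂ := sections_eq (F := I) π hs hu' (s βα) (s (Iso.refl y₁)) (hπ _) (hπ _) k hk hk₁₂
  let μ : BasedFunctor.comp (AlgSt.toOverCat U) (C βα) ≅ BasedFunctor.comp (AlgSt.toOverCat U) (C (Iso.refl y₁)) :=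
    whiskerLeftIso (AlgSt.toOverCat U) (whiskerLeftIso (C βα) ig.symm) ≪≫
      whiskerRightIso (isoOfSpMap _ ≪≫ eqToIso (congrArg (fun m => AlgSt.ofSpMap m) hs₁₂) ≪≫ (isoOfSpMap _).symm) e ≪≫
      whiskerLeftIso (AlgSt.toOverCat U) (whiskerLeftIso (C (Iso.refl y₁)) ig)
  let p₀ : (AlgSt.ofSch U).obj := ⟨U, ⟨𝟙 U⟩⟩
  let o : (FibCat.overCat U : AlgSt.Cat S).obj := Over.mk (𝟙 U)
  let μ₀ := (isoApp μ p₀).hom
  haveI hμl : (FibCat.fp y (FibCat.diag t)).p.IsHomLift (𝟙 U) μ₀ := isoApp_lift μ rfl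
  have hμ₁ : μ₀.hom.fst = 𝟙 o := by
    haveI : (FibCat.overCat U : AlgSt.Cat S).p.IsHomLift (𝟙 U) μ₀.hom.fst :=
      (FibCat.fpFst y (FibCat.diag t)).preserves_isHomLift (𝟙 U) μ₀
    exact Over.OverMorphism.ext ((IsHomLift.fac' (FibCat.overCat U : AlgSt.Cat S).p (𝟙 U) μ₀.hom.fst).trans (by
      simp; rfl))
  have hw : y.map μ₀.hom.fst ≫ ((J' (Iso.refl y₁)).hom.toNatTrans.app o) =
      ((J' βα).hom.toNatTrans.app o) ≫ (FibCat.diag t).map μ₀.hom.snd := μ₀.hom.w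
  rw [hμ₁] at hw
  have hθ : μ₀.hom.snd = 𝟙 _ := by
    have h₁ : y₁.map (𝟙 o) ≫ 𝟙 _ = 𝟙 _ ≫ μ₀.hom.snd := congrArg (fun q => q.hom.fst) hw
    rw [y₁.toFunctor.map_id, Category.id_comp, Category.id_comp] at h₁
    exact h₁.symm
  have h1 : α.toNatTrans.app (x.obj o) = 𝟙 _ := by
    have h₂ : y₁.map (𝟙 o) ≫ 𝟙 _ = α.toNatTrans.app (x.obj o) ≫ μ₀.hom.snd := congrArg (fun q => q.hom.snd) hw
    rw [y₁.toFunctor.map_id, hθ, Category.id_comp] at h₂
    exact (h₂.trans (Category.comp_id _)).symm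
  exact trans a o (Over.homMk a.hom (Category.comp_id _)) h1

/-- A transformation of a functor is trivial on objects sent into a substack which is an algebraic space. -/
theorem app_eq_id_of_factor {𝒰 𝒱 : AlgSt.Cat S} (h𝒴 : FibCat.IsFibGrpd 𝒴.p) (F : 𝒳 ⥤ᵇ 𝒴) (α : F ⟶ F)
    (i : 𝒰 ⥤ᵇ 𝒳) (j : 𝒱 ⥤ᵇ 𝒴) (hj : AlgSt.IsOpenImm j) (h𝒱 : AlgSt.RepByAlgSp 𝒱)
    (G : 𝒰 ⥤ᵇ 𝒱) (e : BasedFunctor.comp G j ≅ BasedFunctor.comp i F) (w : 𝒰.obj) :
    α.toNatTrans.app (i.obj w) = 𝟙 _ := by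
  let T := 𝒰.p.obj w
  obtain ⟨hF, hFf⟩ := full_faithful_of_isMono h𝒴 (isMono_of_isImm (repByAlgSpWith_mono
    (fun _ _ _ h => repWith_mono (fun _ _ g (_ : IsOpenImmersion g) => inferInstanceAs (IsImmersion g)) _ h) hj))
  haveI := (isFibSetoid_iff.1 (isFibSetoid_of_repByAlgSp h𝒱)).2
  let ψ : j.obj (G.obj w) ⟶ j.obj (G.obj w) :=
    (isoApp e w).hom ≫ α.toNatTrans.app (i.obj w) ≫ (isoApp e w).inv
  have l₁ := isoApp_lift e (a := w) (S := T) rfl
  have l₂ := α.isHomLift (i.w_obj w : 𝒳.p.obj (i.obj w) = T)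
  have l₃ := isoApp_inv_lift e (a := w) (S := T) rfl
  have hψ : 𝒴.p.IsHomLift (𝟙 T) ψ := inferInstance
  obtain ⟨φ, hφ⟩ := j.toFunctor.map_surjective ψ
  have hφl : 𝒱.p.IsHomLift (𝟙 T) φ := (j.isHomLift_iff (𝟙 T) φ).1 (hφ.symm ▸ hψ)
  have hφ1 : φ = 𝟙 _ := 𝒱.p.map_injective (by
    rw [IsHomLift.fac' 𝒱.p (𝟙 T) φ, 𝒱.p.map_id]; simp)
  have hψ1 : ψ = 𝟙 _ := by rw [← hφ, hφ1]; exact j.toFunctor.map_id _
  rw [← cancel_epi (isoApp e w).hom, ← cancel_mono (isoApp e w).inv]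
  simp only [Category.assoc]
  exact hψ1.trans ((isoApp e w).hom_inv_id.symm.trans (congrArg _ (Category.id_comp _).symm))

end Aux

/-- Let `S` be a scheme, `𝒳` and `𝒴` Deligne–Mumford stacks over `(Sch/S)` (fppf topology) such that the
diagonal of `𝒴` is representable by algebraic spaces and separated (the isomorphism spaces of `𝒴`
are separated), and `F : 𝒳 → 𝒴` a functor over `(Sch/S)` representable by algebraic spaces. Suppose
`i : 𝒰 → 𝒳` and `j : 𝒱 → 𝒴` are open immersions with `𝒰`, `𝒱` representable by algebraic spaces, the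
image of `|𝒰|` is dense in `|𝒳|`, and `F` maps `𝒰` into `𝒱`: there is `G : 𝒰 → 𝒱` with a
2-isomorphism `G ⋙ j ≅ i ⋙ F` over `(Sch/S)`. Then every 2-endomorphism `α : F ⇒ F` over `(Sch/S)`
(all of which are invertible, the fibres being groupoids) equals the identity. Density is taken in
the topological space of points of `𝒳` (topological, not scheme-theoretic, density). (The published
statement works over a Noetherian base with Deligne–Mumford stacks whose isomorphism spaces are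
separated and of finite type; this row keeps only the separatedness of the isomorphism spaces of
`𝒴`, which its proof uses.) -/
theorem result
    (S : AlgebraicGeometry.Scheme.{u}) (𝒳 𝒴 𝒰 𝒱 : AlgSt.Cat S)
    (h𝒳 : AlgSt.IsDM AlgebraicGeometry.Scheme.fppfPrecoverage 𝒳)
    (h𝒴 : AlgSt.IsDM AlgebraicGeometry.Scheme.fppfPrecoverage 𝒴)
    (hΔ : AlgSt.RepByAlgSpWith AlgSp.IsSeparatedMor (FibCat.diag (FibCat.toSelf 𝒴)))
    (F : 𝒳 ⥤ᵇ 𝒴) (hF : AlgSt.RepByAlgSp1 F)
    (i : 𝒰 ⥤ᵇ 𝒳) (hi : AlgSt.IsOpenImm i) (h𝒰 : AlgSt.RepByAlgSp 𝒰)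
    (hdense : Dense (Set.range (AlgSt.Points.map i)))
    (j : 𝒱 ⥤ᵇ 𝒴) (hj : AlgSt.IsOpenImm j) (h𝒱 : AlgSt.RepByAlgSp 𝒱)
    (G : 𝒰 ⥤ᵇ 𝒱) (e : BasedFunctor.comp G j ≅ BasedFunctor.comp i F)
    (α : F ⟶ F) : α = 𝟙 F := by
  open CategoryTheory AlgebraicGeometry AlgSp Groth.Agent.FibBase Groth.Agent.AlgStLib Groth.Agent.AlgSpLib
    Groth.Agent.GerbLib in
  obtain ⟨h𝒳a, U, x, hx, hx'⟩ := h𝒳
  obtain ⟨h𝒴a, V, y, hy, hy'⟩ := h𝒴
  have hye := repByAlgSpWith_precomp (isEquivOver_toOverCat V) (repByAlgSpWith_locP_etale hy)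
  have hu : AlgSt.IsDMOver 𝒴 := Groth.Agent.S12969.result S 𝒴 h𝒴a ⟨_, IsAlgSpace.yon_obj V⟩
    (BasedFunctor.comp (AlgSt.toOverCat V) y)
    (repByAlgSpWith_mono (fun _ _ _ h => locP_mono (P := @Etale) etale_le_flat h) hye)
    (repByAlgSpWith_mono (fun _ _ _ h => locP_mono (P := @Etale) etale_le_lfp h) hye)
    (repByAlgSpWith_precomp (isEquivOver_toOverCat V) hy')
    (repByAlgSpWith_mono (fun _ _ _ h => locP_mono (P := @Etale) (fun _ _ g (_ : Etale g) =>
      (⟨inferInstance, inferInstance⟩ : LocallyOfFiniteType g ∧ FormallyUnramified g)) h) hye)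
  have hxs : AlgSt.RepByAlgSpWith (LocP @Smooth) x := repByAlgSpWith_mono
    (fun _ _ _ h => locP_mono (P := @Etale) etale_le_smooth h) (repByAlgSpWith_locP_etale hx)
  have hUg : FibCat.IsFibGrpd 𝒰.p := (Groth.Agent.FibBase.isFibSetoid_iff.1 (isFibSetoid_of_repByAlgSp h𝒰)).1
  obtain ⟨T, c, -, hc'⟩ := hasAtlas_fp (R := @Smooth) etale_le_smooth (isFibGrpd_overCat U)
    hUg h𝒳a.isStack.1 h𝒳a.diag (isAlgStack_overCat U).atlas
    (isAlgStack_of_repByAlgSp1 hUg h𝒳a (repByAlgSp1_of_repByAlgSpWith hi)).atlas x i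
  obtain ⟨k, ⟨ik⟩⟩ := exists_mapB (BasedFunctor.comp c (FibCat.fpFst x i))
  have hdk : Dense (Set.range k.left) := by
    refine (hdense.preimage (isOpenMap_ofChart h𝒳a.isStack.1 (repByAlgSpWith_flat_of_smooth hxs)
      (repByAlgSpWith_lfp_of_smooth hxs))).mono ?_
    rintro t ⟨w, hw⟩
    obtain ⟨p, hp, -⟩ := exists_pts_fp hUg h𝒳a.isStack.1 (isFibGrpd_overCat U) i x
      (ptAt U t) w (by rw [← ofChart_eq_map]; exact hw.symm)
    obtain ⟨s, rfl⟩ := ofChart_surjective (fp_isFibGrpd (isFibGrpd_overCat U) hUg h𝒳a.isStack.1) hc' p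
    refine ⟨s, ?_⟩
    rw [ofChart_eq_map, ← pts_map_comp, ← pts_map_congr ik] at hp
    simpa only [toSch_ptAt] using congrArg (toSch U) ((map_overMap_ptAt k s).symm.trans hp)
  have hk : α.toNatTrans.app (x.obj (Over.mk k)) = 𝟙 _ := by
    let o : (FibCat.overCat T : AlgSt.Cat S).obj := Over.mk (𝟙 T)
    let θ : i.obj ((BasedFunctor.comp c (FibCat.fpSnd x i)).obj o) ≅ x.obj (Over.mk k) :=
      (isoApp (whiskerLeftIso c (FibCat.fpIso x i)) o).symm ≪≫
        x.toFunctor.mapIso ((isoApp ik o).symm ≪≫ Over.isoMk (Iso.refl _) (by simp [o]))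
    have n := α.toNatTrans.naturality θ.hom
    rw [app_eq_id_of_factor h𝒴a.isStack.1 F α i j hj h𝒱 G e, Category.id_comp] at n
    exact (cancel_epi (F.map θ.hom)).1 (n.trans (Category.comp_id _).symm)
  have hx1 := app_eq_id h𝒴a.isStack.1 hΔ hu F α x k hdk hk
  have h𝒴p : Stk.IsPrestack (J S) 𝒴 := ⟨h𝒴a.isStack.1, fun U R hR => have := h𝒴a.isStack.2 R hR; ⟨this.full, this.faithful⟩⟩
  refine BasedNatTrans.ext _ _ (NatTrans.ext (funext fun a => ?_))
  obtain ⟨R, hR, hR'⟩ := locSurjObj_of_locEssSurj h𝒳a.isStack.1 (locEssSurj_of_atlas hxs hx') a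
  refine hom_ext_local h𝒴p _ _ ?_
    (R := R.pullback (eqToHom (F.w_obj a))) ((J S).pullback_stable _ hR) fun W f hf => ?_
  · have := α.isHomLift (rfl : 𝒳.p.obj a = _)
    exact (IsHomLift.fac' 𝒴.p (𝟙 (𝒳.p.obj a)) (α.toNatTrans.app a)).trans (by simp)
  · obtain ⟨b, g, hg⟩ := hR' _ hf
    have hg' : 𝒴.p.IsHomLift (f ≫ eqToHom (F.w_obj a)) (F.map g) := F.preserves_isHomLift _ g
    refine ⟨F.obj (x.obj b), F.map g, IsHomLift.of_fac' 𝒴.p f _ (IsHomLift.domain_eq 𝒴.p (f ≫ eqToHom (F.w_obj a)) (F.map g)) rfl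
      (by rw [IsHomLift.fac' 𝒴.p (f ≫ eqToHom (F.w_obj a)) (F.map g)]; simp), ?_⟩
    rw [α.toNatTrans.naturality, hx1 b]
    simp

end Groth.Agent.S16338
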