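import Groth.Statements.S16339
import Groth.Agent.TrivStab.Neutral
import Groth.Agent.TrivStab.DM
import Groth.Agent.AlgStLib.Faithful
import Mathlib.FieldTheory.IsAlgClosed.AlgebraicClosure

set_option autoImplicit false
universe u
open CategoryTheory
open AlgSt

set_option backward.isDefEq.respectTransparency false
set_option backward.isDefEq.respectTransparency.types false

namespace Groth.Agent.S16339

/-- Let `S` be a scheme and `g : 𝒢 → ℱ` a functor over `(Sch/S)` between Deligne–Mumford stacks (fppf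
topology). Suppose that for every algebraically closed field `k` and every object `ξ` of `𝒢` lying
over `Spec k → S`, the homomorphism `Aut(ξ) → Aut(g(ξ))` of automorphism groups over the identity is
injective, stated here as: every endomorphism `a` of `ξ` over the identity of `Spec k` with `g(a) =
𝟙` is `𝟙` (such `a` are automorphisms, the fibres being groupoids). Then `g` is representable by
algebraic spaces. (The published statement is the equivalence of the two conditions. The converse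
implication — a functor representable by algebraic spaces is injective on automorphism groups over
identities — holds for every morphism of algebraic stacks and every object, and is not part of this
row. The published statement works under the convention that Deligne–Mumford stacks have isomorphism
spaces of finite type and separated over a Noetherian base; this row assumes only that both stacks
are Deligne–Mumford.) -/
theorem result
    (S : AlgebraicGeometry.Scheme.{u}) (𝒢 ℱ : AlgSt.Cat S)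
    (h𝒢 : AlgSt.IsDM AlgebraicGeometry.Scheme.fppfPrecoverage 𝒢)
    (hℱ : AlgSt.IsDM AlgebraicGeometry.Scheme.fppfPrecoverage ℱ)
    (g : 𝒢 ⥤ᵇ ℱ)
    (hinj : ∀ (k : Type u) [Field k] [IsAlgClosed k] (s : AlgebraicGeometry.Spec (CommRingCat.of k) ⟶ S)
        (ξ : 𝒢.obj) (hξ : 𝒢.p.obj ξ = Over.mk s) (a : ξ ⟶ ξ),
        𝒢.p.IsHomLift (𝟙 (𝒢.p.obj ξ)) a → g.map a = 𝟙 (g.obj ξ) → a = 𝟙 ξ) :
    AlgSt.RepByAlgSp1 g := by
  have hG := h𝒢.1.isStack.1
  have hF := hℱ.1.isStack.1
  rw [AlgStLib.repByAlgSp1_iff_faithful h𝒢.1 hℱ.1, AlgStLib.faithful_iff_trivial_kernel hG hF]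
  intro ξ a hp hga
  have ha : 𝒢.p.IsHomLift (CategoryTheory.CategoryStruct.id (𝒢.p.obj ξ)) a :=
    hp ▸ CategoryTheory.IsHomLift.map 𝒢.p a
  have hn := TrivStab.isOpenImm_inertiaNeutral
    (TrivStab.diag_unr_of_toSelf (TrivStab.isDMOver_of_isDM h𝒢) hℱ.1.diag g)
  haveI := FibBase.isIso_of_lift (p := 𝒢.p) (hp := hG) (CategoryTheory.CategoryStruct.id (𝒢.p.obj ξ)) a
  refine TrivStab.eq_id_of_isOpenImm hG hF hn (CategoryTheory.asIso a) ha hga fun t => ?_
  let κ := (𝒢.p.obj ξ).left.residueField t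
  let K := AlgebraicClosure κ
  let f₀ : AlgebraicGeometry.Spec (CommRingCat.of K) ⟶ (𝒢.p.obj ξ).left :=
    AlgebraicGeometry.Spec.map (CommRingCat.ofHom (algebraMap κ K)) ≫ (𝒢.p.obj ξ).left.fromSpecResidueField t
  let f : CategoryTheory.Over.mk (f₀ ≫ (𝒢.p.obj ξ).hom) ⟶ 𝒢.p.obj ξ := CategoryTheory.Over.homMk f₀
  obtain ⟨ξ', φ, hφ⟩ := hG.exists_lift f
  refine ⟨K, inferInstance, _, f, ξ', φ, ⟨IsLocalRing.closedPoint K, ?_⟩, hφ, ?_⟩
  · show (AlgebraicGeometry.Spec.map (CommRingCat.ofHom (algebraMap κ K)) ≫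
      (𝒢.p.obj ξ).left.fromSpecResidueField t) (IsLocalRing.closedPoint K) = t
    rw [AlgebraicGeometry.Scheme.Hom.comp_apply]
    exact AlgebraicGeometry.Scheme.fromSpecResidueField_apply _ _
  haveI := FibBase.isSC (p := 𝒢.p) (hp := hG) f φ
  haveI : 𝒢.p.IsHomLift f (φ ≫ a) :=
    CategoryTheory.IsHomLift.comp_lift_id_right' 𝒢.p f φ (𝒢.p.obj ξ) a
  let χ := CategoryTheory.Functor.IsCartesian.map 𝒢.p f φ (φ ≫ a)
  have hχ : χ ≫ φ = φ ≫ a := CategoryTheory.Functor.IsCartesian.fac 𝒢.p f φ (φ ≫ a)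
  have hξ' : 𝒢.p.obj ξ' = CategoryTheory.Over.mk (f₀ ≫ (𝒢.p.obj ξ).hom) :=
    CategoryTheory.IsHomLift.domain_eq 𝒢.p f φ
  have hl : 𝒢.p.IsHomLift (CategoryTheory.CategoryStruct.id (𝒢.p.obj ξ')) χ :=
    FibBase.isHomLift_id_congr hξ'.symm inferInstance
  haveI : ℱ.p.IsHomLift f (g.map φ) := g.preserves_isHomLift f φ
  haveI := FibBase.isSC (p := ℱ.p) (hp := hF) f (g.map φ)
  haveI : ℱ.p.IsHomLift (CategoryTheory.CategoryStruct.id (CategoryTheory.Over.mk (f₀ ≫ (𝒢.p.obj ξ).hom))) (g.map χ) :=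
    g.preserves_isHomLift _ χ
  haveI : ℱ.p.IsHomLift (CategoryTheory.CategoryStruct.id (CategoryTheory.Over.mk (f₀ ≫ (𝒢.p.obj ξ).hom)))
      (CategoryTheory.CategoryStruct.id (g.obj ξ')) :=
    CategoryTheory.IsHomLift.id ((g.w_obj ξ').trans hξ')
  have hgχ : g.map χ = CategoryTheory.CategoryStruct.id (g.obj ξ') :=
    CategoryTheory.Functor.IsCartesian.ext ℱ.p f (g.map φ) _ _ (by
      rw [← g.toFunctor.map_comp, hχ, g.toFunctor.map_comp, hga, CategoryTheory.Category.comp_id,
        CategoryTheory.Category.id_comp])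
  have h1 := hinj K _ ξ' hξ' χ hl hgχ
  rw [h1, CategoryTheory.Category.id_comp] at hχ
  exact hχ.symm

end Groth.Agent.S16339
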