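import Groth.Statements.S16340
import Groth.Agent.HilbPoly.Abelian
import Groth.Agent.FlatMisc.DimConstr

set_option autoImplicit false
set_option backward.isDefEq.respectTransparency false
set_option backward.isDefEq.respectTransparency.types false
open CategoryTheory CategoryTheory.Limits AlgebraicGeometry Polynomial
universe u
open ShStab

namespace Groth.Agent.S16340

/-- Let X be a scheme proper over a field k carrying an ample invertible sheaf L, Hilbert polynomials
being taken with respect to L, and let ι : E → E' be a monomorphism of coherent O_X-modules with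
Hilbert polynomials P_E and P_E'. Then P_E(m) ≤ P_E'(m) for all large m; and if the cokernel of ι
has support of topological Krull dimension less than d (for example, if the cokernel is zero), then
the multiplicities in dimension d agree: α_d(P_E) = α_d(P_E'), where α_d(P) is d! times the
coefficient of degree d. (The published statement is the case where E' is the saturation of E inside
a coherent sheaf of dimension d, over an algebraically closed field; the argument is unchanged for
any field.) -/
theorem result (k : Type u) [Field k] (X : Scheme.{u})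
    [X.Over (Spec (CommRingCat.of k))] [IsProper (X ↘ Spec (CommRingCat.of k))]
    (L : X.Modules) (hL : CohB1.IsAmple L) (d : ℕ) (E E' : X.Modules)
    (hE : Coh.IsCoh E) (hE' : Coh.IsCoh E') (ι : E ⟶ E') [Mono ι]
    (pE pE' : ℚ[X]) (hpE : ShStab.IsHilbPoly k X L E pE) (hpE' : ShStab.IsHilbPoly k X L E' pE') :
    StabCat.PolyLE pE pE' ∧
      (topologicalKrullDim (CohB1.support (cokernel ι)) < (d : WithBot ℕ∞) →
        StabCat.alpha d pE = StabCat.alpha d pE') := by
  set f := X ↘ Spec (CommRingCat.of k)
  haveI : Subsingleton (Spec (CommRingCat.of k)) := inferInstanceAs (Subsingleton (PrimeSpectrum k))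
  let y : Spec (CommRingCat.of k) := IsLocalRing.closedPoint k
  obtain ⟨n, hn⟩ := FlatMisc.DimConstr.exists_dim_le f y
  have hX : ∀ F : X.Modules, topologicalKrullDim ↥(CohB1.support F) ≤ (n : WithBot ℕ∞) := fun F => by
    refine (H23.TopDim.dim_le_dim_of_subset (fun x _ => Subsingleton.elim (f x) y : CohB1.support F ⊆ f ⁻¹' {y})).trans ?_
    exact ((f.fiberHomeo y).isHomeomorph.topologicalKrullDim_eq).ge.trans hn
  obtain ⟨hQ, hdQ, hpQ⟩ := HilbPoly.cokernel_data hL hE hE' (hX E') ι hpE hpE'
  refine ⟨?_, fun hlt => ?_⟩
  · obtain ⟨N, hN⟩ := HilbPoly.hilb_nonneg hL hQ hdQ hpQ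
    exact ⟨N, fun m hm => by have := hN m hm; simp only [eval_zero, eval_sub] at this; linarith⟩
  · have h := (HilbPoly.hilb_props hL.1 hQ hlt.le hpQ).2
    haveI : IsNoetherian X := CurveCohLib.isNoetherian_of_proper (k := k)
    have h0 : HilbPoly.mult k L d (cokernel ι) = 0 := HilbPoly.iterD_eq_zero d (HilbPoly.additive_euler k) _
      List.length_replicate (fun N hN => (List.eq_of_mem_replicate hN) ▸ hL.1) _ hQ hlt
    rw [h0, HilbPoly.HN.alpha_sub, Int.cast_zero, sub_eq_zero] at h
    exact h.symm

end Groth.Agent.S16340
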