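import Groth.Statements.S16344
-- import your own Groth.Agent.* helpers here

set_option autoImplicit false
universe u v
open IdeleMod

namespace Groth.Agent.S16344

private theorem exists_compatible {ι : Type u} [Preorder ι] [IsDirected ι (· ≤ ·)]
    (G : ι → Type v) [∀ i, TopologicalSpace (G i)] [∀ i, CompactSpace (G i)] [∀ i, T2Space (G i)]
    (f : ∀ ⦃i j : ι⦄, i ≤ j → (G j → G i)) (hf : ∀ i j (h : i ≤ j), Continuous (f h))
    (hcomp : ∀ i j k (hij : i ≤ j) (hjk : j ≤ k) (x : G k), f hij (f hjk x) = f (hij.trans hjk) x)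
    (S : ∀ i, Set (G i)) (hS : ∀ i, IsClosed (S i)) (hne : ∀ i, (S i).Nonempty)
    (hmap : ∀ i j (h : i ≤ j), Set.MapsTo (f h) (S j) (S i)) :
    ∃ z : ∀ i, G i, (∀ i j (h : i ≤ j), f h (z j) = z i) ∧ ∀ i, z i ∈ S i := by
  classical
  let C : {p : ι × ι // p.1 ≤ p.2} → Set (∀ i, G i) := fun p => {z | f p.2 (z p.1.2) = z p.1.1}
  have hC : ∀ p, IsClosed (C p) := fun p =>
    isClosed_eq ((hf _ _ p.2).comp (continuous_apply _)) (continuous_apply _)
  have hD : IsCompact (Set.univ.pi S) := isCompact_univ_pi fun i => (hS i).isCompact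
  obtain ⟨z, hzD, hzC⟩ := hD.inter_iInter_nonempty C hC (fun u => by
    cases isEmpty_or_nonempty ι with
    | inl h => exact ⟨fun i => isEmptyElim i, fun i _ => isEmptyElim i,
        Set.mem_iInter₂.mpr fun p _ => isEmptyElim p.1.1⟩
    | inr h =>
      obtain ⟨J, hJ⟩ := Finset.exists_le (u.image (fun p => p.1.2))
      choose s hs using hne
      refine ⟨fun i => if hi : i ≤ J then f hi (s J) else s i, fun i _ => ?_,
        Set.mem_iInter₂.mpr fun p hp => ?_⟩
      · dsimp only
        split
        next hi => exact hmap i J hi (hs J)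
        next => exact hs i
      · have h2 : p.1.2 ≤ J := hJ _ (Finset.mem_image_of_mem _ hp)
        show f p.2 (dite _ _ _) = dite _ _ _
        rw [dif_pos h2, dif_pos (p.2.trans h2), hcomp])
  exact ⟨z, fun i j h => Set.mem_iInter.mp hzC ⟨(i, j), h⟩, fun i => hzD i (Set.mem_univ i)⟩


/-- Let (G_i) be an inverse system, indexed by a directed preorder, of compact Hausdorff topological
abelian groups with continuous surjective transition maps, let G be its limit (the group of
compatible families) and let m be a natural number. Then the canonical map G/mG → lim G_i/mG_i is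
bijective: a compatible family that lies in mG_i at every index is m times a compatible family
(injectivity), and every family that is compatible modulo m agrees modulo m, index by index, with a
compatible family (surjectivity). -/
theorem result
    {ι : Type u} [Preorder ι] [IsDirected ι (· ≤ ·)]
    (G : ι → Type v) [∀ i, AddCommGroup (G i)] [∀ i, TopologicalSpace (G i)]
    [∀ i, IsTopologicalAddGroup (G i)] [∀ i, CompactSpace (G i)] [∀ i, T2Space (G i)]
    (f : ∀ ⦃i j : ι⦄, i ≤ j → (G j →+ G i)) (hf : ∀ i j (h : i ≤ j), Continuous (f h))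
    (hid : ∀ i (x : G i), f (le_refl i) x = x)
    (hcomp : ∀ i j k (hij : i ≤ j) (hjk : j ≤ k) (x : G k), f hij (f hjk x) = f (hij.trans hjk) x)
    (hsurj : ∀ i j (h : i ≤ j), Function.Surjective (f h)) (m : ℕ) :
    (∀ x : ∀ i, G i, (∀ i j (h : i ≤ j), f h (x j) = x i) → (∀ i, ∃ y : G i, m • y = x i) →
        ∃ z : ∀ i, G i, (∀ i j (h : i ≤ j), f h (z j) = z i) ∧ ∀ i, m • z i = x i) ∧
    (∀ y : ∀ i, G i, (∀ i j (h : i ≤ j), ∃ w : G i, f h (y j) - y i = m • w) →
        ∃ x : ∀ i, G i, (∀ i j (h : i ≤ j), f h (x j) = x i) ∧ ∀ i, ∃ w : G i, x i - y i = m • w) := by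
  constructor
  · intro x hx hdiv
    obtain ⟨z, hz, hzS⟩ := exists_compatible G (fun i j h => f h) hf hcomp
      (fun i => {y | m • y = x i}) (fun i => isClosed_eq (continuous_nsmul m) continuous_const) hdiv
      (fun i j h y (hy : m • y = x j) => show m • f h y = x i by rw [← map_nsmul, hy, hx])
    exact ⟨z, hz, hzS⟩
  · intro y hy
    obtain ⟨z, hz, hzS⟩ := exists_compatible G (fun i j h => f h) hf hcomp
      (fun i => Set.range fun w : G i => y i + m • w)
      (fun i => (isCompact_range (continuous_const.add (continuous_nsmul m))).isClosed)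
      (fun i => ⟨y i + m • (0 : G i), 0, rfl⟩)
      (fun i j h a ha => by
        obtain ⟨w, rfl⟩ := ha
        obtain ⟨w0, hw0⟩ := hy i j h
        refine ⟨w0 + f h w, ?_⟩
        show y i + m • (w0 + f h w) = f h (y j + m • w)
        rw [map_add, map_nsmul, smul_add, ← hw0]
        abel)
    refine ⟨z, hz, fun i => ?_⟩
    obtain ⟨w, hw⟩ := hzS i
    exact ⟨w, by rw [← hw]; exact add_sub_cancel_left _ _⟩

end Groth.Agent.S16344
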