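import Groth.Statements.S16345
import Groth.Agent.ConnCompl.Basic
import Groth.Agent.CurveCohLib.SmoothCurve
import Groth.Agent.ExtShX.SmDualAll

set_option autoImplicit false
universe u
open KatoHom

namespace Groth.Agent.S16345

open AlgebraicGeometry CategoryTheory in
/-- Let X be a connected scheme, proper and smooth of relative dimension d ≥ 2 over a field L, and let D
⊆ X be a closed subscheme, smooth of relative dimension d − 1 over L (a smooth divisor), whose
complement in X is an affine open subset. Then D is connected (in particular non-empty). -/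
theorem result
    {L : Type u} [Field L] {X D : Scheme.{u}} (f : X ⟶ Spec (CommRingCat.of L)) (i : D ⟶ X)
    [IsProper f] (d : ℕ) (hd : 1 < d) [SmoothOfRelativeDimension d f]
    [IsClosedImmersion i] [SmoothOfRelativeDimension (d - 1) (i ≫ f)]
    [ConnectedSpace X] (U : X.Opens) (hU : IsAffineOpen U)
    (hDU : Set.range i.base = (U : Set X)ᶜ) : ConnectedSpace D := by
  letI : X.Over (Spec (CommRingCat.of L)) := ⟨f⟩
  haveI : IsProper (X ↘ Spec (CommRingCat.of L)) := ‹IsProper f›
  haveI : SmoothOfRelativeDimension d (X ↘ Spec (CommRingCat.of L)) := ‹SmoothOfRelativeDimension d f›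
  haveI : Smooth f := SmoothOfRelativeDimension.smooth (n := d) f
  haveI : CompactSpace X := (quasiCompact_iff_compactSpace f).1 inferInstance
  haveI : IsIntegral X := CurveCohLib.isIntegral_of_smooth_connected f
  have hdim : (2 : WithBot ℕ∞) ≤ topologicalKrullDim X := by
    rw [ExtShX.SmDual.dim_eq (k := L) (r := d)]
    exact_mod_cast hd
  have hne : U ≠ ⊤ := fun h => by
    haveI : IsAffine (⊤ : X.Opens).toScheme := h ▸ hU
    haveI : IsAffine X := IsAffine.of_isIso X.topIso.inv
    letI := (isField_of_universallyClosed L (X ↘ Spec (CommRingCat.of L))).toField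
    haveI : Subsingleton ↥(Spec Γ(X, ⊤)) := inferInstanceAs (Subsingleton (PrimeSpectrum Γ(X, ⊤)))
    haveI : Subsingleton ↥X := X.isoSpec.hom.isOpenEmbedding.injective.subsingleton
    exact absurd (hdim.trans (topologicalKrullDim_zero_of_discreteTopology X)) (by decide)
  have hc : _root_.IsConnected (Set.range i.base) := by
    rw [hDU]
    exact ConnCompl.isConnected_compl L hdim U hU hne
  haveI := isConnected_iff_connectedSpace.1 hc
  exact i.isClosedEmbedding.isEmbedding.toHomeomorph.symm.surjective.connectedSpace (Homeomorph.continuous _)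

end Groth.Agent.S16345
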