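import Groth.Statements.S16349
import Groth.Agent.CubicLib.Avoid
import Groth.Agent.CubicLib.Pfaff

set_option autoImplicit false
universe u
open Cubic

namespace Groth.Agent.S16349

/-- Let k be a field of characteristic zero and S = V(F) ⊂ P^3 the cubic surface of a homogeneous cubic
F ∈ k[x_0, …, x_3] which is geometrically irreducible and not a cone. If S has a k-rational point a
which is not a T-point, then S admits a linear Pfaffian representation over k itself. A linear
Pfaffian representation over k is a 6 × 6 alternating matrix M of linear forms in k[x_0, …, x_3]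
whose Pfaffian is a nonzero constant multiple of F; since the determinant of an alternating matrix
is the square of its Pfaffian and the polynomial ring is factorial with no nonconstant units, this
is the same as det M = c · F^2 for a nonzero constant c, which is how it is written here. Here ℓ =
Σ_i ∂F/∂x_i(a) · x_i is the linear form of the tangent plane at a (zero when a is singular), and a
is called a T-point when a is a smooth point of S and the plane cubic T_a S ∩ S is set-theoretically
a union of lines, i.e. when F agrees modulo ℓ with a product of three linear forms over the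
algebraic closure; the hypothesis is that a is not a T-point (automatic for a singular point, F
being irreducible). S is not a cone: no nonzero vector v has Σ_i v_i ∂F/∂x_i = 0. -/
theorem result (k : Type u) [Field k] [CharZero k]
    (F : MvPolynomial (Fin 4) k) (hF : F.IsHomogeneous 3)
    (hirr : Irreducible (MvPolynomial.map (algebraMap k (AlgebraicClosure k)) F))
    (hcone : ¬ ∃ v : Fin 4 → k, v ≠ 0 ∧ ∑ i : Fin 4, v i • MvPolynomial.pderiv i F = 0)
    (a : Fin 4 → k) (ha : a ≠ 0) (hFa : MvPolynomial.eval a F = 0)
    (ℓ : MvPolynomial (Fin 4) (AlgebraicClosure k))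
    (hℓ : ℓ = ∑ i : Fin 4, MvPolynomial.C (algebraMap k (AlgebraicClosure k) (MvPolynomial.eval a (MvPolynomial.pderiv i F))) * MvPolynomial.X i)
    (hT : ¬ ∃ L₁ L₂ L₃ : MvPolynomial (Fin 4) (AlgebraicClosure k), L₁.IsHomogeneous 1 ∧ L₂.IsHomogeneous 1 ∧ L₃.IsHomogeneous 1 ∧
      MvPolynomial.map (algebraMap k (AlgebraicClosure k)) F - L₁ * L₂ * L₃ ∈ Ideal.span {ℓ}) :
    ∃ M : Matrix (Fin 6) (Fin 6) (MvPolynomial (Fin 4) k), (∀ i j, (M i j).IsHomogeneous 1) ∧ M.transpose = -M ∧ (∀ i, M i i = 0) ∧
      ∃ c : k, c ≠ 0 ∧ M.det = MvPolynomial.C c * F ^ 2 := by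
  classical
  obtain ⟨G, hG, hG', -⟩ := Groth.Agent.CubicLib.exists_cubic F hF
  obtain ⟨GK, hGK, hGK', -⟩ := Groth.Agent.CubicLib.exists_cubic _
    (hF.map (algebraMap k (AlgebraicClosure k)))
  have hc := Groth.Agent.CubicLib.compat_of_map (G := G) (GK := GK) hG' hGK'
  obtain ⟨p, hp, hpF, hli⟩ := Groth.Agent.CubicLib.exists_five F hF hG hG' hGK hc hirr ha
    ((hG a).symm.trans hFa) (fun h => hcone ⟨a, ha, MvPolynomial.funext fun v => by
      have h' := congrArg (3 * ·) (h v)
      simp only [mul_zero] at h'
      rw [pi_eq_sum_univ' a, map_sum, Finset.mul_sum] at h'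
      simp only [map_sum, MvPolynomial.smul_eval, hG', map_zero]
      rw [← h']
      exact Finset.sum_congr rfl fun i _ => by simp [mul_left_comm]⟩)
    (fun haa => Groth.Agent.CubicLib.not_isTriple_of_not_mem hGK (fun h0 => haa (LinearMap.ext fun v =>
      (algebraMap k (AlgebraicClosure k)).injective (by rw [← hc, h0]; simp))) fun h => hT (by
      obtain ⟨L₁, L₂, L₃, h₁, h₂, h₃, hmem⟩ := h
      refine ⟨L₁, L₂, L₃, h₁, h₂, h₃, ?_⟩
      convert hmem using 3
      rw [hℓ]
      simp only [Groth.Agent.CubicLib.linForm]
      refine Finset.sum_congr rfl fun i _ => ?_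
      rw [hG', ← Groth.Agent.CubicLib.ext_single (k := k) (K := AlgebraicClosure k) i, LinearMap.smul_apply, hc,
        smul_eq_mul, map_mul (algebraMap k (AlgebraicClosure k)), map_ofNat]))
  exact Groth.Agent.CubicLib.exists_pfaffian F hF p (fun j => (hG _).trans (hpF j)) hli

end Groth.Agent.S16349
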