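import Groth.Statements.S16352
import Mathlib
import Groth.Agent.CubicLib.Section

set_option autoImplicit false
universe u
open Cubic

namespace Groth.Agent.S16352

open MvPolynomial Module in
/-- a binary quadratic form is a product of two linear forms -/
theorem factor_quadratic {K : Type u} [Field K] [IsAlgClosed K] (A B C : K) :
    ∃ p q p' q' : K, ∀ s t : K, A * s ^ 2 + B * s * t + C * t ^ 2 = (p * s + q * t) * (p' * s + q' * t) := by
  rcases eq_or_ne A 0 with hA | hA
  · exact ⟨0, 1, B, C, fun s t => by rw [hA]; ring⟩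
  · obtain ⟨z, hz⟩ := Groth.Agent.CubicLib.Cubic.exists_root_quadratic A B C hA
    refine ⟨A, -(A * z), 1, z + B / A, fun s t => ?_⟩
    field_simp
    linear_combination (t ^ 2) * hz

/-- a binary cubic form is a product of three linear forms -/
theorem factor_cubic {K : Type u} [Field K] [IsAlgClosed K] (A B C D : K) :
    ∃ p₁ q₁ p₂ q₂ p₃ q₃ : K, ∀ s t : K, A * s ^ 3 + B * s ^ 2 * t + C * s * t ^ 2 + D * t ^ 3 =
      (p₁ * s + q₁ * t) * ((p₂ * s + q₂ * t) * (p₃ * s + q₃ * t)) := by
  rcases eq_or_ne A 0 with hA | hA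
  · obtain ⟨p, q, p', q', h⟩ := factor_quadratic B C D
    exact ⟨0, 1, p, q, p', q', fun s t => by rw [← h, hA]; ring⟩
  · obtain ⟨z, hz⟩ := IsAlgClosed.exists_root (Polynomial.C A * Polynomial.X ^ 3 + Polynomial.C B * Polynomial.X ^ 2 +
      Polynomial.C C * Polynomial.X + Polynomial.C D) (by
        intro h0
        have h := Polynomial.natDegree_eq_of_degree_eq_some (n := 0) h0
        have h3 : (Polynomial.C A * Polynomial.X ^ 3 + Polynomial.C B * Polynomial.X ^ 2 +
          Polynomial.C C * Polynomial.X + Polynomial.C D).natDegree = 3 := by compute_degree!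
        omega)
    simp at hz
    obtain ⟨p, q, p', q', h⟩ := factor_quadratic A (B + A * z) (C + B * z + A * z ^ 2)
    exact ⟨1, -z, p, q, p', q', fun s t => by rw [← h]; linear_combination (t ^ 3) * hz⟩

open MvPolynomial in
/-- the linear form attached to a functional -/
noncomputable def linForm {K : Type u} [Field K] (φ : (Fin 4 → K) →ₗ[K] K) : MvPolynomial (Fin 4) K :=
  ∑ i, C (φ (Pi.single i 1)) * X i

open MvPolynomial in
theorem eval_linForm {K : Type u} [Field K] (φ : (Fin 4 → K) →ₗ[K] K) (v : Fin 4 → K) :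
    eval v (linForm φ) = φ v := by
  conv_rhs => rw [pi_eq_sum_univ' v, map_sum]
  simp [linForm, mul_comm]

open MvPolynomial in
theorem mem_span_of_vanish {K : Type u} [Field K] [Infinite K] (φ : (Fin 4 → K) →ₗ[K] K) (w : Fin 4 → K)
    (hw : φ w = 1) (p : MvPolynomial (Fin 4) K) (hp : ∀ v, φ v = 0 → eval v p = 0) :
    p ∈ Ideal.span {linForm φ} := by
  let g : Fin 4 → MvPolynomial (Fin 4) K := fun i => X i - linForm φ * C (w i)
  have h0 : aeval g p = 0 := MvPolynomial.funext fun v => by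
    have : (eval v).comp (aeval g).toRingHom = eval (v - φ v • w) := by
      refine MvPolynomial.ringHom_ext (fun c => by simp) fun i => ?_
      simp [g, eval_linForm]
    rw [map_zero]
    show ((eval v).comp (aeval g).toRingHom) p = 0
    rw [this]
    exact hp _ (by rw [map_sub, map_smul, hw, smul_eq_mul, mul_one, sub_self])
  have hq : ((Ideal.Quotient.mk (Ideal.span {linForm φ})).comp (aeval g).toRingHom) =
      Ideal.Quotient.mk (Ideal.span {linForm φ}) := by
    refine MvPolynomial.ringHom_ext (fun c => by simp) fun i => ?_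
    simp only [RingHom.comp_apply, AlgHom.toRingHom_eq_coe, RingHom.coe_coe, aeval_X]
    rw [Ideal.Quotient.mk_eq_mk_iff_sub_mem, Ideal.mem_span_singleton]
    exact ⟨-C (w i), by simp [g]⟩
  rw [← Ideal.Quotient.eq_zero_iff_mem, ← hq]
  show Ideal.Quotient.mk _ (aeval g p) = 0
  rw [h0, map_zero]

/-- Let K be an algebraically closed field of characteristic zero and S = V(F) ⊂ P^3_K a cubic surface
which is irreducible and not a cone (no nonzero vector v has Σ_i v_i ∂F/∂x_i = 0). Let a be a smooth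
point of S which is not a T-point: with ℓ = Σ_i ∂F/∂x_i(a) · x_i the (nonzero) linear form of the
tangent plane T_a S, F is not congruent modulo ℓ to a product of three linear forms (i.e. T_a S ∩ S
is not set-theoretically a union of lines). Let P = Σ_i a_i ∂F/∂x_i be the first polar of a. Then
V(P) ∩ T_a S is a union of at most two lines through a, and every line through a lying on S lies in
V(P) ∩ T_a S; lines are 2-dimensional subspaces of K^4 and T_a S is the 3-dimensional subspace where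
ℓ vanishes. -/
theorem result (K : Type u) [Field K] [IsAlgClosed K] [CharZero K]
    (F : MvPolynomial (Fin 4) K) (hF : F.IsHomogeneous 3) (hirr : Irreducible F)
    (hcone : ¬ ∃ v : Fin 4 → K, v ≠ 0 ∧ ∑ i : Fin 4, v i • MvPolynomial.pderiv i F = 0)
    (a : Fin 4 → K) (ha : a ≠ 0) (hFa : MvPolynomial.eval a F = 0)
    (hsm : ∃ i : Fin 4, MvPolynomial.eval a (MvPolynomial.pderiv i F) ≠ 0)
    (ℓ : MvPolynomial (Fin 4) K)
    (hℓ : ℓ = ∑ i : Fin 4, MvPolynomial.C (MvPolynomial.eval a (MvPolynomial.pderiv i F)) * MvPolynomial.X i)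
    (hT : ¬ ∃ L₁ L₂ L₃ : MvPolynomial (Fin 4) K, L₁.IsHomogeneous 1 ∧ L₂.IsHomogeneous 1 ∧ L₃.IsHomogeneous 1 ∧
      F - L₁ * L₂ * L₃ ∈ Ideal.span {ℓ})
    (P : MvPolynomial (Fin 4) K) (hP : P = ∑ i : Fin 4, a i • MvPolynomial.pderiv i F)
    (H : Submodule K (Fin 4 → K)) (hH : ∀ x : Fin 4 → K, x ∈ H ↔ MvPolynomial.eval x ℓ = 0) :
    (∃ U₁ U₂ : Submodule K (Fin 4 → K), Module.finrank K ↥U₁ = 2 ∧ Module.finrank K ↥U₂ = 2 ∧ a ∈ U₁ ∧ a ∈ U₂ ∧
        U₁ ≤ H ∧ U₂ ≤ H ∧ {x : Fin 4 → K | x ∈ H ∧ MvPolynomial.eval x P = 0} = (U₁ : Set (Fin 4 → K)) ∪ (U₂ : Set (Fin 4 → K))) ∧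
      ∀ U : Submodule K (Fin 4 → K), a ∈ U → Module.finrank K ↥U = 2 → (∀ u ∈ U, MvPolynomial.eval u F = 0) →
        U ≤ H ∧ ∀ u ∈ U, MvPolynomial.eval u P = 0 := by
  classical
  obtain ⟨G, hG, hG', -⟩ := Groth.Agent.CubicLib.exists_cubic F hF
  have hP' : ∀ x, MvPolynomial.eval x P = 3 * G.T x x a := by
    intro x
    subst hP
    conv_rhs => rw [pi_eq_sum_univ' a, map_sum, Finset.mul_sum]
    simp only [map_sum, MvPolynomial.smul_eval, hG', map_smul, smul_eq_mul]
    exact Finset.sum_congr rfl fun i _ => by ring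
  let φ : (Fin 4 → K) →ₗ[K] K := (3 : K) • G.T a a
  have hφℓ : ℓ = linForm φ := by
    rw [hℓ]
    simp [linForm, φ, hG']
  have hφ : ∀ x, x ∈ H ↔ G.T a a x = 0 := fun x => by
    rw [hH, hφℓ, eval_linForm]; simp [φ]
  obtain ⟨w, hw⟩ : ∃ w, φ w = 1 := by
    obtain ⟨i, hi⟩ := hsm
    rw [hG'] at hi
    exact ⟨(φ (Pi.single i 1))⁻¹ • Pi.single i 1, by
      rw [map_smul, smul_eq_mul, inv_mul_cancel₀ (by simpa [φ] using hi)]⟩
  have hHker : H = LinearMap.ker φ := by
    ext x; rw [hφ, LinearMap.mem_ker]; simp [φ]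
  have hH3 : Module.finrank K H = 3 := by
    have h1 := LinearMap.finrank_range_add_finrank_ker φ
    have h2 : LinearMap.range φ = ⊤ := LinearMap.range_eq_top.2 fun c => ⟨c • w, by
      rw [map_smul, hw, smul_eq_mul, mul_one]⟩
    rw [h2, finrank_top, Module.finrank_self, Module.finrank_fin_fun] at h1
    rw [hHker]
    omega
  have haa : G.T a a a = 0 := by
    have := hG a; rw [hFa] at this; exact this.symm
  have haH : a ∈ H := (hφ a).2 haa
  -- extend `a` to a basis of the tangent plane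
  obtain ⟨W, hW⟩ := Submodule.exists_isCompl (Submodule.span K {a})
  have hsplit : ∀ v ∈ H, ∃ r : K, v - r • a ∈ H ⊓ W := fun v hv => by
    obtain ⟨p, hp, q, hq, rfl⟩ := Submodule.mem_sup.1
      (hW.sup_eq_top.symm ▸ Submodule.mem_top : v ∈ Submodule.span K {a} ⊔ W)
    obtain ⟨r, rfl⟩ := Submodule.mem_span_singleton.1 hp
    exact ⟨r, H.sub_mem hv (H.smul_mem r haH), by simpa using hq⟩
  have hd0 : Submodule.span K {a} ⊓ (H ⊓ W) = ⊥ :=
    eq_bot_iff.2 fun z hz => hW.disjoint.le_bot ⟨hz.1, hz.2.2⟩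
  have hW2 : Module.finrank K ↥(H ⊓ W) = 2 := by
    have h := Submodule.finrank_sup_add_finrank_inf_eq (Submodule.span K {a}) (H ⊓ W)
    have hs : Submodule.span K {a} ⊔ (H ⊓ W) = H := le_antisymm
      (sup_le ((Submodule.span_singleton_le_iff_mem _ _).2 haH) inf_le_left) fun v hv => by
        obtain ⟨r, hr⟩ := hsplit v hv
        exact Submodule.mem_sup.2 ⟨r • a, Submodule.smul_mem _ _ (Submodule.mem_span_singleton_self a),
          v - r • a, hr, add_sub_cancel _ _⟩
    rw [hd0, hs, finrank_bot, finrank_span_singleton ha, hH3] at h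
    omega
  let b := Module.finBasisOfFinrankEq K ↥(H ⊓ W) hW2
  set x : Fin 4 → K := (b 0 : Fin 4 → K) with hx
  set y : Fin 4 → K := (b 1 : Fin 4 → K) with hy
  have hxH' : x ∈ H := (b 0).2.1
  have hyH' : y ∈ H := (b 1).2.1
  have hxH : G.T a a x = 0 := (hφ x).1 hxH'
  have hyH : G.T a a y = 0 := (hφ y).1 hyH'
  have hdec : ∀ v ∈ H, ∃ r s t : K, v = r • a + s • x + t • y := by
    intro v hv
    obtain ⟨r, hr⟩ := hsplit v hv
    have hq' := congrArg (fun z : ↥(H ⊓ W) => (z : Fin 4 → K)) (b.sum_repr ⟨_, hr⟩)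
    rw [Fin.sum_univ_two] at hq'
    simp only [Submodule.coe_add, Submodule.coe_smul] at hq'
    exact ⟨r, b.repr ⟨_, hr⟩ 0, b.repr ⟨_, hr⟩ 1, by rw [add_assoc, hq', add_sub_cancel]⟩
  have hli : LinearIndependent K ![a, x, y] := by
    refine linearIndependent_fin_cons.2 ⟨?_, fun h => ?_⟩
    · have e : ![x, y] = (H ⊓ W).subtype ∘ b := by
        funext i; fin_cases i <;> rfl
      rw [e]; exact b.linearIndependent.map' _ (H ⊓ W).ker_subtype
    · have hle : Submodule.span K (Set.range ![x, y]) ≤ H ⊓ W := Submodule.span_le.2 (by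
        rintro _ ⟨i, rfl⟩; fin_cases i
        · exact (b 0).2
        · exact (b 1).2)
      have := hd0.le ⟨Submodule.mem_span_singleton_self a, hle h⟩
      exact ha ((Submodule.mem_bot K).1 this)
  set qA := G.T x x a
  set qB := 2 * G.T x y a
  set qC := G.T y y a
  have hq : ∀ r s t : K, G.T (r • a + s • x + t • y) (r • a + s • x + t • y) a =
      qA * s ^ 2 + qB * s * t + qC * t ^ 2 := by
    intro r s t
    simp only [qA, qB, qC, map_add, map_smul, LinearMap.add_apply, LinearMap.smul_apply, smul_eq_mul]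
    rw [G.symm₂₃ a x a, G.symm₂₃ a y a, G.symm₁₃ x a a, G.symm₁₃ y a a, G.symm₁₂ y x a, haa, hxH, hyH]
    ring
  obtain ⟨p, q, p', q', hfac⟩ := factor_quadratic qA qB qC
  -- the polar does not vanish on the tangent plane
  have hne : (p ≠ 0 ∨ q ≠ 0) ∧ (p' ≠ 0 ∨ q' ≠ 0) := by
    by_contra hcon
    have hzero : ∀ s t : K, qA * s ^ 2 + qB * s * t + qC * t ^ 2 = 0 := by
      intro s t
      rw [hfac]
      rcases not_and_or.1 hcon with h | h <;> push Not at h <;> simp [h.1, h.2]
    refine hT ?_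
    obtain ⟨B₀, hB₀⟩ : ∃ B : Module.Basis (Fin 4) K (Fin 4 → K), B 0 = a ∧ B 1 = x ∧ B 2 = y ∧ B 3 = w := by
      have h4 : LinearIndependent K ![a, x, y, w] := by
        rw [Fintype.linearIndependent_iff]
        intro d hd
        simp only [Fin.sum_univ_four, Matrix.cons_val_zero, Matrix.cons_val_one, Matrix.cons_val_two,
          Matrix.cons_val_three, Matrix.tail_cons, Matrix.head_cons] at hd
        have d3 : d 3 = 0 := by
          have := congrArg φ hd
          have hw0 : G.T a a w ≠ 0 := fun h0 => by simp [φ, h0] at hw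
          simpa [φ, haa, hxH, hyH, hw0] using this
        have h := Fintype.linearIndependent_iff.1 hli ![d 0, d 1, d 2] (by
          simp [Fin.sum_univ_three]; rw [← hd, d3]; simp)
        have d0 : d 0 = 0 := h 0
        have d1 : d 1 = 0 := h 1
        have d2 : d 2 = 0 := h 2
        intro i; fin_cases i <;> assumption
      exact ⟨basisOfLinearIndependentOfCardEqFinrank h4 (by simp), by simp, by simp, by simp, by simp⟩
    obtain ⟨p₁, q₁, p₂, q₂, p₃, q₃, hc⟩ := factor_cubic (G.F x) (3 * G.T x x y) (3 * G.T x y y) (G.F y)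
    refine ⟨linForm (p₁ • B₀.coord 1 + q₁ • B₀.coord 2), linForm (p₂ • B₀.coord 1 + q₂ • B₀.coord 2),
      linForm (p₃ • B₀.coord 1 + q₃ • B₀.coord 2), ?_, ?_, ?_, ?_⟩
    iterate 3 exact MvPolynomial.IsHomogeneous.sum _ _ _ fun i _ => (MvPolynomial.isHomogeneous_X K i).C_mul _
    rw [hφℓ]
    refine mem_span_of_vanish φ w hw _ fun v hv => ?_
    obtain ⟨r, s, t, rfl⟩ := hdec v (by rw [hHker]; exact hv)
    obtain ⟨e0, e1, e2, e3⟩ := hB₀
    rw [map_sub, map_mul, map_mul, hG, eval_linForm, eval_linForm, eval_linForm]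
    have hc1 : B₀.coord 1 (r • a + s • x + t • y) = s := by
      rw [← e0, ← e1, ← e2]; simp
    have hc2 : B₀.coord 2 (r • a + s • x + t • y) = t := by
      rw [← e0, ← e1, ← e2]; simp
    simp only [LinearMap.add_apply, LinearMap.smul_apply, smul_eq_mul, hc1, hc2]
    rw [G.F_comb₃, show G.F a = 0 from haa, hxH, hyH,
      G.symm₁₃ a x x, G.symm₁₃ a y y, G.symm₁₃ a x y, G.symm₁₂ y x a]
    have z1 := hzero 1 0; have z2 := hzero 0 1; have z3 := hzero 1 1
    simp only [qA, qB, qC] at z1 z2 z3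
    linear_combination (3 * r * s ^ 2 - 3 * r * s * t) * z1 + (3 * r * t ^ 2 - 3 * r * s * t) * z2 +
      (3 * r * s * t) * z3 + hc s t
  -- the line through `a` cut out by a factor
  have mk : ∀ p q : K, (p ≠ 0 ∨ q ≠ 0) → ∃ U : Submodule K (Fin 4 → K), Module.finrank K ↥U = 2 ∧ a ∈ U ∧ U ≤ H ∧
      ∀ r s t : K, (r • a + s • x + t • y ∈ U ↔ p * s + q * t = 0) := by
    intro p q hpq
    have hmem : ∀ r s t : K, r • a + s • x + t • y ∈ Submodule.span K {a, q • x - p • y} ↔ p * s + q * t = 0 := by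
      intro r s t
      constructor
      · intro h
        obtain ⟨c, d, hcd⟩ := Submodule.mem_span_pair.1 h
        have h' := Fintype.linearIndependent_iff.1 hli ![c - r, d * q - s, -(d * p) - t] (by
          simp [Fin.sum_univ_three]
          rw [← sub_eq_zero.2 hcd]; module)
        have e1 : d * q - s = 0 := h' 1
        have e2 : -(d * p) - t = 0 := h' 2
        linear_combination -p * e1 - q * e2
      · intro h
        refine Submodule.mem_span_pair.2 ⟨r, if q ≠ 0 then s / q else -t / p, ?_⟩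
        split_ifs with hq
        · have et : -(s / q * p) = t := by field_simp; linear_combination -h
          rw [show r • a + (s / q) • (q • x - p • y) = r • a + (s / q * q) • x + (-(s / q * p)) • y by module,
            div_mul_cancel₀ s hq, et]
        · rw [not_not] at hq
          have hp : p ≠ 0 := hpq.resolve_right (not_not.2 hq)
          have hs : s = 0 := by simpa [hq, hp] using h
          rw [hq, hs]
          conv_rhs => rw [show t = -(-t / p * p) by field_simp]
          module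
    refine ⟨Submodule.span K {a, q • x - p • y}, ?_, Submodule.subset_span (Set.mem_insert _ _), ?_, hmem⟩
    · have h2 : LinearIndependent K ![a, q • x - p • y] := by
        rw [LinearIndependent.pair_iff]
        intro c d hcd
        have h' := Fintype.linearIndependent_iff.1 hli ![c, d * q, -(d * p)] (by
          simp [Fin.sum_univ_three]; rw [← hcd]; module)
        refine ⟨h' 0, ?_⟩
        have e1 : d * q = 0 := h' 1
        have e2 : -(d * p) = 0 := h' 2
        rcases hpq with h | h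
        · exact (mul_eq_zero.1 (neg_eq_zero.1 e2)).resolve_right h
        · exact (mul_eq_zero.1 e1).resolve_right h
      rw [← Matrix.range_cons_cons_empty a (q • x - p • y) ![], finrank_span_eq_card h2, Fintype.card_fin]
    · refine Submodule.span_le.2 ?_
      rintro _ (rfl | rfl)
      · exact haH
      · exact sub_mem (H.smul_mem _ hxH') (H.smul_mem _ hyH')
  obtain ⟨U₁, hU₁, haU₁, hU₁H, hmem₁⟩ := mk p q hne.1
  obtain ⟨U₂, hU₂, haU₂, hU₂H, hmem₂⟩ := mk p' q' hne.2
  refine ⟨⟨U₁, U₂, hU₁, hU₂, haU₁, haU₂, hU₁H, hU₂H, ?_⟩, fun U haU hU hUF => ?_⟩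
  · ext v
    constructor
    · rintro ⟨hv, hPv⟩
      obtain ⟨r, s, t, rfl⟩ := hdec v hv
      rw [hP', hq, hfac, mul_eq_zero, mul_eq_zero] at hPv
      rcases hPv with h | h | h
      · norm_num at h
      · exact Or.inl ((hmem₁ r s t).2 h)
      · exact Or.inr ((hmem₂ r s t).2 h)
    · rintro (hv | hv)
      · obtain ⟨r, s, t, rfl⟩ := hdec v (hU₁H hv)
        exact ⟨hU₁H hv, by rw [hP', hq, hfac, (hmem₁ r s t).1 hv]; ring⟩
      · obtain ⟨r, s, t, rfl⟩ := hdec v (hU₂H hv)
        exact ⟨hU₂H hv, by rw [hP', hq, hfac, (hmem₂ r s t).1 hv]; ring⟩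
  · have hzero : ∀ u ∈ U, G.F u = 0 := fun u hu => (hG u).symm.trans (hUF u hu)
    refine ⟨fun u hu => (hφ u).2 (G.T_eq_zero_of_F hzero haU haU hu), fun u hu => ?_⟩
    rw [hP', G.T_eq_zero_of_F hzero hu hu haU, mul_zero]

end Groth.Agent.S16352
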