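import Groth.Statements.S16354
import Groth.Agent.CubicLib.Resolvent

set_option autoImplicit false
universe u
open Cubic

namespace Groth.Agent.S16354

/-- Let k be a subfield of ℝ (a field equipped with an embedding into the reals) and S = V(F) ⊂ P^3 the
cubic surface of a homogeneous cubic F ∈ k[x_0, …, x_3] which is geometrically irreducible and not a
cone (no nonzero vector v has Σ_i v_i ∂F/∂x_i = 0). Then S admits a linear Pfaffian representation
over a real intermediate field k ⊆ E ⊆ ℝ of degree [E : k] ≤ 3. A linear Pfaffian representation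
over E is a 6 × 6 alternating matrix M of linear forms in E[x_0, …, x_3] whose Pfaffian is a nonzero
constant multiple of F; since the determinant of an alternating matrix is the square of its Pfaffian
and the polynomial ring is factorial with no nonconstant units, this is the same as det M = c · F^2
for a nonzero constant c, which is how it is written here. -/
theorem result (k : Type u) [Field k] [Algebra k ℝ]
    (F : MvPolynomial (Fin 4) k) (hF : F.IsHomogeneous 3)
    (hirr : Irreducible (MvPolynomial.map (algebraMap k (AlgebraicClosure k)) F))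
    (hcone : ¬ ∃ v : Fin 4 → k, v ≠ 0 ∧ ∑ i : Fin 4, v i • MvPolynomial.pderiv i F = 0) :
    ∃ E : IntermediateField k ℝ, FiniteDimensional k ↥E ∧ Module.finrank k ↥E ≤ 3 ∧
      ∃ M : Matrix (Fin 6) (Fin 6) (MvPolynomial (Fin 4) ↥E), (∀ i j, (M i j).IsHomogeneous 1) ∧ M.transpose = -M ∧ (∀ i, M i i = 0) ∧
        ∃ c : ↥E, c ≠ 0 ∧ M.det = MvPolynomial.C c * (MvPolynomial.map (algebraMap k ↥E) F) ^ 2 := by
  classical
  haveI : CharZero k := RingHom.charZero (algebraMap k ℝ)
  obtain ⟨f, hf, h⟩ := Groth.Agent.CubicLib.exists_cubic_resolvent.{u, 0} (K := AlgebraicClosure k) F hF hirr hcone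
  have hf0 : f ≠ 0 := fun h0 => by simp [h0] at hf
  -- a cubic polynomial has a real root
  obtain ⟨t, ht⟩ : ∃ t : ℝ, Polynomial.aeval t f = 0 := by
    set g := f.map (algebraMap k ℝ) * Polynomial.C ((f.map (algebraMap k ℝ)).leadingCoeff)⁻¹
    have hg : g.Monic := Polynomial.monic_mul_leadingCoeff_inv (by simpa using hf0)
    have hdeg : g.natDegree = 3 := by
      rw [Polynomial.natDegree_mul_C (by simpa using hf0), Polynomial.natDegree_map, hf]
    have htop : Filter.Tendsto (fun x => g.eval x) Filter.atTop Filter.atTop :=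
      g.tendsto_atTop_of_leadingCoeff_nonneg (by
        rw [Polynomial.degree_eq_natDegree hg.ne_zero, hdeg]; norm_num) (by rw [hg.leadingCoeff]; norm_num)
    have hbot : Filter.Tendsto (fun x => -(g.eval (-x))) Filter.atTop Filter.atTop := by
      have hd : (-g.comp (-Polynomial.X)).natDegree = 3 := by simp [Polynomial.natDegree_comp, hdeg]
      have h := (-g.comp (-Polynomial.X)).tendsto_atTop_of_leadingCoeff_nonneg (by
        rw [Polynomial.degree_eq_natDegree (fun h0 => by simp [h0] at hd), hd]; norm_num) (by
        rw [Polynomial.leadingCoeff_neg, Polynomial.leadingCoeff_comp (by simp), hg.leadingCoeff, hdeg]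
        norm_num)
      simpa using h
    obtain ⟨a, ha⟩ := (htop.eventually_ge_atTop 0).exists
    obtain ⟨b, hb⟩ := (hbot.eventually_ge_atTop 0).exists
    obtain ⟨t, ht⟩ := intermediate_value_univ (-b) a g.continuous ⟨neg_nonneg.1 hb, ha⟩
    refine ⟨t, ?_⟩
    rw [Polynomial.aeval_def, ← Polynomial.eval_map]
    have h0 : (f.map (algebraMap k ℝ)).eval t * ((f.map (algebraMap k ℝ)).leadingCoeff)⁻¹ = 0 := by simpa [g] using ht
    exact (mul_eq_zero.1 h0).resolve_right (inv_ne_zero (by simpa using hf0))
  have hint : IsIntegral k t := IsAlgebraic.isIntegral ⟨f, hf0, ht⟩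
  haveI := IntermediateField.adjoin.finiteDimensional hint
  refine ⟨IntermediateField.adjoin k {t}, inferInstance, ?_, h _ ⟨⟨t, IntermediateField.mem_adjoin_simple_self k t⟩, ?_⟩⟩
  · rw [IntermediateField.adjoin.finrank hint, ← hf]
    exact Polynomial.natDegree_le_of_dvd (minpoly.dvd k t ht) hf0
  · refine Subtype.ext ?_
    rw [Polynomial.aeval_subalgebra_coe]
    exact ht

end Groth.Agent.S16354
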