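import Groth.Statements.S16358
import Mathlib.LinearAlgebra.FreeModule.PID
import Mathlib.RingTheory.WittVector.DiscreteValuationRing

set_option autoImplicit false
universe u v w
open OrdAV

namespace Groth.Agent.S16358

/-- Let k be a perfect field of characteristic p > 0 and W = W(k); let M be a finitely generated free
W-module on which a finite group G acts W-linearly, with invariant submodule M^G. Then the map
(W/pW) ⊗ M^G → (W/pW) ⊗ M induced by the inclusion is injective. Since M^G is free, this implies
rank_W M^G ≤ dim_k (M/pM)^G; the published statement is that inequality, and this row states the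
stronger injectivity. -/
theorem result (p : ℕ) [Fact p.Prime]
    (k : Type u) [Field k] [CharP k p] [PerfectRing k p]
    (M : Type v) [AddCommGroup M] [Module (WittVector p k) M]
    [Module.Free (WittVector p k) M] [Module.Finite (WittVector p k) M]
    (G : Type w) [Group G] [Finite G] (ρ : Representation (WittVector p k) G M) :
    Function.Injective
      (LinearMap.lTensor (WittVector p k ⧸ Ideal.span {(p : WittVector p k)}) ρ.invariants.subtype) := by
  have hsat : Module.IsTorsionFree (WittVector p k) (M ⧸ ρ.invariants) := by
    refine Module.isTorsionFree_iff_smul_eq_zero.mpr ?_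
    intro r x hrx
    induction x using Submodule.Quotient.induction_on with
    | _ m =>
      by_cases hr : r = 0
      · exact Or.inl hr
      right
      rw [← Submodule.Quotient.mk_smul, Submodule.Quotient.mk_eq_zero] at hrx
      rw [Submodule.Quotient.mk_eq_zero]
      intro g
      have h := hrx g
      rw [map_smul] at h
      exact (smul_right_injective M hr) h
  have : Module.Free (WittVector p k) (M ⧸ ρ.invariants) := Module.free_of_finite_type_torsion_free' (R := WittVector p k)
  obtain ⟨s, hs⟩ := Module.projective_lifting_property ρ.invariants.mkQ LinearMap.id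
    ρ.invariants.mkQ_surjective
  have hmem : ∀ m : M, ((LinearMap.id : M →ₗ[WittVector p k] M) - s ∘ₗ ρ.invariants.mkQ) m ∈ ρ.invariants := by
    intro m
    refine (Submodule.Quotient.mk_eq_zero ρ.invariants).mp ?_
    have h := LinearMap.congr_fun hs (ρ.invariants.mkQ m)
    simp only [LinearMap.comp_apply, LinearMap.id_apply, Submodule.mkQ_apply] at h
    simp [h]
  obtain ⟨r, hr⟩ : ∃ r : M →ₗ[WittVector p k] ρ.invariants, r ∘ₗ ρ.invariants.subtype = LinearMap.id := by
    refine ⟨LinearMap.codRestrict _ (LinearMap.id - s ∘ₗ ρ.invariants.mkQ) hmem, LinearMap.ext fun x => Subtype.ext ?_⟩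
    have hx : ρ.invariants.mkQ (x : M) = 0 := (Submodule.Quotient.mk_eq_zero _).mpr x.2
    simp only [LinearMap.comp_apply, Submodule.coe_subtype, LinearMap.codRestrict_apply, LinearMap.id_apply,
      LinearMap.sub_apply, hx, map_zero, sub_zero]
  intro a b hab
  have h := congrArg (LinearMap.lTensor (WittVector p k ⧸ Ideal.span {(p : WittVector p k)}) r) hab
  rwa [← LinearMap.lTensor_comp_apply, ← LinearMap.lTensor_comp_apply, hr, LinearMap.lTensor_id] at h

end Groth.Agent.S16358
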