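import Groth.Statements.S16363
import Mathlib
-- import your own Groth.Agent.* helpers here

set_option autoImplicit false
open TensorProduct
universe u
open CategoryTheory Limits
open MovLem

namespace Groth.Agent.S16363

open AlgebraicGeometry CategoryTheory Limits in
/-- an element lying in no minimal prime of `A ⊗ K` stays nonzero at the algebraic points off a nowhere dense set -/
theorem exists_not_isNilpotent {k K A : Type u} [Field k] [Field K] [Algebra k K] [CommRing A] [Algebra k A]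
    [Nontrivial (A ⊗[k] K)] (f : A ⊗[k] K) (hf : ∀ q ∈ minimalPrimes (A ⊗[k] K), f ∉ q) :
    ∃ a : A, ¬ IsNilpotent a ∧ ∀ (kb Ω : Type u) [Field kb] [Algebra k kb] [Algebra.IsAlgebraic k kb]
      [Field Ω] [Algebra k Ω] [Algebra kb Ω] [Algebra K Ω] [IsScalarTower k kb Ω] [IsScalarTower k K Ω]
      (ev : A →+* kb) (χ : A ⊗[k] K →+* Ω),
      (∀ a, χ (a ⊗ₜ 1) = algebraMap kb Ω (ev a)) → (∀ c, χ (1 ⊗ₜ c) = algebraMap K Ω c) →
      ev a ≠ 0 → χ f ≠ 0 := by
  classical
  obtain ⟨s, hs⟩ := exists_isTranscendenceBasis k K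
  let x : s → K := Subtype.val
  let F := IntermediateField.adjoin k (Set.range x)
  haveI : Algebra.IsAlgebraic F K := hs.isAlgebraic_field
  let φ : A ⊗[k] F →ₐ[k] A ⊗[k] K := Algebra.TensorProduct.map (AlgHom.id k A) F.val
  let R := φ.range
  haveI : Algebra.IsIntegral R (A ⊗[k] K) := ⟨fun z => by
    induction z using TensorProduct.induction_on with
    | zero => exact isIntegral_zero
    | add z z' hz hz' => exact hz.add hz'
    | tmul a c =>
      rw [show a ⊗ₜ[k] c = (a ⊗ₜ[k] (1 : K)) * ((1 : A) ⊗ₜ[k] c) by simp]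
      refine IsIntegral.mul (isIntegral_algebraMap (x := (⟨a ⊗ₜ 1, a ⊗ₜ 1, by simp [φ]⟩ : R))) ?_
      obtain ⟨p, hpm, hp⟩ := (Algebra.IsAlgebraic.isAlgebraic (R := F) c).isIntegral
      refine ⟨p.map (φ.rangeRestrict.toRingHom.comp (Algebra.TensorProduct.includeRight : F →ₐ[k] _).toRingHom),
        hpm.map _, ?_⟩
      rw [Polynomial.eval₂_map]
      have h1 := congrArg (Algebra.TensorProduct.includeRight : K →ₐ[k] A ⊗[k] K).toRingHom hp
      rw [Polynomial.hom_eval₂, map_zero] at h1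
      refine (congrArg (fun g => Polynomial.eval₂ g _ p) ?_).trans h1
      refine RingHom.ext fun r => ?_
      show ((φ.rangeRestrict ((1 : A) ⊗ₜ[k] r) : R) : A ⊗[k] K) = (1 : A) ⊗ₜ[k] (r : K)
      simp [φ]⟩
  obtain ⟨c, hcf, hcn⟩ : ∃ c : R, (c : A ⊗[k] K) ∈ Ideal.span {f} ∧ ¬ IsNilpotent c := by
    by_contra! hcon
    obtain ⟨P, hP⟩ := Ideal.nonempty_minimalPrimes (I := (⊥ : Ideal R)) bot_ne_top
    haveI := hP.1.1
    obtain ⟨Q, hQ, hQp, hQP⟩ := Ideal.exists_ideal_over_prime_of_isIntegral P (Ideal.span {f})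
      fun c hc => nilradical_le_prime P (hcon c hc)
    obtain ⟨q, hq, hqQ⟩ := Ideal.exists_minimalPrimes_le (bot_le : ⊥ ≤ Q)
    haveI := hq.1.1
    rcases hqQ.eq_or_lt with rfl | hlt
    · exact hf q hq (hQ (Ideal.mem_span_singleton_self f))
    · have h1 := Ideal.IsIntegral.comap_lt_comap (R := R) hlt
      rw [hQP] at h1
      exact h1.not_ge (hP.2 ⟨Ideal.comap_isPrime _ _, bot_le⟩ h1.le)
  let Θ : MvPolynomial s A →ₐ[A] A ⊗[k] K := MvPolynomial.aeval fun i => (1 : A) ⊗ₜ[k] x i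
  have hΘ : ∀ p : MvPolynomial s k, Θ (MvPolynomial.map (algebraMap k A) p) =
      (1 : A) ⊗ₜ[k] MvPolynomial.aeval x p := fun p => by
    rw [MvPolynomial.aeval_map_algebraMap]
    exact (MvPolynomial.comp_aeval_apply (f := x) (Algebra.TensorProduct.includeRight : K →ₐ[k] A ⊗[k] K) p).symm
  have hden : ∀ z, ∃ (b : MvPolynomial s k) (d : MvPolynomial s A),
      MvPolynomial.aeval x b ≠ 0 ∧ (1 : A) ⊗ₜ[k] MvPolynomial.aeval x b * φ z = Θ d := by
    intro z
    induction z using TensorProduct.induction_on with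
    | zero => exact ⟨1, 0, by simp, by simp⟩
    | add z z' hz hz' =>
      obtain ⟨b, d, hb, hd⟩ := hz
      obtain ⟨b', d', hb', hd'⟩ := hz'
      refine ⟨b * b', MvPolynomial.map (algebraMap k A) b' * d + MvPolynomial.map (algebraMap k A) b * d',
        by rw [map_mul]; exact mul_ne_zero hb hb', ?_⟩
      rw [map_add, map_add, map_mul, map_mul, map_mul, hΘ, hΘ, ← hd, ← hd',
        show (1 : A) ⊗ₜ[k] (MvPolynomial.aeval x b * MvPolynomial.aeval x b') =
          (1 : A) ⊗ₜ[k] MvPolynomial.aeval x b * (1 : A) ⊗ₜ[k] MvPolynomial.aeval x b' by simp]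
      ring
    | tmul a r =>
      obtain ⟨p, q, hpq⟩ := (IntermediateField.mem_adjoin_range_iff k x (r : K)).1 r.2
      by_cases hq : MvPolynomial.aeval x q = 0
      · refine ⟨1, 0, by simp, ?_⟩
        simp [φ, hpq, hq]
      · refine ⟨q, MvPolynomial.C a * MvPolynomial.map (algebraMap k A) p, hq, ?_⟩
        rw [map_mul, hΘ]
        simp [Θ, φ, hpq, mul_div_cancel₀ _ hq]
  obtain ⟨z, hz⟩ := c.2
  obtain ⟨b, d, hb, hd⟩ := hden z
  have hdn : ¬ IsNilpotent d := fun hn => hcn (by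
    have h1 : IsNilpotent ((1 : A) ⊗ₜ[k] MvPolynomial.aeval x b * (c : A ⊗[k] K)) := by
      rw [← hz]; exact hd ▸ hn.map Θ
    have h2 : IsNilpotent (c : A ⊗[k] K) := by
      have hu : IsUnit ((1 : A) ⊗ₜ[k] MvPolynomial.aeval x b) :=
        (isUnit_iff_ne_zero.2 hb).map (Algebra.TensorProduct.includeRight : K →ₐ[k] A ⊗[k] K)
      exact (Commute.all _ _).isNilpotent_mul_left_iff hu.mem_nonZeroDivisors.1 |>.1 h1
    exact (IsNilpotent.map_iff (f := R.val) Subtype.val_injective).1 h2)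
  rw [MvPolynomial.isNilpotent_iff] at hdn
  push Not at hdn
  obtain ⟨μ, hμ⟩ := hdn
  refine ⟨_, hμ, ?_⟩
  intro kb Ω _ _ _ _ _ _ _ _ _ ev χ hA hK hev hχ
  have hind : AlgebraicIndependent kb fun i => algebraMap K Ω (x i) :=
    (hs.1.map' (f := IsScalarTower.toAlgHom k K Ω) (algebraMap K Ω).injective).extendScalars kb
  have h0 : χ (Θ d) = 0 := by
    rw [← hd, map_mul, show φ z = (c : A ⊗[k] K) from hz]
    obtain ⟨w, hw⟩ := Ideal.mem_span_singleton.1 hcf
    rw [hw, map_mul, hχ, zero_mul, mul_zero]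
  have h1 : MvPolynomial.aeval (fun i => algebraMap K Ω (x i)) (MvPolynomial.map ev d) = 0 := by
    rw [← h0, MvPolynomial.aeval_def, MvPolynomial.eval₂_map]
    show _ = χ (MvPolynomial.eval₂ (algebraMap A (A ⊗[k] K)) (fun i => (1 : A) ⊗ₜ[k] x i) d)
    rw [MvPolynomial.eval₂_comp_left]
    congr 1
    · ext a
      simp [hA, Algebra.TensorProduct.algebraMap_apply]
    · funext i
      simp [hK]
  exact hev (by rw [← MvPolynomial.coeff_map, hind.eq_zero_of_aeval_eq_zero _ h1, MvPolynomial.coeff_zero])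

open AlgebraicGeometry CategoryTheory Limits in
/-- a dense open of a Noetherian spectrum contains some `D(f)` with `f` in no minimal prime -/
theorem exists_notMem_minimalPrimes {B : Type u} [CommRing B] [IsNoetherianRing B]
    (O : Set (PrimeSpectrum B)) (hO : IsOpen O) (hd : Dense O) :
    ∃ f : B, (∀ q ∈ minimalPrimes B, f ∉ q) ∧ ∀ p : PrimeSpectrum B, f ∉ p.asIdeal → p ∈ O := by
  classical
  obtain ⟨I, hI⟩ := (PrimeSpectrum.isClosed_iff_zeroLocus_ideal _).1 hO.isClosed_compl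
  let M := (minimalPrimes.finite_of_isNoetherianRing B).toFinset
  have hnot : ∀ q ∈ M, ¬ I ≤ q := by
    intro q hq hIq
    rw [Set.Finite.mem_toFinset] at hq
    haveI := hq.1.1
    let T : Set (PrimeSpectrum B) := ⋃ q' ∈ M.erase q, PrimeSpectrum.zeroLocus (q' : Set B)
    have hT : IsClosed T := isClosed_biUnion_finset fun q' _ => PrimeSpectrum.isClosed_zeroLocus _
    have hsub : O ⊆ T := by
      intro p hp
      obtain ⟨q', hq', hle⟩ := Ideal.exists_minimalPrimes_le (bot_le : ⊥ ≤ p.asIdeal)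
      refine Set.mem_biUnion (Finset.mem_erase.2 ⟨fun he => ?_, by simpa [M] using hq'⟩) hle
      have h1 : p ∈ Oᶜ := hI ▸ (PrimeSpectrum.mem_zeroLocus _ _).2 ((he ▸ hIq : I ≤ q').trans hle)
      exact h1 hp
    have h2 : (⟨q, inferInstance⟩ : PrimeSpectrum B) ∈ T := by
      have h3 := closure_minimal hsub hT
      rw [hd.closure_eq] at h3
      exact h3 (Set.mem_univ _)
    obtain ⟨q', hq', hle⟩ := Set.mem_iUnion₂.1 h2
    rw [Finset.mem_erase, Set.Finite.mem_toFinset] at hq'
    exact hq'.1 (le_antisymm hle (hq.2 ⟨hq'.2.1.1, bot_le⟩ hle))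
  have : ¬ ((I : Set B) ⊆ ⋃ q ∈ (M : Set (Ideal B)), (q : Set B)) := by
    rw [Ideal.subset_union_prime ⊥ ⊥ fun q hq _ _ => ((minimalPrimes.finite_of_isNoetherianRing B).mem_toFinset.1 hq).1.1]
    exact fun ⟨q, hq, hle⟩ => hnot q hq hle
  obtain ⟨f, hfI, hf⟩ := Set.not_subset.1 this
  refine ⟨f, fun q hq hfq => hf (Set.mem_biUnion (by simpa [M] using hq) hfq), fun p hp => ?_⟩
  by_contra hpO
  exact hp ((PrimeSpectrum.mem_zeroLocus _ _).1 (hI ▸ hpO : p ∈ PrimeSpectrum.zeroLocus (I : Set B)) hfI)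

open AlgebraicGeometry in
/-- Let k be a field, X a k-scheme of finite type, K an extension field of k and U' ⊆ X_K = X ×_k Spec K
a dense open subset. There exists a dense open U ⊆ X with the following property: for every
algebraic closure k̄ of k, every field Ω that is simultaneously a k̄-algebra and a K-algebra
compatibly with k, and every k-morphism x : Spec k̄ → X whose image point lies in U, every
K-morphism y : Spec Ω → X_K whose composite with the projection X_K → X is the composite Spec Ω →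
Spec k̄ → X has image point in U'. (In words: the k̄-points of U, viewed as Ω-points of X_K, lie in
U'.) -/
theorem result
    {k K : Type u} [Field k] [Field K] [Algebra k K]
    (X : Scheme.{u}) (f : X ⟶ Spec (CommRingCat.of k)) [LocallyOfFiniteType f] [QuasiCompact f]
    (U' : (pullback f (Spec.map (CommRingCat.ofHom (algebraMap k K)))).Opens)
    (hU' : Dense (U' : Set ↥(pullback f (Spec.map (CommRingCat.ofHom (algebraMap k K)))))) :
    ∃ U : X.Opens, Dense (U : Set ↥X) ∧
      ∀ (kb Ω : Type u) [Field kb] [Algebra k kb] [IsAlgClosure k kb]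
        [Field Ω] [Algebra k Ω] [Algebra kb Ω] [Algebra K Ω] [IsScalarTower k kb Ω] [IsScalarTower k K Ω]
        (x : Spec (CommRingCat.of kb) ⟶ X),
        x ≫ f = Spec.map (CommRingCat.ofHom (algebraMap k kb)) →
        (∀ t : ↥(Spec (CommRingCat.of kb)), x.base t ∈ U) →
        ∀ (y : Spec (CommRingCat.of Ω) ⟶ pullback f (Spec.map (CommRingCat.ofHom (algebraMap k K)))),
          y ≫ pullback.fst f (Spec.map (CommRingCat.ofHom (algebraMap k K))) =
              Spec.map (CommRingCat.ofHom (algebraMap kb Ω)) ≫ x →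
          y ≫ pullback.snd f (Spec.map (CommRingCat.ofHom (algebraMap k K))) =
              Spec.map (CommRingCat.ofHom (algebraMap K Ω)) →
          ∀ t : ↥(Spec (CommRingCat.of Ω)), y.base t ∈ U' := by
  classical
  let s := Spec.map (CommRingCat.ofHom (algebraMap k K))
  let Good : X.Opens → Prop := fun O =>
      ∀ (kb Ω : Type u) [Field kb] [Algebra k kb] [IsAlgClosure k kb]
        [Field Ω] [Algebra k Ω] [Algebra kb Ω] [Algebra K Ω] [IsScalarTower k kb Ω] [IsScalarTower k K Ω]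
        (x : Spec (CommRingCat.of kb) ⟶ X),
        x ≫ f = Spec.map (CommRingCat.ofHom (algebraMap k kb)) →
        (∀ t : ↥(Spec (CommRingCat.of kb)), x.base t ∈ O) →
        ∀ (y : Spec (CommRingCat.of Ω) ⟶ pullback f s),
          y ≫ pullback.fst f s = Spec.map (CommRingCat.ofHom (algebraMap kb Ω)) ≫ x →
          y ≫ pullback.snd f s = Spec.map (CommRingCat.ofHom (algebraMap K Ω)) →
          ∀ t : ↥(Spec (CommRingCat.of Ω)), y.base t ∈ U'
  suffices H : ∀ V : X.Opens, (V : Set X).Nonempty → ∃ O : X.Opens, Good O ∧ ((O : Set X) ∩ V).Nonempty by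
    refine ⟨⨆ O : {O // Good O}, O.1, dense_iff_inter_open.2 fun V hV hne => ?_, ?_⟩
    · obtain ⟨O, hO, p, hp, hp'⟩ := H ⟨V, hV⟩ hne
      exact ⟨p, hp', TopologicalSpace.Opens.mem_iSup.2 ⟨⟨O, hO⟩, hp⟩⟩
    · intro kb Ω _ _ _ _ _ _ _ _ _ x hx hxU y hy₁ hy₂ t
      obtain ⟨⟨O, hO⟩, hxO⟩ := TopologicalSpace.Opens.mem_iSup.1 (hxU default)
      exact hO kb Ω x hx (fun t' => Subsingleton.elim default t' ▸ hxO) y hy₁ hy₂ t
  intro V ⟨p, hp⟩
  obtain ⟨_, ⟨W, hW, rfl⟩, hpW, hWV⟩ := X.isBasis_affineOpens.exists_subset_of_mem_open hp V.2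
  let A := Γ(X, W)
  let j : Spec A ⟶ X := hW.fromSpec
  let φA := Spec.preimage (j ≫ f)
  have hφA : Spec.map φA = j ≫ f := Spec.map_preimage _
  letI : Algebra k A := φA.hom.toAlgebra
  have hft : φA.hom.FiniteType := by
    rw [← HasRingHomProperty.Spec_iff (P := @LocallyOfFiniteType), hφA]
    infer_instance
  haveI : Algebra.FiniteType k A := hft
  haveI : Nonempty W := ⟨⟨p, hpW⟩⟩
  haveI : Nontrivial (A ⊗[k] K) :=
    (Algebra.TensorProduct.includeLeft_injective (S := k) (A := A) (algebraMap k K).injective).nontrivial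
  haveI : IsNoetherianRing (A ⊗[k] K) := by
    haveI : IsNoetherianRing (K ⊗[k] A) := Algebra.FiniteType.isNoetherianRing K _
    exact isNoetherianRing_of_ringEquiv (K ⊗[k] A) (Algebra.TensorProduct.comm k K A).toRingEquiv
  have hsq : Spec.map (CommRingCat.ofHom (algebraMap k A)) ≫ 𝟙 _ = j ≫ f := by
    rw [Category.comp_id]; exact hφA
  let g : Spec (CommRingCat.of (A ⊗[k] K)) ⟶ pullback f s :=
    (pullbackSpecIso k A K).inv ≫ pullback.map _ _ f s j (𝟙 _) (𝟙 _) hsq (by simp [s])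
  obtain ⟨f₀, hf₀, hf₀U⟩ := exists_notMem_minimalPrimes (g.base ⁻¹' (U' : Set ↥(pullback f s)))
    (U'.2.preimage g.continuous) (hU'.preimage g.isOpenEmbedding.isOpenMap)
  obtain ⟨a, ha, hgood⟩ := exists_not_isNilpotent f₀ hf₀
  refine ⟨j ''ᵁ PrimeSpectrum.basicOpen a, ?_, ?_⟩
  · intro kb Ω _ _ _ _ _ _ _ _ _ x hx hxO y hy₁ hy₂ t
    have hrange : Set.range x.base ⊆ Set.range j.base := by
      rintro _ ⟨t', rfl⟩
      obtain ⟨q, -, hq⟩ := hxO t'
      exact ⟨q, hq⟩
    let x' := IsOpenImmersion.lift j x hrange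
    have hx' : x' ≫ j = x := IsOpenImmersion.lift_fac _ _ _
    obtain ⟨ev, hev⟩ : ∃ ev : A ⟶ CommRingCat.of kb, Spec.map ev = x' := ⟨_, Spec.map_preimage _⟩
    have hevk : CommRingCat.ofHom (algebraMap k A) ≫ ev = CommRingCat.ofHom (algebraMap k kb) := by
      apply Spec.map_injective
      rw [Spec.map_comp, hev, ← hx, ← hx', Category.assoc]
      exact congrArg (x' ≫ ·) hφA
    let y' : Spec (CommRingCat.of Ω) ⟶ pullback (Spec.map (CommRingCat.ofHom (algebraMap k A))) s :=
      pullback.lift (Spec.map (CommRingCat.ofHom (algebraMap kb Ω)) ≫ x')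
        (Spec.map (CommRingCat.ofHom (algebraMap K Ω))) (by
          rw [← hev, ← Spec.map_comp, ← Spec.map_comp, ← Spec.map_comp, ← Category.assoc, hevk,
            ← CommRingCat.ofHom_comp, ← CommRingCat.ofHom_comp, ← IsScalarTower.algebraMap_eq,
            ← IsScalarTower.algebraMap_eq])
    obtain ⟨χ, hχ⟩ : ∃ χ, Spec.map χ = y' ≫ (pullbackSpecIso k A K).hom := ⟨_, Spec.map_preimage _⟩
    have hA : ∀ r : A, χ.hom (r ⊗ₜ 1) = algebraMap kb Ω (ev.hom r) := by
      intro r
      have h : CommRingCat.ofHom (Algebra.TensorProduct.includeLeftRingHom : A →+* A ⊗[k] K) ≫ χ =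
          ev ≫ CommRingCat.ofHom (algebraMap kb Ω) := by
        apply Spec.map_injective
        rw [Spec.map_comp, hχ, Category.assoc, pullbackSpecIso_hom_fst, pullback.lift_fst, Spec.map_comp, hev]
      exact congr($h r)
    have hK : ∀ c : K, χ.hom (1 ⊗ₜ c) = algebraMap K Ω c := by
      intro c
      have h : CommRingCat.ofHom (RingHomClass.toRingHom (Algebra.TensorProduct.includeRight : K →ₐ[k] A ⊗[k] K)) ≫ χ =
          CommRingCat.ofHom (algebraMap K Ω) := by
        apply Spec.map_injective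
        rw [Spec.map_comp, hχ, Category.assoc, pullbackSpecIso_hom_snd, pullback.lift_snd]
      exact congr($h c)
    have hyg : y = Spec.map χ ≫ g := by
      rw [hχ]
      simp only [g, Category.assoc, Iso.hom_inv_id_assoc]
      apply pullback.hom_ext
      · rw [hy₁, Category.assoc, pullback.lift_fst, ← Category.assoc, pullback.lift_fst, Category.assoc, hx']
      · rw [hy₂, Category.assoc, pullback.lift_snd, ← Category.assoc, pullback.lift_snd, Category.comp_id]
    rw [hyg]
    apply hf₀U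
    intro hmem
    let t₀ : Spec (CommRingCat.of kb) := default
    obtain ⟨q, hq, hqx⟩ := hxO t₀
    have hqe : q = x'.base t₀ := j.isOpenEmbedding.injective (hqx.trans (by rw [← hx']; rfl))
    refine hgood kb Ω ev.hom χ.hom hA hK (fun h0 => hq ?_) ?_
    · rw [hqe, ← hev]
      show ev.hom a ∈ t₀.asIdeal
      rw [h0]; exact zero_mem _
    · have : t.asIdeal = ⊥ := (Ideal.eq_bot_or_top _).resolve_right t.2.ne_top
      exact (Ideal.mem_bot).1 (this ▸ hmem)
  · obtain ⟨q, hq⟩ : ∃ q : PrimeSpectrum A, a ∉ q.asIdeal := by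
      by_contra! hcon
      exact ha (nilpotent_iff_mem_prime.2 fun J hJ => hcon ⟨J, hJ⟩)
    refine ⟨j.base q, ⟨q, hq, rfl⟩, hWV ?_⟩
    rw [← hW.range_fromSpec]
    exact ⟨q, rfl⟩

end Groth.Agent.S16363
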