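import Groth.Statements.S16386
import Groth.Agent.AVCatLib.Power
import Groth.Agent.AVSplitLib.Retraction
import Groth.Agent.AVSubLib.FppfFactor
import Groth.Agent.Lib.AVMulN
import Groth.Agent.GrpSchLib.HomFlat
import Groth.Agent.S16586

set_option autoImplicit false
set_option maxHeartbeats 1000000
set_option linter.style.haveILetI false
universe u
open CategoryTheory MonoidalCategory CartesianMonoidalCategory MonObj GrpObj AlgebraicGeometry
open AbVar

namespace Groth.Agent.S16386

open Groth.Agent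

/-- (c₁) ⇒ (a₁): let k be a finite field with q elements and fix a polynomial P with integer
coefficients. Work with abelian varieties over k (proper, geometrically integral commutative group
schemes over k) together with their q-Frobenius endomorphism π (the identity on points and the q-th
power map on sections; a homomorphism) such that P(π) = 0 in the endomorphism ring; for P the
product of the minimal polynomials of a finite set w of Weil q-numbers these are exactly the abelian
varieties with Weil support in w. Let A be such an abelian variety and suppose that every such Z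
admits finitely many homomorphisms ψ_1, …, ψ_n : Z → A which are jointly monomorphic (two T-valued
points of Z over k with the same image under every ψ_i are equal; equivalently (ψ_i) : Z → A^n is an
injective homomorphism). Then the functor X ↦ Hom(X, A), with values in left End(A)-modules (End(A)
acting by postcomposition), is fully faithful on these abelian varieties: for such X and Y, two
homomorphisms f, g : X → Y inducing the same map Hom(Y, A) → Hom(X, A) are equal, and every additive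
End(A)-linear map Hom(Y, A) → Hom(X, A) is precomposition with some homomorphism X → Y. -/
theorem result (k : Type u) [Field k] [Finite k]
    (P : Polynomial ℤ) (A : Over (Spec (CommRingCat.of k))) [GrpObj A] [IsCommMonObj A] [IsProper A.hom] [GeometricallyIntegral A.hom]
    (πA : A ⟶ A) [IsMonHom πA] (hπAb : πA.left.base = 𝟙 _)
    (hπAle : ∀ U : A.left.Opens, U ≤ πA.left ⁻¹ᵁ U)
    (hπAapp : ∀ (U : A.left.Opens) (s : Γ(A.left, U)), (πA.left.appLE U U (hπAle U)).hom s = s ^ Nat.card k)
    (hPA : Polynomial.eval₂ (Int.castRingHom (EndAV.End A)) (EndAV.End.of πA) P = 0)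
    (hcog : ∀ (Z : Over (Spec (CommRingCat.of k))) [GrpObj Z] [IsCommMonObj Z] [IsProper Z.hom] [GeometricallyIntegral Z.hom]
      (πZ : Z ⟶ Z) [IsMonHom πZ] (hπZb : πZ.left.base = 𝟙 _) (hπZle : ∀ U : Z.left.Opens, U ≤ πZ.left ⁻¹ᵁ U)
      (hπZapp : ∀ (U : Z.left.Opens) (s : Γ(Z.left, U)), (πZ.left.appLE U U (hπZle U)).hom s = s ^ Nat.card k)
      (hPZ : Polynomial.eval₂ (Int.castRingHom (EndAV.End Z)) (EndAV.End.of πZ) P = 0),
      ∃ (n : ℕ) (ψ : Fin n → EndAV.Hom Z A), ∀ (T : Over (Spec (CommRingCat.of k))) (x y : T ⟶ Z),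
        (∀ i, x ≫ (ψ i).toHom = y ≫ (ψ i).toHom) → x = y)
    (X Y : Over (Spec (CommRingCat.of k))) [GrpObj X] [IsCommMonObj X] [IsProper X.hom] [GeometricallyIntegral X.hom]
    [GrpObj Y] [IsCommMonObj Y] [IsProper Y.hom] [GeometricallyIntegral Y.hom]
    (πX : X ⟶ X) [IsMonHom πX] (hπXb : πX.left.base = 𝟙 _)
    (hπXle : ∀ U : X.left.Opens, U ≤ πX.left ⁻¹ᵁ U)
    (hπXapp : ∀ (U : X.left.Opens) (s : Γ(X.left, U)), (πX.left.appLE U U (hπXle U)).hom s = s ^ Nat.card k)
    (hPX : Polynomial.eval₂ (Int.castRingHom (EndAV.End X)) (EndAV.End.of πX) P = 0)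
    (πY : Y ⟶ Y) [IsMonHom πY] (hπYb : πY.left.base = 𝟙 _)
    (hπYle : ∀ U : Y.left.Opens, U ≤ πY.left ⁻¹ᵁ U)
    (hπYapp : ∀ (U : Y.left.Opens) (s : Γ(Y.left, U)), (πY.left.appLE U U (hπYle U)).hom s = s ^ Nat.card k)
    (hPY : Polynomial.eval₂ (Int.castRingHom (EndAV.End Y)) (EndAV.End.of πY) P = 0) :
    (∀ f g : EndAV.Hom X Y, (∀ φ : EndAV.Hom Y A, f ≫ φ = g ≫ φ) → f = g) ∧
      (∀ g : EndAV.Hom Y A →+ EndAV.Hom X A,
        (∀ (φ : EndAV.Hom Y A) (s : EndAV.Hom A A), g (φ ≫ s) = g φ ≫ s) →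
          ∃ f : EndAV.Hom X Y, ∀ φ : EndAV.Hom Y A, g φ = f ≫ φ) := by
  classical
  constructor
  · intro f g h
    obtain ⟨n, ψ, hψ⟩ := hcog Y πY hπYb hπYle hπYapp hPY
    exact EndAV.Hom.ext (hψ X _ _ fun i => congrArg EndAV.Hom.toHom (h (ψ i)))
  intro g hg
  obtain ⟨gY, hgY⟩ := TorsPtsLib.exists_dim Y
  obtain ⟨gA, hgA⟩ := TorsPtsLib.exists_dim A
  haveI : Module.Finite ℤ (EndAV.Hom Y A) := (S16586.result k Y A gY gA hgY hgA).2.1
  obtain ⟨n, ψ, hψ⟩ := Module.Finite.exists_fin (R := ℤ) (M := EndAV.Hom Y A)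
  have hspan : ∀ {S : AddSubgroup (EndAV.Hom Y A)}, (∀ j, ψ j ∈ S) → ∀ φ, φ ∈ S := by
    intro S hS φ
    have h1 : Submodule.span ℤ (Set.range ψ) ≤ S.toIntSubmodule :=
      Submodule.span_le.2 (by rintro _ ⟨j, rfl⟩; exact hS j)
    rw [hψ] at h1
    exact h1 (x := φ) Submodule.mem_top
  obtain ⟨B, _, _, _, _, p, hp, hlift, hdec⟩ := AVCatLib.exists_power (A := A) n
  obtain ⟨i, hi⟩ := hlift Y ψ
  obtain ⟨h, hh⟩ := hlift X fun j => g (ψ j)
  have hkey : ∀ u : EndAV.Hom B A, i ≫ u = 0 → h ≫ u = 0 := fun u hu => by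
    obtain ⟨s, rfl⟩ := hdec u
    simp only [Preadditive.comp_sum, ← Category.assoc, hi, hh] at hu ⊢
    have h1 := congrArg g hu
    rw [map_zero, map_sum] at h1
    simpa only [hg] using h1
  haveI hmono : Mono i.toHom.left := by
    refine ⟨fun {W} a b hab => ?_⟩
    have hw : a ≫ Y.hom = b ≫ Y.hom := by rw [← Over.w i.toHom, ← Category.assoc, hab, Category.assoc]
    let x : Over.mk (a ≫ Y.hom) ⟶ Y := Over.homMk a rfl
    let y : Over.mk (a ≫ Y.hom) ⟶ Y := Over.homMk b hw.symm
    have hxy : x ≫ i.toHom = y ≫ i.toHom := Over.OverMorphism.ext hab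
    obtain ⟨m, ψ0, hψ0⟩ := hcog Y πY hπYb hπYle hπYapp hPY
    refine congrArg CommaMorphism.left (hψ0 _ x y fun l => ?_)
    let S : AddSubgroup (EndAV.Hom Y A) :=
      { carrier := {φ | x ≫ φ.toHom = y ≫ φ.toHom}
        zero_mem' := by
          show x ≫ (1 : Y ⟶ A) = y ≫ (1 : Y ⟶ A)
          rw [MonObj.comp_one, MonObj.comp_one]
        add_mem' := fun {a b} ha hb => by
          show x ≫ (a.toHom * b.toHom) = y ≫ (a.toHom * b.toHom)
          rw [MonObj.comp_mul, MonObj.comp_mul, ha, hb]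
        neg_mem' := fun {a} ha => by
          show x ≫ (a.toHom)⁻¹ = y ≫ (a.toHom)⁻¹
          rw [GrpObj.comp_inv, GrpObj.comp_inv, ha] }
    refine hspan (S := S) (fun j => ?_) (ψ0 l)
    show x ≫ (ψ j).toHom = y ≫ (ψ j).toHom
    rw [← hi j, EndAV.Hom.toHom_comp, ← Category.assoc, hxy, Category.assoc]
  haveI : IsClosedImmersion i.toHom.left := by
    haveI : IsProper (i.toHom.left ≫ B.hom) := by rw [Over.w]; infer_instance
    haveI : IsProper i.toHom.left := IsProper.of_comp i.toHom.left B.hom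
    exact (IsClosedImmersion.iff_isProper_and_mono ..).2 ⟨inferInstance, hmono⟩
  obtain ⟨r, _, N, hN, hr⟩ := AVSplitLib.exists_retraction i.toHom
  have hr' : i ≫ EndAV.Hom.of r = N • 𝟙 (CommGrp.mk Y) := EndAV.Hom.ext (by
    rw [EndAV.Hom.toHom_nsmul]; exact hr)
  let f0 : EndAV.Hom X Y := h ≫ EndAV.Hom.of r
  have hf0 : f0 ≫ i = N • h := by
    refine EndAV.Hom.ext (hp X _ _ fun j => congrArg EndAV.Hom.toHom (?_ : (f0 ≫ i) ≫ p j = (N • h) ≫ p j))
    have h1 := hkey (N • p j - EndAV.Hom.of r ≫ i ≫ p j) (by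
      rw [Preadditive.comp_sub, Preadditive.comp_nsmul, ← Category.assoc i, hr', Preadditive.nsmul_comp,
        Category.id_comp, sub_self])
    rw [Preadditive.comp_sub, sub_eq_zero, Preadditive.comp_nsmul] at h1
    rw [Preadditive.nsmul_comp, h1]
    simp only [f0, Category.assoc]
  let m : EndAV.Hom X X := N • 𝟙 (CommGrp.mk X)
  have hm : m.toHom = 𝟙 X ^ N := EndAV.Hom.toHom_nsmul N (𝟙 (CommGrp.mk X))
  haveI : Mono i.toHom := Over.mono_of_mono_left _
  haveI : Surjective m.toHom.left := by rw [hm]; exact AVMulN.surjective_pow N hN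
  haveI : IsIntegral X.left := GeometricallyIntegral.isIntegral_of_subsingleton X.hom
  haveI : QuasiCompact m.toHom.left := by
    haveI : QuasiCompact (m.toHom.left ≫ X.hom) := by rw [Over.w]; infer_instance
    exact QuasiCompact.of_comp m.toHom.left X.hom
  haveI : Flat m.toHom.left := GrpSchLib.flat_of_surjective_hom m.toHom
  haveI : Epi m.toHom := by
    haveI : Epi m.toHom.left := Flat.epi_of_flat_of_surjective m.toHom.left
    exact (Over.forget _).epi_of_epi_map (inferInstanceAs (Epi m.toHom.left))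
  obtain ⟨f, ⟨_, hf⟩, -⟩ := AVSubLib.existsUnique_factor m.toHom f0.toHom fun T a ha => by
    rw [hm, MonObj.comp_pow, Category.comp_id] at ha
    rw [← cancel_mono i.toHom, Category.assoc, ← EndAV.Hom.toHom_comp, hf0, EndAV.Hom.toHom_nsmul,
      MonObj.comp_pow, ← MonObj.pow_comp, ha, MonObj.one_comp, MonObj.one_comp]
  have hfi : f ≫ i.toHom = h.toHom := by
    rw [← cancel_epi m.toHom, ← Category.assoc, hf, ← EndAV.Hom.toHom_comp, hf0, EndAV.Hom.toHom_nsmul, hm,
      MonObj.pow_comp, Category.id_comp]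
  refine ⟨EndAV.Hom.of f, fun φ => ?_⟩
  let S : AddSubgroup (EndAV.Hom Y A) :=
    { carrier := {φ | g φ = EndAV.Hom.of f ≫ φ}
      zero_mem' := by
        show g 0 = _
        rw [map_zero, Limits.comp_zero]
      add_mem' := fun {a b} ha hb => by
        show g (a + b) = _
        rw [map_add, Preadditive.comp_add, ha, hb]
      neg_mem' := fun {a} ha => by
        show g (-a) = _
        rw [map_neg, Preadditive.comp_neg, ha] }
  refine hspan (S := S) (fun j => EndAV.Hom.ext ?_) φ
  rw [← hh j]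
  conv_rhs => rw [← hi j]
  show h.toHom ≫ (p j).toHom = f ≫ i.toHom ≫ (p j).toHom
  rw [← Category.assoc, hfi]

end Groth.Agent.S16386
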