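import Groth.Statements.S16389
import Groth.Agent.AVSplitLib.Retraction
import Groth.Agent.S16586

set_option autoImplicit false
set_option maxHeartbeats 1000000
set_option linter.style.haveILetI false
universe u
open CategoryTheory MonoidalCategory CartesianMonoidalCategory MonObj GrpObj AlgebraicGeometry
open AbVar

namespace Groth.Agent.S16389

open Groth.Agent

/-- (b) ⇒ (c₂): let k be a finite field with q elements and fix a polynomial P with integer
coefficients. Work with abelian varieties over k (proper, geometrically integral commutative group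
schemes over k) together with their q-Frobenius endomorphism π (the identity on points, the q-th
power map on sections; a homomorphism) such that P(π) = 0 in the endomorphism ring (for suitable P:
the abelian varieties with Weil support in a given finite set of Weil q-numbers), and let A be one
of them. Assume (b₁): for every such Z and every finite closed subgroup scheme H ⊆ Z, a T-valued
point of Z over k that is sent to the unit by every homomorphism Z → A killing H factors through H
(H is the common kernel of the homomorphisms vanishing on it); and (b₂): for every such Z and every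
additive subgroup M of Hom(Z, A) of finite index which is stable under postcomposition with
endomorphisms of A (an End(A)-submodule), a homomorphism f : Z → A belongs to M as soon as it kills
the common kernel of M, i.e. every T-valued point of Z sent to the unit by all members of M is sent
to the unit by f. Then (c₂) holds: for such X and Y and a homomorphism φ : X → Y which is a closed
immersion, every homomorphism X → A extends along φ to a homomorphism Y → A. -/
theorem result
    (k : Type u) [Field k] [Finite k]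
    (P : Polynomial ℤ) (A : Over (Spec (CommRingCat.of k))) [GrpObj A] [IsCommMonObj A] [IsProper A.hom] [GeometricallyIntegral A.hom]
    (πA : A ⟶ A) [IsMonHom πA] (hπAb : πA.left.base = 𝟙 _)
    (hπAle : ∀ U : A.left.Opens, U ≤ πA.left ⁻¹ᵁ U)
    (hπAapp : ∀ (U : A.left.Opens) (s : Γ(A.left, U)), (πA.left.appLE U U (hπAle U)).hom s = s ^ Nat.card k)
    (hPA : Polynomial.eval₂ (Int.castRingHom (EndAV.End A)) (EndAV.End.of πA) P = 0)
    (hb1 : ∀ (Z : Over (Spec (CommRingCat.of k))) [GrpObj Z] [IsCommMonObj Z] [IsProper Z.hom] [GeometricallyIntegral Z.hom]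
      (πZ : Z ⟶ Z) [IsMonHom πZ] (hπZb : πZ.left.base = 𝟙 _) (hπZle : ∀ U : Z.left.Opens, U ≤ πZ.left ⁻¹ᵁ U)
      (hπZapp : ∀ (U : Z.left.Opens) (s : Γ(Z.left, U)), (πZ.left.appLE U U (hπZle U)).hom s = s ^ Nat.card k)
      (hPZ : Polynomial.eval₂ (Int.castRingHom (EndAV.End Z)) (EndAV.End.of πZ) P = 0)
      (H : Over (Spec (CommRingCat.of k))) [GrpObj H] [IsFinite H.hom] (i : H ⟶ Z) [IsMonHom i] [IsClosedImmersion i.left]
      (T : Over (Spec (CommRingCat.of k))) (x : T ⟶ Z), (∀ r : EndAV.Hom Z A, i ≫ r.toHom = 1 → x ≫ r.toHom = 1) → ∃ y : T ⟶ H, y ≫ i = x)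
    (hrec : ∀ (Z : Over (Spec (CommRingCat.of k))) [GrpObj Z] [IsCommMonObj Z] [IsProper Z.hom] [GeometricallyIntegral Z.hom]
      (πZ : Z ⟶ Z) [IsMonHom πZ] (hπZb : πZ.left.base = 𝟙 _) (hπZle : ∀ U : Z.left.Opens, U ≤ πZ.left ⁻¹ᵁ U)
      (hπZapp : ∀ (U : Z.left.Opens) (s : Γ(Z.left, U)), (πZ.left.appLE U U (hπZle U)).hom s = s ^ Nat.card k)
      (hPZ : Polynomial.eval₂ (Int.castRingHom (EndAV.End Z)) (EndAV.End.of πZ) P = 0)
      (M : AddSubgroup (EndAV.Hom Z A)), M.FiniteIndex → (∀ r ∈ M, ∀ s : EndAV.Hom A A, r ≫ s ∈ M) →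
      ∀ f : EndAV.Hom Z A,
        (∀ (T : Over (Spec (CommRingCat.of k))) (x : T ⟶ Z), (∀ r ∈ M, x ≫ EndAV.Hom.toHom r = 1) →
          x ≫ f.toHom = 1) → f ∈ M)
    (X Y : Over (Spec (CommRingCat.of k))) [GrpObj X] [IsCommMonObj X] [IsProper X.hom] [GeometricallyIntegral X.hom]
    [GrpObj Y] [IsCommMonObj Y] [IsProper Y.hom] [GeometricallyIntegral Y.hom]
    (πX : X ⟶ X) [IsMonHom πX] (hπXb : πX.left.base = 𝟙 _)
    (hπXle : ∀ U : X.left.Opens, U ≤ πX.left ⁻¹ᵁ U)
    (hπXapp : ∀ (U : X.left.Opens) (s : Γ(X.left, U)), (πX.left.appLE U U (hπXle U)).hom s = s ^ Nat.card k)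
    (hPX : Polynomial.eval₂ (Int.castRingHom (EndAV.End X)) (EndAV.End.of πX) P = 0)
    (πY : Y ⟶ Y) [IsMonHom πY] (hπYb : πY.left.base = 𝟙 _)
    (hπYle : ∀ U : Y.left.Opens, U ≤ πY.left ⁻¹ᵁ U)
    (hπYapp : ∀ (U : Y.left.Opens) (s : Γ(Y.left, U)), (πY.left.appLE U U (hπYle U)).hom s = s ^ Nat.card k)
    (hPY : Polynomial.eval₂ (Int.castRingHom (EndAV.End Y)) (EndAV.End.of πY) P = 0)
    (φ : EndAV.Hom X Y) [IsClosedImmersion φ.toHom.left] (f : EndAV.Hom X A) :
    ∃ g : EndAV.Hom Y A, φ ≫ g = f := by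
  obtain ⟨h, _, N, hN, hNe⟩ := AVSplitLib.exists_retraction φ.toHom
  obtain ⟨gX, hgX⟩ := TorsPtsLib.exists_dim X
  obtain ⟨gA, hgA⟩ := TorsPtsLib.exists_dim A
  haveI : Module.Finite ℤ (EndAV.Hom X A) := (S16586.result k X A gX gA hgX hgA).2.1
  let ρ : EndAV.Hom Y A →+ EndAV.Hom X A :=
    { toFun := fun g => φ ≫ g
      map_zero' := Limits.comp_zero
      map_add' := fun a b => Preadditive.comp_add _ _ _ _ a b }
  have hfin : ρ.range.FiniteIndex := by
    have h1 : ((nsmulAddMonoidHom N : EndAV.Hom X A →+ EndAV.Hom X A)).range ≤ ρ.range := by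
      rintro _ ⟨g, rfl⟩
      refine ⟨EndAV.Hom.of h ≫ g, EndAV.Hom.ext ?_⟩
      show φ.toHom ≫ h ≫ g.toHom = _
      rw [← Category.assoc, hNe, nsmulAddMonoidHom_apply, EndAV.Hom.toHom_nsmul,
        MonObj.pow_comp, Category.id_comp]
    haveI : ((nsmulAddMonoidHom N : EndAV.Hom X A →+ EndAV.Hom X A)).range.FiniteIndex := by
      haveI : AddGroup.FG (EndAV.Hom X A) :=
        Module.Finite.iff_addGroup_fg.1 ‹_›
      exact AddSubgroup.finiteIndex_range_nsmulAddMonoidHom_of_fg _ hN.ne'
    exact AddSubgroup.finiteIndex_of_le h1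
  obtain ⟨g, hg⟩ := hrec X πX hπXb hπXle hπXapp hPX ρ.range hfin
    (by rintro _ ⟨g, rfl⟩ s; exact ⟨g ≫ s, (Category.assoc φ g s).symm⟩) f (fun T x hx => by
      haveI : IsFinite (𝟙_ (Over (Spec (CommRingCat.of k)))).hom := by
        show IsFinite (𝟙 _); infer_instance
      haveI : IsClosedImmersion η[Y].left := by
        haveI : IsClosedImmersion (η[Y].left ≫ Y.hom) := by
          rw [Over.w η[Y]]
          show IsClosedImmersion (𝟙 _)
          infer_instance
        exact IsClosedImmersion.of_comp η[Y].left Y.hom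
      obtain ⟨y, hy⟩ := hb1 Y πY hπYb hπYle hπYapp hPY (𝟙_ _) η[Y] T (x ≫ φ.toHom) fun r _ => by
        rw [Category.assoc]
        exact hx (φ ≫ r) ⟨r, rfl⟩
      haveI : Mono φ.toHom := Over.mono_of_mono_left _
      have h2 : x ≫ φ.toHom = (1 : T ⟶ X) ≫ φ.toHom := by
        rw [MonObj.one_comp, ← hy, Subsingleton.elim y (toUnit T)]
        rfl
      rw [(cancel_mono φ.toHom).1 h2, MonObj.one_comp])
  exact ⟨g, hg⟩

end Groth.Agent.S16389
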