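import Groth.Statements.S16391
import Groth.Agent.AVCatLib.Power
import Groth.Agent.AVSplitLib.QuasiSection
import Groth.Agent.GrpSchLib.HomFlat
import Groth.Agent.S16586

set_option autoImplicit false
set_option maxHeartbeats 1000000
set_option linter.style.haveILetI false
universe u
open CategoryTheory MonoidalCategory CartesianMonoidalCategory MonObj GrpObj AlgebraicGeometry
open AbVar

namespace Groth.Agent.S16391

open Groth.Agent

/-- The category is closed under powers. -/
theorem power_eq {k : Type u} [Field k] [Finite k] (P : Polynomial ℤ) {A B : Over (Spec (CommRingCat.of k))}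
    [GrpObj A] [IsCommMonObj A] [GrpObj B] [IsCommMonObj B] {n : ℕ} (p : Fin n → EndAV.Hom B A)
    (hp : ∀ (T : Over (Spec (CommRingCat.of k))) (x y : T ⟶ B),
      (∀ i, x ≫ (p i).toHom = y ≫ (p i).toHom) → x = y)
    (πA : A ⟶ A) [IsMonHom πA] (ha : WeilLib.IsPowMap πA.left (Nat.card k))
    (hPA : Polynomial.eval₂ (Int.castRingHom (EndAV.End A)) (EndAV.End.of πA) P = 0)
    (πB : B ⟶ B) [IsMonHom πB] (hb : WeilLib.IsPowMap πB.left (Nat.card k)) :
    Polynomial.eval₂ (Int.castRingHom (EndAV.End B)) (EndAV.End.of πB) P = 0 := by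
  refine EndAV.End.ext (hp B _ _ fun i => ?_)
  rw [AVCatLib.eval_comm (p i).toHom (a := EndAV.End.of πB) (b := EndAV.End.of πA)
      (AVCatLib.powMap_comm (p i).toHom hb ha), hPA,
    EndAV.End.toHom_zero, EndAV.End.toHom_zero, MonObj.one_comp, MonObj.comp_one]

/-- A surjective homomorphism of abelian varieties is an epimorphism. -/
theorem epi_of_surjective {k : Type u} [Field k] {A B : Over (Spec (CommRingCat.of k))}
    [GrpObj A] [GrpObj B] [IsProper A.hom] [IsProper B.hom] [GeometricallyIntegral B.hom]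
    (q : A ⟶ B) [IsMonHom q] [Surjective q.left] : Epi q := by
  haveI : IsIntegral B.left := GeometricallyIntegral.isIntegral_of_subsingleton B.hom
  haveI : QuasiCompact (q.left ≫ B.hom) := by rw [Over.w]; infer_instance
  haveI : QuasiCompact q.left := QuasiCompact.of_comp q.left B.hom
  haveI : Flat q.left := GrpSchLib.flat_of_surjective_hom q
  haveI : Epi q.left := Flat.epi_of_flat_of_surjective q.left
  exact (Over.forget _).epi_of_epi_map (inferInstanceAs (Epi q.left))


/-- (c) ⇒ (a₂): let k be a finite field with q elements and fix a polynomial P with integer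
coefficients. Work with abelian varieties over k (proper, geometrically integral commutative group
schemes over k) together with their q-Frobenius endomorphism π (the identity on points, the q-th
power map on sections; a homomorphism) such that P(π) = 0 in the endomorphism ring (for suitable P:
the abelian varieties with Weil support in a given finite set of Weil q-numbers); let A be one of
them and S = End(A) (product = composition). Assume that A is an injective cogenerator: (c₁) every
such Z admits finitely many homomorphisms Z → A which are jointly monomorphic on T-valued points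
over k, and (c₂) for such X, Y and every homomorphism X → Y which is a closed immersion, the
restriction map Hom(Y, A) → Hom(X, A) is surjective. Then the functor X ↦ Hom(X, A) is essentially
surjective onto left S-modules that are free of finite rank over ℤ: for every such module M there
are such an abelian variety X (with its Frobenius and P(π_X) = 0) and an additive bijection M ≅
Hom(X, A) carrying the action of s ∈ S to postcomposition with s. -/
theorem result
    (k : Type u) [Field k] [Finite k]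
    (P : Polynomial ℤ) (A : Over (Spec (CommRingCat.of k))) [GrpObj A] [IsCommMonObj A] [IsProper A.hom] [GeometricallyIntegral A.hom]
    (πA : A ⟶ A) [IsMonHom πA] (hπAb : πA.left.base = 𝟙 _)
    (hπAle : ∀ U : A.left.Opens, U ≤ πA.left ⁻¹ᵁ U)
    (hπAapp : ∀ (U : A.left.Opens) (s : Γ(A.left, U)), (πA.left.appLE U U (hπAle U)).hom s = s ^ Nat.card k)
    (hPA : Polynomial.eval₂ (Int.castRingHom (EndAV.End A)) (EndAV.End.of πA) P = 0)
    (hcog : ∀ (Z : Over (Spec (CommRingCat.of k))) [GrpObj Z] [IsCommMonObj Z] [IsProper Z.hom] [GeometricallyIntegral Z.hom]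
      (πZ : Z ⟶ Z) [IsMonHom πZ] (hπZb : πZ.left.base = 𝟙 _) (hπZle : ∀ U : Z.left.Opens, U ≤ πZ.left ⁻¹ᵁ U)
      (hπZapp : ∀ (U : Z.left.Opens) (s : Γ(Z.left, U)), (πZ.left.appLE U U (hπZle U)).hom s = s ^ Nat.card k)
      (hPZ : Polynomial.eval₂ (Int.castRingHom (EndAV.End Z)) (EndAV.End.of πZ) P = 0),
      ∃ (n : ℕ) (ψ : Fin n → EndAV.Hom Z A), ∀ (T : Over (Spec (CommRingCat.of k))) (x y : T ⟶ Z),
        (∀ i, x ≫ (ψ i).toHom = y ≫ (ψ i).toHom) → x = y)
    (hext : ∀ (X Y : Over (Spec (CommRingCat.of k))) [GrpObj X] [IsCommMonObj X] [IsProper X.hom] [GeometricallyIntegral X.hom]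
      [GrpObj Y] [IsCommMonObj Y] [IsProper Y.hom] [GeometricallyIntegral Y.hom]
      (πX : X ⟶ X) [IsMonHom πX] (hπXb : πX.left.base = 𝟙 _) (hπXle : ∀ U : X.left.Opens, U ≤ πX.left ⁻¹ᵁ U)
      (hπXapp : ∀ (U : X.left.Opens) (s : Γ(X.left, U)), (πX.left.appLE U U (hπXle U)).hom s = s ^ Nat.card k)
      (hPX : Polynomial.eval₂ (Int.castRingHom (EndAV.End X)) (EndAV.End.of πX) P = 0)
      (πY : Y ⟶ Y) [IsMonHom πY] (hπYb : πY.left.base = 𝟙 _) (hπYle : ∀ U : Y.left.Opens, U ≤ πY.left ⁻¹ᵁ U)
      (hπYapp : ∀ (U : Y.left.Opens) (s : Γ(Y.left, U)), (πY.left.appLE U U (hπYle U)).hom s = s ^ Nat.card k)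
      (hPY : Polynomial.eval₂ (Int.castRingHom (EndAV.End Y)) (EndAV.End.of πY) P = 0)
      (φ : EndAV.Hom X Y) [IsClosedImmersion φ.toHom.left] (f : EndAV.Hom X A), ∃ g : EndAV.Hom Y A, φ ≫ g = f)
    (M : Type u) [AddCommGroup M] [Module (EndAV.End A) M] [Module.Finite ℤ M] [Module.Free ℤ M] :
    ∃ (X : Over (Spec (CommRingCat.of k))) (_ : GrpObj X) (_ : IsCommMonObj X) (_ : IsProper X.hom)
      (_ : GeometricallyIntegral X.hom) (πX : X ⟶ X) (_ : IsMonHom πX) (_ : πX.left.base = 𝟙 _)
      (hπXle : ∀ U : X.left.Opens, U ≤ πX.left ⁻¹ᵁ U)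
      (_ : ∀ (U : X.left.Opens) (s : Γ(X.left, U)), (πX.left.appLE U U (hπXle U)).hom s = s ^ Nat.card k)
      (_ : Polynomial.eval₂ (Int.castRingHom (EndAV.End X)) (EndAV.End.of πX) P = 0)
      (e : M ≃+ EndAV.Hom X A), ∀ (s : EndAV.End A) (m : M), (e (s • m)).toHom = (e m).toHom ≫ s.toHom := by
  classical
  have hAp := AVCatLib.powMap_of_data hπAb hπAle hπAapp
  obtain ⟨n, gen, hgen⟩ := Module.Finite.exists_fin (R := ℤ) (M := M)
  obtain ⟨B, _, _, _, _, p, hp, hlift, hdec⟩ := AVCatLib.exists_power (A := A) n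
  choose emb hι using fun i => hlift A (fun j => if j = i then 𝟙 (CommGrp.mk A) else 0)
  let cf : Fin n → EndAV.Hom B A → EndAV.End A := fun i u => emb i ≫ u
  let Φ : EndAV.Hom B A →+ M :=
    { toFun := fun u => ∑ i, cf i u • gen i
      map_zero' := Finset.sum_eq_zero fun i _ => by
        rw [show cf i 0 = 0 from Limits.comp_zero,
          zero_smul]
      map_add' := fun u v => by
        rw [← Finset.sum_add_distrib]
        refine Finset.sum_congr rfl fun i _ => ?_
        rw [← add_smul]
        congr 1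
        exact Preadditive.comp_add _ _ _ _ _ _ }
  have hΦ : ∀ (u : EndAV.Hom B A) (s : EndAV.End A), Φ (u ≫ s) = s • Φ u := fun u s => by
    show ∑ i : Fin n, cf i (u ≫ s) • gen i = s • ∑ i : Fin n, cf i u • gen i
    rw [Finset.smul_sum]
    refine Finset.sum_congr rfl fun i _ => ?_
    rw [← mul_smul]
    congr 1
  have hsurj : Function.Surjective Φ := by
    have h1 : Submodule.span ℤ (Set.range gen) ≤ Φ.range.toIntSubmodule := by
      rw [Submodule.span_le]
      rintro _ ⟨j, rfl⟩
      refine ⟨p j, ?_⟩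
      show ∑ i : Fin n, cf i (p j) • gen i = gen j
      rw [Finset.sum_eq_single j]
      · rw [show cf j (p j) = 1 from (hι j j).trans (if_pos rfl), one_smul]
      · intro i _ hij
        rw [show cf i (p j) = 0 from (hι i j).trans (if_neg hij.symm), zero_smul]
      · intro h
        exact absurd (Finset.mem_univ j) h
    rw [hgen] at h1
    exact fun x => h1 (x := x) Submodule.mem_top
  obtain ⟨gB, hgB⟩ := TorsPtsLib.exists_dim B
  obtain ⟨gA, hgA⟩ := TorsPtsLib.exists_dim A
  haveI : Module.Finite ℤ (EndAV.Hom B A) := (S16586.result k B A gB gA hgB hgA).2.1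
  obtain ⟨m, r, hr⟩ := Module.Finite.exists_fin (R := ℤ) (M := Φ.ker.toIntSubmodule)
  obtain ⟨C, _, _, _, _, pC, hpC, hliftC, hdecC⟩ := AVCatLib.exists_power (A := A) m
  obtain ⟨Ψ, hΨ⟩ := hliftC B fun l => (r l : EndAV.Hom B A)
  obtain ⟨Q, _, jQ, q, _, _, hjQ, hQp, hQg, hqs, hqj⟩ := AVSplitLib.exists_image Ψ.toHom
  haveI := hjQ; haveI := hQp; haveI := hQg; haveI := hqs
  haveI : IsCommMonObj Q := isCommMonObj_of_isProper_of_geometricallyIntegral Q
  obtain ⟨s, _, N, hN, hs⟩ := AVSplitLib.exists_quasiSection q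
  let E : EndAV.Hom B B := N • 𝟙 (CommGrp.mk B) - EndAV.Hom.of q ≫ EndAV.Hom.of s
  obtain ⟨X, _, jX, eX, _, _, hjX, hXp, hXg, heXs, heXj⟩ := AVSplitLib.exists_image E.toHom
  haveI := hjX; haveI := hXp; haveI := hXg; haveI := heXs
  haveI : IsCommMonObj X := isCommMonObj_of_isProper_of_geometricallyIntegral X
  haveI : Epi q := epi_of_surjective q
  haveI : Epi eX := epi_of_surjective eX
  obtain ⟨πB, _, hBp⟩ := AVFrobLib.exists_frobenius B
  have hBP := power_eq P p hp πA hAp hPA πB hBp
  obtain ⟨πC, _, hCp⟩ := AVFrobLib.exists_frobenius C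
  have hCP := power_eq P pC hpC πA hAp hPA πC hCp
  haveI : Epi (EndAV.Hom.of q).toHom := inferInstanceAs (Epi q)
  haveI : Epi (EndAV.Hom.of eX).toHom := inferInstanceAs (Epi eX)
  obtain ⟨πQ, _, hQb, hQle, hQapp, hQP⟩ :=
    AVCatLib.exists_frobenius_of_epi P (EndAV.Hom.of q) (EndAV.End.of πB) hBp hBP
  obtain ⟨πX, _, hXb, hXle, hXapp, hXP⟩ :=
    AVCatLib.exists_frobenius_of_epi P (EndAV.Hom.of eX) (EndAV.End.of πB) hBp hBP
  let ρ : EndAV.Hom B A →+ EndAV.Hom X A :=
    { toFun := fun u => EndAV.Hom.of jX ≫ u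
      map_zero' := Limits.comp_zero
      map_add' := fun a b => Preadditive.comp_add _ _ _ _ a b }
  haveI : IsClosedImmersion (EndAV.Hom.of jX).toHom.left := hjX
  haveI : IsClosedImmersion (EndAV.Hom.of jQ).toHom.left := hjQ
  have hρ : Function.Surjective ρ := fun f =>
    hext X B πX hXb hXle hXapp hXP πB (AVCatLib.base_eq_id hBp) hBp.le (fun U t => hBp.app U _ t) hBP
      (EndAV.Hom.of jX) f
  have hΨ' : EndAV.Hom.of q ≫ EndAV.Hom.of jQ = Ψ := EndAV.Hom.ext hqj
  have hs' : EndAV.Hom.of s ≫ EndAV.Hom.of q = N • 𝟙 (CommGrp.mk Q) := EndAV.Hom.ext (by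
    rw [EndAV.Hom.toHom_nsmul]; exact hs)
  have hE : E = EndAV.Hom.of eX ≫ EndAV.Hom.of jX := EndAV.Hom.ext heXj.symm
  have hker : ∀ u, ρ u = 0 ↔ Φ u = 0 := fun u => by
    constructor
    · intro h0
      have h1 : N • u = EndAV.Hom.of q ≫ EndAV.Hom.of s ≫ u := by
        have h2 : E ≫ u = 0 := by rw [hE, Category.assoc]; exact (congrArg _ h0).trans Limits.comp_zero
        rw [Preadditive.sub_comp, Preadditive.nsmul_comp, Category.id_comp, Category.assoc, sub_eq_zero] at h2
        exact h2
      obtain ⟨w, hw⟩ := hext Q C πQ hQb hQle hQapp hQP πC (AVCatLib.base_eq_id hCp) hCp.le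
        (fun U t => hCp.app U _ t) hCP (EndAV.Hom.of jQ) (EndAV.Hom.of s ≫ u)
      obtain ⟨t, rfl⟩ := hdecC w
      rw [← hw, ← Category.assoc, hΨ', Preadditive.comp_sum] at h1
      have h2 : N • Φ u = 0 := by
        rw [← map_nsmul, h1, map_sum]
        refine Finset.sum_eq_zero fun l _ => ?_
        rw [← Category.assoc, hΨ l, hΦ, show Φ (r l : EndAV.Hom B A) = 0 from (r l).2, smul_zero]
      rw [← natCast_zsmul] at h2
      exact (smul_eq_zero.1 h2).resolve_left (Int.natCast_ne_zero.2 hN.ne')
    · intro h0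
      have h1 : EndAV.Hom.of q ≫ EndAV.Hom.of s ≫ u = N • u := by
        let V : Submodule ℤ Φ.ker.toIntSubmodule :=
          (AddSubgroup.toIntSubmodule
            ({ carrier := {v | EndAV.Hom.of q ≫ EndAV.Hom.of s ≫ v = N • v}
               zero_mem' := by
                show _ = _
                rw [Limits.comp_zero, Limits.comp_zero, smul_zero]
               add_mem' := fun {a b} ha hb => by
                show _ = _
                rw [Preadditive.comp_add, Preadditive.comp_add, ha, hb, smul_add]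
               neg_mem' := fun {a} ha => by
                show _ = _
                rw [Preadditive.comp_neg, Preadditive.comp_neg, ha, smul_neg] } :
              AddSubgroup (EndAV.Hom B A))).comap Φ.ker.toIntSubmodule.subtype
        have hV : Submodule.span ℤ (Set.range r) ≤ V := by
          rw [Submodule.span_le]
          rintro _ ⟨l, rfl⟩
          show EndAV.Hom.of q ≫ EndAV.Hom.of s ≫ (r l : EndAV.Hom B A) = N • (r l : EndAV.Hom B A)
          rw [← hΨ l, ← hΨ']
          simp only [Category.assoc]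
          rw [← Category.assoc (EndAV.Hom.of s), hs', Preadditive.nsmul_comp, Category.id_comp,
            Preadditive.comp_nsmul]
        rw [hr] at hV
        exact hV (x := ⟨u, h0⟩) Submodule.mem_top
      have h2 : E ≫ u = 0 := by
        rw [Preadditive.sub_comp, Preadditive.nsmul_comp, Category.id_comp, Category.assoc, h1, sub_self]
      rw [hE, Category.assoc] at h2
      refine EndAV.Hom.ext ((cancel_epi eX).1 ?_)
      refine (congrArg EndAV.Hom.toHom h2).trans ?_
      rw [EndAV.Hom.toHom_zero, EndAV.Hom.toHom_zero, MonObj.comp_one]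
  let L : M →+ EndAV.Hom X A := Φ.liftOfSurjective hsurj ⟨ρ, fun u hu => (hker u).2 hu⟩
  have hL : ∀ u, L (Φ u) = ρ u := fun u => Φ.liftOfRightInverse_comp_apply _ _ _ u
  have hbij : Function.Bijective L := by
    refine ⟨(injective_iff_map_eq_zero L).2 fun x hx => ?_, fun f => ?_⟩
    · obtain ⟨u, rfl⟩ := hsurj x
      exact (hker u).1 ((hL u).symm.trans hx)
    · obtain ⟨u, rfl⟩ := hρ f
      exact ⟨Φ u, hL u⟩
  refine ⟨X, inferInstance, inferInstance, inferInstance, inferInstance, πX, inferInstance, hXb, hXle, hXapp, hXP,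
    AddEquiv.ofBijective L hbij, fun t x => ?_⟩
  obtain ⟨u, rfl⟩ := hsurj x
  show (L (t • Φ u)).toHom = (L (Φ u)).toHom ≫ t.toHom
  rw [← hΦ, hL, hL]
  exact congrArg EndAV.Hom.toHom (Category.assoc (EndAV.Hom.of jX) u t).symm

end Groth.Agent.S16391
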