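import Groth.Statements.S16393
import Groth.Agent.AVCatLib.Sep
import Groth.Agent.AVQuotLib.Quotient
import Groth.Agent.S7782
import Groth.Agent.AVFrobLib.Verschiebung

set_option autoImplicit false
set_option maxHeartbeats 1000000
set_option linter.style.haveILetI false
universe u
open CategoryTheory MonoidalCategory CartesianMonoidalCategory MonObj GrpObj AlgebraicGeometry
open AbVar

namespace Groth.Agent.S16393

open Groth.Agent

/-- (a₁) ⇒ (b₁): let k be a finite field with q elements and fix a polynomial P with integer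
coefficients. Work with abelian varieties over k (proper, geometrically integral commutative group
schemes over k) with their q-Frobenius endomorphism π (identity on points, q-th power on sections; a
homomorphism) such that P(π) = 0 in the endomorphism ring (for suitable P: the abelian varieties
with Weil support in a given finite set of Weil q-numbers); let A be one of them. Assume (a₁): the
functor X ↦ Hom(X, A), with values in left End(A)-modules (End(A) acting by postcomposition), is
fully faithful on these abelian varieties — for such X, Y, two homomorphisms X → Y agreeing after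
composition with every homomorphism Y → A are equal, and every additive End(A)-linear map Hom(Y, A)
→ Hom(X, A) is precomposition with a homomorphism X → Y. Then (b₁): for such X and every finite
closed subgroup scheme H ⊆ X, H equals the common kernel of the homomorphisms X → A vanishing on H;
on points: a T-valued point of X over k which is sent to the unit by every homomorphism X → A
killing H factors through H. -/
theorem result
    (k : Type u) [Field k] [Finite k]
    (P : Polynomial ℤ) (A : Over (Spec (CommRingCat.of k))) [GrpObj A] [IsCommMonObj A] [IsProper A.hom] [GeometricallyIntegral A.hom]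
    (πA : A ⟶ A) [IsMonHom πA] (hπAb : πA.left.base = 𝟙 _) (hπAle : ∀ U : A.left.Opens, U ≤ πA.left ⁻¹ᵁ U)
      (hπAapp : ∀ (U : A.left.Opens) (s : Γ(A.left, U)), (πA.left.appLE U U (hπAle U)).hom s = s ^ Nat.card k)
    (hPA : Polynomial.eval₂ (Int.castRingHom (EndAV.End A)) (EndAV.End.of πA) P = 0)
    (hff : ∀ (X Y : Over (Spec (CommRingCat.of k))) [GrpObj X] [IsCommMonObj X] [IsProper X.hom] [GeometricallyIntegral X.hom]
      [GrpObj Y] [IsCommMonObj Y] [IsProper Y.hom] [GeometricallyIntegral Y.hom]
      (πX : X ⟶ X) [IsMonHom πX] (hπXb : πX.left.base = 𝟙 _) (hπXle : ∀ U : X.left.Opens, U ≤ πX.left ⁻¹ᵁ U)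
      (hπXapp : ∀ (U : X.left.Opens) (s : Γ(X.left, U)), (πX.left.appLE U U (hπXle U)).hom s = s ^ Nat.card k)
      (hPX : Polynomial.eval₂ (Int.castRingHom (EndAV.End X)) (EndAV.End.of πX) P = 0)
      (πY : Y ⟶ Y) [IsMonHom πY] (hπYb : πY.left.base = 𝟙 _) (hπYle : ∀ U : Y.left.Opens, U ≤ πY.left ⁻¹ᵁ U)
      (hπYapp : ∀ (U : Y.left.Opens) (s : Γ(Y.left, U)), (πY.left.appLE U U (hπYle U)).hom s = s ^ Nat.card k)
      (hPY : Polynomial.eval₂ (Int.castRingHom (EndAV.End Y)) (EndAV.End.of πY) P = 0),
      (∀ f g : EndAV.Hom X Y, (∀ φ : EndAV.Hom Y A, f ≫ φ = g ≫ φ) → f = g) ∧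
        (∀ g : EndAV.Hom Y A →+ EndAV.Hom X A,
          (∀ (φ : EndAV.Hom Y A) (s : EndAV.Hom A A), g (φ ≫ s) = g φ ≫ s) →
            ∃ f : EndAV.Hom X Y, ∀ φ : EndAV.Hom Y A, g φ = f ≫ φ))
    (X : Over (Spec (CommRingCat.of k))) [GrpObj X] [IsCommMonObj X] [IsProper X.hom] [GeometricallyIntegral X.hom]
    (πX : X ⟶ X) [IsMonHom πX] (hπXb : πX.left.base = 𝟙 _) (hπXle : ∀ U : X.left.Opens, U ≤ πX.left ⁻¹ᵁ U)
      (hπXapp : ∀ (U : X.left.Opens) (s : Γ(X.left, U)), (πX.left.appLE U U (hπXle U)).hom s = s ^ Nat.card k)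
    (hPX : Polynomial.eval₂ (Int.castRingHom (EndAV.End X)) (EndAV.End.of πX) P = 0)
    (H : Over (Spec (CommRingCat.of k))) [GrpObj H] [IsFinite H.hom] (i : H ⟶ X) [IsMonHom i] [IsClosedImmersion i.left]
    (T : Over (Spec (CommRingCat.of k))) (x : T ⟶ X)
    (hx : ∀ f : EndAV.Hom X A, i ≫ f.toHom = 1 → x ≫ f.toHom = 1) :
    ∃ y : T ⟶ H, y ≫ i = x := by
  haveI : Mono i := Over.mono_of_mono_left i
  haveI : IsCommMonObj H := AVFrobLib.isCommMonObj_of_mono i
  haveI : Flat H.hom := AssLib.flat_over_field H.hom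
  haveI : LocallyOfFinitePresentation H.hom := inferInstance
  let pt : Spec (CommRingCat.of k) := IsLocalRing.closedPoint k
  have hr : ∀ s, Scheme.Hom.finrank H.hom s = H.hom.finrank pt := fun s => by rw [Subsingleton.elim s pt]
  have hn : 1 ≤ H.hom.finrank pt := by
    have h1 := H.hom.one_le_finrank_map ((η[H] : 𝟙_ _ ⟶ H).left pt)
    rwa [hr] at h1
  have hkill : i ≫ (𝟙 X ^ H.hom.finrank pt : X ⟶ X) = 1 := by
    rw [MonObj.comp_pow, Category.comp_id, ← Category.id_comp i, ← MonObj.pow_comp,
      S7782.result H _ hr H (𝟙 H), MonObj.one_comp]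
  obtain ⟨C, _, q, hCp, hCg, _, _, _, _, hiq, hqk⟩ := AVQuotLib.exists_quotient i _ hn hkill
  haveI := hCp; haveI := hCg
  haveI : IsCommMonObj C := isCommMonObj_of_isProper_of_geometricallyIntegral C
  haveI : Epi (EndAV.Hom.of q).toHom := by
    haveI : Epi q.left := Flat.epi_of_flat_of_surjective q.left
    exact (Over.forget _).epi_of_epi_map (inferInstanceAs (Epi q.left))
  obtain ⟨πC, _, hCb, hCle, hCapp, hCP⟩ := AVCatLib.exists_frobenius_of_epi P (EndAV.Hom.of q) (EndAV.End.of πX)
    (AVCatLib.powMap_of_data hπXb hπXle hπXapp) hPX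
  refine hqk T x (AVCatLib.separates k P A hff C πC hCb hCle hCapp hCP T (x ≫ q) fun f => ?_)
  rw [Category.assoc]
  refine hx (EndAV.Hom.of q ≫ f) ?_
  rw [EndAV.Hom.toHom_comp, EndAV.Hom.toHom_of, ← Category.assoc, hiq, MonObj.one_comp]

end Groth.Agent.S16393
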