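import Groth.Statements.S16395
import Groth.Agent.AVSubLib.FppfFactor
import Groth.Agent.Lib.AVMulN
import Groth.Agent.GrpSchLib.HomFlat
import Groth.Agent.S16586

set_option autoImplicit false
set_option maxHeartbeats 1000000
set_option linter.style.haveILetI false
universe u
open CategoryTheory MonoidalCategory CartesianMonoidalCategory MonObj GrpObj AlgebraicGeometry
open AbVar

namespace Groth.Agent.S16395

open Groth.Agent

/-- (a) ⇒ (b₂): let k be a finite field with q elements and fix a polynomial P with integer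
coefficients. Work with abelian varieties over k (proper, geometrically integral commutative group
schemes over k) with their q-Frobenius endomorphism π (identity on points, q-th power on sections; a
homomorphism) such that P(π) = 0 in the endomorphism ring (for suitable P: the abelian varieties
with Weil support in a given finite set of Weil q-numbers); let A be one of them and S = End(A)
(product = composition), acting on each Hom(X, A) by postcomposition. Assume (a): the functor X ↦
Hom(X, A) is an anti-equivalence from these abelian varieties onto left S-modules free of finite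
rank over ℤ — (a₁) for such X, Y, homomorphisms X → Y agreeing after composition with every
homomorphism Y → A are equal and every additive S-linear map Hom(Y, A) → Hom(X, A) is precomposition
with a homomorphism X → Y; (a₂) every left S-module whose additive group is free of finite rank over
ℤ is additively and S-linearly isomorphic to Hom(Y, A) for some such Y. Then (b₂): for every such X
and every additive subgroup M ⊆ Hom(X, A) of finite index stable under postcomposition with
endomorphisms of A, a homomorphism f : X → A lies in M as soon as it kills the common kernel of M,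
i.e. every T-valued point of X over k sent to the unit by all members of M is sent to the unit by f. -/
theorem result
    (k : Type u) [Field k] [Finite k]
    (P : Polynomial ℤ) (A : Over (Spec (CommRingCat.of k))) [GrpObj A] [IsCommMonObj A] [IsProper A.hom] [GeometricallyIntegral A.hom]
    (πA : A ⟶ A) [IsMonHom πA] (hπAb : πA.left.base = 𝟙 _) (hπAle : ∀ U : A.left.Opens, U ≤ πA.left ⁻¹ᵁ U)
      (hπAapp : ∀ (U : A.left.Opens) (s : Γ(A.left, U)), (πA.left.appLE U U (hπAle U)).hom s = s ^ Nat.card k)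
    (hPA : Polynomial.eval₂ (Int.castRingHom (EndAV.End A)) (EndAV.End.of πA) P = 0)
    (hff : ∀ (X Y : Over (Spec (CommRingCat.of k))) [GrpObj X] [IsCommMonObj X] [IsProper X.hom] [GeometricallyIntegral X.hom]
      [GrpObj Y] [IsCommMonObj Y] [IsProper Y.hom] [GeometricallyIntegral Y.hom]
      (πX : X ⟶ X) [IsMonHom πX] (hπXb : πX.left.base = 𝟙 _) (hπXle : ∀ U : X.left.Opens, U ≤ πX.left ⁻¹ᵁ U)
      (hπXapp : ∀ (U : X.left.Opens) (s : Γ(X.left, U)), (πX.left.appLE U U (hπXle U)).hom s = s ^ Nat.card k)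
      (hPX : Polynomial.eval₂ (Int.castRingHom (EndAV.End X)) (EndAV.End.of πX) P = 0)
      (πY : Y ⟶ Y) [IsMonHom πY] (hπYb : πY.left.base = 𝟙 _) (hπYle : ∀ U : Y.left.Opens, U ≤ πY.left ⁻¹ᵁ U)
      (hπYapp : ∀ (U : Y.left.Opens) (s : Γ(Y.left, U)), (πY.left.appLE U U (hπYle U)).hom s = s ^ Nat.card k)
      (hPY : Polynomial.eval₂ (Int.castRingHom (EndAV.End Y)) (EndAV.End.of πY) P = 0),
      (∀ f g : EndAV.Hom X Y, (∀ φ : EndAV.Hom Y A, f ≫ φ = g ≫ φ) → f = g) ∧
        (∀ g : EndAV.Hom Y A →+ EndAV.Hom X A,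
          (∀ (φ : EndAV.Hom Y A) (s : EndAV.Hom A A), g (φ ≫ s) = g φ ≫ s) →
            ∃ f : EndAV.Hom X Y, ∀ φ : EndAV.Hom Y A, g φ = f ≫ φ))
    (hes : ∀ (M : Type u) [AddCommGroup M] [Module (EndAV.End A) M] [Module.Finite ℤ M] [Module.Free ℤ M],
      ∃ (Y : Over (Spec (CommRingCat.of k))) (_ : GrpObj Y) (_ : IsCommMonObj Y) (_ : IsProper Y.hom)
        (_ : GeometricallyIntegral Y.hom) (πY : Y ⟶ Y) (_ : IsMonHom πY) (_ : πY.left.base = 𝟙 _)
        (hπYle : ∀ U : Y.left.Opens, U ≤ πY.left ⁻¹ᵁ U)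
        (_ : ∀ (U : Y.left.Opens) (s : Γ(Y.left, U)), (πY.left.appLE U U (hπYle U)).hom s = s ^ Nat.card k)
        (_ : Polynomial.eval₂ (Int.castRingHom (EndAV.End Y)) (EndAV.End.of πY) P = 0)
        (e : M ≃+ EndAV.Hom Y A), ∀ (s : EndAV.End A) (m : M), (e (s • m)).toHom = (e m).toHom ≫ s.toHom)
    (X : Over (Spec (CommRingCat.of k))) [GrpObj X] [IsCommMonObj X] [IsProper X.hom] [GeometricallyIntegral X.hom]
    (πX : X ⟶ X) [IsMonHom πX] (hπXb : πX.left.base = 𝟙 _) (hπXle : ∀ U : X.left.Opens, U ≤ πX.left ⁻¹ᵁ U)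
      (hπXapp : ∀ (U : X.left.Opens) (s : Γ(X.left, U)), (πX.left.appLE U U (hπXle U)).hom s = s ^ Nat.card k)
    (hPX : Polynomial.eval₂ (Int.castRingHom (EndAV.End X)) (EndAV.End.of πX) P = 0)
    (M : AddSubgroup (EndAV.Hom X A)) (hM : M.FiniteIndex) (hMS : ∀ r ∈ M, ∀ s : EndAV.Hom A A, r ≫ s ∈ M)
    (f : EndAV.Hom X A)
    (hf : ∀ (T : Over (Spec (CommRingCat.of k))) (x : T ⟶ X), (∀ r ∈ M, x ≫ EndAV.Hom.toHom r = 1) → x ≫ f.toHom = 1) :
    f ∈ M := by
  obtain ⟨gX, hgX⟩ := TorsPtsLib.exists_dim X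
  obtain ⟨gA, hgA⟩ := TorsPtsLib.exists_dim A
  obtain ⟨hfree, hfinX, -⟩ := S16586.result k X A gX gA hgX hgA
  haveI := hfree
  haveI := hfinX
  letI : Module (EndAV.End A) M :=
    { smul := fun s m => ⟨(m : EndAV.Hom X A) ≫ s, hMS _ m.2 s⟩
      one_smul := fun m => Subtype.ext (Category.comp_id (m : EndAV.Hom X A))
      mul_smul := fun s t m => Subtype.ext (Category.assoc (m : EndAV.Hom X A) t s).symm
      smul_zero := fun s => Subtype.ext Limits.zero_comp
      smul_add := fun s a b => Subtype.ext (Preadditive.add_comp _ _ _ _ _ _)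
      add_smul := fun s t m => Subtype.ext (Preadditive.comp_add _ _ _ _ _ _)
      zero_smul := fun m => Subtype.ext Limits.comp_zero }
  haveI : Module.Finite ℤ M := inferInstanceAs (Module.Finite ℤ M.toIntSubmodule)
  haveI : Module.Free ℤ M := inferInstanceAs (Module.Free ℤ M.toIntSubmodule)
  obtain ⟨Y, _, _, _, _, πY, _, hYb, hYle, hYapp, hYP, e, he⟩ := hes M
  have he' : ∀ (s : EndAV.End A) (m : M), e (s • m) = e m ≫ s := fun s m => EndAV.Hom.ext (he s m)
  obtain ⟨φ, hφ⟩ := (hff X Y πX hπXb hπXle hπXapp hPX πY hYb hYle hYapp hYP).2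
    (M.subtype.comp e.symm.toAddMonoidHom) fun r s => by
      have h0 : ∀ t : EndAV.End A, e.symm (r ≫ t) = t • e.symm r := fun t => e.injective (by
        rw [e.apply_symm_apply, he', e.apply_symm_apply])
      exact congrArg Subtype.val (h0 s)
  let n := M.index
  have hn : 1 ≤ n := Nat.one_le_iff_ne_zero.2 hM.index_ne_zero
  have hnM : ∀ g : EndAV.Hom X A, n • g ∈ M := fun g => M.nsmul_index_mem g
  let G2 : EndAV.Hom X A →+ EndAV.Hom Y A :=
    e.toAddMonoidHom.comp ((nsmulAddMonoidHom n : EndAV.Hom X A →+ EndAV.Hom X A).codRestrict M hnM)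
  obtain ⟨ψ, hψ⟩ := (hff Y X πY hYb hYle hYapp hYP πX hπXb hπXle hπXapp hPX).2 G2 fun r s => by
      have h1 : ∀ t : EndAV.End A, (⟨n • (r ≫ t), hnM _⟩ : M) = t • (⟨n • r, hnM r⟩ : M) :=
        fun t => Subtype.ext (Preadditive.nsmul_comp r t n).symm
      show e ⟨n • (r ≫ s), hnM _⟩ = e ⟨n • r, hnM r⟩ ≫ s
      exact (congrArg e (h1 s)).trans (he' _ _)
  have hψφ : ψ ≫ φ = n • 𝟙 (CommGrp.mk Y) :=
    (hff Y Y πY hYb hYle hYapp hYP πY hYb hYle hYapp hYP).1 _ _ fun r => by
      rw [Category.assoc, ← hφ r, ← hψ, Preadditive.nsmul_comp, Category.id_comp]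
      show e ⟨n • ((e.symm r : M) : EndAV.Hom X A), _⟩ = n • r
      rw [show (⟨n • ((e.symm r : M) : EndAV.Hom X A), hnM _⟩ : M) = n • e.symm r from Subtype.ext rfl,
        map_nsmul, e.apply_symm_apply]
  haveI : Surjective φ.toHom.left := by
    haveI : Surjective (ψ.toHom.left ≫ φ.toHom.left) := by
      rw [← Over.comp_left, ← EndAV.Hom.toHom_comp, hψφ, EndAV.Hom.toHom_nsmul, EndAV.Hom.toHom_id]
      exact AVMulN.surjective_pow n hn
    exact Surjective.of_comp ψ.toHom.left φ.toHom.left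
  haveI : IsIntegral Y.left := GeometricallyIntegral.isIntegral_of_subsingleton Y.hom
  haveI : QuasiCompact φ.toHom.left := by
    haveI : QuasiCompact (φ.toHom.left ≫ Y.hom) := by rw [Over.w]; infer_instance
    exact QuasiCompact.of_comp φ.toHom.left Y.hom
  haveI : Flat φ.toHom.left := GrpSchLib.flat_of_surjective_hom φ.toHom
  obtain ⟨g, ⟨_, hg⟩, -⟩ := AVSubLib.existsUnique_factor φ.toHom f.toHom fun T a ha => hf T a fun r hr => by
    have h1 : φ ≫ e ⟨r, hr⟩ = r := by
      rw [← hφ]
      show ((e.symm (e ⟨r, hr⟩) : M) : EndAV.Hom X A) = r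
      rw [e.symm_apply_apply]
    rw [← h1, EndAV.Hom.toHom_comp, ← Category.assoc, ha, MonObj.one_comp]
  have hfg : f = φ ≫ EndAV.Hom.of g := EndAV.Hom.ext hg.symm
  rw [hfg, ← hφ]
  exact (e.symm _).2

end Groth.Agent.S16395
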