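import Groth.Statements.S16402
import Groth.Agent.H1Staircase.Basic

set_option autoImplicit false
open SymBasis

namespace Groth.Agent.S16402

/-- For n ≥ 2, the polynomial ring ℤ[t_1, …, t_n] is a free module of rank n! over ℤ[c_1, …, c_n] acting
through c_i ↦ e_i(t), the i-th elementary symmetric polynomial in the t_j, and the monomials
t_1^{d_1} ⋯ t_n^{d_n} with 0 ≤ d_i ≤ n − i form a basis: every polynomial is in exactly one way a
sum Σ_d f(p_d) · t^d with p_d ∈ ℤ[c_1, …, c_n], f the substitution c_i ↦ e_i(t). The published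
statement is phrased for the Chow ring of the classifying stack of the diagonal torus as a module
over that of the classifying stack of GL_n, identified with ℤ[t_1, …, t_n] ⊇ ℤ[c_1, …, c_n] in this
way. -/
theorem result (n : ℕ) (hn : 2 ≤ n) :
    Function.Bijective (fun p : (Π i : Fin n, Fin (n - (i : ℕ))) → MvPolynomial (Fin n) ℤ =>
      ∑ d : (Π i : Fin n, Fin (n - (i : ℕ))),
        (MvPolynomial.aeval (fun i : Fin n => MvPolynomial.esymm (Fin n) ℤ ((i : ℕ) + 1))) (p d) *
          ∏ i : Fin n, MvPolynomial.X i ^ ((d i : ℕ))) := by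
  classical
  let P := MvPolynomial (Fin n) ℤ
  let e : P →+* P := (MvPolynomial.aeval (fun i : Fin n => MvPolynomial.esymm (Fin n) ℤ ((i : ℕ) + 1)) : P →ₐ[ℤ] P).toRingHom
  let I : Ideal (MvPolynomial (Fin n) P) :=
    Ideal.span (Set.range fun i : Fin n => MvPolynomial.esymm (Fin n) P ((i : ℕ) + 1) - MvPolynomial.C (MvPolynomial.X i))
  let Φ₀ : MvPolynomial (Fin n) P →+* P := MvPolynomial.eval₂Hom e MvPolynomial.X
  let j : P →+* MvPolynomial (Fin n) P := MvPolynomial.map MvPolynomial.C
  have hj : ∀ z, Φ₀ (j z) = z := fun z => by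
    show MvPolynomial.eval₂ e MvPolynomial.X (MvPolynomial.map MvPolynomial.C z) = z
    rw [MvPolynomial.eval₂_map, show e.comp MvPolynomial.C = MvPolynomial.C from RingHom.ext_int _ _,
      MvPolynomial.eval₂_eta]
  have hI : I ≤ RingHom.ker Φ₀ := by
    refine Ideal.span_le.2 ?_
    rintro _ ⟨i, rfl⟩
    show Φ₀ (MvPolynomial.esymm (Fin n) P ((i : ℕ) + 1) - MvPolynomial.C (MvPolynomial.X i)) = 0
    rw [map_sub, ← MvPolynomial.map_esymm (Fin n) ℤ ((i : ℕ) + 1) (MvPolynomial.C : ℤ →+* P)]
    show Φ₀ (j _) - _ = 0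
    rw [hj]
    simp only [Φ₀, e, MvPolynomial.eval₂Hom_C]
    exact sub_eq_zero.2 (MvPolynomial.aeval_X (fun i : Fin n => MvPolynomial.esymm (Fin n) ℤ ((i : ℕ) + 1)) i).symm
  let Φ := Ideal.Quotient.lift I Φ₀ hI
  have hbij : Function.Bijective Φ := by
    have h1 : ∀ z, (Ideal.Quotient.mk I) (j (Φ z)) = z := fun z => by
      have : ((Ideal.Quotient.mk I).comp (j.comp Φ)) = RingHom.id _ := by
        refine Ideal.Quotient.ringHom_ext (MvPolynomial.ringHom_ext (fun c => ?_) fun i => ?_)
        · show Ideal.Quotient.mk I (j (Φ₀ (MvPolynomial.C c))) = Ideal.Quotient.mk I (MvPolynomial.C c)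
          rw [show Φ₀ (MvPolynomial.C c) = e c by simp [Φ₀]]
          have hc : (Ideal.Quotient.mk I).comp (j.comp e) = (Ideal.Quotient.mk I).comp MvPolynomial.C := by
            refine MvPolynomial.ringHom_ext (fun m => ?_) fun i => ?_
            · exact RingHom.congr_fun (RingHom.ext_int (((Ideal.Quotient.mk I).comp (j.comp e)).comp MvPolynomial.C)
                (((Ideal.Quotient.mk I).comp MvPolynomial.C).comp MvPolynomial.C)) m
            · show Ideal.Quotient.mk I (j (e (MvPolynomial.X i))) = Ideal.Quotient.mk I (MvPolynomial.C (MvPolynomial.X i))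
              rw [Ideal.Quotient.eq, show e (MvPolynomial.X i) = MvPolynomial.esymm (Fin n) ℤ ((i : ℕ) + 1) from MvPolynomial.aeval_X _ i,
                show j (MvPolynomial.esymm (Fin n) ℤ ((i : ℕ) + 1)) = MvPolynomial.esymm (Fin n) P ((i : ℕ) + 1) from
                  MvPolynomial.map_esymm (Fin n) ℤ _ _]
              exact Ideal.subset_span ⟨i, rfl⟩
          exact RingHom.congr_fun hc c
        · show Ideal.Quotient.mk I (j (Φ₀ (MvPolynomial.X i))) = Ideal.Quotient.mk I (MvPolynomial.X i)
          simp only [Φ₀, j, MvPolynomial.eval₂Hom_X']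
          exact congrArg _ (MvPolynomial.map_X _ _)
      exact RingHom.congr_fun this z
    exact Function.bijective_iff_has_inverse.2 ⟨fun p => Ideal.Quotient.mk I (j p), h1, fun p => hj p⟩
  convert hbij.comp (H1Staircase.bijective_mk n (fun i : Fin n => (MvPolynomial.X i : P))) using 1
  funext p
  show _ = Φ₀ _
  simp only [Φ₀, e, map_sum, map_mul, map_prod, map_pow, MvPolynomial.eval₂Hom_C, MvPolynomial.eval₂Hom_X']
  rfl

end Groth.Agent.S16402
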