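import Groth.Statements.S16419
import Mathlib

set_option autoImplicit false
universe u v
open CAlg

namespace Groth.Agent.S16419

open TensorProduct in
/-- For a commutative local Artinian ring R and an exact sequence 0 → H₁ → H → H₂ → 0 of finite free
R-modules, let F₁ ⊆ H₁ and F₂ ⊆ H₂ be submodules with H₁/F₁ and H₂/F₂ free; let 𝔫 be an ideal of R
of square zero, R̄ = R/𝔫, and F̄ an R̄-submodule of H̄ = R̄ ⊗ H with free quotient such that F̄
meets the image of R̄ ⊗ H₁ in the image of R̄ ⊗ F₁ and the image of F̄ in R̄ ⊗ H₂ is the image of R̄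
⊗ F₂. Then there is a direct summand F of H with F ∩ H₁ = F₁, whose image in H̄ is F̄ and whose
image in H₂ is F₂. -/
theorem result
    (R : Type u) [CommRing R] [IsArtinianRing R] [IsLocalRing R]
    (H₁ : Type v) (H : Type v) (H₂ : Type v)
    [AddCommGroup H₁] [Module R H₁] [AddCommGroup H] [Module R H] [AddCommGroup H₂] [Module R H₂]
    [Module.Free R H₁] [Module.Finite R H₁] [Module.Free R H] [Module.Finite R H]
    [Module.Free R H₂] [Module.Finite R H₂]
    (f : H₁ →ₗ[R] H) (g : H →ₗ[R] H₂) (hf : Function.Injective f) (hg : Function.Surjective g)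
    (hfg : Function.Exact f g)
    (F₁ : Submodule R H₁) (F₂ : Submodule R H₂) [Module.Free R (H₁ ⧸ F₁)] [Module.Free R (H₂ ⧸ F₂)]
    (𝔫 : Ideal R) (hn : 𝔫 * 𝔫 = ⊥)
    (Fb : Submodule (R ⧸ 𝔫) ((R ⧸ 𝔫) ⊗[R] H))
    [Module.Free (R ⧸ 𝔫) (((R ⧸ 𝔫) ⊗[R] H) ⧸ Fb)]
    (h1 : Fb ⊓ LinearMap.range (f.baseChange (R ⧸ 𝔫)) =
      Submodule.map (f.baseChange (R ⧸ 𝔫)) (F₁.baseChange (R ⧸ 𝔫)))
    (h2 : Submodule.map (g.baseChange (R ⧸ 𝔫)) Fb = F₂.baseChange (R ⧸ 𝔫)) :
    ∃ F : Submodule R H, (∃ C : Submodule R H, IsCompl F C) ∧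
      F ⊓ LinearMap.range f = Submodule.map f F₁ ∧
      F.baseChange (R ⧸ 𝔫) = Fb ∧ Submodule.map g F = F₂ := by
  classical
  let A := R ⧸ 𝔫
  have hmk : Function.Surjective (algebraMap R A) := Ideal.Quotient.mk_surjective
  have hrep : ∀ (M : Type v) [AddCommGroup M] [Module R M] (z : A ⊗[R] M), ∃ m : M, (1 : A) ⊗ₜ[R] m = z := by
    intro M _ _ z
    induction z using TensorProduct.induction_on with
    | zero => exact ⟨0, TensorProduct.tmul_zero _ _⟩
    | tmul a m =>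
      obtain ⟨r, rfl⟩ := hmk a
      exact ⟨r • m, by rw [TensorProduct.tmul_smul, TensorProduct.smul_tmul', Algebra.algebraMap_eq_smul_one]⟩
    | add x y hx hy =>
      obtain ⟨a, rfl⟩ := hx
      obtain ⟨b, rfl⟩ := hy
      exact ⟨a + b, TensorProduct.tmul_add _ _ _⟩
  have hkill : ∀ (M : Type v) [AddCommGroup M] [Module R M] (m : M), (1 : A) ⊗ₜ[R] m = 0 → m ∈ 𝔫 • (⊤ : Submodule R M) := by
    intro M _ _ m hm
    rw [← LinearEquiv.map_eq_zero_iff (TensorProduct.quotTensorEquivQuotSMul M 𝔫)] at hm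
    have h' : TensorProduct.quotTensorEquivQuotSMul M 𝔫 ((1 : A) ⊗ₜ[R] m) =
        Submodule.Quotient.mk ((1 : R) • m) := TensorProduct.quotTensorEquivQuotSMul_mk_tmul 𝔫 (1 : R) m
    rw [h', one_smul, Submodule.Quotient.mk_eq_zero] at hm
    exact hm
  have hbase : ∀ (M : Type v) [AddCommGroup M] [Module R M] (N : Submodule R M) (z : A ⊗[R] M),
      z ∈ N.baseChange A → ∃ m ∈ N, (1 : A) ⊗ₜ[R] m = z := by
    rintro M _ _ N _ ⟨w, rfl⟩
    induction w using TensorProduct.induction_on with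
    | zero => exact ⟨0, N.zero_mem, by simp⟩
    | tmul a m =>
      obtain ⟨r, rfl⟩ := hmk a
      exact ⟨r • m, N.smul_mem r m.2, by
        rw [LinearMap.baseChange_tmul, TensorProduct.tmul_smul, TensorProduct.smul_tmul', Algebra.algebraMap_eq_smul_one]
        rfl⟩
    | add x y hx hy =>
      obtain ⟨a, ha, hax⟩ := hx
      obtain ⟨b, hb, hby⟩ := hy
      exact ⟨a + b, N.add_mem ha hb, by rw [TensorProduct.tmul_add, hax, hby, map_add]⟩
  obtain ⟨t, ht⟩ := Module.projective_lifting_property g LinearMap.id hg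
  haveI : Module.Projective R F₂ := by
    obtain ⟨σ, hσ⟩ := Module.projective_lifting_property F₂.mkQ LinearMap.id F₂.mkQ_surjective
    refine Module.Projective.of_split F₂.subtype
      (LinearMap.codRestrict F₂ (LinearMap.id - σ ∘ₗ F₂.mkQ) fun y => ?_) (LinearMap.ext fun y => Subtype.ext ?_)
    · rw [← Submodule.Quotient.mk_eq_zero]
      have := LinearMap.congr_fun hσ (F₂.mkQ y)
      simp only [LinearMap.comp_apply, Submodule.mkQ_apply, LinearMap.id_apply] at this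
      simp [this]
    · simp [(Submodule.Quotient.mk_eq_zero _).2 y.2]
  -- the elements of `H` lying over `Fb` and `F₂`
  let P : Submodule R H := (Fb.restrictScalars R).comap (TensorProduct.mk R A H 1) ⊓ F₂.comap g
  have hP : Function.Surjective (LinearMap.codRestrict F₂ (g.domRestrict P) fun p => p.2.2) := by
    intro y
    have hy : (1 : A) ⊗ₜ[R] (y : H₂) ∈ Submodule.map (g.baseChange A) Fb :=
      h2.symm ▸ Submodule.tmul_mem_baseChange_of_mem 1 y.2
    obtain ⟨b, hb, hby⟩ := hy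
    obtain ⟨h₀, rfl⟩ := hrep H b
    rw [LinearMap.baseChange_tmul, ← sub_eq_zero, ← TensorProduct.tmul_sub] at hby
    have hmem := hkill H₂ _ hby
    have hmap : 𝔫 • (⊤ : Submodule R H₂) = Submodule.map g (𝔫 • ⊤) := by
      rw [Submodule.map_smul'', Submodule.map_top, LinearMap.range_eq_top.2 hg]
    rw [hmap] at hmem
    obtain ⟨h', hh', hgh'⟩ := hmem
    have h0 : (1 : A) ⊗ₜ[R] h' = 0 := by
      refine Submodule.smul_induction_on hh' (fun r hr m _ => ?_) (fun a b ha hb => by rw [TensorProduct.tmul_add, ha, hb, add_zero])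
      rw [TensorProduct.tmul_smul, TensorProduct.smul_tmul', show r • (1 : A) = 0 from by
        rw [← Algebra.algebraMap_eq_smul_one]; exact Ideal.Quotient.eq_zero_iff_mem.2 hr, TensorProduct.zero_tmul]
    refine ⟨⟨h₀ - h', ?_, ?_⟩, Subtype.ext ?_⟩
    · show (1 : A) ⊗ₜ[R] (h₀ - h') ∈ Fb
      rw [TensorProduct.tmul_sub, h0, sub_zero]; exact hb
    · show g (h₀ - h') ∈ F₂
      rw [map_sub, hgh']; simp
    · show g (h₀ - h') = y
      rw [map_sub, hgh']; simp
  obtain ⟨s₀, hs₀⟩ := Module.projective_lifting_property _ LinearMap.id hP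
  let s : F₂ →ₗ[R] H := P.subtype ∘ₗ s₀
  have hgs : ∀ y : F₂, g (s y) = y := fun y => congrArg Subtype.val (LinearMap.congr_fun hs₀ y)
  have hsb : ∀ y : F₂, (1 : A) ⊗ₜ[R] s y ∈ Fb := fun y => (s₀ y).2.1
  have hgf : ∀ a, g (f a) = 0 := fun a => hfg.apply_apply_eq_zero a
  refine ⟨Submodule.map f F₁ ⊔ LinearMap.range s, ?_, ?_, ?_, ?_⟩
  · obtain ⟨σ₁, hσ₁⟩ := Module.projective_lifting_property F₁.mkQ LinearMap.id F₁.mkQ_surjective
    obtain ⟨σ₂, hσ₂⟩ := Module.projective_lifting_property F₂.mkQ LinearMap.id F₂.mkQ_surjective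
    let r₁ : H₁ →ₗ[R] H₁ := LinearMap.id - σ₁ ∘ₗ F₁.mkQ
    have hr₁ : ∀ a, r₁ a ∈ F₁ := fun a => by
      rw [← Submodule.Quotient.mk_eq_zero]
      have := LinearMap.congr_fun hσ₁ (F₁.mkQ a)
      simp only [LinearMap.comp_apply, Submodule.mkQ_apply, LinearMap.id_apply] at this
      simp [r₁, this]
    let r₂ : H₂ →ₗ[R] F₂ := LinearMap.codRestrict F₂ (LinearMap.id - σ₂ ∘ₗ F₂.mkQ) fun y => by
      rw [← Submodule.Quotient.mk_eq_zero]
      have := LinearMap.congr_fun hσ₂ (F₂.mkQ y)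
      simp only [LinearMap.comp_apply, Submodule.mkQ_apply, LinearMap.id_apply] at this
      simp [this]
    have hr₂ : ∀ y : F₂, r₂ (y : H₂) = y := fun y => Subtype.ext (by
      simp [r₂, (Submodule.Quotient.mk_eq_zero _).2 y.2])
    let t' : H₂ →ₗ[R] H := s ∘ₗ r₂ + t ∘ₗ (LinearMap.id - F₂.subtype ∘ₗ r₂)
    have ht' : ∀ y, g (t' y) = y := fun y => by
      have := LinearMap.congr_fun ht
      simp only [LinearMap.comp_apply, LinearMap.id_apply] at this
      simp [t', map_add, hgs, this]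
    let w : H →ₗ[R] LinearMap.range f := LinearMap.codRestrict _ (LinearMap.id - t' ∘ₗ g) fun h =>
      (hfg _).1 (by simp [map_sub, ht'])
    let v : H →ₗ[R] H₁ := (LinearEquiv.ofInjective f hf).symm.toLinearMap ∘ₗ w
    have hv : ∀ h, f (v h) = h - t' (g h) := fun h =>
      congrArg Subtype.val ((LinearEquiv.ofInjective f hf).apply_symm_apply (w h))
    let p : H →ₗ[R] ↥(Submodule.map f F₁ ⊔ LinearMap.range s) :=
      LinearMap.codRestrict _ (f ∘ₗ r₁ ∘ₗ v + s ∘ₗ r₂ ∘ₗ g) fun h => Submodule.add_mem_sup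
        (Submodule.mem_map_of_mem (hr₁ _)) (LinearMap.mem_range_self s _)
    refine ⟨_, LinearMap.isCompl_of_proj (f := p) fun x => Subtype.ext ?_⟩
    obtain ⟨x, hx⟩ := x
    obtain ⟨_, ⟨a, ha, rfl⟩, _, ⟨y, rfl⟩, rfl⟩ := Submodule.mem_sup.1 hx
    have hg' : g (f a + s y) = y := by rw [map_add, hgf, zero_add, hgs]
    have hva : v (f a + s y) = a := hf (by
      rw [hv, hg']
      simp [t', hr₂])
    show f (r₁ (v (f a + s y))) + s (r₂ (g (f a + s y))) = f a + s y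
    rw [hva, hg', hr₂]
    simp [r₁, (Submodule.Quotient.mk_eq_zero _).2 ha]
  · refine le_antisymm ?_ (le_inf le_sup_left (by rintro _ ⟨a, _, rfl⟩; exact LinearMap.mem_range_self f a))
    rintro _ ⟨hx, b, rfl⟩
    obtain ⟨_, ⟨a, ha, rfl⟩, _, ⟨y, rfl⟩, hab⟩ := Submodule.mem_sup.1 hx
    have hy : y = 0 := Subtype.ext (by
      have := congrArg g hab
      rwa [map_add, hgf, zero_add, hgs, hgf] at this)
    rw [← hab, hy, map_zero, add_zero]
    exact Submodule.mem_map_of_mem ha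
  · have hfF : ∀ a ∈ F₁, (1 : A) ⊗ₜ[R] f a ∈ Fb := fun a ha => by
      have : (1 : A) ⊗ₜ[R] f a ∈ Fb ⊓ LinearMap.range (f.baseChange A) :=
        h1.symm ▸ ⟨(1 : A) ⊗ₜ[R] a, Submodule.tmul_mem_baseChange_of_mem 1 ha, rfl⟩
      exact this.1
    refine le_antisymm (fun z hz => ?_) (fun z hz => ?_)
    · obtain ⟨m, hm, rfl⟩ := hbase H _ z hz
      obtain ⟨_, ⟨a, ha, rfl⟩, _, ⟨y, rfl⟩, rfl⟩ := Submodule.mem_sup.1 hm
      rw [TensorProduct.tmul_add]
      exact Fb.add_mem (hfF a ha) (hsb y)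
    · obtain ⟨yb, hyb, hgy⟩ := hbase H₂ F₂ (g.baseChange A z) (h2 ▸ Submodule.mem_map_of_mem hz)
      have hk : z - (1 : A) ⊗ₜ[R] s ⟨yb, hyb⟩ ∈ LinearMap.range (f.baseChange A) := by
        refine ((lTensor_exact A hfg hg) _).1 ?_
        show g.baseChange A (z - (1 : A) ⊗ₜ[R] s ⟨yb, hyb⟩) = 0
        rw [map_sub, LinearMap.baseChange_tmul, hgs, ← hgy, sub_self]
      have hd : z - (1 : A) ⊗ₜ[R] s ⟨yb, hyb⟩ ∈ Fb ⊓ LinearMap.range (f.baseChange A) :=
        ⟨Fb.sub_mem hz (hsb _), hk⟩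
      rw [h1] at hd
      obtain ⟨w₁, hw₁, hfw⟩ := hd
      obtain ⟨a, ha, rfl⟩ := hbase H₁ F₁ w₁ hw₁
      have : z = (1 : A) ⊗ₜ[R] (f a + s ⟨yb, hyb⟩) := by
        rw [TensorProduct.tmul_add, ← LinearMap.baseChange_tmul, hfw, sub_add_cancel]
      rw [this]
      exact Submodule.tmul_mem_baseChange_of_mem 1
        (Submodule.add_mem_sup (Submodule.mem_map_of_mem ha) (LinearMap.mem_range_self s _))
  · rw [Submodule.map_sup, ← LinearMap.range_comp, ← Submodule.map_comp]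
    refine le_antisymm (sup_le ?_ ?_) (fun y hy => ?_)
    · rintro _ ⟨a, _, rfl⟩
      simp [hgf]
    · rintro _ ⟨y, rfl⟩
      show g (s y) ∈ F₂
      rw [hgs]; exact y.2
    · exact Submodule.mem_sup_right ⟨⟨y, hy⟩, hgs _⟩

end Groth.Agent.S16419
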