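import Groth.Statements.S16423
import Groth.Agent.GrpSchLib.SmoothRegular
import Groth.Agent.S10834
import Groth.Agent.Triage.SliceFlatSch
import Groth.Agent.Triage.CMMor

set_option autoImplicit false
universe u
open CategoryTheory CategoryTheory.Limits AlgebraicGeometry TopologicalSpace
open RhoSh

namespace Groth.Agent.S16423

/-- Let X be a smooth, proper, geometrically irreducible scheme over a field k admitting an ample
invertible sheaf, let S be a k-scheme and let x be a point of X ×_k S lying over s ∈ S. If the local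
ring at x of the fibre (X ×_k S)_s has Krull dimension at least 2 (this holds at every point outside
a big open subset, i.e. one whose complement has codimension at least 2 in every fibre), then the
local ring of X ×_k S at x has depth at least 2. -/
theorem result
    (k : Type u) [Field k] (X S : Scheme.{u})
    (a : X ⟶ Spec (CommRingCat.of k)) (b : S ⟶ Spec (CommRingCat.of k))
    [Smooth a] [IsProper a] [GeometricallyIrreducible a]
    (hproj : ∃ H : X.Modules, CohB1.IsAmple H)
    (x : ↥(pullback a b))
    (hx : (2 : WithBot ℕ∞) ≤ ringKrullDim ↑(CInt.fiberStalk (pullback.snd a b) x)) :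
    (2 : ℕ∞) ≤ LocCoh.depth ↑((pullback a b).presheaf.stalk x) ↑((pullback a b).presheaf.stalk x) := by
  let g : pullback a b ⟶ S := pullback.snd a b
  haveI : Smooth g := inferInstanceAs (Smooth (pullback.snd a b))
  haveI : Smooth (g.fiberToSpecResidueField (g x)) := MorphismProperty.pullback_snd _ _ ‹_›
  let F := CInt.fiberStalk g x
  haveI : IsRegularLocalRing ↑F :=
    @GrpSchLib.isRegularLocalRing_stalk_of_smooth (S.residueField (g x)) _ (g.fiber (g x))
      (g.fiberToSpecResidueField (g x)) this (g.asFiber x)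
  have hd : (2 : ℕ∞) ≤ LocCoh.depth ↑F ↑F := by
    have h : (2 : WithBot ℕ∞) ≤ ((LocCoh.depth ↑F ↑F : ℕ∞) : WithBot ℕ∞) :=
      hx.trans_eq (S10834.depth_of_regular ↑F).symm
    exact WithBot.coe_le_coe.1 h
  have hne : IsLocalRing.maximalIdeal ↑F • (⊤ : Submodule ↑F ↑F) ≠ ⊤ := by
    rw [Ideal.smul_eq_mul, Ideal.mul_top]
    exact (IsLocalRing.maximalIdeal.isMaximal ↑F).ne_top
  obtain ⟨rs, hrs, hrm, hlen⟩ : ∃ rs : List ↑F, RingTheory.Sequence.IsWeaklyRegular ↑F rs ∧
      (∀ r ∈ rs, r ∈ IsLocalRing.maximalIdeal ↑F) ∧ 2 ≤ rs.length := by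
    by_contra hno
    push Not at hno
    rw [LocCoh.depth, LocCoh.idealDepth, if_neg hne] at hd
    have : (2 : ℕ∞) ≤ 1 := hd.trans (iSup₂_le fun rs h => by
      have := hno rs h.1 h.2
      exact_mod_cast Nat.le_of_lt_succ this)
    exact absurd this (by decide)
  obtain ⟨e⟩ := Triage.CMMor.exists_equiv_fibre_stalk g x
  let J := (IsLocalRing.maximalIdeal (S.presheaf.stalk (g x))).map (g.stalkMap x).hom
  let π : ↑((pullback a b).presheaf.stalk x) →+* ↑F := e.toRingHom.comp (Ideal.Quotient.mk J)
  have hπ : Function.Surjective π := e.surjective.comp Ideal.Quotient.mk_surjective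
  have hker : RingHom.ker π = J := by
    rw [← Ideal.mk_ker (I := J)]
    exact RingHom.ker_equiv_comp (Ideal.Quotient.mk J) e
  let hs := rs.map (Function.surjInv hπ)
  have hmap : hs.map π = rs := by
    simp only [hs, List.map_map]
    exact List.map_id'' (Function.surjInv_eq hπ) rs
  have hm : ∀ h ∈ hs, h ∈ IsLocalRing.maximalIdeal ↑((pullback a b).presheaf.stalk x) := by
    intro h hh hu
    obtain ⟨r, hr, rfl⟩ := List.mem_map.1 hh
    exact hrm r hr (by rw [← Function.surjInv_eq hπ r]; exact hu.map π)
  obtain ⟨V, hV, U, hU, hxU, -, -, hs', hgerm, -, hwr, -⟩ :=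
    Triage.SliceFlat.exists_slice_sch g x (Flat.stalkMap g x) hs hm (fun i hi z hz => by
      have h0 := hrs.regular_mod_prev i (by simpa [hs] using hi)
      have hI : ∀ w, Submodule.Quotient.mk (p := (Ideal.ofList (rs.take i) • ⊤ : Submodule ↑F ↑F)) (π w) = 0 ↔
          w ∈ Ideal.ofList (hs.take i) ⊔ J := by
        intro w
        conv_lhs => rw [← hmap]
        rw [Submodule.Quotient.mk_eq_zero, Ideal.smul_eq_mul, Ideal.mul_top, ← List.map_take,
          ← Ideal.map_ofList, ← Ideal.mem_comap, Ideal.comap_map_of_surjective _ hπ,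
          ← RingHom.ker_eq_comap_bot, hker]
      rw [← hI]
      refine h0.right_eq_zero_of_smul ?_
      rw [← Submodule.Quotient.mk_smul]
      have hget : rs[i]'(by simpa [hs] using hi) = π hs[i] := by
        simp [hs, Function.surjInv_eq hπ]
      rw [hget]
      show Submodule.Quotient.mk (π _ * π z) = 0
      rw [← map_mul]
      exact (hI _).2 hz) ⊤ trivial
  letI := (pullback a b).presheaf.algebra_section_stalk ⟨x, hxU⟩
  haveI := hU.isLocalization_stalk ⟨x, hxU⟩
  have hwr' : RingTheory.Sequence.IsWeaklyRegular ↑((pullback a b).presheaf.stalk x) hs := by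
    rw [← hgerm]
    exact hwr.of_isLocalization _ (hU.primeIdealOf ⟨x, hxU⟩).asIdeal.primeCompl
  rw [LocCoh.depth, LocCoh.idealDepth, if_neg (by
    rw [Ideal.smul_eq_mul, Ideal.mul_top]; exact (IsLocalRing.maximalIdeal.isMaximal _).ne_top)]
  refine le_trans ?_ (le_iSup₂ hs ⟨hwr', hm⟩)
  exact_mod_cast (show 2 ≤ hs.length by simpa [hs] using hlen)

end Groth.Agent.S16423
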