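import Groth.Statements.S16425
import Groth.Agent.ExtCartier.Ext
import Groth.Agent.VanLoc.Global

set_option autoImplicit false
universe u
open CategoryTheory CategoryTheory.Limits AlgebraicGeometry TopologicalSpace
open RhoSh

namespace Groth.Agent.S16425

/-- Let X be a smooth, proper, geometrically irreducible scheme over a field k with an ample invertible
sheaf L, let S be a k-scheme, p : Y ⟶ X ×_k S an affine morphism of finite presentation, D ⊂ X ×_k S
an effective Cartier divisor (given by its ideal sheaf I) which is flat over S, Q the open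
complement of D, and s a section of p defined over Q. Then the functor sending an affine S-scheme T
to the set of sections of the base change p_T over X ×_k T whose restriction to the preimage of Q is
the base change of s is represented by a closed subscheme Z of S: a morphism g : T ⟶ S from an
affine scheme factors through Z if and only if such a section exists over X ×_k T (such a section is
unique when it exists). -/
theorem result
    (k : Type u) [Field k] (X S Y : Scheme.{u})
    (a : X ⟶ Spec (CommRingCat.of k)) (b : S ⟶ Spec (CommRingCat.of k))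
    [Smooth a] [IsProper a] [GeometricallyIrreducible a]
    (L : X.Modules) (hL : CohB1.IsAmple L)
    (p : Y ⟶ pullback a b) [IsAffineHom p] [LocallyOfFinitePresentation p]
    (I : (pullback a b).IdealSheafData) (hI : FGA.IsEffCartier I)
    [Flat (I.subschemeι ≫ pullback.snd a b)]
    (Q : (pullback a b).Opens) (hQ : Q = I.support.compl)
    (s : (Q : Scheme.{u}) ⟶ Y) (hs : s ≫ p = Q.ι) :
    ∃ (Z : Scheme.{u}) (i : Z ⟶ S), IsClosedImmersion i ∧
      ∀ (T : Scheme.{u}) (g : T ⟶ S), IsAffine T →
        ((∃ h : T ⟶ Z, h ≫ i = g) ↔
          ∃ f : pullback (pullback.snd a b) g ⟶ Y,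
            f ≫ p = pullback.fst (pullback.snd a b) g ∧
            ((pullback.fst (pullback.snd a b) g) ⁻¹ᵁ Q).ι ≫ f =
              ((pullback.fst (pullback.snd a b) g) ∣_ Q) ≫ s) := by
  subst hQ
  let π := pullback.snd a b
  haveI : IsProper π := MorphismProperty.pullback_snd _ _ inferInstance
  haveI : LocallyOfFinitePresentation π := MorphismProperty.pullback_snd _ _ inferInstance
  choose J hJ using fun n => VanLoc.exists_idealSheaf (q := π) (σ := ExtCartier.σ hI p hs n)
    (ExtCartier.isQCoh_G hI p hs n) (ExtCartier.isFP_polar hI n) (ExtCartier.isQCoh_polar hI n)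
    (ExtCartier.isFlatOver_polar π hI n)
  refine ⟨(⨆ n, J n).subscheme, (⨆ n, J n).subschemeι, inferInstance, fun T g _ => ?_⟩
  have hp := ExtCartier.exists_piece (I := I) hI (IsPullback.of_hasPullback π g)
  constructor
  · rintro ⟨h, rfl⟩
    refine ExtCartier.exists_extension hI hs hp fun n => (hJ n _ _).1 ?_
    exact (le_iSup J n).trans ((⨆ n, J n).ker_subschemeι.ge.trans (Scheme.Hom.le_ker_comp _ _))
  · rintro ⟨f, hf, hf'⟩
    have hle : (⨆ n, J n) ≤ g.ker := iSup_le fun n =>
      (hJ n _ _).2 (ExtCartier.pullback_map_σ_eq_zero hI p hs hp f hf hf' n)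
    have hle' : (⨆ n, J n).subschemeι.ker ≤ g.ker := by rw [Scheme.IdealSheafData.ker_subschemeι]; exact hle
    exact ⟨IsClosedImmersion.lift _ g hle', IsClosedImmersion.lift_fac _ _ _⟩

end Groth.Agent.S16425
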