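import Groth.Statements.S1643
import Groth.Agent.UnifReg.Apply
-- import your own Groth.Agent.* helpers here

set_option autoImplicit false
set_option backward.isDefEq.respectTransparency false
set_option backward.isDefEq.respectTransparency.types false
set_option linter.style.haveILetI false
set_option maxHeartbeats 800000
universe u
open CategoryTheory CategoryTheory.Limits AlgebraicGeometry
open Variety

namespace Groth.Agent.S1643

/-- Fix n ≥ 0, r ≥ 1 and a rational polynomial P. There is an integer m, depending only on n, r and P,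
such that for every field k and every epimorphism from the free module of rank r on P^n_k onto a
coherent module F whose Euler characteristics χ(F(t)) are given by P for all integers t, the kernel
is m-regular. -/
theorem result (n r : ℕ) (hr : 1 ≤ r) (P : Polynomial ℚ) :
    ∃ m : ℤ, ∀ (k : Type u) [Field k] (F : (CohB1.ProjSpace n k).Modules) (φ : FlatMod.freeMod (CohB1.ProjSpace n k) r ⟶ F), Coh.IsCoh F → Epi φ →
      (∀ t : ℤ, (Curv2.euler k (CohB1.ProjSpace n k) (CohB1.tensorMod F (Twist.twistProjSpace n k t)) : ℚ) = P.eval (t : ℚ)) →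
      Curv2.IsMRegular k n (kernel φ) m := by
  classical
  rcases Nat.eq_zero_or_pos n with rfl | hn
  · exact ⟨0, fun k _ F φ _ _ _ i hi hi' => absurd hi (by omega)⟩
  by_cases hP : ∀ t : ℕ, ∃ z : ℤ, (z : ℚ) = P.eval (t : ℚ)
  · choose χ₀ hχ₀ using hP
    obtain ⟨m, hm⟩ := UnifReg.exists_uniform_regularity.{u} n hn r χ₀
    refine ⟨m, fun k _ F φ hF hφ hP => (hm k F φ hF hφ fun t => ?_).1⟩
    have h := hP (t : ℤ)
    rw [Int.cast_natCast, ← hχ₀ t] at h
    exact_mod_cast h
  · refine ⟨0, fun k _ F φ _ _ h => absurd (fun t : ℕ => ⟨_, (h (t : ℤ)).trans (by rw [Int.cast_natCast])⟩) hP⟩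

end Groth.Agent.S1643
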