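import Groth.Statements.S16438
import Groth.Agent.S12237
import Groth.Agent.S0736
import Groth.Agent.WEtLib.Basic

set_option autoImplicit false
universe u
open EGA4loc

namespace Groth.Agent.S16438

open IsLocalRing in
/-- Let A be a Noetherian local ring with maximal ideal m, S a strict henselization of A, and D an
A-subalgebra of S which is a local ring dominated by S (the inclusion is local), essentially of
finite type over A, and such that m D is the maximal ideal of D. Then D is an essentially etale
local A-algebra: A-isomorphic to the localization of an etale A-algebra at a prime over m. (The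
published statement also assumes the total ring of fractions of D finitely generated over that of A;
for D essentially of finite type over A and dominated by S this is automatic, D then lying in a
local etale subextension of S, so that hypothesis is omitted here.) -/
theorem result
    (A S : Type u) [CommRing A] [IsLocalRing A] [IsNoetherianRing A]
    [CommRing S] [IsLocalRing S] [Algebra A S] [IsLocalHom (algebraMap A S)]
    [Hensel.IsStrictHenselization A S] (D : Subalgebra A S) [IsLocalRing D]
    [IsLocalHom (algebraMap D S)] [Algebra.EssFiniteType A D]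
    (hm : Ideal.map (algebraMap A D) (maximalIdeal A) = maximalIdeal D) :
    EGA4loc.IsEssentiallyEtale A D := by
  classical
  haveI : IsLocalHom (algebraMap A D) := ((IsLocalRing.local_hom_TFAE (algebraMap A D)).out 0 2).mpr hm.le
  have hSet : Algebra.WeaklyEtale A S := S0736.result A S (S12237.result A S)
  haveI : Algebra.IsSeparable (IsLocalRing.ResidueField A) (IsLocalRing.ResidueField D) := by
    haveI := (Hensel.IsStrictHenselization.isSepClosure (R := A) (S := S))
    haveI : Algebra.IsSeparable (IsLocalRing.ResidueField A) (IsLocalRing.ResidueField S) :=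
      (isSepClosure_iff.mp inferInstance).2
    refine Algebra.IsSeparable.of_algHom _ _
      ({ IsLocalRing.ResidueField.map (algebraMap D S) with commutes' := fun r => ?_ } :
        IsLocalRing.ResidueField D →ₐ[IsLocalRing.ResidueField A] IsLocalRing.ResidueField S)
    obtain ⟨a, rfl⟩ := IsLocalRing.residue_surjective r
    exact congrArg (IsLocalRing.residue S) (IsScalarTower.algebraMap_apply A D S a).symm
  haveI hunr : Algebra.FormallyUnramified A D := Algebra.FormallyUnramified.of_map_maximalIdeal hm
  let D₀ := Algebra.EssFiniteType.subalgebra A D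
  haveI : Algebra.FiniteType A D₀ := inferInstance
  let Q : Ideal D₀ := (maximalIdeal D).comap (algebraMap D₀ D)
  haveI hloc : IsLocalization.AtPrime D Q := by
    refine IsLocalization.of_le (Algebra.EssFiniteType.submonoid A D) Q.primeCompl ?_ ?_
    · intro x hx hxQ
      exact (IsLocalRing.mem_maximalIdeal _).mp (Ideal.mem_comap.mp hxQ) hx
    · intro x hx
      exact IsLocalRing.notMem_maximalIdeal.mp hx
  haveI : Algebra.IsUnramifiedAt A Q :=
    Algebra.FormallyUnramified.of_equiv
      ((IsLocalization.algEquiv Q.primeCompl D (Localization.AtPrime Q)).restrictScalars A)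
  obtain ⟨f, hfQ, P, φ, hφ⟩ := Algebra.IsUnramifiedAt.exists_hasStandardEtaleSurjectionOn (R := A) Q
  have hfu : ∀ y : Submonoid.powers f, IsUnit (algebraMap D₀ D y) := by
    rintro ⟨_, n, rfl⟩
    rw [map_pow]
    exact (IsLocalRing.notMem_maximalIdeal.mp hfQ).pow n
  let ψ : P.Ring →ₐ[A] D :=
    (IsLocalization.liftAlgHom (f := (IsScalarTower.toAlgHom A D₀ D)) hfu).comp φ
  let q : Ideal P.Ring := (maximalIdeal D).comap ψ
  have hunit : ∀ y : q.primeCompl, IsUnit (ψ y) := fun y => IsLocalRing.notMem_maximalIdeal.mp y.2
  let Ψ : Localization.AtPrime q →ₐ[A] D := IsLocalization.liftAlgHom (f := ψ) hunit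
  have hΨ : ∀ c, Ψ (algebraMap P.Ring (Localization.AtPrime q) c) = ψ c := fun c =>
    IsLocalization.lift_eq _ c
  have himg : ∀ x : D₀, ∃ c, ψ c = algebraMap D₀ D x := by
    intro x
    obtain ⟨c, hc⟩ := hφ (algebraMap D₀ (Localization.Away f) x)
    refine ⟨c, ?_⟩
    show IsLocalization.liftAlgHom (f := IsScalarTower.toAlgHom A D₀ D) hfu (φ c) = _
    rw [hc]
    exact IsLocalization.lift_eq _ x
  have hsurj : Function.Surjective Ψ := by
    intro d
    obtain ⟨x, s, rfl⟩ := IsLocalization.exists_mk'_eq Q.primeCompl d
    obtain ⟨c, hc⟩ := himg x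
    obtain ⟨t, ht⟩ := himg s
    have htq : t ∈ q.primeCompl := by
      intro htm
      have : ψ t ∈ maximalIdeal D := htm
      rw [ht] at this
      exact s.2 this
    refine ⟨IsLocalization.mk' _ c (⟨t, htq⟩ : q.primeCompl), ?_⟩
    rw [IsLocalization.eq_mk'_iff_mul_eq, ← hc, ← ht, ← hΨ, ← hΨ, ← map_mul, IsLocalization.mk'_spec]
  have hinj : Function.Injective Ψ := by
    let χ : Localization.AtPrime q →ₐ[A] S := (D.val).comp Ψ
    haveI : IsLocalHom χ.toRingHom := by
      refine ⟨fun z hz => ?_⟩
      obtain ⟨c, s, rfl⟩ := IsLocalization.exists_mk'_eq q.primeCompl z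
      rw [IsLocalization.AtPrime.isUnit_mk'_iff]
      intro hc
      have h1 : IsUnit (Ψ (IsLocalization.mk' _ c s)) := by
        have hz' : IsUnit (algebraMap D S (Ψ (IsLocalization.mk' _ c s))) := hz
        exact isUnit_of_map_unit (algebraMap D S) _ hz'
      have h2 : IsUnit (ψ c) := by
        rw [← hΨ, ← IsLocalization.mk'_spec (Localization.AtPrime q) c s, map_mul]
        exact h1.mul (by rw [hΨ]; exact hunit s)
      exact (IsLocalRing.mem_maximalIdeal _).mp hc h2
    letI : Algebra (Localization.AtPrime q) S := χ.toRingHom.toAlgebra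
    haveI : IsScalarTower A (Localization.AtPrime q) S :=
      IsScalarTower.of_algebraMap_eq fun a => (χ.commutes a).symm
    letI : Algebra P.Ring S := Algebra.compHom S (algebraMap P.Ring (Localization.AtPrime q))
    haveI : IsScalarTower P.Ring (Localization.AtPrime q) S := IsScalarTower.of_algebraMap_eq fun _ => rfl
    haveI : IsScalarTower A P.Ring S :=
      IsScalarTower.of_algebraMap_eq fun a => by
        show _ = algebraMap (Localization.AtPrime q) S (algebraMap P.Ring _ (algebraMap A P.Ring a))
        rw [← IsScalarTower.algebraMap_apply A P.Ring (Localization.AtPrime q), ← IsScalarTower.algebraMap_apply]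
    haveI : Algebra.WeaklyEtale P.Ring S := WEtLib.cancel (A := A) (B := P.Ring) S
    haveI : Module.Flat (Localization.AtPrime q) S :=
      (Module.flat_iff_of_isLocalization (Localization.AtPrime q) q.primeCompl S).mpr inferInstance
    haveI : IsLocalHom (algebraMap (Localization.AtPrime q) S) := ‹IsLocalHom χ.toRingHom›
    haveI : Module.FaithfullyFlat (Localization.AtPrime q) S := Module.FaithfullyFlat.of_flat_of_isLocalHom
    exact Function.Injective.of_comp (f := Subtype.val)
      (FaithfulSMul.algebraMap_injective (Localization.AtPrime q) S)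
  refine ⟨P.Ring, inferInstance, inferInstance, q, inferInstance, inferInstance, ?_,
    ⟨(AlgEquiv.ofBijective Ψ ⟨hinj, hsurj⟩).symm⟩⟩
  ext a
  show ψ (algebraMap A P.Ring a) ∈ maximalIdeal D ↔ _
  rw [ψ.commutes, IsLocalRing.mem_maximalIdeal, IsLocalRing.mem_maximalIdeal, mem_nonunits_iff,
    mem_nonunits_iff]
  exact not_congr ⟨isUnit_of_map_unit _ a, fun h => h.map _⟩

end Groth.Agent.S16438
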