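import Groth.Statements.S16432
import Groth.Agent.H1EssEt.Fraction
import Groth.Agent.H1EssEt.Unram
import Groth.Agent.CompleteNagata.Global
import Groth.Agent.S2748
import Groth.Agent.S16438

set_option autoImplicit false
universe u
open EGA4loc

namespace Groth.Agent.S16432

theorem exists_mul_eq_of_faithfullyFlat {R T : Type u} [CommRing R] [CommRing T] [Algebra R T]
    [Module.FaithfullyFlat R T] {a b : R} {t : T} (h : t * algebraMap R T b = algebraMap R T a) :
    ∃ c, c * b = a := by
  have h1 : a ∈ ((Ideal.span {b}).map (algebraMap R T)).comap (algebraMap R T) := by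
    rw [Ideal.mem_comap, Ideal.map_span, Set.image_singleton]
    exact Ideal.mem_span_singleton'.mpr ⟨t, h⟩
  rw [Ideal.comap_map_eq_self_of_faithfullyFlat] at h1
  exact Ideal.mem_span_singleton'.mp h1

theorem mem_of_algebraMap_mem_map {R T : Type u} [CommRing R] [CommRing T] [Algebra R T]
    [Module.FaithfullyFlat R T] (I : Ideal R) {z : R} (h : algebraMap R T z ∈ I.map (algebraMap R T)) :
    z ∈ I :=
  (Ideal.comap_map_eq_self_of_faithfullyFlat (B := T) I).le h

set_option maxHeartbeats 2000000 in
set_option synthInstance.maxHeartbeats 200000 in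
/-- Let A be an excellent normal local domain and S a strict henselization of A; let D be an
A-subalgebra of S which is a local ring dominated by S (the inclusion is a local homomorphism), an
integrally closed domain, and whose fraction field is generated as a field over the image of A by
finitely many elements of D. Then D is an essentially etale local A-algebra: A-isomorphic to the
localization of an etale A-algebra at a prime ideal over the maximal ideal of A. -/
theorem result
    (A S : Type u) [CommRing A] [IsLocalRing A] [IsDomain A] [IsIntegrallyClosed A]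
    (hA : EGA4.IsExcellent A) [CommRing S] [IsLocalRing S] [Algebra A S] [IsLocalHom (algebraMap A S)]
    [Hensel.IsStrictHenselization A S] (D : Subalgebra A S) [IsLocalRing D]
    [IsLocalHom (algebraMap D S)] [IsDomain D] [IsIntegrallyClosed D]
    (hfg : ∃ s : Finset D, Subfield.closure (Set.range (algebraMap A (FractionRing D)) ∪
        (algebraMap D (FractionRing D)) '' (s : Set D)) = ⊤) :
    EGA4loc.IsEssentiallyEtale A D := by
  classical
  obtain ⟨hSd, hSn⟩ := (Groth.Agent.S2748.result A S).mpr ⟨inferInstance, inferInstance⟩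
  haveI : IsNoetherianRing A := hA.1
  have hmin : (minimalPrimes A).Finite := minimalPrimes.finite_of_isNoetherianRing A
  haveI := Groth.Agent.H1EssEt.weaklyEtale (A := A) (S := S)
  haveI : Module.Flat A S := Algebra.WeaklyEtale.flat
  haveI : Module.FaithfullyFlat A S := Module.FaithfullyFlat.of_flat_of_isLocalHom
  have hAD : Function.Injective (algebraMap A D) := fun a b h =>
    FaithfulSMul.algebraMap_injective A S (congrArg Subtype.val h)
  have hDl : IsLocalHom (algebraMap A D) :=
    ⟨fun a ha => isUnit_of_map_unit (algebraMap A S) a (ha.map D.val)⟩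
  -- `D` lies in a local étale subalgebra
  obtain ⟨s, hs⟩ := hfg
  obtain ⟨E, hsE, hEloc, hEl, hE⟩ :=
    Groth.Agent.H1EssEt.exists_subalgebra_ge (A := A) (s.image (Subtype.val : D → S))
  haveI := hEl
  haveI hEff := Groth.Agent.H1EssEt.faithfullyFlat_subalgebra E hE
  have hAE := Groth.Agent.EssEtLib.isLocalHom_algebraMap hE
  have hle : D ≤ E := by
    intro x hx
    have hmem : algebraMap D (FractionRing D) ⟨x, hx⟩ ∈ Subfield.closure
        (Set.range (algebraMap A (FractionRing D)) ∪ (algebraMap D (FractionRing D)) '' (s : Set D)) :=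
      hs ▸ Subfield.mem_top _
    obtain ⟨u, hu, v, hv, huv⟩ := Subfield.mem_closure_iff.mp hmem
    have hsub : ∀ z ∈ Subring.closure (Set.range (algebraMap A (FractionRing D)) ∪
        (algebraMap D (FractionRing D)) '' (s : Set D)),
        ∃ d : D, (d : S) ∈ E ∧ algebraMap D (FractionRing D) d = z := by
      intro z hz
      refine Subring.closure_le (t := (E.comap D.val).toSubring.map (algebraMap D (FractionRing D))) |>.mpr ?_ hz
      rintro w (⟨a, rfl⟩ | ⟨d, hd, rfl⟩)
      · exact ⟨algebraMap A D a, E.algebraMap_mem a, (IsScalarTower.algebraMap_apply A D (FractionRing D) a).symm⟩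
      · exact ⟨d, hsE (Finset.mem_coe.mpr (Finset.mem_image_of_mem _ hd)), rfl⟩
    obtain ⟨du, hdu, rfl⟩ := hsub u hu
    obtain ⟨dv, hdv, rfl⟩ := hsub v hv
    by_cases hv0 : dv = 0
    · rw [hv0, map_zero, div_zero] at huv
      have := congrArg Subtype.val
        (IsFractionRing.injective D (FractionRing D) (huv.symm.trans (map_zero _).symm))
      rw [show x = 0 from this]
      exact zero_mem _
    have h1 : x * (dv : S) = du := congrArg Subtype.val
      (IsFractionRing.injective D (FractionRing D) (a₁ := (⟨x, hx⟩ : D) * dv) (a₂ := du) (by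
        rw [map_mul, ← huv, div_mul_cancel₀]
        exact fun h => hv0 (IsFractionRing.injective D (FractionRing D) (h.trans (map_zero _).symm))))
    have h2 : (⟨_, hdu⟩ : E) ∈ ((Ideal.span {(⟨_, hdv⟩ : E)}).map (algebraMap E S)).comap (algebraMap E S) := by
      rw [Ideal.mem_comap, Ideal.map_span, Set.image_singleton]
      exact Ideal.mem_span_singleton'.mpr ⟨x, h1⟩
    rw [Ideal.comap_map_eq_self_of_faithfullyFlat, Ideal.mem_span_singleton'] at h2
    obtain ⟨e, he⟩ := h2
    have h3 : (e : S) = x := mul_right_cancel₀ (fun h => hv0 (Subtype.ext h))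
      ((congrArg Subtype.val he).trans h1.symm)
    exact h3 ▸ e.2
  -- the fraction field of `D` is finite over that of `A`
  obtain ⟨-, t, ht⟩ := Groth.Agent.S16448.result A E hmin hE
  haveI : IsDomain E := inferInstance
  haveI : FaithfulSMul A (FractionRing D) := (faithfulSMul_iff_algebraMap_injective _ _).mpr (by
    rw [IsScalarTower.algebraMap_eq A D (FractionRing D)]
    exact (IsFractionRing.injective D (FractionRing D)).comp hAD)
  have hAEinj : Function.Injective (algebraMap A E) := fun a b h =>
    FaithfulSMul.algebraMap_injective A S (congrArg Subtype.val h)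
  haveI : FaithfulSMul A (FractionRing E) := (faithfulSMul_iff_algebraMap_injective _ _).mpr (by
    rw [IsScalarTower.algebraMap_eq A E (FractionRing E)]
    exact (IsFractionRing.injective E (FractionRing E)).comp hAEinj)
  letI := FractionRing.liftAlgebra A (FractionRing D)
  letI := FractionRing.liftAlgebra A (FractionRing E)
  haveI : FiniteDimensional (FractionRing A) (FractionRing E) := by
    refine ⟨⟨t, eq_top_iff.mpr fun x _ => ?_⟩⟩
    obtain ⟨a, ha, hax⟩ := ht x
    have h1 : algebraMap A (FractionRing E) a * x ∈
        Submodule.span (FractionRing A) (t : Set (FractionRing E)) :=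
      Submodule.span_le_restrictScalars A (FractionRing A) _ hax
    have h2 := Submodule.smul_mem _ ((algebraMap A (FractionRing A) a)⁻¹) h1
    rwa [Algebra.smul_def, ← mul_assoc, map_inv₀, ← IsScalarTower.algebraMap_apply, inv_mul_cancel₀,
      one_mul] at h2
    exact fun h => nonZeroDivisors.ne_zero ha (FaithfulSMul.algebraMap_injective A (FractionRing E) (h.trans (map_zero _).symm))
  let ι : D →ₐ[A] E := Subalgebra.inclusion hle
  let ιF : FractionRing D →+* FractionRing E :=
    IsFractionRing.map (j := ι.toRingHom) (Subalgebra.inclusion_injective hle)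
  have hιF : ∀ d, ιF (algebraMap D (FractionRing D) d) = algebraMap E (FractionRing E) (ι d) := fun d =>
    IsLocalization.map_eq _ d
  have hιA : ∀ a, ιF (algebraMap A (FractionRing D) a) = algebraMap A (FractionRing E) a := fun a => by
    rw [IsScalarTower.algebraMap_apply A D (FractionRing D), hιF, ι.commutes,
      ← IsScalarTower.algebraMap_apply]
  have hιK : ∀ k : FractionRing A, ιF (algebraMap _ (FractionRing D) k) = algebraMap _ _ k := fun k => by
    obtain ⟨a, b, -, rfl⟩ := IsFractionRing.div_surjective A k
    simp only [map_div₀, ← IsScalarTower.algebraMap_apply, hιA]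
  haveI : FiniteDimensional (FractionRing A) (FractionRing D) :=
    FiniteDimensional.of_injective
      ({ ιF with commutes' := hιK } : FractionRing D →ₐ[FractionRing A] FractionRing E).toLinearMap
      ιF.injective
  -- the normalisation of `A` in the fraction field
  have hNag := Groth.Agent.CompleteNagata.isNagata_of_isQuasiExcellent A ⟨hA.1, hA.2.2.1, hA.2.2.2⟩
  haveI : Module.Finite A (integralClosure A (FractionRing D)) :=
    Groth.Agent.N12Aux.isN2_of_isNagata hNag (FractionRing D) inferInstance
  let N₀ := integralClosure A (FractionRing D)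
  haveI : IsFractionRing N₀ (FractionRing D) :=
    IsIntegralClosure.isFractionRing_of_finite_extension A (FractionRing A) (FractionRing D) N₀
  haveI : IsIntegrallyClosed N₀ :=
    integralClosure.isIntegrallyClosedOfFiniteExtension (FractionRing A)
  have hj : ∀ x : N₀, ∃ d : D, algebraMap D (FractionRing D) d = x := fun x =>
    IsIntegrallyClosed.isIntegral_iff.mp (x.2.tower_top (A := D))
  choose j hj using hj
  have hinjF := IsFractionRing.injective D (FractionRing D)
  let jA : N₀ →ₐ[A] D :=
    { toFun := j
      map_one' := hinjF (by rw [hj, map_one]; rfl)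
      map_mul' := fun x y => hinjF (by rw [hj, map_mul, hj, hj]; rfl)
      map_zero' := hinjF (by rw [hj, map_zero]; rfl)
      map_add' := fun x y => hinjF (by rw [hj, map_add, hj, hj]; rfl)
      commutes' := fun a => hinjF (by rw [hj, ← IsScalarTower.algebraMap_apply]; rfl) }
  let n : Ideal N₀ := (IsLocalRing.maximalIdeal D).comap jA
  have hu : ∀ y : n.primeCompl, IsUnit (jA y) := fun y => IsLocalRing.notMem_maximalIdeal.mp y.2
  let Φ : Localization.AtPrime n →ₐ[A] D := IsLocalization.liftAlgHom (f := jA) hu
  have hΦ : ∀ c, Φ (algebraMap N₀ (Localization.AtPrime n) c) = jA c := fun c => IsLocalization.lift_eq _ c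
  haveI hΦl : IsLocalHom Φ.toRingHom := by
    refine ⟨fun z hz => ?_⟩
    obtain ⟨c, w, rfl⟩ := IsLocalization.exists_mk'_eq n.primeCompl z
    rw [IsLocalization.AtPrime.isUnit_mk'_iff]
    intro hc
    refine (IsLocalRing.mem_maximalIdeal _).mp (Ideal.mem_comap.mp hc) ?_
    rw [← hΦ, ← IsLocalization.mk'_spec (Localization.AtPrime n) c w, map_mul]
    exact IsUnit.mul hz (by rw [hΦ]; exact hu w)
  haveI : IsDomain (Localization.AtPrime n) :=
    IsLocalization.isDomain_localization n.primeCompl_le_nonZeroDivisors
  haveI : IsIntegrallyClosed (Localization.AtPrime n) :=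
    isIntegrallyClosed_of_isLocalization _ n.primeCompl n.primeCompl_le_nonZeroDivisors
  have hΦinj : Function.Injective Φ := by
    rw [injective_iff_map_eq_zero]
    intro z hz
    obtain ⟨c, w, rfl⟩ := IsLocalization.exists_mk'_eq n.primeCompl z
    have h1 : jA c = 0 := by
      rw [← hΦ, ← IsLocalization.mk'_spec (Localization.AtPrime n) c w, map_mul, hz, zero_mul]
    have h2 : c = 0 := Subtype.ext ((hj c).symm.trans (by rw [show j c = 0 from h1, map_zero]; rfl))
    rw [h2, IsLocalization.mk'_zero]
  -- `E` is étale over the localisation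
  let χ : Localization.AtPrime n →ₐ[A] E := ι.comp Φ
  letI : Algebra (Localization.AtPrime n) E := χ.toRingHom.toAlgebra
  haveI : IsScalarTower A (Localization.AtPrime n) E :=
    IsScalarTower.of_algebraMap_eq fun a => (χ.commutes a).symm
  haveI hχl : IsLocalHom (algebraMap (Localization.AtPrime n) E) := by
    refine ⟨fun z hz => hΦl.map_nonunit z (isUnit_of_map_unit (algebraMap D S) _ ?_)⟩
    exact hz.map E.val
  haveI := Groth.Agent.EtAlg7.essFiniteType hE
  haveI := Groth.Agent.EtAlg7.formallyUnramified hE
  haveI : Algebra.EssFiniteType (Localization.AtPrime n) E :=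
    Algebra.EssFiniteType.of_comp A (Localization.AtPrime n) E
  haveI : Algebra.FormallyUnramified (Localization.AtPrime n) E :=
    Algebra.FormallyUnramified.of_restrictScalars A _ _
  haveI : Module.Flat (Localization.AtPrime n) E :=
    Groth.Agent.H1EssEt.flat_of_formallyUnramified_normal (Localization.AtPrime n) E
      ((Subalgebra.inclusion_injective hle).comp hΦinj)
  haveI : Module.FaithfullyFlat (Localization.AtPrime n) E := Module.FaithfullyFlat.of_flat_of_isLocalHom
  have hΦsurj : Function.Surjective Φ := by
    intro d
    obtain ⟨a, b, hb, hab⟩ := IsFractionRing.div_surjective N₀ (algebraMap D (FractionRing D) d)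
    have hb0 : (b : FractionRing D) ≠ 0 := fun h => nonZeroDivisors.ne_zero hb (Subtype.ext h)
    have h1 : jA b * d = jA a := hinjF (by
      rw [map_mul, show jA b = j b from rfl, show jA a = j a from rfl, hj, hj, ← hab]
      exact mul_div_cancel₀ _ hb0)
    obtain ⟨c, hc⟩ := exists_mul_eq_of_faithfullyFlat (R := Localization.AtPrime n) (T := E)
        (a := algebraMap N₀ (Localization.AtPrime n) a) (b := algebraMap N₀ (Localization.AtPrime n) b)
        (t := ι d) (by
      show ι d * ι (Φ _) = ι (Φ _)
      rw [hΦ, hΦ, ← map_mul, mul_comm, h1])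
    refine ⟨c, ?_⟩
    have h3 := congrArg Φ hc
    rw [map_mul, hΦ, hΦ, ← h1, mul_comm (jA b)] at h3
    exact mul_right_cancel₀ (fun h => hb0 (by rw [← hj b, show j b = 0 from h, map_zero])) h3
  -- conclusion
  let e : Localization.AtPrime n ≃ₐ[A] D := AlgEquiv.ofBijective Φ ⟨hΦinj, hΦsurj⟩
  haveI : Algebra.EssFiniteType A (Localization.AtPrime n) :=
    haveI : Algebra.EssFiniteType N₀ (Localization.AtPrime n) := Algebra.EssFiniteType.of_isLocalization _ n.primeCompl
    Algebra.EssFiniteType.comp A N₀ (Localization.AtPrime n)
  haveI : Algebra.EssFiniteType A D := (Algebra.EssFiniteType.iff_of_algEquiv (R := A) (S := Localization.AtPrime n) (T := D) e).mp inferInstance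
  have hm : Ideal.map (algebraMap A D) (IsLocalRing.maximalIdeal A) = IsLocalRing.maximalIdeal D := by
    have hN : Ideal.map (algebraMap A (Localization.AtPrime n)) (IsLocalRing.maximalIdeal A) =
        IsLocalRing.maximalIdeal (Localization.AtPrime n) := by
      refine le_antisymm (Ideal.map_le_iff_le_comap.mpr fun a ha hu' => ha ?_) fun z hz => ?_
      · have : IsUnit (algebraMap A E a) := by
          rw [IsScalarTower.algebraMap_apply A (Localization.AtPrime n) E]
          exact hu'.map _
        exact hAE.map_nonunit a this
      · refine mem_of_algebraMap_mem_map (R := Localization.AtPrime n) (T := E) _ ?_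
        rw [Ideal.map_map, ← IsScalarTower.algebraMap_eq, Groth.Agent.EtAlg7.map_maximalIdeal hE]
        exact fun h => hz (hχl.map_nonunit z h)
    rw [← e.toAlgHom.comp_algebraMap, ← Ideal.map_map, hN]
    refine le_antisymm (Ideal.map_le_iff_le_comap.mpr fun z hz hu' => hz (hΦl.map_nonunit z hu')) fun d hd => ?_
    obtain ⟨z, rfl⟩ := e.surjective d
    exact Ideal.mem_map_of_mem _ fun h => hd (h.map e)
  exact Groth.Agent.S16438.result A S D hm

end Groth.Agent.S16432
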