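import Groth.Statements.S16433
import Groth.Agent.S16432

set_option autoImplicit false
universe u
open EGA4loc

namespace Groth.Agent.S16433

/-- Let A be an excellent normal local domain and S a strict henselization of A; let D be an
A-subalgebra of S which is a local ring dominated by S (the inclusion is a local homomorphism) and
an integrally closed domain. Then D is a directed union of local etale extensions of A: every finite
subset of D is contained in an A-subalgebra D' of S with D' contained in D, D' a local ring whose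
inclusion into S is local, and D' an essentially etale local A-algebra (a localization of an etale
A-algebra at a prime over the maximal ideal). -/
theorem result
    (A S : Type u) [CommRing A] [IsLocalRing A] [IsDomain A] [IsIntegrallyClosed A]
    (hA : EGA4.IsExcellent A) [CommRing S] [IsLocalRing S] [Algebra A S] [IsLocalHom (algebraMap A S)]
    [Hensel.IsStrictHenselization A S] (D : Subalgebra A S) [IsLocalRing D]
    [IsLocalHom (algebraMap D S)] [IsDomain D] [IsIntegrallyClosed D]
    (s : Finset S) (hs : (s : Set S) ⊆ (D : Set S)) :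
    ∃ D' : Subalgebra A S, D' ≤ D ∧ (s : Set S) ⊆ (D' : Set S) ∧
      ∃ _ : IsLocalRing D', IsLocalHom (algebraMap D' S) ∧ EGA4loc.IsEssentiallyEtale A D' := by
  classical
  let F := FractionRing D
  let g : D →ₐ[A] F := IsScalarTower.toAlgHom A D F
  have hg : Function.Injective g := IsFractionRing.injective D F
  let L : Subfield F := Subfield.closure (Set.range (algebraMap A F) ∪
    (fun x : s => g ⟨x.1, hs x.2⟩) '' Set.univ)
  let LA : Subalgebra A F :=
    { L.toSubsemiring with algebraMap_mem' := fun a => Subfield.subset_closure (Or.inl ⟨a, rfl⟩) }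
  let D₁ : Subalgebra A D := LA.comap g
  let D' : Subalgebra A S := D₁.map D.val
  have hle : D' ≤ D := by
    intro x hx
    obtain ⟨d, -, rfl⟩ := Subalgebra.mem_map.mp hx
    exact d.2
  have hmem : ∀ (x : D), ((x : S) ∈ D') ↔ g x ∈ L := by
    intro x
    refine ⟨fun h => ?_, fun h => Subalgebra.mem_map.mpr ⟨x, h, rfl⟩⟩
    obtain ⟨d, hd, hdx⟩ := Subalgebra.mem_map.mp h
    have : d = x := Subtype.ext hdx
    exact this ▸ hd
  let ι : D' →ₐ[A] D := Subalgebra.inclusion hle
  have hιL : ∀ x : D', g (ι x) ∈ L := fun x => (hmem (ι x)).mp x.2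
  have hsub : (s : Set S) ⊆ (D' : Set S) := fun x hx =>
    (hmem ⟨x, hs hx⟩).mpr (Subfield.subset_closure (Or.inr ⟨⟨x, hx⟩, trivial, rfl⟩))
  have hunit : ∀ x : D', IsUnit (x : S) → IsUnit x := by
    intro x hx
    obtain ⟨w, hw⟩ := isUnit_of_map_unit (algebraMap D S) (ι x) hx
    have hmul : ι x * (w⁻¹ : Dˣ) = 1 := by rw [← hw]; exact w.mul_inv
    have hinv : g (w⁻¹ : Dˣ) = (g (ι x))⁻¹ := by
      refine eq_inv_of_mul_eq_one_right ?_
      rw [← map_mul, hmul, map_one]
    refine IsUnit.of_mul_eq_one ⟨((w⁻¹ : Dˣ) : D), (hmem _).mpr (hinv ▸ inv_mem (hιL x))⟩ (Subtype.ext ?_)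
    exact congrArg (Subtype.val : D → S) hmul
  haveI : Nontrivial D' := inferInstance
  haveI hloc : IsLocalRing D' := by
    refine IsLocalRing.of_isUnit_or_isUnit_one_sub_self fun x => ?_
    rcases IsLocalRing.isUnit_or_isUnit_one_sub_self ((x : D') : S) with h | h
    · exact Or.inl (hunit x h)
    · exact Or.inr (hunit (1 - x) h)
  haveI hlh : IsLocalHom (algebraMap D' S) := ⟨fun x hx => hunit x hx⟩
  haveI : IsDomain D' := (Subalgebra.inclusion_injective hle).isDomain ι.toRingHom
  let ιF : FractionRing D' →+* F :=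
    IsFractionRing.map (j := ι.toRingHom) (Subalgebra.inclusion_injective hle)
  have hιF : ∀ d, ιF (algebraMap D' (FractionRing D') d) = g (ι d) := fun d => IsLocalization.map_eq _ d
  have hιFL : ∀ y, ιF y ∈ L := by
    intro y
    obtain ⟨a, b, -, rfl⟩ := IsFractionRing.div_surjective D' y
    rw [map_div₀, hιF, hιF]
    exact div_mem (hιL a) (hιL b)
  haveI : IsIntegrallyClosed D' := by
    refine (isIntegrallyClosed_iff (FractionRing D')).mpr fun {y} hy => ?_
    have h1 : IsIntegral D (ιF y) := by
      obtain ⟨p, hp, hpy⟩ := hy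
      refine ⟨p.map ι.toRingHom, hp.map _, ?_⟩
      rw [Polynomial.eval₂_map]
      have h2 := congrArg ιF hpy
      rw [Polynomial.hom_eval₂, map_zero] at h2
      rw [show (algebraMap D F).comp ι.toRingHom = ιF.comp (algebraMap D' (FractionRing D')) from
        RingHom.ext fun d => (hιF d).symm]
      exact h2
    obtain ⟨d, hd⟩ := IsIntegrallyClosed.isIntegral_iff.mp h1
    refine ⟨⟨d, (hmem d).mpr ?_⟩, ιF.injective ?_⟩
    · show algebraMap D F d ∈ L
      rw [hd]; exact hιFL y
    · rw [hιF]
      exact hd
  have hfg : ∃ t : Finset D', Subfield.closure (Set.range (algebraMap A (FractionRing D')) ∪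
      (algebraMap D' (FractionRing D')) '' (t : Set D')) = ⊤ := by
    refine ⟨Finset.univ.image fun x : s => ⟨x.1, hsub x.2⟩, ?_⟩
    refine eq_top_iff.mpr fun y _ => ?_
    set M := Subfield.closure (Set.range (algebraMap A (FractionRing D')) ∪
      (algebraMap D' (FractionRing D')) ''
        ((Finset.univ.image fun x : s => (⟨x.1, hsub x.2⟩ : D')) : Finset D')) with hM
    have hLM : L ≤ M.map ιF := by
      refine Subfield.closure_le.mpr ?_
      rintro z (⟨a, rfl⟩ | ⟨x, -, rfl⟩)
      · refine ⟨algebraMap A (FractionRing D') a, Subfield.subset_closure (Or.inl ⟨a, rfl⟩), ?_⟩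
        rw [IsScalarTower.algebraMap_apply A D' (FractionRing D'), hιF, AlgHom.commutes,
          AlgHom.commutes]
      · exact ⟨_, Subfield.subset_closure (Or.inr ⟨⟨x.1, hsub x.2⟩,
          Finset.mem_coe.mpr (Finset.mem_image_of_mem _ (Finset.mem_univ x)), rfl⟩), hιF _⟩
    obtain ⟨y', hy', he⟩ := hLM (hιFL y)
    exact ιF.injective he ▸ hy'
  exact ⟨D', hle, hsub, hloc, hlh, Groth.Agent.S16432.result A S hA D' hfg⟩

end Groth.Agent.S16433
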