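import Groth.Statements.S16435
import Groth.Agent.H1EssEt.NoethCriterion
import Groth.Agent.H1EssEt.NagataFinite
import Groth.Agent.CompleteNagata.Global

set_option autoImplicit false
universe u
open Hensel

namespace Groth.Agent.S16435

set_option maxHeartbeats 2000000 in
set_option synthInstance.maxHeartbeats 200000 in
/-- Let A be an excellent henselian reduced local ring, S a strict henselization of A and D any
A-subalgebra of S (an intermediate ring between A and S). Write D' for the integral closure of D in
its total ring of fractions. Then D is Noetherian if and only if, for every maximal ideal M of D'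
with residue field l, writing k_0 for the subfield of l generated by the image of D (it is the image
itself, a copy of the residue field of the local ring D), the separable closure of k_0 in l has
finite degree over k_0. -/
theorem result
    (A S : Type u) [CommRing A] [HenselianLocalRing A] [IsReduced A] (hA : EGA4.IsExcellent A)
    [CommRing S] [IsLocalRing S] [Algebra A S] [IsLocalHom (algebraMap A S)]
    [Hensel.IsStrictHenselization A S] (D : Subalgebra A S) :
    IsNoetherianRing D ↔
      ∀ (M : Ideal (integralClosure D (FractionRing D))) [M.IsMaximal],
        FiniteDimensional (Subfield.closure (Set.range ((algebraMap (integralClosure D (FractionRing D)) M.ResidueField).comp (algebraMap D (integralClosure D (FractionRing D)))))) (separableClosure (Subfield.closure (Set.range ((algebraMap (integralClosure D (FractionRing D)) M.ResidueField).comp (algebraMap D (integralClosure D (FractionRing D)))))) M.ResidueField) := by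
  haveI : IsNoetherianRing A := hA.1
  haveI := (H1EssEt.isLocalHom_subalgebra D).1
  constructor
  · intro hD M _
    haveI : IsArtinianRing (FractionRing A) :=
      EssEtFrac5.isArtinianRing_fractionRing (minimalPrimes.finite_of_isNoetherianRing A)
    haveI : IsReduced (FractionRing A) := isReduced_localizationPreserves (nonZeroDivisors A) _ inferInstance
    haveI : Module.Finite A (integralClosure A (FractionRing A)) :=
      H1EssEt.finite_integralClosure A (CompleteNagata.isNagata_of_isQuasiExcellent A ⟨hA.1, hA.2.2.1, hA.2.2.2⟩)
        (FractionRing A)
    haveI := H1EssEt.finite_integralClosure_subalgebra D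
    exact H1EssEt.finiteDimensional_separableClosure_of_finite M
  · intro h
    haveI := (H1EssEt.isLocalHom_subalgebra D).2
    haveI : IsLocalHom (algebraMap A D) :=
      ⟨fun a ha => isUnit_of_map_unit (algebraMap A S) a (ha.map D.val)⟩
    haveI : IsScalarTower (IsLocalRing.ResidueField A) (IsLocalRing.ResidueField D) (IsLocalRing.ResidueField S) :=
      IsScalarTower.of_algebraMap_eq fun a => by
        obtain ⟨a, rfl⟩ := IsLocalRing.residue_surjective a
        rfl
    haveI : Algebra.IsSeparable (IsLocalRing.ResidueField A) (IsLocalRing.ResidueField S) :=
      (_root_.Hensel.IsStrictHenselization.isSepClosure (R := A) (S := S)).separable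
    haveI : Algebra.IsSeparable (IsLocalRing.ResidueField A) (IsLocalRing.ResidueField D) :=
      Algebra.isSeparable_tower_bot_of_isSeparable _ _ (IsLocalRing.ResidueField S)
    exact H1EssEt.isNoetherianRing_of_sepGen D fun M _ => H1EssEt.sepGen_of_finiteDimensional M (h M)

end Groth.Agent.S16435
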