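import Groth.Statements.S16437
import Groth.Agent.H1EssEt.SepCount
import Groth.Agent.H1EssEt.NagataFinite
import Groth.Agent.CompleteNagata.Global

set_option autoImplicit false
universe u
open Hensel

namespace Groth.Agent.S16437

open IsLocalRing in
set_option maxHeartbeats 4000000 in
set_option synthInstance.maxHeartbeats 200000 in
/-- Let A be an excellent henselian local domain with residue field k, whose integral closure A' in its
fraction field is a local ring (as it is, A being henselian) with local inclusion A → A' and residue
field k'; let k^s be the separable closure of k in k', S a strict henselization of A, and E a local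
ring which is an essentially etale local A-algebra with local structure map, together with an
A-algebra map E → S. Then every minimal prime ideal of S is generated by its contraction to E if and
only if the number of k-algebra maps from k^s to the residue field of E equals the degree [k^s : k];
equivalently, the minimal polynomial of a primitive element of k^s over k splits into linear factors
over the residue field of E. -/
theorem result
    (A S E : Type u) [CommRing A] [HenselianLocalRing A] [IsDomain A] (hA : EGA4.IsExcellent A)
    [IsLocalRing (integralClosure A (FractionRing A))] [IsLocalHom (algebraMap A (integralClosure A (FractionRing A)))]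
    [CommRing S] [IsLocalRing S] [Algebra A S] [IsLocalHom (algebraMap A S)]
    [Hensel.IsStrictHenselization A S]
    [CommRing E] [IsLocalRing E] [Algebra A E] [IsLocalHom (algebraMap A E)]
    (hE : EGA4loc.IsEssentiallyEtale A E) [Algebra E S] [IsScalarTower A E S] :
    (∀ Q ∈ minimalPrimes S, Q = Ideal.map (algebraMap E S) (Q.comap (algebraMap E S))) ↔
      Nat.card (separableClosure (ResidueField A) (ResidueField (integralClosure A (FractionRing A))) →ₐ[ResidueField A]
          ResidueField E) =
        Module.finrank (ResidueField A)
          (separableClosure (ResidueField A) (ResidueField (integralClosure A (FractionRing A)))) := by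
  classical
  haveI : IsNoetherianRing A := hA.1
  haveI := H1EssEt.isReduced_of_isEssentiallyEtale hE
  haveI : IsLocalHom (algebraMap E S) :=
    EtAlg7.isLocalHom_algHom hE (IsScalarTower.toAlgHom A E S)
  haveI := EtAlg7.formallyUnramified hE
  haveI := EtAlg7.essFiniteType hE
  haveI : Module.Finite A E := by
    obtain ⟨C, _, _, q, _, _, hq, ⟨e⟩⟩ := id hE
    haveI : q.LiesOver (IsLocalRing.maximalIdeal A) := ⟨hq.symm⟩
    haveI := Hensel.exists_finite_localization_of_quasiFiniteAt A q
    exact Module.Finite.equiv e.symm.toLinearEquiv
  haveI : HenselianLocalRing E := Hensel.henselianLocalRing_of_finite A E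
  haveI : IsNoetherianRing E := IsNoetherianRing.of_finite A E
  haveI : IsNoetherianRing S := H1Gal.isNoetherianRing A
  haveI : _root_.Hensel.IsStrictHenselization E S := H1EssEt.isStrictHenselization_tower A S E
  haveI : Module.Finite A (integralClosure A (FractionRing A)) :=
    H1EssEt.finite_integralClosure A (CompleteNagata.isNagata_of_isQuasiExcellent A ⟨hA.1, hA.2.2.1, hA.2.2.2⟩)
      (FractionRing A)
  obtain ⟨ν, hν⟩ := H1EssEt.exists_equiv_integralClosure A E (minimalPrimes.finite_of_isNoetherianRing A) hE
  rw [← H1EssEt.forall_pi_iff_natCard A E _ _ ν hν]
  refine Iff.trans ⟨fun h Q hQ Q' hQ' hQQ' => (h Q hQ).trans ((congrArg _ hQQ').trans (h Q' hQ').symm),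
    fun h Q hQ => H1EssEt.eq_map_comap_of_injOn E S h Q hQ⟩ ((H1EssEt.injOn_minimalPrimes_iff E S).trans ?_)
  exact (H1EssEt.forall_pi_iff_forall_subsingleton_emb E).symm

end Groth.Agent.S16437
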