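import Groth.Statements.S16441
import Groth.Agent.H1EssEt.Fraction

set_option autoImplicit false
universe u
open EGA4loc

namespace Groth.Agent.S16441

set_option maxHeartbeats 1000000 in
/-- Let A be a reduced local ring with finitely many minimal prime ideals, S a strict henselization of
A, and D an A-subalgebra of S which is a local ring dominated by S (local inclusion). Then the total
ring of fractions K_D of D is finitely generated over that of A — there is a finite subset t of K_D
such that every element of K_D, multiplied by (the image of) some non-zero-divisor of A, is a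
polynomial expression in t with coefficients from A — if and only if D is contained in some
A-subalgebra E of S which is a local ring and an essentially etale local A-algebra (a localization
of an etale A-algebra at a prime over the maximal ideal). -/
theorem result
    (A S : Type u) [CommRing A] [IsLocalRing A] [IsReduced A] (hmin : (minimalPrimes A).Finite)
    [CommRing S] [IsLocalRing S] [Algebra A S] [IsLocalHom (algebraMap A S)]
    [Hensel.IsStrictHenselization A S] (D : Subalgebra A S) [IsLocalRing D]
    [IsLocalHom (algebraMap D S)] :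
    (∃ t : Finset (FractionRing D), ∀ x : FractionRing D, ∃ a ∈ nonZeroDivisors A,
        algebraMap A (FractionRing D) a * x ∈ Algebra.adjoin A (t : Set (FractionRing D))) ↔
      ∃ E : Subalgebra A S, D ≤ E ∧ ∃ _ : IsLocalRing E, EGA4loc.IsEssentiallyEtale A E := by
  classical
  have hD : ∀ x : FractionRing D, ∃ a ∈ nonZeroDivisors A, ∃ d : D,
      algebraMap A (FractionRing D) a * x = algebraMap D (FractionRing D) d := by
    intro x
    obtain ⟨⟨d, ⟨s, hs⟩⟩, hx⟩ := IsLocalization.surj (nonZeroDivisors D) x
    obtain ⟨a, ha, e, he⟩ := Groth.Agent.H1EssEt.exists_mul_eq_algebraMap hmin D hs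
    refine ⟨a, ha, d * e, ?_⟩
    rw [IsScalarTower.algebraMap_apply A D (FractionRing D), ← he, map_mul, map_mul, ← hx]
    ring
  constructor
  · rintro ⟨t, ht⟩
    choose a ha d hd using hD
    obtain ⟨E, hsE, hEloc, hEl, hE⟩ :=
      Groth.Agent.H1EssEt.exists_subalgebra_ge (A := A) (t.image fun x => ((d x : D) : S))
    haveI := hEl
    refine ⟨E, fun x hx => ?_, hEloc, hE⟩
    have key : ∀ z ∈ Algebra.adjoin A (t : Set (FractionRing D)), ∃ c ∈ nonZeroDivisors A, ∃ e : D,
        (e : S) ∈ E ∧ algebraMap A (FractionRing D) c * z = algebraMap D (FractionRing D) e := by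
      intro z hz
      induction hz using Algebra.adjoin_induction with
      | mem z hz => exact ⟨a z, ha z, d z, hsE (Finset.mem_coe.mpr (Finset.mem_image_of_mem _ hz)), hd z⟩
      | algebraMap r => exact ⟨1, one_mem _, algebraMap A D r, E.algebraMap_mem r, by
          rw [map_one, one_mul, ← IsScalarTower.algebraMap_apply]⟩
      | add y z _ _ hy hz =>
        obtain ⟨c, hc, e, he, hce⟩ := hy
        obtain ⟨c', hc', e', he', hce'⟩ := hz
        refine ⟨c * c', mul_mem hc hc', algebraMap A D c' * e + algebraMap A D c * e',
          add_mem (mul_mem (E.algebraMap_mem c') he) (mul_mem (E.algebraMap_mem c) he'), ?_⟩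
        rw [map_add, map_mul, map_mul, map_mul, ← IsScalarTower.algebraMap_apply,
          ← IsScalarTower.algebraMap_apply, ← hce, ← hce']
        ring
      | mul y z _ _ hy hz =>
        obtain ⟨c, hc, e, he, hce⟩ := hy
        obtain ⟨c', hc', e', he', hce'⟩ := hz
        refine ⟨c * c', mul_mem hc hc', e * e', mul_mem he he', ?_⟩
        rw [map_mul, map_mul, ← hce, ← hce']
        ring
    obtain ⟨b, hb, hbx⟩ := ht (algebraMap D (FractionRing D) ⟨x, hx⟩)
    obtain ⟨c, hc, e, he, hce⟩ := key _ hbx
    refine Groth.Agent.H1EssEt.mem_of_mul_mem E hE (mul_mem hc hb) ?_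
    have h1 : algebraMap A D (c * b) * ⟨x, hx⟩ = e := by
      apply IsFractionRing.injective D (FractionRing D)
      rw [map_mul, ← IsScalarTower.algebraMap_apply, map_mul, mul_assoc]
      exact hce
    have h2 : algebraMap A S (c * b) * x = (e : S) := congrArg Subtype.val h1
    rw [h2]
    exact he
  · rintro ⟨E, hle, hEloc, hE⟩
    haveI := Groth.Agent.EssEtLib.isLocalHom_algebraMap hE
    haveI := Groth.Agent.EssEtFrac5.isArtinianRing_fractionRing hmin
    obtain ⟨hloc, t, ht⟩ := Groth.Agent.S16448.result A E hmin hE
    let ι : D →ₐ[A] FractionRing E := (IsScalarTower.toAlgHom A E (FractionRing E)).comp (Subalgebra.inclusion hle)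
    have hι : Function.Injective ι :=
      (IsFractionRing.injective E (FractionRing E)).comp (Subalgebra.inclusion_injective hle)
    have hu : ∀ a : nonZeroDivisors A, IsUnit ((algebraMap A (FractionRing E)) a) := fun a => by
      rw [IsScalarTower.algebraMap_apply A E (FractionRing E)]
      exact IsLocalization.map_units (M := (nonZeroDivisors A).map (algebraMap A E)) _
        ⟨_, Submonoid.mem_map_of_mem _ a.2⟩
    letI : Algebra (FractionRing A) (FractionRing E) := (IsLocalization.lift hu).toAlgebra
    haveI : IsScalarTower A (FractionRing A) (FractionRing E) :=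
      IsScalarTower.of_algebraMap_eq' (IsLocalization.lift_comp hu).symm
    haveI : Module.Finite (FractionRing A) (FractionRing E) := by
      refine ⟨⟨t, eq_top_iff.mpr fun x _ => ?_⟩⟩
      obtain ⟨a, ha, hax⟩ := ht x
      have h1 : algebraMap A (FractionRing E) a * x ∈
          Submodule.span (FractionRing A) (t : Set (FractionRing E)) :=
        Submodule.span_le_restrictScalars A (FractionRing A) _ hax
      have h2 := Submodule.smul_mem _ (IsLocalization.mk' (FractionRing A) 1 ⟨a, ha⟩) h1
      have h3 : IsLocalization.mk' (FractionRing A) 1 (⟨a, ha⟩ : nonZeroDivisors A) *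
          algebraMap A (FractionRing A) a = 1 := by
        simpa using IsLocalization.mk'_spec (FractionRing A) 1 (⟨a, ha⟩ : nonZeroDivisors A)
      rwa [Algebra.smul_def, ← mul_assoc, IsScalarTower.algebraMap_apply A (FractionRing A) (FractionRing E),
        ← map_mul, h3, map_one, one_mul] at h2
    haveI : IsNoetherianRing (FractionRing A) := inferInstance
    have hfg : (Submodule.span (FractionRing A) (Set.range ι)).FG := IsNoetherian.noetherian _
    obtain ⟨G, hG, hGspan⟩ := Submodule.fg_span_iff_fg_span_finset_subset _ |>.mp hfg
    choose g hg using fun x : G => hG x.2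
    refine ⟨Finset.univ.image fun x : G => algebraMap D (FractionRing D) (g x), fun x => ?_⟩
    obtain ⟨a, ha, d, hd⟩ := hD x
    have hmem : ι d ∈ Submodule.span (FractionRing A) (Set.range fun x : G => ι (g x)) := by
      have : (Set.range fun x : G => ι (g x)) = (G : Set (FractionRing E)) := by
        ext z
        refine ⟨?_, fun hz => ⟨⟨z, hz⟩, hg ⟨z, hz⟩⟩⟩
        rintro ⟨x, rfl⟩
        show ι (g x) ∈ G
        rw [hg x]
        exact x.2
      rw [this, ← hGspan]
      exact Submodule.subset_span ⟨d, rfl⟩
    obtain ⟨k, hk⟩ := (Submodule.mem_span_range_iff_exists_fun _).mp hmem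
    obtain ⟨⟨b, hb⟩, hb'⟩ := IsLocalization.exist_integer_multiples_of_finset
      (nonZeroDivisors A) (Finset.univ.image k)
    choose c hc using fun i => hb' (k i) (Finset.mem_image_of_mem _ (Finset.mem_univ i))
    have hbd : algebraMap A D b * d = ∑ i, algebraMap A D (c i) * g i := by
      apply hι
      simp only [map_mul, map_sum, AlgHom.commutes, ← hk, Finset.mul_sum]
      refine Finset.sum_congr rfl fun i _ => ?_
      rw [IsScalarTower.algebraMap_apply A (FractionRing A) (FractionRing E) (c i), hc i,
        Algebra.smul_def, Algebra.smul_def, map_mul, ← IsScalarTower.algebraMap_apply]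
      ring
    refine ⟨b * a, mul_mem hb ha, ?_⟩
    rw [map_mul, mul_assoc, hd, IsScalarTower.algebraMap_apply A D (FractionRing D) b, ← map_mul, hbd,
      map_sum]
    refine sum_mem fun i _ => ?_
    rw [map_mul, ← IsScalarTower.algebraMap_apply]
    exact mul_mem (Subalgebra.algebraMap_mem _ _)
      (Algebra.subset_adjoin (Finset.mem_coe.mpr (Finset.mem_image_of_mem _ (Finset.mem_univ i))))

end Groth.Agent.S16441
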