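import Groth.Statements.S16439
import Groth.Agent.H1EssEt.Intermediate
import Groth.Agent.S16441
import Groth.Agent.S16438

set_option autoImplicit false
universe u
open EGA4loc

namespace Groth.Agent.S16439
open IsLocalRing

open IsLocalRing in
set_option maxHeartbeats 1600000 in
/-- Let A be an excellent reduced local ring with maximal ideal m, S a strict henselization of A, and D
an A-subalgebra of S which is a Noetherian local ring dominated by S (the inclusion is local), whose
total ring of fractions K_D is finitely generated over that of A — there is a finite subset t of K_D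
such that every element of K_D, after multiplication by (the image of) a non-zero-divisor of A, is a
polynomial expression in t with coefficients from A — and such that m D is the maximal ideal of D.
Then D is an essentially etale local A-algebra: A-isomorphic to the localization of an etale
A-algebra at a prime over m. -/
theorem result
    (A S : Type u) [CommRing A] [IsLocalRing A] [IsReduced A] (hA : EGA4.IsExcellent A)
    [CommRing S] [IsLocalRing S] [Algebra A S] [IsLocalHom (algebraMap A S)]
    [Hensel.IsStrictHenselization A S] (D : Subalgebra A S) [IsLocalRing D]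
    [IsLocalHom (algebraMap D S)] [IsNoetherianRing D]
    (hfg : ∃ t : Finset (FractionRing D), ∀ x : FractionRing D, ∃ a ∈ nonZeroDivisors A,
      algebraMap A (FractionRing D) a * x ∈ Algebra.adjoin A (t : Set (FractionRing D)))
    (hm : Ideal.map (algebraMap A D) (maximalIdeal A) = maximalIdeal D) :
    EGA4loc.IsEssentiallyEtale A D := by
  classical
  haveI : IsNoetherianRing A := hA.1
  have hmin : (minimalPrimes A).Finite := minimalPrimes.finite_of_isNoetherianRing A
  obtain ⟨E, hle, _, hE⟩ := (S16441.result A S hmin D).mp hfg
  haveI : IsLocalHom (algebraMap A E) := EssEtLib.isLocalHom_algebraMap hE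
  letI : Algebra D E := (Subalgebra.inclusion hle).toRingHom.toAlgebra
  haveI : IsScalarTower A D E := IsScalarTower.of_algebraMap_eq fun _ => rfl
  have hinj : Function.Injective (algebraMap D E) := Subalgebra.inclusion_injective hle
  haveI : IsLocalHom (algebraMap D E) :=
    ⟨fun d hd => isUnit_of_map_unit (algebraMap D S) d (hd.map (algebraMap E S))⟩
  obtain ⟨C, _, _, q, _, _, _, _, -, hl⟩ := EtAlg7.exists_presentation hE
  haveI : Algebra.FormallyEtale C E := Algebra.FormallyEtale.of_isLocalization q.primeCompl
  haveI : Algebra.FormallyEtale A E := Algebra.FormallyEtale.comp A C E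
  haveI : Algebra.EssFiniteType C E := Algebra.EssFiniteType.of_isLocalization E q.primeCompl
  haveI : Algebra.EssFiniteType A E := Algebra.EssFiniteType.comp A C E
  haveI : IsNoetherianRing E := Algebra.EssFiniteType.isNoetherianRing A E
  haveI : Module.Flat C E := IsLocalization.flat E q.primeCompl
  haveI : Module.Flat A E := Module.Flat.trans A C E
  haveI : Module.Flat D E := H1EssEt.flat_of_map_maximalIdeal A D E hm
  obtain ⟨G₀, hG₀, hflat⟩ := H1EssEt.exists_flat_adjoin A D E hinj
  obtain ⟨t, ht⟩ := hfg
  have hD : ∀ x : FractionRing D, ∃ a ∈ nonZeroDivisors A, ∃ d : D,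
      algebraMap A (FractionRing D) a * x = algebraMap D (FractionRing D) d := by
    intro x
    obtain ⟨⟨d, ⟨s, hs⟩⟩, hx⟩ := IsLocalization.surj (nonZeroDivisors D) x
    obtain ⟨a, ha, e, he⟩ := H1EssEt.exists_mul_eq_algebraMap hmin D hs
    refine ⟨a, ha, d * e, ?_⟩
    rw [IsScalarTower.algebraMap_apply A D (FractionRing D), ← he, map_mul, map_mul, ← hx]
    ring
  choose a ha d hd using hD
  let G : Finset D := hG₀.toFinset ∪ t.image d
  haveI : Module.Flat (Algebra.adjoin A (G : Set D)) E :=
    hflat G fun x hx => Finset.mem_coe.mpr (Finset.mem_union_left _ (hG₀.mem_toFinset.mpr hx))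
  haveI : Algebra.EssFiniteType A D := by
    refine (Algebra.essFiniteType_iff A D).mpr ⟨G, fun x => ?_⟩
    obtain ⟨b, hb, hbx⟩ := ht (algebraMap D (FractionRing D) x)
    have key : ∀ z ∈ Algebra.adjoin A (t : Set (FractionRing D)), ∃ c ∈ nonZeroDivisors A,
        ∃ e ∈ Algebra.adjoin A (G : Set D),
          algebraMap A (FractionRing D) c * z = algebraMap D (FractionRing D) e := by
      intro z hz
      induction hz using Algebra.adjoin_induction with
      | mem z hz => exact ⟨a z, ha z, d z, Algebra.subset_adjoin (Finset.mem_coe.mpr
          (Finset.mem_union_right _ (Finset.mem_image_of_mem _ hz))), hd z⟩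
      | algebraMap r => exact ⟨1, one_mem _, algebraMap A D r, Subalgebra.algebraMap_mem _ r, by
          rw [map_one, one_mul, ← IsScalarTower.algebraMap_apply]⟩
      | add y z _ _ hy hz =>
        obtain ⟨c, hc, e, he, hce⟩ := hy
        obtain ⟨c', hc', e', he', hce'⟩ := hz
        refine ⟨c * c', mul_mem hc hc', algebraMap A D c' * e + algebraMap A D c * e',
          add_mem (mul_mem (Subalgebra.algebraMap_mem _ c') he) (mul_mem (Subalgebra.algebraMap_mem _ c) he'), ?_⟩
        rw [map_add, map_mul, map_mul, map_mul, ← IsScalarTower.algebraMap_apply,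
          ← IsScalarTower.algebraMap_apply, ← hce, ← hce']
        ring
      | mul y z _ _ hy hz =>
        obtain ⟨c, hc, e, he, hce⟩ := hy
        obtain ⟨c', hc', e', he', hce'⟩ := hz
        refine ⟨c * c', mul_mem hc hc', e * e', mul_mem he he', ?_⟩
        rw [map_mul, map_mul, ← hce, ← hce']
        ring
    obtain ⟨c, hc, e, he, hce⟩ := key _ hbx
    have h1 : algebraMap A D (c * b) * x = e := by
      apply IsFractionRing.injective D (FractionRing D)
      rw [map_mul, ← IsScalarTower.algebraMap_apply, map_mul, mul_assoc]
      exact hce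
    let a' : Algebra.adjoin A (G : Set D) := algebraMap A _ (c * b)
    let e' : Algebra.adjoin A (G : Set D) := ⟨e, he⟩
    have hrel : ∑ i : Fin 2, (![a', e'] i) • (![algebraMap D E x, -1] i) = 0 := by
      rw [Fin.sum_univ_two]
      simp only [Matrix.cons_val_zero, Matrix.cons_val_one, Algebra.smul_def]
      rw [mul_neg, mul_one, ← sub_eq_add_neg, sub_eq_zero]
      show algebraMap D E (algebraMap A D (c * b)) * algebraMap D E x = algebraMap D E e
      rw [← map_mul, h1]
    obtain ⟨k, r, y, hy, hr⟩ := Module.Flat.isTrivialRelation_of_sum_smul_eq_zero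
      (R := Algebra.adjoin A (G : Set D)) (M := E) (f := ![a', e']) (x := ![algebraMap D E x, -1]) hrel
    obtain ⟨j, hj⟩ : ∃ j, IsUnit (r 1 j : D) := by
      by_contra! hall
      have h2 : (-1 : E) ∈ maximalIdeal E := by
        rw [show (-1 : E) = ∑ j, r 1 j • y j from hy 1]
        refine Ideal.sum_mem _ fun j _ => ?_
        rw [Algebra.smul_def]
        refine Ideal.mul_mem_right _ _ ((mem_maximalIdeal _).mpr fun h => hall j ?_)
        exact isUnit_of_map_unit (algebraMap D E) _ h
      exact (mem_maximalIdeal _).mp h2 isUnit_one.neg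
    have hr' : algebraMap A D (c * b) * (r 0 j : D) + e * (r 1 j : D) = 0 := by
      have := hr j
      rw [Fin.sum_univ_two] at this
      exact congrArg Subtype.val this
    refine ⟨-(r 1 j : D), neg_mem (r 1 j).2, hj.neg, ?_⟩
    have hxu : x * -(r 1 j : D) = (r 0 j : D) := by
      refine Subtype.ext (H1EssEt.isSMulRegular_algebraMap (S := S) (mul_mem hc hb) ?_)
      show algebraMap A S (c * b) * (x * -(r 1 j : D) : D) = algebraMap A S (c * b) * ((r 0 j : D) : S)
      have h2 : algebraMap A D (c * b) * (x * -(r 1 j : D)) = algebraMap A D (c * b) * (r 0 j : D) := by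
        linear_combination -hr' - (r 1 j : D) * h1
      exact congrArg Subtype.val h2
    rw [hxu]
    exact (r 0 j).2
  exact S16438.result A S D hm

end Groth.Agent.S16439
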