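import Groth.Statements.S1644
import Groth.Agent.Boundary.Birational

set_option autoImplicit false
universe u
open CategoryTheory CategoryTheory.Limits AlgebraicGeometry
open Variety

namespace Groth.Agent.S1644

/-- Let i : Z → X be a closed immersion where the topological space of X is Noetherian of dimension at
most one. Then every invertible O_Z-module is isomorphic to the pullback of an invertible
O_X-module. -/
theorem result {Z X : Scheme.{u}} (i : Z ⟶ X) [IsClosedImmersion i]
    [TopologicalSpace.NoetherianSpace X] (hdim : topologicalKrullDim X ≤ 1)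
    (L : Z.Modules) (hL : PicF.IsInvertible L) :
    ∃ L' : X.Modules, PicF.IsInvertible L' ∧ Nonempty ((Scheme.Modules.pullback i).obj L' ≅ L) := by
  refine Groth.Agent.Boundary.exists_pullback_iso hdim i (U₀ := ⊤) (fun _ _ => trivial)
    (IsZariskiLocalAtTarget.restrict (P := @IsClosedImmersion) inferInstance _) fun y => ?_
  by_cases hy : y ∈ Set.range i
  · obtain ⟨z, rfl⟩ := hy
    obtain ⟨O, hzO, e, he⟩ := Groth.Agent.InvX.exists_frame hL z
    obtain ⟨W, hW, hWO⟩ := i.isClosedEmbedding.isEmbedding.isInducing.isOpen_iff.1 O.isOpen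
    have hle : i ⁻¹ᵁ ⟨W, hW⟩ ≤ O := fun q hq => hWO.le hq
    exact ⟨⟨W, hW⟩, hWO.ge hzO, Groth.Agent.AModX.res L hle e, he.res hle⟩
  · have hbot : i ⁻¹ᵁ (⟨(Set.range i)ᶜ, i.isClosedEmbedding.isClosed_range.isOpen_compl⟩ : X.Opens) = ⊥ :=
      le_bot_iff.1 fun z hz => (hz ⟨z, rfl⟩).elim
    exact ⟨_, hy, 0, Groth.Agent.Boundary.isFrame_of_eq_bot hbot _⟩

end Groth.Agent.S1644
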