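import Groth.Statements.S16442
import Groth.Agent.H1EssEt.Basic

set_option autoImplicit false
universe u
open EGA4loc

namespace Groth.Agent.S16442

/-- Let A be a reduced local ring with finitely many minimal prime ideals, S a strict henselization of
A, and D an A-subalgebra of S which is a local ring dominated by S (local inclusion) and essentially
of finite type over A. Then D is contained in some A-subalgebra E of S which is a local ring and an
essentially etale local A-algebra. -/
theorem result
    (A S : Type u) [CommRing A] [IsLocalRing A] [IsReduced A] (hmin : (minimalPrimes A).Finite)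
    [CommRing S] [IsLocalRing S] [Algebra A S] [IsLocalHom (algebraMap A S)]
    [Hensel.IsStrictHenselization A S] (D : Subalgebra A S) [IsLocalRing D]
    [IsLocalHom (algebraMap D S)] [Algebra.EssFiniteType A D] :
    ∃ E : Subalgebra A S, D ≤ E ∧ ∃ _ : IsLocalRing E, EGA4loc.IsEssentiallyEtale A E := by
  classical
  obtain ⟨E, hsE, hEloc, hEl, hE⟩ :=
    Groth.Agent.H1EssEt.exists_subalgebra_ge (A := A)
      ((Algebra.EssFiniteType.finset A D).image (Subtype.val : D → S))
  refine ⟨E, ?_, hEloc, hE⟩
  have hsub : ∀ y ∈ Algebra.EssFiniteType.subalgebra A D, ((y : D) : S) ∈ E := by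
    have : Algebra.EssFiniteType.subalgebra A D ≤ E.comap D.val :=
      Algebra.adjoin_le fun y hy => hsE (Finset.mem_coe.mpr (Finset.mem_image_of_mem _ hy))
    exact fun y hy => this hy
  intro x hx
  obtain ⟨⟨a, ⟨s, hs⟩⟩, has⟩ := IsLocalization.surj (Algebra.EssFiniteType.submonoid A D) (⟨x, hx⟩ : D)
  have hu : IsUnit ((s : D) : S) := (show IsUnit (s : D) from hs).map D.val
  haveI := hEl
  obtain ⟨w, hw⟩ := isUnit_of_map_unit (algebraMap E S) (⟨_, hsub s s.2⟩ : E) hu
  have hval : x * ((s : D) : S) = ((a : D) : S) := congrArg Subtype.val has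
  have : x = ((a : D) : S) * ((w⁻¹ : Eˣ) : E).1 := by
    rw [← hval, mul_assoc]
    have h1 : ((s : D) : S) * ((w⁻¹ : Eˣ) : E).1 = 1 := by
      have := congrArg Subtype.val w.mul_inv
      rw [hw] at this
      exact this
    rw [h1, mul_one]
  rw [this]
  exact mul_mem (hsub a a.2) ((w⁻¹ : Eˣ) : E).2

end Groth.Agent.S16442
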