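import Groth.Statements.S16444
import Groth.Agent.H1EssEt.Basic
import Groth.Agent.Hensel.EtaleResidueExt
import Groth.Agent.Hensel.Local
import Groth.Agent.EtAlg7.EssEtale

set_option autoImplicit false
universe u
open scoped TensorProduct
open Hensel

namespace Groth.Agent.S16444

open IsLocalRing in
/-- Let A be a complete Noetherian local ring and R → A a local homomorphism from a henselian Noetherian
local ring R inducing a bijection on residue fields. Then every local ring E which is an essentially
etale local A-algebra with local structure map is A-isomorphic to A ⊗_R S for some local ring S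
which is a finite etale R-algebra (its residue field is then that of E). (The published statement
takes R to be a coefficient ring of A, that is a field or an image of a complete p-ring with the
same residue field; its proof uses only that R is henselian with the same residue field as A, which
is the hypothesis made here.) -/
theorem result
    (R A E : Type u) [CommRing R] [HenselianLocalRing R] [IsNoetherianRing R]
    [CommRing A] [IsLocalRing A] [IsNoetherianRing A] [IsAdicComplete (maximalIdeal A) A]
    [Algebra R A] [IsLocalHom (algebraMap R A)]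
    (hres : Function.Bijective (ResidueField.map (algebraMap R A)))
    [CommRing E] [IsLocalRing E] [Algebra A E] [IsLocalHom (algebraMap A E)]
    (hE : EGA4loc.IsEssentiallyEtale A E) :
    ∃ (S : Type u) (_ : CommRing S) (_ : IsLocalRing S) (_ : Algebra R S),
      Module.Finite R S ∧ Algebra.Etale R S ∧ Nonempty (E ≃ₐ[A] A ⊗[R] S) := by
  classical
  haveI := EtAlg7.formallyUnramified hE
  haveI := EtAlg7.essFiniteType hE
  haveI : IsLocalHom ((algebraMap A E).comp (algebraMap R A)) := RingHom.isLocalHom_comp _ _
  letI alg : Algebra (ResidueField R) (ResidueField E) :=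
    ((ResidueField.map (algebraMap A E)).comp (ResidueField.map (algebraMap R A))).toAlgebra
  haveI tow : IsScalarTower (ResidueField R) (ResidueField A) (ResidueField E) :=
    IsScalarTower.of_algebraMap_eq fun _ => rfl
  haveI : Module.Finite (ResidueField R) (ResidueField A) :=
    Module.Finite.of_surjective (Algebra.linearMap (ResidueField R) (ResidueField A)) (by exact hres.2)
  haveI : FiniteDimensional (ResidueField R) (ResidueField E) := Module.Finite.trans (ResidueField A) _
  haveI : Algebra.IsSeparable (ResidueField R) (ResidueField E) :=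
    Algebra.IsSeparable.of_equiv_equiv (A₁ := ResidueField A) (B₁ := ResidueField E)
      (RingEquiv.ofBijective _ hres).symm (RingEquiv.refl _) (RingHom.ext fun x => by
        obtain ⟨y, rfl⟩ := hres.2 x
        show ResidueField.map (algebraMap A E) (ResidueField.map (algebraMap R A)
          ((RingEquiv.ofBijective _ hres).symm ((RingEquiv.ofBijective _ hres) y))) = _
        rw [RingEquiv.symm_apply_apply]
        rfl)
  obtain ⟨S, _, _, _, _, hfin, het, ⟨e⟩⟩ := Hensel.exists_finite_etale_residueField R (ResidueField E)
  refine ⟨S, inferInstance, inferInstance, inferInstance, hfin, het, ?_⟩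
  let T := A ⊗[R] S
  have hc : ∀ a : R, residue E (algebraMap A E (algebraMap R A a)) = e (residue S (algebraMap R S a)) := fun a => by
    exact (e.commutes (residue R a)).symm
  letI algR : Algebra R (ResidueField E) := ((residue E).comp ((algebraMap A E).comp (algebraMap R A))).toAlgebra
  haveI : IsScalarTower R A (ResidueField E) := IsScalarTower.of_algebraMap_eq fun _ => rfl
  let χ : T →ₐ[A] ResidueField E := Algebra.TensorProduct.lift (IsScalarTower.toAlgHom A A (ResidueField E))
    (AlgHom.mk (e.toRingEquiv.toRingHom.comp (residue S)) fun a => (hc a).symm) fun _ _ => .all _ _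
  have hχl : ∀ a : A, χ (algebraMap A T a) = residue E (algebraMap A E a) := χ.commutes
  have hχr : ∀ s : S, χ ((1 : A) ⊗ₜ[R] s) = e (residue S s) := fun s => by
    simp [χ, T]
  let m : Ideal T := (maximalIdeal A).map (algebraMap A T)
  have hrep : ∀ t : T, ∃ s : S, t - (1 : A) ⊗ₜ[R] s ∈ m := by
    intro t
    induction t using TensorProduct.induction_on with
    | zero => exact ⟨0, by simp⟩
    | add x y hx hy =>
      obtain ⟨s, hs⟩ := hx
      obtain ⟨s', hs'⟩ := hy
      refine ⟨s + s', ?_⟩
      have := add_mem hs hs'
      rwa [TensorProduct.tmul_add, add_sub_add_comm]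
    | tmul a s =>
      obtain ⟨r, hr⟩ := hres.2 (residue A a)
      obtain ⟨r, rfl⟩ := residue_surjective r
      rw [ResidueField.map_residue] at hr
      have ha : a - algebraMap R A r ∈ maximalIdeal A := by
        rw [← residue_eq_zero_iff, map_sub, hr, sub_self]
      refine ⟨r • s, ?_⟩
      have h2 : a ⊗ₜ[R] s - (1 : A) ⊗ₜ[R] (r • s) = algebraMap A T (a - algebraMap R A r) * (1 : A) ⊗ₜ[R] s := by
        rw [Algebra.TensorProduct.algebraMap_apply, Algebra.algebraMap_self, RingHom.id_apply,
          Algebra.TensorProduct.tmul_mul_tmul, mul_one, one_mul, TensorProduct.sub_tmul,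
          TensorProduct.tmul_smul, TensorProduct.smul_tmul', Algebra.smul_def, mul_one]
      rw [h2]
      exact Ideal.mul_mem_right _ _ (Ideal.mem_map_of_mem _ ha)
  have hm0 : ∀ t ∈ m, χ t = 0 := by
    intro t ht
    refine (Ideal.map_le_iff_le_comap.mpr ?_ : m ≤ RingHom.ker χ) ht
    intro a ha
    show χ (algebraMap A T a) = 0
    rw [hχl, residue_eq_zero_iff]
    exact map_nonunit (algebraMap A E) a ha
  have hker : RingHom.ker χ = m := by
    refine le_antisymm (fun t ht => ?_) hm0
    obtain ⟨s, hs⟩ := hrep t
    have hs0 : residue S s = 0 := by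
      apply e.injective
      rw [map_zero, ← hχr]
      have h2 := hm0 _ hs
      rw [map_sub, RingHom.mem_ker.mp ht, zero_sub, neg_eq_zero] at h2
      exact h2
    have hs1 : (1 : A) ⊗ₜ[R] s ∈ m := by
      rw [residue_eq_zero_iff, ← Algebra.FormallyUnramified.map_maximalIdeal (R := R) (S := S)] at hs0
      have h4 := Ideal.mem_map_of_mem (Algebra.TensorProduct.includeRight : S →ₐ[R] T).toRingHom hs0
      refine (?_ : Ideal.map _ _ ≤ m) h4
      rw [Ideal.map_le_iff_le_comap, Ideal.map_le_iff_le_comap]
      intro r hr
      show (1 : A) ⊗ₜ[R] algebraMap R S r ∈ m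
      rw [Algebra.algebraMap_eq_smul_one, TensorProduct.tmul_smul, TensorProduct.smul_tmul',
        ← Algebra.algebraMap_eq_smul_one]
      exact Ideal.mem_map_of_mem (algebraMap A T) (map_nonunit (algebraMap R A) r hr)
    have h3 := add_mem hs hs1
    rwa [sub_add_cancel] at h3
  have hsurj : Function.Surjective χ := fun z => by
    obtain ⟨s, hs⟩ := residue_surjective (e.symm z)
    exact ⟨(1 : A) ⊗ₜ[R] s, by rw [hχr, hs, e.apply_symm_apply]⟩
  haveI hmmax : m.IsMaximal := hker ▸ RingHom.ker_isMaximal_of_surjective χ hsurj
  have huniq : ∀ N : Ideal T, N.IsMaximal → N = m := fun N hN => by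
    refine (hmmax.eq_of_le hN.ne_top ?_).symm
    exact (Hensel.map_maximalIdeal_le_jacobson A T).trans (by rw [Ideal.jacobson]; exact sInf_le ⟨bot_le, hN⟩)
  haveI : IsLocalRing T := IsLocalRing.of_unique_max_ideal ⟨m, hmmax, huniq⟩
  haveI : IsLocalHom (algebraMap A T) :=
    ((local_hom_TFAE (algebraMap A T)).out 0 2).mpr ((huniq _ (maximalIdeal.isMaximal T)).ge)
  haveI : HenselianLocalRing A :=
    Hensel.henselianLocalRing_of_henselianRing A
  haveI : HenselianLocalRing T := Hensel.henselianLocalRing_of_finite A T
  let χ' : ResidueField T →+* ResidueField E :=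
    Ideal.Quotient.lift (maximalIdeal T) χ.toRingHom fun t ht => hm0 t ((huniq _ (maximalIdeal.isMaximal T)).le ht)
  let eT : ResidueField T ≃+* ResidueField E :=
    RingEquiv.ofBijective χ' ⟨χ'.injective, fun z => (hsurj z).elim fun t ht => ⟨residue T t, ht⟩⟩
  obtain ⟨f, hf, -⟩ := EtAlg7.existsUnique_algHom hE (B := T) eT.symm.toRingHom fun a => by
    apply eT.injective
    show eT (eT.symm _) = _
    rw [RingEquiv.apply_symm_apply]
    exact (hχl a).symm
  have hfχ : ∀ x, χ (f x) = residue E x := fun x => by
    show eT (residue T (f x)) = _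
    rw [hf]
    exact eT.apply_symm_apply _
  haveI hfloc : IsLocalHom f.toRingHom := EtAlg7.isLocalHom_algHom hE f
  have hfsurj : Function.Surjective f := by
    have htop : (⊤ : Submodule A T) ≤ LinearMap.range f.toLinearMap := by
      refine Submodule.le_of_le_smul_of_le_jacobson_bot Module.Finite.fg_top
        (IsLocalRing.maximalIdeal_le_jacobson ⊥) ?_
      intro t _
      obtain ⟨x, hx⟩ := residue_surjective (χ t)
      refine Submodule.mem_sup.mpr ⟨f x, ⟨x, rfl⟩, t - f x, ?_, by abel⟩
      rw [Ideal.smul_top_eq_map, Submodule.restrictScalars_mem]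
      show t - f x ∈ m
      rw [← hker, RingHom.mem_ker, map_sub, hfχ, hx, sub_self]
    exact fun t => htop (Submodule.mem_top (x := t))
  have hfinj : Function.Injective f := by
    obtain ⟨C, _, _, q, _, _, _, hC, -, hl⟩ := EtAlg7.exists_presentation hE
    let u : E ≃ₐ[A] Localization.AtPrime q :=
      (IsLocalization.algEquiv q.primeCompl E (Localization.AtPrime q)).restrictScalars A
    let g := f.comp u.symm.toAlgHom
    haveI : IsLocalHom g.toRingHom := ⟨fun z hz => by simpa using (hfloc.map_nonunit _ hz).map u⟩
    intro x y hxy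
    exact u.injective (H1EssEt.injective_of_isLocalHom _ g (by simpa [g] using hxy))
  exact ⟨AlgEquiv.ofBijective f ⟨hfinj, hfsurj⟩⟩

end Groth.Agent.S16444
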