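import Groth.Statements.S16447
import Groth.Agent.H1EssEt.InterNorm
import Groth.Agent.H1EssEt.SemilocalNorm

set_option autoImplicit false
universe u
open EGA4loc

namespace Groth.Agent.S16447
open IsLocalRing nonZeroDivisors

set_option maxHeartbeats 4000000 in
set_option synthInstance.maxHeartbeats 100000 in
/-- Let A be a Noetherian reduced local ring, E a local ring which is an essentially etale local
A-algebra with local structure map, K_E the total ring of fractions of E, E' the integral closure of
E in K_E (viewed as an A-subalgebra of K_E), and L an A-subalgebra of K_E containing an inverse of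
the image of every non-zero-divisor of A. Let C be the A-subalgebra L ⊓ E' of K_E. Then C is
integrally closed in L, C has only finitely many maximal ideals, the maximal ideals of C are exactly
the contractions of the maximal ideals of E', and every element of L is an element of C times the
inverse of the image of a non-zero-divisor of A. (The published statement assumes only that A is
reduced; its proof uses that the integral closure of E in K_E has finitely many maximal ideals,
which holds when A is Noetherian and can fail otherwise, so A is taken Noetherian here.) -/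
theorem result
    (A E : Type u) [CommRing A] [IsLocalRing A] [IsReduced A] [IsNoetherianRing A]
    [CommRing E] [IsLocalRing E] [Algebra A E] [IsLocalHom (algebraMap A E)]
    (hE : EGA4loc.IsEssentiallyEtale A E) (L : Subalgebra A (FractionRing E))
    (hL : ∀ s ∈ nonZeroDivisors A, ∃ y ∈ L, algebraMap A (FractionRing E) s * y = 1)
    (C : Subalgebra A (FractionRing E))
    (hC : C = L ⊓ (integralClosure E (FractionRing E)).restrictScalars A) :
    (∀ x ∈ L, IsIntegral C x → x ∈ C) ∧
      {N : Ideal C | N.IsMaximal}.Finite ∧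
      (∀ N : Ideal C, N.IsMaximal ↔ ∃ M : Ideal ((integralClosure E (FractionRing E)).restrictScalars A),
          M.IsMaximal ∧ N = M.comap (Subalgebra.inclusion (hC.trans_le inf_le_right))) ∧
      ∀ l ∈ L, ∃ c ∈ C, ∃ s ∈ nonZeroDivisors A, ∃ y ∈ L,
        algebraMap A (FractionRing E) s * y = 1 ∧ l = c * y := by
  classical
  subst hC
  have hmin : (minimalPrimes A).Finite := minimalPrimes.finite_of_isNoetherianRing A
  haveI : IsNoetherianRing E := by
    obtain ⟨C, _, _, q, _, _, _, _, -, hl⟩ := EtAlg7.exists_presentation hE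
    haveI : IsNoetherianRing C := Algebra.FiniteType.isNoetherianRing A C
    exact IsLocalization.isNoetherianRing q.primeCompl E inferInstance
  haveI : IsReduced E := H1EssEt.isReduced_of_isEssentiallyEtale hE
  haveI : IsArtinianRing (FractionRing E) :=
    EssEtFrac5.isArtinianRing_fractionRing (minimalPrimes.finite_of_isNoetherianRing E)
  haveI : IsArtinianRing L := (H1EssEt.exists_isIntermediate hmin hE L hL).1
  let E' := (integralClosure E (FractionRing E)).restrictScalars A
  let C := L ⊓ E'
  let i : C →ₐ[A] E' := Subalgebra.inclusion inf_le_right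
  have hE'fin : {M : Ideal E' | M.IsMaximal}.Finite := H1EssEt.finite_maximal_integralClosure E
  -- inverses in `L`
  have hinv : ∀ x : C, IsUnit (i x) → IsUnit x := fun x hx => by
    obtain ⟨y, hy⟩ := hx.exists_right_inv
    have hy' : (x : FractionRing E) * (y : FractionRing E) = 1 := congrArg Subtype.val hy
    have hxL : IsUnit (⟨x, x.2.1⟩ : L) := IsArtinianRing.isUnit_of_mem_nonZeroDivisors
      (mem_nonZeroDivisors_iff_right.2 fun z hz => Subtype.ext (by
        have : (z : FractionRing E) * x = 0 := congrArg Subtype.val hz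
        rw [ZeroMemClass.coe_zero, ← mul_one (z : FractionRing E), ← hy', ← mul_assoc, this, zero_mul]))
    obtain ⟨z, hz⟩ := hxL.exists_right_inv
    have hzy : (z : FractionRing E) = y := by
      have hz' : (x : FractionRing E) * z = 1 := congrArg Subtype.val hz
      calc (z : FractionRing E) = (x : FractionRing E) * y * z := by rw [hy', one_mul]
        _ = (x : FractionRing E) * z * y := by ring
        _ = y := by rw [hz', one_mul]
    exact isUnit_iff_exists_inv.mpr ⟨⟨y, hzy ▸ z.2, y.2⟩, Subtype.ext hy'⟩
  have hsame : ∀ N : Ideal C, N.IsMaximal → ∃ M : Ideal E', M.IsMaximal ∧ N = M.comap i := by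
    intro N hN
    have hsub : (N : Set C) ⊆ ⋃ M ∈ (↑hE'fin.toFinset : Set (Ideal E')), (M.comap i : Ideal C) := fun x hx => by
      have hnu : ¬ IsUnit (i x) := fun h => hN.ne_top (Ideal.eq_top_of_isUnit_mem _ hx (hinv x h))
      obtain ⟨M, hM, hxM⟩ := exists_max_ideal_of_mem_nonunits hnu
      exact Set.mem_biUnion (hE'fin.mem_toFinset.mpr hM) hxM
    obtain ⟨M, hM, hNM⟩ := (Ideal.subset_union_prime (R := C) (s := hE'fin.toFinset)
      (f := fun M : Ideal E' => (M.comap i : Ideal C)) ⊥ ⊥ (fun M hM _ _ => by
        haveI := (hE'fin.mem_toFinset.mp hM).isPrime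
        exact Ideal.IsPrime.comap i)).mp hsub
    have hM' := hE'fin.mem_toFinset.mp hM
    exact ⟨M, hM', hN.eq_of_le (Ideal.comap_ne_top _ hM'.ne_top) hNM⟩
  have hmax : ∀ M : Ideal E', M.IsMaximal → (M.comap i : Ideal C).IsMaximal := fun M hM => by
    obtain ⟨N, hN, hle⟩ := Ideal.exists_le_maximal (M.comap i : Ideal C) (Ideal.comap_ne_top _ hM.ne_top)
    obtain ⟨M₂, hM₂, rfl⟩ := hsame N hN
    suffices h : (M₂.comap i : Ideal C) ≤ M.comap i from (le_antisymm hle h).symm ▸ hN
    intro x hx
    let C' := integralClosure A L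
    let j : C' →ₐ[A] C := AlgHom.codRestrict (L.val.comp C'.val) C fun c =>
      ⟨(c : L).2, ((c.2 : IsIntegral A (c : L)).map L.val).tower_top⟩
    have hmax' : ∀ M : Ideal E', M.IsMaximal → ((M.comap i : Ideal C).comap j : Ideal C').IsMaximal := fun M hM => by
      haveI := hM.isPrime
      haveI : (M.comap i : Ideal C).IsPrime := Ideal.IsPrime.comap i
      let P₀ : Ideal C' := (M.comap i : Ideal C).comap j
      haveI : P₀.IsPrime := Ideal.IsPrime.comap j
      refine Ideal.isMaximal_of_isIntegral_of_isMaximal_comap (R := A) (S := C') P₀ ?_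
      let ρ : E →+* E' := RingHom.codRestrict (algebraMap E (FractionRing E)) E' fun e => isIntegral_algebraMap
      have hint : ρ.IsIntegral := fun z => by
        obtain ⟨p, hp, hp0⟩ := (z.2 : IsIntegral E (z : FractionRing E))
        refine ⟨p, hp, Subtype.val_injective ?_⟩
        rw [ZeroMemClass.coe_zero, ← hp0, show Subtype.val (Polynomial.eval₂ ρ z p) =
          E'.val.toRingHom (Polynomial.eval₂ ρ z p) from rfl, Polynomial.hom_eval₂]
        rfl
      haveI : (M.comap ρ).IsMaximal := Ideal.isMaximal_comap_of_isIntegral_of_isMaximal' ρ hint M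
      have h : P₀.comap (algebraMap A C') = (M.comap ρ).comap (algebraMap A E) := by
        ext a
        show i (j (algebraMap A C' a)) ∈ M ↔ ρ (algebraMap A E a) ∈ M
        rw [j.commutes, i.commutes, show ρ (algebraMap A E a) = algebraMap A E' a from
          Subtype.ext (IsScalarTower.algebraMap_apply A E (FractionRing E) a).symm]
      rw [h, IsLocalRing.eq_maximalIdeal ‹(M.comap ρ).IsMaximal›,
        ((IsLocalRing.local_hom_TFAE (algebraMap A E)).out 0 4 rfl rfl).mp inferInstance]
      exact maximalIdeal.isMaximal A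
    have hsame' : ((M.comap i : Ideal C).comap j : Ideal C') = (M₂.comap i : Ideal C).comap j :=
      (hmax' M hM).eq_of_le (hmax' M₂ hM₂).ne_top (Ideal.comap_mono hle)
    obtain ⟨s, hsL, hsA, hsx, hsM⟩ := H1EssEt.exists_mul_isIntegral hmin hE L hL ⟨x, x.2.2⟩ x.2.1 M₂ hM₂.ne_top
    let s₀ : C' := ⟨⟨_, hsL⟩, (isIntegral_algHom_iff L.val Subtype.val_injective).mp hsA⟩
    let y₀ : C' := ⟨⟨_, mul_mem hsL x.2.1⟩, (isIntegral_algHom_iff L.val Subtype.val_injective).mp hsx⟩
    have hy : j y₀ = j s₀ * x := Subtype.ext rfl
    have h1 : y₀ ∈ ((M₂.comap i : Ideal C).comap j : Ideal C') := by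
      show i (j y₀) ∈ M₂
      rw [hy, map_mul]
      exact M₂.mul_mem_left _ hx
    rw [← hsame'] at h1
    have h2 : i (j s₀) ∉ M := fun h => hsM (by
      have : s₀ ∈ ((M.comap i : Ideal C).comap j : Ideal C') := h
      rw [hsame'] at this
      exact this)
    have h3 : i (j y₀) ∈ M := h1
    rw [hy, map_mul] at h3
    exact (hM.isPrime.mem_or_mem h3).resolve_left h2
  refine ⟨fun x hx hxi => ⟨hx, ?_⟩, ?_, fun N => ⟨hsame N, ?_⟩, fun l hl => ?_⟩
  · obtain ⟨p, hp, hp0⟩ := hxi
    refine isIntegral_trans (R := E) (A := integralClosure E (FractionRing E)) x ?_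
    let i' : C →+* integralClosure E (FractionRing E) := i.toRingHom
    refine ⟨p.map i', hp.map _, ?_⟩
    rw [Polynomial.eval₂_map]
    exact hp0
  · refine (hE'fin.image fun M => (M.comap i : Ideal C)).subset fun N hN => ?_
    obtain ⟨M, hM, rfl⟩ := hsame N hN
    exact ⟨M, hM, rfl⟩
  · rintro ⟨M, hM, rfl⟩
    exact hmax M hM
  · obtain ⟨a, ha, hal⟩ := (H1EssEt.exists_isIntermediate hmin hE L hL).2 l hl
    obtain ⟨y, hy, hay⟩ := hL a ha
    refine ⟨_, ⟨mul_mem (L.algebraMap_mem a) hl, hal.tower_top⟩, a, ha, y, hy, hay, ?_⟩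
    calc l = (algebraMap A (FractionRing E) a * y) * l := by rw [hay, one_mul]
      _ = algebraMap A (FractionRing E) a * l * y := by ring

end Groth.Agent.S16447
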