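import Groth.Statements.S16449
import Groth.Agent.H1EssEt.InterNorm
import Groth.Agent.H1EssEt.NagataFinite
import Groth.Agent.CompleteNagata.Global

set_option autoImplicit false
universe u
open EGA4loc

namespace Groth.Agent.S16449
open IsLocalRing nonZeroDivisors

set_option maxHeartbeats 4000000 in
set_option synthInstance.maxHeartbeats 100000 in
/-- Let A be an excellent reduced local ring, E a local ring which is an essentially etale local
A-algebra with local structure map, and D an A-subalgebra of E which is a local ring dominated by E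
(local inclusion). Inside the total ring of fractions K_E of E, let D' be the normalization of D —
the elements of K_E integral over D which are carried into D by the image of some non-zero-divisor
of A (these are the elements of the total ring of fractions of D) — and let E' be the integral
closure of E. Suppose that D' has finitely many maximal ideals and that the inclusion D' → E' is a
semilocal morphism: maximal ideals of E' contract to maximal ideals of D', and every maximal ideal
of D' arises this way. Then D is essentially of finite type over A. -/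
theorem result
    (A E : Type u) [CommRing A] [IsLocalRing A] [IsReduced A] (hA : EGA4.IsExcellent A)
    [CommRing E] [IsLocalRing E] [Algebra A E] [IsLocalHom (algebraMap A E)]
    (hE : EGA4loc.IsEssentiallyEtale A E)
    (D : Subalgebra A E) [IsLocalRing D] [IsLocalHom (algebraMap D E)]
    (D' : Subalgebra A (FractionRing E))
    (hD' : ∀ x : (FractionRing E), x ∈ D' ↔ (IsIntegral D x ∧
      ∃ a ∈ nonZeroDivisors A, ∃ d ∈ D, algebraMap A (FractionRing E) a * x = algebraMap E (FractionRing E) d))
    (hle : D' ≤ ((integralClosure E (FractionRing E)).restrictScalars A))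
    (hfin : {N : Ideal D' | N.IsMaximal}.Finite)
    (hmax : ∀ M : Ideal ((integralClosure E (FractionRing E)).restrictScalars A), M.IsMaximal → (M.comap (Subalgebra.inclusion hle)).IsMaximal)
    (hsurj : ∀ N : Ideal D', N.IsMaximal →
      ∃ M : Ideal ((integralClosure E (FractionRing E)).restrictScalars A), M.IsMaximal ∧ M.comap (Subalgebra.inclusion hle) = N) :
    Algebra.EssFiniteType A D := by
  classical
  haveI : IsNoetherianRing A := hA.1
  have hmin : (minimalPrimes A).Finite := minimalPrimes.finite_of_isNoetherianRing A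
  haveI := H1EssEt.flat_of_isEssentiallyEtale hE
  haveI : IsReduced (FractionRing E) := H1EssEt.isReduced_frac hE
  have hDE : ∀ a, algebraMap E (FractionRing E) (algebraMap A E a) = algebraMap A (FractionRing E) a :=
    fun a => (IsScalarTower.algebraMap_apply A E (FractionRing E) a).symm
  -- the fractions of `D`
  let L : Subalgebra A (FractionRing E) :=
    { carrier := {x | ∃ a ∈ A⁰, ∃ d ∈ D, algebraMap A (FractionRing E) a * x = algebraMap E (FractionRing E) d}
      mul_mem' := fun {x y} ⟨a, ha, d, hd, hx⟩ ⟨b, hb, e, he, hy⟩ => ⟨a * b, mul_mem ha hb, d * e, mul_mem hd he, by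
        rw [map_mul, map_mul, ← hx, ← hy]; ring⟩
      add_mem' := fun {x y} ⟨a, ha, d, hd, hx⟩ ⟨b, hb, e, he, hy⟩ => ⟨a * b, mul_mem ha hb,
        algebraMap A E b * d + algebraMap A E a * e,
        add_mem (mul_mem (D.algebraMap_mem b) hd) (mul_mem (D.algebraMap_mem a) he), by
        rw [map_mul, map_add, map_mul, map_mul, ← hx, ← hy, hDE, hDE]; ring⟩
      algebraMap_mem' := fun r => ⟨1, one_mem _, algebraMap A E r, D.algebraMap_mem r, by
        rw [map_one, one_mul, hDE]⟩ }
  have hLinv : ∀ s ∈ A⁰, ∃ y ∈ L, algebraMap A (FractionRing E) s * y = 1 := fun s hs => by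
    obtain ⟨y, hy⟩ := (H1EssEt.isUnit_frac hE hs).exists_right_inv
    exact ⟨y, ⟨s, hs, 1, one_mem _, by rw [hy, map_one]⟩, hy⟩
  have hD'iff : ∀ x, x ∈ D' ↔ IsIntegral D x ∧ x ∈ L := fun x => hD' x
  -- the integral closure of `A` there is finite
  haveI : IsArtinianRing (FractionRing A) := EssEtFrac5.isArtinianRing_fractionRing hmin
  haveI : IsArtinianRing L := (H1EssEt.exists_isIntermediate hmin hE L hLinv).1
  haveI : IsReduced L := isReduced_of_injective L.val Subtype.val_injective
  haveI hC : Module.Finite A (integralClosure A L) := by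
    letI : Algebra (FractionRing A) (FractionRing E) := (H1EssEt.fracMap A E).toRingHom.toAlgebra
    haveI : IsScalarTower A (FractionRing A) (FractionRing E) :=
      IsScalarTower.of_algebraMap_eq fun a => ((H1EssEt.fracMap A E).commutes a).symm
    have hu : ∀ a : A⁰, IsUnit (Algebra.ofId A L a) := fun a => by
      obtain ⟨y, hy, hay⟩ := hLinv a a.2
      exact ⟨⟨_, ⟨y, hy⟩, Subtype.ext hay, Subtype.ext (by rw [mul_comm] at hay; exact hay)⟩, rfl⟩
    letI : Algebra (FractionRing A) L := (IsLocalization.liftAlgHom (f := Algebra.ofId A L) hu).toRingHom.toAlgebra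
    haveI : IsScalarTower A (FractionRing A) L :=
      IsScalarTower.of_algebraMap_eq fun a => ((IsLocalization.liftAlgHom (f := Algebra.ofId A L) hu).commutes a).symm
    have hKL : ∀ k : FractionRing A, ((algebraMap (FractionRing A) L k : L) : FractionRing E) =
        algebraMap (FractionRing A) (FractionRing E) k := by
      have h : L.val.toRingHom.comp (algebraMap (FractionRing A) L) = algebraMap (FractionRing A) (FractionRing E) := by
        refine IsLocalization.ringHom_ext A⁰ (RingHom.ext fun a => ?_)
        show ((algebraMap (FractionRing A) L (algebraMap A (FractionRing A) a) : L) : FractionRing E) =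
          algebraMap (FractionRing A) (FractionRing E) (algebraMap A (FractionRing A) a)
        rw [← IsScalarTower.algebraMap_apply, ← IsScalarTower.algebraMap_apply]
        rfl
      exact fun k => RingHom.congr_fun h k
    haveI : Module.Finite (FractionRing A) (FractionRing E) := by
      obtain ⟨t, ht⟩ := (S16448.result A E hmin hE).2
      refine ⟨⟨t, eq_top_iff.mpr fun x _ => ?_⟩⟩
      obtain ⟨a, ha, hx⟩ := ht x
      have h1 : algebraMap A (FractionRing E) a * x ∈ Submodule.span (FractionRing A) (t : Set (FractionRing E)) :=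
        Submodule.span_le_restrictScalars A (FractionRing A) _ hx
      have h2 := Submodule.smul_mem _ (IsLocalization.mk' (FractionRing A) 1 (⟨a, ha⟩ : A⁰)) h1
      rwa [Algebra.smul_def, ← mul_assoc, IsScalarTower.algebraMap_apply A (FractionRing A) (FractionRing E),
        ← map_mul, IsLocalization.mk'_spec, map_one, map_one, one_mul] at h2
    haveI : IsNoetherian (FractionRing A) (FractionRing E) := isNoetherian_of_isNoetherianRing_of_finite _ _
    haveI : Module.Finite (FractionRing A) L :=
      Module.Finite.of_injective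
        ({ toFun := fun x : L => (x : FractionRing E)
           map_add' := fun _ _ => rfl
           map_smul' := fun k x => by
             show ((k • x : L) : FractionRing E) = k • (x : FractionRing E)
             rw [Algebra.smul_def, Algebra.smul_def, Subalgebra.coe_mul, hKL] } : L →ₗ[FractionRing A] FractionRing E)
        Subtype.val_injective
    exact H1EssEt.finite_integralClosure A (CompleteNagata.isNagata_of_isQuasiExcellent A ⟨hA.1, hA.2.2.1, hA.2.2.2⟩) L
  let C := integralClosure A L
  have hCint : ∀ c : C, IsIntegral A ((c : L) : FractionRing E) := fun c => (c.2 : IsIntegral A (c : L)).map L.val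
  have hCD' : ∀ c : C, ((c : L) : FractionRing E) ∈ D' := fun c =>
    (hD'iff _).mpr ⟨(hCint c).tower_top, (c : L).2⟩
  let j : C →ₐ[A] D' := AlgHom.codRestrict (L.val.comp C.val) D' hCD'
  -- the primes of `C` at which `D'` lives
  let S : Set (Ideal C) := {P | P.IsMaximal}
  have hSfin : S.Finite := by
    refine (Algebra.QuasiFinite.finite_primesOver (R := A) (S := C) (maximalIdeal A)).subset fun P hP => ?_
    haveI : P.IsMaximal := hP
    exact ⟨hP.isPrime, ⟨(IsLocalRing.eq_maximalIdeal (Ideal.isMaximal_comap_of_isIntegral_of_isMaximal (R := A) P)).symm⟩⟩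
  let good : Ideal C → Prop := fun P => ∃ N : Ideal D', N.IsMaximal ∧ P = N.comap j
  have hgood : ∀ N : Ideal D', N.IsMaximal → (N.comap j).IsMaximal := fun N hN => by
    haveI := hN
    haveI : (N.comap j).IsPrime := Ideal.IsPrime.comap j
    obtain ⟨M, hM, hMN⟩ := hsurj N hN
    haveI := hM
    let P₀ : Ideal C := N.comap j
    refine Ideal.isMaximal_of_isIntegral_of_isMaximal_comap (R := A) (S := C) P₀ ?_
    let ιD : D →ₐ[A] D' := AlgHom.codRestrict ((IsScalarTower.toAlgHom A E (FractionRing E)).comp D.val) D'
      fun d => (hD'iff _).mpr ⟨isIntegral_algebraMap, 1, one_mem _, d, d.2, by rw [map_one, one_mul]; rfl⟩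
    have hint : ιD.toRingHom.IsIntegral := fun x => by
      obtain ⟨p, hp, hp0⟩ := ((hD'iff _).mp x.2).1
      refine ⟨p, hp, Subtype.val_injective ?_⟩
      rw [ZeroMemClass.coe_zero, ← hp0, show Subtype.val (Polynomial.eval₂ ιD.toRingHom x p) =
        D'.val.toRingHom (Polynomial.eval₂ ιD.toRingHom x p) from rfl, Polynomial.hom_eval₂]
      rfl
    haveI : (N.comap ιD.toRingHom).IsMaximal := Ideal.isMaximal_comap_of_isIntegral_of_isMaximal' ιD.toRingHom hint N
    haveI : IsLocalHom (algebraMap A D) :=
      ⟨fun a ha => isUnit_of_map_unit (algebraMap A E) a (ha.map (algebraMap D E))⟩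
    have h : (N.comap j).comap (algebraMap A C) = (N.comap ιD.toRingHom).comap (algebraMap A D) := by
      ext a
      show j (algebraMap A C a) ∈ N ↔ ιD (algebraMap A D a) ∈ N
      rw [j.commutes, ιD.commutes]
    rw [h, IsLocalRing.eq_maximalIdeal ‹(N.comap ιD.toRingHom).IsMaximal›,
      ((IsLocalRing.local_hom_TFAE (algebraMap A D)).out 0 4 rfl rfl).mp inferInstance]
    exact maximalIdeal.isMaximal A
  obtain ⟨f, hfbad, hfgood⟩ : ∃ f : C, (∀ P : Ideal C, P.IsMaximal → ¬ good P → f ∈ P) ∧
      ∀ N : Ideal D', N.IsMaximal → j f ∉ N := by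
    let bad : Finset (Ideal C) := hSfin.toFinset.filter fun P => ¬ good P
    let gd : Finset (Ideal C) := hSfin.toFinset.filter fun P => good P
    obtain ⟨f, hf, hf'⟩ : ∃ f ∈ bad.inf id, ∀ P ∈ gd, f ∉ P := by
      by_contra! hall
      have hsub : ((bad.inf id : Ideal C) : Set C) ⊆ ⋃ P ∈ (↑gd : Set (Ideal C)), (P : Set C) := fun f hf => by
        obtain ⟨P, hP, hfP⟩ := hall f hf
        exact Set.mem_biUnion hP hfP
      obtain ⟨P, hP, hle'⟩ := (Ideal.subset_union_prime (R := C) (s := gd) (f := fun P => P) (I := bad.inf id) ⊥ ⊥ (fun P hP _ _ =>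
        (hSfin.mem_toFinset.mp (Finset.mem_filter.mp hP).1).isPrime)).mp hsub
      obtain ⟨hPS, hPg⟩ := Finset.mem_filter.mp hP
      haveI : P.IsMaximal := hSfin.mem_toFinset.mp hPS
      obtain ⟨Q, hQ, hQP⟩ := (Ideal.IsPrime.inf_le' (s := bad) (f := id) inferInstance).mp hle'
      obtain ⟨hQS, hQg⟩ := Finset.mem_filter.mp hQ
      have : Q = P := (hSfin.mem_toFinset.mp hQS).eq_of_le (Ideal.IsMaximal.ne_top inferInstance) hQP
      exact hQg (this ▸ hPg)
    refine ⟨f, fun P hP hPb => ?_, fun N hN hfN => ?_⟩
    · exact (Submodule.mem_finsetInf.mp hf) P (Finset.mem_filter.mpr ⟨hSfin.mem_toFinset.mpr hP, hPb⟩)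
    · exact hf' (N.comap j) (Finset.mem_filter.mpr ⟨hSfin.mem_toFinset.mpr (hgood N hN), N, hN, rfl⟩) hfN
  have hfu : IsUnit (j f) := by
    by_contra h
    obtain ⟨N, hN, hfN⟩ := exists_max_ideal_of_mem_nonunits h
    exact hfgood N hN hfN
  obtain ⟨u, hu⟩ := hfu.exists_right_inv
  -- a Noetherian local subring of `D`
  obtain ⟨p, hp, hp0⟩ := ((hD'iff _).mp u.2).1
  let G : Finset D := p.support.image p.coeff
  let D₁ := Algebra.adjoin A (G : Set D)
  let R : Subalgebra A D :=
    { carrier := {x | ∃ t ∈ D₁, IsUnit t ∧ x * t ∈ D₁}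
      mul_mem' := fun {x y} ⟨t, ht, htu, hx⟩ ⟨t', ht', htu', hy⟩ => ⟨t * t', mul_mem ht ht', htu.mul htu', by
        rw [mul_mul_mul_comm]; exact mul_mem hx hy⟩
      add_mem' := fun {x y} ⟨t, ht, htu, hx⟩ ⟨t', ht', htu', hy⟩ => ⟨t * t', mul_mem ht ht', htu.mul htu', by
        rw [show (x + y) * (t * t') = (x * t) * t' + (y * t') * t by ring]
        exact add_mem (mul_mem hx ht') (mul_mem hy ht)⟩
      algebraMap_mem' := fun r => ⟨1, one_mem _, isUnit_one, by rw [mul_one]; exact D₁.algebraMap_mem r⟩ }
  have hD₁R : D₁ ≤ R := fun x hx => ⟨1, one_mem _, isUnit_one, by rwa [mul_one]⟩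
  have hRunit : ∀ x : R, IsUnit (x : D) → IsUnit x := fun x hx => by
    obtain ⟨t, ht, htu, hxt⟩ := x.2
    obtain ⟨y, hy⟩ := hx.exists_right_inv
    refine isUnit_iff_exists_inv.mpr ⟨⟨y, (x : D) * t, hxt, hx.mul htu, ?_⟩, Subtype.ext hy⟩
    rw [← mul_assoc, mul_comm y, hy, one_mul]
    exact ht
  haveI : IsLocalHom R.val.toRingHom := ⟨hRunit⟩
  haveI : IsLocalRing R := R.val.toRingHom.domain_isLocalRing
  haveI : IsNoetherianRing D₁ := by
    haveI : Algebra.FiniteType A D₁ :=
      (Subalgebra.fg_iff_finiteType _).mp (Subalgebra.fg_adjoin_finset G)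
    exact Algebra.FiniteType.isNoetherianRing A D₁
  letI : Algebra D₁ R := (Subalgebra.inclusion hD₁R).toRingHom.toAlgebra
  let M₁ : Submonoid D₁ := (IsUnit.submonoid D).comap D₁.val.toRingHom.toMonoidHom
  haveI : IsLocalization M₁ R :=
    { map_units := fun t => hRunit _ t.2
      surj := fun x => by
        obtain ⟨t, ht, htu, hxt⟩ := x.2
        exact ⟨(⟨_, hxt⟩, ⟨⟨t, ht⟩, htu⟩), Subtype.ext rfl⟩
      exists_of_eq := fun {x y} h => ⟨1, by rw [show x = y from Subtype.ext (congrArg (fun r : R => (r : D)) h)]⟩ }
  haveI : IsNoetherianRing R := IsLocalization.isNoetherianRing M₁ R inferInstance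
  -- `D'` is finite over it
  obtain ⟨gC, hgC⟩ := hC.fg_top
  let T : Set (FractionRing E) := insert (u : FractionRing E) ((fun c : C => ((c : L) : FractionRing E)) '' gC)
  let B := Algebra.adjoin R T
  have hTint : ∀ x ∈ T, IsIntegral R x := by
    rintro x (rfl | ⟨c, -, rfl⟩)
    · have hco : ∀ i, p.coeff i ∈ R := fun i => by
        by_cases hi : i ∈ p.support
        · exact hD₁R (Algebra.subset_adjoin (Finset.mem_coe.mpr (Finset.mem_image_of_mem _ hi)))
        · rw [Polynomial.notMem_support_iff.mp hi]; exact zero_mem _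
      have hl : p ∈ Polynomial.lifts R.val.toRingHom :=
        (Polynomial.lifts_iff_coeff_lifts p).mpr fun i => ⟨⟨_, hco i⟩, rfl⟩
      obtain ⟨q, hq, -, hqm⟩ := Polynomial.lifts_and_degree_eq_and_monic hl hp
      refine ⟨q, hqm, ?_⟩
      rw [show algebraMap R (FractionRing E) = (algebraMap D (FractionRing E)).comp R.val.toRingHom from rfl,
        ← Polynomial.eval₂_map, hq]
      exact hp0
    · exact (hCint c).tower_top
  haveI : Module.Finite R B := Module.Finite.iff_fg.mpr
    (fg_adjoin_of_finite ((gC.finite_toSet.image _).insert _) hTint)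
  have hCB : ∀ c : C, ((c : L) : FractionRing E) ∈ B := fun c => by
    have hc : c ∈ Submodule.span A (gC : Set C) := hgC ▸ Submodule.mem_top
    induction hc using Submodule.span_induction with
    | mem x hx => exact Algebra.subset_adjoin (Or.inr ⟨x, hx, rfl⟩)
    | zero => exact zero_mem B
    | add x y _ _ hx hy => exact add_mem hx hy
    | smul a x _ hx =>
      show ((a • (x : L) : L) : FractionRing E) ∈ B
      rw [show ((a • (x : L) : L) : FractionRing E) = algebraMap R (FractionRing E) (algebraMap A R a) *
        ((x : L) : FractionRing E) by rw [← IsScalarTower.algebraMap_apply, ← Algebra.smul_def]; rfl]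
      exact mul_mem (B.algebraMap_mem _) hx
  let jB : C →+* B := (L.val.comp C.val).toRingHom.codRestrict B hCB
  have huB : IsUnit (jB f) := isUnit_iff_exists_inv.mpr
    ⟨⟨u, Algebra.subset_adjoin (Or.inl rfl)⟩, Subtype.ext (congrArg (fun x : D' => (x : FractionRing E)) hu)⟩
  have hD'B : ∀ x ∈ D', x ∈ B := fun x hx => by
    let J : Ideal C :=
      { carrier := {s | IsIntegral A (((s : L) : FractionRing E) * x)}
        add_mem' := fun {s t} hs ht => by
          show IsIntegral A _
          rw [Subalgebra.coe_add, Subalgebra.coe_add, add_mul]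
          exact hs.add ht
        zero_mem' := by
          show IsIntegral A _
          rw [ZeroMemClass.coe_zero, ZeroMemClass.coe_zero, zero_mul]
          exact isIntegral_zero
        smul_mem' := fun c {s} hs => by
          show IsIntegral A _
          rw [smul_eq_mul, Subalgebra.coe_mul, Subalgebra.coe_mul, mul_assoc]
          exact (hCint c).mul hs }
    have htop : J.map jB = ⊤ := by
      by_contra h
      obtain ⟨Q, hQ, hJQ⟩ := Ideal.exists_le_maximal _ h
      haveI := hQ
      haveI : (Q.comap jB).IsPrime := Ideal.IsPrime.comap jB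
      have hP : (Q.comap jB).IsMaximal := by
        let P₀ : Ideal C := Q.comap jB
        refine Ideal.isMaximal_of_isIntegral_of_isMaximal_comap (R := A) (S := C) P₀ ?_
        haveI hQR : (Q.comap (algebraMap R B)).IsMaximal := Ideal.isMaximal_comap_of_isIntegral_of_isMaximal (R := R) (S := B) Q
        haveI : IsLocalHom (algebraMap A R) := ⟨fun a ha =>
          isUnit_of_map_unit (algebraMap A E) a ((ha.map R.val).map (algebraMap D E))⟩
        have h : (Q.comap jB).comap (algebraMap A C) = (Q.comap (algebraMap R B)).comap (algebraMap A R) := by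
          ext a
          show jB (algebraMap A C a) ∈ Q ↔ algebraMap R B (algebraMap A R a) ∈ Q
          rw [show jB (algebraMap A C a) = algebraMap R B (algebraMap A R a) from
            Subtype.ext (IsScalarTower.algebraMap_apply A R (FractionRing E) a)]
        rw [h, IsLocalRing.eq_maximalIdeal hQR,
          ((IsLocalRing.local_hom_TFAE (algebraMap A R)).out 0 4 rfl rfl).mp inferInstance]
        exact maximalIdeal.isMaximal A
      have hfQ : f ∉ Q.comap jB := fun hf => hQ.ne_top (Ideal.eq_top_of_isUnit_mem _ hf huB)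
      obtain ⟨N, hN, hPN⟩ : good (Q.comap jB) := by
        by_contra hb
        exact hfQ (hfbad _ hP hb)
      obtain ⟨M, hM, hMN⟩ := hsurj N hN
      obtain ⟨s, hsL, hsA, hsx, hsM⟩ := H1EssEt.exists_mul_isIntegral hmin hE L hLinv ⟨x, hle hx⟩
        ((hD'iff x).mp hx).2 M hM.ne_top
      let s₀ : C := ⟨⟨_, hsL⟩, (isIntegral_algHom_iff L.val Subtype.val_injective).mp hsA⟩
      have hs₀ : s₀ ∈ N.comap j := hPN ▸ (hJQ (Ideal.mem_map_of_mem jB (show s₀ ∈ J from hsx)))
      refine hsM ?_
      have hs' : j s₀ ∈ M.comap (Subalgebra.inclusion hle) := hMN ▸ hs₀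
      exact hs'
    have key : ∀ b ∈ J.map jB, (b : FractionRing E) * x ∈ B := fun b hb => by
      induction hb using Submodule.span_induction with
      | mem b hb =>
        obtain ⟨s, hs, rfl⟩ := hb
        exact hCB ⟨⟨_, mul_mem (s : L).2 ((hD'iff x).mp hx).2⟩,
          (isIntegral_algHom_iff L.val Subtype.val_injective).mp hs⟩
      | zero => rw [ZeroMemClass.coe_zero, zero_mul]; exact zero_mem B
      | add a b _ _ ha hb => rw [Subalgebra.coe_add, add_mul]; exact add_mem ha hb
      | smul r b _ hb => rw [smul_eq_mul, Subalgebra.coe_mul, mul_assoc]; exact mul_mem r.2 hb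
    simpa using key 1 (htop ▸ Submodule.mem_top)
  haveI : IsNoetherian R B := isNoetherian_of_isNoetherianRing_of_finite R B
  have hDB : ∀ d : D, algebraMap D (FractionRing E) d ∈ B := fun d =>
    hD'B _ ((hD'iff _).mpr ⟨isIntegral_algebraMap, 1, one_mem _, d, d.2, by rw [map_one, one_mul]; rfl⟩)
  let φ : D →ₗ[R] B :=
    { toFun := fun d => ⟨algebraMap D (FractionRing E) d, hDB d⟩
      map_add' := fun a b => Subtype.ext (map_add _ a b)
      map_smul' := fun r d => Subtype.ext (by
        show algebraMap D (FractionRing E) ((r : D) * d) = r • algebraMap D (FractionRing E) d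
        rw [map_mul, Algebra.smul_def]; rfl) }
  haveI : Module.Finite R D := Module.Finite.of_injective φ fun a b h =>
    Subtype.ext (IsFractionRing.injective E (FractionRing E) (congrArg Subtype.val h))
  obtain ⟨gD, hgD⟩ := Module.Finite.fg_top (R := R) (M := D)
  refine (Algebra.essFiniteType_iff A D).mpr ⟨G ∪ gD, fun d => ?_⟩
  have hG : D₁ ≤ Algebra.adjoin A ((G ∪ gD : Finset D) : Set D) :=
    Algebra.adjoin_mono (Finset.coe_subset.mpr Finset.subset_union_left)
  have hd : d ∈ Submodule.span R (gD : Set D) := hgD ▸ Submodule.mem_top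
  induction hd using Submodule.span_induction with
  | mem x hx => exact ⟨1, one_mem _, isUnit_one, by
      rw [mul_one]; exact Algebra.subset_adjoin (Finset.mem_coe.mpr (Finset.mem_union_right _ hx))⟩
  | zero => exact ⟨1, one_mem _, isUnit_one, by rw [zero_mul]; exact zero_mem _⟩
  | add x y _ _ hx hy =>
    obtain ⟨t, ht, htu, hxt⟩ := hx
    obtain ⟨t', ht', htu', hyt⟩ := hy
    refine ⟨t * t', mul_mem ht ht', htu.mul htu', ?_⟩
    rw [show (x + y) * (t * t') = (x * t) * t' + (y * t') * t by ring]
    exact add_mem (mul_mem hxt ht') (mul_mem hyt ht)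
  | smul r x _ hx =>
    obtain ⟨t, ht, htu, hxt⟩ := hx
    obtain ⟨t', ht', htu', hrt⟩ := r.2
    refine ⟨t' * t, mul_mem (hG ht') ht, htu'.mul htu, ?_⟩
    show (r : D) * x * (t' * t) ∈ _
    rw [mul_mul_mul_comm]
    exact mul_mem (hG hrt) hxt

end Groth.Agent.S16449
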