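import Groth.Statements.S16450
import Groth.Agent.H1EssEt.NormDesc
import Groth.Agent.H1EssEt.Killer
import Groth.Agent.H1EssEt.FracFG
import Groth.Agent.S16441
import Groth.Agent.S16438
import Groth.Agent.RedNorm.Basic
import Groth.Agent.CompleteNagata.Global

set_option autoImplicit false
universe u
open scoped TensorProduct
open EGA4loc

namespace Groth.Agent.S16450
open IsLocalRing TensorProduct

lemma jac_le_ker {T T' : Type*} [CommRing T] [CommRing T'] [IsArtinianRing T'] [IsReduced T'] (f : T →+* T')
    (hf : Function.Surjective f) : Ideal.jacobson (⊥ : Ideal T) ≤ RingHom.ker f := fun z hz => by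
  have h2 : f z ∈ Ideal.jacobson (⊥ : Ideal T') := Ideal.mem_jacobson_bot.mpr fun y => by
    obtain ⟨y, rfl⟩ := hf y
    simpa only [map_add, map_mul, map_one] using (Ideal.mem_jacobson_bot.mp hz y).map f
  rw [IsArtinianRing.jacobson_eq_radical, show (⊥ : Ideal T').radical = ⊥ from nilradical_eq_zero _] at h2
  exact h2

lemma ker_mk_jac_comp {A T D' : Type*} [CommRing A] [CommRing T] [CommRing D'] [Algebra A T] [Algebra A D']
    (P : T →ₐ[A] D') (hP : Function.Bijective P) :
    RingHom.ker ((Ideal.Quotient.mkₐ A (Ideal.jacobson (⊥ : Ideal D'))).comp P) = Ideal.jacobson (⊥ : Ideal T) := by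
  ext z
  rw [RingHom.mem_ker, AlgHom.comp_apply, Ideal.Quotient.mkₐ_eq_mk, Ideal.Quotient.eq_zero_iff_mem,
    Ideal.mem_jacobson_bot, Ideal.mem_jacobson_bot]
  refine ⟨fun h y => (isUnit_map_iff (RingEquiv.ofBijective P hP) _).mp ?_, fun h y => ?_⟩
  · simpa only [RingEquiv.ofBijective_apply, map_add, map_mul, map_one] using h (P y)
  · obtain ⟨y, rfl⟩ := hP.2 y
    simpa only [map_add, map_mul, map_one] using (h y).map P

lemma finite_max_of_bijective {A T D' : Type*} [CommRing A] [CommRing T] [CommRing D'] [Algebra A T] [Algebra A D']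
    (P : T →ₐ[A] D') (hP : Function.Bijective P) (h : {N : Ideal T | N.IsMaximal}.Finite) :
    {N : Ideal D' | N.IsMaximal}.Finite := by
  refine Set.Finite.of_injOn (f := fun N => N.comap P.toRingHom) (fun N hN => ?_) (fun N _ N' _ h => ?_) h
  · haveI : N.IsMaximal := hN
    exact Ideal.comap_isMaximal_of_surjective P.toRingHom hP.2
  · exact Ideal.comap_injective_of_surjective P.toRingHom hP.2 h

set_option maxHeartbeats 1000000 in
set_option synthInstance.maxHeartbeats 100000 in
/-- The Jacobson radical of `A' ⊗[A] D` for a finite `A`-algebra `A'` and an essentially etale local `D`. -/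
lemma tensor_semilocal (A A' D : Type u) [CommRing A] [IsLocalRing A] [CommRing A'] [Algebra A A']
    [Module.Finite A A'] [CommRing D] [IsLocalRing D] [Algebra A D] [IsLocalHom (algebraMap A D)]
    (hD : EGA4loc.IsEssentiallyEtale A D) :
    Ideal.jacobson (⊥ : Ideal (A' ⊗[A] D)) =
      (Ideal.jacobson (⊥ : Ideal A')).map (Algebra.TensorProduct.includeLeft : A' →ₐ[A] A' ⊗[A] D) ∧
    {N : Ideal (A' ⊗[A] D) | N.IsMaximal}.Finite ∧
    (maximalIdeal D).map (Algebra.TensorProduct.includeRight : D →ₐ[A] A' ⊗[A] D) ≤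
      (Ideal.jacobson (⊥ : Ideal A')).map (Algebra.TensorProduct.includeLeft : A' →ₐ[A] A' ⊗[A] D) := by
  classical
  let J : Ideal A' := Ideal.jacobson ⊥
  have hmJ : (maximalIdeal A).map (algebraMap A A') ≤ J := le_sInf fun N hN => by
    haveI := hN.2
    rw [Ideal.map_le_iff_le_comap,
      IsLocalRing.eq_maximalIdeal (Ideal.isMaximal_comap_of_isIntegral_of_isMaximal (R := A) N)]
  haveI hred : IsReduced (A' ⧸ J) := (Ideal.isRadical_iff_quotient_reduced J).mp (Ideal.isRadical_jacobson ⊥)
  haveI : IsArtinianRing (A' ⧸ J) := by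
    letI : Algebra (A ⧸ maximalIdeal A) (A' ⧸ J) := RingHom.toAlgebra (R := A ⧸ maximalIdeal A) (S := A' ⧸ J)
      (Ideal.Quotient.lift (maximalIdeal A) (algebraMap A (A' ⧸ J)) fun a ha =>
        show Ideal.Quotient.mk J (algebraMap A A' a) = 0 from
          Ideal.Quotient.eq_zero_iff_mem.mpr (hmJ (Ideal.mem_map_of_mem _ ha)))
    haveI : IsScalarTower A (A ⧸ maximalIdeal A) (A' ⧸ J) := IsScalarTower.of_algebraMap_eq fun _ => rfl
    haveI : Module.Finite A (A' ⧸ J) := Module.Finite.of_surjective (Ideal.Quotient.mkₐ A J).toLinearMap Ideal.Quotient.mk_surjective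
    haveI : Module.Finite (A ⧸ maximalIdeal A) (A' ⧸ J) :=
      Module.Finite.of_restrictScalars_finite A (A ⧸ maximalIdeal A) (A' ⧸ J)
    letI : Field (A ⧸ maximalIdeal A) := Ideal.Quotient.field _
    exact IsArtinianRing.of_finite (A ⧸ maximalIdeal A) (A' ⧸ J)
  haveI : IsReduced ((A' ⧸ J) ⊗[A] D) := H1EssEt.isReduced_tensor hD (A' ⧸ J)
  haveI : Module.Finite (A' ⧸ J) ((A' ⧸ J) ⊗[A] D) := H1EssEt.finite_tensor hD (A' ⧸ J)
  haveI : IsArtinianRing ((A' ⧸ J) ⊗[A] D) := IsArtinianRing.of_finite (A' ⧸ J) ((A' ⧸ J) ⊗[A] D)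
  let β : A' ⊗[A] D →ₐ[A] (A' ⧸ J) ⊗[A] D :=
    Algebra.TensorProduct.map (Ideal.Quotient.mkₐ A J) (AlgHom.id A D)
  have hβs : Function.Surjective β :=
    TensorProduct.map_surjective Ideal.Quotient.mk_surjective Function.surjective_id
  have hkerβ : RingHom.ker β = J.map (Algebra.TensorProduct.includeLeft : A' →ₐ[A] A' ⊗[A] D) := by
    show RingHom.ker (Algebra.TensorProduct.map (Ideal.Quotient.mkₐ A J) (AlgHom.id A D)) = _
    rw [Algebra.TensorProduct.rTensor_ker (R := A) _ Ideal.Quotient.mk_surjective]
    congr 1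
    exact Ideal.mk_ker
  have hle : ∀ N : Ideal (A' ⊗[A] D), N.IsMaximal →
      J.map (Algebra.TensorProduct.includeLeft : A' →ₐ[A] A' ⊗[A] D) ≤ N := fun N hN => by
    let e : D ⊗[A] A' ≃ₐ[A] A' ⊗[A] D := Algebra.TensorProduct.comm A D A'
    haveI : (N.comap e.toRingEquiv.toRingHom).IsMaximal :=
      Ideal.comap_isMaximal_of_surjective _ e.toRingEquiv.surjective
    haveI hD0 : ((N.comap e.toRingEquiv.toRingHom).comap (algebraMap D (D ⊗[A] A'))).IsMaximal :=
      Ideal.isMaximal_comap_of_isIntegral_of_isMaximal _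
    rw [Ideal.map_le_iff_le_comap]
    haveI : (N.comap (Algebra.TensorProduct.includeLeft : A' →ₐ[A] A' ⊗[A] D)).IsPrime := Ideal.IsPrime.comap _
    refine sInf_le ⟨bot_le, Ideal.isMaximal_of_isIntegral_of_isMaximal_comap (R := A) _ ?_⟩
    have h : ((N.comap (Algebra.TensorProduct.includeLeft : A' →ₐ[A] A' ⊗[A] D)).comap (algebraMap A A')) =
        ((N.comap e.toRingEquiv.toRingHom).comap (algebraMap D (D ⊗[A] A'))).comap (algebraMap A D) := by
      ext a
      show algebraMap A A' a ⊗ₜ[A] (1 : D) ∈ N ↔ (1 : A') ⊗ₜ[A] algebraMap A D a ∈ N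
      rw [Algebra.algebraMap_eq_smul_one, Algebra.algebraMap_eq_smul_one, smul_tmul]
    rw [h, IsLocalRing.eq_maximalIdeal hD0,
      ((IsLocalRing.local_hom_TFAE (algebraMap A D)).out 0 4 rfl rfl).mp inferInstance]
    exact maximalIdeal.isMaximal A
  have hjac : Ideal.jacobson (⊥ : Ideal (A' ⊗[A] D)) =
      J.map (Algebra.TensorProduct.includeLeft : A' →ₐ[A] A' ⊗[A] D) :=
    le_antisymm ((jac_le_ker β.toRingHom hβs).trans hkerβ.le) (le_sInf fun N hN => hle N hN.2)
  refine ⟨hjac, ?_, Ideal.map_le_iff_le_comap.mpr fun d hd => ?_⟩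
  · refine Set.Finite.of_injOn (f := fun N => Ideal.map β.toRingHom N) (t := {I : Ideal ((A' ⧸ J) ⊗[A] D) | I.IsPrime})
      (fun N hN => ?_) (fun N hN N' hN' h => ?_) (IsArtinianRing.setOfPred_isPrime_finite _)
    · haveI : N.IsMaximal := hN
      exact Ideal.map_isPrime_of_surjective hβs (hkerβ.le.trans (hle N hN))
    · have := congrArg (Ideal.comap β.toRingHom) h
      simp only [Ideal.comap_map_of_surjective _ (show Function.Surjective β.toRingHom from hβs),
        ← RingHom.ker_eq_comap_bot] at this
      rwa [sup_eq_left.mpr (show RingHom.ker β.toRingHom ≤ N from hkerβ.le.trans (hle N hN)),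
        sup_eq_left.mpr (show RingHom.ker β.toRingHom ≤ N' from hkerβ.le.trans (hle N' hN'))] at this
  · rw [← EtAlg7.map_maximalIdeal hD] at hd
    refine (Ideal.map_le_iff_le_comap.mpr fun a ha => ?_ :
      (maximalIdeal A).map (algebraMap A D) ≤ (J.map (Algebra.TensorProduct.includeLeft : A' →ₐ[A] A' ⊗[A] D)).comap
        (Algebra.TensorProduct.includeRight : D →ₐ[A] A' ⊗[A] D)) hd
    show (1 : A') ⊗ₜ[A] algebraMap A D a ∈ J.map _
    rw [Algebra.algebraMap_eq_smul_one, tmul_smul, smul_tmul', ← Algebra.algebraMap_eq_smul_one]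
    exact Ideal.mem_map_of_mem _ (hmJ (Ideal.mem_map_of_mem _ ha))

lemma semilocal_of_bijective (A A' D D' : Type u) [CommRing A] [IsLocalRing A] [CommRing A'] [Algebra A A']
    [Module.Finite A A'] [CommRing D] [IsLocalRing D] [Algebra A D] [IsLocalHom (algebraMap A D)]
    [CommRing D'] [Algebra A D']
    (hD : EGA4loc.IsEssentiallyEtale A D) (P : A' ⊗[A] D →ₐ[A] D') (hP : Function.Bijective P) :
    {N : Ideal D' | N.IsMaximal}.Finite ∧
      Function.Surjective ((Ideal.Quotient.mkₐ A (Ideal.jacobson (⊥ : Ideal D'))).comp P) ∧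
      RingHom.ker ((Ideal.Quotient.mkₐ A (Ideal.jacobson (⊥ : Ideal D'))).comp P) =
        (Ideal.jacobson (⊥ : Ideal A')).map
            (Algebra.TensorProduct.includeLeft : A' →ₐ[A] A' ⊗[A] D) ⊔
          (maximalIdeal D).map
            (Algebra.TensorProduct.includeRight : D →ₐ[A] A' ⊗[A] D) := by
  obtain ⟨hjac, hfin, hmD⟩ := tensor_semilocal A A' D hD
  exact ⟨finite_max_of_bijective P hP hfin, Ideal.Quotient.mk_surjective.comp hP.2,
    ((ker_mk_jac_comp P hP).trans hjac).trans (sup_eq_left.mpr hmD).symm⟩

open IsLocalRing in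
set_option maxHeartbeats 4000000 in
set_option synthInstance.maxHeartbeats 200000 in
/-- Let A be an excellent reduced local ring with maximal ideal m and residue field k, S a strict
henselization of A with total ring of fractions K, and D an A-subalgebra of S which is a local ring
dominated by S (local inclusion) and whose total ring of fractions is finitely generated over that
of A. Inside K, let A' and D' be the normalizations of A and of D: the elements of K integral over A
(resp. over D) which are carried into A (resp. into D) by the image of some non-zero-divisor of A;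
so A' ⊆ D', and let ι : D → D' be the inclusion. Then D is an essentially etale local A-algebra if
and only if D' has finitely many maximal ideals and the canonical map A' ⊗_A D → D'/Rad(D') is
surjective with kernel the ideal generated by Rad(A') ⊗ D and A' ⊗ m_D — in other words the residual
field products satisfy (A'/Rad A') ⊗_k (D/m_D) ≅ D'/Rad(D') via the canonical maps. -/
theorem result
    (A S : Type u) [CommRing A] [IsLocalRing A] [IsReduced A] (hA : EGA4.IsExcellent A)
    [CommRing S] [IsLocalRing S] [Algebra A S] [IsLocalHom (algebraMap A S)]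
    [Hensel.IsStrictHenselization A S] (D : Subalgebra A S) [IsLocalRing D]
    [IsLocalHom (algebraMap D S)]
    (hfg : ∃ t : Finset (FractionRing D), ∀ x : FractionRing D, ∃ a ∈ nonZeroDivisors A,
      algebraMap A (FractionRing D) a * x ∈ Algebra.adjoin A (t : Set (FractionRing D)))
    (A' D' : Subalgebra A (FractionRing S))
    (hA' : ∀ x : (FractionRing S), x ∈ A' ↔ (IsIntegral A x ∧
      ∃ a ∈ nonZeroDivisors A, ∃ b : A, algebraMap A (FractionRing S) a * x = algebraMap A (FractionRing S) b))
    (hD' : ∀ x : (FractionRing S), x ∈ D' ↔ (IsIntegral D x ∧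
      ∃ a ∈ nonZeroDivisors A, ∃ d ∈ D, algebraMap A (FractionRing S) a * x = algebraMap S (FractionRing S) d))
    (hle : A' ≤ D') (ι : D →ₐ[A] D') (hι : ∀ d : D, (ι d : (FractionRing S)) = algebraMap S (FractionRing S) d) :
    EGA4loc.IsEssentiallyEtale A D ↔
      ({N : Ideal D' | N.IsMaximal}.Finite ∧
        Function.Surjective ((Ideal.Quotient.mkₐ A (Ideal.jacobson (⊥ : Ideal D'))).comp
          (Algebra.TensorProduct.productMap (Subalgebra.inclusion hle) ι)) ∧
        RingHom.ker ((Ideal.Quotient.mkₐ A (Ideal.jacobson (⊥ : Ideal D'))).comp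
          (Algebra.TensorProduct.productMap (Subalgebra.inclusion hle) ι)) =
          (Ideal.jacobson (⊥ : Ideal A')).map
              (Algebra.TensorProduct.includeLeft : A' →ₐ[A] A' ⊗[A] D) ⊔
            (maximalIdeal D).map
              (Algebra.TensorProduct.includeRight : D →ₐ[A] A' ⊗[A] D)) := by
  classical
  haveI : IsNoetherianRing A := hA.1
  have hmin : (minimalPrimes A).Finite := minimalPrimes.finite_of_isNoetherianRing A
  haveI : IsArtinianRing (FractionRing A) := EssEtFrac5.isArtinianRing_fractionRing hmin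
  haveI : Algebra.WeaklyEtale A S := H1EssEt.weaklyEtale
  haveI : Module.Flat A S := Algebra.WeaklyEtale.flat
  haveI : Module.FaithfullyFlat A S := Module.FaithfullyFlat.of_flat_of_isLocalHom
  have hinjA : Function.Injective (algebraMap A S) := FaithfulSMul.algebraMap_injective A S
  haveI : IsReduced S := (Groth.Agent.Hensel.isHenzLike_of_isStrictHenselization A S).isReduced_iff.mp inferInstance
  haveI : IsReduced (FractionRing S) :=
    isReduced_localizationPreserves (nonZeroDivisors S) (FractionRing S) inferInstance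
  let P := Algebra.TensorProduct.productMap (Subalgebra.inclusion hle) ι
  constructor
  · intro hD
    haveI : IsLocalHom (algebraMap A D) := EssEtLib.isLocalHom_algebraMap hD
    haveI : Module.Flat A D := by
      obtain ⟨C, _, _, q, _, _, _, _, -, hl⟩ := EtAlg7.exists_presentation hD
      haveI : Module.Flat C D := IsLocalization.flat D q.primeCompl
      exact Module.Flat.trans A C D
    -- `P` is bijective
    let K := FractionRing A
    have hfi : Function.Injective (H1EssEt.fracMap A S) := by
      refine (injective_iff_map_eq_zero _).mpr fun k hk => ?_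
      obtain ⟨⟨r, a⟩, h⟩ := IsLocalization.surj (nonZeroDivisors A) k
      have h1 := congrArg (H1EssEt.fracMap A S) h
      rw [map_mul, hk, zero_mul, AlgHom.commutes, IsScalarTower.algebraMap_apply A S (FractionRing S)] at h1
      have hr : r = 0 := (map_eq_zero_iff _ hinjA).mp
        ((map_eq_zero_iff _ (IsFractionRing.injective S (FractionRing S))).mp h1.symm)
      rw [hr, map_zero] at h
      exact (IsLocalization.map_units K a).mul_left_eq_zero.mp h
    let jA : integralClosure A K →ₐ[A] A' :=
      AlgHom.codRestrict ((H1EssEt.fracMap A S).comp (integralClosure A K).val) A' fun x => (hA' _).mpr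
        ⟨x.2.map (H1EssEt.fracMap A S), by
          obtain ⟨⟨r, a⟩, h⟩ := IsLocalization.surj (nonZeroDivisors A) (x : K)
          refine ⟨a, a.2, r, ?_⟩
          have h1 := congrArg (H1EssEt.fracMap A S) h
          rw [map_mul, AlgHom.commutes, AlgHom.commutes, mul_comm] at h1
          exact h1⟩
    have hjA : Function.Bijective jA := by
      refine ⟨fun a b h => Subtype.ext (hfi (congrArg Subtype.val h : _)), fun a => ?_⟩
      obtain ⟨hai, c, hc, b, hab⟩ := (hA' _).mp a.2
      let k : K := IsLocalization.mk' K b (⟨c, hc⟩ : nonZeroDivisors A)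
      have hk : H1EssEt.fracMap A S k = (a : FractionRing S) := by
        refine (H1EssEt.isUnit_algebraMap_frac (S := S) ⟨c, hc⟩).mul_left_cancel ?_
        rw [hab, ← (H1EssEt.fracMap A S).commutes, ← map_mul, mul_comm (algebraMap A _ _), IsLocalization.mk'_spec]
        exact (H1EssEt.fracMap A S).commutes b
      exact ⟨⟨k, (isIntegral_algHom_iff (H1EssEt.fracMap A S) hfi).mp (hk ▸ hai)⟩, Subtype.ext hk⟩
    let η : D ⊗[A] integralClosure A K →ₐ[A] A' ⊗[A] D :=
      (Algebra.TensorProduct.map jA (AlgHom.id A D)).comp (Algebra.TensorProduct.comm A D _).toAlgHom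
    have hη : ∀ y, ((P (η y) : D') : FractionRing S) =
        H1EssEt.toFrac D (Algebra.TensorProduct.map (AlgHom.id D D) (integralClosure A K).val y) := by
      intro y
      induction y using TensorProduct.induction_on with
      | zero => simp
      | add x y hx hy => simp only [map_add, Subalgebra.coe_add, hx, hy]
      | tmul d k =>
        show (jA k : FractionRing S) * (ι d : FractionRing S) = algebraMap S (FractionRing S) d * H1EssEt.fracMap A S k
        rw [hι, mul_comm]
        rfl
    have hηs : Function.Surjective η :=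
      (TensorProduct.map_surjective hjA.2 Function.surjective_id).comp (Algebra.TensorProduct.comm A D _).surjective
    have hP : Function.Bijective P := by
      refine ⟨fun a b h => ?_, fun x => ?_⟩
      · obtain ⟨a, rfl⟩ := hηs a
        obtain ⟨b, rfl⟩ := hηs b
        have h' := congrArg Subtype.val h
        rw [hη, hη] at h'
        exact congrArg η ((Module.Flat.lTensor_preserves_injective_linearMap (M := D)
          (integralClosure A K).val.toLinearMap Subtype.val_injective) (H1EssEt.toFrac_injective D h'))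
      · obtain ⟨hi, a, ha, d, hd, had⟩ := (hD' _).mp x.2
        obtain ⟨y, hy⟩ := H1EssEt.exists_toFrac_eq D hD x hi ⟨a, ha, d, hd, had⟩
        exact ⟨η y, Subtype.ext ((hη y).trans hy)⟩
    -- the normalisation of `A` is finite
    haveI : Module.Finite A (integralClosure A K) := by
      obtain ⟨-, hN2⟩ := CompleteNagata.isNagata_of_isQuasiExcellent A ⟨hA.1, hA.2.2.1, hA.2.2.2⟩
      exact RedNorm.finite_norm A fun p => hN2 p.1 (FractionRing (A ⧸ p.1)) inferInstance
    haveI : Module.Finite A A' := Module.Finite.of_surjective jA.toLinearMap hjA.2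
    exact semilocal_of_bijective A A' D D' hD P hP
  · rintro ⟨-, hsurj, -⟩
    obtain ⟨E, hDE, _, hE⟩ := (S16441.result A S hmin D).mp hfg
    haveI : IsLocalHom (algebraMap A E) := EssEtLib.isLocalHom_algebraMap hE
    letI : Algebra D E := (Subalgebra.inclusion hDE).toRingHom.toAlgebra
    haveI : IsScalarTower A D E := IsScalarTower.of_algebraMap_eq fun _ => rfl
    have hinj : Function.Injective (algebraMap D E) := Subalgebra.inclusion_injective hDE
    haveI hloc : IsLocalHom (algebraMap D E) :=
      ⟨fun d hd => isUnit_of_map_unit (algebraMap D S) d (hd.map (algebraMap E S))⟩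
    haveI : Module.Flat A E := by
      obtain ⟨C, _, _, q, _, _, _, _, -, hl⟩ := EtAlg7.exists_presentation hE
      haveI : Module.Flat C E := IsLocalization.flat E q.primeCompl
      exact Module.Flat.trans A C E
    have hσ := H1EssEt.exists_killer hinjA D E hDE hE hloc A' D' hA' hD' hle ι hι hsurj
    haveI : Algebra.EssFiniteType A D :=
      H1EssEt.essFiniteType_of_flat_adjoin hmin D E hfg (H1EssEt.exists_flat_adjoin_of_killer A D E hinj hσ)
    haveI : Module.Flat D E := H1EssEt.flat_of_killer A D E hinj hσ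
    haveI : Module.FaithfullyFlat D E := Module.FaithfullyFlat.of_flat_of_isLocalHom
    have hm : (maximalIdeal A).map (algebraMap A D) = maximalIdeal D := by
      rw [← Ideal.comap_map_eq_self_of_faithfullyFlat (B := E) ((maximalIdeal A).map (algebraMap A D)),
        Ideal.map_map, ← IsScalarTower.algebraMap_eq, EtAlg7.map_maximalIdeal hE]
      exact ((IsLocalRing.local_hom_TFAE (algebraMap D E)).out 0 4 rfl rfl).mp hloc
    exact S16438.result A S D hm

end Groth.Agent.S16450
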