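import Groth.Statements.S16451
import Groth.Agent.H1EssEt.Rigid
import Groth.Agent.H1EssEt.FlatResidue
import Groth.Agent.H1EssEt.NormCondition
import Groth.Agent.S12236
import Groth.Agent.H1EssEt.Fraction

set_option autoImplicit false
universe u
open scoped TensorProduct
open EGA4loc

namespace Groth.Agent.S16451
open IsLocalRing

open IsLocalRing in
set_option maxHeartbeats 4000000 in
set_option synthInstance.maxHeartbeats 100000 in
/-- Let A be an excellent reduced local ring with maximal ideal m and residue field k, S a strict
henselization of A with total ring of fractions K, and D an A-subalgebra of S which is a local ring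
dominated by S (local inclusion); let D^h be a henselization of D and θ : D^h → S the D-algebra map
to S (the unique one, S being henselian). Inside K, let A' and D' be the normalizations of A and of
D — the elements of K integral over A (resp. over D) and carried into A (resp. into D) by the image
of some non-zero-divisor of A — so A' ⊆ D', and let ι : D → D' be the inclusion. Then θ is injective
and its image is a directed union of A-subalgebras of S which are local rings and essentially etale
local A-algebras (that is, D^h is a direct limit of local etale extensions of A) if and only if D'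
has finitely many maximal ideals and the canonical map A' ⊗_A D → D'/Rad(D') is surjective with
kernel the ideal generated by Rad(A') ⊗ D and A' ⊗ m_D (the residual field products satisfy (A'/Rad
A') ⊗_k (D/m_D) ≅ D'/Rad(D')). -/
theorem result
    (A S : Type u) [CommRing A] [IsLocalRing A] [IsReduced A] (hA : EGA4.IsExcellent A)
    [CommRing S] [IsLocalRing S] [Algebra A S] [IsLocalHom (algebraMap A S)]
    [Hensel.IsStrictHenselization A S] (D : Subalgebra A S) [IsLocalRing D]
    [IsLocalHom (algebraMap D S)]
    (Dh : Type u) [CommRing Dh] [IsLocalRing Dh] [Algebra D Dh] [IsLocalHom (algebraMap D Dh)]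
    [Hensel.IsHenselization D Dh] [Algebra Dh S] [IsScalarTower D Dh S]
    (A' D' : Subalgebra A (FractionRing S))
    (hA' : ∀ x : (FractionRing S), x ∈ A' ↔ (IsIntegral A x ∧
      ∃ a ∈ nonZeroDivisors A, ∃ b : A, algebraMap A (FractionRing S) a * x = algebraMap A (FractionRing S) b))
    (hD' : ∀ x : (FractionRing S), x ∈ D' ↔ (IsIntegral D x ∧
      ∃ a ∈ nonZeroDivisors A, ∃ d ∈ D, algebraMap A (FractionRing S) a * x = algebraMap S (FractionRing S) d))
    (hle : A' ≤ D') (ι : D →ₐ[A] D') (hι : ∀ d : D, (ι d : (FractionRing S)) = algebraMap S (FractionRing S) d) :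
    (Function.Injective (algebraMap Dh S) ∧
        ∀ s : Finset S, (s : Set S) ⊆ Set.range (algebraMap Dh S) →
          ∃ E : Subalgebra A S, (s : Set S) ⊆ (E : Set S) ∧ (E : Set S) ⊆ Set.range (algebraMap Dh S) ∧
            ∃ _ : IsLocalRing E, EGA4loc.IsEssentiallyEtale A E) ↔
      ({N : Ideal D' | N.IsMaximal}.Finite ∧
        Function.Surjective ((Ideal.Quotient.mkₐ A (Ideal.jacobson (⊥ : Ideal D'))).comp
          (Algebra.TensorProduct.productMap (Subalgebra.inclusion hle) ι)) ∧
        RingHom.ker ((Ideal.Quotient.mkₐ A (Ideal.jacobson (⊥ : Ideal D'))).comp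
          (Algebra.TensorProduct.productMap (Subalgebra.inclusion hle) ι)) =
          (Ideal.jacobson (⊥ : Ideal A')).map
              (Algebra.TensorProduct.includeLeft : A' →ₐ[A] A' ⊗[A] D) ⊔
            (maximalIdeal D).map
              (Algebra.TensorProduct.includeRight : D →ₐ[A] A' ⊗[A] D)) := by
  classical
  haveI : IsNoetherianRing A := hA.1
  have hmin : (minimalPrimes A).Finite := minimalPrimes.finite_of_isNoetherianRing A
  haveI : IsArtinianRing (FractionRing A) := EssEtFrac5.isArtinianRing_fractionRing hmin
  haveI : Algebra.WeaklyEtale A S := H1EssEt.weaklyEtale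
  haveI : Module.Flat A S := Algebra.WeaklyEtale.flat
  haveI : Module.FaithfullyFlat A S := Module.FaithfullyFlat.of_flat_of_isLocalHom
  have hinjA : Function.Injective (algebraMap A S) := FaithfulSMul.algebraMap_injective A S
  haveI : IsReduced S := (Groth.Agent.Hensel.isHenzLike_of_isStrictHenselization A S).isReduced_iff.mp inferInstance
  haveI : IsReduced (FractionRing S) :=
    isReduced_localizationPreserves (nonZeroDivisors S) (FractionRing S) inferInstance
  haveI : Algebra.WeaklyEtale D Dh := S0736.result D Dh (S12236.result D Dh)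
  haveI : Module.Flat D Dh := Algebra.WeaklyEtale.flat
  haveI : IsLocalHom (algebraMap Dh S) := by
    refine ((IsLocalRing.local_hom_TFAE (algebraMap Dh S)).out 0 2).mpr ?_
    rw [← Hensel.map_maximalIdeal_of_isHenselization (R := D) (S := Dh), Ideal.map_map, ← IsScalarTower.algebraMap_eq D Dh S]
    exact ((IsLocalRing.local_hom_TFAE (algebraMap D S)).out 0 2 rfl rfl).mp ‹_›
  let F : Subalgebra A S :=
    { (algebraMap Dh S).range.toSubsemiring with
      algebraMap_mem' := fun a => ⟨algebraMap D Dh (algebraMap A D a), by
        show algebraMap Dh S (algebraMap D Dh (algebraMap A D a)) = algebraMap A S a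
        rw [← IsScalarTower.algebraMap_apply D Dh S]; rfl⟩ }
  constructor
  · rintro ⟨hinj, hind⟩
    haveI hFS : Module.Flat F S := by
      refine Module.Flat.of_forall_isTrivialRelation fun {l f x} hfx => ?_
      obtain ⟨E, hsE, hEF, _, hE⟩ := hind (Finset.univ.image fun i => (f i : S)) (fun y hy => by
        obtain ⟨i, -, rfl⟩ := Finset.mem_image.mp (Finset.mem_coe.mp hy)
        exact (f i).2)
      haveI : IsLocalHom (algebraMap A E) := EssEtLib.isLocalHom_algebraMap hE
      haveI : IsLocalHom (algebraMap E S) := by
        refine ((IsLocalRing.local_hom_TFAE (algebraMap E S)).out 0 2).mpr ?_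
        rw [← EtAlg7.map_maximalIdeal hE, Ideal.map_map, ← IsScalarTower.algebraMap_eq A E S]
        exact ((IsLocalRing.local_hom_TFAE (algebraMap A S)).out 0 2 rfl rfl).mp ‹_›
      haveI := H1EssEt.faithfullyFlat_subalgebra E hE
      have hfE : ∀ i, (f i : S) ∈ E := fun i =>
        hsE (Finset.mem_coe.mpr (Finset.mem_image_of_mem _ (Finset.mem_univ i)))
      obtain ⟨k, a, y, hy, ha⟩ := Module.Flat.isTrivialRelation_of_sum_smul_eq_zero (R := E) (M := S)
        (f := fun i => (⟨_, hfE i⟩ : E)) (x := x) hfx
      refine ⟨k, fun i j => ⟨a i j, hEF (a i j).2⟩, y, fun i => hy i, fun j => Subtype.ext ?_⟩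
      have h := congrArg Subtype.val (ha j)
      simp only [AddSubmonoidClass.coe_finsetSum, ZeroMemClass.coe_zero, MulMemClass.coe_mul] at h ⊢
      exact h
    haveI : Module.Flat Dh S := by
      let φ : Dh →+* F := (algebraMap Dh S).codRestrict F fun z => ⟨z, rfl⟩
      have hφ : Function.Bijective φ :=
        ⟨fun z w h => hinj (congrArg Subtype.val h), fun z => ⟨z.2.choose, Subtype.ext z.2.choose_spec⟩⟩
      refine RingHom.flat_algebraMap_iff.mp ?_
      exact (RingHom.Flat.of_bijective hφ).comp (RingHom.flat_algebraMap_iff.mpr hFS)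
    haveI : Module.Flat D S := Module.Flat.trans D Dh S
    exact H1EssEt.normalization_condition hA D A' D' hA' hD' hle ι hι
  · rintro ⟨-, hsurj, -⟩
    haveI : Module.Flat D S := H1EssEt.flat_of_surjective hinjA D A' D' hA' hD' hle ι hι hsurj
    haveI : Algebra.WeaklyEtale D S := H1EssEt.weaklyEtale_of_flat A D S
    haveI : Algebra.WeaklyEtale Dh S := WEtLib.cancel (A := D) (B := Dh) S
    haveI : Module.Flat Dh S := Algebra.WeaklyEtale.flat
    haveI : Module.FaithfullyFlat Dh S := Module.FaithfullyFlat.of_flat_of_isLocalHom
    have hinj : Function.Injective (algebraMap Dh S) := FaithfulSMul.algebraMap_injective Dh S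
    let φ : Dh →+* F := (algebraMap Dh S).codRestrict F fun z => ⟨z, rfl⟩
    have hφ : Function.Bijective φ :=
      ⟨fun z w h => hinj (congrArg Subtype.val h), fun z => ⟨z.2.choose, Subtype.ext z.2.choose_spec⟩⟩
    let e : Dh ≃+* F := RingEquiv.ofBijective φ hφ
    haveI := Hensel.IsHenselization.henselian (R := D) (S := Dh)
    haveI : IsLocalRing F := e.isLocalRing
    haveI : HenselianLocalRing F := Groth.Agent.Hensel.henselianLocalRing_of_ringEquiv e
    haveI : IsLocalHom (algebraMap F S) := ⟨fun z hz => by
      obtain ⟨w, rfl⟩ := e.surjective z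
      exact (isUnit_of_map_unit (algebraMap Dh S) w hz).map e⟩
    haveI : Module.Flat F S := by
      refine RingHom.flat_algebraMap_iff.mp ?_
      have h := (RingHom.Flat.of_bijective (f := e.symm.toRingHom) e.symm.bijective).comp
        (RingHom.flat_algebraMap_iff.mpr ‹Module.Flat Dh S›)
      convert h using 1
      exact RingHom.ext fun z => (congrArg Subtype.val (e.apply_symm_apply z)).symm
    refine ⟨hinj, fun s hs => ?_⟩
    obtain ⟨E, hsE, hEF, _, -, hE⟩ := H1EssEt.exists_essEtale_of_henselian_flat F s hs
    exact ⟨E, hsE, hEF, ‹_›, hE⟩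

end Groth.Agent.S16451
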