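import Groth.Statements.S16452
import Mathlib

set_option autoImplicit false
universe u
open CAlg

namespace Groth.Agent.S16452

/-- Let R → S be formally étale and J an ideal of S such that the composite R → S → S/J is surjective;
let I ⊆ R be its kernel, the preimage of J in R. Then the homomorphism of associated graded rings ⊕ₙ
Iⁿ/Iⁿ⁺¹ → ⊕ₙ Jⁿ/Jⁿ⁺¹ induced by R → S (which carries I into J) is bijective. -/
theorem result (R : Type u) [CommRing R] (S : Type u)
    [CommRing S] [Algebra R S] [Algebra.FormallyEtale R S] (J : Ideal S)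
    (hJ : Function.Surjective (algebraMap R (S ⧸ J))) :
    Function.Bijective (AssocGr.map (AssocGr.IsFiltHom.adic
      (Ideal.map_comap_le : (J.comap (algebraMap R S)).map (algebraMap R S) ≤ J))) := by
  classical
  let I : Ideal R := J.comap (algebraMap R S)
  let π : S →ₐ[R] R ⧸ I :=
    (((Ideal.quotientKerAlgEquivOfSurjective (f := Algebra.ofId R (S ⧸ J)) hJ).symm.trans
      (Ideal.quotientEquivAlgOfEq R (show RingHom.ker (Algebra.ofId R (S ⧸ J)) = I by
        ext r
        rw [RingHom.mem_ker, Ideal.mem_comap, Algebra.ofId_apply,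
          IsScalarTower.algebraMap_apply R S (S ⧸ J), Ideal.Quotient.algebraMap_eq,
          Ideal.Quotient.eq_zero_iff_mem]))).toAlgHom).comp (Ideal.Quotient.mkₐ R J)
  have hπJ : ∀ y ∈ J, π y = 0 := fun y hy => by
    have h0 : Ideal.Quotient.mkₐ R J y = 0 := Ideal.Quotient.eq_zero_iff_mem.mpr hy
    simp only [π, AlgHom.comp_apply, h0, map_zero]
  have main : ∀ k : ℕ, (J ^ (k + 1)).comap (algebraMap R S) = I ^ (k + 1) ∧
      ∀ y : S, ∃ x : R, y - algebraMap R S x ∈ J ^ (k + 1) := by
    intro k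
    let f : R ⧸ I ^ (k + 1) →ₐ[R] R ⧸ I :=
      Ideal.Quotient.factorₐ R (Ideal.pow_le_self (Nat.succ_ne_zero k))
    have hf : Function.Surjective f := Ideal.Quotient.factor_surjective (Ideal.pow_le_self (Nat.succ_ne_zero k))
    have hker : IsNilpotent (RingHom.ker (f : R ⧸ I ^ (k + 1) →+* R ⧸ I)) := by
      refine ⟨k + 1, ?_⟩
      have : RingHom.ker (f : R ⧸ I ^ (k + 1) →+* R ⧸ I) = I.map (Ideal.Quotient.mk (I ^ (k + 1))) :=
        Ideal.Quotient.factor_ker (Ideal.pow_le_self (Nat.succ_ne_zero k))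
      rw [this, ← Ideal.map_pow, Ideal.map_quotient_self]
      rfl
    let g : S →ₐ[R] R ⧸ I ^ (k + 1) := Algebra.FormallySmooth.liftOfSurjective π f hf hker
    have hg : ∀ y, f (g y) = π y := fun y => Algebra.FormallySmooth.liftOfSurjective_apply π f hf hker y
    have hgJ : J.map g ≤ RingHom.ker (f : R ⧸ I ^ (k + 1) →+* R ⧸ I) := by
      rw [Ideal.map_le_iff_le_comap]
      intro y hy
      rw [Ideal.mem_comap, RingHom.mem_ker]
      exact (hg y).trans (hπJ y hy)
    have hgJk : ∀ y ∈ J ^ (k + 1), g y = 0 := by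
      intro y hy
      have h1 := Ideal.mem_map_of_mem g hy
      rw [Ideal.map_pow] at h1
      have h2 := Ideal.pow_right_mono hgJ (k + 1) h1
      rw [show RingHom.ker (f : R ⧸ I ^ (k + 1) →+* R ⧸ I) = I.map (Ideal.Quotient.mk (I ^ (k + 1))) from
        Ideal.Quotient.factor_ker (Ideal.pow_le_self (Nat.succ_ne_zero k)), ← Ideal.map_pow, Ideal.map_quotient_self] at h2
      exact h2
    refine ⟨le_antisymm (fun x hx => ?_) ?_, fun y => ?_⟩
    · have h1 := hgJk _ (Ideal.mem_comap.mp hx)
      rw [AlgHom.commutes, Ideal.Quotient.algebraMap_eq] at h1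
      exact Ideal.Quotient.eq_zero_iff_mem.mp h1
    · rw [← Ideal.map_le_iff_le_comap, Ideal.map_pow]
      exact Ideal.pow_right_mono Ideal.map_comap_le _
    · obtain ⟨x, hx⟩ := Ideal.Quotient.mk_surjective (g y)
      refine ⟨x, Ideal.Quotient.eq.mp ?_⟩
      let h : R ⧸ I ^ (k + 1) →ₐ[R] S ⧸ J ^ (k + 1) :=
        Ideal.Quotient.liftₐ (I ^ (k + 1)) (Algebra.ofId R (S ⧸ J ^ (k + 1))) fun r hr => by
          rw [Algebra.ofId_apply, IsScalarTower.algebraMap_apply R S (S ⧸ J ^ (k + 1)),
            Ideal.Quotient.algebraMap_eq, Ideal.Quotient.eq_zero_iff_mem]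
          have := Ideal.mem_map_of_mem (algebraMap R S) hr
          rw [Ideal.map_pow] at this
          exact Ideal.pow_right_mono Ideal.map_comap_le _ this
      have heq : h.comp g = Ideal.Quotient.mkₐ R (J ^ (k + 1)) := by
        refine Algebra.FormallyUnramified.lift_unique (J.map (Ideal.Quotient.mk (J ^ (k + 1))))
          ⟨k + 1, by rw [← Ideal.map_pow, Ideal.map_quotient_self]; rfl⟩ _ _ (AlgHom.ext fun s => ?_)
        obtain ⟨r, hr⟩ := Ideal.Quotient.mk_surjective (g s)
        show Ideal.Quotient.mk _ (h (g s)) = Ideal.Quotient.mk _ (Ideal.Quotient.mk _ s)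
        rw [Ideal.Quotient.eq, ← hr]
        show Ideal.Quotient.mk (J ^ (k + 1)) (algebraMap R S r) - Ideal.Quotient.mk _ s ∈ _
        rw [← map_sub]
        refine Ideal.mem_map_of_mem _ ?_
        have h3 : π (algebraMap R S r) = π s := by
          rw [← hg s, ← hr, AlgHom.commutes]
          rfl
        rw [AlgHom.comp_apply, AlgHom.comp_apply, AlgEquiv.coe_toAlgHom] at h3
        exact Ideal.Quotient.eq.mp (AlgEquiv.injective _ h3)
      have h5 := AlgHom.congr_fun heq y
      rw [AlgHom.comp_apply, ← hx] at h5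
      exact h5.symm
  have hcomap : ∀ n, (J ^ n).comap (algebraMap R S) = I ^ n := by
    intro n
    cases n with
    | zero => simp
    | succ k => exact (main k).1
  constructor
  · rw [injective_iff_map_eq_zero]
    intro a ha
    obtain ⟨f, rfl⟩ := AssocGr.mkG_surjective _ a
    rw [AssocGr.map_mkG, AssocGr.mkG_eq_zero_iff] at ha
    rw [AssocGr.mkG_eq_zero_iff]
    intro n
    have := ha n
    rw [AssocGr.coe_reesMap, Polynomial.coeff_map] at this
    show _ ∈ I ^ (n + 1)
    rw [← hcomap]
    exact this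
  · intro b
    obtain ⟨f, rfl⟩ := AssocGr.mkG_surjective _ b
    rw [← RingHom.mem_range, ← AssocGr.sum_term _ f, map_sum]
    refine sum_mem fun n _ => ?_
    rw [AssocGr.mkG_term]
    set c := (f : Polynomial S).coeff n with hc
    have hcJ : c ∈ J ^ n := f.2 n
    obtain ⟨x, hx⟩ := (main n).2 c
    have hxI : x ∈ I ^ n := by
      rw [← hcomap]
      have := sub_mem hcJ (Ideal.pow_le_pow_right (Nat.le_succ n) hx)
      rwa [sub_sub_cancel] at this
    refine ⟨((AssocGr.inDeg (FiltBl.IdealFiltration.adic I) n ⟨x, hxI⟩ : AssocGr.gr (FiltBl.IdealFiltration.adic I) n) :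
      AssocGr.GrRing (FiltBl.IdealFiltration.adic I)), ?_⟩
    rw [AssocGr.map_inDeg, AssocGr.coe_inDeg, AssocGr.coe_inDeg, ← sub_eq_zero, ← map_sub,
      AssocGr.mkG_eq_zero_iff]
    intro m
    rw [Subalgebra.coe_sub, AssocGr.coe_coe_monom, AssocGr.coe_coe_monom, Polynomial.coeff_sub,
      Polynomial.coeff_monomial, Polynomial.coeff_monomial]
    split_ifs with hm
    · subst hm
      have := neg_mem hx
      rwa [neg_sub] at this
    · rw [sub_zero]; exact zero_mem _

end Groth.Agent.S16452
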