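import Groth.Statements.S16473
import Groth.Agent.GaExt.AlphaPt
import Groth.Agent.PervTLib.ExtReal
-- import your own Groth.Agent.* helpers here

set_option autoImplicit false
universe u
open GaDual

namespace Groth.Agent.S16473

open CategoryTheory AlgebraicGeometry Opposite MonoidalCategory CartesianMonoidalCategory in
open scoped MonObj in
open Groth.Agent.GaExt Groth.Agent.Adeq2Lib Groth.Agent.Adeq2Lib.AffVan in
/-- Every extension has an additive lift of the universal point. -/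
theorem exists_additive (p : ℕ) [Fact p.Prime] (R : Type u) [CommRing R] [CharP R p]
    (hF : Function.Surjective (frobenius R p)) (n : ℕ)
    (E : GmExt (CGrpSh.pts Scheme.fppfPrecoverage (αP p n R))) :
    ∃ y, E.qs _ y = ptSec (𝟙 (αP p n R)) ∧
      ∀ (T : Over (Spec (CommRingCat.of R))) (a b : T ⟶ αP p n R), sT E y (a * b) = sT E y a + sT E y b := by
  obtain ⟨y₀, hy₀⟩ := exists_lift_good (A := AlphaPn.A p n R) E
    (Spec.map (CommRingCat.ofHom (algebraMap R (AlphaPn.A p n R)))) p (good_alphaPn hF) (fun T v => αnsmul_sect v)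
    (ptSec (𝟙 (αP p n R)))
  obtain ⟨y, hy, hone⟩ := exists_normal E (y := y₀) hy₀
  let M := αA2 p n R
  obtain ⟨c, hc⟩ := exists_defect E hy (αPt (R := R) (αξ 0 : αA2 p n R) (αξ_pow (0 : Fin 2)))
    (αPt (R := R) (αξ 1 : αA2 p n R) (αξ_pow (1 : Fin 2)))
  let hh : Mˣ := (chUnit (cR R) M).symm c
  obtain ⟨h, hh'⟩ := Ideal.Quotient.mk_surjective (hh : M)
  have hq0 : ∀ (B : Type u) [CommRing B], (0 : B) ^ (p ^ n) = 0 := fun B _ =>
    zero_pow (pow_ne_zero n (Fact.out : p.Prime).ne_zero)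
  -- evaluation of the universal pair
  have hg : ∀ {B : Type u} [CommRing B] [Algebra R B] (b₀ b₁ : B), b₀ ^ (p ^ n) = 0 → b₁ ^ (p ^ n) = 0 →
      ∀ a ∈ qI R (Fin 2) (p ^ n), (MvPolynomial.aeval ![b₀, b₁] : MvPolynomial (Fin 2) R →ₐ[R] B) a = 0 := by
    intro B _ _ b₀ b₁ h₀ h₁ a ha
    refine (Ideal.span_le (I := RingHom.ker (MvPolynomial.aeval ![b₀, b₁] : MvPolynomial (Fin 2) R →ₐ[R] B))).2 ?_ ha
    rintro _ ⟨i, rfl⟩
    show (MvPolynomial.aeval ![b₀, b₁] : MvPolynomial (Fin 2) R →ₐ[R] B) _ = 0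
    rw [map_pow, MvPolynomial.aeval_X]
    fin_cases i <;> assumption
  let g : ∀ {B : Type u} [CommRing B] [Algebra R B] (b₀ b₁ : B), b₀ ^ (p ^ n) = 0 → b₁ ^ (p ^ n) = 0 → (M →ₐ[R] B) :=
    fun {B} _ _ b₀ b₁ h₀ h₁ => Ideal.Quotient.liftₐ _ (MvPolynomial.aeval ![b₀, b₁]) (hg b₀ b₁ h₀ h₁)
  have key : ∀ {B : Type u} [CommRing B] [Algebra R B] (b₀ b₁ : B) (h₀ : b₀ ^ (p ^ n) = 0) (h₁ : b₁ ^ (p ^ n) = 0)
      (h₂ : (b₀ + b₁) ^ (p ^ n) = 0),
      E.inc _ (chUnit (cR R) B (Units.map (g b₀ b₁ h₀ h₁).toRingHom.toMonoidHom hh)) =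
        sT E y (αPt b₀ h₀) + sT E y (αPt b₁ h₁) - sT E y (αPt (b₀ + b₁) h₂) := by
    intro B _ _ b₀ b₁ h₀ h₁ h₂
    have e₀ : (g b₀ b₁ h₀ h₁) (αξ 0) = b₀ := MvPolynomial.aeval_X _ _
    have e₁ : (g b₀ b₁ h₀ h₁) (αξ 1) = b₁ := MvPolynomial.aeval_X _ _
    rw [← E.inc_chMap, MulEquiv.apply_symm_apply, hc, map_sub, map_add, sT_res, sT_res, sT_res, MonObj.comp_mul,
      chMap_αPt _ _ _ (by rw [e₀]; exact h₀), chMap_αPt _ _ _ (by rw [e₁]; exact h₁),
      αPt_congr e₀ _ h₀, αPt_congr e₁ _ h₁, αPt_add _ _ _ _ h₂]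
  have hinj : ∀ (B : Type u) [CommRing B] [Algebra R B],
      Function.Injective (fun d : Bˣ => E.inc _ (chUnit (cR R) B d)) := fun B _ _ a b h =>
    (chUnit (cR R) B).injective (E.inc_injective _ h)
  have gval : ∀ {B : Type u} [CommRing B] [Algebra R B] (b₀ b₁ : B) (h₀ : b₀ ^ (p ^ n) = 0) (h₁ : b₁ ^ (p ^ n) = 0),
      (g b₀ b₁ h₀ h₁) hh = MvPolynomial.aeval ![b₀, b₁] h := fun b₀ b₁ h₀ h₁ => by rw [← hh']; rfl
  have hadd : ∀ {B : Type u} [CommRing B] [Algebra R B] (b₀ b₁ : B), b₀ ^ (p ^ n) = 0 → b₁ ^ (p ^ n) = 0 → (b₀ + b₁) ^ (p ^ n) = 0 :=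
    fun b₀ b₁ h₀ h₁ => AlphaPn.add_pow_eq_zero p n R (Commute.all _ _) h₀ h₁
  -- the constant term
  have h0 : MvPolynomial.constantCoeff h = 1 := by
    have h1 : Units.map (g (0 : R) 0 (hq0 R) (hq0 R)).toRingHom.toMonoidHom hh = 1 := by
      apply hinj R
      show E.inc _ _ = E.inc _ _
      rw [key _ _ (hq0 R) (hq0 R) (by rw [add_zero]; exact hq0 R), map_one, E.inc_one,
        αPt_congr (add_zero (0 : R)) (by rw [add_zero]; exact hq0 R) (hq0 R), αPt_zero, hone, add_zero, sub_zero]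
    have h2 := congrArg Units.val h1
    change (g (0 : R) 0 (hq0 R) (hq0 R)) hh = 1 at h2
    rw [gval _ _ (hq0 R) (hq0 R), show (![0, 0] : Fin 2 → R) = 0 from funext fun i => by fin_cases i <;> rfl] at h2
    simpa [MvPolynomial.aeval_zero] using h2
  -- symmetry
  have hsymm : MvPolynomial.aeval ![MvPolynomial.X 1, MvPolynomial.X 0] h - h ∈ qI R (Fin 2) (p ^ n) := by
    have h1 : Units.map (g (αξ 1 : M) (αξ 0) (αξ_pow 1) (αξ_pow 0)).toRingHom.toMonoidHom hh = hh := by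
      apply hinj M
      show E.inc _ _ = E.inc _ _
      rw [key _ _ _ _ (hadd _ _ (αξ_pow 1) (αξ_pow 0)), MulEquiv.apply_symm_apply, hc, add_comm (sT E y _),
        αPt_add _ _ _ _ (hadd _ _ (αξ_pow 0) (αξ_pow 1))]
      exact congrArg (fun a => _ - sT E y a) (αPt_congr (add_comm _ _) _ _)
    have h2 := congrArg Units.val h1
    change (g (αξ 1 : M) (αξ 0) (αξ_pow 1) (αξ_pow 0)) hh = (hh : M) at h2
    rw [gval _ _ (αξ_pow 1) (αξ_pow 0), ← hh'] at h2
    rw [← Ideal.Quotient.eq]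
    refine Eq.trans ?_ h2
    exact (AlgHom.congr_fun (MvPolynomial.algHom_ext (fun i => by
      rw [AlgHom.comp_apply, MvPolynomial.aeval_X, MvPolynomial.aeval_X]; fin_cases i <;> rfl) :
      (Ideal.Quotient.mkₐ R (qI R (Fin 2) (p ^ n))).comp
        (MvPolynomial.aeval ![(MvPolynomial.X 1 : MvPolynomial (Fin 2) R), MvPolynomial.X 0]) =
        MvPolynomial.aeval ![(αξ 1 : M), αξ 0]) h)
  -- the cocycle identity
  have hcoc : (MvPolynomial.aeval ![MvPolynomial.X 1, MvPolynomial.X 2] h : MvPolynomial (Fin 3) R) *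
        MvPolynomial.aeval ![MvPolynomial.X 0, MvPolynomial.X 1 + MvPolynomial.X 2] h -
      MvPolynomial.aeval ![MvPolynomial.X 0 + MvPolynomial.X 1, MvPolynomial.X 2] h *
        MvPolynomial.aeval ![MvPolynomial.X 0, MvPolynomial.X 1] h ∈ qI R (Fin 3) (p ^ n) := by
    let M₃ : Type u := MvPolynomial (Fin 3) R ⧸ qI R (Fin 3) (p ^ n)
    let ξ : Fin 3 → M₃ := fun i => αξ (p := p) (n := n) i
    have hξ : ∀ i, ξ i ^ (p ^ n) = 0 := fun i => αξ_pow i
    have h12 := hadd _ _ (hξ 1) (hξ 2)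
    have h01 := hadd _ _ (hξ 0) (hξ 1)
    have h012 := hadd _ _ (hξ 0) h12
    let φ : ∀ (a b : M₃), a ^ (p ^ n) = 0 → b ^ (p ^ n) = 0 → M₃ˣ := fun a b ha hb =>
      Units.map (g a b ha hb).toRingHom.toMonoidHom hh
    have h1 : φ _ _ (hξ 1) (hξ 2) * φ _ _ (hξ 0) h12 = φ _ _ h01 (hξ 2) * φ _ _ (hξ 0) (hξ 1) := by
      apply hinj M₃
      show E.inc _ _ = E.inc _ _
      simp only [φ, map_mul, E.inc_mul]
      rw [key _ _ (hξ 1) (hξ 2) h12, key _ _ (hξ 0) h12 h012, key _ _ h01 (hξ 2) (hadd _ _ h01 (hξ 2)),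
        key _ _ (hξ 0) (hξ 1) h01,
        αPt_congr (add_assoc (ξ 0) (ξ 1) (ξ 2)) (hadd _ _ h01 (hξ 2)) h012]
      abel
    have h2 := congrArg Units.val h1
    change (g _ _ (hξ 1) (hξ 2)) hh * (g _ _ (hξ 0) h12) hh = (g _ _ h01 (hξ 2)) hh * (g _ _ (hξ 0) (hξ 1)) hh at h2
    rw [gval _ _ (hξ 1) (hξ 2), gval _ _ (hξ 0) h12, gval _ _ h01 (hξ 2), gval _ _ (hξ 0) (hξ 1)] at h2
    have hv : ∀ v : Fin 2 → MvPolynomial (Fin 3) R, Ideal.Quotient.mk (qI R (Fin 3) (p ^ n)) (MvPolynomial.aeval v h) =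
        MvPolynomial.aeval (fun i => Ideal.Quotient.mk (qI R (Fin 3) (p ^ n)) (v i)) h := fun v =>
      AlgHom.congr_fun (MvPolynomial.comp_aeval (f := v) (Ideal.Quotient.mkₐ R (qI R (Fin 3) (p ^ n)))) h
    rw [← Ideal.Quotient.eq, map_mul, map_mul, hv, hv, hv, hv]
    convert h2 using 2 <;>
      exact congrArg (fun w => MvPolynomial.aeval w h) (funext fun i => by fin_cases i <;> simp [ξ, αξ])
  obtain ⟨f, hf0, hfh⟩ := exists_trunc_splitting p hF h0 (n := n) ⟨hsymm, hcoc⟩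
  obtain ⟨fi, hfi⟩ := exists_inv_mod hf0 (p ^ n)
  have hfu : AlphaPn.mk p n R f * AlphaPn.mk p n R fi = 1 := by
    obtain ⟨r, hr⟩ := Ideal.mem_span_singleton.1 hfi
    rw [← map_mul, ← sub_eq_zero, ← map_one (AlphaPn.mk p n R), ← map_sub, hr, map_mul, map_pow, AlphaPn.mk_X,
      AlphaPn.x_pow, zero_mul]
  let fu : (AlphaPn.A p n R)ˣ := ⟨_, _, hfu, (mul_comm _ _).trans hfu⟩
  let w := Units.map (αToFn p n R).toMonoidHom fu
  refine ⟨y + E.inc _ w, ?_, fun T a b => ?_⟩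
  · rw [map_add, hy, E.qs_inc, add_zero]
  have hS : ∀ {B : Type u} [CommRing B] [Algebra R B] (b : B) (hb : b ^ (p ^ n) = 0),
      sT E (y + E.inc _ w) (αPt (R := R) b hb) =
        sT E y (αPt (R := R) b hb) + E.inc _ (chUnit (cR R) B (Units.map (AlphaPn.lift p n R b hb).toRingHom.toMonoidHom fu)) := by
    intro B _ _ b hb
    show rA E.F _ (_ + _) = _
    rw [map_add, E.inc_res]
    congr 2
    exact Units.ext (αPt_appTop b hb _)
  have h01 := hadd (αξ 0 : M) (αξ 1) (αξ_pow 0) (αξ_pow 1)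
  have huniv : sT E (y + E.inc _ w) (αPt (R := R) (αξ 0 : M) (αξ_pow 0) * αPt (αξ 1) (αξ_pow 1)) =
      sT E (y + E.inc _ w) (αPt (R := R) (αξ 0 : M) (αξ_pow 0)) +
        sT E (y + E.inc _ w) (αPt (R := R) (αξ 1 : M) (αξ_pow 1)) := by
    rw [αPt_add _ _ _ _ h01, hS, hS, hS]
    have hu : Units.map (AlphaPn.lift p n R _ h01).toRingHom.toMonoidHom fu =
        Units.map (AlphaPn.lift p n R _ (αξ_pow (0 : Fin 2))).toRingHom.toMonoidHom fu *
          Units.map (AlphaPn.lift p n R _ (αξ_pow (1 : Fin 2))).toRingHom.toMonoidHom fu * hh := by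
      apply Units.ext
      show (AlphaPn.lift p n R _ h01) (AlphaPn.mk p n R f) = (AlphaPn.lift p n R _ _) (AlphaPn.mk p n R f) *
        (AlphaPn.lift p n R _ _) (AlphaPn.mk p n R f) * (hh : M)
      have hl : ∀ (v : MvPolynomial (Fin 2) R) (hv : (Ideal.Quotient.mk (qI R (Fin 2) (p ^ n)) v : M) ^ (p ^ n) = 0),
          (AlphaPn.lift p n R _ hv) (AlphaPn.mk p n R f) = Ideal.Quotient.mk _ (Polynomial.aeval v f) := fun v hv => by
        rw [← AlphaPn.aeval_x, ← Polynomial.aeval_algHom_apply, AlphaPn.lift_x]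
        exact Polynomial.aeval_algHom_apply (Ideal.Quotient.mkₐ R (qI R (Fin 2) (p ^ n))) v f
      simp only [αξ, ← map_add]
      rw [hl, hl, hl, ← hh', ← map_mul, ← map_mul, Ideal.Quotient.eq]
      exact hfh
    rw [hu]
    simp only [map_mul, E.inc_mul]
    rw [show E.inc _ (chUnit (cR R) M hh) = sT E y (αPt (αξ 0 : M) (αξ_pow 0)) +
      sT E y (αPt (αξ 1 : M) (αξ_pow 1)) - sT E y (αPt ((αξ 0 : M) + αξ 1) h01) by
        rw [MulEquiv.apply_symm_apply, hc, αPt_add]]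
    abel
  obtain ⟨m, rfl, rfl⟩ := exists_αPair a b
  have h := congrArg (rA E.F m) huniv
  rw [map_add, sT_res, sT_res, sT_res, MonObj.comp_mul] at h
  exact h

open CategoryTheory AlgebraicGeometry in
/-- Suppose R is a commutative ring of prime characteristic p on which the Frobenius map r ↦ r^p is
surjective, and fix a natural number n. Consider α_{p^n}, the R-group scheme Spec R[x]/(x^(p^n))
with x primitive, i.e. the kernel of the n-th power of Frobenius acting on the additive group. Then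
Ext^1 of α_{p^n} by the multiplicative group is trivial, where the Ext is formed among
abelian-group-valued sheaves over the big fppf site of Spec R. -/
theorem result (p : ℕ) [Fact p.Prime] (R : Type u)
    [CommRing R] [CharP R p] (hF : Function.Surjective (frobenius R p)) (n : ℕ) :
    Subsingleton (CGrpSh.ExtS Scheme.fppfPrecoverage
      ((Spec (CommRingCat.of (AlphaPn.A p n R))).asOver (Spec (CommRingCat.of R)))
      (Red.Gm (Spec (CommRingCat.of R))) 1) := by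
  exact GaExt.subsingleton_extS (fun E => exists_additive p R hF n E)
    (fun x => Groth.Agent.PervTLib.exists_shortExact_extClass x)

end Groth.Agent.S16473
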