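import Groth.Statements.S1649
import Groth.Agent.RatSingExt.Transfer
-- import your own Groth.Agent.* helpers here

set_option autoImplicit false
set_option backward.isDefEq.respectTransparency false
set_option backward.isDefEq.respectTransparency.types false
set_option linter.style.haveILetI false
set_option maxHeartbeats 1000000
universe u
open CategoryTheory CategoryTheory.Limits AlgebraicGeometry
open Resolve

namespace Groth.Agent.S1649
open Groth.Agent

/-- Let A be a local normal Nagata domain of dimension two defining a rational singularity, and B a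
normal two-dimensional local domain containing A, with A → B local, essentially of finite type and
inducing an equality of fraction fields. Then B defines a rational singularity. -/
theorem result (A B : Type u) [CommRing A] [CommRing B] [IsDomain A] [IsDomain B]
    [IsLocalRing A] [IsLocalRing B] [IsNoetherianRing A] [IsIntegrallyClosed A] (hN : CAlg.IsNagata A) (hdimA : ringKrullDim A = 2)
    (hA : Curv2.IsRationalSing A) [Algebra A B] [IsLocalHom (algebraMap A B)] (hinj : Function.Injective (algebraMap A B))
    [Algebra.EssFiniteType A B] (hfrac : ∀ b : B, ∃ a a' : A, a' ≠ 0 ∧ algebraMap A B a' * b = algebraMap A B a)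
    [IsIntegrallyClosed B] (hdimB : ringKrullDim B = 2) : Curv2.IsRationalSing B := by
  classical
  let C := Algebra.EssFiniteType.subalgebra A B
  haveI : IsDomain C := inferInstance
  haveI : IsNoetherianRing C := Algebra.FiniteType.isNoetherianRing A C
  haveI : IsLocalization (Algebra.EssFiniteType.submonoid A B) B := inferInstance
  let p : Ideal C := (IsLocalRing.maximalIdeal B).comap (algebraMap C B)
  haveI : p.IsPrime := Ideal.IsPrime.comap _
  have hp : Algebra.EssFiniteType.submonoid A B = p.primeCompl := by
    ext c
    show IsUnit (algebraMap C B c) ↔ ¬ algebraMap C B c ∈ IsLocalRing.maximalIdeal B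
    rw [IsLocalRing.mem_maximalIdeal, mem_nonunits_iff, not_not]
  haveI : IsLocalization.AtPrime B p := by
    show IsLocalization p.primeCompl B
    rw [← hp]; infer_instance
  let U : Scheme.{u} := Spec (CommRingCat.of C)
  let T : Scheme.{u} := Spec (CommRingCat.of A)
  let φ : CommRingCat.of A ⟶ CommRingCat.of C := CommRingCat.ofHom (algebraMap A C)
  let g : U ⟶ T := Spec.map φ
  have hφ : Function.Injective (algebraMap A C) := fun a b h => hinj (congrArg Subtype.val h)
  haveI : LocallyOfFiniteType g :=
    (HasRingHomProperty.Spec_iff (P := @LocallyOfFiniteType)).2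
      (RingHom.finiteType_algebraMap.2 inferInstance)
  haveI : IsDomain (CommRingCat.of C) := inferInstanceAs (IsDomain C)
  haveI : IsDomain (CommRingCat.of A) := inferInstanceAs (IsDomain A)
  obtain ⟨hgen, hbir⟩ := Groth.Agent.RatSingExt.birational_specMap (algebraMap A C) hφ fun c => by
    obtain ⟨a, a', ha', h⟩ := hfrac c.1
    exact ⟨a, a', ha', Subtype.ext h⟩
  let u : U := (⟨p, inferInstance⟩ : PrimeSpectrum C)
  letI : Algebra C (U.presheaf.stalk u) := StructureSheaf.stalkAlgebra C (⟨p, inferInstance⟩ : PrimeSpectrum C)
  haveI : IsLocalization.AtPrime (U.presheaf.stalk u) p := StructureSheaf.IsLocalization.to_stalk C (⟨p, inferInstance⟩ : PrimeSpectrum C)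
  let e₀ : U.presheaf.stalk u ≃+* B := (IsLocalization.algEquiv p.primeCompl (U.presheaf.stalk u) B).toRingEquiv
  have hu : IsIntegrallyClosed (U.presheaf.stalk u) := IsIntegrallyClosed.of_equiv e₀.symm
  have hT : Pi1.IsNormalScheme T := Groth.Agent.RatSingExt.isNormalScheme_Spec A
  obtain ⟨Y, π, W, j, hπ, hY, hYn, -, hπV, hj, -, hW⟩ :=
    Groth.Agent.RatSingExt.exists_normal_compactification A hN (𝟙 T) hT g hgen hbir
  haveI := hπ
  haveI := hY
  haveI := hj
  let w : (W : Scheme.{u}) := ⟨u, hW u hu⟩
  let e₁ : U.presheaf.stalk u ≃+* (W : Scheme.{u}).presheaf.stalk w :=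
    (asIso (W.ι.stalkMap w)).commRingCatIsoToRingEquiv
  let e₂ : Y.presheaf.stalk (j w) ≃+* (W : Scheme.{u}).presheaf.stalk w :=
    (asIso (j.stalkMap w)).commRingCatIsoToRingEquiv
  exact Groth.Agent.RatSingExt.isRationalSing_of_equiv (e₂.trans (e₁.symm.trans e₀))
    (Groth.Agent.RatSingExt.isRationalSing_stalk hN hdimA hA π hYn hπV (j w))

end Groth.Agent.S1649
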