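import Groth.Statements.S16490
import Groth.Agent.RefX2.Normality
import Groth.Agent.QCoh.Extension

set_option autoImplicit false
universe u
open CategoryTheory CategoryTheory.Limits AlgebraicGeometry TopologicalSpace
open VBPn

namespace Groth.Agent.S16490

/-- Let X be an integral locally Noetherian scheme all of whose local rings are regular, and let 0 → F →
E → Q → 0 be a short exact sequence of coherent O_X-modules in which E is reflexive (the canonical
map E → E^** is an isomorphism) and Q is torsion-free (every stalk Q_x is a torsion-free
O_{X,x}-module). Then F is normal: for all open subsets V ⊆ U of X such that every point of U not in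
V has local ring of dimension at least 2, the restriction map F(U) → F(V) is bijective. The
published statement is for coherent analytic sheaves on a complex manifold, a sheaf being called
normal when for every open U and every analytic subset A ⊆ U of codimension at least 2 the
restriction F(U) → F(U ∖ A) is bijective; this row is its statement for coherent sheaves on a
regular integral locally Noetherian scheme, with normality phrased through open subsets V ⊆ U whose
complement in U consists of points with local ring of dimension at least 2, where the same argument
applies. -/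
theorem result (X : Scheme.{u}) [IsIntegral X] [IsLocallyNoetherian X]
    (hreg : ∀ x : X, IsRegularLocalRing (X.presheaf.stalk x)) (S : ShortComplex X.Modules) (hS : S.ShortExact)
    (hF : Coh.IsCoh S.X₁) (hE : Coh.IsCoh S.X₂) (hQ : Coh.IsCoh S.X₃)
    (hErefl : RefHull.IsReflexive S.X₂) (hQtf : TorSh.IsTorsionFree S.X₃) :
    (∀ (U V : X.Opens) (hVU : V ≤ U), (∀ x : X, x ∈ U → x ∉ V → (2 : WithBot ℕ∞) ≤ ringKrullDim (X.presheaf.stalk x)) →
        Function.Bijective (S.X₁.presheaf.map (homOfLE hVU).op)) := by
  intro U V hVU hd
  have hX := RefX2.isNormalScheme_of_regular hreg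
  have hE' := (RefX2.hart_of_isReflexive hX hE hErefl).bijective_res hVU hd
  have hQ' := RefX2.tf_of_isTorsionFree (QCoh.isCoh_iff.1 hQ).1 hQtf
  show Function.Bijective (AModX.res S.X₁ hVU)
  refine ⟨fun s t hst => QCoh.app_f_injective hS U (hE'.1 ?_), fun t => ?_⟩
  · rw [← AModX.app_res, ← AModX.app_res, hst]
  obtain ⟨e, he⟩ := hE'.2 (S.f.app V t)
  obtain ⟨s, hs⟩ := QCoh.exists_app_f_eq hS U e (hQ'.section_ext fun hη => by
    have hηV : genericPoint X ∈ V := by
      by_contra h
      exact (RefX2.coheight_ne_of_two_le (hd _ hη h)).1 RefX2.coheight_genericPoint
    rw [← RefX.germ_res S.X₃ hVU hηV, ← RefX.germ_res S.X₃ hVU hηV, ← AModX.app_res, he, QCoh.app_g_f, map_zero,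
      map_zero, map_zero])
  exact ⟨s, QCoh.app_f_injective hS V (by rw [AModX.app_res, hs, he])⟩

end Groth.Agent.S16490
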