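import Groth.Statements.S16496
import Groth.Agent.FlatHartogs.Main
import Groth.Agent.Hartogs.Basic
import Groth.Agent.ParaFX.Ufd
-- import your own Groth.Agent.* helpers here

set_option autoImplicit false
set_option backward.isDefEq.respectTransparency false
set_option maxHeartbeats 1000000
set_option linter.style.haveILetI false
universe u
open CategoryTheory AlgebraicGeometry
open SGA3

namespace Groth.Agent.S16496

/-- Let S be a Noetherian normal scheme, A a flat quasi-coherent O_S-module (not assumed of finite type)
and j : U → S the inclusion of an open subscheme containing every point of S whose local ring has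
dimension at most 1. Then A = j_* j^* A: the unit A → j_*(A|_U) of the adjunction between
restriction to U and direct image along j is an isomorphism. In the source U is the flatness locus
of a finite type submodule of A, an open which contains all points of codimension at most 1; the
printed argument uses only this property of U. -/
theorem result (S : Scheme.{u}) [IsNoetherian S]
    (hS : Pi1.IsNormalScheme S) (A : S.Modules) (hA : Coh.IsQCoh A) (hAfl : FlatMod.IsFlat A)
    (U : S.Opens) (hU : ∀ s : S, ringKrullDim (S.presheaf.stalk s) ≤ 1 → s ∈ U) :
    IsIso ((Scheme.Modules.restrictAdjunction U.ι).unit.app A) := by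
  have hdepth : ∀ x : S, x ∉ U → (2 : ℕ∞) ≤ LocCoh.depth (S.presheaf.stalk x) (S.presheaf.stalk x) := fun x hx => by
    obtain ⟨_, _⟩ := hS x
    refine ParaFX.two_le_depth_of_normal _ ?_
    have h := mt (hU x) hx
    revert h
    generalize ringKrullDim (S.presheaf.stalk x) = d
    rcases d with _ | d
    · intro h; exact absurd bot_le h
    · intro h
      have h' : ¬ d ≤ (1 : ℕ∞) := fun h' => h (WithBot.coe_le_coe.2 h')
      refine WithBot.coe_le_coe.2 ?_
      cases d using ENat.recTopCoe with
      | top => exact le_top
      | coe d =>
        have h'' : ¬ d ≤ 1 := fun hd => h' (by exact_mod_cast hd)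
        exact_mod_cast (show 2 ≤ d by omega)
  have hfl : FlatMod.IsFlatOver (𝟙 S) A := fun x => by
    unfold FlatMod.IsFlatOverAt FlatMod.moduleStalkOver
    rw [Scheme.Hom.stalkMap_id]
    exact hAfl x
  have hb := FlatHartogs.bijective_of_flat (𝟙 S) U hA hfl (fun W hW => Hartogs.affine_bijective U hdepth hW)
  refine Scheme.Modules.Hom.isIso_iff_isIso_app.2 fun O => ?_
  rw [ConcreteCategory.isIso_iff_bijective]
  show Function.Bijective (((Scheme.Modules.restrictAdjunction U.ι).unit.app A).app O)
  rw [Scheme.Modules.restrictAdjunction_unit_app_app]
  have key : ∀ (P : S.Opens) (hP : P ≤ O), P = O ⊓ U → Function.Bijective (A.presheaf.map (homOfLE hP).op) := by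
    rintro _ hP rfl
    exact hb O
  exact key _ _ (TopologicalSpace.Opens.ext (by
    rw [Scheme.Hom.coe_image, Scheme.Hom.coe_preimage, Set.image_preimage_eq_inter_range, Scheme.Opens.range_ι]
    rfl))

end Groth.Agent.S16496
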