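import Groth.Statements.S1650
import Groth.Agent.FibVanish.BlowUpNormal
import Groth.Agent.FibVanish.Birational
-- import your own Groth.Agent.* helpers here

set_option autoImplicit false
set_option backward.isDefEq.respectTransparency false
set_option backward.isDefEq.respectTransparency.types false
set_option linter.style.haveILetI false
set_option maxHeartbeats 1000000
universe u
open CategoryTheory CategoryTheory.Limits AlgebraicGeometry
open Resolve

namespace Groth.Agent.S1650
open Groth.Agent

/-- Let A be a local normal Nagata domain of dimension two defining a rational singularity and b : X →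
Spec A a blowing up in the maximal ideal. Then X is a normal scheme. -/
theorem result (A : Type u) [CommRing A] [IsDomain A] [IsLocalRing A] [IsNoetherianRing A]
    [IsIntegrallyClosed A] (hN : CAlg.IsNagata A) (hdim : ringKrullDim A = 2) (hA : Curv2.IsRationalSing A)
    (X : Scheme.{u}) (b : X ⟶ Spec (CommRingCat.of A)) (hb : BlowUp.IsBlowUp b (Curv2.idealSheaf A (IsLocalRing.maximalIdeal A))) :
    Pi1.IsNormalScheme X := by
  have hnf : ¬ IsField A := fun h => by
    rw [ringKrullDim_eq_zero_of_isField h] at hdim
    exact absurd hdim (by norm_num)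
  have hm0 : IsLocalRing.maximalIdeal A ≠ ⊥ := fun h => hnf (IsLocalRing.isField_iff_maximalIdeal_eq.2 h)
  obtain ⟨X', f, hp, hi, hn, hbir, hE⟩ := FibVanish.exists_normal_modification A hN _ hm0
  haveI := hp
  haveI := hi
  letI : X'.Over (Spec (CommRingCat.of A)) := ⟨f⟩
  haveI : IsProper (X' ↘ Spec (CommRingCat.of A)) := hp
  have H : FibVanish.PowSect.Hyp (A := A) (X := X') := by
    refine ⟨fun y hy => ?_, hA X' f hp hi hn hbir, hbir, hE⟩
    refine FibVanish.fibre_dim_le_one A hdim.le f hbir y fun h => ?_
    have hy' := (PrimeSpectrum.isClosed_singleton_iff_isMaximal y).1 hy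
    rw [h] at hy'
    exact Ring.ne_bot_of_isMaximal_of_not_isField hy' hnf rfl
  exact FibVanish.PowSect.isNormalScheme_blowUp H hn b hb

end Groth.Agent.S1650
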