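import Groth.Statements.S16501
import Groth.Agent.Hensel.IntegralStrict
import Groth.Agent.Adic7.Basic
import Mathlib.Algebra.Polynomial.Taylor
import Mathlib.FieldTheory.PrimitiveElement
import Mathlib.FieldTheory.Minpoly.IsIntegrallyClosed
import Mathlib.RingTheory.DedekindDomain.IntegralClosure

set_option autoImplicit false
universe u
open Hensel

namespace Groth.Agent.S16501

/-- Newton's lemma for an adically complete ring. -/
theorem newton {C : Type u} [CommRing C] (I : Ideal C) [IsAdicComplete I C] (p : Polynomial C) (β G ε : C)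
    (hG : p.derivative.eval β = G) (hε : ε ∈ I) (hp : p.eval β = G ^ 2 * ε) :
    ∃ y, y ∈ Ideal.span {ε} ∧ p.eval (β + G * y) = 0 := by
  classical
  let T := Polynomial.taylor β p
  have hT0 : T.coeff 0 = G ^ 2 * ε := by rw [Polynomial.taylor_coeff_zero, hp]
  have hT1 : T.coeff 1 = G := by rw [Polynomial.taylor_coeff_one, hG]
  let q := T.divX.divX
  have hev : ∀ w, p.eval (β + w) = G ^ 2 * ε + G * w + w ^ 2 * q.eval w := by
    intro w
    have h1 := Polynomial.X_mul_divX_add T
    have h2 := Polynomial.X_mul_divX_add T.divX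
    rw [hT0] at h1
    rw [Polynomial.coeff_divX, hT1] at h2
    have h3 : p.eval (β + w) = T.eval w := by rw [Polynomial.taylor_eval, add_comm]
    rw [h3]
    conv_lhs => rw [← h1, ← h2]
    simp only [Polynomial.eval_add, Polynomial.eval_mul, Polynomial.eval_X, Polynomial.eval_C, q]
    ring
  let Φ : C → C := fun y => -ε - y ^ 2 * q.eval (G * y)
  let Y : ℕ → C := fun n => Φ^[n] 0
  have hYs : ∀ n, Y (n + 1) = Φ (Y n) := fun n => Function.iterate_succ_apply' Φ n 0
  have hYε : ∀ n, Y n ∈ Ideal.span {ε} := by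
    intro n
    induction n with
    | zero => exact zero_mem _
    | succ n ih =>
      rw [hYs]
      exact sub_mem (neg_mem (Ideal.mem_span_singleton_self ε)) (Ideal.mul_mem_right _ _ (Ideal.pow_mem_of_mem _ ih 2 (by omega)))
  have hYI : ∀ n, Y n ∈ I := fun n => Ideal.span_le.2 (Set.singleton_subset_iff.2 hε) (hYε n)
  have hcontr : ∀ (k : ℕ) (a b : C), a ∈ I → b ∈ I → a - b ∈ I ^ k → Φ a - Φ b ∈ I ^ (k + 1) := by
    intro k a b ha hb hab
    obtain ⟨r, hr⟩ := q.sub_dvd_eval_sub (G * b) (G * a)
    have : Φ a - Φ b = (a - b) * ((a + b) * (-q.eval (G * a))) + (a - b) * (b ^ 2 * (-(G * r))) := by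
      simp only [Φ]
      linear_combination (b ^ 2) * hr
    rw [this, pow_succ]
    refine add_mem (Ideal.mul_mem_mul hab (Ideal.mul_mem_right _ _ (add_mem ha hb))) (Ideal.mul_mem_mul hab (Ideal.mul_mem_right _ _ (Ideal.pow_mem_of_mem _ hb 2 (by omega))))
  have hstep : ∀ n, Y (n + 1) - Y n ∈ I ^ n := by
    intro n
    induction n with
    | zero => simp
    | succ n ih =>
      have h := hcontr n _ _ (hYI (n + 1)) (hYI n) ih
      rwa [← hYs, ← hYs] at h
  obtain ⟨L, hL⟩ := IsPrecomplete.prec' (I := I) Y (fun {a b} hab => by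
    rw [SModEq.sub_mem, smul_eq_mul, Ideal.mul_top]
    induction hab with
    | refl => simp
    | @step l hl ih =>
      rw [← sub_add_sub_cancel (Y a) (Y l) (Y (l + 1))]
      exact add_mem ih (Ideal.pow_le_pow_right hl (by rw [← neg_sub]; exact neg_mem (hstep l))))
  have hL' : ∀ n, Y n - L ∈ I ^ n := fun n => by simpa [SModEq.sub_mem, smul_eq_mul] using hL n
  have hLI : L ∈ I := by
    have h := sub_mem (hYI 1) (show Y 1 - L ∈ I by simpa using hL' 1)
    rwa [sub_sub_cancel] at h
  have hfix : L = Φ L := by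
    refine sub_eq_zero.1 (IsHausdorff.haus' (I := I) _ fun n => ?_)
    rw [SModEq.zero, smul_eq_mul, Ideal.mul_top]
    have h1 := hcontr n _ _ (hYI n) hLI (hL' n)
    rw [← hYs] at h1
    have h2 := sub_mem (Ideal.pow_le_pow_right n.le_succ h1) (Ideal.pow_le_pow_right n.le_succ (hL' (n + 1)))
    rwa [sub_sub_sub_cancel_left] at h2
  refine ⟨L, ?_, ?_⟩
  · have h : L * (1 + L * q.eval (G * L)) = -ε := by
      simp only [Φ] at hfix
      linear_combination hfix
    have hu : IsUnit (1 + L * q.eval (G * L)) := by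
      have hj : L * q.eval (G * L) ∈ Ideal.jacobson ⊥ := IsAdicComplete.le_jacobson_bot I (I.mul_mem_right _ hLI)
      have := Ideal.mem_jacobson_bot.1 hj 1
      rwa [mul_one, add_comm] at this
    rw [Ideal.mem_span_singleton]
    exact (IsUnit.dvd_mul_right hu).1 (h ▸ (dvd_refl ε).neg_right)
  · rw [hev]
    simp only [Φ] at hfix
    linear_combination G ^ 2 * hfix

/-- Let A be a complete discrete valuation ring with uniformizer ϖ and fraction field K, let L be a
finite separable extension of K and B the integral closure of A in L. There is a positive integer m₀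
such that for every discrete valuation ring C that is a module-finite A-algebra, B ≅ C as A-algebras
if and only if B/ϖ^m B ≅ C/ϖ^m C as A-algebras for some m > m₀. (Finiteness of L over K is implicit
in the source, which takes a primitive element.) -/
theorem result
    (A : Type u) [CommRing A] [IsDomain A] [IsDiscreteValuationRing A]
    [IsAdicComplete (IsLocalRing.maximalIdeal A) A] (ϖ : A) (hϖ : Irreducible ϖ)
    (K : Type u) [Field K] [Algebra A K] [IsFractionRing A K]
    (L : Type u) [Field L] [Algebra K L] [Algebra A L] [IsScalarTower A K L]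
    [FiniteDimensional K L] [Algebra.IsSeparable K L]
    (B : Type u) [CommRing B] [Algebra A B] [Algebra B L] [IsScalarTower A B L]
    [IsIntegralClosure B A L] :
    ∃ m₀ : ℕ, 0 < m₀ ∧ ∀ (C : Type u) [CommRing C] [IsDomain C] [IsDiscreteValuationRing C]
      [Algebra A C] [Module.Finite A C],
      Nonempty (B ≃ₐ[A] C) ↔ ∃ m : ℕ, m₀ < m ∧
        Nonempty ((B ⧸ Ideal.span {algebraMap A B (ϖ ^ m)}) ≃ₐ[A]
          (C ⧸ Ideal.span {algebraMap A C (ϖ ^ m)})) := by
  classical
  haveI : HenselianLocalRing A := Hensel.henselianLocalRing_of_henselianRing A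
  haveI : IsNoetherian A B := IsIntegralClosure.isNoetherian A K L B
  haveI : Module.Finite A B := Module.IsNoetherian.finite A B
  have hBinj : Function.Injective (algebraMap B L) := IsIntegralClosure.algebraMap_injective B A L
  haveI : IsDomain B := hBinj.isDomain (algebraMap B L)
  have hKinj : Function.Injective (algebraMap A K) := IsFractionRing.injective A K
  have hALinj : Function.Injective (algebraMap A L) := by
    rw [IsScalarTower.algebraMap_eq A K L]; exact (algebraMap K L).injective.comp hKinj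
  -- an integral primitive element
  obtain ⟨θ, hθ⟩ := Field.exists_primitive_element K L
  obtain ⟨⟨a, ha⟩, haθ⟩ := IsIntegral.exists_multiple_integral_of_isLocalization (nonZeroDivisors A) θ (Algebra.IsIntegral.isIntegral (R := K) θ)
  obtain ⟨α, hα⟩ : ∃ α : B, algebraMap B L α = algebraMap A L a * θ := IsIntegralClosure.isIntegral_iff.1 (by
    simpa [Submonoid.smul_def, Algebra.smul_def] using haθ)
  have ha0 : algebraMap A L a ≠ 0 := fun h => nonZeroDivisors.ne_zero ha (hALinj (h.trans (map_zero _).symm))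
  have hgen : IntermediateField.adjoin K ({algebraMap B L α} : Set L) = ⊤ := by
    rw [eq_top_iff, ← hθ, IntermediateField.adjoin_simple_le_iff]
    have h1 : algebraMap B L α ∈ IntermediateField.adjoin K ({algebraMap B L α} : Set L) := IntermediateField.mem_adjoin_simple_self K _
    have h2 : algebraMap A L a ∈ IntermediateField.adjoin K ({algebraMap B L α} : Set L) := by
      rw [IsScalarTower.algebraMap_apply A K L]; exact IntermediateField.algebraMap_mem _ _
    have := mul_mem (inv_mem h2) h1
    rw [show θ = (algebraMap A L a)⁻¹ * algebraMap B L α by rw [hα, inv_mul_cancel_left₀ ha0]]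
    exact this
  haveI : Algebra.IsIntegral A B := Algebra.IsIntegral.of_finite A B
  have hαint : IsIntegral A α := Algebra.IsIntegral.isIntegral α
  set g := minpoly A α with hg
  have hgα : Polynomial.aeval α g = 0 := minpoly.aeval A α
  have hmin : minpoly K (algebraMap B L α) = g.map (algebraMap A K) := by
    rw [hg, ← minpoly.algebraMap_eq hBinj α, minpoly.isIntegrallyClosed_eq_field_fractions' K hαint.algebraMap]
  set g' := Polynomial.aeval α g.derivative with hg'
  have hg'0 : g' ≠ 0 := by
    intro h0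
    have hsep : (minpoly K (algebraMap B L α)).Separable := Algebra.IsSeparable.isSeparable K _
    refine hsep.aeval_derivative_ne_zero (minpoly.aeval K (algebraMap B L α)) ?_
    rw [hmin, Polynomial.derivative_map, Polynomial.aeval_map_algebraMap, Polynomial.aeval_algebraMap_apply, ← hg', h0, map_zero]
  obtain ⟨s, hs⟩ : ∃ s : ℕ, algebraMap A B (ϖ ^ s) ∈ Ideal.span {g'} := by
    have hne : (Ideal.span {g'}).comap (algebraMap A B) ≠ ⊥ :=
      Ideal.comap_ne_bot_of_integral_mem hg'0 (Ideal.mem_span_singleton_self g') (Algebra.IsIntegral.isIntegral g')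
    obtain ⟨s, hs⟩ := IsDiscreteValuationRing.ideal_eq_span_pow_irreducible hne hϖ
    exact ⟨s, Ideal.mem_comap.1 (hs ▸ Ideal.mem_span_singleton_self _)⟩
  -- a bound on the index of `A[α]`
  have hpowK : ∀ x : L, ∃ (c : A) (p : Polynomial A), c ≠ 0 ∧ algebraMap A L c * x = Polynomial.aeval (algebraMap B L α) p := by
    intro x
    obtain ⟨q, hq⟩ : ∃ q : Polynomial K, Polynomial.aeval (algebraMap B L α) q = x := by
      have hx : x ∈ (IntermediateField.adjoin K ({algebraMap B L α} : Set L)).toSubalgebra := by rw [hgen]; trivial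
      rw [IntermediateField.adjoin_simple_toSubalgebra_of_isAlgebraic (Algebra.IsAlgebraic.isAlgebraic _), Algebra.adjoin_singleton_eq_range_aeval] at hx
      exact hx
    obtain ⟨c, hc⟩ := IsLocalization.integerNormalization_map_to_map (nonZeroDivisors A) q
    refine ⟨c, IsLocalization.integerNormalization (nonZeroDivisors A) q, nonZeroDivisors.ne_zero c.2, ?_⟩
    rw [← Polynomial.aeval_map_algebraMap K, hc, algebra_compatible_smul K, map_smul, hq, Algebra.smul_def, ← IsScalarTower.algebraMap_apply]
  obtain ⟨t, ht⟩ : ∃ t : ℕ, ∀ b : B, ∃ p : Polynomial A, algebraMap A B (ϖ ^ t) * b = Polynomial.aeval α p := by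
    obtain ⟨n, v, hv⟩ := Module.Finite.exists_fin (R := A) (M := B)
    choose c p hc hp using fun i => hpowK (algebraMap B L (v i))
    have hk : ∀ i, ∃ k : ℕ, Associated (c i) (ϖ ^ k) := fun i => IsDiscreteValuationRing.associated_pow_irreducible (hc i) hϖ
    choose k hk using hk
    refine ⟨∑ i, k i, fun b => ?_⟩
    have hS : ∀ i, algebraMap A B (ϖ ^ (∑ i, k i)) * v i ∈ (Polynomial.aeval (R := A) α).range := by
      intro i
      obtain ⟨d, hd⟩ := (hk i).dvd.trans (pow_dvd_pow ϖ (Finset.single_le_sum (fun j _ => Nat.zero_le (k j)) (Finset.mem_univ i)))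
      refine ⟨Polynomial.C d * p i, hBinj ?_⟩
      show algebraMap B L (Polynomial.aeval α (Polynomial.C d * p i)) = _
      rw [← Polynomial.aeval_algebraMap_apply, map_mul, Polynomial.aeval_C, ← hp, hd, map_mul, map_mul, map_mul,
        ← IsScalarTower.algebraMap_apply, ← IsScalarTower.algebraMap_apply]
      ring
    have hb : b ∈ Submodule.span A (Set.range v) := hv ▸ trivial
    obtain ⟨w, rfl⟩ := (Submodule.mem_span_range_iff_exists_fun A).1 hb
    have hsum : algebraMap A B (ϖ ^ (∑ i, k i)) * ∑ i, w i • v i ∈ (Polynomial.aeval (R := A) α).range := by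
      rw [Finset.mul_sum]
      refine Subalgebra.sum_mem _ fun i _ => ?_
      rw [mul_smul_comm]
      exact Subalgebra.smul_mem _ (hS i) _
    obtain ⟨q, hq⟩ := hsum
    exact ⟨q, hq.symm⟩
  refine ⟨2 * s + t + 1, by omega, fun C _ _ _ _ _ => ⟨fun ⟨e⟩ => ⟨2 * s + t + 2, by omega, ⟨?_⟩⟩, ?_⟩⟩
  · refine Ideal.quotientEquivAlg _ _ e ?_
    rw [Ideal.map_span, Set.image_singleton]
    simp
  rintro ⟨m, hm, ⟨e⟩⟩
  -- `A → C` is an injective local homomorphism
  haveI : Algebra.IsIntegral A C := Algebra.IsIntegral.of_finite A C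
  have hCinj : Function.Injective (algebraMap A C) := by
    rw [RingHom.injective_iff_ker_eq_bot]
    by_contra hne
    haveI := RingHom.ker_isPrime (algebraMap A C)
    haveI hmax : (RingHom.ker (algebraMap A C)).IsMaximal := Ideal.IsPrime.isMaximal inferInstance hne
    refine IsDiscreteValuationRing.not_isField C ?_
    have : ((⊥ : Ideal C)).IsMaximal := Ideal.isMaximal_of_isIntegral_of_isMaximal_comap (R := A) ⊥ (by rwa [← RingHom.ker_eq_comap_bot])
    exact IsLocalRing.isField_iff_maximalIdeal_eq.mpr (IsLocalRing.eq_maximalIdeal this).symm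
  haveI : FaithfulSMul A C := (faithfulSMul_iff_algebraMap_injective A C).2 hCinj
  haveI : IsLocalHom (algebraMap A C) := Hensel.isLocalHom_of_isIntegral_local A C
  set P : C := algebraMap A C ϖ with hP
  have hPm : P ∈ IsLocalRing.maximalIdeal C := by
    rw [IsLocalRing.mem_maximalIdeal]
    exact fun hu => hϖ.not_isUnit (IsUnit.of_map (algebraMap A C) ϖ hu)
  haveI : IsAdicComplete (IsLocalRing.maximalIdeal A) C := Adic7.isAdicComplete_of_finite _ _
  haveI hcompl : IsAdicComplete (Ideal.span {P}) C := by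
    have := (IsAdicComplete.map_algebraMap_iff (S := C) (IsLocalRing.maximalIdeal A) C).mpr ‹_›
    rwa [hϖ.maximalIdeal_eq, Ideal.map_span, Set.image_singleton] at this
  have hP0 : P ≠ 0 := fun h => hϖ.ne_zero (hCinj (h.trans (map_zero _).symm))
  -- transport of congruences
  let qB := Ideal.Quotient.mkₐ A (Ideal.span {algebraMap A B (ϖ ^ m)})
  let qC := Ideal.Quotient.mkₐ A (Ideal.span {algebraMap A C (ϖ ^ m)})
  obtain ⟨β, hβ⟩ := Ideal.Quotient.mk_surjective (e (qB α))
  have hcong : ∀ p : Polynomial A, qC (Polynomial.aeval β p) = e (qB (Polynomial.aeval α p)) := fun p => by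
    rw [← Polynomial.aeval_algHom_apply, ← Polynomial.aeval_algHom_apply, ← AlgEquiv.coe_algHom, ← Polynomial.aeval_algHom_apply]
    exact congrArg (fun z => Polynomial.aeval z p) hβ
  have hdvd : ∀ x y : C, qC x = qC y → P ^ m ∣ x - y := fun x y h => by
    rw [← map_pow]; exact Ideal.mem_span_singleton.1 (Ideal.Quotient.eq.1 h)
  obtain ⟨z, hz⟩ : P ^ m ∣ Polynomial.aeval β g - 0 := hdvd _ _ (by rw [hcong, hgα, map_zero, map_zero, map_zero])
  rw [sub_zero] at hz
  obtain ⟨h0, hh0⟩ := Ideal.mem_span_singleton'.1 hs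
  obtain ⟨h1, hh1⟩ := Ideal.Quotient.mk_surjective (e (qB h0))
  obtain ⟨z', hz'⟩ : P ^ m ∣ h1 * Polynomial.aeval β g.derivative - P ^ s := hdvd _ _ (by
    rw [map_mul, hcong, show qC h1 = e (qB h0) from hh1, ← map_mul, ← map_mul, hh0, AlgHom.commutes, AlgEquiv.commutes, ← map_pow, AlgHom.commutes])
  set G := Polynomial.aeval β g.derivative with hG
  obtain ⟨d, hd⟩ : ∃ d, m = 2 * s + (d + 1) := ⟨m - 2 * s - 1, by omega⟩
  have hu : IsUnit (1 + P ^ (s + (d + 1)) * z') := by
    refine (IsLocalRing.isUnit_or_isUnit_of_add_one (a := -(P ^ (s + (d + 1)) * z')) (b := 1 + P ^ (s + (d + 1)) * z') (by ring)).resolve_left fun hh => ?_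
    rw [IsUnit.neg_iff, IsUnit.mul_iff, isUnit_pow_iff (by omega)] at hh
    exact (IsLocalRing.mem_maximalIdeal P).1 hPm hh.1
  obtain ⟨u, hu'⟩ := hu.exists_right_inv
  have hGh : G * (h1 * u) = P ^ s := by
    rw [hd, pow_add, show 2 * s = s + s by ring, pow_add] at hz'
    linear_combination u * hz' + P ^ s * hu' + (P ^ s * u * z') * (pow_add P s (d + 1)).symm
  obtain ⟨y, hy, hroot⟩ := newton (Ideal.span {P}) (g.map (algebraMap A C)) β G (P * (P ^ d * z * (h1 * u) ^ 2))
    (by rw [Polynomial.derivative_map, Polynomial.eval_map, ← Polynomial.aeval_def]) (Ideal.mul_mem_right _ _ (Ideal.mem_span_singleton_self P))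
    (by rw [Polynomial.eval_map, ← Polynomial.aeval_def, hz, hd, pow_add, pow_succ]
        linear_combination (-(P ^ d * P * z) * (G * (h1 * u) + P ^ s)) * hGh)
  rw [Polynomial.eval_map, ← Polynomial.aeval_def] at hroot
  set γ := β + G * y with hγ
  obtain ⟨y', hy'⟩ : P ^ (d + 1) ∣ y := by
    obtain ⟨w, hw⟩ := Ideal.mem_span_singleton.1 hy
    exact ⟨z * (h1 * u) ^ 2 * w, by rw [hw]; ring⟩
  -- the homomorphism
  let FC := FractionRing C
  letI : Algebra K FC := (IsFractionRing.lift (A := A) (K := K) (g := algebraMap A FC)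
    (by rw [IsScalarTower.algebraMap_eq A C FC]; exact (IsFractionRing.injective C FC).comp hCinj)).toAlgebra
  haveI : IsScalarTower A K FC := IsScalarTower.of_algebraMap_eq fun x => (IsFractionRing.lift_algebraMap _ x).symm
  have hroot' : Polynomial.aeval (algebraMap C FC γ) (minpoly K (algebraMap B L α)) = 0 := by
    rw [hmin, Polynomial.aeval_map_algebraMap, Polynomial.aeval_algebraMap_apply, hroot, map_zero]
  let pb : PowerBasis K (IntermediateField.adjoin K ({algebraMap B L α} : Set L)) :=
    IntermediateField.adjoin.powerBasis (Algebra.IsIntegral.isIntegral _)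
  have hroot'' : Polynomial.aeval (algebraMap C FC γ) (minpoly K pb.gen) = 0 := by
    rw [IntermediateField.adjoin.powerBasis_gen, IntermediateField.minpoly_gen]; exact hroot'
  let ψ : L →ₐ[K] FC := (pb.lift (algebraMap C FC γ) hroot'').comp
    (((IntermediateField.equivOfEq hgen).trans IntermediateField.topEquiv).symm : L →ₐ[K] IntermediateField.adjoin K ({algebraMap B L α} : Set L))
  have hψα : ψ (algebraMap B L α) = algebraMap C FC γ := by
    show pb.lift (algebraMap C FC γ) hroot'' (((IntermediateField.equivOfEq hgen).trans IntermediateField.topEquiv).symm (algebraMap B L α)) = _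
    rw [show ((IntermediateField.equivOfEq hgen).trans IntermediateField.topEquiv).symm (algebraMap B L α) = pb.gen by
      apply Subtype.ext
      simp [pb]]
    exact PowerBasis.lift_gen _ _ _
  let ψB : B →ₐ[A] FC := (ψ.restrictScalars A).comp (IsScalarTower.toAlgHom A B L)
  have hrange : ψB.range ≤ (IsScalarTower.toAlgHom A C FC).range := by
    rintro _ ⟨b, rfl⟩
    exact IsIntegrallyClosed.algebraMap_eq_of_integral (R := C) (((Algebra.IsIntegral.isIntegral (R := A) b).map ψB).tower_top)
  let eC := AlgEquiv.ofInjective (IsScalarTower.toAlgHom A C FC) (IsFractionRing.injective C FC)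
  let φ : B →ₐ[A] C := eC.symm.toAlgHom.comp (ψB.codRestrict (IsScalarTower.toAlgHom A C FC).range fun b => hrange ⟨b, rfl⟩)
  have hφ : ∀ b, algebraMap C FC (φ b) = ψ (algebraMap B L b) := fun b =>
    congrArg Subtype.val (eC.apply_symm_apply (ψB.codRestrict (IsScalarTower.toAlgHom A C FC).range (fun b => hrange ⟨b, rfl⟩) b))
  have hφinj : Function.Injective φ := fun x x' h => hBinj (ψ.injective ((hφ x).symm.trans ((congrArg (algebraMap C FC) h).trans (hφ x'))))
  have hφα : φ α = γ := IsFractionRing.injective C FC ((hφ α).trans hψα)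
  -- surjectivity
  have hmod : ∀ b : B, ∃ c, P * c = φ b - (Ideal.Quotient.mk_surjective (e (qB b))).choose := by
    intro b
    set c := (Ideal.Quotient.mk_surjective (e (qB b))).choose with hc
    have hc' : qC c = e (qB b) := (Ideal.Quotient.mk_surjective (e (qB b))).choose_spec
    obtain ⟨p, hp⟩ := ht b
    obtain ⟨w1, hw1⟩ : P ^ (d + 1) ∣ Polynomial.aeval γ p - Polynomial.aeval β p := by
      have hd' := (Polynomial.map (algebraMap A C) p).sub_dvd_eval_sub γ β
      rw [Polynomial.eval_map, Polynomial.eval_map, ← Polynomial.aeval_def, ← Polynomial.aeval_def] at hd'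
      refine dvd_trans ?_ hd'
      rw [hγ, add_sub_cancel_left, hy']
      exact dvd_mul_of_dvd_right (dvd_mul_right _ _) _
    obtain ⟨w2, hw2⟩ : P ^ (d + 1) ∣ Polynomial.aeval β p - P ^ t * c := by
      refine (pow_dvd_pow P (by omega : d + 1 ≤ m)).trans (hdvd _ _ ?_)
      rw [hcong, ← hp, map_mul, map_mul, map_mul, hc', AlgHom.commutes, AlgEquiv.commutes, ← map_pow, AlgHom.commutes]
    have h1 : P ^ t * φ b = Polynomial.aeval γ p := by
      rw [← hφα, Polynomial.aeval_algHom_apply, ← hp, map_mul, AlgHom.commutes, map_pow]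
    obtain ⟨j, hj⟩ : ∃ j, d + 1 = t + (j + 1) := ⟨d - t, by omega⟩
    refine ⟨P ^ j * (w1 + w2), mul_left_cancel₀ (pow_ne_zero t hP0) ?_⟩
    rw [hj, pow_add, pow_succ] at hw1 hw2
    linear_combination (-1 : C) * h1 - hw1 - hw2
  have hsurj : Function.Surjective φ := by
    have htop : (⊤ : Submodule A C) ≤ LinearMap.range φ.toLinearMap ⊔ IsLocalRing.maximalIdeal A • (⊤ : Submodule A C) := by
      intro c _
      obtain ⟨b, hb⟩ : ∃ b, e (qB b) = qC c := by
        obtain ⟨b, hb⟩ := Ideal.Quotient.mk_surjective (e.symm (qC c))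
        exact ⟨b, by rw [show qB b = e.symm (qC c) from hb, e.apply_symm_apply]⟩
      obtain ⟨c', hc'⟩ := hmod b
      obtain ⟨w, hw⟩ := hdvd c (Ideal.Quotient.mk_surjective (e (qB b))).choose
        (hb.symm.trans (Ideal.Quotient.mk_surjective (e (qB b))).choose_spec.symm)
      rw [Submodule.mem_sup]
      obtain ⟨j, rfl⟩ : ∃ j, m = j + 1 := ⟨m - 1, by omega⟩
      refine ⟨φ b, ⟨b, rfl⟩, ϖ • (P ^ j * w - c'), Submodule.smul_mem_smul (hϖ.maximalIdeal_eq ▸ Ideal.mem_span_singleton_self ϖ) trivial, ?_⟩
      rw [Algebra.smul_def, ← hP]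
      linear_combination (-1 : C) * hw - hc' - w * pow_succ P j
    have := Submodule.le_of_le_smul_of_le_jacobson_bot Module.Finite.fg_top (IsLocalRing.maximalIdeal_le_jacobson _) htop
    exact fun c => this trivial
  exact ⟨AlgEquiv.ofBijective φ ⟨hφinj, hsurj⟩⟩

end Groth.Agent.S16501
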