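import Groth.Statements.S16516
import Groth.Agent.BinForms.Basic

set_option autoImplicit false
universe u
open RatCurv

namespace Groth.Agent.S16516

open MvPolynomial Module Groth.Agent.BinForms in
/-- for a nonzero functional the Hankel kernel in degree 3 is a line, unless a quadric divides the series -/
theorem kernel_spec (K : Type u) [Field K] (φ : homogeneousSubmodule (Fin 2) K 5 →ₗ[K] K)
    (hns : ∀ e : homogeneousSubmodule (Fin 2) K 2, e ≠ 0 → ∃ h, φ (mulHom K 3 2 h e) ≠ 0) :
    finrank K (LinearMap.ker (((mulHom K 3 2).compr₂ φ) : _ →ₗ[K] Module.Dual K (homogeneousSubmodule (Fin 2) K 2))) = 1 := by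
  set C := ((mulHom K 3 2).compr₂ φ : _ →ₗ[K] Module.Dual K (homogeneousSubmodule (Fin 2) K 2))
  have hsurj : LinearMap.range C = ⊤ := by
    have hinj : Function.Injective C.flip := ?_
    · refine LinearMap.range_eq_top.2 fun ψ => ?_
      obtain ⟨Ψ, hΨ⟩ := LinearMap.dualMap_surjective_of_injective hinj ψ
      obtain ⟨g, rfl⟩ := (Module.evalEquiv K (homogeneousSubmodule (Fin 2) K 3)).surjective Ψ
      exact ⟨g, hΨ⟩
    rw [← LinearMap.ker_eq_bot, LinearMap.ker_eq_bot']
    intro e he
    by_contra hne
    obtain ⟨h, hh⟩ := hns e hne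
    exact hh (LinearMap.congr_fun he h)
  have h1 := LinearMap.finrank_range_add_finrank_ker C
  rw [hsurj, finrank_top, Subspace.dual_finrank_eq, finrank_homogeneous, finrank_homogeneous] at h1
  omega

/-- A smooth nondegenerate rational quintic curve C ⊂ P^4 has exactly one 3-secant line. Stated for C
given as the image of P^1 under a 5-dimensional linear series V of binary quintic forms which
separates every length-2 subscheme of P^1 (for every nonzero quadratic form e the forms of V
together with the multiples of e span all quintic forms), so that P^1 → P(V^*) = P^4 is a closed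
embedding with nondegenerate image; the linear forms on P^4 are the elements of V, a line L ⊂ P^4 is
recorded by the 3-dimensional space of linear forms vanishing on it, and L ∩ C has length at least 3
exactly when that space consists of the multiples g · K[s,t]_2 of a cubic form g. The conclusion: a
nonzero cubic g with g · K[s,t]_2 ⊆ V exists and is unique up to a scalar. (That such a line meets C
in length exactly 3, i.e. is not 4-secant, is immediate in this description and is not restated; the
ground field is algebraically closed of characteristic zero in place of the complex numbers.) -/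
theorem result (K : Type u) [Field K] [IsAlgClosed K]
    [CharZero K] (V : Submodule K (MvPolynomial (Fin 2) K))
    (hV : V ≤ MvPolynomial.homogeneousSubmodule (Fin 2) K 5) (hdim : Module.finrank K ↥V = 5)
    (hsep : ∀ e ∈ MvPolynomial.homogeneousSubmodule (Fin 2) K 2, e ≠ 0 →
      ∀ F ∈ MvPolynomial.homogeneousSubmodule (Fin 2) K 5, ∃ v ∈ V,
        ∃ h ∈ MvPolynomial.homogeneousSubmodule (Fin 2) K 3, F = v + e * h) :
    ∃ g ∈ MvPolynomial.homogeneousSubmodule (Fin 2) K 3, g ≠ 0 ∧
      (∀ h ∈ MvPolynomial.homogeneousSubmodule (Fin 2) K 2, g * h ∈ V) ∧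
      ∀ g' ∈ MvPolynomial.homogeneousSubmodule (Fin 2) K 3,
        (∀ h ∈ MvPolynomial.homogeneousSubmodule (Fin 2) K 2, g' * h ∈ V) → ∃ c : K, g' = c • g := by
  classical
  open MvPolynomial Module Groth.Agent.BinForms in
  have hlt : V.comap (homogeneousSubmodule (Fin 2) K 5).subtype < ⊤ := lt_top_iff_ne_top.2 fun h => by
    have := (Submodule.comapSubtypeEquivOfLe hV).finrank_eq
    rw [h, finrank_top, finrank_homogeneous, hdim] at this
    omega
  obtain ⟨φ, hφ, hle⟩ := Submodule.exists_le_ker_of_lt_top _ hlt
  have hker : V.comap (MvPolynomial.homogeneousSubmodule (Fin 2) K 5).subtype = LinearMap.ker φ := by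
    refine Submodule.eq_of_le_of_finrank_le hle ?_
    rw [(Submodule.comapSubtypeEquivOfLe hV).finrank_eq, hdim]
    have h1 := LinearMap.finrank_range_add_finrank_ker φ
    rw [LinearMap.range_eq_top.2 (LinearMap.surjective hφ), finrank_top, Module.finrank_self,
      Groth.Agent.BinForms.finrank_homogeneous] at h1
    omega
  have hmemV : ∀ F : MvPolynomial.homogeneousSubmodule (Fin 2) K 5, (F : MvPolynomial (Fin 2) K) ∈ V ↔ φ F = 0 :=
    fun F => by rw [← LinearMap.mem_ker, ← hker]; rfl
  have h1 := kernel_spec K φ fun e he => by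
    by_contra! hall
    obtain ⟨F, hF⟩ : ∃ F, φ F ≠ 0 := by
      by_contra! h; exact hφ (LinearMap.ext h)
    obtain ⟨v, hv, h, hh, hFe⟩ := hsep e.1 e.2 (fun h => he (Subtype.ext h)) F.1 F.2
    refine hF ((hmemV F).1 ?_)
    rw [hFe]
    refine add_mem hv ?_
    have := (hmemV _).2 (hall ⟨h, hh⟩)
    rw [Groth.Agent.BinForms.coe_mulHom] at this
    rwa [mul_comm]
  obtain ⟨g, hgC, hg0⟩ := (Submodule.ne_bot_iff
    (LinearMap.ker ((Groth.Agent.BinForms.mulHom K 3 2).compr₂ φ))).1 fun h => by
      rw [h, finrank_bot] at h1; omega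
  have hspan := Submodule.eq_of_le_of_finrank_eq ((Submodule.span_singleton_le_iff_mem g _).2 hgC)
    (by rw [finrank_span_singleton hg0, h1])
  refine ⟨g.1, g.2, fun h => hg0 (Subtype.ext h), fun h hh => ?_, fun g' hg' hall => ?_⟩
  · exact (hmemV (Groth.Agent.BinForms.mulHom K 3 2 g ⟨h, hh⟩)).2 (LinearMap.congr_fun hgC ⟨h, hh⟩)
  · have hm : (⟨g', hg'⟩ : MvPolynomial.homogeneousSubmodule (Fin 2) K 3) ∈
        LinearMap.ker ((Groth.Agent.BinForms.mulHom K 3 2).compr₂ φ) :=
      LinearMap.mem_ker.2 (LinearMap.ext fun h => (hmemV _).1 (hall h.1 h.2))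
    rw [← hspan] at hm
    obtain ⟨c, hc⟩ := Submodule.mem_span_singleton.1 hm
    exact ⟨c, (congrArg Subtype.val hc).symm⟩

end Groth.Agent.S16516
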