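import Groth.Statements.S16517
import Groth.Agent.S2082
import Groth.Agent.LC.LiaisonGor
import Groth.Agent.LC.LiaisonLink
import Groth.Agent.FlatLoc6.DimEq

set_option autoImplicit false
universe u
open CAlg

namespace Groth.Agent.S16517

theorem flat_quot (R A : Type u)
    [CommRing R] [IsRegularLocalRing R] [CommRing A] [IsNoetherianRing A] [IsLocalRing A] [Algebra R A]
    [IsLocalHom (algebraMap R A)] [Module.Flat R A] (I : Ideal A)
    (hI : ringKrullDim (A ⧸ I) = ringKrullDim A) (hCM : LocCoh.IsCohenMacaulayLocalRing (A ⧸ I)) :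
    Module.Flat R (A ⧸ I) := by
  haveI := hCM
  haveI : IsLocalHom (algebraMap A (A ⧸ I)) := IsLocalHom.of_surjective _ Ideal.Quotient.mk_surjective
  haveI : IsLocalHom (algebraMap R (A ⧸ I)) := by
    rw [IsScalarTower.algebraMap_eq R A (A ⧸ I)]; exact RingHom.isLocalHom_comp _ _
  refine Groth.Agent.S2082.result (le_antisymm ?_ ?_)
  · exact Groth.Agent.FlatLoc6.ringKrullDim_le_add_fibre
  · rw [hI]
    have hle : ringKrullDim ((A ⧸ I) ⧸ (IsLocalRing.maximalIdeal R).map (algebraMap R (A ⧸ I))) ≤
        ringKrullDim (A ⧸ (IsLocalRing.maximalIdeal R).map (algebraMap R A)) :=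
      ringKrullDim_le_of_surjective
        (Ideal.quotientMap _ (Ideal.Quotient.mk I) (Ideal.map_le_iff_le_comap.1 (by
          rw [Ideal.map_map]; exact le_rfl)))
        (Ideal.quotientMap_surjective Ideal.Quotient.mk_surjective)
    refine (add_le_add le_rfl hle).trans (le_of_eq ?_)
    haveI : (IsLocalRing.maximalIdeal A).LiesOver (IsLocalRing.maximalIdeal R) :=
      ⟨(IsLocalRing.maximalIdeal_comap (algebraMap R A)).symm⟩
    have key := Ideal.height_eq_height_add_of_liesOver_of_hasGoingDown (IsLocalRing.maximalIdeal R)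
      (IsLocalRing.maximalIdeal A)
    haveI : Nontrivial (A ⧸ (IsLocalRing.maximalIdeal R).map (algebraMap R A)) :=
      Ideal.Quotient.nontrivial_iff.2 (ne_top_of_le_ne_top (IsLocalRing.maximalIdeal.isMaximal A).ne_top
        (IsLocalRing.map_maximalIdeal_le _))
    haveI : IsLocalRing (A ⧸ (IsLocalRing.maximalIdeal R).map (algebraMap R A)) :=
      .of_surjective' _ Ideal.Quotient.mk_surjective
    rw [Groth.Agent.RegLoc6.map_maximalIdeal_quot, ← WithBot.coe_inj, WithBot.coe_add,
      IsLocalRing.maximalIdeal_height_eq_ringKrullDim, IsLocalRing.maximalIdeal_height_eq_ringKrullDim,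
      IsLocalRing.maximalIdeal_height_eq_ringKrullDim] at key
    exact key.symm

/-- Let R be a regular local ring, A a Gorenstein local ring which is a flat R-algebra through a local
homomorphism, I ⊂ A an ideal of codimension zero (the Krull dimension of A/I equals that of A) with
A/I Cohen–Macaulay, and J = (0 : I) the annihilator of I in A (the ideal of the residual subscheme).
Then A/I and A/J are flat over R. -/
theorem result (R A : Type u)
    [CommRing R] [IsRegularLocalRing R] [CommRing A] [Algebra R A] [LocCoh.IsGorensteinLocalRing A]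
    [IsLocalHom (algebraMap R A)] [Module.Flat R A] (I : Ideal A)
    (hI : ringKrullDim (A ⧸ I) = ringKrullDim A) [LocCoh.IsCohenMacaulayLocalRing (A ⧸ I)] :
    Module.Flat R (A ⧸ I) ∧ Module.Flat R (A ⧸ (Submodule.annihilator I)) := by
  haveI : IsNoetherianRing A := inferInstance
  refine ⟨flat_quot R A I hI inferInstance, ?_⟩
  set J := Submodule.annihilator I
  by_cases hJ : J = ⊤
  · haveI : Subsingleton (A ⧸ J) := Ideal.Quotient.subsingleton_iff.2 hJ
    infer_instance
  haveI : Nontrivial (A ⧸ J) := Ideal.Quotient.nontrivial_iff.2 hJ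
  haveI : IsLocalRing (A ⧸ J) := .of_surjective' _ Ideal.Quotient.mk_surjective
  obtain ⟨d, hd⟩ := Groth.Agent.LC.exists_supportDim_eq_nat (R := A) A
  rw [Module.supportDim_self_eq_ringKrullDim] at hd
  have hlow := Groth.Agent.LC.Liaison.subsingleton_H_linked hd I J rfl
    (fun j hj => Groth.Agent.LC.Liaison.subsingleton_H_of_CM_quot I (hI.trans hd) j hj)
  have hCM := Groth.Agent.LC.Liaison.isCMLocal_quot_of_H_low hd J hlow
  refine flat_quot R A J (le_antisymm (ringKrullDim_quotient_le J) ?_) hCM
  have hdep : (d : ℕ∞) ≤ LocCoh.depth (A ⧸ J) (A ⧸ J) := by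
    refine (Groth.Agent.LC.le_idealDepth_iff_H (IsLocalRing.maximalIdeal (A ⧸ J)) (A ⧸ J) d).2 fun i hi => ?_
    have h := Groth.Agent.LC.exists_indep (R := A) (R' := A ⧸ J) (IsLocalRing.maximalIdeal A) i (A ⧸ J)
    rw [Groth.Agent.LC.map_maximalIdeal_of_surjective (algebraMap A (A ⧸ J)) Ideal.Quotient.mk_surjective] at h
    obtain ⟨φ, -⟩ := h
    exact @Function.Injective.subsingleton _ _ φ φ.injective (hlow i hi)
  have hle := Groth.Agent.LC.depth_le_supportDim (R := A ⧸ J) (A ⧸ J)
  rw [Module.supportDim_self_eq_ringKrullDim] at hle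
  rw [hd]
  exact (WithBot.coe_le_coe.2 hdep).trans hle

end Groth.Agent.S16517
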