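import Groth.Statements.S16518
import Groth.Agent.LC.LiaisonGor
import Groth.Agent.LC.LiaisonLink
import Mathlib.RingTheory.Regular.Flat
import Mathlib.RingTheory.Regular.Category

set_option autoImplicit false
universe u
open CAlg

namespace Groth.Agent.S16518

open scoped Pointwise

open CategoryTheory CategoryTheory.Abelian in
theorem lift_torsion {A : Type u} [CommRing A] (I : Ideal A) {M : Type u} [AddCommGroup M] [Module A M] {r : A}
    (hr : IsSMulRegular M r)
    (h : Subsingleton (Ext (ModuleCat.of A (A ⧸ I)) (ModuleCat.of A M) 1))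
    (x : QuotSMulTop r M) (hx : x ∈ Submodule.torsionBySet A _ (I : Set A)) :
    ∃ m ∈ Submodule.torsionBySet A M (I : Set A), Submodule.Quotient.mk m = x := by
  have hS := IsSMulRegular.smulShortComplex_shortExact (M := ModuleCat.of A M) hr
  let f : (A ⧸ I) →ₗ[A] QuotSMulTop r M := I.liftQ (LinearMap.toSpanSingleton A _ x) (fun i hi => by
    rw [LinearMap.mem_ker, LinearMap.toSpanSingleton_apply]
    exact (Submodule.mem_torsionBySet_iff _ _).1 hx ⟨i, hi⟩)
  obtain ⟨g, hg⟩ := Ext.covariant_sequence_exact₃ (ModuleCat.of A (A ⧸ I)) hS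
    (Ext.mk₀ (ModuleCat.ofHom f : ModuleCat.of A (A ⧸ I) ⟶ (ModuleCat.smulShortComplex (ModuleCat.of A M) r).X₃))
    (zero_add 1) (@Subsingleton.elim _ h _ _)
  obtain ⟨g', rfl⟩ := (Ext.mk₀_bijective _ _).2 g
  rw [Ext.mk₀_comp_mk₀] at hg
  have hg' := congrArg ModuleCat.Hom.hom ((Ext.mk₀_bijective _ _).1 hg)
  refine ⟨g'.hom (Ideal.Quotient.mk I 1), (Submodule.mem_torsionBySet_iff _ _).2 fun i => ?_, ?_⟩
  · change (i : A) • (g'.hom (Ideal.Quotient.mk I 1)) = 0
    have hi : (i : A) • (Ideal.Quotient.mk I 1 : A ⧸ I) = 0 := by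
      change Ideal.Quotient.mk I ((i : A) • 1) = 0
      rw [Ideal.Quotient.eq_zero_iff_mem, smul_eq_mul, mul_one]; exact i.2
    exact (map_smul g'.hom (i : A) (Ideal.Quotient.mk I 1)).symm.trans ((congrArg g'.hom hi).trans (map_zero g'.hom))
  · have h2 := LinearMap.congr_fun hg' (Ideal.Quotient.mk I 1)
    refine h2.trans ?_
    exact (Submodule.liftQ_apply _ _ _).trans (one_smul A x)

open CategoryTheory CategoryTheory.Abelian in
theorem key {A : Type u} [CommRing A] (I : Ideal A) : ∀ (rs : List A) (M : Type u) [AddCommGroup M] [Module A M],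
    (∀ i, 0 < i → Subsingleton (Ext (ModuleCat.of A (A ⧸ I)) (ModuleCat.of A M) i)) →
    RingTheory.Sequence.IsWeaklyRegular M rs →
    (∀ x : M, (∀ i ∈ I, i • x ∈ Ideal.ofList rs • (⊤ : Submodule A M)) →
      ∃ m ∈ Submodule.torsionBySet A M (I : Set A), x - m ∈ Ideal.ofList rs • (⊤ : Submodule A M)) ∧
    (∀ x ∈ Submodule.torsionBySet A M (I : Set A), x ∈ Ideal.ofList rs • (⊤ : Submodule A M) →
      x ∈ Ideal.ofList rs • Submodule.torsionBySet A M (I : Set A)) := by
  intro rs
  induction rs with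
  | nil =>
    intro M _ _ _ _
    refine ⟨fun x hx => ⟨x, (Submodule.mem_torsionBySet_iff _ _).2 fun i => ?_, by simp⟩, fun x _ hx => by simpa using hx⟩
    simpa using hx i.1 i.2
  | cons r rs ih =>
    intro M _ _ hE hreg
    rw [RingTheory.Sequence.isWeaklyRegular_cons_iff] at hreg
    have hS := IsSMulRegular.smulShortComplex_shortExact (M := ModuleCat.of A M) hreg.1
    obtain ⟨ih1, ih2⟩ := ih (QuotSMulTop r M) (fun i hi => subsingleton_of_forall_eq 0 fun e => by
      obtain ⟨g, hg⟩ := Ext.covariant_sequence_exact₃ (ModuleCat.of A (A ⧸ I)) hS e (n₁ := i + 1) rfl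
        (@Subsingleton.elim _ (hE (i + 1) i.succ_pos) _ _)
      exact hg.symm.trans ((congrArg (fun z => Ext.comp z _ (add_zero i)) (@Subsingleton.elim _ (hE i hi) g 0)).trans (Ext.zero_comp _ _ _ _ _))) hreg.2
    let q : M →ₗ[A] QuotSMulTop r M := (r • (⊤ : Submodule A M)).mkQ
    have hcons : Ideal.ofList (r :: rs) • (⊤ : Submodule A M) = r • ⊤ ⊔ Ideal.ofList rs • ⊤ :=
      Ideal.ofList_cons_smul r rs ⊤
    have hq : ∀ y : M, y ∈ Ideal.ofList (r :: rs) • (⊤ : Submodule A M) ↔
        q y ∈ Ideal.ofList rs • (⊤ : Submodule A (QuotSMulTop r M)) := by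
      intro y
      rw [← Submodule.mem_comap, ← Submodule.range_mkQ (r • (⊤ : Submodule A M)), LinearMap.range_eq_map,
        ← Submodule.map_smul'', Submodule.comap_map_mkQ, hcons]
    refine ⟨fun x hx => ?_, fun x hxT hx => ?_⟩
    · obtain ⟨m₁, hm₁, hxm⟩ := ih1 (q x) fun i hi => by rw [← map_smul]; exact (hq _).1 (hx i hi)
      obtain ⟨m, hm, rfl⟩ := lift_torsion I hreg.1 (hE 1 one_pos) m₁ hm₁
      exact ⟨m, hm, (hq _).2 ((map_sub q x m).symm ▸ hxm)⟩
    · have h1 : q x ∈ Submodule.torsionBySet A _ (I : Set A) := (Submodule.mem_torsionBySet_iff _ _).2 fun i => by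
        rw [← map_smul, (Submodule.mem_torsionBySet_iff _ _).1 hxT i, map_zero]
      have h2 := ih2 (q x) h1 ((hq x).1 hx)
      have hle : Submodule.torsionBySet A (QuotSMulTop r M) (I : Set A) ≤
          (Submodule.torsionBySet A M (I : Set A)).map q := fun y hy => by
        obtain ⟨m, hm, hm'⟩ := lift_torsion I hreg.1 (hE 1 one_pos) y hy
        exact ⟨m, hm, (Submodule.mkQ_apply _ _).trans hm'⟩
      have h3 := Submodule.smul_mono le_rfl hle h2
      rw [← Submodule.map_smul''] at h3
      obtain ⟨y, hy, hyx⟩ := h3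
      obtain ⟨b, -, hb⟩ := (Submodule.mem_smul_pointwise_iff_exists _ _ _).1 ((Submodule.Quotient.eq _).1 hyx.symm)
      have hyT : y ∈ Submodule.torsionBySet A M (I : Set A) := Submodule.smul_le_right hy
      have hbT : b ∈ Submodule.torsionBySet A M (I : Set A) := (Submodule.mem_torsionBySet_iff _ _).2 fun i => by
        apply hreg.1
        change r • ((i : A) • b) = r • 0
        rw [smul_zero, smul_comm, hb]
        exact (Submodule.mem_torsionBySet_iff _ _).1 (Submodule.sub_mem _ hxT hyT) i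
      rw [show x = r • b + y by rw [hb]; abel]
      refine add_mem (Submodule.smul_mem_smul (Ideal.subset_span (List.mem_cons_self)) hbT) ?_
      refine Submodule.smul_mono_left ?_ hy
      rw [Ideal.ofList_cons]; exact le_sup_right

/-- Let R be a Noetherian local ring, A a Gorenstein local ring which is a flat R-algebra through a
local homomorphism, I ⊂ A an ideal of codimension zero (the Krull dimension of A/I equals that of A)
with A/I Cohen–Macaulay, and J = (0 : I) its annihilator. For every R-regular sequence r_1, …, r_n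
generating an ideal 𝔯 of R, the module J/𝔯J is the annihilator of the image of I in A/𝔯A: the
natural map J/𝔯J → A/𝔯A is injective (J ∩ 𝔯A = 𝔯J) with image the ideal quotient (𝔯A : I) modulo 𝔯A
(J + 𝔯A = (𝔯A : I)). -/
theorem result (R A : Type u)
    [CommRing R] [IsNoetherianRing R] [IsLocalRing R] [CommRing A] [Algebra R A]
    [LocCoh.IsGorensteinLocalRing A] [IsLocalHom (algebraMap R A)] [Module.Flat R A] (I : Ideal A)
    (hI : ringKrullDim (A ⧸ I) = ringKrullDim A) [LocCoh.IsCohenMacaulayLocalRing (A ⧸ I)]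
    (rs : List R) (hrs : RingTheory.Sequence.IsRegular R rs) :
    Submodule.annihilator I ⊔ (Ideal.ofList rs).map (algebraMap R A) =
        Submodule.colon ((Ideal.ofList rs).map (algebraMap R A)) (I : Set A) ∧
      Submodule.annihilator I ⊓ (Ideal.ofList rs).map (algebraMap R A) =
        (Ideal.ofList rs).map (algebraMap R A) * Submodule.annihilator I := by
  haveI : IsNoetherianRing A := inferInstance
  obtain ⟨d, hd⟩ := Groth.Agent.LC.exists_supportDim_eq_nat (R := A) A
  rw [Module.supportDim_self_eq_ringKrullDim] at hd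
  have hE : ∀ i, 0 < i → Subsingleton (CategoryTheory.Abelian.Ext (ModuleCat.of A (A ⧸ I)) (ModuleCat.of A A) i) :=
    Groth.Agent.LC.Liaison.ext_zero_of_H_low hd (A ⧸ I)
      (fun j hj => Groth.Agent.LC.Liaison.subsingleton_H_of_CM_quot I (hI.trans hd) j hj)
  have hreg : RingTheory.Sequence.IsWeaklyRegular A (rs.map (algebraMap R A)) := hrs.toIsWeaklyRegular.of_flat
  rw [Ideal.map_ofList]
  set 𝔯 : Ideal A := Ideal.ofList (rs.map (algebraMap R A))
  obtain ⟨h1, h2⟩ := key I (rs.map (algebraMap R A)) A hE hreg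
  have hann : ∀ x : A, x ∈ Submodule.annihilator I ↔ x ∈ Submodule.torsionBySet A A (I : Set A) := by
    intro x
    simp only [Submodule.mem_annihilator, Submodule.mem_torsionBySet_iff, Subtype.forall, SetLike.mem_coe, smul_eq_mul]
    exact forall₂_congr fun i _ => by rw [mul_comm]
  have hann' : Submodule.torsionBySet A A (I : Set A) = Submodule.annihilator I :=
    Submodule.ext fun x => (hann x).symm
  refine ⟨le_antisymm ?_ ?_, le_antisymm ?_ ?_⟩
  · intro x hx
    rw [Submodule.mem_colon]
    intro i hi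
    obtain ⟨a, ha, b, hb, rfl⟩ := Submodule.mem_sup.1 hx
    rw [add_smul, smul_eq_mul, smul_eq_mul]
    have : a * i = 0 := by simpa [smul_eq_mul] using Submodule.mem_annihilator.1 ha i hi
    rw [this, zero_add]
    exact Ideal.mul_mem_right i _ hb
  · intro x hx
    obtain ⟨m, hm, hxm⟩ := h1 x (fun i hi => by
      have := Submodule.mem_colon.1 hx i hi
      rw [smul_eq_mul, mul_comm] at this
      rw [smul_eq_mul, Ideal.mul_top]; exact this)
    rw [smul_eq_mul, Ideal.mul_top] at hxm
    exact Submodule.mem_sup.2 ⟨m, (hann m).2 hm, x - m, hxm, by ring⟩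
  · rintro x ⟨hxJ, hxr⟩
    have := h2 x ((hann x).1 hxJ) (by rw [smul_eq_mul, Ideal.mul_top]; exact hxr)
    rw [hann'] at this
    simpa using this
  · exact le_inf Ideal.mul_le_right Ideal.mul_le_left

end Groth.Agent.S16518
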