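import Groth.Statements.S16547
import Groth.Agent.H1Eakin.Basic
import Groth.Agent.H1Eakin.Invariant
import Groth.Agent.S0560

set_option autoImplicit false
universe u
open CAlg

namespace Groth.Agent.S16547

/-- Let A be a Noetherian factorial local domain and G a finite group acting faithfully on A by ring
automorphisms; let B be a ring with an injective ring map to A whose image is exactly the ring of
invariants of G, and assume A is a finite B-module. Let q be a prime ideal of B of height one and p
a prime ideal of A lying over q such that the extension of residue fields of the local rings B_q and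
A_p is trivial (every element of A is congruent modulo p to some c⁻¹b with b, c in B, c outside q).
Then q is a principal ideal; and if moreover B/q is a regular local ring, then B is a regular local
ring. -/
theorem result
    {A B G : Type u} [CommRing A] [IsDomain A] [IsNoetherianRing A] [IsLocalRing A]
    [UniqueFactorizationMonoid A]
    [CommRing B] [Algebra B A] [FaithfulSMul B A] [Module.Finite B A]
    [Group G] [Finite G] [MulSemiringAction G A] [FaithfulSMul G A] [SMulCommClass G B A]
    [Algebra.IsInvariant B A G]
    (q : Ideal B) [q.IsPrime] (hq : q.height = 1) (p : Ideal A) [p.IsPrime] [p.LiesOver q]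
    (hres : ∀ a : A, ∃ b c : B, c ∉ q ∧ algebraMap B A c * a - algebraMap B A b ∈ p) :
    Submodule.IsPrincipal q ∧ (IsRegularLocalRing (B ⧸ q) → IsRegularLocalRing B) := by
  haveI : Fintype G := Fintype.ofFinite G
  have hprinc := H1Eakin.isPrincipal G q hq p hres
  refine ⟨hprinc, fun hreg => ?_⟩
  haveI : IsNoetherianRing B := H1Eakin.isNoetherianRing_of_finite_extension A
  haveI : Algebra.IsIntegral B A := Algebra.IsIntegral.of_finite B A
  have hinj := FaithfulSMul.algebraMap_injective B A
  haveI : IsDomain B := hinj.isDomain
  haveI : IsLocalHom (algebraMap B A) := by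
    refine ⟨fun b hb => ?_⟩
    obtain ⟨u, hu⟩ := isUnit_iff_exists_inv.1 hb
    obtain ⟨c, rfl⟩ := Algebra.IsInvariant.isInvariant (A := B) (G := G) u (fun g => by
      refine mul_left_cancel₀ hb.ne_zero ?_
      rw [hu]
      conv_lhs => rw [← H1Eakin.smul_algebraMap_eq g b, ← smul_mul', hu, smul_one])
    exact isUnit_iff_exists_inv.2 ⟨c, hinj (by rw [map_mul, hu, map_one])⟩
  haveI : IsLocalRing B := RingHom.domain_isLocalRing (algebraMap B A)
  obtain ⟨x, hx⟩ := hprinc.principal
  haveI : q.IsPrime := inferInstance
  have hq' : q = Ideal.span {x} := hx
  have hx0 : x ≠ 0 := by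
    rintro rfl
    rw [hq', Ideal.span_singleton_zero, Ideal.height_bot] at hq
    exact zero_ne_one hq
  subst hq'
  haveI := hreg
  exact Groth.Agent.S0560.result B x
    (IsLocalRing.le_maximalIdeal (Ideal.IsPrime.ne_top inferInstance) (Ideal.mem_span_singleton_self x))
    (mem_nonZeroDivisors_of_ne_zero hx0)

end Groth.Agent.S16547
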