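import Groth.Statements.S16548
import Groth.Agent.TameSep.Main
import Groth.Agent.SmoothCrit.Omega
import Groth.Agent.ExtShX.SmDualAll
-- import your own Groth.Agent.* helpers here

set_option autoImplicit false
set_option backward.isDefEq.respectTransparency false
set_option backward.isDefEq.respectTransparency.types false
set_option linter.style.haveILetI false
set_option maxHeartbeats 1000000
universe u
open CategoryTheory CategoryTheory.Limits AlgebraicGeometry
attribute [local instance] Curv2.resAlgebra
open Curves

namespace Groth.Agent.S16548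
open Groth.Agent

/-- Let k be a field, X and Y smooth over k of relative dimension one (not necessarily proper), f : X ->
Y a finite k-morphism and x a closed point of X, with y = f(x). Suppose f is tamely ramified at x:
m_y O_{X,x} = m_x^e for an integer e ≥ 2 prime to the characteristic of k, and κ(x) is separable
over κ(y). Then κ(x) is separable over k. (Consequently the field generated over k by the residue
fields of all such points is Galois over k.) -/
theorem result (k : Type u) [Field k]
    (X Y : Scheme.{u}) [X.Over (Spec (CommRingCat.of k))] [Y.Over (Spec (CommRingCat.of k))]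
    [SmoothOfRelativeDimension 1 (X ↘ Spec (CommRingCat.of k))]
    [SmoothOfRelativeDimension 1 (Y ↘ Spec (CommRingCat.of k))]
    (f : X ⟶ Y) [IsFinite f] (hf : f ≫ (Y ↘ Spec (CommRingCat.of k)) = X ↘ Spec (CommRingCat.of k))
    (x : X) (hx : IsClosed ({x} : Set X)) (e : ℕ)
    (he : (IsLocalRing.maximalIdeal (Y.presheaf.stalk (f.base x))).map (f.stalkMap x).hom =
      IsLocalRing.maximalIdeal (X.presheaf.stalk x) ^ e)
    (h2 : 2 ≤ e) (hp : ¬ ringChar k ∣ e)
    (hsep : @Algebra.IsSeparable (Y.residueField (f.base x)) (X.residueField x) _ _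
      (f.residueFieldMap x).hom.toAlgebra) :
    Algebra.IsSeparable k (X.residueField x) := by
  let p := Y ↘ Spec (CommRingCat.of k)
  let q := X ↘ Spec (CommRingCat.of k)
  haveI : Smooth (X ↘ Spec (CommRingCat.of k)) := SmoothOfRelativeDimension.smooth (n := 1) _
  haveI : LocallyOfFiniteType q := inferInstanceAs (LocallyOfFiniteType (X ↘ Spec (CommRingCat.of k)))
  let A := Y.presheaf.stalk (f.base x)
  let B := X.presheaf.stalk x
  let K := (Spec (CommRingCat.of k)).presheaf.stalk (q x)
  letI : Algebra A B := (f.stalkMap x).hom.toAlgebra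
  haveI : IsLocalHom (algebraMap A B) := inferInstanceAs (IsLocalHom (f.stalkMap x).hom)
  letI : Algebra k A := Curv2.stalkAlgebra k Y (f.base x)
  letI : Algebra k B := Curv2.stalkAlgebra k X x
  have hst : ∀ (Z : Scheme.{u}) [Z.Over (Spec (CommRingCat.of k))] (z : Z) (c : k),
      Curv2.stalkMap k Z z c = (Z ↘ Spec (CommRingCat.of k)).stalkMap z
        ((Spec (CommRingCat.of k)).presheaf.germ ⊤ ((Z ↘ Spec (CommRingCat.of k)) z) trivial
          ((Scheme.ΓSpecIso (CommRingCat.of k)).inv c)) := fun Z _ z c =>
    ((Z ↘ Spec (CommRingCat.of k)).germ_stalkMap_apply ⊤ z trivial _).symm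
  haveI : IsScalarTower k A B := IsScalarTower.of_algebraMap_eq' (RingHom.ext fun c => by
    show Curv2.stalkMap k X x c = f.stalkMap x (Curv2.stalkMap k Y (f.base x) c)
    refine Eq.symm ((f.germ_stalkMap_apply ⊤ x trivial _).trans ?_)
    show X.presheaf.germ (f ⁻¹ᵁ ⊤) x trivial (f.app ⊤ (p.appTop ((Scheme.ΓSpecIso (CommRingCat.of k)).inv c))) =
      X.presheaf.germ ⊤ x trivial (q.appTop ((Scheme.ΓSpecIso (CommRingCat.of k)).inv c))
    rw [show q = f ≫ p from hf.symm]
    rfl)
  letI : Algebra k K := StructureSheaf.stalkAlgebra k (q x)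
  letI : Algebra K B := (q.stalkMap x).hom.toAlgebra
  haveI : IsScalarTower k K B := IsScalarTower.of_algebraMap_eq' (RingHom.ext fun c => hst X x c)
  have hsurj : Function.Surjective (algebraMap k K) := by
    let pt : PrimeSpectrum k := q x
    haveI : IsLocalization.AtPrime K pt.asIdeal := StructureSheaf.IsLocalization.to_stalk k pt
    have hu : pt.asIdeal.primeCompl ≤ IsUnit.submonoid k := fun s hs =>
      IsUnit.mk0 s fun h0 => hs (h0 ▸ pt.asIdeal.zero_mem)
    exact (IsLocalization.atUnits k pt.asIdeal.primeCompl hu (S := K)).surjective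
  haveI : Algebra.FormallyUnramified k K := Algebra.FormallyUnramified.of_surjective (Algebra.ofId k K) hsurj
  haveI : Algebra.EssFiniteType K B := by
    rw [← RingHom.essFiniteType_algebraMap, RingHom.algebraMap_toAlgebra]
    exact LocallyOfFiniteType.stalkMap q x
  haveI : Algebra.EssFiniteType k K := by
    haveI : Module.Finite k K := Module.Finite.of_surjective (Algebra.linearMap k K) hsurj
    infer_instance
  haveI : Algebra.EssFiniteType k B := Algebra.EssFiniteType.comp k K B
  haveI : Algebra.EssFiniteType A B := Algebra.EssFiniteType.of_comp k A B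
  obtain ⟨hfree, hfin, hrk⟩ := SmoothCrit.free_stalk_of_smooth q 1 x
  haveI : Module.Free B Ω[B⁄K] := hfree
  let b : Module.Basis Unit B Ω[B⁄K] := Module.basisUnique Unit hrk
  obtain ⟨η, hη⟩ := KaehlerDifferential.map_surjective k K B (b ())
  have hcyc : ∀ ω : Ω[B⁄k], ∃ c : B, c • η = ω := by
    intro ω
    refine ⟨b.repr (KaehlerDifferential.map k K B B ω) (), ?_⟩
    obtain ⟨t, ht⟩ := (KaehlerDifferential.exact_mapBaseChange_map k K B
      (b.repr (KaehlerDifferential.map k K B B ω) () • η - ω)).1 (by
        rw [map_sub, LinearMap.map_smul, hη, sub_eq_zero]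
        conv_rhs => rw [← b.sum_repr (KaehlerDifferential.map k K B B ω)]
        simp)
    rw [Subsingleton.elim t 0, map_zero] at ht
    exact sub_eq_zero.1 ht.symm
  haveI : Algebra.IsSeparable (IsLocalRing.ResidueField A) (IsLocalRing.ResidueField B) := by
    convert! hsep
    refine Algebra.algebra_ext _ _ fun a => ?_
    obtain ⟨a, rfl⟩ := IsLocalRing.residue_surjective a
    rfl
  haveI : IsLocallyNoetherian X := LocallyOfFiniteType.isLocallyNoetherian q
  haveI := TameSep.formallyUnramified_of_ramified k A B hcyc (by
    intro hm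
    rw [show (algebraMap A B) = (f.stalkMap x).hom from rfl] at hm
    have hmm : IsLocalRing.maximalIdeal B ≤ IsLocalRing.maximalIdeal B * IsLocalRing.maximalIdeal B := by
      refine (le_of_eq (hm.symm.trans he)).trans ((Ideal.pow_le_pow_right h2).trans ?_)
      rw [pow_two]
    have hbot : IsLocalRing.maximalIdeal B = ⊥ :=
      Submodule.eq_bot_of_le_smul_of_le_jacobson_bot (IsLocalRing.maximalIdeal B) _
        (IsNoetherian.noetherian _) hmm (IsLocalRing.maximalIdeal_le_jacobson _)
    have h1 := ExtShX.SmDual.ringKrullDim_stalk_eq (k := k) (r := 1) x hx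
    rw [ringKrullDim_eq_zero_of_isField
      (IsLocalRing.isField_iff_maximalIdeal_eq.2 hbot)] at h1
    exact absurd h1 (by simp))
  haveI : Algebra.EssFiniteType k (IsLocalRing.ResidueField B) := Algebra.EssFiniteType.comp k B _
  exact Algebra.FormallyUnramified.isSeparable k (IsLocalRing.ResidueField B)

end Groth.Agent.S16548
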