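import Groth.Statements.S4480
import Groth.Agent.ZarConn.Basic
import Groth.Agent.ZarConn.AppIso

set_option autoImplicit false
universe u
open Coherent

namespace Groth.Agent.S4480

open AlgebraicGeometry CategoryTheory in
/-- Let X and Y be locally Noetherian integral schemes and f : X → Y a proper dominant morphism such
that the function field R(Y) is algebraically closed in R(X) (every element of R(X) satisfying a
nonzero polynomial over R(Y) comes from R(Y)). Let y be a point of Y whose local ring is integrally
closed (a normal point). Then the fibre X_y is geometrically connected over the residue field of y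
(its base change to every field extension of that residue field is connected and nonempty; in
particular X_y is connected and nonempty), and there is an open neighbourhood U of y such that
O_Y(V) → O_X(f⁻¹V) is an isomorphism for every open V ⊆ U. -/
theorem result {X Y : Scheme.{u}}
    [IsIntegral X] [IsIntegral Y] [IsLocallyNoetherian X] [IsLocallyNoetherian Y] (f : X ⟶ Y) [IsProper f]
    (hdom : f.base (genericPoint X) ⤳ genericPoint Y)
    (halg : ∀ x : X.functionField,
      (∃ q : Polynomial Y.functionField, q ≠ 0 ∧
        Polynomial.eval₂ (CohIII.stalkToFunctionField f (genericPoint Y) hdom) x q = 0) →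
      x ∈ Set.range (CohIII.stalkToFunctionField f (genericPoint Y) hdom))
    (y : Y) (hy : IsIntegrallyClosed (Y.presheaf.stalk y)) :
    GeometricallyConnected (f.fiberToSpecResidueField y) ∧
      ∃ U : Y.Opens, y ∈ U ∧ ∀ V : Y.Opens, V ≤ U → IsIso (f.app V) := by
  obtain ⟨U, hyU, hU⟩ := ZarConn.exists_nhd_isIso_app f hdom halg y hy
  refine ⟨?_, U, hyU, hU⟩
  haveI hgc : GeometricallyConnected (f ∣_ U) := ZarConn.geometricallyConnected (f ∣_ U) fun V => by
    haveI := hU (U.ι ''ᵁ V) (U.ι_image_le V)
    rw [morphismRestrict_app]
    refine (ConcreteCategory.isIso_iff_bijective _).2 ?_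
    refine Function.Bijective.comp (g := ⇑(X.presheaf.map (eqToHom _).op)) ?_ (ConcreteCategory.bijective_of_isIso (f.app (U.ι ''ᵁ V)))
    exact ConcreteCategory.bijective_of_isIso (X.presheaf.map (eqToIso (image_morphismRestrict_preimage f U V)).hom.op)
  let y' : U := ⟨y, hyU⟩
  refine ⟨fun K _ s P fst snd h => ?_⟩
  have hy0 : Set.range (Y.fromSpecResidueField y) ⊆ Set.range U.ι := by
    rw [Scheme.range_fromSpecResidueField, Scheme.Opens.range_ι]; rintro _ rfl; exact hyU
  have hP : IsPullback (fst ≫ Limits.pullback.fst f (Y.fromSpecResidueField y)) snd f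
      ((s ≫ IsOpenImmersion.lift U.ι (Y.fromSpecResidueField y) hy0) ≫ U.ι) := by
    rw [Category.assoc, IsOpenImmersion.lift_fac]
    exact h.paste_horiz (IsPullback.of_hasPullback f (Y.fromSpecResidueField y))
  exact hgc.geometrically_connectedSpace (s ≫ IsOpenImmersion.lift U.ι (Y.fromSpecResidueField y) hy0) _ snd
    (IsPullback.of_right' hP (isPullback_morphismRestrict f U).flip)

end Groth.Agent.S4480
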