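import Groth.Statements.S1655
import Groth.Agent.S4480
import Mathlib.AlgebraicGeometry.ZariskisMainTheorem

set_option autoImplicit false
set_option backward.isDefEq.respectTransparency false
set_option backward.isDefEq.respectTransparency.types false
set_option linter.style.haveILetI false
universe u
open CategoryTheory CategoryTheory.Limits AlgebraicGeometry
open Variety

namespace Groth.Agent.S1655
open Groth.Agent

/-- Let X be a Noetherian integral scheme, Y an integral scheme, and f : Y → X a proper morphism that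
restricts to an isomorphism over some nonempty open subscheme of X. If x is a point of X whose local
ring is integrally closed and f is quasi-finite at some point lying over x, then f restricts to an
isomorphism over an open neighbourhood of x. -/
theorem result {X Y : Scheme.{u}} [IsNoetherian X] [IsIntegral X] [IsIntegral Y]
    (f : Y ⟶ X) [IsProper f] (W : X.Opens) (hW : (W : Set X).Nonempty) (hfW : IsIso (f ∣_ W))
    (x : X) (hx : IsIntegrallyClosed (X.presheaf.stalk x)) (y : Y) (hy : f.base y = x) (hq : f.QuasiFiniteAt y) :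
    ∃ V : X.Opens, x ∈ V ∧ IsIso (f ∣_ V) := by
  haveI : IsLocallyNoetherian Y := LocallyOfFiniteType.isLocallyNoetherian f
  have hηW : genericPoint X ∈ W := ((genericPoint_spec X).mem_open_set_iff W.2).2 (by rwa [Set.univ_inter])
  haveI : Nonempty ↥W.toScheme := ⟨⟨_, hW.choose_spec⟩⟩
  haveI := hfW
  have hsurjW : Function.Surjective (f ∣_ W) := (f ∣_ W).homeomorph.surjective
  obtain ⟨z, hz⟩ := hsurjW ⟨genericPoint X, hηW⟩
  have hgen : f (genericPoint Y) = genericPoint X := by
    have h1 : f ((f ⁻¹ᵁ W).ι z) = genericPoint X := by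
      rw [← Scheme.Hom.comp_apply, ← morphismRestrict_ι, Scheme.Hom.comp_apply, hz]
      rfl
    exact ((h1 ▸ (genericPoint_specializes ((f ⁻¹ᵁ W).ι z)).map f.continuous).antisymm
      (genericPoint_specializes (f (genericPoint Y)))).eq
  have hdom : f (genericPoint Y) ⤳ genericPoint X := specializes_of_eq hgen
  have hbij : Function.Surjective (CohIII.stalkToFunctionField f (genericPoint X) hdom) := by
    have hηY : genericPoint Y ∈ f ⁻¹ᵁ W := by
      show f (genericPoint Y) ∈ W
      rw [hgen]; exact hηW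
    let w : (f ⁻¹ᵁ W).toScheme := ⟨genericPoint Y, hηY⟩
    have hiso : IsIso (f.stalkMap (genericPoint Y)) :=
      ((MorphismProperty.isomorphisms _).arrow_mk_iso_iff (morphismRestrictStalkMap f W w)).1
        (inferInstanceAs (IsIso ((f ∣_ W).stalkMap w)))
    intro t
    obtain ⟨t', rfl⟩ := (ConcreteCategory.bijective_of_isIso (f.stalkMap (genericPoint Y))).2 t
    have hsp : X.presheaf.stalkSpecializes hdom = eqToHom (by rw [hgen]) := by
      have key : ∀ (a : X) (e : a = genericPoint X), X.presheaf.stalkSpecializes (specializes_of_eq e) = eqToHom (by rw [e]) := by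
        rintro a rfl
        exact TopCat.Presheaf.stalkSpecializes_refl _ _
      exact key _ hgen
    haveI : IsIso (X.presheaf.stalkSpecializes hdom) := by rw [hsp]; infer_instance
    obtain ⟨t'', rfl⟩ := (ConcreteCategory.bijective_of_isIso (X.presheaf.stalkSpecializes hdom)).2 t'
    exact ⟨t'', rfl⟩
  obtain ⟨hgc, U, hxU, hU⟩ := Groth.Agent.S4480.result f hdom (fun t _ => hbij t) x hx
  subst hy
  haveI : ConnectedSpace ↥(f.fiber (f y)) := hgc.geometrically_connectedSpace (𝟙 _) (𝟙 _)
    (f.fiberToSpecResidueField (f y)) IsPullback.of_id_fst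
  haveI : LocallyOfFiniteType (f.fiberToSpecResidueField (f y)) :=
    MorphismProperty.pullback_snd _ _ (inferInstanceAs (LocallyOfFiniteType f))
  haveI : JacobsonSpace ↥(f.fiber (f y)) := LocallyOfFiniteType.jacobsonSpace (f.fiberToSpecResidueField (f y))
  have hopen : IsOpen ({f.asFiber y} : Set (f.fiber (f y))) := Scheme.Hom.quasiFiniteAt_iff_isOpen_singleton_asFiber.1 hq
  have hclosed : IsClosed ({f.asFiber y} : Set (f.fiber (f y))) :=
    isClosed_singleton_of_isLocallyClosed_singleton hopen.isLocallyClosed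
  have huniv : ({f.asFiber y} : Set (f.fiber (f y))) = Set.univ :=
    IsClopen.eq_univ ⟨hclosed, hopen⟩ (Set.singleton_nonempty _)
  haveI : Subsingleton ↥(f.fiber (f y)) :=
    Set.subsingleton_univ_iff.1 (huniv ▸ Set.subsingleton_singleton)
  haveI : Subsingleton ↥(f ⁻¹' {f y}) := (f.fiberHomeo (f y)).symm.injective.subsingleton
  have hfin : (f ⁻¹' {f y}).Finite := Set.toFinite _
  obtain ⟨V, hxV, hV⟩ := exists_isFinite_morphismRestrict_of_finite_preimage_singleton f (f y) hfin
  obtain ⟨_, ⟨A₀, hA, rfl⟩, hxA, hAle⟩ := X.isBasis_affineOpens.exists_subset_of_mem_open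
    (show f y ∈ U ⊓ V from ⟨hxU, hxV⟩) (U ⊓ V).2
  obtain ⟨A, rfl⟩ : ∃ A : X.Opens, A = A₀ := ⟨A₀, rfl⟩
  refine ⟨A, hxA, ?_⟩
  have hAV : A ≤ V := fun z hz => (hAle hz).2
  have hfA : IsFinite (f ∣_ A) := by
    haveI := hV
    have h := IsZariskiLocalAtTarget.restrict (P := @IsFinite) hV (V.ι ⁻¹ᵁ A)
    refine ((MorphismProperty.arrow_mk_iso_iff @IsFinite (morphismRestrictRestrict f V (V.ι ⁻¹ᵁ A) ≪≫
      morphismRestrictEq f (?_))).1 h)
    ext z
    simp only [Scheme.Hom.image_preimage_eq_opensRange_inf, Scheme.Opens.opensRange_ι, SetLike.mem_coe]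
    exact ⟨fun h => h.2, fun h => ⟨hAV h, h⟩⟩
  haveI : IsAffine A.toScheme := hA
  haveI := hfA
  haveI : IsAffine (f ⁻¹ᵁ A).toScheme := isAffine_of_isAffineHom (f ∣_ A)
  haveI : IsIso (f ∣_ A).appTop := by
    haveI := hU (A.ι ''ᵁ ⊤) (fun z hz => (hAle (A.ι_image_le ⊤ hz)).1)
    rw [Scheme.Hom.appTop, morphismRestrict_app]
    infer_instance
  exact (HasAffineProperty.iff_of_isAffine (P := MorphismProperty.isomorphisms Scheme) (f := f ∣_ A)).2 ⟨inferInstance, inferInstance⟩

end Groth.Agent.S1655
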