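import Groth.Statements.S16551
import Groth.Agent.FinGD.Basic

set_option autoImplicit false
set_option backward.isDefEq.respectTransparency false
set_option backward.isDefEq.respectTransparency.types false
set_option maxHeartbeats 1000000
set_option linter.style.haveILetI false
universe u
open CategoryTheory CategoryTheory.Limits AlgebraicGeometry
open Models

namespace Groth.Agent.S16551

open Groth.Agent Topology

/-- Let R be a discrete valuation ring, W and Z integral normal schemes which are flat, of finite type
and of dimension 2 over Spec R, and ψ : W -> Z a finite surjective R-morphism. Let z be a closed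
point of Z lying in the special fibre, w a point of W with ψ(w) = z, and Δ an irreducible component
of the special fibre of Z with z ∈ Δ. Then some irreducible component Γ of the special fibre of W
contains w and satisfies ψ(Γ) = Δ. (The published statement asks W and Z only to be normal; they are
taken integral as well here.) -/
theorem result
    (R : Type u) [CommRing R] [IsDomain R] [IsDiscreteValuationRing R]
    (W Z : Over (Spec (CommRingCat.of R))) [IsIntegral W.left] [IsIntegral Z.left]
    (hWn : Pi1.IsNormalScheme W.left) (hZn : Pi1.IsNormalScheme Z.left)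
    [Flat W.hom] [LocallyOfFiniteType W.hom] [QuasiCompact W.hom]
    [Flat Z.hom] [LocallyOfFiniteType Z.hom] [QuasiCompact Z.hom]
    (hdW : topologicalKrullDim W.left = 2) (hdZ : topologicalKrullDim Z.left = 2)
    (ψ : W ⟶ Z) [IsFinite ψ.left] [Surjective ψ.left]
    (z : Z.left) (hzc : IsClosed ({z} : Set Z.left)) (hz : z ∈ Models.specialFibreSet R Z)
    (w : W.left) (hw : ψ.left.base w = z)
    (Δ : Set Z.left) (hΔ : Δ ∈ Models.fibreComponents R Z) (hzΔ : z ∈ Δ) :
    ∃ Γ ∈ Models.fibreComponents R W, w ∈ Γ ∧ ψ.left.base '' Γ = Δ := by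
  have hgen : GeneralizingMap ψ.left.base :=
    FinGD.generalizingMap_of_isNormal hZn ψ.left ψ.left.surjective.denseRange
  have hsf : ∀ v : W.left, v ∈ Models.specialFibreSet R W ↔ ψ.left v ∈ Models.specialFibreSet R Z := by
    intro v
    simp only [Models.specialFibreSet, Set.mem_preimage, Set.mem_singleton_iff]
    rw [← Scheme.Hom.comp_apply, Over.w ψ]
  obtain ⟨⟨hΔi, hΔs⟩, hΔmax⟩ := hΔ
  have hΔc : IsClosed Δ := by
    have := hΔmax ⟨hΔi.closure, closure_minimal hΔs (Models.isClosed_specialFibreSet R Z)⟩ subset_closure
    exact closure_subset_iff_isClosed.mp this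
  obtain ⟨η, hη⟩ := QuasiSober.sober hΔi hΔc
  have hηz : η ⤳ ψ.left w := by
    rw [specializes_iff_mem_closure]
    rw [hη.def, hw]; exact hzΔ
  obtain ⟨γ, hγw, hγ⟩ := hgen hηz
  have hγs : γ ∈ Models.specialFibreSet R W := by
    rw [hsf, hγ]; exact hΔs hη.mem
  refine ⟨closure {γ}, ⟨⟨isIrreducible_singleton.closure,
    closure_minimal (Set.singleton_subset_iff.mpr hγs) (Models.isClosed_specialFibreSet R W)⟩, ?_⟩,
    specializes_iff_mem_closure.mp hγw, ?_⟩
  · rintro S ⟨hSi, hSs⟩ hle
    obtain ⟨γ', hγ'⟩ := QuasiSober.sober hSi.closure isClosed_closure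
    have hs : γ' ⤳ γ := hγ'.specializes (subset_closure (hle (subset_closure rfl)))
    have hγ's : γ' ∈ Models.specialFibreSet R W :=
      closure_minimal hSs (Models.isClosed_specialFibreSet R W) hγ'.mem
    have h1 : ψ.left γ' = η := by
      have h2 : ψ.left γ' ⤳ η := hγ ▸ hs.map ψ.left.continuous
      have h3 : closure {ψ.left γ'} ⊆ Δ := hΔmax
        ⟨isIrreducible_singleton.closure, closure_minimal (Set.singleton_subset_iff.mpr ((hsf γ').mp hγ's))
          (Models.isClosed_specialFibreSet R Z)⟩
        (by rw [← hη.def]; exact h2.closure_subset)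
      have h4 : η ⤳ ψ.left γ' := hη.specializes (h3 (subset_closure rfl))
      exact h2.antisymm h4 |>.eq
    have h5 : γ' = γ := by
      by_contra hne
      have := (ψ.left.isDiscrete_preimage_singleton η).eq_of_specializes hs (by exact h1) (by exact hγ)
      exact hne this
    subst h5
    exact subset_closure.trans hγ'.def.ge
  · rw [← ψ.left.isClosedMap.closure_image_eq_of_continuous ψ.left.continuous, Set.image_singleton, hγ]
    exact hη

end Groth.Agent.S16551
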