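import Groth.Statements.S16557
import Groth.Agent.SurfRR.Curve

set_option autoImplicit false
set_option backward.isDefEq.respectTransparency false
set_option backward.isDefEq.respectTransparency.types false
set_option linter.style.haveILetI false
set_option maxHeartbeats 1000000
universe u
open CategoryTheory CategoryTheory.Limits AlgebraicGeometry TopologicalSpace
open Surf

namespace Groth.Agent.S16557
open Groth.Agent
open scoped Groth.Agent.H23.PicMul

/-- Let X be a smooth proper integral surface over an algebraically closed field k, W = Λ²Ω_{X/k} a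
canonical module, and suppose H⁰(X, W) = 0 (the source states this for smooth rational surfaces and
uses exactly the vanishing of H⁰(X, K_X)). If L is an invertible O_X-module with H⁰(X, L) ≠ 0, then
H²(X, L) = 0. -/
theorem result (k : Type u) [Field k] [IsAlgClosed k]
    (X : Scheme.{u}) [X.Over (Spec (CommRingCat.of k))] [IsIntegral X] [IsProper (X ↘ (Spec (CommRingCat.of k)))] [Smooth (X ↘ (Spec (CommRingCat.of k)))]
    (hdim : topologicalKrullDim X = 2)
    (W : X.Modules) (hW : ExtPow.IsExtPow 2 (Omega.sheaf (X ↘ (Spec (CommRingCat.of k)))) W)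
    (hpg : Subsingleton (Coh.HH X W 0))
    (L : X.Modules) (hL : PicF.IsInvertible L) (h0 : Nontrivial (Coh.HH X L 0)) :
    Subsingleton (Coh.HH X L 2) := by
  haveI := CurveCohLib.isNoetherian_of_proper (k := k) (X := X)
  have hdim2 : topologicalKrullDim X = ((2 : ℕ) : WithBot ℕ∞) := by rw [hdim]; rfl
  have hWi := SurfRR.isInvertible_canonical k hdim2 (SurfRR.exists_proj_smooth k hdim2) hW
  obtain ⟨L', hL', ⟨u⟩⟩ := H23.PicInv.exists_inverse hL
  haveI := CurveCohLib.finite_HH (k := k) (AmpleVan.isCoh_invertible hL) 0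
  haveI := CurveCohLib.finite_HH (k := k) (AmpleVan.isCoh_invertible hL) 2
  refine (Module.finrank_zero_iff (R := k)).1 ?_
  rw [SurfRR.finrank_dual k hdim2 (SurfRR.exists_proj_smooth k hdim2) hW hL u (q := 2) le_rfl]
  by_contra hne
  have hWL := InvX.isInvertible_tensorMod hWi hL'
  have h := SurfRR.h0_tensor_pos k hWL hL (Nat.pos_of_ne_zero hne) Module.finrank_pos
  obtain ⟨e⟩ : Nonempty (CohB1.tensorMod (CohB1.tensorMod W L') L ≅ W) := H23.PicMul.cl_eq_iff.1 (by
    rw [H23.PicMul.cl_tensor, H23.PicMul.cl_tensor, mul_assoc, mul_comm (PicF.cl L'), ← H23.PicMul.cl_tensor L L',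
      H23.PicMul.cl_eq_iff.2 ⟨u⟩, ← H23.PicMul.one_def, mul_one])
  rw [(S2926.hhIso k e 0).finrank_eq, Module.finrank_zero_of_subsingleton] at h
  exact lt_irrefl _ h

end Groth.Agent.S16557
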