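import Groth.Statements.S16559
import Groth.Agent.PlaneBlowUp.Line
import Groth.Agent.SurfRR.Index
-- import your own Groth.Agent.* helpers here

set_option autoImplicit false
set_option backward.isDefEq.respectTransparency false
set_option backward.isDefEq.respectTransparency.types false
set_option linter.style.haveILetI false
set_option maxHeartbeats 1000000
universe u
open CategoryTheory CategoryTheory.Limits AlgebraicGeometry TopologicalSpace
open Surf

namespace Groth.Agent.S16559
open Groth.Agent

/-- Let k be an algebraically closed field, p_1, …, p_r distinct closed points of the projective plane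
P²_k and σ : X → P²_k the blow-up of P²_k in the ideal of the reduced finite set {p_1, …, p_r}
(universal property), X being regarded over k through σ; X is then an integral smooth proper surface
(carried as hypotheses). Write H = σ^*O(1), (L·M) = χ(O_X) − χ(L) − χ(M) + χ(L ⊗ M) for the
intersection number of invertible modules L, M, and for a closed subscheme C ⊆ X with ideal I_C
write (L·C) = χ(O_C ⊗ L) − χ(O_C) and C² = (I_C·I_C). If L is an invertible O_X-module with (L·H) ≥
−2, then H²(X, L) = 0. (The source takes the points in general position; that assumption plays no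
role here.) -/
theorem result (k : Type u) [Field k] [IsAlgClosed k]
    (r : ℕ) (P : Fin r → ↥(CohB1.ProjSpace 2 k)) (hP : Function.Injective P)
    (hPc : ∀ i, IsClosed ({P i} : Set ↥(CohB1.ProjSpace 2 k))) (hZ : IsClosed (Set.range P))
    (X : Scheme.{u}) [X.Over (Spec (CommRingCat.of k))] (σ : X ⟶ CohB1.ProjSpace 2 k)
    (hσk : σ ≫ CohB1.ProjSpace.toSpec 2 k = X ↘ (Spec (CommRingCat.of k)))
    (hσ : BlowUp.IsBlowUp σ (Scheme.IdealSheafData.vanishingIdeal ⟨Set.range P, hZ⟩))
    [IsIntegral X] [IsProper (X ↘ (Spec (CommRingCat.of k)))] [Smooth (X ↘ (Spec (CommRingCat.of k)))] (hdim : topologicalKrullDim X = 2)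
    (L : X.Modules) (hL : PicF.IsInvertible L) (hLH : -2 ≤ FGA.intNum k X 2 ![L, ((Scheme.Modules.pullback σ).obj (Twist.twistProjSpace 2 k 1))] (Coh.structureModule X)) :
    Subsingleton (Coh.HH X L 2) := by
  haveI := Groth.Agent.CurveCohLib.isNoetherian_of_proper (k := k) (X := X)
  have hdim2 : topologicalKrullDim X = ((2 : ℕ) : WithBot ℕ∞) := by rw [hdim]; rfl
  have hproj := Groth.Agent.SurfRR.exists_proj_smooth (X := X) k hdim2
  obtain ⟨W, hW⟩ := Groth.Agent.SurfRR.exists_canonical (X := X) k hdim2
  have hWi := Groth.Agent.SurfRR.isInvertible_canonical k hdim2 hproj hW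
  have hamp : CohB1.IsAmple (Twist.twistProjSpace 2 k 1) := Groth.Agent.HilbPoly.isAmple_twistProjSpace_one 2 k
  have hH := Groth.Agent.PicClLib.isInvertible_pullback σ hamp.1
  obtain ⟨A, hA⟩ := Groth.Agent.SurfRR.exists_ample k hdim2 (Groth.Agent.SurfRR.regular_of_smooth (X := X) k)
  obtain ⟨-, hWH⟩ := Groth.Agent.PlaneBlowUp.pair_canonical_H (k := k) hdim2 σ hσk (Set.finite_range P) hZ hσ hW
  obtain ⟨L', hL', ⟨u⟩⟩ := Groth.Agent.H23.PicInv.exists_inverse hL
  haveI := Groth.Agent.CurveCohLib.finite_HH (k := k) (Groth.Agent.AmpleVan.isCoh_invertible hL) 2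
  refine (Module.finrank_zero_iff (R := k)).1 ?_
  rw [Groth.Agent.SurfRR.finrank_dual k hdim2 hproj hW hL u (q := 2) le_rfl]
  by_contra hne
  have hWL := Groth.Agent.InvX.isInvertible_tensorMod hWi hL'
  have h := Groth.Agent.SurfRR.pair_nonneg_nef k hdim2 hWL hH (Groth.Agent.SurfRR.nef_pullback_ample k σ hamp) hA
    (Nat.pos_of_ne_zero hne)
  rw [Groth.Agent.SurfRR.pair_tensor k hdim2.le hWi hL' hH, Groth.Agent.SurfRR.pair_inverse k hdim2.le hL hL' u hH,
    hWH] at h
  rw [Groth.Agent.SurfRR.intNum_two k hdim2.le hL hH] at hLH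
  omega

end Groth.Agent.S16559
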