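import Groth.Statements.S16561
import Groth.Agent.PlaneBlowUp.Line
import Groth.Agent.SurfRR.Config
import Groth.Agent.SurfRR.Rational
import Groth.Agent.S16559
import Groth.Agent.PlaneBlowUp.Surj
-- import your own Groth.Agent.* helpers here

set_option autoImplicit false
set_option backward.isDefEq.respectTransparency false
set_option backward.isDefEq.respectTransparency.types false
set_option linter.style.haveILetI false
set_option maxHeartbeats 1000000
universe u
open CategoryTheory CategoryTheory.Limits AlgebraicGeometry TopologicalSpace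
open Surf

namespace Groth.Agent.S16561
open Groth.Agent

/-- Let k be an algebraically closed field, p_1, …, p_r distinct closed points of the projective plane
P²_k and σ : X → P²_k the blow-up of P²_k in the ideal of the reduced finite set {p_1, …, p_r}
(universal property), X being regarded over k through σ; X is then an integral smooth proper surface
(carried as hypotheses). Write H = σ^*O(1), (L·M) = χ(O_X) − χ(L) − χ(M) + χ(L ⊗ M) for the
intersection number of invertible modules L, M, and for a closed subscheme C ⊆ X with ideal I_C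
write (L·C) = χ(O_C ⊗ L) − χ(O_C) and C² = (I_C·I_C). A (−1)-curve is an integral closed
one-dimensional subscheme E ⊆ X with H¹(E, O_E) = 0 and E² = −1. Let L be an invertible O_X-module,
d = (L·H), χ⁻ = max(−χ(L), 0), and E a (−1)-curve with (H·E) ≤ d + 2. If dim_k H¹(X, L) = χ⁻, then
(L·E) ≥ −1 − χ⁻. (The source takes the points in general position; that assumption plays no role
here.) -/
theorem result (k : Type u) [Field k] [IsAlgClosed k]
    (r : ℕ) (P : Fin r → ↥(CohB1.ProjSpace 2 k)) (hP : Function.Injective P)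
    (hPc : ∀ i, IsClosed ({P i} : Set ↥(CohB1.ProjSpace 2 k))) (hZ : IsClosed (Set.range P))
    (X : Scheme.{u}) [X.Over (Spec (CommRingCat.of k))] (σ : X ⟶ CohB1.ProjSpace 2 k)
    (hσk : σ ≫ CohB1.ProjSpace.toSpec 2 k = X ↘ (Spec (CommRingCat.of k)))
    (hσ : BlowUp.IsBlowUp σ (Scheme.IdealSheafData.vanishingIdeal ⟨Set.range P, hZ⟩))
    [IsIntegral X] [IsProper (X ↘ (Spec (CommRingCat.of k)))] [Smooth (X ↘ (Spec (CommRingCat.of k)))] (hdim : topologicalKrullDim X = 2)
    (L : X.Modules) (hL : PicF.IsInvertible L)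
    (E : X.IdealSheafData) (hEi : IsIntegral E.subscheme) (hE1 : topologicalKrullDim (E.support : Set X) = 1)
    (hEg : Subsingleton (Coh.HH E.subscheme (Coh.structureModule E.subscheme) 1))
    (hEE : FGA.intNum k X 2 ![ClSub.idealMod E, ClSub.idealMod E] (Coh.structureModule X) = -1)
    (hEH : (Curv2.euler k X (CohB1.tensorMod (ClSub.quotMod E) ((Scheme.Modules.pullback σ).obj (Twist.twistProjSpace 2 k 1))) - Curv2.euler k X (ClSub.quotMod E)) ≤ FGA.intNum k X 2 ![L, ((Scheme.Modules.pullback σ).obj (Twist.twistProjSpace 2 k 1))] (Coh.structureModule X) + 2)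
    (h1 : (Module.finrank k (Coh.HH X L 1) : ℤ) = max (-Curv2.euler k X L) 0) :
    -1 - max (-Curv2.euler k X L) 0 ≤ (Curv2.euler k X (CohB1.tensorMod (ClSub.quotMod E) L) - Curv2.euler k X (ClSub.quotMod E)) := by
  haveI := Groth.Agent.CurveCohLib.isNoetherian_of_proper (k := k) (X := X)
  have hdim2 : topologicalKrullDim X = ((2 : ℕ) : WithBot ℕ∞) := by rw [hdim]; rfl
  have hreg := Groth.Agent.SurfRR.regular_of_smooth (X := X) k
  have hEc := Groth.Agent.SurfRR.isEffCartier_curve k hdim2 hEi hE1 hreg
  have hIE := (Groth.Agent.S8914.result E).2 hEc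
  have hamp : CohB1.IsAmple (Twist.twistProjSpace 2 k 1) := Groth.Agent.HilbPoly.isAmple_twistProjSpace_one 2 k
  have hH := Groth.Agent.PicClLib.isInvertible_pullback σ hamp.1
  have hIL := Groth.Agent.InvX.isInvertible_tensorMod hIE hL
  have hIH : -2 ≤ FGA.intNum k X 2 ![CohB1.tensorMod (ClSub.idealMod E) L, ((Scheme.Modules.pullback σ).obj (Twist.twistProjSpace 2 k 1))] (Coh.structureModule X) := by
    rw [Groth.Agent.SurfRR.eulerDiff_eq_neg_pair k hdim2 hreg hEi hE1 hH,
      Groth.Agent.SurfRR.intNum_two k hdim2.le hL hH] at hEH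
    rw [Groth.Agent.SurfRR.intNum_two k hdim2.le hIL hH, Groth.Agent.SurfRR.pair_tensor k hdim2.le hIE hL hH]
    omega
  have h2 := Groth.Agent.S16559.result k r P hP hPc hZ X σ hσk hσ hdim _ hIL hIH
  have hq : Coh.IsCoh (CohB1.tensorMod (ClSub.quotMod E) L) :=
    Groth.Agent.AmpleVan.isCoh_tensor (Groth.Agent.ParShLib.isCoh_quotMod E) (Groth.Agent.AmpleVan.isCoh_invertible hL)
  have hLc : Coh.IsCoh (CohB1.tensorMod (Coh.structureModule X) L) :=
    Groth.Agent.AmpleVan.isCoh_tensor Groth.Agent.QCoh.isCoh_structureModule' (Groth.Agent.AmpleVan.isCoh_invertible hL)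
  haveI := Groth.Agent.CurveCohLib.finite_HH (k := k) hLc 1
  have hle : Module.finrank k (Coh.HH X (CohB1.tensorMod (ClSub.quotMod E) L) 1) ≤
      Module.finrank k (Coh.HH X (CohB1.tensorMod (Coh.structureModule X) L) 1) := by
    have := Groth.Agent.PlaneBlowUp.finrank_h1_tw_le (k := k) hL
      (S := ShortComplex.mk (ClSub.idealModι E) (ClSub.toSubscheme E) (kernel.condition _))
      (Groth.Agent.IntSym.shortExact_toSubscheme E) h2 this
    exact this
  obtain ⟨e⟩ : Nonempty (CohB1.tensorMod (Coh.structureModule X) L ≅ L) :=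
    ⟨Groth.Agent.CurveTensor.structureTensorIso L⟩
  rw [(Groth.Agent.S2926.hhIso k e 1).finrank_eq] at hle
  have h3 := Groth.Agent.SurfRR.euler_three k hdim2 hq.1
  have hQ1 := (Groth.Agent.SurfRR.euler_curve k hEi hE1).2.2 hEg
  omega

end Groth.Agent.S16561
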