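import Groth.Statements.S16562
import Groth.Agent.SurfRR.Decomp
import Groth.Agent.SurfRR.Config
import Groth.Agent.HilbPoly.PnTwist
import Groth.Agent.Lib.CurveSpecial
import Groth.Agent.AffCompl.Section
-- import your own Groth.Agent.* helpers here

set_option autoImplicit false
set_option backward.isDefEq.respectTransparency false
set_option backward.isDefEq.respectTransparency.types false
set_option linter.style.haveILetI false
set_option maxHeartbeats 1000000
universe u
open CategoryTheory CategoryTheory.Limits AlgebraicGeometry TopologicalSpace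
open Surf

namespace Groth.Agent.S16562
open Groth.Agent

/-- Let k be an algebraically closed field, p_1, …, p_r distinct closed points of the projective plane
P²_k and σ : X → P²_k the blow-up of P²_k in the ideal of the reduced finite set {p_1, …, p_r}
(universal property), X being regarded over k through σ; X is then an integral smooth proper surface
(carried as hypotheses). Write H = σ^*O(1), (L·M) = χ(O_X) − χ(L) − χ(M) + χ(L ⊗ M) for the
intersection number of invertible modules L, M, and for a closed subscheme C ⊆ X with ideal I_C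
write (L·C) = χ(O_C ⊗ L) − χ(O_C) and C² = (I_C·I_C). A (−1)-curve is an integral closed
one-dimensional subscheme E ⊆ X with H¹(E, O_E) = 0 and E² = −1. If L is an invertible O_X-module
and E a (−1)-curve whose H-degree satisfies 2(H·E) > (L·H), and (L·E) < −1, then H⁰(X, L) = 0. (The
source takes the points in general position; that assumption plays no role here.) -/
theorem result (k : Type u) [Field k] [IsAlgClosed k]
    (r : ℕ) (P : Fin r → ↥(CohB1.ProjSpace 2 k)) (hP : Function.Injective P)
    (hPc : ∀ i, IsClosed ({P i} : Set ↥(CohB1.ProjSpace 2 k))) (hZ : IsClosed (Set.range P))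
    (X : Scheme.{u}) [X.Over (Spec (CommRingCat.of k))] (σ : X ⟶ CohB1.ProjSpace 2 k)
    (hσk : σ ≫ CohB1.ProjSpace.toSpec 2 k = X ↘ (Spec (CommRingCat.of k)))
    (hσ : BlowUp.IsBlowUp σ (Scheme.IdealSheafData.vanishingIdeal ⟨Set.range P, hZ⟩))
    [IsIntegral X] [IsProper (X ↘ (Spec (CommRingCat.of k)))] [Smooth (X ↘ (Spec (CommRingCat.of k)))] (hdim : topologicalKrullDim X = 2)
    (L : X.Modules) (hL : PicF.IsInvertible L)
    (E : X.IdealSheafData) (hEi : IsIntegral E.subscheme) (hE1 : topologicalKrullDim (E.support : Set X) = 1)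
    (hEg : Subsingleton (Coh.HH E.subscheme (Coh.structureModule E.subscheme) 1))
    (hEE : FGA.intNum k X 2 ![ClSub.idealMod E, ClSub.idealMod E] (Coh.structureModule X) = -1)
    (hEH : FGA.intNum k X 2 ![L, ((Scheme.Modules.pullback σ).obj (Twist.twistProjSpace 2 k 1))] (Coh.structureModule X) < 2 * (Curv2.euler k X (CohB1.tensorMod (ClSub.quotMod E) ((Scheme.Modules.pullback σ).obj (Twist.twistProjSpace 2 k 1))) - Curv2.euler k X (ClSub.quotMod E)))
    (hLE : (Curv2.euler k X (CohB1.tensorMod (ClSub.quotMod E) L) - Curv2.euler k X (ClSub.quotMod E)) < -1) :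
    Subsingleton (Coh.HH X L 0) := by
  haveI := Groth.Agent.CurveCohLib.isNoetherian_of_proper (k := k) (X := X)
  have hdim2 : topologicalKrullDim X = ((2 : ℕ) : WithBot ℕ∞) := by rw [hdim]; rfl
  have hreg := Groth.Agent.SurfRR.regular_of_smooth (X := X) k
  have hamp : CohB1.IsAmple (Twist.twistProjSpace 2 k 1) := Groth.Agent.HilbPoly.isAmple_twistProjSpace_one 2 k
  have hH := Groth.Agent.PicClLib.isInvertible_pullback σ hamp.1
  have hEc := Groth.Agent.SurfRR.isEffCartier_curve k hdim2 hEi hE1 hreg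
  have hIE := (Groth.Agent.S8914.result E).2 hEc
  refine not_nontrivial_iff_subsingleton.1 fun hnt => ?_
  obtain ⟨t, ht⟩ := exists_ne (0 : Coh.HH X L 0)
  obtain ⟨F, hF, hinv, -⟩ := Groth.Agent.AffCompl.exists_divisor_of_section hL _
    (Groth.Agent.CurveSpecial.homOfClass_ne_zero ht)
  have hIF := (Groth.Agent.S8914.result F).2 hF
  obtain ⟨uLF⟩ := hinv
  have hFM : ∀ {M : X.Modules}, PicF.IsInvertible M →
      Groth.Agent.SurfRR.pair k (ClSub.idealMod F) M = - Groth.Agent.SurfRR.pair k L M := fun hM =>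
    Groth.Agent.SurfRR.pair_inverse k hdim2.le hL hIF uLF hM
  rw [Groth.Agent.SurfRR.eulerDiff_eq_neg_pair k hdim2 hreg hEi hE1 hL, Groth.Agent.SurfRR.pair_comm k hIE hL] at hLE
  rw [Groth.Agent.SurfRR.intNum_two k hdim2.le hL hH, Groth.Agent.SurfRR.eulerDiff_eq_neg_pair k hdim2 hreg hEi hE1 hH] at hEH
  rw [Groth.Agent.SurfRR.intNum_two k hdim2.le hIE hIE] at hEE
  have step : ∀ R : X.IdealSheafData, BlowUp.IsEffCartierIdeal R →
      Groth.Agent.SurfRR.pair k (ClSub.idealMod R) (ClSub.idealMod E) < 0 →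
      ∃ R', BlowUp.IsEffCartierIdeal R' ∧ R = E * R' := fun R hR hneg => by
    refine Groth.Agent.SurfRR.exists_quot hR hEc (Groth.Agent.SurfRR.le_of_support_subset
      (haveI := hEi; inferInstance) (by_contra fun hns => ?_))
    have := Groth.Agent.SurfRR.pair_nonneg_curve k hdim2 hR hEi hE1 hreg hns
    omega
  obtain ⟨F₁, hF₁, rfl⟩ := step F hF (by rw [hFM hIE]; omega)
  have e1 := Groth.Agent.SurfRR.pair_idealMod_mul k hdim2 hEc hF₁ hIE
  have e1H := Groth.Agent.SurfRR.pair_idealMod_mul k hdim2 hEc hF₁ hH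
  rw [hFM hIE] at e1
  rw [hFM hH] at e1H
  obtain ⟨F₂, hF₂, rfl⟩ := step F₁ hF₁ (by omega)
  have e2H := Groth.Agent.SurfRR.pair_idealMod_mul k hdim2 hEc hF₂ hH
  obtain ⟨C, R', hC, hC1, hCc, -, -, hpos⟩ := Groth.Agent.SurfRR.exists_curve_pos k hdim2 hF₂ hH (by omega)
  haveI := hC
  have hn := Groth.Agent.SurfRR.nef_pullback_ample k σ hamp C.subscheme C.subschemeι
    ((Groth.Agent.SurfRR.dim_subscheme hC1).trans Nat.cast_one)
  rw [Groth.Agent.SurfRR.pair_idealMod k hdim2 hCc hH] at hpos
  change 0 ≤ _ at hn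
  exact absurd hn (not_le.2 (neg_pos.1 hpos))

end Groth.Agent.S16562
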