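import Groth.Statements.S16563
import Groth.Agent.PlaneBlowUp.Line
import Groth.Agent.SurfRR.Connected
import Groth.Agent.SurfRR.Rational
import Groth.Agent.SurfRR.Config
import Groth.Agent.SurfRR.Decomp
import Groth.Agent.ModPairLib.Quot
import Groth.Agent.PlaneBlowUp.Fixed
import Groth.Agent.BlowUpLib.Glue
-- import your own Groth.Agent.* helpers here

set_option autoImplicit false
set_option backward.isDefEq.respectTransparency false
set_option backward.isDefEq.respectTransparency.types false
set_option linter.style.haveILetI false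
set_option maxHeartbeats 1000000
universe u
open CategoryTheory CategoryTheory.Limits AlgebraicGeometry TopologicalSpace
open Surf

namespace Groth.Agent.S16563
open Groth.Agent

/-- Let k be an algebraically closed field, p_1, …, p_r distinct closed points of the projective plane
P²_k and σ : X → P²_k the blow-up of P²_k in the ideal of the reduced finite set {p_1, …, p_r}
(universal property), X being regarded over k through σ; X is then an integral smooth proper surface
(carried as hypotheses). Write H = σ^*O(1), (L·M) = χ(O_X) − χ(L) − χ(M) + χ(L ⊗ M) for the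
intersection number of invertible modules L, M, and for a closed subscheme C ⊆ X with ideal I_C
write (L·C) = χ(O_C ⊗ L) − χ(O_C) and C² = (I_C·I_C). A (−1)-curve is an integral closed
one-dimensional subscheme E ⊆ X with H¹(E, O_E) = 0 and E² = −1. Let L be an invertible O_X-module
and E a (−1)-curve with ideal I_E such that (L·E) = −s with s > 1. Then dim_k H⁰(X, L ⊗ I_E^s) =
dim_k H⁰(X, L); equivalently the injection H⁰(X, L ⊗ I_E^s) → H⁰(X, L) induced by I_E^s ⊆ O_X is
bijective. (The source takes the points in general position; that assumption plays no role here.) -/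
theorem result (k : Type u) [Field k] [IsAlgClosed k]
    (r : ℕ) (P : Fin r → ↥(CohB1.ProjSpace 2 k)) (hP : Function.Injective P)
    (hPc : ∀ i, IsClosed ({P i} : Set ↥(CohB1.ProjSpace 2 k))) (hZ : IsClosed (Set.range P))
    (X : Scheme.{u}) [X.Over (Spec (CommRingCat.of k))] (σ : X ⟶ CohB1.ProjSpace 2 k)
    (hσk : σ ≫ CohB1.ProjSpace.toSpec 2 k = X ↘ (Spec (CommRingCat.of k)))
    (hσ : BlowUp.IsBlowUp σ (Scheme.IdealSheafData.vanishingIdeal ⟨Set.range P, hZ⟩))
    [IsIntegral X] [IsProper (X ↘ (Spec (CommRingCat.of k)))] [Smooth (X ↘ (Spec (CommRingCat.of k)))] (hdim : topologicalKrullDim X = 2)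
    (L : X.Modules) (hL : PicF.IsInvertible L)
    (E : X.IdealSheafData) (hEi : IsIntegral E.subscheme) (hE1 : topologicalKrullDim (E.support : Set X) = 1)
    (hEg : Subsingleton (Coh.HH E.subscheme (Coh.structureModule E.subscheme) 1))
    (hEE : FGA.intNum k X 2 ![ClSub.idealMod E, ClSub.idealMod E] (Coh.structureModule X) = -1)
    (s : ℕ) (hs : 1 < s) (hLE : (Curv2.euler k X (CohB1.tensorMod (ClSub.quotMod E) L) - Curv2.euler k X (ClSub.quotMod E)) = -(s : ℤ)) :
    Module.finrank k (Coh.HH X (CohB1.tensorMod L (ClSub.idealMod (E ^ s))) 0) = Module.finrank k (Coh.HH X L 0) := by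
  open scoped Groth.Agent.H23.PicMul in
    haveI := Groth.Agent.CurveCohLib.isNoetherian_of_proper (k := k) (X := X)
    have hdim2 : topologicalKrullDim X = ((2 : ℕ) : WithBot ℕ∞) := by rw [hdim]; rfl
    have hreg := Groth.Agent.SurfRR.regular_of_smooth (X := X) k
    have hEc := Groth.Agent.SurfRR.isEffCartier_curve k hdim2 hEi hE1 hreg
    have hIE := (Groth.Agent.S8914.result E).2 hEc
    rw [Groth.Agent.SurfRR.eulerDiff_eq_neg_pair k hdim2 hreg hEi hE1 hL, Groth.Agent.SurfRR.pair_comm k hIE hL] at hLE
    rw [Groth.Agent.SurfRR.intNum_two k hdim2.le hIE hIE] at hEE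
    suffices h : ∀ j ≤ s, ∀ B : X.Modules, PicF.IsInvertible B →
        PicF.cl B = PicF.cl L * PicF.cl (ClSub.idealMod E) ^ j →
        Module.finrank k (Coh.HH X B 0) = Module.finrank k (Coh.HH X L 0) by
      have hpow : ∀ j, BlowUp.IsEffCartierIdeal (E ^ j) ∧
          PicF.cl (ClSub.idealMod (E ^ j)) = PicF.cl (ClSub.idealMod E) ^ j := by
        intro j
        induction j with
        | zero =>
          rw [pow_zero, pow_zero]
          refine ⟨Groth.Agent.BlowUpLib.isEffCartier_top X, ?_⟩
          have hI := (Groth.Agent.S8914.result (1 : X.IdealSheafData)).2 (Groth.Agent.BlowUpLib.isEffCartier_top X)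
          have h1 := Groth.Agent.H23.PicMul.cl_eq_iff.2
            (Groth.Agent.DepthTwist.nonempty_idealMod_mul_iso 1 1 hI)
          rw [Groth.Agent.H23.PicMul.cl_tensor, one_mul] at h1
          obtain ⟨I', hI', ⟨u⟩⟩ := Groth.Agent.H23.PicInv.exists_inverse hI
          have h2 := Groth.Agent.H23.PicMul.cl_eq_iff.2 ⟨u⟩
          rw [Groth.Agent.H23.PicMul.cl_tensor] at h2
          calc PicF.cl (ClSub.idealMod (1 : X.IdealSheafData))
              = PicF.cl (ClSub.idealMod (1 : X.IdealSheafData)) * (PicF.cl (ClSub.idealMod (1 : X.IdealSheafData)) * PicF.cl I') := by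
                rw [h2, ← Groth.Agent.H23.PicMul.one_def, mul_one]
            _ = 1 := by rw [← mul_assoc, h1, h2]; rfl
        | succ j ih =>
          rw [pow_succ, pow_succ, ← ih.2, ← Groth.Agent.H23.PicMul.cl_tensor]
          exact ⟨ModPairLib.isEffCartier_mul ih.1 hEc,
            (Groth.Agent.H23.PicMul.cl_eq_iff.2
              (Groth.Agent.DepthTwist.nonempty_idealMod_mul_iso _ E ((Groth.Agent.S8914.result _).2 ih.1))).symm⟩
      refine h s le_rfl _ (Groth.Agent.InvX.isInvertible_tensorMod hL ((Groth.Agent.S8914.result _).2 (hpow s).1)) ?_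
      rw [Groth.Agent.H23.PicMul.cl_tensor, (hpow s).2]
    intro j
    induction j with
    | zero =>
      intro _ B hB hBc
      rw [pow_zero, mul_one] at hBc
      exact (Groth.Agent.S2926.hhIso k (Groth.Agent.H23.PicMul.cl_eq_iff.1 hBc).some 0).finrank_eq
    | succ j ih =>
      intro hj B hB hBc
      obtain ⟨P, hP, hPc'⟩ := Groth.Agent.PlaneBlowUp.exists_rep hL hIE j
      rw [← ih (by omega) P hP hPc']
      obtain ⟨h, hses⟩ := Groth.Agent.VolLib.ses_tw hP (Groth.Agent.IntSym.shortExact_toSubscheme E)
      have hpair : Groth.Agent.SurfRR.pair k P (ClSub.idealMod E) = (s : ℤ) - (j : ℤ) :=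
        Groth.Agent.PlaneBlowUp.pair_rep k hdim2 hL hIE hP hPc' (by omega) hEE
      have hdeg : Groth.Agent.IntSym.sym k [P] (ClSub.quotMod E) < 0 := by
        have hp := Groth.Agent.SurfRR.pair_idealMod k hdim2 hEc hP
        rw [Groth.Agent.SurfRR.pair_comm k hIE hP, hpair] at hp
        omega
      rcases Groth.Agent.SurfRR.h0_curve k hEi hE1 hP hdeg.le with h0 | ⟨h0, -⟩
      swap
      · omega
      haveI : Subsingleton (Coh.HH X (CohB1.tensorMod (ClSub.quotMod E) P) 0) :=
        haveI : Module.Finite k (Coh.HH X (CohB1.tensorMod (ClSub.quotMod E) P) 0) :=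
          Groth.Agent.CurveCohLib.finite_HH (k := k)
            (Groth.Agent.VolLib.isCoh_tw hP (Groth.Agent.ParShLib.isCoh_quotMod E)) 0
        (Module.finrank_zero_iff (R := k)).1 h0
      have hbij := Groth.Agent.PlaneBlowUp.finrank_eq_of_shortExact (k := k) hses
        (show Subsingleton (Coh.HH X (CohB1.tensorMod (ClSub.quotMod E) P) 0) from inferInstance)
      obtain ⟨e1⟩ : Nonempty (B ≅ CohB1.tensorMod (ClSub.idealMod E) P) := Groth.Agent.H23.PicMul.cl_eq_iff.1 (by
        rw [Groth.Agent.H23.PicMul.cl_tensor, hBc, hPc', pow_succ]; ac_rfl)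
      obtain ⟨e2⟩ : Nonempty (CohB1.tensorMod (Coh.structureModule X) P ≅ P) := Groth.Agent.H23.PicMul.cl_eq_iff.1 (by
        rw [Groth.Agent.H23.PicMul.cl_tensor, ← Groth.Agent.H23.PicMul.one_def, one_mul])
      rw [(Groth.Agent.S2926.hhIso k e1 0).finrank_eq]
      exact hbij.trans (Groth.Agent.S2926.hhIso k e2 0).finrank_eq

end Groth.Agent.S16563
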