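import Groth.Statements.S16564
import Groth.Agent.PlaneBlowUp.Euler
import Groth.Agent.PlaneBlowUp.Fixed
import Groth.Agent.SurfRR.Config
import Groth.Agent.SurfRR.Rational
-- import your own Groth.Agent.* helpers here

set_option autoImplicit false
set_option backward.isDefEq.respectTransparency false
set_option backward.isDefEq.respectTransparency.types false
set_option linter.style.haveILetI false
set_option maxHeartbeats 1000000
universe u
open CategoryTheory CategoryTheory.Limits AlgebraicGeometry TopologicalSpace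
open Surf

namespace Groth.Agent.S16564
open Groth.Agent

/-- Let k be an algebraically closed field, p_1, …, p_r distinct closed points of the projective plane
P²_k and σ : X → P²_k the blow-up of P²_k in the ideal of the reduced finite set {p_1, …, p_r}
(universal property), X being regarded over k through σ; X is then an integral smooth proper surface
(carried as hypotheses). Write H = σ^*O(1), (L·M) = χ(O_X) − χ(L) − χ(M) + χ(L ⊗ M) for the
intersection number of invertible modules L, M, and for a closed subscheme C ⊆ X with ideal I_C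
write (L·C) = χ(O_C ⊗ L) − χ(O_C) and C² = (I_C·I_C). A (−1)-curve is an integral closed
one-dimensional subscheme E ⊆ X with H¹(E, O_E) = 0 and E² = −1. Call an invertible module M
non-special when at most one of H⁰(X, M), H¹(X, M), H²(X, M) is nonzero. Suppose every invertible M
with (M·E) ≥ −1 for every (−1)-curve E is non-special (the non-speciality hypothesis for X). Then no
integral closed one-dimensional subscheme C ⊆ X has C² ≤ −2. (The source concludes that the curves
of negative self-intersection are exactly the (−1)-curves; its argument treats C² ≤ −2, which is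
what is stated here.) (The source takes the points in general position; that assumption plays no
role here.) -/
theorem result (k : Type u) [Field k] [IsAlgClosed k]
    (r : ℕ) (P : Fin r → ↥(CohB1.ProjSpace 2 k)) (hP : Function.Injective P)
    (hPc : ∀ i, IsClosed ({P i} : Set ↥(CohB1.ProjSpace 2 k))) (hZ : IsClosed (Set.range P))
    (X : Scheme.{u}) [X.Over (Spec (CommRingCat.of k))] (σ : X ⟶ CohB1.ProjSpace 2 k)
    (hσk : σ ≫ CohB1.ProjSpace.toSpec 2 k = X ↘ (Spec (CommRingCat.of k)))
    (hσ : BlowUp.IsBlowUp σ (Scheme.IdealSheafData.vanishingIdeal ⟨Set.range P, hZ⟩))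
    [IsIntegral X] [IsProper (X ↘ (Spec (CommRingCat.of k)))] [Smooth (X ↘ (Spec (CommRingCat.of k)))] (hdim : topologicalKrullDim X = 2)
    (hconj : ∀ (M : X.Modules), PicF.IsInvertible M →
      (∀ (E : X.IdealSheafData), IsIntegral E.subscheme → topologicalKrullDim (E.support : Set X) = 1 →
        Subsingleton (Coh.HH E.subscheme (Coh.structureModule E.subscheme) 1) →
        FGA.intNum k X 2 ![ClSub.idealMod E, ClSub.idealMod E] (Coh.structureModule X) = -1 →
        -1 ≤ (Curv2.euler k X (CohB1.tensorMod (ClSub.quotMod E) M) - Curv2.euler k X (ClSub.quotMod E))) →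
      ((Subsingleton (Coh.HH X M 0) ∧ Subsingleton (Coh.HH X M 1)) ∨ (Subsingleton (Coh.HH X M 0) ∧ Subsingleton (Coh.HH X M 2)) ∨
        (Subsingleton (Coh.HH X M 1) ∧ Subsingleton (Coh.HH X M 2))))
    (C : X.IdealSheafData) (hCi : IsIntegral C.subscheme) (hC1 : topologicalKrullDim (C.support : Set X) = 1) :
    -1 ≤ FGA.intNum k X 2 ![ClSub.idealMod C, ClSub.idealMod C] (Coh.structureModule X) := by
  open scoped Groth.Agent.H23.PicMul in
    haveI := Groth.Agent.CurveCohLib.isNoetherian_of_proper (k := k) (X := X)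
    have hdim2 : topologicalKrullDim X = ((2 : ℕ) : WithBot ℕ∞) := by rw [hdim]; rfl
    have hreg := Groth.Agent.SurfRR.regular_of_smooth (X := X) k
    have hproj := Groth.Agent.SurfRR.exists_proj_smooth (X := X) k hdim2
    have hCc := Groth.Agent.SurfRR.isEffCartier_curve k hdim2 hCi hC1 hreg
    have hI := (Groth.Agent.S8914.result C).2 hCc
    rw [Groth.Agent.SurfRR.intNum_two k hdim2.le hI hI]
    by_contra hneg
    obtain ⟨W, hW⟩ := Groth.Agent.SurfRR.exists_canonical (X := X) k hdim2
    have hWi := Groth.Agent.SurfRR.isInvertible_canonical k hdim2 hproj hW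
    have hχ := Groth.Agent.PlaneBlowUp.euler_structure (k := k) σ hσk (Set.finite_range P)
      (by rintro _ ⟨i, rfl⟩; exact hPc i) hZ hσ
    obtain ⟨J, hJ, ⟨u⟩⟩ := Groth.Agent.H23.PicInv.exists_inverse hI
    have hJM : ∀ {M : X.Modules}, PicF.IsInvertible M → Groth.Agent.SurfRR.pair k J M =
        - Groth.Agent.SurfRR.pair k (ClSub.idealMod C) M := fun hM =>
      Groth.Agent.SurfRR.pair_inverse k hdim2.le hI hJ u hM
    have hIJ := hJM hI
    have hJJ := hJM hJ
    rw [Groth.Agent.SurfRR.pair_comm k hI hJ, hIJ] at hJJ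
    have hsym : ∀ {M : X.Modules}, PicF.IsInvertible M →
        Groth.Agent.IntSym.sym k [M] (ClSub.quotMod C) = - Groth.Agent.SurfRR.pair k (ClSub.idealMod C) M := fun hM => by
      rw [Groth.Agent.SurfRR.pair_idealMod k hdim2 hCc hM, neg_neg]
    have hJ2 := Groth.Agent.InvX.isInvertible_tensorMod hJ hJ
    have hu : PicF.cl (ClSub.idealMod C) * PicF.cl J = 1 := by
      rw [← Groth.Agent.H23.PicMul.cl_tensor]; exact Groth.Agent.H23.PicMul.cl_eq_iff.2 ⟨u⟩
    have h01 : Module.finrank k (Coh.HH X J 0) = 1 := by
      rw [← Groth.Agent.PlaneBlowUp.h0_step k hCi hC1 hJ (B' := Coh.structureModule X)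
        (by rw [hsym hJ, Groth.Agent.SurfRR.pair_comm k hI hJ, hIJ]; omega)
        (by rw [hu]; rfl)]
      exact Groth.Agent.SurfRR.finrank_h0_structure k X
    have h02 : Module.finrank k (Coh.HH X (CohB1.tensorMod J J) 0) = 1 := by
      rw [← Groth.Agent.PlaneBlowUp.h0_step k hCi hC1 hJ2 (B' := J)
        (by rw [hsym hJ2, Groth.Agent.SurfRR.pair_comm k hI hJ2,
          Groth.Agent.SurfRR.pair_tensor k hdim2.le hJ hJ hI, hIJ]; omega)
        (by rw [Groth.Agent.H23.PicMul.cl_tensor, ← mul_assoc, hu, one_mul])]
      exact h01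
    have key : ∀ {M : X.Modules}, PicF.IsInvertible M → Module.finrank k (Coh.HH X M 0) = 1 →
        (∀ E : X.IdealSheafData, IsIntegral E.subscheme → topologicalKrullDim (E.support : Set X) = 1 → E ≠ C →
          0 ≤ - Groth.Agent.SurfRR.pair k (ClSub.idealMod E) M) →
        Groth.Agent.SurfRR.pair k M M - Groth.Agent.SurfRR.pair k M W = 0 := by
      intro M hM h0 hE
      haveI : Nontrivial (Coh.HH X M 0) := Module.nontrivial_of_finrank_pos (R := k) (by omega)
      rcases hconj M hM (fun E hEi hE1 hEg hEE => by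
        rw [Groth.Agent.SurfRR.eulerDiff_eq_neg_pair k hdim2 hreg hEi hE1 hM]
        by_cases hne : E = C
        · subst hne
          rw [Groth.Agent.SurfRR.intNum_two k hdim2.le hI hI] at hEE
          omega
        · exact le_trans (by norm_num) (hE E hEi hE1 hne)) with ⟨h, -⟩ | ⟨h, -⟩ | ⟨h1, h2⟩
      · exact absurd h (not_subsingleton _)
      · exact absurd h (not_subsingleton _)
      have hrr := Groth.Agent.SurfRR.riemann_roch k hdim2 hproj hW hM
      rw [Groth.Agent.SurfRR.euler_three k hdim2 (Groth.Agent.AmpleVan.isCoh_invertible hM).1, h0,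
        Module.finrank_zero_of_subsingleton (R := k) (M := Coh.HH X M 1),
        Module.finrank_zero_of_subsingleton (R := k) (M := Coh.HH X M 2), hχ] at hrr
      omega
    have hEJ : ∀ E : X.IdealSheafData, IsIntegral E.subscheme → topologicalKrullDim (E.support : Set X) = 1 → E ≠ C →
        0 ≤ - Groth.Agent.SurfRR.pair k (ClSub.idealMod E) J := fun E hEi hE1 hne => by
      have hIE := (Groth.Agent.S8914.result E).2 (Groth.Agent.SurfRR.isEffCartier_curve k hdim2 hEi hE1 hreg)
      rw [Groth.Agent.SurfRR.pair_comm k hIE hJ, hJM hIE, neg_neg]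
      exact Groth.Agent.SurfRR.pair_nonneg_curves k hdim2 hEi hE1 hCi hC1 hreg hne
    have k1 := key hJ h01 hEJ
    have k2 := key hJ2 h02 (fun E hEi hE1 hne => by
      have hIE := (Groth.Agent.S8914.result E).2 (Groth.Agent.SurfRR.isEffCartier_curve k hdim2 hEi hE1 hreg)
      have := hEJ E hEi hE1 hne
      rw [Groth.Agent.SurfRR.pair_comm k hIE hJ2, Groth.Agent.SurfRR.pair_tensor k hdim2.le hJ hJ hIE,
        Groth.Agent.SurfRR.pair_comm k hJ hIE]
      omega)
    rw [Groth.Agent.SurfRR.pair_tensor k hdim2.le hJ hJ hJ2, Groth.Agent.SurfRR.pair_comm k hJ hJ2,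
      Groth.Agent.SurfRR.pair_tensor k hdim2.le hJ hJ hJ, Groth.Agent.SurfRR.pair_tensor k hdim2.le hJ hJ hWi] at k2
    omega

end Groth.Agent.S16564
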