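import Groth.Statements.S16572
import Mathlib

set_option autoImplicit false
universe u
open CAlg

namespace Groth.Agent.S16572

theorem closed_of_roots (A T : Type u) [CommRing A] [CommRing T] [Algebra A T] [Algebra.IsIntegral A T]
    (hroots : ∀ q : Polynomial A, q.Monic → 0 < q.natDegree → ∃ y : T, Polynomial.aeval y q = 0)
    (Q : Ideal T) [Q.IsPrime] :
    IsAlgClosed Q.ResidueField ∧
      (Ideal.ResidueField.map (Q.comap (algebraMap A T)) Q (algebraMap A T) rfl).IsIntegral := by
  classical
  let f := Ideal.ResidueField.map (Q.comap (algebraMap A T)) Q (algebraMap A T) rfl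
  let p := Q.comap (algebraMap A T)
  letI : Algebra p.ResidueField Q.ResidueField := f.toAlgebra
  haveI : IsScalarTower A p.ResidueField Q.ResidueField := IsScalarTower.of_algebraMap_eq fun a => by
    show _ = f (algebraMap A p.ResidueField a)
    rw [Ideal.ResidueField.map_algebraMap, ← IsScalarTower.algebraMap_apply]
  have hT : ∀ t : T, IsIntegral p.ResidueField (algebraMap T Q.ResidueField t) := fun t =>
    ((Algebra.IsIntegral.isIntegral (R := A) t).map (IsScalarTower.toAlgHom A T Q.ResidueField)).tower_top
  haveI hint : Algebra.IsIntegral p.ResidueField Q.ResidueField := ⟨fun x => by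
    obtain ⟨a, b, -, rfl⟩ := IsFractionRing.div_surjective (T ⧸ Q) x
    obtain ⟨a, rfl⟩ := Ideal.Quotient.mk_surjective a
    obtain ⟨b, rfl⟩ := Ideal.Quotient.mk_surjective b
    rw [div_eq_mul_inv]
    exact (hT a).mul (hT b).inv⟩
  refine ⟨?_, hint.isIntegral⟩
  suffices h : IsAlgClosure p.ResidueField Q.ResidueField from h.isAlgClosed
  haveI : Algebra.IsAlgebraic p.ResidueField Q.ResidueField := Algebra.IsIntegral.isAlgebraic
  refine IsAlgClosure.of_exists_root fun g hg hirr => ?_
  -- common denominator
  obtain ⟨⟨s, hs⟩, hsm⟩ := IsLocalization.exist_integer_multiples (nonZeroDivisors (A ⧸ p))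
    (Finset.range (g.natDegree + 1)) (fun i => g.coeff i)
  obtain ⟨s, rfl⟩ := Ideal.Quotient.mk_surjective s
  have hs0 : algebraMap A p.ResidueField s ≠ 0 := by
    show algebraMap (A ⧸ p) p.ResidueField (Ideal.Quotient.mk p s) ≠ 0
    exact fun h => nonZeroDivisors.ne_zero hs (p.injective_algebraMap_quotient_residueField (h.trans (map_zero _).symm))
  have hlift : g.scaleRoots (algebraMap A p.ResidueField s) ∈ Polynomial.lifts (algebraMap A p.ResidueField) := by
    rw [Polynomial.lifts_iff_coeff_lifts]
    intro i
    rcases lt_trichotomy i g.natDegree with hi | rfl | hi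
    · obtain ⟨c, hc⟩ := hsm i (Finset.mem_range.2 (by omega))
      obtain ⟨c, rfl⟩ := Ideal.Quotient.mk_surjective c
      refine ⟨c * s ^ (g.natDegree - i - 1), ?_⟩
      rw [Polynomial.coeff_scaleRoots, map_mul, map_pow]
      have hc' : algebraMap A p.ResidueField c = algebraMap A p.ResidueField s * g.coeff i := by
        rw [← Ideal.algebraMap_quotient_residueField_mk, hc, Algebra.smul_def,
          Ideal.algebraMap_quotient_residueField_mk]
      rw [hc', mul_comm _ (g.coeff i), mul_assoc, ← pow_succ', Nat.sub_add_cancel (by omega)]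
    · exact ⟨1, by simp [Polynomial.coeff_scaleRoots, hg.coeff_natDegree]⟩
    · exact ⟨0, by simp [Polynomial.coeff_scaleRoots, Polynomial.coeff_eq_zero_of_natDegree_lt hi]⟩
  obtain ⟨q, hq, hqd, hqm⟩ := Polynomial.lifts_and_natDegree_eq_and_monic hlift
    ((Polynomial.monic_scaleRoots_iff _).2 hg)
  rw [Polynomial.natDegree_scaleRoots] at hqd
  obtain ⟨y, hy⟩ := hroots q hqm (hqd ▸ hirr.natDegree_pos)
  let σ : Q.ResidueField := algebraMap A Q.ResidueField s
  have hσ : σ ≠ 0 := by
    show algebraMap A Q.ResidueField s ≠ 0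
    rw [IsScalarTower.algebraMap_apply A p.ResidueField Q.ResidueField]
    exact fun h => hs0 ((algebraMap p.ResidueField Q.ResidueField).injective (h.trans (map_zero _).symm))
  refine ⟨algebraMap T Q.ResidueField y / σ, ?_⟩
  have h1 : Polynomial.aeval (algebraMap T Q.ResidueField y) q = 0 := by
    rw [Polynomial.aeval_algebraMap_apply, hy, map_zero]
  rw [← Polynomial.aeval_map_algebraMap (A := p.ResidueField), hq] at h1
  have h2 := Polynomial.scaleRoots_eval₂_mul (p := g) (algebraMap p.ResidueField Q.ResidueField)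
    (algebraMap T Q.ResidueField y / σ) (algebraMap A p.ResidueField s)
  rw [← IsScalarTower.algebraMap_apply, mul_div_cancel₀ _ hσ, ← Polynomial.aeval_def, h1, ← Polynomial.aeval_def] at h2
  exact (mul_eq_zero.1 h2.symm).resolve_left (pow_ne_zero _ hσ)

/-- Let A be a commutative ring and T the quotient of the polynomial ring over A in indeterminates X_P,
one for each monic polynomial P over A of positive degree, by the ideal generated by the elements
P(X_P). Then the map on prime spectra Spec T → Spec A is surjective, and for every prime ideal Q of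
T, with p its contraction to A, the residue field of Q is algebraically closed and integral over the
residue field of p under the induced map of residue fields (so it is an algebraic closure of it). -/
theorem result (A : Type u) [CommRing A] :
    Function.Surjective (PrimeSpectrum.comap (algebraMap A (MvPolynomial {P : Polynomial A // P.Monic ∧ 0 < P.natDegree} A ⧸
      Ideal.span (Set.range fun P : {P : Polynomial A // P.Monic ∧ 0 < P.natDegree} =>
        Polynomial.aeval (MvPolynomial.X (R := A) P) P.1)))) ∧
    ∀ (Q : Ideal (MvPolynomial {P : Polynomial A // P.Monic ∧ 0 < P.natDegree} A ⧸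
      Ideal.span (Set.range fun P : {P : Polynomial A // P.Monic ∧ 0 < P.natDegree} =>
        Polynomial.aeval (MvPolynomial.X (R := A) P) P.1))) [Q.IsPrime],
      IsAlgClosed Q.ResidueField ∧
      (Ideal.ResidueField.map (Q.comap (algebraMap A (MvPolynomial {P : Polynomial A // P.Monic ∧ 0 < P.natDegree} A ⧸
      Ideal.span (Set.range fun P : {P : Polynomial A // P.Monic ∧ 0 < P.natDegree} =>
        Polynomial.aeval (MvPolynomial.X (R := A) P) P.1)))) Q (algebraMap A (MvPolynomial {P : Polynomial A // P.Monic ∧ 0 < P.natDegree} A ⧸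
      Ideal.span (Set.range fun P : {P : Polynomial A // P.Monic ∧ 0 < P.natDegree} =>
        Polynomial.aeval (MvPolynomial.X (R := A) P) P.1))) rfl).IsIntegral := by
  classical
  set σ := {P : Polynomial A // P.Monic ∧ 0 < P.natDegree}
  set I : Ideal (MvPolynomial σ A) := Ideal.span (Set.range fun P : σ => Polynomial.aeval (MvPolynomial.X (R := A) P) P.1)
  have hroot : ∀ P : σ, Polynomial.aeval (Ideal.Quotient.mkₐ A I (MvPolynomial.X P)) P.1 = 0 := fun P => by
    rw [Polynomial.aeval_algHom_apply]
    exact Ideal.Quotient.eq_zero_iff_mem.2 (Ideal.subset_span ⟨P, rfl⟩)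
  have hint : Algebra.IsIntegral A (MvPolynomial σ A ⧸ I) := ⟨fun t => by
    obtain ⟨t, rfl⟩ := Ideal.Quotient.mk_surjective t
    induction t using MvPolynomial.induction_on with
    | C a => exact isIntegral_algebraMap (x := a)
    | add p q hp hq => rw [map_add]; exact hp.add hq
    | mul_X p i hp => rw [map_mul]; exact hp.mul ⟨i.1, i.2.1, hroot i⟩⟩
  refine ⟨fun p => ?_, fun Q _ => closed_of_roots A _ (fun q hq hd => ⟨_, hroot ⟨q, hq, hd⟩⟩) Q⟩
  let K := AlgebraicClosure p.asIdeal.ResidueField
  haveI : Nontrivial A := ⟨⟨0, 1, fun h => p.isPrime.ne_top ((Ideal.eq_top_iff_one _).2 (h ▸ p.asIdeal.zero_mem))⟩⟩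
  have hr : ∀ P : σ, ∃ x : K, Polynomial.aeval x P.1 = 0 := fun P => by
    obtain ⟨x, hx⟩ := IsAlgClosed.exists_aeval_eq_zero_of_injective K
      (algebraMap p.asIdeal.ResidueField K).injective (P.1.map (algebraMap A p.asIdeal.ResidueField))
      (by rw [(P.2.1).degree_map, Polynomial.degree_eq_natDegree P.2.1.ne_zero]
          exact fun h => P.2.2.ne' (Nat.cast_eq_zero.1 h))
    exact ⟨x, by rwa [Polynomial.aeval_map_algebraMap] at hx⟩
  choose r hr using hr
  let φ : MvPolynomial σ A ⧸ I →ₐ[A] K := Ideal.Quotient.liftₐ I (MvPolynomial.aeval r) (fun a ha => by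
    have : I ≤ RingHom.ker (MvPolynomial.aeval (R := A) r) := by
      rw [Ideal.span_le]
      rintro _ ⟨P, rfl⟩
      show MvPolynomial.aeval r (Polynomial.aeval (MvPolynomial.X P) P.1) = 0
      rw [← Polynomial.aeval_algHom_apply, MvPolynomial.aeval_X, hr]
    exact this ha)
  refine ⟨⟨RingHom.ker φ, RingHom.ker_isPrime _⟩, PrimeSpectrum.ext ?_⟩
  show (RingHom.ker φ.toRingHom).comap (algebraMap A _) = p.asIdeal
  rw [RingHom.comap_ker, AlgHom.toRingHom_eq_coe, φ.comp_algebraMap, IsScalarTower.algebraMap_eq A p.asIdeal.ResidueField K,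
    ← RingHom.comap_ker, (RingHom.injective_iff_ker_eq_bot _).1 (algebraMap p.asIdeal.ResidueField K).injective,
    ← RingHom.ker_eq_comap_bot, Ideal.ker_algebraMap_residueField]

end Groth.Agent.S16572
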