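import Groth.Statements.S16573
import Groth.Agent.AlgClCover.Basic

set_option autoImplicit false
universe u
open CategoryTheory AlgebraicGeometry
open EtCore

set_option backward.isDefEq.respectTransparency false
set_option backward.isDefEq.respectTransparency.types false

namespace Groth.Agent.S16573

/-- For a quasi-compact quasi-separated scheme X there are an affine scheme X' and a quasi-compact
surjective morphism f : X' → X such that for every point x' of X' the residue field of x' is
algebraically closed and integral over the residue field of f(x') under the induced map of residue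
fields, that is, an algebraic closure of it. -/
theorem result
    (X : Scheme.{u}) [CompactSpace X] [QuasiSeparatedSpace X] :
    ∃ (X' : Scheme.{u}) (f : X' ⟶ X), IsAffine X' ∧ QuasiCompact f ∧ Surjective f ∧
      ∀ x' : X', IsAlgClosed (X'.residueField x') ∧ (f.residueFieldMap x').hom.IsIntegral := by
  classical
  let 𝒰 := X.affineCover.finiteSubcover
  let Z : Scheme.{u} := ∐ 𝒰.X
  let g : Z ⟶ X := Limits.Sigma.desc 𝒰.f
  haveI : ∀ i, IsAffine (𝒰.X i) := fun i => X.isAffine_affineCover _
  haveI : IsAffine Z := inferInstance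
  let A : CommRingCat.{u} := Γ(Z, ⊤)
  let φ := Spec.map (CommRingCat.ofHom (algebraMap A (AlgClCover.Ring1 A)))
  have hg : ∀ z, IsIso (g.residueFieldMap z) := by
    intro z
    obtain ⟨i, y, rfl⟩ := (sigmaOpenCover 𝒰.X).exists_eq z
    show IsIso (g.residueFieldMap ((Limits.Sigma.ι 𝒰.X i) y))
    haveI : IsOpenImmersion (Limits.Sigma.ι 𝒰.X i ≫ g) := by
      erw [Limits.Sigma.ι_desc]; exact 𝒰.map_prop i
    have h := Scheme.residueFieldMap_comp (Limits.Sigma.ι 𝒰.X i) g y
    haveI : IsIso (g.residueFieldMap ((Limits.Sigma.ι 𝒰.X i) y) ≫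
        (Limits.Sigma.ι 𝒰.X i).residueFieldMap y) := by rw [← h]; infer_instance
    exact IsIso.of_isIso_comp_right _ ((Limits.Sigma.ι 𝒰.X i).residueFieldMap y)
  have hgs : Function.Surjective g := by
    intro x
    obtain ⟨i, y, hy⟩ := 𝒰.exists_eq x
    refine ⟨Limits.Sigma.ι 𝒰.X i y, ?_⟩
    rw [← Scheme.Hom.comp_apply]; erw [Limits.Sigma.ι_desc]
    exact hy
  let f := φ ≫ Z.isoSpec.inv ≫ g
  refine ⟨_, f, inferInstance, inferInstance, ⟨?_⟩, fun q => ?_⟩
  · have hφ : Function.Surjective φ := fun p => AlgClCover.spec_surjective A p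
    intro x
    obtain ⟨z, rfl⟩ := hgs x
    obtain ⟨p, hp⟩ := Z.isoSpec.inv.homeomorph.surjective z
    obtain ⟨q, rfl⟩ := hφ p
    exact ⟨q, congrArg g hp⟩
  · obtain ⟨h1, h2⟩ := AlgClCover.cover_residueField A q
    refine ⟨h1, ?_⟩
    rw [Scheme.residueFieldMap_comp, Scheme.residueFieldMap_comp, CommRingCat.hom_comp,
      CommRingCat.hom_comp]
    haveI := hg (Z.isoSpec.inv (φ q))
    refine RingHom.IsIntegral.trans _ _ ?_ h2
    refine RingHom.IsIntegral.trans _ _ ?_ ?_
    · exact RingHom.isIntegral_of_surjective _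
        (ConcreteCategory.bijective_of_isIso (g.residueFieldMap (Z.isoSpec.inv (φ q)))).2
    · exact RingHom.isIntegral_of_surjective _
        (ConcreteCategory.bijective_of_isIso (Z.isoSpec.inv.residueFieldMap (φ q))).2

end Groth.Agent.S16573
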