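import Groth.Statements.S16574
import Groth.Agent.S1376

set_option autoImplicit false
universe u
open CategoryTheory AlgebraicGeometry
open AffSch

namespace Groth.Agent.S16574

/-- Let A be a commutative ring, U a quasi-compact open subscheme of Spec A and U' → U a finite
morphism. Then there exist a finite A-algebra B and a morphism U' → Spec B such that the square
formed by U' → U, U' → Spec B, Spec B → Spec A and the inclusion of U is cartesian; in particular U'
→ Spec B is the open immersion of the preimage of U. (If U contains the complement of the closed set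
of an ideal I then this preimage contains the complement of the closed set of IB; that clause is
automatic and omitted.) -/
theorem result
    (A : Type u) [CommRing A] (U : (Spec (CommRingCat.of A)).Opens) (hU : IsCompact (U : Set (Spec (CommRingCat.of A))))
    (U' : Scheme.{u}) (g : U' ⟶ (U : Scheme.{u})) [IsFinite g] :
    ∃ (B : Type u) (_ : CommRing B) (_ : Algebra A B) (i : U' ⟶ Spec (CommRingCat.of B)),
      Module.Finite A B ∧ IsPullback i g (Spec.map (CommRingCat.ofHom (algebraMap A B))) U.ι := by
  obtain ⟨T, π, i, hπ, hpb⟩ := Groth.Agent.S1376.exists_extension U hU g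
  haveI := hπ
  haveI : IsAffine T := isAffine_of_isAffineHom π
  let φ : CommRingCat.of A ⟶ Γ(T, ⊤) := Spec.preimage (T.isoSpec.inv ≫ π)
  letI : Algebra A Γ(T, ⊤) := φ.hom.toAlgebra
  have hφ : T.isoSpec.hom ≫ Spec.map (CommRingCat.ofHom (algebraMap A Γ(T, ⊤))) = π :=
    (congrArg (T.isoSpec.hom ≫ ·) (Spec.map_preimage (T.isoSpec.inv ≫ π))).trans (T.isoSpec.hom_inv_id_assoc π)
  haveI : IsFinite (Spec.map (CommRingCat.ofHom (algebraMap A Γ(T, ⊤)))) := by
    rw [← (Iso.inv_comp_eq T.isoSpec).2 hφ.symm]; infer_instance
  refine ⟨Γ(T, ⊤), inferInstance, inferInstance, i ≫ T.isoSpec.hom, ?_, ?_⟩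
  · exact (IsFinite.SpecMap_iff (f := CommRingCat.ofHom (algebraMap A Γ(T, ⊤)))).1 inferInstance
  · exact hpb.of_iso (Iso.refl _) T.isoSpec (Iso.refl _) (Iso.refl _) (by simp) (by simp) (by simp [hφ]) (by simp)

end Groth.Agent.S16574
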