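import Groth.Statements.S16575
import Groth.Agent.H1C2Dim.Basic
import Groth.Agent.H1C2Dim.NormCover

set_option autoImplicit false
universe u
open CAlg

namespace Groth.Agent.S16575

/-- Let A be a Noetherian local ring, S a henselization of A, S' a strict henselization of A, A' the
integral closure of the reduction of A in its total ring of fractions, and Â the completion of A at
its maximal ideal. The following are equivalent: (i) for every maximal ideal m' of A' the local ring
of A' at m' has Krull dimension at least 2; (ii) every irreducible component of Spec S has dimension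
at least 2; (ii bis) every irreducible component of Spec S' has dimension at least 2; (iii) every
irreducible component of Spec Â has dimension at least 2. (A closed subscheme Z of a Noetherian
scheme X is called c_2 when these hold at the local ring of every point of Z; condition (i) at all
points of Z says that the preimage of Z in the normalization has codimension at least 2.) -/
theorem result
    (A : Type u) [CommRing A] [IsNoetherianRing A] [IsLocalRing A]
    (S : Type u) [CommRing S] [IsLocalRing S] [Algebra A S] [IsLocalHom (algebraMap A S)]
    [Hensel.IsHenselization A S]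
    (S' : Type u) [CommRing S'] [IsLocalRing S'] [Algebra A S'] [IsLocalHom (algebraMap A S')]
    [Hensel.IsStrictHenselization A S'] :
    List.TFAE [
      ∀ m' : MaximalSpectrum (CAlg2.normRed A), (2 : WithBot ℕ∞) ≤ ringKrullDim (Localization.AtPrime m'.asIdeal),
      ∀ p ∈ minimalPrimes S, (2 : WithBot ℕ∞) ≤ ringKrullDim (S ⧸ p),
      ∀ p ∈ minimalPrimes S', (2 : WithBot ℕ∞) ≤ ringKrullDim (S' ⧸ p),
      ∀ q ∈ minimalPrimes (AdicCompletion (IsLocalRing.maximalIdeal A) A), (2 : WithBot ℕ∞) ≤ ringKrullDim (AdicCompletion (IsLocalRing.maximalIdeal A) A ⧸ q)] := by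
  have h12 := Groth.Agent.H1C2Dim.exists_normRed_dim_iff A (minimalPrimes.finite_of_isNoetherianRing A) S
    (fun d => ¬ (2 : WithBot ℕ∞) ≤ d)
  have h23 := Groth.Agent.H1C2Dim.exists_minimalPrimes_dim_strict A S S' (fun d => ¬ (2 : WithBot ℕ∞) ≤ d)
  have h24 := (Groth.Agent.H1C2Dim.exists_minimalPrimes_dim_completion A S).2
  have n12 := not_congr h12
  have n23 := not_congr h23
  have n24 := not_congr h24
  simp only [not_exists, not_and, not_not] at n12 n23 n24
  tfae_have 1 ↔ 2 := n12
  tfae_have 2 ↔ 3 := n23
  tfae_have 2 ↔ 4 := n24
  tfae_finish

end Groth.Agent.S16575
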