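import Groth.Statements.S16576
import Groth.Agent.CplFib6.Quot
import Groth.Agent.H1C2.Basic
import Groth.Agent.H1C2.Flat
import Groth.Agent.CILib.Basic

set_option autoImplicit false
universe u
open CAlg

namespace Groth.Agent.S16576

/-- Let A → B be a flat local homomorphism of Noetherian local rings and let Â, B̂ be their completions
at the maximal ideals. If every irreducible component of Spec Â has dimension at least 2, then every
irreducible component of Spec B̂ has dimension at least 2. (This is the c_2 condition in its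
completed form; globally: the preimage of a c_2 closed subset under a flat morphism of Noetherian
schemes is c_2, in particular the condition is invariant under Zariski and étale localization.) -/
theorem result
    (A B : Type u) [CommRing A] [CommRing B] [IsNoetherianRing A] [IsNoetherianRing B]
    [IsLocalRing A] [IsLocalRing B] (f : A →+* B) [IsLocalHom f] (hf : f.Flat)
    (hA : ∀ q ∈ minimalPrimes (AdicCompletion (IsLocalRing.maximalIdeal A) A), (2 : WithBot ℕ∞) ≤ ringKrullDim (AdicCompletion (IsLocalRing.maximalIdeal A) A ⧸ q)) :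
    ∀ q ∈ minimalPrimes (AdicCompletion (IsLocalRing.maximalIdeal B) B), (2 : WithBot ℕ∞) ≤ ringKrullDim (AdicCompletion (IsLocalRing.maximalIdeal B) B ⧸ q) := by
  intro q hq
  have hqp : q.IsPrime := hq.1.1
  have hle : (IsLocalRing.maximalIdeal A).map f ≤ IsLocalRing.maximalIdeal B :=
    (((IsLocalRing.local_hom_TFAE f).out 0 2).1 ‹_›)
  have fgA : (IsLocalRing.maximalIdeal A).FG := IsNoetherian.noetherian _
  have fgB : (IsLocalRing.maximalIdeal B).FG := IsNoetherian.noetherian _
  haveI : IsLocalRing (AdicCompletion (IsLocalRing.maximalIdeal A) A) := AdicCompletion.isLocalRing_of_fg fgA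
  haveI : IsLocalRing (AdicCompletion (IsLocalRing.maximalIdeal B) B) := AdicCompletion.isLocalRing_of_fg fgB
  haveI : IsNoetherianRing (AdicCompletion (IsLocalRing.maximalIdeal A) A) := FComplLib.isNoetherianRing_adicCompletion _
  haveI : IsNoetherianRing (AdicCompletion (IsLocalRing.maximalIdeal B) B) := FComplLib.isNoetherianRing_adicCompletion _
  haveI : IsAdicComplete (IsLocalRing.maximalIdeal (AdicCompletion (IsLocalRing.maximalIdeal A) A))
      (AdicCompletion (IsLocalRing.maximalIdeal A) A) := AdicCompletion.isAdicComplete_of_fg fgA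
  letI : Algebra (AdicCompletion (IsLocalRing.maximalIdeal A) A) (AdicCompletion (IsLocalRing.maximalIdeal B) B) :=
    (FSch.complMap _ _ f hle).toAlgebra
  haveI : Module.Flat (AdicCompletion (IsLocalRing.maximalIdeal A) A) (AdicCompletion (IsLocalRing.maximalIdeal B) B) :=
    H1C2.flat_complMap_of_le f hf _ _ hle
  haveI : IsLocalHom (algebraMap (AdicCompletion (IsLocalRing.maximalIdeal A) A) (AdicCompletion (IsLocalRing.maximalIdeal B) B)) := by
    refine ((IsLocalRing.local_hom_TFAE _).out 0 2).2 ?_
    rw [AdicCompletion.maximalIdeal_eq_map_of_fg fgA, Ideal.map_map,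
      show (algebraMap (AdicCompletion (IsLocalRing.maximalIdeal A) A) _).comp (algebraMap A _) =
        (algebraMap B (AdicCompletion (IsLocalRing.maximalIdeal B) B)).comp f from
        RingHom.ext fun a => FComplLib.complMap_algebraMap _ _ f hle a, ← Ideal.map_map,
      AdicCompletion.maximalIdeal_eq_map_of_fg fgB]
    exact Ideal.map_mono hle
  generalize hq0 : q.comap (algebraMap (AdicCompletion (IsLocalRing.maximalIdeal A) A) _) = q0
  have hq0p : q0.IsPrime := hq0 ▸ Ideal.IsPrime.comap _
  have hq0min : q0 ∈ minimalPrimes (AdicCompletion (IsLocalRing.maximalIdeal A) A) := by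
    refine ⟨⟨hq0p, bot_le⟩, fun J ⟨hJ, _⟩ hJle => ?_⟩
    haveI := hJ
    haveI : q.LiesOver q0 := ⟨hq0.symm⟩
    obtain ⟨Q, hQq, hQp, hQ⟩ := Ideal.exists_ideal_le_liesOver_of_le q hJle
    have h1 := hq.2 ⟨hQp, bot_le⟩ hQq
    rw [hQ.over, ← hq0]
    exact Ideal.comap_mono h1
  have hD := hA q0 hq0min
  generalize hI : q0.map (algebraMap _ (AdicCompletion (IsLocalRing.maximalIdeal B) B)) = I
  have hIq : I ≤ q := hI ▸ hq0 ▸ Ideal.map_comap_le
  haveI : IsLocalRing (AdicCompletion (IsLocalRing.maximalIdeal B) B ⧸ I) :=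
    haveI : Nontrivial (AdicCompletion (IsLocalRing.maximalIdeal B) B ⧸ I) :=
      Ideal.Quotient.nontrivial_iff.mpr (ne_top_of_le_ne_top hqp.ne_top hIq)
    IsLocalRing.of_surjective' _ Ideal.Quotient.mk_surjective
  subst hI
  haveI : IsLocalRing (AdicCompletion (IsLocalRing.maximalIdeal A) A ⧸ q0) :=
    haveI : Nontrivial (AdicCompletion (IsLocalRing.maximalIdeal A) A ⧸ q0) :=
      Ideal.Quotient.nontrivial_iff.mpr hq0p.ne_top
    IsLocalRing.of_surjective' _ Ideal.Quotient.mk_surjective
  haveI : IsAdicComplete (IsLocalRing.maximalIdeal (AdicCompletion (IsLocalRing.maximalIdeal A) A ⧸ q0))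
      (AdicCompletion (IsLocalRing.maximalIdeal A) A ⧸ q0) := CILib.isAdicComplete_quotient q0
  haveI : IsLocalHom (algebraMap (AdicCompletion (IsLocalRing.maximalIdeal A) A ⧸ q0)
      (AdicCompletion (IsLocalRing.maximalIdeal B) B ⧸ q0.map (algebraMap _ (AdicCompletion (IsLocalRing.maximalIdeal B) B)))) := by
    refine ⟨fun x hx => ?_⟩
    obtain ⟨y, rfl⟩ := Ideal.Quotient.mk_surjective x
    refine IsUnit.map _ ((isUnit_map_iff (algebraMap _ (AdicCompletion (IsLocalRing.maximalIdeal B) B)) y).1 ?_)
    haveI : IsLocalHom (Ideal.Quotient.mk (q0.map (algebraMap _ (AdicCompletion (IsLocalRing.maximalIdeal B) B)))) :=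
      IsLocalHom.of_surjective _ Ideal.Quotient.mk_surjective
    exact (isUnit_map_iff (Ideal.Quotient.mk _) _).1 hx
  have hq' : q.map (Ideal.Quotient.mk (q0.map (algebraMap _ (AdicCompletion (IsLocalRing.maximalIdeal B) B)))) ∈
      minimalPrimes (AdicCompletion (IsLocalRing.maximalIdeal B) B ⧸ q0.map (algebraMap _ (AdicCompletion (IsLocalRing.maximalIdeal B) B))) := by
    refine ⟨⟨Ideal.map_isPrime_of_surjective Ideal.Quotient.mk_surjective (by rwa [Ideal.mk_ker]), bot_le⟩,
      fun J ⟨hJ, _⟩ hJle => ?_⟩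
    have h1 : J.comap (Ideal.Quotient.mk _) ≤ q := by
      refine (Ideal.comap_mono hJle).trans_eq ?_
      rw [Ideal.comap_map_of_surjective _ Ideal.Quotient.mk_surjective, ← RingHom.ker_eq_comap_bot, Ideal.mk_ker,
        sup_eq_left.2 hIq]
    have h2 := hq.2 ⟨Ideal.IsPrime.comap _ (hK := hJ), bot_le⟩ h1
    rw [Ideal.map_le_iff_le_comap]
    exact h2
  haveI : Module.Flat (AdicCompletion (IsLocalRing.maximalIdeal A) A ⧸ q0)
      (AdicCompletion (IsLocalRing.maximalIdeal B) B ⧸ q0.map (algebraMap _ (AdicCompletion (IsLocalRing.maximalIdeal B) B))) :=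
    CplFib6.flat_quot q0
  refine (H1C2.two_le_dim_quotient (D := AdicCompletion (IsLocalRing.maximalIdeal A) A ⧸ q0) hD _ hq').trans_eq ?_
  exact ringKrullDim_eq_of_ringEquiv (DoubleQuot.quotQuotEquivQuotOfLE hIq)

end Groth.Agent.S16576
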