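import Groth.Statements.S16578
import Groth.Agent.H1C2Dim.Basic
import Groth.Agent.H1Branch.Tower

set_option autoImplicit false
universe u
open Hensel

namespace Groth.Agent.S16578

theorem isLocalHom_quot (A S : Type u) [CommRing A] [IsLocalRing A] [CommRing S] [IsLocalRing S] [Algebra A S]
    [IsLocalHom (algebraMap A S)] (p : Ideal A) [Nontrivial (S ⧸ p.map (algebraMap A S))] :
    IsLocalHom (algebraMap (A ⧸ p) (S ⧸ p.map (algebraMap A S))) := ⟨fun x hx => by
  haveI : IsLocalHom (Ideal.Quotient.mk (p.map (algebraMap A S))) := .of_surjective _ Ideal.Quotient.mk_surjective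
  obtain ⟨a, rfl⟩ := Ideal.Quotient.mk_surjective x
  have h : IsUnit (Ideal.Quotient.mk (p.map (algebraMap A S)) (algebraMap A S a)) := hx
  exact ((h.of_map).of_map).map _⟩

theorem cplQuot (A : Type u) [CommRing A] [IsLocalRing A] [IsNoetherianRing A] (p : Ideal A) [IsLocalRing (A ⧸ p)] :
    Nonempty ((AdicCompletion (IsLocalRing.maximalIdeal A) A ⧸
      p.map (algebraMap A (AdicCompletion (IsLocalRing.maximalIdeal A) A))) ≃+*
        AdicCompletion (IsLocalRing.maximalIdeal (A ⧸ p)) (A ⧸ p)) := by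
  obtain ⟨e⟩ := Groth.Agent.FormalFib6.exists_cplQuotEquiv A (A ⧸ p) Ideal.Quotient.mk_surjective
  exact ⟨((Algebra.TensorProduct.quotIdealMapEquivTensorQuot (EGA4.Cpl A) p).toRingEquiv.trans
    (Algebra.TensorProduct.comm A (EGA4.Cpl A) (A ⧸ p)).toRingEquiv).trans e.toRingEquiv⟩

theorem exists_dim_strict_over (B T' : Type u) [CommRing B] [IsLocalRing B] (hB : HenselianLocalRing B)
    [CommRing T'] [IsLocalRing T'] [Algebra B T'] [IsLocalHom (algebraMap B T')]
    [_root_.Hensel.IsStrictHenselization B T'] (I : Ideal B) :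
    (∃ q ∈ I.minimalPrimes, ringKrullDim (B ⧸ q) = 1) ↔
      ∃ q ∈ I.minimalPrimes, ∃ Q ∈ (q.map (algebraMap B T')).minimalPrimes, ringKrullDim (T' ⧸ Q) = 1 := by
  haveI := hB
  haveI := Groth.Agent.H1EssEt.isIntegral_strictHenselization B T'
  haveI := (Groth.Agent.Hensel.isHenzLike_of_isStrictHenselization B T').faithfullyFlat
  have key : ∀ (q : Ideal B) [q.IsPrime], ∀ Q ∈ (q.map (algebraMap B T')).minimalPrimes,
      ringKrullDim (T' ⧸ Q) = ringKrullDim (B ⧸ q) := fun q _ Q hQ => by
    haveI := hQ.1.1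
    have hle : q ≤ Q.comap (algebraMap B T') := Ideal.map_le_iff_le_comap.1 hQ.1.2
    haveI : Q.LiesOver (Q.comap (algebraMap B T')) := ⟨rfl⟩
    obtain ⟨P, hPle, hP, ho⟩ := Ideal.exists_ideal_le_liesOver_of_le (p := q) (q := Q.comap (algebraMap B T')) Q hle
    have := hQ.2 ⟨hP, Ideal.map_le_iff_le_comap.2 ho.over.le⟩ hPle
    obtain rfl : P = Q := le_antisymm hPle this
    haveI := ho
    exact Groth.Agent.VarDim.ringKrullDim_eq_of_isIntegral
  refine exists_congr fun q => and_congr_right fun hq => ?_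
  haveI := hq.1.1
  refine ⟨fun h => ?_, fun ⟨Q, hQ, h⟩ => (key q Q hQ).symm.trans h⟩
  obtain ⟨P, hP⟩ := PrimeSpectrum.comap_surjective_of_faithfullyFlat (B := T') (⟨q, hq.1.1⟩ : PrimeSpectrum B)
  haveI := P.isPrime
  obtain ⟨Q, hQ, -⟩ := Ideal.exists_minimalPrimes_le (I := q.map (algebraMap B T')) (J := P.asIdeal)
    (Ideal.map_le_iff_le_comap.2 (le_of_eq congr(($hP).asIdeal).symm))
  exact ⟨Q, hQ, (key q Q hQ).trans h⟩

/-- Let A be a Noetherian local ring with completion Â at its maximal ideal, S' a strict henselization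
of A, T' a strict henselization of Â, and p a prime ideal of A. Say that a prime p of a Noetherian
local ring with strict henselization S is an immediate étale generization of the closed point when
some minimal prime P over pS has dim S/P = 1. Then p is an immediate étale generization of the
closed point of A if and only if some minimal prime q over pÂ (a maximal point of the fibre over p
of Spec Â → Spec A) is an immediate étale generization of the closed point of Â. -/
theorem result
    (A : Type u) [CommRing A] [IsNoetherianRing A] [IsLocalRing A]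
    (S' : Type u) [CommRing S'] [IsLocalRing S'] [Algebra A S'] [IsLocalHom (algebraMap A S')]
    [Hensel.IsStrictHenselization A S']
    (T' : Type u) [CommRing T'] [IsLocalRing T'] [Algebra (AdicCompletion (IsLocalRing.maximalIdeal A) A) T'] [IsLocalHom (algebraMap (AdicCompletion (IsLocalRing.maximalIdeal A) A) T')]
    [Hensel.IsStrictHenselization (AdicCompletion (IsLocalRing.maximalIdeal A) A) T']
    (p : Ideal A) [p.IsPrime] :
    (∃ P ∈ (p.map (algebraMap A S')).minimalPrimes, ringKrullDim (S' ⧸ P) = 1) ↔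
    (∃ q ∈ (p.map (algebraMap A (AdicCompletion (IsLocalRing.maximalIdeal A) A))).minimalPrimes,
      ∃ Q ∈ (q.map (algebraMap (AdicCompletion (IsLocalRing.maximalIdeal A) A) T')).minimalPrimes, ringKrullDim (T' ⧸ Q) = 1) := by

  haveI : IsLocalRing (A ⧸ p) := IsLocalRing.of_surjective' (Ideal.Quotient.mk p) Ideal.Quotient.mk_surjective
  let S := Groth.Agent.Hensel.LocalHenz A
  haveI : _root_.Hensel.IsHenselization A S := Groth.Agent.Hensel.isHenselization_localHenz A
  haveI : HenselianLocalRing S := _root_.Hensel.IsHenselization.henselian (R := A)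
  have hne : ∀ (R : Type u) [CommRing R] [IsLocalRing R] [Algebra A R] [IsLocalHom (algebraMap A R)],
      p.map (algebraMap A R) ≠ ⊤ := fun R _ _ _ _ h => by
    have h1 : p.map (algebraMap A R) ≤ IsLocalRing.maximalIdeal R := by
      rw [Ideal.map_le_iff_le_comap, IsLocalRing.maximalIdeal_comap]
      exact IsLocalRing.le_maximalIdeal (Ideal.IsPrime.ne_top inferInstance)
    exact (IsLocalRing.maximalIdeal.isMaximal R).ne_top (top_le_iff.1 (h ▸ h1))
  haveI : Nontrivial (S ⧸ p.map (algebraMap A S)) := Ideal.Quotient.nontrivial_iff.2 (hne S)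
  haveI : IsLocalRing (S ⧸ p.map (algebraMap A S)) :=
    IsLocalRing.of_surjective' (Ideal.Quotient.mk _) Ideal.Quotient.mk_surjective
  haveI : Nontrivial (S' ⧸ p.map (algebraMap A S')) := Ideal.Quotient.nontrivial_iff.2 (hne S')
  haveI : IsLocalRing (S' ⧸ p.map (algebraMap A S')) :=
    IsLocalRing.of_surjective' (Ideal.Quotient.mk _) Ideal.Quotient.mk_surjective
  haveI hl1 : IsLocalHom (algebraMap (A ⧸ p) (S ⧸ p.map (algebraMap A S))) := isLocalHom_quot A S p
  haveI hl2 : IsLocalHom (algebraMap (A ⧸ p) (S' ⧸ p.map (algebraMap A S'))) := isLocalHom_quot A S' p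
  haveI : _root_.Hensel.IsHenselization (A ⧸ p) (S ⧸ p.map (algebraMap A S)) :=
    Groth.Agent.H1Branch.isHenselization_quotient p
  haveI : _root_.Hensel.IsStrictHenselization (A ⧸ p) (S' ⧸ p.map (algebraMap A S')) :=
    Groth.Agent.H1Branch.isStrictHenselization_quotient p
  obtain ⟨e⟩ := cplQuot A p
  rw [Groth.Agent.H1C2Dim.exists_minimalPrimes_dim_quotient _ (fun d => d = 1),
    ← Groth.Agent.H1C2Dim.exists_minimalPrimes_dim_strict (A ⧸ p) (S ⧸ p.map (algebraMap A S))
      (S' ⧸ p.map (algebraMap A S')) (fun d => d = 1),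
    (Groth.Agent.H1C2Dim.exists_minimalPrimes_dim_completion (A ⧸ p) (S ⧸ p.map (algebraMap A S))).1,
    ← Groth.Agent.H1C2Dim.exists_minimalPrimes_dim_of_equiv e (fun d => d = 1),
    ← Groth.Agent.H1C2Dim.exists_minimalPrimes_dim_quotient _ (fun d => d = 1)]
  exact exists_dim_strict_over (AdicCompletion (IsLocalRing.maximalIdeal A) A) T'
    (Groth.Agent.BrnchLib.henselianLocalRing_completion A) _

end Groth.Agent.S16578
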