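import Groth.Statements.S16579
import Groth.Agent.H1Gabber.Tower

set_option autoImplicit false
universe u
open CategoryTheory AlgebraicGeometry
open Hensel

namespace Groth.Agent.S16579

/-- The case of the constant sheaf on a two-element set. Let (A, I) be a henselian pair with I finitely
generated (A not necessarily Noetherian), Â the I-adic completion of A, π : Spec Â → Spec A the
completion morphism, U a quasi-compact open subscheme of Spec A containing the complement of V(I),
and Û = π⁻¹(U). Then V ↦ (π|Û)⁻¹(V) is a bijection from the clopen subsets of U onto the clopen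
subsets of Û; equivalently, for every finite set F the locally constant F-valued functions on U and
on Û correspond under composition with π. -/
theorem result
    (A : Type u) [CommRing A] (I : Ideal A) (hI : I.FG) [HenselianRing A I]
    (U : (Spec (CommRingCat.of A)).Opens) (hU : IsCompact (U : Set (Spec (CommRingCat.of A))))
    (hUI : ∀ x : Spec (CommRingCat.of A), x ∉ U → I ≤ x.asIdeal) :
    Function.Bijective (fun V : {V : Set ↥U // IsClopen V} =>
      (⟨((Spec.map (CommRingCat.ofHom (algebraMap A (AdicCompletion I A)))) ∣_ U).base.hom ⁻¹' V.1, V.2.preimage ((Spec.map (CommRingCat.ofHom (algebraMap A (AdicCompletion I A)))) ∣_ U).base.hom.continuous⟩ :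
        {V' : Set ↥((Spec.map (CommRingCat.ofHom (algebraMap A (AdicCompletion I A)))) ⁻¹ᵁ U) // IsClopen V'})) := by
  set π := PrimeSpectrum.comap (algebraMap A (AdicCompletion I A)) with hπ
  let f := Spec.map (CommRingCat.ofHom (algebraMap A (AdicCompletion I A)))
  let U₀ : Set (PrimeSpectrum A) := (U : Set (Spec (CommRingCat.of A)))
  have hU₀ : IsOpen U₀ := U.2
  have hin : ∀ (V : Set ↥U), IsClopen V → H1Gabber.ClopenIn U₀ (Subtype.val '' V) := fun V hV => by
    refine ⟨Subtype.coe_image_subset _ V, U.2.isOpenMap_subtype_val _ hV.isOpen, ?_⟩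
    have : U₀ \ Subtype.val '' V = Subtype.val '' Vᶜ := by
      ext x
      constructor
      · rintro ⟨hx, h⟩
        exact ⟨⟨x, hx⟩, fun h' => h ⟨_, h', rfl⟩, rfl⟩
      · rintro ⟨⟨x, hx⟩, h, rfl⟩
        exact ⟨hx, fun ⟨y, hy, hy'⟩ => h (Subtype.ext hy' ▸ hy)⟩
    rw [this]
    exact U.2.isOpenMap_subtype_val _ hV.compl.isOpen
  have hpre : ∀ (V : Set ↥U), π ⁻¹' (Subtype.val '' V) = Subtype.val '' ((f ∣_ U).base.hom ⁻¹' V) := by
    intro V
    ext z
    constructor
    · rintro ⟨⟨x, hx⟩, hV, hz⟩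
      have hz' : z ∈ π ⁻¹' U₀ := by
        show π z ∈ U₀
        rw [← hz]
        exact hx
      refine ⟨⟨z, hz'⟩, ?_, rfl⟩
      show (f ∣_ U) ⟨z, hz'⟩ ∈ V
      have : (f ∣_ U) ⟨z, hz'⟩ = ⟨x, hx⟩ := Subtype.ext ((morphismRestrict_base_coe f U _).trans hz.symm)
      rwa [this]
    · rintro ⟨w, hw, rfl⟩
      exact ⟨(f ∣_ U) w, hw, morphismRestrict_base_coe f U w⟩
  constructor
  · rintro ⟨V, hV⟩ ⟨V', hV'⟩ h
    have h' := congrArg Subtype.val h
    dsimp only at h'
    have := H1Gabber.clopenIn_ext hI (fun x hx => hUI x hx) (hin V hV) (hin V' hV')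
      (by rw [← hπ, hpre, hpre, h'])
    exact Subtype.ext (Subtype.val_injective.image_injective this)
  · rintro ⟨W, hW⟩
    have hW' : H1Gabber.ClopenIn (π ⁻¹' U₀) (Subtype.val '' W) := by
      refine ⟨Subtype.coe_image_subset _ W, (f ⁻¹ᵁ U).2.isOpenMap_subtype_val _ hW.isOpen, ?_⟩
      have : π ⁻¹' U₀ \ Subtype.val '' W = Subtype.val '' Wᶜ := by
        ext x
        constructor
        · rintro ⟨hx, h⟩
          exact ⟨⟨x, hx⟩, fun h' => h ⟨_, h', rfl⟩, rfl⟩
        · rintro ⟨⟨x, hx⟩, h, rfl⟩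
          exact ⟨hx, fun ⟨y, hy, hy'⟩ => h (Subtype.ext hy' ▸ hy)⟩
      rw [this]
      exact (f ⁻¹ᵁ U).2.isOpenMap_subtype_val _ hW.compl.isOpen
    obtain ⟨V, hV, hVW⟩ := H1Gabber.exists_clopenIn I hI U₀ hU₀ (fun x hx => hUI x hx) _ hW'
    have hVc : IsClopen (Subtype.val ⁻¹' V : Set ↥U) := by
      refine ⟨⟨?_⟩, hV.isOpen.preimage continuous_subtype_val⟩
      have : (Subtype.val ⁻¹' V : Set ↥U)ᶜ = Subtype.val ⁻¹' (U₀ \ V) := by
        ext ⟨x, hx⟩
        exact ⟨fun h => ⟨hx, h⟩, fun h => h.2⟩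
      rw [this]
      exact hV.isOpen_diff.preimage continuous_subtype_val
    refine ⟨⟨_, hVc⟩, Subtype.ext (Subtype.val_injective.image_injective ?_)⟩
    dsimp only
    rw [← hpre]
    refine Eq.trans ?_ hVW
    congr 1
    ext x
    exact ⟨fun ⟨y, hy, hyx⟩ => hyx ▸ hy, fun h => ⟨⟨x, hV.subset h⟩, h, rfl⟩⟩

end Groth.Agent.S16579
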