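import Groth.Statements.S1659
import Groth.Agent.Div21Lib.Stalks
import Groth.Agent.FlatX.RelCartier
import Groth.Agent.S1568
import Groth.Agent.H23.FinCondSch
import Groth.Agent.AlgSpLib.CartierRegular

set_option autoImplicit false
set_option backward.isDefEq.respectTransparency false
set_option backward.isDefEq.respectTransparency.types false
universe u
open CategoryTheory CategoryTheory.Limits AlgebraicGeometry
open Divisors

namespace Groth.Agent.S1659

open Groth.Agent.Div21Lib

variable {X : Scheme.{u}}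

lemma st_gen {I : X.IdealSheafData} {U : X.affineOpens} {a : Γ(X, U.1)}
    (h : I.ideal U = Ideal.span {a}) {z : X} (hz : z ∈ U.1) :
    st I z = Ideal.span {X.presheaf.germ U.1 z hz a} := by
  rw [st_eq I U hz, CDivEq.stk, h, Ideal.map_span, Set.image_singleton]

lemma exists_div {D E : X.IdealSheafData} (hD : BlowUp.IsEffCartierIdeal D)
    (hE : BlowUp.IsEffCartierIdeal E) (hle : D ≤ E) :
    ∃ D' : X.IdealSheafData, BlowUp.IsEffCartierIdeal D' ∧ D = E * D' := by
  let Q : ∀ z : X, Ideal (X.presheaf.stalk z) := fun z =>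
    (st D z).colon (st E z : Set (X.presheaf.stalk z))
  have key : ∀ x : X, ∃ U : X.affineOpens, x ∈ U.1 ∧ ∃ b c : Γ(X, U.1),
      b ∈ nonZeroDivisors Γ(X, U.1) ∧ c ∈ nonZeroDivisors Γ(X, U.1) ∧
      E.ideal U = Ideal.span {b} ∧ D.ideal U = Ideal.span {b * c} ∧
      ∀ z (hz : z ∈ U.1), Q z = Ideal.span {X.presheaf.germ U.1 z hz c} := by
    intro x
    obtain ⟨U, hxU, -, ⟨a, ha, hDa⟩, ⟨b, hb, hEb⟩⟩ :=
      FlatX.exists_locGen₂ hD hE (x := x) (O := ⊤) trivial
    have h1 : a ∈ E.ideal U := hle U (by rw [hDa]; exact Ideal.mem_span_singleton_self a)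
    rw [hEb, Ideal.mem_span_singleton] at h1
    obtain ⟨c, rfl⟩ := h1
    refine ⟨U, hxU, b, c, hb, (mul_mem_nonZeroDivisors.mp ha).2, hEb, hDa, fun z hz => ?_⟩
    ext r
    simp only [Q, Submodule.mem_colon]
    rw [st_gen hDa hz, st_gen hEb hz, map_mul, Ideal.mem_span_singleton]
    constructor
    · intro h
      have h2 := h _ (Ideal.mem_span_singleton_self _)
      rw [smul_eq_mul, Ideal.mem_span_singleton] at h2
      obtain ⟨t, ht⟩ := h2
      refine ⟨t, ?_⟩
      have h4 := CDivEq.germ_mem_nonZeroDivisors U hz hb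
      apply mul_cancel_left_mem_nonZeroDivisors h4 |>.mp
      rw [← mul_assoc, mul_comm _ r]
      exact ht
    · rintro ⟨t, rfl⟩ p hp
      obtain ⟨q, rfl⟩ := Ideal.mem_span_singleton.mp hp
      rw [smul_eq_mul, Ideal.mem_span_singleton]
      exact ⟨t * q, by ring⟩
  have hQ : ∀ x : X, ∃ U : X.Opens, x ∈ U ∧ ∃ a : Γ(X, U),
      ∀ z (hz : z ∈ U), Q z = Ideal.span {X.presheaf.germ U z hz a} := fun x => by
    obtain ⟨U, hxU, b, c, -, -, -, -, hc⟩ := key x
    exact ⟨U.1, hxU, c, hc⟩
  refine ⟨ofStalks Q hQ, isEffCartier_ofStalks Q hQ fun z g hg => ?_, ext_st fun z => ?_⟩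
  · obtain ⟨U, hzU, b, c, -, hc, -, -, hQc⟩ := key z
    have h0 := CDivEq.germ_mem_nonZeroDivisors U hzU hc
    rw [hQc z hzU] at hg
    obtain ⟨t, ht⟩ := Ideal.mem_span_singleton.mp (hg ▸ Ideal.mem_span_singleton_self _)
    rw [ht] at h0
    exact (mul_mem_nonZeroDivisors.mp h0).1
  · obtain ⟨U, hzU, b, c, -, -, hEb, hDa, hQc⟩ := key z
    rw [st_eq (E * ofStalks Q hQ) U hzU, CDivEq.stk, Scheme.IdealSheafData.ideal_mul, Pi.mul_apply,
      Ideal.map_mul]
    change _ = CDivEq.stk E U hzU * CDivEq.stk (ofStalks Q hQ) U hzU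
    rw [← st_eq E U hzU, ← st_eq (ofStalks Q hQ) U hzU, st_ofStalks, hQc z hzU, st_gen hEb hzU,
      st_gen hDa hzU, Ideal.span_singleton_mul_span_singleton, map_mul]

lemma not_mem_support_of_eq_mul {D E : X.IdealSheafData} (hD : BlowUp.IsEffCartierIdeal D)
    (hE : BlowUp.IsEffCartierIdeal E) (h : D = E * D) (z : X) : z ∉ (E.support : Set X) := by
  obtain ⟨U, hzU, -, ⟨a, ha, hDa⟩, ⟨b, hb, hEb⟩⟩ :=
    FlatX.exists_locGen₂ hD hE (x := z) (O := ⊤) trivial
  have h1 : D.ideal U = E.ideal U * D.ideal U := by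
    conv_lhs => rw [h]
    simp
  rw [hDa, hEb, Ideal.span_singleton_mul_span_singleton] at h1
  obtain ⟨t, ht⟩ := Ideal.mem_span_singleton.mp (h1 ▸ Ideal.mem_span_singleton_self a)
  have hbu : IsUnit b := by
    refine IsUnit.of_mul_eq_one t ((mul_cancel_left_mem_nonZeroDivisors ha).mp ?_)
    rw [mul_one]
    exact (by ring : a * (b * t) = b * a * t).trans ht.symm
  rw [notMem_support_iff, st_gen hEb hzU, Ideal.span_singleton_eq_top]
  exact hbu.map _

lemma exists_component [IsNoetherian X] {D : X.IdealSheafData} (hD : BlowUp.IsEffCartierIdeal D)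
    (hne : (D.support : Set X).Nonempty)
    {r : ℕ} (Ds : Fin r → X.IdealSheafData) (hDs : ∀ i, BlowUp.IsEffCartierIdeal (Ds i))
    (hint : ∀ i, IsIntegral (Ds i).subscheme)
    (hsub : (D.support : Set X) ⊆ ⋃ i, ((Ds i).support : Set X)) :
    ∃ i, D ≤ Ds i ∧ ((Ds i).support : Set X) ⊆ D.support := by
  obtain ⟨p, hp⟩ := hne
  have hc : IsClosed (D.support : Set X) := D.support.isClosed
  obtain ⟨W, hW, hpW, hmax⟩ := exists_preirreducible (({⟨p, hp⟩}) : Set (D.support : Set X))
    Set.subsingleton_singleton.isPreirreducible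
  have hWi : IsIrreducible W := ⟨⟨_, hpW rfl⟩, hW⟩
  let Z : Set X := Subtype.val '' W
  have hZi : IsIrreducible Z := hWi.image _ continuous_subtype_val.continuousOn
  let ξ := hZi.genericPoint
  have hξ : IsGenericPoint ξ (closure Z) := hZi.isGenericPoint_genericPoint_closure
  have hZsub : closure Z ⊆ (D.support : Set X) :=
    hc.closure_subset_iff.mpr (Set.image_subset_iff.mpr fun w _ => w.2)
  have hξD : ξ ∈ (D.support : Set X) := hZsub hξ.mem
  have hgen : ∀ y ∈ (D.support : Set X), y ⤳ ξ → y = ξ := by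
    intro y hy hyξ
    have h1 : Z ⊆ closure {y} := fun z hz =>
      (hyξ.trans (hξ.specializes (subset_closure hz))).mem_closure
    have h2 : W ⊆ closure {(⟨y, hy⟩ : (D.support : Set X))} := fun w hw => by
      rw [closure_subtype, Set.image_singleton]
      exact h1 ⟨w, hw, rfl⟩
    have h3 := hmax _ isIrreducible_singleton.closure.isPreirreducible h2
    have h4 : (⟨y, hy⟩ : (D.support : Set X)) ∈ W := h3 ▸ subset_closure rfl
    exact (hyξ.antisymm (hξ.specializes (subset_closure ⟨_, h4, rfl⟩))).eq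
  obtain ⟨i, hi⟩ := Set.mem_iUnion.mp (hsub hξD)
  have := hint i
  have hir : IrreducibleSpace (Ds i).subscheme := inferInstance
  let η := (Ds i).subschemeι (genericPoint (Ds i).subscheme)
  have hη : IsGenericPoint η ((Ds i).support : Set X) := by
    rw [← Scheme.IdealSheafData.range_subschemeι]
    have := (genericPoint_spec (Ds i).subscheme).image (Ds i).subschemeι.continuous
    rwa [Set.image_univ, ((Ds i).subschemeι.isClosedEmbedding.isClosed_range).closure_eq] at this
  have d1 := Groth.Agent.S1568.result X D hD ξ hξD hgen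
  have d2 := Groth.Agent.S1568.result X (Ds i) (hDs i) η hη.mem
    fun y hy hyη => (hyη.antisymm (hη.specializes hy)).eq
  have hηξ : η ⤳ ξ := hη.specializes hi
  have hηeq : η = ξ := by
    by_contra hne
    rw [ringKrullDim_stalk_eq_coheight] at d1 d2
    have hlt : ξ < η := by
      refine lt_iff_le_not_ge.mpr ⟨hηξ, fun h => hne ?_⟩
      exact (hηξ.antisymm h).eq
    have h5 := Order.coheight_add_one_le hlt
    have e1 : Order.coheight ξ = 1 := by exact_mod_cast d1
    have e2 : Order.coheight η = 1 := by exact_mod_cast d2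
    rw [e1, e2] at h5
    norm_num at h5
  have hsup : ((Ds i).support : Set X) ⊆ D.support := by
    intro y hy
    exact (hη.specializes hy).mem_closed hc (hηeq ▸ hξD)
  refine ⟨i, ?_, hsup⟩
  rw [AlgSpLib.CartierRegular.eq_vanishingIdeal_support (Ds i)]
  exact Scheme.IdealSheafData.le_support_iff_le_vanishingIdeal.mp hsup


/-- Let X be Noetherian, D an effective Cartier divisor and D_1, …, D_r effective Cartier divisors which
are integral as closed subschemes, with D contained set-theoretically in their union. Then D = Σ a_i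
D_i for some a_i ≥ 0, i.e. the ideal sheaf of D is the product of the a_i-th powers of the ideal
sheaves of the D_i. -/
theorem result (X : Scheme.{u}) [IsNoetherian X] (D : X.IdealSheafData) (hD : BlowUp.IsEffCartierIdeal D)
    (r : ℕ) (Ds : Fin r → X.IdealSheafData) (hDs : ∀ i, BlowUp.IsEffCartierIdeal (Ds i)) (hint : ∀ i, IsIntegral (Ds i).subscheme)
    (hsub : (D.support : Set X) ⊆ ⋃ i, ((Ds i).support : Set X)) :
    ∃ a : Fin r → ℕ, D = ∏ i, Ds i ^ a i := by
  classical
  have : WellFoundedGT X.IdealSheafData := H23.FinCondSch.wellFoundedGT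
  induction D using WellFoundedGT.induction with
  | ind D ih =>
  rcases (D.support : Set X).eq_empty_or_nonempty with he | hne
  · refine ⟨0, ?_⟩
    simp only [Pi.zero_apply, pow_zero, Finset.prod_const_one]
    exact (Scheme.IdealSheafData.support_eq_bot_iff _).1 (TopologicalSpace.Closeds.ext he)
  obtain ⟨i, hle, hsup⟩ := exists_component hD hne Ds hDs hint hsub
  obtain ⟨D', hD', hDeq⟩ := exists_div hD (hDs i) hle
  have hle' : D ≤ D' := by
    intro U
    rw [hDeq]
    simp only [Scheme.IdealSheafData.ideal_mul, Pi.mul_apply]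
    exact Ideal.mul_le.mpr fun _ _ _ h => Ideal.mul_mem_left _ _ h
  have hlt : D < D' := by
    refine lt_of_le_of_ne hle' fun h => ?_
    subst h
    obtain ⟨z⟩ := (hint i).nonempty
    refine not_mem_support_of_eq_mul hD (hDs i) hDeq ((Ds i).subschemeι z) ?_
    rw [← Scheme.IdealSheafData.range_subschemeι]
    exact Set.mem_range_self z
  obtain ⟨a, ha⟩ := ih D' hlt hD'
    (Set.Subset.trans (Scheme.IdealSheafData.support_antitone hle') hsub)
  refine ⟨Function.update a i (a i + 1), ?_⟩
  rw [hDeq, ha]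
  have : (fun j => Ds j ^ Function.update a i (a i + 1) j) =
      Function.update (fun j => Ds j ^ a j) i (Ds i ^ (a i + 1)) := by
    funext j
    by_cases hj : j = i
    · subst hj; simp
    · simp [hj]
  rw [this, Finset.prod_update_of_mem (Finset.mem_univ i), pow_succ', mul_assoc]
  congr 1
  rw [← Finset.mul_prod_erase Finset.univ _ (Finset.mem_univ i), Finset.sdiff_singleton_eq_erase]

end Groth.Agent.S1659
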