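import Groth.Statements.S1660
import Groth.Agent.Div21Lib.Stalks
import Groth.Agent.DivX.NoEmbedded
import Groth.Agent.MorLib.IdealFG
import Groth.Agent.S1570

set_option autoImplicit false
set_option backward.isDefEq.respectTransparency false
set_option backward.isDefEq.respectTransparency.types false
universe u
open CategoryTheory CategoryTheory.Limits AlgebraicGeometry
open Divisors

namespace Groth.Agent.S1660

open Groth.Agent.Div21Lib

/-- The colon prime of an ideal which becomes principal at that prime has height one. -/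
lemma height_eq_one_of_colon {A : Type u} [CommRing A] [IsDomain A] [UniqueFactorizationMonoid A]
    [IsNoetherianRing A] (I P : Ideal A) [P.IsPrime] (a : A) (hPa : ∀ c, c ∈ P ↔ c * a ∈ I)
    (g : A) (hg : g ≠ 0) (hgI : ∃ w ∉ P, w * g ∈ I) (hdvd : ∀ c ∈ I, ∃ w ∉ P, g ∣ w * c) :
    P.height = 1 := by
  obtain ⟨g₁, a₁, d, hrel, hdg, hda⟩ := UniqueFactorizationMonoid.exists_reduced_factors g hg a
  have hd : d ≠ 0 := fun h => hg (by rw [← hdg, h, zero_mul])
  have hg₁ : g₁ ≠ 0 := fun h => hg (by rw [← hdg, h, mul_zero])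
  have h1 : g₁ ∈ P := by
    obtain ⟨w, hw, hwI⟩ := hgI
    have : w * g₁ ∈ P := by
      rw [hPa, show w * g₁ * a = a₁ * (w * g) by rw [← hdg, ← hda]; ring]
      exact I.mul_mem_left _ hwI
    exact (Ideal.IsPrime.mem_or_mem ‹_› this).resolve_left hw
  have hnu : ¬ IsUnit g₁ := fun h => Ideal.IsPrime.ne_top ‹_› (Ideal.eq_top_of_isUnit_mem _ h1 h)
  have h2 : ∀ c ∈ P, ∃ w ∉ P, g₁ ∣ w * c := by
    intro c hc
    obtain ⟨w, hw, hwg⟩ := hdvd _ ((hPa c).mp hc)
    refine ⟨w, hw, ?_⟩
    have h3 : d * g₁ ∣ d * (w * c * a₁) := by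
      rw [hdg, show d * (w * c * a₁) = w * (c * a) by rw [← hda]; ring]
      exact hwg
    exact IsRelPrime.dvd_of_dvd_mul_right hrel ((mul_dvd_mul_iff_left hd).mp h3)
  obtain ⟨π, hπ, hπP, hπg⟩ : ∃ π, Prime π ∧ π ∈ P ∧ π ∣ g₁ := by
    by_contra hcon
    push Not at hcon
    have : ∀ b : A, b ∣ g₁ → b ∉ P := by
      intro b
      induction b using UniqueFactorizationMonoid.induction_on_prime with
      | h₁ => exact fun h => absurd (zero_dvd_iff.mp h) hg₁
      | h₂ x hx => exact fun _ hxP => Ideal.IsPrime.ne_top ‹_› (Ideal.eq_top_of_isUnit_mem _ hxP hx)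
      | h₃ x p _ hp ih =>
        intro hdv hmem
        rcases Ideal.IsPrime.mem_or_mem ‹_› hmem with h | h
        · exact hcon p hp h (dvd_trans (dvd_mul_right p x) hdv)
        · exact ih (dvd_trans (dvd_mul_left x p) hdv) h
    exact this g₁ dvd_rfl h1
  have hP : P = Ideal.span {π} := by
    refine le_antisymm (fun c hc => ?_) ((Ideal.span_singleton_le_iff_mem _).mpr hπP)
    obtain ⟨w, hw, hwc⟩ := h2 c hc
    rw [Ideal.mem_span_singleton]
    refine (hπ.dvd_or_dvd (dvd_trans hπg hwc)).resolve_left fun h => hw ?_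
    obtain ⟨t, rfl⟩ := h
    exact Ideal.mul_mem_right _ _ hπP
  apply le_antisymm
  · refine Ideal.height_le_one_of_isPrincipal_of_mem_minimalPrimes (Ideal.span {π}) P ?_
    rw [hP]
    exact ⟨⟨(Ideal.span_singleton_prime hπ.ne_zero).mpr hπ, le_rfl⟩, fun Q hQ _ => hQ.2⟩
  · have hlt : (⊥ : Ideal A) < P := bot_lt_iff_ne_bot.mpr fun h => hπ.ne_zero (by
      rw [h] at hπP; exact hπP)
    exact le_trans (by simp) (Ideal.height_add_one_le_of_lt_of_isPrime hlt)

variable {X : Scheme.{u}}

lemma st_comap_gen {U : X.Opens} (J : X.IdealSheafData) (D : (U : Scheme.{u}).IdealSheafData)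
    (hJ : J.comap U.ι = D) (hD : BlowUp.IsEffCartierIdeal D) (y : X) (hy : y ∈ U) :
    ∃ g : X.presheaf.stalk y, g ∈ nonZeroDivisors _ ∧ st J y = Ideal.span {g} := by
  let u : (U : Scheme.{u}) := ⟨y, hy⟩
  obtain ⟨g, hg, hgD⟩ := exists_gen D hD u
  let e : X.presheaf.stalk y ≃+* (U : Scheme.{u}).presheaf.stalk u :=
    (asIso (U.ι.stalkMap u)).commRingCatIsoToRingEquiv
  have h1 : st D u = (st J y).map (e : _ →+* _) := by
    rw [← hJ, st_comap]
    rfl
  refine ⟨e.symm g, ?_, ?_⟩
  · rw [mem_nonZeroDivisors_iff_right] at hg ⊢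
    intro t ht
    have : e t * g = 0 := by
      have := congrArg e ht
      rwa [map_mul, RingEquiv.apply_symm_apply, map_zero] at this
    exact (map_eq_zero_iff e e.injective).mp (hg _ this)
  · have h2 := congrArg (Ideal.map e.symm.toRingHom) (h1.symm.trans hgD)
    rw [Ideal.map_map, Ideal.map_span, Set.image_singleton] at h2
    simpa using h2

/-- A section lies in the pushed forward ideal as soon as its germs do. -/
lemma mem_map_of_germ {U : X.Opens} [QuasiCompact U.ι] (D : (U : Scheme.{u}).IdealSheafData)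
    (J : X.IdealSheafData) (hJdef : J = D.map U.ι)
    (V : X.affineOpens) (s : Γ(X, V.1))
    (h : ∀ z (hzV : z ∈ V.1), z ∈ U → X.presheaf.germ V.1 z hzV s ∈ st J z) :
    s ∈ J.ideal V := by
  have hJ : J.comap U.ι = D := hJdef ▸ MorLib.IdealFG.comap_map_self U.ι D
  have he : J.ideal V = RingHom.ker ((D.subschemeι ≫ U.ι).app V.1).hom := by
    rw [hJdef]; exact Scheme.Hom.ker_apply _ V
  rw [he, RingHom.mem_ker]
  refine TopCat.Presheaf.section_ext D.subscheme.sheaf _ _ _ fun z hz => ?_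
  rw [map_zero]
  show D.subscheme.presheaf.germ _ z hz (((D.subschemeι ≫ U.ι).app V.1).hom s) = 0
  rw [← Scheme.Hom.germ_stalkMap_apply]
  have hm := h _ hz (D.subschemeι z).2
  have h0 : st (J.comap U.ι) (D.subschemeι z) = st D (D.subschemeι z) := congrArg (fun E => st E (D.subschemeι z)) hJ
  have h1 : (U.ι.stalkMap (D.subschemeι z)).hom (X.presheaf.germ V.1 _ hz s) ∈ st D (D.subschemeι z) := by
    rw [← h0, st_comap]
    exact Ideal.mem_map_of_mem _ hm
  obtain ⟨W, hW⟩ := exists_affine_mem (D.subschemeι z)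
  rw [st_eq D W hW, CDivEq.stk, ← CartierFP.ker_stalkMap_subschemeι D W z hW, RingHom.mem_ker] at h1
  rw [Scheme.Hom.stalkMap_comp]
  exact h1

lemma exists_gen_outside [IsLocallyNoetherian X] {U : X.Opens}
    (D : (U : Scheme.{u}).IdealSheafData) (hD : BlowUp.IsEffCartierIdeal D)
    (J : X.IdealSheafData) (hJdef : J = D.map U.ι) (x : X) (hx : x ∉ U)
    [IsDomain (X.presheaf.stalk x)] [UniqueFactorizationMonoid (X.presheaf.stalk x)] :
    ∃ g : X.presheaf.stalk x, g ∈ nonZeroDivisors (X.presheaf.stalk x) ∧ st J x = Ideal.span {g} := by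
  classical
  have hJ : J.comap U.ι = D := hJdef ▸ MorLib.IdealFG.comap_map_self U.ι D
  obtain ⟨⟨V, hV⟩, hxV⟩ := exists_affine_mem x
  have : IsNoetherianRing Γ(X, V) := IsLocallyNoetherian.component_noetherian ⟨V, hV⟩
  let p := (hV.primeIdealOf ⟨x, hxV⟩).asIdeal
  letI : Algebra Γ(X, V) (X.presheaf.stalk x) := (X.presheaf.germ V x hxV).hom.toAlgebra
  haveI : IsLocalization.AtPrime (X.presheaf.stalk x) p := hV.isLocalization_stalk ⟨x, hxV⟩
  haveI : IsNoetherianRing (X.presheaf.stalk x) :=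
    IsLocalization.isNoetherianRing p.primeCompl _ ‹IsNoetherianRing Γ(X, V)›
  set K := J.ideal ⟨V, hV⟩ with hK
  set φ := algebraMap Γ(X, V) (X.presheaf.stalk x) with hφ
  have hI : st J x = K.map φ := st_eq J ⟨V, hV⟩ hxV
  obtain ⟨g, hg0, hg⟩ := DivX.exists_span_of_assPrimes (K.map φ) (by
    intro P hP a hPa
    obtain ⟨⟨b, t⟩, hbt⟩ := IsLocalization.surj p.primeCompl a
    have hPb : ∀ c, c ∈ P ↔ c * φ b ∈ K.map φ := fun c => by
      rw [hPa, ← hbt, ← mul_assoc, Ideal.mul_unit_mem_iff_mem _ (IsLocalization.map_units _ t)]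
    let q : PrimeSpectrum Γ(X, V) := ⟨P.comap φ, inferInstance⟩
    have hqp : ∀ w, w ∉ p → w ∉ q.asIdeal := fun w hw hwq =>
      hP.ne_top (Ideal.eq_top_of_isUnit_mem _ hwq (IsLocalization.map_units _ (⟨w, hw⟩ : p.primeCompl)))
    let y := hV.fromSpec q
    have hyV : y ∈ V := by
      have : y ∈ hV.fromSpec.opensRange := ⟨q, rfl⟩
      rwa [IsAffineOpen.opensRange_fromSpec] at this
    have hyq : hV.primeIdealOf ⟨y, hyV⟩ = q :=
      hV.fromSpec.isOpenEmbedding.injective (hV.fromSpec_primeIdealOf ⟨_, hyV⟩)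
    have hyU : y ∈ U := by
      by_contra hyU
      have hgood : ∀ T : Finset Γ(X, V), (∀ c ∈ T, c ∈ q.asIdeal) →
          ∃ w ∉ p, ∀ c ∈ T, w * (c * b) ∈ K := by
        intro T
        induction T using Finset.induction with
        | empty => exact fun _ => ⟨1, fun h => (hV.primeIdealOf ⟨x, hxV⟩).isPrime.ne_top
            ((Ideal.eq_top_iff_one _).mpr h), fun c hc => absurd hc (Finset.notMem_empty c)⟩
        | insert c T _ ih =>
          intro hT
          obtain ⟨w, hw, hwT⟩ := ih fun d hd => hT d (Finset.mem_insert_of_mem hd)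
          have h1 : φ (c * b) ∈ K.map φ := by
            rw [map_mul]; exact (hPb _).mp (hT c (Finset.mem_insert_self c T))
          obtain ⟨w', hw', hwc⟩ :=
            (IsLocalization.algebraMap_mem_map_algebraMap_iff p.primeCompl _ K _).mp h1
          refine ⟨w * w', fun h => ((hV.primeIdealOf ⟨x, hxV⟩).isPrime.mem_or_mem h).elim hw hw', fun d hd => ?_⟩
          rcases Finset.mem_insert.mp hd with rfl | hd
          · rw [mul_assoc]; exact K.mul_mem_left _ hwc
          · rw [mul_comm w w', mul_assoc]; exact K.mul_mem_left _ (hwT d hd)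
      obtain ⟨T, hT⟩ := (IsNoetherian.noetherian q.asIdeal : q.asIdeal.FG)
      obtain ⟨w, hw, hwT⟩ := hgood T fun c hc => hT ▸ Ideal.subset_span hc
      have hwb : w * b ∈ K := by
        refine mem_map_of_germ D J hJdef ⟨V, hV⟩ _ fun z hzV hzU => ?_
        obtain ⟨c, hcT, hcz⟩ : ∃ c ∈ T, c ∉ (hV.primeIdealOf ⟨z, hzV⟩).asIdeal := by
          by_contra hcon
          push Not at hcon
          have hle : q ≤ hV.primeIdealOf ⟨z, hzV⟩ := by
            show q.asIdeal ≤ _
            rw [← hT]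
            exact Ideal.span_le.mpr hcon
          have h3 : y ⤳ z := by
            have := ((PrimeSpectrum.le_iff_specializes _ _).mp hle).map hV.fromSpec.continuous
            rwa [hV.fromSpec_primeIdealOf] at this
          exact hyU (h3.mem_open U.isOpen hzU)
        have hu : IsUnit (X.presheaf.germ V z hzV c) := by
          rw [← Scheme.mem_basicOpen X c z hzV]
          exact (QCoh.mem_basicOpen_iff_notMem hV hzV c).mpr hcz
        have h4 := Ideal.mem_map_of_mem (X.presheaf.germ V z hzV).hom (hwT c hcT)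
        change X.presheaf.germ V z hzV (w * (c * b)) ∈ CDivEq.stk J ⟨V, hV⟩ hzV at h4
        rw [← st_eq J ⟨V, hV⟩ hzV, show w * (c * b) = w * b * c by ring, map_mul,
          Ideal.mul_unit_mem_iff_mem _ hu] at h4
        exact h4
      apply hP.ne_top
      rw [Ideal.eq_top_iff_one, hPb, one_mul,
        ← Ideal.unit_mul_mem_iff_mem _ (IsLocalization.map_units _ (⟨w, hw⟩ : p.primeCompl))]
      show φ w * φ b ∈ K.map φ
      rw [← map_mul]
      exact Ideal.mem_map_of_mem _ hwb
    obtain ⟨gy, hgy, hgyJ⟩ := st_comap_gen J D hJ hD y hyU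
    letI : Algebra Γ(X, V) (X.presheaf.stalk y) := (X.presheaf.germ V y hyV).hom.toAlgebra
    haveI : IsLocalization.AtPrime (X.presheaf.stalk y) q.asIdeal := by
      have := hV.isLocalization_stalk ⟨y, hyV⟩
      convert this using 2 <;> first | rfl | exact hyq.symm
    have hKy : K.map (algebraMap Γ(X, V) (X.presheaf.stalk y)) = Ideal.span {gy} :=
      (st_eq J ⟨V, hV⟩ hyV).symm.trans hgyJ
    obtain ⟨⟨r, t⟩, hrt⟩ := IsLocalization.surj q.asIdeal.primeCompl gy
    have hKy' : K.map (algebraMap Γ(X, V) (X.presheaf.stalk y)) =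
        Ideal.span {algebraMap Γ(X, V) (X.presheaf.stalk y) r} := by
      rw [hKy, ← hrt, Ideal.span_singleton_mul_right_unit (IsLocalization.map_units _ t)]
    have hne : algebraMap Γ(X, V) (X.presheaf.stalk y) r ≠ 0 := by
      rw [← hrt]
      intro h0
      rw [(IsLocalization.map_units (X.presheaf.stalk y) t).mul_left_eq_zero] at h0
      exact zero_notMem_nonZeroDivisors (h0 ▸ hgy)
    refine height_eq_one_of_colon (K.map φ) P (φ b) hPb (φ r) (fun h0 => hne ?_) ?_ ?_
    · obtain ⟨w, hw⟩ := (IsLocalization.map_eq_zero_iff p.primeCompl _ r).mp h0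
      exact (IsLocalization.map_eq_zero_iff q.asIdeal.primeCompl _ r).mpr ⟨⟨w.1, hqp _ w.2⟩, hw⟩
    · obtain ⟨w, hw, hwr⟩ := (IsLocalization.algebraMap_mem_map_algebraMap_iff q.asIdeal.primeCompl
        (X.presheaf.stalk y) K r).mp (hKy' ▸ Ideal.mem_span_singleton_self _)
      exact ⟨φ w, hw, by rw [← map_mul]; exact Ideal.mem_map_of_mem _ hwr⟩
    · intro c hc
      obtain ⟨⟨⟨k, hk⟩, t'⟩, hct⟩ := (IsLocalization.mem_map_algebraMap_iff p.primeCompl _).mp hc
      have h5 : algebraMap Γ(X, V) (X.presheaf.stalk y) k ∈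
          (Ideal.span {r}).map (algebraMap Γ(X, V) (X.presheaf.stalk y)) := by
        rw [Ideal.map_span, Set.image_singleton, ← hKy']
        exact Ideal.mem_map_of_mem _ hk
      obtain ⟨w, hw, hwk⟩ :=
        (IsLocalization.algebraMap_mem_map_algebraMap_iff q.asIdeal.primeCompl _ _ k).mp h5
      obtain ⟨m, hm⟩ := Ideal.mem_span_singleton.mp hwk
      refine ⟨φ w, hw, (IsUnit.dvd_mul_right (IsLocalization.map_units _ t')).mp ⟨φ m, ?_⟩⟩
      calc φ w * c * φ t'.1 = φ w * φ k := by rw [mul_assoc]; exact congrArg (φ w * ·) hct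
        _ = φ r * φ m := by rw [← map_mul, hm, map_mul])
  exact ⟨g, mem_nonZeroDivisors_of_ne_zero hg0, hI.trans hg⟩


/-- Let X be locally Noetherian, U open, and D an effective Cartier divisor on U. If the local ring of X
at every point outside U is a unique factorisation domain, then there is an effective Cartier
divisor D' on X whose restriction (inverse image ideal) to U is D. -/
theorem result (X : Scheme.{u}) [IsLocallyNoetherian X] (U : X.Opens)
    (D : (U : Scheme.{u}).IdealSheafData) (hD : BlowUp.IsEffCartierIdeal D)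
    (hufd : ∀ x : X, x ∉ U → IsDomain (X.presheaf.stalk x) ∧ UniqueFactorizationMonoid (X.presheaf.stalk x)) :
    ∃ D' : X.IdealSheafData, BlowUp.IsEffCartierIdeal D' ∧ D'.comap U.ι = D := by
  refine ⟨D.map U.ι, Groth.Agent.S1570.result X _ fun x _ V hxV => ?_,
    MorLib.IdealFG.comap_map_self U.ι D⟩
  have he : Ideal.map (X.presheaf.germ V.1 x hxV).hom ((D.map U.ι).ideal V) =
      Groth.Agent.Div21Lib.st (D.map U.ι) x :=
    (Groth.Agent.Div21Lib.st_eq _ V hxV).symm
  rw [he]
  by_cases hxU : x ∈ U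
  · exact st_comap_gen _ D (MorLib.IdealFG.comap_map_self U.ι D) hD x hxU
  · obtain ⟨h1, h2⟩ := hufd x hxU
    exact exists_gen_outside D hD _ rfl x hxU

end Groth.Agent.S1660
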