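import Groth.Statements.S1663
import Groth.Agent.S1607
import Groth.Agent.QCoh.RpushClosed

set_option autoImplicit false
universe u
open CategoryTheory CategoryTheory.Limits AlgebraicGeometry
open Variety

namespace Groth.Agent.S1663

/-- Let X be a scheme whose local rings are Noetherian of Krull dimension at most one, j : U → X the
inclusion of a retrocompact open (j quasi-compact) and F a quasi-coherent O_U-module. Then R^p j_* F
vanishes for all p > 0. -/
theorem result (X : Scheme.{u})
    (hX : ∀ x : X, IsNoetherianRing (X.presheaf.stalk x) ∧ ringKrullDim (X.presheaf.stalk x) ≤ 1)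
    (U : X.Opens) [QuasiCompact U.ι] [HasInjectiveResolutions (U : Scheme.{u}).Modules]
    (F : (U : Scheme.{u}).Modules) (hF : Coh.IsQCoh F) (p : ℕ) (hp : 0 < p) :
    IsZero ((Coh.Rpush U.ι p).obj F) := by
  obtain ⟨q, rfl⟩ := Nat.exists_eq_add_of_le' hp
  haveI : IsAffineHom U.ι := by
    refine isAffineHom_of_forall_exists_isAffineOpen _ fun x => ?_
    obtain ⟨V, hV, hxV, -⟩ := exists_isAffineOpen_mem_and_subset (U := (⊤ : X.Opens)) (x := x) trivial
    refine ⟨V, hxV, hV, ?_⟩
    haveI : IsAffine (V : Scheme.{u}) := hV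
    apply U.ι.isAffineOpen_iff_of_isOpenImmersion.1
    rw [Scheme.Hom.image_preimage_eq_opensRange_inf, Scheme.Opens.opensRange_ι]
    have hc : IsCompact ((V.ι ⁻¹ᵁ U : (V : Scheme.{u}).Opens) : Set (V : Scheme.{u})) := by
      rw [V.ι.isOpenEmbedding.isEmbedding.isCompact_iff]
      have h := (U.ι.isCompact_preimage hV.isCompact).image U.ι.continuous
      rw [Scheme.Hom.coe_preimage, Set.image_preimage_eq_inter_range, Scheme.Opens.range_ι] at h
      rw [Scheme.Hom.coe_preimage, Set.image_preimage_eq_inter_range, Scheme.Opens.range_ι, Set.inter_comm]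
      exact h
    have h1 := (Groth.Agent.S1607.result (V : Scheme.{u})
      (fun v => ⟨@isNoetherianRing_of_ringEquiv _ _ _ _ (V.stalkIso v).symm.commRingCatIsoToRingEquiv (hX v.1).1,
        (ringKrullDim_eq_of_ringEquiv (V.stalkIso v).commRingCatIsoToRingEquiv).trans_le (hX v.1).2⟩)
      (V.ι ⁻¹ᵁ U) hc).image_of_isOpenImmersion V.ι
    rw [Scheme.Hom.image_preimage_eq_opensRange_inf, Scheme.Opens.opensRange_ι, inf_comm] at h1
    exact h1
  haveI : HasInjectiveResolutions X.Modules := inferInstance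
  haveI : Epi (Groth.Agent.QCoh.godπ ((Coh.push U.ι).obj F) q) := (Groth.Agent.QCoh.godSES_shortExact _ q).epi_g
  obtain ⟨e⟩ := Groth.Agent.QCoh.nonempty_Rpush_affine_push U.ι (𝟙 X) hF (q + 1)
  rw [Category.comp_id] at e
  obtain ⟨e'⟩ := Groth.Agent.QCoh.nonempty_Rpush_iso (𝟙 X) ((Coh.push U.ι).obj F) q
  haveI : (Scheme.Modules.pushforward (𝟙 X)).PreservesEpimorphisms :=
    Functor.PreservesEpimorphisms.of_iso (Scheme.Modules.pushforwardId X).symm
  refine Limits.IsZero.of_iso ?_ (e.symm ≪≫ e')
  exact Limits.isZero_cokernel_of_epi _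

end Groth.Agent.S1663
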