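import Groth.Statements.S16630
import Groth.Agent.StabPush7.Main
import Groth.Agent.NormPush7.Normal
import Groth.Agent.CurveBC.FiniteDim

set_option autoImplicit false
set_option backward.isDefEq.respectTransparency false
set_option backward.isDefEq.respectTransparency.types false
set_option linter.style.haveILetI false
set_option maxHeartbeats 1000000
universe u
open CategoryTheory CategoryTheory.Limits AlgebraicGeometry
open TFCurv

namespace Groth.Agent.S16630

/-- Let X be an integral proper curve (integral, proper, of dimension one) over an algebraically closed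
field k, ν : X~ → X its normalisation, L an ample invertible module on X and E a finite locally free
module of rank n on X~. Then E is semistable if and only if ν_*E is semistable on X. Semistability
is taken for pure one-dimensional sheaves with respect to reduced Hilbert polynomials, E being
polarised by ν^*L and ν_*E by L; on an integral curve this is the slope condition deg F · rk E ≤ deg
E · rk F for every nonzero torsion-free subsheaf F, degrees being defined through the Euler
characteristic, and it does not depend on the ample polarisation. -/
theorem result (k : Type u) [Field k] [IsAlgClosed k] (X : Scheme.{u}) [X.Over (Spec (CommRingCat.of k))] [IsIntegral X] [IsProper (X ↘ Spec (CommRingCat.of k))] (hdim : topologicalKrullDim X = 1) [QuasiCompact (X.fromSpecStalk (genericPoint X))] [QuasiSeparated (X.fromSpecStalk (genericPoint X))] (L : X.Modules) (hL : CohB1.IsAmple L) (n : ℕ) (E : (Curv2.normalization X).Modules) (hE : FlatMod.IsFinLocFreeOfRank n E) :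
    letI : (Curv2.normalization X).Over (Spec (CommRingCat.of k)) := ⟨Curv2.normalizationι X ≫ X ↘ Spec (CommRingCat.of k)⟩
    ShStab.IsSemistable k (Curv2.normalization X) ((Scheme.Modules.pullback (Curv2.normalizationι X)).obj L) E 1 ↔ ShStab.IsSemistable k X L ((Coh.push (Curv2.normalizationι X)).obj E) 1 := by
  letI : (Curv2.normalization X).Over (Spec (CommRingCat.of k)) := ⟨Curv2.normalizationι X ≫ X ↘ Spec (CommRingCat.of k)⟩
  haveI : IsLocallyNoetherian X := LocallyOfFiniteType.isLocallyNoetherian (X ↘ Spec (CommRingCat.of k))
  have hN : ∀ U : X.affineOpens, CAlg.IsNagata Γ(X, (U : X.Opens)) :=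
    fun U => Groth.Agent.NagataLib.isNagata_affineOpen (X ↘ Spec (CommRingCat.of k)) U
  haveI := Groth.Agent.NormCurve.isFinite_normalizationι X hN
  haveI : IsIntegral (Curv2.normalization X) :=
    inferInstanceAs (IsIntegral (X.fromSpecStalk (genericPoint X)).normalization)
  haveI := Groth.Agent.NormCurve.isLocallyNoetherian_normalization X hdim.le
  obtain ⟨U, hU, hUiso⟩ := Groth.Agent.NormCurve.exists_isIso X hN
  haveI := hUiso
  have hgen : Curv2.normalizationι X (genericPoint (Curv2.normalization X)) = genericPoint X := by
    obtain ⟨w, hw⟩ := Groth.Agent.NormCurve.genericPoint_mem_range X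
    exact (((genericPoint_specializes w).map (Curv2.normalizationι X).continuous).trans (hw ▸ specializes_rfl)).antisymm
      (genericPoint_specializes _) |>.eq
  have hηU : genericPoint X ∈ U := ((genericPoint_spec X).mem_open_set_iff U.2).2 (by
    rw [Set.univ_inter]; exact hU.nonempty)
  have hU' : Dense ((Curv2.normalizationι X ⁻¹ᵁ U : (Curv2.normalization X).Opens) : Set (Curv2.normalization X)) :=
    (Curv2.normalizationι X ⁻¹ᵁ U).2.dense ⟨genericPoint _, show _ ∈ U by rw [hgen]; exact hηU⟩
  haveI : Surjective (Curv2.normalizationι X) := ⟨fun x => by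
    obtain ⟨y, hy⟩ : x ∈ Set.range (Curv2.normalizationι X) := (genericPoint_specializes x).mem_closed
      (Curv2.normalizationι X).isClosedMap.isClosed_range ⟨_, hgen⟩
    exact ⟨y, hy⟩⟩
  exact (Groth.Agent.StabPush7.semistable_and_stable_iff (Curv2.normalizationι X) hU hU' hgen rfl hdim
    (Groth.Agent.CurveBC.topologicalKrullDim_finite_cover (Curv2.normalizationι X) hdim) hL
    (Groth.Agent.CurveDeg.isCoh_of_isFinLocFree fun y => let ⟨W, hy, h⟩ := hE y; ⟨W, n, hy, h⟩)
    (Groth.Agent.NormPush7.isTorsionFree_of_finLocFree hE)).1

end Groth.Agent.S16630
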