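import Groth.Statements.S16638
import Groth.Agent.RootChartLib.ClosedGroup
import Groth.Agent.RootChartLib.PosFun

set_option autoImplicit false
open CategoryTheory MonoidalCategory CartesianMonoidalCategory MonObj GrpObj AlgebraicGeometry
universe u
open RedSub

set_option backward.isDefEq.respectTransparency false
set_option backward.isDefEq.respectTransparency.types false

namespace Groth.Agent.S16638

/-- Let G be a reductive group scheme over a scheme S with a splitting D, and let Ψ be a closed set of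
roots (a, b ∈ Ψ with a + b a root forces a + b ∈ Ψ) containing no pair of opposite roots. Then the
root groups U_a, a ∈ Ψ, directly span, in any order, one and the same closed subgroup scheme U_Ψ of
G: U_Ψ is smooth over S with connected geometric fibres containing no non-trivial subtorus, it is
normalised by the torus of the splitting, and for every enumeration of Ψ the ordered product of the
root homomorphisms is an isomorphism from a power of the additive group onto U_Ψ. -/
theorem result {S : Scheme.{u}} {G : Over S} [GrpObj G]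
    (D : Red.SplitRed G) (Ψ : Set D.idx)
    (hcl : ∀ a b c : D.idx, a ∈ Ψ → b ∈ Ψ → D.P.root a + D.P.root b = D.P.root c → c ∈ Ψ)
    (hneg : ∀ a b : D.idx, a ∈ Ψ → D.P.root b = -D.P.root a → b ∉ Ψ) :
    ∃ (U : Over S) (_ : GrpObj U) (v : U ⟶ G), IsMonHom v ∧ IsClosedImmersion v.left ∧ Smooth U.hom ∧
      (∀ s : S, ConnectedSpace (Red.geomFibre s U).left ∧
        Red.HasNoSubtorus (AlgebraicClosure (S.residueField s)) (Red.geomFibre s U)) ∧
      (∀ (X : Over S) (t : X ⟶ D.T) (x : X ⟶ U), ∃ x' : X ⟶ U, (t ≫ D.i) * (x ≫ v) * (t ≫ D.i)⁻¹ = x' ≫ v) ∧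
      ∀ {m : ℕ} (e : Fin m → D.idx), RedSub.Enumerates Ψ e →
        ∃ ψ : RedSub.pow (Red.Ga S) m ≅ U, ψ.hom ≫ v = RedSub.prodMap (Red.Ga S) m (fun k => D.u (e k)) := by
    classical
    have hcl' : RootD.IsClosedSub D.P Ψ := fun i j k hi hj hk => hcl i j k hi hj hk.symm
    have hd : ∀ i ∈ Ψ, D.P.reflectionPerm i i ∉ Ψ := fun i hi => hneg i _ hi (Groth.Agent.RootData.root_neg D.P i)
    obtain ⟨f, -, hpos⟩ := Groth.Agent.RootChartLib.exists_functional_of_closed hcl' hd
    have hc : ∀ (r a b : D.idx) (i j : ℕ), a ∈ Ψ → b ∈ Ψ → 1 ≤ i → 1 ≤ j →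
        D.P.root r = i • D.P.root a + j • D.P.root b → r ∈ Ψ := fun r a b i j ha hb _ _ h =>
      Groth.Agent.RootData.closed_iff_natSpan.mp hcl' r (h ▸ add_mem
        (nsmul_mem (Groth.Agent.RootData.root_mem_natSpan ha) i) (nsmul_mem (Groth.Agent.RootData.root_mem_natSpan hb) j))
    obtain ⟨e₀, he₀, hr₀⟩ := Groth.Agent.RootChartLib.exists_enum fun r => r ∈ Ψ
    obtain ⟨str, hv⟩ := Groth.Agent.RootChartLib.exists_grpObj_pow D e₀ f Ψ hpos hc he₀ hr₀
    letI := str
    haveI := hv
    have hp : ∀ i, 0 < f (D.P.root (e₀ i)) := fun i => hpos _ ((hr₀ _).mp ⟨i, rfl⟩)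
    refine ⟨_, str, _, hv, Groth.Agent.RootChartLib.isClosedImmersion_prodMap_left D e₀ f hp he₀,
      Groth.Agent.RootChartLib.smooth_pow S _,
      fun s => ⟨Groth.Agent.RootChartLib.connected_pow_fibre (Red.geomPt s) _,
        Groth.Agent.RootChartLib.hasNoSubtorus_fibre D e₀ f Ψ hpos hc he₀ hr₀ (Red.geomPt s)⟩,
      fun X t x => Groth.Agent.RootChartLib.exists_torus_conj D e₀ f Ψ hpos hc he₀ hr₀ t x, ?_⟩
    intro m e he
    have hr : ∀ r, r ∈ Set.range e ↔ r ∈ Ψ := fun r => by rw [he.2]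
    have hp' : ∀ i, 0 < f (D.P.root (e i)) := fun i => hpos _ ((hr _).mp ⟨i, rfl⟩)
    obtain ⟨z, hz⟩ := (Groth.Agent.RootChartLib.exists_fac_iff D e₀ f Ψ hpos hc he₀ hr₀ _).mpr
      ((Groth.Agent.RootChartLib.exists_fac_iff D e f Ψ hpos hc he.1 hr
        (RedSub.prodMap (Red.Ga S) m fun k => D.u (e k))).mp ⟨𝟙 _, Category.id_comp _⟩)
    obtain ⟨z', hz'⟩ := (Groth.Agent.RootChartLib.exists_fac_iff D e f Ψ hpos hc he.1 hr _).mpr
      ((Groth.Agent.RootChartLib.exists_fac_iff D e₀ f Ψ hpos hc he₀ hr₀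
        (RedSub.prodMap (Red.Ga S) _ fun k => D.u (e₀ k))).mp ⟨𝟙 _, Category.id_comp _⟩)
    haveI := Groth.Agent.RootChartLib.mono_prodMap D e₀ f hp he₀
    haveI := Groth.Agent.RootChartLib.mono_prodMap D e f hp' he.1
    exact ⟨⟨z, z', (cancel_mono (RedSub.prodMap (Red.Ga S) m fun k => D.u (e k))).mp
        (by rw [Category.assoc, hz', hz, Category.id_comp]),
      (cancel_mono (RedSub.prodMap (Red.Ga S) _ fun k => D.u (e₀ k))).mp
        (by rw [Category.assoc, hz, hz', Category.id_comp])⟩, hz⟩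

end Groth.Agent.S16638
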