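import Groth.Statements.S1666
import Groth.Agent.IntNum.Push
import Groth.Agent.Lib.CurvePsi
import Groth.Agent.KFlatLib.Scheme.ProjLocFree
import Groth.Agent.S0219
import Groth.Agent.Lib.CurveDeg

set_option autoImplicit false
universe u
open CategoryTheory CategoryTheory.Limits AlgebraicGeometry
open Variety

namespace Groth.Agent.S1666

/-- Let f : X' → X be a k-morphism of proper schemes of dimension at most one over k which is an
isomorphism over a dense open of X whose preimage is dense in X'. Then for every finite locally free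
module E of rank n on X, deg(f^* E) = deg(E). -/
theorem result (k : Type u) [Field k] (X X' : Scheme.{u}) [X.Over (Spec (CommRingCat.of k))] [X'.Over (Spec (CommRingCat.of k))]
    [IsProper (X ↘ (Spec (CommRingCat.of k)))] [IsProper (X' ↘ (Spec (CommRingCat.of k)))] (hdim : topologicalKrullDim X ≤ 1) (hdim' : topologicalKrullDim X' ≤ 1)
    (f : X' ⟶ X) (hf : f ≫ (X ↘ (Spec (CommRingCat.of k))) = X' ↘ (Spec (CommRingCat.of k)))
    (U : X.Opens) (hU : Dense (U : Set X)) (hU' : Dense ((f ⁻¹ᵁ U : X'.Opens) : Set X')) (hfU : IsIso (f ∣_ U))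
    (n : ℕ) (E : X.Modules) (hE : FlatMod.IsFinLocFreeOfRank n E) :
    Curv2.deg k X' ((Scheme.Modules.pullback f).obj E) n = Curv2.deg k X E n := by
  haveI := Groth.Agent.CurveCohLib.isNoetherian_of_proper (k := k) (X := X)
  haveI := Groth.Agent.CurveCohLib.isNoetherian_of_proper (k := k) (X := X')
  haveI := hfU
  have hmem : ∀ {S : Scheme.{u}} [AlgebraicGeometry.IsNoetherian S], topologicalKrullDim S ≤ 1 → ∀ (W : S.Opens), Dense (W : Set S) →
      ∀ x : S, ¬ IsClosed ({x} : Set S) → x ∈ W := fun {S} _ hS W hW x hx => by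
    obtain ⟨z, hzW, hz⟩ : ∃ z ∈ W, z ⤳ x ∨ x ⤳ z := by
      by_contra hcon
      push Not at hcon
      have hgen : ∀ η : S, η ⤳ x → η = x := fun η hη => by
        by_contra hne
        exact hx (Groth.Agent.CurvePsi.isClosed_of_dim_le_one hS hη (fun h => hne h.symm))
      haveI : QuasiSober S := inferInstance
      let C := irreducibleComponent x
      have hC : closure ({x} : Set S) = C := by
        obtain ⟨η, hη⟩ := QuasiSober.sober (isIrreducible_irreducibleComponent (x := x)) isClosed_irreducibleComponent
        have : η = x := hgen η (hη.specializes mem_irreducibleComponent)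
        rw [← this]; exact hη
      have hfin : (irreducibleComponents (S : Type u)).Finite := TopologicalSpace.NoetherianSpace.finite_irreducibleComponents
      have hne := hW.inter_open_nonempty (⋃₀ (irreducibleComponents (S : Type u) \ {C}))ᶜ (by
        rw [Set.sUnion_eq_biUnion, isOpen_compl_iff]
        exact hfin.sdiff.isClosed_biUnion fun T hT => isClosed_of_mem_irreducibleComponents T hT.1) ⟨x, fun hxm => by
          obtain ⟨T, ⟨hT, hTC⟩, hxT⟩ := hxm
          have hCT : C ⊆ T := hC ▸ (isClosed_of_mem_irreducibleComponents T hT).closure_subset_iff.2 (Set.singleton_subset_iff.2 hxT)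
          exact hTC (Set.Subset.antisymm ((irreducibleComponent_mem_irreducibleComponents x).2 hT.1 hCT) hCT)⟩
      obtain ⟨z, hz, hzW⟩ := hne
      refine (hcon z hzW).2 (specializes_iff_mem_closure.2 ?_)
      rw [hC]
      by_contra hzC
      exact hz ⟨irreducibleComponent z, ⟨irreducibleComponent_mem_irreducibleComponents z, fun h => hzC (h ▸ mem_irreducibleComponent)⟩, mem_irreducibleComponent⟩
    rcases hz with hz | hz
    · by_cases h : z = x
      · exact h ▸ hzW
      · exact absurd (Groth.Agent.CurvePsi.isClosed_of_dim_le_one hS hz (fun e => h e.symm)) hx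
    · exact hz.mem_open W.2 hzW
  haveI : IsProper (f ≫ (X ↘ Spec (CommRingCat.of k))) := hf ▸ inferInstance
  haveI : IsProper f := IsProper.of_comp f (X ↘ Spec (CommRingCat.of k))
  haveI : IsFinite f := by
    refine Groth.Agent.S0219.result k X' X _ _ f hf hdim' fun Z hZ hd => ?_
    obtain ⟨η, hη⟩ := QuasiSober.sober hZ.1 (isClosed_of_mem_irreducibleComponents Z hZ)
    by_contra hnt
    rw [Set.not_nontrivial_iff] at hnt
    have hηc : ¬ IsClosed ({η} : Set X') := fun h => by
      have hZe : Z = {η} := by rw [← hη.def, h.closure_eq]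
      subst hZe
      haveI : Subsingleton ↥({η} : Set X') := Set.subsingleton_singleton.coe_sort
      haveI : Nonempty ↥({η} : Set X') := ⟨⟨η, rfl⟩⟩
      have := topologicalKrullDim_zero_of_discreteTopology ↥({η} : Set X')
      rw [hd] at this
      exact absurd this (by decide)
    have hηU : f.base η ∈ U := hmem hdim' (f ⁻¹ᵁ U) hU' η hηc
    refine hηc ?_
    have hZU : Z = {η} := Set.eq_singleton_iff_unique_mem.2 ⟨hη.mem, fun z hz => by
      have he : f.base z = f.base η := hnt ⟨z, hz, rfl⟩ ⟨η, hη.mem, rfl⟩
      have hinj : Function.Injective (f ∣_ U).base :=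
        (f ∣_ U).isOpenEmbedding.injective
      have := hinj (a₁ := ⟨z, show f.base z ∈ U by rw [he]; exact hηU⟩) (a₂ := ⟨η, hηU⟩)
        (Subtype.ext ((morphismRestrict_base_coe f U _).trans (he.trans (morphismRestrict_base_coe f U ⟨η, hηU⟩).symm)))
      exact congrArg Subtype.val this⟩
    exact hZU ▸ isClosed_of_mem_irreducibleComponents Z hZ
  have hEf : FlatMod.IsFinLocFree E := fun y => let ⟨W, hy, he⟩ := hE y; ⟨W, n, hy, he⟩
  have hp : Coh.IsQCoh ((Scheme.Modules.pullback f).obj E) :=
    Groth.Agent.QCoh.isQCoh_pullback f (Groth.Agent.CurveDeg.isCoh_of_isFinLocFree hEf).1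
  have hF : Coh.IsCoh ((Coh.push f).obj (Coh.structureModule X')) :=
    Groth.Agent.QCoh.isCoh_pushforward_finite f Groth.Agent.QCoh.isCoh_structureModule'
  obtain ⟨p⟩ : Nonempty ((DCoh.tensorBi.obj E).obj ((Coh.push f).obj (Coh.structureModule X')) ≅
      (Coh.push f).obj ((Scheme.Modules.pullback f).obj E)) := by
    obtain ⟨p⟩ := Groth.Agent.KFlatLib.nonempty_rpush_tensor_finLocFree f (Coh.structureModule X') E hEf 0
    exact ⟨(DCoh.tensorBi.obj E).mapIso ((Coh.push f).rightDerivedZeroIsoSelf.app (Coh.structureModule X')).symm ≪≫ p ≪≫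
      (Coh.push f).rightDerivedZeroIsoSelf.app _ ≪≫ (Coh.push f).mapIso
        (Groth.Agent.CurveTensor.commIso ((Scheme.Modules.pullback f).obj E) (Coh.structureModule X') ≪≫
          Groth.Agent.CurveTensor.structureTensorIso ((Scheme.Modules.pullback f).obj E))⟩
  let ψ := Groth.Agent.CurvePsi.eulerPsi k hE
  have h1 : ψ.toFun ((Coh.push f).obj (Coh.structureModule X')) =
      Curv2.deg k X' ((Scheme.Modules.pullback f).obj E) n := by
    show Curv2.euler k X _ - n * Curv2.euler k X _ = _
    rw [Groth.Agent.CurveCohLib.euler_congr (k := k) p, Groth.Agent.IntNum.euler_push k f hf hp,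
      Groth.Agent.IntNum.euler_push k f hf Groth.Agent.QCoh.isCoh_structureModule'.1]
    rfl
  have h2 : ψ.toFun (Coh.structureModule X) = Curv2.deg k X E n := by
    show Curv2.euler k X _ - n * Curv2.euler k X _ = _
    rw [Groth.Agent.CurveCohLib.euler_congr (k := k) (show (DCoh.tensorBi.obj E).obj (Coh.structureModule X) ≅ E from
      Groth.Agent.CurveTensor.commIso E (Coh.structureModule X) ≪≫ Groth.Agent.CurveTensor.structureTensorIso E)]
    rfl
  rw [← h1, ← h2]
  let v : Coh.structureModule X ⟶ (Coh.push f).obj (Coh.structureModule X') :=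
    SheafOfModules.unitToPushforwardObjUnit f.toRingCatSheafHom
  haveI : IsIso ((Scheme.Modules.restrictFunctor U.ι).map v) := by
    refine Scheme.Modules.Hom.isIso_iff_isIso_app.mpr fun W => (ConcreteCategory.isIso_iff_bijective _).mpr ?_
    have h : IsIso (f.app (U.ι ''ᵁ W)) := by
      haveI : IsIso (f.app (U.ι ''ᵁ W) ≫ X'.presheaf.map (eqToHom (image_morphismRestrict_preimage f U W)).op) :=
        morphismRestrict_app f U W ▸ (inferInstance : IsIso ((f ∣_ U).app W))
      exact IsIso.of_isIso_comp_right _ (X'.presheaf.map (eqToHom (image_morphismRestrict_preimage f U W)).op)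
    exact (ConcreteCategory.isIso_iff_bijective (f.app (U.ι ''ᵁ W))).mp h
  exact (ψ.eq_of_iso_on U Groth.Agent.QCoh.isCoh_structureModule' hF
    (asIso ((Scheme.Modules.restrictFunctor U.ι).map v))
    fun x hx hxc => absurd (hmem hdim U hU x hxc) hx).symm

end Groth.Agent.S1666
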