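import Groth.Statements.S16667
import Groth.Agent.MeroDepth.Basic

set_option autoImplicit false
universe u
open CAlg

namespace Groth.Agent.S16667

/-- Let A be a Noetherian integral domain satisfying Serre's condition (S_2), with fraction field K. An
element of K which lies in the localization A_p for every prime p of A with depth(A_p) = 1 lies in
A. -/
theorem result {A : Type u} [CommRing A] [IsDomain A]
    [IsNoetherianRing A] (hS2 : LocCoh.HasSk 2 A A) (x : FractionRing A)
    (hx : ∀ (p : Ideal A) [p.IsPrime],
      LocCoh.depth (Localization.AtPrime p) (Localization.AtPrime p) = 1 →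
        x ∈ Set.range (algebraMap (Localization.AtPrime p) (FractionRing A))) :
    x ∈ Set.range (algebraMap A (FractionRing A)) := by
  obtain ⟨⟨a, b⟩, hab⟩ := IsLocalization.surj (nonZeroDivisors A) x
  by_contra hne
  have hdvd : ¬ (b : A) ∣ a := by
    rintro ⟨d, rfl⟩
    refine hne ⟨d, ?_⟩
    have hb : algebraMap A (FractionRing A) b ≠ 0 := (IsLocalization.map_units _ b).ne_zero
    refine (mul_right_cancel₀ hb ?_)
    rw [hab, map_mul, mul_comm]
  let D : Ideal A :=
    { carrier := {c | (b : A) ∣ c * a}
      add_mem' := fun {c d} hc hd => by simpa [add_mul] using dvd_add hc hd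
      zero_mem' := by simp
      smul_mem' := fun r c hc => by simpa [smul_eq_mul, mul_assoc] using hc.mul_left r }
  have hD : D ≠ ⊤ := fun h => hdvd (by simpa [D] using (h ▸ Submodule.mem_top : (1 : A) ∈ D))
  obtain ⟨m, hm, hDm⟩ := Ideal.exists_le_maximal D hD
  haveI := hm.isPrime
  obtain ⟨q, -, hdepth, hq⟩ := Groth.Agent.MeroDepth.exists_depth_one_prime m a b b.2
    fun c hc h => hc (hDm h)
  have hd : LocCoh.depth (Localization.AtPrime q.asIdeal) (Localization.AtPrime q.asIdeal) = 1 :=
    (Groth.Agent.Alg6.depth_localized_eq q.asIdeal (Localization.AtPrime q.asIdeal)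
      (Algebra.linearMap A (Localization.AtPrime q.asIdeal))).trans hdepth
  obtain ⟨z, hz⟩ := hx q.asIdeal hd
  obtain ⟨⟨r, s⟩, hrs⟩ := IsLocalization.surj q.asIdeal.primeCompl z
  refine hq s s.2 ⟨r, IsFractionRing.injective A (FractionRing A) ?_⟩
  have h1 := congrArg (algebraMap (Localization.AtPrime q.asIdeal) (FractionRing A)) hrs
  rw [map_mul, hz, ← IsScalarTower.algebraMap_apply, ← IsScalarTower.algebraMap_apply] at h1
  rw [map_mul, map_mul, ← hab, ← h1]
  ring

end Groth.Agent.S16667
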