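import Groth.Statements.S16673
import Groth.Agent.TorsPtsLib.Isog

set_option autoImplicit false
universe u
open CategoryTheory CategoryTheory.Limits MonoidalCategory CartesianMonoidalCategory MonObj GrpObj AlgebraicGeometry
open AbVar

namespace Groth.Agent.S16673

/-- Let k be a field of characteristic p > 0 with an algebraic closure k̄, let X and Y be abelian
varieties over k (proper, geometrically integral, commutative k-group schemes) and let h : X → Y be
a homomorphism which is finite and surjective (an isogeny). If i and j are natural numbers such that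
for every m ≥ 0 the group X[p^m](k̄) of k̄-valued points of X killed by p^m (k̄-valued points being
the k-morphisms Spec k̄ → X, a group under the group law of X) is isomorphic to (ℤ/p^m)^i and the
group Y[p^m](k̄) is isomorphic to (ℤ/p^m)^j (groups of points written multiplicatively), then i = j:
the p-rank is an isogeny invariant. -/
theorem result (k : Type u) [Field k] (p : ℕ) [Fact p.Prime] [CharP k p]
    (X Y : Over (Spec (CommRingCat.of k)))
    [GrpObj X] [IsCommMonObj X] [IsProper X.hom] [GeometricallyIntegral X.hom]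
    [GrpObj Y] [IsCommMonObj Y] [IsProper Y.hom] [GeometricallyIntegral Y.hom]
    (h : X ⟶ Y) [IsMonHom h] [IsFinite h.left] [Surjective h.left]
    (i j : ℕ)
    (hi : ∀ m : ℕ, Nonempty (AbDual.torsPts X (p ^ m)
      (Over.mk (Spec.map (CommRingCat.ofHom (algebraMap k (AlgebraicClosure k))))) ≃*
      Multiplicative (Fin i → ZMod (p ^ m))))
    (hj : ∀ m : ℕ, Nonempty (AbDual.torsPts Y (p ^ m)
      (Over.mk (Spec.map (CommRingCat.ofHom (algebraMap k (AlgebraicClosure k))))) ≃*
      Multiplicative (Fin j → ZMod (p ^ m)))) :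
    i = j := by
  classical
  let T := Over.mk (Spec.map (CommRingCat.ofHom (algebraMap k (AlgebraicClosure k))))
  have hp := (Fact.out : p.Prime)
  have hc : ∀ {r : ℕ} {G : Type u} [Group G] (m : ℕ), (G ≃* Multiplicative (Fin r → ZMod (p ^ m))) →
      Finite G ∧ Nat.card G = (p ^ m) ^ r := fun {r G} _ m e => by
    haveI : NeZero (p ^ m) := ⟨(pow_pos hp.pos m).ne'⟩
    haveI : Finite G := Finite.of_equiv _ e.symm.toEquiv
    exact ⟨inferInstance, by rw [Nat.card_congr e.toEquiv, Nat.card_congr Multiplicative.toAdd, Nat.card_fun, Nat.card_fin, Nat.card_zmod]⟩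
  set c := Nat.card {a : T ⟶ X // a ≫ h = 1}
  have key : ∀ m, (p ^ m) ^ i ≤ c * (p ^ m) ^ j ∧ (p ^ m) ^ j ≤ c * (p ^ m) ^ i := fun m => by
    obtain ⟨e⟩ := hi m
    obtain ⟨e'⟩ := hj m
    haveI := (hc m e).1
    haveI := (hc m e').1
    have h2 := Groth.Agent.TorsPtsLib.card_tors_le (Spec.map (CommRingCat.ofHom (algebraMap k (AlgebraicClosure k)))) h (p ^ m)
    rw [(hc m e).2, (hc m e').2] at h2
    exact h2
  have aux : ∀ a b : ℕ, (∀ m, (p ^ m) ^ a ≤ c * (p ^ m) ^ b) → a ≤ b := fun a b hab => by
    by_contra hlt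
    push Not at hlt
    have h1 : (p ^ c) ^ (b + 1) ≤ c * (p ^ c) ^ b :=
      (Nat.pow_le_pow_right (pow_pos hp.pos c) hlt).trans (hab c)
    rw [pow_succ, mul_comm] at h1
    exact absurd (Nat.le_of_mul_le_mul_right h1 (pow_pos (pow_pos hp.pos c) b)) (not_le.mpr (Nat.lt_pow_self hp.one_lt))
  exact le_antisymm (aux i j fun m => (key m).1) (aux j i fun m => (key m).2)

end Groth.Agent.S16673
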