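import Groth.Statements.S16678
import Groth.Agent.CompSchemeLib.Component
import Groth.Agent.H23.LocNoethTop
-- import your own Groth.Agent.* helpers here

set_option autoImplicit false
set_option backward.isDefEq.respectTransparency false
set_option backward.isDefEq.respectTransparency.types false
set_option linter.style.haveILetI false
set_option maxHeartbeats 1000000
universe u
open CategoryTheory CategoryTheory.Limits AlgebraicGeometry
open Variety

namespace Groth.Agent.S16678
open Groth.Agent

/-- For a field k and a k-scheme X locally of finite type there are an étale k-scheme P and a k-morphism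
q : X → P such that every k-morphism h : X → Y to an étale k-scheme Y equals t ∘ q for exactly one
k-morphism t : P → Y; moreover q is flat and surjective, and for each point x of X the fibre
q⁻¹(q(x)), as a subset of X, is the connected component of x. (Étale means locally of finite
presentation with étale ring maps on affine pieces; no quasi-compactness is asked, so P may have
infinitely many points.) -/
theorem result (k : Type u) [Field k]
    (X : Scheme.{u}) (f : X ⟶ Spec (CommRingCat.of k)) [LocallyOfFiniteType f] :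
    ∃ (P : Scheme.{u}) (g : P ⟶ Spec (CommRingCat.of k)) (q : X ⟶ P), Etale g ∧ q ≫ g = f ∧
      (∀ (Y : Scheme.{u}) (gY : Y ⟶ Spec (CommRingCat.of k)) (h : X ⟶ Y), Etale gY → h ≫ gY = f →
        ∃! t : P ⟶ Y, t ≫ gY = g ∧ q ≫ t = h) ∧
      Flat q ∧ Surjective q ∧
      ∀ x : ↥X, (fun x' : ↥X => q x') ⁻¹' {q x} = connectedComponent x := by
  haveI : IsLocallyNoetherian X := LocallyOfFiniteType.isLocallyNoetherian f
  haveI : LocallyConnectedSpace X := H23.LocNoethTop.locallyConnectedSpace fun x => by
    obtain ⟨V, hV, hxV, -⟩ := exists_isAffineOpen_mem_and_subset (X := X) (TopologicalSpace.Opens.mem_top x)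
    haveI : IsNoetherianRing Γ(X, V) := IsLocallyNoetherian.component_noetherian ⟨V, hV⟩
    exact ⟨V, V.2.mem_nhds hxV, noetherianSpace_of_isAffineOpen V hV⟩
  let σ := _root_.ConnectedComponents X
  let C : σ → X.Opens := fun i => ⟨_root_.ConnectedComponents.mk ⁻¹' {i}, by
    obtain ⟨x, rfl⟩ := _root_.ConnectedComponents.surjective_coe i
    rw [connectedComponents_preimage_singleton]; exact isOpen_connectedComponent⟩
  have hC : ∀ (i : σ) (x : X), x ∈ C i ↔ _root_.ConnectedComponents.mk x = i := fun i x => Iff.rfl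
  haveI : ∀ i, Nonempty (C i).toScheme := fun i => by
    obtain ⟨x, rfl⟩ := _root_.ConnectedComponents.surjective_coe i
    exact ⟨⟨x, rfl⟩⟩
  haveI : ∀ i, PreconnectedSpace (C i).toScheme := fun i => by
    obtain ⟨x, rfl⟩ := _root_.ConnectedComponents.surjective_coe i
    refine isPreconnected_iff_preconnectedSpace.mp ?_
    show _root_.IsPreconnected (_root_.ConnectedComponents.mk ⁻¹' {_root_.ConnectedComponents.mk x})
    rw [connectedComponents_preimage_singleton]; exact isPreconnected_connectedComponent
  choose Pc gc qc hge hqg hsub hflat huniv using fun i => CompSchemeLib.exists_component ((C i).ι ≫ f)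
  have hcov : ⨆ i, ((C i).ι).opensRange = ⊤ := by
    rw [eq_top_iff]
    intro x _
    rw [TopologicalSpace.Opens.mem_iSup]
    exact ⟨_root_.ConnectedComponents.mk x, by rw [Scheme.Opens.opensRange_ι]; rfl⟩
  have hdis : Pairwise (Function.onFun Disjoint (fun i => ((C i).ι).opensRange)) := by
    intro i j hij
    simp only [Function.onFun, Scheme.Opens.opensRange_ι, disjoint_iff]
    exact eq_bot_iff.mpr fun x hx => hij (hx.1.symm.trans hx.2)
  obtain ⟨hcol⟩ := nonempty_isColimit_cofanMk_of (fun i => (C i).ι) hcov hdis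
  let P := ∐ Pc
  let g : P ⟶ Spec (CommRingCat.of k) := Sigma.desc gc
  let q : X ⟶ P := Cofan.IsColimit.desc hcol fun i => qc i ≫ Sigma.ι Pc i
  have hq : ∀ i, (C i).ι ≫ q = qc i ≫ Sigma.ι Pc i := fun i => Cofan.IsColimit.fac hcol _ i
  have hqat : ∀ x : X, q x = Sigma.ι Pc (_root_.ConnectedComponents.mk x) (qc _ ⟨x, rfl⟩) := fun x => by
    rw [← Scheme.Hom.comp_apply, ← hq]; rfl
  refine ⟨P, g, q, IsZariskiLocalAtSource.sigmaDesc hge, ?_, fun Y gY h hY hh => ?_, ?_, ⟨fun p => ?_⟩, fun x => ?_⟩
  · refine Cofan.IsColimit.hom_ext hcol _ _ fun i => ?_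
    show (C i).ι ≫ q ≫ g = (C i).ι ≫ f
    rw [← Category.assoc, hq, Category.assoc, Sigma.ι_desc]
    exact hqg i
  · choose t ht1 ht2 using fun i => huniv i Y gY ((C i).ι ≫ h) hY (by rw [Category.assoc, hh])
    refine ⟨Sigma.desc t, ⟨?_, ?_⟩, fun t' ht' => ?_⟩
    · refine Sigma.hom_ext _ _ fun i => ?_
      rw [Sigma.ι_desc_assoc, Sigma.ι_desc]; exact (ht1 i).1
    · refine Cofan.IsColimit.hom_ext hcol _ _ fun i => ?_
      show (C i).ι ≫ q ≫ Sigma.desc t = (C i).ι ≫ h
      rw [← Category.assoc, hq, Category.assoc, Sigma.ι_desc]; exact (ht1 i).2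
    · refine Sigma.hom_ext _ _ fun i => ?_
      rw [Sigma.ι_desc]
      refine ht2 i _ ⟨?_, ?_⟩
      · rw [Category.assoc, ht'.1, Sigma.ι_desc]
      · rw [← Category.assoc, ← hq, Category.assoc, ht'.2]
  · haveI := hflat
    refine IsZariskiLocalAtSource.of_openCover (P := @Flat) (X.openCoverOfIsOpenCover C ?_) fun i => ?_
    · rw [TopologicalSpace.IsOpenCover]
      simpa using hcov
    · show Flat ((C i).ι ≫ q)
      rw [hq]; infer_instance
  · obtain ⟨i, a, rfl⟩ := (sigmaOpenCover Pc).exists_eq p
    obtain ⟨x⟩ : Nonempty (C i).toScheme := inferInstance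
    haveI := hsub i
    refine ⟨(C i).ι x, ?_⟩
    rw [← Scheme.Hom.comp_apply, hq, Scheme.Hom.comp_apply, Subsingleton.elim (qc i x) a]
    rfl
  · ext x'
    rw [← connectedComponents_preimage_singleton]
    simp only [Set.mem_preimage, Set.mem_singleton_iff]
    refine ⟨fun h => ?_, fun h => ?_⟩
    · rw [hqat, hqat] at h
      exact congrArg Sigma.fst ((sigmaι_eq_iff _ _ _ _ _).mp h)
    · have hx' : x' ∈ C (_root_.ConnectedComponents.mk x) := h
      have e : q x' = Sigma.ι Pc (_root_.ConnectedComponents.mk x) (qc _ ⟨x', hx'⟩) := by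
        rw [← Scheme.Hom.comp_apply, ← hq]; rfl
      haveI := hsub (_root_.ConnectedComponents.mk x)
      rw [e, hqat x]
      exact congrArg _ (Subsingleton.elim _ _)

end Groth.Agent.S16678
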