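import Groth.Statements.S16679
import Groth.Agent.AVChowLib.Component

set_option autoImplicit false
set_option backward.isDefEq.respectTransparency false
set_option backward.isDefEq.respectTransparency.types false
set_option maxHeartbeats 1000000
set_option linter.style.haveILetI false
universe u
open CategoryTheory CategoryTheory.Limits MonoidalCategory CartesianMonoidalCategory MonObj GrpObj AlgebraicGeometry
open AbVar

namespace Groth.Agent.S16679

/-- Let X be an abelian variety over an arbitrary field k (a proper, geometrically integral k-group
scheme), let i : Y → X be a closed subgroup scheme (a homomorphism of k-group schemes which is a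
closed immersion) whose underlying space is connected, and let j : Y_red → Y be the reduced closed
subscheme with the same underlying space (a closed immersion from a reduced scheme which is
surjective). Then Y_red is geometrically integral over k, and there is a k-group scheme structure on
Y_red for which j is a homomorphism: Y_red is an abelian subvariety of X. (For a closed subgroup
scheme which is not connected the reduced subscheme need not be geometrically reduced; the statement
concerns the identity component.) -/
theorem result (k : Type u) [Field k]
    (X : Over (Spec (CommRingCat.of k))) [GrpObj X] [IsProper X.hom] [GeometricallyIntegral X.hom]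
    (Y : Over (Spec (CommRingCat.of k))) [GrpObj Y] (i : Y ⟶ X) [IsMonHom i] [IsClosedImmersion i.left]
    [ConnectedSpace ↥Y.left]
    (Yr : Scheme.{u}) (j : Yr ⟶ Y.left) [IsClosedImmersion j] [Surjective j] [IsReduced Yr] :
    GeometricallyIntegral (j ≫ Y.hom) ∧
      ∃ _ : GrpObj (Over.mk (j ≫ Y.hom)), IsMonHom (Over.homMk j rfl : Over.mk (j ≫ Y.hom) ⟶ Y) := by
  obtain ⟨B, _, c, hBp, hBg, hcm, hcc, hcs⟩ := Groth.Agent.AVChowLib.exists_abelian_of_connected X Y i
  haveI := hBg; haveI := hcc; haveI := hcs
  haveI : IsIntegral B.left := GeometricallyIntegral.isIntegral_of_subsingleton B.hom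
  obtain ⟨e, he⟩ := Groth.Agent.H23.RedSub.exists_iso_of_range_eq c.left j
    (by rw [c.left.surjective.range_eq, j.surjective.range_eq])
  let Z : Over (Spec (CommRingCat.of k)) := Over.mk (j ≫ Y.hom)
  let eO : B ≅ Z := Over.isoMk e (by
    show e.hom ≫ j ≫ Y.hom = B.hom
    rw [← Category.assoc, he]; exact Over.w c)
  refine ⟨?_, ?_⟩
  · have h : j ≫ Y.hom = e.inv ≫ B.hom := by
      rw [← Over.w c, ← he]; simp
    rw [h, MorphismProperty.cancel_left_of_respectsIso @GeometricallyIntegral]
    exact hBg
  · letI : GrpObj Z := GrpObj.ofIso eO
    refine ⟨inferInstanceAs (GrpObj Z), ?_⟩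
    haveI : IsMonHom eO.hom := isMonHom_ofIso eO
    have h : (Over.homMk j rfl : Z ⟶ Y) = eO.inv ≫ c := by
      refine Over.OverMorphism.ext ?_
      show j = e.inv ≫ c.left
      rw [← he]; simp
    rw [h]
    infer_instance

end Groth.Agent.S16679
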