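import Groth.Statements.S16683
import Groth.Agent.AVPicSmooth.Field
import Groth.Agent.AVIndex.Field

set_option autoImplicit false
set_option backward.isDefEq.respectTransparency false
set_option backward.isDefEq.respectTransparency.types false
set_option maxHeartbeats 1000000
set_option linter.style.haveILetI false
universe u
open CategoryTheory CategoryTheory.Limits MonoidalCategory CartesianMonoidalCategory MonObj GrpObj AlgebraicGeometry
open AbVar

namespace Groth.Agent.S16683

/-- Fix a field k and a g-dimensional abelian variety X over k (a proper, geometrically integral k-group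
scheme with underlying space of Krull dimension g), and let P be a k-scheme locally of finite type
which represents, through φ, the relative Picard functor Pic_{X/k} (the fppf sheaf associated to T ↦
Pic(X ×_k T)). Then P is smooth over k — in particular its identity component Pic⁰_{X/k}, the dual
of X, is reduced and hence an abelian variety — and the underlying space of P has Krull dimension g
= dim X. (The published statement also identifies g with dim_k H^1(X, O_X) and the kernel of φ_L
with K(L) for L ample; those clauses are not part of this statement. The Picard scheme is taken as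
given.) -/
theorem result (k : Type u) [Field k]
    (X : Over (Spec (CommRingCat.of k))) [GrpObj X] [IsProper X.hom] [GeometricallyIntegral X.hom]
    (g : ℕ) (hg : topologicalKrullDim ↥X.left = g)
    (P : Over (Spec (CommRingCat.of k)))
    (φ : ∀ T : Over (Spec (CommRingCat.of k)), PicF.Cl (PicF.XT X.hom T) → (T ⟶ P))
    (hP : AbDual.IsRelPicK Scheme.fppfPrecoverage X.hom P φ) [LocallyOfFiniteType P.hom] :
    Smooth P.hom ∧ topologicalKrullDim ↥P.left = g := by
  let q := Groth.Agent.AVIndex.clMap k
  haveI : IsAffineHom q := isAffineHom_of_isAffine q
  haveI : Surjective q := ⟨fun x => ⟨IsLocalRing.closedPoint _, Subsingleton.elim _ _⟩⟩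
  haveI : Flat q := Flat.SpecMap_iff.2 (by
    show (algebraMap k (AlgebraicClosure k)).Flat
    rw [RingHom.flat_algebraMap_iff]
    infer_instance)
  haveI : IsProper (Red.bc q X).hom := (Groth.Agent.H23.BcComp.isAV_bc q X).1
  haveI : GeometricallyIntegral (Red.bc q X).hom := (Groth.Agent.H23.BcComp.isAV_bc q X).2
  haveI : LocallyOfFiniteType (Red.bc q P).hom := inferInstanceAs (LocallyOfFiniteType (pullback.snd P.hom q))
  haveI : Subsingleton ↥(Spec (CommRingCat.of k)) := inferInstanceAs (Subsingleton (PrimeSpectrum k))
  haveI : Subsingleton ↥(Spec (CommRingCat.of (AlgebraicClosure k))) :=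
    inferInstanceAs (Subsingleton (PrimeSpectrum (AlgebraicClosure k)))
  haveI : Nonempty ↥(Spec (CommRingCat.of (AlgebraicClosure k))) :=
    inferInstanceAs (Nonempty (PrimeSpectrum (AlgebraicClosure k)))
  have hgX : topologicalKrullDim ↥(Red.bc q X).left = g :=
    (Groth.Agent.FibDim.topologicalKrullDim_baseChange (IsPullback.of_hasPullback X.hom q)).trans hg
  obtain ⟨hs, hd⟩ := Groth.Agent.AVPicSmooth.smooth_and_dim (Red.bc q X) g hgX (Red.bc q P) _
    (Groth.Agent.AVPicSmooth.isRelPicK_bc q hP)
  refine ⟨?_, (Groth.Agent.FibDim.topologicalKrullDim_baseChange (IsPullback.of_hasPullback P.hom q)).symm.trans hd⟩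
  have hq : (@Surjective ⊓ @Flat ⊓ @QuasiCompact : MorphismProperty Scheme.{u}) q :=
    ⟨⟨inferInstance, inferInstance⟩, inferInstance⟩
  exact MorphismProperty.of_isPullback_of_descendsAlong (P := @Smooth) (IsPullback.of_hasPullback P.hom q).flip hq hs

end Groth.Agent.S16683
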