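import Groth.Statements.S16697
import Groth.Agent.AlgStLib.DiagCoverRel
import Groth.Agent.AlgStLib.QuasiCompact
import Groth.Agent.AlgStLib.SpProps
import Groth.Agent.AlgStLib.SepUnivClosed
import Groth.Agent.AlgSpDec.AffineProps
import Groth.Agent.AlgSpLib.EtLocalInst

/-!
A well-nigh affine algebraic stack is quasi-compact, quasi-DM and separated: the finite flat chart
is surjective, and the diagonal becomes finite after pulling it back to the chart.
-/

set_option autoImplicit false
set_option backward.isDefEq.respectTransparency false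
set_option backward.isDefEq.respectTransparency.types false
universe u
open AlgSt AlgSt.IsWellNighAffine

namespace Groth.Agent.S16697

open CategoryTheory CategoryTheory.Limits AlgebraicGeometry AlgSp Groth.Agent.AlgSpLib Groth.Agent.FibBase
  Groth.Agent.AlgStLib

variable {S : Scheme.{u}} {𝒳 : AlgSt.Cat S} {P Q : MorphismProperty (Sp S)}

open CategoryTheory AlgebraicGeometry in
/-- A well-nigh affine algebraic stack is quasi-compact, quasi-DM over `S` and separated over `S`. -/
theorem result (S : Scheme.{u}) (𝒳 : AlgSt.Cat S)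
    (h𝒳 : AlgSt.IsAlgStack Scheme.fppfPrecoverage 𝒳) (hw : AlgSt.IsWellNighAffine 𝒳) :
    AlgSt.IsQuasiCompact 𝒳 ∧ AlgSt.IsQuasiDMOver 𝒳 ∧ AlgSt.IsSeparatedOver 𝒳 := by
  obtain ⟨U, x, hU, hx⟩ := hw
  have := hU
  have hsurj : AlgSt.RepByAlgSpWith IsSurjectiveMor x := repByAlgSpWith_mono (fun _ _ _ h => h.1.1.1) hx
  have hes : LocEssSurj x := locEssSurj_of_repByAlgSp (repByAlgSpWith_mono (fun _ _ _ h => h.1.1.2) hx)
    (repByAlgSpWith_mono (fun _ _ _ h => h.2) hx) hsurj
  have hlqf : AlgSt.RepByAlgSpWith lqf x := repByAlgSpWith_mono_space (fun _ _ a h => locP_of_repWith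
    (repWith_mono (Q := @LocallyQuasiFinite ⊓ @LocallyOfFiniteType)
      (fun _ _ e (_ : IsFinite e) => ⟨inferInstance, inferInstance⟩) _
      (Groth.Agent.AlgSpDec.isFiniteMor_iff_repWith.1 h.1.2))) hx
  have hprop : AlgSt.RepByAlgSpWith IsProperMor x := repByAlgSpWith_mono_space (fun _ hG a h =>
    ((Groth.Agent.AlgSpDec.isFiniteMor_iff_affine_proper hG).1 h.1.2).2) hx
  refine ⟨isQuasiCompact_of_surjective (isFibGrpd_overCat U) h𝒳
    (isSurjective_of_repByAlgSpWith (isFibGrpd_overCat U) h𝒳.isStack.1
      ⟨U, BasedFunctor.id _, repByAlgSpWith_smooth_of_isEquivOver isEquivOver_id,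
        repByAlgSpWith_surj_of_isEquivOver isEquivOver_id⟩ hsurj) (isQuasiCompact_overCat U), ?_, ?_⟩
  · exact repByAlgSpWith_diag_toSelf_of_cover stableBC_locP isLocalOnBase_lqf cancels_lqf
      (repByAlgSp1_toSelf_overCat U) h𝒳.diag hlqf hes
  · refine repByAlgSpWith_diag_toSelf_of_cover' stableBC_isProperMor isLocalOnBase_isProperMor
      cancels_isProperMor (repByAlgSpWith_toSelf_overCat stableBC_isSeparatedMor ?_) h𝒳.diag hprop hes
    haveI : IsSeparated ((Over.mkIdTerminal (X := S)).from U).left := by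
      have : IsSeparated (((Over.mkIdTerminal (X := S)).from U).left ≫ 𝟙 S) := by
        rw [show ((Over.mkIdTerminal (X := S)).from U).left ≫ 𝟙 S = U.hom from Over.w _]
        infer_instance
      simpa using this
    exact repWith_diagonal ((repWith_yon_map_iff @IsSeparated _).2 ‹_›)
      fun e (_ : IsSeparated e) => inferInstanceAs (IsClosedImmersion (pullback.diagonal e))

end Groth.Agent.S16697
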