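import Groth.Statements.S16698
import Groth.Agent.AlgStLib.OverSpace
import Groth.Agent.AlgSpLib.PairGroupoid
import Groth.Agent.AlgSpLib.EtLocalInst
import Groth.Agent.AlgSpDec.AffineRep
import Groth.Agent.AlgSpDec.SliceCover
import Groth.Agent.GrpdLib.EquivRel
import Groth.Agent.S7488

/-!
A well-nigh affine algebraic space is affine: the finite locally free chart presents it as the quotient
of an affine scheme by a finite locally free equivalence relation, which is the spectrum of invariants.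
-/

set_option autoImplicit false
set_option backward.isDefEq.respectTransparency false
set_option backward.isDefEq.respectTransparency.types false
universe u
open AlgSt AlgSt.IsWellNighAffine

namespace Groth.Agent.S16698

open CategoryTheory CategoryTheory.Limits AlgebraicGeometry AlgSp Groth.Agent.AlgSpLib Groth.Agent.FibBase
  Groth.Agent.AlgStLib

/-- Finite, flat, locally finitely presented and surjective. -/
abbrev flfs : MorphismProperty Scheme.{u} := @IsFinite ⊓ @Flat ⊓ @LocallyOfFinitePresentation ⊓ @Surjective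

theorem epi_of_repWith {S : Scheme.{u}} {F G : Sp S} {f : F ⟶ G} (hf : RepWith flfs f) : Epi f := by
  have : Sheaf.IsLocallySurjective f := isLocallySurjective_of_repWith ⟨hf.1, fun _ _ t fst snd sq => by
    obtain ⟨⟨⟨-, h₁⟩, h₂⟩, h₃⟩ := hf.2 t fst snd sq
    haveI : Flat snd.left := h₁
    haveI : LocallyOfFinitePresentation snd.left := h₂
    haveI : Surjective snd.left := h₃
    exact fppf_of snd.left⟩
  exact Sheaf.epi_of_isLocallySurjective f

theorem repWith_of_props {S : Scheme.{u}} {F : Sp S} {U : Over S} {f : F ⟶ (yon S).obj U}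
    (h : (IsSurjectiveMor ⊓ LocP @Flat ⊓ IsFiniteMor ⊓ LocP @LocallyOfFinitePresentation :
      MorphismProperty (Sp S)) f) : RepWith flfs f := by
  obtain ⟨⟨⟨hs, hf⟩, hfin⟩, hp⟩ := h
  have h1 : RepWith @IsFinite f := (Groth.Agent.AlgSpDec.isFiniteMor_iff_repWith).1 hfin
  have hU := IsAlgSpace.yon_obj (S := S) U
  exact (repWith_inf_iff f).2 ⟨(repWith_inf_iff f).2 ⟨(repWith_inf_iff f).2
    ⟨h1, repWith_of_locP hU h1.1 hf⟩, repWith_of_locP hU h1.1 hp⟩, repWith_surjective_of_surjective h1.1 hs⟩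

/-- The target of a finite locally free surjection from an affine scheme is affine. -/
theorem exists_iso_affine {S : Scheme.{u}} {F : Sp S} {U : Over S} [IsAffine U.left] (a : (yon S).obj U ⟶ F)
    (ha : RepWith flfs a) : ∃ (M : Over S) (φ : F ⟶ (yon S).obj M), IsAffine M.left ∧ IsIso φ := by
  let s : ha.rep.pullback a ⟶ U := ha.rep.snd a
  let t : ha.rep.pullback a ⟶ U := (yon S).preimage (ha.rep.fst a)
  have sq : IsPullback ((yon S).map t) ((yon S).map s) a a := by
    rw [Functor.map_preimage]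
    exact ha.rep.isPullback a
  obtain ⟨⟨⟨s₁, s₂⟩, s₃⟩, -⟩ := ha.2 a _ _ sq
  obtain ⟨⟨⟨t₁, t₂⟩, t₃⟩, -⟩ := ha.2 a _ _ sq.flip
  let G := pairGroupoid sq
  haveI : IsAffine G.U := ‹IsAffine U.left›
  haveI : IsFinite G.s := s₁
  haveI : Flat G.s := s₂
  haveI : LocallyOfFinitePresentation G.s := s₃
  haveI : IsFinite G.t := t₁
  haveI : Flat G.t := t₂
  haveI : LocallyOfFinitePresentation G.t := t₃
  haveI : IsAffine G.R := isAffine_of_isAffineHom G.s
  haveI : Mono G.j := ⟨fun {T} x y h => by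
    have h₁ := congrArg (· ≫ pullback.fst G.pU G.pU) h
    have h₂ := congrArg (· ≫ pullback.snd G.pU G.pU) h
    simp only [Category.assoc, Grpd.GroupoidScheme.j, pullback.lift_fst, pullback.lift_snd] at h₁ h₂
    exact pair_ext sq h₂ h₁⟩
  obtain ⟨m, ⟨hm, -⟩, -⟩ := Groth.Agent.S7488.result S G
  obtain ⟨q₁, q₂, q₃⟩ := Groth.Agent.GrpdLib.toQuot_finLocFree G
  let q : U ⟶ Over.mk m := Over.homMk G.toQuot hm
  have hq : RepWith flfs ((yon S).map q) :=
    (repWith_yon_map_iff flfs q).2 ⟨⟨⟨q₁, q₂⟩, q₃⟩, ⟨Groth.Agent.GrpdLib.surjective_toQuot G⟩⟩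
  have sq₀ : IsPullback t s q q :=
    IsPullback.of_map (Over.forget S) (Over.OverMorphism.ext (Groth.Agent.GrpdLib.isPullback_toQuot G).w)
      (Groth.Agent.GrpdLib.isPullback_toQuot G)
  have sq' : IsPullback ((yon S).map t) ((yon S).map s) ((yon S).map q) ((yon S).map q) := sq₀.map (yon S)
  have := epi_of_repWith ha
  have := epi_of_repWith hq
  let ra : RegularEpi a := (IsRegularEpiCategory.regularEpiOfEpi a).regularEpi.some
  let ca := (show IsKernelPair a _ _ from sq).toCoequalizer ra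
  obtain ⟨φ, hφ⟩ := Cofork.IsColimit.desc' ca ((yon S).map q) sq'.w
  exact ⟨Over.mk m, φ, inferInstanceAs (IsAffine (Spec (CommRingCat.of G.invariants))),
    Groth.Agent.AlgSpDec.Slice.isIso_of_kernelPair_epi sq sq' φ hφ⟩

open CategoryTheory AlgebraicGeometry in
/-- A well-nigh affine algebraic stack which is an algebraic space is an affine scheme. -/
theorem result (S : Scheme.{u}) (𝒳 : AlgSt.Cat S)
    (h𝒳 : AlgSt.IsAlgStack Scheme.fppfPrecoverage 𝒳) (hw : AlgSt.IsWellNighAffine 𝒳)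
    (hsp : AlgSt.RepByAlgSp 𝒳) :
    ∃ (U : Over S) (e : AlgSt.ofSch U ⥤ᵇ 𝒳), IsAffine U.left ∧ FibCat.IsEquivOver e := by
  obtain ⟨U, x, hU, hx⟩ := hw
  obtain ⟨F, e, he⟩ := hsp
  obtain ⟨g, hg, -, -⟩ := Groth.Agent.AlgStLib.isEquivOver_inv he
  let x' : FibCat.overCat U ⥤ᵇ AlgSt.ofSp F.obj := BasedFunctor.comp x g
  have hx' : AlgSt.RepByAlgSpWith (IsSurjectiveMor ⊓ LocP @Flat ⊓ IsFiniteMor ⊓
      LocP @LocallyOfFinitePresentation) x' :=
    (repByAlgSpWith_iff_of_square (f := x') (f' := x) (a := BasedFunctor.id _) (b := g)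
      isEquivOver_id hg (Iso.refl _)).2 hx
  have hx'' : AlgSt.RepByAlgSpWith (RepWith flfs) x' := fun T y => by
    obtain ⟨F', e', he', hP⟩ := hx' T y
    exact ⟨F', e', he', repWith_of_props hP⟩
  let a : (yon S).obj U ⟶ F.obj := spHom (BasedFunctor.comp (AlgSt.toOverCat U) x')
  have ha : RepWith flfs a := repWith_of_repBySpWith a
    (repBySpWith_of_repByAlgSpWith x' (AlgSt.toOverCat U) stableBC_of (isEquivOver_toOverCat U) hx''
      (isoOfSpMap (BasedFunctor.comp (AlgSt.toOverCat U) x')))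
  obtain ⟨M, φ, hM, hφ⟩ := exists_iso_affine a ha
  exact ⟨M, BasedFunctor.comp (AlgSt.ofSpMap (inv φ)) e, hM,
    isEquivOver_comp (isEquivOver_ofSpMap (inv φ)) he⟩

end Groth.Agent.S16698
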