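import Groth.Statements.S16699
import Groth.Agent.AlgStLib.Calculus

/-!
A stack affine over a well-nigh affine stack is well-nigh affine: pull the finite flat chart back
along the affine morphism; the pullback is an affine scheme because the chart is affine.
-/

set_option autoImplicit false
set_option backward.isDefEq.respectTransparency false
set_option backward.isDefEq.respectTransparency.types false
universe u
open AlgSt AlgSt.IsWellNighAffine

namespace Groth.Agent.S16699

open CategoryTheory CategoryTheory.Limits AlgebraicGeometry Groth.Agent.FibBase Groth.Agent.AlgStLib in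
/-- An algebraic stack affine over a well-nigh affine algebraic stack is well-nigh affine. -/
theorem result (S : Scheme.{u}) (𝒳 𝒳' : AlgSt.Cat S)
    (h𝒳 : AlgSt.IsAlgStack Scheme.fppfPrecoverage 𝒳) (h𝒳' : AlgSt.IsAlgStack Scheme.fppfPrecoverage 𝒳')
    (hw : AlgSt.IsWellNighAffine 𝒳) (f : 𝒳' ⥤ᵇ 𝒳) (hf : AlgSt.RepByAlgSpWith AlgSp.IsAffineMor f) :
    AlgSt.IsWellNighAffine 𝒳' := by
  obtain ⟨U, x, hU, hx⟩ := hw
  obtain ⟨F, e, he, haff⟩ := hf U x
  obtain ⟨W, i, a, hpb, hW⟩ := haff hU (𝟙 ((AlgSp.yon S).obj U))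
  have : IsIso a := hpb.isIso_fst_of_isIso
  let k : FibCat.overCat W ⥤ᵇ FibCat.fp x f :=
    BasedFunctor.comp (AlgSt.ofOverCat W) (BasedFunctor.comp (AlgSt.ofSpMap a) e)
  have hk : FibCat.IsEquivOver k :=
    isEquivOver_comp (isEquivOver_ofOverCat W) (isEquivOver_comp (isEquivOver_ofSpMap a) he)
  refine ⟨W, BasedFunctor.comp k (FibCat.fpSnd x f), hW, ?_⟩
  exact (repByAlgSpWith_iff_of_square (f := FibCat.fpSnd x f) (a := k) (b := BasedFunctor.id _)
    hk isEquivOver_id (Iso.refl _)).1 (repByAlgSpWith_fpSnd f hx)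

end Groth.Agent.S16699
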