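import Groth.Statements.S16710
import Groth.Agent.GGAmple.Basic
import Groth.Agent.IntNum.CurveAmple
import Groth.Agent.AmpleX.Generated
import Groth.Agent.AmpleX.Pow
import Groth.Agent.AmpleVan.Uniform

set_option autoImplicit false
set_option backward.isDefEq.respectTransparency false
set_option backward.isDefEq.respectTransparency.types false
universe u
open CategoryTheory CategoryTheory.Limits AlgebraicGeometry TopologicalSpace
open Variety

namespace Groth.Agent.S16710
open Groth.Agent

/-- Let X be a proper scheme over a field k and L an invertible O_X-module. Then L is ample if and only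
if (i) L is strictly nef, meaning χ(O_C ⊗ L) - χ(O_C) > 0 for every integral closed subscheme C ⊆ X
of dimension one, and (ii) L is semiample, meaning some positive tensor power of L is generated by
its global sections (is a quotient of a free O_X-module). -/
theorem result (k : Type u) [Field k] (X : Scheme.{u})
    [X.Over (Spec (CommRingCat.of k))] [IsProper (X ↘ (Spec (CommRingCat.of k)))]
    (L : X.Modules) (hL : PicF.IsInvertible L) :
    CohB1.IsAmple L ↔
      ((∀ C : X.IdealSheafData, IsIntegral C.subscheme →
          topologicalKrullDim (C.support : Set X) = 1 →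
            0 < Curv2.euler k X (CohB1.tensorMod (ClSub.quotMod C) L) - Curv2.euler k X (ClSub.quotMod C)) ∧
        ∃ m : ℕ, Curv2.IsGloballyGenerated (CohB1.tensorPow L (m + 1))) := by
  haveI := CurveCohLib.isNoetherian_of_proper (k := k) (X := X)
  haveI : X.IsSeparated := AmpleVan.isSeparated_of_proper (A := k)
  have hdimC : ∀ C : X.IdealSheafData, topologicalKrullDim (C.support : Set X) = 1 →
      topologicalKrullDim C.subscheme = 1 := fun C h => by
    rw [IsHomeomorph.topologicalKrullDim_eq _
      C.subschemeι.isClosedEmbedding.isEmbedding.toHomeomorph.isHomeomorph, C.range_subschemeι]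
    exact h
  have hdeg : ∀ C : X.IdealSheafData,
      @Curv2.deg k _ C.subscheme ⟨C.subschemeι ≫ (X ↘ Spec (CommRingCat.of k))⟩
        ((Scheme.Modules.pullback C.subschemeι).obj L) 1 =
      Curv2.euler k X (CohB1.tensorMod (ClSub.quotMod C) L) - Curv2.euler k X (ClSub.quotMod C) := fun C => by
    letI : C.subscheme.Over (Spec (CommRingCat.of k)) := ⟨C.subschemeι ≫ (X ↘ Spec (CommRingCat.of k))⟩
    rw [IntNum.deg_pullback_closed k C.subschemeι rfl (CurveDeg.isCoh_of_isInvertible hL).1 1, Nat.cast_one, one_mul]
  constructor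
  · intro hA
    refine ⟨fun C hC hd => ?_, ?_⟩
    · rw [← hdeg]
      haveI := hC
      exact IntNum.deg_pos_of_isAmple k C.subschemeι (hdimC C hd) hA
    · obtain ⟨n₀, hn₀⟩ := AmpleX.eventually_isGloballyGenerated hA (QCoh.isQCoh_structureModule (X := X))
        (QCoh.isCoh_structureModule' (X := X)).2
      exact ⟨n₀, AmpleX.isGloballyGenerated_of_iso (CurveTensor.structureTensorIso _) (hn₀ (n₀ + 1) (Nat.le_succ _))⟩
  · rintro ⟨hpos, m, hgg⟩
    refine AmpleX.isAmple_of_tensorPow hL m.succ_pos ?_
    refine GGAmple.isAmple_of_gg (X ↘ Spec (CommRingCat.of k)) (InvX.isInvertible_tensorPow hL _) hgg fun C hC hd => ⟨fun e => ?_⟩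
    haveI := hC
    letI : C.subscheme.Over (Spec (CommRingCat.of k)) := ⟨C.subschemeι ≫ (X ↘ Spec (CommRingCat.of k))⟩
    haveI : IsProper (C.subscheme ↘ Spec (CommRingCat.of k)) :=
      inferInstanceAs (IsProper (C.subschemeι ≫ (X ↘ Spec (CommRingCat.of k))))
    obtain ⟨e'⟩ := IntNum.pullback_tensorPow C.subschemeι L (m + 1)
    have h0 := CurveRR.deg_congr k (e'.symm ≪≫ e) 1
    rw [IntNum.deg_tensorPow k (hdimC C hd) (PicClLib.isInvertible_pullback _ hL), CurveDeg.deg_structureModule] at h0
    have h1 := hpos C hC hd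
    rw [← hdeg] at h1
    have h2 : (0 : ℤ) < ((m + 1 : ℕ) : ℤ) := by exact_mod_cast m.succ_pos
    exact absurd h0 (ne_of_gt (mul_pos h2 h1))

end Groth.Agent.S16710
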