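import Groth.Statements.S16711
import Groth.Agent.NakaiMo.Main
import Groth.Agent.IntSym.Curves
import Groth.Agent.NormX.NormalAmple

set_option autoImplicit false
universe u
open CategoryTheory CategoryTheory.Limits AlgebraicGeometry TopologicalSpace
open Variety TopologicalSpace Groth.Agent.H23.PicMul
set_option linter.style.haveILetI false
set_option backward.isDefEq.respectTransparency false
set_option backward.isDefEq.respectTransparency.types false
set_option maxHeartbeats 800000

namespace Groth.Agent.S16711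

open NakaiMo in
theorem deg_pos (k : Type u) [Field k] {X : Scheme.{u}} [X.Over (Spec (CommRingCat.of k))]
    [IsProper (X ↘ (Spec (CommRingCat.of k)))] {L : X.Modules} (hL : PicF.IsInvertible L)
    (hnef : ∀ C : X.IdealSheafData, IsIntegral C.subscheme →
      topologicalKrullDim (C.support : Set X) = 1 →
        0 < Curv2.euler k X (CohB1.tensorMod (ClSub.quotMod C) L) - Curv2.euler k X (ClSub.quotMod C))
    {W : Scheme.{u}} (i : W ⟶ X) [IsClosedImmersion i] [IsIntegral W] (hW : topologicalKrullDim W = 1) :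
    0 < @Curv2.deg k _ W ⟨i ≫ (X ↘ Spec (CommRingCat.of k))⟩ ((Scheme.Modules.pullback i).obj L) 1 := by
  haveI := CurveCohLib.isNoetherian_of_proper (k := k) (X := X)
  letI : W.Over (Spec (CommRingCat.of k)) := ⟨i ≫ (X ↘ Spec (CommRingCat.of k))⟩
  obtain ⟨C, hC, -, hd, ⟨e⟩⟩ := IntSym.exists_ideal k i
  rw [IntNum.deg_pullback_closed k i rfl (CurveDeg.isCoh_of_isInvertible hL).1, Nat.cast_one, one_mul,
    CurveCohLib.euler_congr (k := k) e,
    CurveCohLib.euler_congr (k := k) (PicGrp.tensorModIso e (Iso.refl L))]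
  exact hnef C hC (hd.trans hW)

open NakaiMo in
theorem isAmple_pullback (k : Type u) [Field k] {X : Scheme.{u}} [X.Over (Spec (CommRingCat.of k))]
    [IsProper (X ↘ (Spec (CommRingCat.of k)))] {L : X.Modules} (hL : PicF.IsInvertible L)
    (hnef : ∀ C : X.IdealSheafData, IsIntegral C.subscheme →
      topologicalKrullDim (C.support : Set X) = 1 →
        0 < Curv2.euler k X (CohB1.tensorMod (ClSub.quotMod C) L) - Curv2.euler k X (ClSub.quotMod C))
    (heff : ∀ Z : X.IdealSheafData, IsIntegral Z.subscheme →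
      ∃ (m : ℕ) (s : Coh.structureModule Z.subscheme ⟶
          CohB1.tensorPow ((Scheme.Modules.pullback Z.subschemeι).obj L) (m + 1)), s ≠ 0) :
    ∀ (C : Closeds X) (Z : Scheme.{u}) (i : Z ⟶ X) [IsClosedImmersion i] [IsIntegral Z],
      Set.range i ⊆ (C : Set X) → CohB1.IsAmple ((Scheme.Modules.pullback i).obj L) := by
  haveI := CurveCohLib.isNoetherian_of_proper (k := k) (X := X)
  intro C
  induction C using WellFoundedLT.induction with
  | ind C IH =>
    intro Z i _ _ hr
    -- reduce to the subscheme of the kernel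
    haveI : Nonempty i.ker.subscheme := ⟨i.toImage (genericPoint Z)⟩
    haveI : IsIntegral i.ker.subscheme := isIntegral_of_isOpenImmersion (inv i.toImage)
    suffices h : CohB1.IsAmple ((Scheme.Modules.pullback i.ker.subschemeι).obj L) by
      exact AmpleX.isAmple_of_iso ((Scheme.Modules.pullbackComp i.toImage i.ker.subschemeι).app L ≪≫
        (Scheme.Modules.pullbackCongr i.toImage_imageι).app L) (NormX.isAmple_pullback_affine i.toImage h)
    have hr' : Set.range i.ker.subschemeι ⊆ (C : Set X) := by
      rintro _ ⟨y, rfl⟩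
      obtain ⟨z, rfl⟩ := i.toImage.surjective y
      exact hr ⟨z, by rw [← Scheme.Hom.comp_apply]; exact congrArg (fun g : Z ⟶ X => g z) i.toImage_imageι.symm⟩
    let j := i.ker.subschemeι
    let W := i.ker.subscheme
    letI : W.Over (Spec (CommRingCat.of k)) := ⟨j ≫ (X ↘ Spec (CommRingCat.of k))⟩
    haveI : IsProper (W ↘ Spec (CommRingCat.of k)) :=
      show IsProper (j ≫ (X ↘ Spec (CommRingCat.of k))) from inferInstance
    haveI := CurveCohLib.isNoetherian_of_proper (k := k) (X := W)
    let LW := (Scheme.Modules.pullback j).obj L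
    have hLW : PicF.IsInvertible LW := PicClLib.isInvertible_pullback j hL
    have hcur : ∀ (V : Scheme.{u}) (l : V ⟶ W) [IsClosedImmersion l] [IsIntegral V], topologicalKrullDim V = 1 →
        0 < @Curv2.deg k _ V ⟨l ≫ (W ↘ Spec (CommRingCat.of k))⟩ ((Scheme.Modules.pullback l).obj LW) 1 := by
      intro V l _ _ hV
      letI : V.Over (Spec (CommRingCat.of k)) := ⟨(l ≫ j) ≫ (X ↘ Spec (CommRingCat.of k))⟩
      show 0 < @Curv2.deg k _ V ⟨(l ≫ j) ≫ (X ↘ Spec (CommRingCat.of k))⟩ ((Scheme.Modules.pullback l).obj LW) 1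
      haveI : IsProper (V ↘ Spec (CommRingCat.of k)) :=
        show IsProper ((l ≫ j) ≫ (X ↘ Spec (CommRingCat.of k))) from inferInstance
      exact (deg_pos k hL hnef (l ≫ j) hV).trans_eq
        (CurveRR.deg_congr k ((Scheme.Modules.pullbackComp l j).app L) 1).symm
    obtain ⟨d, hd⟩ : ∃ d : ℕ, topologicalKrullDim W = (d : WithBot ℕ∞) :=
      ⟨_, VarDim.topologicalKrullDim_eq_deg_genericPoint (W ↘ Spec (CommRingCat.of k))⟩
    rcases Nat.lt_or_ge d 2 with hd2 | hd2
    · exact IntNum.isAmple_of_deg_pos k (hd.le.trans (by exact_mod_cast Nat.lt_succ_iff.1 hd2)) hLW hcur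
    have hS : Small LW := fun M hM hη => by
      let C' : Closeds X := ⟨j '' CohB1.support M,
        j.isClosedEmbedding.isClosedMap _ (QCoh.isClosed_support_of_isFT hM.1 hM.2)⟩
      have hlt : C' < C := SetLike.lt_iff_le_and_exists.2
        ⟨fun x hx => hr' (Set.image_subset_range _ _ hx), j (genericPoint W), hr' ⟨_, rfl⟩, fun h => by
          obtain ⟨z, hz, hze⟩ := h
          exact hη (j.isClosedEmbedding.injective hze ▸ hz)⟩
      rw [← vanish_push_iff (A := k) j hL hM.1]
      exact vanish_of_ample k hL (C := (C' : Set X)) (IH C' hlt) (QCoh.isCoh_push j hM)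
        (support_push_subset_image j hM.1)
    obtain ⟨m, s, hs⟩ := heff i.ker inferInstance
    have hN := InvX.isInvertible_tensorPow hLW (m + 1)
    haveI := InvEnd.mono_of_ne_zero InvX.isInvertible_structureModule hN s hs
    obtain ⟨a, ha, hgg⟩ := exists_gg_of_section k hN s (hS.of_pow m.succ_pos)
    have hna : 0 < (m + 1) * a := Nat.mul_pos m.succ_pos ha
    refine AmpleX.isAmple_of_tensorPow hLW hna ?_
    refine GGAmple.isAmple_of_gg (W ↘ Spec (CommRingCat.of k)) (InvX.isInvertible_tensorPow hLW _)
      (AmpleX.isGloballyGenerated_of_iso (tensorPow_mul LW (m + 1) a).some.symm hgg) fun E hE hd1 => ⟨fun e => ?_⟩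
    haveI := hE
    have hdE : topologicalKrullDim E.subscheme = 1 := by
      rw [IsHomeomorph.topologicalKrullDim_eq _
        E.subschemeι.isClosedEmbedding.isEmbedding.toHomeomorph.isHomeomorph, E.range_subschemeι]
      exact hd1
    have h1 := hcur E.subscheme E.subschemeι hdE
    letI : E.subscheme.Over (Spec (CommRingCat.of k)) := ⟨E.subschemeι ≫ (W ↘ Spec (CommRingCat.of k))⟩
    haveI : IsProper (E.subscheme ↘ Spec (CommRingCat.of k)) :=
      inferInstanceAs (IsProper (E.subschemeι ≫ (W ↘ Spec (CommRingCat.of k))))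
    obtain ⟨e'⟩ := IntNum.pullback_tensorPow E.subschemeι LW ((m + 1) * a)
    have h0 := CurveRR.deg_congr k (e'.symm ≪≫ e) 1
    rw [IntNum.deg_tensorPow k hdE (PicClLib.isInvertible_pullback _ hLW), CurveDeg.deg_structureModule] at h0
    have h2 : (0 : ℤ) < (((m + 1) * a : ℕ) : ℤ) := by exact_mod_cast hna
    exact absurd h0 (ne_of_gt (mul_pos h2 h1))


/-- The implication from the fourth condition to ampleness. Fix an algebraically closed field k, a
proper k-scheme X and an invertible O_X-module L. Assume that L is strictly nef, meaning χ(O_C ⊗ L)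
- χ(O_C) > 0 for every integral closed subscheme C ⊆ X of dimension one, and that for every integral
closed subscheme Z ⊆ X some positive tensor power of the pullback L|_Z has a nonzero global section
O_Z → L|_Z^{⊗ m}. Then L is ample. -/
theorem result (k : Type u) [Field k] [IsAlgClosed k]
    (X : Scheme.{u}) [X.Over (Spec (CommRingCat.of k))] [IsProper (X ↘ (Spec (CommRingCat.of k)))]
    (L : X.Modules) (hL : PicF.IsInvertible L)
    (hnef : ∀ C : X.IdealSheafData, IsIntegral C.subscheme →
      topologicalKrullDim (C.support : Set X) = 1 →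
        0 < Curv2.euler k X (CohB1.tensorMod (ClSub.quotMod C) L) - Curv2.euler k X (ClSub.quotMod C))
    (heff : ∀ Z : X.IdealSheafData, IsIntegral Z.subscheme →
      ∃ (m : ℕ) (s : Coh.structureModule Z.subscheme ⟶
          CohB1.tensorPow ((Scheme.Modules.pullback Z.subschemeι).obj L) (m + 1)), s ≠ 0) :
    CohB1.IsAmple L := by
  haveI := CurveCohLib.isNoetherian_of_proper (k := k) (X := X)
  refine AmpleVan.isAmple_of_HH_one hL fun W _ => ?_
  obtain ⟨n₀, hn₀⟩ := NakaiMo.vanish_of_ample k hL (C := (Set.univ : Set X))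
    (fun Z i _ _ _ => isAmple_pullback k hL hnef heff ⊤ Z i (fun x _ => trivial))
    (QCoh.isCoh_of_mono (QCoh.vanIdeal W).ι QCoh.isCoh_structureModule' (QCoh.isQCoh_vanIdeal W))
    (Set.subset_univ _)
  exact ⟨n₀, hn₀ (n₀ + 1) (Nat.le_succ _) 0⟩

end Groth.Agent.S16711
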