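import Groth.Statements.S16712
import Groth.Agent.IntSym.Bridge
import Groth.Agent.IntSym.Curves
import Groth.Agent.IntSym.CurveMap

set_option autoImplicit false
universe u
open CategoryTheory CategoryTheory.Limits AlgebraicGeometry TopologicalSpace
open Variety

namespace Groth.Agent.S16712

/-- Let X and X' be proper schemes over a field k, f : X' → X a surjective k-morphism and L an
invertible O_X-module. Then L is nef, meaning χ(O_C ⊗ L) - χ(O_C) ≥ 0 for every integral closed
subscheme C ⊆ X of dimension one, if and only if the pullback f^*L is nef on X' in the same sense. -/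
theorem result (k : Type u) [Field k] (X X' : Scheme.{u})
    [X.Over (Spec (CommRingCat.of k))] [IsProper (X ↘ (Spec (CommRingCat.of k)))]
    [X'.Over (Spec (CommRingCat.of k))] [IsProper (X' ↘ (Spec (CommRingCat.of k)))]
    (f : X' ⟶ X) (hf : f ≫ (X ↘ (Spec (CommRingCat.of k))) = X' ↘ (Spec (CommRingCat.of k)))
    [Surjective f] (L : X.Modules) (hL : PicF.IsInvertible L) :
    (∀ C : X.IdealSheafData, IsIntegral C.subscheme →
        topologicalKrullDim (C.support : Set X) = 1 →
          0 ≤ Curv2.euler k X (CohB1.tensorMod (ClSub.quotMod C) L) - Curv2.euler k X (ClSub.quotMod C)) ↔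
      (∀ C' : X'.IdealSheafData, IsIntegral C'.subscheme →
        topologicalKrullDim (C'.support : Set X') = 1 →
          0 ≤ Curv2.euler k X' (CohB1.tensorMod (ClSub.quotMod C') ((Scheme.Modules.pullback f).obj L)) -
            Curv2.euler k X' (ClSub.quotMod C')) := by
  have hLf := PicClLib.isInvertible_pullback f hL
  have conv : ∀ {Y : Scheme.{u}} [Y.Over (Spec (CommRingCat.of k))] [IsProper (Y ↘ Spec (CommRingCat.of k))]
      {M : Y.Modules}, PicF.IsInvertible M →
      (∀ C : Y.IdealSheafData, IsIntegral C.subscheme → topologicalKrullDim (C.support : Set Y) = 1 →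
          0 ≤ Curv2.euler k Y (CohB1.tensorMod (ClSub.quotMod C) M) - Curv2.euler k Y (ClSub.quotMod C)) →
      ∀ (W : Scheme.{u}) (j : W ⟶ Y) [IsClosedImmersion j] [IsIntegral W], topologicalKrullDim W = 1 →
        0 ≤ IntSym.sym k [M] ((Coh.push j).obj (Coh.structureModule W)) := by
    intro Y _ _ M hM h W j _ _ hW
    obtain ⟨C, hC, -, hd, ⟨e⟩⟩ := IntSym.exists_ideal k j
    rw [IntSym.sym_iso k (List.forall_mem_singleton.2 hM) e, IntSym.sym_singleton]
    exact h C hC (hd.trans hW)
  constructor
  · intro h C hC hd
    haveI := hC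
    have hd' : topologicalKrullDim C.subscheme = 1 := by
      rw [IntSym.dim_eq_of_range C.subschemeι C.range_subschemeι]; exact hd
    exact IntSym.sym_pullback_nonneg k f hf hL (conv hL h) C.subschemeι hd'
  · intro h C hC hd
    haveI := hC
    have hd' : topologicalKrullDim C.subscheme = 1 := by
      rw [IntSym.dim_eq_of_range C.subschemeι C.range_subschemeι]; exact hd
    obtain ⟨Z, i, hi, hZ, hd1, hpos, ⟨e⟩⟩ := IntSym.exists_curve_over k f hf C.subschemeι hd'
    haveI := hi; haveI := hZ
    have h' := conv hLf h Z i hd1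
    rw [(IntSym.sym_pullback_curve k f hf hL i hd1).1, IntSym.sym_iso k (List.forall_mem_singleton.2 hL) e] at h'
    exact nonneg_of_mul_nonneg_right h' (by exact_mod_cast hpos)

end Groth.Agent.S16712
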