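import Groth.Statements.S16714
import Groth.Agent.HilbFib.Basic
import Groth.Agent.NefTest.Devissage
import Groth.Agent.IntSym.Curves
import Groth.Agent.DescLib.SubtrVal
import Groth.Agent.FlatMisc.GenericFibreRed
import Groth.Agent.DerBC7.SplitPush
import Groth.Agent.S4932

set_option autoImplicit false
universe u
open CategoryTheory CategoryTheory.Limits AlgebraicGeometry TopologicalSpace
open Variety
open Groth.Agent TopologicalSpace
set_option backward.isDefEq.respectTransparency false
set_option backward.isDefEq.respectTransparency.types false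
set_option linter.style.haveILetI false
set_option maxHeartbeats 800000

namespace Groth.Agent.S16714

/-- A closed subscheme on the fibres. -/
theorem exists_fibre_map {X Z S : Scheme.{u}} (p : X ⟶ S) (j : Z ⟶ X) [IsClosedImmersion j] (s : S) :
    ∃ m : (j ≫ p).fiber s ⟶ p.fiber s, IsClosedImmersion m ∧ m ≫ p.fiberι s = (j ≫ p).fiberι s ≫ j ∧
      m ≫ p.fiberToSpecResidueField s = (j ≫ p).fiberToSpecResidueField s ∧
      Set.range m = p.fiberι s ⁻¹' Set.range j := by
  let m : (j ≫ p).fiber s ⟶ p.fiber s := pullback.lift ((j ≫ p).fiberι s ≫ j) ((j ≫ p).fiberToSpecResidueField s)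
    (by rw [Category.assoc]; exact pullback.condition)
  have h1 : m ≫ p.fiberι s = (j ≫ p).fiberι s ≫ j := pullback.lift_fst _ _ _
  have h2 : m ≫ p.fiberToSpecResidueField s = (j ≫ p).fiberToSpecResidueField s := pullback.lift_snd _ _ _
  have sq : IsPullback ((j ≫ p).fiberι s) m j (p.fiberι s) := by
    refine IsPullback.of_bot (v₂₁ := p.fiberToSpecResidueField s) (v₂₂ := p) (h₃₁ := S.fromSpecResidueField s) ?_ h1.symm
      (IsPullback.of_hasPullback p _)
    rw [h2]
    exact IsPullback.of_hasPullback (j ≫ p) _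
  haveI : IsClosedImmersion m := MorphismProperty.of_isPullback sq ‹IsClosedImmersion j›
  refine ⟨m, inferInstance, h1, h2, Set.ext fun x => ⟨?_, fun ⟨z, hz⟩ => ?_⟩⟩
  · rintro ⟨w, rfl⟩
    exact ⟨(j ≫ p).fiberι s w, by rw [← Scheme.Hom.comp_apply, ← h1, Scheme.Hom.comp_apply]⟩
  · have hzs : z ∈ Set.range ((j ≫ p).fiberι s) := by
      rw [Scheme.Hom.range_fiberι]
      show p (j z) = s
      rw [hz]
      exact FibDim.fiber_apply_fiberι p x
    obtain ⟨w, rfl⟩ := hzs
    exact ⟨w, (p.fiberι s).isEmbedding.injective (by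
      rw [← Scheme.Hom.comp_apply, h1, Scheme.Hom.comp_apply, hz])⟩

/-- The degree on a fibre of a closed subscheme, read off on the fibre of the ambient scheme. -/
theorem χ_sub_eq {X Z S : Scheme.{u}} (p : X ⟶ S) [IsProper p] (j : Z ⟶ X) [IsClosedImmersion j] {L : X.Modules}
    (hL : PicF.IsInvertible L) (s : S) (m : (j ≫ p).fiber s ⟶ p.fiber s) [IsClosedImmersion m]
    (hm : m ≫ p.fiberι s = (j ≫ p).fiberι s ≫ j)
    (hm' : m ≫ p.fiberToSpecResidueField s = (j ≫ p).fiberToSpecResidueField s) :
    HilbFib.χ (j ≫ p) ((Scheme.Modules.pullback j).obj L) s - HilbFib.χ (j ≫ p) (Coh.structureModule Z) s =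
      @Curv2.euler (S.residueField s) _ (p.fiber s) ⟨p.fiberToSpecResidueField s⟩
          (CohB1.tensorMod ((Coh.push m).obj (Coh.structureModule ((j ≫ p).fiber s)))
            ((Scheme.Modules.pullback (p.fiberι s)).obj L)) -
        @Curv2.euler (S.residueField s) _ (p.fiber s) ⟨p.fiberToSpecResidueField s⟩
          ((Coh.push m).obj (Coh.structureModule ((j ≫ p).fiber s))) := by
  letI : (p.fiber s).Over (Spec (CommRingCat.of (S.residueField s))) := ⟨p.fiberToSpecResidueField s⟩
  letI : ((j ≫ p).fiber s).Over (Spec (CommRingCat.of (S.residueField s))) := ⟨(j ≫ p).fiberToSpecResidueField s⟩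
  haveI : IsProper ((p.fiber s) ↘ Spec (CommRingCat.of (S.residueField s))) := HilbFib.isProper_fibre p s
  haveI : IsProper (((j ≫ p).fiber s) ↘ Spec (CommRingCat.of (S.residueField s))) := HilbFib.isProper_fibre (j ≫ p) s
  have h := IntNum.deg_pullback_closed (S.residueField s) m hm'
    (QCoh.isQCoh_pullback (p.fiberι s) (ProjUPX.isQCoh_of_isInvertible hL)) 1
  rw [Nat.cast_one, one_mul] at h
  rw [← h]
  unfold Curv2.deg
  rw [Nat.cast_one, one_mul]
  refine congrArg₂ (· - ·) ?_ ?_
  · exact CurveCohLib.euler_congr (k := S.residueField s) ((Scheme.Modules.pullbackComp _ j).app L ≪≫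
      (Scheme.Modules.pullbackCongr hm.symm).app L ≪≫ ((Scheme.Modules.pullbackComp m _).app L).symm)
  · exact CurveCohLib.euler_congr (k := S.residueField s) (CurveBC.unitIso ((j ≫ p).fiberι s))

/-- Let R be a discrete valuation ring, p : X → Spec R a proper flat morphism and L an invertible
O_X-module. If the restriction L_0 of L to the closed fibre X_0 is nef (χ(O_C ⊗ L_0) - χ(O_C) ≥ 0
for every integral closed subscheme C ⊆ X_0 of dimension one, computed over the residue field), then
the restriction L_η to the generic fibre X_η is nef over the fraction field in the same sense. -/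
theorem result (R : Type u) [CommRing R] [IsDomain R]
    [IsDiscreteValuationRing R] (X : Scheme.{u}) (p : X ⟶ Spec (CommRingCat.of R)) [IsProper p] [Flat p]
    (L : X.Modules) (hL : PicF.IsInvertible L)
    (h0 : ∀ C : (p.fiber (IsLocalRing.closedPoint R)).IdealSheafData, IsIntegral C.subscheme →
        topologicalKrullDim (C.support : Set ↥(p.fiber (IsLocalRing.closedPoint R))) = 1 →
          0 ≤ @Curv2.euler ((Spec (CommRingCat.of R)).residueField (IsLocalRing.closedPoint R)) _ (p.fiber (IsLocalRing.closedPoint R)) ⟨p.fiberToSpecResidueField (IsLocalRing.closedPoint R)⟩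
                (CohB1.tensorMod (ClSub.quotMod C) ((Scheme.Modules.pullback (p.fiberι (IsLocalRing.closedPoint R))).obj L)) -
              @Curv2.euler ((Spec (CommRingCat.of R)).residueField (IsLocalRing.closedPoint R)) _ (p.fiber (IsLocalRing.closedPoint R)) ⟨p.fiberToSpecResidueField (IsLocalRing.closedPoint R)⟩ (ClSub.quotMod C)) :
    ∀ C' : (p.fiber (⟨⊥, Ideal.isPrime_bot⟩ : PrimeSpectrum R)).IdealSheafData, IsIntegral C'.subscheme →
        topologicalKrullDim (C'.support : Set ↥(p.fiber (⟨⊥, Ideal.isPrime_bot⟩ : PrimeSpectrum R))) = 1 →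
          0 ≤ @Curv2.euler ((Spec (CommRingCat.of R)).residueField (⟨⊥, Ideal.isPrime_bot⟩ : PrimeSpectrum R)) _ (p.fiber (⟨⊥, Ideal.isPrime_bot⟩ : PrimeSpectrum R)) ⟨p.fiberToSpecResidueField (⟨⊥, Ideal.isPrime_bot⟩ : PrimeSpectrum R)⟩
                (CohB1.tensorMod (ClSub.quotMod C') ((Scheme.Modules.pullback (p.fiberι (⟨⊥, Ideal.isPrime_bot⟩ : PrimeSpectrum R))).obj L)) -
              @Curv2.euler ((Spec (CommRingCat.of R)).residueField (⟨⊥, Ideal.isPrime_bot⟩ : PrimeSpectrum R)) _ (p.fiber (⟨⊥, Ideal.isPrime_bot⟩ : PrimeSpectrum R)) ⟨p.fiberToSpecResidueField (⟨⊥, Ideal.isPrime_bot⟩ : PrimeSpectrum R)⟩ (ClSub.quotMod C') := by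
  intro C' hC' hC'd
  haveI := hC'
  let η : Spec (CommRingCat.of R) := (⟨⊥, Ideal.isPrime_bot⟩ : PrimeSpectrum R)
  let s : Spec (CommRingCat.of R) := IsLocalRing.closedPoint R
  let ξ' := C'.subschemeι (genericPoint C'.subscheme)
  let ξ := p.fiberι η ξ'
  let j := (IntNum.ptIdeal ξ).subschemeι
  let Z := (IntNum.ptIdeal ξ).subscheme
  haveI : IsIntegral Z := QCoh.isIntegral_closure_point ξ
  have hjr : Set.range j = closure {ξ} := IntNum.range_ptIdeal ξ
  have hjg : j (genericPoint Z) = ξ :=
    ((show Specializes (j (genericPoint Z)) ξ from specializes_iff_mem_closure.2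
      ((QCoh.range_eq_closure j).le (hjr.ge (subset_closure rfl)))).antisymm
    (specializes_iff_mem_closure.2 (hjr.le ⟨_, rfl⟩))).eq
  have hqg : (j ≫ p) (genericPoint Z) = η := by
    rw [Scheme.Hom.comp_apply, hjg]
    exact FibDim.fiber_apply_fiberι p ξ'
  haveI : Flat (j ≫ p) := DescLib.flat_of_dominant_integral (j ≫ p) hqg
  haveI : LocallyOfFinitePresentation (j ≫ p) := inferInstance
  -- the generic fibre of `Z` is the curve
  obtain ⟨m, hmcl, hm1, hm2, hmr⟩ := exists_fibre_map p j η
  obtain ⟨m₀, hm₀cl, hm₀1, hm₀2, hm₀r⟩ := exists_fibre_map p j s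
  haveI := hmcl
  haveI := hm₀cl
  have hrange : Set.range m = Set.range C'.subschemeι := by
    rw [hmr, hjr, QCoh.range_eq_closure C'.subschemeι, (p.fiberι η).isEmbedding.isInducing.closure_eq_preimage_closure_image,
      Set.image_singleton]
  haveI hred : AlgebraicGeometry.IsReduced ((j ≫ p).fiber η) :=
    FlatMisc.isReduced_fiber_of_generic (j ≫ p) η fun w hw => DescLib.eq_eta hw
  have hηg : η = genericPoint (Spec (CommRingCat.of R)) :=
    (DescLib.eq_eta (genericPoint_specializes η)).symm
  haveI : IsDominant (j ≫ p) := ⟨by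
    refine dense_iff_closure_eq.2 (top_unique fun y _ => ?_)
    exact closure_mono (by rintro _ rfl; exact ⟨_, hqg⟩)
      ((specializes_iff_mem_closure (y := y)).1 (DescLib.eta_specializes y))⟩
  haveI : Surjective (j ≫ p) := ⟨fun y => by
    have h := (j ≫ p).denseRange.closure_range
    rw [((j ≫ p).isClosedMap.isClosed_range).closure_eq] at h
    exact h.ge (Set.mem_univ y)⟩
  have h0ne : Nonempty ↥((j ≫ p).fiber s) := by
    obtain ⟨z, hz⟩ := (j ≫ p).surjective s
    have : z ∈ Set.range ((j ≫ p).fiberι s) := by rw [Scheme.Hom.range_fiberι]; exact hz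
    exact ⟨this.choose⟩
  have hdim : topologicalKrullDim ↥((j ≫ p).fiber s) = 1 := by
    rw [S4932.result (j ≫ p) h0ne, ← hηg, IntSym.dim_eq_of_range m hrange, C'.range_subschemeι]
    exact hC'd
  letI : (p.fiber η).Over (Spec (CommRingCat.of ((Spec (CommRingCat.of R)).residueField η))) :=
    ⟨p.fiberToSpecResidueField η⟩
  letI : (p.fiber s).Over (Spec (CommRingCat.of ((Spec (CommRingCat.of R)).residueField s))) :=
    ⟨p.fiberToSpecResidueField s⟩
  haveI : IsProper ((p.fiber η) ↘ Spec (CommRingCat.of ((Spec (CommRingCat.of R)).residueField η))) :=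
    HilbFib.isProper_fibre p η
  haveI : IsProper ((p.fiber s) ↘ Spec (CommRingCat.of ((Spec (CommRingCat.of R)).residueField s))) :=
    HilbFib.isProper_fibre p s
  haveI := CurveCohLib.isNoetherian_of_proper (k := (Spec (CommRingCat.of R)).residueField s) (X := p.fiber s)
  let Ls := (Scheme.Modules.pullback (p.fiberι s)).obj L
  have hLs : PicF.IsInvertible Ls := PicClLib.isInvertible_pullback _ hL
  -- nonnegativity on the closed fibre
  have hpos : 0 ≤ IntSym.sym ((Spec (CommRingCat.of R)).residueField s) [Ls]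
      ((Coh.push m₀).obj (Coh.structureModule ((j ≫ p).fiber s))) := by
    refine NefTest.sym_nonneg_of_curves _ hLs (fun W i _ _ hW => ?_) (QCoh.isCoh_push_structure m₀) ?_
    · obtain ⟨C, hC, -, hd, ⟨e⟩⟩ := IntSym.exists_ideal ((Spec (CommRingCat.of R)).residueField s) i
      rw [IntSym.sym_iso _ (List.forall_mem_singleton.2 hLs) e, IntSym.sym_singleton]
      exact h0 C hC (hd.trans hW)
    · refine (H23.TopDim.dim_le_dim_of_subset (QCoh.support_push_subset m₀ QCoh.isQCoh_structureModule)).trans ?_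
      rw [← IntSym.dim_eq_of_range m₀ rfl, hdim, Nat.cast_one]
  rw [IntSym.sym_singleton] at hpos
  -- constancy in the family `Z`
  have hconst : ∀ (M : Z.Modules), PicF.IsInvertible M → HilbFib.χ (j ≫ p) M η = HilbFib.χ (j ≫ p) M s :=
    fun M hM => by
    have hfl : FlatMod.IsFlatOver (j ≫ p) M := H23.Seesaw.isFlatOver_of_isInvertible (j ≫ p) hM
    haveI : IsLocallyNoetherian Z := LocallyOfFiniteType.isLocallyNoetherian (j ≫ p)
    have hc := DerBC7.isLocallyConstant_eulerChar (f := j ≫ p) (ProjUPX.isQCoh_of_isInvertible hM)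
      (KZ.LFRes.isFP_of_isCoh (CurveDeg.isCoh_of_isInvertible hM)) hfl
    obtain ⟨U, hU, hsU, hUe⟩ := (IsLocallyConstant.iff_exists_open _).1 hc s
    exact hUe η ((IsLocalRing.specializes_closedPoint (R := R) η).mem_open hU hsU)
  have key := χ_sub_eq p j hL η m hm1 hm2
  rw [hconst _ (PicClLib.isInvertible_pullback j hL), hconst _ InvX.isInvertible_structureModule,
    χ_sub_eq p j hL s m₀ hm₀1 hm₀2] at key
  obtain ⟨e⟩ := QCoh.push_structure_iso C'.subschemeι m hrange
  rw [CurveCohLib.euler_congr (k := (Spec (CommRingCat.of R)).residueField η) e,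
    CurveCohLib.euler_congr (k := (Spec (CommRingCat.of R)).residueField η)
      (PicGrp.tensorModIso e (Iso.refl _))] at key
  exact key ▸ hpos

end Groth.Agent.S16714
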