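import Groth.Statements.S16716
import Groth.Agent.BigMono.NefProper
import Groth.Agent.NefTest.Devissage
import Groth.Agent.IntSym.CurveMap
import Groth.Agent.CurveBC.Main
import Groth.Agent.NormX.NormalAmple

set_option autoImplicit false
universe u
open CategoryTheory CategoryTheory.Limits AlgebraicGeometry TopologicalSpace
open Variety TopologicalSpace Groth.Agent.H23.PicMul
set_option linter.style.haveILetI false
set_option backward.isDefEq.respectTransparency false
set_option backward.isDefEq.respectTransparency.types false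
set_option maxHeartbeats 800000

namespace Groth.Agent.S16716

open IntSym in
/-- Descent of nefness: degrees are unchanged by base change. -/
theorem nef_descends (k : Type u) [Field k] {X : Scheme.{u}} [X.Over (Spec (CommRingCat.of k))]
    [IsProper (X ↘ Spec (CommRingCat.of k))] {L : X.Modules} (hL : PicF.IsInvertible L)
    (K : Type u) [Field K] [Algebra k K] {X' : Scheme.{u}} [X'.Over (Spec (CommRingCat.of K))]
    [IsProper (X' ↘ Spec (CommRingCat.of K))] (π : X' ⟶ X)
    (hpb : IsPullback π (X' ↘ Spec (CommRingCat.of K)) (X ↘ Spec (CommRingCat.of k))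
      (Spec.map (CommRingCat.ofHom (algebraMap k K))))
    (h : BigMono.NefC K ((Scheme.Modules.pullback π).obj L)) : BigMono.NefC k L := by
  intro Z i _ _ hZ
  haveI := CurveCohLib.isNoetherian_of_proper (k := k) (X := X)
  letI : Z.Over (Spec (CommRingCat.of k)) := ⟨i ≫ (X ↘ Spec (CommRingCat.of k))⟩
  haveI : IsProper (Z ↘ Spec (CommRingCat.of k)) :=
    show IsProper (i ≫ (X ↘ Spec (CommRingCat.of k))) from inferInstance
  haveI := CurveCohLib.isNoetherian_of_proper (k := k) (X := Z)
  let Z' := Curv2.bc k Z K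
  letI : Z'.Over (Spec (CommRingCat.of K)) := ⟨Curv2.bcSnd k Z K⟩
  have hpbZ : IsPullback (Curv2.bcFst k Z K) (Z' ↘ Spec (CommRingCat.of K)) (Z ↘ Spec (CommRingCat.of k))
      (Spec.map (CommRingCat.ofHom (algebraMap k K))) := IsPullback.of_hasPullback _ _
  haveI := CurveBC.isProper k K (Curv2.bcFst k Z K) hpbZ
  haveI := CurveCohLib.isNoetherian_of_proper (k := K) (X := Z')
  let f : Z' ⟶ X' := hpb.lift (Curv2.bcFst k Z K ≫ i) (Curv2.bcSnd k Z K) (by
    rw [Category.assoc]; exact hpbZ.w)
  have hfπ : f ≫ π = Curv2.bcFst k Z K ≫ i := hpb.lift_fst _ _ _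
  have hf : f ≫ (X' ↘ Spec (CommRingCat.of K)) = Z' ↘ Spec (CommRingCat.of K) := hpb.lift_snd _ _ _
  have hiL := PicClLib.isInvertible_pullback i hL
  have hM := PicClLib.isInvertible_pullback (Curv2.bcFst k Z K) hiL
  let e : (Scheme.Modules.pullback f).obj ((Scheme.Modules.pullback π).obj L) ≅
      (Scheme.Modules.pullback (Curv2.bcFst k Z K)).obj ((Scheme.Modules.pullback i).obj L) :=
    (Scheme.Modules.pullbackComp f π).app L ≪≫ (Scheme.Modules.pullbackCongr hfπ).app L ≪≫
      ((Scheme.Modules.pullbackComp (Curv2.bcFst k Z K) i).app L).symm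
  have hnef' : ∀ (W : Scheme.{u}) (j : W ⟶ Z') [IsClosedImmersion j] [IsIntegral W], topologicalKrullDim W = 1 →
      0 ≤ sym K [(Scheme.Modules.pullback f).obj ((Scheme.Modules.pullback π).obj L)]
        ((Coh.push j).obj (Coh.structureModule W)) := fun W j _ _ hW =>
    sym_pullback_nonneg K f hf (PicClLib.isInvertible_pullback π hL) h j hW
  have hpos := NefTest.sym_nonneg_of_curves K (PicClLib.isInvertible_pullback f (PicClLib.isInvertible_pullback π hL))
    hnef' (QCoh.isCoh_structureModule' (X := Z')) ((topologicalKrullDim_subspace_le Z' _).trans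
      (by rw [CurveBC.topologicalKrullDim_eq k K (Curv2.bcFst k Z K) hpbZ hZ, Nat.cast_one]))
  have h1 : sym K [(Scheme.Modules.pullback f).obj ((Scheme.Modules.pullback π).obj L)] (Coh.structureModule Z') =
      Curv2.deg k Z ((Scheme.Modules.pullback i).obj L) 1 := by
    rw [sym_singleton, show Curv2.euler K Z' (CohB1.tensorMod (Coh.structureModule Z')
        ((Scheme.Modules.pullback f).obj ((Scheme.Modules.pullback π).obj L))) = _ from CurveCohLib.euler_congr (k := K)
      (CurveTensor.structureTensorIso ((Scheme.Modules.pullback f).obj ((Scheme.Modules.pullback π).obj L)) ≪≫ e),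
      CurveBC.euler_eq k K (Curv2.bcFst k Z K) hpbZ _ (ProjUPX.isQCoh_of_isInvertible hiL),
      ← CurveCohLib.euler_congr (k := K) (CurveBC.unitIso (Curv2.bcFst k Z K)),
      CurveBC.euler_eq k K (Curv2.bcFst k Z K) hpbZ _ (QCoh.isQCoh_structureModule (X := Z))]
    unfold Curv2.deg
    rw [Nat.cast_one, one_mul]
  rw [h1, IntNum.deg_pullback_closed k i rfl (CurveDeg.isCoh_of_isInvertible hL).1, Nat.cast_one, one_mul] at hpos
  rw [sym_singleton]
  exact hpos

open IntSym in
/-- Ascent of nefness: via Chow covers and ampleness of nef + ample. -/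
theorem nef_ascends (k : Type u) [Field k] {X : Scheme.{u}} [X.Over (Spec (CommRingCat.of k))]
    [IsProper (X ↘ Spec (CommRingCat.of k))] {L : X.Modules} (hL : PicF.IsInvertible L)
    (K : Type u) [Field K] [Algebra k K] {X' : Scheme.{u}} [X'.Over (Spec (CommRingCat.of K))]
    [IsProper (X' ↘ Spec (CommRingCat.of K))] (π : X' ⟶ X)
    (hpb : IsPullback π (X' ↘ Spec (CommRingCat.of K)) (X ↘ Spec (CommRingCat.of k))
      (Spec.map (CommRingCat.ofHom (algebraMap k K))))
    (h : BigMono.NefC k L) : BigMono.NefC K ((Scheme.Modules.pullback π).obj L) := by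
  intro W j _ _ hW
  haveI := CurveCohLib.isNoetherian_of_proper (k := k) (X := X)
  haveI := CurveCohLib.isNoetherian_of_proper (k := K) (X := X')
  -- the closure of the image of the curve
  let x := π (j (genericPoint W))
  let Z := (IntNum.ptIdeal x).subscheme
  let i := (IntNum.ptIdeal x).subschemeι
  haveI : IsIntegral Z := QCoh.isIntegral_closure_point x
  letI : Z.Over (Spec (CommRingCat.of k)) := ⟨i ≫ (X ↘ Spec (CommRingCat.of k))⟩
  haveI : IsProper (Z ↘ Spec (CommRingCat.of k)) :=
    show IsProper (i ≫ (X ↘ Spec (CommRingCat.of k))) from inferInstance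
  obtain ⟨wZ, hwZ⟩ := H23.RedSub.exists_lift_closed (j ≫ π) i (by
    rw [IntNum.range_ptIdeal]
    rintro _ ⟨w, rfl⟩
    exact ((genericPoint_specializes w).map (j ≫ π).continuous).mem_closure)
  -- its projective cover
  obtain ⟨d, hd⟩ : ∃ d : ℕ, topologicalKrullDim Z = (d : WithBot ℕ∞) :=
    ⟨_, VarDim.topologicalKrullDim_eq_deg_genericPoint (Z ↘ Spec (CommRingCat.of k))⟩
  obtain ⟨V, g, A, hV, hp, hA, -, hgη, -⟩ := BigMono.exists_projective_cover k Z hd
  haveI := hV
  letI : V.Over (Spec (CommRingCat.of k)) := ⟨g ≫ (Z ↘ Spec (CommRingCat.of k))⟩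
  haveI : IsProper (V ↘ Spec (CommRingCat.of k)) := hp
  haveI : IsProper g := LerayEuler.isProper_f k g rfl
  haveI : Surjective g := ⟨fun z => by
    have h1 : closure ({g (genericPoint V)} : Set Z) ⊆ Set.range g :=
      closure_minimal (by rintro _ rfl; exact ⟨_, rfl⟩) g.isClosedMap.isClosed_range
    rw [hgη] at h1
    exact h1 (genericPoint_specializes z).mem_closure⟩
  let f := g ≫ i
  have hf : f ≫ (X ↘ Spec (CommRingCat.of k)) = V ↘ Spec (CommRingCat.of k) := Category.assoc _ _ _
  have hLV := PicClLib.isInvertible_pullback f hL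
  have hnefV : BigMono.NefC k ((Scheme.Modules.pullback f).obj L) := fun T l _ _ hT =>
    sym_pullback_nonneg k f hf hL h l hT
  -- base change
  let Z' := Curv2.bc k Z K
  let V' := Curv2.bc k V K
  letI : Z'.Over (Spec (CommRingCat.of K)) := ⟨Curv2.bcSnd k Z K⟩
  letI : V'.Over (Spec (CommRingCat.of K)) := ⟨Curv2.bcSnd k V K⟩
  have hpbZ : IsPullback (Curv2.bcFst k Z K) (Z' ↘ Spec (CommRingCat.of K)) (Z ↘ Spec (CommRingCat.of k))
      (Spec.map (CommRingCat.ofHom (algebraMap k K))) := IsPullback.of_hasPullback _ _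
  have hpbV : IsPullback (Curv2.bcFst k V K) (V' ↘ Spec (CommRingCat.of K)) (V ↘ Spec (CommRingCat.of k))
      (Spec.map (CommRingCat.ofHom (algebraMap k K))) := IsPullback.of_hasPullback _ _
  haveI := CurveBC.isProper k K (Curv2.bcFst k Z K) hpbZ
  haveI := CurveBC.isProper k K (Curv2.bcFst k V K) hpbV
  haveI := CurveCohLib.isNoetherian_of_proper (k := K) (X := V')
  haveI := CurveCohLib.isNoetherian_of_proper (k := K) (X := Z')
  let g' : V' ⟶ Z' := hpbZ.lift (Curv2.bcFst k V K ≫ g) (Curv2.bcSnd k V K) (by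
    rw [Category.assoc]; exact hpbV.w)
  have hg'1 : g' ≫ Curv2.bcFst k Z K = Curv2.bcFst k V K ≫ g := hpbZ.lift_fst _ _ _
  have hg'2 : g' ≫ (Z' ↘ Spec (CommRingCat.of K)) = V' ↘ Spec (CommRingCat.of K) := hpbZ.lift_snd _ _ _
  haveI : Surjective g' := by
    have hsq : IsPullback (Curv2.bcFst k V K) g' g (Curv2.bcFst k Z K) :=
      IsPullback.of_bot (by rw [hg'2]; exact hpbV) hg'1.symm hpbZ
    exact MorphismProperty.of_isPullback hsq inferInstance
  haveI : IsAffineHom (Curv2.bcFst k V K) := MorphismProperty.of_isPullback hpbV.flip inferInstance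
  let ι' : Z' ⟶ X' := hpb.lift (Curv2.bcFst k Z K ≫ i) (Curv2.bcSnd k Z K) (by
    rw [Category.assoc]; exact hpbZ.w)
  have hι'1 : ι' ≫ π = Curv2.bcFst k Z K ≫ i := hpb.lift_fst _ _ _
  have hι'2 : ι' ≫ (X' ↘ Spec (CommRingCat.of K)) = Z' ↘ Spec (CommRingCat.of K) := hpb.lift_snd _ _ _
  let w : W ⟶ Z' := hpbZ.lift wZ (j ≫ (X' ↘ Spec (CommRingCat.of K))) (by
    show wZ ≫ i ≫ _ = _
    rw [← Category.assoc, hwZ, Category.assoc, Category.assoc, hpb.w])
  have hwj : w ≫ ι' = j := hpb.hom_ext
    (by rw [Category.assoc, hι'1, ← Category.assoc, hpbZ.lift_fst, hwZ])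
    (by rw [Category.assoc, hι'2, hpbZ.lift_snd])
  haveI : IsClosedImmersion ι' := by
    have hsq : IsPullback (Curv2.bcFst k Z K) ι' i π :=
      IsPullback.of_bot (by rw [hι'2]; exact hpbZ) hι'1.symm hpb
    exact MorphismProperty.of_isPullback hsq inferInstance
  haveI : IsClosedImmersion (w ≫ ι') := hwj.symm ▸ inferInstance
  haveI : IsClosedImmersion w := IsClosedImmersion.of_comp_isClosedImmersion w ι'
  -- nefness on the cover after base change
  let N := (Scheme.Modules.pullback (Curv2.bcFst k V K)).obj ((Scheme.Modules.pullback f).obj L)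
  let B := (Scheme.Modules.pullback (Curv2.bcFst k V K)).obj A
  have hN : PicF.IsInvertible N := PicClLib.isInvertible_pullback _ hLV
  have hB : CohB1.IsAmple B := NormX.isAmple_pullback_affine _ hA
  have hnef' : BigMono.NefC K N := by
    intro T l _ _ hT
    have hO : Coh.IsCoh ((Coh.push l).obj (Coh.structureModule T)) := QCoh.isCoh_push_structure l
    have hdl := dim_push_le l (QCoh.isQCoh_structureModule (X := T)) (d := ((0 + 1 : ℕ) : WithBot ℕ∞))
      (by rw [zero_add, Nat.cast_one]; exact hT.le)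
    have key : ∀ q : ℕ, 0 < q → 0 ≤ (q : ℤ) * sym K [N] ((Coh.push l).obj (Coh.structureModule T)) +
        sym K [B] ((Coh.push l).obj (Coh.structureModule T)) := by
      intro q hq
      have hamp := NormX.isAmple_pullback_affine (Curv2.bcFst k V K)
        (BigMono.isAmple_nef_tensor k hLV hnefV hA (p := 1) (q := q) one_pos hq)
      obtain ⟨e⟩ : Nonempty ((Scheme.Modules.pullback (Curv2.bcFst k V K)).obj
          (CohB1.tensorMod (CohB1.tensorPow ((Scheme.Modules.pullback f).obj L) q) (CohB1.tensorPow A 1)) ≅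
          CohB1.tensorMod (CohB1.tensorPow N q) (CohB1.tensorPow B 1)) := by
        refine cl_eq_iff.1 ?_
        show PicF.pullCl (Curv2.bcFst k V K) (PicF.cl (CohB1.tensorMod _ _)) = _
        rw [cl_tensor, cl_tensor, cl_tensorPow, cl_tensorPow, cl_tensorPow, cl_tensorPow, pullCl_mul, pullCl_pow,
          pullCl_pow]
        rfl
      have h2 := AmpleX.isAmple_of_iso e hamp
      have h3 := (HilbPoly.mult_nonneg_and_pos K h2 1 _ hO (by rwa [zero_add] at hdl)).1
      rw [NakaiMo.mult_one, ← sym_singleton, sym_tensor_head K (InvX.isInvertible_tensorPow hN q)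
        (InvX.isInvertible_tensorPow hB.1 1) (List.forall_mem_nil _) hO hdl,
        sym_tensorPow_head K hN (List.forall_mem_nil _) hO hdl, sym_tensorPow_head K hB.1 (List.forall_mem_nil _) hO hdl,
        Nat.cast_one, one_mul] at h3
      exact h3
    by_contra hneg
    push Not at hneg
    generalize hs : sym K [N] ((Coh.push l).obj (Coh.structureModule T)) = s at key hneg
    generalize hb : sym K [B] ((Coh.push l).obj (Coh.structureModule T)) = b at key
    have := key (b.natAbs + 1) (Nat.succ_pos _)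
    push_cast at this
    nlinarith [le_abs_self b, abs_nonneg b]
  -- descend to the curve
  obtain ⟨T, l, hl, hT, hdT, hpos, ⟨eT⟩⟩ := exists_curve_over K g' hg'2 w hW
  haveI := hl; haveI := hT
  have hLZ : PicF.IsInvertible ((Scheme.Modules.pullback ι').obj ((Scheme.Modules.pullback π).obj L)) :=
    PicClLib.isInvertible_pullback _ (PicClLib.isInvertible_pullback _ hL)
  have h1 := (sym_pullback_curve K g' hg'2 hLZ l hdT).1
  let e : (Scheme.Modules.pullback g').obj ((Scheme.Modules.pullback ι').obj ((Scheme.Modules.pullback π).obj L)) ≅ N :=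
    (Scheme.Modules.pullback g').mapIso ((Scheme.Modules.pullbackComp ι' π).app L) ≪≫
      (Scheme.Modules.pullbackComp g' (ι' ≫ π)).app L ≪≫
      (Scheme.Modules.pullbackCongr (by rw [hι'1, ← Category.assoc, hg'1, Category.assoc])).app L ≪≫
      ((Scheme.Modules.pullbackComp (Curv2.bcFst k V K) f).app L).symm
  have hOl : Coh.IsCoh ((Coh.push l).obj (Coh.structureModule T)) := QCoh.isCoh_push_structure l
  rw [sym_iso K (List.forall_mem_singleton.2 hLZ) eT, sym_singleton, sym_singleton,
    CurveCohLib.euler_congr (k := K) (PicGrp.tensorModIso (Iso.refl ((Coh.push l).obj (Coh.structureModule T))) e)]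
    at h1
  have h2 := hnef' T l hdT
  rw [sym_singleton] at h2
  have h3 : 0 ≤ sym K [(Scheme.Modules.pullback ι').obj ((Scheme.Modules.pullback π).obj L)]
      ((Coh.push w).obj (Coh.structureModule W)) := by
    rw [sym_singleton]
    exact nonneg_of_mul_nonneg_right (h1 ▸ h2) (by exact_mod_cast hpos)
  have h4 : sym K [(Scheme.Modules.pullback π).obj L] ((Coh.push ι').obj ((Coh.push w).obj (Coh.structureModule W))) =
      sym K [(Scheme.Modules.pullback ι').obj ((Scheme.Modules.pullback π).obj L)]
        ((Coh.push w).obj (Coh.structureModule W)) :=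
    (BigMono.sym_push K ι' hι'2 (List.forall_mem_singleton.2 (PicClLib.isInvertible_pullback _ hL))
      (QCoh.isCoh_push_structure w)).symm
  exact (h3.trans_eq h4.symm).trans_eq (sym_iso K (List.forall_mem_singleton.2 (PicClLib.isInvertible_pullback _ hL))
    ((Scheme.Modules.pushforwardComp w ι').app (Coh.structureModule W) ≪≫
      (Scheme.Modules.pushforwardCongr hwj).app (Coh.structureModule W)))

theorem nefC_iff (k : Type u) [Field k] {X : Scheme.{u}} [X.Over (Spec (CommRingCat.of k))]
    [IsProper (X ↘ Spec (CommRingCat.of k))] {L : X.Modules} (hL : PicF.IsInvertible L) :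
    BigMono.NefC k L ↔ ∀ C : X.IdealSheafData, IsIntegral C.subscheme →
      topologicalKrullDim (C.support : Set X) = 1 →
        0 ≤ Curv2.euler k X (CohB1.tensorMod (ClSub.quotMod C) L) - Curv2.euler k X (ClSub.quotMod C) := by
  haveI := CurveCohLib.isNoetherian_of_proper (k := k) (X := X)
  constructor
  · intro h C hC hd
    haveI := hC
    have h1 := h C.subscheme C.subschemeι (by rw [IntSym.dim_eq_of_range C.subschemeι C.range_subschemeι]; exact hd)
    exact h1.trans_eq (IntSym.sym_singleton k L (ClSub.quotMod C))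
  · intro h W j _ _ hW
    obtain ⟨C, hC, -, hd, ⟨e⟩⟩ := IntSym.exists_ideal k j
    rw [IntSym.sym_iso k (List.forall_mem_singleton.2 hL) e, IntSym.sym_singleton]
    exact h C hC (hd.trans hW)


/-- Let X be a proper scheme over a field k, L an invertible O_X-module and k'/k a field extension. Then
L is nef (χ(O_C ⊗ L) - χ(O_C) ≥ 0 for every integral closed subscheme C ⊆ X of dimension one) if and
only if its pullback L_{k'} to X_{k'} = X ×_k Spec k' is nef over k' in the same sense. -/
theorem result (k : Type u) [Field k] (X : Scheme.{u})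
    [X.Over (Spec (CommRingCat.of k))] [IsProper (X ↘ (Spec (CommRingCat.of k)))]
    (L : X.Modules) (hL : PicF.IsInvertible L) (k' : Type u) [Field k'] [Algebra k k'] :
    (∀ C : X.IdealSheafData, IsIntegral C.subscheme →
        topologicalKrullDim (C.support : Set X) = 1 →
          0 ≤ Curv2.euler k X (CohB1.tensorMod (ClSub.quotMod C) L) - Curv2.euler k X (ClSub.quotMod C)) ↔
      (∀ C' : (Curv2.bc k X k').IdealSheafData, IsIntegral C'.subscheme →
        topologicalKrullDim (C'.support : Set ↥(Curv2.bc k X k')) = 1 →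
          0 ≤ @Curv2.euler k' _ (Curv2.bc k X k') ⟨Curv2.bcSnd k X k'⟩
                (CohB1.tensorMod (ClSub.quotMod C') ((Scheme.Modules.pullback (Curv2.bcFst k X k')).obj L)) -
              @Curv2.euler k' _ (Curv2.bc k X k') ⟨Curv2.bcSnd k X k'⟩ (ClSub.quotMod C')) := by
  letI : (Curv2.bc k X k').Over (Spec (CommRingCat.of k')) := ⟨Curv2.bcSnd k X k'⟩
  have hpb : IsPullback (Curv2.bcFst k X k') ((Curv2.bc k X k') ↘ Spec (CommRingCat.of k'))
      (X ↘ Spec (CommRingCat.of k)) (Spec.map (CommRingCat.ofHom (algebraMap k k'))) :=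
    IsPullback.of_hasPullback _ _
  haveI := CurveBC.isProper k k' (Curv2.bcFst k X k') hpb
  exact (nefC_iff k hL).symm.trans ⟨fun h => (nefC_iff k' (PicClLib.isInvertible_pullback _ hL)).1
      (nef_ascends k hL k' _ hpb h), fun h => nef_descends k hL k' _ hpb
      ((nefC_iff k' (PicClLib.isInvertible_pullback _ hL)).2 h)⟩

end Groth.Agent.S16716
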