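import Groth.Statements.S16719
import Groth.Agent.HomLim.Basic
import Groth.Agent.FlatCxLib.TFunctor
import Groth.Agent.QCoh.FlatExchange
import Mathlib.Algebra.Category.ModuleCat.AB
import Mathlib.LinearAlgebra.Contraction
import Mathlib.LinearAlgebra.Dual.Lemmas

set_option backward.isDefEq.respectTransparency false
set_option backward.isDefEq.respectTransparency.types false
set_option linter.style.haveILetI false

set_option autoImplicit false
universe u
open CategoryTheory CategoryTheory.Limits AlgebraicGeometry
open CohIII

namespace Groth.Agent.S16719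

open CategoryTheory CategoryTheory.Limits MonoidalCategory Groth.Agent.FlatCxLib

/-- Tensoring with a finite free module commutes with products. -/
theorem preservesLimits_tensorLeft {A : Type u} [CommRing A] (N : ModuleCat.{u} A) [Module.Finite A N]
    [Module.Free A N] : PreservesLimitsOfSize.{u, u} (tensorLeft N) := by
  let D := ModuleCat.of A (Module.Dual A N)
  let ε : ∀ M : ModuleCat.{u} A, TensorProduct A N M ≃ₗ[A] (Module.Dual A N →ₗ[A] M) := fun M =>
    (TensorProduct.congr (Module.evalEquiv A N) (LinearEquiv.refl A M)).trans (dualTensorHomEquiv A (Module.Dual A N) M)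
  have hε : ∀ (M : ModuleCat.{u} A) (n : N) (m : M) (φ : Module.Dual A N), ε M (n ⊗ₜ m) φ = φ n • m :=
    fun M n m φ => rfl
  let e : tensorLeft N ≅ ihom D := NatIso.ofComponents
    (fun M => ((ε M).trans (ModuleCat.homLinearEquiv (S := A) (M := D) (N := M)).symm).toModuleIso)
    fun {M M'} g => ModuleCat.hom_ext (TensorProduct.ext' fun n m => ModuleCat.hom_ext (LinearMap.ext fun φ => by
      show ε M' (n ⊗ₜ g.hom m) φ = g.hom (ε M (n ⊗ₜ m) φ)
      rw [hε, hε, map_smul]))
  exact preservesLimits_of_natIso e.symm


/-- The first of its three functors. Let A be a Noetherian ring, X a proper scheme over Spec A and F a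
coherent O_X-module flat over A. Then for every p the functor M ↦ H^p(X, F ⊗_A M) from A-modules to
abelian groups (F ⊗_A M = F ⊗_{O_X} f^*M~ for the structure morphism f) commutes with arbitrary
products: it preserves limits of shape a discrete category, i.e. the canonical map H^p(X, F ⊗_A ∏
M_α) → ∏ H^p(X, F ⊗_A M_α) is an isomorphism. (The published statement is for a flat proper X over
an arbitrary ring A and states the same for two Ext functors; this row assumes A Noetherian, does
not assume X flat over A, and states only the cohomology functor.) -/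
theorem result (A : Type u) [CommRing A] [IsNoetherianRing A]
    (X : Scheme.{u}) [X.Over (Spec (CommRingCat.of A))] [IsProper (X ↘ (Spec (CommRingCat.of A)))]
    (F : X.Modules) (hF : Coh.IsCoh F) (hflat : FlatMod.IsFlatOver (X ↘ (Spec (CommRingCat.of A))) F)
    (p : ℕ) (J : Type u) :
    PreservesLimitsOfShape (Discrete J) (CohIII.tensorAFunctor A F ⋙ CohIII.HAb X p) := by
  haveI : CompactSpace X := QuasiCompact.compactSpace_of_compactSpace (X ↘ Spec (CommRingCat.of A))
  obtain ⟨P, hfin, hfree, -, he, -⟩ := Groth.Agent.QCoh.exists_chain_model F hF hflat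
  obtain ⟨e⟩ := he p
  haveI : PreservesLimitsOfShape (Discrete J) (tensorCxFunctor P) :=
    HomologicalComplex.preservesLimitsOfShape_of_eval _ fun i =>
      haveI := hfin i
      haveI := hfree i
      haveI := preservesLimits_tensorLeft (P.X i)
      preservesLimitsOfShape_of_natIso
        (show tensorLeft (P.X i) ≅ tensorCxFunctor P ⋙ HomologicalComplex.eval _ _ i from
          NatIso.ofComponents (fun _ => Iso.refl _) (fun f => (Category.comp_id _).trans (Category.id_comp _).symm))
  haveI := Groth.Agent.HomLim.preservesLimitsOfShape_complexHomology (C := ModuleCat.{u} A) (J := Discrete J)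
    (ComplexShape.down ℤ) (-(p : ℤ))
  haveI : PreservesLimitsOfShape (Discrete J) (CohIII.TFun P (-(p : ℤ))) :=
    preservesLimitsOfShape_of_natIso (tFunIso P (-(p : ℤ)))
  exact preservesLimitsOfShape_of_natIso e

end Groth.Agent.S16719
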