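import Groth.Statements.S16721
import Groth.Agent.QuotLib.Pointed
import Groth.Agent.QuotLib.CatModuli
import Mathlib.AlgebraicGeometry.AlgClosed.Basic

/-!
A categorical quotient with orbits as geometric fibres is the coarse moduli space of the quotient stack.
-/

set_option autoImplicit false
set_option backward.isDefEq.respectTransparency false
set_option backward.isDefEq.respectTransparency.types false
universe u
open AlgSt

namespace Groth.Agent.S16721

open CategoryTheory CategoryTheory.Limits MonoidalCategory CartesianMonoidalCategory MonObj GrpObj AlgebraicGeometry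
  Opposite AlgSp Groth.Agent.FibBase Groth.Agent.AlgSpLib Groth.Agent.AlgStLib Groth.Agent.QuotLib

variable {S : Scheme.{u}} {G : Over S} [GrpObj G] [Flat G.hom] [LocallyOfFinitePresentation G.hom]
  {X : Over S} {aX : AlgGrp.Action G X}

local notation "K₀" => Scheme.fppfPrecoverage

/-- A torsor over an algebraically closed field has a section. -/
theorem exists_section {Ω : Type u} [Field Ω] [IsAlgClosed Ω] {str : Spec (CommRingCat.of Ω) ⟶ S}
    (A : AlgSt.QuotObj K₀ G aX) (hA : A.base = Over.mk str) :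
    ∃ t : Over.mk str ⟶ A.P, t ≫ A.π = eqToHom hA.symm := by
  obtain ⟨base, P, act, π, cart, loc, φ, eqv⟩ := A
  change base = Over.mk str at hA
  subst hA
  obtain ⟨⟨hs, -⟩, hp⟩ := fppf_π (⟨Over.mk str, P, act, π, cart, loc, φ, eqv⟩ : AlgSt.QuotObj K₀ G aX)
  let f : P.left ⟶ Spec (CommRingCat.of Ω) := π.left
  have hp' : LocallyOfFinitePresentation f := hp
  have hs' : Surjective f := hs
  obtain ⟨x₀, -⟩ := hs'.surj (IsLocalRing.closedPoint Ω)
  have : JacobsonSpace P.left := LocallyOfFiniteType.jacobsonSpace f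
  obtain ⟨x, -, hx⟩ := nonempty_inter_closedPoints (Z := (Set.univ : Set P.left)) ⟨x₀, trivial⟩
    isClosed_univ.isLocallyClosed
  have hx' : IsClosed ({x} : Set P.left) := hx
  refine ⟨Over.homMk (pointOfClosedPoint f x hx') ?_, Over.OverMorphism.ext (pointOfClosedPoint_comp f x hx')⟩
  show pointOfClosedPoint f x hx' ≫ P.hom = str
  rw [← Over.w π, ← Category.assoc]
  exact (congrArg (· ≫ str) (pointOfClosedPoint_comp f x hx')).trans (Category.id_comp _)

theorem fibSec_eq {Y : Over S} {f : X ⟶ Y} {π : AlgSt.QuotSt K₀ G aX ⥤ᵇ AlgSt.ofSch Y}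
    (hπf : restrHom π = (yon S).map f) {T : Over S} (A : (AlgSt.QuotSt K₀ G aX).p.Fiber T)
    (t : T ⟶ A.1.P) (ht : t ≫ A.1.π = eqToHom A.2.symm) :
    AlgSt.fibSec π A = (⟨(t ≫ A.1.φ) ≫ f⟩ : ULift (T ⟶ Y)) := by
  obtain ⟨A, hA⟩ := A
  subst hA
  have h1 := secAt_map π (trivHom A t (t ≫ A.φ) rfl)
  rw [show (AlgSt.QuotSt K₀ G aX).p.map (trivHom A t (t ≫ A.φ) rfl) = 𝟙 A.base from ht] at h1
  refine Eq.trans ?_ (congrArg (fun k : (yon S).obj X ⟶ (yon S).obj Y => k.hom.app (op A.base) ⟨t ≫ A.φ⟩) hπf)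
  exact ((res_id _ (𝟙 _) rfl _).symm.trans h1).trans (restrHom_app π _).symm

open CategoryTheory AlgebraicGeometry in
/-- A categorical quotient with orbits as geometric fibres is a coarse moduli space of the quotient stack. -/
theorem result (S : Scheme.{u}) (G : Over S) [GrpObj G]
    [IsAffineHom G.hom] [Flat G.hom] [LocallyOfFinitePresentation G.hom]
    (X Y : Over S) (aX : AlgGrp.Action G X) (f : X ⟶ Y)
    (hinv : aX.act ≫ f = snd G X ≫ f)
    (horb : ∀ (Ω : Type u) [Field Ω] [IsAlgClosed Ω] (t : Spec (CommRingCat.of Ω) ⟶ S),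
      (∀ y : Over.mk t ⟶ Y, ∃ x : Over.mk t ⟶ X, x ≫ f = y) ∧
      (∀ x x' : Over.mk t ⟶ X, x ≫ f = x' ≫ f → ∃ g : Over.mk t ⟶ G, lift g x' ≫ aX.act = x))
    (hcat : ∀ (N : AlgSp.Space S) (ψ : (AlgSp.yon S).obj X ⟶ N.obj),
      (AlgSp.yon S).map aX.act ≫ ψ = (AlgSp.yon S).map (snd G X) ≫ ψ →
        ∃! χ : (AlgSp.yon S).obj Y ⟶ N.obj, (AlgSp.yon S).map f ≫ χ = ψ)
    (π : AlgSt.QuotSt Scheme.fppfPrecoverage G aX ⥤ᵇ AlgSt.ofSch Y)
    (hπ : Nonempty (BasedFunctor.comp (AlgSt.quotMap Scheme.fppfPrecoverage G aX) π ≅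
      AlgSt.ofSpMap ((AlgSp.yon S).map f))) :
    AlgSt.IsCoarseModuli π := by
  obtain ⟨e⟩ := hπ
  have hπf : restrHom π = (yon S).map f := (spHom_congr e).trans (spHom_ofSpMap _)
  refine ⟨⟨IsAlgSpace.yon_obj Y, fun N hN φ => ?_⟩, fun Ω _ _ t => ⟨fun m => ?_, fun A B h => ?_⟩⟩
  · have key : ∀ g : (yon S).obj Y ⟶ N,
        Nonempty (BasedFunctor.comp π (AlgSt.ofSpMap g) ≅ φ) ↔ (yon S).map f ≫ g = restrHom φ := fun g => by
      rw [nonempty_iso_iff, restrHom_comp, hπf]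
    simp only [key]
    exact hcat ⟨N, hN⟩ (restrHom φ) (restrHom_invariant φ)
  · obtain ⟨x, hx⟩ := (horb Ω t).1 m.down
    refine ⟨⟨triv K₀ G aX x, rfl⟩, ?_⟩
    rw [fibSec_eq hπf ⟨triv K₀ G aX x, rfl⟩ (Groth.Agent.QuotLib.sec G _) ((lift_snd _ _).trans (eqToHom_refl _ _).symm)]
    exact congrArg ULift.up (by rw [← hx]; exact congrArg (· ≫ f) (sec_φ x))
  · obtain ⟨tA, hA⟩ := exists_section A.1 A.2
    obtain ⟨tB, hB⟩ := exists_section B.1 B.2
    rw [fibSec_eq hπf A tA hA, fibSec_eq hπf B tB hB] at h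
    obtain ⟨g, hg⟩ := (horb Ω t).2 _ _ (congrArg ULift.down h).symm
    exact (Pointed.nonempty_iso_iff A.1 B.1 A.2 B.2 tA tB hA hB).2 ⟨g, hg⟩

end Groth.Agent.S16721
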