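import Groth.Statements.S16742
import Groth.Agent.H1Fields.SqZeroFlat
import Mathlib

set_option autoImplicit false
universe u
open CAlg

open scoped TensorProduct

namespace Groth.Agent.S16742

/-- The equivalence in affine form, with flatness of the reduction in place of smoothness. Let p be a
prime, A~ a commutative ring flat over Z/p^2 and B~ an A~-algebra such that B~/pB~ is flat over
A~/pA~. Then B~ is flat over A~ if and only if every element of B~ killed by p is a multiple of p;
equivalently multiplication by p identifies B~/pB~ with pB~. (The published statement assumes the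
reduction smooth over A~/pA~ and the schemes noetherian, and phrases (b) as B~ being a lifting, that
is flat over A~; the statement here assumes only that the reduction is flat, where the equivalence
still holds by the local flatness criterion for the square-zero ideal generated by p.) -/
theorem result (p : ℕ) [Fact p.Prime]
    (Al : Type u) [CommRing Al] [Algebra (ZMod (p ^ 2)) Al] [Module.Flat (ZMod (p ^ 2)) Al]
    (Bl : Type u) [CommRing Bl] [Algebra Al Bl]
    (hB : Module.Flat (Al ⧸ Ideal.span {(p : Al)})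
      (Bl ⧸ (Ideal.span {(p : Al)}).map (algebraMap Al Bl))) :
    Module.Flat Al Bl ↔ ∀ b : Bl, (p : Bl) * b = 0 → b ∈ Ideal.span {(p : Bl)} := by
  have hann : ∀ a : Al, (p : Al) * a = 0 → a ∈ Ideal.span {(p : Al)} := by
    intro a ha
    let μ : ZMod (p ^ 2) →ₗ[ZMod (p ^ 2)] ZMod (p ^ 2) := LinearMap.mulLeft (ZMod (p ^ 2)) (p : ZMod (p ^ 2))
    have hex : Function.Exact μ μ := by
      intro x
      constructor
      · intro hx
        have hx' : ((p * x.val : ℕ) : ZMod (p ^ 2)) = 0 := by
          rw [Nat.cast_mul, ZMod.natCast_zmod_val]; exact hx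
        rw [ZMod.natCast_eq_zero_iff] at hx'
        replace hx' : p * p ∣ p * x.val := (dvd_of_eq (pow_two p).symm).trans hx'
        obtain ⟨c, hc⟩ := (Nat.mul_dvd_mul_iff_left (Fact.out : p.Prime).pos).mp hx'
        exact ⟨c, by show (p : ZMod (p ^ 2)) * c = x; rw [← Nat.cast_mul, ← hc, ZMod.natCast_zmod_val]⟩
      · rintro ⟨y, rfl⟩
        show (p : ZMod (p ^ 2)) * ((p : ZMod (p ^ 2)) * y) = 0
        rw [← mul_assoc, ← Nat.cast_mul, ← pow_two, ZMod.natCast_self, zero_mul]
    have h1 := Module.Flat.lTensor_exact Al hex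
    have key : ∀ z : Al ⊗[ZMod (p ^ 2)] ZMod (p ^ 2),
        TensorProduct.rid _ Al (μ.lTensor Al z) = (p : Al) * TensorProduct.rid _ Al z := fun z => by
      induction z using TensorProduct.induction_on with
      | zero => simp
      | add x y hx hy => simp [map_add, hx, hy, mul_add]
      | tmul x r => simp [μ, Algebra.smul_def]; ring
    obtain ⟨b, hb⟩ := (h1 ((TensorProduct.rid _ Al).symm a)).mp ((TensorProduct.rid _ Al).injective (by
      rw [key, LinearEquiv.apply_symm_apply, map_zero, ha]))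
    refine Ideal.mem_span_singleton.mpr ⟨TensorProduct.rid _ Al b, ?_⟩
    rw [← key, hb, LinearEquiv.apply_symm_apply]
  set I : Ideal Al := Ideal.span {(p : Al)} with hIdef
  have hpp : (p : Al) * (p : Al) = 0 := by
    rw [← Nat.cast_mul, ← pow_two, ← map_natCast (algebraMap (ZMod (p ^ 2)) Al), ZMod.natCast_self, map_zero]
  have hI : I ^ 2 = ⊥ := by
    rw [hIdef, Ideal.span_singleton_pow, pow_two, hpp, Ideal.span_singleton_eq_bot]
  have hmap : I.map (algebraMap Al Bl) = Ideal.span {(p : Bl)} := by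
    rw [hIdef, Ideal.map_span, Set.image_singleton, map_natCast]
  let eA : (Bl ⧸ I.map (algebraMap Al Bl)) ≃ₗ[Al] (Al ⧸ I) ⊗[Al] Bl :=
    ((Algebra.TensorProduct.quotIdealMapEquivTensorQuot Bl I).toLinearEquiv.restrictScalars Al).trans
      (TensorProduct.comm Al Bl (Al ⧸ I))
  haveI : Module.Flat (Al ⧸ I) ((Al ⧸ I) ⊗[Al] Bl) :=
    Module.Flat.of_linearEquiv (M := Bl ⧸ I.map (algebraMap Al Bl)) (eA.symm.extendScalarsOfSurjective Ideal.Quotient.mk_surjective)
  let θ₀ : Al →ₗ[Al] ↥I := LinearMap.toSpanSingleton Al ↥I ⟨(p : Al), Ideal.mem_span_singleton_self _⟩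
  have hker : I = LinearMap.ker θ₀ := by
    ext a
    refine ⟨fun ha => ?_, fun ha => hann a ?_⟩
    · obtain ⟨c, rfl⟩ := Ideal.mem_span_singleton.mp ha
      refine LinearMap.mem_ker.mpr (Subtype.ext ?_)
      show (p : Al) * c * (p : Al) = 0
      rw [mul_right_comm, hpp, zero_mul]
    · have : a * (p : Al) = 0 := congrArg Subtype.val (LinearMap.mem_ker.mp ha)
      rwa [mul_comm]
  let θ : (Al ⧸ I) →ₗ[Al] ↥I := Submodule.liftQ I θ₀ hker.le
  have hθs : Function.Surjective θ := fun z => by
    obtain ⟨c, hc⟩ := Ideal.mem_span_singleton.mp z.2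
    exact ⟨Ideal.Quotient.mk I c, Subtype.ext (by show c * (p : Al) = z.1; rw [hc, mul_comm])⟩
  have h1z : ∀ z : (Al ⧸ I) ⊗[Al] Bl, ∃ b : Bl, z = 1 ⊗ₜ b := fun z => by
    induction z using TensorProduct.induction_on with
    | zero => exact ⟨0, (TensorProduct.tmul_zero _ _).symm⟩
    | tmul q b =>
      obtain ⟨a, rfl⟩ := Ideal.Quotient.mk_surjective q
      exact ⟨a • b, by rw [← TensorProduct.smul_tmul, Algebra.smul_def, mul_one]; rfl⟩
    | add x y hx hy =>
      obtain ⟨b, rfl⟩ := hx
      obtain ⟨c, rfl⟩ := hy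
      exact ⟨b + c, (TensorProduct.tmul_add _ _ _).symm⟩
  have heval : ∀ b : Bl, TensorProduct.lid Al Bl (I.subtype.rTensor Bl (θ.rTensor Bl (1 ⊗ₜ b))) = (p : Bl) * b := fun b => by
    show TensorProduct.lid Al Bl ((θ₀ 1 : Al) ⊗ₜ b) = _
    simp [θ₀, Algebra.smul_def]
  have hone : ∀ b : Bl, ((1 : Al ⧸ I) ⊗ₜ[Al] b = 0 ↔ b ∈ Ideal.span {(p : Bl)}) := fun b => by
    have : eA (Ideal.Quotient.mk _ b) = (1 : Al ⧸ I) ⊗ₜ[Al] b := by simp [eA]
    rw [← this, eA.map_eq_zero_iff, Ideal.Quotient.eq_zero_iff_mem, hmap]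
  constructor
  · intro hfl b hb
    have hθi : Function.Injective θ := by
      rw [← LinearMap.ker_eq_bot]; exact Submodule.ker_liftQ_eq_bot _ _ _ hker.ge
    refine (hone b).mp ?_
    have h2 : Function.Injective (I.subtype.rTensor Bl) := Module.Flat.rTensor_preserves_injective_linearMap _ Subtype.val_injective
    have h3 : Function.Injective (θ.rTensor Bl) := Module.Flat.rTensor_preserves_injective_linearMap _ hθi
    exact h3 (h2 ((TensorProduct.lid Al Bl).injective (by rw [heval, hb, map_zero, map_zero, map_zero])))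
  · intro hb
    refine H1Fields.flat_of_sq_zero I hI ((injective_iff_map_eq_zero _).mpr fun x hx => ?_)
    obtain ⟨z, rfl⟩ := LinearMap.rTensor_surjective Bl hθs x
    obtain ⟨b, rfl⟩ := h1z z
    have h0 : (p : Bl) * b = 0 := by rw [← heval, hx, map_zero]
    rw [(hone b).mpr (hb b h0), map_zero]

end Groth.Agent.S16742
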