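import Groth.Statements.S16751
import Groth.Agent.RelCurveCoh.Basic
import Groth.Agent.CohPullLib.FibreVanish
import Groth.Agent.CurveBC.Coh
-- import your own Groth.Agent.* helpers here

set_option autoImplicit false
set_option backward.isDefEq.respectTransparency false
set_option backward.isDefEq.respectTransparency.types false
set_option linter.style.haveILetI false
set_option maxHeartbeats 1000000
universe u
open CurvSt

namespace Groth.Agent.S16751
open Groth.Agent

open CategoryTheory CategoryTheory.Limits AlgebraicGeometry in
/-- Let f : X → S be a flat, proper morphism of schemes, locally of finite presentation, all of whose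
fibres have dimension at most one (a family of curves whose total space is a scheme), and assume
that for every point s of S the fibre X_s has dim_{κ(s)} H^0(X_s, O_{X_s}) = 1 (the residue field is
the ring of global functions of the fibre). Then (1) the map O_S → f_* O_X is an isomorphism, and so
is O_{S'} → f'_* O_{X'} for the base change f' of f along any morphism of schemes S' → S; and (2)
R^1 f_* O_X is a finite locally free O_S-module. The source allows the total space to be an
algebraic space, and also asserts the compatibility of R^1 f_* O_X with arbitrary base change, which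
is not stated here. -/
theorem result (X S : Scheme.{u}) (f : X ⟶ S)
    [Flat f] [IsProper f] [LocallyOfFinitePresentation f]
    (hdim : ∀ s : S, topologicalKrullDim ↥(f.fiber s) ≤ 1)
    (h0 : ∀ s : S, Models.hRank ↥(S.residueField s) (f.fiber s) (f.fiberToSpecResidueField s)
      (Coh.structureModule (f.fiber s)) 0 = 1)
    [HasInjectiveResolutions X.Modules] :
    (∀ (S' : Scheme.{u}) (g : S' ⟶ S), IsIso (ClSub.unitToPush (pullback.snd f g))) ∧
      FlatMod.IsFinLocFree ((Coh.Rpush f 1).obj (Coh.structureModule X)) := by
  obtain ⟨hq, hfp⟩ := RelCurveCoh.isQCoh_fp_structure (X := X)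
  have hfl := DerBC7.isFlatOver_structureModule f
  refine ⟨fun S' g => DerBC7.isIso_unitToPush _ (DerBC7.isIso_app_of_h0 (pullback.snd f g) fun t => ?_),
    CohPullLib.isFinLocFree_of_exchAt hq hfp hfl (fun s => ?_) fun s p' hp' => ?_⟩
  · let q := pullback.snd f g
    let α : S.residueField (g t) ⟶ S'.residueField t := g.residueFieldMap t
    letI : Algebra (S.residueField (g t)) (S'.residueField t) := α.hom.toAlgebra
    letI := GenusOneX.fibreOver f (g t)
    letI := GenusOneX.fibreOver q t
    have sq : IsPullback (q.fiberι t ≫ pullback.fst f g) (q.fiberToSpecResidueField t) f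
        (Spec.map α ≫ S.fromSpecResidueField (g t)) := by
      rw [g.SpecMap_residueFieldMap_fromSpecResidueField t]
      exact (IsPullback.of_hasPullback q (S'.fromSpecResidueField t)).paste_horiz (IsPullback.of_hasPullback f g)
    let m : q.fiber t ⟶ f.fiber (g t) :=
      pullback.lift (q.fiberι t ≫ pullback.fst f g) (q.fiberToSpecResidueField t ≫ Spec.map α)
        (by rw [sq.w, Category.assoc])
    have hpb : IsPullback m (q.fiber t ↘ Spec (CommRingCat.of (S'.residueField t)))
        (f.fiber (g t) ↘ Spec (CommRingCat.of (S.residueField (g t))))
        (Spec.map (CommRingCat.ofHom (algebraMap (S.residueField (g t)) (S'.residueField t)))) := by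
      refine IsPullback.of_right ?_ (pullback.lift_snd _ _ _) (IsPullback.of_hasPullback f _)
      rw [show m ≫ pullback.fst f (S.fromSpecResidueField (g t)) = q.fiberι t ≫ pullback.fst f g from
        pullback.lift_fst _ _ _]
      exact sq
    haveI : IsProper (f.fiber (g t) ↘ Spec (CommRingCat.of (S.residueField (g t)))) :=
      inferInstanceAs (IsProper (pullback.snd f (S.fromSpecResidueField (g t))))
    haveI := CurveCohLib.isNoetherian_of_proper (k := S.residueField (g t)) (X := f.fiber (g t))
    obtain ⟨u⟩ := PicClLib.nonempty_pullback_structureModule m
    refine RelCurveCoh.isIso_appTop_of_h0 (k := S'.residueField t) (Y := q.fiber t) ?_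
    rw [← (CurveCohLib.hhEquiv (k := S'.residueField t) u 0).finrank_eq,
      CurveBC.finrank_hh (S.residueField (g t)) (S'.residueField t) m hpb _ QCoh.isQCoh_structureModule]
    exact h0 (g t)
  · exact (CohPullLib.vanAt_of_subsingleton hq hfp hfl 2
      (CohPullLib.subsingleton_fiberH_of_dim f hq hfp s (d := 1) (hdim s) Nat.one_lt_two)).exchAt_pred
  · obtain rfl : p' = 0 := by omega
    refine RelCurveCoh.exchAt_zero_structure ?_
    rw [RelCurveCoh.fiberRank_structure]
    exact h0 s

end Groth.Agent.S16751
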