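import Groth.Statements.S16752
import Groth.Agent.RelCurveCoh.Basic
import Groth.Agent.S0404
-- import your own Groth.Agent.* helpers here

set_option autoImplicit false
set_option backward.isDefEq.respectTransparency false
set_option backward.isDefEq.respectTransparency.types false
set_option linter.style.haveILetI false
set_option maxHeartbeats 1000000
universe u
open CurvSt

namespace Groth.Agent.S16752
open Groth.Agent

open CategoryTheory CategoryTheory.Limits AlgebraicGeometry in
/-- Let f : X → S be a flat, proper morphism of schemes, locally of finite presentation, all of whose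
fibres have dimension at most one (a family of curves whose total space is a scheme). Then the set
of points s of S such that the fibre X_s has dimension one and dim_{κ(s)} H^0(X_s, O_{X_s}) = 1 (the
conditions under which the genus of X_s is defined) is open in S. The source allows the total space
to be an algebraic space and phrases the result as the existence of an open substack of the stack of
curves with this membership condition. -/
theorem result (X S : Scheme.{u}) (f : X ⟶ S)
    [Flat f] [IsProper f] [LocallyOfFinitePresentation f]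
    (hdim : ∀ s : S, topologicalKrullDim ↥(f.fiber s) ≤ 1) :
    IsOpen {s : S | topologicalKrullDim ↥(f.fiber s) = 1 ∧
      Models.hRank ↥(S.residueField s) (f.fiber s) (f.fiberToSpecResidueField s)
        (Coh.structureModule (f.fiber s)) 0 = 1} := by
  obtain ⟨hq, hfp⟩ := RelCurveCoh.isQCoh_fp_structure (X := X)
  have hA : IsOpen {s : S | CohIII.fiberRank f (Coh.structureModule X) 0 s = 1} := by
    rw [isOpen_iff_forall_mem_open]
    intro s hs
    obtain ⟨V, hV, P, hsV, hP, hepi⟩ := RelCurveCoh.exchAt_zero_structure (f := f) hs
    obtain ⟨h1, h2, h3⟩ := CohPullLib.sections_push_of_preservesEpi hq hP hepi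
    haveI := h1
    haveI := h2
    let N := Γ((Scheme.Modules.pushforward f).obj (Coh.structureModule X), V)
    let O : Set (PrimeSpectrum Γ(S, V)) := Module.rankAtStalk (R := Γ(S, V)) N ⁻¹' {1}
    have hO : IsOpen O := Module.isLocallyConstant_rankAtStalk _
    have hrk : ∀ (v : S) (hv : v ∈ V), Module.rankAtStalk (R := Γ(S, V)) N (hV.primeIdealOf ⟨v, hv⟩) =
        CohIII.fiberRank f (Coh.structureModule X) 0 v := fun v hv => by
      rw [← FlatCxLib.fibreRank_eq_rankAtStalk]
      exact h3 v hv
    refine ⟨hV.fromSpec '' O, ?_, hV.fromSpec.isOpenEmbedding.isOpenMap _ hO,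
      ⟨hV.primeIdealOf ⟨s, hsV⟩, (hrk s hsV).trans hs, hV.fromSpec_primeIdealOf _⟩⟩
    rintro _ ⟨Q, hQ, rfl⟩
    have hv : hV.fromSpec Q ∈ V := by
      rw [← SetLike.mem_coe, ← hV.range_fromSpec]; exact Set.mem_range_self _
    have he : hV.primeIdealOf ⟨hV.fromSpec Q, hv⟩ = Q :=
      hV.fromSpec.isOpenEmbedding.injective (hV.fromSpec_primeIdealOf _)
    show CohIII.fiberRank f (Coh.structureModule X) 0 (hV.fromSpec Q) = 1
    rw [← hrk _ hv, he]
    exact hQ
  have hB : IsOpen {s : S | ((0 : ℕ) : WithBot ℕ∞) < topologicalKrullDim ↥(f.fiber s)} := S0404.result f _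
  convert hA.inter hB using 1
  ext s
  simp only [Set.mem_setOf_eq, Set.mem_inter_iff, RelCurveCoh.fiberRank_structure]
  refine ⟨fun h => ⟨h.2, h.1 ▸ ?_⟩, fun h => ⟨le_antisymm (hdim s) ?_, h.1⟩⟩
  · exact zero_lt_one
  · exact Order.succ_le_of_lt h.2

end Groth.Agent.S16752
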