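import Groth.Statements.S16761
import Groth.Agent.CohPullLib.LocRestrict
import Groth.Agent.CohPullLib.FibreVanish
import Groth.Agent.KFlatLib.Scheme.RpushQCoh

set_option autoImplicit false
set_option backward.isDefEq.respectTransparency false
set_option backward.isDefEq.respectTransparency.types false
universe u
open Coherent

namespace Groth.Agent.S16761

open AlgebraicGeometry CategoryTheory CategoryTheory.Limits in
/-- Let f : X → S be proper and of finite presentation, F an O_X-module of finite presentation which is
flat over S, and d a natural number with dim X_s ≤ d for all s. Then the set S' of points s with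
H^j(X_s, F_s) = 0 for all j ≥ 1 is open, and over every open U ⊆ S' the sheaves R^j f_* F (j ≥ 1)
restrict to zero, f_* F restricts to a finite locally free module, and the formation of f_* F
commutes with base change: for every cartesian square with base a morphism g : T → S whose image
lies in U, with f' : X ×_S T → T and g' : X ×_S T → X the projections, the base change map g^* f_* F
→ f'_* g'^* F is an isomorphism. (The published statement asks only that f be proper; without finite
presentation the assertions on f_* F fail — for a finite flat morphism which is not of finite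
presentation and F = O_X the direct image f_* O_X need not be finite locally free — and the argument
runs through cohomology and base change for morphisms of finite presentation, so f is taken of
finite presentation here. Higher direct images are right derived functors of f_* on O_X-modules,
with injective resolutions carried as an instance argument.) -/
theorem result {X S : Scheme.{u}} (f : X ⟶ S)
    [IsProper f] [LocallyOfFinitePresentation f] [HasInjectiveResolutions X.Modules]
    (F : X.Modules) (hF : CohB1.IsFP F) (hfl : FlatMod.IsFlatOver f F)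
    (d : ℕ) (hd : ∀ s : S, topologicalKrullDim ↥(f.fiber s) ≤ d) :
    IsOpen {s : S | ∀ j : ℕ, 1 ≤ j → Subsingleton (CohIII.fiberH f F s j)} ∧
      ∀ U : S.Opens, (U : Set S) ⊆ {s : S | ∀ j : ℕ, 1 ≤ j → Subsingleton (CohIII.fiberH f F s j)} →
        (∀ j : ℕ, 1 ≤ j → IsZero (((Coh.Rpush f j).obj F).restrict U.ι)) ∧
          FlatMod.IsFinLocFree (((Coh.push f).obj F).restrict U.ι) ∧
            ∀ (T X' : Scheme.{u}) (g : T ⟶ S) (f' : X' ⟶ T) (g' : X' ⟶ X) (hsq : IsPullback g' f' f g),
              Set.range g.base ⊆ (U : Set S) → IsIso (CohBC.bc0 f g f' g' hsq.w F) := by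
  have hq : Coh.IsQCoh F := Groth.Agent.QCoh.isQCoh_of_isFP hF
  let S' := {s : S | ∀ j : ℕ, 1 ≤ j → Subsingleton (CohIII.fiberH f F s j)}
  have hS' : S' = ⋂ j ∈ Finset.Icc 1 d, {s | Groth.Agent.CohPullLib.VanAt f F j s} := by
    ext s
    simp only [Set.mem_iInter, Finset.mem_Icc]
    refine ⟨fun h j hj => Groth.Agent.CohPullLib.vanAt_of_subsingleton hq hF hfl j (h j hj.1), fun h j hj => ?_⟩
    by_cases hjd : j ≤ d
    · exact Groth.Agent.CohPullLib.subsingleton_of_vanAt hq (h j ⟨hj, hjd⟩)
    · exact Groth.Agent.CohPullLib.subsingleton_fiberH_of_dim f hq hF s (hd s) (by omega)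
  refine ⟨?_, fun U hU => ?_⟩
  · show IsOpen S'
    rw [hS']
    exact isOpen_biInter_finset fun j _ => Groth.Agent.CohPullLib.isOpen_vanAt j
  have hv : ∀ y ∈ U, ∀ j, 1 ≤ j → Groth.Agent.CohPullLib.VanAt f F j y := fun y hy j hj =>
    Groth.Agent.CohPullLib.vanAt_of_subsingleton hq hF hfl j (hU hy j hj)
  have hex : ∀ y ∈ U, Groth.Agent.CohPullLib.ExchAt f F 0 y := fun y hy => (hv y hy 1 le_rfl).exchAt_pred
  refine ⟨fun j hj => Groth.Agent.CohPullLib.isZero_restrict_of_vanAt hq j fun y hy => hv y hy j hj,
    Groth.Agent.CohPullLib.isFinLocFree_restrict_of_nhds fun y hy =>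
      Groth.Agent.CohPullLib.exists_isFinLocFree_push_nhd hq hF hfl hy (hex y hy),
    fun T X' g f' g' hsq hg =>
      Groth.Agent.CohPullLib.isIso_bc0_of_exchAt hsq hq fun z => hex _ (hg ⟨z, rfl⟩)⟩

end Groth.Agent.S16761
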