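import Groth.Statements.S1677
import Groth.Agent.RegImmLib.RelQuasi
import Groth.Agent.S8656
import Groth.Agent.S8660

set_option autoImplicit false
set_option backward.isDefEq.respectTransparency false
set_option backward.isDefEq.respectTransparency.types false
universe u
open CategoryTheory CategoryTheory.Limits AlgebraicGeometry TopologicalSpace
open SDiv

namespace Groth.Agent.S1677

/-- Let X ⟶ S be smooth, Y ⟶ S flat, locally of finite presentation with complete-intersection fibre
local rings (syntomic), and i : Y ⟶ X a closed immersion over S. Then i is a regular closed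
immersion. -/
theorem result {X Y S : Scheme.{u}} (p : X ⟶ S) [Smooth p] (i : Y ⟶ X)
    [IsClosedImmersion i] (hY : CInt.IsCIMorphism (i ≫ p)) : Mor2.IsRegularClosedImmersion i := by
  haveI : Flat (i ≫ p) := hY.1
  haveI : LocallyOfFinitePresentation (i ≫ p) := hY.2.1
  have hk := Groth.Agent.S8656.result (i ≫ p) ((Groth.Agent.S8660.result (i ≫ p)).2 hY) p i rfl
  refine (Groth.Agent.RegImmLib.regClosed_iff i).2 ⟨inferInstance, inferInstance, fun z => ?_⟩
  refine (Groth.Agent.RegImmLib.regular_of_relQuasi p i z ?_).1
  obtain ⟨U, hz, hc, rs, hrs, hker⟩ := hk.2 z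
  exact ⟨U, hz, hc, rs, Groth.Agent.KRegLib.quasi_of_seq .koszul rs hrs, hker⟩

end Groth.Agent.S1677
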