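import Groth.Statements.S1678
import Groth.Agent.S1676
import Groth.Agent.RegImmLib.RegComp

set_option autoImplicit false
set_option backward.isDefEq.respectTransparency false
set_option backward.isDefEq.respectTransparency.types false
universe u
open CategoryTheory CategoryTheory.Limits AlgebraicGeometry TopologicalSpace
open SDiv

namespace Groth.Agent.S1678

/-- Let X ⟶ S be smooth and let i : Y ⟶ X and j : Y ⟶ S be closed immersions with i ≫ (X ⟶ S) = j. If j
is a regular closed immersion then so is i. -/
theorem result {X Y S : Scheme.{u}} (p : X ⟶ S) [Smooth p] (i : Y ⟶ X) (j : Y ⟶ S)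
    [IsClosedImmersion i] [IsClosedImmersion j] (h : i ≫ p = j) (hj : Mor2.IsRegularClosedImmersion j) :
    Mor2.IsRegularClosedImmersion i := by
  have hw : 𝟙 Y ≫ j = i ≫ p := by rw [Category.id_comp, h]
  let σ : Y ⟶ pullback j p := pullback.lift (𝟙 Y) i hw
  have hσ : σ ≫ pullback.fst j p = 𝟙 Y := pullback.lift_fst _ _ _
  have hσi : σ ≫ pullback.snd j p = i := pullback.lift_snd _ _ _
  haveI : Smooth (pullback.fst j p) := MorphismProperty.of_isPullback (P := @Smooth) (IsPullback.of_hasPullback j p).flip inferInstance
  haveI : IsClosedImmersion (σ ≫ pullback.snd j p) := by rw [hσi]; infer_instance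
  haveI : IsClosedImmersion σ := IsClosedImmersion.of_comp σ (pullback.snd j p)
  have h1 := Groth.Agent.S1676.result (pullback.fst j p) σ hσ
  have h2 := Groth.Agent.RegImmLib.regClosed_baseChange (IsPullback.of_hasPullback j p) hj
  exact hσi ▸ Groth.Agent.RegImmLib.regClosed_comp σ (pullback.snd j p) h1 h2

end Groth.Agent.S1678
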