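import Groth.Statements.S16785
import Groth.Agent.GrpFieldLib.SmoothWeil
import Groth.Agent.GrpFieldLib.JetTransporter

set_option autoImplicit false
open CategoryTheory MonoidalCategory CartesianMonoidalCategory MonObj GrpObj AlgebraicGeometry
universe u
open SGA3x

namespace Groth.Agent.S16785

/-- Let G be an affine group scheme of finite presentation over a scheme S and Y ⊆ G a closed subscheme
of finite presentation, smooth over S with non-empty geometrically connected fibres. Then the
centralizer of Y in G is representable by a closed subscheme of G. (The published statement asks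
only that the fibres of Y be connected; this row asks them to be geometrically connected, the case
the printed argument treats.) -/
theorem result {S : Scheme.{u}} (G Y : Over S) [GrpObj G]
    (hGa : IsAffineHom G.hom) (hGfp : LocallyOfFinitePresentation G.hom)
    (y : Y ⟶ G) (hy : IsClosedImmersion y.left) (hYs : Smooth Y.hom) (hYfp : LocallyOfFinitePresentation Y.hom)
    (hYc : ∀ s : S, ConnectedSpace ↥(Red.geomFibre s Y).left) :
    ∃ (C : Over S) (c : C ⟶ G), IsClosedImmersion c.left ∧
      ∀ (X : Over S) (g : X ⟶ G), (∃ z : X ⟶ C, z ≫ c = g) ↔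
        ∀ (X' : Over S) (x : X' ⟶ X) (a : X' ⟶ Y), (x ≫ g) * (a ≫ y) = (a ≫ y) * (x ≫ g) := by
  haveI := GrpFieldLib.SmoothDense.geometricallyIrreducible Y.hom hYc
  haveI : GeometricallyIrreducible (Limits.pullback.snd Y.hom G.hom) :=
    MorphismProperty.pullback_snd _ _ ‹GeometricallyIrreducible Y.hom›
  haveI := hYs
  haveI : Smooth (Limits.pullback.snd Y.hom G.hom) := MorphismProperty.pullback_snd _ _ hYs
  haveI := hGa
  let Δ : G ⟶ G ⊗ G := lift (𝟙 G) (𝟙 G)
  haveI : IsClosedImmersion Δ.left := inferInstanceAs (IsClosedImmersion (Limits.pullback.diagonal G.hom))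
  let c : Y ⊗ G ⟶ G ⊗ G := lift (snd Y G * (fst Y G ≫ y) * (snd Y G)⁻¹) (fst Y G ≫ y)
  let c₀ : Limits.pullback Y.hom G.hom ⟶ (G ⊗ G).left := c.left
  haveI : IsClosedImmersion (Limits.pullback.fst c₀ Δ.left) := MorphismProperty.pullback_fst _ _ ‹IsClosedImmersion Δ.left›
  obtain ⟨T, t, ht, hT, -⟩ :=
    GrpFieldLib.SmoothWeil.exists_weilRestriction_smooth (Limits.pullback.snd Y.hom G.hom) (Limits.pullback.fst c₀ Δ.left)
  refine ⟨Over.mk (t ≫ G.hom), Over.homMk t rfl, ht,
    fun X g => (GrpFieldLib.Jet.points_of_locus c Δ hT X g).trans (forall_congr' fun X' => forall_congr' fun x =>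
      forall_congr' fun h => ?_)⟩
  rw [show lift h (x ≫ g) ≫ c = lift ((x ≫ g) * (h ≫ y) * (x ≫ g)⁻¹) (h ≫ y) by
    simp [c, comp_lift, MonObj.comp_mul, GrpObj.comp_inv], ← mul_inv_eq_iff_eq_mul]
  refine ⟨fun ⟨κ, hκ⟩ => ?_, fun e => ⟨h ≫ y, by simp [Δ, e]⟩⟩
  have h1 := congrArg (· ≫ fst G G) hκ
  have h2 := congrArg (· ≫ snd G G) hκ
  simp [Δ] at h1 h2
  rw [h1, h2]

end Groth.Agent.S16785
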