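import Groth.Statements.S16788
import Groth.Agent.MultConjLib.SubTransporter
-- import your own Groth.Agent.* helpers here

set_option autoImplicit false
open CategoryTheory MonoidalCategory CartesianMonoidalCategory MonObj GrpObj AlgebraicGeometry
universe u
open SGA3x
set_option backward.isDefEq.respectTransparency false

namespace Groth.Agent.S16788

/-- For a smooth affine group scheme G over a scheme S and subgroup schemes H₁, H₂ of multiplicative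
type (of finite type), the transporter {g : g H₁ g⁻¹ ⊆ H₂} (containment, not equality) is
representable by a closed subscheme of G which is smooth over S. -/
theorem result {S : Scheme.{u}} (H₁ H₂ G : Over S) [GrpObj H₁] [GrpObj H₂] [GrpObj G]
    (hH₁ : SGA3x.IsMultTypeFT H₁) (hH₂ : SGA3x.IsMultTypeFT H₂) (hG : Smooth G.hom) (hGa : IsAffineHom G.hom)
    (i₁ : H₁ ⟶ G) [IsMonHom i₁] [Mono i₁] (i₂ : H₂ ⟶ G) [IsMonHom i₂] [Mono i₂] :
    ∃ (C : Over S) (c : C ⟶ G), IsClosedImmersion c.left ∧ Smooth C.hom ∧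
      ∀ (X : Over S) (g : X ⟶ G), (∃ z : X ⟶ C, z ≫ c = g) ↔
        ∀ (X' : Over S) (x : X' ⟶ X) (h : X' ⟶ H₁), ∃ h' : X' ⟶ H₂, (x ≫ g) * (h ≫ i₁) * (x ≫ g)⁻¹ = h' ≫ i₂ := by
  haveI := hG
  haveI := hGa
  have hD₁ := MultConjLib.isLocDS_of_multTypeFT hH₁
  have hD₂ := MultConjLib.isLocDS_of_multTypeFT hH₂
  obtain ⟨hHa₁, hHe₁⟩ := TransLib.multTypeFT_essFree hH₁
  haveI := MultConjLib.isClosedImmersion_of_mono hD₂ i₂
  haveI : LocallyOfFinitePresentation (i₂.left ≫ G.hom) := by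
    rw [Over.w i₂]; exact HomSchLib.lfp_of_multTypeFT hH₂
  have hlfp := Groth.Agent.S12442.locallyOfFinitePresentation_of_comp i₂.left G.hom
  obtain ⟨C, c, hc, hcfp, hC⟩ := TransLib.exists_closed_universal_essFree (X := G) hHe₁
    (snd H₁ G * (fst H₁ G ≫ i₁) * (snd H₁ G)⁻¹) i₂
  haveI := hcfp inferInstance hlfp
  have hpts : ∀ (X : Over S) (g : X ⟶ G), (∃ z : X ⟶ C, z ≫ c = g) ↔
      ∀ (X' : Over S) (x : X' ⟶ X) (h₁ : X' ⟶ H₁),
        ∃ h₂ : X' ⟶ H₂, (x ≫ g) * (h₁ ≫ i₁) * (x ≫ g)⁻¹ = h₂ ≫ i₂ := by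
    refine fun X g => (hC g).trans ⟨fun ⟨l, hl⟩ X' x a => ⟨lift a x ≫ l, ?_⟩, fun h => ?_⟩
    · rw [Category.assoc, hl]
      simp [MonObj.comp_mul, GrpObj.comp_inv, lift_whiskerLeft_assoc]
    · obtain ⟨l, hl⟩ := h (H₁ ⊗ X) (snd H₁ X) (fst H₁ X)
      exact ⟨l, by rw [← hl]; simp [MonObj.comp_mul, GrpObj.comp_inv]⟩
  refine ⟨C, c, hc, (Groth.Agent.S1488.result C.hom).mpr ⟨by rw [← Over.w c]; infer_instance, ?_⟩, hpts⟩
  intro A _ I hI a b hab
  let z : GrpSchLib.DiagActionRigid.sp b (A ⧸ I) ⟶ C := Over.homMk a hab.symm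
  let g₀ := z ≫ c
  obtain ⟨v₁, hv₁⟩ := MultConjLib.PtHom.exists_factor i₂ ((MultConjLib.PtHom.ofHom i₁ (A ⧸ I)).conj g₀) fun B _ _ ρ q => by
    obtain ⟨p, hp⟩ := (hpts _ g₀).mp ⟨z, rfl⟩ _ (GrpSchLib.DiagActionRigid.spm b ρ) q
    exact ⟨p, hp.symm⟩
  obtain ⟨w₁, hw₁⟩ := MultConjLib.exists_ptHom_lift hD₁ hD₂ I ⟨2, hI⟩ v₁
  obtain ⟨AH₁, _, _, x₁, hx₁, sq₁, -, j₁, hj₁⟩ := MultConjLib.exists_univ_int hD₁ b
  obtain ⟨g, hg, hgc⟩ := MultConjLib.exists_ptConj_lift hx₁ hj₁ ((Groth.Agent.S1488.result G.hom).mp hG).2 I hI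
    (MultConjLib.PtHom.ofHom i₁ A) (w₁.post i₂) g₀ fun B _ _ ρ q => by
      show (w₁.map (Ideal.Quotient.mkₐ A I)).app B ρ q ≫ i₂ = _
      rw [hw₁, hv₁]
      rfl
  have hid' : Spec.map (CommRingCat.ofHom (algebraMap A A)) = 𝟙 _ := Spec.map_id _
  obtain ⟨t, ht⟩ := (hpts _ g).mpr fun X' x' h => by
    have hw : x'.left ≫ b = X'.hom := by
      have h := Over.w x'
      change x'.left ≫ Spec.map (CommRingCat.ofHom (algebraMap A A)) ≫ b = X'.hom at h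
      rw [hid'] at h
      exact (congrArg (x'.left ≫ ·) (Category.id_comp b)).symm.trans h
    let tt : X' ⟶ GrpSchLib.DiagActionRigid.sp b AH₁ :=
      Over.homMk (sq₁.lift x'.left h.left (hw.trans (Over.w h).symm)) (by
        show _ ≫ Spec.map (CommRingCat.ofHom (algebraMap A AH₁)) ≫ b = X'.hom
        rw [sq₁.lift_fst_assoc, hw])
    have htx : tt ≫ x₁ = h := Over.OverMorphism.ext (sq₁.lift_snd _ _ _)
    have htg : tt ≫ GrpSchLib.DiagActionRigid.spm b (Algebra.ofId A AH₁) = x' :=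
      Over.OverMorphism.ext (sq₁.lift_fst _ _ _)
    have e := congrArg (tt ≫ ·) (hgc AH₁ (Algebra.ofId A AH₁) x₁)
    change tt ≫ (w₁.app AH₁ _ x₁ ≫ i₂) = tt ≫ ((GrpSchLib.DiagActionRigid.spm b (Algebra.ofId A AH₁) ≫ g) *
      (x₁ ≫ i₁) * (GrpSchLib.DiagActionRigid.spm b (Algebra.ofId A AH₁) ≫ g)⁻¹) at e
    simp only [MonObj.comp_mul, GrpObj.comp_inv, reassoc_of% htx, reassoc_of% htg] at e
    exact ⟨tt ≫ w₁.app AH₁ _ x₁, by rw [Category.assoc]; exact e.symm⟩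
  refine ⟨t.left, ?_, ?_⟩
  · haveI : Mono c.left := inferInstance
    rw [← cancel_mono c.left, Category.assoc]
    exact (congrArg (fun m => Spec.map (CommRingCat.ofHom (Ideal.Quotient.mk I)) ≫ CommaMorphism.left m) ht).trans
      (congrArg CommaMorphism.left hg)
  · refine (Over.w t).trans ?_
    show Spec.map (CommRingCat.ofHom (algebraMap A A)) ≫ b = b
    rw [hid', Category.id_comp]

end Groth.Agent.S16788
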