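import Groth.Statements.S16794
import Groth.Agent.PCurvLib.Hochschild
-- import your own Groth.Agent.* helpers here

set_option autoImplicit false
universe v u
open PCurv

namespace Groth.Agent.S16794

open TensorProduct in
/-- Let p be a prime number and B a commutative algebra of characteristic p over a commutative ring A
whose module Ω of Kähler differentials over A is free of rank one on a form ω; let θ₀ be the
A-derivation of B dual to ω (its B-linear functional Ω → B takes the value 1 on ω), and let ∇ be a
connection on a finite free B-module M. Then the p-curvature of ∇ vanishes identically — for every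
A-derivation θ of B and every derivation θ' that agrees with the p-fold iterate of θ, the
endomorphism (∇_θ)^p − ∇_{θ'} of M is zero — if and only if it vanishes for the single derivation
θ₀. -/
theorem result {A : Type v} {B M : Type u} [CommRing A] [CommRing B]
    [Algebra A B] (p : ℕ) [Fact p.Prime] [CharP B p]
    [AddCommGroup M] [Module B M] [Module A M] [IsScalarTower A B M] [Module.Finite B M] [Module.Free B M]
    (bΩ : Module.Basis (Fin 1) B (KaehlerDifferential A B)) (θ₀ : Derivation A B B)
    (hθ₀ : θ₀.liftKaehlerDifferential (bΩ 0) = 1)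
    (nabla : M →ₗ[A] M ⊗[B] KaehlerDifferential A B)
    (hc : Conn.IsConn (KaehlerDifferential.D A B) nabla) :
    (∀ θ θp : Derivation A B B, Conn.IsIterPow θ p θp → Conn.pCurv p nabla θ θp = 0) ↔
      (∀ θp : Derivation A B B, Conn.IsIterPow θ₀ p θp → Conn.pCurv p nabla θ₀ θp = 0) := by
  classical
  have hsingle : ∀ (θ : Derivation A B B) (ω : KaehlerDifferential A B),
      θ.liftKaehlerDifferential ω = bΩ.repr ω 0 * θ.liftKaehlerDifferential (bΩ 0) := by
    intro θ ω
    conv_lhs => rw [← bΩ.sum_repr ω, Fin.sum_univ_one, map_smul, smul_eq_mul]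
  have hlift : ∀ (θ : Derivation A B B) (ω : KaehlerDifferential A B),
      θ.liftKaehlerDifferential ω =
        θ.liftKaehlerDifferential (bΩ 0) * θ₀.liftKaehlerDifferential ω := by
    intro θ ω
    rw [hsingle θ, hsingle θ₀, hθ₀, mul_one, mul_comm]
  have hθ : ∀ (θ : Derivation A B B) (b : B),
      θ b = θ.liftKaehlerDifferential (bΩ 0) * θ₀ b := by
    intro θ b
    rw [← θ.liftKaehlerDifferential_comp_D, ← θ₀.liftKaehlerDifferential_comp_D, hlift θ]
  have hspan : Ideal.span (Set.range θ₀) = ⊤ := by
    rw [Ideal.eq_top_iff_one, ← hθ₀]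
    have hmem : ∀ ω : KaehlerDifferential A B,
        θ₀.liftKaehlerDifferential ω ∈ Ideal.span (Set.range θ₀) := by
      intro ω
      have hω : ω ∈ Submodule.span B (Set.range (KaehlerDifferential.D A B)) := by
        rw [KaehlerDifferential.span_range_derivation]
        exact Submodule.mem_top
      have h2 := Submodule.mem_map_of_mem (f := θ₀.liftKaehlerDifferential) hω
      rw [Submodule.map_span, ← Set.range_comp] at h2
      have hco : (⇑θ₀.liftKaehlerDifferential ∘ ⇑(KaehlerDifferential.D A B)) = ⇑θ₀ :=
        funext θ₀.liftKaehlerDifferential_comp_D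
      rwa [hco] at h2
    exact hmem _
  have halong : ∀ θ : Derivation A B B, Conn.alongDer nabla θ =
      θ.liftKaehlerDifferential (bΩ 0) • Conn.alongDer nabla θ₀ := by
    intro θ
    refine LinearMap.ext fun m => ?_
    simp only [Conn.alongDer, Conn.along_apply, LinearMap.smul_apply]
    induction nabla m using TensorProduct.induction_on with
    | zero => simp
    | tmul x ω =>
      simp only [TensorProduct.map_tmul, LinearMap.id_apply, TensorProduct.rid_tmul]
      rw [hlift θ, mul_smul]
    | add a b ha hb => simp only [map_add, ha, hb, smul_add]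
  have hleib : Groth.Agent.PCurvLib.IsLeib θ₀ (Conn.alongDer nabla θ₀) := by
    intro b m
    simp only [Conn.alongDer, Conn.along_apply, hc b m, map_add, map_smul,
      TensorProduct.map_tmul, LinearMap.id_apply, TensorProduct.rid_tmul,
      Derivation.liftKaehlerDifferential_comp_D]
    rw [add_comm]
  refine ⟨fun h => h θ₀, fun h θ θp hp => ?_⟩
  have h0 := h _ (Groth.Agent.PCurvLib.isIterPow_iterPow p θ₀)
  rw [Conn.pCurv, sub_eq_zero, halong (Groth.Agent.PCurvLib.iterPow p θ₀)] at h0
  rw [Conn.pCurv, sub_eq_zero]
  refine LinearMap.ext fun m => ?_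
  rw [halong θ, halong θp, LinearMap.smul_apply]
  set f := θ.liftKaehlerDifferential (bΩ 0) with hf
  set g := (Groth.Agent.PCurvLib.iterPow p θ₀).liftKaehlerDifferential (bΩ 0) with hg
  have hfθ : (⇑(f • θ₀) : B → B) = ⇑θ := funext fun b => by
    rw [Derivation.smul_apply, smul_eq_mul, hθ θ b]
  rw [Groth.Agent.PCurvLib.pow_smul_eq p hspan hleib f g (θp.liftKaehlerDifferential (bΩ 0))
      (fun b => by rw [← Groth.Agent.PCurvLib.isIterPow_iterPow p θ₀ b, hθ (Groth.Agent.PCurvLib.iterPow p θ₀)])
      (fun b => by rw [hfθ, ← hp b, hθ θp]) m,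
    h0, LinearMap.smul_apply, smul_smul, ← add_smul]
  congr 1
  ring

end Groth.Agent.S16794
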