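import Groth.Statements.S16826
import Groth.Agent.AlgStLib.QuotStToSp
import Groth.Agent.AlgStLib.SmoothBootstrap
import Groth.Agent.QuotLib.AtlasProps
import Groth.Agent.AlgSpDec.SmoothSheafCover
import Groth.Agent.StkLib.Basic

/-!
The quotient stack of a smooth affine group scheme with etale locally trivial torsors: smooth torsors
have sections etale locally, so this is the fppf quotient stack, which has a smooth atlas.
-/

set_option autoImplicit false
set_option backward.isDefEq.respectTransparency false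
set_option backward.isDefEq.respectTransparency.types false
universe u
open AlgSt

namespace Groth.Agent.S16826

open CategoryTheory CategoryTheory.Functor CategoryTheory.Limits MonoidalCategory CartesianMonoidalCategory MonObj
  AlgebraicGeometry AlgSp Groth.Agent.FibBase Groth.Agent.AlgSpLib Groth.Agent.AlgStLib Groth.Agent.QuotLib

variable {S : Scheme.{u}} {G : Over S} [GrpObj G] {X : Over S} {aX : AlgGrp.Action G X}

local notation "Kf" => Scheme.fppfPrecoverage
local notation "Ke" => Scheme.etalePrecoverage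

/-- An etale locally trivial torsor is fppf locally trivial. -/
def toFppf (A : QuotObj Ke G aX) : QuotObj Kf G aX where
  base := A.base
  P := A.P
  act := A.act
  π := A.π
  cart := A.cart
  loc := by
    obtain ⟨R, hR, hs⟩ := A.loc
    refine ⟨R, Scheme.precoverage_mono (P := @Etale) (Q := @Flat ⊓ @LocallyOfFinitePresentation)
      (fun _ _ f (_ : Etale f) => ⟨inferInstance, inferInstance⟩) _ hR, hs⟩
  φ := A.φ
  eqv := A.eqv

/-- The comparison functor. -/
def toFppfFunctor : BasedFunctor (QuotSt Ke G aX) (QuotSt Kf G aX) where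
  toFunctor :=
    { obj := toFppf
      map := fun f => ⟨f.base, f.top, f.eqv, f.cart, f.wφ⟩
      map_id := fun _ => QuotObj.hom_ext rfl rfl
      map_comp := fun _ _ => QuotObj.hom_ext rfl rfl }
  w := rfl

theorem exists_loc [Smooth G.hom] (A : QuotObj Kf G aX) :
    NonAbH1.IsLocallyTrivialFor Ke (Over.mk A.π.left : Over A.base.left) := by
  have hs : Smooth A.π.left := by
    have h := locP_π (R := @Smooth) (isLocalOnBase_fppf_of_fpqc isLocalOnBase_fpqc_locP) ‹_› A (U := A.base) rfl
    rw [eqToHom_refl, Category.comp_id] at h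
    exact (repWith_yon_map_iff _ _).1
      (repWith_of_locP (IsAlgSpace.yon_obj _) ((IsAlgSpace.yon_obj _).representable_from_yon _) h)
  haveI := hs
  haveI : Surjective A.π.left := ⟨fun x => by
    obtain ⟨R, hR, hsec⟩ := A.loc
    obtain ⟨Y, g, ⟨hg⟩, hx⟩ := hR.1 x
    obtain ⟨w, rfl⟩ := hx
    obtain ⟨s, hs⟩ := hsec _ hg
    exact ⟨s w, (Scheme.Hom.comp_apply s A.π.left w).symm.trans (congrArg (fun k => k w) hs)⟩⟩
  obtain ⟨T, ψ, σ, h₁, h₂, hσ⟩ := AlgSpDec.exists_etale_section A.π
  haveI := h₂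
  refine ⟨Presieve.singleton ψ.left, (Scheme.singleton_mem_precoverage_iff (P := @Etale) ψ.left).2 ⟨ψ.left.surjective, h₁⟩, ?_⟩
  rintro _ _ ⟨⟩
  exact ⟨σ.left, congrArg CommaMorphism.left hσ⟩

theorem toFppfFunctor_isEquivOver [Smooth G.hom] :
    FibCat.IsEquivOver (toFppfFunctor : BasedFunctor (QuotSt Ke G aX) (QuotSt Kf G aX)) := by
  refine isEquivOver_of_exists_iso _ ⟨fun {A B} f => ⟨⟨f.base, f.top, f.eqv, f.cart, f.wφ⟩, QuotObj.hom_ext rfl rfl⟩⟩
    ⟨fun {A B} f g h => QuotObj.hom_ext (congrArg (fun k : toFppf A ⟶ toFppf B => k.base) h)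
      (congrArg (fun k : toFppf A ⟶ toFppf B => k.top) h)⟩ fun A => ?_
  exact ⟨⟨A.base, A.P, A.act, A.π, A.cart, exists_loc A, A.φ, A.eqv⟩, Iso.refl A,
    IsHomLift.id (p := (QuotSt Kf G aX).p) rfl⟩

open CategoryTheory AlgebraicGeometry in
/-- The quotient stack of a smooth affine group is an algebraic stack in the etale topology. -/
theorem result (S : Scheme.{u}) (G : Over S) [GrpObj G]
    (hGs : Smooth G.hom) (hGa : IsAffineHom G.hom) (X : Over S) (aX : AlgGrp.Action G X) :
    AlgSt.IsAlgStack Scheme.etalePrecoverage (AlgSt.QuotSt Scheme.etalePrecoverage G aX) ∧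
      AlgSt.RepByAlgSpWith (AlgSp.LocP @Smooth)
        (BasedFunctor.comp (AlgSt.ofOverCat X) (AlgSt.quotMap Scheme.etalePrecoverage G aX)) ∧
      AlgSt.RepByAlgSpWith AlgSp.IsSurjectiveMor
        (BasedFunctor.comp (AlgSt.ofOverCat X) (AlgSt.quotMap Scheme.etalePrecoverage G aX)) ∧
      AlgSt.RepByAlgSpWith AlgSp.IsAffineMor
        (BasedFunctor.comp (AlgSt.ofOverCat X) (AlgSt.quotMap Scheme.etalePrecoverage G aX)) := by
  haveI := hGs
  haveI := hGa
  have h₁ : AlgSt.RepByAlgSpWith (AlgSp.LocP @Smooth)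
      (BasedFunctor.comp (AlgSt.ofOverCat X) (AlgSt.quotMap Scheme.etalePrecoverage G aX)) :=
    repByAlgSpWith_quot _ fun A U eU => locP_π (isLocalOnBase_fppf_of_fpqc isLocalOnBase_fpqc_locP) hGs (toFppf A) eU
  have h₂ : AlgSt.RepByAlgSpWith AlgSp.IsSurjectiveMor
      (BasedFunctor.comp (AlgSt.ofOverCat X) (AlgSt.quotMap Scheme.etalePrecoverage G aX)) :=
    repByAlgSpWith_quot _ fun A U eU => surjective_π (toFppf A) eU
  have h₃ : AlgSt.RepByAlgSpWith AlgSp.IsAffineMor
      (BasedFunctor.comp (AlgSt.ofOverCat X) (AlgSt.quotMap Scheme.etalePrecoverage G aX)) :=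
    repByAlgSpWith_quot _ fun A U eU => by
      subst eU
      rw [eqToHom_refl, Category.comp_id]
      exact ToSp.isAffineMor_π (ToSp.obj (toFppf A))
  have hst : Stk.IsStack (QuotSh.J Scheme.etalePrecoverage S) (AlgSt.QuotSt Scheme.etalePrecoverage G aX) :=
    isStack_etale_of_fppf ((Groth.Agent.StkLib.isStack_iff_of_isEquivOver _ toFppfFunctor_isEquivOver).2
      ((Groth.Agent.StkLib.isStack_iff_of_isEquivOver _ ToSp.toSp_isEquivOver).2 SpQuot.isStack))
  refine ⟨⟨hst, ?_, ⟨X, _, h₁, h₂⟩⟩, h₁, h₂, h₃⟩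
  exact repByAlgSp1_diag_of_smooth_cover hst (isFibGrpd_overCat X)
    (repByAlgSp1_diag_toSelf_of_forall fun U x =>
      repByAlgSp1_of_repByAlgSp (repByAlgSp_overCat U) (repByAlgSp_overCat X) x) h₁ h₂

end Groth.Agent.S16826
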