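import Groth.Statements.S16823
import Groth.Agent.S16826
import Groth.Agent.AlgStLib.DiagCoverRel
import Groth.Agent.AlgStLib.SpProps
import Groth.Agent.AlgSpDec.AffineProps
import Groth.Agent.AlgStLib.LocEss

/-!
The quotient stack by a smooth affine group of a scheme with affine diagonal has affine diagonal.
-/

set_option autoImplicit false
set_option backward.isDefEq.respectTransparency false
set_option backward.isDefEq.respectTransparency.types false
universe u
open AlgSt

namespace Groth.Agent.S16823

open CategoryTheory CategoryTheory.Limits MonoidalCategory AlgebraicGeometry AlgSp Groth.Agent.AlgSpLib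
  Groth.Agent.AlgSpPts Groth.Agent.AlgStLib

variable {S : Scheme.{u}}

/-- The diagonal is affine. -/
abbrev affDiag : MorphismProperty (Sp S) := (RepWith (S := S) @IsAffineHom).diagonal

theorem stableBC_affDiag : StableBC (affDiag (S := S)) :=
  fun _ _ _ _ _ _ _ _ _ _ _ _ sq h => MorphismProperty.of_isPullback sq h

theorem stableBC_isAffineMor : StableBC (IsAffineMor (S := S)) :=
  fun _ _ _ _ _ _ _ _ _ _ _ _ sq h => isAffineMor_of_isPullback sq h

theorem cancels_affine : Cancels (IsAffineMor (S := S)) affDiag := fun _ _ _ _ _ _ _ _ hab hb =>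
  AlgSpDec.isAffineMor_of_repWith le_rfl
    (AlgSpDec.repWith_of_postcomp hb (AlgSpDec.repWith_isAffineHom_of_isAffineMor hab))

open CategoryTheory AlgebraicGeometry Limits in
/-- The etale quotient stack by a smooth affine group has affine diagonal over an affine base. -/
theorem result (S : Scheme.{u}) [IsAffine S]
    (G : Over S) [GrpObj G] (hGs : Smooth G.hom) (hGa : IsAffineHom G.hom)
    (X : Over S) (aX : AlgGrp.Action G X) (hX : IsAffineHom (pullback.diagonal X.hom)) :
    AlgSt.RepByAlgSpWith AlgSp.IsAffineMor
      (FibCat.diag (FibCat.toSelf (AlgSt.QuotSt Scheme.etalePrecoverage G aX))) := by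
  obtain ⟨hst, hsm, hsurj, haff⟩ := Groth.Agent.S16826.result S G hGs hGa X aX
  refine repByAlgSpWith_diag_toSelf_of_cover' stableBC_isAffineMor
    (isLocalOnBase_fppf_of_fpqc isLocalOnBase_fpqc_isAffineMor) cancels_affine
    (repByAlgSpWith_toSelf_overCat stableBC_affDiag ?_) hst.diag haff (locEssSurj_of_atlas hsm hsurj)
  refine repWith_diagonal (P := fun A B g => IsAffineHom (pullback.diagonal g)) ?_ (fun g h => h)
  haveI : MorphismProperty.IsStableUnderBaseChange (fun A B (g : A ⟶ B) => IsAffineHom (pullback.diagonal g)) :=
    inferInstanceAs (MorphismProperty.diagonal @IsAffineHom).IsStableUnderBaseChange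
  refine (repWith_yon_map_iff _ _).2 ?_
  have : ((Over.mkIdTerminal (X := S)).from X).left = X.hom := by
    simpa using Over.w ((Over.mkIdTerminal (X := S)).from X)
  show IsAffineHom (pullback.diagonal ((Over.mkIdTerminal (X := S)).from X).left)
  rw [this]
  exact hX

end Groth.Agent.S16823
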