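import Groth.Statements.S16825
import Groth.Agent.AlgSpVal.DvrThrough
import Groth.Agent.AlgStLib.QuasiCompactImm
import Groth.Agent.AlgStLib.DvrUnivClosed
import Groth.Agent.QDMCover.Present

set_option autoImplicit false
set_option backward.isDefEq.respectTransparency false
set_option backward.isDefEq.respectTransparency.types false
universe u
open AlgSt

namespace Groth.Agent.S16825

section Aux

open CategoryTheory CategoryTheory.Limits AlgebraicGeometry AlgSp Opposite
open Groth.Agent.FibBase Groth.Agent.AlgStLib Groth.Agent.AlgSpLib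

variable {S : Scheme.{u}} {𝒴 : AlgSt.Cat S}

/-- With quasi-compact diagonal, the fibre product of two quasi-compact charts is covered by a quasi-compact
scheme. -/
theorem exists_compact_fp (hd : AlgSt.RepByAlgSpWith IsQuasiCompactMor (FibCat.diag (FibCat.toSelf 𝒴)))
    {A B : Over S} (hc : CompactSpace (A ⨯ B).left) (y : FibCat.overCat A ⥤ᵇ 𝒴) (z : FibCat.overCat B ⥤ᵇ 𝒴) :
    ∃ (T : Over S) (c : FibCat.overCat T ⥤ᵇ FibCat.fp y z),
      CompactSpace T.left ∧ Function.Surjective (AlgSt.Points.ofChart c) := by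
  have : (BasedFunctor.id (FibCat.selfOver (Over S))).toFunctor.Full := inferInstanceAs (𝟭 _).Full
  have : (BasedFunctor.id (FibCat.selfOver (Over S))).toFunctor.Faithful := inferInstanceAs (𝟭 _).Faithful
  let g := FibCat.toSelf 𝒴
  let m := fpMap (F := BasedFunctor.comp y g) (G := BasedFunctor.comp z g)
    (F' := FibCat.toSelf (FibCat.overCat A)) (G' := FibCat.toSelf (FibCat.overCat B))
    (a := BasedFunctor.id _) (b := BasedFunctor.id _) (c := BasedFunctor.id _)
    (eqToIso (comp_toSelf y)) (eqToIso (comp_toSelf z).symm)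
  let e₀ := BasedFunctor.comp (sliceProd A B) m
  have he₀ : FibCat.IsEquivOver e₀ := isEquivOver_comp (sliceProd_isEquivOver A B)
    (fpMap_isEquivOver _ _ isEquivOver_id isEquivOver_id)
  obtain ⟨F, e, he, ha⟩ := repByAlgSpWith_weaken y z g hd (A ⨯ B) e₀
  obtain ⟨T, p, -, hp', hT⟩ := ha (IsAlgSpace.yon_obj (A ⨯ B))
    ⟨A ⨯ B, 𝟙 _, repWith_id _ _, repWith_id _ _, hc⟩ (𝟙 _)
    (𝟙 F.obj) (AlgSt.spMapOfOver (BasedFunctor.comp e (FibCat.fpFst e₀ (weaken y z g))))
    (IsPullback.of_horiz_isIso ⟨by simp⟩)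
  refine ⟨T, BasedFunctor.comp (overOfMap p) (BasedFunctor.comp e (FibCat.fpSnd e₀ (weaken y z g))), hT, fun w => ?_⟩
  obtain ⟨w₁, rfl⟩ := (pts_bijective_of_isEquivOver (QDMCover.fpSnd_isEquivOver he₀ (weaken y z g))).2 w
  obtain ⟨w₂, rfl⟩ := (pts_bijective_of_isEquivOver he).2 w₁
  obtain ⟨s, rfl⟩ := surjective_overOfMap hp' w₂
  exact ⟨s, by rw [ofChart_eq_map, pts_map_comp, pts_map_comp]⟩

/-- Points of a chart over a specialisation lift to generalisations. -/
theorem exists_generalization [QuasiSeparatedSpace S] (h𝒴 : FibCat.IsFibGrpd 𝒴.p)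
    (hd : AlgSt.RepByAlgSpWith IsQuasiCompactMor (FibCat.diag (FibCat.toSelf 𝒴)))
    {V : Over S} (y : FibCat.overCat V ⥤ᵇ 𝒴) (w₀ v : ↥V.left)
    (hv : v ∈ closure (AlgSt.Points.ofChart y ⁻¹' {AlgSt.Points.ofChart y w₀})) :
    ∃ v', AlgSt.Points.ofChart y v' = AlgSt.Points.ofChart y w₀ ∧ v' ⤳ v := by
  obtain ⟨W, hW, hvW, -⟩ := exists_isAffineOpen_mem_and_subset (X := V.left) (x := v) (U := ⊤) trivial
  let A : Over S := Over.mk (W.ι ≫ V.hom)
  let B : Over S := Over.mk (V.left.fromSpecResidueField w₀ ≫ V.hom)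
  let jA : A ⟶ V := Over.homMk W.ι rfl
  let jB : B ⟶ V := Over.homMk (V.left.fromSpecResidueField w₀) rfl
  haveI : IsAffine A.left := hW
  haveI : IsAffine B.left := inferInstanceAs (IsAffine (Spec (V.left.residueField w₀)))
  have : QuasiCompact B.hom := inferInstance
  have : CompactSpace ↥(Limits.pullback A.hom B.hom) :=
    QuasiCompact.compactSpace_of_compactSpace (Limits.pullback.fst A.hom B.hom)
  obtain ⟨T, c, hT, hc⟩ := exists_compact_fp hd
    ((Scheme.homeoOfIso (Over.prodLeftIsoPullback A B)).symm.compactSpace)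
    (BasedFunctor.comp (AlgSt.overMap jA) y) (BasedFunctor.comp (AlgSt.overMap jB) y)
  obtain ⟨k, ⟨ik⟩⟩ := exists_mapB (BasedFunctor.comp c (FibCat.fpFst _ _))
  obtain ⟨l, ⟨il⟩⟩ := exists_mapB (BasedFunctor.comp c (FibCat.fpSnd (BasedFunctor.comp (AlgSt.overMap jA) y)
    (BasedFunctor.comp (AlgSt.overMap jB) y)))
  have hkl : ∀ s, AlgSt.Points.ofChart y (jA.left (k.left s)) = AlgSt.Points.ofChart y w₀ := fun s => by
    have hb : jB.left (l.left s) = w₀ := V.left.fromSpecResidueField_apply w₀ _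
    conv_rhs => rw [← hb]
    refine ((ofChart_overMap jA y _).symm.trans (ofChart_overMap k _ s).symm).trans
      (Eq.trans ?_ ((ofChart_overMap l _ s).trans (ofChart_overMap jB y _)))
    rw [ofChart_eq_map, ofChart_eq_map]
    exact pts_map_congr
      (whiskerRightIso ik (BasedFunctor.comp (AlgSt.overMap jA) y) ≪≫ whiskerLeftIso c (FibCat.fpIso _ _) ≪≫
        whiskerRightIso il.symm (BasedFunctor.comp (AlgSt.overMap jB) y)) _
  have hrange : (W.ι ⁻¹' (AlgSt.Points.ofChart y ⁻¹' {AlgSt.Points.ofChart y w₀}) : Set _) ⊆ Set.range k.left := by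
    intro t ht
    let b : ↥B.left := (IsLocalRing.closedPoint (V.left.residueField w₀))
    obtain ⟨p, hp, -⟩ := exists_pts_fp (isFibGrpd_overCat B) h𝒴 (isFibGrpd_overCat A)
      (BasedFunctor.comp (AlgSt.overMap jB) y) (BasedFunctor.comp (AlgSt.overMap jA) y)
      (ptAt A t) (ptAt B b) (by
        rw [← ofChart_eq_map, ← ofChart_eq_map, ofChart_overMap, ofChart_overMap]
        have hb : jB.left b = w₀ := V.left.fromSpecResidueField_apply w₀ _
        rw [hb]
        exact ht)
    obtain ⟨s, rfl⟩ := hc p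
    refine ⟨s, ?_⟩
    rw [ofChart_eq_map, ← pts_map_comp, ← pts_map_congr ik] at hp
    replace hp := (map_overMap_ptAt k s).symm.trans hp
    simpa only [toSch_ptAt] using congrArg (toSch A) hp
  have hcl : (⟨v, hvW⟩ : (W : Scheme.{u})) ∈ closure (Set.range k.left) := by
    refine closure_mono hrange ?_
    rw [← (W.ι.isOpenEmbedding.isOpenMap).preimage_closure_eq_closure_preimage W.ι.continuous]
    exact hv
  obtain ⟨s, hs⟩ := AlgSpVal.exists_specializes_of_mem_closure_range k.left hcl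
  exact ⟨jA.left (k.left s), hkl s, hs.map W.ι.continuous⟩

end Aux

open CategoryTheory AlgebraicGeometry in
/-- Let S be a quasi-separated scheme and f : 𝒳 → 𝒴 a functor over (Sch/S) between algebraic stacks for
the etale topology which are Noetherian (every smooth scheme chart locally Noetherian,
quasi-compact, quasi-separated over S), with f locally of finite type and quasi-compact. Let x be a
point of 𝒳 and y₀ a point of 𝒴 which is a specialization of the image of x. Then there are a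
discrete valuation ring R with a morphism Spec R → S, a morphism a : (Sch/Spec K) → 𝒳 over (Sch/S),
K the fraction field of R, whose point is x, and a morphism b : (Sch/Spec R) → 𝒴 over (Sch/S)
sending the closed point to y₀, such that a followed by f is isomorphic over (Sch/S) to Spec K →
Spec R followed by b. -/
theorem result (S : Scheme.{u})
    [QuasiSeparatedSpace ↥S] (𝒳 𝒴 : AlgSt.Cat S)
    (h𝒳 : AlgSt.IsAlgStack Scheme.etalePrecoverage 𝒳) (h𝒴 : AlgSt.IsAlgStack Scheme.etalePrecoverage 𝒴)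
    (hn𝒳 : AlgSt.SmoothLocally (fun T => IsLocallyNoetherian T) 𝒳 ∧ AlgSt.IsQuasiCompact 𝒳 ∧
      AlgSt.IsQuasiSeparatedOver 𝒳)
    (hn𝒴 : AlgSt.SmoothLocally (fun T => IsLocallyNoetherian T) 𝒴 ∧ AlgSt.IsQuasiCompact 𝒴 ∧
      AlgSt.IsQuasiSeparatedOver 𝒴)
    (f : 𝒳 ⥤ᵇ 𝒴) (hft : AlgSt.LocQ (AlgSp.LocP @LocallyOfFiniteType) f)
    (hqc : AlgSt.IsQuasiCompactMor Scheme.etalePrecoverage f)
    (x : AlgSt.Points 𝒳) (y₀ : AlgSt.Points 𝒴) (hsp : AlgSt.Points.map f x ⤳ y₀) :
    ∃ (R : Type u) (_ : CommRing R) (_ : IsDomain R) (_ : IsDiscreteValuationRing R)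
      (sR : Spec (CommRingCat.of R) ⟶ S)
      (a : FibCat.overCat (Over.mk (Spec.map (CommRingCat.ofHom (algebraMap R (FractionRing R))) ≫ sR)) ⥤ᵇ 𝒳)
      (b : FibCat.overCat (Over.mk sR) ⥤ᵇ 𝒴),
      Nonempty (BasedFunctor.comp a f ≅
        BasedFunctor.comp (AlgSt.overMap (Over.homMk (Spec.map (CommRingCat.ofHom (algebraMap R (FractionRing R)))) rfl :
          Over.mk (Spec.map (CommRingCat.ofHom (algebraMap R (FractionRing R))) ≫ sR) ⟶ Over.mk sR)) b) ∧
      (∀ p, AlgSt.Points.ofChart a p = x) ∧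
      AlgSt.Points.ofChart b (IsLocalRing.closedPoint R) = y₀ := by
  open Groth.Agent.FibBase Groth.Agent.AlgStLib Groth.Agent.AlgSpLib AlgSp in
    obtain ⟨V, y, hy, hy'⟩ := id h𝒴.atlas
    haveI : IsLocallyNoetherian V.left := hn𝒴.1 V y hy
    have hX := h𝒳.isStack.1
    have hY := h𝒴.isStack.1
    obtain ⟨v, rfl⟩ := ofChart_surjective hY hy' y₀
    -- a generalisation in the chart lying over the image of `x`
    obtain ⟨w₀, hw₀⟩ := ofChart_surjective hY hy' (AlgSt.Points.map f x)
    obtain ⟨v', hv'm, hv'⟩ := exists_generalization hY (repByAlgSpWith_mono inf_le_left hn𝒴.2.2) y w₀ v (by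
      rw [← (isOpenMap_ofChart hY (repByAlgSpWith_flat_of_smooth hy)
        (repByAlgSpWith_lfp_of_smooth hy)).preimage_closure_eq_closure_preimage (continuous_ofChart hY h𝒴.atlas y), hw₀]
      exact specializes_iff_mem_closure.1 hsp)
    have hv'x : AlgSt.Points.map y (ptAt V v') = AlgSt.Points.map f x := by
      rw [← ofChart_eq_map, hv'm, hw₀]
    obtain ⟨w, hw₁, hw₂⟩ := exists_pts_fp hX hY (isFibGrpd_overCat V) f y (ptAt V v') x hv'x
    obtain ⟨U, c, hc, hc'⟩ := hasAtlas_fp (R := @Smooth) etale_le_smooth (isFibGrpd_overCat V) hX hY h𝒴.diag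
      (isAlgStack_overCat V).atlas h𝒳.atlas y f
    obtain ⟨q, ⟨iq⟩⟩ := exists_mapB (BasedFunctor.comp c (FibCat.fpFst y f))
    haveI : LocallyOfFiniteType q.left := locP_yon_map ((locQS_of_locQ isSmoothLocalST_lft hX hY hft).scheme
      (BasedFunctor.comp c (fpSwap y f)) hy (repByAlgSpWith_postcomp (fpSwap_isEquivOver y f) hc) iq.symm)
    obtain ⟨u, rfl⟩ := ofChart_surjective (fp_isFibGrpd (isFibGrpd_overCat V) hX hY) hc' w
    have hqu : q.left u = v' := by
      rw [map_ofChart, ofChart_eq_map, ← pts_map_congr iq] at hw₁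
      replace hw₁ := (map_overMap_ptAt q u).symm.trans hw₁
      simpa only [toSch_ptAt] using congrArg (toSch V) hw₁
    obtain ⟨A, _, _, hA, a₀, k, ha₀, hk₀, hk⟩ :=
      Groth.Agent.AlgSpVal.exists_dvr_path_field q.left u v (hqu ▸ hv')
    let sR : Spec (CommRingCat.of A) ⟶ S := a₀ ≫ V.hom
    let aO : Over.mk sR ⟶ V := Over.homMk a₀ rfl
    let gen := Spec.map (CommRingCat.ofHom (algebraMap A (FractionRing A)))
    let genO : Over.mk (gen ≫ sR) ⟶ Over.mk sR := Over.homMk gen rfl
    let kW : Over.mk (gen ≫ sR) ⟶ U := Over.homMk k (by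
      show k ≫ U.hom = gen ≫ a₀ ≫ V.hom
      rw [← Over.w q, reassoc_of% hk])
    have hkW : kW ≫ q = genO ≫ aO := Over.OverMorphism.ext hk
    refine ⟨A, inferInstance, inferInstance, hA, sR,
      BasedFunctor.comp (AlgSt.overMap kW) (BasedFunctor.comp c (FibCat.fpSnd y f)),
      BasedFunctor.comp (AlgSt.overMap aO) y, ⟨?_⟩, fun p => ?_, ?_⟩
    · exact (whiskerLeftIso (AlgSt.overMap kW) (whiskerLeftIso c (FibCat.fpIso y f).symm ≪≫ whiskerRightIso iq.symm y)) ≪≫
        whiskerRightIso (overMapCompIso kW q ≪≫ eqToIso (congrArg AlgSt.overMap hkW) ≪≫ (overMapCompIso genO aO).symm) y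
    · rw [ofChart_overMap, ← hw₂, map_ofChart]
      congr 1
      refine Eq.trans ?_ hk₀
      exact congrArg k (Subsingleton.elim (α := PrimeSpectrum (FractionRing A)) _ _)
    · rw [ofChart_overMap]
      exact congrArg _ ha₀

end Groth.Agent.S16825
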