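import Groth.Statements.S18325
import Groth.Agent.AlgSpDec.Hens.Smooth
import Groth.Agent.AlgStLib.RatPoint
import Groth.Agent.GerbFlat.Section

set_option autoImplicit false
universe u
open AlgSt

namespace Groth.Agent.S18325

set_option backward.isDefEq.respectTransparency false
set_option backward.isDefEq.respectTransparency.types false

open Groth.Agent.AlgSpLib Groth.Agent.AlgSpPts Groth.Agent.AlgSpDec Groth.Agent.AlgSpDec.Hens Groth.Agent.AlgStLib
  Groth.Agent.FibBase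

open CategoryTheory AlgebraicGeometry in
/-- Let S be a scheme, 𝒵 an algebraic stack over (Sch/S) for the fppf topology, Z an algebraic space
over S and f : Z → 𝒵 a functor over (Sch/S) (from the category of points of Z) which is
representable by algebraic spaces and smooth. Let R be a Henselian local ring with residue field k =
R/m and structure morphism Spec R → S, let z : (Sch/Spec R) → 𝒵 be an object of 𝒵 over Spec R, and
let z₀' : h_{Spec k} → Z be a k-point of Z whose image under f is isomorphic, over (Sch/S), to the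
restriction of z to Spec k. Then there is an R-point z' : h_{Spec R} → Z whose restriction to Spec k
is z₀' and whose image under f is isomorphic to z over (Sch/S). -/
theorem result {S : Scheme.{u}} (𝒵 : AlgSt.Cat S)
    (h𝒵 : AlgSt.IsAlgStack Scheme.fppfPrecoverage 𝒵) (Z : AlgSp.Space S)
    (f : AlgSt.ofSp Z.obj ⥤ᵇ 𝒵) (hf : AlgSt.RepByAlgSpWith (AlgSp.LocP @Smooth) f)
    (R : Type u) [CommRing R] [HenselianLocalRing R] (str : Spec (CommRingCat.of R) ⟶ S)
    (z : FibCat.overCat (Over.mk str) ⥤ᵇ 𝒵)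
    (z₀ : (AlgSp.yon S).obj (Over.mk ((Spec.map (CommRingCat.ofHom (IsLocalRing.residue R))) ≫ str)) ⟶ Z.obj)
    (w : Nonempty (BasedFunctor.comp (BasedFunctor.comp (AlgSt.ofOverCat (Over.mk ((Spec.map (CommRingCat.ofHom (IsLocalRing.residue R))) ≫ str))) (AlgSt.ofSpMap z₀)) f ≅
      BasedFunctor.comp (AlgSt.overMap (Over.homMk (Spec.map (CommRingCat.ofHom (IsLocalRing.residue R))) rfl : Over.mk ((Spec.map (CommRingCat.ofHom (IsLocalRing.residue R))) ≫ str) ⟶ Over.mk str)) z)) :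
    ∃ z' : (AlgSp.yon S).obj (Over.mk str) ⟶ Z.obj,
      (AlgSp.yon S).map (Over.homMk (Spec.map (CommRingCat.ofHom (IsLocalRing.residue R))) rfl : Over.mk ((Spec.map (CommRingCat.ofHom (IsLocalRing.residue R))) ≫ str) ⟶ Over.mk str) ≫ z' = z₀ ∧
        Nonempty (BasedFunctor.comp (BasedFunctor.comp (AlgSt.ofOverCat (Over.mk str)) (AlgSt.ofSpMap z')) f ≅ z) := by
  obtain ⟨i⟩ := w
  obtain ⟨F, e, he, hs⟩ := hf (Over.mk str) z
  obtain ⟨G, -, ⟨iG⟩⟩ := he
  let pk : Over S := Over.mk (Spec.map (CommRingCat.ofHom (IsLocalRing.residue R)) ≫ str)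
  let cO : pk ⟶ Over.mk str := Over.homMk (Spec.map (CommRingCat.ofHom (IsLocalRing.residue R))) rfl
  let Ξ : FibCat.overCat pk ⥤ᵇ FibCat.fp z f := FibCat.fpLift (AlgSt.overMap cO) (overOfMap z₀) i.symm
  let Φ₁ := BasedFunctor.comp e (FibCat.fpFst z f)
  let Φ₂ := BasedFunctor.comp e (FibCat.fpSnd z f)
  let ΞG := BasedFunctor.comp Ξ G
  let g₀ : (AlgSp.yon S).obj pk ⟶ F.obj := mapOfOver ΞG
  have e₁ : BasedFunctor.comp (overOfMap g₀) Φ₁ ≅ AlgSt.overMap cO :=
    whiskerRightIso (isoOverOfMap ΞG).symm Φ₁ ≪≫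
      whiskerLeftIso Ξ (whiskerRightIso iG (FibCat.fpFst z f))
  have e₂ : BasedFunctor.comp (overOfMap g₀) Φ₂ ≅ overOfMap z₀ :=
    whiskerRightIso (isoOverOfMap ΞG).symm Φ₂ ≪≫
      whiskerLeftIso Ξ (whiskerRightIso iG (FibCat.fpSnd z f))
  have hw : g₀ ≫ AlgSt.spMapOfOver Φ₁ = (AlgSp.yon S).map cO := by
    obtain ⟨c, hc⟩ := (AlgSp.yon S).map_surjective (g₀ ≫ AlgSt.spMapOfOver Φ₁)
    rw [← hc, GerbFlat.hom_eq_of_overMap_iso ((GerbFlat.overOfMapIso hc).symm ≪≫
      whiskerLeftIso (overOfMap g₀) (isoSpMapOfOver Φ₁).symm ≪≫ e₁)]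
  obtain ⟨x, hx₁, hx₂⟩ := exists_section_smooth (AlgSt.spMapOfOver Φ₁) hs g₀ hw
  have e₃ : BasedFunctor.comp (overOfMap x) Φ₁ ≅ BasedFunctor.id _ :=
    whiskerLeftIso (overOfMap x) (isoSpMapOfOver Φ₁) ≪≫
      GerbFlat.overOfMapIso (w := 𝟙 (Over.mk str)) (((AlgSp.yon S).map_id _).trans hx₁.symm) ≪≫
      overIso _ _ fun y => by
        show 𝟙 y.left ≫ y.hom = y.hom ≫ 𝟙 _
        simp
  have hm : ∀ {U : Over S} (g : (AlgSp.yon S).obj U ⟶ F.obj),
      mapOfOver (BasedFunctor.comp (overOfMap g) Φ₂) = g ≫ spHom Φ₂ := fun {U} g =>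
    (spHom_congr (whiskerRightIso (toOverCatIso U) (BasedFunctor.comp (AlgSt.ofSpMap g) Φ₂))).trans
      ((spHom_comp (AlgSt.ofSpMap g) Φ₂).trans (congrArg (· ≫ spHom Φ₂) (spHom_ofSpMap g)))
  refine ⟨x ≫ spHom Φ₂, ?_, ⟨?_⟩⟩
  · rw [← Category.assoc, hx₂, ← hm]
    exact (spHom_congr (whiskerLeftIso (AlgSt.toOverCat pk) e₂)).trans (mapOfOver_overOfMap z₀)
  · exact whiskerRightIso (eqToIso (congrArg overOfMap (hm x).symm) ≪≫
        (isoOverOfMap (BasedFunctor.comp (overOfMap x) Φ₂)).symm) f ≪≫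
      whiskerLeftIso (BasedFunctor.comp (overOfMap x) e) (FibCat.fpIso z f).symm ≪≫
      whiskerRightIso e₃ z

end Groth.Agent.S18325
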