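import Groth.Statements.S16828
import Groth.Agent.S10260
import Groth.Agent.AlgStLib.DiagCover
import Groth.Agent.AlgStLib.SepUnivClosed
import Groth.Agent.AlgSpPts.SepDescent
import Groth.Agent.AlgSpLib.LocalSourceInst
import Groth.Agent.AlgStLib.RepDiag
import Mathlib.AlgebraicGeometry.ZariskisMainTheorem

set_option autoImplicit false
universe u
open AlgSt

set_option backward.isDefEq.respectTransparency false
set_option backward.isDefEq.respectTransparency.types false

namespace Groth.Agent.S16828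

section Aux

open CategoryTheory CategoryTheory.Limits AlgebraicGeometry AlgSp Opposite
open Groth.Agent.FibBase Groth.Agent.AlgStLib Groth.Agent.AlgSpLib

variable {S : Scheme.{u}}

/-- Separated, quasi-compact and quasi-finite over an affine scheme is quasi-affine. -/
theorem isQuasiAffine_of_lqf {X Y : Scheme.{u}} (f : X ⟶ Y) [IsAffine Y] [LocallyQuasiFinite f]
    [LocallyOfFiniteType f] [IsSeparated f] [QuasiCompact f] : X.IsQuasiAffine := by
  have : IsAffine f.normalization := isAffine_of_isAffineHom f.fromNormalization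
  have : CompactSpace X := QuasiCompact.compactSpace_of_compactSpace f
  exact Scheme.IsQuasiAffine.of_isImmersion f.toNormalization

theorem isQuasiAffineMor_of_lqf {F : AlgSp.Space S} {U : Over S} (a : F.obj ⟶ (yon S).obj U)
    (hl : lqf a) (hs : IsSeparatedMor a) (hc : IsQuasiCompactMor a) : IsQuasiAffineMor a := by
  intro Z hZ g
  have hrep : Representable a :=
    S10260.result (X := F) (Y := ⟨_, IsAlgSpace.yon_obj U⟩) (ObjectProperty.homMk a) hl hs
  obtain ⟨W, i, fst, sq⟩ := hrep g
  refine ⟨W, i, fst, sq, ?_⟩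
  obtain ⟨h1, h2⟩ : LocallyQuasiFinite i.left ∧ LocallyOfFiniteType i.left :=
    locP_yon_map (stableBC_locP F.property (IsAlgSpace.yon_obj U) (IsAlgSpace.yon_obj W) (IsAlgSpace.yon_obj Z)
      a g ((yon S).map i) fst sq hl)
  have h3 : IsSeparated i.left := (isSeparatedMor_yon_map_iff _).1 (stableBC_isSeparatedMor F.property (IsAlgSpace.yon_obj U) (IsAlgSpace.yon_obj W) (IsAlgSpace.yon_obj Z) a g _ fst sq hs)
  have h4 : QuasiCompact i.left := AlgSpPts.quasiCompact_of_isQuasiCompactMor i (stableBC_isQuasiCompactMor F.property (IsAlgSpace.yon_obj U) (IsAlgSpace.yon_obj W) (IsAlgSpace.yon_obj Z) a g _ fst sq hc)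
  have : IsAffine Z.left := hZ
  exact isQuasiAffine_of_lqf i.left

end Aux


open CategoryTheory AlgebraicGeometry in
/-- Let 𝒳 be a Deligne–Mumford stack over (Sch/S) for the etale topology whose diagonal 𝒳 → 𝒳
×_{(Sch/S)} 𝒳 is separated and quasi-compact (representable by algebraic spaces with these
properties). Then the diagonal is quasi-affine: representable by algebraic spaces with every base
change to a scheme a quasi-affine morphism. The source states this for the absolute diagonal; the
diagonal over S is used here. -/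
theorem result {S : Scheme.{u}} (𝒳 : AlgSt.Cat S)
    (h𝒳 : AlgSt.IsDM Scheme.etalePrecoverage 𝒳)
    (hsep : AlgSt.RepByAlgSpWith AlgSp.IsSeparatedMor (FibCat.diag (FibCat.toSelf 𝒳)))
    (hqc : AlgSt.RepByAlgSpWith AlgSp.IsQuasiCompactMor (FibCat.diag (FibCat.toSelf 𝒳))) :
    AlgSt.RepByAlgSpWith AlgSp.IsQuasiAffineMor (FibCat.diag (FibCat.toSelf 𝒳)) := by
  obtain ⟨h𝒳, U, x, hx, hxs⟩ := h𝒳
  have hxe := AlgStLib.repByAlgSpWith_locP_etale hx
  have h1 := AlgStLib.repByAlgSpWith_mono (Q := AlgSp.LocP @Flat)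
    (fun _ _ _ h => AlgSpLib.locP_mono (P := @Etale) (fun _ _ f (_ : Etale f) => inferInstanceAs (Flat f)) h) hxe
  have h2 := AlgStLib.repByAlgSpWith_mono (Q := AlgSp.LocP @LocallyOfFinitePresentation)
    (fun _ _ _ h => AlgSpLib.locP_mono (P := @Etale)
      (fun _ _ f (_ : Etale f) => inferInstanceAs (LocallyOfFinitePresentation f)) h) hxe
  have h3 := AlgStLib.repByAlgSpWith_mono (Q := AlgStLib.unr)
    (fun _ _ _ h => AlgSpLib.locP_mono (P := @Etale) (fun _ _ f (_ : Etale f) =>
      (⟨inferInstance, inferInstance⟩ : LocallyOfFiniteType f ∧ FormallyUnramified f)) h) hxe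
  have hu : AlgSt.RepByAlgSpWith AlgStLib.unr (FibCat.diag (FibCat.toSelf 𝒳)) :=
    AlgStLib.repByAlgSpWith_diag_toSelf_of_cover AlgStLib.stableBC_locP AlgStLib.isLocalOnBase_unr
      AlgStLib.cancels_unr (AlgStLib.repByAlgSp1_toSelf_of_repByAlgSp (AlgStLib.repByAlgSp_overCat U))
      h𝒳.diag h3 (AlgStLib.locEssSurj_of_repByAlgSp h1 h2 hxs)
  intro T y
  obtain ⟨F, e, he, ⟨hl, hs'⟩, hc'⟩ := AlgStLib.repByAlgSpWith_and (AlgStLib.stableBC_inf AlgStLib.stableBC_locP
    AlgStLib.stableBC_isSeparatedMor) (AlgStLib.repByAlgSpWith_and AlgStLib.stableBC_locP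
      (AlgStLib.repByAlgSpWith_mono AlgStLib.unr_le_lqf hu) hsep) hqc T y
  exact ⟨F, e, he, isQuasiAffineMor_of_lqf _ hl hs' hc'⟩

end Groth.Agent.S16828
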