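import Groth.Statements.S16832
import Groth.Agent.TrivStab.Unram
import Groth.Agent.AlgStLib.SmoothBootstrap
import Groth.Agent.AlgStLib.Bootstrap
import Groth.Agent.AlgStLib.Faithful
import Mathlib.FieldTheory.IsAlgClosed.AlgebraicClosure

set_option autoImplicit false
universe u
open AlgSt

set_option backward.isDefEq.respectTransparency false
set_option backward.isDefEq.respectTransparency.types false

namespace Groth.Agent.S16832

section Aux

open CategoryTheory CategoryTheory.Functor CategoryTheory.Limits AlgebraicGeometry AlgSp Opposite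
open Groth.Agent.FibBase Groth.Agent.AlgStLib Groth.Agent.AlgSpLib Groth.Agent.TrivStab

variable {S : Scheme.{u}} {𝒳 : AlgSt.Cat S}

/-- An etale stack in setoids with a smooth atlas is an algebraic space. -/
theorem repByAlgSp_of_setoid (h : AlgSt.IsAlgStack Scheme.etalePrecoverage 𝒳) (hs : FibCat.IsFibSetoid 𝒳.p) :
    AlgSt.RepByAlgSp 𝒳 := by
  let P := clsPsh 𝒳 hs.1
  have he := toCls_isEquivOver 𝒳 hs.1 hs
  obtain ⟨g, hg, -⟩ := isEquivOver_inv he
  have hP : Presheaf.IsSheaf (QuotSh.J Scheme.etalePrecoverage S) P := (isSheaf_iff_isSheaf_of_type _ _).2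
    ((StkLib.isStack_ofPsh_iff P _).1
      ((StkLib.isStack_iff_of_isEquivOver (J := QuotSh.J Scheme.etalePrecoverage S) he).1 h.isStack))
  obtain ⟨U, x, hxs, hxj⟩ := h.atlas
  let Φ : AlgSt.ofSch U ⥤ᵇ Stk.ofPsh P :=
    BasedFunctor.comp (AlgSt.toOverCat U) (BasedFunctor.comp x (toCls 𝒳 hs.1))
  let p := pshMap Φ
  have i : BasedFunctor.comp (AlgSt.toOverCat U) (BasedFunctor.comp x (toCls 𝒳 hs.1)) ≅ Stk.ofPshMap p :=
    isoOfPshMap Φ
  have hp : RepBySpWith (IsSurjectiveMor ⊓ LocP @Smooth) p := fun T ξ F' fst snd sq => by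
    obtain ⟨h₁, hA, hl⟩ := repBySpWith_of_repByAlgSpWith (BasedFunctor.comp x (toCls 𝒳 hs.1)) (AlgSt.toOverCat U)
      stableBC_locP (isEquivOver_toOverCat U) (repByAlgSpWith_postcomp he hxs) i ξ fst snd sq
    obtain ⟨h₂, hA₂, hj⟩ := repBySpWith_of_repByAlgSpWith (BasedFunctor.comp x (toCls 𝒳 hs.1)) (AlgSt.toOverCat U)
      stableBC_isSurjectiveMor (isEquivOver_toOverCat U) (repByAlgSpWith_postcomp he hxj) i ξ fst snd sq
    exact ⟨h₁, hA, hj, hl⟩
  obtain ⟨h', hA⟩ := AlgSpDec.isAlgSpaceP_of_smooth_sheaf_space hP (U := (yon S).obj U) (IsAlgSpace.yon_obj U) hp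
  exact ⟨⟨⟨P, h'⟩, hA⟩, g, hg⟩

/-- Trivial stabilisers at field valued points make the stack a setoid. -/
theorem isFibSetoid_of_trivial (h : AlgSt.IsAlgStack Scheme.etalePrecoverage 𝒳)
    (ht : ∀ (k : Type u) [Field k] (sk : Spec (CommRingCat.of k) ⟶ S)
      (x : FibCat.overCat (Over.mk sk) ⥤ᵇ 𝒳) (T : Over (Over.mk sk)), Subsingleton (Gerb.AutO (x.obj T))) :
    FibCat.IsFibSetoid 𝒳.p := by
  have hX := h.isStack.1
  have hl := repByAlgSpWith_lft_diag_toSelf h.diag h.atlas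
  have hu := isDMMor_of_inertia (FibCat.toSelf 𝒳) h.diag hl
    (unr_inertiaToBase hX (repByAlgSpWith_inertiaToBase _ hl) ht)
  have hn := isOpenImm_inertiaNeutral hu
  refine isFibSetoid_iff.2 ⟨hX, ?_⟩
  have hf : (FibCat.toSelf 𝒳).toFunctor.Faithful := by
    rw [faithful_iff_trivial_kernel hX isFibGrpd_selfOver]
    intro ξ a hp hga
    have ha : 𝒳.p.IsHomLift (𝟙 (𝒳.p.obj ξ)) a := hp ▸ IsHomLift.map _ a
    have := isIso_of_lift (p := 𝒳.p) (hp := hX) (𝟙 (𝒳.p.obj ξ)) a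
    refine eq_id_of_isOpenImm hX isFibGrpd_selfOver hn (asIso a) ha hga fun t => ?_
    let κ := (𝒳.p.obj ξ).left.residueField t
    let f₀ := (𝒳.p.obj ξ).left.fromSpecResidueField t
    let f : Over.mk (f₀ ≫ (𝒳.p.obj ξ).hom) ⟶ 𝒳.p.obj ξ := Over.homMk f₀
    obtain ⟨ξ', φ, hφ⟩ := hX.exists_lift f
    refine ⟨κ, inferInstance, _, f, ξ', φ, ⟨IsLocalRing.closedPoint κ, Scheme.fromSpecResidueField_apply _ _⟩,
      hφ, ?_⟩
    have := isSC (p := 𝒳.p) (hp := hX) f φ
    have : 𝒳.p.IsHomLift f (φ ≫ a) := IsHomLift.comp_lift_id_right' 𝒳.p f φ (𝒳.p.obj ξ) a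
    let χ := IsCartesian.map 𝒳.p f φ (φ ≫ a)
    have hχ : χ ≫ φ = φ ≫ a := IsCartesian.fac 𝒳.p f φ (φ ≫ a)
    have hξ' : 𝒳.p.obj ξ' = Over.mk (f₀ ≫ (𝒳.p.obj ξ).hom) := IsHomLift.domain_eq 𝒳.p f φ
    obtain ⟨G, e, he⟩ := exists_overCat_obj hX ξ' hξ'
    have : Subsingleton (Gerb.AutO (G.obj (Over.mk (𝟙 _)))) := ht κ _ G (Over.mk (𝟙 _))
    have := IsHomLift.lift_id_inv 𝒳.p (Over.mk (f₀ ≫ (𝒳.p.obj ξ).hom)) e
    have hl : 𝒳.p.IsHomLift (𝟙 (Over.mk (f₀ ≫ (𝒳.p.obj ξ).hom))) (e.hom ≫ χ ≫ e.inv) := inferInstance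
    have h1 := eq_id_of_subsingleton hX (e.hom ≫ χ ≫ e.inv) (isHomLift_id_congr (G.w_obj _).symm hl)
    have h2 : χ = 𝟙 ξ' := by
      rw [← cancel_epi e.hom, ← cancel_mono e.inv, Category.assoc, h1]
      simp
    rw [h2, Category.id_comp] at hχ
    exact hχ.symm
  exact hf

/-- An algebraic space has trivial stabilisers. -/
theorem subsingleton_autO (h : AlgSt.RepByAlgSp 𝒳) (z : 𝒳.obj) : Subsingleton (Gerb.AutO z) := by
  have := (isFibSetoid_iff.1 (isFibSetoid_of_repByAlgSp h)).2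
  refine ⟨fun α β => Iso.ext (Fiber.hom_ext (this.map_injective ?_))⟩
  exact (map_eq_of_isHomLift_id (S := 𝒳.p.obj z) inferInstance).trans
    (map_eq_of_isHomLift_id (S := 𝒳.p.obj z) inferInstance).symm

end Aux

open CategoryTheory AlgebraicGeometry in
/-- Let 𝒳 be an algebraic stack over (Sch/S) for the etale topology. Then 𝒳 is an algebraic space
(equivalent over (Sch/S) to the category of sections of an algebraic space) if and only if every
point of 𝒳 has trivial stabilizer: for every field k, every morphism Spec k → S and every functor x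
: (Sch/Spec k) → 𝒳 over (Sch/S), the group of automorphisms over the identity of the object x(T) is
trivial for every scheme T over Spec k (the stabilizer of x, a group algebraic space over k, has
only the identity section over every T). -/
theorem result {S : Scheme.{u}} (𝒳 : AlgSt.Cat S)
    (h𝒳 : AlgSt.IsAlgStack Scheme.etalePrecoverage 𝒳) :
    AlgSt.RepByAlgSp 𝒳 ↔
      ∀ (k : Type u) [Field k] (sk : Spec (CommRingCat.of k) ⟶ S)
        (x : FibCat.overCat (Over.mk sk) ⥤ᵇ 𝒳) (T : Over (Over.mk sk)),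
        Subsingleton (Gerb.AutO (x.obj T)) :=
  ⟨fun h _ _ _ x T => subsingleton_autO h (x.obj T),
    fun h => repByAlgSp_of_setoid h𝒳 (isFibSetoid_of_trivial h𝒳 h)⟩

end Groth.Agent.S16832
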