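import Groth.Statements.S16833
import Groth.Agent.AlgSpDec.QfLocus
import Groth.Agent.AlgSpDec.LimDescentIso

set_option autoImplicit false
set_option backward.isDefEq.respectTransparency false
set_option backward.isDefEq.respectTransparency.types false
universe u
open AlgSp

namespace Groth.Agent.S16833

open CategoryTheory AlgebraicGeometry in
/-- Let p : U → X and f : X → Y be morphisms of algebraic spaces over a scheme S with p etale and
surjective and f separated. If the composite U → Y is finite, then f is finite. -/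
theorem result {S : Scheme.{u}}
    {U X Y : AlgSp.Space S} (p : U ⟶ X) (f : X ⟶ Y)
    (hp : AlgSp.IsEtaleMor p.hom) (hps : AlgSp.IsSurjectiveMor p.hom)
    (hf : AlgSp.IsSeparatedMor f.hom) (h : AlgSp.IsFiniteMor (p ≫ f).hom) :
    AlgSp.IsFiniteMor f.hom := by
  refine AlgSpDec.isFiniteMor_iff_repWith.2 (AlgSpDec.repWith_of_affine_test fun Z hZ g => ?_)
  haveI := hZ
  have sqP := IsPullback.of_hasPullback f.hom g
  have hP : IsAlgSpace (Limits.pullback f.hom g) :=
    AlgSpLib.isAlgSpace_of_isPullback sqP X.property (IsAlgSpace.yon_obj Z) Y.property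
  obtain ⟨W, i, fstW, sqW, hW, hi⟩ := h hZ g
  haveI := hW
  obtain ⟨c, hc₁, hc₂⟩ := sqP.exists_lift (fstW ≫ p.hom) ((yon S).map i)
    (by rw [Category.assoc]; exact sqW.w)
  have sqc : IsPullback fstW c p.hom (Limits.pullback.fst f.hom g) :=
    (IsPullback.of_right (h₁₁ := c) (v₁₁ := fstW) (v₁₂ := Limits.pullback.fst f.hom g) (h₂₁ := p.hom)
      (by rw [hc₂]; exact sqW.flip) hc₁ sqP.flip).flip
  have hce : RepWith @Etale c := by
    have := (AlgSpLib.isEtaleMor_of_isPullback sqc U.property X.property hP hp) (𝟙 _) (repWith_id _ W)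
    rwa [Category.id_comp] at this
  have hcS : RepWith @Surjective c := AlgSpLib.repWith_surjective_of_surjective hce.rep
    (AlgSpDec.isSurjectiveMor_of_isPullback sqc hps)
  have hcf : RepWith @IsFinite c := AlgSpLib.of_comp_of_diagonal (RepWith @IsFinite) c _
    (hc₂ ▸ (repWith_yon_map_iff _ i).2 hi)
    (AlgSpLib.repWith_mono (fun _ _ e (_ : IsClosedImmersion e) => (inferInstance : IsFinite e)) _
      (AlgSpPts.isSeparatedMor_of_isPullback sqP hf))
  have hl : LocP @LocallyOfFiniteType (Limits.pullback.snd f.hom g) := AlgSpDec.locP_of_precomp hce hcS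
    (AlgSpLib.locP_of_repWith (hc₂ ▸ (repWith_yon_map_iff _ i).2 (inferInstanceAs (LocallyOfFiniteType i.left))))
  haveI : IsFinite i.left := hi
  obtain ⟨W', i', fst', sq', hW', hi'⟩ := AlgSpDec.affine_test_of_repWith
    (fun _ _ e (_ : IsFinite e) => inferInstanceAs (IsAffineHom e))
    (AlgSpDec.FiniteOverGeneric.repWith_isFinite_of_chart hce hcf hcS i hc₂.symm hl) hZ (𝟙 _)
  exact ⟨W', i', fst' ≫ Limits.pullback.fst f.hom g, by simpa using sq'.paste_horiz sqP, hW', hi'⟩

end Groth.Agent.S16833
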