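import Groth.Statements.S16847
import Groth.Agent.AVFrobLib.Data

set_option autoImplicit false
universe u
open CategoryTheory MonoidalCategory CartesianMonoidalCategory MonObj GrpObj AlgebraicGeometry
open AbVar

namespace Groth.Agent.S16847

/-- Let k be a finite field with q elements and algebraic closure Ω, ℓ a prime invertible in k, and X an
abelian variety over k (a proper, geometrically integral commutative group scheme over k) of
dimension g, with geometric Frobenius π_X (the endomorphism that is the identity on points and the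
q-th power map on sections); assume, as is the case, that the ℓ-adic Tate module of Ω-points T_ℓ X
is free of finite rank over ℤ_ℓ, and let f_X ∈ ℤ[t] be the polynomial mapping to the characteristic
polynomial of T_ℓ(π_X) (the characteristic polynomial of Frobenius). Then ℚ[π_X] ⊆ End⁰(X) = ℚ ⊗
End_k(X) is a field (equivalently, X is elementary, i.e. isogenous to a power of a simple abelian
variety — that reformulation is not restated) if and only if f_X = h^n for some irreducible h ∈ ℚ[t]
and some n ≥ 1. -/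
theorem result (k Ω : Type u) [Field k] [Finite k] [Field Ω] [Algebra k Ω] [IsAlgClosure k Ω]
    (l : ℕ) [Fact l.Prime] (hl : (l : k) ≠ 0) (X : Over (Spec (CommRingCat.of k)))
    [GrpObj X] [IsCommMonObj X] [IsProper X.hom] [GeometricallyIntegral X.hom]
    (πX : X ⟶ X) [IsMonHom πX] (hπb : πX.left.base = 𝟙 _)
    (hπle : ∀ U : X.left.Opens, U ≤ πX.left ⁻¹ᵁ U)
    (hπapp : ∀ (U : X.left.Opens) (s : Γ(X.left, U)), (πX.left.appLE U U (hπle U)).hom s = s ^ Nat.card k)
    [Module.Free ℤ_[l] (AbDual.TateMod X l (SGA7.pt Ω))] [Module.Finite ℤ_[l] (AbDual.TateMod X l (SGA7.pt Ω))]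
    (P : Polynomial ℤ) (hP : (AbDual.tateMapₗ (l := l) (T := SGA7.pt Ω) πX).charpoly = P.map (Int.castRingHom ℤ_[l])) :
    IsField (EndAV.QAdj (EndAV.End.of πX)) ↔
      ∃ (h : Polynomial ℚ) (n : ℕ), Irreducible h ∧ 0 < n ∧ P.map (Int.castRingHom ℚ) = h ^ n := by
  haveI : IsAlgClosed Ω := IsAlgClosure.isAlgClosed k
  have hπ : Groth.Agent.WeilLib.IsPowMap (EndAV.End.of πX).toHom.left (Nat.card k) :=
    Groth.Agent.WeilLib.isPowMap_of_hyp πX.left _ hπb hπle hπapp
  obtain ⟨g, hg⟩ := Groth.Agent.TorsPtsLib.exists_dim X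
  obtain ⟨hPm, hPd, hPdeg⟩ := Groth.Agent.AVFrobLib.degPoly_of_charpoly Ω l hl hg (EndAV.End.of πX) hP
  have hPd' : (P.map (Int.castRingHom ℚ)).natDegree = 2 * g := by rw [hPm.natDegree_map, hPd]
  obtain ⟨ν, hm, h0, he, hli⟩ := Groth.Agent.AVCharpoly.exists_int_minpoly (EndAV.End.of πX)
  have hint : _root_.IsIntegral ℚ (EndAV.toEnd0 (EndAV.End.of πX)) := ⟨ν.map (Int.castRingHom ℚ), hm.map _, by
      show Polynomial.aeval (EndAV.toEnd0 (EndAV.End.of πX)) (ν.map (Int.castRingHom ℚ)) = 0
      rw [he, minpoly.aeval]⟩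
  have hdvd : minpoly ℚ (EndAV.toEnd0 (EndAV.End.of πX)) ∣ P.map (Int.castRingHom ℚ) := minpoly.dvd ℚ _ (by
    rw [← Groth.Agent.AVCharpoly.toEnd0_aeval, Groth.Agent.AVFrobLib.aeval_degPoly_eq_zero _ hPdeg, map_zero])
  have hsq : Squarefree (minpoly ℚ (EndAV.toEnd0 (EndAV.End.of πX))) := by
    rw [← he]; exact (Groth.Agent.AVFrobLib.separable_minpoly (EndAV.End.of πX) hπ hm h0 hli).squarefree
  refine (Groth.Agent.AVFrobLib.isField_adjoin_iff (EndAV.toEnd0 (EndAV.End.of πX)) hint).trans ⟨fun hirr => ?_, ?_⟩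
  · have hpow := Groth.Agent.AVCharpoly.eq_pow_of_irreducible hg (EndAV.End.of πX) (hPm.map _) hPd' hPdeg hm h0
      (he ▸ hirr)
    rw [he] at hpow
    refine ⟨_, _, hirr, Nat.pos_of_ne_zero fun hz => ?_, hpow⟩
    rw [hz, pow_zero] at hpow
    rw [hpow] at hdvd
    exact hirr.not_isUnit (isUnit_of_dvd_one hdvd)
  · rintro ⟨h, n, hh, hn, hPh⟩
    rw [hPh] at hdvd
    obtain ⟨i, -, hi⟩ := (dvd_prime_pow hh.prime n).1 hdvd
    have hi1 : i = 1 := by
      rcases i with _ | _ | i
      · exfalso
        rw [pow_zero, associated_one_iff_isUnit] at hi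
        have hz : (1 : EndAV.End0 X) = 0 := by
          have := minpoly.aeval ℚ (EndAV.toEnd0 (EndAV.End.of πX))
          rw [(minpoly.monic hint).eq_one_of_isUnit hi, map_one] at this
          exact this
        haveI : Subsingleton (EndAV.End0 X) := subsingleton_of_zero_eq_one hz.symm
        have hone : (1 : EndAV.End X) = 0 := Groth.Agent.AVCharpoly.toEnd0_injective (Subsingleton.elim _ _)
        have hg0 : g = 0 := by
          haveI : Subsingleton (EndAV.End X) := subsingleton_of_zero_eq_one hone.symm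
          by_contra hg0
          have hd0 := hPdeg 0
          have hd1 : Groth.Agent.AVCharpoly.degQ (1 : EndAV.End X).toHom = 1 := Groth.Agent.AVCharpoly.degQ_id
          have hz0 := Groth.Agent.AVCharpoly.isDegPoly_zero hg 0
          rw [show ((0 : EndAV.End X) - ((0 : ℤ) : EndAV.End X)) = 1 from Subsingleton.elim _ _, hd1] at hz0
          simp [hg0] at hz0
        have := congrArg Polynomial.natDegree hPh
        rw [hPd', Polynomial.natDegree_pow, hg0] at this
        have := hh.natDegree_pos
        have : n * h.natDegree = 0 := by omega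
        rcases Nat.mul_eq_zero.1 this with h' | h' <;> omega
      · rfl
      · exfalso
        have hsq' : Squarefree (h ^ (i + 1 + 1)) := hsq.squarefree_of_dvd hi.symm.dvd
        rcases Squarefree.eq_zero_or_one_of_pow_of_not_isUnit hsq' hh.not_isUnit with h2 | h2 <;> omega
    rw [hi1, pow_one] at hi
    exact hi.symm.irreducible hh

end Groth.Agent.S16847
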