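import Groth.Statements.S16850
import Groth.Agent.AVFrobLib.FunEq
import Groth.Agent.AVFrobLib.Data

set_option autoImplicit false
universe u
open CategoryTheory MonoidalCategory CartesianMonoidalCategory MonObj GrpObj AlgebraicGeometry
open AbVar

namespace Groth.Agent.S16850

/-- Let k be a finite field with q elements and algebraic closure Ω, ℓ a prime invertible in k, and X an
abelian variety over k (a proper, geometrically integral commutative group scheme over k) of
dimension g, with geometric Frobenius π_X (the endomorphism that is the identity on points and the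
q-th power map on sections); assume, as is the case, that the ℓ-adic Tate module of Ω-points T_ℓ X
is free of finite rank over ℤ_ℓ, and let f_X ∈ ℤ[t] be the polynomial mapping to the characteristic
polynomial of T_ℓ(π_X) (the characteristic polynomial of Frobenius). With P_j(t) = ∏_I (1 − α_I t)
over the j-element sub-multisets I of the complex roots of f_X (α_I their product), the zeta
function of X is the rational function Z(X; t) = ∏_{j=0}^{2g} P_j(t)^{(−1)^{j+1}}, and for g ≥ 1 it
satisfies the functional equation Z(X; 1/(q^g t)) = Z(X; t). (The dimension-zero case must be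
excluded: for X a point, Z(X; t) = 1/(1 − t) and Z(X; 1/t) = t/(t − 1) differ; the published
statement has no such restriction, and its proof uses Σ_j (−1)^{j+1} C(2g, j) = 0, valid only for g
≥ 1.) Stated pointwise: for every non-zero complex number t such that no P_j vanishes at t or at
1/(q^g t), ∏_j P_j(1/(q^g t))^{(−1)^{j+1}} = ∏_j P_j(t)^{(−1)^{j+1}}. -/
theorem result (k Ω : Type u) [Field k] [Finite k] [Field Ω] [Algebra k Ω] [IsAlgClosure k Ω]
    (l : ℕ) [Fact l.Prime] (hl : (l : k) ≠ 0) (X : Over (Spec (CommRingCat.of k)))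
    [GrpObj X] [IsCommMonObj X] [IsProper X.hom] [GeometricallyIntegral X.hom]
    (g : ℕ) (hg : topologicalKrullDim X.left = g) (hg1 : 1 ≤ g)
    (πX : X ⟶ X) [IsMonHom πX] (hπb : πX.left.base = 𝟙 _)
    (hπle : ∀ U : X.left.Opens, U ≤ πX.left ⁻¹ᵁ U)
    (hπapp : ∀ (U : X.left.Opens) (s : Γ(X.left, U)), (πX.left.appLE U U (hπle U)).hom s = s ^ Nat.card k)
    [Module.Free ℤ_[l] (AbDual.TateMod X l (SGA7.pt Ω))] [Module.Finite ℤ_[l] (AbDual.TateMod X l (SGA7.pt Ω))]
    (P : Polynomial ℤ) (hP : (AbDual.tateMapₗ (l := l) (T := SGA7.pt Ω) πX).charpoly = P.map (Int.castRingHom ℤ_[l]))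
    (t : ℂ) (ht : t ≠ 0)
    (hPt : ∀ j ∈ Finset.range (2 * g + 1), Polynomial.eval t ((((P.map (Int.castRingHom ℂ)).roots.powersetCard j).map
          (fun I => (1 : Polynomial ℂ) - Polynomial.C I.prod * Polynomial.X)).prod : Polynomial ℂ) ≠ 0)
    (hPs : ∀ j ∈ Finset.range (2 * g + 1), Polynomial.eval (((Nat.card k : ℂ) ^ g * t)⁻¹) ((((P.map (Int.castRingHom ℂ)).roots.powersetCard j).map
          (fun I => (1 : Polynomial ℂ) - Polynomial.C I.prod * Polynomial.X)).prod : Polynomial ℂ) ≠ 0) :
    ∏ j ∈ Finset.range (2 * g + 1), (Polynomial.eval (((Nat.card k : ℂ) ^ g * t)⁻¹) ((((P.map (Int.castRingHom ℂ)).roots.powersetCard j).map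
          (fun I => (1 : Polynomial ℂ) - Polynomial.C I.prod * Polynomial.X)).prod : Polynomial ℂ)) ^ ((-1 : ℤ) ^ (j + 1)) =
      ∏ j ∈ Finset.range (2 * g + 1), (Polynomial.eval t ((((P.map (Int.castRingHom ℂ)).roots.powersetCard j).map
          (fun I => (1 : Polynomial ℂ) - Polynomial.C I.prod * Polynomial.X)).prod : Polynomial ℂ)) ^ ((-1 : ℤ) ^ (j + 1)) := by
  haveI : IsAlgClosed Ω := IsAlgClosure.isAlgClosed k
  have hπ : Groth.Agent.WeilLib.IsPowMap (EndAV.End.of πX).toHom.left (Nat.card k) :=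
    Groth.Agent.WeilLib.isPowMap_of_hyp πX.left _ hπb hπle hπapp
  obtain ⟨P', hPm, hPd, hP', hPc⟩ := Groth.Agent.AVCharpoly.exists_charpoly Ω l hl hg (EndAV.End.of πX)
  obtain rfl : P = P' := by
    refine Polynomial.map_injective (Int.castRingHom ℤ_[l]) (RingHom.injective_int _) ?_
    rw [← hP, ← hPc]
    rfl
  set s := (P.map (Int.castRingHom ℂ)).roots with hs
  have hsp := IsAlgClosed.splits (P.map (Int.castRingHom ℂ))
  have hcard : Multiset.card s = 2 * g := by
    rw [hs, ← hsp.natDegree_eq_card_roots, hPm.natDegree_map, hPd]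
  have hnorm : ∀ w ∈ s, ‖w‖ = Real.sqrt (Nat.card k) := fun w hw =>
    Groth.Agent.AVFrobLib.norm_root_degPoly (EndAV.End.of πX) hπ hg (hPm.map _) (by rw [hPm.natDegree_map, hPd]) hP'
      (by rwa [Groth.Agent.AVFrobLib.map_ratMap])
  have habs : ‖s.prod‖ = (Nat.card k : ℝ) ^ g := by
    have e : ‖s.prod‖ = (s.map fun w => ‖w‖).prod := map_multiset_prod (normHom : ℂ →*₀ ℝ) s
    rw [e, Multiset.map_congr rfl hnorm, Multiset.map_const', Multiset.prod_replicate, hcard, pow_mul,
      Real.sq_sqrt (Nat.cast_nonneg _)]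
  have hreal : s.prod = ((P.eval 0 : ℤ) : ℂ) := by
    have h1 := hsp.coeff_zero_eq_prod_roots_of_monic (hPm.map _)
    rw [← hs, hPm.natDegree_map, hPd, pow_mul, neg_one_sq, one_pow, _root_.one_mul, Polynomial.coeff_map, eq_intCast] at h1
    rw [← h1, Polynomial.coeff_zero_eq_eval_zero]
  have hpos : 0 ≤ P.eval 0 := by
    have h0 : (0 : ℚ) ≤ ((P.eval 0 : ℤ) : ℚ) := by
      have := hP' 0
      rw [Int.cast_zero, sub_zero, Polynomial.eval_intCast_map, Int.cast_id, eq_intCast] at this
      rw [← this]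
      show (0 : ℚ) ≤ Groth.Agent.AVCharpoly.degQ _
      by_cases hf : IsFinite (EndAV.End.of πX).toHom.left
      · haveI : IsIntegral X.left := GeometricallyIntegral.isIntegral_of_subsingleton X.hom
        rw [← Groth.Agent.AVCharpoly.finrank_eq_degQ _ hf (genericPoint X.left)]
        exact Nat.cast_nonneg _
      · rw [Groth.Agent.AVCharpoly.degQ_of_not _ hf]
    exact_mod_cast h0
  have hQ : s.prod = (Nat.card k : ℂ) ^ g := by
    rw [hreal] at habs ⊢
    rw [Complex.norm_intCast, abs_of_nonneg (Int.cast_nonneg hpos)] at habs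
    have : ((P.eval 0 : ℤ) : ℂ) = (((P.eval 0 : ℤ) : ℝ) : ℂ) := by push_cast; rfl
    rw [this, habs]
    push_cast
    rfl
  exact Groth.Agent.AVFrobLib.funEq hcard hg1 hQ (pow_ne_zero _ (Nat.cast_ne_zero.2 Nat.card_pos.ne')) ht

end Groth.Agent.S16850
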