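import Groth.Statements.S16853
import Groth.Agent.SigmaLinLib.Basic
import Groth.Agent.SigmaLinLib.AlgPow
import Mathlib

set_option autoImplicit false
universe u v
open CAlg

namespace Groth.Agent.S16853

/-- Let k be an algebraically closed field of characteristic p > 0 and ν ≥ 1; let V be a
finite-dimensional k-vector space and φ : V → V a bijective additive map that is Frob^ν-semilinear,
φ(a·v) = a^(p^ν)·φ(v). Then V admits a k-basis consisting of φ-fixed vectors; in particular V is
spanned by V₀ = {v | φ(v) = v}, an F_{p^ν}-subspace, and k ⊗ V₀ → V is surjective. (The copy allows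
ν < 0 as well, reducing to φ⁻¹; stated here for ν ≥ 1. The injectivity of k ⊗_{F_{p^ν}} V₀ → V,
asserted in the copy, is not restated.) -/
theorem result (k : Type u) [Field k] [IsAlgClosed k]
    (p : ℕ) [Fact p.Prime] [CharP k p] (ν : ℕ) (hν : 1 ≤ ν)
    (V : Type v) [AddCommGroup V] [Module k V] [FiniteDimensional k V]
    (φ : V →+ V) (hφ : ∀ (a : k) (v : V), φ (a • v) = a ^ (p ^ ν) • φ v) (hbij : Function.Bijective φ) :
    ∃ (ι : Type v) (b : Module.Basis ι k V), ∀ i, φ (b i) = b i := by
  let σ : k →+* k := iterateFrobenius k p ν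
  have hσ : ∀ x, σ x = x ^ p ^ ν := fun x => iterateFrobenius_def p ν x
  have hq : 1 < p ^ ν := Nat.one_lt_pow (by omega) (Fact.out : p.Prime).one_lt
  let T : V →ₛₗ[σ] V :=
    { toFun := φ
      map_add' := map_add φ
      map_smul' := fun c v => by rw [hφ, hσ] }
  have hTs : Submodule.span k (Set.range ⇑T) = ⊤ :=
    top_le_iff.1 fun v _ => Submodule.subset_span (hbij.2 v)
  have h2 := Groth.Agent.SigmaLinLib.pow_fixed_eq hq σ hσ
  have h3 : ∀ c : k, ∃ y : k, σ y - y + c = 0 := fun c => by
    obtain ⟨y, hy⟩ := Groth.Agent.SigmaLinLib.exists_pow_sub_eq hq c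
    exact ⟨y, by rw [hσ]; exact hy⟩
  obtain ⟨eb, heb⟩ := Groth.Agent.SigmaLinLib.exists_basis_fixed T
    (Groth.Agent.SigmaLinLib.span_fixed_eq_top T hTs h2 h3)
  refine ⟨ULift.{v} (Fin (Module.finrank k V)), eb.reindex Equiv.ulift.symm, fun i => ?_⟩
  rw [Module.Basis.reindex_apply]
  exact heb _

end Groth.Agent.S16853
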