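import Groth.Statements.S16858
import Groth.Agent.AlgStLib.QAMor
import Groth.Agent.AlgStLib.GeomLift
import Groth.Agent.QDMCover.Present

set_option linter.style.haveILetI false
set_option backward.isDefEq.respectTransparency false
set_option backward.isDefEq.respectTransparency.types false

set_option autoImplicit false
universe u
open CategoryTheory CategoryTheory.Limits AlgebraicGeometry
open AlgSt

namespace Groth.Agent.S16858

section Aux

open CategoryTheory CategoryTheory.Functor CategoryTheory.Limits AlgebraicGeometry AlgSp Opposite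
open Groth.Agent.FibBase Groth.Agent.AlgStLib Groth.Agent.AlgSpLib

variable {S : Scheme.{u}} [IsAffine S] {𝒳 : AlgSt.Cat S}

/-- Over an affine base, the fibre product of two quasi-affine charts is quasi-affine over their product. -/
theorem repByAlgSpWith_weaken_of_charts (hX : FibCat.IsFibGrpd 𝒳.p) {A B : Over S} [IsAffine A.left]
    [IsAffine B.left] (a : FibCat.overCat A ⥤ᵇ 𝒳) (b : FibCat.overCat B ⥤ᵇ 𝒳)
    (hb : AlgSt.RepByAlgSpWith IsQuasiAffineMor b) :
    AlgSt.RepByAlgSpWith IsQuasiAffineMor (weaken a b (FibCat.toSelf 𝒳)) := by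
  have : (BasedFunctor.id (FibCat.selfOver (Over S))).toFunctor.Full := inferInstanceAs (𝟭 _).Full
  have : (BasedFunctor.id (FibCat.selfOver (Over S))).toFunctor.Faithful := inferInstanceAs (𝟭 _).Faithful
  let t := FibCat.toSelf 𝒳
  let m := fpMap (F := BasedFunctor.comp a t) (G := BasedFunctor.comp b t)
    (F' := FibCat.toSelf (FibCat.overCat A)) (G' := FibCat.toSelf (FibCat.overCat B))
    (a := BasedFunctor.id _) (b := BasedFunctor.id _) (c := BasedFunctor.id _)
    (eqToIso (comp_toSelf a)) (eqToIso (comp_toSelf b).symm)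
  let e₀ := BasedFunctor.comp (sliceProd A B) m
  have he₀ : FibCat.IsEquivOver e₀ := isEquivOver_comp (sliceProd_isEquivOver A B)
    (fpMap_isEquivOver _ _ isEquivOver_id isEquivOver_id)
  obtain ⟨g₀, -, -, ⟨ig⟩⟩ := isEquivOver_inv he₀
  let f' := BasedFunctor.comp (weaken a b t) g₀
  haveI : IsAffine (A ⨯ B).left := IsAffine.of_isIso (Over.prodLeftIsoPullback A B).hom
  have hfpg : FibCat.IsFibGrpd (FibCat.fp a b).p := fp_isFibGrpd (isFibGrpd_overCat A) (isFibGrpd_overCat B) hX
  have hA := repByAlgSpWith_toSelf_overCat A (inferInstance : IsAffineHom A.hom)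
  have hab : AlgSt.RepByAlgSpWith IsQuasiAffineMor (FibCat.toSelf (FibCat.fp a b)) := by
    rw [← comp_toSelf (FibCat.fpFst a b)]
    exact repByAlgSpWith_comp' stableBC_isQuasiAffineMor stableComp_isQuasiAffineMor
      (fun _ _ c hc => isQuasiAffineMor_of_repBySpWith c hc) hfpg (isFibGrpd_overCat A)
      (repByAlgSpWith_fpFst a hb) hA
  have hf' : AlgSt.RepByAlgSpWith IsQuasiAffineMor f' :=
    repByAlgSpWith_of_diag stableBC_isQuasiAffineMor stableComp_isQuasiAffineMor
      (fun _ _ c hc => isQuasiAffineMor_of_repBySpWith c hc) hfpg (isFibGrpd_overCat (A ⨯ B)) isFibGrpd_selfOver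
      (eqToIso (comp_toSelf f')) hab (repByAlgSpWith_diag_toSelf_overCat (A ⨯ B))
  exact repByAlgSpWith_of_iso (whiskerLeftIso (weaken a b t) ig) (repByAlgSpWith_postcomp he₀ hf')

end Aux

/-- Let `S` be an affine scheme and `𝒳` an algebraic stack over `S` for the fppf topology. Then the
diagonal `𝒳 → 𝒳 ×_S 𝒳` is representable by algebraic spaces and quasi-affine if and only if there
are a scheme `U` over `S` and a functor `x : (Sch/U) → 𝒳` over `(Sch/S)`, representable by algebraic
spaces, smooth and surjective, whose restriction to every affine open of `U` is representable by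
algebraic spaces and quasi-affine. (The published statement is over the base `Spec ℤ`, and in place
of the right-hand condition stated here it allows any fpqc covering family of `𝒳` by affine schemes
whose structure functors are quasi-affine; the affine opens of a smooth surjective chart form such a
family, and conversely when the diagonal is quasi-affine every functor from an affine scheme over
the affine base `S` is quasi-affine, so the two conditions stated here are equivalent to the
published ones over an affine base.) -/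
theorem result (S : Scheme.{u}) [IsAffine S]
    (𝒳 : AlgSt.Cat S) (h𝒳 : AlgSt.IsAlgStack Scheme.fppfPrecoverage 𝒳) :
    AlgSt.RepByAlgSpWith AlgSp.IsQuasiAffineMor (FibCat.diag (FibCat.toSelf 𝒳)) ↔
      ∃ (U : Over S) (x : FibCat.overCat U ⥤ᵇ 𝒳),
        AlgSt.RepByAlgSpWith (AlgSp.LocP @Smooth) x ∧ AlgSt.RepByAlgSpWith AlgSp.IsSurjectiveMor x ∧
          ∀ (V : U.left.Opens), IsAffineOpen V →
            AlgSt.RepByAlgSpWith AlgSp.IsQuasiAffineMor
              (BasedFunctor.comp (AlgSt.overMap (Over.homMk V.ι rfl : Over.mk (V.ι ≫ U.hom) ⟶ U)) x) := by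
  open CategoryTheory.Limits AlgSp Groth.Agent.FibBase Groth.Agent.AlgStLib Groth.Agent.AlgSpLib in
  refine ⟨fun hΔ => ?_, fun ⟨U, x, hx, hx', hV⟩ => ?_⟩
  · obtain ⟨U, x, hx, hx'⟩ := id h𝒳.atlas
    refine ⟨U, x, hx, hx', fun V hV => ?_⟩
    haveI : IsAffine (Over.mk (V.ι ≫ U.hom)).left := hV
    exact repByAlgSpWith_of_diag stableBC_isQuasiAffineMor stableComp_isQuasiAffineMor
      (fun _ _ c hc => isQuasiAffineMor_of_repBySpWith c hc) (isFibGrpd_overCat _) h𝒳.isStack.1 isFibGrpd_selfOver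
      (eqToIso (comp_toSelf _)) (repByAlgSpWith_toSelf_overCat (Over.mk (V.ι ≫ U.hom)) (isAffineHom_of_isAffine _)) hΔ
  · let t := FibCat.toSelf 𝒳
    let A : U.left.affineOpens → Over S := fun V => Over.mk (V.1.ι ≫ U.hom)
    let j : ∀ V, A V ⟶ U := fun V => Over.homMk V.1.ι rfl
    let xA : ∀ V, FibCat.overCat (A V) ⥤ᵇ 𝒳 := fun V => BasedFunctor.comp (AlgSt.overMap (j V)) x
    have hAff : ∀ V, IsAffine (A V).left := fun V => V.2
    refine repByAlgSpWith_of_locFamily (I := U.left.affineOpens × U.left.affineOpens)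
      (Z := fun i => FibCat.fp (BasedFunctor.comp (xA i.1) t) (BasedFunctor.comp (xA i.2) t))
      stableBC_isQuasiAffineMor (isLocalOnBase_fppf_of_fpqc isLocalOnBase_fpqc_isQuasiAffineMor)
      h𝒳.diag (fun i => pairMap (xA i.1) (xA i.2) t) (fun T y => ?_) (fun i => ?_)
    · have hl := locEssSurj_of_atlas hx hx'
      obtain ⟨R₀, hR₀, hz⟩ := locEssSurj_pairMap t hl hl T y
      let R : Sieve T :=
        { arrows := fun V h => ∃ (i : U.left.affineOpens × U.left.affineOpens)
            (z : FibCat.overCat V ⥤ᵇ FibCat.fp (BasedFunctor.comp (xA i.1) t) (BasedFunctor.comp (xA i.2) t)),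
            Nonempty (BasedFunctor.comp z (pairMap (xA i.1) (xA i.2) t) ≅
              BasedFunctor.comp (AlgSt.overMap h) y)
          downward_closed := fun {V W h} ⟨i, z, ⟨iz⟩⟩ k => ⟨i, BasedFunctor.comp (AlgSt.overMap k) z,
            ⟨whiskerLeftIso (AlgSt.overMap k) iz ≪≫ whiskerRightIso (overMapCompIso k h) y⟩⟩ }
      refine ⟨R, (AlgSp.J S).transitive hR₀ R fun V h hh => ?_, fun V h hh => hh⟩
      obtain ⟨z, ⟨iz⟩⟩ := hz h hh
      obtain ⟨k₁, ⟨ik₁⟩⟩ := exists_mapB (BasedFunctor.comp z (FibCat.fpFst _ _))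
      obtain ⟨k₂, ⟨ik₂⟩⟩ := exists_mapB (BasedFunctor.comp z
        (FibCat.fpSnd (BasedFunctor.comp x t) (BasedFunctor.comp x t)))
      let O : U.left.affineOpens × U.left.affineOpens → V.left.Opens :=
        fun i => (k₁.left ⁻¹ᵁ i.1.1) ⊓ (k₂.left ⁻¹ᵁ i.2.1)
      let o : ∀ i, Over.mk ((O i).ι ≫ V.hom) ⟶ V := fun i => Over.homMk (O i).ι rfl
      refine CatModLocal.mem_J_of_openImm (fun i => Over.mk ((O i).ι ≫ V.hom)) o
        (fun i => inferInstanceAs (IsOpenImmersion (O i).ι)) (fun v => ?_) _ fun i => ?_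
      · obtain ⟨V₁, h₁, m₁, -⟩ := exists_isAffineOpen_mem_and_subset (X := U.left) (x := k₁.left v) (U := ⊤) trivial
        obtain ⟨V₂, h₂, m₂, -⟩ := exists_isAffineOpen_mem_and_subset (X := U.left) (x := k₂.left v) (U := ⊤) trivial
        exact ⟨(⟨V₁, h₁⟩, ⟨V₂, h₂⟩), ⟨⟨v, m₁, m₂⟩, rfl⟩⟩
      · show R (o i ≫ h)
        let P : Over S := Over.mk ((O i).ι ≫ V.hom)
        have hr₁ : Set.range ((o i) ≫ k₁).left ⊆ Set.range i.1.1.ι := by
          rintro _ ⟨v, rfl⟩
          exact ⟨⟨_, v.2.1⟩, rfl⟩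
        have hr₂ : Set.range ((o i) ≫ k₂).left ⊆ Set.range i.2.1.ι := by
          rintro _ ⟨v, rfl⟩
          exact ⟨⟨_, v.2.2⟩, rfl⟩
        let l₁ : P ⟶ A i.1 := Over.homMk (IsOpenImmersion.lift i.1.1.ι _ hr₁) (by
          show _ ≫ i.1.1.ι ≫ U.hom = _
          rw [← Category.assoc, IsOpenImmersion.lift_fac]
          exact Over.w (o i ≫ k₁))
        let l₂ : P ⟶ A i.2 := Over.homMk (IsOpenImmersion.lift i.2.1.ι _ hr₂) (by
          show _ ≫ i.2.1.ι ≫ U.hom = _
          rw [← Category.assoc, IsOpenImmersion.lift_fac]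
          exact Over.w (o i ≫ k₂))
        have hl₁ : l₁ ≫ j i.1 = o i ≫ k₁ := Over.OverMorphism.ext (IsOpenImmersion.lift_fac _ _ hr₁)
        have hl₂ : l₂ ≫ j i.2 = o i ≫ k₂ := Over.OverMorphism.ext (IsOpenImmersion.lift_fac _ _ hr₂)
        let z' := FibCat.fpLift (F := BasedFunctor.comp (xA i.1) t) (G := BasedFunctor.comp (xA i.2) t)
          (AlgSt.overMap l₁) (AlgSt.overMap l₂) (eqToIso ((eq_toSelf _).trans (eq_toSelf _).symm))
        refine ⟨i, z', ⟨DiagQC.fpSelfIso ?_ ?_⟩⟩
        · exact whiskerRightIso (overMapCompIso l₁ (j i.1) ≪≫ eqToIso (congrArg AlgSt.overMap hl₁) ≪≫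
            (overMapCompIso (o i) k₁).symm ≪≫ whiskerLeftIso (AlgSt.overMap (o i)) ik₁) x ≪≫
            whiskerLeftIso (AlgSt.overMap (o i)) (whiskerRightIso iz (FibCat.fpFst t t)) ≪≫
            whiskerRightIso (overMapCompIso (o i) h) (BasedFunctor.comp y (FibCat.fpFst t t))
        · exact whiskerRightIso (overMapCompIso l₂ (j i.2) ≪≫ eqToIso (congrArg AlgSt.overMap hl₂) ≪≫
            (overMapCompIso (o i) k₂).symm ≪≫ whiskerLeftIso (AlgSt.overMap (o i)) ik₂) x ≪≫
            whiskerLeftIso (AlgSt.overMap (o i)) (whiskerRightIso iz (FibCat.fpSnd t t)) ≪≫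
            whiskerRightIso (overMapCompIso (o i) h) (BasedFunctor.comp y (FibCat.fpSnd t t))
    · haveI := hAff i.1
      haveI := hAff i.2
      exact (repByAlgSpWith_iff_of_square (f' := weaken (xA i.1) (xA i.2) t)
        (f := FibCat.fpFst (pairMap (xA i.1) (xA i.2) t) (FibCat.diag t))
        (a := diagComparison (xA i.1) (xA i.2) t) (b := BasedFunctor.id _)
        (diagComparison_isEquivOver (xA i.1) (xA i.2) t) isEquivOver_id (Iso.refl _)).2
        (repByAlgSpWith_weaken_of_charts h𝒳.isStack.1 (xA i.1) (xA i.2) (hV i.2.1 i.2.2))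

end Groth.Agent.S16858
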