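import Groth.Statements.S16859
import Groth.Agent.IsoNatLib.TriRep
import Groth.Agent.IsoNatLib.CleanLocus
import Groth.Agent.AlgStLib.SepDiag
import Groth.Agent.AlgStLib.SepUnivClosed
import Groth.Agent.AlgStLib.DiagLFT
import Groth.Agent.S3020

set_option linter.style.haveILetI false
set_option backward.isDefEq.respectTransparency false
set_option backward.isDefEq.respectTransparency.types false

set_option autoImplicit false
universe u
open CategoryTheory CategoryTheory.Limits AlgebraicGeometry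
open AlgSt

namespace Groth.Agent.S16859

/-- Let `𝒳` be an algebraic stack over a scheme `S` (fppf topology) whose diagonal over `S` is
representable by algebraic spaces and quasi-affine. Let `k` be a field with a morphism `Spec k → S`,
let `x : (Sch/Spec k) → 𝒳` be a functor over `(Sch/S)` (a `k`-valued point of `𝒳`), and let `G` be a
group scheme over `Spec k` representing the automorphism presheaf of `x` on schemes over `Spec k`
(the stabilizer group scheme of `x`). Then `G` is affine and locally of finite type over `k`, i.e.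
an affine algebraic group. (The published statement is over the base `Spec ℤ`; the same argument
applies to the diagonal over any base scheme.) -/
theorem result (S : Scheme.{u})
    (𝒳 : AlgSt.Cat S) (h𝒳 : AlgSt.IsAlgStack Scheme.fppfPrecoverage 𝒳)
    (hΔ : AlgSt.RepByAlgSpWith AlgSp.IsQuasiAffineMor (FibCat.diag (FibCat.toSelf 𝒳)))
    (k : Type u) [Field k] (p : Spec (CommRingCat.of k) ⟶ S)
    (x : FibCat.overCat (Over.mk p) ⥤ᵇ 𝒳) (G : Over (Over.mk p).left) [GrpObj G]
    (hG : Gerb.AutRep x (Gerb.ptsGrp (Over.mk p) G)) :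
    IsAffine G.left ∧ LocallyOfFiniteType G.hom := by
  let r := hG
  open Groth.Agent.FibBase Groth.Agent.AlgStLib Groth.Agent.AlgSpLib AlgSp Opposite in
  haveI := h𝒳.isStack.1
  let U : Over S := Over.mk p
  obtain ⟨R, hRl, hRq⟩ := Groth.Agent.IsoNatLib.exists_autRep (v := x) (repByAlgSpWith_inertiaToBase _
    (repByAlgSpWith_and stableBC_locP (repByAlgSpWith_lft_diag_toSelf h𝒳.diag h𝒳.atlas) hΔ))
  let Gs : Over S := Over.mk (G.hom ≫ p)
  let g0 : Gs ⟶ U := Over.homMk G.hom rfl
  let T0 : Over U := Over.mk g0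
  let a0 : (Gerb.ptsGrp U G).obj (op T0) :=
    (Over.homMk (𝟙 G.left) (Category.id_comp _) : (Over.iteratedSliceForward U).obj T0 ⟶ G)
  let conv : ∀ V : Over U, Gerb.AutO (x.obj V) → IsoNatLib.AutAt x V := fun V α =>
    fiberIsoMk (a := IsoNatLib.fib x V) (b := IsoNatLib.fib x V) (ofFiberIso (a := Gerb.fib (x.obj V)) (b := Gerb.fib (x.obj V)) α)
      (isHomLift_id_congr (x.w_obj V) α.hom.2)
  let convi : ∀ V : Over U, IsoNatLib.AutAt x V → Gerb.AutO (x.obj V) := fun V γ =>
    fiberIsoMk (a := Gerb.fib (x.obj V)) (b := Gerb.fib (x.obj V)) (ofFiberIso (a := IsoNatLib.fib x V) (b := IsoNatLib.fib x V) γ)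
      (isHomLift_id_congr (x.w_obj V).symm γ.hom.2)
  let tri : ∀ {T : Over S} (h : T ⟶ U), IsoNatLib.AutAt x (Over.mk h) → IsoNatLib.Tri x x T :=
    fun {T} h γ => ⟨h, h, γ⟩
  let t0 := tri g0 (conv T0 (r.iso T0 a0))
  let θ : (yon S).obj Gs ⟶ R.F.obj := R.pt t0 rfl
  have pre : ∀ {T : Over S} (φ : T ⟶ Gs) (a : (Over.iteratedSliceForward U).obj (Over.mk (φ ≫ g0)) ⟶ G),
      a.left = φ.left →
      R.pt (tri (φ ≫ g0) (conv _ (r.iso (Over.mk (φ ≫ g0)) a))) rfl = (yon S).map φ ≫ θ := fun {T} φ a ha => by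
    let h : (Over.mk (φ ≫ g0) : Over U) ⟶ T0 := Over.homMk φ rfl
    have hp : (Gerb.ptsGrp U G).map h.op a0 = a := Over.OverMorphism.ext ((Category.comp_id _).trans ha.symm)
    have hn := r.natural h a0
    rw [hp] at hn
    rw [← R.pt_res t0 rfl φ]
    congr 1
    exact IsoNatLib.IsRes.eq ⟨h, h, rfl, rfl, hn⟩
  have hbij : ∀ T : Over S, Function.Bijective (fun φ : T ⟶ Gs => (yon S).map φ ≫ θ) := fun T => by
    refine ⟨fun φ₁ φ₂ he => ?_, fun τ => ?_⟩
    · have hg : φ₁ ≫ g0 = φ₂ ≫ g0 := (yon S).map_injective (by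
        have := congrArg (· ≫ R.a) he
        simp only [Category.assoc, θ, R.pt_a] at this
        rw [Functor.map_comp, Functor.map_comp]
        exact this)
      let b₁ : (Over.iteratedSliceForward U).obj (Over.mk (φ₁ ≫ g0)) ⟶ G := Over.homMk φ₁.left rfl
      let b₂ : (Over.iteratedSliceForward U).obj (Over.mk (φ₁ ≫ g0)) ⟶ G :=
        Over.homMk φ₂.left (congrArg CommaMorphism.left hg).symm
      have e₂ : ∀ (h : T ⟶ U) (hh : φ₂ ≫ g0 = h) (b : (Over.iteratedSliceForward U).obj (Over.mk h) ⟶ G),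
          b.left = φ₂.left →
          R.pt (tri h (conv _ (r.iso (Over.mk h) b))) rfl = (yon S).map φ₂ ≫ θ := by
        rintro _ rfl b hb
        exact pre φ₂ b hb
      have e := R.pt_inj ((pre φ₁ b₁ rfl).trans (he.trans (e₂ _ hg.symm b₂ rfl).symm))
      simp only [tri, IsoNatLib.Tri.mk.injEq, heq_eq_eq, true_and] at e
      have e' : r.iso (Over.mk (φ₁ ≫ g0)) b₁ = r.iso (Over.mk (φ₁ ≫ g0)) b₂ :=
        Iso.ext (Subtype.ext (congrArg (fun γ : IsoNatLib.AutAt x _ => γ.hom.1) e :))
      exact Over.OverMorphism.ext (congrArg (fun b : (Over.iteratedSliceForward U).obj (Over.mk (φ₁ ≫ g0)) ⟶ G => b.left)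
        ((r.iso _).injective e') : b₁.left = b₂.left)
    · obtain ⟨⟨h, g, δ⟩, e, rfl⟩ := R.pt_surj τ
      dsimp only at e
      subst e
      let a : (Over.iteratedSliceForward U).obj (Over.mk g) ⟶ G := (r.iso (Over.mk g)).symm (convi _ δ)
      let φ : T ⟶ Gs := Over.homMk a.left (by
        show a.left ≫ G.hom ≫ p = T.hom
        rw [← Category.assoc, Over.w a]
        exact Over.w g)
      refine ⟨φ, ?_⟩
      have hφ : φ ≫ g0 = g := Over.OverMorphism.ext (Over.w a)
      have gen : ∀ (h : T ⟶ U) (hh : φ ≫ g0 = h) (b : (Over.iteratedSliceForward U).obj (Over.mk h) ⟶ G),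
          b.left = φ.left →
          (yon S).map φ ≫ θ = R.pt (tri h (conv _ (r.iso (Over.mk h) b))) rfl := by
        rintro _ rfl b hb
        exact (pre φ b hb).symm
      refine (gen g hφ a rfl).trans ?_
      congr 1
      show IsoNatLib.Tri.mk g g _ = IsoNatLib.Tri.mk g g δ
      congr 1
      refine Iso.ext (Subtype.ext ?_)
      show (r.iso (Over.mk g) a).hom.1 = δ.hom.1
      rw [show r.iso (Over.mk g) a = convi _ δ from (r.iso (Over.mk g)).apply_symm_apply _]
      rfl
  haveI : IsIso θ := by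
    haveI : IsIso ((sheafToPresheaf _ _).map θ) := by
      rw [NatTrans.isIso_iff_isIso_app]
      intro T
      rw [isIso_iff_bijective]
      have key : ∀ ψ : ULift (T.unop ⟶ Gs),
          θ.hom.app T ψ = (AlgSp.J S).uliftYonedaEquiv ((yon S).map ψ.down ≫ θ) := fun ψ => by
        rw [GrothendieckTopology.uliftYonedaEquiv_comp, GrothendieckTopology.uliftYonedaEquiv_uliftYoneda_map]
        rfl
      refine ⟨fun ψ₁ ψ₂ h => ?_, fun σ => ?_⟩
      · exact ULift.ext _ _ ((hbij T.unop).1 ((AlgSp.J S).uliftYonedaEquiv.injective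
          ((key ψ₁).symm.trans (h.trans (key ψ₂)))))
      · obtain ⟨φ, hφ⟩ := (hbij T.unop).2 ((AlgSp.J S).uliftYonedaEquiv.symm σ)
        exact ⟨⟨φ⟩, (key ⟨φ⟩).trans (((AlgSp.J S).uliftYonedaEquiv.apply_eq_iff_eq_symm_apply).2 hφ)⟩
    exact isIso_of_reflects_iso θ (sheafToPresheaf _ _)
  have hθa : θ ≫ R.a = (yon S).map g0 := R.pt_a t0 rfl
  haveI : IsAffine U.left := inferInstanceAs (IsAffine (Spec (CommRingCat.of k)))
  obtain ⟨W, i, fst, sq, hW⟩ := hRq (Z := U) inferInstance (𝟙 _)
  haveI := hW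
  haveI : IsIso fst := sq.isIso_fst_of_isIso
  obtain ⟨φ, hφ⟩ := (yon S).map_surjective (fst ≫ inv θ)
  haveI : IsIso ((yon S).map φ) := by rw [hφ]; infer_instance
  haveI : IsIso φ := isIso_of_reflects_iso φ (yon S)
  haveI : IsIso φ.left := inferInstanceAs (IsIso ((Over.forget S).map φ))
  haveI : CompactSpace W.left := inferInstance
  haveI : CompactSpace G.left := (Scheme.homeoOfIso (asIso φ.left)).compactSpace
  haveI : G.left.IsQuasiAffine := Scheme.IsQuasiAffine.of_isImmersion (inv φ.left)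
  haveI : LocallyOfFiniteType G.hom := by
    have h1 : LocP @LocallyOfFiniteType ((yon S).map g0) := by
      rw [← hθa]
      haveI := Groth.Agent.IsoNatLib.respectsIso_locP (S := S) @LocallyOfFiniteType
      exact MorphismProperty.RespectsIso.precomp _ θ _ hRl
    exact (locP_yon_map h1 : LocallyOfFiniteType g0.left)
  haveI : QuasiCompact G.hom := (quasiCompact_iff_compactSpace G.hom).2 inferInstance
  exact ⟨Groth.Agent.S3020.result k G, inferInstance⟩

end Groth.Agent.S16859
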