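import Groth.Statements.S16870
import Groth.Agent.AlgStLib.QuasiCompact
import Groth.Agent.AlgStLib.DiagLFT
import Groth.Agent.GerbFlat.Main

set_option linter.style.haveILetI false
set_option backward.isDefEq.respectTransparency false
set_option backward.isDefEq.respectTransparency.types false

set_option autoImplicit false
universe u
open CategoryTheory AlgebraicGeometry
open Gerb

namespace Groth.Agent.S16870

/-- If f : 𝒳 → 𝒴 makes 𝒳 a gerbe over 𝒴 and the diagonal of 𝒳 over the base scheme is quasi-compact,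
then the diagonal of 𝒴 over the base scheme is quasi-compact. -/
theorem result
    (S : Scheme.{u}) (𝒳 𝒴 : AlgSt.Cat S)
    (h𝒳 : AlgSt.IsAlgStack Scheme.fppfPrecoverage 𝒳) (h𝒴 : AlgSt.IsAlgStack Scheme.fppfPrecoverage 𝒴)
    (f : 𝒳 ⥤ᵇ 𝒴) (hf : Gerb.IsGerbeOver (QuotSh.J Scheme.fppfPrecoverage S) f)
    (hΔ : AlgSt.IsQuasiCompactMor Scheme.fppfPrecoverage (FibCat.diag (FibCat.toSelf 𝒳))) :
    AlgSt.IsQuasiCompactMor Scheme.fppfPrecoverage (FibCat.diag (FibCat.toSelf 𝒴)) := by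
  open Groth.Agent.FibBase Groth.Agent.AlgStLib Groth.Agent.AlgSpLib AlgSp in
  let t := FibCat.toSelf 𝒴
  have ht : BasedFunctor.comp f t = FibCat.toSelf 𝒳 := comp_toSelf f
  rw [← ht] at hΔ
  have hX2 := isAlgStack_fp h𝒳 h𝒳 isStack_selfOver repByAlgSpWith_diag_toSelf_selfOver
    (BasedFunctor.comp f t) (BasedFunctor.comp f t)
  have hY2 := isAlgStack_fp h𝒴 h𝒴 isStack_selfOver repByAlgSpWith_diag_toSelf_selfOver t t
  let g := pairMap f f t
  let q := FibCat.fpFst g (FibCat.diag t)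
  have hP := isAlgStack_fp hX2 h𝒴 hY2.isStack hY2.diag g (FibCat.diag t)
  let a := diagComparison f f t
  have ha : FibCat.IsEquivOver a := diagComparison_isEquivOver f f t
  have hs : AlgSt.IsSurjective (BasedFunctor.comp (FibCat.diag f) a) :=
    isSurjective_comp (Groth.Agent.GerbFlat.fppf_and_diag_of_isGerbeOver h𝒳 h𝒴 hf).2.1
      (pts_bijective_of_isEquivOver ha).2
  have hq : AlgSt.IsQuasiCompactMor Scheme.fppfPrecoverage q :=
    isQuasiCompactMor_of_triangle h𝒳 hP hX2 (diagCompIso f t) hs hΔ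
  have hd : AlgSt.RepByAlgSp1 (FibCat.diag t) := h𝒴.diag
  have hq1 : AlgSt.RepByAlgSp1 q := repByAlgSp1_fpFst g hd
  have hQ : AlgSt.RepByAlgSpWith IsQuasiCompactMor (FibCat.diag t) :=
    repByAlgSpWith_of_locEssSurj stableBC_isQuasiCompactMor
      (isLocalOnBase_fppf_of_fpqc isLocalOnBase_fpqc_isQuasiCompactMor) hd
      (locEssSurj_pairMap t (Groth.Agent.GerbFlat.locEssSurj_of_locSurjObj h𝒳.isStack.1 h𝒴.isStack.1 hf.1)
        (Groth.Agent.GerbFlat.locEssSurj_of_locSurjObj h𝒳.isStack.1 h𝒴.isStack.1 hf.1))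
      ((repByAlgSpWith_isQuasiCompactMor_iff hP hX2.isStack hX2.diag hq1).2 hq)
  exact (repByAlgSpWith_isQuasiCompactMor_iff h𝒴 hY2.isStack hY2.diag hd).1 hQ

end Groth.Agent.S16870
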