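import Groth.Statements.S16879
import Groth.Agent.QuotLib.BGChart

/-!
A gerbe over the base with a section is the classifying stack of the automorphism group of the section.
-/

set_option autoImplicit false
set_option backward.isDefEq.respectTransparency false
set_option backward.isDefEq.respectTransparency.types false
universe u

namespace Groth.Agent.S16879

open CategoryTheory AlgebraicGeometry
open Groth.Agent.QuotLib Groth.Agent.IsoNatLib

/-- A neutral gerbe over the base is a classifying stack. -/
theorem result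
    (S : Scheme.{u}) (𝒳 : AlgSt.Cat S) (h𝒳 : AlgSt.IsAlgStack Scheme.fppfPrecoverage 𝒳)
    (π : 𝒳 ⥤ᵇ FibCat.overCat (Over.mk (𝟙 S)))
    (hπ : Gerb.IsGerbeOver (QuotSh.J Scheme.fppfPrecoverage S) π)
    (x : FibCat.overCat (Over.mk (𝟙 S)) ⥤ᵇ 𝒳)
    (e : BasedFunctor.comp x π ≅ BasedFunctor.id (FibCat.overCat (Over.mk (𝟙 S))))
    (G : Over S) [GrpObj G] [IsAffineHom G.hom]
    (r : Gerb.AutRep x (Gerb.ptsGrp (Over.mk (𝟙 S)) G)) :
    AlgSt.IsQuotientOf Scheme.fppfPrecoverage G (AlgSt.trivAction G) 𝒳 := by
  have := h𝒳.isStack.1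
  have := BGChart.chartX_full r
  have := BGChart.chartX_faithful r
  have : (BalProd.chartH (AlgSt.trivAction G)).toFunctor.Full := InducedCategory.full _
  have : (BalProd.chartH (AlgSt.trivAction G)).toFunctor.Faithful := InducedCategory.faithful _
  exact exists_equiv_of_span (J := QuotSh.J Scheme.fppfPrecoverage S) (i := BalProd.chartH (AlgSt.trivAction G))
    (j := BGChart.chartX r)
    ((Groth.Agent.StkLib.isStack_iff_of_isEquivOver _ Groth.Agent.AlgStLib.ToSp.toSp_isEquivOver).2
      Groth.Agent.AlgStLib.SpQuot.isStack)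
    h𝒳.isStack BalProd.hasLifts BalProd.covers_chartH (BGChart.covers_chartX r hπ.2)

end Groth.Agent.S16879
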