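import Groth.Statements.S16880
import Groth.Agent.QuotLib.SpAutExists
import Groth.Agent.QuotLib.SpBGChart
import Groth.Agent.GerbLib.Equiv
import Groth.Agent.AlgStLib.LocQCalc

set_option backward.isDefEq.respectTransparency false
set_option backward.isDefEq.respectTransparency.types false

set_option autoImplicit false
universe u
open CategoryTheory AlgebraicGeometry
open Gerb

namespace Groth.Agent.S16880

open Groth.Agent.AlgSpLib Groth.Agent.AlgStLib Groth.Agent.FibBase Groth.Agent.IsoNatLib Groth.Agent.QuotLib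
open Opposite AlgSp in
/-- A classifying stack is a gerbe over the base sheaf. -/
theorem isGerbeOver_spQuotToBase {S : Scheme.{u}} {B : AlgSp.Sp S} (G : Over B) [GrpObj G] :
    Gerb.IsGerbeOver (QuotSh.J Scheme.fppfPrecoverage S)
      (W4stkstmgerbes.spQuotToBase Scheme.fppfPrecoverage G (AlgSt.trivGAction G)) := by
  have hsec : ∀ c : (AlgSt.ofSp B).obj,
      W4stkstmgerbes.baseSec Scheme.fppfPrecoverage G (AlgSt.trivGAction G) (SpBGChart.Q G c) = c.sec := fun c =>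
    (res_id B.obj _ (eqToHom_refl _ _) _).symm.trans (SpBGChart.secAt_Q c)
  refine ⟨fun y => ⟨⊤, (AlgSp.J S).top_mem _, fun V f _ => ?_⟩, fun A A' b hb => ?_⟩
  · let c : (AlgSt.ofSp B).obj := ⟨V, B.obj.map f.op y.sec⟩
    exact ⟨SpBGChart.Q G c, ⟨f, (hsec c).symm⟩, IsHomLift.of_fac' _ f _ rfl rfl
      ((Category.id_comp _).trans (Category.comp_id _)).symm⟩
  · have hb' : (AlgSt.ofSp B).p.IsHomLift (𝟙 A.base) b := hb
    have h0 : A'.base = A.base := IsHomLift.codomain_eq (AlgSt.ofSp B).p (𝟙 A.base) b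
    obtain ⟨R, hR, hR'⟩ := SpBGChart.covers_chartI G A
    obtain ⟨R₂, hR₂, hR₂'⟩ := SpBGChart.covers_chartI G A'
    refine ⟨R ⊓ R₂.pullback (eqToHom h0.symm),
      (AlgSp.J S).intersection_covering hR ((AlgSp.J S).pullback_stable _ hR₂), fun V f hf => ?_⟩
    obtain ⟨c, φ, hφ⟩ := hR' f hf.1
    obtain ⟨c', ψ, hψ⟩ := hR₂' _ hf.2
    obtain ⟨c, rfl⟩ : ∃ d : (AlgSt.ofSp B).obj, d = c := ⟨c, rfl⟩
    obtain ⟨c', rfl⟩ : ∃ d : (AlgSt.ofSp B).obj, d = c' := ⟨c', rfl⟩
    obtain ⟨T, s⟩ := c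
    obtain ⟨T', s'⟩ := c'
    obtain rfl : T = V := IsHomLift.domain_eq (AlgSt.SpBG Scheme.fppfPrecoverage G).p f φ
    obtain rfl : T' = T :=
      IsHomLift.domain_eq (AlgSt.SpBG Scheme.fppfPrecoverage G).p (f ≫ eqToHom h0.symm) ψ
    have hφb : φ.base = f :=
      (IsHomLift.fac' (AlgSt.SpBG Scheme.fppfPrecoverage G).p f φ).trans
        ((Category.id_comp _).trans (Category.comp_id _))
    have hψb : ψ.base = f ≫ eqToHom h0.symm :=
      (IsHomLift.fac' (AlgSt.SpBG Scheme.fppfPrecoverage G).p (f ≫ eqToHom h0.symm) ψ).trans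
        ((Category.id_comp _).trans (Category.comp_id _))
    have hbh : b.hom = eqToHom h0.symm :=
      (IsHomLift.fac' (AlgSt.ofSp B).p (𝟙 A.base) b).trans (by simp)
    have hbs : B.obj.map b.hom.op (W4stkstmgerbes.baseSec _ G _ A') = W4stkstmgerbes.baseSec _ G _ A := b.map_sec
    have hs : s = s' := by
      refine (hsec ⟨T', s⟩).symm.trans (((W4stkstmgerbes.map_baseSec _ G _ φ).symm.trans ?_).trans (hsec ⟨T', s'⟩))
      refine Eq.trans ?_ (W4stkstmgerbes.map_baseSec _ G _ ψ)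
      rw [← hbs, hφb, hψb, hbh]
      exact res_res _ _ _ _
    subst hs
    exact ⟨_, φ, ψ, hφ, IsHomLift.of_fac' _ f ψ rfl h0 (by
      show ψ.base = _
      rw [hψb]; simp), Stk.EltObj.hom_ext (by
      show φ.base ≫ b.hom = ψ.base
      rw [hφb, hψb, hbh])⟩

/-- A morphism π : 𝒳 → 𝒴 of algebraic stacks makes 𝒳 a gerbe over 𝒴 if and only if, after base change
along some surjective, flat, locally finitely presented morphism U → 𝒴 from an algebraic space, 𝒳
becomes equivalent over U to a classifying stack [U/G], where G is a group algebraic space over U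
that is flat over U and locally of finite presentation. (Here [U/G] is the stack of fppf-locally
trivial G-torsors given as fppf sheaves over U; 'over U' means the equivalence followed by the
projection to U is 2-isomorphic to the structure functor of [U/G].) -/
theorem result
    (S : Scheme.{u}) (𝒳 𝒴 : AlgSt.Cat S)
    (h𝒳 : AlgSt.IsAlgStack Scheme.fppfPrecoverage 𝒳) (h𝒴 : AlgSt.IsAlgStack Scheme.fppfPrecoverage 𝒴)
    (π : 𝒳 ⥤ᵇ 𝒴) :
    Gerb.IsGerbeOver (QuotSh.J Scheme.fppfPrecoverage S) π ↔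
      ∃ (U : AlgSp.Space S) (G : Over U.obj) (_ : GrpObj G),
        AlgSp.IsAlgSpace G.left ∧ AlgSp.LocP @Flat G.hom ∧ AlgSp.LocP @LocallyOfFinitePresentation G.hom ∧
        ∃ u : AlgSt.ofSp U.obj ⥤ᵇ 𝒴,
          AlgSt.RepByAlgSpWith (AlgSp.LocP @Flat) u ∧
          AlgSt.RepByAlgSpWith (AlgSp.LocP @LocallyOfFinitePresentation) u ∧
          AlgSt.RepByAlgSpWith AlgSp.IsSurjectiveMor u ∧
          ∃ e : AlgSt.SpBG Scheme.fppfPrecoverage G ⥤ᵇ FibCat.fp u π,
            FibCat.IsEquivOver e ∧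
            Nonempty (BasedFunctor.comp e (FibCat.fpFst u π) ≅
              W4stkstmgerbes.spQuotToBase Scheme.fppfPrecoverage G (AlgSt.trivGAction G)) := by
  have hXg := h𝒳.isStack.1
  have hYg := h𝒴.isStack.1
  refine ⟨fun hπ => ?_, ?_⟩
  · obtain ⟨V, p, hp, hp'⟩ := h𝒳.atlas
    let U : AlgSp.Space S := ⟨(AlgSp.yon S).obj V, AlgSp.IsAlgSpace.yon_obj V⟩
    have hV : AlgSt.IsAlgStack Scheme.fppfPrecoverage (FibCat.overCat V) := (isDM_of_repByAlgSp (repByAlgSp_overCat V)).1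
    let w := BasedFunctor.comp p π
    have hw1 : AlgSt.RepByAlgSp1 w := repByAlgSp1_of_diag hYg h𝒴.diag V w
    have hwl : AlgSt.LocQ (AlgSp.LocP @Smooth) w :=
      locQ_comp isSmoothLocalST_smooth stableComp_locP hV h𝒳 h𝒴
        ((locQ_iff_repByAlgSpWith isSmoothLocalST_smooth stableBC_locP (isLocalOnBase_fppf_locP _) hV h𝒳
          (repByAlgSp1_of_repByAlgSpWith hp)).2 hp)
        (Groth.Agent.GerbFlat.locQ_smooth_of_isGerbeOver h𝒳 h𝒴 hπ)
    have hws : AlgSt.RepByAlgSpWith (AlgSp.LocP @Smooth) w :=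
      (locQ_iff_repByAlgSpWith isSmoothLocalST_smooth stableBC_locP (isLocalOnBase_fppf_locP _) hV h𝒴 hw1).1 hwl
    have hwj : AlgSt.RepByAlgSpWith AlgSp.IsSurjectiveMor w :=
      repByAlgSpWith_surjective_of_isSurjective (isFibGrpd_overCat V) hYg hw1
        (isSurjective_comp (isSurjective_of_repByAlgSpWith (isFibGrpd_overCat V) hXg hV.atlas hp')
          (Groth.Agent.GerbFlat.fppf_and_diag_of_isGerbeOver h𝒳 h𝒴 hπ).1.1)
    let q : AlgSt.ofSp U.obj ⥤ᵇ 𝒳 := BasedFunctor.comp (AlgSt.toOverCat V) p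
    let u : AlgSt.ofSp U.obj ⥤ᵇ 𝒴 := BasedFunctor.comp q π
    let x : AlgSt.ofSp U.obj ⥤ᵇ FibCat.fp u π :=
      FibCat.fpLift (BasedFunctor.id _) q (Iso.refl _)
    have ex : BasedFunctor.comp x (FibCat.fpFst u π) ≅ BasedFunctor.id _ := Iso.refl _
    have hP := isAlgStack_fp (isAlgStack_ofSp U) h𝒳 h𝒴.isStack h𝒴.diag u π
    have hg : Gerb.IsGerbeOver (QuotSh.J Scheme.fppfPrecoverage S) (FibCat.fpFst u π) :=
      Groth.Agent.GerbLib.isGerbeOver_fpFst hXg hYg (isFibGrpd_ofSp _) u hπ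
    have := hP.isStack.1
    obtain ⟨G, i, hG, hf, hl, ⟨r⟩⟩ := SpAut.exists_autGrp_space hP hg ex
    obtain ⟨e, he, hne⟩ := SpBGChart.exists_equivOver r ex hP.isStack hg.2
    exact ⟨U, G, i, hG, hf, hl, u, repByAlgSpWith_precomp (isEquivOver_toOverCat V) (repByAlgSpWith_flat_of_smooth hws),
      repByAlgSpWith_precomp (isEquivOver_toOverCat V) (repByAlgSpWith_lfp_of_smooth hws),
      repByAlgSpWith_precomp (isEquivOver_toOverCat V) hwj, e, he, hne⟩
  · rintro ⟨U, G, i, -, -, -, u, hu₁, hu₂, hu₃, e, he, ⟨ie⟩⟩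
    obtain ⟨e', ⟨j₁⟩, ⟨j₂⟩⟩ := he
    have he' : FibCat.IsEquivOver e' := ⟨e, ⟨j₂⟩, ⟨j₁⟩⟩
    refine Groth.Agent.GerbLib.isGerbeOver_of_fpFst hXg hYg (isFibGrpd_ofSp _) π u
      (locSurjObj_of_locEssSurj hYg (locEssSurj_of_repByAlgSp hu₁ hu₂ hu₃)) ?_
    exact Groth.Agent.GerbLib.isGerbeOver_of_iso
      ((whiskerLeftIso e' ie).symm ≪≫ whiskerRightIso j₂ (FibCat.fpFst u π))
      (Groth.Agent.GerbLib.isGerbeOver_equiv_comp he' (isGerbeOver_spQuotToBase G))

end Groth.Agent.S16880
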