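import Groth.Statements.S1689
import Groth.Agent.RefX2.DimTwo
import Groth.Agent.RefX2.Hart
import Groth.Agent.QCoh.LocFree

set_option autoImplicit false
universe u
open CategoryTheory CategoryTheory.Limits AlgebraicGeometry TopologicalSpace
open SDiv

namespace Groth.Agent.S1689

/-- Let X be a locally Noetherian scheme of dimension at most 2 all of whose local rings are regular,
and F a coherent module on X. Then F is reflexive (every stalk is a reflexive module over the local
ring) if and only if F is finite locally free. -/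
theorem result (X : Scheme.{u}) [IsLocallyNoetherian X]
    (hreg : ∀ x : ↥X, IsRegularLocalRing (X.presheaf.stalk x)) (hdim : topologicalKrullDim ↥X ≤ 2) (F : X.Modules)
    (hF : Coh.IsCoh F) : (∀ x : ↥X, Module.IsReflexive (X.presheaf.stalk x) (F.presheaf.stalk x)) ↔ FlatMod.IsFinLocFree F := by
  constructor
  · intro hr
    refine QCoh.isFinLocFree_iff.2 ⟨QCoh.isCoh_iff_isFP.1 hF, fun x => ?_⟩
    haveI := hreg x
    haveI := QCoh.finite_stalk_of_isFT (QCoh.isCoh_iff.1 hF).1 (QCoh.isFT_of_isFP (QCoh.isCoh_iff_isFP.1 hF)) x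
    haveI := hr x
    refine RefX2.free_of_isReflexive_of_dim_le_two _ ?_ _
    rw [ringKrullDim_stalk_eq_coheight]
    refine le_trans ?_ hdim
    rw [topologicalKrullDim, Order.krullDim_eq_of_orderIso (irreducibleSetEquivPoints (α := X))]
    exact Order.coheight_le_krullDim x
  · intro h x
    haveI := QCoh.free_stalk_of_isFinLocFree h x
    haveI := QCoh.finite_stalk_of_isFT (QCoh.isCoh_iff.1 hF).1 (QCoh.isFT_of_isFP (QCoh.isCoh_iff_isFP.1 hF)) x
    infer_instance

end Groth.Agent.S1689
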