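import Groth.Statements.S16894
import Groth.Agent.BigMono.NefPos

set_option autoImplicit false
universe u
open CategoryTheory CategoryTheory.Limits AlgebraicGeometry
open Vanish

namespace Groth.Agent.S16894

open Groth.Agent.H23.PicMul

/-- Let k be an algebraically closed field and X an irreducible proper smooth k-scheme of dimension n
with an ample invertible O_X-module A (a projective manifold), and let L be an invertible
O_X-module. Then L is numerically effective, i.e. the degree of the pullback of L to every integral
one-dimensional closed subscheme Y ⊆ X is non-negative, if and only if L^⊗ν ⊗ A is ample for every ν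
> 0. (The published lemma says 'for an ample sheaf A'; the equivalence is stated here for any given
ample A, which is what the argument gives.) -/
theorem result (k : Type u) [Field k] [IsAlgClosed k]
    (X : Scheme.{u}) [X.Over (Spec (CommRingCat.of k))] [IsProper (X ↘ Spec (CommRingCat.of k))]
    [Smooth (X ↘ Spec (CommRingCat.of k))] [IrreducibleSpace X] (n : ℕ) (hn : topologicalKrullDim X = n)
    (A : X.Modules) (hA : CohB1.IsAmple A) (L : X.Modules) (hL : PicF.IsInvertible L) :
    (∀ (Y : Scheme.{u}) (i : Y ⟶ X) [IsClosedImmersion i], IsIntegral Y → topologicalKrullDim Y = 1 →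
      0 ≤ Pic13.curveDeg k (i ≫ (X ↘ Spec (CommRingCat.of k))) ((Scheme.Modules.pullback i).obj L)) ↔
      ∀ ν : ℕ, 0 < ν → CohB1.IsAmple (CohB1.tensorMod (CohB1.tensorPow L ν) A) := by
  haveI := CurveCohLib.isNoetherian_of_proper (k := k) (X := X)
  have h1A : PicF.cl (CohB1.tensorPow A 1) = PicF.cl A := by rw [cl_tensorPow, pow_one]
  constructor
  · intro hnef ν hν
    have hnef' : BigMono.NefC k L := fun Z i _ _ hZ => by
      rw [← IntSym.curveDeg_eq k i hZ hL]
      exact hnef Z i inferInstance hZ
    obtain ⟨e⟩ : Nonempty (CohB1.tensorMod (CohB1.tensorPow L ν) (CohB1.tensorPow A 1) ≅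
        CohB1.tensorMod (CohB1.tensorPow L ν) A) := cl_eq_iff.1 (by rw [cl_tensor, cl_tensor, h1A])
    exact AmpleX.isAmple_of_iso e (BigMono.isAmple_nef_tensor k hL hnef' hA one_pos hν)
  · intro h Y i _ hY hdim
    rw [IntSym.curveDeg_eq k i hdim hL]
    by_contra hneg
    have hF : Coh.IsCoh ((Coh.push i).obj (Coh.structureModule Y)) := QCoh.isCoh_push_structure i
    have hFd : topologicalKrullDim ↥(CohB1.support ((Coh.push i).obj (Coh.structureModule Y))) =
        ((1 : ℕ) : WithBot ℕ∞) := by rw [BigMono.dim_support_push k i, hdim, Nat.cast_one]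
    set c := IntSym.sym k [L] ((Coh.push i).obj (Coh.structureModule Y)) with hc
    set a := IntSym.sym k [A] ((Coh.push i).obj (Coh.structureModule Y)) with ha
    have hν := h (a.toNat + 1) (Nat.succ_pos _)
    have hpos : 0 < IntSym.sym k [CohB1.tensorMod (CohB1.tensorPow L (a.toNat + 1)) A]
        ((Coh.push i).obj (Coh.structureModule Y)) :=
      (HilbPoly.mult_nonneg_and_pos k hν 1 _ hF hFd.le).2 hFd
    have hnil : ∀ N ∈ ([] : List X.Modules), PicF.IsInvertible N := fun _ h => absurd h List.not_mem_nil
    rw [IntSym.sym_tensor_head k (InvX.isInvertible_tensorPow hL _) hA.1 hnil hF (by simpa using hFd.le),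
      IntSym.sym_tensorPow_head k hL hnil hF (by simpa using hFd.le), ← hc, ← ha] at hpos
    have h1 : ((a.toNat + 1 : ℕ) : ℤ) * c ≤ ((a.toNat + 1 : ℕ) : ℤ) * (-1) :=
      mul_le_mul_of_nonneg_left (by omega) (Int.natCast_nonneg _)
    omega

end Groth.Agent.S16894
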