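import Groth.Statements.S1690
import Groth.Agent.RefX2.BigOpen
import Groth.Agent.ZClosLib.Basic

set_option autoImplicit false
universe u
open CategoryTheory CategoryTheory.Limits AlgebraicGeometry TopologicalSpace
open SDiv

namespace Groth.Agent.S1690

/-- (1) if and only if (3): let X be an integral locally Noetherian normal scheme and F a coherent
module. Then F is reflexive (stalkwise) if and only if there is an open subscheme j : U ⟶ X such
that every point outside U has local ring of dimension at least 2, the restriction of F to U is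
finite locally free, and the canonical map F ⟶ j_* j^* F is an isomorphism. -/
theorem result (X : Scheme.{u}) [IsIntegral X] [IsLocallyNoetherian X] (hX : Pi1.IsNormalScheme X)
    (F : X.Modules) (hF : Coh.IsCoh F) :
    (∀ x : ↥X, Module.IsReflexive (X.presheaf.stalk x) (F.presheaf.stalk x)) ↔
      ∃ U : X.Opens, (∀ x : ↥X, x ∉ U → (2 : WithBot ℕ∞) ≤ ringKrullDim (X.presheaf.stalk x)) ∧
        FlatMod.IsFinLocFree (F.restrict U.ι) ∧ IsIso ((Scheme.Modules.restrictAdjunction U.ι).unit.app F) := by
  constructor
  · intro hr
    have hr' : RefHull.IsReflexive F := (RefX.isReflexive_iff hF).2 hr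
    have h := RefX2.hart_of_isReflexive hX hF hr'
    have hU := fun x (hx : x ∉ RefX2.freeLocus F) => RefX2.two_le_dim_off_freeLocus hX hF h.1.isTorsionFree hx
    exact ⟨RefX2.freeLocus F, hU, RefX2.isFinLocFree_freeLocus F, RefX.isIso_unit_of_extendsAcross
      fun W => h.bijective_res (inf_le_left : W ⊓ RefX2.freeLocus F ≤ W) fun x hx hx' => hU x fun h' => hx' ⟨hx, h'⟩⟩
  · rintro ⟨U, hU, hfree, hiso⟩
    haveI := hiso
    have hext : RefX.ExtendsAcross U F := fun W =>
      (ZClosLib.unit_app_bijective_iff U F W).1 (ZClosLib.app_bijective_of_isIso ((ZClos.resPushUnit U).app F) W)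
    exact (RefX.isReflexive_iff hF).1 (RefX2.isReflexive_of_hart hX hF
      (RefX2.hart_of_extendsAcross (QCoh.isCoh_iff.1 hF).1 hfree hU
        (fun x hx v hv => by
          haveI := RefX2.finite_stalk hF x
          exact RefX2.mem_lat_of_isReflexiveAt hX hF (RefX2.isReflexiveAt_of_isFinLocFree_restrict hfree hx) v hv)
        hext hX))

end Groth.Agent.S1690
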