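import Groth.Statements.S16901
import Groth.Agent.BigMono.Basic

set_option autoImplicit false
universe u
open CategoryTheory CategoryTheory.Limits AlgebraicGeometry
open Vanish

namespace Groth.Agent.S16901

open Groth.Agent.H23.PicMul

/-- Let k be an algebraically closed field and X an integral proper k-scheme of dimension n with an
ample invertible O_X-module (a projective variety, not assumed non-singular), and let L be an
invertible O_X-module. The Iitaka dimension of L is n, in the growth form the text adopts as its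
working definition (for some ν > 0 there is a constant a > 0 with μ^n ≤ a · dim_k H^0(X, L^⊗νμ) for
all μ ≥ 1), if and only if for some ν > 0 there are an ample invertible module A and a monomorphism
A → L^⊗ν (that is, L^⊗ν(−C) is ample for some effective divisor C). -/
theorem result (k : Type u) [Field k] [IsAlgClosed k]
    (X : Scheme.{u}) [X.Over (Spec (CommRingCat.of k))] [IsIntegral X] [IsProper (X ↘ Spec (CommRingCat.of k))]
    (n : ℕ) (hn : topologicalKrullDim X = n) (H : X.Modules) (hH : CohB1.IsAmple H)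
    (L : X.Modules) (hL : PicF.IsInvertible L) :
    (∃ ν a : ℕ, 0 < ν ∧ 0 < a ∧ ∀ μ : ℕ, 1 ≤ μ →
        μ ^ n ≤ a * Module.finrank k (Coh.HH X (CohB1.tensorPow L (ν * μ)) 0)) ↔
      ∃ (ν : ℕ) (A : X.Modules) (φ : A ⟶ CohB1.tensorPow L ν), 0 < ν ∧ CohB1.IsAmple A ∧ Mono φ := by
  haveI := CurveCohLib.isNoetherian_of_proper (k := k) (X := X)
  obtain ⟨H', -, ⟨e₀⟩⟩ := H23.PicInv.exists_inverse hH.1
  obtain ⟨e⟩ : Nonempty (CohB1.tensorMod H' H ≅ Coh.structureModule X) := H23.PicMul.cl_eq_iff.1 (by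
    rw [H23.PicMul.cl_tensor, mul_comm, ← H23.PicMul.cl_tensor]
    exact H23.PicMul.cl_eq_iff.2 ⟨e₀⟩)
  constructor
  · rintro ⟨ν, a, hν, ha, h⟩
    obtain ⟨m, hm, τ, hτ⟩ := VolLib.exists_kodaira (k := k) hH e hL hn (fun C m₀ => by
      refine ⟨ν * (C * ν ^ n * a + m₀ + 1), le_trans (by omega) (Nat.le_mul_of_pos_left _ hν), ?_⟩
      set μ := C * ν ^ n * a + m₀ + 1 with hμ
      set F := Module.finrank k (Coh.HH X (CohB1.tensorPow L (ν * μ)) 0) with hF
      have h1 : μ ^ n ≤ a * F := h μ (by omega)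
      have h2 : 0 < F := Nat.pos_of_ne_zero fun h0 => by
        rw [h0, Nat.mul_zero] at h1
        have : 0 < μ ^ n := Nat.pow_pos (by omega)
        omega
      calc C * (ν * μ) ^ n = C * ν ^ n * μ ^ n := by rw [mul_pow, mul_assoc]
        _ ≤ C * ν ^ n * (a * F) := Nat.mul_le_mul_left _ h1
        _ = (C * ν ^ n * a) * F := (mul_assoc _ _ _).symm
        _ < μ * F := Nat.mul_lt_mul_of_pos_right (by omega) h2
        _ ≤ F * (ν * μ) := by
            rw [mul_comm μ]
            exact Nat.mul_le_mul_left _ (Nat.le_mul_of_pos_left _ hν))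
    obtain ⟨φ, hφ⟩ := BigMono.exists_mono_of_section hH.1 (InvX.isInvertible_tensorPow hL m) e τ hτ
    exact ⟨m, H, φ, hm, hH, hφ⟩
  · rintro ⟨ν, A, φ, hν, hA, hφ⟩
    obtain ⟨A', -, ⟨eA₀⟩⟩ := H23.PicInv.exists_inverse hA.1
    obtain ⟨eA⟩ : Nonempty (CohB1.tensorMod A' A ≅ Coh.structureModule X) := H23.PicMul.cl_eq_iff.1 (by
      rw [H23.PicMul.cl_tensor, mul_comm, ← H23.PicMul.cl_tensor]
      exact H23.PicMul.cl_eq_iff.2 ⟨eA₀⟩)
    haveI := hφ
    obtain ⟨τ, hτ⟩ := BigMono.exists_section_of_mono hA.1 (InvX.isInvertible_tensorPow hL ν) eA φ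
    obtain ⟨D, N, hD⟩ := VolLib.exists_lower_bound (k := k) hA eA hL hn hν hτ
    refine ⟨N + 1, D + 1, Nat.succ_pos _, Nat.succ_pos _, fun μ hμ => ?_⟩
    calc μ ^ n ≤ ((N + 1) * μ) ^ n := Nat.pow_le_pow_left (Nat.le_mul_of_pos_left _ (Nat.succ_pos _)) _
      _ ≤ D * Module.finrank k (Coh.HH X (CohB1.tensorPow L ((N + 1) * μ)) 0) :=
          hD _ ((Nat.le_succ N).trans (Nat.le_mul_of_pos_right _ hμ))
      _ ≤ _ := Nat.mul_le_mul_right _ (Nat.le_succ D)

end Groth.Agent.S16901
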