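import Groth.Statements.S16903
import Groth.Agent.BigMono.NumDim
import Groth.Agent.IntSym.Bridge
import Groth.Agent.GrpSchLib.SmoothReduced

set_option autoImplicit false
universe u
open CategoryTheory CategoryTheory.Limits AlgebraicGeometry
open Vanish

namespace Groth.Agent.S16903

open Groth.Agent

/-- Let k be an algebraically closed field of characteristic zero and X an irreducible proper smooth
k-scheme of dimension n with an ample invertible O_X-module (a projective manifold); let L be a
numerically effective invertible O_X-module with tensor inverse L⁻¹ and m a natural number such that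
c_1(L)^m is numerically trivial, i.e. the intersection number (L^m · V) = ∫ c_1(L)^m [O_V] vanishes
for every integral closed subscheme V ⊆ X of dimension m. Then κ(L) < m, in the growth form: there
are no ν > 0 and a > 0 with μ^m ≤ a · dim_k H^0(X, L^⊗νμ) for all μ ≥ 1. (This expresses ν(L) ≥
κ(L); only the characteristic-zero case is stated.) -/
theorem result (k : Type u) [Field k] [IsAlgClosed k] [CharZero k]
    (X : Scheme.{u}) [X.Over (Spec (CommRingCat.of k))] [IsProper (X ↘ Spec (CommRingCat.of k))]
    [Smooth (X ↘ Spec (CommRingCat.of k))] [IrreducibleSpace X] (n : ℕ) (hn : topologicalKrullDim X = n)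
    (H : X.Modules) (hH : CohB1.IsAmple H) (L Linv : X.Modules) (hL : PicF.IsInvertible L) (hLinv : ClSub.IsInverseOf Linv L)
    (hnef : (∀ (Y : Scheme.{u}) (i : Y ⟶ X) [IsClosedImmersion i], IsIntegral Y → topologicalKrullDim Y = 1 →
      0 ≤ Pic13.curveDeg k (i ≫ (X ↘ Spec (CommRingCat.of k))) ((Scheme.Modules.pullback i).obj L)))
    (m : ℕ) (hm : (∀ (V : Scheme.{u}) (i : V ⟶ X) [IsClosedImmersion i], IsIntegral V → topologicalKrullDim V = (m : ℕ) →
      FGA.intNum k X n (fun _ : Fin m => Linv) ((Scheme.Modules.pushforward i).obj (Coh.structureModule V)) = 0)) :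
    ¬ (∃ ν a : ℕ, 0 < ν ∧ 0 < a ∧ ∀ μ : ℕ, 1 ≤ μ →
        μ ^ m ≤ a * Module.finrank k (Coh.HH X (CohB1.tensorPow L (ν * μ)) 0)) := by
  haveI : IsReduced X := GrpSchLib.isReduced_of_smooth_field (X ↘ Spec (CommRingCat.of k))
  haveI : IsIntegral X := isIntegral_of_irreducibleSpace_of_isReduced X
  haveI := CurveCohLib.isNoetherian_of_proper (k := k) (X := X)
  have hn' : BigMono.NefC k L := fun Z i _ _ hZ => by
    rw [← IntSym.curveDeg_eq k i hZ hL]
    exact hnef Z i inferInstance hZ
  have h0 : ∀ (W : Scheme.{u}) (i : W ⟶ X) [IsClosedImmersion i] [IsIntegral W],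
      topologicalKrullDim W = (m : WithBot ℕ∞) →
        IntSym.sym k (List.replicate m L) ((Coh.push i).obj (Coh.structureModule W)) = 0 := fun W i _ _ hW => by
    rw [← BigMono.intNum_push_inverse k hL hLinv hn.le i hW]
    exact hm W i inferInstance hW
  rintro ⟨ν, a, hν, ha, h⟩
  refine BigMono.not_growth_of_bd (BigMono.bd_numTriv k m n X hn H hH L hL hn' h0) ⟨ν, a, hν, ha, fun μ hμ => ?_⟩
  refine (h μ hμ).trans_eq (congrArg (a * ·) ?_)
  exact (HilbPoly.finrank_HH_iso k (NakaiMo.pw_structure L (ν * μ)).some 0).symm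

end Groth.Agent.S16903
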