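import Groth.Statements.S16904
import Groth.Agent.BigMono.NumDim
import Groth.Agent.BigMono.Semiample
import Groth.Agent.GrpSchLib.SmoothReduced

set_option autoImplicit false
universe u
open CategoryTheory CategoryTheory.Limits AlgebraicGeometry
open Vanish

namespace Groth.Agent.S16904

open Groth.Agent

/-- Let k be an algebraically closed field of characteristic zero and X an irreducible proper smooth
k-scheme of dimension n with an ample invertible O_X-module (a projective manifold); let L be a
semi-ample invertible O_X-module (some L^⊗μ with μ > 0 is globally generated; such L is numerically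
effective) with tensor inverse L⁻¹. Then for every natural number m, c_1(L)^m is numerically trivial
— (L^m · V) = 0 for every integral closed subscheme V ⊆ X of dimension m — if and only if κ(L) < m
in the growth form: there are no ν > 0 and a > 0 with μ^m ≤ a · dim_k H^0(X, L^⊗νμ) for all μ ≥ 1.
(This expresses ν(L) = κ(L) for semi-ample L; characteristic zero only.) -/
theorem result (k : Type u) [Field k] [IsAlgClosed k] [CharZero k]
    (X : Scheme.{u}) [X.Over (Spec (CommRingCat.of k))] [IsProper (X ↘ Spec (CommRingCat.of k))]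
    [Smooth (X ↘ Spec (CommRingCat.of k))] [IrreducibleSpace X] (n : ℕ) (hn : topologicalKrullDim X = n)
    (H : X.Modules) (hH : CohB1.IsAmple H) (L Linv : X.Modules) (hL : PicF.IsInvertible L) (hLinv : ClSub.IsInverseOf Linv L)
    (hsa : ∃ μ : ℕ, 0 < μ ∧ Curv2.IsGloballyGenerated (CohB1.tensorPow L μ))
    (m : ℕ) :
    (∀ (V : Scheme.{u}) (i : V ⟶ X) [IsClosedImmersion i], IsIntegral V → topologicalKrullDim V = (m : ℕ) →
      FGA.intNum k X n (fun _ : Fin m => Linv) ((Scheme.Modules.pushforward i).obj (Coh.structureModule V)) = 0) ↔ ¬ (∃ ν a : ℕ, 0 < ν ∧ 0 < a ∧ ∀ μ : ℕ, 1 ≤ μ →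
        μ ^ m ≤ a * Module.finrank k (Coh.HH X (CohB1.tensorPow L (ν * μ)) 0)) := by
  haveI : IsReduced X := GrpSchLib.isReduced_of_smooth_field (X ↘ Spec (CommRingCat.of k))
  haveI : IsIntegral X := isIntegral_of_irreducibleSpace_of_isReduced X
  haveI := CurveCohLib.isNoetherian_of_proper (k := k) (X := X)
  obtain ⟨p, hp, hgg⟩ := hsa
  constructor
  · intro hm
    have h0 : ∀ (W : Scheme.{u}) (i : W ⟶ X) [IsClosedImmersion i] [IsIntegral W],
        topologicalKrullDim W = (m : WithBot ℕ∞) →
          IntSym.sym k (List.replicate m L) ((Coh.push i).obj (Coh.structureModule W)) = 0 := fun W i _ _ hW => by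
      rw [← BigMono.intNum_push_inverse k hL hLinv hn.le i hW]
      exact hm W i inferInstance hW
    rintro ⟨ν, a, hν, ha, h⟩
    refine BigMono.not_growth_of_bd
      (BigMono.bd_numTriv k m n X hn H hH L hL (BigMono.nefC_of_semiample k hL hp hgg) h0)
      ⟨ν, a, hν, ha, fun μ hμ => ?_⟩
    exact (h μ hμ).trans_eq
      (congrArg (a * ·) (HilbPoly.finrank_HH_iso k (NakaiMo.pw_structure L (ν * μ)).some 0).symm)
  · intro hng V i _ hV hdim
    haveI := hV
    change FGA.intNum k X n (fun _ : Fin m => Linv) ((Coh.push i).obj (Coh.structureModule V)) = 0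
    rw [BigMono.intNum_push_inverse k hL hLinv hn.le i hdim]
    by_contra hne
    exact hng (BigMono.growth_of_semiample k hL hp hgg (QCoh.isCoh_push_structure i)
      ((BigMono.dim_support_push k i).trans hdim).le hne)

end Groth.Agent.S16904
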