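import Groth.Statements.S1691
import Groth.Agent.RefX2.Extension

set_option autoImplicit false
universe u
open CategoryTheory CategoryTheory.Limits AlgebraicGeometry TopologicalSpace
open SDiv

namespace Groth.Agent.S1691

/-- Let X be an integral locally Noetherian scheme and j : U ⟶ X an open subscheme such that the local
ring of X at every point outside U has depth at least 2. Then (a) for every coherent reflexive
module F on X the canonical map F ⟶ j_* j^* F is an isomorphism, and (b) for every coherent
reflexive module G on U the direct image j_* G is coherent and reflexive (so that j^* and j_* are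
mutually inverse equivalences). -/
theorem result (X : Scheme.{u}) [IsIntegral X] [IsLocallyNoetherian X] (U : X.Opens)
    (hU : ∀ x : ↥X, x ∉ U → (2 : ℕ∞) ≤ LocCoh.depth (X.presheaf.stalk x) (X.presheaf.stalk x)) :
    (∀ F : X.Modules, Coh.IsCoh F → (∀ x : ↥X, Module.IsReflexive (X.presheaf.stalk x) (F.presheaf.stalk x)) →
        IsIso ((Scheme.Modules.restrictAdjunction U.ι).unit.app F)) ∧
      (∀ G : (U : Scheme.{u}).Modules, Coh.IsCoh G → (∀ x : ↥(U : Scheme.{u}), Module.IsReflexive ((U : Scheme.{u}).presheaf.stalk x) (G.presheaf.stalk x)) →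
        Coh.IsCoh ((Scheme.Modules.pushforward U.ι).obj G) ∧
          (∀ x : ↥X, Module.IsReflexive (X.presheaf.stalk x) (((Scheme.Modules.pushforward U.ι).obj G).presheaf.stalk x))) := by
  refine ⟨fun F hF hr => RefX.isIso_unit_of_extendsAcross (RefX.extendsAcross_reflexive hF ((RefX.isReflexive_iff hF).2 hr) hU),
    fun G hG hr => ?_⟩
  obtain ⟨F, hF, hFr, ⟨e⟩⟩ := RefX2.exists_reflexive_extension U hU hG hr
  refine ⟨SheafHomX.isCoh_of_iso e.symm hF, fun x => ?_⟩
  haveI : Module.IsReflexive _ (F.presheaf.stalk x) := (RefX.isReflexive_iff hF).1 hFr x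
  exact Module.equiv (LinearEquiv.ofBijective (RefHull.stalkMapₗ e.symm.hom x) (RefX2.stalkMap_iso_bijective e.symm x))

end Groth.Agent.S1691
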