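import Groth.Statements.S16919
import Mathlib.FieldTheory.IsAlgClosed.Classification
import Mathlib.RingTheory.AlgebraicIndependent.TranscendenceBasis
import Mathlib.RingTheory.Algebraic.Integral
import Mathlib.RingTheory.FiniteStability

set_option autoImplicit false
universe u
open TensorProduct
open CAlg

namespace Groth.Agent.S16919

theorem main (k₀ R₀ k AC : Type u) [Field k₀] [CommRing R₀] [Algebra k₀ R₀] [Algebra.FiniteType k₀ R₀]
    [Field k] [Algebra k₀ k] [IsAlgClosed k] [Field AC] [Algebra k₀ AC] [IsAlgClosed AC]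
    (a : R₀ →ₐ[k₀] k) (ha : Function.Injective a) (b : R₀ →ₐ[k₀] AC) (hb : Function.Injective b)
    (hκ : Cardinal.aleph0 ≤ Algebra.trdeg k₀ k) (hAC : Algebra.trdeg k₀ AC = Algebra.trdeg k₀ k) :
    ∃ e : AC ≃+* k, ∀ r : R₀, e (b r) = a r := by
  classical
  letI : Algebra R₀ k := a.toRingHom.toAlgebra
  letI : Algebra R₀ AC := b.toRingHom.toAlgebra
  haveI : IsScalarTower k₀ R₀ k := IsScalarTower.of_algebraMap_eq fun c => (a.commutes c).symm
  haveI : IsScalarTower k₀ R₀ AC := IsScalarTower.of_algebraMap_eq fun c => (b.commutes c).symm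
  haveI : FaithfulSMul R₀ k := (faithfulSMul_iff_algebraMap_injective _ _).2 ha
  haveI : FaithfulSMul R₀ AC := (faithfulSMul_iff_algebraMap_injective _ _).2 hb
  haveI : IsDomain R₀ := Function.Injective.isDomain a.toRingHom ha
  haveI : FaithfulSMul k₀ R₀ := (faithfulSMul_iff_algebraMap_injective _ _).2 (algebraMap k₀ R₀).injective
  have hd : Algebra.trdeg k₀ R₀ < Cardinal.aleph0 := trdeg_lt_aleph0_of_finiteType
  have h1 : Algebra.trdeg R₀ k = Algebra.trdeg k₀ k :=
    Cardinal.eq_of_add_eq_of_aleph0_le (trdeg_add_eq k₀ R₀ (A := k)) (hd.trans_le hκ) hκ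
  have h2 : Algebra.trdeg R₀ AC = Algebra.trdeg k₀ k :=
    Cardinal.eq_of_add_eq_of_aleph0_le ((trdeg_add_eq k₀ R₀ (A := AC)).trans hAC) (hd.trans_le hκ) hκ
  obtain ⟨s, hs⟩ := exists_isTranscendenceBasis R₀ AC
  obtain ⟨t, ht⟩ := exists_isTranscendenceBasis R₀ k
  obtain ⟨ee⟩ : Nonempty (s ≃ t) := Cardinal.eq.1 (by rw [hs.cardinalMk_eq_trdeg, ht.cardinalMk_eq_trdeg, h1, h2])
  let S := Algebra.adjoin R₀ (Set.range (Subtype.val : s → AC))
  let S' := Algebra.adjoin R₀ (Set.range (Subtype.val : t → k))
  let e0 : S ≃ₐ[R₀] S' := hs.1.aevalEquiv.symm.trans ((MvPolynomial.renameEquiv R₀ ee).trans ht.1.aevalEquiv)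
  haveI := IsAlgClosed.isAlgClosure_of_transcendence_basis _ hs
  haveI := IsAlgClosed.isAlgClosure_of_transcendence_basis _ ht
  refine ⟨IsAlgClosure.equivOfEquiv AC k e0.toRingEquiv, fun r => ?_⟩
  have h3 := IsAlgClosure.equivOfEquiv_algebraMap AC k e0.toRingEquiv (algebraMap R₀ S r)
  rw [show e0.toRingEquiv (algebraMap R₀ S r) = algebraMap R₀ S' r from e0.commutes r] at h3
  exact h3

/-- Let k₀ → k be an extension of fields with k algebraically closed and of infinite transcendence
degree over k₀, R₀ a finitely generated k₀-algebra whose base change R = k ⊗ R₀ is an integral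
domain (so Spec R is an integral affine k-scheme of finite type with the model Spec R₀ over k₀), and
P a k-point of Spec R, i.e. a k-algebra homomorphism ev : R → k, lying over the generic point of
Spec R₀, i.e. with ev injective on R₀. Then there is a field isomorphism e from an algebraic closure
of the fraction field of R (the function field of Spec R) onto k such that e(1 ⊗ r) = ev(1 ⊗ r) for
every r in R₀: e extends evaluation at P on R₀. (The published setting has k algebraically closed of
characteristic zero and of infinite transcendence degree over its prime field, and k₀ the subfield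
generated by the coefficients of equations of Spec R, which is finitely generated over the prime
field, so that k has infinite transcendence degree over k₀; only this last property and no
characteristic assumption enter here. The isomorphism is not canonical.) -/
theorem result (k₀ k : Type u)
    [Field k₀] [Field k] [Algebra k₀ k] [IsAlgClosed k] (hinf : ∃ x : ℕ → k, AlgebraicIndependent k₀ x)
    (R₀ : Type u) [CommRing R₀] [Algebra k₀ R₀] [Algebra.FiniteType k₀ R₀] [IsDomain (k ⊗[k₀] R₀)]
    (ev : k ⊗[k₀] R₀ →ₐ[k] k) (hP : Function.Injective fun r : R₀ => ev (1 ⊗ₜ[k₀] r)) :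
    ∃ e : AlgebraicClosure (FractionRing (k ⊗[k₀] R₀)) ≃+* k,
      ∀ r : R₀, e (algebraMap (k ⊗[k₀] R₀) (AlgebraicClosure (FractionRing (k ⊗[k₀] R₀)))
        (1 ⊗ₜ[k₀] r)) = ev (1 ⊗ₜ[k₀] r) := by
  classical
  let T := k ⊗[k₀] R₀
  let F := FractionRing T
  let AC := AlgebraicClosure F
  let jT : R₀ →ₐ[k₀] T := Algebra.TensorProduct.includeRight
  let evR : R₀ →ₐ[k₀] k := (ev.restrictScalars k₀).comp jT
  have hTAC : Function.Injective (algebraMap T AC) := by
    rw [IsScalarTower.algebraMap_eq T F AC]
    exact (algebraMap F AC).injective.comp (IsFractionRing.injective T F)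
  haveI : FaithfulSMul k T := (faithfulSMul_iff_algebraMap_injective _ _).2 (algebraMap k T).injective
  haveI : FaithfulSMul T AC := (faithfulSMul_iff_algebraMap_injective _ _).2 hTAC
  haveI : Algebra.IsAlgebraic T F := IsLocalization.isAlgebraic F (nonZeroDivisors T)
  haveI : Algebra.IsAlgebraic T AC := Algebra.IsAlgebraic.trans T F AC
  let j : R₀ →ₐ[k₀] AC := ((IsScalarTower.toAlgHom k T AC).restrictScalars k₀).comp jT
  obtain ⟨x, hx⟩ := hinf
  have hκ : Cardinal.aleph0 ≤ Algebra.trdeg k₀ k := by
    have h1 := hx.lift_cardinalMk_le_trdeg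
    rwa [Cardinal.mk_nat, Cardinal.lift_aleph0, Cardinal.lift_id'.{0, u}] at h1
  have hd' : Algebra.trdeg k T < Cardinal.aleph0 := trdeg_lt_aleph0_of_finiteType
  have hAC : Algebra.trdeg k₀ AC = Algebra.trdeg k₀ k := by
    rw [← trdeg_add_eq k₀ k (A := AC), ← trdeg_add_eq k T (A := AC), trdeg_eq_zero (R := T) (A := AC), add_zero]
    exact Cardinal.add_eq_left hκ (hd'.le.trans hκ)
  exact main k₀ R₀ k AC evR hP j (fun a b h => hP (congrArg ev (hTAC h))) hκ hAC

end Groth.Agent.S16919
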