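import Groth.Statements.S16948
import Groth.Agent.CohPullLib.BCComp

set_option autoImplicit false
set_option backward.isDefEq.respectTransparency false
set_option backward.isDefEq.respectTransparency.types false
universe u
open Coherent

namespace Groth.Agent.S16948

open AlgebraicGeometry CategoryTheory Scheme.Modules in
/-- Take two cartesian squares of schemes side by side, f : X → Y over φ : U → V (vertical maps ξ : X →
U and η : Y → V, f ≫ η = ξ ≫ φ) and g : Y → Z over ψ : V → W (vertical map ζ : Z → W, g ≫ ζ = η ≫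
ψ), a quasi-coherent O_Z-module L and a natural number p. Write β for the degree-p base change maps
of higher direct images (R^p the p-th right derived functor of direct image on O-modules; the maps
are the pinned ones of the structure GenBC relative to pinned comparison data for ζ, η and ξ): B₂
for the right square, B₁ for the left square, B for the outer square. Then the composite of the
composition isomorphism φ^* ψ^* R^p ζ_* L ≅ (φ ≫ ψ)^* R^p ζ_* L with β_B(L) equals φ^* β_{B₂}(L)
followed by β_{B₁}(g^* L) followed by R^p ξ_* of the composition isomorphism f^* g^* L ≅ (f ≫ g)^*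
L. The source states this for arbitrary ζ and η; its verification evaluates both sides on sections
of R^p ζ_* L and R^p η_*(g^* L) over affine opens, identified with cohomology classes over their
preimages, and that identification is the one available for ζ and η quasi-compact and
quasi-separated, which are therefore assumed here. -/
theorem result
    {X Y Z U V W : Scheme.{u}} (f : X ⟶ Y) (g : Y ⟶ Z) (ξ : X ⟶ U) (η : Y ⟶ V) (ζ : Z ⟶ W)
    (φ : U ⟶ V) (ψ : V ⟶ W) (h₁ : IsPullback f ξ η φ) (h₂ : IsPullback g η ζ ψ)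
    (hw : (f ≫ g) ≫ ζ = ξ ≫ (φ ≫ ψ))
    [QuasiCompact ζ] [QuasiSeparated ζ] [QuasiCompact η] [QuasiSeparated η]
    [HasInjectiveResolutions X.Modules] [HasInjectiveResolutions Y.Modules] [HasInjectiveResolutions Z.Modules]
    (L : Z.Modules) [Coh.IsQCoh L] (p : ℕ)
    {Δζ : RDer.DerivedLES (pushforward ζ)} {Δη : RDer.DerivedLES (pushforward η)} {Δξ : RDer.DerivedLES (pushforward ξ)}
    (Eζ : CohCmp.SectCmp ζ Δζ) (Eη : CohCmp.SectCmp η Δη) (Eξ : CohCmp.SectCmp ξ Δξ)
    (B₂ : CohCmp.GenBC ζ ψ η g h₂.w Eζ Eη) (B₁ : CohCmp.GenBC η φ ξ f h₁.w Eη Eξ)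
    (B : CohCmp.GenBC ζ (φ ≫ ψ) ξ (f ≫ g) hw Eζ Eξ) :
    (pullbackComp φ ψ).hom.app ((Coh.Rpush ζ p).obj L) ≫ B.bc p L =
      (pullback φ).map (B₂.bc p L) ≫ B₁.bc p ((pullback g).obj L) ≫
        (Coh.Rpush ξ p).map ((pullbackComp f g).hom.app L) := by
  open Groth.Agent.CohPullLib Groth.Agent.ExistEasy Groth.Agent.QCoh in
  refine pullback₂_hom_ext φ ψ _ _ fun O t => ?_
  open Groth.Agent.CohPullLib Groth.Agent.ExistEasy Groth.Agent.QCoh in
  let O' := φ ⁻¹ᵁ (ψ ⁻¹ᵁ O)
  let R := (Coh.Rpush ξ p).map ((pullbackComp f g).hom.app L)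
  have key : B₂.φ p L ≫ (pushforward ψ).map (B₁.φ p ((pullback g).obj L) ≫ (pushforward φ).map R) =
      (show (Coh.Rpush ζ p).obj L ⟶ (pushforward ψ).obj ((pushforward φ).obj ((Coh.Rpush ξ p).obj ((pullback (f ≫ g)).obj L))) from B.φ p L) := by
    open Groth.Agent.CohPullLib in
    refine Rpush_hom_ext Eζ _ _ fun W x => ?_
    show R.app (φ ⁻¹ᵁ (ψ ⁻¹ᵁ W)) ((B₁.φ p ((pullback g).obj L)).app (ψ ⁻¹ᵁ W) ((B₂.φ p L).app W (Eζ.ε W L p x))) =
      (B.φ p L).app W (Eζ.ε W L p x)
    rw [B₂.compat, B₁.compat]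
    refine Eq.trans ?_ (B.compat W L p x).symm
    refine (Eξ.natural (φ ⁻¹ᵁ (ψ ⁻¹ᵁ W)) ((pullbackComp f g).hom.app L) p _).symm.trans ?_
    exact congrArg (Eξ.ε _ _ p) (Groth.Agent.CohPullLib.mapH_pullOn_pullOn f g L _ _ _ _ _ _ p x)
  have hL : (B.bc p L).app O' (((pullbackComp φ ψ).hom.app ((Coh.Rpush ζ p).obj L)).app O'
      (Groth.Agent.QCoh.pullSec φ _ le_rfl (Groth.Agent.QCoh.pullSec ψ _ le_rfl t))) = (B.φ p L).app O t := by
    rw [Groth.Agent.ExistEasy.pullSec_comp φ ψ]
    exact Groth.Agent.CohPullLib.bc_app_pullSec B p L O t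
  have hR : R.app O' ((B₁.bc p ((pullback g).obj L)).app O' (((pullback φ).map (B₂.bc p L)).app O'
      (Groth.Agent.QCoh.pullSec φ _ le_rfl (Groth.Agent.QCoh.pullSec ψ _ le_rfl t)))) =
      R.app O' ((B₁.φ p ((pullback g).obj L)).app (ψ ⁻¹ᵁ O) ((B₂.φ p L).app O t)) := by
    rw [Groth.Agent.ExistEasy.pullSec_natural, Groth.Agent.CohPullLib.bc_app_pullSec B₂,
      Groth.Agent.CohPullLib.bc_app_pullSec B₁]
  exact hL.trans ((congrArg (fun a => Scheme.Modules.Hom.app a O t) key).symm.trans hR.symm)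

end Groth.Agent.S16948
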