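import Groth.Statements.S16951
import Groth.Agent.RelCurveCoh.Basic
import Groth.Agent.H23.SeesawGlobal
import Groth.Agent.H23.RigidGamma
import Groth.Agent.H23.PullPush
import Groth.Agent.S16759

noncomputable section

set_option autoImplicit false
universe u
open PicF

namespace Groth.Agent.S16951

set_option maxHeartbeats 1000000
set_option maxRecDepth 4000
set_option backward.isDefEq.respectTransparency false
set_option backward.isDefEq.respectTransparency.types false
set_option linter.style.haveILetI false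

section Aux

open AlgebraicGeometry CategoryTheory CategoryTheory.Limits Opposite Groth.Agent InvX H23 H23.TrivBasic
open scoped Groth.Agent.H23.PicMul
open TopologicalSpace

/-- Nonzero sections of a module and of its inverse on an integral scheme whose functions form a field. -/
theorem triv_of_sections {Z : Scheme.{u}} [IsIntegral Z] (hΓ : IsField Γ(Z, ⊤)) {P Q : Z.Modules}
    (hP : PicF.IsInvertible P) (hQ : PicF.IsInvertible Q) (ψ : CohB1.tensorMod P Q ≅ Coh.structureModule Z)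
    {s : Γ(P, ⊤)} (hs : s ≠ 0) {t : Γ(Q, ⊤)} (ht : t ≠ 0) : Triv P := by
  have hne : locus s ⊓ locus t ≠ ⊥ := by
    intro h
    obtain ⟨z, hz⟩ := Opens.ne_bot_iff_nonempty _ |>.1 (locus_ne_bot hP hs)
    obtain ⟨z', hz'⟩ := Opens.ne_bot_iff_nonempty _ |>.1 (locus_ne_bot hQ ht)
    obtain ⟨w, hw⟩ := nonempty_preirreducible_inter (locus s).isOpen (locus t).isOpen ⟨z, hz⟩ ⟨z', hz'⟩
    exact (Opens.ne_bot_iff_nonempty _).2 ⟨w, hw⟩ h
  let m := mulHom (ofSect s) (ofSect t)
  have hloc : locus (one m) = locus s ⊓ locus t := by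
    refine Eq.trans ?_ (genLocus_mulHom hP hQ (ofSect s) (ofSect t))
    show CohB1.genLocus _ (ofSect (one m)) = CohB1.genLocus _ m
    congr 1
    show ofSect (one (ofSect _)) = ofSect _
    rw [one_ofSect]
  have hm : one m ≠ 0 := by
    intro h
    refine hne (hloc.symm.trans ?_)
    refine bot_unique fun z hz => ?_
    obtain ⟨U, hzU, hU⟩ := mem_locus_iff.1 hz
    rw [h, map_zero] at hU
    have h01 := hU.coord_unique le_rfl (r := (0 : Γ(Z, U))) (r' := 1) (by simp)
    have : U = ⊥ := by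
      rw [← Z.basicOpen_of_isUnit (isUnit_one : IsUnit (1 : Γ(Z, U))), ← h01, Scheme.basicOpen_zero]
    exact this ▸ hzU
  have hframe : IsFrame (one m) := isFrame_of_ne_zero ⟨ψ⟩ hΓ hm
  have htop : locus s ⊓ locus t = ⊤ := hloc.symm.trans (locus_eq_top_iff.2 hframe)
  exact triv_of_frame (locus_eq_top_iff.1 (top_le_iff.1 (htop.ge.trans inf_le_left)))

theorem eq_of_tensor {Z : Scheme.{u}} {L M D : Z.Modules} (hM : Nonempty (CohB1.tensorMod L M ≅ Coh.structureModule Z))
    (hD : Nonempty (CohB1.tensorMod L D ≅ Coh.structureModule Z)) : Nonempty (M ≅ D) := by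
  have h1 : PicF.cl L * PicF.cl M = 1 := (H23.PicMul.cl_tensor L M).symm.trans (H23.PicMul.cl_eq_iff.2 hM)
  have h2 : PicF.cl L * PicF.cl D = 1 := (H23.PicMul.cl_tensor L D).symm.trans (H23.PicMul.cl_eq_iff.2 hD)
  refine H23.PicMul.cl_eq_iff.1 ?_
  calc PicF.cl M = (PicF.cl L * PicF.cl D) * PicF.cl M := by rw [h2, one_mul]
    _ = PicF.cl D * (PicF.cl L * PicF.cl M) := by rw [mul_comm (PicF.cl L) (PicF.cl D), mul_assoc]
    _ = PicF.cl D := by rw [h1, mul_one]

section

variable {X S : Scheme.{u}} (f : X ⟶ S)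

/-- Sections pulled back to the fibre. -/
theorem le_fibre {y : S} {V : S.Opens} (hy : y ∈ V) : (⊤ : (f.fiber y).Opens) ≤ f.fiberι y ⁻¹ᵁ (f ⁻¹ᵁ V) := by
  intro z _
  show f (f.fiberι y z) ∈ V
  have h : f (f.fiberι y z) = y := (Scheme.Hom.range_fiberι f y).le (Set.mem_range_self z)
  rwa [h]

theorem triv_fibre_of_frame {N : X.Modules} {y : S} {V : S.Opens} (hy : y ∈ V) {s : Γ(N, f ⁻¹ᵁ V)} (hs : IsFrame s) :
    Triv (CohIII.fiberMod f N y) :=
  triv_of_frame ((isFrame_pullElt (f.fiberι y) hs).res (le_fibre f hy))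

set_option linter.unusedSectionVars false

variable [IsProper f] [Flat f] [IsLocallyNoetherian S] [GeometricallyIntegral f]

theorem bijective_fibre (y : S) : Function.Bijective (f.fiberToSpecResidueField y).appTop :=
  Rigid.bijective_appTop (k := S.residueField y) (pullback.snd f (S.fromSpecResidueField y))

theorem isIntegral_fibre (y : S) : IsIntegral (f.fiber y) :=
  GeometricallyIntegral.isIntegral_of_subsingleton (pullback.snd f (S.fromSpecResidueField y))

theorem bijective_app (W : S.Opens) : Function.Bijective (f.app W) :=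
  S16759.bijective_app f (fun y => by
    have hb : Function.Bijective (Algebra.linearMap (S.residueField y) Γ(f.fiber y, ⊤)) :=
      (bijective_fibre f y).comp (ConcreteCategory.bijective_of_isIso (Scheme.ΓSpecIso (S.residueField y)).inv)
    rw [← (LinearEquiv.ofBijective _ hb).finrank_eq, Module.finrank_self]) W

theorem fiberRank_one {N : X.Modules} {y : S} (h : Triv (CohIII.fiberMod f N y)) :
    CohIII.fiberRank f N 0 y = 1 := by
  letI : (f.fiber y).Over (Spec (CommRingCat.of (S.residueField y))) := ⟨f.fiberToSpecResidueField y⟩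
  obtain ⟨φ⟩ := h
  refine Eq.trans (CurveCohLib.hhEquiv (k := S.residueField y) φ 0).finrank_eq ?_
  haveI := isIntegral_fibre f y
  obtain ⟨t, ht, htv⟩ := GenusOneX.exists_ne_zero_h0 (k := S.residueField y) (Coh.structureModule (f.fiber y))
    (show Γ(Coh.structureModule (f.fiber y), ⊤) from (1 : Γ(f.fiber y, ⊤))) (fun h1 => one_ne_zero (α := Γ(f.fiber y, ⊤)) h1)
  refine (finrank_eq_one_iff_of_nonzero' t ht).2 fun w => ?_
  obtain ⟨r, hr⟩ := (bijective_fibre f y).2
    (show Γ(f.fiber y, ⊤) from Sheaf.H.equiv₀ (Coh.toAb (Coh.structureModule (f.fiber y))) isTerminalTop w)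
  refine ⟨(Scheme.ΓSpecIso (S.residueField y)).hom r, (Sheaf.H.equiv₀ (Coh.toAb (Coh.structureModule (f.fiber y))) isTerminalTop).injective ?_⟩
  refine (CurveCohLib.h0Equiv_smul (k := S.residueField y) (X := f.fiber y) _ _ t).trans ?_
  rw [htv]
  refine Eq.trans ((_root_.mul_one (M := Γ(f.fiber y, ⊤)) _ :)) (Eq.trans ?_ hr)
  refine (ConcreteCategory.congr_hom ((f.fiber y).presheaf.map_id _) _).trans ?_
  exact congrArg (f.fiberToSpecResidueField y).appTop (Iso.hom_inv_id_apply (Scheme.ΓSpecIso (S.residueField y)) r)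

theorem nontrivial_fibre {N : X.Modules} {y : S} (h : Triv (CohIII.fiberMod f N y)) :
    Nontrivial (CohIII.fiberH f N y 0) :=
  Module.nontrivial_of_finrank_pos (R := S.residueField y) (lt_of_lt_of_eq Nat.one_pos (fiberRank_one f h).symm)

theorem exists_ne_zero {N : X.Modules} {y : S} (h : Nontrivial (CohIII.fiberH f N y 0)) :
    ∃ s : Γ(CohIII.fiberMod f N y, ⊤), s ≠ 0 :=
  haveI := h
  haveI : Nontrivial Γ(CohIII.fiberMod f N y, ⊤) :=
    (Sheaf.H.equiv₀ (Coh.toAb (CohIII.fiberMod f N y)) isTerminalTop).symm.toEquiv.nontrivial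
  _root_.exists_ne 0

theorem epi_bc0_of_frame {N : X.Modules} (hN : PicF.IsInvertible N) {y : S} {V : S.Opens} (hy : y ∈ V)
    {s : Γ(N, f ⁻¹ᵁ V)} (hs : IsFrame s) :
    Epi (CohBC.bc0 f (S.fromSpecResidueField y) (f.fiberToSpecResidueField y) (f.fiberι y) (f.fiber_fac y) N) := by
  have hq := ProjUPX.isQCoh_of_isInvertible hN
  have hfp : CohB1.IsFP N := QCoh.isFP_of_isFinLocFree fun x =>
    let ⟨U, hx, e⟩ := InvEnd.isFinLocFreeOfRank_one hN x
    ⟨U, 1, hx, e⟩
  haveI : LocallyOfFinitePresentation f := inferInstance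
  have hex : CohPullLib.ExchAt f N 0 y := by
    refine GenusOneX.exchAt_zero_of_surjective hq hfp (Seesaw.isFlatOver_of_isInvertible f hN) fun z => ?_
    have ht := (isFrame_pullElt (f.fiberι y) hs).res (le_fibre f hy)
    obtain ⟨r, hr⟩ := ht.exists_coord le_rfl (show Γ((Scheme.Modules.pullback (f.fiberι y)).obj N, ⊤) from z)
    obtain ⟨c, hc⟩ := (bijective_fibre f y).2 r
    refine ⟨c • QCoh.pullSec (S.fromSpecResidueField y) ((Scheme.Modules.pushforward f).obj N)
      (CohPullLib.top_le_preimage_residue hy) s, ?_⟩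
    rw [Scheme.Modules.Hom.app_smul, CohPullLib.bc0_app_pullSec (f.fiber_fac y) N (CohPullLib.top_le_preimage_residue hy)]
    refine Eq.trans ?_ hr.symm
    rw [AModX.res_self, ← hc]
    rfl
  haveI := CohPullLib.isIso_bc0_of_exchAt (f := f) (f' := f.fiberToSpecResidueField y) (g' := f.fiberι y)
    (g := S.fromSpecResidueField y) (IsPullback.of_hasPullback _ _) hq
    (fun z => by rwa [Scheme.fromSpecResidueField_apply])
  infer_instance

theorem exists_frame_of_epi {N : X.Modules} (hN : PicF.IsInvertible N) {y : S} (hT : Triv (CohIII.fiberMod f N y))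
    (h : Epi (CohBC.bc0 f (S.fromSpecResidueField y) (f.fiberToSpecResidueField y) (f.fiberι y) (f.fiber_fac y) N)) :
    ∃ V : S.Opens, y ∈ V ∧ ∃ s : Γ(N, f ⁻¹ᵁ V), IsFrame s := by
  haveI := isIntegral_fibre f y
  have hF : IsField Γ(f.fiber y, ⊤) :=
    Seesaw.isField_Γ (K := S.residueField y) (f.fiberToSpecResidueField y) (bijective_fibre f y)
  let G := (Scheme.Modules.pullback (f.fiberι y)).obj N
  let g := S.fromSpecResidueField y
  let v := CohBC.bc0Adj f g (f.fiberToSpecResidueField y) (f.fiberι y) (f.fiber_fac y) N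
  obtain ⟨W, n, hn⟩ : ∃ (W : S.Opens) (n : Γ((Scheme.Modules.pushforward f).obj N, W)), v.app W n ≠ 0 := by
    by_contra H
    push Not at H
    have hv : v = 0 := Scheme.Modules.hom_ext v 0 fun W => by
      ext n
      exact H W n
    have hz : CohBC.bc0 f g (f.fiberToSpecResidueField y) (f.fiberι y) (f.fiber_fac y) N = 0 := by
      show ((Scheme.Modules.pullbackPushforwardAdjunction g).homEquiv _ _).symm v = 0
      rw [hv, Adjunction.homEquiv_counit, Functor.map_zero, zero_comp]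
    haveI := h
    have h0 := IsZero.of_epi_eq_zero _ hz
    obtain ⟨e, he⟩ := Triv.exists_frame hT
    have he0 : e = 0 := by
      have h1 := (IsZero.iff_id_eq_zero _).1 h0
      exact congrArg (fun φ : (Scheme.Modules.pushforward (f.fiberToSpecResidueField y)).obj G ⟶ _ => φ.app ⊤ e) h1
    have h01 := he.coord_unique le_rfl (r := (0 : Γ(f.fiber y, ⊤))) (r' := 1) (by simp [he0])
    haveI : Nontrivial Γ(f.fiber y, ⊤) := hF.nontrivial
    exact zero_ne_one h01
  have hnv : v.app W n = (show Γ((Scheme.Modules.pushforward (f.fiberToSpecResidueField y)).obj G, g ⁻¹ᵁ W) from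
      QCoh.pullSec (f.fiberι y) N (CohPullLib.sectLE (f.fiber_fac y) le_rfl) n) := by
    refine Eq.trans ?_ (CohPullLib.bc0_app_pullSec (f.fiber_fac y) N le_rfl n)
    refine Eq.trans ?_ (CohPullLib.adjunct_app_pullSec g v le_rfl n).symm
    exact (ConcreteCategory.congr_hom
      (((Scheme.Modules.pushforward (f.fiberToSpecResidueField y)).obj G).presheaf.map_id _) _).symm
  rw [hnv] at hn
  have hyW : y ∈ W := by
    by_contra hy
    have hbot : f.fiberToSpecResidueField y ⁻¹ᵁ (g ⁻¹ᵁ W) = ⊥ := bot_unique fun z hz => hy (by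
      have hz' : g (f.fiberToSpecResidueField y z) ∈ W := hz
      rwa [show g (f.fiberToSpecResidueField y z) = y from Scheme.fromSpecResidueField_apply _ _] at hz')
    refine hn (TopCat.Presheaf.section_ext ⟨G.presheaf, G.isSheaf⟩ _ _ _ fun z hz => ?_)
    have hz' : z ∈ (⊥ : (f.fiber y).Opens) := hbot ▸ hz
    exact hz'.elim
  have hle := le_fibre f hyW
  let t : Γ(G, ⊤) := AModX.res G hle (pullElt (f.fiberι y) (show Γ(N, f ⁻¹ᵁ W) from n))
  have ht : t ≠ 0 := fun h0 => by
    refine hn ?_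
    have h1 := congrArg (AModX.res G (le_top : f.fiberToSpecResidueField y ⁻¹ᵁ (g ⁻¹ᵁ W) ≤ ⊤)) h0
    rw [AModX.res_res, map_zero] at h1
    exact h1
  have htf : IsFrame t := TrivBasic.isFrame_of_ne_zero hT hF ht
  let B : Set X := {x | ∃ (U : X.Opens) (hU : U ≤ f ⁻¹ᵁ W), x ∈ U ∧ IsFrame (AModX.res N hU (show Γ(N, f ⁻¹ᵁ W) from n))}
  have hB : IsOpen B := isOpen_iff_forall_mem_open.2 fun x ⟨U, hU, hxU, hUf⟩ =>
    ⟨U, fun x' hx' => ⟨U, hU, hx', hUf⟩, U.isOpen, hxU⟩
  have hfib : ∀ x, f x = y → x ∈ B := by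
    intro x hx
    obtain ⟨z, rfl⟩ : x ∈ Set.range (f.fiberι y) := (Scheme.Hom.range_fiberι f y).symm ▸ hx
    obtain ⟨U₀, hxU₀, ε₀, hε₀⟩ := InvX.exists_frame hN (f.fiberι y z)
    let U := U₀ ⊓ f ⁻¹ᵁ W
    let ε := AModX.res N (inf_le_left : U ≤ U₀) ε₀
    have hε : IsFrame ε := hε₀.res _
    obtain ⟨a, ha⟩ := hε.exists_coord le_rfl (AModX.res N (inf_le_right : U ≤ f ⁻¹ᵁ W) (show Γ(N, f ⁻¹ᵁ W) from n))
    rw [AModX.res_self] at ha
    have h2 := htf.res (le_top : f.fiberι y ⁻¹ᵁ U ≤ ⊤)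
    have h3 : AModX.res G (le_top : f.fiberι y ⁻¹ᵁ U ≤ ⊤) t = (f.fiberι y).app U a • pullElt (f.fiberι y) ε := by
      refine (AModX.res_res _ _ _).trans ((res_pullElt (f.fiberι y) (inf_le_right : U ≤ f ⁻¹ᵁ W) _).trans ?_)
      rw [ha, pullElt_smul]
    rw [h3] at h2
    obtain ⟨r, hr⟩ := h2.exists_coord le_rfl (pullElt (f.fiberι y) ε)
    rw [AModX.res_self, smul_smul] at hr
    have hu : r * (f.fiberι y).app U a = 1 := (isFrame_pullElt (f.fiberι y) hε).coord_unique le_rfl (by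
      rw [AModX.res_self, one_smul, ← hr])
    have hz : z ∈ f.fiberι y ⁻¹ᵁ X.basicOpen a := by
      rw [Scheme.preimage_basicOpen, Scheme.basicOpen_of_isUnit _ (IsUnit.of_mul_eq_one r ((mul_comm _ _).trans hu))]
      exact ⟨hxU₀, (le_fibre f hyW trivial :)⟩
    refine ⟨X.basicOpen a, (X.basicOpen_le a).trans inf_le_right, hz, ?_⟩
    rw [← AModX.res_res (M := N) (inf_le_right : U ≤ f ⁻¹ᵁ W) (X.basicOpen_le a), ha, AModX.res_smul]
    exact (hε.res _).isUnit_smul (RingedSpace.isUnit_res_basicOpen _ a)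
  let C : Set S := f '' Bᶜ
  have hC : IsClosed C := (Scheme.Hom.isClosedMap f) _ hB.isClosed_compl
  let V : S.Opens := ⟨Cᶜ, hC.isOpen_compl⟩ ⊓ W
  refine ⟨V, ⟨fun ⟨x, hx, hxy⟩ => hx (hfib x hxy), hyW⟩,
    AModX.res N (f.preimage_mono inf_le_right) (show Γ(N, f ⁻¹ᵁ W) from n), isFrame_of_germwise fun x hx => ?_⟩
  obtain ⟨U, hU, hxU, hUf⟩ : x ∈ B := by
    by_contra hxB
    exact hx.1 ⟨x, hxB, rfl⟩
  refine ⟨U ⊓ f ⁻¹ᵁ V, inf_le_right, ⟨hxU, hx⟩, ?_⟩
  have h4 := hUf.res (inf_le_left : U ⊓ f ⁻¹ᵁ V ≤ U)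
  rw [AModX.res_res] at h4 ⊢
  exact h4

theorem exists_frame_of_pullback {N : X.Modules} {N₀ : S.Modules} (h₀ : PicF.IsInvertible N₀)
    (e : N ≅ (Scheme.Modules.pullback f).obj N₀) (y : S) :
    ∃ V : S.Opens, y ∈ V ∧ ∃ s : Γ(N, f ⁻¹ᵁ V), IsFrame s := by
  obtain ⟨V, hy, ε, hε⟩ := InvX.exists_frame h₀ y
  exact ⟨V, hy, _, (isFrame_pullElt f hε).map_iso e.symm⟩

end

end Aux

open Groth.Agent InvX H23 H23.TrivBasic AlgebraicGeometry CategoryTheory Opposite in
open scoped Groth.Agent.H23.PicMul in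
open AlgebraicGeometry CategoryTheory Scheme.Modules in
/-- Let f : X → S be a proper flat morphism of locally Noetherian schemes whose fibres are geometrically
integral, and let L be an invertible O_X-module with an inverse M (an isomorphism L ⊗ M ≅ O_X). Then
the following are equivalent: (a) L ≅ f^* L₀ for some invertible O_S-module L₀; (b) for N = L and
for N = M, at every point s of S the space H^0(X_s, N|_{X_s}) of sections over the scheme-theoretic
fibre is nonzero and the degree-0 base change map of the fibre square, κ(s)^* f_* N → (X_s → Spec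
κ(s))_* (N|_{X_s}), is an epimorphism. When this holds, dim_{κ(s)} H^0(X_s, N|_{X_s}) = 1 for every
s and both N, the counit f^* f_* L → L is an isomorphism, and any invertible L₀ with L ≅ f^* L₀ is
isomorphic to f_* L. -/
theorem result
    {X S : Scheme.{u}} (f : X ⟶ S) [IsProper f] [Flat f] [IsLocallyNoetherian X] [IsLocallyNoetherian S]
    [GeometricallyIntegral f] (L M : X.Modules) (hL : PicF.IsInvertible L)
    (hM : Nonempty (CohB1.tensorMod L M ≅ Coh.structureModule X)) :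
    ((∃ L₀ : S.Modules, PicF.IsInvertible L₀ ∧ Nonempty (L ≅ (pullback f).obj L₀)) ↔
      ((∀ s : S, Nontrivial (CohIII.fiberH f L s 0)) ∧ (∀ s : S, Nontrivial (CohIII.fiberH f M s 0)) ∧
        (∀ s : S, Epi (CohBC.bc0 f (S.fromSpecResidueField s) (f.fiberToSpecResidueField s) (f.fiberι s) (f.fiber_fac s) L)) ∧ (∀ s : S, Epi (CohBC.bc0 f (S.fromSpecResidueField s) (f.fiberToSpecResidueField s) (f.fiberι s) (f.fiber_fac s) M)))) ∧
    (((∀ s : S, Nontrivial (CohIII.fiberH f L s 0)) ∧ (∀ s : S, Nontrivial (CohIII.fiberH f M s 0)) ∧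
        (∀ s : S, Epi (CohBC.bc0 f (S.fromSpecResidueField s) (f.fiberToSpecResidueField s) (f.fiberι s) (f.fiber_fac s) L)) ∧ (∀ s : S, Epi (CohBC.bc0 f (S.fromSpecResidueField s) (f.fiberToSpecResidueField s) (f.fiberι s) (f.fiber_fac s) M))) →
      (∀ s : S, CohIII.fiberRank f L 0 s = 1 ∧ CohIII.fiberRank f M 0 s = 1) ∧
      IsIso ((pullbackPushforwardAdjunction f).counit.app L) ∧
      ∀ L₀ : S.Modules, PicF.IsInvertible L₀ → Nonempty (L ≅ (pullback f).obj L₀) →
        Nonempty (L₀ ≅ (pushforward f).obj L)) := by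
  obtain ⟨M', hM', eM'⟩ := PicInv.exists_inverse hL
  obtain ⟨eMD⟩ := eq_of_tensor hM eM'
  have hMi : PicF.IsInvertible M := fun x => by
    obtain ⟨U, hx, ⟨φ⟩⟩ := hM' x
    exact ⟨U, hx, ⟨(Scheme.Modules.restrictFunctor U.ι).mapIso eMD ≪≫ φ⟩⟩
  have hf := bijective_app f
  have main : ((∀ s : S, Nontrivial (CohIII.fiberH f L s 0)) ∧ (∀ s : S, Nontrivial (CohIII.fiberH f M s 0)) ∧
      (∀ s : S, Epi (CohBC.bc0 f (S.fromSpecResidueField s) (f.fiberToSpecResidueField s) (f.fiberι s) (f.fiber_fac s) L)) ∧ (∀ s : S, Epi (CohBC.bc0 f (S.fromSpecResidueField s) (f.fiberToSpecResidueField s) (f.fiberι s) (f.fiber_fac s) M))) →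
      (∀ s : S, Triv (CohIII.fiberMod f L s) ∧ Triv (CohIII.fiberMod f M s)) ∧
      PicF.IsInvertible ((pushforward f).obj L) ∧ IsIso ((pullbackPushforwardAdjunction f).counit.app L) := by
    rintro ⟨h1, h2, h3, -⟩
    have hT : ∀ s : S, Triv (CohIII.fiberMod f L s) ∧ Triv (CohIII.fiberMod f M s) := fun y => by
      haveI := isIntegral_fibre f y
      have hF : IsField Γ(f.fiber y, ⊤) :=
        Seesaw.isField_Γ (K := S.residueField y) (f.fiberToSpecResidueField y) (bijective_fibre f y)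
      obtain ⟨s, hs⟩ := exists_ne_zero f (h1 y)
      obtain ⟨t, ht⟩ := exists_ne_zero f (h2 y)
      have hP := PicClLib.isInvertible_pullback (f.fiberι y) hL
      have hQ := PicClLib.isInvertible_pullback (f.fiberι y) hMi
      let ψ : CohB1.tensorMod (CohIII.fiberMod f L y) (CohIII.fiberMod f M y) ≅ Coh.structureModule (f.fiber y) :=
        (H23.PicMul.pull (f.fiberι y) L M).some.symm ≪≫ (pullback (f.fiberι y)).mapIso hM.some ≪≫
          (PicClLib.nonempty_pullback_structureModule (f.fiberι y)).some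
      exact ⟨triv_of_sections hF hP hQ ψ hs ht,
        triv_of_sections hF hQ hP ((H23.PicMul.comm _ _).some ≪≫ ψ) ht hs⟩
    exact ⟨hT, S16759.of_local f hf L fun y => exists_frame_of_epi f hL (hT y).1 (h3 y)⟩
  refine ⟨⟨?_, fun hb => ?_⟩, fun hb => ⟨fun s => ?_, (main hb).2.2, fun L₀ h₀ ⟨e⟩ => ?_⟩⟩
  · rintro ⟨L₀, h₀, ⟨e⟩⟩
    obtain ⟨D₀, hD₀, eD₀⟩ := PicInv.exists_inverse h₀
    obtain ⟨eM⟩ : Nonempty (M ≅ (pullback f).obj D₀) := eq_of_tensor hM
      ⟨PicGrp.tensorModIso e (Iso.refl _) ≪≫ (H23.PicMul.pull f L₀ D₀).some.symm ≪≫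
        (pullback f).mapIso eD₀.some ≪≫ (PicClLib.nonempty_pullback_structureModule f).some⟩
    have hLf := exists_frame_of_pullback f h₀ e
    have hMf := exists_frame_of_pullback f hD₀ eM
    refine ⟨fun y => ?_, fun y => ?_, fun y => ?_, fun y => ?_⟩
    · obtain ⟨V, hy, s, hs⟩ := hLf y
      exact nontrivial_fibre f (triv_fibre_of_frame f hy hs)
    · obtain ⟨V, hy, s, hs⟩ := hMf y
      exact nontrivial_fibre f (triv_fibre_of_frame f hy hs)
    · obtain ⟨V, hy, s, hs⟩ := hLf y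
      exact epi_bc0_of_frame f hL hy hs
    · obtain ⟨V, hy, s, hs⟩ := hMf y
      exact epi_bc0_of_frame f hMi hy hs
  · obtain ⟨-, hi, hc⟩ := main hb
    haveI := hc
    exact ⟨_, hi, ⟨(asIso ((pullbackPushforwardAdjunction f).counit.app L)).symm⟩⟩
  · exact ⟨fiberRank_one f ((main hb).1 s).1, fiberRank_one f ((main hb).1 s).2⟩
  · have hlf : FlatMod.IsFinLocFree L₀ := fun x =>
      let ⟨U, hx, e'⟩ := InvEnd.isFinLocFreeOfRank_one h₀ x
      ⟨U, 1, hx, e'⟩
    haveI := H23.PullPush.isIso_unit_of_isFinLocFree f hf L₀ hlf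
    exact ⟨asIso ((pullbackPushforwardAdjunction f).unit.app L₀) ≪≫ (pushforward f).mapIso e.symm⟩

end Groth.Agent.S16951
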