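import Groth.Statements.S16967
import Groth.Agent.CurveExt.CliffordEq
import Groth.Agent.CurveVA.Canonical
import Groth.Agent.CurveCohLib.RegularCurve
import Groth.Agent.S11336

set_option autoImplicit false
universe u
open CategoryTheory CategoryTheory.Limits AlgebraicGeometry Opposite
open Curves

namespace Groth.Agent.S16967

/-- Let X be a smooth projective curve over an algebraically closed field k of characteristic 0
(integral, proper over k, of dimension one, all local rings regular) of genus g ≥ 3 that is not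
hyperelliptic: there is no invertible module of degree 2 with two k-linearly independent global
sections. Then the canonical morphism of X is linearly stable, stated through the criterion by
invertible subsheaves: for every invertible module M and every monomorphism ι : M ⟶ Ω_{X/k} which is
not an isomorphism, with dim_k H^0(X, M) ≥ 2, one has deg Ω_{X/k} · (h^0(M) - 1) < deg M ·
(h^0(Ω_{X/k}) - 1). Degrees are χ(·) - χ(O_X). -/
theorem result (k : Type u) [Field k] [IsAlgClosed k] [CharZero k] (X : Scheme.{u}) [X.Over (Spec (CommRingCat.of k))]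
    [IsIntegral X] [IsProper (X ↘ (Spec (CommRingCat.of k)))] (hdim : topologicalKrullDim X = 1)
    (hreg : ∀ x : X, IsRegularLocalRing (X.presheaf.stalk x))
    (hg : 3 ≤ Curv2.genus k X)
    (hnh : ¬ ∃ (N : X.Modules) (t : Fin 2 → LinSer.Sect X N), LinSer.IsLinSer k X N 2 1 t)
    (M : X.Modules) (hM : PicF.IsInvertible M) (ι : M ⟶ Omega.sheaf (X ↘ (Spec (CommRingCat.of k)))) [Mono ι] (hι : ¬ IsIso ι)
    (h2 : 2 ≤ Module.finrank k (Coh.HH X M 0)) :
    Curv2.deg k X (Omega.sheaf (X ↘ (Spec (CommRingCat.of k)))) 1 * ((Module.finrank k (Coh.HH X M 0) : ℤ) - 1) <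
      Curv2.deg k X M 1 * ((Module.finrank k (Coh.HH X (Omega.sheaf (X ↘ (Spec (CommRingCat.of k)))) 0) : ℤ) - 1) := by
  haveI := Groth.Agent.CurveCohLib.RegularCurve.smooth_of_regular k (X := X) fun x _ => hreg x
  haveI := Groth.Agent.CurveCohLib.isNoetherian_of_proper (k := k) (X := X)
  have hΩ := Groth.Agent.CurveFF.canonical_invariants k X hdim
  have hΩI := Groth.Agent.CurveFF.isInvertible_Ωm k X hdim
  rw [hΩ.1, hΩ.2]
  obtain ⟨hle, hiso⟩ := Groth.Agent.CurveDeg.deg_le_and_isIso k hdim.le hM hΩI ι fun h => by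
    exact Groth.Agent.CurveEnd.not_isZero M 1 one_pos (Groth.Agent.InvEnd.isFinLocFreeOfRank_one hM)
      (IsZero.of_mono_eq_zero ι h)
  have hlt : Curv2.deg k X M 1 < 2 * (Curv2.genus k X : ℤ) - 2 := by
    rw [← hΩ.2]
    exact lt_of_le_of_ne hle fun h => hι (hiso h)
  have hge : (0 : ℤ) ≤ Curv2.deg k X M 1 := by
    by_contra hc
    push Not at hc
    have := Groth.Agent.CurveFF.finrank_h0_of_deg_neg k hdim hM hc
    omega
  have hc := Groth.Agent.CurveExt.Cliff.two_mul_h0_le k hdim hM hge (by omega)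
  have hne : 2 * (Module.finrank k (Coh.HH X M 0) : ℤ) ≠ Curv2.deg k X M 1 + 2 := by
    intro heq
    obtain ⟨n, hn⟩ : ∃ n : ℕ, Curv2.deg k X M 1 = (n : ℤ) := ⟨(Curv2.deg k X M 1).toNat, by omega⟩
    obtain ⟨N, hN, hdN, hN2⟩ := Groth.Agent.CurveExt.Cliff.exists_deg_two k hdim n hM hn (by omega) (by omega)
      (by omega)
    obtain ⟨s, hs⟩ := Groth.Agent.CurveVA.exists_linIndep (n := 2) k (Groth.Agent.CurveDeg.isCoh_of_isInvertible hN) hN2
    exact hnh ⟨N, s, hN, hdN, hs⟩
  have h3 : 0 < (Curv2.deg k X M 1 - 2 * ((Module.finrank k (Coh.HH X M 0) : ℤ) - 1)) * ((Curv2.genus k X : ℤ) - 1) :=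
    mul_pos (by omega) (by omega)
  linear_combination h3

end Groth.Agent.S16967
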