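import Groth.Statements.S16968
import Groth.Agent.CurveExt.CliffordEq
import Groth.Agent.CurveVA.Canonical
import Groth.Agent.CurveCohLib.RegularCurve
import Groth.Agent.S11336
import Groth.Agent.CurveCohLib.Pencil

set_option autoImplicit false
universe u
open CategoryTheory CategoryTheory.Limits AlgebraicGeometry Opposite
open Curves

namespace Groth.Agent.S16968

/-- Let X be a smooth projective curve over an algebraically closed field k of characteristic 0
(integral, proper over k, of dimension one, all local rings regular) of genus g ≥ 3 which is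
hyperelliptic, with a g^1_2 given as an invertible module N of degree 2 and two k-linearly
independent global sections t_0, t_1. Then the canonical morphism of X is linearly semistable but
not linearly stable, stated through the criterion by invertible subsheaves: (i) for every invertible
module M and every monomorphism ι : M ⟶ Ω_{X/k} which is not an isomorphism, with dim_k H^0(X, M) ≥
2, one has deg Ω_{X/k} · (h^0(M) - 1) ≤ deg M · (h^0(Ω_{X/k}) - 1); (ii) N admits a monomorphism
into Ω_{X/k} which is not an isomorphism and for which equality holds. Degrees are χ(·) - χ(O_X).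
(The published statement gives no genus bound for the hyperelliptic case; here g ≥ 3 is assumed,
since for g = 2 the module N is the canonical module itself and clause (ii) fails.) -/
theorem result (k : Type u) [Field k] [IsAlgClosed k] [CharZero k] (X : Scheme.{u}) [X.Over (Spec (CommRingCat.of k))]
    [IsIntegral X] [IsProper (X ↘ (Spec (CommRingCat.of k)))] (hdim : topologicalKrullDim X = 1)
    (hreg : ∀ x : X, IsRegularLocalRing (X.presheaf.stalk x))
    (hg : 3 ≤ Curv2.genus k X)
    (N : X.Modules) (t : Fin 2 → LinSer.Sect X N) (hN : LinSer.IsLinSer k X N 2 1 t) :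
    (∀ (M : X.Modules) (ι : M ⟶ Omega.sheaf (X ↘ (Spec (CommRingCat.of k)))), PicF.IsInvertible M → Mono ι → ¬ IsIso ι →
        2 ≤ Module.finrank k (Coh.HH X M 0) →
        Curv2.deg k X (Omega.sheaf (X ↘ (Spec (CommRingCat.of k)))) 1 * ((Module.finrank k (Coh.HH X M 0) : ℤ) - 1) ≤
          Curv2.deg k X M 1 * ((Module.finrank k (Coh.HH X (Omega.sheaf (X ↘ (Spec (CommRingCat.of k)))) 0) : ℤ) - 1)) ∧
      ∃ ι : N ⟶ Omega.sheaf (X ↘ (Spec (CommRingCat.of k))), Mono ι ∧ ¬ IsIso ι ∧
        Curv2.deg k X (Omega.sheaf (X ↘ (Spec (CommRingCat.of k)))) 1 * ((Module.finrank k (Coh.HH X N 0) : ℤ) - 1) =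
          Curv2.deg k X N 1 * ((Module.finrank k (Coh.HH X (Omega.sheaf (X ↘ (Spec (CommRingCat.of k)))) 0) : ℤ) - 1) := by
  haveI := Groth.Agent.CurveCohLib.RegularCurve.smooth_of_regular k (X := X) fun x _ => hreg x
  haveI := Groth.Agent.CurveCohLib.isNoetherian_of_proper (k := k) (X := X)
  have hΩ := Groth.Agent.CurveFF.canonical_invariants k X hdim
  have hΩI := Groth.Agent.CurveFF.isInvertible_Ωm k X hdim
  rw [hΩ.1, hΩ.2]
  obtain ⟨hNI, hdN, ht⟩ := hN
  have hN2 := Groth.Agent.CurveCohLib.Pencil.le_h0_of_linIndep (k := k) (Groth.Agent.CurveDeg.isCoh_of_isInvertible hNI) t ht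
  refine ⟨fun M ι hM hι hiso h2 => ?_, ?_⟩
  · haveI := hι
    have hle := (Groth.Agent.CurveDeg.deg_le_and_isIso k hdim.le hM hΩI ι fun h =>
      Groth.Agent.CurveEnd.not_isZero M 1 one_pos (Groth.Agent.InvEnd.isFinLocFreeOfRank_one hM)
        (IsZero.of_mono_eq_zero ι h)).1
    rw [hΩ.2] at hle
    have hge : (0 : ℤ) ≤ Curv2.deg k X M 1 := by
      by_contra hc
      push Not at hc
      have := Groth.Agent.CurveFF.finrank_h0_of_deg_neg k hdim hM hc
      omega
    have hc := Groth.Agent.CurveExt.Cliff.two_mul_h0_le k hdim hM hge (by omega)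
    have h3 := mul_le_mul_of_nonneg_right hc (show (0 : ℤ) ≤ (Curv2.genus k X : ℤ) - 1 by omega)
    linear_combination h3
  · have hc := Groth.Agent.CurveExt.Cliff.two_mul_h0_le k hdim hNI (by omega) (by omega)
    have hRR := Groth.Agent.CurveCohLib.Clifford.deg_eq k hdim hNI
    obtain ⟨D, hD, -, ⟨e⟩⟩ := Groth.Agent.CurveDuality.exists_inverse_deg k hdim hNI
    have hh : Module.finrank k (Coh.HH X (CohB1.tensorMod (Groth.Agent.CurveFF.Ωm k X) D) 0) =
        Module.finrank k (Coh.HH X ((DCoh.tensorBi.obj D).obj (Omega.sheaf (X ↘ Spec (CommRingCat.of k)))) 0) :=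
      Groth.Agent.SlopeBound.finrank_h0_congr k (Groth.Agent.CurveTensor.commIso
        (Omega.sheaf (X ↘ Spec (CommRingCat.of k))) D)
    rw [Groth.Agent.CurveFF.finrank_h1_eq k hdim hNI e, hh] at hRR
    haveI := Module.nontrivial_of_finrank_pos (R := k)
      (M := Coh.HH X ((DCoh.tensorBi.obj D).obj (Omega.sheaf (X ↘ Spec (CommRingCat.of k)))) 0) (by omega)
    obtain ⟨s, hs⟩ := exists_ne (0 : Coh.HH X ((DCoh.tensorBi.obj D).obj (Omega.sheaf (X ↘ Spec (CommRingCat.of k)))) 0)
    let φ := Groth.Agent.CurveDuality.homOfTwist e (Omega.sheaf (X ↘ Spec (CommRingCat.of k))) s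
    have hφ : φ ≠ 0 := Groth.Agent.CurveDuality.homOfTwist_ne_zero e hs
    refine ⟨φ, Groth.Agent.InvEnd.mono_of_ne_zero hNI hΩI φ hφ, fun h => ?_, ?_⟩
    · haveI := h
      have h1 := Groth.Agent.CurveRR.deg_congr k (asIso φ) 1
      rw [hΩ.2, hdN] at h1
      omega
    · rw [show (Module.finrank k (Coh.HH X N 0) : ℤ) = 2 by omega, hdN]
      push_cast
      ring

end Groth.Agent.S16968
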