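import Groth.Statements.S1698
import Groth.Agent.PushDepth.Basic
import Mathlib.RingTheory.Ideal.AssociatedPrime.Finiteness

set_option backward.isDefEq.respectTransparency false
set_option backward.isDefEq.respectTransparency.types false
set_option linter.style.haveILetI false

set_option autoImplicit false
universe u
open CategoryTheory CategoryTheory.Limits AlgebraicGeometry TopologicalSpace
open SDiv

namespace Groth.Agent.S1698

open Groth.Agent RingTheory.Sequence

variable {R : Type u} [CommRing R] [IsLocalRing R] {M : Type u} [AddCommGroup M] [Module R M]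

theorem le_depth {rs : List R} (h : IsWeaklyRegular M rs) (hm : ∀ r ∈ rs, r ∈ IsLocalRing.maximalIdeal R) :
    (rs.length : ℕ∞) ≤ LocCoh.depth R M := by
  unfold LocCoh.depth LocCoh.idealDepth
  split
  · exact le_top
  · exact le_iSup₂ (f := fun (rs : List R) (_ : IsWeaklyRegular M rs ∧
      ∀ r ∈ rs, r ∈ IsLocalRing.maximalIdeal R) => (rs.length : ℕ∞)) rs ⟨h, hm⟩

theorem self_smul_top_ne : IsLocalRing.maximalIdeal R • (⊤ : Submodule R R) ≠ ⊤ := by
  rw [Ideal.smul_eq_mul, Ideal.mul_top]
  exact Ideal.IsMaximal.ne_top inferInstance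

/-- A non-zero finite module without socle over a Noetherian local ring has a non-zero-divisor in
the maximal ideal. -/
theorem exists_isSMulRegular [IsNoetherianRing R] [Module.Finite R M]
    (h : ∀ x : M, (∀ g ∈ IsLocalRing.maximalIdeal R, g • x = 0) → x = 0) :
    ∃ a ∈ IsLocalRing.maximalIdeal R, IsSMulRegular M a := by
  classical
  by_contra hc
  push_neg at hc
  have hfin := associatedPrimes.finite R M
  have hsub : (IsLocalRing.maximalIdeal R : Set R) ⊆ ⋃ p ∈ (hfin.toFinset : Set (Ideal R)), p := by
    intro a ha
    have h1 := hc a ha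
    rw [isSMulRegular_iff_right_eq_zero_of_smul] at h1
    push_neg at h1
    obtain ⟨x, hx, hx0⟩ := h1
    have : a ∈ {r : R | ∃ x : M, x ≠ 0 ∧ r • x = 0} := ⟨x, hx0, hx⟩
    rw [← biUnion_associatedPrimes_eq_zero_divisors R M] at this
    simpa using this
  obtain ⟨P, hP, hle⟩ := (Ideal.subset_union_prime ⊥ ⊥ fun p hp _ _ =>
    ((hfin.mem_toFinset).1 hp).isPrime).1 hsub
  have hP' := (hfin.mem_toFinset).1 hP
  rw [AssociatedPrimes.mem_iff, isAssociatedPrime_iff] at hP'
  obtain ⟨hpr, x, hx⟩ := hP'
  refine hpr.ne_top ?_
  have hx0 : x = 0 := h x fun g hg => by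
    have := hle hg
    rw [hx, Submodule.mem_colon_singleton] at this
    simpa using this
  rw [hx, eq_top_iff]
  intro r _
  rw [Submodule.mem_colon_singleton, hx0, smul_zero]
  exact zero_mem _


/-- Let f : X ⟶ S be quasi-compact and quasi-separated, F a quasi-coherent module on X and s a point of
S such that the stalk (f_* F)_s is a finite module over O_{S,s}. (3) If s is not in the image of f
and O_{S,s} is Noetherian, then (f_* F)_s has depth at least 2. (6) If F is flat over S, then (f_*
F)_s has depth at least min(2, depth O_{S,s}). -/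
theorem result {X S : Scheme.{u}} (f : X ⟶ S) [QuasiCompact f] [QuasiSeparated f] (F : X.Modules)
    (hF : Coh.IsQCoh F) (s : ↥S)
    [Module.Finite (S.presheaf.stalk s) (((Scheme.Modules.pushforward f).obj F).presheaf.stalk s)] :
    ((s ∉ Set.range (fun x => f x)) → IsNoetherianRing (S.presheaf.stalk s) →
        (2 : ℕ∞) ≤ LocCoh.depth (S.presheaf.stalk s) (((Scheme.Modules.pushforward f).obj F).presheaf.stalk s)) ∧
      (FlatMod.IsFlatOver f F →
        min (2 : ℕ∞) (LocCoh.depth (S.presheaf.stalk s) (S.presheaf.stalk s)) ≤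
          LocCoh.depth (S.presheaf.stalk s) (((Scheme.Modules.pushforward f).obj F).presheaf.stalk s)) := by
  classical
  let M := ((Scheme.Modules.pushforward f).obj F).presheaf.stalk s
  constructor
  · intro hs hN
    obtain ⟨n, g, hg⟩ := Submodule.fg_iff_exists_fin_generating_family.1
      (IsNoetherian.noetherian (IsLocalRing.maximalIdeal (S.presheaf.stalk s)))
    have hgm : ∀ k, g k ∈ IsLocalRing.maximalIdeal (S.presheaf.stalk s) := fun k => by
      rw [← hg]
      exact Submodule.subset_span ⟨k, rfl⟩
    -- some generator is invertible above each proper generalization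
    have hunit : ∀ (p : X) (hp : f p ⤳ s), ∃ k, IsUnit (PushDepth.phi f hp (g k)) := by
      intro p hp
      by_contra hc
      push_neg at hc
      have hle : IsLocalRing.maximalIdeal (S.presheaf.stalk s) ≤
          (IsLocalRing.maximalIdeal (X.presheaf.stalk p)).comap (PushDepth.phi f hp) := by
        rw [← hg, Submodule.span_le]
        rintro _ ⟨k, rfl⟩
        exact hc k
      have hloc : IsLocalHom (S.presheaf.stalkSpecializes hp).hom := by
        refine ⟨fun a ha => ?_⟩
        by_contra hna
        exact hle hna (ha.map (f.stalkMap p).hom)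
      refine hs ⟨p, ?_⟩
      have e := congrArg (fun φ : Spec (S.presheaf.stalk (f p)) ⟶ S =>
        φ (IsLocalRing.closedPoint (S.presheaf.stalk (f p)))) (Scheme.SpecMap_stalkSpecializes_fromSpecStalk hp)
      simp only [Scheme.Hom.comp_apply] at e
      have h1 : (Spec.map (S.presheaf.stalkSpecializes hp)) (IsLocalRing.closedPoint (S.presheaf.stalk (f p))) =
          IsLocalRing.closedPoint (S.presheaf.stalk s) :=
        IsLocalRing.comap_closedPoint (S.presheaf.stalkSpecializes hp).hom
      rw [h1, Scheme.fromSpecStalk_closedPoint, Scheme.fromSpecStalk_closedPoint] at e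
      exact e.symm
    have H0 : ∀ x : M, (∀ a ∈ IsLocalRing.maximalIdeal (S.presheaf.stalk s), a • x = 0) → x = 0 := by
      intro x hx
      refine PushDepth.eq_zero_of_psi f F x fun p hp => ?_
      obtain ⟨k, hk⟩ := hunit p hp
      refine hk.smul_eq_zero.1 ?_
      rw [← PushDepth.psi_smul, hx _ (hgm k), map_zero]
    obtain ⟨a, ham, ha⟩ := exists_isSMulRegular H0
    have H1 : ∀ q : QuotSMulTop a M,
        (∀ c ∈ IsLocalRing.maximalIdeal (S.presheaf.stalk s), c • q = 0) → q = 0 := by
      intro q hq
      obtain ⟨x, rfl⟩ := Submodule.Quotient.mk_surjective _ q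
      have hy : ∀ k, ∃ y : M, a • y = g k • x := fun k => by
        have := hq (g k) (hgm k)
        rw [← Submodule.Quotient.mk_smul, Submodule.Quotient.mk_eq_zero,
          Submodule.mem_smul_pointwise_iff_exists] at this
        obtain ⟨y, -, hy⟩ := this
        exact ⟨y, hy⟩
      choose y hy using hy
      have hcomm : ∀ k l, g l • y k = g k • y l := fun k l => by
        apply ha
        show a • g l • y k = a • g k • y l
        rw [smul_comm a (g l), hy k, smul_comm a (g k), hy l, smul_comm]
      obtain ⟨w, hw⟩ := PushDepth.exists_solution f F (ι := Option (Fin n))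
        (fun o => o.elim a g) (fun o => o.elim x y) fun p hp => by
          obtain ⟨k, hk⟩ := hunit p hp
          obtain ⟨u, hu⟩ := hk
          refine ⟨(↑u⁻¹ : X.presheaf.stalk p) • PushDepth.psi f F hp (y k), ?_, ?_⟩
          · rintro (_ | l)
            · show PushDepth.phi f hp a • _ = PushDepth.psi f F hp x
              rw [smul_comm, ← PushDepth.psi_smul, hy k, PushDepth.psi_smul, ← hu, smul_smul,
                Units.inv_mul, one_smul]
            · show PushDepth.phi f hp (g l) • _ = PushDepth.psi f F hp (y l)
              rw [smul_comm, ← PushDepth.psi_smul, hcomm k l, PushDepth.psi_smul, ← hu, smul_smul,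
                Units.inv_mul, one_smul]
          · intro w hw
            have hk' : PushDepth.phi f hp (g k) • w = PushDepth.psi f F hp (y k) := hw (some k)
            rw [← hk', ← hu, smul_smul, Units.inv_mul, one_smul]
      rw [Submodule.Quotient.mk_eq_zero, Submodule.mem_smul_pointwise_iff_exists]
      exact ⟨w, Submodule.mem_top, hw none⟩
    obtain ⟨b, hbm, hb⟩ := exists_isSMulRegular H1
    exact le_depth (rs := [a, b]) ((isWeaklyRegular_cons_iff M a [b]).2
      ⟨ha, (isWeaklyRegular_cons_iff _ b []).2 ⟨hb, IsWeaklyRegular.nil _ _⟩⟩)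
      (List.forall_mem_cons.2 ⟨ham, List.forall_mem_singleton.2 hbm⟩)
  · intro hfl
    -- regular sequences of the local ring at `s` on the stalks above generalizations
    have hN : ∀ (p : X) (hp : f p ⤳ s) (rs : List (S.presheaf.stalk s)),
        IsWeaklyRegular (S.presheaf.stalk s) rs →
        (letI := Module.compHom (F.presheaf.stalk p) (PushDepth.phi f hp)
         IsWeaklyRegular (F.presheaf.stalk p) rs) := by
      intro p hp rs hrs
      obtain ⟨T, hT⟩ := VarGeom.exists_isLocalization_stalkSpecializes hp
      letI := (S.presheaf.stalkSpecializes hp).hom.toAlgebra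
      letI := FlatMod.moduleStalkOver f F p
      letI := Module.compHom (F.presheaf.stalk p) (PushDepth.phi f hp)
      haveI : IsScalarTower (S.presheaf.stalk s) (S.presheaf.stalk (f p)) (F.presheaf.stalk p) :=
        IsScalarTower.of_algebraMap_smul fun _ _ => rfl
      haveI : Module.Flat (S.presheaf.stalk (f p)) (F.presheaf.stalk p) := hfl p
      haveI : Module.Flat (S.presheaf.stalk s) (S.presheaf.stalk (f p)) := IsLocalization.flat _ T
      haveI : Module.Flat (S.presheaf.stalk s) (F.presheaf.stalk p) :=
        Module.Flat.trans (S.presheaf.stalk s) (S.presheaf.stalk (f p)) (F.presheaf.stalk p)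
      exact ((TensorProduct.lid (S.presheaf.stalk s) (F.presheaf.stalk p)).isWeaklyRegular_congr rs).1
        hrs.isWeaklyRegular_rTensor
    have hreg : ∀ a : S.presheaf.stalk s, IsWeaklyRegular (S.presheaf.stalk s) [a] → IsSMulRegular M a := by
      intro a h
      rw [isSMulRegular_iff_right_eq_zero_of_smul]
      intro x hx
      refine PushDepth.eq_zero_of_psi f F x fun p hp => ?_
      letI := Module.compHom (F.presheaf.stalk p) (PushDepth.phi f hp)
      refine ((isWeaklyRegular_cons_iff _ a []).1 (hN p hp _ h)).1.right_eq_zero_of_smul ?_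
      show PushDepth.phi f hp a • (PushDepth.psi f F hp x : F.presheaf.stalk p) = 0
      rw [← PushDepth.psi_smul, hx, map_zero]
    have hreg₂ : ∀ a b : S.presheaf.stalk s, IsWeaklyRegular (S.presheaf.stalk s) [a, b] →
        IsSMulRegular (QuotSMulTop a M) b := by
      intro a b h
      rw [isSMulRegular_iff_right_eq_zero_of_smul]
      intro q hq
      obtain ⟨x, rfl⟩ := Submodule.Quotient.mk_surjective _ q
      rw [← Submodule.Quotient.mk_smul, Submodule.Quotient.mk_eq_zero,
        Submodule.mem_smul_pointwise_iff_exists] at hq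
      obtain ⟨z, -, hz⟩ := hq
      obtain ⟨w, hw⟩ := PushDepth.exists_solution f F (ι := PUnit.{1}) (fun _ => a) (fun _ => x)
        fun p hp => by
          letI := Module.compHom (F.presheaf.stalk p) (PushDepth.phi f hp)
          obtain ⟨h1, h2⟩ := (isWeaklyRegular_cons_iff _ a [b]).1 (hN p hp _ h)
          have h3 := ((isWeaklyRegular_cons_iff _ b []).1 h2).1
          have h4 : (Submodule.Quotient.mk (PushDepth.psi f F hp x) :
              QuotSMulTop a (F.presheaf.stalk p)) = 0 := h3.right_eq_zero_of_smul (by
            rw [← Submodule.Quotient.mk_smul, Submodule.Quotient.mk_eq_zero,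
              Submodule.mem_smul_pointwise_iff_exists]
            refine ⟨PushDepth.psi f F hp z, Submodule.mem_top, ?_⟩
            show PushDepth.phi f hp a • PushDepth.psi f F hp z = PushDepth.phi f hp b • PushDepth.psi f F hp x
            rw [← PushDepth.psi_smul, ← PushDepth.psi_smul, hz])
          rw [Submodule.Quotient.mk_eq_zero, Submodule.mem_smul_pointwise_iff_exists] at h4
          obtain ⟨v, -, hv⟩ := h4
          exact ⟨v, fun _ => hv, fun v' hv' => h1 ((hv' PUnit.unit).trans hv.symm)⟩
      rw [Submodule.Quotient.mk_eq_zero, Submodule.mem_smul_pointwise_iff_exists]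
      exact ⟨w, Submodule.mem_top, hw PUnit.unit⟩
    by_cases h1 : ∃ a ∈ IsLocalRing.maximalIdeal (S.presheaf.stalk s),
        IsWeaklyRegular (S.presheaf.stalk s) [a]
    · obtain ⟨a, ham, ha⟩ := h1
      have hone : (1 : ℕ∞) ≤ LocCoh.depth (S.presheaf.stalk s) M := by
        simpa using le_depth (rs := [a]) ((isWeaklyRegular_cons_iff M a []).2
          ⟨hreg a ha, IsWeaklyRegular.nil _ _⟩) (List.forall_mem_singleton.2 ham)
      by_cases h2 : ∃ a' ∈ IsLocalRing.maximalIdeal (S.presheaf.stalk s),
          ∃ b ∈ IsLocalRing.maximalIdeal (S.presheaf.stalk s), IsWeaklyRegular (S.presheaf.stalk s) [a', b]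
      · obtain ⟨a', ha'm, b, hbm, hab⟩ := h2
        have hc := (isWeaklyRegular_cons_iff _ a' [b]).1 hab
        refine (min_le_left _ _).trans ?_
        simpa using le_depth (rs := [a', b]) ((isWeaklyRegular_cons_iff M a' [b]).2
          ⟨hreg a' ((isWeaklyRegular_cons_iff _ a' []).2 ⟨hc.1, IsWeaklyRegular.nil _ _⟩),
            (isWeaklyRegular_cons_iff _ b []).2 ⟨hreg₂ a' b hab, IsWeaklyRegular.nil _ _⟩⟩)
          (List.forall_mem_cons.2 ⟨ha'm, List.forall_mem_singleton.2 hbm⟩)
      · refine (min_le_right _ _).trans (le_trans ?_ hone)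
        unfold LocCoh.depth LocCoh.idealDepth
        rw [if_neg self_smul_top_ne]
        refine iSup₂_le fun rs hrs => ?_
        rcases rs with _ | ⟨a', _ | ⟨b, rest⟩⟩
        · simp
        · simp
        · exfalso
          obtain ⟨hw, hm⟩ := hrs
          obtain ⟨h3, h4⟩ := (isWeaklyRegular_cons_iff _ a' (b :: rest)).1 hw
          exact h2 ⟨a', hm a' (by simp), b, hm b (by simp), (isWeaklyRegular_cons_iff _ a' [b]).2
            ⟨h3, (isWeaklyRegular_cons_iff _ b []).2
              ⟨((isWeaklyRegular_cons_iff _ b rest).1 h4).1, IsWeaklyRegular.nil _ _⟩⟩⟩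
    · refine (min_le_right _ _).trans (le_trans (le_of_eq ?_) zero_le)
      unfold LocCoh.depth LocCoh.idealDepth
      rw [if_neg self_smul_top_ne, ← nonpos_iff_eq_zero]
      refine iSup₂_le fun rs hrs => ?_
      rcases rs with _ | ⟨a', rest⟩
      · simp
      · exfalso
        obtain ⟨hw, hm⟩ := hrs
        exact h1 ⟨a', hm a' (by simp), (isWeaklyRegular_cons_iff _ a' []).2
          ⟨((isWeaklyRegular_cons_iff _ a' rest).1 hw).1, IsWeaklyRegular.nil _ _⟩⟩

end Groth.Agent.S1698
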