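import Groth.Statements.S16980
import Mathlib.RingTheory.Kaehler.Basic
import Mathlib.Tactic.LinearCombination
import Mathlib.Tactic.Ring
import Mathlib.Algebra.MvPolynomial.PDeriv
import Mathlib.RingTheory.MvPolynomial.Ideal

set_option autoImplicit false
universe u
open CAlg

namespace Groth.Agent.S16980

open MvPolynomial in
theorem node_cancel {A : Type*} [CommRing A] (t : A) (p : MvPolynomial (Fin 2) A)
    (hx : p * X 0 ∈ Ideal.span {(X 0 * X 1 - C t : MvPolynomial (Fin 2) A)})
    (hy : p * X 1 ∈ Ideal.span {(X 0 * X 1 - C t : MvPolynomial (Fin 2) A)}) :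
    p ∈ Ideal.span {(X 0 * X 1 - C t : MvPolynomial (Fin 2) A)} := by
  have hreg : ∀ q : MvPolynomial (Fin 2) A, q * (X 0 * X 1 - C t) = 0 → q = 0 := by
    intro q hq
    let e : Fin 2 →₀ ℕ := Finsupp.single 0 1 + Finsupp.single 1 1
    have hrec : ∀ m, q.coeff m = t * q.coeff (m + e) := by
      intro m
      have h := congrArg (MvPolynomial.coeff (m + e)) hq
      have he : (X 0 * X 1 : MvPolynomial (Fin 2) A) = monomial e 1 := by
        rw [X, X, monomial_mul, one_mul]
      rw [mul_sub, coeff_sub, he, coeff_mul_monomial, mul_one, mul_comm q (C t), coeff_C_mul, coeff_zero, sub_eq_zero] at h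
      exact h
    have hpow : ∀ (n : ℕ) m, q.coeff m = t ^ n * q.coeff (m + n • e) := by
      intro n
      induction n with
      | zero => intro m; simp
      | succ n ih => intro m; rw [ih m, hrec, ← mul_assoc, ← pow_succ, add_assoc, ← succ_nsmul]
    ext m
    rw [hpow (q.totalDegree + 1) m, coeff_zero, coeff_eq_zero_of_totalDegree_lt (f := q) ?_, mul_zero]
    rw [← Finsupp.degree_apply, map_add, map_nsmul]
    simp [e]
    omega
  obtain ⟨g, hg⟩ := Ideal.mem_span_singleton'.1 hx
  obtain ⟨h, hh⟩ := Ideal.mem_span_singleton'.1 hy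
  have hgh : g * X 1 = h * X 0 := by
    refine sub_eq_zero.1 (hreg _ ?_)
    linear_combination (X 1 : MvPolynomial (Fin 2) A) * hg - (X 0 : MvPolynomial (Fin 2) A) * hh
  have hXg : (X 0 : MvPolynomial (Fin 2) A) ∣ g := by
    rw [X_dvd_iff_modMonomial_eq_zero]
    ext m
    rw [coeff_zero]
    by_cases hm : Finsupp.single 0 1 ≤ m
    · exact coeff_modMonomial_of_le _ hm
    rw [coeff_modMonomial_of_not_le _ hm, ← coeff_mul_X m 1 g, hgh, coeff_mul_X', if_neg]
    rw [Finsupp.mem_support_iff, not_not]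
    simp [Finsupp.single_le_iff] at hm
    simpa using hm
  obtain ⟨g', rfl⟩ := hXg
  refine Ideal.mem_span_singleton'.2 ⟨g', ?_⟩
  refine sub_eq_zero.1 ?_
  have h0 : (g' * (X 0 * X 1 - C t) - p) * X 0 = 0 := by linear_combination hg
  ext m
  rw [← coeff_mul_X m 0, h0, coeff_zero, coeff_zero]

/-- Let A be a commutative ring, J an A-module, A′ = A ⊕ εJ the trivial square-zero extension of A by J,
and τ any element of A′. Let B′ be the A′-algebra A′[x,y]/(xy − τ), presented by two generators x, y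
with the evaluation map from the polynomial ring in two variables over A′ surjective and with kernel
generated by XY − τ. Let I ⊆ B′ be the ideal generated by the square-zero ideal J of A′, so that B =
B′/I is A[x,y]/(xy − t) with t the A-component of τ. Then the first map of the conormal sequence of
B′ → B relative to A, namely I → B ⊗_{B′} Ω_{B′/A}, i ↦ 1 ⊗ di, is injective (so the sequence 0 → I
→ B ⊗_{B′} Ω_{B′/A} → Ω_{B/A} → 0 is exact on the left as well; this is the local computation at a
node for first-order deformations of nodal curves). -/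
theorem result
    (A : Type u) [CommRing A] (J : Type u) [AddCommGroup J] [Module A J] [Module Aᵐᵒᵖ J]
    [IsCentralScalar A J] (τ : TrivSqZeroExt A J)
    (B' : Type u) [CommRing B'] [Algebra (TrivSqZeroExt A J) B'] [Algebra A B']
    [IsScalarTower A (TrivSqZeroExt A J) B'] (x y : B')
    (hsurj : Function.Surjective
      (MvPolynomial.aeval ![x, y] : MvPolynomial (Fin 2) (TrivSqZeroExt A J) →ₐ[TrivSqZeroExt A J] B'))
    (hker : RingHom.ker
      (MvPolynomial.aeval ![x, y] : MvPolynomial (Fin 2) (TrivSqZeroExt A J) →ₐ[TrivSqZeroExt A J] B') =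
      Ideal.span {MvPolynomial.X 0 * MvPolynomial.X 1 - MvPolynomial.C τ}) :
    Function.Injective (KaehlerDifferential.kerToTensor A B'
      (B' ⧸ Ideal.map (algebraMap (TrivSqZeroExt A J) B') (TrivSqZeroExt.kerIdeal A J))) := by
  classical
  set I : Ideal B' := Ideal.map (algebraMap (TrivSqZeroExt A J) B') (TrivSqZeroExt.kerIdeal A J) with hI
  have hII : ∀ a ∈ I, ∀ b ∈ I, a * b = 0 := by
    intro a ha b hb
    induction ha using Submodule.span_induction with
    | mem z hz =>
      induction hb using Submodule.span_induction with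
      | mem w hw =>
        obtain ⟨u, hu, rfl⟩ := hz
        obtain ⟨v, hv, rfl⟩ := hw
        rw [← map_mul, (TrivSqZeroExt.mem_kerIdeal_iff_inr A J u).1 hu, (TrivSqZeroExt.mem_kerIdeal_iff_inr A J v).1 hv,
          TrivSqZeroExt.inr_mul_inr, map_zero]
      | zero => rw [mul_zero]
      | add w w' _ _ h h' => rw [mul_add, h, h', add_zero]
      | smul r w _ h => rw [smul_eq_mul, mul_left_comm, h, mul_zero]
    | zero => rw [zero_mul]
    | add z z' _ _ h h' => rw [add_mul, h, h', add_zero]
    | smul r z _ h => rw [smul_eq_mul, mul_assoc, h, mul_zero]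
  let ev : MvPolynomial (Fin 2) (TrivSqZeroExt A J) →ₐ[TrivSqZeroExt A J] B' := MvPolynomial.aeval ![x, y]
  let rel : MvPolynomial (Fin 2) (TrivSqZeroExt A J) := MvPolynomial.X 0 * MvPolynomial.X 1 - MvPolynomial.C τ
  -- the coefficientwise derivation
  let φ : TrivSqZeroExt A J →+* A := (TrivSqZeroExt.fstHom A A J).toRingHom
  let s : TrivSqZeroExt A J →+ TrivSqZeroExt A J :=
    AddMonoidHom.mk' (fun c => TrivSqZeroExt.inr c.snd) (fun c d => by rw [TrivSqZeroExt.snd_add, TrivSqZeroExt.inr_add])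
  have hsmul : ∀ c d, s (c * d) = c * s d + d * s c := fun c d => by
    show TrivSqZeroExt.inr (c * d).snd = c * TrivSqZeroExt.inr d.snd + d * TrivSqZeroExt.inr c.snd
    refine TrivSqZeroExt.ext ?_ ?_
    · simp
    · simp [TrivSqZeroExt.snd_mul, op_smul_eq_smul]
  let ψ₀ : MvPolynomial (Fin 2) (TrivSqZeroExt A J) →+ B' :=
    AddMonoidHom.mk' (fun P => ∑ m ∈ P.support, algebraMap (TrivSqZeroExt A J) B' (s (P.coeff m)) * ev (MvPolynomial.monomial m 1))
      (fun P Q => by
        have key : ∀ R : MvPolynomial (Fin 2) (TrivSqZeroExt A J), R.support ⊆ P.support ∪ Q.support →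
            ∑ m ∈ R.support, algebraMap (TrivSqZeroExt A J) B' (s (R.coeff m)) * ev (MvPolynomial.monomial m 1) =
            ∑ m ∈ P.support ∪ Q.support, algebraMap (TrivSqZeroExt A J) B' (s (R.coeff m)) * ev (MvPolynomial.monomial m 1) :=
          fun R hR => Finset.sum_subset hR fun m _ hm => by
            rw [MvPolynomial.notMem_support_iff.1 hm, map_zero, map_zero, zero_mul]
        rw [key _ MvPolynomial.support_add, key P Finset.subset_union_left, key Q Finset.subset_union_right,
          ← Finset.sum_add_distrib]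
        refine Finset.sum_congr rfl fun m _ => ?_
        rw [MvPolynomial.coeff_add, map_add, map_add, add_mul])
  have hψmon : ∀ m c, ψ₀ (MvPolynomial.monomial m c) = algebraMap (TrivSqZeroExt A J) B' (s c) * ev (MvPolynomial.monomial m 1) := by
    intro m c
    show ∑ n ∈ (MvPolynomial.monomial m c).support, _ = _
    rw [MvPolynomial.support_monomial]
    split_ifs with hc
    · simp [hc]
    · rw [Finset.sum_singleton, MvPolynomial.coeff_monomial, if_pos rfl]
  have hψI : ∀ P, ψ₀ P ∈ I := fun P => Submodule.sum_mem _ fun m _ => I.mul_mem_right _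
    (Ideal.mem_map_of_mem _ (by rw [TrivSqZeroExt.mem_kerIdeal_iff_inr]; rfl))
  have hψmul : ∀ P Q, ψ₀ (P * Q) = ev P * ψ₀ Q + ev Q * ψ₀ P := by
    intro P Q
    induction P using MvPolynomial.induction_on' with
    | add P P' h h' => rw [add_mul, map_add, h, h', map_add, map_add]; ring
    | monomial m c =>
      induction Q using MvPolynomial.induction_on' with
      | add Q Q' h h' => rw [mul_add, map_add, h, h', map_add, map_add]; ring
      | monomial n d =>
        rw [MvPolynomial.monomial_mul, hψmon, hψmon, hψmon, hsmul, map_add, map_mul, map_mul]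
        have e : ∀ (m : Fin 2 →₀ ℕ) c, ev (MvPolynomial.monomial m c) = algebraMap (TrivSqZeroExt A J) B' c * ev (MvPolynomial.monomial m 1) := by
          intro m c
          rw [← AlgHom.commutes ev c, ← map_mul, MvPolynomial.algebraMap_eq, MvPolynomial.C_mul_monomial, mul_one]
        rw [e m c, e n d, show (MvPolynomial.monomial (m + n) (1 : TrivSqZeroExt A J)) = MvPolynomial.monomial m 1 * MvPolynomial.monomial n 1 by
          rw [MvPolynomial.monomial_mul, one_mul], map_mul]
        ring
  -- the target module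
  let g : I × (B' ⧸ I) × (B' ⧸ I) :=
    (⟨ψ₀ rel, hψI rel⟩, Ideal.Quotient.mk I (ev (MvPolynomial.pderiv 0 rel)), Ideal.Quotient.mk I (ev (MvPolynomial.pderiv 1 rel)))
  let Φ : MvPolynomial (Fin 2) (TrivSqZeroExt A J) → I × (B' ⧸ I) × (B' ⧸ I) := fun P =>
    (⟨ψ₀ P, hψI P⟩, Ideal.Quotient.mk I (ev (MvPolynomial.pderiv 0 P)), Ideal.Quotient.mk I (ev (MvPolynomial.pderiv 1 P)))
  have hΦadd : ∀ P Q, Φ (P + Q) = Φ P + Φ Q := fun P Q => Prod.ext (Subtype.ext (map_add ψ₀ P Q))
    (Prod.ext (by simp [Φ]) (by simp [Φ]))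
  have hΦmul : ∀ P Q, Φ (P * Q) = ev P • Φ Q + ev Q • Φ P := by
    intro P Q
    refine Prod.ext (Subtype.ext (hψmul P Q)) (Prod.ext ?_ ?_) <;>
      · simp only [Φ, Prod.snd_add, Prod.fst_add, Prod.smul_snd, Prod.smul_fst, Derivation.leibniz, smul_eq_mul,
          map_add, map_mul]
        rfl
  let S : Submodule B' (I × (B' ⧸ I) × (B' ⧸ I)) := Submodule.span B' {g}
  have hkill : ∀ a ∈ I, ∀ z : I × (B' ⧸ I) × (B' ⧸ I), a • z = 0 := fun a ha z =>
    Prod.ext (Subtype.ext (hII a ha _ z.1.2)) (Prod.ext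
      (by rw [Prod.smul_snd, Prod.smul_fst, Algebra.smul_def, Ideal.Quotient.algebraMap_eq, Ideal.Quotient.eq_zero_iff_mem.2 ha, zero_mul]; rfl)
      (by rw [Prod.smul_snd, Prod.smul_snd, Algebra.smul_def, Ideal.Quotient.algebraMap_eq, Ideal.Quotient.eq_zero_iff_mem.2 ha, zero_mul]; rfl))
  have hΦker : ∀ P, ev P = 0 → Φ P ∈ S := by
    intro P hP
    have hP' : P ∈ RingHom.ker ev := hP
    rw [hker, Ideal.mem_span_singleton'] at hP'
    obtain ⟨Q, rfl⟩ := hP'
    rw [hΦmul]
    have hrel : ev rel = 0 := by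
      show rel ∈ RingHom.ker ev
      rw [hker]
      exact Ideal.mem_span_singleton_self _
    rw [hrel, zero_smul, add_zero]
    exact S.smul_mem _ (Submodule.mem_span_singleton_self _)
  let sec : B' → MvPolynomial (Fin 2) (TrivSqZeroExt A J) := Function.surjInv hsurj
  have hsec : ∀ b, ev (sec b) = b := Function.surjInv_eq hsurj
  have hD : ∀ P, Submodule.Quotient.mk (p := S) (Φ (sec (ev P))) = Submodule.Quotient.mk (Φ P) := by
    intro P
    rw [Submodule.Quotient.eq]
    have h : Φ (sec (ev P) - P) ∈ S := hΦker _ (by rw [map_sub, hsec, sub_self])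
    have e : Φ (sec (ev P)) = Φ (sec (ev P) - P) + Φ P := by rw [← hΦadd, sub_add_cancel]
    rwa [e, add_sub_cancel_right]
  have hφC : ∀ a : A, algebraMap A B' a = ev (MvPolynomial.C (TrivSqZeroExt.inl a)) := fun a => by
    rw [MvPolynomial.aeval_C, IsScalarTower.algebraMap_apply A (TrivSqZeroExt A J) B']
    rfl
  have hΦC : ∀ a : A, Φ (MvPolynomial.C (TrivSqZeroExt.inl a)) = 0 := fun a =>
    Prod.ext (Subtype.ext (by
      show ψ₀ _ = (0 : B')
      rw [MvPolynomial.C_apply, hψmon]
      show algebraMap _ _ (TrivSqZeroExt.inr (TrivSqZeroExt.inl a : TrivSqZeroExt A J).snd) * _ = 0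
      simp)) (Prod.ext (by simp [Φ]) (by simp [Φ]))
  let δ : B' →ₗ[A] (I × (B' ⧸ I) × (B' ⧸ I)) ⧸ S :=
    { toFun := fun b => Submodule.Quotient.mk (Φ (sec b))
      map_add' := fun b c => by
        rw [← Submodule.Quotient.mk_add, ← hΦadd, ← hD (sec b + sec c), map_add, hsec, hsec]
      map_smul' := fun a b => by
        have e : a • b = ev (MvPolynomial.C (TrivSqZeroExt.inl a) * sec b) := by
          rw [map_mul, hsec, ← hφC, Algebra.smul_def]
        rw [e, hD, hΦmul, hΦC, smul_zero, add_zero, RingHom.id_apply, ← hφC, algebraMap_smul, Submodule.Quotient.mk_smul] }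
  let D : Derivation A B' ((I × (B' ⧸ I) × (B' ⧸ I)) ⧸ S) := Derivation.mk' δ fun b c => by
    show Submodule.Quotient.mk (Φ (sec (b * c))) = b • Submodule.Quotient.mk (Φ (sec c)) + c • Submodule.Quotient.mk (Φ (sec b))
    rw [show b * c = ev (sec b * sec c) by rw [map_mul, hsec, hsec], hD, hΦmul, hsec, hsec, Submodule.Quotient.mk_add,
      Submodule.Quotient.mk_smul, Submodule.Quotient.mk_smul]
  have hkillQ : Module.IsTorsionBySet B' ((I × (B' ⧸ I) × (B' ⧸ I)) ⧸ S) (I : Set B') := by
    rintro ⟨z⟩ ⟨a, ha⟩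
    exact congrArg (Submodule.Quotient.mk (p := S)) (hkill a ha z)
  letI := hkillQ.module
  have hDI : ∀ i, i ∈ I → ∀ w : I, (w : B') = i →
      D i = Submodule.Quotient.mk (w, (0 : B' ⧸ I), (0 : B' ⧸ I)) := by
    intro i hi
    induction hi using Submodule.span_induction with
    | mem z hz =>
      intro w hw
      obtain ⟨u, hu, rfl⟩ := hz
      show Submodule.Quotient.mk (Φ (sec _)) = _
      rw [show algebraMap (TrivSqZeroExt A J) B' u = ev (MvPolynomial.C u) from (AlgHom.commutes ev u).symm, hD]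
      refine congrArg _ (Prod.ext (Subtype.ext ?_) (Prod.ext (by simp [Φ]) (by simp [Φ])))
      show ψ₀ _ = _
      rw [hw, MvPolynomial.C_apply, hψmon, show s u = u from ((TrivSqZeroExt.mem_kerIdeal_iff_inr A J u).1 hu).symm,
        ← AlgHom.commutes ev u, ← map_mul, MvPolynomial.algebraMap_eq, MvPolynomial.C_mul_monomial, mul_one]
      rfl
    | zero =>
      intro w hw
      rw [map_zero, show w = 0 from Subtype.ext hw]
      exact (Submodule.Quotient.mk_zero S).symm
    | add z z' hz hz' h h' =>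
      intro w hw
      rw [map_add, h ⟨z, hz⟩ rfl, h' ⟨z', hz'⟩ rfl, ← Submodule.Quotient.mk_add]
      exact congrArg _ (Prod.ext (Subtype.ext hw.symm) (by simp))
    | smul r z hz h =>
      intro w hw
      rw [smul_eq_mul, Derivation.leibniz, h ⟨z, hz⟩ rfl, ← Submodule.Quotient.mk_smul,
        show z • D r = 0 from @hkillQ (D r) ⟨z, hz⟩, add_zero]
      exact congrArg _ (Prod.ext (Subtype.ext hw.symm) (Prod.ext (smul_zero _) (smul_zero _)))
  let L : TensorProduct B' (B' ⧸ I) (Ω[B'⁄A]) →ₗ[B'] (I × (B' ⧸ I) × (B' ⧸ I)) ⧸ S :=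
    TensorProduct.lift (((LinearMap.lsmul (B' ⧸ I) ((I × (B' ⧸ I) × (B' ⧸ I)) ⧸ S)).restrictScalars₁₂ B' B').compl₂ D.liftKaehlerDifferential)
  refine (injective_iff_map_eq_zero _).2 fun i hi0 => ?_
  have hi : (i : B') ∈ I := Ideal.Quotient.eq_zero_iff_mem.1 i.2
  have h1 : D (i : B') = 0 := by
    have h := congrArg L hi0
    rw [map_zero] at h
    have e : L (TensorProduct.tmul B' (1 : B' ⧸ I) (KaehlerDifferential.D A B' (i : B'))) = D (i : B') := by
      show (1 : B' ⧸ I) • D.liftKaehlerDifferential (KaehlerDifferential.D A B' (i : B')) = _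
      rw [one_smul, Derivation.liftKaehlerDifferential_comp_D]
    exact e.symm.trans h
  rw [hDI _ hi ⟨_, hi⟩ rfl, Submodule.Quotient.mk_eq_zero, Submodule.mem_span_singleton] at h1
  obtain ⟨c, hc⟩ := h1
  have hcy : c * y ∈ I := by
    have := congrArg (fun z : I × (B' ⧸ I) × (B' ⧸ I) => z.2.1) hc
    simpa [g, rel, ev, Algebra.smul_def, ← map_mul, Ideal.Quotient.eq_zero_iff_mem] using this
  have hcx : c * x ∈ I := by
    have := congrArg (fun z : I × (B' ⧸ I) × (B' ⧸ I) => z.2.2) hc
    simpa [g, rel, ev, Algebra.smul_def, ← map_mul, Ideal.Quotient.eq_zero_iff_mem] using this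
  have hmemI : ∀ P, ev P ∈ I ↔ MvPolynomial.map φ P ∈ Ideal.span {(MvPolynomial.X 0 * MvPolynomial.X 1 - MvPolynomial.C τ.fst : MvPolynomial (Fin 2) A)} := by
    intro P
    have hrelφ : MvPolynomial.map φ rel = MvPolynomial.X 0 * MvPolynomial.X 1 - MvPolynomial.C τ.fst := by
      simp [rel, φ]
    have hmapI : I = (Ideal.map (MvPolynomial.C : TrivSqZeroExt A J →+* _) (RingHom.ker φ)).map ev := by
      show Ideal.map _ _ = Ideal.map (ev : MvPolynomial (Fin 2) (TrivSqZeroExt A J) →+* B') _
      rw [Ideal.map_map]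
      congr 1
      exact (RingHom.ext fun u => AlgHom.commutes ev u).symm
    rw [hmapI, Ideal.mem_map_iff_of_surjective _ hsurj, ← MvPolynomial.ker_map]
    constructor
    · rintro ⟨P₀, hP₀, he⟩
      have h : P - P₀ ∈ RingHom.ker ev := by
        show ev (P - P₀) = 0
        rw [map_sub]
        exact sub_eq_zero.2 he.symm
      rw [hker, Ideal.mem_span_singleton'] at h
      obtain ⟨Q, hQ⟩ := h
      refine Ideal.mem_span_singleton'.2 ⟨MvPolynomial.map φ Q, ?_⟩
      rw [← hrelφ, ← map_mul, hQ, map_sub, RingHom.mem_ker.1 hP₀, sub_zero]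
    · intro h
      obtain ⟨G, hG⟩ := Ideal.mem_span_singleton'.1 h
      obtain ⟨G', rfl⟩ := MvPolynomial.map_surjective φ (fun a => ⟨TrivSqZeroExt.inl a, rfl⟩) G
      refine ⟨P - G' * rel, ?_, ?_⟩
      · rw [RingHom.mem_ker, map_sub, map_mul, hrelφ, hG, sub_self]
      · have hrel : ev rel = 0 := by
          show rel ∈ RingHom.ker ev
          rw [hker]
          exact Ideal.mem_span_singleton_self _
        rw [map_sub, map_mul, hrel, mul_zero, sub_zero]
  have hcI : c ∈ I := by
    obtain ⟨P, rfl⟩ := hsurj c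
    change ev P * y ∈ I at hcy
    change ev P * x ∈ I at hcx
    rw [show y = ev (MvPolynomial.X 1) by simp [ev], ← map_mul, hmemI, map_mul, MvPolynomial.map_X] at hcy
    rw [show x = ev (MvPolynomial.X 0) by simp [ev], ← map_mul, hmemI, map_mul, MvPolynomial.map_X] at hcx
    exact (hmemI P).2 (node_cancel τ.fst _ hcx hcy)
  refine Subtype.ext ?_
  have h0 := congrArg (fun z : I × (B' ⧸ I) × (B' ⧸ I) => (z.1 : B')) hc
  exact h0.symm.trans (congrArg (fun z : I × (B' ⧸ I) × (B' ⧸ I) => (z.1 : B')) (hkill c hcI g))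

end Groth.Agent.S16980
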