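import Groth.Statements.S16982
import Groth.Agent.H1SqZero.Basic
import Mathlib.RingTheory.AdicCompletion.RingHom
import Mathlib.RingTheory.AdicCompletion.Completeness
import Mathlib.RingTheory.MvPowerSeries.Equiv
import Mathlib.RingTheory.MvPowerSeries.Inverse

set_option autoImplicit false
universe u v w w'
open CAlg

namespace Groth.Agent.S16982

/-- Let R be a commutative ring, A a complete Noetherian local R-algebra written as a quotient of a
power series ring over R in finitely many variables by a surjective R-algebra map π, and f : E → A a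
surjective R-algebra map whose kernel has square zero and is finitely generated. Then π lifts along
f to an R-algebra map λ from the power series ring to E with f ∘ λ = π. (The published statement
takes R Artinian local and asks for a lift that is continuous for the adic topologies; this row
allows any commutative R and asks for any lift.) -/
theorem result
    {R : Type u} [CommRing R] {σ : Type v} [Finite σ]
    {A : Type w} {E : Type w'} [CommRing A] [CommRing E] [Algebra R A] [Algebra R E]
    [IsNoetherianRing A] [IsLocalRing A] [IsAdicComplete (IsLocalRing.maximalIdeal A) A]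
    (π : MvPowerSeries σ R →ₐ[R] A) (hπ : Function.Surjective π)
    (f : E →ₐ[R] A) (hf : Function.Surjective f)
    (hsq : RingHom.ker f.toRingHom ^ 2 = ⊥) (hfg : (RingHom.ker f.toRingHom).FG) :
    ∃ l : MvPowerSeries σ R →ₐ[R] E, f.comp l = π := by
  classical
  cases nonempty_fintype σ
  let m := IsLocalRing.maximalIdeal A
  let J := m.comap f.toRingHom
  haveI : IsAdicComplete J E := H1SqZero.isAdicComplete f.toRingHom hf hsq hfg m
  have hX : ∀ i, π (MvPowerSeries.X i) ∈ m := by
    intro i
    rw [IsLocalRing.mem_maximalIdeal, mem_nonunits_iff]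
    intro hu
    obtain ⟨w, hw⟩ := hπ ↑(hu.unit⁻¹)
    have h1 : IsUnit (1 - MvPowerSeries.X i * w) := by
      rw [MvPowerSeries.isUnit_iff_constantCoeff, map_sub, map_mul, MvPowerSeries.constantCoeff_X, zero_mul,
        map_one, sub_zero]; exact isUnit_one
    have := h1.map π
    rw [map_sub, map_mul, hw, IsUnit.mul_val_inv, map_one, sub_self] at this
    exact not_isUnit_zero this
  choose e he using fun i => hf (π (MvPowerSeries.X i))
  have heJ : ∀ i, e i ∈ J := fun i => by show f (e i) ∈ m; rw [he]; exact hX i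
  let φ : MvPolynomial σ R →ₐ[R] E := MvPolynomial.aeval e
  let ψ : ∀ n, (MvPolynomial σ R ⧸ MvPolynomial.idealOfVars σ R ^ n) →ₐ[R] E ⧸ J ^ n := fun n =>
    Ideal.Quotient.liftₐ _ ((Ideal.Quotient.mkₐ R (J ^ n)).comp φ) (fun a ha => by
      show Ideal.Quotient.mk (J ^ n) (φ a) = 0
      rw [Ideal.Quotient.eq_zero_iff_mem]
      refine (?_ : (MvPolynomial.idealOfVars σ R ^ n).map φ.toRingHom ≤ J ^ n) (Ideal.mem_map_of_mem _ ha)
      rw [Ideal.map_pow]
      refine Ideal.pow_right_mono ?_ n
      rw [Ideal.map_span, Ideal.span_le]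
      rintro _ ⟨_, ⟨i, rfl⟩, rfl⟩
      simpa [φ] using heJ i)
  let F : ∀ n, MvPowerSeries σ R →ₐ[R] E ⧸ J ^ n := fun n =>
    (ψ n).comp ((MvPowerSeries.truncTotalAlgHom σ R n).restrictScalars R)
  have hF : ∀ (n : ℕ) (p : MvPowerSeries σ R), F n p = Ideal.Quotient.mk (J ^ n) (φ (MvPowerSeries.truncTotal n p)) :=
    fun n p => rfl
  have hcomp : ∀ {a b : ℕ} (hle : a ≤ b),
      (Ideal.Quotient.factorₐ R (Ideal.pow_le_pow_right hle)).comp (F b) = F a := by
    intro a b hle
    refine AlgHom.ext fun p => ?_
    show Ideal.Quotient.factor (Ideal.pow_le_pow_right hle)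
      (Ideal.Quotient.mk (J ^ b) (φ (MvPowerSeries.truncTotal b p))) =
      Ideal.Quotient.mk (J ^ a) (φ (MvPowerSeries.truncTotal a p))
    rw [Ideal.Quotient.factor_mk, Ideal.Quotient.mk_eq_mk_iff_sub_mem, ← map_sub]
    have h2 := MvPowerSeries.truncTotal_sub_truncTotal_mem_pow_idealOfVars hle (le_refl a) p
    refine (?_ : (MvPolynomial.idealOfVars σ R ^ a).map φ.toRingHom ≤ J ^ a) (Ideal.mem_map_of_mem _ h2)
    rw [Ideal.map_pow]
    refine Ideal.pow_right_mono ?_ a
    rw [Ideal.map_span, Ideal.span_le]
    rintro _ ⟨_, ⟨i, rfl⟩, rfl⟩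
    simpa [φ] using heJ i
  refine ⟨IsAdicComplete.liftAlgHom J F hcomp, AlgHom.ext fun p => ?_⟩
  rw [AlgHom.comp_apply]
  refine sub_eq_zero.1 (IsHausdorff.haus (I := m) (M := A) inferInstance _ fun n => ?_)
  rw [SModEq.zero, smul_eq_mul, Ideal.mul_top]
  set l := IsAdicComplete.liftAlgHom J F hcomp with hl
  set t := MvPowerSeries.truncTotal n p with ht
  have h1 : l p - φ t ∈ J ^ n := by
    rw [← Ideal.Quotient.mk_eq_mk_iff_sub_mem, ← hF n p]
    exact IsAdicComplete.mk_liftAlgHom J F hcomp n p
  have h2 : p - (t : MvPowerSeries σ R) ∈ Ideal.span (Set.range MvPowerSeries.X) ^ n := by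
    let T := MvPowerSeries.toAdicCompletionAlgEquiv σ R
    have h3 : T (p - (t : MvPowerSeries σ R)) ∈
        (MvPolynomial.idealOfVars σ R ^ n • ⊤ : Submodule (MvPolynomial σ R)
          (AdicCompletion (MvPolynomial.idealOfVars σ R) (MvPolynomial σ R))) := by
      rw [AdicCompletion.pow_smul_top_eq_ker_eval (MvPolynomial.idealOfVars_fg σ R), LinearMap.mem_ker]
      show AdicCompletion.eval _ _ n (T _) = 0
      rw [map_sub, map_sub, AdicCompletion.eval_apply, AdicCompletion.eval_apply,
        MvPowerSeries.toAdicCompletionAlgEquiv_apply, MvPowerSeries.toAdicCompletionAlgEquiv_apply,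
        MvPowerSeries.toAdicCompletion_apply_eq_mk_truncTotal, MvPowerSeries.toAdicCompletion_coe,
        AdicCompletion.of_apply]
      exact sub_self _
    have h4 : p - (t : MvPowerSeries σ R) ∈
        (MvPolynomial.idealOfVars σ R ^ n • ⊤ : Submodule (MvPolynomial σ R) (MvPowerSeries σ R)) := by
      have := Submodule.mem_map_of_mem (f := T.symm.toLinearMap) h3
      rw [Submodule.map_smul''] at this
      simpa using Submodule.smul_mono le_rfl le_top this
    rw [Ideal.smul_top_eq_map, Submodule.restrictScalars_mem, Ideal.map_pow, Ideal.map_span,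
      ← Set.range_comp] at h4
    have hX' : (⇑(algebraMap (MvPolynomial σ R) (MvPowerSeries σ R)) ∘ MvPolynomial.X) = MvPowerSeries.X := by
      funext i
      rw [Function.comp_apply, MvPowerSeries.algebraMap_apply', Algebra.algebraMap_self, MvPolynomial.coe_X]
      exact MvPowerSeries.map_X _ _
    rw [hX'] at h4
    exact h4
  have hfφ : f (φ t) = π (t : MvPowerSeries σ R) := by
    rw [← AlgHom.comp_apply, show f.comp φ = π.comp (MvPolynomial.coeToMvPowerSeries.algHom (R := R) R) by
      ext i; simp [φ, he]]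
    simp
  rw [show f (l p) - π p = f (l p - φ t) - π (p - (t : MvPowerSeries σ R)) by
    rw [map_sub, map_sub, hfφ]; ring]
  refine sub_mem ?_ ?_
  · exact (Ideal.map_le_iff_le_comap.2 le_rfl : J.map f.toRingHom ≤ m) |> fun h =>
      Ideal.pow_right_mono h n (Ideal.map_pow f.toRingHom J n ▸ Ideal.mem_map_of_mem f.toRingHom h1)
  · refine (?_ : (Ideal.span (Set.range (MvPowerSeries.X (R := R))) ^ n).map π.toRingHom ≤ m ^ n)
      (Ideal.mem_map_of_mem _ h2)
    rw [Ideal.map_pow]
    refine Ideal.pow_right_mono ?_ n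
    rw [Ideal.map_span, Ideal.span_le]
    rintro _ ⟨_, ⟨i, rfl⟩, rfl⟩
    exact hX i

end Groth.Agent.S16982
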