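import Groth.Statements.S17018
import Groth.Agent.DvrPushIso

set_option autoImplicit false
set_option backward.isDefEq.respectTransparency false
set_option backward.isDefEq.respectTransparency.types false
set_option backward.isDefEq.respectTransparency false
set_option backward.isDefEq.respectTransparency.types false
set_option maxHeartbeats 1000000
set_option linter.style.haveILetI false
universe u
open CategoryTheory CategoryTheory.Limits AlgebraicGeometry
open scoped TensorProduct
open Models

namespace Groth.Agent.S17018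

open Groth.Agent

/-- Let R be a discrete valuation ring with algebraically closed residue field and f : X → Spec R a
proper flat morphism whose generic fibre (base change to the fraction field of R) is smooth of
relative dimension 1 and connected and whose special fibre (base change to the residue field) is
connected and reduced; let ξ be the generic point of an irreducible component of the special fibre
and B a discrete valuation ring given with an isomorphism from the local ring of X at ξ under which
R → B is the map induced by f. Then the maximal ideal of B is the extension of the maximal ideal of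
R: a uniformizer of R maps to a uniformizer of B. (The published setting takes everything
essentially of finite type over a field of characteristic zero; the printed argument does not use
this and it is not imposed here.) -/
theorem result
    (R : Type u) [CommRing R] [IsDomain R] [IsDiscreteValuationRing R]
    [IsAlgClosed (IsLocalRing.ResidueField R)]
    (X : Scheme.{u}) (f : X ⟶ Spec (CommRingCat.of R)) [IsProper f] [Flat f]
    (XK : Scheme.{u}) (gK : XK ⟶ X) (fK : XK ⟶ Spec (CommRingCat.of (FractionRing R)))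
    (hK : IsPullback gK fK f (Spec.map (CommRingCat.ofHom (algebraMap R (FractionRing R)))))
    [SmoothOfRelativeDimension 1 fK] [ConnectedSpace XK]
    (Xs : Scheme.{u}) (gs : Xs ⟶ X) (fs : Xs ⟶ Spec (CommRingCat.of (IsLocalRing.ResidueField R)))
    (hs : IsPullback gs fs f (Spec.map (CommRingCat.ofHom (IsLocalRing.residue R))))
    [ConnectedSpace Xs] [IsReduced Xs]
    (ξ : Xs) (hξ : closure ({ξ} : Set Xs) ∈ irreducibleComponents Xs)
    (B : Type u) [CommRing B] [IsDomain B] [IsDiscreteValuationRing B] [Algebra R B]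
    (e : X.presheaf.stalk (gs.base ξ) ≅ CommRingCat.of B)
    (he : e.hom.hom.comp ((X.presheaf.germ ⊤ (gs.base ξ) trivial).hom.comp (Coh.toGlobal f)) =
      algebraMap R B) :
    IsLocalRing.maximalIdeal B = Ideal.map (algebraMap R B) (IsLocalRing.maximalIdeal R) := by
  obtain ⟨ϖ, hϖ⟩ := IsDiscreteValuationRing.exists_irreducible R
  have hred : IsReduced (f.fiber (IsLocalRing.closedPoint R)) := by
    let P : PrimeSpectrum R := IsLocalRing.closedPoint R
    let eR : IsLocalRing.ResidueField R ≃+* (IsLocalRing.maximalIdeal R).ResidueField :=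
      RingEquiv.ofBijective (algebraMap (R ⧸ IsLocalRing.maximalIdeal R) (IsLocalRing.maximalIdeal R).ResidueField)
        (IsLocalRing.maximalIdeal R).bijective_algebraMap_quotient_residueField
    let e : CommRingCat.of (IsLocalRing.ResidueField R) ≅ (Spec (CommRingCat.of R)).residueField P :=
      eR.toCommRingCatIso ≪≫ (Scheme.Spec.residueFieldIso (CommRingCat.of R) P).symm
    have he' : CommRingCat.ofHom (IsLocalRing.residue R) ≫ eR.toCommRingCatIso.hom =
        CommRingCat.ofHom (algebraMap R P.asIdeal.ResidueField) :=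
      CommRingCat.hom_ext (IsScalarTower.algebraMap_eq R (R ⧸ IsLocalRing.maximalIdeal R)
        (IsLocalRing.maximalIdeal R).ResidueField).symm
    have hsq : IsPullback gs (fs ≫ (asIso (Spec.map e.hom)).inv) f ((Spec (CommRingCat.of R)).fromSpecResidueField P) := by
      refine hs.of_iso (Iso.refl _) (Iso.refl _) (asIso (Spec.map e.hom)).symm (Iso.refl _) (by simp) (by simp) (by simp) ?_
      rw [Iso.refl_hom, Category.comp_id, Iso.symm_hom, Iso.eq_inv_comp, asIso_hom,
        ← Scheme.Spec.map_residueFieldIso_inv_eq_fromSpecResidueField, ← he', Spec.map_comp]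
      simp only [e, Iso.trans_hom, Iso.symm_hom, Spec.map_comp, Category.assoc]
    exact isReduced_of_isOpenImmersion hsq.isoPullback.inv
  haveI := hred
  have hx : f.base (gs.base ξ) = IsLocalRing.closedPoint R := by
    rw [← Scheme.Hom.comp_apply, hs.w, Scheme.Hom.comp_apply]
    rw [show fs.base ξ = IsLocalRing.closedPoint (IsLocalRing.ResidueField R) from Subsingleton.elim (α := PrimeSpectrum (IsLocalRing.ResidueField R)) _ _]
    exact IsLocalRing.comap_closedPoint (IsLocalRing.residue R)
  obtain ⟨V, hV, hxV, -⟩ := exists_isAffineOpen_mem_and_subset (x := gs.base ξ) (U := ⊤) trivial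
  have hgerm : ∀ r : R, e.hom (X.presheaf.germ V (gs.base ξ) hxV (DvrPushIso.str f V r)) = algebraMap R B r := by
    intro r
    rw [← he, RingHom.comp_apply, RingHom.comp_apply, ← DvrPushIso.str_res f (homOfLE le_top : V ⟶ ⊤) r,
      TopCat.Presheaf.germ_res_apply]
    simp [DvrPushIso.str, Coh.toGlobal, Scheme.Hom.appLE, Scheme.Hom.appTop]
  letI := X.presheaf.algebra_section_stalk ⟨gs.base ξ, hxV⟩
  haveI := hV.isLocalization_stalk ⟨gs.base ξ, hxV⟩
  set p := (hV.primeIdealOf ⟨gs.base ξ, hxV⟩).asIdeal
  haveI : Flat f := inferInstance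
  letI : Algebra R Γ(X, V) := (DvrPushIso.str f V).toAlgebra
  haveI : Module.Flat R Γ(X, V) :=
    RingHom.Flat.comp (RingHom.Flat.of_bijective (ConcreteCategory.bijective_of_isIso (Scheme.ΓSpecIso (CommRingCat.of R)).inv))
      (f.flat_appLE (isAffineOpen_top _) hV le_top)
  have hne : algebraMap R B ϖ ≠ 0 := by
    rw [← hgerm, ← map_zero e.hom.hom]
    intro h0
    have h1 := (IsLocalization.map_eq_zero_iff p.primeCompl _ _).1 ((ConcreteCategory.bijective_of_isIso e.hom).1 h0)
    obtain ⟨⟨t, ht⟩, h2⟩ := h1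
    have hreg : IsSMulRegular Γ(X, V) ϖ := Module.IsTorsionFree.isSMulRegular (IsRegular.of_ne_zero hϖ.ne_zero)
    have h3 : t = 0 := hreg (show ϖ • t = ϖ • 0 by rw [smul_zero, Algebra.smul_def, mul_comm]; exact h2)
    exact ht (h3 ▸ p.zero_mem)
  have hnu : ¬ IsUnit (algebraMap R B ϖ) := by
    rw [← he, RingHom.comp_apply, RingHom.comp_apply]
    intro h0
    have h00 := h0.map (e.inv.hom)
    rw [← CommRingCat.comp_apply, Iso.hom_inv_id, CommRingCat.id_apply] at h00
    clear h0
    rename' h00 => h0
    have h1 := (X.toLocallyRingedSpace.toRingedSpace.mem_top_basicOpen _ (gs.base ξ)).2 h0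
    have h2 : gs.base ξ ∈ f ⁻¹ᵁ (Spec (CommRingCat.of R)).basicOpen ((Scheme.ΓSpecIso (CommRingCat.of R)).inv ϖ) := by
      rw [Scheme.preimage_basicOpen]
      exact h1
    have h3 : f.base (gs.base ξ) ∈ (Spec (CommRingCat.of R)).basicOpen ((Scheme.ΓSpecIso (CommRingCat.of R)).inv ϖ) := h2
    rw [hx, basicOpen_eq_of_affine', Iso.inv_hom_id_apply] at h3
    exact h3 ((IsLocalRing.mem_maximalIdeal _).2 hϖ.not_isUnit)
  obtain ⟨π, hπ⟩ := IsDiscreteValuationRing.exists_irreducible B
  obtain ⟨n, u, hu⟩ := IsDiscreteValuationRing.eq_unit_mul_pow_irreducible hne hπ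
  obtain ⟨σ, hσ⟩ := (ConcreteCategory.bijective_of_isIso e.hom).2 π
  obtain ⟨w, hw⟩ := (ConcreteCategory.bijective_of_isIso e.hom).2 (↑u⁻¹ : B)
  obtain ⟨⟨a, s, hs'⟩, ha⟩ := IsLocalization.surj p.primeCompl σ
  obtain ⟨⟨c, t, ht⟩, hc⟩ := IsLocalization.surj p.primeCompl w
  let loc := algebraMap Γ(X, V) (X.presheaf.stalk (gs.base ξ))
  have hloc : ∀ r : R, e.hom (loc (DvrPushIso.str f V r)) = algebraMap R B r := hgerm
  have hn : σ ^ n = loc (DvrPushIso.str f V ϖ) * w := by
    apply (ConcreteCategory.bijective_of_isIso e.hom).1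
    rw [map_pow, map_mul, hloc, hσ, hw, hu, mul_comm _ (↑u⁻¹ : B), ← mul_assoc, Units.inv_mul, one_mul]
  have hrel : loc (a ^ n * t) = loc (DvrPushIso.str f V ϖ * c * s ^ n) := by
    simp only at ha hc
    show loc (a ^ n * t) = _
    rw [map_mul, map_pow, map_mul, map_mul, map_pow, ← ha, ← hc, mul_pow, hn]
    ring
  obtain ⟨⟨r, hr⟩, hr'⟩ := (IsLocalization.eq_iff_exists p.primeCompl (X.presheaf.stalk (gs.base ξ))).1 hrel
  simp only at hr'
  have hn0 : n ≠ 0 := by
    rintro rfl
    exact hnu (hu ▸ by simp)
  obtain ⟨m, rfl⟩ := Nat.exists_eq_succ_of_ne_zero hn0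
  simp only [Nat.succ_eq_add_one] at hr' hn hu hrel
  have hdvd : DvrPushIso.str f V ϖ ∣ (a * r * t) ^ (m + 1) :=
    ⟨c * s ^ (m + 1) * r * (r * t) ^ m, by linear_combination (r * t) ^ m * hr'⟩
  obtain ⟨d, hd⟩ := DvrPushIso.mem_span_of_pow_mem f hϖ hV hdvd
  have hu2 : IsUnit (loc (s * (r * t))) :=
    IsLocalization.map_units (X.presheaf.stalk (gs.base ξ)) (⟨_, p.primeCompl.mul_mem hs' (p.primeCompl.mul_mem hr ht)⟩ : p.primeCompl)
  obtain ⟨v, hv⟩ := hu2
  have hσ' : σ = loc (DvrPushIso.str f V ϖ) * (loc d * ↑v⁻¹) := by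
    rw [← mul_assoc, ← map_mul, ← hd, Units.eq_mul_inv_iff_mul_eq, hv]
    simp only at ha
    rw [map_mul, map_mul, map_mul, map_mul, ← ha]
    ring
  rw [hπ.maximalIdeal_eq, hϖ.maximalIdeal_eq, Ideal.map_span, Set.image_singleton]
  refine le_antisymm (Ideal.span_singleton_le_span_singleton.2 ⟨e.hom (loc d * ↑v⁻¹), ?_⟩)
    (Ideal.span_singleton_le_span_singleton.2 ⟨↑u * π ^ m, ?_⟩)
  · rw [← hloc, ← map_mul, ← hσ', hσ]
  · rw [hu, pow_succ]
    ring

end Groth.Agent.S17018
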