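import Groth.Statements.S17019
import Groth.Agent.DvrGenConn.Tensor
import Groth.Agent.S17018
import Groth.Agent.S17020

set_option autoImplicit false
set_option backward.isDefEq.respectTransparency false
set_option backward.isDefEq.respectTransparency.types false
set_option maxHeartbeats 1000000
set_option linter.style.haveILetI false
universe u
open CategoryTheory CategoryTheory.Limits AlgebraicGeometry
open scoped TensorProduct
open Models

namespace Groth.Agent.S17019

open Groth.Agent

/-- Let R be a discrete valuation ring with algebraically closed residue field and f : X → Spec R a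
proper flat morphism whose generic fibre (base change to the fraction field of R) is smooth of
relative dimension 1 and connected and whose special fibre (base change to the residue field) is
connected and reduced; let ξ be the generic point of an irreducible component of the special fibre
and B a discrete valuation ring given with an isomorphism from the local ring of X at ξ under which
R → B is the map induced by f; let R' be a discrete valuation ring with an injective local
homomorphism R → R' which is generically finite (Frac R ⊗_R R' is a finite module over Frac R). Then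
B ⊗_R R' is an integral domain and a discrete valuation ring. (The published setting takes
everything essentially of finite type over a field of characteristic zero; the printed argument does
not use this and it is not imposed here.) -/
theorem result
    (R : Type u) [CommRing R] [IsDomain R] [IsDiscreteValuationRing R]
    [IsAlgClosed (IsLocalRing.ResidueField R)]
    (X : Scheme.{u}) (f : X ⟶ Spec (CommRingCat.of R)) [IsProper f] [Flat f]
    (XK : Scheme.{u}) (gK : XK ⟶ X) (fK : XK ⟶ Spec (CommRingCat.of (FractionRing R)))
    (hK : IsPullback gK fK f (Spec.map (CommRingCat.ofHom (algebraMap R (FractionRing R)))))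
    [SmoothOfRelativeDimension 1 fK] [ConnectedSpace XK]
    (Xs : Scheme.{u}) (gs : Xs ⟶ X) (fs : Xs ⟶ Spec (CommRingCat.of (IsLocalRing.ResidueField R)))
    (hs : IsPullback gs fs f (Spec.map (CommRingCat.ofHom (IsLocalRing.residue R))))
    [ConnectedSpace Xs] [IsReduced Xs]
    (ξ : Xs) (hξ : closure ({ξ} : Set Xs) ∈ irreducibleComponents Xs)
    (B : Type u) [CommRing B] [IsDomain B] [IsDiscreteValuationRing B] [Algebra R B]
    (e : X.presheaf.stalk (gs.base ξ) ≅ CommRingCat.of B)
    (he : e.hom.hom.comp ((X.presheaf.germ ⊤ (gs.base ξ) trivial).hom.comp (Coh.toGlobal f)) =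
      algebraMap R B)
    (R' : Type u) [CommRing R'] [IsDomain R'] [IsDiscreteValuationRing R'] [Algebra R R']
    (hinj : Function.Injective (algebraMap R R')) [IsLocalHom (algebraMap R R')]
    [Module.Finite (FractionRing R) (FractionRing R ⊗[R] R')] :
    ∃ _ : IsDomain (B ⊗[R] R'), IsDiscreteValuationRing (B ⊗[R] R') := by
  have hmax := S17018.result R X f XK gK fK hK Xs gs fs hs ξ hξ B e he
  have hF := S17020.result R X f XK gK fK hK Xs gs fs hs ξ hξ B e he
  have hinjB : Function.Injective (algebraMap R B) := by
    rw [injective_iff_map_eq_zero]
    intro r hr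
    by_contra hr0
    obtain ⟨ϖ, hϖ⟩ := IsDiscreteValuationRing.exists_irreducible R
    obtain ⟨n, v, rfl⟩ := IsDiscreteValuationRing.eq_unit_mul_pow_irreducible hr0 hϖ
    rw [map_mul, map_pow, (v.isUnit.map (algebraMap R B)).mul_right_eq_zero] at hr
    refine IsDiscreteValuationRing.not_a_field B ?_
    rw [hmax, hϖ.maximalIdeal_eq, Ideal.map_span, Set.image_singleton, eq_zero_of_pow_eq_zero hr,
      Ideal.span_singleton_eq_bot.2 rfl]
  haveI : Algebra.EssFiniteType R B := by
    obtain ⟨V, hV, hxV, -⟩ := exists_isAffineOpen_mem_and_subset (x := gs.base ξ) (U := ⊤) trivial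
    letI : Algebra R Γ(X, V) := (DvrPushIso.str f V).toAlgebra
    letI := X.presheaf.algebra_section_stalk ⟨gs.base ξ, hxV⟩
    haveI := hV.isLocalization_stalk ⟨gs.base ξ, hxV⟩
    haveI : Algebra.FiniteType R Γ(X, V) :=
      (RingHom.FiniteType.of_surjective _ (ConcreteCategory.bijective_of_isIso
        (Scheme.ΓSpecIso (CommRingCat.of R)).inv).2) |> fun h =>
        (f.finiteType_appLE (isAffineOpen_top _) hV le_top).comp h
    letI : Algebra Γ(X, V) B := (e.hom.hom.comp (algebraMap Γ(X, V) (X.presheaf.stalk (gs.base ξ)))).toAlgebra
    haveI : IsScalarTower R Γ(X, V) B := IsScalarTower.of_algebraMap_eq fun r => by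
      show algebraMap R B r = e.hom (X.presheaf.germ V _ hxV (DvrPushIso.str f V r))
      rw [← he, RingHom.comp_apply, RingHom.comp_apply, ← DvrPushIso.str_res f (homOfLE le_top : V ⟶ ⊤) r,
        TopCat.Presheaf.germ_res_apply]
      simp [DvrPushIso.str, Coh.toGlobal, Scheme.Hom.appLE, Scheme.Hom.appTop]
    haveI : IsLocalization (hV.primeIdealOf ⟨gs.base ξ, hxV⟩).asIdeal.primeCompl B :=
      IsLocalization.isLocalization_of_algEquiv _
        { e.commRingCatIsoToRingEquiv with commutes' := fun _ => rfl }
    haveI : Algebra.EssFiniteType Γ(X, V) B :=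
      Algebra.EssFiniteType.of_isLocalization B (hV.primeIdealOf ⟨gs.base ξ, hxV⟩).asIdeal.primeCompl
    exact Algebra.EssFiniteType.comp R Γ(X, V) B
  exact DvrGenConn.isDiscreteValuationRing_tensor R R' B hinjB hmax hF hinj

end Groth.Agent.S17019
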