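import Groth.Statements.S17021
import Groth.Agent.FlatLoc6.SerreNormal
import Groth.Agent.Hartogs.Basic
import Groth.Agent.GGDesc.Semilocal
import Groth.Agent.ParaExt.Key
import Groth.Agent.ParaFX.Functions
import Groth.Agent.Boundary.Glue
import Groth.Agent.H23.SeesawGlobal

set_option autoImplicit false
set_option backward.isDefEq.respectTransparency false
set_option backward.isDefEq.respectTransparency.types false
set_option maxHeartbeats 1000000
set_option linter.style.haveILetI false
universe u
open CategoryTheory CategoryTheory.Limits AlgebraicGeometry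
open PicF

namespace Groth.Agent.S17021
open Groth.Agent Groth.Agent.H23.PicMul

/-- Let X be a locally Noetherian scheme all of whose local rings satisfy Serre's condition (S₂), p a
closed point of X whose local ring has Krull dimension 2, U the open complement of p and L an
invertible O_U-module. Suppose L extends to an invertible module over an étale neighbourhood of p:
there are an étale morphism j : V → X, a point q of V with j(q) = p and an invertible O_V-module M
whose pullback to j⁻¹(U) is isomorphic to the pullback of L along j⁻¹(U) → U. Then L extends to X: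
some invertible O_X-module has pullback to U isomorphic to L. (Stated for schemes; the published
statement is for a Deligne–Mumford stack of dimension 2 satisfying (S₂) and its proof passes to a
scheme on an étale chart. Dimension 2 is imposed here on the local ring at p. The published setting
takes everything essentially of finite type over a field of characteristic zero; here X is only
assumed locally Noetherian.) -/
theorem result {X : Scheme.{u}} [IsLocallyNoetherian X]
    (hS2 : ∀ x : X, LocCoh.HasSk 2 (X.presheaf.stalk x) (X.presheaf.stalk x))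
    (p : X) (hp : IsClosed ({p} : Set X)) (hdim : ringKrullDim (X.presheaf.stalk p) = 2)
    (U : X.Opens) (hU : (U : Set X) = {p}ᶜ)
    (L : (U : Scheme.{u}).Modules) (hL : PicF.IsInvertible L)
    {V : Scheme.{u}} (j : V ⟶ X) [Etale j] (q : V) (hq : j.base q = p)
    (M : V.Modules) (hM : PicF.IsInvertible M)
    (e : (Scheme.Modules.pullback (j ⁻¹ᵁ U).ι).obj M ≅ (Scheme.Modules.pullback (j ∣_ U)).obj L) :
    ∃ N : X.Modules, PicF.IsInvertible N ∧ Nonempty ((Scheme.Modules.pullback U.ι).obj N ≅ L) := by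
  classical
  subst hq
  let A := X.presheaf.stalk (j.base q)
  let g0 := X.fromSpecStalk (j.base q)
  have hc : g0 (IsLocalRing.closedPoint A) = j.base q := Scheme.fromSpecStalk_closedPoint
  have hpre : g0 ⁻¹ᵁ U = FEt.puncturedSpec A := by
    ext z
    show g0 z ∈ (U : Set X) ↔ z ∈ ({IsLocalRing.closedPoint A}ᶜ : Set (PrimeSpectrum A))
    rw [hU]
    exact not_congr ⟨fun h => g0.isEmbedding.injective (h.trans hc.symm), fun h => h ▸ hc⟩
  let P : (Spec A).Opens := g0 ⁻¹ᵁ U
  -- functions on the punctured spectrum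
  have hdepth : ∀ z : PrimeSpectrum A, z ∉ P →
      (2 : ℕ∞) ≤ LocCoh.depth (Localization.AtPrime z.asIdeal) (Localization.AtPrime z.asIdeal) := fun z hz => by
    have hz' : z = IsLocalRing.closedPoint A := by
      by_contra h
      exact hz (hpre.ge h)
    have h := (FlatLoc6.hasSk_self_iff 2).1 (hS2 (j.base q)) z.asIdeal
    have hh : z.asIdeal.height = 2 := by
      subst hz'
      refine WithBot.coe_injective ?_
      exact (IsLocalRing.maximalIdeal_height_eq_ringKrullDim (R := A)).trans hdim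
    rw [hh] at h
    exact (le_min le_rfl le_rfl).trans h
  have hbij : Function.Bijective ((Spec A).presheaf.map (homOfLE (le_top : P ≤ ⊤)).op) :=
    Hartogs.spec_bijective A P hdepth
  let eA : A ≃+* Γ((P : Scheme.{u}), ⊤) :=
    ((Scheme.ΓSpecIso A).symm.commRingCatIsoToRingEquiv.trans (RingEquiv.ofBijective _ hbij)).trans
      P.topIso.symm.commRingCatIsoToRingEquiv
  haveI : IsLocalRing Γ((P : Scheme.{u}), ⊤) := eA.isLocalRing
  haveI : Finite (MaximalSpectrum Γ((P : Scheme.{u}), ⊤)) := inferInstance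
  -- the flat cover
  let g := Spec.map (j.stalkMap q)
  have hflat : (j.stalkMap q).hom.Flat := Flat.stalkMap (f := j) q
  haveI : IsLocalHom (j.stalkMap q).hom := inferInstance
  haveI : Flat g := (HasRingHomProperty.Spec_iff (P := @Flat)).2 hflat
  haveI : Surjective g := by
    constructor
    letI := (j.stalkMap q).hom.toAlgebra
    haveI : Module.Flat A (V.presheaf.stalk q) := hflat
    haveI : IsLocalHom (algebraMap A (V.presheaf.stalk q)) := inferInstanceAs (IsLocalHom (j.stalkMap q).hom)
    haveI : Module.FaithfullyFlat A (V.presheaf.stalk q) := Module.FaithfullyFlat.of_flat_of_isLocalHom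
    exact PrimeSpectrum.comap_surjective_of_faithfullyFlat (A := A) (B := V.presheaf.stalk q)
  have hgj : g ≫ g0 = V.fromSpecStalk q ≫ j := Scheme.SpecMap_stalkMap_fromSpecStalk j
  let f' := (g ⁻¹ᵁ P).ι
  have hsub : Set.range (f' ≫ V.fromSpecStalk q) ⊆ Set.range (j ⁻¹ᵁ U).ι := by
    rintro _ ⟨z, rfl⟩
    rw [Scheme.Opens.range_ι]
    show j ((f' ≫ V.fromSpecStalk q) z) ∈ U
    rw [← Scheme.Hom.comp_apply, Category.assoc, ← hgj, Scheme.Hom.comp_apply, Scheme.Hom.comp_apply]
    exact z.2
  let h := IsOpenImmersion.lift (j ⁻¹ᵁ U).ι (f' ≫ V.fromSpecStalk q) hsub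
  have hh1 : h ≫ (j ⁻¹ᵁ U).ι = f' ≫ V.fromSpecStalk q := IsOpenImmersion.lift_fac _ _ _
  have hh2 : h ≫ (j ∣_ U) = (g ∣_ P) ≫ (g0 ∣_ U) := by
    rw [← cancel_mono U.ι, Category.assoc, Category.assoc, morphismRestrict_ι, morphismRestrict_ι,
      reassoc_of% hh1, ← hgj]
    exact (morphismRestrict_ι_assoc g P g0).symm
  obtain ⟨eM⟩ := ParaFX.picTrivial_spec_local (V.presheaf.stalk q) _
    (PicClLib.isInvertible_pullback (V.fromSpecStalk q) hM)
  have htriv : PicF.pullCl (g ∣_ P) (PicF.pullCl (g0 ∣_ U) (PicF.cl L)) = 1 := by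
    rw [PicClLib.pullCl_comp, ← hh2, ← PicClLib.pullCl_comp]
    have he : PicF.pullCl (j ∣_ U) (PicF.cl L) = PicF.pullCl (j ⁻¹ᵁ U).ι (PicF.cl M) :=
      (H23.PicMul.cl_eq_iff.2 ⟨e⟩).symm
    rw [he, PicClLib.pullCl_comp, hh1, ← PicClLib.pullCl_comp]
    have hone : PicF.pullCl (V.fromSpecStalk q) (PicF.cl M) = 1 :=
      (H23.PicMul.cl_eq_iff.2 ⟨eM⟩).trans H23.PicMul.one_def.symm
    rw [hone, H23.PicMul.pullCl_one]
  obtain ⟨eT⟩ := H23.PicMul.cl_eq_iff.1 (htriv.trans H23.PicMul.one_def)
  have hL0 := GGDesc.nonempty_iso_of_trivial (f := P.ι) (isPullback_morphismRestrict g P)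
    (PicClLib.isInvertible_pullback (g0 ∣_ U) hL) eT
  have hL1 : PicF.pullCl (g0 ∣_ U) (PicF.cl L) = 1 :=
    (H23.PicMul.cl_eq_iff.2 hL0).trans H23.PicMul.one_def.symm
  obtain ⟨W, hqW, hW⟩ := ParaExt.exists_pullCl_eq_one U L hL hL1
  obtain ⟨eW⟩ := H23.PicMul.cl_eq_iff.1 (hW.trans H23.PicMul.one_def)
  obtain ⟨t, ht⟩ := H23.SeesawGlobal.exists_frame_of_triv (X.homOfLE (inf_le_right : W ⊓ U ≤ U)) ⟨eW⟩
  have hrange : (X.homOfLE (inf_le_right : W ⊓ U ≤ U)).opensRange = U.ι ⁻¹ᵁ W := by
    rw [Scheme.opensRange_homOfLE]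
    ext z
    exact ⟨fun hz => hz.1, fun hz => ⟨hz, z.2⟩⟩
  -- gluing
  choose O hzO s hs using fun z : (U : Scheme.{u}) => InvX.exists_frame hL z
  let Vv : Option (U : Scheme.{u}) → X.Opens := fun i => i.elim W fun z => U.ι ''ᵁ O z
  let ee : ∀ i, Γ((Scheme.Modules.pushforward U.ι).obj L, Vv i) := fun i => match i with
    | some z => AModX.res L (U.ι.preimage_image_eq (O z)).le (s z)
    | none => AModX.res L hrange.ge t
  have hee : ∀ i, InvX.IsFrame (AModX.res _ (inf_le_left : Vv i ⊓ U ≤ Vv i) (ee i)) := fun i => match i with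
    | some z => (Boundary.isFrame_push U L (U.ι_image_le (O z)) _
        ((hs z).res (U.ι.preimage_image_eq (O z)).le)).res _
    | none => by
      have hle : U.ι ⁻¹ᵁ (W ⊓ U) ≤ U.ι ⁻¹ᵁ W := fun z hz => hz.1
      exact Boundary.isFrame_push U L inf_le_right _ ((ht.res hrange.ge).res hle)
  have hcov : ∀ x, ∃ i, x ∈ Vv i := fun x =>
    if hx : x ∈ U then ⟨some ⟨x, hx⟩, ⟨⟨x, hx⟩, hzO _, rfl⟩⟩
    else ⟨none, by
      have : x ∉ ({j.base q}ᶜ : Set X) := hU ▸ hx
      rw [Set.mem_compl_iff, not_not, Set.mem_singleton_iff] at this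
      exact this ▸ hqW⟩
  have hov : ∀ i k, i ≠ k → Vv i ⊓ Vv k ≤ U := fun i k hik x hx => by
    match i, k with
    | some z, _ => exact U.ι_image_le (O z) hx.1
    | none, some z => exact U.ι_image_le (O z) hx.2
    | none, none => exact absurd rfl hik
  obtain ⟨N, φ, f, hN, -, -, hb⟩ := Boundary.exists_glue _ U Vv hcov hov ee hee
  obtain ⟨eN⟩ := Boundary.nonempty_restrict_iso U φ hb
  exact ⟨N, hN, ⟨((Scheme.Modules.restrictFunctorIsoPullback U.ι).app N).symm ≪≫ eN⟩⟩

end Groth.Agent.S17021
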