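import Groth.Statements.S17023
import Mathlib
import Groth.Agent.GeomReg.Basic
import Groth.Agent.RegLoc6.Basic

set_option autoImplicit false
set_option linter.style.haveILetI false
universe u
open FlatMor

namespace Groth.Agent.S17023

/-- Let B be a discrete valuation ring, A a B-algebra of finite type and p a prime ideal of A which lies
over the maximal ideal of B (a point of the special fibre), at which A is smooth over B (the
localization A_p is formally smooth over B), and such that B maps onto the residue field κ(p). Then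
there are a discrete valuation ring B' and a ring map ψ : A → B' pulling the maximal ideal of B'
back to p, such that the composite B → A → B' is injective, the maximal ideal of B generates the
maximal ideal of B', and B maps onto the residue field of B'; in other words Spec B' → Spec A → Spec
B is surjective and unramified with trivial residue field extension. (The published statement does
not say that the closed point of Spec B' goes to p; it is required here. The published setting takes
A essentially of finite type over a field of characteristic zero; here A is taken of finite type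
over B, with no ground field.) -/
theorem result
    (B : Type u) [CommRing B] [IsDomain B] [IsDiscreteValuationRing B]
    (A : Type u) [CommRing A] [Algebra B A] [Algebra.FiniteType B A]
    (p : Ideal A) [p.IsPrime] (hp : p.comap (algebraMap B A) = IsLocalRing.maximalIdeal B)
    [Algebra.IsSmoothAt B p]
    (hres : Function.Surjective ((algebraMap A p.ResidueField).comp (algebraMap B A))) :
    ∃ (B' : Type u) (_ : CommRing B') (_ : IsDomain B') (_ : IsDiscreteValuationRing B') (ψ : A →+* B'),
      Ideal.comap ψ (IsLocalRing.maximalIdeal B') = p ∧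
      Function.Injective (ψ.comp (algebraMap B A)) ∧
      Ideal.map (ψ.comp (algebraMap B A)) (IsLocalRing.maximalIdeal B) = IsLocalRing.maximalIdeal B' ∧
      Function.Surjective ((IsLocalRing.residue B').comp (ψ.comp (algebraMap B A))) := by
  haveI : Algebra.FinitePresentation B A := Algebra.FinitePresentation.of_finiteType.1 inferInstance
  haveI : IsNoetherianRing A := Algebra.FiniteType.isNoetherianRing B A
  let R := Localization.AtPrime p
  obtain ⟨ϖ, hϖ⟩ := IsDiscreteValuationRing.exists_irreducible B
  have hmax : IsLocalRing.maximalIdeal B = Ideal.span {ϖ} := hϖ.maximalIdeal_eq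
  haveI : IsRegularLocalRing R := by
    obtain ⟨f, hf, hs⟩ := Algebra.IsSmoothAt.exists_notMem_smooth B p
    haveI := Groth.Agent.GeomReg.isRegularRing_of_smooth B (Localization.Away f)
    exact Groth.Agent.GeomReg.isRegularLocalRing_of_away f (Localization.Away f) p hf
  let π : R := algebraMap B R ϖ
  have hlocB : ∀ b : B, algebraMap B R b ∈ IsLocalRing.maximalIdeal R ↔ b ∈ IsLocalRing.maximalIdeal B := fun b => by
    rw [IsScalarTower.algebraMap_apply B A R, IsLocalization.AtPrime.to_map_mem_maximal_iff R p, ← hp]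
    rfl
  have hπ : π ∈ IsLocalRing.maximalIdeal R := (hlocB ϖ).2 (hmax ▸ Ideal.mem_span_singleton_self ϖ)
  have hresR : Function.Surjective ((IsLocalRing.residue R).comp (algebraMap B R)) := fun y => by
    obtain ⟨b, hb⟩ := hres y
    exact ⟨b, hb⟩
  have hπ2 : π ∉ IsLocalRing.maximalIdeal R ^ 2 := by
    intro hmem
    let Q := B ⧸ Ideal.span {ϖ ^ 2}
    let g : Q →ₐ[B] IsLocalRing.ResidueField R :=
      Ideal.Quotient.liftₐ (Ideal.span {ϖ ^ 2}) (Algebra.ofId B _) fun b hb => by
        obtain ⟨c, rfl⟩ := Ideal.mem_span_singleton.1 hb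
        show IsLocalRing.residue R (algebraMap B R (ϖ ^ 2 * c)) = 0
        rw [IsLocalRing.residue_eq_zero_iff, map_mul, map_pow, pow_two]
        exact Ideal.mul_mem_right _ _ (Ideal.mul_mem_right _ _ hπ)
    have hg : Function.Surjective g := fun y => by
      obtain ⟨b, hb⟩ := hresR y
      exact ⟨Ideal.Quotient.mk _ b, hb⟩
    have hker : RingHom.ker g = Ideal.span {Ideal.Quotient.mk (Ideal.span {ϖ ^ 2}) ϖ} := by
      refine le_antisymm (fun q hq => ?_) (Ideal.span_le.2 (Set.singleton_subset_iff.2 ?_))
      · obtain ⟨b, rfl⟩ := Ideal.Quotient.mk_surjective q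
        have hb : b ∈ Ideal.span {ϖ} := hmax ▸ (hlocB b).1 ((IsLocalRing.residue_eq_zero_iff _).1 (RingHom.mem_ker.1 hq))
        obtain ⟨c, rfl⟩ := Ideal.mem_span_singleton.1 hb
        exact Ideal.mem_span_singleton.2 ⟨Ideal.Quotient.mk _ c, map_mul _ _ _⟩
      · exact RingHom.mem_ker.2 ((IsLocalRing.residue_eq_zero_iff _).2 hπ)
    have hnil : IsNilpotent (RingHom.ker g) := ⟨2, by
      rw [hker, Ideal.span_singleton_pow, ← map_pow]
      exact Ideal.span_singleton_eq_bot.2 (Ideal.Quotient.eq_zero_iff_mem.2 (Ideal.mem_span_singleton_self _))⟩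
    let h := Algebra.FormallySmooth.liftOfSurjective (IsScalarTower.toAlgHom B R (IsLocalRing.ResidueField R)) g hg hnil
    have hh : ∀ r : R, g (h r) = IsLocalRing.residue R r := fun r =>
      Algebra.FormallySmooth.liftOfSurjective_apply _ g hg hnil r
    have h1 : (IsLocalRing.maximalIdeal R).map h.toRingHom ≤ RingHom.ker g := by
      rw [Ideal.map_le_iff_le_comap]
      intro r hr
      exact RingHom.mem_ker.2 ((hh r).trans ((IsLocalRing.residue_eq_zero_iff r).2 hr))
    have h2 : h π ∈ (IsLocalRing.maximalIdeal R ^ 2).map h.toRingHom := Ideal.mem_map_of_mem _ hmem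
    rw [Ideal.map_pow] at h2
    have h3 := Ideal.pow_right_mono h1 2 h2
    rw [hker, Ideal.span_singleton_pow, show h π = algebraMap B Q ϖ from h.commutes ϖ,
      Ideal.mem_span_singleton] at h3
    obtain ⟨c, hc⟩ := h3
    rw [← map_pow, Ideal.Quotient.eq_zero_iff_mem.2 (Ideal.mem_span_singleton_self (ϖ ^ 2)), zero_mul] at hc
    obtain ⟨d, hd⟩ := Ideal.mem_span_singleton.1 (Ideal.Quotient.eq_zero_iff_mem.1 hc)
    refine hϖ.not_isUnit (IsUnit.of_mul_eq_one d (mul_left_cancel₀ hϖ.ne_zero ?_))
    rw [mul_one, ← mul_assoc, ← pow_two]; exact hd.symm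
  obtain ⟨t, ht, hcard⟩ := Groth.Agent.RegLoc6.exists_generators_insert hπ hπ2
  let I : Ideal R := Ideal.span (t : Set R)
  have hIm : I ≤ IsLocalRing.maximalIdeal R := ht ▸ Ideal.span_mono (Set.subset_insert _ _)
  haveI : Nontrivial (R ⧸ I) :=
    Ideal.Quotient.nontrivial_iff.2 (ne_top_of_le_ne_top (IsLocalRing.maximalIdeal.isMaximal R).ne_top hIm)
  haveI : IsLocalRing (R ⧸ I) := IsLocalRing.of_surjective' (Ideal.Quotient.mk I) Ideal.Quotient.mk_surjective
  have hm' : IsLocalRing.maximalIdeal (R ⧸ I) = Ideal.span {Ideal.Quotient.mk I π} := by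
    rw [← Groth.Agent.RegLoc6.map_maximalIdeal_quot, ht, Ideal.span_insert, Ideal.map_sup, Ideal.map_quotient_self,
      sup_bot_eq, Ideal.map_span, Set.image_singleton]
  have hdim : (1 : WithBot ℕ∞) ≤ ringKrullDim (R ⧸ I) := by
    have h1 : ringKrullDim R ≤ ringKrullDim (R ⧸ I) + (t : Set R).encard := by
      refine ringKrullDim_le_ringKrullDim_quotient_add_encard (t : Set R) ?_
      rw [IsLocalRing.ringJacobson_eq_maximalIdeal]
      exact fun x hx => hIm (Ideal.subset_span hx)
    rw [← (isRegularLocalRing_iff R).1 inferInstance, Set.encard_coe_eq_coe_finsetCard] at h1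
    have h2 : (1 : WithBot ℕ∞) + (t.card : WithBot ℕ∞) ≤ ringKrullDim (R ⧸ I) + (t.card : WithBot ℕ∞) :=
      le_trans (by rw [add_comm]; exact_mod_cast hcard) h1
    exact ENat.WithBot.add_le_add_natCast_right_iff.1 h2
  have hnf : ¬ IsField (R ⧸ I) := fun h => by
    rw [ringKrullDim_eq_zero_of_isField h] at hdim
    exact not_lt_of_ge hdim zero_lt_one
  haveI : IsRegularLocalRing (R ⧸ I) := IsRegularLocalRing.of_spanFinrank_maximalIdeal_le _ (by
    refine le_trans ?_ hdim
    rw [hm']
    exact_mod_cast (Submodule.spanFinrank_span_le_ncard_of_finite (Set.finite_singleton _)).trans_eq (Set.ncard_singleton _))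
  haveI : IsDomain (R ⧸ I) := Groth.Agent.RegLoc6.isDomain_of_isRegularLocalRing _
  haveI hdvr : IsDiscreteValuationRing (R ⧸ I) :=
    ((IsDiscreteValuationRing.TFAE (R ⧸ I) hnf).out 0 4 rfl rfl).2 ⟨⟨_, hm'⟩⟩
  let ψ : A →+* R ⧸ I := (Ideal.Quotient.mk I).comp (algebraMap A R)
  have hψ : ∀ b, ψ (algebraMap B A b) = Ideal.Quotient.mk I (algebraMap B R b) := fun b => by
    rw [IsScalarTower.algebraMap_apply B A R]; rfl
  have hmc : (IsLocalRing.maximalIdeal (R ⧸ I)).comap (Ideal.Quotient.mk I) = IsLocalRing.maximalIdeal R :=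
    IsLocalRing.eq_maximalIdeal (Ideal.comap_isMaximal_of_surjective _ Ideal.Quotient.mk_surjective)
  refine ⟨R ⧸ I, inferInstance, inferInstance, hdvr, ψ, ?_, ?_, ?_, ?_⟩
  · rw [← Ideal.comap_comap, hmc]
    exact IsLocalization.AtPrime.under_maximalIdeal R p
  · refine (injective_iff_map_eq_zero _).2 fun b hb => by_contra fun hb0 => ?_
    obtain ⟨n, u, rfl⟩ := IsDiscreteValuationRing.eq_unit_mul_pow_irreducible hb0 hϖ
    simp only [RingHom.coe_comp, Function.comp_apply, map_mul, map_pow, hψ] at hb
    rcases mul_eq_zero.1 hb with h | h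
    · exact ((u.isUnit.map (algebraMap B R)).map (Ideal.Quotient.mk I)).ne_zero h
    · refine hnf (IsLocalRing.isField_iff_maximalIdeal_eq.2 ?_)
      rw [hm', Ideal.span_singleton_eq_bot.2 (eq_zero_of_pow_eq_zero h)]
  · rw [hmax, Ideal.map_span, Set.image_singleton, hm', RingHom.comp_apply, hψ]
  · intro y
    obtain ⟨z, rfl⟩ := Ideal.Quotient.mk_surjective y
    obtain ⟨z, rfl⟩ := Ideal.Quotient.mk_surjective z
    obtain ⟨b, hb⟩ := hresR (IsLocalRing.residue R z)
    refine ⟨b, ?_⟩
    show IsLocalRing.residue (R ⧸ I) (ψ (algebraMap B A b)) = IsLocalRing.residue (R ⧸ I) _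
    rw [hψ, ← sub_eq_zero, ← map_sub, ← map_sub, IsLocalRing.residue_eq_zero_iff, ← Ideal.mem_comap, hmc,
      ← IsLocalRing.residue_eq_zero_iff, map_sub, sub_eq_zero]
    exact hb

end Groth.Agent.S17023
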