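import Groth.Statements.S17024
import Groth.Agent.IndCoh.Extension

set_option backward.isDefEq.respectTransparency false
set_option backward.isDefEq.respectTransparency.types false

set_option autoImplicit false
open CategoryTheory CategoryTheory.Limits
universe u
open FSch

namespace Groth.Agent.S17024

set_option maxHeartbeats 1000000

/-- Let 𝔛 be a Noetherian formal scheme (an adic system of thickenings with locally Noetherian levels
whose common underlying space is quasi-compact) and F₀ ⟶ F₁ ⟶ F₂ ⟶ F₃ ⟶ F₄ an exact sequence of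
O_𝔛-modules. If F₀, F₁, F₃ and F₄ are each a small filtered colimit of coherent O_𝔛-modules, then so
is F₂. (The published statement takes direct limits over directed sets; small filtered colimits of
coherent modules yield the same class of modules. It is stated there for 𝔛 only locally Noetherian;
without quasi-compactness of the underlying space the assertion can fail, so it is stated here for
Noetherian 𝔛.) -/
theorem result (𝔛 : FSch.Sys.{u}) (h𝔛 : 𝔛.IsLocNoethFormal)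
    [CompactSpace (𝔛.X 0)] (S : ComposableArrows (FSch.ModF 𝔛 h𝔛.1) 4) (hS : S.Exact)
    (h₀ : (ObjectProperty.ind.{u} fun 𝔊 : FSch.ModF 𝔛 h𝔛.1 => FSch.IsCohF 𝔛 h𝔛.1 𝔊) (S.obj 0)) (h₁ : (ObjectProperty.ind.{u} fun 𝔊 : FSch.ModF 𝔛 h𝔛.1 => FSch.IsCohF 𝔛 h𝔛.1 𝔊) (S.obj 1)) (h₃ : (ObjectProperty.ind.{u} fun 𝔊 : FSch.ModF 𝔛 h𝔛.1 => FSch.IsCohF 𝔛 h𝔛.1 𝔊) (S.obj 3)) (h₄ : (ObjectProperty.ind.{u} fun 𝔊 : FSch.ModF 𝔛 h𝔛.1 => FSch.IsCohF 𝔛 h𝔛.1 𝔊) (S.obj 4)) :
    (ObjectProperty.ind.{u} fun 𝔊 : FSch.ModF 𝔛 h𝔛.1 => FSch.IsCohF 𝔛 h𝔛.1 𝔊) (S.obj 2) := by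
  have hc := hS.toIsComplex
  let u : S.obj 0 ⟶ S.obj 1 := S.map' 0 1
  let v : S.obj 1 ⟶ S.obj 2 := S.map' 1 2
  let w : S.obj 2 ⟶ S.obj 3 := S.map' 2 3
  let z : S.obj 3 ⟶ S.obj 4 := S.map' 3 4
  have huv : u ≫ v = 0 := hc.zero 0
  have hvw : v ≫ w = 0 := hc.zero 1
  have hwz : w ≫ z = 0 := hc.zero 2
  have e₁ : (ShortComplex.mk u v huv).Exact := hS.exact 0
  have e₂ : (ShortComplex.mk v w hvw).Exact := hS.exact 1
  have e₃ : (ShortComplex.mk w z hwz).Exact := hS.exact 2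
  have hw' : cokernel.desc u v huv ≫ kernel.lift z w hwz = 0 := by
    rw [← cancel_mono (kernel.ι z), Category.assoc, kernel.lift_ι, zero_comp]
    exact coequalizer.hom_ext ((cokernel.π_desc_assoc _ _ _ _).trans (hvw.trans comp_zero.symm))
  haveI : Mono (cokernel.desc u v huv) := (ShortComplex.exact_iff_mono_cokernel_desc _).mp e₁
  haveI : Epi (kernel.lift z w hwz) := (ShortComplex.exact_iff_epi_kernel_lift _).mp e₃
  have hT : (ShortComplex.mk _ _ hw').ShortExact :=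
    { exact := IndCoh.exact_sandwich e₂ (cokernel.π u) _ (cokernel.π_desc _ _ _) _ (kernel.ι z) (kernel.lift_ι _ _ _) hw' }
  exact (IndCoh.Gd.extension h𝔛 _ hT (IndCoh.Gd.cokernel h𝔛 u (IndCoh.Gd.of_ind h𝔛 h₀) (IndCoh.Gd.of_ind h𝔛 h₁))
    ((IndCoh.Gd.of_ind h𝔛 h₃).kernelGd h𝔛 (IndCoh.Gd.of_ind h𝔛 h₄) z)).ind h𝔛

end Groth.Agent.S17024
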