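import Groth.Statements.S17073
import Groth.Agent.LC.HTensor
import Groth.Agent.LC.Connected
import Mathlib.Algebra.Category.ModuleCat.Monoidal.Closed
import Mathlib.Algebra.Category.ModuleCat.ChangeOfRings

set_option autoImplicit false
open CategoryTheory
universe u
open LocCoh

namespace Groth.Agent.S17073

/-- Let R → S be a homomorphism of Noetherian rings, J an ideal of S containing elements u₁, …, u_d such
that S/(u₁, …, u_d) is a finite R-module and J lies in the radical of (u₁, …, u_d), and let F be a
finite R-module. Then the functor sending an S-module E to the set Hom_R(H^d_J(E), F) (d-th local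
cohomology supported in J, scalars restricted to R) is representable by an S-module. (The published
statement gives the representing module as the degree −d cohomology of RHom_R(RΓ_J S, F) and a
bifunctorial isomorphism; only representability is asserted here.) -/
theorem result
    (R S : Type u) [CommRing R] [CommRing S] [IsNoetherianRing R] [IsNoetherianRing S] [Algebra R S]
    (J : Ideal S) (d : ℕ) (u : Fin d → S) (hu : ∀ i, u i ∈ J)
    (hJ : J ≤ (Ideal.span (Set.range u)).radical) [Module.Finite R (S ⧸ Ideal.span (Set.range u))]
    (F : Type u) [AddCommGroup F] [Module R F] [Module.Finite R F] :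
    ((localCohomology J d ⋙ ModuleCat.restrictScalars (algebraMap R S)).op ⋙
      yoneda.obj (ModuleCat.of R F)).IsRepresentable := by
  classical
  let H : ModuleCat.{u} S := (localCohomology J d).obj (ModuleCat.of S S)
  have hspan : Ideal.span (Set.range u) ≤ J := Ideal.span_le.2 (by rintro _ ⟨i, rfl⟩; exact hu i)
  have hrad : (Ideal.span (Set.range u)).radical = J.radical :=
    le_antisymm (Ideal.radical_mono hspan) ((Ideal.radical_mono hJ).trans (Ideal.radical_idem _).le)
  let T : Finset S := Finset.univ.image u
  have hT : Ideal.span (T : Set S) = Ideal.span (Set.range u) := by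
    simp only [T, Finset.coe_image, Finset.coe_univ, Set.image_univ]
  have hcard : T.card ≤ d := Finset.card_image_le.trans (by simp)
  have hcd : LocCoh.CdLE S J T.card :=
    Groth.Agent.LC.cdLE_of_radical_eq (by rw [hT]; exact hrad) (Groth.Agent.LC.cdLE_span_finset T)
  have hvan : ∀ (N : ModuleCat.{u} S), Module.Finite S N → Subsingleton ((localCohomology J (d + 1)).obj N) :=
    fun N _ => hcd N (d + 1) (by omega)
  have e : MonoidalCategory.tensorLeft H ≅ localCohomology J d :=
    NatIso.ofComponents
      (fun M => LinearEquiv.toModuleIso (LinearEquiv.ofBijective (Groth.Agent.LC.htensor J d M)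
        (Groth.Agent.LC.htensor_bijective J d hvan M)))
      (fun {M N} f => ModuleCat.hom_ext (LinearMap.ext fun t =>
        Groth.Agent.LC.htensor_natural J d f t))
  let adj := ((ihom.adjunction H).ofNatIsoLeft e).comp
    (ModuleCat.restrictCoextendScalarsAdj (algebraMap R S))
  exact ⟨⟨_, ⟨adj.representableBy (ModuleCat.of R F)⟩⟩⟩

end Groth.Agent.S17073
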