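import Groth.Statements.S17074
import Groth.Agent.IndCoh.Stage
import Groth.Agent.IndCoh.KanExact

set_option autoImplicit false
set_option backward.isDefEq.respectTransparency false
set_option backward.isDefEq.respectTransparency.types false
open CategoryTheory CategoryTheory.Limits
universe v' u' u
open FSch AlgebraicGeometry TopologicalSpace Opposite

namespace Groth.Agent.S17074

open Groth.Agent in
theorem final_of_mono {C : Type*} [Category C] {D : Type*} [Category D] (L : C ⥤ D) [L.Faithful]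
    {J : Type*} [Category J] [IsFilteredOrEmpty J] {X : D} (F : J ⥤ CostructuredArrow L X)
    (hm : ∀ j, Mono (F.obj j).hom)
    (h : ∀ g : CostructuredArrow L X, ∃ (j : J) (l : g.left ⟶ (F.obj j).left), L.map l ≫ (F.obj j).hom = g.hom) :
    F.Final := by
  refine Functor.final_of_exists_of_isFiltered F (fun g => ?_) (fun {g j} s s' => ⟨j, 𝟙 j, ?_⟩)
  · obtain ⟨j, l, hl⟩ := h g
    exact ⟨j, ⟨CostructuredArrow.homMk l hl⟩⟩
  · have : s = s' := CostructuredArrow.hom_ext _ _ (L.map_injective ((cancel_mono (F.obj j).hom).mp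
      ((CostructuredArrow.w s).trans (CostructuredArrow.w s').symm)))
    rw [this]

open Groth.Agent in
set_option maxHeartbeats 4000000 in
theorem preservesExact {𝔛 : FSch.Sys.{u}} (h𝔛 : 𝔛.IsLocNoethFormal) [CompactSpace (𝔛.X 0)]
    [ObjectProperty.ContainsZero (fun 𝔊 : FSch.ModF 𝔛 h𝔛.1 => FSch.IsCohF 𝔛 h𝔛.1 𝔊)] [ObjectProperty.IsClosedUnderKernels (fun 𝔊 : FSch.ModF 𝔛 h𝔛.1 => FSch.IsCohF 𝔛 h𝔛.1 𝔊)]
    [ObjectProperty.IsClosedUnderCokernels (fun 𝔊 : FSch.ModF 𝔛 h𝔛.1 => FSch.IsCohF 𝔛 h𝔛.1 𝔊)] [ObjectProperty.IsClosedUnderFiniteProducts (fun 𝔊 : FSch.ModF 𝔛 h𝔛.1 => FSch.IsCohF 𝔛 h𝔛.1 𝔊)]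
    {A' : Type u'} [Category.{v'} A'] [Abelian A'] [HasFilteredColimitsOfSize.{u, u} A'] [AB5OfSize.{u, u} A']
    (G : ObjectProperty.FullSubcategory (fun 𝔊 : FSch.ModF 𝔛 h𝔛.1 => FSch.IsCohF 𝔛 h𝔛.1 𝔊) ⥤ A') [PreservesFiniteLimits G] [PreservesFiniteColimits G]
    (hle : (fun 𝔊 : FSch.ModF 𝔛 h𝔛.1 => FSch.IsCohF 𝔛 h𝔛.1 𝔊) ≤ ObjectProperty.ind.{u} (fun 𝔊 : FSch.ModF 𝔛 h𝔛.1 => FSch.IsCohF 𝔛 h𝔛.1 𝔊))
    [(ObjectProperty.ιOfLE hle).HasPointwiseLeftKanExtension G] :
    PreservesFiniteLimits ((ObjectProperty.ιOfLE hle).pointwiseLeftKanExtension G) ∧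
      PreservesFiniteColimits ((ObjectProperty.ιOfLE hle).pointwiseLeftKanExtension G) := by
  let P : ObjectProperty (FSch.ModF 𝔛 h𝔛.1) := fun 𝔊 => FSch.IsCohF 𝔛 h𝔛.1 𝔊
  let Q : ObjectProperty (FSch.ModF 𝔛 h𝔛.1) := ObjectProperty.ind.{u} P
  let L := ObjectProperty.ιOfLE hle
  obtain ⟨_, _, _, _⟩ := IndCoh.ind_closure h𝔛
  haveI : L.Additive := ⟨fun {_ _ _ _} => rfl⟩
  haveI : G.Additive := Functor.additive_of_preserves_binary_products G
  haveI hPl : PreservesFiniteLimits P.ι := by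
    haveI : ∀ {X Y : P.FullSubcategory} (f : X ⟶ Y), PreservesLimit (parallelPair f 0) P.ι :=
      fun {X Y} f => P.preservesKernels_ι f
    exact Functor.preservesFiniteLimits_of_preservesKernels P.ι
  haveI hPr : PreservesFiniteColimits P.ι := by
    haveI : ∀ {X Y : P.FullSubcategory} (f : X ⟶ Y), PreservesColimit (parallelPair f 0) P.ι :=
      fun {X Y} f => P.preservesCokernels_ι f
    exact Functor.preservesFiniteColimits_of_preservesCokernels P.ι
  haveI : PreservesFiniteLimits Q.ι := by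
    haveI : ∀ {X Y : Q.FullSubcategory} (f : X ⟶ Y), PreservesLimit (parallelPair f 0) Q.ι :=
      fun {X Y} f => Q.preservesKernels_ι f
    exact Functor.preservesFiniteLimits_of_preservesKernels Q.ι
  haveI : PreservesFiniteColimits Q.ι := by
    haveI : ∀ {X Y : Q.FullSubcategory} (f : X ⟶ Y), PreservesColimit (parallelPair f 0) Q.ι :=
      fun {X Y} f => Q.preservesCokernels_ι f
    exact Functor.preservesFiniteColimits_of_preservesCokernels Q.ι
  haveI : (L.pointwiseLeftKanExtension G).Additive := by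
    refine IndCoh.Kan.additive L G fun {Y} B a b => ?_
    obtain ⟨J, _, _, p, hp, hm⟩ := (IndCoh.Gd.of_ind h𝔛 Y.property).exists_presentation h𝔛
    have hs := IndCoh.locSurj_of_isColimit h𝔛 p.cocone p.isColimit
    obtain ⟨j₁, g₁, h₁⟩ := IndCoh.exists_factor_stage h𝔛 p.cocone hm hs B.property a.hom
    obtain ⟨j₂, g₂, h₂⟩ := IndCoh.exists_factor_stage h𝔛 p.cocone hm hs B.property b.hom
    let k : CostructuredArrow L Y :=
      CostructuredArrow.mk (Y := (⟨p.diag.obj (IsFiltered.max j₁ j₂), hp _⟩ : P.FullSubcategory))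
        (ObjectProperty.homMk (p.ι.app (IsFiltered.max j₁ j₂)))
    exact ⟨k, ObjectProperty.homMk (g₁ ≫ p.diag.map (IsFiltered.leftToMax j₁ j₂)),
      ObjectProperty.homMk (g₂ ≫ p.diag.map (IsFiltered.rightToMax j₁ j₂)),
      ObjectProperty.hom_ext _ ((Category.assoc _ _ _).trans ((congrArg (g₁ ≫ ·) (p.cocone.w _)).trans h₁)),
      ObjectProperty.hom_ext _ ((Category.assoc _ _ _).trans ((congrArg (g₂ ≫ ·) (p.cocone.w _)).trans h₂))⟩
  refine ((Functor.exact_tfae (L.pointwiseLeftKanExtension G)).out 0 3).mp ?_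
  intro S hS
  have hS' : (S.map Q.ι).ShortExact := hS.map_of_exact Q.ι
  haveI := hS'.mono_f
  haveI := hS'.epi_g
  obtain ⟨J, _, _, p, hp, hm⟩ := (IndCoh.Gd.of_ind h𝔛 S.X₂.property).exists_presentation h𝔛
  have hs := IndCoh.locSurj_of_isColimit h𝔛 p.cocone p.isColimit
  let u : S.X₂.obj ⟶ S.X₃.obj := S.g.hom
  let f : S.X₁.obj ⟶ S.X₂.obj := S.f.hom
  haveI : Mono f := hS'.mono_f
  haveI : Epi u := hS'.epi_g
  let φ : ∀ j, p.diag.obj j ⟶ S.X₃.obj := fun j => p.ι.app j ≫ u
  have hK : ∀ j, P (Limits.kernel (φ j)) := fun j => (IndCoh.Gd.of_ind h𝔛 S.X₃.property).kernel h𝔛 (hp j) _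
  have hN : ∀ j, P (Abelian.coimage (φ j)) := fun j => IndCoh.isCohF_coimage h𝔛 (hp j) _ (hK j)
  have hφ : ∀ {i j : J} (t : i ⟶ j), p.diag.map t ≫ φ j = φ i := fun t => p.cocone.w_assoc t u
  let K : J ⥤ FSch.ModF 𝔛 h𝔛.1 := IndCoh.kerDiag h𝔛 p.cocone u
  let N : J ⥤ FSch.ModF 𝔛 h𝔛.1 :=
    { obj := fun j => Abelian.coimage (φ j)
      map := fun {i j} t => cokernel.map _ _ (kernel.map (φ i) (φ j) (p.diag.map t) (𝟙 _)
        (by rw [Category.comp_id, hφ])) (p.diag.map t) (by simp)
      map_id := fun j => coequalizer.hom_ext (by simp)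
      map_comp := fun _ _ => coequalizer.hom_ext (by simp) }
  let kf : KernelFork u := KernelFork.ofι f (S.map Q.ι).zero
  let hkf : IsLimit kf := hS'.fIsKernel
  let a : ∀ j, Limits.kernel (φ j) ⟶ S.X₁.obj := fun j => hkf.lift (KernelFork.ofι (kernel.ι (φ j) ≫ p.ι.app j)
    ((Category.assoc _ _ _).trans (kernel.condition (φ j))))
  have ha : ∀ j, a j ≫ f = kernel.ι (φ j) ≫ p.ι.app j := fun j => Fork.IsLimit.lift_ι hkf
  have ham : ∀ j, Mono (a j) := fun j => by
    haveI := hm j
    haveI : Mono (a j ≫ f) := by rw [ha]; exact mono_comp _ _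
    exact mono_of_mono _ f
  let cN : Cocone N :=
    { pt := S.X₃.obj
      ι :=
        { app := fun j => Abelian.factorThruCoimage (φ j)
          naturality := fun i j t => coequalizer.hom_ext (by
            show cokernel.π _ ≫ _ = cokernel.π _ ≫ _
            simp only [N, cokernel.π_desc_assoc, Category.assoc, Functor.const_obj_map, Category.comp_id]
            exact (congrArg (p.diag.map t ≫ ·) (Abelian.coimage.fac _)).trans ((hφ t).trans (Category.comp_id _).symm)) } }
  have hcN : IndCoh.LocSurj (O := 𝔛.Osh h𝔛.1) fun j => cN.ι.app j := by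
    intro U s x hx
    obtain ⟨T, hT, hl⟩ := SuppCore.exists_cover_lift u s
    obtain ⟨V, e, he, hxV⟩ := hT x hx
    obtain ⟨m, hm'⟩ := hl e he
    obtain ⟨j, W, e', hxW, t, ht⟩ := hs V m x hxV
    refine ⟨j, W, e'.trans e.le, hxW, (Abelian.coimage.π (φ j)).val.app (op W) t, ?_⟩
    refine (IndCoh.app_congr (Abelian.coimage.fac (φ j)) W t).trans ?_
    refine (congrArg (fun z => u.val.app (op W) z) ht).trans ?_
    refine (FModLib.mapp_res _ u e' m).trans ?_
    exact (congrArg (FModLib.mres _ e') hm').trans (FModLib.mres_mres _ _ _ _)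
  let F₁ : J ⥤ CostructuredArrow L S.X₁ :=
    { obj := fun j => CostructuredArrow.mk (Y := (⟨Limits.kernel (φ j), hK j⟩ : P.FullSubcategory))
        (ObjectProperty.homMk (a j))
      map := fun {i j} t => CostructuredArrow.homMk (ObjectProperty.homMk (K.map t)) (ObjectProperty.hom_ext _
        ((cancel_mono f).mp (by
          show (K.map t ≫ a j) ≫ f = a i ≫ f
          rw [Category.assoc, ha, ha]
          exact ((Category.assoc _ _ _).symm.trans (congrArg (· ≫ p.ι.app j) (kernel.lift_ι _ _ _))).trans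
            ((Category.assoc _ _ _).trans (congrArg (kernel.ι (φ i) ≫ ·) (p.cocone.w t))))))
      map_id := fun j => CostructuredArrow.hom_ext _ _ (ObjectProperty.hom_ext _ (K.map_id j))
      map_comp := fun s t => CostructuredArrow.hom_ext _ _ (ObjectProperty.hom_ext _ (K.map_comp s t)) }
  let F₂ : J ⥤ CostructuredArrow L S.X₂ :=
    { obj := fun j => CostructuredArrow.mk (Y := (⟨p.diag.obj j, hp j⟩ : P.FullSubcategory))
        (ObjectProperty.homMk (p.ι.app j))
      map := fun {i j} t => CostructuredArrow.homMk (ObjectProperty.homMk (p.diag.map t))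
        (ObjectProperty.hom_ext _ (p.cocone.w t))
      map_id := fun j => CostructuredArrow.hom_ext _ _ (ObjectProperty.hom_ext _ (p.diag.map_id j))
      map_comp := fun s t => CostructuredArrow.hom_ext _ _ (ObjectProperty.hom_ext _ (p.diag.map_comp s t)) }
  let F₃ : J ⥤ CostructuredArrow L S.X₃ :=
    { obj := fun j => CostructuredArrow.mk (Y := (⟨N.obj j, hN j⟩ : P.FullSubcategory))
        (ObjectProperty.homMk (cN.ι.app j))
      map := fun {i j} t => CostructuredArrow.homMk (ObjectProperty.homMk (N.map t))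
        (ObjectProperty.hom_ext _ (cN.w t))
      map_id := fun j => CostructuredArrow.hom_ext _ _ (ObjectProperty.hom_ext _ (N.map_id j))
      map_comp := fun s t => CostructuredArrow.hom_ext _ _ (ObjectProperty.hom_ext _ (N.map_comp s t)) }
  have hmN : ∀ j, Mono (cN.ι.app j) := fun j => inferInstanceAs (Mono (Abelian.factorThruCoimage (φ j)))
  haveI : F₁.Final := final_of_mono L F₁ (fun j => by
      haveI := ham j
      exact Q.ι.mono_of_mono_map (f := (F₁.obj j).hom) (inferInstanceAs (Mono (a j)))) fun g => by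
    obtain ⟨j, l, hl⟩ := IndCoh.exists_factor_stage h𝔛 p.cocone hm hs g.left.property (g.hom.hom ≫ f)
    have h0 : l ≫ φ j = 0 := by
      refine (Category.assoc _ _ _).symm.trans ((congrArg (· ≫ u) hl).trans ?_)
      exact (Category.assoc _ _ _).trans ((congrArg (g.hom.hom ≫ ·) (S.map Q.ι).zero).trans comp_zero)
    refine ⟨j, ObjectProperty.homMk (kernel.lift (φ j) l h0), ObjectProperty.hom_ext _ ((cancel_mono f).mp ?_)⟩
    show (kernel.lift (φ j) l h0 ≫ a j) ≫ f = _
    rw [Category.assoc, ha, kernel.lift_ι_assoc]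
    exact hl
  haveI : F₂.Final := final_of_mono L F₂ (fun j => by
      haveI := hm j
      exact Q.ι.mono_of_mono_map (f := (F₂.obj j).hom) (inferInstanceAs (Mono (p.ι.app j)))) fun g => by
    obtain ⟨j, l, hl⟩ := IndCoh.exists_factor_stage h𝔛 p.cocone hm hs g.left.property g.hom.hom
    exact ⟨j, ObjectProperty.homMk l, ObjectProperty.hom_ext _ hl⟩
  haveI : F₃.Final := final_of_mono L F₃ (fun j => by
      haveI := hmN j
      exact Q.ι.mono_of_mono_map (f := (F₃.obj j).hom) (inferInstanceAs (Mono (cN.ι.app j)))) fun g => by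
    obtain ⟨j, l, hl⟩ := IndCoh.exists_factor_stage h𝔛 cN hmN hcN g.left.property g.hom.hom
    exact ⟨j, ObjectProperty.homMk l, ObjectProperty.hom_ext _ hl⟩
  refine IndCoh.Kan.shortExact_map L G S F₁ F₂ F₃
    { app := fun j => ObjectProperty.homMk (kernel.ι (φ j))
      naturality := fun i j t => ObjectProperty.hom_ext _ (kernel.lift_ι _ _ _) }
    { app := fun j => ObjectProperty.homMk (Abelian.coimage.π (φ j))
      naturality := fun i j t => ObjectProperty.hom_ext _ (cokernel.π_desc _ _ _).symm }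
    (fun j => ObjectProperty.hom_ext _ (ha j).symm)
    (fun j => ObjectProperty.hom_ext _ (Abelian.coimage.fac (φ j))) fun j => ?_
  let T : ShortComplex P.FullSubcategory := ShortComplex.mk
    (ObjectProperty.homMk (kernel.ι (φ j)) : (F₁.obj j).left ⟶ (F₂.obj j).left)
    (ObjectProperty.homMk (Abelian.coimage.π (φ j)) : (F₂.obj j).left ⟶ (F₃.obj j).left)
    (ObjectProperty.hom_ext _ (cokernel.condition _))
  have hT' : (T.map P.ι).ShortExact :=
    { exact := ShortComplex.exact_of_g_is_cokernel _ (cokernelIsCokernel (kernel.ι (φ j)))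
      mono_f := inferInstanceAs (Mono (kernel.ι (φ j)))
      epi_g := inferInstanceAs (Epi (cokernel.π (kernel.ι (φ j)))) }
  have hT : T.ShortExact :=
    { exact := (T.exact_map_iff_of_faithful P.ι).mp hT'.exact
      mono_f := P.ι.mono_of_mono_map hT'.mono_f
      epi_g := P.ι.epi_of_epi_map hT'.epi_g }
  exact ⟨_, hT.map_of_exact G⟩

/-- Let 𝔛 be a Noetherian formal scheme (an adic system of thickenings with locally Noetherian levels
and quasi-compact underlying space); let A_c be the full subcategory of coherent O_𝔛-modules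
(assumed, as holds, to contain 0 and to be closed under kernels, cokernels and finite products,
hence abelian) inside the full subcategory A of small filtered colimits of coherent modules. For an
abelian category A' with exact small filtered colimits and an exact functor G : A_c ⥤ A', the
pointwise left Kan extension of G along the inclusion A_c ⥤ A (assumed to exist; it is the
filtered-colimit-preserving extension of G, whose value at a module M is the colimit of G over the
coherent submodules of M) is exact: it preserves finite limits and finite colimits. (The published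
statement assumes 𝔛 only locally Noetherian. On the scheme glued from the spectra of the local rings
ℤ_(p), p ranging over all primes, along their common generic point, viewed as a formal scheme with
zero ideal of definition, the structure sheaf is the increasing union of the coherent ideals J_n
equal to the unit ideal at the first n closed points and to the maximal ideal at the others; for G
the product over all closed points of the stalk functors, with values in abelian groups, the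
extension of G does not carry the epimorphism from the direct sum of the J_n onto the structure
sheaf to an epimorphism. The last step of the published proof needs every coherent module to be a
Noetherian object, so 𝔛 is taken Noetherian here, which is the case in which the lemma is applied.) -/
theorem result (𝔛 : FSch.Sys.{u}) (h𝔛 : 𝔛.IsLocNoethFormal)
    [CompactSpace (𝔛.X 0)]
    [ObjectProperty.ContainsZero (fun 𝔊 : FSch.ModF 𝔛 h𝔛.1 => FSch.IsCohF 𝔛 h𝔛.1 𝔊)] [ObjectProperty.IsClosedUnderKernels (fun 𝔊 : FSch.ModF 𝔛 h𝔛.1 => FSch.IsCohF 𝔛 h𝔛.1 𝔊)]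
    [ObjectProperty.IsClosedUnderCokernels (fun 𝔊 : FSch.ModF 𝔛 h𝔛.1 => FSch.IsCohF 𝔛 h𝔛.1 𝔊)] [ObjectProperty.IsClosedUnderFiniteProducts (fun 𝔊 : FSch.ModF 𝔛 h𝔛.1 => FSch.IsCohF 𝔛 h𝔛.1 𝔊)]
    {A' : Type u'} [Category.{v'} A'] [Abelian A'] [HasFilteredColimitsOfSize.{u, u} A'] [AB5OfSize.{u, u} A']
    (G : ObjectProperty.FullSubcategory (fun 𝔊 : FSch.ModF 𝔛 h𝔛.1 => FSch.IsCohF 𝔛 h𝔛.1 𝔊) ⥤ A') [PreservesFiniteLimits G] [PreservesFiniteColimits G]
    [(ObjectProperty.ιOfLE (ObjectProperty.le_ind (fun 𝔊 : FSch.ModF 𝔛 h𝔛.1 => FSch.IsCohF 𝔛 h𝔛.1 𝔊) : (fun 𝔊 : FSch.ModF 𝔛 h𝔛.1 => FSch.IsCohF 𝔛 h𝔛.1 𝔊) ≤ ObjectProperty.ind.{u} (fun 𝔊 : FSch.ModF 𝔛 h𝔛.1 => FSch.IsCohF 𝔛 h𝔛.1 𝔊))).HasPointwiseLeftKanExtension G] :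
    PreservesFiniteLimits ((ObjectProperty.ιOfLE (ObjectProperty.le_ind (fun 𝔊 : FSch.ModF 𝔛 h𝔛.1 => FSch.IsCohF 𝔛 h𝔛.1 𝔊) : (fun 𝔊 : FSch.ModF 𝔛 h𝔛.1 => FSch.IsCohF 𝔛 h𝔛.1 𝔊) ≤ ObjectProperty.ind.{u} (fun 𝔊 : FSch.ModF 𝔛 h𝔛.1 => FSch.IsCohF 𝔛 h𝔛.1 𝔊))).pointwiseLeftKanExtension G) ∧
      PreservesFiniteColimits ((ObjectProperty.ιOfLE (ObjectProperty.le_ind (fun 𝔊 : FSch.ModF 𝔛 h𝔛.1 => FSch.IsCohF 𝔛 h𝔛.1 𝔊) : (fun 𝔊 : FSch.ModF 𝔛 h𝔛.1 => FSch.IsCohF 𝔛 h𝔛.1 𝔊) ≤ ObjectProperty.ind.{u} (fun 𝔊 : FSch.ModF 𝔛 h𝔛.1 => FSch.IsCohF 𝔛 h𝔛.1 𝔊))).pointwiseLeftKanExtension G) := by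
  exact preservesExact h𝔛 G _

end Groth.Agent.S17074
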