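import Groth.Statements.S17076
import Groth.Agent.FibIso.BaseChange

set_option autoImplicit false
universe u
open CategoryTheory CategoryTheory.Limits AlgebraicGeometry
open MorSch

namespace Groth.Agent.S17076

/-- Let S be a locally Noetherian scheme, X and Y schemes proper over S with X flat over S, and f : X →
Y an S-morphism. Then there is an open subset S₀ of S such that, for every locally Noetherian scheme
S' and every morphism h : S' → S, the image of h lies in S₀ if and only if the base change X ×_S S'
→ Y ×_S S' of f is an isomorphism. (The published statement also supposes that some fibre of f is an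
isomorphism; that hypothesis only serves to make S₀ nonempty and is not needed.) -/
theorem result
    {S : Scheme.{u}} [IsLocallyNoetherian S] (X Y : Over S) [IsProper X.hom] [IsProper Y.hom]
    [Flat X.hom] (f : X ⟶ Y) :
    ∃ S₀ : S.Opens, ∀ (S' : Scheme.{u}) [IsLocallyNoetherian S'] (h : S' ⟶ S),
      Set.range h ⊆ (S₀ : Set S) ↔ IsIso ((Over.pullback h).map f).left := by
  have e : f.left ≫ Y.hom = X.hom := Over.w f
  haveI : IsProper (f.left ≫ Y.hom) := by rw [e]; infer_instance
  haveI : Flat (f.left ≫ Y.hom) := by rw [e]; infer_instance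
  haveI : LocallyOfFinitePresentation (f.left ≫ Y.hom) := LocallyOfFinitePresentation.iff_locallyOfFiniteType.2 inferInstance
  haveI : IsProper f.left := IsProper.of_comp f.left Y.hom
  refine ⟨⟨_, Groth.Agent.FibIso.isOpen_setOf_isIso_fiberMap f.left Y.hom⟩, fun S' _ h => ?_⟩
  let f' := ((Over.pullback h).map f).left
  have hY := IsPullback.of_hasPullback Y.hom h
  have h1 : f' ≫ pullback.fst Y.hom h = pullback.fst X.hom h ≫ f.left := pullback.lift_fst _ _ _
  have h2 : f' ≫ pullback.snd Y.hom h = pullback.snd X.hom h := pullback.lift_snd _ _ _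
  have hX : IsPullback (pullback.fst X.hom h) f' f.left (pullback.fst Y.hom h) :=
    IsPullback.of_bot (by rw [h2, e]; exact IsPullback.of_hasPullback X.hom h) h1.symm hY
  refine ⟨fun hr => ?_, fun hiso => ?_⟩
  · haveI := Groth.Agent.FibIso.isIso_restrict f.left Y.hom
      ⟨_, Groth.Agent.FibIso.isOpen_setOf_isIso_fiberMap f.left Y.hom⟩ fun s hs => hs
    exact Groth.Agent.FibIso.isIso_baseChange_of_isIso_restrict hY hX
      ⟨_, Groth.Agent.FibIso.isOpen_setOf_isIso_fiberMap f.left Y.hom⟩ hr
  · rintro _ ⟨t', rfl⟩
    haveI : IsIso f' := hiso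
    exact Groth.Agent.FibIso.isIso_fiberMap_of_isIso_baseChange hY hX t'

end Groth.Agent.S17076
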