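import Groth.Statements.S17080


set_option autoImplicit false
universe u
open CategoryTheory CategoryTheory.Limits AlgebraicGeometry
open MorSch

namespace Groth.Agent.S17080

/-- Let gX : X → S be proper and flat, gY : Y → S separated and j : U → Y an open immersion, and suppose
the functor Mor_S(X, Y) — S-schemes T ↦ S-morphisms T ×_S X → Y — is represented by an S-scheme M
via e. Then there are an open subset M₀ of M and a representation e₀ of Mor_S(X, U) by the open
subscheme M₀ (viewed over S through M) which is compatible with e: for every S-morphism φ : T → M₀,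
the S-morphism T ×_S X → Y classified by φ followed by the inclusion M₀ → M is the S-morphism T ×_S
X → U classified by φ, followed by j. In particular the morphism Mor_S(X, U) → Mor_S(X, Y) induced
by j is an open immersion. (Published for X projective and flat and Y quasi-projective over a
locally Noetherian S, which is how M is known to exist there; representability is taken as a
hypothesis here.) -/
theorem result
    {X Y U S : Scheme.{u}} (gX : X ⟶ S) [IsProper gX] [Flat gX] (gY : Y ⟶ S) [IsSeparated gY]
    (j : U ⟶ Y) [IsOpenImmersion j] (M : Over S) (e : (Flatn.morS gX gY).RepresentableBy M) :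
    ∃ (M₀ : M.left.Opens)
      (e₀ : (Flatn.morS gX (j ≫ gY)).RepresentableBy (Over.mk (M₀.ι ≫ M.hom))),
      ∀ (T : Over S) (φ : T ⟶ Over.mk (M₀.ι ≫ M.hom)),
        (e.homEquiv (φ ≫ Over.homMk M₀.ι rfl) :
            (Over.map gX).obj ((Over.pullback gX).obj T) ⟶ Over.mk gY) =
          (e₀.homEquiv φ : (Over.map gX).obj ((Over.pullback gX).obj T) ⟶ Over.mk (j ≫ gY)) ≫
            (Over.homMk j rfl : Over.mk (j ≫ gY) ⟶ Over.mk gY) := by
  classical
  let P : Scheme.{u} := ((Over.map gX).obj ((Over.pullback gX).obj M)).left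
  let ev : (Over.map gX).obj ((Over.pullback gX).obj M) ⟶ Over.mk gY := e.homEquiv (𝟙 M)
  let C : Set P := ev.left ⁻¹' (Set.range j)ᶜ
  have hCc : IsClosed C :=
    (j.isOpenEmbedding.isOpen_range.isClosed_compl).preimage ev.left.continuous
  have hq : IsClosedMap (pullback.fst M.hom gX) := (pullback.fst M.hom gX).isClosedMap
  let M₀ : M.left.Opens := ⟨((pullback.fst M.hom gX) '' C)ᶜ, (hq C hCc).isOpen_compl⟩
  let incl : Over.mk (M₀.ι ≫ M.hom) ⟶ M := Over.homMk M₀.ι rfl
  let jO : Over.mk (j ≫ gY) ⟶ Over.mk gY := Over.homMk j rfl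
  let bc : ∀ {T : Over S}, (T ⟶ M) → ((Over.map gX).obj ((Over.pullback gX).obj T) ⟶
      (Over.map gX).obj ((Over.pullback gX).obj M)) :=
    fun φ => (Over.map gX).map ((Over.pullback gX).map φ)
  have he : ∀ {T : Over S} (φ : T ⟶ M),
      (e.homEquiv φ : (Over.map gX).obj ((Over.pullback gX).obj T) ⟶ Over.mk gY) = bc φ ≫ ev := by
    intro T φ
    have := e.homEquiv_comp φ (𝟙 M)
    rw [Category.comp_id] at this
    exact this
  have hpb : ∀ {T : Over S} (φ : T ⟶ M),
      IsPullback (bc φ).left (pullback.fst T.hom gX) (pullback.fst M.hom gX) φ.left := by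
    intro T φ
    have h1 : (bc φ).left = pullback.lift (pullback.fst T.hom gX ≫ φ.left) (pullback.snd T.hom gX)
        (by rw [Category.assoc, Over.w φ, pullback.condition]) := by
      apply pullback.hom_ext <;> simp [bc]
    rw [h1]
    refine IsPullback.of_right (h₁₂ := pullback.snd M.hom gX) (h₂₂ := M.hom) ?_ (pullback.lift_fst _ _ _) ((IsPullback.of_hasPullback M.hom gX).flip)
    rw [pullback.lift_snd]
    have h := (IsPullback.of_hasPullback T.hom gX).flip
    simpa [Over.w φ] using h
  have key : ∀ {T : Over S} (φ : T ⟶ M),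
      Set.range φ.left ⊆ (M₀ : Set M.left) ↔ Set.range ((bc φ ≫ ev).left) ⊆ Set.range j := by
    intro T φ
    constructor
    · rintro h _ ⟨z, rfl⟩
      by_contra hz
      apply h ⟨pullback.fst T.hom gX z, rfl⟩
      refine ⟨(bc φ).left z, by simpa [C] using hz, ?_⟩
      have := congrArg (fun m => m z) (hpb φ).w
      simpa using this
    · rintro h _ ⟨t, rfl⟩ ⟨w, hw, hwt⟩
      obtain ⟨z, hz1, hz2⟩ := Scheme.exists_preimage_of_isPullback (hpb φ) w t hwt
      exact hw (by
        have h2 := h ⟨z, rfl⟩
        simpa [hz1] using h2)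
  haveI : IsOpenImmersion incl.left := inferInstanceAs (IsOpenImmersion M₀.ι)
  haveI : Mono incl := (Over.forget S).mono_of_mono_map (show Mono M₀.ι from inferInstance)
  haveI : Mono jO := (Over.forget S).mono_of_mono_map (show Mono j from inferInstance)
  have hfac : ∀ {T : Over S} (φ : T ⟶ Over.mk (M₀.ι ≫ M.hom)),
      Set.range ((bc (φ ≫ incl) ≫ ev).left) ⊆ Set.range j := by
    intro T φ
    refine (key _).1 ?_
    rintro _ ⟨t, rfl⟩
    exact (φ.left t).2
  let F : ∀ (T : Over S), (T ⟶ Over.mk (M₀.ι ≫ M.hom)) →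
      ((Over.map gX).obj ((Over.pullback gX).obj T) ⟶ Over.mk (j ≫ gY)) := fun T φ =>
    Over.homMk (IsOpenImmersion.lift j (bc (φ ≫ incl) ≫ ev).left (hfac φ)) (by
      change IsOpenImmersion.lift j _ (hfac φ) ≫ j ≫ gY = _
      rw [← Category.assoc, IsOpenImmersion.lift_fac]
      exact Over.w _)
  have hF : ∀ (T : Over S) (φ : T ⟶ Over.mk (M₀.ι ≫ M.hom)),
      F T φ ≫ jO = e.homEquiv (φ ≫ incl) := by
    intro T φ
    rw [he]
    ext : 1
    exact IsOpenImmersion.lift_fac _ _ _
  have hbij : ∀ T : Over S, Function.Bijective (F T) := by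
    intro T
    constructor
    · intro a b hab
      have := congrArg (· ≫ jO) hab
      simp only [hF] at this
      exact (cancel_mono incl).1 (e.homEquiv.injective this)
    · intro b
      let ψ : T ⟶ M := e.homEquiv.symm (b ≫ jO)
      have hψ : bc ψ ≫ ev = b ≫ jO := by
        rw [← he]
        exact e.homEquiv.apply_symm_apply _
      have hr : Set.range ψ.left ⊆ (M₀ : Set M.left) := by
        refine (key ψ).2 ?_
        rw [hψ]
        rintro _ ⟨z, rfl⟩
        exact ⟨b.left z, rfl⟩
      refine ⟨Over.homMk (IsOpenImmersion.lift M₀.ι ψ.left (by simpa using hr)) ?_, ?_⟩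
      · change IsOpenImmersion.lift M₀.ι ψ.left _ ≫ M₀.ι ≫ M.hom = _
        rw [← Category.assoc, IsOpenImmersion.lift_fac]
        exact Over.w _
      · apply (cancel_mono jO).1
        rw [hF]
        conv_rhs => rw [← hψ, ← he]
        congr 1
        ext : 1
        exact IsOpenImmersion.lift_fac _ _ _
  refine ⟨M₀, { homEquiv := fun {T} => Equiv.ofBijective (F T) (hbij T), homEquiv_comp := ?_ }, ?_⟩
  · intro T T' f g
    change F T (f ≫ g) = (Over.map gX).map ((Over.pullback gX).map f) ≫ F T' g
    apply (cancel_mono jO).1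
    rw [Category.assoc, hF, hF, Category.assoc]
    exact e.homEquiv_comp f (g ≫ incl)
  · intro T φ
    exact (hF T φ).symm

end Groth.Agent.S17080
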