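import Groth.Statements.S17081
import Groth.Agent.S17082


set_option autoImplicit false
set_option linter.style.haveILetI false
set_option backward.isDefEq.respectTransparency false
set_option backward.isDefEq.respectTransparency.types false
universe u
open CategoryTheory CategoryTheory.Limits AlgebraicGeometry
open MorSch

namespace Groth.Agent.S17081

/-- Let S and S' be Noetherian schemes, h : S' → S and f : X → S morphisms, and (H, Z) a pair
representing the Hilbert functor of X over S on locally Noetherian S-schemes (H locally Noetherian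
over S; Z ⊆ X ×_S H closed, proper and flat over H; every closed subscheme of X ×_S T proper and
flat over a locally Noetherian S-scheme T is the pullback of Z along a unique S-morphism T → H),
with H locally of finite type over S. Write X' = X ×_S S' → S' and H' = H ×_S S' → S', and let Z' ⊆
X' ×_{S'} H' be the closed subscheme pulled back from Z along the morphism X' ×_{S'} H' → X ×_S H
induced by the projections X' → X and H' → H. Then (H', Z') represents the Hilbert functor of X'
over S'. (Published for X flat and projective over S, which is how (H, Z) is known to exist there;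
representability is taken as a hypothesis here; the hypothesis that H is locally of finite type over
S is added here (it holds for the Hilbert scheme of a flat projective scheme) so that H ×_S S' is
locally Noetherian.) -/
theorem result
    {X S S' : Scheme.{u}} [IsNoetherian S] [IsNoetherian S'] (f : X ⟶ S) (h : S' ⟶ S)
    (H : Over S) (Z : FGA.HilbSet f H) (hH : FGA.HilbRepresentedBy f H Z)
    [LocallyOfFiniteType H.hom]
    (Z' : FGA.HilbSet (pullback.snd f h) (Over.mk (pullback.snd H.hom h)))
    (hZ' : Z'.1 = Z.1.comap (pullback.map (pullback.snd f h) (pullback.snd H.hom h) f H.hom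
      (pullback.fst f h) (pullback.fst H.hom h) h pullback.condition.symm pullback.condition.symm)) :
    FGA.HilbRepresentedBy (pullback.snd f h) (Over.mk (pullback.snd H.hom h)) Z' := by
  obtain ⟨hHn, hrep⟩ := hH
  haveI := hHn
  let f' := pullback.snd f h
  let H' : Over S' := Over.mk (pullback.snd H.hom h)
  haveI : IsLocallyNoetherian H'.left := LocallyOfFiniteType.isLocallyNoetherian (pullback.snd H.hom h)
  refine ⟨inferInstanceAs (IsLocallyNoetherian H'.left), fun T _ Y => ?_⟩
  let TS : Over S := Over.mk (T.hom ≫ h)
  haveI : IsLocallyNoetherian TS.left := inferInstanceAs (IsLocallyNoetherian T.left)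
  let ψ : PicF.XT f' T ⟶ PicF.XT f TS :=
    pullback.map f' T.hom f (T.hom ≫ h) (pullback.fst f h) (𝟙 _) h pullback.condition.symm (by simp)
  have ψ_fst : ψ ≫ pullback.fst f TS.hom = pullback.fst f' T.hom ≫ pullback.fst f h := pullback.lift_fst _ _ _
  have ψ_snd : ψ ≫ pullback.snd f TS.hom = pullback.snd f' T.hom :=
    (pullback.lift_snd _ _ _).trans (Category.comp_id _)
  haveI : IsIso ψ := by
    have hsq : IsPullback (pullback.fst f' T.hom ≫ pullback.fst f h) (pullback.snd f' T.hom) f (T.hom ≫ h) :=
      (IsPullback.of_hasPullback f' T.hom).paste_horiz (IsPullback.of_hasPullback f h)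
    have : ψ = hsq.isoPullback.hom := by
      apply pullback.hom_ext
      · exact ψ_fst.trans hsq.isoPullback_hom_fst.symm
      · exact ψ_snd.trans hsq.isoPullback_hom_snd.symm
    rw [this]; infer_instance
  have hψ : ψ ≫ PicF.XTproj f TS = PicF.XTproj f' T := ψ_snd
  let Y₀ : (PicF.XT f TS).IdealSheafData := Y.1.comap (inv ψ)
  haveI hY₀iso : IsIso (pullback.snd (inv ψ) Y.1.subschemeι) := inferInstance
  have hY₀ι : Y₀.subschemeι ≫ PicF.XTproj f TS =
      ((Y.1.comapIso (inv ψ)).hom ≫ pullback.snd (inv ψ) Y.1.subschemeι) ≫ Y.1.subschemeι ≫ PicF.XTproj f' T := by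
    have e1 : pullback.fst (inv ψ) Y.1.subschemeι = pullback.snd (inv ψ) Y.1.subschemeι ≫ Y.1.subschemeι ≫ ψ := by
      rw [← pullback.condition_assoc, IsIso.inv_hom_id, Category.comp_id]
    rw [← Scheme.IdealSheafData.comapIso_hom_fst, e1]
    simp only [Category.assoc, hψ]
  haveI := Y.2.1
  haveI := Y.2.2
  let Y₁ : FGA.HilbSet f TS := ⟨Y₀, by rw [hY₀ι]; exact ⟨inferInstance, inferInstance⟩⟩
  have hback : ∀ I : (PicF.XT f TS).IdealSheafData, I = Y₀ ↔ I.comap ψ = Y.1 := by
    intro I
    constructor
    · rintro rfl
      rw [← Scheme.IdealSheafData.comap_comp, IsIso.hom_inv_id, Scheme.IdealSheafData.comap_id]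
    · intro hI
      show I = Y.1.comap (inv ψ)
      rw [← hI, ← Scheme.IdealSheafData.comap_comp, IsIso.inv_hom_id, Scheme.IdealSheafData.comap_id]
  let up : (T ⟶ H') → (TS ⟶ H) := fun g => Over.homMk (g.left ≫ pullback.fst H.hom h) (by
    show (g.left ≫ pullback.fst H.hom h) ≫ H.hom = T.hom ≫ h
    rw [Category.assoc, pullback.condition, ← Category.assoc]
    exact congrArg (· ≫ h) (Over.w g))
  have hcomm : ∀ g : T ⟶ H', FGA.hilbPull f' g Z'.1 = (FGA.hilbPull f (up g) Z.1).comap ψ := by
    intro g
    rw [S17082.hilbPull_eq, S17082.hilbPull_eq]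
    refine (congrArg (fun I : Scheme.IdealSheafData _ => I.comap (PicF.XTmap f' g)) hZ').trans ?_
    rw [← Scheme.IdealSheafData.comap_comp, ← Scheme.IdealSheafData.comap_comp]
    congr 1
    have hg : g.left ≫ pullback.snd H.hom h = T.hom := Over.w g
    have a1 : PicF.XTmap f' g ≫ pullback.fst f' H'.hom = pullback.fst f' T.hom :=
      (pullback.lift_fst _ _ _).trans (Category.comp_id _)
    have a2 : PicF.XTmap f' g ≫ pullback.snd f' H'.hom = pullback.snd f' T.hom ≫ g.left := pullback.lift_snd _ _ _
    have b1 : PicF.XTmap f (up g) ≫ pullback.fst f H.hom = pullback.fst f TS.hom :=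
      (pullback.lift_fst _ _ _).trans (Category.comp_id _)
    have b2 : PicF.XTmap f (up g) ≫ pullback.snd f H.hom = pullback.snd f TS.hom ≫ (up g).left := pullback.lift_snd _ _ _
    apply pullback.hom_ext
    · rw [Category.assoc, Category.assoc, b1, ψ_fst]
      refine (congrArg (PicF.XTmap f' g ≫ ·) (pullback.lift_fst _ _ _)).trans ?_
      exact (Category.assoc _ _ _).symm.trans (congrArg (· ≫ pullback.fst f h) a1)
    · rw [Category.assoc, Category.assoc, b2, ← Category.assoc ψ, ψ_snd]
      refine (congrArg (PicF.XTmap f' g ≫ ·) (pullback.lift_snd _ _ _)).trans ?_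
      exact (Category.assoc _ _ _).symm.trans
        ((congrArg (· ≫ pullback.fst H.hom h) a2).trans (Category.assoc _ _ _))
  obtain ⟨g₀, hg₀, huniq⟩ := hrep TS Y₁
  let g₁ : T ⟶ H' := Over.homMk (pullback.lift g₀.left T.hom (Over.w g₀)) (pullback.lift_snd _ _ _)
  have hup : up g₁ = g₀ := by
    ext : 1
    exact pullback.lift_fst _ _ _
  refine ⟨g₁, ?_, fun g hg => ?_⟩
  · show FGA.hilbPull f' g₁ Z'.1 = Y.1
    rw [hcomm, hup]
    exact (hback _).1 hg₀
  · have h1 : up g = g₀ := huniq _ ((hback _).2 ((hcomm g).symm.trans hg))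
    ext : 1
    apply pullback.hom_ext
    · refine (congrArg CommaMorphism.left h1).trans ?_
      exact (pullback.lift_fst _ _ _).symm
    · exact (Over.w g).trans (pullback.lift_snd _ _ _).symm

end Groth.Agent.S17081
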