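import Groth.Statements.S17083
import Groth.Agent.BlowUpX.Basic
import Groth.Agent.BlowUpLib.Glue
import Groth.Agent.BlowSep.Basic
import Groth.Agent.FComplLib.IdealComap
-- import your own Groth.Agent.* helpers here

set_option autoImplicit false
universe u
open CategoryTheory CategoryTheory.Limits AlgebraicGeometry
open MorSch

namespace Groth.Agent.S17083

open Groth.Agent AlgebraicGeometry.Scheme

theorem isEffCartier_comap_fst {X B₁ B₂ : Scheme.{u}} {σ₁ : B₁ ⟶ X} {σ₂ : B₂ ⟶ X}
    {I₁ I₂ : X.IdealSheafData} (hdisj : I₁ ⊔ I₂ = ⊤) (hσ₁ : BlowUp.IsBlowUp σ₁ I₁)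
    (hσ₂ : BlowUp.IsBlowUp σ₂ I₂) :
    BlowUp.IsEffCartierIdeal ((I₁.comap σ₁).comap (pullback.fst σ₁ σ₂)) := by
  let g := pullback.fst σ₁ σ₂
  let V : Bool → X.Opens := fun b => cond b I₁.support.compl I₂.support.compl
  let O : Bool → (pullback σ₁ σ₂).Opens := fun b => g ⁻¹ᵁ (σ₁ ⁻¹ᵁ V b)
  refine ModPairLib.isEffCartier_of_comap (fun b => (O b).ι) (fun p => ?_) fun b => ?_
  · by_cases h : σ₁ (g p) ∈ (I₂.support : Set X)
    · refine ⟨true, ⟨p, fun h1 => ?_⟩, rfl⟩
      have : σ₁ (g p) ∈ ((I₁ ⊔ I₂).support : Set X) := by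
        rw [IdealSheafData.support_sup]
        exact ⟨h1, h⟩
      rw [hdisj, IdealSheafData.support_top] at this
      exact this
    · exact ⟨false, ⟨p, h⟩, rfl⟩
  cases b
  · have h : IsIso (σ₂ ∣_ V false) := BlowUpX.isIso_restrict hσ₂
    have hp : IsPullback (g ∣_ (σ₁ ⁻¹ᵁ V false)) ((O false).ι ≫ pullback.snd σ₁ σ₂)
        ((σ₁ ∣_ V false) ≫ (V false).ι) σ₂ := by
      rw [morphismRestrict_ι]
      exact ((isPullback_morphismRestrict g (σ₁ ⁻¹ᵁ V false)).flip.paste_horiz
        (IsPullback.of_hasPullback σ₁ σ₂).flip).flip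
    let l := pullback.lift (f := (V false).ι) (g := σ₂)
      (g ∣_ (σ₁ ⁻¹ᵁ V false) ≫ (σ₁ ∣_ V false)) ((O false).ι ≫ pullback.snd σ₁ σ₂)
      (by rw [Category.assoc, ← hp.w])
    have hp' : IsPullback (g ∣_ (σ₁ ⁻¹ᵁ V false)) l (σ₁ ∣_ V false)
        (pullback.fst (V false).ι σ₂) :=
      IsPullback.of_bot (by rw [pullback.lift_snd]; exact hp) (pullback.lift_fst _ _ _).symm
        (IsPullback.of_hasPullback (V false).ι σ₂)
    have : IsIso (pullback.fst (V false).ι σ₂) := by
      have e := (isPullback_morphismRestrict σ₂ (V false)).isoPullback_hom_fst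
      have : IsIso ((isPullback_morphismRestrict σ₂ (V false)).isoPullback.hom ≫
        pullback.fst (V false).ι σ₂) := e.symm ▸ h
      exact IsIso.of_isIso_comp_left (isPullback_morphismRestrict σ₂ (V false)).isoPullback.hom _
    have : Flat (g ∣_ (σ₁ ⁻¹ᵁ V false)) :=
      MorphismProperty.of_isPullback (P := @Flat) hp'.flip inferInstance
    rw [← IdealSheafData.comap_comp, ← morphismRestrict_ι]
    exact BlowUpLib.isEffCartier_comap_flat _ hσ₁.1
  · rw [← IdealSheafData.comap_comp, ← IdealSheafData.comap_comp]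
    exact BlowUpX.isEffCartier_comap_of_avoid _ _ fun x hx => x.2 hx

/-- The closed immersion constructed in its proof, as follows. Let X be a scheme, I₁ and I₂
quasi-coherent ideal sheaves on X with I₁ + I₂ = O_X, so that they cut out disjoint closed
subschemes Z₁ and Z₂, let σ : B → X be a blow-up of X in the ideal I₁ ∩ I₂ of Z₁ ∪ Z₂, and let σ₁ :
B₁ → X and σ₂ : B₂ → X be blow-ups of X in Z₁ and in Z₂ (blow-up in the sense of the universal
property: the inverse image ideal is effective Cartier, finally so). Then there is a morphism ι : B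
→ B₁ ×_X B₂ over X which is a closed immersion; the components B → B_i are necessarily the unique
X-morphisms given by the universal properties. (Published for X a projective space over an
algebraically closed field, Z₂ a closed point and Z₁ a finite set of closed points not containing
it, and iterated there to embed the blow-up at r distinct points as a closed subscheme of the fibre
product over X of the r blow-ups at single points.) -/
theorem result
    {X B B₁ B₂ : Scheme.{u}} (I₁ I₂ : X.IdealSheafData) (hdisj : I₁ ⊔ I₂ = ⊤)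
    (σ : B ⟶ X) (hσ : BlowUp.IsBlowUp σ (I₁ ⊓ I₂))
    (σ₁ : B₁ ⟶ X) (hσ₁ : BlowUp.IsBlowUp σ₁ I₁) (σ₂ : B₂ ⟶ X) (hσ₂ : BlowUp.IsBlowUp σ₂ I₂) :
    ∃ ι : B ⟶ pullback σ₁ σ₂, IsClosedImmersion ι ∧ ι ≫ pullback.fst σ₁ σ₂ ≫ σ₁ = σ := by
  have hmul : I₁ ⊓ I₂ = I₁ * I₂ := by
    ext1; funext U
    rw [IdealSheafData.ideal_inf, IdealSheafData.ideal_mul, Pi.inf_apply, Pi.mul_apply]
    refine (Ideal.mul_eq_inf_of_coprime ?_).symm
    have := congrArg (fun J => IdealSheafData.ideal J U) hdisj
    simpa using this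
  let p := pullback.fst σ₁ σ₂ ≫ σ₁
  have hP : BlowUp.IsBlowUp p (I₁ ⊓ I₂) := by
    refine ⟨?_, fun Y g hg => ?_⟩
    · rw [hmul, ModPairLib.ideal_comap_mul]
      refine ModPairLib.isEffCartier_mul ?_ ?_
      · rw [IdealSheafData.comap_comp]
        exact isEffCartier_comap_fst hdisj hσ₁ hσ₂
      · have := BlowUpLib.isEffCartier_comap_flat (pullbackSymmetry σ₁ σ₂).hom
          (isEffCartier_comap_fst (sup_comm I₁ I₂ ▸ hdisj) hσ₂ hσ₁)
        rw [← IdealSheafData.comap_comp, pullbackSymmetry_hom_comp_fst,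
          ← IdealSheafData.comap_comp, ← pullback.condition] at this
        exact this
    · rw [hmul, ModPairLib.ideal_comap_mul] at hg
      have h1 := BlowUpX.isEffCartier_left_of_mul hg
      have h2 : BlowUp.IsEffCartierIdeal (I₂.comap g) :=
        BlowUpX.isEffCartier_left_of_mul (mul_comm (I₁.comap g) (I₂.comap g) ▸ hg)
      obtain ⟨a, ha, hau⟩ := hσ₁.2 Y g h1
      obtain ⟨c, hc, hcu⟩ := hσ₂.2 Y g h2
      refine ⟨pullback.lift a c (ha.trans hc.symm), (pullback.lift_fst_assoc _ _ _ _).trans ha, fun h' hh' => ?_⟩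
      dsimp only [p] at hh'
      apply pullback.hom_ext
      · rw [pullback.lift_fst]
        exact hau _ (by dsimp only; rw [Category.assoc, hh'])
      · rw [pullback.lift_snd]
        exact hcu _ (by dsimp only; rw [Category.assoc, ← pullback.condition, hh'])
  obtain ⟨e, he⟩ := BlowUpLib.exists_iso hσ hP
  exact ⟨e.hom, inferInstance, he⟩

end Groth.Agent.S17083
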