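import Groth.Statements.S1709
import Groth.Agent.AssPtX.Noeth
import Groth.Agent.QCoh.Qcqs

set_option autoImplicit false
set_option backward.isDefEq.respectTransparency false
set_option backward.isDefEq.respectTransparency.types false
universe u
open CategoryTheory CategoryTheory.Limits AlgebraicGeometry TopologicalSpace
open SDiv

namespace Groth.Agent.S1709

/-- Let f : X ⟶ S be an affine morphism with X locally Noetherian and F a quasi-coherent module on X.
Then the following subsets of S coincide: the image of the associated points of F, the associated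
points of f_* F, the weakly associated points of f_* F, and the image of the weakly associated
points of F. -/
theorem result {X S : Scheme.{u}} (f : X ⟶ S) [IsAffineHom f] [IsLocallyNoetherian X] (F : X.Modules)
    (hF : Coh.IsQCoh F) :
    (fun x => f x) '' {x : ↥X | Curv2.IsAssPoint F x} = {s : ↥S | Curv2.IsAssPoint ((Scheme.Modules.pushforward f).obj F) s} ∧
      {s : ↥S | Curv2.IsAssPoint ((Scheme.Modules.pushforward f).obj F) s} =
        {s : ↥S | Curv2.IsWeakAssPoint ((Scheme.Modules.pushforward f).obj F) s} ∧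
      {s : ↥S | Curv2.IsWeakAssPoint ((Scheme.Modules.pushforward f).obj F) s} =
        (fun x => f x) '' {x : ↥X | Curv2.IsWeakAssPoint F x} := by
  have h1 : ∀ {Z : Scheme.{u}} (G : Z.Modules) (z : Z), Curv2.IsAssPoint G z ↔ Curv2.IsWeakAssPoint G z :=
    fun G z => AssPtX.isAssPoint_iff
  have h2 : ∀ x, Curv2.IsWeakAssPoint F x → Curv2.IsWeakAssPoint ((Scheme.Modules.pushforward f).obj F) (f x) := by
    intro x hx
    obtain ⟨_, ⟨V, hV, rfl⟩, hxV, -⟩ := S.isBasis_affineOpens.exists_subset_of_mem_open (Set.mem_univ (f x)) isOpen_univ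
    have hW : IsAffineOpen (f ⁻¹ᵁ V) := hV.preimage f
    haveI : IsNoetherianRing Γ(X, f ⁻¹ᵁ V) := IsLocallyNoetherian.component_noetherian (X := X) ⟨_, hW⟩
    let p := (hW.primeIdealOf ⟨x, hxV⟩).asIdeal
    have hp : p ∈ FlatCA.weakAss Γ(X, f ⁻¹ᵁ V) Γ(F, f ⁻¹ᵁ V) :=
      (AssPtX.isWeakAssPoint_iff_sections hF hW (show x ∈ f ⁻¹ᵁ V from hxV)).1 hx
    obtain ⟨hpp, n, hn⟩ := WeakAss.mem_ass_iff.1 (WeakAss.mem_ass_of_mem_weakAss_of_fg (IsNoetherian.noetherian p) hp)
    let n' : Γ((Scheme.Modules.pushforward f).obj F, V) := n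
    rw [AssPtX.isWeakAssPoint_iff_sections (QCoh.isQCoh_pushforward f hF) hV hxV]
    have hc : (hV.primeIdealOf ⟨f x, hxV⟩).asIdeal = WeakAss.annEl Γ(S, V) n' := by
      have e := IsAffineOpen.comap_primeIdealOf_appLE V hV (f ⁻¹ᵁ V) hW le_rfl (f := f) (show x ∈ f ⁻¹ᵁ V from hxV)
      rw [← e]
      ext r
      rw [WeakAss.mem_annEl]
      show (f.appLE V (f ⁻¹ᵁ V) le_rfl) r ∈ p ↔ _
      rw [← Scheme.Hom.app_eq_appLE, hn, WeakAss.mem_annEl]
      exact Iff.rfl
    exact WeakAss.ass_subset_weakAss ⟨inferInstance, n', hc⟩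
  have h3 := fun s hs => AssPtX.exists_weakAssPoint_of_pushforward f hF s hs
  refine ⟨?_, Set.ext fun s => h1 _ s, ?_⟩
  · ext s
    refine ⟨?_, fun hs => ?_⟩
    · rintro ⟨x, hx, rfl⟩; exact (h1 _ _).2 (h2 x ((h1 _ _).1 hx))
    · obtain ⟨x, hx, hw⟩ := h3 s ((h1 _ _).1 hs); exact ⟨x, (h1 _ _).2 hw, hx⟩
  · ext s
    refine ⟨fun hs => ?_, ?_⟩
    · obtain ⟨x, hx, hw⟩ := h3 s hs; exact ⟨x, hw, hx⟩
    · rintro ⟨x, hx, rfl⟩; exact h2 x hx

end Groth.Agent.S1709
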