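import Groth.Statements.S17091
import Groth.Agent.GModLib.UnipotentRadical

set_option autoImplicit false
universe u
open CategoryTheory MonoidalCategory CartesianMonoidalCategory MonObj GrpObj AlgebraicGeometry
open AGF

set_option backward.isDefEq.respectTransparency false
set_option backward.isDefEq.respectTransparency.types false

namespace Groth.Agent.S17091

/-- Let k be an algebraically closed field, G an affine, smooth, connected k-group scheme, u : U ⟶ G its
unipotent radical (the largest normal closed subgroup scheme of G, smooth and quasi-compact over k,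
whose geometric fibre is connected and contains no non-trivial subtorus), B a Borel subgroup of G
and v : V ⟶ B the unipotent radical of B. Then U is contained in V: u factors through v. -/
theorem result (k : Type u) [Field k] [IsAlgClosed k]
    (G : Over (Spec (CommRingCat.of k))) [GrpObj G] [IsAffine G.left] [Smooth G.hom] [ConnectedSpace ↥G.left]
    (U : Over (Spec (CommRingCat.of k))) [GrpObj U] (u : U ⟶ G) (hU : Par.IsUnipotentRadical u)
    (B : Over (Spec (CommRingCat.of k))) [GrpObj B] (iB : B ⟶ G) (hB : Red.IsBorelOver k iB)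
    (V : Over (Spec (CommRingCat.of k))) [GrpObj V] (v : V ⟶ B) (hV : Par.IsUnipotentRadical v) :
    ∃ f : U ⟶ V, f ≫ v ≫ iB = u := by
    haveI := hU.1; haveI := hU.2.1; haveI := hB.1; haveI := hB.2.1
    haveI : Smooth U.hom := hU.2.2.2.1
    obtain ⟨hUn, hUno⟩ := (GModLib.geomFibre_conn_noSubtorus U (IsLocalRing.closedPoint k)).mp (hU.2.2.2.2.2.1 _)
    haveI := hUn
    haveI : Mono iB := Over.mono_of_mono_left iB
    obtain ⟨f, hf⟩ := GModLib.normal_noSubtorus_le_borel u hU.2.2.1 hUno iB hB
    haveI : IsMonHom (f ≫ iB) := hf ▸ hU.1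
    haveI : IsMonHom f := GModLib.isMonHom_of_comp f iB
    haveI : IsClosedImmersion (f.left ≫ iB.left) := by rw [← Over.comp_left, hf]; exact hU.2.1
    obtain ⟨e, he⟩ := hV.2.2.2.2.2.2 U f (IsClosedImmersion.of_comp f.left iB.left) (fun X g n => by
      obtain ⟨n', hn'⟩ := hU.2.2.1 X (g ≫ iB) n
      refine ⟨n', (cancel_mono iB).mp ?_⟩
      rw [MonObj.mul_comp, MonObj.mul_comp, GrpObj.inv_comp, Category.assoc, Category.assoc, hf]
      exact hn') hU.2.2.2.1 hU.2.2.2.2.1 hU.2.2.2.2.2.1
    exact ⟨e, by rw [← Category.assoc, he, hf]⟩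

end Groth.Agent.S17091
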