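import Groth.Statements.S17092
import Groth.Agent.GModLib.UnipotentRadical

set_option autoImplicit false
universe u
open CategoryTheory MonoidalCategory CartesianMonoidalCategory MonObj GrpObj AlgebraicGeometry
open AGF

set_option backward.isDefEq.respectTransparency false
set_option backward.isDefEq.respectTransparency.types false

namespace Groth.Agent.S17092

/-- Let k be an algebraically closed field, G an affine, smooth, connected k-group scheme, u : U ⟶ G its
unipotent radical (the largest normal closed subgroup scheme, smooth and quasi-compact over k, whose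
geometric fibre is connected and contains no non-trivial subtorus), T a maximal torus of G and j : H
⟶ G a closed subgroup scheme which is smooth and connected. If H lies in the unipotent radical of
every Borel subgroup of G containing T, then H lies in U: j factors through u. (Together with the
inclusion of U in the unipotent radical of every Borel subgroup of G, this says that the identity
component of the reduced intersection of the unipotent radicals of the Borel subgroups containing T
is U; it is trivial when G is reductive.) -/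
theorem result (k : Type u) [Field k] [IsAlgClosed k]
    (G : Over (Spec (CommRingCat.of k))) [GrpObj G] [IsAffine G.left] [Smooth G.hom] [ConnectedSpace ↥G.left]
    (U : Over (Spec (CommRingCat.of k))) [GrpObj U] (u : U ⟶ G) (hU : Par.IsUnipotentRadical u)
    (T : Over (Spec (CommRingCat.of k))) [GrpObj T] (iT : T ⟶ G) (hT : AGF.IsMaxTorus iT)
    (H : Over (Spec (CommRingCat.of k))) [GrpObj H] (j : H ⟶ G) [IsMonHom j] (hj : IsClosedImmersion j.left)
    [Smooth H.hom] [ConnectedSpace ↥H.left]
    (hH : ∀ (B : Over (Spec (CommRingCat.of k))) [GrpObj B] (iB : B ⟶ G) (t : T ⟶ B), Red.IsBorelOver k iB → t ≫ iB = iT →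
      ∀ (V : Over (Spec (CommRingCat.of k))) [GrpObj V] (v : V ⟶ B), Par.IsUnipotentRadical v → ∃ f : H ⟶ V, f ≫ v ≫ iB = j) :
    ∃ g : H ⟶ U, g ≫ u = j := by
    haveI := hU.1; haveI := hU.2.1; haveI := hT.1; haveI := hj
    obtain ⟨q1, q2, q3, -, -⟩ := GModLib.TorusBasic.torus_props hT.2.2.1
    haveI := q1; haveI := q2; haveI := q3
    haveI : AlgebraicGeometry.IsReduced T.left := GrpSchLib.isReduced_of_smooth_field T.hom
    haveI : QuasiCompact H.hom := by rw [← Over.w j]; infer_instance
    obtain ⟨B₀, _, iB₀, hB₀, -⟩ := GModLib.exists_borel (G := G)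
    haveI := hB₀.1; haveI := hB₀.2.1; haveI : Smooth B₀.hom := hB₀.2.2.1; haveI := hB₀.2.2.2.1
    haveI : IsAffine B₀.left := isAffine_of_isAffineHom iB₀.left
    obtain ⟨V, _, v, hvm, hv1, hv2, hv3, hv4, hv5, w, hw⟩ :=
      GModLib.exists_normal_of_killed iT hT iB₀ hB₀ j fun M hM x => by
        let g : 𝟙_ (Over (Spec (CommRingCat.of k))) ⟶ G := GModLib.toPt _ ≫ M
        have hg : toUnit (VecGrp.pt k k) ≫ g = M := by
          show _ ≫ GModLib.toPt _ ≫ M = _
          rw [← Category.assoc, GModLib.toUnit_toPt, Category.id_comp]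
        have hB' := GModLib.isBorelOver_inner iB₀ hB₀ g
        haveI := hB'.1; haveI := hB'.2.1
        obtain ⟨t, ht⟩ := GModLib.exists_factor_of_points (iB₀ ≫ GModLib.inner g) iT fun s => by
          obtain ⟨b, hb⟩ := hM s
          exact ⟨b, by rw [← Category.assoc, GModLib.comp_inner, hg, ← hb, mul_inv_cancel_right]⟩
        obtain ⟨R, _, r, hR⟩ := GModLib.exists_unipotentRadical (G := B₀) hB₀.2.2.2.2.1
        haveI := hR.1; haveI := hR.2.1
        haveI : Smooth R.hom := hR.2.2.2.1
        haveI : IsAffine R.left := isAffine_of_isAffineHom r.left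
        obtain ⟨hRn, hRno⟩ := (GModLib.geomFibre_conn_noSubtorus R (IsLocalRing.closedPoint k)).mp (hR.2.2.2.2.2.1 _)
        haveI := hRn
        obtain ⟨f, hf⟩ := hH B₀ (iB₀ ≫ GModLib.inner g) t hB' ht R r hR
        refine ⟨(x ≫ f) ≫ r, ?_, fun ω hω => ?_⟩
        · conv_lhs => rw [← hf, ← Category.assoc, ← Category.assoc, ← Category.assoc, GModLib.comp_inner, hg]
          rw [inv_mul_cancel_right]
        · rw [← GModLib.pullFn_ev]
          exact GModLib.char_eq_one_of_hasNoSubtorus hRno (ω := GrpSchLib.Kunneth.ev r ω)
            ⟨fun a b => by rw [GModLib.pullFn_ev, GModLib.pullFn_ev, GModLib.pullFn_ev, MonObj.mul_comp, hω.1],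
              by rw [GModLib.pullFn_ev, MonObj.one_comp, hω.2]⟩ _
    haveI := hv1; haveI := hv2
    haveI : QuasiCompact V.hom := by rw [← Over.w v]; infer_instance
    obtain ⟨e, he⟩ := hU.2.2.2.2.2.2 V v hv1 hv4 hv2 inferInstance fun s =>
      (GModLib.geomFibre_conn_noSubtorus V s).mpr ⟨hv3, hv5⟩
    exact ⟨w ≫ e, by rw [Category.assoc, he, hw]⟩

end Groth.Agent.S17092
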