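import Groth.Statements.S1712
import Groth.Agent.PerfGen7.LocalizeDual

set_option autoImplicit false
universe u
open CategoryTheory
attribute [local instance] HasDerivedCategory.standard
open Dual

namespace Groth.Agent.S1712

/-- Let A be a Noetherian local ring with a normalized dualizing complex ω, M a finite A-module and E^j
the A-module of maps M → ω[-j] in D(A). A prime p is in the support of one of E^0, …, E^i if and
only if the depth of M_p over A_p plus the dimension of A/p is at most i. -/
theorem result (A : Type u) [CommRing A] [IsLocalRing A] [IsNoetherianRing A] (ω : Dual.D A) (hω : Dual.IsDualizing A ω) (hn : Dual.IsNormalized A ω) (M : Type u) [AddCommGroup M] [Module A M] [Module.Finite A M] (i : ℕ) (p : PrimeSpectrum A) : (∃ j : ℕ, j ≤ i ∧ p ∈ Module.support A (Dual.inD A M ⟶ ω⟦(-(j : ℤ))⟧)) ↔ ((LocCoh.depth (Localization.AtPrime p.asIdeal) (LocalizedModule p.asIdeal.primeCompl M) : ℕ∞) : WithBot ℕ∞) + ringKrullDim (A ⧸ p.asIdeal) ≤ (i : WithBot ℕ∞) := by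
  obtain ⟨n, hn', -, -, -, hdim⟩ := Groth.Agent.KFlatLib.exists_normalized_degree hω hn
  obtain ⟨ω', h1, h2, h3⟩ := Groth.Agent.PerfGen7.LocalizeDual.exists_local hω hn' p
  obtain ⟨e, he, he'⟩ := hdim p
  have key : ∀ l : ℤ, p ∈ Module.support A (Dual.inD A M ⟶ ω⟦n p + l⟧) ↔
      Nontrivial (Dual.inD (Localization.AtPrime p.asIdeal) (LocalizedModule p.asIdeal.primeCompl M) ⟶ ω'⟦l⟧) := fun l => by
    obtain ⟨c⟩ := h3 M l
    rw [Module.mem_support_iff]
    exact c.toEquiv.nontrivial_congr.symm
  rw [he]
  rcases subsingleton_or_nontrivial (LocalizedModule p.asIdeal.primeCompl M) with hsub | hnt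
  · refine iff_of_false ?_ ?_
    · rintro ⟨j, -, hj⟩
      have := Groth.Agent.KFlatLib.support_hom_subset M (ω⟦(-(j : ℤ))⟧) hj
      rw [Module.mem_support_iff] at this
      exact not_subsingleton _ hsub
    · intro hle
      haveI : Module.Finite (Localization.AtPrime p.asIdeal) (LocalizedModule p.asIdeal.primeCompl M) :=
        Module.Finite.of_isLocalizedModule p.asIdeal.primeCompl (LocalizedModule.mkLinearMap p.asIdeal.primeCompl M)
      rw [show LocCoh.depth (Localization.AtPrime p.asIdeal) (LocalizedModule p.asIdeal.primeCompl M) = ⊤ from if_pos (Subsingleton.elim _ _)] at hle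
      have h4 : (((⊤ : ℕ∞)) : WithBot ℕ∞) ≤ (((i : ℕ∞)) : WithBot ℕ∞) := by
        refine le_trans ?_ hle
        exact_mod_cast le_self_add
      exact ENat.natCast_ne_top i (top_le_iff.1 (WithBot.coe_le_coe.1 h4))
  · haveI := hnt
    haveI : Module.Finite (Localization.AtPrime p.asIdeal) (LocalizedModule p.asIdeal.primeCompl M) :=
      Module.Finite.of_isLocalizedModule p.asIdeal.primeCompl (LocalizedModule.mkLinearMap p.asIdeal.primeCompl M)
    obtain ⟨k, hk⟩ := Groth.Agent.KFlatLib.exists_depth_eq (A := Localization.AtPrime p.asIdeal) (LocalizedModule p.asIdeal.primeCompl M)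
    obtain ⟨hlow, htop⟩ := (Groth.Agent.KFlatLib.depth_eq_iff_ext h1 h2 _ k).1 hk
    rw [hk]
    constructor
    · rintro ⟨j, hji, hj⟩
      rw [show (-(j : ℤ)) = n p + ((e : ℤ) - j) by omega] at hj
      have h5 := (key _).1 hj
      have h6 : (e : ℤ) - j ≤ 0 := by
        by_contra hc
        exact not_subsingleton _ (Groth.Agent.KFlatLib.subsingleton_hom_module_of_pos h1 h2 (LocalizedModule p.asIdeal.primeCompl M) ((e : ℤ) - j) (by omega))
      have h7 : k + e ≤ j := by
        by_contra hc
        rw [show ((e : ℤ) - j) = -(((j - e : ℕ)) : ℤ) by omega] at h5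
        exact not_subsingleton _ (hlow (j - e) (by omega))
      exact_mod_cast h7.trans hji
    · intro hle
      have hle' : k + e ≤ i := by exact_mod_cast hle
      refine ⟨k + e, hle', ?_⟩
      rw [show (-((k + e : ℕ) : ℤ)) = n p + -(k : ℤ) by omega]
      exact (key _).2 htop

end Groth.Agent.S1712
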