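import Groth.Statements.S17133
import Groth.Agent.PicDegField.SymAbel
import Groth.Agent.AlbCurve.ThetaLocus
import Groth.Agent.AlbCurve.ThetaSeesaw
import Groth.Agent.JacBC.DualBC
import Groth.Agent.JacVarLib.W
import Groth.Agent.Lib.CurveDeg

set_option autoImplicit false
set_option backward.isDefEq.respectTransparency false
set_option backward.isDefEq.respectTransparency.types false
set_option maxHeartbeats 1000000
set_option linter.style.haveILetI false
universe u
open CategoryTheory CategoryTheory.Limits AlgebraicGeometry MonoidalCategory CartesianMonoidalCategory MonObj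
open Jac

namespace Groth.Agent.S17133
open Groth.Agent AlgebraicGeometry CategoryTheory TopologicalSpace
open scoped Groth.Agent.H23.PicMul

/-- Let X be a smooth proper geometrically connected curve of genus g ≥ 1 over a field k, let (J', ψ')
be a coarse moduli scheme, on all k-schemes, for line bundles of degree g − 1 on X modulo twisting
from the base (the degree-(g − 1) Picard scheme), and let Θ' be the line bundle of its theta
divisor: an invertible module on J' inverse to the ideal of the closed subset, with reduced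
structure, which is the closure of the locus of classes having a nonzero global section. Let L be an
invertible module of degree g − 2 on X and let j : X → J' be the morphism which ψ' attaches to an
admissible family Lf on X × X (second factor the parameter) with Lf ⊗ I_Δ ≅ pr₁^* L, so that j sends
a point x to the class of L(x) (the Abel map followed by translation by the class of L). Then j^* Θ'
⊗ L is isomorphic to the sheaf of differentials Ω_{X/k} (existence of an isomorphism of modules;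
equivalently j^* Θ' ≅ Ω_{X/k} ⊗ L⁻¹). -/
theorem result (k : Type u) [Field k]
    (X : Scheme.{u}) [X.Over (Spec (CommRingCat.of k))]
    [IsProper (X ↘ Spec (CommRingCat.of k))] [Smooth (X ↘ Spec (CommRingCat.of k))]
    [GeometricallyConnected (X ↘ Spec (CommRingCat.of k))] (hdim : topologicalKrullDim ↥X = 1)
    (g : ℕ) (hg : Curv2.genus k X = g) (hg1 : 1 ≤ g)
    (J' : Scheme.{u}) [J'.Over (Spec (CommRingCat.of k))]
    (ψ' : (ModFun.PicDeg (X ↘ Spec (CommRingCat.of k)) ((g : ℤ) - 1)).Hom ⊤ (Over.mk (J' ↘ Spec (CommRingCat.of k))))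
    (hJ' : ModFun.IsCoarseModuli ⊤ (ModFun.PicDeg (X ↘ Spec (CommRingCat.of k)) ((g : ℤ) - 1)) (Over.mk (J' ↘ Spec (CommRingCat.of k))) ψ')
    (Θ' : J'.Modules) (hΘ' : Jac.IsThetaLB (X ↘ Spec (CommRingCat.of k)) ((g : ℤ) - 1) ψ' (Coh.structureModule X) Θ')
    (L : X.Modules) (hL : PicF.IsInvertible L) (hLdeg : Curv2.deg k X L 1 = (g : ℤ) - 2)
    (Lf : (PicF.XT (X ↘ Spec (CommRingCat.of k)) (Over.mk (X ↘ Spec (CommRingCat.of k)))).Modules)
    (hLf : Nonempty (CohB1.tensorMod Lf (ClSub.idealMod (pullback.diagonal (X ↘ Spec (CommRingCat.of k))).ker) ≅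
      (Scheme.Modules.pullback (pullback.fst (X ↘ Spec (CommRingCat.of k)) (X ↘ Spec (CommRingCat.of k)))).obj L))
    (hT : (⊤ : ObjectProperty (Over (Spec (CommRingCat.of k)))) (Over.mk (X ↘ Spec (CommRingCat.of k))))
    (hLok : (ModFun.PicDeg (X ↘ Spec (CommRingCat.of k)) ((g : ℤ) - 1)).ok (Over.mk (X ↘ Spec (CommRingCat.of k))) Lf)
    (j : Over.mk (X ↘ Spec (CommRingCat.of k)) ⟶ Over.mk (J' ↘ Spec (CommRingCat.of k)))
    (hj : ψ'.app (Over.mk (X ↘ Spec (CommRingCat.of k))) Lf hT hLok = j) :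
    Nonempty (CohB1.tensorMod ((Scheme.Modules.pullback j.left).obj Θ') L ≅ Omega.sheaf (X ↘ Spec (CommRingCat.of k))) := by
  classical
  haveI : IsIntegral X := CurveStable.isIntegral_of_geometricallyConnected (k := k)
  haveI := PicRep.smoothOfRelativeDimension_one k X hdim
  let f := X ↘ Spec (CommRingCat.of k)
  let K := AlgebraicClosure k
  let q := JacBC.spq k K
  letI := JacBC.overCK k K (C := X)
  let f' := PicRep.bcf f q
  let fK := JacBC.CK k K X ↘ Spec (CommRingCat.of K)
  have hdK := JacBC.dim_CK k K hdim (C := X)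
  haveI : IsIntegral (JacBC.CK k K X) := CurveStable.isIntegral_of_geometricallyConnected (k := K)
  haveI : Smooth fK := SmoothOfRelativeDimension.smooth (n := 1) _
  obtain ⟨σK, hσK⟩ := PicDegField.exists_sect hdim (k := k) (C := X) K
  let JJ : Over (Spec (CommRingCat.of k)) := Over.mk (J' ↘ Spec (CommRingCat.of k))
  obtain ⟨rK, hc⟩ := PicDegField.exists_repK hdim hJ' K σK hσK
  obtain ⟨hJp, -, -⟩ := PicDegField.geometry_of_repK hdim rK
  haveI : IsProper JJ.hom := hJp
  letI := PicRep.commGrpObj rK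
  have hJK := PicRep.isJacobian_psi0 rK
  have hmulK : ∀ (T : Over (Spec (CommRingCat.of K))) (a b : T ⟶ Red.bc q JJ),
      PicRep.val0 (rK.homEquiv (a * b)) = PicRep.val0 (rK.homEquiv a) * PicRep.val0 (rK.homEquiv b) :=
    fun T a b => PicRep.val0_mul rK a b
  obtain ⟨n, rfl⟩ : ∃ n, g = n + 1 := ⟨g - 1, by omega⟩
  have hgK : Curv2.genus K (JacBC.CK k K X) = n + 1 := (JacBC.genus_CK k K).trans hg
  let d : ℤ := ((n + 1 : ℕ) : ℤ) - 1
  have hdn : d = (n : ℤ) := by show ((n + 1 : ℕ) : ℤ) - 1 = _; push_cast; ring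
  have hN : PicF.IsInvertible (Coh.structureModule X) := InvX.isInvertible_structureModule
  have hd0 : Curv2.deg k X (Coh.structureModule X) 1 = 0 := CurveDeg.deg_structureModule (k := k)
  have hNdeg' : d + Curv2.deg k X (Coh.structureModule X) 1 = (n : ℤ) := by rw [hd0, hdn, add_zero]
  obtain ⟨hΘKi, hΘKI⟩ := PicDegField.isThetaLB_bcD k K σK hσK rK hc hJK hmulK hdim hg hN hNdeg' hΘ'
  obtain ⟨jK, hjK⟩ := AlbCurve.exists_abel (σ := σK) (f := fK) hσK (PicRep.psi0 rK)
  obtain ⟨a, hacls, ha⟩ := AlbCurve.exists_thetaLocus_eq' K hdK hJK hjK rK (fun _ _ _ _ => rfl) hmulK hgK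
    (JacVarLib.isInvertible_out (PicDegField.vNK k K σK hσK d hN))
    (by rw [PicDegField.deg_NKd k K σK hσK hdim hN, hd0, zero_add, hdn])
  let p : (Red.bc q JJ).left ⟶ J' := pullback.fst JJ.hom q
  obtain ⟨hL1, hL1'⟩ := AlbCurve.theta_data K (j := jK) (n := n) a hΘKi (by
    refine Eq.mp ?_ hΘKI
    exact congrArg (fun Z => ClSub.IsInverseOf ((Scheme.Modules.pullback p).obj Θ')
      (ClSub.idealMod (Scheme.IdealSheafData.vanishingIdeal Z))) (Closeds.ext ha))
  set vK : JacVarLib.Pc (Red.bc q JJ).left := JacVarLib.mk _ hΘKi with hvK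
  set L1 : JacVarLib.Pc (Red.bc q JJ).left := JacVarLib.pullPc (Jac.transl (Red.bc q JJ) a).left vK with hL1def
  let S : JacVarLib.Pc (JacBC.CK k K X) := JacVarLib.Os K hdK σK hσK
  let vL : JacVarLib.Pc (JacBC.CK k K X) := JacVarLib.pullPc (JacBC.prC k K (C := X)) (JacVarLib.mk L hL)
  have hSker : JacVarLib.mk (ClSub.idealMod σK.ker) (GenusOneX.isInvertible_ker _ hσK) = S⁻¹ := by
    refine JacVarLib.ext_val ?_
    exact (JacVarLib.mk_val _ _).trans (JacVarLib.cl_ker K hdK (Over.homMk σK hσK))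
  have hdvL : JacVarLib.dg K vL = (n : ℤ) - 1 := by
    obtain ⟨e⟩ : Nonempty (JacVarLib.out vL ≅ (Scheme.Modules.pullback (JacBC.prC k K (C := X))).obj L) :=
      H23.PicMul.cl_eq_iff.1 (by
        show PicF.cl (JacVarLib.out vL) = PicF.pullCl _ (PicF.cl L)
        rw [JacVarLib.cl_out, JacVarLib.pullPc_val, JacVarLib.mk_val])
    refine ((CurveRR.deg_congr K e 1).trans (JacBC.deg_CK k K hL)).trans ?_
    rw [hLdeg]; push_cast; ring
  obtain ⟨c, hccls⟩ := JacVarLib.exists_cls K hdK hJK (v := vL * S / S ^ n) (by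
    rw [JacVarLib.dg_div K hdK, JacVarLib.dg_mul K hdK, JacVarLib.dg_pow K hdK, hdvL, JacVarLib.dg_O]; ring)
  -- the base change of the map
  let T : Over (Spec (CommRingCat.of K)) := Over.mk f'
  let π : (Over.map q).obj T ⟶ Over.mk f := (JacBC.adj q (J := Over.mk f)).symm (𝟙 T)
  let jB : T ⟶ Red.bc q JJ := JacBC.bcMor q j
  let E := (ModFun.PicDeg f d).pull π Lf
  have hEok : (ModFun.PicDeg f d).ok ((Over.map q).obj T) E := PicDegField.ok_pullD f π hLok
  let w := JacVarLib.pullPc (PicRep.eT f q T).hom (PicDegField.cls f E (PicDegField.invertible_of_okD f hEok)) *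
    PicDegField.tw f q σK hσK d T
  obtain ⟨hF, he⟩ := hc T E hEok (JacVarLib.out w) (JacVarLib.cl_out w)
  have hjB : jB = PicRep.phi0 rK T (PicF.cl (JacVarLib.out w)) := by
    refine (JacBC.adj q).symm.injective (Eq.trans ?_ he.symm)
    rw [ψ'.natural π Lf hT trivial hLok hEok, hj]
    show (JacBC.adj q).symm ((JacBC.adj q) (π ≫ j)) = π ≫ j
    rw [Equiv.symm_apply_apply]
  have hLfi : PicF.IsInvertible Lf := PicDegField.invertible_of_okD f hLok
  let g0 : PicF.XT f (Over.mk f) ⟶ X := pullback.fst f f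
  have hvLf : PicDegField.cls f Lf hLfi =
      JacVarLib.pullPc g0 (JacVarLib.mk L hL) * (AlbCurve.ptPc (𝟙 (Over.mk f)))⁻¹ := by
    rw [eq_mul_inv_iff_mul_eq]
    refine JacVarLib.ext_val ?_
    rw [Subgroup.coe_mul, Units.val_mul, PicDegField.cls_val, JacVarLib.pullPc_val, JacVarLib.mk_val, AlbCurve.ptPc,
      PicRep.toPc_val, ← H23.PicMul.cl_tensor]
    exact H23.PicMul.cl_eq_iff.2 hLf
  let g' : PicF.XT f' T ⟶ JacBC.CK k K X := pullback.fst f' T.hom
  have hwv : w = JacVarLib.pullPc g' (vL * (S ^ n)⁻¹) * (AlbCurve.ptPc (f := f') (𝟙 T))⁻¹ := by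
    have htw : AlbCurve.ptPc (GenusOneX.pt f' σK hσK T) = JacVarLib.pullPc g' S⁻¹ := by
      rw [← hSker]
      refine JacVarLib.ext_val ?_
      rw [JacVarLib.pullPc_val, JacVarLib.mk_val]
      exact (AlbCurve.cl_fst_section f' σK hσK T).symm
    have hg0 : (PicRep.eT f q T).hom ≫ PicF.XTmap f π ≫ g0 = g' ≫ JacBC.prC k K (C := X) := by
      rw [show PicF.XTmap f π ≫ g0 = pullback.fst f ((Over.map q).obj T).hom from LineDesc.Rig.XTmap_fst π]
      exact pullbackLeftPullbackSndIso_hom_fst f q T.hom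
    simp only [w, PicDegField.tw]
    rw [show PicDegField.cls f E (PicDegField.invertible_of_okD f hEok) = JacVarLib.pullPc (PicF.XTmap f π)
      (PicDegField.cls f Lf hLfi) from PicDegField.cls_pull f π hLfi, hvLf, map_mul, map_mul, map_inv, map_inv,
      AlbCurve.pull_ptPc, JacVarLib.pullPc_comp, JacVarLib.pullPc_comp, Category.assoc, hg0, ← JacVarLib.pullPc_comp, Category.comp_id,
      JacBC.pull_ptPc_bc, htw, hdn, zpow_natCast, map_mul, map_inv, map_inv, map_pow, inv_pow]
    simp only [vL]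
    cgroup
  let jK' : T ⟶ Red.bc q JJ := jK
  have hval : jB = jK' ≫ Jac.transl (Red.bc q JJ) c := by
    rw [JacVarLib.kp_comp_transl]
    refine rK.homEquiv.injective (PicRep.val0_injective ?_)
    refine Eq.trans ?_ (hmulK _ _ _).symm
    have h1 : PicRep.val0 (rK.homEquiv jK') =
        PicRep.rho f' σK hσK (AlbCurve.ptPc (GenusOneX.pt f' σK hσK T) * (AlbCurve.ptPc (f := f') (𝟙 T))⁻¹) := by
      have h := AlbCurve.val0_abel rK (fun _ _ _ _ => rfl) hjK (𝟙 T)
      erw [Category.id_comp] at h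
      exact h
    have h2 : PicRep.val0 (rK.homEquiv (toUnit T ≫ c)) = JacVarLib.pullPc g' (vL * S / S ^ n) := by
      rw [rK.homEquiv_comp, PicRep.val0_map]
      erw [AlbCurve.val0_rat K hdK hJK hjK rK (fun _ _ _ _ => rfl) hmulK c]
      refine (JacVarLib.pullPc_comp _ _ _).trans ?_
      refine (congrArg (fun v => JacVarLib.pullPc _ v) hccls).trans ?_
      exact congrArg (fun m => JacVarLib.pullPc m (vL * S / S ^ n)) (LineDesc.Rig.XTmap_fst _)
    rw [h2]
    erw [h1]
    have hfix : PicRep.rho f' σK hσK (JacVarLib.pullPc g' (vL * S / S ^ n)) = JacVarLib.pullPc g' (vL * S / S ^ n) := by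
      rw [← h2]
      exact PicRep.rho_eq_self (PicRep.val0_mem _).1
    rw [← hfix]
    refine Eq.trans ?_ (map_mul (AlbCurve.rhoHom f' σK hσK T) _ _)
    rw [hjB]
    erw [PicRep.val0_phi0_cl rK hF]
    refine congrArg (PicRep.rho f' σK hσK) ?_
    refine (show PicRep.toPc (PicF.cl (JacVarLib.out w)) _ = w from
      JacVarLib.ext_val ((PicRep.toPc_val _ _).trans (JacVarLib.cl_out w))).trans ?_
    rw [hwv, show AlbCurve.ptPc (GenusOneX.pt f' σK hσK T) = JacVarLib.pullPc g' S⁻¹ from ?_]
    · rw [map_div, map_mul, map_mul, map_inv, map_inv]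
      cgroup
    · rw [← hSker]
      refine JacVarLib.ext_val ?_
      rw [JacVarLib.pullPc_val, JacVarLib.mk_val]
      exact (AlbCurve.cl_fst_section f' σK hσK T).symm
  -- the class of the pullback
  let M : X.Modules := CohB1.tensorMod ((Scheme.Modules.pullback j.left).obj Θ') L
  have hMi : PicF.IsInvertible M := InvX.isInvertible_tensorMod (PicClLib.isInvertible_pullback _ hΘ'.1) hL
  let jl : JacBC.CK k K X ⟶ (Red.bc q JJ).left := jB.left
  have hjp : jl ≫ p = JacBC.prC k K (C := X) ≫ j.left := by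
    have h : ((JacBC.adj q (J := JJ)).symm jB).left = (π ≫ j).left :=
      congrArg CommaMorphism.left ((JacBC.adj q (J := JJ)).symm_apply_apply (π ≫ j))
    erw [JacBC.adj_symm_left] at h
    refine h.trans ?_
    show π.left ≫ j.left = _
    erw [JacBC.adj_symm_left]
    show (𝟙 (JacBC.CK k K X) ≫ _) ≫ _ = _
    rw [Category.id_comp]
    rfl
  have hcl : JacVarLib.pullPc (JacBC.prC k K (C := X)) (JacVarLib.mk M hMi) = JacVarLib.om K hdK := by
    have hpt := AlbCurve.theta_point K hdK hJK hjK rK (fun _ _ _ _ => rfl) hmulK hgK hL1 hL1' (a * c⁻¹)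
    have h1 : AlbCurve.translMap jK (a * c⁻¹) ≫ (Jac.transl (Red.bc q JJ) a).left = jl := by
      show _ = jB.left
      rw [AlbCurve.translMap, ← Over.comp_left, hval, Category.assoc, AlbCurve.transl_transl]
      refine congrArg (fun b => (jK ≫ Jac.transl (Red.bc q JJ) b).left) ?_
      rw [mul_inv_rev, inv_inv, _root_.mul_assoc, inv_mul_cancel, _root_.mul_one]
    rw [hL1def, JacVarLib.pullPc_comp, h1, JacVarLib.cls_mul, JacVarLib.cls_inv, hacls, hccls] at hpt
    have hmk : JacVarLib.mk (JacVarLib.out (PicDegField.vNK k K σK hσK d hN))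
        (JacVarLib.isInvertible_out _) = S ^ n := by
      refine JacVarLib.ext_val ?_
      rw [JacVarLib.mk_val, JacVarLib.cl_out]
      refine congrArg (fun z : JacVarLib.Pc _ => z.1.val) ?_
      rw [PicDegField.vNK, hSker, hdn, zpow_natCast, inv_pow, inv_inv,
        show JacVarLib.mk (Coh.structureModule X) hN = 1 from JacVarLib.ext_val (JacVarLib.mk_val _ hN), map_one,
        _root_.one_mul]
    rw [hmk] at hpt
    have h3 : JacVarLib.pullPc (JacBC.prC k K (C := X)) (JacVarLib.mk M hMi) = JacVarLib.pullPc jl vK * vL := by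
      refine JacVarLib.ext_val ?_
      rw [JacVarLib.pullPc_val, JacVarLib.mk_val, H23.PicMul.cl_tensor, H23.PicMul.pullCl_mul, Subgroup.coe_mul,
        Units.val_mul, JacVarLib.pullPc_val, JacVarLib.pullPc_val, hvK, JacVarLib.mk_val, JacVarLib.mk_val]
      show PicF.pullCl _ (PicF.pullCl j.left (PicF.cl Θ')) * _ = PicF.pullCl jl (PicF.pullCl p (PicF.cl Θ')) * _
      rw [PicClLib.pullCl_comp, PicClLib.pullCl_comp, hjp]
    rw [h3, hpt, pow_succ]
    cgroup
  obtain ⟨e⟩ : Nonempty ((Scheme.Modules.pullback (JacBC.prC k K (C := X))).obj M ≅ JacVarLib.out (JacVarLib.om K hdK)) :=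
    H23.PicMul.cl_eq_iff.1 (by
      rw [JacVarLib.cl_out, ← hcl, JacVarLib.pullPc_val, JacVarLib.mk_val]
      rfl)
  haveI : QuasiSeparatedSpace X := quasiSeparatedSpace_of_quasiSeparated f
  haveI := QuasiCompact.compactSpace_of_compactSpace f
  refine CurveBC.nonempty_iso_omega k X hdim (CurveBC.finrank_h0_of_geometricallyConnected k X) hMi ?_ ?_
  · rw [← JacBC.deg_CK k K hMi, CurveRR.deg_congr K e 1, ← JacBC.genus_CK k K (C := X)]
    exact JacVarLib.dg_om K hdK
  · refine le_of_eq ?_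
    rw [← CurveBC.finrank_hh k K (JacBC.prC k K (C := X)) (JacBC.isPullback_prC k K) M
      (ProjUPX.isQCoh_of_isInvertible hMi) 0, (CurveCohLib.hhEquiv (k := K) e 0).finrank_eq,
      ← JacBC.genus_CK k K (C := X)]
    exact (JacVarLib.hz_om K hdK).symm

end Groth.Agent.S17133
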