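import Groth.Statements.S17134
import Groth.Agent.PicDegField.Theta
import Groth.Agent.JacBC.DualBC
import Groth.Agent.AVPrincPol.BcPhi
import Groth.Agent.EtFound.Descent
import Groth.Agent.AlbCurve.ThetaAmple
import Groth.Agent.RGLib.AmpleDescent

set_option autoImplicit false
set_option backward.isDefEq.respectTransparency false
set_option backward.isDefEq.respectTransparency.types false
set_option maxHeartbeats 1000000
set_option linter.style.haveILetI false
universe u
open CategoryTheory CategoryTheory.Limits AlgebraicGeometry MonoidalCategory CartesianMonoidalCategory MonObj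
open Jac

namespace Groth.Agent.S17134
open Groth.Agent AlgebraicGeometry CategoryTheory TopologicalSpace
open scoped Groth.Agent.H23.PicMul

/-- Let X be a smooth proper geometrically connected curve of genus g ≥ 1 over a field k, and let (J, ψ)
be its Jacobian: a commutative group scheme over k which is a coarse moduli scheme, on all
k-schemes, for line bundles of degree 0 on X modulo twisting from the base, whose group law is the
tensor product of line bundles. Let N be an invertible module of degree g − 1 on X and Θ_J the line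
bundle of the theta divisor Θ_N on J: an invertible module inverse to the ideal of the closed
subset, with reduced structure, which is the closure of the locus of classes M with H⁰(X, M ⊗ N) ≠
0. Let (Jt, φ) be a commutative group scheme over k presented as the fppf dual of J, and let lam : J
→ Jt be the homomorphism attached to Θ_J through φ (the Jt-valued point of J that φ attaches to the
class of m^* Θ_J ⊗ pr₁^* Θ_J⁻¹ ⊗ pr₂^* Θ_J⁻¹). Then lam is an isomorphism and Θ_J is ample: the
theta divisor defines a principal polarization of the Jacobian. (Stated in the case where a line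
bundle N of degree g − 1 exists on X over k, through which the theta divisor is translated to J; the
published statement covers any curve by descent.) -/
theorem result (k : Type u) [Field k]
    (X : Scheme.{u}) [X.Over (Spec (CommRingCat.of k))]
    [IsProper (X ↘ Spec (CommRingCat.of k))] [Smooth (X ↘ Spec (CommRingCat.of k))]
    [GeometricallyConnected (X ↘ Spec (CommRingCat.of k))] (hdim : topologicalKrullDim ↥X = 1)
    (g : ℕ) (hg : Curv2.genus k X = g) (hg1 : 1 ≤ g)
    (J : Over (Spec (CommRingCat.of k))) [GrpObj J] [IsCommMonObj J]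
    (ψ : (ModFun.PicDeg (X ↘ Spec (CommRingCat.of k)) 0).Hom ⊤ J) (hJ : Jac.IsJacobian (X ↘ Spec (CommRingCat.of k)) ⊤ J ψ)
    (N : X.Modules) (hN : PicF.IsInvertible N) (hNdeg : Curv2.deg k X N 1 = (g : ℤ) - 1)
    (ΘJ : J.left.Modules) (hΘJ : Jac.IsThetaLB (X ↘ Spec (CommRingCat.of k)) 0 ψ N ΘJ)
    (Jt : Over (Spec (CommRingCat.of k))) [GrpObj Jt] [IsCommMonObj Jt]
    (φ : AgPol.DualMap J Jt) (hJt : AbDual.IsDualAV Scheme.fppfPrecoverage J Jt φ)
    (lam : J ⟶ Jt) (hlam : AgPol.IsLambda J Jt φ ΘJ lam) :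
    IsIso lam ∧ CohB1.IsAmple ΘJ := by
  haveI : IsIntegral X := CurveStable.isIntegral_of_geometricallyConnected (k := k)
  haveI := PicRep.smoothOfRelativeDimension_one k X hdim
  let K := AlgebraicClosure k
  let q := JacBC.spq k K
  letI := JacBC.overCK k K (C := X)
  let f := X ↘ Spec (CommRingCat.of k)
  let fK := JacBC.CK k K X ↘ Spec (CommRingCat.of K)
  have hdK := JacBC.dim_CK k K hdim (C := X)
  haveI : IsIntegral (JacBC.CK k K X) := CurveStable.isIntegral_of_geometricallyConnected (k := K)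
  haveI : Smooth fK := SmoothOfRelativeDimension.smooth (n := 1) _
  obtain ⟨x₀, -⟩ := JacVarLib.exists_pt_mem K (U := (Set.univ : Set (JacBC.CK k K X))) isOpen_univ
    ⟨genericPoint (JacBC.CK k K X), trivial⟩
  obtain ⟨P₀, -⟩ := JacVarLib.exists_pt K x₀
  let σK : Spec (CommRingCat.of K) ⟶ JacBC.CK k K X := P₀.left
  have hσK : σK ≫ fK = 𝟙 _ := Over.w P₀
  obtain ⟨rK, hc, hJK, hmulK⟩ := PicDegField.exists_jacobianK hdim hJ K σK hσK
  haveI := JacBC.isCommMonObj_bc k K (J := J)
  haveI : IsProper (Red.bc q J).hom := (PicRep.exists_rep_of_isJacobian hσK hdK hJK).2.1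
  haveI : GeometricallyIntegral (Red.bc q J).hom := (PicRep.exists_rep_of_isJacobian hσK hdK hJK).2.2.2.2.1
  haveI : Flat q := GrpSchLib.flat_spec_map_field _
  haveI : Surjective q := GrpSchLib.surjective_spec_map_field _
  have := EtFound.fpqc_isProper.{u}
  haveI : IsProper J.hom :=
    MorphismProperty.of_pullback_snd_of_descendsAlong (P := @IsProper)
      (Q := (@Surjective ⊓ @Flat ⊓ @QuasiCompact : MorphismProperty Scheme.{u})) (g := q) (f := J.hom)
      ⟨⟨inferInstance, inferInstance⟩, inferInstance⟩ (inferInstanceAs (IsProper (Red.bc q J).hom))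
  haveI : ObjectProperty.IsClosedUnderIsomorphisms (fun X : Scheme.{u} => IsIntegral X) :=
    ⟨fun {X Y} e hX => by
      haveI : IsIntegral X := hX
      haveI : Nonempty Y := ⟨e.hom.base (Classical.arbitrary X)⟩
      exact isIntegral_of_isOpenImmersion e.inv⟩
  have hJKg : GeometricallyIntegral (Red.bc q J).hom := inferInstance
  haveI : GeometricallyIntegral J.hom := ⟨FBaseLib.geometrically_of_surjective (P := fun X : Scheme.{u} => IsIntegral X)
    (fun {Z W} w _ _ hz => by
      haveI : IsIntegral Z := hz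
      haveI := FBaseLib.isReduced_of_flat_surjective w
      haveI := FBaseLib.irreducibleSpace_of_surjective w
      exact isIntegral_of_irreducibleSpace_of_isReduced W) J.hom q
        hJKg.geometrically_isIntegral⟩
  obtain ⟨n, rfl⟩ : ∃ n, g = n + 1 := ⟨g - 1, by omega⟩
  have hgK : Curv2.genus K (JacBC.CK k K X) = n + 1 := (JacBC.genus_CK k K).trans hg
  have hNdeg' : (0 : ℤ) + Curv2.deg k X N 1 = (n : ℤ) := by rw [hNdeg]; push_cast; ring
  have hΘK := PicDegField.isThetaLB_bcD k K σK hσK rK hc hJK hmulK hdim hg hN hNdeg' hΘJ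
  have hNKdeg : Curv2.deg K (JacBC.CK k K X) (PicDegField.NKd k K σK hσK 0 hN) 1 = (n : ℤ) := by
    rw [PicDegField.deg_NKd k K σK hσK hdim hN, add_comm]; exact hNdeg'
  have hNKi : PicF.IsInvertible (PicDegField.NKd k K σK hσK 0 hN) := JacVarLib.isInvertible_out _
  obtain ⟨-, -, -, hamp, -⟩ := AlbCurve.theta_ample K hdK hgK hg1 hJK hNKi
    (by rw [hNKdeg]; push_cast; ring) hΘK
  refine ⟨?_, RGLib.AmpleDescent.isAmple_of_isAmple_pullback J.hom q hΘJ.1 hamp⟩
  obtain ⟨jK, hjK⟩ := AlbCurve.exists_abel (σ := σK) (f := fK) hσK (PicRep.psi0 rK)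
  obtain ⟨a, ha⟩ := AlbCurve.exists_thetaLocus_eq K hdK hJK hjK rK (fun _ _ _ _ => rfl) hmulK hgK hNKi hNKdeg
  have hφK := AVField.isDualAV_bc q hJt
  obtain ⟨hTp', hTg', -⟩ := AVDualExist.isAV_of_isDualAV (A := Red.bc q J) (At := Red.bc q Jt) (n + 1)
    (by
      obtain ⟨-, -, -, -, -, hd⟩ := PicRep.exists_rep_of_isJacobian hσK hdK hJK
      rw [hd, hgK]) hφK
  haveI := hTp'; haveI := hTg'
  haveI : IsProper Jt.hom :=
    MorphismProperty.of_pullback_snd_of_descendsAlong (P := @IsProper)
      (Q := (@Surjective ⊓ @Flat ⊓ @QuasiCompact : MorphismProperty Scheme.{u})) (g := q) (f := Jt.hom)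
      ⟨⟨inferInstance, inferInstance⟩, inferInstance⟩ hTp'
  haveI : GeometricallyIntegral Jt.hom := ⟨FBaseLib.geometrically_of_surjective (P := fun X : Scheme.{u} => IsIntegral X)
    (fun {Z W} w _ _ hz => by
      haveI : IsIntegral Z := hz
      haveI := FBaseLib.isReduced_of_flat_surjective w
      haveI := FBaseLib.irreducibleSpace_of_surjective w
      exact isIntegral_of_irreducibleSpace_of_isReduced W) Jt.hom q hTg'.geometrically_isIntegral⟩
  let p : (Red.bc q J).left ⟶ J.left := pullback.fst J.hom q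
  obtain ⟨hΘKi, hΘKI⟩ := hΘK
  obtain ⟨hL, hL'⟩ := AlbCurve.theta_data K (j := jK) (n := n) a hΘKi (by
    refine Eq.mp ?_ hΘKI
    exact congrArg (fun Z => ClSub.IsInverseOf ((Scheme.Modules.pullback p).obj ΘJ)
      (ClSub.idealMod (Scheme.IdealSheafData.vanishingIdeal Z))) (Closeds.ext ha))
  set v : JacVarLib.Pc J.left := JacVarLib.mk ΘJ hΘJ.1 with hv
  set vK : JacVarLib.Pc (Red.bc q J).left := JacVarLib.mk _ hΘKi with hvK
  have hvKp : vK = JacVarLib.pullPc p v := JacVarLib.ext_val (by
    rw [hvK, hv, JacVarLib.pullPc_val, JacVarLib.mk_val, JacVarLib.mk_val]; rfl)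
  obtain ⟨M, hMi, hM, rfl⟩ := hlam
  have hmum : PicF.cl M = AVField.mum v.1.val v⁻¹.1.val := by
    obtain ⟨e⟩ := hM
    have h := H23.PicMul.cl_eq_iff.2 ⟨e⟩
    rw [H23.PicMul.cl_tensor, H23.PicMul.cl_tensor] at h
    change (PicF.cl M : PicF.Cl (J ⊗ J).left) * AVPair.pl (fst J J) (PicF.cl ΘJ) * AVPair.pl (snd J J) (PicF.cl ΘJ) =
      AVPair.pl μ[J] (PicF.cl ΘJ) at h
    rw [AVField.mum, hv, JacVarLib.mk_val, ← h, ← hv]
    have hu : ∀ w : J ⊗ J ⟶ J, AVPair.pl w (PicF.cl ΘJ) * AVPair.pl w v⁻¹.1.val = 1 := fun w => by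
      rw [← map_mul, ← JacVarLib.mk_val ΘJ hΘJ.1, ← hv, AlbCurve.val_mul_inv, map_one]
    calc (PicF.cl M : PicF.Cl (J ⊗ J).left) = (PicF.cl M : PicF.Cl (J ⊗ J).left) * (AVPair.pl (fst J J) (PicF.cl ΘJ) * AVPair.pl (fst J J) v⁻¹.1.val) *
          (AVPair.pl (snd J J) (PicF.cl ΘJ) * AVPair.pl (snd J J) v⁻¹.1.val) := by
          rw [hu, hu, _root_.mul_one, _root_.mul_one]
      _ = _ := by ac_rfl
  let lamK : Red.bc q J ⟶ Red.bc q Jt := (Over.pullback q).map (φ J (PicF.cl M))
  have hlamK : lamK = AgPol.bcDual q J Jt φ (Red.bc q J) (AVField.mum vK.1.val vK⁻¹.1.val) := by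
    show (Over.pullback q).map (φ J (PicF.cl M)) = _
    rw [hmum, hvKp, ← map_inv, JacVarLib.pullPc_val, JacVarLib.pullPc_val]
    exact (AVPrincPol.bcDual_mum hJt v.2 (AlbCurve.val_mul_inv v) q).symm
  set L : JacVarLib.Pc (Red.bc q J).left := JacVarLib.pullPc (Jac.transl (Red.bc q J) a).left vK with hLdef
  have hlamL : lamK = AgPol.bcDual q J Jt φ (Red.bc q J) (AVField.mum L.1.val L⁻¹.1.val) := by
    rw [hlamK, hLdef, AlbCurve.mum_transl vK a]
  haveI : IsIso lamK := by
    rw [hlamL]
    exact AlbCurve.lam_isIso K hdK hJK hjK rK (fun _ _ _ _ => rfl) hmulK hgK hL hL' hφK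
  haveI : IsIso lamK.left := inferInstanceAs (IsIso ((Over.forget _).map lamK))
  have hpb : IsPullback (pullback.fst J.hom q) lamK.left (φ J (PicF.cl M)).left (pullback.fst Jt.hom q) := by
    refine IsPullback.of_bot ?_ (pullback.lift_fst _ _ _).symm (IsPullback.of_hasPullback Jt.hom q)
    have h0 : IsPullback (pullback.fst J.hom q) (pullback.snd J.hom q) J.hom q := IsPullback.of_hasPullback _ _
    have e1 : lamK.left ≫ pullback.snd Jt.hom q = pullback.snd J.hom q := pullback.lift_snd _ _ _
    rw [e1, Over.w]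
    exact h0
  haveI : IsIso (φ J (PicF.cl M)).left :=
    MorphismProperty.of_isPullback_of_descendsAlong (P := MorphismProperty.isomorphisms Scheme.{u})
      (Q := (@Surjective ⊓ @Flat ⊓ @QuasiCompact : MorphismProperty Scheme.{u})) hpb.flip
      ⟨⟨inferInstance, inferInstance⟩, inferInstance⟩ (inferInstanceAs (IsIso lamK.left))
  haveI : IsIso ((Over.forget _).map (φ J (PicF.cl M))) := ‹IsIso (φ J (PicF.cl M)).left›
  exact isIso_of_reflects_iso _ (Over.forget _)

end Groth.Agent.S17134
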