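import Groth.Statements.S19080
import Groth.Agent.AlbCurve.ThetaAmple
import Groth.Agent.AmpleX.Pow
import Groth.Agent.IntSym.Bridge

set_option autoImplicit false
set_option backward.isDefEq.respectTransparency false
set_option backward.isDefEq.respectTransparency.types false
set_option maxHeartbeats 1000000
set_option linter.style.haveILetI false
universe u
open CategoryTheory CategoryTheory.Limits AlgebraicGeometry MonoidalCategory CartesianMonoidalCategory MonObj
open JacVar

namespace Groth.Agent.S19080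
open Groth.Agent AlgebraicGeometry CategoryTheory
open scoped Groth.Agent.H23.PicMul

/-- Let k be an algebraically closed field, C a smooth proper connected curve of genus g ≥ 1 over k, and
(J, ψ) its Jacobian: a commutative group scheme over k, proper and smooth, which is a coarse moduli
scheme on all k-schemes for line bundles of degree 0 on C modulo twisting from the base, with group
law induced by the tensor product. Let N be an invertible O_C-module of degree g − 1 and Θ the theta
line bundle on J attached to N (an invertible module inverse to the ideal of the reduced closure of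
the locus of classes ξ with H^0(ξ ⊗ N) ≠ 0 — a translate of the image W^{g−1} of the (g−1)-st
symmetric power of C, the source's theta divisor). Let M be an invertible O_J-module inverse to Θ (M
⊗ Θ ≅ O_J). Then the g-fold self-intersection number of Θ on the g-dimensional J is (Θ^g) = g!
(intersection number taken as the alternating sum Σ_I (−1)^|I| χ(⊗_{i ∈ I} M) over subsets I of a
g-element index set, in g copies of the inverse M of Θ), and for every m ≥ 1 one has dim_k H^0(J,
Θ^m) = m^g (which is also χ(Θ^m), the higher cohomology of Θ^m vanishing). -/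
theorem result (k : Type u) [Field k] [IsAlgClosed k]
    (C : Scheme.{u}) [C.Over (Spec (CommRingCat.of k))]
    [IsProper (C ↘ Spec (CommRingCat.of k))] [Smooth (C ↘ Spec (CommRingCat.of k))] [GeometricallyConnected (C ↘ Spec (CommRingCat.of k))]
    (hdim : topologicalKrullDim ↥C = 1)
    (g : ℕ) (hg : Curv2.genus k C = g) (hg1 : 1 ≤ g)
    (J : Over (Spec (CommRingCat.of k))) [GrpObj J] [IsCommMonObj J] [IsProper J.hom] [Smooth J.hom]
    (ψ : (ModFun.PicDeg (C ↘ Spec (CommRingCat.of k)) 0).Hom ⊤ J) (hJ : Jac.IsJacobian (C ↘ Spec (CommRingCat.of k)) ⊤ J ψ)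
    (N : C.Modules) (hN : PicF.IsInvertible N) (hNdeg : Curv2.deg k C N 1 = (g : ℤ) - 1)
    (ΘJ : J.left.Modules) (hΘJ : Jac.IsThetaLB (C ↘ Spec (CommRingCat.of k)) 0 ψ N ΘJ)
    (M : J.left.Modules) (hM : PicF.IsInvertible M) (hMΘ : ClSub.IsInverseOf M ΘJ) :
    letI : J.left.Over (Spec (CommRingCat.of k)) := ⟨J.hom⟩
    FGA.intNum k J.left g (fun _ : Fin g => M) (Coh.structureModule J.left) = (Nat.factorial g : ℤ) ∧
      ∀ m : ℕ, 1 ≤ m → Module.finrank k (Coh.HH J.left (CohB1.tensorPow ΘJ m) 0) = m ^ g := by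
  obtain ⟨hp, hi, hd, hamp, hchi⟩ := AlbCurve.theta_ample k hdim hg hg1 hJ hN hNdeg hΘJ
  haveI := hi
  letI : J.left.Over (Spec (CommRingCat.of k)) := ⟨J.hom⟩
  haveI : IsProper (J.left ↘ Spec (CommRingCat.of k)) := hp
  haveI := CurveCohLib.isNoetherian_of_proper (k := k) (X := J.left)
  have hLM : PicF.cl ΘJ * PicF.cl M = 1 := by
    obtain ⟨e⟩ := hMΘ
    rw [mul_comm, ← H23.PicMul.cl_tensor, H23.PicMul.one_def]
    exact H23.PicMul.cl_eq_iff.2 ⟨e⟩
  have key : ∀ (a b : ℕ) (F : J.left.Modules), PicF.cl F = PicF.cl ΘJ ^ a * PicF.cl M ^ b →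
      (Curv2.euler k J.left F : ℚ) = ((a : ℚ) - b) ^ g := fun a b F hF => by
    have h := AVEuler.euler_homogeneous hd hamp.1 hM hLM a b
    rw [hchi, Int.cast_one, _root_.mul_one] at h
    rw [← h]
    refine congrArg Int.cast (CurveCohLib.euler_congr (k := k) (H23.PicMul.cl_eq_iff.1 ?_).some)
    rw [hF, H23.PicMul.cl_tensor, H23.PicMul.cl_tensorPow, H23.PicMul.cl_tensorPow]
  refine ⟨?_, fun m hm => ?_⟩
  · have hterm : ∀ I : Finset (Fin g), FGA.eulerCharLE k J.left (CohB1.tensorMod
        (FGA.tensorList ((I.sort (· ≤ ·)).map fun _ => M)) (Coh.structureModule J.left)) g = (-(I.card : ℤ)) ^ g := by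
      intro I
      have hcl : PicF.cl (CohB1.tensorMod (FGA.tensorList ((I.sort (· ≤ ·)).map fun _ => M)) (Coh.structureModule J.left)) =
          PicF.cl ΘJ ^ 0 * PicF.cl M ^ I.card := by
        rw [H23.PicMul.cl_tensor, IntSym.cl_tensorList, List.map_map, pow_zero, _root_.one_mul, ← H23.PicMul.one_def,
          _root_.mul_one]
        show (List.map (fun _ => PicF.cl M) _).prod = _
        rw [List.map_const', List.prod_replicate, Finset.length_sort]
      have hinv : PicF.IsInvertibleCl (PicF.cl M ^ I.card) :=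
        ⟨_, H23.PicMul.cl_tensorPow M I.card, H23.PicMul.isInvertible_tensorPow hM _⟩
      have hq : Coh.IsQCoh (CohB1.tensorMod (FGA.tensorList ((I.sort (· ≤ ·)).map fun _ => M)) (Coh.structureModule J.left)) := by
        obtain ⟨N, hN', hNi⟩ := hinv
        rw [pow_zero, _root_.one_mul, ← hN'] at hcl
        obtain ⟨e⟩ := H23.PicMul.cl_eq_iff.1 hcl
        exact (H23.PicMul.isInvertible_of_iso e.symm hNi) |> fun h => (AmpleVan.isCoh_invertible h).1
      rw [IntSym.eulerCharLE_eq_euler k hd.le hq]
      have h := key 0 I.card _ hcl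
      rw [Nat.cast_zero, zero_sub] at h
      exact_mod_cast h
    unfold FGA.intNum
    simp only [hterm]
    rw [← Finset.powerset_univ, Finset.sum_powerset_apply_card (fun c : ℕ => (-1 : ℤ) ^ c * (-(c : ℤ)) ^ g),
      Finset.card_univ, Fintype.card_fin]
    have hf := congrFun (fwdDiff_iter_eq_factorial (R := ℤ) (n := g)) 0
    rw [fwdDiff_iter_eq_sum_shift] at hf
    refine Eq.trans (Finset.sum_congr rfl fun c hc => ?_) hf
    have hcg : c ≤ g := Nat.lt_succ_iff.1 (Finset.mem_range.1 hc)
    obtain ⟨d, rfl⟩ : ∃ d, g = c + d := ⟨g - c, by omega⟩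
    have h1 : ((-1 : ℤ) ^ c) * (-1 : ℤ) ^ c = 1 := by rw [← pow_add, Even.neg_one_pow ⟨c, rfl⟩]
    simp only [smul_eq_mul, nsmul_eq_mul, zero_add, _root_.mul_one, Nat.add_sub_cancel_left]
    rw [neg_pow (c : ℤ), pow_add (-1 : ℤ) c d]
    calc _ = ((-1 : ℤ) ^ c * (-1 : ℤ) ^ c) * ((-1 : ℤ) ^ d * ((c + d).choose c : ℤ) * (c : ℤ) ^ (c + d)) := by ring
      _ = _ := by rw [h1, _root_.one_mul]
  · have h := AmpleX.isAmple_tensorPow hamp (show 0 < m by omega)
    have h0 := key m 0 (CohB1.tensorPow ΘJ m) (by rw [H23.PicMul.cl_tensorPow, pow_zero, _root_.mul_one])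
    rw [Nat.cast_zero, sub_zero, VolLib.euler_one (k := k) (AVEuler.subsingleton_HH_ample h), VolLib.dimH_def] at h0
    exact_mod_cast h0

end Groth.Agent.S19080
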