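import Groth.Statements.S17135
import Groth.Agent.PicDegField.Setup
import Groth.Agent.S19080
import Groth.Agent.S11747
import Groth.Agent.Lib.CurveDeg

set_option autoImplicit false
set_option backward.isDefEq.respectTransparency false
set_option backward.isDefEq.respectTransparency.types false
set_option maxHeartbeats 1000000
set_option linter.style.haveILetI false
universe u
open CategoryTheory CategoryTheory.Limits AlgebraicGeometry MonoidalCategory CartesianMonoidalCategory MonObj
open Jac

namespace Groth.Agent.S17135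
open Groth.Agent AlgebraicGeometry CategoryTheory TopologicalSpace
open scoped Groth.Agent.H23.PicMul

/-- Let X be a smooth proper geometrically connected curve of genus g ≥ 1 over a field k, let (J', ψ')
be a coarse moduli scheme, on all k-schemes, for line bundles of degree g − 1 on X modulo twisting
from the base, let Θ' be the line bundle of its theta divisor (an invertible module on J' inverse to
the ideal of the closed subset, with reduced structure, which is the closure of the locus of classes
having a nonzero global section) and let Θinv be a tensor inverse of Θ'. Then the self-intersection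
number (Θ'^g) — the alternating sum of Euler characteristics FGA.intNum taken in g copies of the
inverse module Θinv against the structure sheaf, with dimension bound g — equals g!, and h⁰(J', Θ')
= 1. -/
theorem result (k : Type u) [Field k]
    (X : Scheme.{u}) [X.Over (Spec (CommRingCat.of k))]
    [IsProper (X ↘ Spec (CommRingCat.of k))] [Smooth (X ↘ Spec (CommRingCat.of k))]
    [GeometricallyConnected (X ↘ Spec (CommRingCat.of k))] (hdim : topologicalKrullDim ↥X = 1)
    (g : ℕ) (hg : Curv2.genus k X = g) (hg1 : 1 ≤ g)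
    (J' : Scheme.{u}) [J'.Over (Spec (CommRingCat.of k))]
    (ψ' : (ModFun.PicDeg (X ↘ Spec (CommRingCat.of k)) ((g : ℤ) - 1)).Hom ⊤ (Over.mk (J' ↘ Spec (CommRingCat.of k))))
    (hJ' : ModFun.IsCoarseModuli ⊤ (ModFun.PicDeg (X ↘ Spec (CommRingCat.of k)) ((g : ℤ) - 1)) (Over.mk (J' ↘ Spec (CommRingCat.of k))) ψ')
    (Θ' : J'.Modules) (hΘ' : Jac.IsThetaLB (X ↘ Spec (CommRingCat.of k)) ((g : ℤ) - 1) ψ' (Coh.structureModule X) Θ')
    (Θinv : J'.Modules) (hΘinv : Nonempty (CohB1.tensorMod Θ' Θinv ≅ Coh.structureModule J')) :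
    FGA.intNum k J' g (fun _ : Fin g => Θinv) (Coh.structureModule J') = (Nat.factorial g : ℤ) ∧
      Module.finrank k (Coh.HH J' Θ' 0) = 1 := by
  haveI : IsIntegral X := CurveStable.isIntegral_of_geometricallyConnected (k := k)
  haveI := PicRep.smoothOfRelativeDimension_one k X hdim
  let K := AlgebraicClosure k
  let q := JacBC.spq k K
  letI := JacBC.overCK k K (C := X)
  let fK := JacBC.CK k K X ↘ Spec (CommRingCat.of K)
  have hdK := JacBC.dim_CK k K hdim (C := X)
  haveI : IsIntegral (JacBC.CK k K X) := CurveStable.isIntegral_of_geometricallyConnected (k := K)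
  haveI : Smooth fK := SmoothOfRelativeDimension.smooth (n := 1) _
  obtain ⟨σK, hσK⟩ := PicDegField.exists_sect hdim (k := k) (C := X) K
  let JJ : Over (Spec (CommRingCat.of k)) := Over.mk (J' ↘ Spec (CommRingCat.of k))
  obtain ⟨rK, hc⟩ := PicDegField.exists_repK hdim hJ' K σK hσK
  obtain ⟨hJp, -, -⟩ := PicDegField.geometry_of_repK hdim rK
  haveI : IsProper JJ.hom := hJp
  haveI : IsProper (J' ↘ Spec (CommRingCat.of k)) := hJp
  letI := PicRep.commGrpObj rK
  have hJK := PicRep.isJacobian_psi0 rK
  have hmulK : ∀ (T : Over (Spec (CommRingCat.of K))) (a b : T ⟶ Red.bc q JJ),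
      PicRep.val0 (rK.homEquiv (a * b)) = PicRep.val0 (rK.homEquiv a) * PicRep.val0 (rK.homEquiv b) :=
    fun T a b => PicRep.val0_mul rK a b
  obtain ⟨n, rfl⟩ : ∃ n, g = n + 1 := ⟨g - 1, by omega⟩
  have hN : PicF.IsInvertible (Coh.structureModule X) := InvX.isInvertible_structureModule
  have hd0 : Curv2.deg k X (Coh.structureModule X) 1 = 0 := CurveDeg.deg_structureModule (k := k)
  have hNdeg' : ((n + 1 : ℕ) : ℤ) - 1 + Curv2.deg k X (Coh.structureModule X) 1 = (n : ℤ) := by
    rw [hd0]; push_cast; ring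
  have hΘK := PicDegField.isThetaLB_bcD k K σK hσK rK hc hJK hmulK hdim hg hN hNdeg' hΘ'
  have hgK : Curv2.genus K (JacBC.CK k K X) = n + 1 := (JacBC.genus_CK k K).trans hg
  obtain ⟨-, hJKp, hJKs, -, -, -⟩ := PicRep.exists_rep_of_isJacobian hσK hdK hJK
  haveI := hJKp; haveI := hJKs
  let p : (Red.bc q JJ).left ⟶ J' := pullback.fst JJ.hom q
  have hΘinv' : PicF.IsInvertible Θinv := (AlbCurve.inverse_data hΘ'.1 hΘinv).1
  have hMK : PicF.IsInvertible ((Scheme.Modules.pullback p).obj Θinv) := PicClLib.isInvertible_pullback p hΘinv'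
  have hinv : ClSub.IsInverseOf ((Scheme.Modules.pullback p).obj Θinv) ((Scheme.Modules.pullback p).obj Θ') := by
    refine H23.PicMul.cl_eq_iff.1 ?_
    obtain ⟨e⟩ := hΘinv
    obtain ⟨u⟩ := PicClLib.nonempty_pullback_structureModule p
    rw [H23.PicMul.cl_tensor, _root_.mul_comm]
    show PicF.pullCl p (PicF.cl Θ') * PicF.pullCl p (PicF.cl Θinv) = _
    rw [← H23.PicMul.pullCl_mul, ← H23.PicMul.cl_tensor, H23.PicMul.cl_eq_iff.2 ⟨e⟩]
    exact H23.PicMul.cl_eq_iff.2 ⟨u⟩
  obtain ⟨hint, hpow⟩ := S19080.result K (JacBC.CK k K X) hdK (n + 1) hgK (by omega) (Red.bc q JJ)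
    (PicRep.psi0 rK) hJK _ (JacVarLib.isInvertible_out _)
    (by rw [PicDegField.deg_NKd k K σK hσK hdim hN, hd0]; push_cast; ring)
    _ hΘK _ hMK hinv
  letI : (Red.bc q JJ).left.Over (Spec (CommRingCat.of K)) := ⟨(Red.bc q JJ).hom⟩
  have hpb : IsPullback p ((Red.bc q JJ).left ↘ Spec (CommRingCat.of K)) (J' ↘ Spec (CommRingCat.of k)) q :=
    IsPullback.of_hasPullback _ _
  constructor
  · rw [← hint]
    unfold FGA.intNum
    refine Finset.sum_congr rfl fun I _ => congrArg (_ * ·) ?_
    have h := S11747.euler_bc k K p hpb (n + 1) ((I.sort (· ≤ ·)).map fun _ => Θinv)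
      (fun N hN => by obtain ⟨j, -, rfl⟩ := List.mem_map.1 hN; exact hΘinv')
      (F := Coh.structureModule J') (by
        haveI := CurveCohLib.isNoetherian_of_proper (k := k) (X := J')
        exact QCoh.isCoh_structureModule')
    rw [List.map_map] at h
    refine h.symm.trans ?_
    obtain ⟨u⟩ := PicClLib.nonempty_pullback_structureModule p
    unfold FGA.eulerCharLE
    refine Finset.sum_congr rfl fun i _ => ?_
    rw [(CurveCohLib.hhEquiv (k := K) (PicGrp.tensorModIso (Iso.refl _) u) i).finrank_eq]
    rfl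
  · haveI := CurveCohLib.isNoetherian_of_proper (k := k) (X := J')
    haveI : CompactSpace J' := inferInstance
    have h1 := hpow 1 le_rfl
    rw [one_pow] at h1
    obtain ⟨e⟩ : Nonempty (CohB1.tensorPow ((Scheme.Modules.pullback p).obj Θ') 1 ≅
        (Scheme.Modules.pullback p).obj Θ') := H23.PicMul.cl_eq_iff.1 (by
      show PicF.cl (CohB1.tensorMod (Coh.structureModule _) _) = _
      rw [H23.PicMul.cl_tensor, ← H23.PicMul.one_def, _root_.one_mul])
    rw [← CurveBC.finrank_hh k K p hpb Θ' (ProjUPX.isQCoh_of_isInvertible hΘ'.1) 0]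
    exact ((CurveCohLib.hhEquiv (k := K) e 0).finrank_eq).symm.trans h1

end Groth.Agent.S17135
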