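import Groth.Statements.S17136
import Groth.Agent.PicDegField.UnivKey

set_option autoImplicit false
set_option backward.isDefEq.respectTransparency false
set_option backward.isDefEq.respectTransparency.types false
set_option maxHeartbeats 1000000
set_option linter.style.haveILetI false
set_option backward.isDefEq.respectTransparency false
set_option backward.isDefEq.respectTransparency.types false
set_option maxHeartbeats 1000000
set_option linter.style.haveILetI false
universe u
open CategoryTheory CategoryTheory.Limits AlgebraicGeometry MonoidalCategory CartesianMonoidalCategory MonObj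
open Jac

namespace Groth.Agent.S17136
open Groth.Agent AlgebraicGeometry CategoryTheory TopologicalSpace
open scoped Groth.Agent.H23.PicMul

/-- Let X be a smooth proper geometrically connected curve of genus g ≥ 1 over a field k (no rational
point is assumed), let (J_g, ψ_g) and (J', ψ') be coarse moduli schemes, on all k-schemes, for line
bundles of degree g and of degree g − 1 on X modulo twisting from the base (the Picard schemes of
degrees g and g − 1), and let Θ' be the line bundle of the theta divisor on J': an invertible module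
inverse to the ideal of the closed subset, with reduced structure, which is the closure of the locus
of classes having a nonzero global section. Let fm : X × J_g → J' be the morphism induced by the
operation (x, M) ↦ M(−x): for every k-scheme T, every T-point x of X and every admissible degree-g
family M on X_T there is an admissible degree-(g − 1) family isomorphic to M ⊗ I_{Γ_x} (I_{Γ_x} the
ideal of the graph of x in X_T), and ψ' of any such family equals the pair (x, ψ_g M) followed by
fm. Then fm^* Θ' is a universal line bundle on X × J_g: it is an admissible degree-g family over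
J_g, and every admissible degree-g family on X_T, T any k-scheme, is isomorphic up to a twist by a
line bundle from T to its pull-back along exactly one k-morphism T → J_g. -/
theorem result (k : Type u) [Field k]
    (X : Scheme.{u}) [X.Over (Spec (CommRingCat.of k))]
    [IsProper (X ↘ Spec (CommRingCat.of k))] [Smooth (X ↘ Spec (CommRingCat.of k))]
    [GeometricallyConnected (X ↘ Spec (CommRingCat.of k))] (hdim : topologicalKrullDim ↥X = 1)
    (g : ℕ) (hg : Curv2.genus k X = g) (hg1 : 1 ≤ g)
    (Jg : Over (Spec (CommRingCat.of k)))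
    (ψg : (ModFun.PicDeg (X ↘ Spec (CommRingCat.of k)) (g : ℤ)).Hom ⊤ Jg)
    (hJg : ModFun.IsCoarseModuli ⊤ (ModFun.PicDeg (X ↘ Spec (CommRingCat.of k)) (g : ℤ)) Jg ψg)
    (J' : Over (Spec (CommRingCat.of k)))
    (ψ' : (ModFun.PicDeg (X ↘ Spec (CommRingCat.of k)) ((g : ℤ) - 1)).Hom ⊤ J')
    (hJ' : ModFun.IsCoarseModuli ⊤ (ModFun.PicDeg (X ↘ Spec (CommRingCat.of k)) ((g : ℤ) - 1)) J' ψ')
    (Θ' : J'.left.Modules) (hΘ' : Jac.IsThetaLB (X ↘ Spec (CommRingCat.of k)) ((g : ℤ) - 1) ψ' (Coh.structureModule X) Θ')
    (fm : Over.mk (X ↘ Spec (CommRingCat.of k)) ⊗ Jg ⟶ J')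
    (hfm : Jac.IsBinOpMap
      (ModFun.Problem.Hom.ofNatTrans (𝟙 ((AlgSp.pyon (Spec (CommRingCat.of k))).obj (Over.mk (X ↘ Spec (CommRingCat.of k)))))) ψg ψ'
      (fun (T : Over (Spec (CommRingCat.of k))) (x : ULift.{u + 1} (T ⟶ Over.mk (X ↘ Spec (CommRingCat.of k))))
        (M N : (PicF.XT (X ↘ Spec (CommRingCat.of k)) T).Modules) =>
        Nonempty (N ≅ CohB1.tensorMod M (ClSub.idealMod
          (pullback.lift x.down.left (𝟙 T.left) ((Over.w x.down).trans (Category.id_comp T.hom).symm) :
            T.left ⟶ PicF.XT (X ↘ Spec (CommRingCat.of k)) T).ker)))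
      fm) :
    ModFun.IsUnivFamily ⊤ (ModFun.PicDeg (X ↘ Spec (CommRingCat.of k)) (g : ℤ)) Jg ((Scheme.Modules.pullback fm.left).obj Θ') := by
  classical
  haveI : IsIntegral X := CurveStable.isIntegral_of_geometricallyConnected (k := k)
  haveI := PicRep.smoothOfRelativeDimension_one k X hdim
  let f := X ↘ Spec (CommRingCat.of k)
  obtain ⟨n, rfl⟩ : ∃ n, g = n + 1 := ⟨g - 1, by omega⟩
  let d : ℤ := ((n + 1 : ℕ) : ℤ)
  let U : (PicF.XT f Jg).Modules := (Scheme.Modules.pullback fm.left).obj Θ'
  have hUi : PicF.IsInvertible U := PicClLib.isInvertible_pullback _ hΘ'.1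
  have key : ∀ (Ω : Type u) [Field Ω] [IsAlgClosed Ω] (τ : Spec (CommRingCat.of Ω) ⟶ Spec (CommRingCat.of k))
      (L : (PicF.XT f (Over.mk τ)).Modules) (hL : (ModFun.PicDeg f d).ok (Over.mk τ) L),
      PicDegField.cls f ((ModFun.PicDeg f d).pull (ψg.app _ L trivial hL) U) (PicClLib.isInvertible_pullback _ hUi) =
        PicDegField.cls f L (PicDegField.invertible_of_okD f hL) := by
    intro Ω _ _ τ L hL
    obtain ⟨φ, rfl⟩ : ∃ φ, Spec.map φ = τ := ⟨Spec.preimage τ, Spec.map_preimage τ⟩
    letI : Algebra k Ω := φ.hom.toAlgebra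
    refine Eq.trans ?_ (PicDegField.cls_pullback_theta hdim hg (d := d) (d' := d - 1) (by simp [d]) (by simp [d])
      hJ' hΘ' hfm Ω L hL)
    rw [PicDegField.cls_pull (d := d) f _ hUi, ← JacVarLib.pullPc_comp]
    refine congrArg (JacVarLib.pullPc _) (JacVarLib.ext_val ?_)
    rw [PicDegField.cls_val, JacVarLib.pullPc_val, JacVarLib.mk_val]
    rfl
  have hdegU : PicDegField.HasDeg f d Jg (PicDegField.cls f U hUi) := by
    intro t
    obtain ⟨Ω, _, _, τ, a, rfl⟩ := PicRep.exists_geom t
    obtain ⟨L, hL, rfl⟩ := (hJg.2.2 Ω τ trivial).1 a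
    rw [← PicRep.deg_pullPc, ← PicDegField.cls_pull (d := d) f _ hUi, key Ω τ L hL]
    exact PicDegField.hasDeg_of_ok f hL _
  have hUok : (ModFun.PicDeg f d).ok Jg U := PicDegField.ok_of_hasDeg f hUi hdegU
  obtain ⟨σK, hσK⟩ := PicDegField.exists_sect hdim (k := k) (C := X) (AlgebraicClosure k)
  obtain ⟨rK, -⟩ := PicDegField.exists_repK hdim hJg (AlgebraicClosure k) σK hσK
  obtain ⟨hJp, hJgi, -⟩ := PicDegField.geometry_of_repK hdim rK
  haveI := hJp
  haveI := hJgi
  haveI : AlgebraicGeometry.IsIntegral Jg.left := GeometricallyIntegral.isIntegral_of_subsingleton Jg.hom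
  have hid : ψg.app Jg U trivial hUok = 𝟙 Jg := by
    refine PicDegField.hom_ext_geom fun Ω _ _ τ a => ?_
    rw [Category.comp_id]
    obtain ⟨L, hL, rfl⟩ := (hJg.2.2 Ω τ trivial).1 a
    rw [← ψg.natural _ U trivial trivial hUok (PicDegField.ok_pullD f _ hUok)]
    refine ψg.resp _ _ trivial _ hL (PicDegField.r_of_cls f (PicClLib.isInvertible_pullback _ hUi)
      (PicDegField.invertible_of_okD f hL) 1 ?_)
    rw [map_one, _root_.mul_one]
    exact (key Ω τ L hL).symm
  have hval : ∀ (T : Over (Spec (CommRingCat.of k))) (b : T ⟶ Jg),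
      ψg.app T ((ModFun.PicDeg f d).pull b U) trivial (PicDegField.ok_pullD f b hUok) = b := fun T b => by
    rw [ψg.natural b U trivial trivial hUok (PicDegField.ok_pullD f b hUok), hid, Category.comp_id]
  refine ⟨hUok, fun T x _ hx => ⟨ψg.app T x trivial hx, ?_, fun b hb => ?_⟩⟩
  · obtain ⟨ν, hν⟩ := PicDegField.cls_eq_of_app_eq hdim hJg
      (PicDegField.ok_pullD f (ψg.app T x trivial hx) hUok) hx (hval T _)
    exact PicDegField.r_of_cls f _ _ ν hν
  · rw [← hval T b]
    exact ψg.resp _ _ trivial _ hx hb

end Groth.Agent.S17136
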