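import Groth.Statements.S17137
import Groth.Agent.PicDegField.SymImm

set_option autoImplicit false
set_option backward.isDefEq.respectTransparency false
set_option backward.isDefEq.respectTransparency.types false
set_option maxHeartbeats 1000000
set_option linter.style.haveILetI false
universe u
open CategoryTheory CategoryTheory.Limits AlgebraicGeometry MonoidalCategory CartesianMonoidalCategory MonObj
open Jac

namespace Groth.Agent.S17137
open Groth.Agent AlgebraicGeometry CategoryTheory TopologicalSpace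
open scoped Groth.Agent.H23.PicMul

/-- Let X be a smooth proper geometrically connected curve of genus g ≥ 1 over a field k and n ≥ 1; let
(Y, q) be the n-th symmetric power C^(n) of X over k (q : X ×_k ⋯ ×_k X → Y a quotient of the n-fold
fibre power by the symmetric group permuting the factors: affine, invariant, identifying sections of
O_Y with invariant sections, with q over k), let (J_n, ψ_n) be a coarse moduli scheme, on all
k-schemes, for line bundles of degree n on X modulo twisting from the base (the degree-n Picard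
scheme), and let j_n : Y → J_n be the morphism through which the classifying map of the family O(Γ_1
+ ⋯ + Γ_n) on X × X^n factors (Γ_i the graph of the i-th projection; the family F is pinned by F ⊗
I_{Γ_1} ⊗ ⋯ ⊗ I_{Γ_n} ≅ O), i.e. q followed by j_n is ψ_n of that family, so that j_n sends an
effective divisor D of degree n to the class of O(D). If n ≤ g, then there is a non-empty open
subscheme U of Y such that the restriction of j_n to U is an immersion: j_n is birational onto its
image W_n ⊂ J_n. (The published statement allows 0 ≤ n ≤ g; this row takes 1 ≤ n ≤ g, the case n = 0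
being the one-point scheme Spec k, the zeroth symmetric power, mapping to the class of the trivial
bundle; the printed proof itself treats 1 ≤ n ≤ g.) -/
theorem result (k : Type u) [Field k]
    (X : Scheme.{u}) [X.Over (Spec (CommRingCat.of k))]
    [IsProper (X ↘ Spec (CommRingCat.of k))] [Smooth (X ↘ Spec (CommRingCat.of k))]
    [GeometricallyConnected (X ↘ Spec (CommRingCat.of k))] (hdim : topologicalKrullDim ↥X = 1)
    (g : ℕ) (hg : Curv2.genus k X = g) (hg1 : 1 ≤ g)
    (n : ℕ) (hn : 1 ≤ n)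
    (Y : Scheme.{u}) (q : SymProd.fibPow (X ↘ Spec (CommRingCat.of k)) n ⟶ Y) (gY : Y ⟶ Spec (CommRingCat.of k))
    (hq : SymProd.IsSymProd (X ↘ Spec (CommRingCat.of k)) n q gY)
    (Jn : Over (Spec (CommRingCat.of k)))
    (ψn : (ModFun.PicDeg (X ↘ Spec (CommRingCat.of k)) (n : ℤ)).Hom ⊤ Jn)
    (hJn : ModFun.IsCoarseModuli ⊤ (ModFun.PicDeg (X ↘ Spec (CommRingCat.of k)) (n : ℤ)) Jn ψn)
    (F : (PicF.XT (X ↘ Spec (CommRingCat.of k)) (Over.mk (WidePullback.base fun (_ : Fin n) => (X ↘ Spec (CommRingCat.of k))))).Modules)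
    (hF : Nonempty (CohB1.tensorMod F (FGA.tensorList (List.ofFn fun i : Fin n =>
        ClSub.idealMod (pullback.lift (WidePullback.π (fun (_ : Fin n) => (X ↘ Spec (CommRingCat.of k))) i) (𝟙 (SymProd.fibPow (X ↘ Spec (CommRingCat.of k)) n))
          ((WidePullback.π_arrow (fun (_ : Fin n) => (X ↘ Spec (CommRingCat.of k))) i).trans (Category.id_comp _).symm) :
            SymProd.fibPow (X ↘ Spec (CommRingCat.of k)) n ⟶ PicF.XT (X ↘ Spec (CommRingCat.of k)) (Over.mk (WidePullback.base fun (_ : Fin n) => (X ↘ Spec (CommRingCat.of k))))).ker)) ≅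
      Coh.structureModule _))
    (hT : (⊤ : ObjectProperty (Over (Spec (CommRingCat.of k)))) (Over.mk (WidePullback.base fun (_ : Fin n) => (X ↘ Spec (CommRingCat.of k)))))
    (hFok : (ModFun.PicDeg (X ↘ Spec (CommRingCat.of k)) (n : ℤ)).ok (Over.mk (WidePullback.base fun (_ : Fin n) => (X ↘ Spec (CommRingCat.of k)))) F)
    (jn : Over.mk gY ⟶ Jn)
    (hjn : Over.homMk q hq.over ≫ jn = ψn.app (Over.mk (WidePullback.base fun (_ : Fin n) => (X ↘ Spec (CommRingCat.of k)))) F hT hFok)
    (hng : n ≤ g) :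
    ∃ U : Y.Opens, (U : Set ↥Y).Nonempty ∧ IsImmersion (U.ι ≫ jn.left) := by
  classical
  haveI : IsIntegral X := CurveStable.isIntegral_of_geometricallyConnected (k := k)
  haveI := PicRep.smoothOfRelativeDimension_one k X hdim
  let f := X ↘ Spec (CommRingCat.of k)
  obtain ⟨N, rfl⟩ : ∃ N, g = N + 1 := ⟨g - 1, by omega⟩
  obtain ⟨m, hN⟩ : ∃ m, n + m = N + 1 := ⟨N + 1 - n, by omega⟩
  let W : Over (Spec (CommRingCat.of k)) := PicDegField.pw f n
  let pr := PicDegField.pwπ f n
  let qq : W ⟶ Over.mk gY := Over.homMk (U := W) (V := Over.mk gY) q hq.over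
  let mm : W ⟶ Jn := ψn.app W F hT hFok
  have hmm : qq ≫ jn = mm := hjn
  have hFi : PicF.IsInvertible F := PicDegField.invertible_of_okD f hFok
  have hFcl : PicDegField.cls f F hFi = AlbCurve.divC pr := PicDegField.cls_eq_divC pr hFi hF
  have hnat : ∀ {T : Over (Spec (CommRingCat.of k))} (a : T ⟶ W), a ≫ mm =
      ψn.app T ((ModFun.PicDeg f n).pull a F) trivial (PicDegField.ok_pullD f a hFok) := fun a =>
    (ψn.natural a F hT trivial hFok (PicDegField.ok_pullD f a hFok)).symm
  have hcls : ∀ {T : Over (Spec (CommRingCat.of k))} (a : T ⟶ W),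
      PicDegField.cls f ((ModFun.PicDeg f n).pull a F)
        (PicDegField.invertible_of_okD f (PicDegField.ok_pullD f a hFok)) = AlbCurve.divC fun i => a ≫ pr i := fun a => by
    refine (PicDegField.cls_pull f a hFi).trans ?_
    rw [hFcl, AlbCurve.pull_divC]
  -- geometry of the target
  let K := AlgebraicClosure k
  letI := JacBC.overCK k K (C := X)
  obtain ⟨σK, hσK⟩ := PicDegField.exists_sect hdim (k := k) (C := X) K
  obtain ⟨rK, -⟩ := PicDegField.exists_repK hdim hJn K σK hσK
  obtain ⟨hJp, -, -⟩ := PicDegField.geometry_of_repK hdim rK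
  haveI := hJp
  -- geometry of the power
  obtain ⟨P, ρ, pr', hPp, -, -, hPs, hlift, hext⟩ :=
    Jacobian.exists_power f (𝟙_ (Over (Spec (CommRingCat.of k)))) n
  haveI : IsProper W.hom := by
    obtain ⟨b, hb, hb'⟩ := hlift W (toUnit _) pr
    let a := PicDegField.pwLift f pr'
    have hab : a ≫ b = 𝟙 P := hext _ _ _ (toUnit_unique _ _) fun i => by
      rw [Category.assoc, hb', Category.id_comp]
      exact PicDegField.pwLift_π f pr' i
    have hba : b ≫ a = 𝟙 W := PicDegField.pw_hom_ext f fun i => by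
      rw [Category.assoc, Category.id_comp]
      erw [PicDegField.pwLift_π f pr' i]
      exact hb' i
    haveI : IsIso b.left := ⟨a.left, by rw [← Over.comp_left, hba]; rfl, by rw [← Over.comp_left, hab]; rfl⟩
    haveI := hPp
    have hP : ρ.left = P.hom := (Category.comp_id _).symm.trans (Over.w ρ)
    haveI : IsProper P.hom := hP ▸ hPp
    rw [← Over.w b]
    infer_instance
  haveI : IsProper mm.left := by
    haveI : IsProper (mm.left ≫ Jn.hom) := by rw [Over.w mm]; infer_instance
    exact IsProper.of_comp mm.left Jn.hom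
  have hfac : q ≫ jn.left = mm.left := congrArg CommaMorphism.left hmm
  haveI := hq.isQuot.affine
  haveI : Surjective q := ⟨SGA1Q.surjective hq.isQuot⟩
  haveI : IsLocallyNoetherian Jn.left := LocallyOfFiniteType.isLocallyNoetherian Jn.hom
  haveI : LocallyOfFiniteType jn.left := SGA1Q.locallyOfFiniteType_of_isQuot hq.isQuot hfac inferInstance
  haveI : IsSeparated jn.left := (SGA1Q.isSeparated_iff_of_isQuot hq.isQuot hfac).1 inferInstance
  haveI : UniversallyClosed jn.left := by
    haveI : UniversallyClosed (q ≫ jn.left) := by rw [hfac]; infer_instance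
    exact UniversallyClosed.of_comp_surjective q jn.left
  haveI : IsProper jn.left := { }
  -- the good open
  let G := PicDegField.GG (m := m) hN pr
  have hsat : ∀ w w' : W.left, w ∈ G → mm.left w = mm.left w' → w' ∈ G := by
    rintro _ w' ⟨o, ho, rfl⟩ he
    let Wm := PicDegField.pw f m
    let P := pullback ((fst W Wm).left ≫ mm.left) mm.left
    obtain ⟨z, hz1, hz2⟩ := Scheme.Pullback.exists_preimage_pullback
      (f := (fst W Wm).left ≫ mm.left) (g := mm.left) o w' he
    let Ω := AlgebraicClosure (P.residueField z)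
    let e : Spec (CommRingCat.of Ω) ⟶ P :=
      Spec.map (CommRingCat.ofHom (algebraMap (P.residueField z) Ω)) ≫ P.fromSpecResidueField z
    let τ := (e ≫ pullback.fst _ _) ≫ (W ⊗ Wm).hom
    let g₁ : Over.mk τ ⟶ W ⊗ Wm := Over.homMk (e ≫ pullback.fst _ _) rfl
    let g₂ : Over.mk τ ⟶ W := Over.homMk (e ≫ pullback.snd _ _) (by
      show (e ≫ pullback.snd _ _) ≫ W.hom = (e ≫ pullback.fst _ _) ≫ (W ⊗ Wm).hom
      rw [← Over.w (fst W Wm), ← Over.w mm]
      simpa only [Category.assoc] using congrArg (fun a => e ≫ a ≫ Jn.hom)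
        (pullback.condition (f := (fst W Wm).left ≫ mm.left) (g := mm.left)).symm)
    have hgg : (g₁ ≫ fst W Wm) ≫ mm = g₂ ≫ mm := Over.OverMorphism.ext (by
      show ((e ≫ pullback.fst _ _) ≫ (fst W Wm).left) ≫ mm.left = (e ≫ pullback.snd _ _) ≫ mm.left
      simpa only [Category.assoc] using congrArg (fun a => e ≫ a)
        (pullback.condition (f := (fst W Wm).left ≫ mm.left) (g := mm.left)))
    rw [hnat, hnat] at hgg
    obtain ⟨μ', hμ⟩ := PicDegField.cls_of_r f (PicDegField.invertible_of_okD f (PicDegField.ok_pullD f _ hFok))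
      (PicDegField.invertible_of_okD f (PicDegField.ok_pullD f _ hFok)) ((hJn.2.2 Ω τ trivial).2 _ _ _ _ hgg)
    rw [hcls, hcls, AlbCurve.pc_base_eq_one μ', map_one, _root_.mul_one] at hμ
    let zz := fun l => (g₁ ≫ snd W Wm) ≫ PicDegField.pwπ f m l
    have hdv : AlbCurve.divC (PicDegField.app hN (fun i => g₂ ≫ pr i) zz) =
        AlbCurve.divC (PicDegField.app hN (fun i => (g₁ ≫ fst W Wm) ≫ pr i) zz) := by
      rw [PicDegField.divC_app, PicDegField.divC_app, hμ]
    have hpt1 : g₁.left (IsLocalRing.closedPoint Ω) = o := by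
      show (e ≫ pullback.fst _ _).base (IsLocalRing.closedPoint Ω) = o
      show (pullback.fst ((fst W Wm).left ≫ mm.left) mm.left).base (P.fromSpecResidueField z _) = o
      rw [Scheme.fromSpecResidueField_apply, hz1]
    have hpt2 : g₂.left (IsLocalRing.closedPoint Ω) = w' := by
      show (pullback.snd ((fst W Wm).left ≫ mm.left) mm.left).base (P.fromSpecResidueField z _) = w'
      rw [Scheme.fromSpecResidueField_apply, hz2]
    obtain ⟨hog, hod⟩ := ho
    rw [← hpt1] at hog hod
    have hg1 : PicRep.Good (PicF.XTproj f (Over.mk τ))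
        (AlbCurve.divC (PicDegField.app hN (fun i => (g₁ ≫ fst W Wm) ≫ pr i) zz)) (IsLocalRing.closedPoint Ω) := by
      rw [← PicDegField.comp_aa, ← AlbCurve.pull_divC]
      exact (PicRep.good_pull g₁ _ _).2 hog
    have hd1 : AlbCurve.Distinct (PicDegField.app hN (fun i => (g₁ ≫ fst W Wm) ≫ pr i) zz) (IsLocalRing.closedPoint Ω) := by
      rw [← PicDegField.comp_aa]
      exact AlbCurve.distinct_pull g₁ hod
    rw [← hpt2]
    exact PicDegField.mem_GG hN pr g₂ zz (by rw [hdv]; exact hg1) (PicDegField.distinct_of_cls τ hg1 hd1 hdv)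
  let V : Jn.left.Opens := ⟨(mm.left.base '' (G : Set W.left)ᶜ)ᶜ,
    (mm.left.isClosedMap _ G.isOpen.isClosed_compl).isOpen_compl⟩
  let U : Y.Opens := jn.left ⁻¹ᵁ V
  have hqU : ∀ w : W.left, q w ∈ U ↔ w ∈ G := fun w => by
    have hw : jn.left (q w) = mm.left w := by rw [← hfac]; rfl
    show jn.left (q w) ∈ V ↔ _
    rw [hw]
    constructor
    · intro h
      by_contra hG
      exact h ⟨w, hG, rfl⟩
    · rintro hG ⟨w', hw', he⟩
      exact hw' (hsat w w' hG he.symm)
  refine ⟨U, ?_, ?_⟩
  · obtain ⟨w, hw⟩ := PicDegField.GG_nonempty (m := m) hN hg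
    exact ⟨q w, (hqU w).2 hw⟩
  -- the quotient map is flat over `U`
  have hO : ∀ s : ULift.{u} (Equiv.Perm (Fin n)), q ⁻¹ᵁ U ≤ (SymProd.permActU f n s).hom ⁻¹ᵁ (q ⁻¹ᵁ U) :=
    fun s w hw => by
      show ((SymProd.permActU f n s).hom ≫ q).base w ∈ U
      rw [hq.isQuot.inv s]
      exact hw
  let ρU := SGA1Q.restrictAction (SymProd.permActU f n) (q ⁻¹ᵁ U) hO
  have hρU := SGA1Q.restrictAction_hom_ι (SymProd.permActU f n) (q ⁻¹ᵁ U) hO
  have hqUq : SGA1.IsQuot ρU (q ∣_ U) := SGA1Q.isQuot_morphismRestrict hq.isQuot U ρU hρU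
  have hfree : SGA1Q.FreeOnGeomPoints ρU := by
    intro Ω _ _ ξ s hs
    let ξ' : Spec (CommRingCat.of Ω) ⟶ W.left := ξ ≫ (q ⁻¹ᵁ U).ι
    let τ := ξ' ≫ W.hom
    let a : Over.mk τ ⟶ W := Over.homMk ξ' rfl
    have hd : AlbCurve.Distinct (fun i => a ≫ pr i) (IsLocalRing.closedPoint Ω) :=
      AlbCurve.distinct_pull a (PicDegField.distinct_of_mem_GG hN ((hqU _).1 (ξ (IsLocalRing.closedPoint Ω)).2))
    have hfix : ξ' ≫ SymProd.permHom f n s.down = ξ' := by
      have h := congrArg (· ≫ (q ⁻¹ᵁ U).ι) hs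
      simp only [Category.assoc] at h
      rw [show (ρU s).hom ≫ (q ⁻¹ᵁ U).ι = _ from hρU s] at h
      exact (Category.assoc _ _ _).trans h
    refine ULift.ext _ _ ?_
    show s.down = 1
    refine Equiv.ext fun i => ?_
    by_contra hne
    have hne' : s.down.symm i ≠ i := fun h => hne (show s.down i = i by
      nth_rewrite 1 [← h]
      exact Equiv.apply_symm_apply _ _)
    have heq : a ≫ pr (s.down.symm i) = a ≫ pr i := Over.OverMorphism.ext (by
      show ξ' ≫ WidePullback.π (fun _ : Fin n => f) (s.down.symm i) = ξ' ≫ WidePullback.π (fun _ : Fin n => f) i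
      conv_rhs => rw [← hfix, Category.assoc, SymProd.permHom_π])
    exact hd _ _ hne' ⟨IsLocalRing.closedPoint Ω, congrArg (fun b => (GenusOneX.sct f b).base (IsLocalRing.closedPoint Ω)) heq.symm⟩
  haveI : Flat (q ∣_ U) := SGA1Q.flat_of_free hfree hqUq
  haveI : IsAffineHom (q ∣_ U) := hqUq.affine
  haveI : Surjective (q ∣_ U) := ⟨SGA1Q.surjective hqUq⟩
  -- the map is a monomorphism over `U`
  have hmono : Mono (U.ι ≫ jn.left) := by
    constructor
    intro T a b hab
    let p := q ∣_ U
    let π : pullback (pullback.fst a p ≫ b) p ⟶ T := pullback.fst (pullback.fst a p ≫ b) p ≫ pullback.fst a p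
    haveI : Flat π := inferInstance
    haveI : Surjective π := inferInstance
    haveI : QuasiCompact π := inferInstance
    haveI : Epi π := inferInstance
    rw [← cancel_mono U.ι, ← cancel_epi π]
    let x₀ := pullback.fst (pullback.fst a p ≫ b) p ≫ pullback.snd a p
    let y₀ := pullback.snd (pullback.fst a p ≫ b) p
    have hxa : x₀ ≫ p = π ≫ a := by
      simp only [x₀, π, Category.assoc]
      rw [pullback.condition]
    have hyb : y₀ ≫ p = π ≫ b := by
      simp only [y₀, π, Category.assoc]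
      exact pullback.condition.symm
    have hp : p ≫ U.ι = (q ⁻¹ᵁ U).ι ≫ q := morphismRestrict_ι q U
    let x : _ ⟶ W.left := x₀ ≫ (q ⁻¹ᵁ U).ι
    let y : _ ⟶ W.left := y₀ ≫ (q ⁻¹ᵁ U).ι
    have hxq : x ≫ q = π ≫ a ≫ U.ι :=
      (Category.assoc _ _ _).trans ((congrArg (x₀ ≫ ·) hp.symm).trans
        ((Category.assoc _ _ _).symm.trans ((congrArg (· ≫ U.ι) hxa).trans (Category.assoc _ _ _))))
    have hyq : y ≫ q = π ≫ b ≫ U.ι :=
      (Category.assoc _ _ _).trans ((congrArg (y₀ ≫ ·) hp.symm).trans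
        ((Category.assoc _ _ _).symm.trans ((congrArg (· ≫ U.ι) hyb).trans (Category.assoc _ _ _))))
    have hm : x ≫ mm.left = y ≫ mm.left := by
      rw [← hfac, ← Category.assoc, ← Category.assoc, hxq, hyq]
      simp only [Category.assoc]
      exact congrArg (π ≫ ·) hab
    let T₀ : Over (Spec (CommRingCat.of k)) := Over.mk (x ≫ W.hom)
    let xx : T₀ ⟶ W := Over.homMk x rfl
    let yy : T₀ ⟶ W := Over.homMk y (by
      show y ≫ W.hom = x ≫ W.hom
      rw [← Over.w mm, reassoc_of% hm])
    have hxy : xx ≫ mm = yy ≫ mm := Over.OverMorphism.ext hm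
    let qK := JacBC.spq k K
    let T₁ := (Over.map qK).obj (Red.bc qK T₀)
    let π₁ : T₁ ⟶ T₀ := Over.homMk (pullback.fst T₀.hom qK) pullback.condition
    haveI : Flat qK := GrpSchLib.flat_spec_map_field _
    haveI : Surjective qK := GrpSchLib.surjective_spec_map_field _
    haveI : Flat π₁.left := inferInstanceAs (Flat (pullback.fst T₀.hom qK))
    haveI : Surjective π₁.left := inferInstanceAs (Surjective (pullback.fst T₀.hom qK))
    haveI : QuasiCompact π₁.left := inferInstanceAs (QuasiCompact (pullback.fst T₀.hom qK))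
    have h1 := congrArg (π₁ ≫ ·) hxy
    simp only [← Category.assoc] at h1
    rw [hnat, hnat] at h1
    obtain ⟨μ', hμ⟩ := PicDegField.cls_of_app_eq K hdim hJn _ _ h1
    rw [hcls, hcls] at hμ
    have hmem : ∀ t, t ∈ PicDegField.GG (m := m) hN (fun i => (π₁ ≫ xx) ≫ pr i) := fun t => by
      obtain ⟨Ω, _, _, τ, gm, rfl⟩ := PicRep.exists_geom (S := Spec (CommRingCat.of k)) (T := T₁) t
      have hG : (gm ≫ π₁ ≫ xx).left (IsLocalRing.closedPoint Ω) ∈ G :=
        (hqU _).1 ((x₀ ((gm ≫ π₁).left (IsLocalRing.closedPoint Ω))).2)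
      obtain ⟨o, ho, heo⟩ := hG
      let Wm := PicDegField.pw f m
      obtain ⟨z, hz1, hz2⟩ := Scheme.Pullback.exists_preimage_pullback (f := (fst W Wm).left)
        (g := (gm ≫ π₁ ≫ xx).left) o (IsLocalRing.closedPoint Ω) heo
      let P := pullback (fst W Wm).left (gm ≫ π₁ ≫ xx).left
      let Ω' := AlgebraicClosure (P.residueField z)
      let e : Spec (CommRingCat.of Ω') ⟶ P :=
        Spec.map (CommRingCat.ofHom (algebraMap (P.residueField z) Ω')) ≫ P.fromSpecResidueField z
      let τ' := (e ≫ pullback.snd _ _) ≫ τ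
      let g₁ : Over.mk τ' ⟶ Over.mk τ := Over.homMk (e ≫ pullback.snd _ _) rfl
      let g₂ : Over.mk τ' ⟶ W ⊗ Wm := Over.homMk (e ≫ pullback.fst _ _) (by
        show (e ≫ pullback.fst _ _) ≫ (W ⊗ Wm).hom = (e ≫ pullback.snd _ _) ≫ τ
        refine (congrArg ((e ≫ pullback.fst _ _) ≫ ·) (Over.w (fst W Wm)).symm).trans
          (Eq.trans ?_ (congrArg ((e ≫ pullback.snd _ _) ≫ ·) (Over.w (gm ≫ π₁ ≫ xx))))
        simpa only [Category.assoc] using congrArg (fun a => e ≫ a ≫ W.hom)
          (pullback.condition (f := (fst W Wm).left) (g := (gm ≫ π₁ ≫ xx).left)))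
      have h12 : g₂ ≫ fst W Wm = (g₁ ≫ gm) ≫ π₁ ≫ xx :=
        Eq.trans (Over.OverMorphism.ext ((Category.assoc _ _ _).trans ((congrArg (e ≫ ·)
          (pullback.condition (f := (fst W Wm).left) (g := (gm ≫ π₁ ≫ xx).left))).trans (Category.assoc _ _ _).symm)))
          (Category.assoc g₁ gm (π₁ ≫ xx)).symm
      have hpt : g₂.left (IsLocalRing.closedPoint Ω') = o := by
        show (pullback.fst (fst W Wm).left (gm ≫ π₁ ≫ xx).left).base (P.fromSpecResidueField z _) = o
        rw [Scheme.fromSpecResidueField_apply, hz1]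
      have hpt1 : (g₁ ≫ gm).left (IsLocalRing.closedPoint Ω') = gm.left (IsLocalRing.closedPoint Ω) := by
        show gm.left.base ((pullback.snd (fst W Wm).left (gm ≫ π₁ ≫ xx).left).base (P.fromSpecResidueField z _)) = _
        rw [Scheme.fromSpecResidueField_apply, hz2]
      obtain ⟨hog, hod⟩ := ho
      rw [← hpt] at hog hod
      rw [← hpt1]
      have hcomp : (fun i => (g₁ ≫ gm) ≫ (π₁ ≫ xx) ≫ pr i) = fun i => (g₂ ≫ fst W Wm) ≫ pr i := funext fun i => by
        rw [h12]
        simp only [Category.assoc]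
      refine PicDegField.mem_GG hN _ (g₁ ≫ gm) (fun l => (g₂ ≫ snd W Wm) ≫ PicDegField.pwπ f m l) ?_ ?_
      · rw [hcomp, ← PicDegField.comp_aa, ← AlbCurve.pull_divC]
        exact (PicRep.good_pull g₂ _ _).2 hog
      · rw [hcomp, ← PicDegField.comp_aa]
        exact AlbCurve.distinct_pull g₂ hod
    have hfin := PicDegField.lift_comp_eq hN hmem hμ q (fun s => hq.isQuot.inv ⟨s⟩)
    have hlift' : ∀ b : T₁ ⟶ W, PicDegField.pwLift f (fun i => b ≫ pr i) = b := fun b =>
      PicDegField.pw_hom_ext f fun i => PicDegField.pwLift_π f _ i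
    rw [hlift', hlift'] at hfin
    have h2 : π₁.left ≫ x ≫ q = π₁.left ≫ y ≫ q := (Category.assoc _ _ _).symm.trans (hfin.trans (Category.assoc _ _ _))
    haveI : Epi π₁.left := inferInstance
    rw [cancel_epi, hxq, hyq] at h2
    exact h2
  haveI : Mono (jn.left ∣_ V) := by
    haveI : Mono ((jn.left ∣_ V) ≫ V.ι) := by rw [morphismRestrict_ι]; exact hmono
    exact mono_of_mono _ V.ι
  haveI : IsProper (jn.left ∣_ V) := IsZariskiLocalAtTarget.restrict ‹IsProper jn.left› V
  haveI : IsClosedImmersion (jn.left ∣_ V) := (IsClosedImmersion.iff_isProper_and_mono _).2 ⟨inferInstance, inferInstance⟩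
  have e : U.ι ≫ jn.left = (jn.left ∣_ V) ≫ V.ι := (morphismRestrict_ι jn.left V).symm
  rw [e]
  infer_instance

end Groth.Agent.S17137
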