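import Groth.Statements.S17138
import Groth.Agent.PicDegField.SymAbel

set_option autoImplicit false
set_option backward.isDefEq.respectTransparency false
set_option backward.isDefEq.respectTransparency.types false
set_option maxHeartbeats 1000000
set_option linter.style.haveILetI false
universe u
open CategoryTheory CategoryTheory.Limits AlgebraicGeometry MonoidalCategory CartesianMonoidalCategory MonObj
open Jac

namespace Groth.Agent.S17138
open Groth.Agent AlgebraicGeometry CategoryTheory TopologicalSpace
open scoped Groth.Agent.H23.PicMul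

/-- Let X be a smooth proper geometrically connected curve of genus g ≥ 1 over a field k and n ≥ 1; let
(Y, q) be the n-th symmetric power C^(n) of X over k (q : X ×_k ⋯ ×_k X → Y a quotient of the n-fold
fibre power by the symmetric group permuting the factors: affine, invariant, identifying sections of
O_Y with invariant sections, with q over k), let (J_n, ψ_n) be a coarse moduli scheme, on all
k-schemes, for line bundles of degree n on X modulo twisting from the base (the degree-n Picard
scheme), and let j_n : Y → J_n be the morphism through which the classifying map of the family O(Γ_1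
+ ⋯ + Γ_n) on X × X^n factors (Γ_i the graph of the i-th projection; the family F is pinned by F ⊗
I_{Γ_1} ⊗ ⋯ ⊗ I_{Γ_n} ≅ O), i.e. q followed by j_n is ψ_n of that family, so that j_n sends an
effective divisor D of degree n to the class of O(D). If g ≤ n, then j_n is surjective (on the
underlying topological spaces). -/
theorem result (k : Type u) [Field k]
    (X : Scheme.{u}) [X.Over (Spec (CommRingCat.of k))]
    [IsProper (X ↘ Spec (CommRingCat.of k))] [Smooth (X ↘ Spec (CommRingCat.of k))]
    [GeometricallyConnected (X ↘ Spec (CommRingCat.of k))] (hdim : topologicalKrullDim ↥X = 1)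
    (g : ℕ) (hg : Curv2.genus k X = g) (hg1 : 1 ≤ g)
    (n : ℕ) (hn : 1 ≤ n)
    (Y : Scheme.{u}) (q : SymProd.fibPow (X ↘ Spec (CommRingCat.of k)) n ⟶ Y) (gY : Y ⟶ Spec (CommRingCat.of k))
    (hq : SymProd.IsSymProd (X ↘ Spec (CommRingCat.of k)) n q gY)
    (Jn : Over (Spec (CommRingCat.of k)))
    (ψn : (ModFun.PicDeg (X ↘ Spec (CommRingCat.of k)) (n : ℤ)).Hom ⊤ Jn)
    (hJn : ModFun.IsCoarseModuli ⊤ (ModFun.PicDeg (X ↘ Spec (CommRingCat.of k)) (n : ℤ)) Jn ψn)
    (F : (PicF.XT (X ↘ Spec (CommRingCat.of k)) (Over.mk (WidePullback.base fun (_ : Fin n) => (X ↘ Spec (CommRingCat.of k))))).Modules)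
    (hF : Nonempty (CohB1.tensorMod F (FGA.tensorList (List.ofFn fun i : Fin n =>
        ClSub.idealMod (pullback.lift (WidePullback.π (fun (_ : Fin n) => (X ↘ Spec (CommRingCat.of k))) i) (𝟙 (SymProd.fibPow (X ↘ Spec (CommRingCat.of k)) n))
          ((WidePullback.π_arrow (fun (_ : Fin n) => (X ↘ Spec (CommRingCat.of k))) i).trans (Category.id_comp _).symm) :
            SymProd.fibPow (X ↘ Spec (CommRingCat.of k)) n ⟶ PicF.XT (X ↘ Spec (CommRingCat.of k)) (Over.mk (WidePullback.base fun (_ : Fin n) => (X ↘ Spec (CommRingCat.of k))))).ker)) ≅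
      Coh.structureModule _))
    (hT : (⊤ : ObjectProperty (Over (Spec (CommRingCat.of k)))) (Over.mk (WidePullback.base fun (_ : Fin n) => (X ↘ Spec (CommRingCat.of k)))))
    (hFok : (ModFun.PicDeg (X ↘ Spec (CommRingCat.of k)) (n : ℤ)).ok (Over.mk (WidePullback.base fun (_ : Fin n) => (X ↘ Spec (CommRingCat.of k)))) F)
    (jn : Over.mk gY ⟶ Jn)
    (hjn : Over.homMk q hq.over ≫ jn = ψn.app (Over.mk (WidePullback.base fun (_ : Fin n) => (X ↘ Spec (CommRingCat.of k)))) F hT hFok)
    (hgn : g ≤ n) :
    Function.Surjective jn.left.base := by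
  haveI : IsIntegral X := CurveStable.isIntegral_of_geometricallyConnected (k := k)
  haveI := PicRep.smoothOfRelativeDimension_one k X hdim
  let f := X ↘ Spec (CommRingCat.of k)
  let W : Over (Spec (CommRingCat.of k)) := Over.mk (WidePullback.base fun (_ : Fin n) => f)
  let x : Fin n → (W ⟶ Over.mk f) := fun i =>
    Over.homMk (WidePullback.π (fun (_ : Fin n) => f) i) (WidePullback.π_arrow _ i)
  have hFi : PicF.IsInvertible F := PicDegField.invertible_of_okD f hFok
  have hFcl : PicDegField.cls f F hFi = AlbCurve.divC x := PicDegField.cls_eq_divC x hFi hF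
  intro y
  let Ω := AlgebraicClosure (Jn.left.residueField y)
  let e₀ : Spec (CommRingCat.of Ω) ⟶ Jn.left :=
    Spec.map (CommRingCat.ofHom (algebraMap (Jn.left.residueField y) Ω)) ≫ Jn.left.fromSpecResidueField y
  let τ := e₀ ≫ Jn.hom
  let g₀ : Over.mk τ ⟶ Jn := Over.homMk e₀ rfl
  obtain ⟨L, hL, hg₀⟩ := (hJn.2.2 Ω τ trivial).1 g₀
  obtain ⟨P, hP⟩ := PicDegField.exists_divC k τ (n := n) (by omega)
    (v := PicDegField.cls f L (PicDegField.invertible_of_okD f hL)) (PicDegField.hasDeg_of_ok f hL)
  let w : Over.mk τ ⟶ W := Over.homMk (WidePullback.lift τ (fun i => (P i).left) fun i => Over.w (P i))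
    (WidePullback.lift_base _ _ _ _)
  have hw : ∀ i, w ≫ x i = P i := fun i => Over.OverMorphism.ext (WidePullback.lift_π _ _ _ _ i)
  let qq : W ⟶ Over.mk gY := Over.homMk (U := W) (V := Over.mk gY) q hq.over
  have key : w ≫ qq ≫ jn = g₀ := by
    rw [show qq ≫ jn = ψn.app W F hT hFok from hjn, ← hg₀]
    refine (ψn.natural w F hT trivial hFok (PicDegField.ok_pullD f w hFok)).symm.trans ?_
    refine ψn.resp _ _ trivial _ hL (PicDegField.r_of_cls f
      (PicDegField.invertible_of_okD f (PicDegField.ok_pullD f w hFok)) (PicDegField.invertible_of_okD f hL) 1 ?_)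
    rw [map_one, _root_.mul_one, ← hP]
    refine Eq.trans ?_ (PicDegField.cls_pull f w hFi).symm
    rw [hFcl, AlbCurve.pull_divC]
    exact congrArg AlbCurve.divC (funext fun i => (hw i).symm)
  refine ⟨(w.left ≫ q).base (IsLocalRing.closedPoint Ω), ?_⟩
  have h := congrArg (fun a => a.left.base (IsLocalRing.closedPoint Ω)) key
  refine Eq.trans ?_ (h.trans ?_)
  · rfl
  · show Jn.left.fromSpecResidueField y _ = y
    rw [Scheme.fromSpecResidueField_apply]

end Groth.Agent.S17138
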