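import Groth.Statements.S1714
import Groth.Agent.H1DepthFlat.Basic
import Groth.Agent.S0543

set_option autoImplicit false
universe u
open CategoryTheory
attribute [local instance] HasDerivedCategory.standard
open LocCoh

namespace Groth.Agent.S1714

/-- Let A be a Noetherian ring with a dualizing complex, I an ideal, M a finite A-module, A' and M' the
I-adic completions. Let p' ⊆ q' be primes of A' with I A' ⊆ q', lying over the primes p ⊆ q of A.
Then the depth of M'_{p'} over A'_{p'} is at least the depth of M_p over A_p, and depth(M'_{p'})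
plus the dimension of the interval of primes [p', q'] equals depth(M_p) plus the dimension of [p,
q]. -/
theorem result (A : Type u) [CommRing A] [IsNoetherianRing A] (hA : ∃ ω : Dual.D A, Dual.IsDualizing A ω) (I : Ideal A) (M : Type u) [AddCommGroup M] [Module A M] [Module.Finite A M] (p' q' : PrimeSpectrum (AdicCompletion I A)) (hpq : p' ≤ q') (hq : Ideal.map (algebraMap A (AdicCompletion I A)) I ≤ q'.asIdeal) : LocCoh.depth (Localization.AtPrime (p'.asIdeal.comap (algebraMap A (AdicCompletion I A)))) (LocalizedModule (p'.asIdeal.comap (algebraMap A (AdicCompletion I A))).primeCompl M) ≤ LocCoh.depth (Localization.AtPrime p'.asIdeal) (LocalizedModule p'.asIdeal.primeCompl (AdicCompletion I M)) ∧ ((LocCoh.depth (Localization.AtPrime p'.asIdeal) (LocalizedModule p'.asIdeal.primeCompl (AdicCompletion I M)) : ℕ∞) : WithBot ℕ∞) + Order.krullDim (Set.Icc p' q') = ((LocCoh.depth (Localization.AtPrime (p'.asIdeal.comap (algebraMap A (AdicCompletion I A)))) (LocalizedModule (p'.asIdeal.comap (algebraMap A (AdicCompletion I A))).primeCompl M) : ℕ∞) : WithBot ℕ∞)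 + Order.krullDim (Set.Icc ((PrimeSpectrum.comap (algebraMap A (AdicCompletion I A))) p') ((PrimeSpectrum.comap (algebraMap A (AdicCompletion I A))) q')) := by
  let A' := AdicCompletion I A
  haveI : IsNoetherianRing A' := Groth.Agent.S0543.result A I
  haveI : Module.Flat A A' := AdicCompletion.flat_of_isNoetherian I
  have hfg : I.FG := IsNoetherian.noetherian I
  haveI := AdicCompletion.isAdicComplete_self I hfg
  have hsurj : ∀ x : A', ∃ a : A, x - algebraMap A A' a ∈ I.map (algebraMap A A') := fun x => by
    obtain ⟨a, ha⟩ := Ideal.Quotient.mk_surjective (AdicCompletion.evalOneₐ I x)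
    refine ⟨a, ?_⟩
    rw [← AdicCompletion.ker_evalOneₐ_eq_map I hfg, RingHom.mem_ker, map_sub, sub_eq_zero]
    exact ha.symm.trans ((AdicCompletion.evalOneₐ I).commutes a).symm
  have hext : ∀ J : Ideal A', I.map (algebraMap A A') ≤ J →
      (J.comap (algebraMap A A')).map (algebraMap A A') = J := fun J hJ => by
    refine le_antisymm Ideal.map_comap_le fun x hx => ?_
    obtain ⟨a, ha⟩ := hsurj x
    have h1 : algebraMap A A' a ∈ J := by
      have h := J.sub_mem hx (hJ ha)
      rwa [sub_sub_cancel] at h
    have hI : I ≤ J.comap (algebraMap A A') := Ideal.map_le_iff_le_comap.1 hJ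
    have h2 := add_mem (Ideal.map_mono hI ha) (Ideal.mem_map_of_mem (algebraMap A A') (show a ∈ J.comap (algebraMap A A') from h1))
    rwa [sub_add_cancel] at h2
  refine Groth.Agent.H1DepthFlat.depth_add_krullDim hA (fun m hm => ?_) M (AdicCompletion I M)
    (AdicCompletion.ofTensorProductEquivOfFiniteNoetherian I M) p' q' hpq (hext _ hq)
  refine ⟨m.comap (algebraMap A A'), hext m ?_⟩
  exact (IsAdicComplete.le_jacobson_bot _).trans (sInf_le ⟨bot_le, hm⟩)

end Groth.Agent.S1714
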