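import Groth.Statements.S5154
import Groth.Agent.LC.PuncturedConn
import Groth.Agent.FlatLoc6.EquidimCat
import Mathlib
set_option maxHeartbeats 1000000
set_option linter.style.haveILetI false

set_option autoImplicit false
universe u
open LocCoh

namespace Groth.Agent.S5154

/-- Let A be a Noetherian local ring which is catenary and such that depth A_p ≥ 2 for every prime p
with dim A_p ≥ 2. Then all irreducible components of Spec A have dimension dim A: for every minimal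
prime p, dim A/p = dim A. -/
theorem result (A : Type u) [CommRing A] [IsLocalRing A] [IsNoetherianRing A] (hc : CAlg.IsCatenary A) (h : ∀ p : PrimeSpectrum A, (2 : ℕ∞) ≤ p.asIdeal.height → (2 : ℕ∞) ≤ LocCoh.depth (Localization.AtPrime p.asIdeal) (Localization.AtPrime p.asIdeal)) (p : Ideal A) (hp : p ∈ minimalPrimes A) : ringKrullDim (A ⧸ p) = ringKrullDim A := by
  by_contra hne
  obtain ⟨D, hD⟩ : ∃ D : ℕ, ringKrullDim A = (D : WithBot ℕ∞) := by
    refine ⟨(IsLocalRing.maximalIdeal A).height.toNat, ?_⟩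
    rw [← IsLocalRing.maximalIdeal_height_eq_ringKrullDim]
    exact congrArg _ (ENat.natCast_toNat (Ideal.height_ne_top (IsLocalRing.maximalIdeal.isMaximal A).ne_top)).symm
  let P1 : Set (Ideal A) := {q ∈ minimalPrimes A | ringKrullDim (A ⧸ q) = ringKrullDim A}
  let P2 : Set (Ideal A) := {q ∈ minimalPrimes A | ringKrullDim (A ⧸ q) ≠ ringKrullDim A}
  have hf1 : P1.Finite := (minimalPrimes.finite_of_isNoetherianRing A).subset fun q hq => hq.1
  have hf2 : P2.Finite := (minimalPrimes.finite_of_isNoetherianRing A).subset fun q hq => hq.1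
  have hne2 : p ∈ P2 := ⟨hp, hne⟩
  obtain ⟨q₀, hq₀⟩ : P1.Nonempty := by
    obtain ⟨l, hl⟩ := Order.le_krullDim_iff.1 (show (D : WithBot ℕ∞) ≤ Order.krullDim (PrimeSpectrum A) from hD.ge)
    haveI := l.head.2
    obtain ⟨q, hq, hql⟩ := Ideal.exists_minimalPrimes_le (bot_le : (⊥ : Ideal A) ≤ l.head.asIdeal)
    refine ⟨q, hq, le_antisymm (ringKrullDim_quotient_le q) ?_⟩
    haveI := hq.1.1
    rw [hD, ← VarDim.coheight_eq_ringKrullDim_quotient (⟨q, hq.1.1⟩ : PrimeSpectrum A), ← hl]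
    exact WithBot.coe_le_coe.2 (Order.length_le_coheight hql)
  let I1 := hf1.toFinset.inf id
  let I2 := hf2.toFinset.inf id
  obtain ⟨n, hn⟩ : ∃ n, I1 ^ n * I2 ^ n = ⊥ := by
    have hle : I1 * I2 ≤ nilradical A := by
      rw [nilradical_eq_sInf]
      refine le_sInf fun Q (hQ : Q.IsPrime) => ?_
      haveI := hQ
      obtain ⟨q, hq, hqQ⟩ := Ideal.exists_minimalPrimes_le (bot_le : (⊥ : Ideal A) ≤ Q)
      refine le_trans ?_ hqQ
      by_cases h1 : q ∈ P1
      · exact Ideal.mul_le_left.trans (Finset.inf_le (f := id) (hf1.mem_toFinset.2 h1))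
      · exact Ideal.mul_le_right.trans (Finset.inf_le (f := id) (hf2.mem_toFinset.2 (show q ∈ P2 from ⟨hq, fun he => h1 ⟨hq, he⟩⟩)))
    obtain ⟨n, hn⟩ := IsNoetherianRing.isNilpotent_nilradical A
    exact ⟨n, by rw [← mul_pow, eq_bot_iff]; exact (Ideal.pow_right_mono hle n).trans hn.le⟩
  have hcontain : ∀ (Q : Set (Ideal A)) (hQ : Q.Finite) (P : Ideal A), P.IsPrime → hQ.toFinset.inf id ≤ P →
      ∃ q ∈ Q, q ≤ P := fun Q hQ P hP hle => by
    obtain ⟨q, hq, hqP⟩ := (Ideal.IsPrime.inf_le' hP).1 hle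
    exact ⟨q, hQ.mem_toFinset.1 hq, hqP⟩
  obtain ⟨P, hPmin, -⟩ := Ideal.exists_minimalPrimes_le (show I1 ⊔ I2 ≤ IsLocalRing.maximalIdeal A from sup_le
    ((Finset.inf_le (f := id) (hf1.mem_toFinset.2 hq₀)).trans (IsLocalRing.le_maximalIdeal hq₀.1.1.1.ne_top))
    ((Finset.inf_le (f := id) (hf2.mem_toFinset.2 hne2)).trans (IsLocalRing.le_maximalIdeal hp.1.1.ne_top)))
  haveI hPp : P.IsPrime := hPmin.1.1
  obtain ⟨p1, hp1, hp1P⟩ := hcontain P1 hf1 P hPp (le_sup_left.trans hPmin.1.2)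
  obtain ⟨p2, hp2, hp2P⟩ := hcontain P2 hf2 P hPp (le_sup_right.trans hPmin.1.2)
  have hne12 : p1 ≠ p2 := fun he => hp2.2 (he ▸ hp1.2)
  let L := Localization.AtPrime P
  have hkey : ∀ (Q : Set (Ideal A)) (hQ : Q.Finite), Q ⊆ minimalPrimes A →
      ((hQ.toFinset.inf id) ^ n).map (algebraMap A L) = ⊥ → ∀ p' ∈ minimalPrimes A, p' ∉ Q → ¬ p' ≤ P := by
    intro Q hQ hsub h0 p' hp' hp'Q hp'P
    haveI : p'.IsPrime := hp'.1.1
    have hnot' : ∀ q ∈ Q, ∃ y ∈ q, y ∉ p' := fun q hq => by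
      by_contra hcon
      push Not at hcon
      exact hp'Q ((le_antisymm hcon (hp'.2 (hsub hq).1 hcon)) ▸ hq)
    choose! y hy hy' using hnot'
    let x := ∏ q ∈ hQ.toFinset, y q
    have hxI : x ∈ hQ.toFinset.inf id := Submodule.mem_finsetInf.2 fun q hq => Ideal.prod_mem _ hq (hy q (hQ.mem_toFinset.1 hq))
    have hxp' : x ∉ p' := fun hx => by
      obtain ⟨q, hq, hq0⟩ := (inferInstance : p'.IsPrime).prod_mem_iff.1 hx
      exact hy' q (hQ.mem_toFinset.1 hq) hq0
    have h00 : algebraMap A L (x ^ n) = 0 := by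
      rw [← Ideal.mem_bot, ← h0]
      exact Ideal.mem_map_of_mem _ (Ideal.pow_mem_pow hxI n)
    rw [IsLocalization.map_eq_zero_iff P.primeCompl] at h00
    obtain ⟨⟨s, hs⟩, hsx⟩ := h00
    rcases (inferInstance : p'.IsPrime).mem_or_mem (show s * x ^ n ∈ p' by rw [show s * x ^ n = 0 from hsx]; exact p'.zero_mem) with h | h
    · exact hs (hp'P h)
    · exact hxp' ((inferInstance : p'.IsPrime).mem_of_pow_mem n h)
  have hn0 : n ≠ 0 := fun h0 => by
    rw [h0, pow_zero, pow_zero, one_mul] at hn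
    exact one_ne_zero (α := A) ((Submodule.mem_bot A).1 (hn ▸ (Ideal.one_eq_top (R := A) ▸ Submodule.mem_top : (1 : A) ∈ (1 : Ideal A))))
  have hht : ¬ (2 : ℕ∞) ≤ P.height := fun h2 => by
    have hd := h ⟨P, hPp⟩ h2
    have hmapne : ∀ c : Ideal A, c ≤ P → c.map (algebraMap A L) ≠ ⊤ := fun c hc htop =>
      (IsLocalRing.maximalIdeal.isMaximal L).ne_top (top_le_iff.1 (htop ▸
        (Ideal.map_mono hc).trans Localization.AtPrime.map_eq_maximalIdeal.le))
    have hle1 : I1 ^ n ≤ P := (Ideal.pow_le_self hn0).trans (le_sup_left.trans hPmin.1.2)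
    have hle2 : I2 ^ n ≤ P := (Ideal.pow_le_self hn0).trans (le_sup_right.trans hPmin.1.2)
    have hrad : IsLocalRing.maximalIdeal L ≤
        ((I1 ^ n).map (algebraMap A L) ⊔ (I2 ^ n).map (algebraMap A L)).radical := by
      rw [← Ideal.map_sup, Ideal.radical_eq_sInf]
      refine le_sInf fun J hJ => ?_
      haveI := hJ.2
      have hle : J.comap (algebraMap A L) ≤ P := fun y hy => by
        by_contra hn'
        exact hJ.2.ne_top (Ideal.eq_top_of_isUnit_mem _ hy (IsLocalization.map_units L (⟨y, hn'⟩ : P.primeCompl)))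
      haveI hJp : (J.comap (algebraMap A L)).IsPrime := Ideal.IsPrime.comap _
      have hh := Ideal.map_le_iff_le_comap.1 hJ.1
      have := hPmin.2 ⟨hJp, sup_le (hJp.le_of_pow_le (le_sup_left.trans hh)) (hJp.le_of_pow_le (le_sup_right.trans hh))⟩ hle
      rw [← Localization.AtPrime.map_eq_maximalIdeal]
      exact Ideal.map_le_iff_le_comap.2 this
    rcases LC.eq_bot_or_eq_bot_of_mul_eq_bot hd (hmapne _ hle1) (hmapne _ hle2)
      (by rw [← Ideal.map_mul, hn, Ideal.map_bot]) hrad with h0 | h0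
    · exact hkey P1 hf1 (fun q hq => hq.1) h0 p2 hp2.1 (fun hm => hp2.2 hm.2) hp2P
    · exact hkey P2 hf2 (fun q hq => hq.1) h0 p1 hp1.1 (fun hm => hm.2 hp1.2) hp1P
  have hcov : ∀ q ∈ minimalPrimes A, ∀ (hqp : q.IsPrime), q ≤ P → q ≠ P →
      (⟨q, hqp⟩ : PrimeSpectrum A) ⋖ ⟨P, hPp⟩ := fun q hq hqp hqP hqne => by
    refine ⟨lt_of_le_of_ne hqP fun he => hqne (congrArg PrimeSpectrum.asIdeal he), fun z hz hz' => hht ?_⟩
    have e1 : (1 : ℕ∞) ≤ Order.height z := le_trans le_add_self (Order.height_add_one_le hz)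
    have e2 := (add_le_add e1 le_rfl).trans (Order.height_add_one_le hz')
    rw [← PrimeSpectrum.height_eq_orderHeight] at e2
    exact e2
  have hn1 : p1 ≠ P := fun he => by
    subst he
    exact hne12 (le_antisymm (hp1.1.2 hp2.1.1 hp2P) hp2P)
  have hn2 : p2 ≠ P := fun he => by
    subst he
    exact hne12 (le_antisymm hp1P (hp2.1.2 hp1.1.1 hp1P))
  have h1 := FlatLoc6.ringKrullDim_quotient_covBy hc (hcov p1 hp1.1 hp1.1.1.1 hp1P hn1)
  have h2 := FlatLoc6.ringKrullDim_quotient_covBy hc (hcov p2 hp2.1 hp2.1.1.1 hp2P hn2)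
  exact hp2.2 ((h2.trans h1.symm).trans hp1.2)

end Groth.Agent.S5154
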