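import Groth.Statements.S1717
import Mathlib
import Groth.Agent.S5154

set_option autoImplicit false
universe u
open LocCoh

namespace Groth.Agent.S1717

/-- Let A be a catenary Noetherian local ring satisfying Serre's condition (S_2). Then Spec A is
equidimensional: for every minimal prime p of A the dimension of A/p equals the dimension of A. -/
theorem result (A : Type u) [CommRing A] [IsLocalRing A] [IsNoetherianRing A] (hc : CAlg.IsCatenary A) (hS : LocCoh.HasSk 2 A A) (p : Ideal A) (hp : p ∈ minimalPrimes A) : ringKrullDim (A ⧸ p) = ringKrullDim A := by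
  refine Groth.Agent.S5154.result A hc (fun q hq => ?_) p hp
  have h := hS q.asIdeal
  have h1 : Module.supportDim (Localization.AtPrime q.asIdeal) (LocalizedModule q.asIdeal.primeCompl A) =
      (q.asIdeal.height : WithBot ℕ∞) := by
    rw [show Module.supportDim (Localization.AtPrime q.asIdeal) (LocalizedModule q.asIdeal.primeCompl A) =
      Module.supportDim (Localization.AtPrime q.asIdeal) (Localization.AtPrime q.asIdeal) from rfl,
      Module.supportDim_self_eq_ringKrullDim, IsLocalization.AtPrime.ringKrullDim_eq_height q.asIdeal]
  rw [h1] at h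
  have h2 : ((2 : ℕ) : WithBot ℕ∞) ≤
      ((LocCoh.depth (Localization.AtPrime q.asIdeal) (LocalizedModule q.asIdeal.primeCompl A) : ℕ∞) : WithBot ℕ∞) := by
    refine le_trans (le_min le_rfl ?_) h
    have hq2 := WithBot.coe_le_coe.2 hq; exact hq2
  exact WithBot.coe_le_coe.1 h2

end Groth.Agent.S1717
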