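import Groth.Statements.S1718
import Groth.Agent.PerfGen7.LocalDualityRows

set_option autoImplicit false
universe u
open CategoryTheory
attribute [local instance] HasDerivedCategory.standard
open Dual

namespace Groth.Agent.S1718

/-- Let A be a Noetherian local ring with maximal ideal m, residue field κ and a normalized dualizing
complex ω, and let κ → E be an injective hull. Then the degree-0 local cohomology of ω with support
in m (the direct limit of Hom(A/m^n, ω)) is isomorphic to E, and the local cohomology of ω in every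
other degree is zero. -/
theorem result (A : Type u) [CommRing A] [IsLocalRing A] [IsNoetherianRing A] (ω : Dual.D A) (hω : Dual.IsDualizing A ω) (hn : Dual.IsNormalized A ω) (E : Type u) [AddCommGroup E] [Module A E] (f : IsLocalRing.ResidueField A →ₗ[A] E) (hf : InjHull.IsInjectiveHull f) : Nonempty (Dual2.HDI A (IsLocalRing.maximalIdeal A) ω 0 ≃ₗ[A] E) ∧ ∀ i : ℤ, i ≠ 0 → Subsingleton (Dual2.HDI A (IsLocalRing.maximalIdeal A) ω i) := by
  obtain ⟨a, b, -, _, _⟩ := Groth.Agent.KFlatLib.exists_bounds_of_isDualizing hω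
  refine ⟨?_, fun i hi => ?_⟩
  · obtain ⟨e⟩ := Groth.Agent.PerfGen7.LocalDualityD.exists_HDI_equiv hω hn hf ω a hω.finite_cohomology 0
    let c : A →ₗ[A] (ω ⟶ ω) :=
      { toFun := fun r => r • 𝟙 ω
        map_add' := fun r s => add_smul r s _
        map_smul' := fun r s => mul_smul r s _ }
    let c' : A ≃ₗ[A] (ω ⟶ ω⟦(-(0 : ℤ))⟧) := (LinearEquiv.ofBijective c hω.toEnd_bijective).trans
      (Linear.homCongr A (Iso.refl ω) (eqToIso (by rw [neg_zero]) ≪≫ (shiftFunctorZero (Dual.D A) ℤ).app ω).symm)
    exact ⟨e.trans ((LinearEquiv.congrLeft E A c'.symm).trans (LinearMap.ringLmapEquivSelf A A E))⟩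
  · obtain ⟨e⟩ := Groth.Agent.PerfGen7.LocalDualityD.exists_HDI_equiv hω hn hf ω a hω.finite_cohomology i
    haveI := hω.ext_self_subsingleton (-i) (by omega)
    exact e.toEquiv.subsingleton

end Groth.Agent.S1718
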