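import Groth.Statements.S17181
import Mathlib

set_option autoImplicit false
universe u
open CategoryTheory CategoryTheory.Limits AlgebraicGeometry
open FBase

namespace Groth.Agent.S17181

/-- Let k be a field, C an irreducible k-scheme which is geometrically irreducible over k, and f : X → C
a flat k-morphism locally of finite type with X irreducible. If the generic fibre of f is
geometrically irreducible over the residue field of the generic point of C, then X is geometrically
irreducible over k. (The published setting is a regular proper surface mapping onto a smooth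
projective geometrically irreducible curve with smooth projective geometrically irreducible generic
fibre; the printed argument uses only the hypotheses kept here.) -/
theorem result (k : Type u) [Field k]
    (X C : Scheme.{u}) [X.Over (Spec (CommRingCat.of k))] [C.Over (Spec (CommRingCat.of k))]
    (f : X ⟶ C) [f.IsOver (Spec (CommRingCat.of k))] [IrreducibleSpace X] [IrreducibleSpace C]
    [GeometricallyIrreducible (C ↘ Spec (CommRingCat.of k))] [Flat f] [LocallyOfFiniteType f]
    [GeometricallyIrreducible (f.fiberToSpecResidueField (genericPoint C))] :
    GeometricallyIrreducible (X ↘ Spec (CommRingCat.of k)) := by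
  refine ⟨fun K _ τ Z fst snd sq => ?_⟩
  let S := C ↘ Spec (CommRingCat.of k)
  have hC := IsPullback.of_hasPullback S τ
  haveI : IrreducibleSpace ↥(Limits.pullback S τ) :=
    GeometricallyIrreducible.geometrically_irreducibleSpace _ _ _ hC
  have hf : f ≫ S = X ↘ Spec (CommRingCat.of k) := CategoryTheory.comp_over f (Spec (CommRingCat.of k))
  let g : Z ⟶ Limits.pullback S τ := Limits.pullback.lift (fst ≫ f) snd (by rw [Category.assoc, hf]; exact sq.w)
  have hg : IsPullback fst g f (Limits.pullback.fst S τ) := by
    refine IsPullback.of_bot ?_ (Limits.pullback.lift_fst _ _ _).symm hC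
    rw [Limits.pullback.lift_snd, hf]
    exact sq
  haveI : Flat g := MorphismProperty.of_isPullback hg ‹Flat f›
  let η := genericPoint ↥(Limits.pullback S τ)
  have hη : (Limits.pullback.fst S τ) η = genericPoint C := by
    refine (Specializes.antisymm ?_ (genericPoint_specializes _)).eq
    obtain ⟨w, -, hw⟩ : ∃ w, w ∈ (Set.univ : Set ↥(Limits.pullback S τ)) ∧ (Limits.pullback.fst S τ) w = genericPoint C := by
      haveI : Surjective τ := ⟨fun p => ⟨IsLocalRing.closedPoint K, Subsingleton.elim (α := PrimeSpectrum k) _ _⟩⟩
      exact ⟨_, trivial, ((Limits.pullback.fst S τ).surjective (genericPoint C)).choose_spec⟩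
    rw [← hw]
    exact (genericPoint_specializes w).map (Limits.pullback.fst S τ).continuous
  haveI : IrreducibleSpace ↥(g.fiber η) := by
    have h1 : IsPullback (g.fiberι η ≫ fst) (g.fiberToSpecResidueField η) f
        ((Limits.pullback S τ).fromSpecResidueField η ≫ Limits.pullback.fst S τ) :=
      (IsPullback.of_hasPullback g _).paste_horiz hg
    let ψ := Spec.map ((C.residueFieldCongr hη.symm).hom ≫ (Limits.pullback.fst S τ).residueFieldMap η)
    have h2 : ψ ≫ C.fromSpecResidueField (genericPoint C) =
        (Limits.pullback S τ).fromSpecResidueField η ≫ Limits.pullback.fst S τ := by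
      simp [ψ, Scheme.residueFieldCongr_fromSpecResidueField]
    have h3 : IsPullback (Limits.pullback.lift (g.fiberι η ≫ fst) (g.fiberToSpecResidueField η ≫ ψ)
        (by rw [Category.assoc (g.fiberToSpecResidueField η) ψ, h2]; exact h1.w)) (g.fiberToSpecResidueField η)
        (f.fiberToSpecResidueField (genericPoint C)) ψ := by
      refine IsPullback.of_right ?_ (Limits.pullback.lift_snd _ _ _) (IsPullback.of_hasPullback f _)
      rw [Limits.pullback.lift_fst, h2]
      exact h1
    exact ‹GeometricallyIrreducible (f.fiberToSpecResidueField _)›.geometrically_irreducibleSpace _ _ _ h3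
  have hfib : IsIrreducible (g ⁻¹' {η}) := by
    rw [← g.range_fiberι, ← Set.image_univ]
    exact (IrreducibleSpace.isIrreducible_univ _).image _ (g.fiberι η).continuous.continuousOn
  have hcl : closure (g ⁻¹' {η}) = Set.univ := Set.eq_univ_of_forall fun z => by
    obtain ⟨w, hwz, hw⟩ := Flat.generalizingMap g (genericPoint_specializes (g z) : η ⤳ g z)
    exact hwz.mem_closed isClosed_closure (subset_closure hw)
  exact (irreducibleSpace_def _).2 (by rw [Set.top_eq_univ, ← hcl]; exact hfib.closure)

end Groth.Agent.S17181
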