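import Groth.Statements.S17186
import Groth.Agent.CurvStLib.Witness
import Groth.Agent.CurvStLib.Nodal
import Groth.Agent.CurvLocusLib.GeomFib
-- import your own Groth.Agent.* helpers here

set_option autoImplicit false
set_option backward.isDefEq.respectTransparency false
set_option backward.isDefEq.respectTransparency.types false
set_option linter.style.haveILetI false
set_option maxHeartbeats 1000000
universe u
open CurvSt

namespace Groth.Agent.S17186
open Groth.Agent

open CategoryTheory AlgebraicGeometry in
/-- Let S be a scheme and consider the category over schemes over S whose objects over T are the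
families of curves over T (an algebraic space X over S together with a proper, flat, finitely
presented morphism X → T all of whose fibres have dimension at most one; no marked sections) with
cartesian squares as morphisms. Assume this category is an algebraic stack for the fppf topology
(the algebraicity of the stack of curves). Then the families whose structure morphism is
at-worst-nodal of relative dimension one (read etale locally on scheme charts: flat, locally of
finite presentation, every fibre with all irreducible components of dimension one and at-worst-nodal
singularities) form an open substack: that condition is closed under isomorphism, the full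
subcategory on it is an fppf algebraic stack and its inclusion is representable by open immersions.
Moreover this substack has, over every algebraically closed field over S, an object all of whose
geometric fibres realised as schemes are non-empty (nodal curves exist; the empty family, which
satisfies the nodal condition vacuously, does not count). The source works over the spectrum of the
integers; over a base scheme S the statement is its base change. -/
theorem result (S : Scheme.{u})
    (hC : AlgSt.IsAlgStack Scheme.fppfPrecoverage (CurvSt.Curves S 0)) :
    AlgSt.IsOpenSubstack (CurvSt.Curves S 0) (fun A => AlgSp.LocP CurvSt.nodalFam A.obj.f) Scheme.fppfPrecoverage ∧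
      ∀ (Ω : Type u) [Field Ω] [IsAlgClosed Ω] (t : Spec (CommRingCat.of Ω) ⟶ S),
        Nonempty ((AlgSt.fullSub (CurvSt.Curves S 0) (fun A => AlgSp.LocP CurvSt.nodalFam A.obj.f ∧
          CurvSt.GeomFib (fun _ _ _ X' _ _ => Nonempty ↥X') A.obj)).p.Fiber (Over.mk t)) := by
  have e1 : (CurvSt.nodalFam : MorphismProperty Scheme.{u}) = fun _ _ g => ∀ x, CurvStLib.NodalNear g x :=
    funext fun _ => funext fun _ => funext fun g => propext (CurvStLib.nodalFam_iff_forall_near g)
  refine ⟨?_, fun Ω _ _ t => CurvStLib.nonempty_fiber_projLine Ω t ?_⟩
  · rw [e1]; exact CurvStLib.isOpenSubstack_locP CurvStLib.isPtLocal_nodal hC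
  intro _ _
  constructor
  · rw [e1]
    haveI := CurvStLib.smoothOne_projLine Ω
    exact CurvStLib.locP_schObj (Over.mk t) _ CurvStLib.isPtLocal_nodal fun x => CurvStLib.nodalNear_of_smoothOne _ x
  · refine (CurvLocusLib.geomFib_iff (Over.mk t) (CohB1.ProjSpace.toSpec 1 Ω) fun _ _ _ X' _ => Nonempty ↥X').2 ?_
    intro K _ _ τ X' q g hg
    haveI := H23.PnChart.isIntegral_projSpace 1 Ω
    haveI : Surjective (CohB1.ProjSpace.toSpec 1 Ω) :=
      ⟨fun s => ⟨genericPoint (CohB1.ProjSpace 1 Ω : Scheme.{u}), Subsingleton.elim (α := PrimeSpectrum Ω) _ s⟩⟩
    haveI : Surjective q := MorphismProperty.of_isPullback hg inferInstance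
    obtain ⟨x, -⟩ := Scheme.Hom.surjective q (IsLocalRing.closedPoint K)
    exact ⟨x⟩

end Groth.Agent.S17186
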