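import Groth.Statements.S1720
import Groth.Agent.S0366
import Groth.Agent.S0367
import Groth.Agent.H1Falt.HDISystem
import Groth.Agent.LC.HlvtMain
import Groth.Agent.LC.TopDim3
import Groth.Agent.LC.CohCech
import Groth.Agent.BrnchLib.DimOne
import Groth.Agent.Adic7.Lift
import Mathlib.Algebra.Homology.DerivedCategory.SingleTriangle

set_option autoImplicit false
universe u
open CategoryTheory
attribute [local instance] HasDerivedCategory.standard
open LocCoh

namespace Groth.Agent.S1720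

open IsLocalRing in
theorem exists_dim {A : Type u} [CommRing A] [IsLocalRing A] [IsNoetherianRing A] :
    ∃ d : ℕ, ringKrullDim A = d := by
  obtain ⟨e, he⟩ := WithBot.ne_bot_iff_exists.1 (ringKrullDim_ne_bot (R := A))
  obtain ⟨d, hd⟩ := ENat.ne_top_iff_exists.1 (show e ≠ ⊤ from fun h => by
    have := ringKrullDim_lt_top (R := A)
    rw [← he, h] at this
    exact lt_irrefl _ this)
  exact ⟨d, by rw [← he, ← hd]; rfl⟩

open Pretriangulated in
theorem extend_of_ext_one {A : Type u} [CommRing A] {S : ShortComplex (ModuleCat.{u} A)} (hS : S.ShortExact)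
    {ω : Dual.D A} (h : Subsingleton ((DerivedCategory.singleFunctor (ModuleCat.{u} A) 0).obj S.X₃ ⟶ ω⟦(1 : ℤ)⟧))
    (ψ : (DerivedCategory.singleFunctor (ModuleCat.{u} A) 0).obj S.X₁ ⟶ ω) :
    ∃ φ : (DerivedCategory.singleFunctor (ModuleCat.{u} A) 0).obj S.X₂ ⟶ ω,
      ψ = (DerivedCategory.singleFunctor (ModuleCat.{u} A) 0).map S.f ≫ φ := by
  refine Triangle.yoneda_exact₂ _ (inv_rot_of_distTriang _ hS.singleTriangle_distinguished) ψ ?_
  refine (shiftFunctor (Dual.D A) (1 : ℤ)).map_injective ?_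
  haveI : Subsingleton ((𝟭 (Dual.D A)).obj ((DerivedCategory.singleFunctor (ModuleCat.{u} A) 0).obj S.X₃) ⟶ ω⟦(1 : ℤ)⟧) := h
  exact (cancel_epi ((shiftFunctorCompIsoId (Dual.D A) (-1 : ℤ) 1 (by omega)).inv.app
    ((DerivedCategory.singleFunctor (ModuleCat.{u} A) 0).obj S.X₃))).1 (Subsingleton.elim _ _)

open Pretriangulated in
theorem eq_zero_of_epi {A : Type u} [CommRing A] {S : ShortComplex (ModuleCat.{u} A)} (hS : S.ShortExact)
    {ω : Dual.D A} (h : Subsingleton ((DerivedCategory.singleFunctor (ModuleCat.{u} A) 0).obj S.X₁ ⟶ ω⟦(-1 : ℤ)⟧))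
    (ψ : (DerivedCategory.singleFunctor (ModuleCat.{u} A) 0).obj S.X₃ ⟶ ω)
    (hψ : (DerivedCategory.singleFunctor (ModuleCat.{u} A) 0).map S.g ≫ ψ = 0) : ψ = 0 := by
  obtain ⟨g, hg⟩ := Triangle.yoneda_exact₃ _ hS.singleTriangle_distinguished ψ hψ
  have : g = 0 := by
    refine (shiftFunctor (Dual.D A) (-1 : ℤ)).map_injective ?_
    haveI : Subsingleton ((𝟭 (Dual.D A)).obj ((DerivedCategory.singleFunctor (ModuleCat.{u} A) 0).obj S.X₁) ⟶ ω⟦(-1 : ℤ)⟧) := h
    exact (cancel_epi ((shiftFunctorCompIsoId (Dual.D A) (1 : ℤ) (-1) (by omega)).inv.app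
      ((DerivedCategory.singleFunctor (ModuleCat.{u} A) 0).obj S.X₁))).1 (Subsingleton.elim _ _)
  rw [hg, this, Limits.comp_zero]
  rfl

open IsLocalRing in
theorem supportDim_eq_zero {A : Type u} [CommRing A] [IsLocalRing A] [IsNoetherianRing A] (M : Type u) [AddCommGroup M]
    [Module A M] [Module.Finite A M] [Nontrivial M] {N : ℕ} (hN : maximalIdeal A ^ N ≤ Module.annihilator A M) :
    Module.supportDim A M = ((0 : ℕ) : WithBot ℕ∞) := by
  haveI : Subsingleton (Module.support A M) := ⟨fun a b => Subtype.ext (PrimeSpectrum.ext (by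
    have key : ∀ c : Module.support A M, c.1.asIdeal = maximalIdeal A := fun c =>
      le_antisymm (le_maximalIdeal c.1.isPrime.ne_top) (Ideal.IsPrime.le_of_pow_le (hP := c.1.isPrime)
        (hN.trans (Module.mem_support_iff_of_finite.1 c.2)))
    rw [key a, key b]))⟩
  refine le_antisymm ?_ ?_
  · exact (Order.krullDim_nonpos_of_subsingleton (α := Module.support A M)).trans_eq Nat.cast_zero.symm
  · obtain ⟨e, he⟩ := WithBot.ne_bot_iff_exists.1 (Module.supportDim_ne_bot_of_nontrivial A M)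
    rw [← he]
    exact WithBot.coe_le_coe.2 zero_le

open IsLocalRing in
theorem ext_sub_pos {A : Type u} [CommRing A] [IsLocalRing A] [IsNoetherianRing A] {ω : Dual.D A}
    (hω : Dual.IsDualizing A ω) (hn : Dual.IsNormalized A ω) (M : Type u) [AddCommGroup M] [Module A M]
    [Module.Finite A M] (i : ℤ) (hi : 0 < i ∨ (i ≠ 0 ∧ ∃ N : ℕ, maximalIdeal A ^ N ≤ Module.annihilator A M)) :
    Subsingleton (Dual.inD A M ⟶ ω⟦i⟧) := by
  rcases subsingleton_or_nontrivial M with hM | hM
  · have h0 : Limits.IsZero (ModuleCat.of A M) := ModuleCat.isZero_of_subsingleton _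
    have h1 := (DerivedCategory.singleFunctor (ModuleCat.{u} A) 0).map_isZero h0
    exact ⟨fun a b => h1.eq_of_src a b⟩
  · rw [← not_nontrivial_iff_subsingleton]
    intro hnt
    rcases hi with hi | ⟨hi, N, hN⟩
    · obtain ⟨e, he⟩ := WithBot.ne_bot_iff_exists.1 (Module.supportDim_ne_bot_of_nontrivial A M)
      obtain ⟨dd, hdd⟩ := ENat.ne_top_iff_exists.1 (show e ≠ ⊤ from fun h => by
        have h1 := (Module.supportDim_le_ringKrullDim A M).trans_lt (ringKrullDim_lt_top (R := A))
        rw [← he, h] at h1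
        exact lt_irrefl _ h1)
      have := ((S0366.result A ω hω hn M dd (by rw [← he, ← hdd]; rfl) i).1 hnt).2
      omega
    · have := (S0366.result A ω hω hn M 0 (supportDim_eq_zero M hN) i).1 hnt
      omega

open IsLocalRing in
theorem nontrivial_dual {A : Type u} [CommRing A] [IsLocalRing A] [IsNoetherianRing A] {ω : Dual.D A}
    (hω : Dual.IsDualizing A ω) (hn : Dual.IsNormalized A ω) (M : Type u) [AddCommGroup M] [Module A M]
    [Module.Finite A M] [Nontrivial M] {N : ℕ} (hN : maximalIdeal A ^ N ≤ Module.annihilator A M) :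
    Nontrivial (Dual.inD A M ⟶ ω⟦(-((0 : ℕ) : ℤ))⟧) := by
  refine ((S0367.result A ω hω hn M 0).1 ?_).2
  by_contra h
  refine (Alg6.one_le_depth_iff (R := A) (M := M)).1 (Order.one_le_iff_ne_zero.2 (by simpa using h)) ?_
  obtain ⟨P, hP⟩ := associatedPrimes.nonempty A M
  convert hP
  refine (le_antisymm (le_maximalIdeal (IsAssociatedPrime.isPrime hP).ne_top) ?_).symm
  haveI := IsAssociatedPrime.isPrime hP
  refine Ideal.IsPrime.le_of_pow_le (n := N) (hN.trans ?_)
  rw [← Submodule.annihilator_top]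
  exact IsAssociatedPrime.annihilator_le hP

open IsLocalRing in
theorem top_vanishing {A : Type u} [CommRing A] [IsLocalRing A] [IsNoetherianRing A] {ω : Dual.D A}
    (hω : Dual.IsDualizing A ω) (hn : Dual.IsNormalized A ω) (I : Ideal A) {d : ℕ} (hd : ringKrullDim A = d)
    (h0 : Subsingleton (Dual2.HDI A I ω 0)) : Subsingleton ((localCohomology I d).obj (ModuleCat.of A A)) := by
  classical
  rcases eq_or_ne I ⊤ with rfl | hI
  · refine LC.H_subsingleton_of_qObj ⊤ d _ fun m => ⟨fun x y => ?_⟩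
    haveI : Subsingleton (LC.qObj (⊤ : Ideal A) m) := Ideal.Quotient.subsingleton_iff.2 (Ideal.top_pow A m)
    have h1 : 𝟙 (LC.qObj (⊤ : Ideal A) m) = 0 := (ModuleCat.isZero_of_subsingleton _).eq_of_src _ _
    have hx : ∀ z : Abelian.Ext (LC.qObj (⊤ : Ideal A) m) (ModuleCat.of A A) d, z = 0 := fun z => by
      rw [← Abelian.Ext.mk₀_id_comp z, h1, Abelian.Ext.mk₀_zero, Abelian.Ext.zero_comp]
    rw [hx x, hx y]
  let R' := AdicCompletion (maximalIdeal A) A
  refine LC.subsingleton_H_hlvt I hd fun p hp hpd => ?_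
  haveI : IsNoetherianRing R' := LocalCrit.isNoetherianRing_completion (A := A) (C := A)
    (by rw [Algebra.algebraMap_self, Ideal.map_id])
  haveI : IsLocalHom (algebraMap A R') := AdicCompletion.algebraMap_isLocalHom_of_fg (IsNoetherian.noetherian _)
  haveI : Module.FaithfullyFlat A R' := Module.FaithfullyFlat.of_flat_of_isLocalHom
  have hmax : maximalIdeal R' = (maximalIdeal A).map (algebraMap A R') := AdicCompletion.maximalIdeal_eq_map (R := A)
  let I' := I.map (algebraMap A R')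
  by_contra hlt
  rw [not_le] at hlt
  have hI' : I' ≠ ⊤ := fun h => by
    apply hI
    rw [← Ideal.comap_map_eq_self_of_faithfullyFlat (B := R') I]
    show Ideal.comap _ I' = ⊤
    rw [h, Ideal.comap_top]
  haveI hk : Ring.KrullDimLE 0 (R' ⧸ (I' ⊔ p)) := Ring.krullDimLE_iff.2 (by
    rcases eq_or_ne (ringKrullDim (R' ⧸ (I' ⊔ p))) ⊥ with hb | hb
    · rw [hb]; exact bot_le
    · obtain ⟨e, he⟩ := WithBot.ne_bot_iff_exists.1 hb
      rw [← he] at hlt ⊢
      exact WithBot.coe_le_coe.2 (le_of_eq (Order.lt_one_iff.1 (WithBot.coe_lt_coe.1 hlt))))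
  haveI hpP : p.IsPrime := Ideal.minimalPrimes_isPrime hp
  have hrad : ∀ k : ℕ, maximalIdeal R' ≤ (I' ^ k ⊔ p).radical := fun k => by
    rw [Ideal.radical_eq_sInf]
    refine le_sInf fun P hP => ?_
    haveI := hP.2
    have hle : I' ⊔ p ≤ P := sup_le (Ideal.IsPrime.le_of_pow_le (le_sup_left.trans hP.1)) (le_sup_right.trans hP.1)
    haveI : (P.map (Ideal.Quotient.mk (I' ⊔ p))).IsPrime :=
      Ideal.map_isPrime_of_surjective Ideal.Quotient.mk_surjective (by rw [Ideal.mk_ker]; exact hle)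
    have hPm := Ideal.IsPrime.isMaximal' (I := P.map (Ideal.Quotient.mk (I' ⊔ p))) inferInstance
    have h1 := Ideal.comap_isMaximal_of_surjective (Ideal.Quotient.mk (I' ⊔ p)) Ideal.Quotient.mk_surjective
      (K := P.map (Ideal.Quotient.mk (I' ⊔ p)))
    rw [Ideal.comap_map_of_surjective _ Ideal.Quotient.mk_surjective, ← RingHom.ker_eq_comap_bot, Ideal.mk_ker,
      sup_eq_left.2 hle] at h1
    exact (IsLocalRing.eq_maximalIdeal h1).ge
  have hass : p ∈ associatedPrimes R' R' := Module.associatedPrimes.minimalPrimes_annihilator_subset_associatedPrimes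
    (R := R') (M := R') (by
      rw [show Module.annihilator R' R' = ⊥ from Module.annihilator_eq_bot.2 inferInstance]
      exact hp)
  obtain ⟨-, y, hy⟩ := isAssociatedPrime_iff.1 hass
  have hy0 : y ≠ 0 := fun h => hpP.ne_top (by rw [hy, h]; exact eq_top_iff.2 fun a _ => Submodule.mem_colon_singleton.2 (by simp))
  have hpy : ∀ a ∈ p, a * y = 0 := fun a ha => by
    rw [hy, Submodule.mem_colon_singleton] at ha
    simpa using ha
  obtain ⟨n, hyn⟩ : ∃ n : ℕ, y ∉ I' ^ n := by
    by_contra hc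
    push Not at hc
    exact hy0 ((Ideal.iInf_pow_eq_bot_of_isLocalRing I' hI').le (Submodule.mem_iInf _ |>.2 hc))
  have happ : ∀ k : ℕ, ∃ (a : A) (N : ℕ), (∀ r ∈ maximalIdeal A ^ N, r * a ∈ I ^ k) ∧
      algebraMap A R' a - y ∈ I' ^ k := by
    intro k
    obtain ⟨N, hN⟩ := Ideal.exists_pow_le_of_le_radical_of_fg (hrad k) (IsNoetherian.noetherian _)
    obtain ⟨r, g, hg⟩ := Submodule.fg_iff_exists_fin_generating_family.1
      (IsNoetherian.noetherian (maximalIdeal A ^ N))
    have hgm : ∀ i, algebraMap A R' (g i) * y ∈ (I ^ k).map (algebraMap A R') := fun i => by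
      have h1 : algebraMap A R' (g i) ∈ maximalIdeal R' ^ N := by
        rw [hmax, ← Ideal.map_pow]
        exact Ideal.mem_map_of_mem _ (hg.le (Submodule.subset_span ⟨i, rfl⟩))
      obtain ⟨u, hu, v, hv, huv⟩ := Submodule.mem_sup.1 (hN h1)
      rw [← huv, add_mul, hpy v hv, add_zero, Ideal.map_pow]
      exact Ideal.mul_mem_right _ _ hu
    obtain ⟨L, hL, hyL⟩ := BrnchLib.mem_map_colon_of_flat (I ^ k) g y hgm
    have hLm : ∀ l ∈ L, ∀ b ∈ maximalIdeal A ^ N, b * l ∈ I ^ k := fun l hl b hb => by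
      rw [← hg] at hb
      induction hb using Submodule.span_induction with
      | mem x hx => obtain ⟨i, rfl⟩ := hx; exact hL l hl i
      | zero => simp
      | add x z _ _ h1 h2 => rw [add_mul]; exact add_mem h1 h2
      | smul c x _ h1 => rw [smul_eq_mul, mul_assoc]; exact Ideal.mul_mem_left _ _ h1
    suffices h : ∃ a ∈ L, algebraMap A R' a - y ∈ I' ^ k by
      obtain ⟨a, ha, hay⟩ := h
      exact ⟨a, N, fun b hb => hLm a ha b hb, hay⟩
    rw [Ideal.map] at hyL
    clear hgm hy hy0 hpy hyn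
    induction hyL using Submodule.span_induction with
    | mem x hx =>
      obtain ⟨l, hl, rfl⟩ := hx
      exact ⟨l, hl, by simp⟩
    | zero => exact ⟨0, zero_mem _, by simp⟩
    | add x z _ _ h1 h2 =>
      obtain ⟨a, ha, ha'⟩ := h1
      obtain ⟨b, hb, hb'⟩ := h2
      exact ⟨a + b, add_mem ha hb, by rw [map_add, add_sub_add_comm]; exact add_mem ha' hb'⟩
    | smul c x _ h1 =>
      obtain ⟨a, ha, ha'⟩ := h1
      obtain ⟨s, hs⟩ := Adic7.exists_sub_algebraMap_mem (maximalIdeal A) (IsNoetherian.noetherian _) c N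
      refine ⟨s * a, Ideal.mul_mem_left _ _ ha, ?_⟩
      have hca : (c - algebraMap A R' s) * algebraMap A R' a ∈ I' ^ k := by
        rw [← Ideal.map_pow] at hs
        rw [← Ideal.map_pow]
        have := Ideal.mul_mem_mul hs (Ideal.mem_map_of_mem (algebraMap A R') (Ideal.mem_span_singleton_self a))
        rw [← Ideal.map_mul] at this
        refine Ideal.map_mono ?_ this
        exact Ideal.mul_le.2 fun b hb e he => by
          obtain ⟨w, rfl⟩ := Ideal.mem_span_singleton'.1 he
          rw [mul_left_comm]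
          exact Ideal.mul_mem_left _ _ (hLm a ha b hb)
      have : algebraMap A R' (s * a) - c • x =
          c * (algebraMap A R' a - x) - (c - algebraMap A R' s) * algebraMap A R' a := by
        rw [map_mul, smul_eq_mul]; ring
      rw [this]
      exact sub_mem (Ideal.mul_mem_left _ _ ha') hca
  choose a N ha hay using happ
  have han : a n ∉ I ^ n := fun h => hyn (by
    have := sub_mem (show algebraMap A R' (a n) ∈ I' ^ n by rw [← Ideal.map_pow]; exact Ideal.mem_map_of_mem _ h) (hay n)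
    simpa using this)
  have hcompat : ∀ k, n ≤ k → a k - a n ∈ I ^ n := fun k hk => by
    rw [← Ideal.comap_map_eq_self_of_faithfullyFlat (B := R') (I ^ n), Ideal.mem_comap, map_sub, Ideal.map_pow]
    have h1 := Ideal.pow_le_pow_right hk (hay k)
    have := sub_mem h1 (hay n)
    rwa [sub_sub_sub_cancel_right] at this
  let C : ℕ → Type u := fun k => Submodule.span A ({Ideal.Quotient.mk (I ^ k) (a k)} : Set (A ⧸ I ^ k))
  let Cs : ∀ k, Submodule A (A ⧸ I ^ k) := fun k => Submodule.span A {Ideal.Quotient.mk (I ^ k) (a k)}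
  have hCann : ∀ k, maximalIdeal A ^ N k ≤ Module.annihilator A (Cs k) := fun k b hb => by
    rw [Module.mem_annihilator]
    rintro ⟨z, hz⟩
    obtain ⟨w, rfl⟩ := Submodule.mem_span_singleton.1 hz
    refine Subtype.ext ?_
    show b • w • Ideal.Quotient.mk (I ^ k) (a k) = 0
    rw [smul_comm, show b • Ideal.Quotient.mk (I ^ k) (a k) = Ideal.Quotient.mk (I ^ k) (b * a k) from rfl,
      Ideal.Quotient.eq_zero_iff_mem.2 (ha k b hb), smul_zero]
  haveI : Nontrivial (Cs n) := by
    refine Submodule.nontrivial_iff_ne_bot.2 fun h => han ?_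
    rw [Submodule.span_singleton_eq_bot] at h
    exact Ideal.Quotient.eq_zero_iff_mem.1 h
  haveI := nontrivial_dual hω hn (Cs n) (hCann n)
  obtain ⟨ψ₀, hψ₀⟩ := exists_ne (0 : Dual.inD A (Cs n) ⟶ ω⟦(-((0 : ℕ) : ℤ))⟧)
  let e0 : ω⟦(-((0 : ℕ) : ℤ))⟧ ≅ ω := eqToIso (by simp) ≪≫ (shiftFunctorZero (Dual.D A) ℤ).app ω
  let S : ShortComplex (ModuleCat.{u} A) := ShortComplex.mk (X₁ := ModuleCat.of A (Cs n))
    (X₂ := LC.qObj I n) (X₃ := ModuleCat.of A ((A ⧸ I ^ n) ⧸ Cs n))
    (ModuleCat.ofHom (Cs n).subtype) (ModuleCat.ofHom (Cs n).mkQ)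
    (ModuleCat.hom_ext (LinearMap.ext fun z => (Submodule.Quotient.mk_eq_zero _).2 z.2))
  have hS : S.ShortExact :=
    { exact := (ShortComplex.ShortExact.moduleCat_exact_iff_function_exact _).2 (LinearMap.exact_subtype_mkQ _)
      mono_f := (ModuleCat.mono_iff_injective _).2 Subtype.val_injective
      epi_g := (ModuleCat.epi_iff_surjective _).2 (Submodule.mkQ_surjective _) }
  obtain ⟨φ, hφ⟩ := extend_of_ext_one hS (ext_sub_pos hω hn _ 1 (Or.inl one_pos)) (ψ₀ ≫ e0.hom)
  let φ' := φ ≫ ((shiftFunctorZero (Dual.D A) ℤ).app ω).inv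
  obtain ⟨k, hk', hzero⟩ := H1Falt.hdiι_eq_zero I ω 0 φ' (Subsingleton.elim _ _)
  rw [← Category.assoc] at hzero
  have hz : (DerivedCategory.singleFunctor (ModuleCat.{u} A) 0).map (LC.qMap I hk') ≫ φ = 0 :=
    (cancel_mono ((shiftFunctorZero (Dual.D A) ℤ).app ω).inv).1 (hzero.trans Limits.zero_comp.symm)
  have hmk : LC.qMap I hk' (Ideal.Quotient.mk (I ^ k) (a k)) = Ideal.Quotient.mk (I ^ n) (a n) :=
    (LC.qMap_mk I hk' (a k)).trans (Ideal.Quotient.eq.2 (hcompat k hk'))
  have hmem : ∀ z ∈ Cs k, (LC.qMap I hk').hom z ∈ Cs n := fun z hz => by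
    obtain ⟨w, rfl⟩ := Submodule.mem_span_singleton.1 hz
    rw [map_smul]
    exact Submodule.smul_mem _ _ (hmk ▸ Submodule.mem_span_singleton_self _)
  let g : Cs k →ₗ[A] Cs n := (LC.qMap I hk').hom.restrict hmem
  have hg : Function.Surjective g := fun z => by
    obtain ⟨w, hw⟩ := Submodule.mem_span_singleton.1 z.2
    refine ⟨w • ⟨_, Submodule.mem_span_singleton_self _⟩, Subtype.ext ?_⟩
    show (LC.qMap I hk').hom (w • Ideal.Quotient.mk (I ^ k) (a k)) = z.1
    rw [map_smul, ← hw]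
    exact congrArg (w • ·) hmk
  let S' : ShortComplex (ModuleCat.{u} A) := ShortComplex.mk (X₁ := ModuleCat.of A (LinearMap.ker g))
    (X₂ := ModuleCat.of A (Cs k)) (X₃ := ModuleCat.of A (Cs n))
    (ModuleCat.ofHom (LinearMap.ker g).subtype) (ModuleCat.ofHom g)
    (ModuleCat.hom_ext (LinearMap.ext fun z => z.2))
  have hS' : S'.ShortExact :=
    { exact := (ShortComplex.ShortExact.moduleCat_exact_iff_function_exact _).2 (LinearMap.exact_subtype_ker_map g)
      mono_f := (ModuleCat.mono_iff_injective _).2 Subtype.val_injective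
      epi_g := (ModuleCat.epi_iff_surjective _).2 hg }
  have hker := ext_sub_pos hω hn (LinearMap.ker g) (-1) (Or.inr ⟨by omega, N k, fun b hb => by
    rw [Module.mem_annihilator]
    rintro ⟨z, hz⟩
    exact Subtype.ext (Module.mem_annihilator.1 (hCann k hb) z)⟩)
  refine hψ₀ ((cancel_mono e0.hom).1 ((eq_zero_of_epi hS' hker (ψ₀ ≫ e0.hom) ?_).trans Limits.zero_comp.symm))
  have hcomm : ModuleCat.ofHom g ≫ S.f = ModuleCat.ofHom (Cs k).subtype ≫ LC.qMap I hk' :=
    ModuleCat.hom_ext (LinearMap.ext fun z => rfl)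
  show (DerivedCategory.singleFunctor (ModuleCat.{u} A) 0).map (ModuleCat.ofHom g) ≫ (ψ₀ ≫ e0.hom) = 0
  rw [hφ, ← Category.assoc, ← Functor.map_comp, hcomm, Functor.map_comp, Category.assoc, hz, Limits.comp_zero]

/-- Let A be a Noetherian local ring with a normalized dualizing complex ω and I an ideal. If the
degree-0 local cohomology of ω with support in I is zero, then the cohomological dimension of I is
less than dim A: for every A-module M, H^i_I(M) = 0 for all i ≥ dim A. -/
theorem result (A : Type u) [CommRing A] [IsLocalRing A] [IsNoetherianRing A] (ω : Dual.D A) (hω : Dual.IsDualizing A ω) (hn : Dual.IsNormalized A ω) (I : Ideal A) (h0 : Subsingleton (Dual2.HDI A I ω 0)) (M : Type u) [AddCommGroup M] [Module A M] (i : ℕ) (hi : ringKrullDim A ≤ (i : WithBot ℕ∞)) : Subsingleton (LocCoh.H I i M) := by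
  classical
  obtain ⟨d, hd⟩ : ∃ d : ℕ, ringKrullDim A = d := exists_dim
  refine LC.subsingleton_H_top_of_ring I hd.le ?_ M i (Nat.cast_le.1 (hd ▸ hi))
  exact top_vanishing hω hn I hd h0

end Groth.Agent.S1720
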