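import Groth.Statements.S1723
import Groth.Agent.PerfGen7.GorLocus
import Groth.Agent.KFlatLib.Ring.DualizingFibreRows
import Groth.Agent.FormalFib6.Quot
import Groth.Agent.FormalFib6.Transfer
import Groth.Agent.FlatLoc6.FiberRing
import Groth.Agent.FlatLoc6.Cpl
import Groth.Agent.LC.GorRing
import Groth.Agent.S0342

set_option autoImplicit false
set_option backward.isDefEq.respectTransparency false
set_option backward.isDefEq.respectTransparency.types false
set_option linter.style.haveILetI false
set_option maxHeartbeats 1000000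
universe u
open CategoryTheory
attribute [local instance] HasDerivedCategory.standard
open Dual

namespace Groth.Agent.S1723

open scoped TensorProduct in
/-- Localization of a base change through an intermediate localization. -/
theorem exists_localizedEquiv (D C : Type u) [CommRing D] [CommRing C] [Algebra D C] (q : Ideal D) [q.IsPrime]
    (P : Ideal C) [P.IsPrime] [Algebra (Localization.AtPrime q) (Localization.AtPrime P)]
    [IsScalarTower D (Localization.AtPrime q) (Localization.AtPrime P)]
    (M N : Type u) [AddCommGroup M] [Module D M] [AddCommGroup N] [Module C N] (e : N ≃ₗ[C] C ⊗[D] M) :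
    Nonempty (LocalizedModule P.primeCompl N ≃ₗ[Localization.AtPrime P]
      Localization.AtPrime P ⊗[Localization.AtPrime q] LocalizedModule q.primeCompl M) := by
  let K := Localization.AtPrime q
  let L := Localization.AtPrime P
  let e1 : LocalizedModule P.primeCompl N ≃ₗ[L] L ⊗[C] N := LocalizedModule.equivTensorProduct P.primeCompl N
  let e2 : L ⊗[C] N ≃ₗ[L] L ⊗[C] (C ⊗[D] M) :=
    TensorProduct.AlgebraTensorModule.congr (LinearEquiv.refl L L) e
  let e3 : L ⊗[C] (C ⊗[D] M) ≃ₗ[L] L ⊗[D] M := TensorProduct.AlgebraTensorModule.cancelBaseChange D C L L M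
  let e4 : L ⊗[K] (K ⊗[D] M) ≃ₗ[L] L ⊗[D] M := TensorProduct.AlgebraTensorModule.cancelBaseChange D K L L M
  let e5 : L ⊗[K] LocalizedModule q.primeCompl M ≃ₗ[L] L ⊗[K] (K ⊗[D] M) :=
    TensorProduct.AlgebraTensorModule.congr (LinearEquiv.refl L L) (LocalizedModule.equivTensorProduct q.primeCompl M)
  exact ⟨((e1.trans e2).trans e3).trans (e5.trans e4).symm⟩

open scoped TensorProduct in
/-- The generic formal fibre of a local domain with a dualizing complex. -/
theorem gorenstein_generic (D : Type u) [CommRing D] [IsDomain D] [IsLocalRing D] [IsNoetherianRing D]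
    (ω : Dual.D D) (hω : Dual.IsDualizing D ω) (P : Ideal (EGA4.Cpl D)) [P.IsPrime]
    (hP : P.comap (algebraMap D (EGA4.Cpl D)) = ⊥) :
    LocCoh.IsGorensteinLocalRing (Localization.AtPrime P) := by
  let C := EGA4.Cpl D
  haveI := Groth.Agent.FlatLoc6.isLocalRing_cpl D
  haveI := Groth.Agent.FlatLoc6.isNoetherianRing_cpl D
  haveI := Groth.Agent.FlatLoc6.faithfullyFlat_cpl D
  haveI := Groth.Agent.KFlatLib.hasLBase (algebraMap D C)
  have hC : Dual.IsDualizing C ((DTen.LBase (algebraMap D C)).obj ω) := by
    refine Groth.Agent.KFlatLib.isDualizing_LBase hω fun n hn => ⟨IsLocalRing.maximalIdeal D, ?_⟩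
    rw [IsLocalRing.eq_maximalIdeal hn, AdicCompletion.maximalIdeal_eq_map_of_fg (IsNoetherian.noetherian _)]
  let q : PrimeSpectrum D := ⟨⊥, Ideal.isPrime_bot⟩
  haveI : q.asIdeal.IsPrime := q.2
  let K := Localization.AtPrime q.asIdeal
  haveI : IsFractionRing D K := by
    have h : q.asIdeal.primeCompl = nonZeroDivisors D := by
      ext x; simp [q, Ideal.mem_primeCompl_iff]
    change IsLocalization (nonZeroDivisors D) K
    rw [← h]; infer_instance
  have hK : LocCoh.IsGorensteinLocalRing K := by
    letI := IsFractionRing.toField D (K := K)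
    exact Groth.Agent.S0342.result K
  obtain ⟨i, hz, ⟨e⟩⟩ := (Groth.Agent.PerfGen7.GorLocus.gorenstein_localized_iff hω q).1 hK
  have hu : ∀ d : q.asIdeal.primeCompl, IsUnit (algebraMap D (Localization.AtPrime P) d) := fun d => by
    rw [IsScalarTower.algebraMap_apply D C (Localization.AtPrime P)]
    refine IsLocalization.map_units _ (⟨algebraMap D C d, fun h => d.2 ?_⟩ : P.primeCompl)
    show (d : D) ∈ (⊥ : Ideal D)
    rw [← hP]
    exact h
  letI : Algebra K (Localization.AtPrime P) := (IsLocalization.lift hu).toAlgebra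
  haveI : IsScalarTower D K (Localization.AtPrime P) :=
    IsScalarTower.of_algebraMap_eq fun d => (IsLocalization.lift_eq hu d).symm
  refine (Groth.Agent.PerfGen7.GorLocus.gorenstein_localized_iff hC ⟨P, inferInstance⟩).2 ⟨i, fun j hj => ?_, ?_⟩
  · obtain ⟨c⟩ := Groth.Agent.KFlatLib.exists_hdLBaseLEquiv (B := C) ω j
    obtain ⟨d⟩ := exists_localizedEquiv D C q.asIdeal P (Dual.HD D ω j) _ c
    haveI := hz j hj
    exact d.toEquiv.subsingleton
  · obtain ⟨c⟩ := Groth.Agent.KFlatLib.exists_hdLBaseLEquiv (B := C) ω i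
    obtain ⟨d⟩ := exists_localizedEquiv D C q.asIdeal P (Dual.HD D ω i) _ c
    exact ⟨(d.trans (TensorProduct.AlgebraTensorModule.congr (LinearEquiv.refl _ _) e)).trans
      (TensorProduct.AlgebraTensorModule.rid K _ _)⟩



/-- If a Noetherian local ring A has a dualizing complex, then each of its formal fibres is a Gorenstein
ring: for every prime p the ring A^ ⊗_A κ(p) (completion at the maximal ideal, tensored with the
residue field of p) is a Gorenstein ring. -/
theorem result (A : Type u) [CommRing A] [IsLocalRing A] [IsNoetherianRing A] (ω : Dual.D A) (hω : Dual.IsDualizing A ω) (p : PrimeSpectrum A) : LocCoh.IsGorensteinRing (EGA4.formalFibre A p.asIdeal) := by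
  let D := A ⧸ p.asIdeal
  haveI : IsLocalRing D := .of_surjective' _ Ideal.Quotient.mk_surjective
  obtain ⟨ω', hω'⟩ := Groth.Agent.KFlatLib.exists_isDualizing_of_surjective (Ideal.Quotient.mk p.asIdeal)
    Ideal.Quotient.mk_surjective hω
  obtain ⟨e⟩ := Groth.Agent.FormalFib6.exists_cplQuotEquiv A D Ideal.Quotient.mk_surjective
  obtain ⟨e'⟩ := Groth.Agent.FormalFib6.fiber_equiv_of_surjective A (EGA4.Cpl A) D Ideal.Quotient.mk_surjective
    (⊥ : Ideal D)
  have hcomap : (⊥ : Ideal D).comap (algebraMap A D) = p.asIdeal := Ideal.mk_ker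
  let E := e'.trans (Groth.Agent.FormalFib6.fiberCongr e (⊥ : Ideal D)).toRingEquiv
  have main : LocCoh.IsGorensteinRing ((⊥ : Ideal D).Fiber (EGA4.Cpl D)) := by
    haveI := Groth.Agent.FlatLoc6.isNoetherianRing_cpl D
    haveI := Groth.Agent.FlatLoc6.isNoetherianRing_fiber (B := EGA4.Cpl D) (⊥ : Ideal D)
    refine { isGorensteinLocalRing_localization := fun Q _ => ?_ }
    obtain ⟨f⟩ := Groth.Agent.FlatLoc6.exists_fibLocEquiv (B := EGA4.Cpl D) (⊥ : Ideal D) Q
    let P : Ideal (EGA4.Cpl D) := Q.comap Algebra.TensorProduct.includeRight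
    have hP : P.comap (algebraMap D (EGA4.Cpl D)) = ⊥ := Groth.Agent.FlatLoc6.comap_fiber_prime _ Q
    haveI := gorenstein_generic D ω' hω' P hP
    haveI : IsNoetherianRing (Localization.AtPrime Q) :=
      IsLocalization.isNoetherianRing Q.primeCompl _ inferInstance
    let g : EGA4.FibLocRing D (EGA4.Cpl D) P ≃+* Localization.AtPrime P :=
      (Ideal.quotEquivOfEq (by rw [hP, Ideal.map_bot])).trans
        (RingEquiv.quotientBot (Localization.AtPrime P))
    exact Groth.Agent.LC.gorenstein_of_ringEquiv (A := Localization.AtPrime P) (f.trans g).symm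
  have h2 := Groth.Agent.LC.gorensteinRing_of_ringEquiv E.symm main
  have key : ∀ p' : Ideal A, ∀ _ : p'.IsPrime, p' = (⊥ : Ideal D).comap (algebraMap A D) →
      LocCoh.IsGorensteinRing (p'.Fiber (EGA4.Cpl A)) := by
    rintro p' _ rfl
    exact h2
  exact key _ _ hcomap.symm

end Groth.Agent.S1723
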