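import Groth.Statements.S17231
import Groth.Agent.KPE7.PushF

set_option autoImplicit false
set_option backward.isDefEq.respectTransparency false
set_option linter.style.haveILetI false
set_option maxHeartbeats 400000
universe u
open IntSh

namespace Groth.Agent.S17231

attribute [local instance] HasDerivedCategory.standard
open CategoryTheory CategoryTheory.Limits AlgebraicGeometry
open scoped Groth.Agent.H23.PicMul
attribute [local instance] Groth.Agent.ExtPow7.Lam.commRing Groth.Agent.ExtPow7.Lam.lambdaOps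

theorem isEmpty_of_rank_zero {T P : Scheme.{u}} {π : P ⟶ T} {E : T.Modules} {O1 : P.Modules}
    {q : (Scheme.Modules.pullback π).obj E ⟶ O1} (hE : FlatMod.IsFinLocFreeOfRank 0 E)
    (hPB : KRR.IsProjBundle π E O1 q) : IsEmpty P := by
  refine ⟨fun x => ?_⟩
  haveI := hPB.epi
  have hE' := KRR7.isFinLocFreeOfRank_pullback π hE
  have hL := hPB.invertible
  have hK := KPE7.flf_ker (KZ.kerSeq_shortExact q) (KRR7.flf_of_rank hE') (KRR7.flf_of_rank hL)
  have h : ExtPow7.Lam.rk ((Scheme.Modules.pullback π).obj E) x =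
      ExtPow7.Lam.rk (kernel q) x + ExtPow7.Lam.rk O1 x :=
    ExtPow7.Lam.rk_ses (KZ.kerSeq_shortExact q) hK (KRR7.flf_of_rank hL) x
  rw [ExtPow7.Lam.rk_of_rank hE' x, ExtPow7.Lam.rk_of_rank hL x] at h
  omega


open CategoryTheory CategoryTheory.Limits AlgebraicGeometry in
/-- Let Y be a connected Noetherian scheme, E a locally free O_Y-module of rank r and π : X → Y a
projective bundle of E, i.e. X = P(E) with universal invertible quotient π^*E → O(1) (X Noetherian
and connected, π projective and flat); let O(−1) be an inverse of O(1), D an r-th exterior power of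
E (so D = det E) and D' an inverse of D. With λ-ring models of K^•(X), K^•(Y) and the push-forward
π_* on bundle classes (twisted by O_X), writing δ(O(1)) = 1 − [O(−1)], one has π_*(δ(O(1))^l) = 1
for every 0 ≤ l < r and π_*(δ(O(1))^r) = δ(det E) = 1 − [D']. (The source's further Segre-class
relation is not stated. X is taken connected, which it is for r ≥ 1 and Y connected.) -/
theorem result
    {X Y : Scheme.{u}} [IsNoetherian X] [IsNoetherian Y] [ConnectedSpace X] [ConnectedSpace Y] (π : X ⟶ Y)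
    (hπ : RelProj.IsProjective π) [Flat π] [HasInjectiveResolutions X.Modules]
    (r : ℕ) (E : Y.Modules) (hE : FlatMod.IsFinLocFreeOfRank r E)
    (O1 : X.Modules) (q : (Scheme.Modules.pullback π).obj E ⟶ O1) (hP : KRR.IsProjBundle π E O1 q)
    (Om : X.Modules) (hOm : PicF.IsInvertible Om) (hOOm : ClSub.IsInverseOf O1 Om)
    (D D' : Y.Modules) (hD : ExtPow.IsExtPow r E D) (hDi : PicF.IsInvertible D) (hD'i : PicF.IsInvertible D')
    (hDD' : ClSub.IsInverseOf D D')
    (KX : Type u) [CommRing KX] [LambdaRing.LambdaOps KX] (PX : LambdaRing.PosStructure KX)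
    (φX : SGA6.Kvb X →+ KX) (hKX : KRR.IsModel X KX PX φX)
    (KY : Type u) [CommRing KY] [LambdaRing.LambdaOps KY] (PY : LambdaRing.PosStructure KY)
    (φY : SGA6.Kvb Y →+ KY) (hKY : KRR.IsModel Y KY PY φY)
    (g : KX →+ KY) (hg : KDet.IsPushF π (Coh.structureModule X) φX φY g) :
    (∀ l : ℕ, l < r → g ((1 - φX (KRR.cl X Om)) ^ l) = 1) ∧
      g ((1 - φX (KRR.cl X Om)) ^ r) = 1 - φY (KRR.cl Y D') := by
  classical
  cases r with
  | zero =>
    haveI := isEmpty_of_rank_zero hE hP
    exact isEmptyElim (Classical.arbitrary X)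
  | succ n =>
  obtain ⟨O, q', B, hOn⟩ := KPE7.exists_Bd hE hP
  let ψ := KPE7.modelHom hKX
  let θ := KPE7.modelHom hKY
  have hpow : ∀ j : ℕ, ExtPow7.Lam.c Om ^ j = ExtPow7.Lam.c (O (-(j : ℤ))) := by
    have h1 : PicF.cl Om = PicF.cl (O (-1)) := by
      refine left_inv_eq_right_inv (a := PicF.cl (O 1)) ?_ ?_
      · have h := hOn 1
        rw [Nat.cast_one] at h
        rw [h, H23.PicMul.cl_tensorPow, pow_one, mul_comm, ← H23.PicMul.cl_tensor,
          H23.PicMul.cl_eq_iff.2 hOOm, ← H23.PicMul.one_def]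
      · rw [B.add, add_neg_cancel, B.cl_zero]
    intro j
    induction j with
    | zero => rw [pow_zero, Nat.cast_zero, neg_zero, B.c_zero]
    | succ j ih =>
      rw [pow_succ, ih, KPE7.c_congr (KPE7.flf_inv hOm) h1, B.c_add,
        show -(j : ℤ) + -1 = -((j + 1 : ℕ) : ℤ) by push_cast; ring]
  -- values on the powers of `[O(-1)]`
  let G : ℕ → KY := fun j => g (ψ (ExtPow7.Lam.c Om) ^ j)
  have hG : ∀ j, G j = g (φX (ExtPow7.Lam.c (O (-(j : ℤ))))) := fun j => by
    show g (_ ^ j) = _
    rw [← map_pow, hpow]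
    rfl
  have hG0 : G 0 = 1 := by
    rw [hG, Nat.cast_zero, neg_zero, B.c_zero]
    have h := B.pushF_zero hg 1
    rw [map_one] at h
    exact h.trans (map_one θ)
  have hGlow : ∀ j, 1 ≤ j → j ≤ n → G j = 0 := fun j h1 h2 => by
    rw [hG]
    have h := B.pushF_low hg (b := -(j : ℤ)) (by omega) (by omega) 1
    rwa [map_one, one_mul] at h
  have hGtop : G (n + 1) = (-1 : ℤ) ^ n • φY (ExtPow7.Lam.c D') := by
    -- the Koszul relation
    have hu : ExtPow7.Lam.c D' * B.lam (n + 1) = 1 := by
      rw [mul_comm, show B.lam (n + 1) = ExtPow7.Lam.c D from ExtPow7.Lam.c_iso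
          (ExtPow7.nonempty_iso_isExtPow B.flfE (B.ext_spec (n + 1)).1 hD).some (B.ext_spec (n + 1)).2,
        ← KPE7.c_tensor (KPE7.flf_inv hDi) (KPE7.flf_inv hD'i)]
      exact ExtPow7.Lam.c_iso hDD'.some (ExtPow7.Lam.flf_tensor (KPE7.flf_inv hDi) (KPE7.flf_inv hD'i))
    have h := congrArg (fun z => g (φX (KPE7.pullK π (ExtPow7.Lam.c D') * z))) B.koszul
    simp only [Finset.mul_sum, mul_zero, map_sum, map_zero, mul_smul_comm, ← mul_assoc, ← map_mul, map_zsmul] at h
    rw [Finset.sum_range_succ, hu, map_one, one_mul, ← hG, Finset.sum_eq_single 0 (fun j hj hj0 => ?_)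
      (fun h => absurd (Finset.mem_range.2 (Nat.succ_pos n)) h)] at h
    · rw [pow_zero, one_smul, Nat.cast_zero, neg_zero, B.c_zero, mul_one, B.lam_zero, mul_one, B.pushF_zero hg] at h
      have h' := congrArg (fun z => (-1 : ℤ) ^ (n + 1) • z) (eq_neg_of_add_eq_zero_right h)
      simp only [smul_smul, ← mul_pow, neg_mul_neg, one_mul, one_pow, one_smul] at h'
      rw [h', smul_neg, ← neg_smul, pow_succ, mul_neg_one, neg_neg]
    · have hj' := Finset.mem_range.1 hj
      rw [B.pushF_low hg (b := -(j : ℤ)) (by omega) (by omega), smul_zero]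
  have hexp : ∀ l : ℕ, g ((1 - φX (KRR.cl X Om)) ^ l) =
      ∑ j ∈ Finset.range (l + 1), ((-1 : ℤ) ^ j * (l.choose j : ℤ)) • G j := by
    intro l
    have e : (1 - φX (KRR.cl X Om)) ^ l =
        ∑ j ∈ Finset.range (l + 1), ((-1 : ℤ) ^ j * (l.choose j : ℤ)) • ψ (ExtPow7.Lam.c Om) ^ j := by
      rw [sub_eq_add_neg, add_comm, add_pow]
      refine Finset.sum_congr rfl fun j _ => ?_
      rw [one_pow, mul_one, neg_pow, zsmul_eq_mul]
      push_cast
      show _ = _ * φX (KRR.cl X Om) ^ j
      ring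
    rw [e, map_sum]
    exact Finset.sum_congr rfl fun j _ => map_zsmul g _ _
  refine ⟨fun l hl => ?_, ?_⟩
  · rw [hexp, Finset.sum_eq_single 0 (fun j hj hj0 => ?_) (fun h => absurd (Finset.mem_range.2 (Nat.succ_pos l)) h)]
    · simp [hG0]
    · have := Finset.mem_range.1 hj
      rw [hGlow j (by omega) (by omega), smul_zero]
  · rw [hexp, Finset.sum_range_succ, Finset.sum_eq_single 0 (fun j hj hj0 => ?_)
      (fun h => absurd (Finset.mem_range.2 (Nat.succ_pos n)) h), hGtop, hG0]
    · rw [Nat.choose_self, Nat.cast_one, mul_one, smul_smul, pow_succ, mul_comm ((-1 : ℤ) ^ n), mul_assoc, ← mul_pow]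
      simp [sub_eq_add_neg]
    · have := Finset.mem_range.1 hj
      rw [hGlow j (by omega) (by omega), smul_zero]

end Groth.Agent.S17231
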