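import Groth.Statements.S1726
import Groth.Statements.S1726
import Groth.Agent.S2669
import Groth.Agent.S0555
import Groth.Agent.S9126
import Groth.Agent.LC.FiniteCrit

set_option linter.unusedSectionVars false
set_option linter.style.haveILetI false
open Groth.Agent Groth.Agent.LC

set_option autoImplicit false
universe u
open LocCoh

namespace Groth.Agent.S1726

theorem depth_eq_top_of_subsingleton {R : Type u} [CommRing R] [IsNoetherianRing R] [IsLocalRing R] (N : Type u)
    [AddCommGroup N] [Module R N] [Module.Finite R N] [Subsingleton N] : LocCoh.depth R N = ⊤ := by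
  refine ENat.eq_top_iff_forall_ge.2 fun k => ?_
  exact (le_idealDepth_iff_H (IsLocalRing.maximalIdeal R) N k).2 fun i _ =>
    subsingleton_H_of_subsingleton _ (ModuleCat.of R N) i

theorem height_Ici_comap {A B : Type u} [CommRing A] [CommRing B] [Algebra A B] [IsNoetherianRing A]
    [IsNoetherianRing B] [Module.Finite A B] (hA : CAlg.IsUniversallyCatenary A) (P Q : PrimeSpectrum B) (h : P ≤ Q) :
    Order.height (⟨Q, h⟩ : Set.Ici P) =
      Order.height (⟨PrimeSpectrum.comap (algebraMap A B) Q, Ideal.comap_mono h⟩ :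
        Set.Ici (PrimeSpectrum.comap (algebraMap A B) P)) := by
  rw [height_Ici_eq P Q h, height_Ici_eq (PrimeSpectrum.comap (algebraMap A B) P) (PrimeSpectrum.comap (algebraMap A B) Q) (Ideal.comap_mono h)]
  let p := P.asIdeal.comap (algebraMap A B)
  let q := Q.asIdeal.comap (algebraMap A B)
  let A' := A ⧸ p
  let B' := B ⧸ P.asIdeal
  let φ : A' →+* B' := Ideal.quotientMap P.asIdeal (algebraMap A B) le_rfl
  letI : Algebra A' B' := φ.toAlgebra
  haveI : IsScalarTower A A' B' := IsScalarTower.of_algebraMap_eq fun a => rfl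
  haveI : Module.Finite A B' := Module.Finite.of_surjective (Ideal.Quotient.mkₐ A P.asIdeal).toLinearMap
    Ideal.Quotient.mk_surjective
  haveI : Module.Finite A' B' := Module.Finite.of_restrictScalars_finite A A' B'
  haveI : FaithfulSMul A' B' := (faithfulSMul_iff_algebraMap_injective A' B').2 Ideal.quotientMap_injective
  haveI : Algebra.FiniteType A A' := Algebra.FiniteType.of_surjective (Ideal.Quotient.mkₐ A p) Ideal.Quotient.mk_surjective
  have hA' : CAlg.IsUniversallyCatenary A' := Groth.Agent.S9126.result A A' hA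
  let qb : Ideal A' := q.map (Ideal.Quotient.mk p)
  let Qb : Ideal B' := Q.asIdeal.map (Ideal.Quotient.mk P.asIdeal)
  haveI : qb.IsPrime := Ideal.map_isPrime_of_surjective Ideal.Quotient.mk_surjective
    (by rw [Ideal.mk_ker]; exact Ideal.comap_mono h)
  haveI : Qb.IsPrime := Ideal.map_isPrime_of_surjective Ideal.Quotient.mk_surjective
    (by rw [Ideal.mk_ker]; exact h)
  haveI : Qb.LiesOver qb := ⟨by
    ext x
    obtain ⟨a, rfl⟩ := Ideal.Quotient.mk_surjective x
    show Ideal.Quotient.mk p a ∈ qb ↔ Ideal.Quotient.mk P.asIdeal (algebraMap A B a) ∈ Qb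
    rw [← Ideal.mem_comap, ← Ideal.mem_comap, Ideal.comap_map_of_surjective _ Ideal.Quotient.mk_surjective,
      Ideal.comap_map_of_surjective _ Ideal.Quotient.mk_surjective, ← RingHom.ker_eq_comap_bot,
      ← RingHom.ker_eq_comap_bot, Ideal.mk_ker, Ideal.mk_ker,
      sup_eq_left.2 (show p ≤ q from Ideal.comap_mono h), sup_eq_left.2 (show P.asIdeal ≤ Q.asIdeal from h)]
    rfl⟩
  haveI : Algebra.IsIntegral A' B' := Algebra.IsIntegral.of_finite _ _
  haveI : Algebra.IsIntegral (A' ⧸ qb) (B' ⧸ Qb) := inferInstance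
  haveI : Nontrivial (A' ⧸ qb) := Ideal.Quotient.nontrivial_iff.2 (Ideal.IsPrime.ne_top inferInstance)
  have h0 := Groth.Agent.S0555.result A' hA' B' qb Qb
  haveI : Algebra.IsAlgebraic A' B' := Algebra.IsIntegral.isAlgebraic
  haveI : Algebra.IsAlgebraic (A' ⧸ qb) (B' ⧸ Qb) := Algebra.IsIntegral.isAlgebraic
  rw [trdeg_eq_zero, trdeg_eq_zero, add_zero, add_zero] at h0
  exact Cardinal.ofENat_injective h0

/-- Let A → B be a finite homomorphism of Noetherian rings with A universally catenary, I an ideal of A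
and M a finite B-module. Then s_{B, IB}(M) = s_{A, I}(M), where M is regarded as an A-module by
restriction of scalars. -/
theorem result (A B : Type u) [CommRing A] [CommRing B] [Algebra A B] [IsNoetherianRing A] [IsNoetherianRing B] [Module.Finite A B] (hA : CAlg.IsUniversallyCatenary A) (I : Ideal A) (M : Type u) [AddCommGroup M] [Module B M] [Module A M] [IsScalarTower A B M] [Module.Finite B M] : Dual2.cutoff B (I.map (algebraMap A B)) M = Dual2.cutoff A I M := by
  classical
  let α := algebraMap A B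
  haveI : Module.Finite A M := Module.Finite.trans B M
  haveI : Algebra.IsIntegral A B := Algebra.IsIntegral.of_finite A B
  refine le_antisymm ?_ ?_
  · refine le_iInf fun p => le_iInf fun q => le_iInf fun hpq => le_iInf fun hIp => le_iInf fun hIq => ?_
    rw [(Groth.Agent.S2669.result A B M p.asIdeal).2]
    simp only [ENat.iInf_add]
    refine le_iInf fun P => le_iInf fun ⟨hPp, _⟩ => ?_
    obtain ⟨Q, hPQ, hQ, hQl⟩ : ∃ Q : Ideal B, P.asIdeal ≤ Q ∧ Q.IsPrime ∧ Q.comap α = q.asIdeal :=
      Ideal.exists_ideal_over_prime_of_isIntegral q.asIdeal P.asIdeal (hPp.le.trans hpq)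
    refine (iInf_le_of_le P (iInf_le_of_le ⟨Q, hQ⟩ (iInf_le_of_le hPQ (iInf_le_of_le ?_ (iInf_le_of_le ?_ (add_le_add le_rfl (le_of_eq ?_)))))))
    · rw [Ideal.map_le_iff_le_comap, hPp]; exact hIp
    · show I.map α ≤ Q
      rw [Ideal.map_le_iff_le_comap, hQl]; exact hIq
    · rw [height_Ici_comap hA P ⟨Q, hQ⟩ hPQ]
      obtain ⟨p', hp'⟩ := p
      obtain ⟨q', hq'⟩ := q
      obtain rfl : P.asIdeal.comap α = p' := hPp
      obtain rfl : Q.comap α = q' := hQl
      rfl
  · refine le_iInf fun P => le_iInf fun Q => le_iInf fun hPQ => le_iInf fun hIP => le_iInf fun hIQ => ?_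
    let p : PrimeSpectrum A := PrimeSpectrum.comap α P
    let q : PrimeSpectrum A := PrimeSpectrum.comap α Q
    have hpq : p ≤ q := Ideal.comap_mono hPQ
    refine (iInf_le_of_le p (iInf_le_of_le q (iInf_le_of_le hpq (iInf_le_of_le
      (fun h => hIP (Ideal.map_le_iff_le_comap.2 h)) (iInf_le_of_le (Ideal.map_le_iff_le_comap.1 hIQ) le_rfl))))).trans ?_
    refine add_le_add ?_ (le_of_eq (height_Ici_comap hA P Q hPQ).symm)
    rw [(Groth.Agent.S2669.result A B M p.asIdeal).2]
    by_cases hsupp : P ∈ Module.support B M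
    · exact iInf₂_le P ⟨rfl, hsupp⟩
    · haveI : Subsingleton (LocalizedModule P.asIdeal.primeCompl M) := Module.notMem_support_iff.1 hsupp
      rw [depth_eq_top_of_subsingleton]
      exact le_top

end Groth.Agent.S1726
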