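import Groth.Statements.S1751
import Groth.Agent.H1Falt.Systems

set_option autoImplicit false
universe u
open LocCoh

namespace Groth.Agent.S1751

/-- (1)⇔(2) for a general subset T ⊆ Spec A stable under specialization. Let A be a Noetherian ring, M a
finite A-module and n ≥ 0. Then H^i_T(M) is a finite A-module for all i ≤ n if and only if there is
an ideal J with V(J) ⊆ T annihilating H^i_T(M) for all i ≤ n. -/
theorem result (A : Type u) [CommRing A] [IsNoetherianRing A] (T : Set (PrimeSpectrum A)) (hT : StableUnderSpecialization T) (M : Type u) [AddCommGroup M] [Module A M] [Module.Finite A M] (n : ℕ) : (∀ i : ℕ, i ≤ n → Module.Finite A (Dual2.HT T i M)) ↔ ∃ J : Ideal A, PrimeSpectrum.zeroLocus (J : Set A) ⊆ T ∧ ∀ i : ℕ, i ≤ n → ∀ a ∈ J, ∀ x : Dual2.HT T i M, a • x = 0 := by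
  letI := HasDerivedCategory.standard (ModuleCat.{u} A)
  obtain ⟨L, hb, hinj, hL, ⟨e⟩⟩ := Groth.Agent.H1Falt.exists_model (Dual.inD A M) 0
    (fun j hj => Groth.Agent.H1Falt.inD_subsingleton M j hj.ne)
  haveI := hL
  have hd := fun i : ℕ => (Groth.Agent.H1Falt.htSystem T M i).transfer L e
  have h := Groth.Agent.H1Falt.hfin_iff_killed (T := T) hb hinj (n := (n : ℤ))
    (fun i _ => Groth.Agent.H1Falt.hfin_model e i (Groth.Agent.H1Falt.inD_finite M i))
  constructor
  · intro hf
    obtain ⟨J, hJ, hk⟩ := h.1 fun i hi => by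
      by_cases h0 : i < 0
      · haveI := Groth.Agent.H1Falt.gamT_subsingleton (T := T) (hb i h0)
        exact Groth.Agent.H1Falt.hfin_of_subsingleton _ i
      · obtain ⟨k, rfl⟩ := Int.eq_ofNat_of_zero_le (not_lt.1 h0)
        exact (hd k).1.1 (hf k (by omega))
    exact ⟨J, hJ, fun i hi x hx => ((hd i).2 x).2 (hk i (by omega) x hx)⟩
  · rintro ⟨J, hJ, hk⟩ i hi
    refine (hd i).1.2 (h.2 ⟨J, hJ, fun j hj x hx => ?_⟩ i (by omega))
    by_cases h0 : j < 0
    · intro z _
      haveI := Groth.Agent.H1Falt.gamT_subsingleton (T := T) (hb j h0)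
      rw [Subsingleton.elim (x • z) 0]
      exact zero_mem _
    · obtain ⟨k, rfl⟩ := Int.eq_ofNat_of_zero_le (not_lt.1 h0)
      exact ((hd k).2 x).1 (hk k (by omega) x hx)

end Groth.Agent.S1751
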