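import Groth.Statements.S17277
import Groth.Agent.VolLib.Hhat
import Mathlib

set_option autoImplicit false
universe u
open CategoryTheory CategoryTheory.Limits AlgebraicGeometry TopologicalSpace
open Variety

namespace Groth.Agent.S17277

open CategoryTheory.Limits

/-- Let X be a proper scheme over a field k of dimension d and L an invertible O_X-module that is big:
there is a real constant c > 0 with dim_k H^0(X, L^{⊗n}) > c·n^d for all sufficiently large n. Then
for every closed subscheme Z ⊆ X of dimension < d, with quasi-coherent ideal sheaf I_Z, there is an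
integer m > 0 with H^0(X, I_Z ⊗ L^{⊗m}) ≠ 0. -/
theorem result (k : Type u) [Field k] (X : Scheme.{u})
    [X.Over (Spec (CommRingCat.of k))] [IsProper (X ↘ (Spec (CommRingCat.of k)))]
    (d : ℕ) (hdim : topologicalKrullDim X = d) (L : X.Modules) (hL : PicF.IsInvertible L)
    (hbig : ∃ c : ℝ, 0 < c ∧ ∀ᶠ n : ℕ in Filter.atTop,
      c * (n : ℝ) ^ d < (Module.finrank k (Coh.HH X (CohB1.tensorPow L n) 0) : ℝ))
    (Z : X.IdealSheafData) (hZ : topologicalKrullDim (Z.support : Set X) < d) :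
    ∃ m : ℕ, 0 < m ∧
      Nontrivial (Coh.HH X (CohB1.tensorMod (ClSub.idealMod Z) (CohB1.tensorPow L m)) 0) := by
  haveI := CurveCohLib.isNoetherian_of_proper (k := k) (X := X)
  let O := Coh.structureModule X
  have hO : Coh.IsCoh O := QCoh.isCoh_structureModule'
  let φ := ClSub.toSubscheme Z
  have hQ : Coh.IsCoh (ClSub.quotMod Z) := QCoh.isCoh_push_structure Z.subschemeι
  have hK : Coh.IsCoh (ClSub.idealMod Z) := QCoh.isCoh_kernel hO hQ φ
  have hI : Coh.IsCoh (Abelian.image φ) :=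
    QCoh.isCoh_of_epi (Abelian.factorThruImage φ) hO (QCoh.isQCoh_kernel hQ.1 (QCoh.isQCoh_cokernel hO.1 hQ.1 φ) _)
  have hsub : CohB1.support (Abelian.image φ) ⊆ (Z.support : Set X) := by
    refine (QCoh.mem_support_of_mono hI.1 hQ.1 (Abelian.image.ι φ)).trans ?_
    rw [← Z.range_subschemeι]
    haveI : IsLocallyNoetherian Z.subscheme := LocallyOfFiniteType.isLocallyNoetherian Z.subschemeι
    exact QCoh.support_push_subset Z.subschemeι (QCoh.isCoh_structureModule' (X := Z.subscheme)).1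
  obtain ⟨C, hC⟩ := VolLib.bd_of_support_dim_lt k hL hI
    (lt_of_le_of_lt (H23.TopDim.dim_le_dim_of_subset hsub) hZ) 0
  obtain ⟨c, hc, hev⟩ := hbig
  obtain ⟨N, hN⟩ := exists_nat_gt ((C : ℝ) * 2 ^ d / c)
  obtain ⟨m, hm, hmN⟩ := (hev.and (Filter.eventually_ge_atTop (max N 1))).exists
  refine ⟨m, lt_of_lt_of_le Nat.one_pos (le_of_max_le_right hmN), ?_⟩
  have h1 := VolLib.hseq_mid_le (k := k) (S := ShortComplex.mk (kernel.ι φ) (Abelian.factorThruImage φ)
    ((cancel_mono (Abelian.image.ι φ)).1 (by rw [Category.assoc, Abelian.image.fac, kernel.condition, zero_comp]))) hL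
    { exact := ShortComplex.exact_of_f_is_kernel _ (KernelFork.IsLimit.ofι' _ _ fun {T} t ht =>
        ⟨kernel.lift φ t (by rw [← Abelian.image.fac φ, reassoc_of% ht, zero_comp]), kernel.lift_ι _ _ _⟩)
      mono_f := inferInstance
      epi_g := inferInstance } hK hO hI 0 m
  have h2 : VolLib.hseq k L O 0 m = Module.finrank k (Coh.HH X (CohB1.tensorPow L m) 0) :=
    HilbPoly.finrank_HH_iso k (NakaiMo.pw_structure _ m).some 0
  haveI : Module.Finite k (Coh.HH X (CohB1.tensorMod (ClSub.idealMod Z) (CohB1.tensorPow L m)) 0) :=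
    CurveCohLib.finite_HH (k := k) (HilbPoly.isCoh_pw hL hK m) 0
  refine Module.nontrivial_of_finrank_pos (R := k) (Nat.pos_of_ne_zero fun h0 => ?_)
  have h3 : Module.finrank k (Coh.HH X (CohB1.tensorPow L m) 0) ≤ VolLib.hseq k L (Abelian.image φ) 0 m := by
    rw [← h2]
    refine h1.trans (le_of_eq ?_)
    show Module.finrank k (Coh.HH X (CohB1.tensorMod (ClSub.idealMod Z) (CohB1.tensorPow L m)) 0) + _ = _
    rw [h0, Nat.zero_add]
  have h4 : VolLib.hseq k L (Abelian.image φ) 0 m * m ≤ C * (2 * m) ^ d :=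
    (Nat.mul_le_mul_left _ (Nat.le_succ m)).trans ((hC m).trans
      (Nat.mul_le_mul_left _ (Nat.pow_le_pow_left (by omega) _)))
  have h5 : (Module.finrank k (Coh.HH X (CohB1.tensorPow L m) 0) : ℝ) * m ≤ (C : ℝ) * 2 ^ d * (m : ℝ) ^ d := by
    have h := (Nat.mul_le_mul_right m h3).trans h4
    rw [mul_pow, ← mul_assoc] at h
    exact_mod_cast h
  have hm0 : (0 : ℝ) < m := by exact_mod_cast lt_of_lt_of_le Nat.one_pos (le_of_max_le_right hmN)
  have hNm : (N : ℝ) ≤ m := by exact_mod_cast le_of_max_le_left hmN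
  have h6 : (C : ℝ) * 2 ^ d ≤ c * m := by
    rw [div_lt_iff₀ hc] at hN
    nlinarith
  have hp : (0 : ℝ) < (m : ℝ) ^ d := by positivity
  nlinarith [mul_lt_mul_of_pos_right hm hm0]

end Groth.Agent.S17277
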