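import Groth.Statements.S17278
import Mathlib
import Groth.Agent.VolLib.Kodaira
-- import your own Groth.Agent.* helpers here

set_option autoImplicit false
universe u
open CategoryTheory CategoryTheory.Limits AlgebraicGeometry TopologicalSpace
open Variety

namespace Groth.Agent.S17278

/-- Let X be a projective variety over a field k (an integral scheme, proper over k, carrying an ample
invertible module A₀) of dimension d, and L an invertible O_X-module. Then L is big, meaning that
for some real c > 0 one has dim_k H^0(X, L^{⊗n}) > c·n^d for all sufficiently large n, if and only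
if for every ample invertible O_X-module A, with a tensor inverse A' (A' ⊗ A ≅ O_X), there is an
integer m > 0 with H^0(X, A' ⊗ L^{⊗m}) ≠ 0. -/
theorem result (k : Type u) [Field k]
    (X : Scheme.{u}) [X.Over (Spec (CommRingCat.of k))] [IsProper (X ↘ (Spec (CommRingCat.of k)))] [IsIntegral X]
    (A₀ : X.Modules) (hA₀ : CohB1.IsAmple A₀)
    (d : ℕ) (hdim : topologicalKrullDim X = d) (L : X.Modules) (hL : PicF.IsInvertible L) :
    (∃ c : ℝ, 0 < c ∧ ∀ᶠ n : ℕ in Filter.atTop,
        c * (n : ℝ) ^ d < (Module.finrank k (Coh.HH X (CohB1.tensorPow L n) 0) : ℝ)) ↔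
      ∀ (A A' : X.Modules), CohB1.IsAmple A → ClSub.IsInverseOf A' A →
        ∃ m : ℕ, 0 < m ∧ Nontrivial (Coh.HH X (CohB1.tensorMod A' (CohB1.tensorPow L m)) 0) := by
  constructor
  · rintro ⟨c, hc, hev⟩ A A' hA ⟨e⟩
    obtain ⟨N, hN⟩ := Filter.eventually_atTop.1 hev
    obtain ⟨m, hm, τ, hτ⟩ := VolLib.exists_kodaira (k := k) hA e hL hdim (fun C m₀ => by
      obtain ⟨M, hM⟩ := exists_nat_ge ((C : ℝ) / c)
      let m := max (max N m₀) (M + 1)
      refine ⟨m, (le_max_right _ _).trans (le_max_left _ _), ?_⟩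
      have h1 := hN m ((le_max_left _ _).trans (le_max_left _ _))
      have hmr : (C : ℝ) / c < (m : ℝ) :=
        hM.trans_lt (by exact_mod_cast Nat.lt_of_succ_le (le_max_right _ (M + 1)))
      rw [div_lt_iff₀ hc] at hmr
      have hp : (0 : ℝ) < (m : ℝ) ^ d := by
        have : (0 : ℝ) < m := by exact_mod_cast lt_of_lt_of_le (Nat.succ_pos M) (le_max_right _ _)
        positivity
      have hm0 : (0 : ℝ) ≤ m := by positivity
      have key : (C : ℝ) * (m : ℝ) ^ d < (Module.finrank k (Coh.HH X (CohB1.tensorPow L m) 0) : ℝ) * m := by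
        nlinarith [mul_lt_mul_of_pos_right hmr hp, mul_le_mul_of_nonneg_right h1.le hm0]
      exact_mod_cast key)
    haveI := CurveCohLib.isNoetherian_of_proper (k := k) (X := X)
    exact ⟨m, hm, Module.nontrivial_of_finrank_pos (R := k) (VolLib.finrank_pos_of_ne_zero (k := k)
      (AmpleVan.isCoh_invertible (InvX.isInvertible_tensorMod (VolLib.isInvertible_of_inverse hA.1 e)
        (InvX.isInvertible_tensorPow hL m))) τ hτ)⟩
  · intro h
    obtain ⟨A', hA', ⟨e₀⟩⟩ := H23.PicInv.exists_inverse hA₀.1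
    have e : CohB1.tensorMod A' A₀ ≅ Coh.structureModule X := CurveTensor.commIso A' A₀ ≪≫ e₀
    obtain ⟨m, hm, hnt⟩ := h A₀ A' hA₀ ⟨e⟩
    obtain ⟨x, hx⟩ := exists_ne (0 : Coh.HH X (CohB1.tensorMod A' (CohB1.tensorPow L m)) 0)
    have hτ : Sheaf.H.equiv₀ (Coh.toAb (CohB1.tensorMod A' (CohB1.tensorPow L m))) isTerminalTop x ≠ 0 := fun h0 =>
      hx ((Sheaf.H.equiv₀ _ isTerminalTop).injective (h0.trans (map_zero _).symm))
    obtain ⟨D, N, hD⟩ := VolLib.exists_lower_bound (k := k) hA₀ e hL hdim hm hτ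
    refine ⟨1 / (2 * ((D : ℝ) + 1)), by positivity, Filter.eventually_atTop.2 ⟨max N 1, fun n hn => ?_⟩⟩
    have h1 : ((n : ℝ) ^ d) ≤ (D : ℝ) * (Module.finrank k (Coh.HH X (CohB1.tensorPow L n) 0) : ℝ) := by
      exact_mod_cast hD n (le_of_max_le_left hn)
    have hp : (0 : ℝ) < (n : ℝ) ^ d := by
      have : (0 : ℝ) < n := by exact_mod_cast le_of_max_le_right hn
      positivity
    have hD' : (0 : ℝ) ≤ D := by positivity
    rw [div_mul_eq_mul_div, one_mul, div_lt_iff₀ (by positivity)]
    nlinarith [mul_nonneg hD' (show (0:ℝ) ≤ (Module.finrank k (Coh.HH X (CohB1.tensorPow L n) 0) : ℝ) by positivity)]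

end Groth.Agent.S17278
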