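import Groth.Statements.S17281
import Groth.Agent.Lib.CurveSSVanish
import Groth.Agent.CurveCohLib.RegularCurve
import Groth.Agent.Lib.CurveGenerated
import Groth.Agent.QCoh.OpenSub

set_option autoImplicit false
universe u
open CategoryTheory CategoryTheory.Limits AlgebraicGeometry TopologicalSpace
open Curves

namespace Groth.Agent.S17281

/-- Fix an algebraically closed field k and a regular projective curve C over it (integral, proper over
k, of dimension one, all local rings regular) of genus g = dim_k H^1(C, O_C), E a finite locally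
free O_C-module that is nef in the curve-test sense (for every regular projective curve C' over k,
every k-morphism f : C' → C and every invertible quotient M of f^*E, deg M = χ(M) - χ(O_{C'}) ≥ 0),
and H an invertible O_C-module with deg H = χ(H) - χ(O_C) ≥ 2g. Then E ⊗ H is generated by its
global sections. -/
theorem result (k : Type u) [Field k] [IsAlgClosed k]
    (X : Scheme.{u}) [X.Over (Spec (CommRingCat.of k))] [IsProper (X ↘ (Spec (CommRingCat.of k)))] [IsIntegral X]
    (hdim : topologicalKrullDim X = 1) (hreg : ∀ x : X, IsRegularLocalRing (X.presheaf.stalk x))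
    (E : X.Modules) (hE : FlatMod.IsFinLocFree E)
    (hnef : ∀ (C : Scheme.{u}) [C.Over (Spec (CommRingCat.of k))] [IsProper (C ↘ (Spec (CommRingCat.of k)))] [IsIntegral C],
      topologicalKrullDim C = 1 → (∀ x : C, IsRegularLocalRing (C.presheaf.stalk x)) →
      ∀ (f : C ⟶ X), f ≫ (X ↘ (Spec (CommRingCat.of k))) = C ↘ (Spec (CommRingCat.of k)) →
      ∀ (M : C.Modules), PicF.IsInvertible M →
      ∀ (q : (Scheme.Modules.pullback f).obj E ⟶ M), Epi q → 0 ≤ Curv2.deg k C M 1)
    (H : X.Modules) (hH : PicF.IsInvertible H)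
    (hdeg : 2 * (Curv2.genus k X : ℤ) ≤ Curv2.deg k X H 1) :
    Curv2.IsGloballyGenerated (CohB1.tensorMod E H) := by
  haveI := CurveCohLib.isNoetherian_of_proper (k := k) (X := X)
  haveI := CurveCohLib.RegularCurve.smooth_of_regular k fun x _ => hreg x
  have hO := CurveCohLib.finrank_h0_eq_one k X
  have hH1 := InvEnd.isFinLocFreeOfRank_one hH
  have hHf := CurveStable.isFinLocFree_of_rank hH1
  have hEH : FlatMod.IsFinLocFree (CohB1.tensorMod E H) := KFlatLib.isFinLocFree_tensor hE hHf
  refine CurveGenerated.isGloballyGenerated_of_h1 k (CurveBundle.isFinLocFreeOfRank_rk hEH) fun p hp => ?_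
  let Pm := CurvePoint.ptMod p hp
  have hP : PicF.IsInvertible Pm := CurvePoint.isInvertible_ptMod p hp k hdim
  let N := (DCoh.tensorBi.obj Pm).obj H
  have hN : PicF.IsInvertible N := InvX.isInvertible_tensorMod hP hH
  have hPH := (CurveDuality.dg_tensor_line k hdim hP hHf).2
  rw [CurveBundle.rk_eq hH1, CurvePoint.deg_ptMod p hp k, ← CurveSlope.deg_eq_dg k hH1,
    ← CurveSlope.deg_eq_dg k (InvEnd.isFinLocFreeOfRank_one hN)] at hPH
  have hdN : 2 * (Curv2.genus k X : ℤ) - 1 ≤ Curv2.deg k X N 1 := by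
    show _ ≤ Curv2.deg k X ((DCoh.tensorBi.obj Pm).obj H) 1
    rw [hPH]; push_cast; omega
  let V := (DCoh.tensorBi.obj N).obj E
  have hV : FlatMod.IsFinLocFree V :=
    KFlatLib.isFinLocFree_tensor (CurveStable.isFinLocFree_of_rank (InvEnd.isFinLocFreeOfRank_one hN)) hE
  let EH := (DCoh.tensorBi.obj E).obj H
  let e : V ≅ (DCoh.tensorBi.obj EH).obj Pm :=
    ((CurveRR.tensorCompIso Pm H).app E).symm ≪≫ (DCoh.tensorBi.obj Pm).mapIso (CurveTensor.commIso H E) ≪≫
      CurveTensor.commIso Pm EH
  refine QCoh.subsingleton_HH_of_iso e 1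
    (CurveDuality.subsingleton_HH_one_of_quot k hO hdim hV fun I π hπ _ hI _ _ => ?_)
  obtain ⟨D, hD, hdD, ⟨eD⟩⟩ := CurveDuality.exists_inverse_deg k hdim hN
  have e' : (DCoh.tensorBi.obj D).obj N ≅ Coh.structureModule X := CurveTensor.commIso D N ≪≫ eD
  let M := (DCoh.tensorBi.obj D).obj I
  have hI1 := InvEnd.isFinLocFreeOfRank_one hI
  have hM : PicF.IsInvertible M := InvX.isInvertible_tensorMod hD hI
  haveI : (DCoh.tensorBi.obj D).PreservesEpimorphisms := by
    haveI : PreservesColimitsOfSize.{u, u} (DCoh.tensorBi.obj D) := ⟨fun {K} _ => inferInstance⟩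
    infer_instance
  let q : (Scheme.Modules.pullback (𝟙 X)).obj E ⟶ M :=
    (Scheme.Modules.pullbackId X).hom.app E ≫ ((CurveRR.cancelIso e').app E).inv ≫ (DCoh.tensorBi.obj D).map π
  have h0 := hnef X hdim hreg (𝟙 X) (Category.id_comp _) M hM q inferInstance
  have hd := (CurveDuality.dg_tensor_line k hdim hD (CurveStable.isFinLocFree_of_rank hI1)).2
  rw [CurveBundle.rk_eq hI1, ← CurveSlope.deg_eq_dg k hI1,
    ← CurveSlope.deg_eq_dg k (InvEnd.isFinLocFreeOfRank_one hM), hdD] at hd
  have h1 : 0 ≤ Curv2.deg k X ((DCoh.tensorBi.obj D).obj I) 1 := h0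
  rw [hd] at h1
  push_cast at h1
  omega

end Groth.Agent.S17281
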