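import Groth.Statements.S17285
import Groth.Agent.VolLib.GenFinite
import Mathlib

set_option autoImplicit false
universe u
open CategoryTheory CategoryTheory.Limits AlgebraicGeometry TopologicalSpace
open Variety

namespace Groth.Agent.S17285

/-- Let X and Y be proper varieties over a field k (integral schemes, proper over k) of the same
dimension d, f : Y → X a birational k-morphism (generic point to generic point, with a single point
in that fibre and the same residue field there), and L an invertible O_X-module. Then L is big,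
meaning that some real c > 0 has dim_k H^0(X, L^{⊗n}) > c·n^d for all sufficiently large n, if and
only if f^*L is big on Y in the same sense. (The source states this for birational morphisms of
proper schemes over k; it is stated here for integral X and Y, the case in which the printed
argument's injectivity of O_X → f_*O_Y holds.) -/
theorem result (k : Type u) [Field k] (X Y : Scheme.{u})
    [X.Over (Spec (CommRingCat.of k))] [IsProper (X ↘ (Spec (CommRingCat.of k)))] [IsIntegral X]
    [Y.Over (Spec (CommRingCat.of k))] [IsProper (Y ↘ (Spec (CommRingCat.of k)))] [IsIntegral Y]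
    (f : Y ⟶ X) (hf : f ≫ (X ↘ (Spec (CommRingCat.of k))) = Y ↘ (Spec (CommRingCat.of k))) (hbir : RadPt.IsBirational f)
    (d : ℕ) (hdimX : topologicalKrullDim X = d) (hdimY : topologicalKrullDim Y = d)
    (L : X.Modules) (hL : PicF.IsInvertible L) :
    (∃ c : ℝ, 0 < c ∧ ∀ᶠ n : ℕ in Filter.atTop,
        c * (n : ℝ) ^ d < (Module.finrank k (Coh.HH X (CohB1.tensorPow L n) 0) : ℝ)) ↔
      (∃ c : ℝ, 0 < c ∧ ∀ᶠ n : ℕ in Filter.atTop,
        c * (n : ℝ) ^ d < (Module.finrank k (Coh.HH Y (CohB1.tensorPow ((Scheme.Modules.pullback f).obj L) n) 0) : ℝ)) := by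
  haveI := CurveCohLib.isNoetherian_of_proper (k := k) (X := X)
  have hgX : genericPoints X = {genericPoint X} := genericPoints_eq_singleton
  have hgY : genericPoints Y = {genericPoint Y} := genericPoints_eq_singleton
  have hdom : f.base (genericPoint Y) = genericPoint X := by
    have h := hbir.1.1 (show genericPoint Y ∈ genericPoints Y by rw [hgY]; rfl)
    rw [hgX] at h
    exact h
  have hd1 : f.residueDegree (genericPoint Y) = 1 := by
    have hb := (hbir.2 (f.base (genericPoint Y)) (by rw [hgX, hdom]; rfl)).2 (genericPoint Y) rfl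
    unfold Scheme.Hom.residueDegree
    letI := (f.residueFieldMap (genericPoint Y)).hom.toAlgebra
    exact (LinearEquiv.ofBijective (Algebra.linearMap (X.residueField (f.base (genericPoint Y)))
      (Y.residueField (genericPoint Y))) hb).finrank_eq.symm.trans (Module.finrank_self _)
  obtain ⟨e, ⟨C, hC⟩, he⟩ := VolLib.near_birational k hdimX f hf hdom hd1 hL 0
  have hY : ∀ m, VolLib.hseq k ((Scheme.Modules.pullback f).obj L) (Coh.structureModule Y) 0 m =
      Module.finrank k (Coh.HH Y (CohB1.tensorPow ((Scheme.Modules.pullback f).obj L) m) 0) := fun m =>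
    HilbPoly.finrank_HH_iso k (NakaiMo.pw_structure _ m).some 0
  have hX : ∀ m, VolLib.hseq k L (Coh.structureModule X) 0 m = Module.finrank k (Coh.HH X (CohB1.tensorPow L m) 0) :=
    fun m => HilbPoly.finrank_HH_iso k (NakaiMo.pw_structure _ m).some 0
  have key : ∀ (u v : ℕ → ℕ), (∀ m, u m ≤ v m + e m) → ∀ c : ℝ, 0 < c →
      (∀ᶠ m : ℕ in Filter.atTop, c * (m : ℝ) ^ d < (u m : ℝ)) →
      ∃ c' : ℝ, 0 < c' ∧ ∀ᶠ m : ℕ in Filter.atTop, c' * (m : ℝ) ^ d < (v m : ℝ) := by
    intro u v huv c hc hu
    refine ⟨c / 2, half_pos hc, ?_⟩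
    obtain ⟨N, hN⟩ := exists_nat_gt (2 * ((C : ℝ) * 2 ^ d) / c)
    filter_upwards [hu, Filter.eventually_ge_atTop (max N 1)] with m hm hmN
    have h1 : (e m : ℝ) * (m : ℝ) ≤ (C : ℝ) * 2 ^ d * (m : ℝ) ^ d := by
      have h : e m * m ≤ C * (2 * m) ^ d := by
        refine le_trans (le_trans (Nat.mul_le_mul_left _ (Nat.le_succ m)) (hC m)) ?_
        exact Nat.mul_le_mul_left _ (Nat.pow_le_pow_left (by omega) _)
      rw [mul_pow, ← mul_assoc] at h
      exact_mod_cast h
    have hm0 : (0 : ℝ) < m := by exact_mod_cast lt_of_lt_of_le Nat.one_pos (le_of_max_le_right hmN)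
    have hNm : (N : ℝ) ≤ m := by exact_mod_cast le_of_max_le_left hmN
    have h2 : 2 * ((C : ℝ) * 2 ^ d) ≤ c * m := by
      rw [div_lt_iff₀ hc] at hN
      nlinarith
    have h3 : (e m : ℝ) * m ≤ c / 2 * (m : ℝ) ^ d * m := by
      refine h1.trans ?_
      have hp : (0 : ℝ) ≤ (m : ℝ) ^ d := by positivity
      nlinarith
    have h4 : (e m : ℝ) ≤ c / 2 * (m : ℝ) ^ d := le_of_mul_le_mul_right h3 hm0
    have h5 : (u m : ℝ) ≤ (v m : ℝ) + e m := by exact_mod_cast huv m
    linarith
  constructor
  · rintro ⟨c, hc, hu⟩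
    exact key _ _ (fun m => by have := (he m).2; rw [hX, hY] at this; exact this) c hc hu
  · rintro ⟨c, hc, hu⟩
    exact key _ _ (fun m => by have := (he m).1; rw [hX, hY] at this; exact this) c hc hu

end Groth.Agent.S17285
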