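import Groth.Statements.S17287
import Groth.Agent.IntSym.CurveMap

set_option autoImplicit false
universe u
open CategoryTheory CategoryTheory.Limits AlgebraicGeometry TopologicalSpace
open Variety

namespace Groth.Agent.S17287

/-- Let f : Y → X be a surjective k-morphism of proper schemes over a field k and C ⊆ X an integral
closed subscheme of dimension one. Then there is an integral closed subscheme C' ⊆ Y of dimension
one with f(C') = C as closed subsets. (The source states this for proper algebraic spaces over k;
this is the case of schemes.) -/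
theorem result (k : Type u) [Field k] (X Y : Scheme.{u})
    [X.Over (Spec (CommRingCat.of k))] [IsProper (X ↘ (Spec (CommRingCat.of k)))] [Y.Over (Spec (CommRingCat.of k))] [IsProper (Y ↘ (Spec (CommRingCat.of k)))]
    (f : Y ⟶ X) (hf : f ≫ (X ↘ (Spec (CommRingCat.of k))) = Y ↘ (Spec (CommRingCat.of k))) [Surjective f]
    (C : X.IdealSheafData) [IsIntegral C.subscheme] (hC : topologicalKrullDim (C.support : Set X) = 1) :
    ∃ C' : Y.IdealSheafData, IsIntegral C'.subscheme ∧ topologicalKrullDim (C'.support : Set Y) = 1 ∧
      f.base '' (C'.support : Set Y) = (C.support : Set X) := by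
  haveI := CurveCohLib.isNoetherian_of_proper (k := k) (X := X)
  haveI := CurveCohLib.isNoetherian_of_proper (k := k) (X := Y)
  let p := X ↘ Spec (CommRingCat.of k)
  let p' := Y ↘ Spec (CommRingCat.of k)
  haveI : IsProper f := LerayEuler.isProper_f k f hf
  let η := C.subschemeι (genericPoint C.subscheme)
  have hr : (C.support : Set X) = closure {η} := by
    rw [← C.range_subschemeι]; exact QCoh.range_eq_closure C.subschemeι
  have hη : VarDim.deg p η = 1 := by
    have h := VarDim.topologicalKrullDim_closure_singleton p η
    rw [← hr, hC] at h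
    exact_mod_cast h.symm
  obtain ⟨z, hz, hz0⟩ := VarDim.exists_fdeg_eq_zero f (y := η) (Surjective.surj η)
  have hzd : VarDim.deg p' z = 1 := by rw [VarDim.deg_eq_add f p hf z, hz, hη, hz0]
  have hsupp : ((IntNum.ptIdeal z).support : Set Y) = closure {z} := by
    rw [← Scheme.IdealSheafData.range_subschemeι]; exact IntNum.range_ptIdeal z
  refine ⟨IntNum.ptIdeal z, QCoh.isIntegral_closure_point z, ?_, ?_⟩
  · rw [hsupp, VarDim.topologicalKrullDim_closure_singleton p' z, hzd]
    rfl
  · rw [hsupp, ← f.isClosedMap.closure_image_eq_of_continuous f.continuous {z}, Set.image_singleton, hz, hr]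

end Groth.Agent.S17287
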