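import Groth.Statements.S17299
import Groth.Agent.CurvStLib.Witness
import Groth.Agent.CurvStLib.DimOne
-- import your own Groth.Agent.* helpers here

set_option autoImplicit false
set_option backward.isDefEq.respectTransparency false
set_option backward.isDefEq.respectTransparency.types false
set_option linter.style.haveILetI false
set_option maxHeartbeats 1000000
universe u
open CurvSt

namespace Groth.Agent.S17299
open Groth.Agent

open CategoryTheory AlgebraicGeometry in
/-- Assume the stack of curves over the base scheme S (families with algebraic-space total space, flat,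
proper, of finite presentation and of relative dimension at most 1, no marked points) is an
algebraic stack for the fppf topology. Then, inside it, the families whose structure morphism is a
Gorenstein morphism (read etale locally on every chart diagram: at every point flat with Gorenstein
fibre local ring) and has relative dimension exactly 1 (at every point of the total space some etale
chart diagram through it has fibre of local dimension 1 there) form an open substack for the fppf
topology; moreover this substack has an object over every algebraically closed field point of S.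
(The source works over the integers; the statement over S is its form over a base.) -/
theorem result (S : Scheme.{u})
    (hC : AlgSt.IsAlgStack Scheme.fppfPrecoverage (CurvSt.Curves S 0)) :
    AlgSt.IsOpenSubstack (CurvSt.Curves S 0) (fun A => AlgSp.LocP (fun _ _ g => ∀ x, (g.stalkMap x).hom.Flat ∧
            LocCoh.IsGorensteinLocalRing ((g.fiber (g x)).presheaf.stalk (g.asFiber x))) A.obj.f ∧
          (∀ x : AlgSp.Points A.obj.X,
            AlgSp.HasAtMor (fun _ _ h u => FlatMor.fibreDimAt h u = ((1 : ℕ) : WithBot ℕ∞)) A.obj.f x)) Scheme.fppfPrecoverage ∧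
      ∀ (Ω : Type u) [Field Ω] [IsAlgClosed Ω] (t : Spec (CommRingCat.of Ω) ⟶ S),
        Nonempty ((AlgSt.fullSub (CurvSt.Curves S 0) (fun A => AlgSp.LocP (fun _ _ g => ∀ x, (g.stalkMap x).hom.Flat ∧
            LocCoh.IsGorensteinLocalRing ((g.fiber (g x)).presheaf.stalk (g.asFiber x))) A.obj.f ∧
          (∀ x : AlgSp.Points A.obj.X,
            AlgSp.HasAtMor (fun _ _ h u => FlatMor.fibreDimAt h u = ((1 : ℕ) : WithBot ℕ∞)) A.obj.f x))).p.Fiber (Over.mk t)) := by
  have e : ∀ A : (CurvSt.Curves S 0).obj, _ ↔ _ := fun A =>
    CurvStLib.locP_and_dimOne_iff (Q := fun g x => (g.stalkMap x).hom.Flat ∧ LocCoh.IsGorensteinLocalRing ((g.fiber (g x)).presheaf.stalk (g.asFiber x))) A.property.1 (AlgSp.IsAlgSpace.yon_obj _)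
      A.property.2.2.1.2.1.1 ((1 : ℕ) : WithBot ℕ∞)
  have h := CurvStLib.isOpenSubstack_locP (n := 0) CurvStLib.isPtLocal_gorenstein_dimOne hC
  rw [show (fun A : (CurvSt.Curves S 0).obj => _) = _ from funext fun A => propext (e A)] at h
  refine ⟨h, fun Ω _ _ t => CurvStLib.nonempty_fiber_projLine Ω t ?_⟩
  intro _ _
  exact (e _).1
      (CurvStLib.locP_schObj (Over.mk t) _ CurvStLib.isPtLocal_gorenstein_dimOne fun x =>
        ⟨CurvStLib.gorAt_projLine Ω x, CurvStLib.fibreDimAt_projLine Ω x⟩)

end Groth.Agent.S17299
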