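import Groth.Statements.S1732
import Mathlib
import Groth.Agent.LC.InjNoeth
import Groth.Agent.PSLib.Basic
import Groth.Agent.S0311

set_option autoImplicit false
universe u
open LocCoh

namespace Groth.Agent.S1732

section Alg

variable {R : Type u} [CommRing R] {M : Type u} [AddCommGroup M] [Module R M] {d : ℕ}
  (x : Fin d → R) (m : Ideal R) (hm : m = Ideal.span (Set.range x))
  (θ : Fin d → R → R) (hθ : ∀ i j, θ i (x j) = if i = j then 1 else 0)
  (D : Fin d → M →+ M) (hD : ∀ i f z, D i (f • z) = θ i f • z + f • D i z)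

/-- `T = ∑ D_i x_i`. -/
def T (z : M) : M := ∑ i, D i (x i • z)

/-- Killed by the `n`-th power of `m`, recursively. -/
def Fil : ℕ → Set M
  | 0 => {0}
  | n + 1 => {z | ∀ i, x i • z ∈ Fil n}

theorem fil_add : ∀ n {z w : M}, z ∈ Fil x n → w ∈ Fil x n → z + w ∈ Fil x n
  | 0, z, w, hz, hw => by simp_all [Fil]
  | n + 1, z, w, hz, hw => fun i => by rw [smul_add]; exact fil_add n (hz i) (hw i)

theorem fil_smul : ∀ n (r : R) {z : M}, z ∈ Fil x n → r • z ∈ Fil x n
  | 0, r, z, hz => by simp_all [Fil]
  | n + 1, r, z, hz => fun i => by rw [smul_comm]; exact fil_smul n r (hz i)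

theorem fil_zero : ∀ n, (0 : M) ∈ Fil x n
  | 0 => rfl
  | n + 1 => fun i => by rw [smul_zero]; exact fil_zero n

theorem fil_mono : ∀ n {z : M}, z ∈ Fil x n → z ∈ Fil x (n + 1)
  | 0, z, hz => fun i => by rw [show z = 0 from hz, smul_zero]; rfl
  | n + 1, z, hz => fun i => fil_mono n (hz i)

theorem T_add (z w : M) : T x D (z + w) = T x D z + T x D w := by
  simp [T, smul_add, Finset.sum_add_distrib]

theorem T_zero : T x D (0 : M) = 0 := by simp [T]

include hθ hD in
theorem smul_sum_D (j : Fin d) (z : Fin d → M) (hz : ∀ i, x j • z i = x i • z j) :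
    x j • ∑ i, D i (z i) = T x D (z j) - z j := by
  have : ∀ i, x j • D i (z i) = D i (x i • z j) - (if i = j then z j else 0) := fun i => by
    rw [← hz i, hD, hθ]
    split
    · next h => subst h; rw [one_smul]; abel
    · rw [zero_smul]; abel
  rw [Finset.smul_sum, Finset.sum_congr rfl fun i _ => this i, Finset.sum_sub_distrib]
  simp [T]

include hθ hD in
theorem smul_T (j : Fin d) (z : M) : x j • T x D z = T x D (x j • z) - x j • z := by
  rw [T, smul_sum_D x θ hθ D hD j _ fun i => smul_comm _ _ _]

include hθ hD in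
/-- On the `l`-th graded piece `T` is multiplication by `-l`. -/
theorem T_add_mem : ∀ (l : ℕ) {z : M}, z ∈ Fil x (l + 1) → T x D z + (l : R) • z ∈ Fil x l
  | 0, z, hz => by
    have h : ∀ i, x i • z = 0 := fun i => hz i
    show T x D z + ((0 : ℕ) : R) • z = 0
    simp [T, h]
  | l + 1, z, hz => fun j => by
    rw [smul_add, smul_T x θ hθ D hD, smul_comm (x j), Nat.cast_succ, add_smul, one_smul,
      show ∀ a b c : M, a - b + (c + b) = a + c from fun a b c => by abel]
    exact T_add_mem l (hz j)

include hθ hD in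
theorem bijective_T_sub (hu : ∀ n : ℕ, 0 < n → IsUnit (n : R)) (htor : ∀ z : M, ∃ n, z ∈ Fil x n)
    (hlin : ∀ (c : ℕ) z, T x D ((c : R) • z) = (c : R) • T x D z) (c : ℕ) (hc : 0 < c) :
    Function.Bijective fun z => T x D z - (c : R) • z := by
  have key : ∀ l {z : M}, z ∈ Fil x (l + 1) →
      T x D z - (c : R) • z + ((l + c : ℕ) : R) • z ∈ Fil x l := fun l z hz => by
    rw [Nat.cast_add, add_smul, show ∀ a b e : M, a - b + (e + b) = a + e from fun a b e => by abel]
    exact T_add_mem x θ hθ D hD l hz
  constructor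
  · intro z w h
    have h0 : ∀ l {z : M}, z ∈ Fil x l → T x D z - (c : R) • z = 0 → z = 0 := by
      intro l
      induction l with
      | zero => intro z hz _; exact hz
      | succ l ih =>
        intro z hz h
        have := key l hz
        rw [h, zero_add] at this
        obtain ⟨u, hu'⟩ := hu (l + c) (by omega)
        refine ih ?_ h
        have h2 := fil_smul x l (↑u⁻¹ : R) this
        rwa [smul_smul, ← hu', Units.inv_mul, one_smul] at h2
    obtain ⟨l, hl⟩ := htor (z - w)
    refine sub_eq_zero.1 (h0 l hl ?_)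
    have hT : T x D (z - w) = T x D z - T x D w := eq_sub_of_add_eq (by rw [← T_add, sub_add_cancel])
    simp only at h
    rw [hT, smul_sub, show ∀ a b e g : M, a - b - (e - g) = (a - e) - (b - g) from fun a b e g => by abel, h, sub_self]
  · have hTs : ∀ (r : ℕ) {y}, IsUnit (r : R) → ∀ v, (r : R) • v = y → T x D y = (r : R) • T x D v :=
      fun r y _ v hv => by rw [← hv, hlin]
    have h0 : ∀ l {z : M}, z ∈ Fil x l → ∃ w, T x D w - (c : R) • w = z := by
      intro l
      induction l with
      | zero => intro z hz; exact ⟨0, by rw [T_zero, smul_zero, sub_zero]; exact (hz : z = 0).symm⟩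
      | succ l ih =>
        intro z hz
        obtain ⟨u, hu'⟩ := hu (l + c) (by omega)
        obtain ⟨v, hv⟩ : ∃ v, ((l + c : ℕ) : R) • v = z := ⟨(↑u⁻¹ : R) • z, by rw [smul_smul, ← hu', Units.mul_inv, one_smul]⟩
        have hvF : v ∈ Fil x (l + 1) := by
          have h2 := fil_smul x (l + 1) (↑u⁻¹ : R) hz
          rwa [← hv, smul_smul, ← hu', Units.inv_mul, one_smul] at h2
        obtain ⟨w, hw⟩ := ih (key l hvF)
        refine ⟨w - v, ?_⟩
        have hT : T x D (w - v) = T x D w - T x D v := eq_sub_of_add_eq (by rw [← T_add, sub_add_cancel])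
        rw [hT, smul_sub, ← hv,
          show ∀ a b e g : M, a - b - (e - g) = (a - e) - (b - g) from fun a b e g => by abel, hw]
        abel
    intro z
    obtain ⟨l, hl⟩ := htor z
    exact h0 l hl

include hθ hD in
theorem exists_common (hu : ∀ n : ℕ, 0 < n → IsUnit (n : R)) (htor : ∀ z : M, ∃ n, z ∈ Fil x n)
    (hlin : ∀ (c : ℕ) z, T x D ((c : R) • z) = (c : R) • T x D z)
    (z : Fin d → M) (hz : ∀ i j, x j • z i = x i • z j) : ∃ w, ∀ j, x j • w = z j := by
  choose v hv using fun j => (bijective_T_sub x θ hθ D hD hu htor hlin 1 one_pos).2 (z j)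
  have hcompat : ∀ i j, x j • v i = x i • v j := fun i j => by
    refine (bijective_T_sub x θ hθ D hD hu htor hlin 2 two_pos).1 ?_
    have h : ∀ i j, T x D (x j • v i) - ((2 : ℕ) : R) • (x j • v i) = x j • z i := fun i j => by
      rw [← hv i, smul_sub, smul_T x θ hθ D hD, smul_comm (x j), Nat.cast_one, one_smul, Nat.cast_ofNat, two_smul]
      abel
    show T x D (x j • v i) - _ = T x D (x i • v j) - _
    rw [h, h, hz]
  refine ⟨∑ i, D i (v i), fun j => ?_⟩
  rw [smul_sum_D x θ hθ D hD j v fun i => hcompat i j, ← hv j]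
  simp only [Nat.cast_one, one_smul]

include hm in
theorem mem_fil (n : ℕ) (z : M) : (∀ a ∈ m ^ n, a • z = 0) ↔ z ∈ Fil x n := by
  induction n generalizing z with
  | zero =>
    rw [pow_zero, Ideal.one_eq_top]
    exact ⟨fun h => by simpa [Fil] using h 1 trivial, fun h a _ => by simp_all [Fil]⟩
  | succ n ih =>
    constructor
    · intro h i
      refine (ih _).1 fun a ha => ?_
      rw [smul_smul]
      exact h _ (by rw [pow_succ]; exact Ideal.mul_mem_mul ha (hm ▸ Ideal.subset_span ⟨i, rfl⟩))
    · intro h a ha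
      rw [pow_succ] at ha
      refine Submodule.mul_induction_on ha (fun b hb c hc => ?_) fun b c hb hc => by rw [add_smul, hb, hc, add_zero]
      rw [mul_comm, mul_smul]
      rw [hm] at hc
      have hb' : ∀ i, x i • b • z = 0 := fun i => by rw [smul_comm]; exact (ih _).2 (h i) b hb
      induction hc using Submodule.span_induction with
      | mem y hy => obtain ⟨i, rfl⟩ := hy; exact hb' i
      | zero => rw [zero_smul]
      | add y w _ _ hy hw => rw [add_smul, hy, hw, add_zero]
      | smul r y _ hy => rw [smul_eq_mul, mul_smul, hy, smul_zero]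

end Alg

/-- The socle is a vector space over the residue field. -/
@[reducible] noncomputable def socModule (R : Type u) [CommRing R] [IsLocalRing R] (M : Type u) [AddCommGroup M]
    [Module R M] :
    Module (IsLocalRing.ResidueField R) (Submodule.torsionBySet R M (IsLocalRing.maximalIdeal R : Set R)) :=
  show Module (R ⧸ IsLocalRing.maximalIdeal R) (Submodule.torsionBySet R M (IsLocalRing.maximalIdeal R : Set R)) from
    inferInstance

theorem socTower (R : Type u) [CommRing R] [IsLocalRing R] (M : Type u) [AddCommGroup M] [Module R M] :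
    letI := socModule R M
    IsScalarTower R (IsLocalRing.ResidueField R) (Submodule.torsionBySet R M (IsLocalRing.maximalIdeal R : Set R)) :=
  show IsScalarTower R (R ⧸ IsLocalRing.maximalIdeal R)
    (Submodule.torsionBySet R M (IsLocalRing.maximalIdeal R : Set R)) from inferInstance

theorem core (k : Type u) [Field k] [CharZero k] (d : ℕ) (E : Type u) [AddCommGroup E] [Module (MvPowerSeries (Fin d) k) E] (e : IsLocalRing.ResidueField (MvPowerSeries (Fin d) k) →ₗ[MvPowerSeries (Fin d) k] E) (he : InjHull.IsInjectiveHull e) (θ : Fin d → Derivation k (MvPowerSeries (Fin d) k) (MvPowerSeries (Fin d) k)) (hθ : ∀ i j : Fin d, θ i (MvPowerSeries.X j) = if i = j then 1 else 0) (M : Type u) [AddCommGroup M] [Module (MvPowerSeries (Fin d) k) M] (hM : LocCoh.IsPowerTorsion (IsLocalRing.maximalIdeal (MvPowerSeries (Fin d) k)) M) (D : Fin d → M →+ M) (hD : ∀ (i : Fin d) (f : MvPowerSeries (Fin d) k) (z : M), D i (f • z) = θ i f • z + f • D i z) : ∃ J : Type u, Nonempty (M ≃ₗ[MvPowerSeries (Fin d) k] (J →₀ E)) := by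
  classical
  haveI : Module.Injective (MvPowerSeries (Fin d) k) E := he.isInjective
  have hm : IsLocalRing.maximalIdeal (MvPowerSeries (Fin d) k) = Ideal.span (Set.range MvPowerSeries.X) := by
    show _ = Groth.Agent.PSLib.vars d k
    ext f
    rw [IsLocalRing.mem_maximalIdeal, Groth.Agent.PSLib.mem_vars_iff, mem_nonunits_iff,
      MvPowerSeries.isUnit_iff_constantCoeff, isUnit_iff_ne_zero, not_not]
  have hu : ∀ n : ℕ, 0 < n → IsUnit (n : MvPowerSeries (Fin d) k) := fun n hn => by
    rw [← map_natCast (MvPowerSeries.C : k →+* MvPowerSeries (Fin d) k)]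
    exact (isUnit_iff_ne_zero.2 (Nat.cast_ne_zero.2 hn.ne')).map _
  have hlin : ∀ (c : ℕ) z, T (MvPowerSeries.X : Fin d → MvPowerSeries (Fin d) k) D ((c : MvPowerSeries (Fin d) k) • z) =
      (c : MvPowerSeries (Fin d) k) • T (MvPowerSeries.X : Fin d → MvPowerSeries (Fin d) k) D z := fun c z => by
    rw [Nat.cast_smul_eq_nsmul (MvPowerSeries (Fin d) k), Nat.cast_smul_eq_nsmul (MvPowerSeries (Fin d) k)]
    simp only [T, Finset.smul_sum]
    refine Finset.sum_congr rfl fun i _ => ?_
    rw [smul_comm, map_nsmul]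
  have htor : ∀ z : M, ∃ n, z ∈ Fil (MvPowerSeries.X : Fin d → MvPowerSeries (Fin d) k) n := fun z =>
    (hM z).imp fun n hn => (mem_fil _ _ hm n z).1 hn
  -- socle and the map
  let S : Submodule (MvPowerSeries (Fin d) k) M :=
    Submodule.torsionBySet _ M (IsLocalRing.maximalIdeal (MvPowerSeries (Fin d) k) : Set _)
  letI : Module (IsLocalRing.ResidueField (MvPowerSeries (Fin d) k)) S := socModule (MvPowerSeries (Fin d) k) M
  haveI : IsScalarTower (MvPowerSeries (Fin d) k) (IsLocalRing.ResidueField (MvPowerSeries (Fin d) k)) S :=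
    socTower (MvPowerSeries (Fin d) k) M
  let b := Module.Free.chooseBasis (IsLocalRing.ResidueField (MvPowerSeries (Fin d) k)) S
  let J := Module.Free.ChooseBasisIndex (IsLocalRing.ResidueField (MvPowerSeries (Fin d) k)) S
  haveI : Module.Injective (MvPowerSeries (Fin d) k) (J →₀ E) :=
    haveI := Groth.Agent.LC.injective_directSum (R := MvPowerSeries (Fin d) k) (fun _ : J => E) fun _ => he.isInjective
    Module.Baer.injective (Module.Baer.of_equiv (finsuppLEquivDirectSum (MvPowerSeries (Fin d) k) E J).symm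
      (Module.Baer.of_injective this))
  let g : S →ₗ[MvPowerSeries (Fin d) k] J →₀ E :=
    (Finsupp.mapRange.linearMap e).comp (b.repr.toLinearMap.restrictScalars (MvPowerSeries (Fin d) k))
  obtain ⟨φ, hφ⟩ := Module.Injective.out S.subtype S.injective_subtype g
  have hginj : Function.Injective g :=
    (Finsupp.mapRange_injective _ (map_zero e) he.injective).comp b.repr.injective
  have hinj0 : ∀ n {z : M}, z ∈ Fil (MvPowerSeries.X : Fin d → MvPowerSeries (Fin d) k) n → φ z = 0 → z = 0 := by
    intro n
    induction n with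
    | zero => intro z hz _; exact hz
    | succ n ih =>
      intro z hz h
      have hk : ∀ i, (MvPowerSeries.X i : MvPowerSeries (Fin d) k) • z = 0 := fun i =>
        ih (hz i) (by rw [map_smul, h, smul_zero])
      have hzS : z ∈ S := by
        rw [Submodule.mem_torsionBySet_iff]
        intro a
        have := (mem_fil _ _ hm 1 z).2 (fun i => hk i) a.1 (by rw [pow_one]; exact a.2)
        exact this
      have := hφ ⟨z, hzS⟩
      rw [Submodule.subtype_apply, h] at this
      exact congrArg Subtype.val (hginj (this.symm.trans (map_zero g).symm) : (⟨z, hzS⟩ : S) = 0)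
  have hinj : Function.Injective φ := fun z w h => sub_eq_zero.1 (by
    obtain ⟨n, hn⟩ := htor (z - w)
    exact hinj0 n hn (by rw [map_sub, h, sub_self]))
  have hsocE : ∀ v : E, (∀ i, (MvPowerSeries.X i : MvPowerSeries (Fin d) k) • v = 0) → v ∈ LinearMap.range e := by
    intro v hv
    by_cases hv0 : v = 0
    · exact hv0 ▸ zero_mem _
    obtain ⟨w, hw, hw0⟩ := (Submodule.ne_bot_iff _).1 (he.essential (Submodule.span _ {v})
      (fun h => hv0 (Submodule.span_singleton_eq_bot.1 h)))
    obtain ⟨⟨a, rfl⟩, hwr⟩ := And.imp_left Submodule.mem_span_singleton.1 (Submodule.mem_inf.1 hw)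
    have ha : IsUnit a := by
      rw [← IsLocalRing.notMem_maximalIdeal]
      intro ham
      exact hw0 ((mem_fil _ _ hm 1 v).2 (fun i => hv i) a (by rw [pow_one]; exact ham))
    obtain ⟨t, ht⟩ := hwr
    exact ⟨(↑ha.unit⁻¹ : MvPowerSeries (Fin d) k) • t, by rw [map_smul, ht, smul_smul, IsUnit.val_inv_mul, one_smul]⟩
  have hsurj0 : ∀ n {v : J →₀ E}, v ∈ Fil (MvPowerSeries.X : Fin d → MvPowerSeries (Fin d) k) n →
      v ∈ LinearMap.range φ := by
    intro n
    induction n with
    | zero => intro v hv; exact (hv : v = 0) ▸ zero_mem _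
    | succ n ih =>
      intro v hv
      choose z hz using fun i => ih (hv i)
      have hc : ∀ i j, (MvPowerSeries.X j : MvPowerSeries (Fin d) k) • z i = MvPowerSeries.X i • z j := fun i j =>
        hinj (by rw [map_smul, map_smul, hz, hz, smul_comm])
      obtain ⟨w, hw⟩ := exists_common (MvPowerSeries.X : Fin d → MvPowerSeries (Fin d) k) (fun i => θ i) hθ D hD
        hu htor hlin z hc
      have hsoc : ∀ j, v j - φ w j ∈ LinearMap.range e := fun j => hsocE _ fun i => by
        rw [smul_sub, ← Finsupp.smul_apply, ← Finsupp.smul_apply, ← map_smul, hw, hz, sub_self]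
      choose t ht using hsoc
      let u : J →₀ IsLocalRing.ResidueField (MvPowerSeries (Fin d) k) :=
        Finsupp.onFinset (v - φ w).support t fun j hj => by
          rw [Finsupp.mem_support_iff, Finsupp.sub_apply, ← ht]
          exact fun h => hj (he.injective (h.trans (map_zero e).symm))
      refine ⟨w + (b.repr.symm u : S).1, ?_⟩
      rw [map_add, show φ (b.repr.symm u : S).1 = g (b.repr.symm u) from hφ _]
      ext j
      simp only [g, LinearMap.comp_apply, LinearMap.restrictScalars_apply, LinearEquiv.coe_coe,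
        LinearEquiv.apply_symm_apply, Finsupp.mapRange.linearMap_apply, Finsupp.add_apply, Finsupp.mapRange_apply, u,
        Finsupp.onFinset_apply, ht]
      abel
  have hsurj : Function.Surjective φ := fun v => by
    induction v using Finsupp.induction_linear with
    | zero => exact ⟨0, map_zero φ⟩
    | add v w hv hw => obtain ⟨a, rfl⟩ := hv; obtain ⟨c, rfl⟩ := hw; exact ⟨a + c, map_add φ a c⟩
    | single j v =>
      obtain ⟨n, hn⟩ := Groth.Agent.LC.hull_isPowerTorsion he v
      exact hsurj0 n ((mem_fil _ _ hm n _).1 fun a ha => by rw [Finsupp.smul_single, hn a ha, Finsupp.single_zero])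
  exact ⟨J, ⟨LinearEquiv.ofBijective φ ⟨hinj, hsurj⟩⟩⟩

/-- Let k be a field of characteristic zero, d ≥ 1, A = k[[x_1, …, x_d]] with maximal ideal m, and E an
injective hull of the residue field of A. Let M be an m-power torsion A-module equipped with
additive maps D_1, …, D_d such that D_i(f z) = θ_i(f) z + f D_i(z), where θ_i is the k-derivation of
A with θ_i(x_j) = δ_ij (the partial derivative in x_i). Then M is, up to isomorphism, a direct sum
of copies of E. -/
theorem result (k : Type u) [Field k] [CharZero k] (d : ℕ) (hd : 1 ≤ d) (E : Type u) [AddCommGroup E] [Module (MvPowerSeries (Fin d) k) E] (e : IsLocalRing.ResidueField (MvPowerSeries (Fin d) k) →ₗ[MvPowerSeries (Fin d) k] E) (he : InjHull.IsInjectiveHull e) (θ : Fin d → Derivation k (MvPowerSeries (Fin d) k) (MvPowerSeries (Fin d) k)) (hθ : ∀ i j : Fin d, θ i (MvPowerSeries.X j) = if i = j then 1 else 0) (M : Type u) [AddCommGroup M] [Module (MvPowerSeries (Fin d) k) M] (hM : LocCoh.IsPowerTorsion (IsLocalRing.maximalIdeal (MvPowerSeries (Fin d) k)) M) (D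 : Fin d → M →+ M) (hD : ∀ (i : Fin d) (f : MvPowerSeries (Fin d) k) (z : M), D i (f • z) = θ i f • z + f • D i z) : ∃ J : Type u, Nonempty (M ≃ₗ[MvPowerSeries (Fin d) k] (J →₀ E)) := by
  classical
  exact Groth.Agent.S1732.core k d E e he θ hθ M hM D hD

end Groth.Agent.S1732
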