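import Groth.Statements.S17321
import Mathlib

set_option autoImplicit false
universe u v
open CAlg

namespace Groth.Agent.S17321

/-- Let k be an algebraically closed field and A a commutative k-algebra which is finite-dimensional as
a k-vector space (the coordinate ring of a finite k-scheme). Then the space Der(A) of k-derivations
A → A is zero if and only if A is reduced. -/
theorem result (k : Type u) [Field k] [IsAlgClosed k]
    (A : Type v) [CommRing A] [Algebra k A] [Module.Finite k A] :
    Subsingleton (Derivation k A A) ↔ IsReduced A := by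
  haveI : IsArtinianRing A := IsArtinianRing.of_finite k A
  haveI : Algebra.EssFiniteType k A := inferInstance
  have hkey : Algebra.FormallyUnramified k A ↔ IsReduced A := by
    refine ⟨fun h => Algebra.FormallyUnramified.isReduced_of_field k A, fun h => ?_⟩
    haveI : ∀ m : MaximalSpectrum A, Algebra.FormallyUnramified k (A ⧸ m.asIdeal) := fun m => by
      letI := Ideal.Quotient.field m.asIdeal
      exact Algebra.FormallyUnramified.of_surjective (Algebra.ofId k (A ⧸ m.asIdeal))
        IsAlgClosed.algebraMap_bijective_of_isIntegral.2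
    let e : A ≃ₐ[k] ((m : MaximalSpectrum A) → A ⧸ m.asIdeal) :=
      AlgEquiv.ofRingEquiv (f := IsArtinianRing.equivPi A) fun x => rfl
    exact Algebra.FormallyUnramified.of_equiv e.symm
  constructor
  · intro h
    refine hkey.mp ((Algebra.formallyUnramified_iff k A).mpr (not_nontrivial_iff_subsingleton.mp fun hne => ?_))
    obtain ⟨N, hN⟩ := IsCoatomic.exists_coatom (α := Submodule A Ω[A⁄k])
    haveI : IsSimpleModule A (Ω[A⁄k] ⧸ N) := isSimpleModule_iff_isCoatom.mpr hN
    obtain ⟨m, hm, ⟨e⟩⟩ := isSimpleModule_iff_quot_maximal.mp (inferInstance : IsSimpleModule A (Ω[A⁄k] ⧸ N))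
    have hass : m ∈ associatedPrimes A A := by
      refine Module.associatedPrimes.minimalPrimes_annihilator_subset_associatedPrimes A A ?_
      rw [show Module.annihilator A A = ⊥ from Module.annihilator_eq_bot.mpr inferInstance]
      exact ⟨⟨hm.isPrime, bot_le⟩, fun q hq hqm => by haveI := hq.1; exact ((IsArtinianRing.isMaximal_of_isPrime q).eq_of_le hm.ne_top hqm).ge⟩
    obtain ⟨-, x, hx⟩ := isAssociatedPrime_iff.mp hass
    have hx' : ∀ a, a ∈ m ↔ a • x = 0 := fun a => by
      rw [hx, Submodule.mem_colon_singleton, Submodule.mem_bot]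
    let j : (A ⧸ m) →ₗ[A] A := Submodule.liftQ m (LinearMap.toSpanSingleton A A x) fun a ha =>
      LinearMap.mem_ker.mpr ((hx' a).mp ha)
    let ψ : Ω[A⁄k] →ₗ[A] A := j ∘ₗ e.toLinearMap ∘ₗ N.mkQ
    have h0 : ψ = 0 := Derivation.liftKaehlerDifferential_unique ψ 0 (Subsingleton.elim _ _)
    obtain ⟨w, hw⟩ := Submodule.mkQ_surjective N (e.symm 1)
    have h1 : ψ w = x := by
      show j (e (N.mkQ w)) = x
      rw [hw, e.apply_symm_apply]
      show (1 : A) • x = x
      exact one_smul A x
    rw [h0, LinearMap.zero_apply] at h1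
    exact hm.ne_top ((Ideal.eq_top_iff_one m).mpr ((hx' 1).mpr (by rw [← h1, smul_zero])))
  · intro h
    haveI := hkey.mpr h
    exact ⟨fun D D' => DFunLike.ext _ _ fun a => by
      rw [← Derivation.liftKaehlerDifferential_comp_D D, ← Derivation.liftKaehlerDifferential_comp_D D',
        Subsingleton.elim (KaehlerDifferential.D k A a) 0, map_zero, map_zero]⟩

end Groth.Agent.S17321
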