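import Groth.Statements.S17373
import Groth.Agent.VolLib.UnifMain
import Groth.Agent.VarDim.Top
import Mathlib

set_option autoImplicit false
set_option backward.isDefEq.respectTransparency false
set_option backward.isDefEq.respectTransparency.types false
set_option maxHeartbeats 1000000
universe u
open CategoryTheory CategoryTheory.Limits AlgebraicGeometry
open Variety

namespace Groth.Agent.S17373
open Groth.Agent.H23.PicMul

/-- Let X be a geometrically integral scheme proper over a field k and L an ample invertible module on
X. Then there is an integer m₀ such that for all m ≥ m₀ and every numerically trivial invertible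
module N (degree zero on every integral closed one-dimensional subscheme), H^0(X, L^m ⊗ N) has the
same k-dimension as H^0(X, L^m), and that dimension is positive. (The published statement is for a
big divisor D and asserts that every invertible module numerically equivalent to O(mD) comes from an
effective divisor for m large; its argument reduces to ample D and establishes exactly the equality
of dimensions stated here.) -/
theorem result (k : Type u) [Field k] (X : Scheme.{u})
    [X.Over (Spec (CommRingCat.of k))] [IsIntegral X] [GeometricallyIntegral (X ↘ Spec (CommRingCat.of k))]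
    [IsProper (X ↘ Spec (CommRingCat.of k))]
    (L : X.Modules) (hL : CohB1.IsAmple L) :
    ∃ m₀ : ℕ, ∀ m : ℕ, m₀ ≤ m → ∀ N : X.Modules, PicF.IsInvertible N → Pic13.IsNumEquivZero k X N →
      Module.finrank k (Coh.HH X (CohB1.tensorMod (CohB1.tensorPow L m) N) 0) =
          Module.finrank k (Coh.HH X (CohB1.tensorPow L m) 0) ∧
        0 < Module.finrank k (Coh.HH X (CohB1.tensorPow L m) 0) := by
  haveI := CurveCohLib.isNoetherian_of_proper (k := k) (X := X)
  let n := VarDim.deg (X ↘ Spec (CommRingCat.of k)) (genericPoint X)
  have hn : topologicalKrullDim X = (n : WithBot ℕ∞) := by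
    exact_mod_cast VarDim.topologicalKrullDim_eq_deg_genericPoint (X ↘ Spec (CommRingCat.of k))
  have hd : ∀ M : X.Modules, topologicalKrullDim ↥(CohB1.support M) < ((n + 1 : ℕ) : WithBot ℕ∞) := fun M =>
    ((topologicalKrullDim_subspace_le X _).trans hn.le).trans_lt (by exact_mod_cast Nat.lt_succ_self n)
  obtain ⟨m₀, hv⟩ := (VolLib.unif k hL (QCoh.isCoh_structureModule' (X := X)) (hd _)).van
  obtain ⟨D, m₁, hD⟩ := VolLib.exists_lower_ample (k := k) hL hn
  refine ⟨max (max m₀ m₁) 1, fun m hm N hN hnum => ?_⟩
  have hm0 : m₀ ≤ m := (le_max_left _ _).trans ((le_max_left _ _).trans hm)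
  have hm1 : m₁ ≤ m := (le_max_right _ _).trans ((le_max_left _ _).trans hm)
  have hm2 : 1 ≤ m := (le_max_right _ _).trans hm
  have hLm := InvX.isInvertible_tensorPow hL.1 m
  have hu := VolLib.unif k hL (AmpleVan.isCoh_invertible hLm) (hd _)
  have key : ∀ P, VolLib.NT k P →
      (Module.finrank k (Coh.HH X (CohB1.tensorMod (CohB1.tensorPow L m) P) 0) : ℤ) =
        Curv2.euler k X (CohB1.tensorPow L m) := by
    intro P hP
    obtain ⟨e⟩ : Nonempty ((AmpleVan.tw (VolLib.tP L P m)).obj (Coh.structureModule X) ≅
        CohB1.tensorMod (CohB1.tensorPow L m) P) := cl_eq_iff.1 (by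
      show PicF.cl (CohB1.tensorMod _ (CohB1.tensorMod P _)) = _
      rw [cl_tensor, cl_tensor, cl_tensor, ← H23.PicMul.one_def, one_mul, mul_comm])
    refine Eq.trans ?_ (hu.chi P hP)
    show _ = Curv2.euler k X (CohB1.tensorMod (CohB1.tensorPow L m) P)
    rw [CurveCohLib.euler_eq_sum (k := k) (N := 1) fun i hi => by
      obtain ⟨j, rfl⟩ := Nat.exists_eq_add_of_le' hi
      exact QCoh.subsingleton_HH_of_iso e _ (hv P hP m hm0 j)]
    simp
  have h0 : Module.finrank k (Coh.HH X (CohB1.tensorMod (CohB1.tensorPow L m) (Coh.structureModule X)) 0) =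
      Module.finrank k (Coh.HH X (CohB1.tensorPow L m) 0) := VolLib.finrank_congr_cl (by
    rw [cl_tensor, ← H23.PicMul.one_def, mul_one])
  refine ⟨?_, ?_⟩
  · have h := (key N ⟨hN, hnum⟩).trans (key _ VolLib.NT.one).symm
    rw [h0] at h
    exact_mod_cast h
  · have h := hD m hm1
    have hp : 0 < m ^ n := pow_pos (by omega) n
    exact Nat.pos_of_ne_zero fun hz => by rw [hz, Nat.mul_zero] at h; omega

end Groth.Agent.S17373
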