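import Groth.Statements.S17374
import Groth.Agent.VolLib.NumTriv
import Mathlib

set_option autoImplicit false
universe u
open CategoryTheory CategoryTheory.Limits AlgebraicGeometry
open scoped ENNReal
open Variety

namespace Groth.Agent.S17374

open Groth.Agent.H23.PicMul

theorem limsup_ennreal (k : Type u) [Field k] {X : Scheme.{u}} [X.Over (Spec (CommRingCat.of k))]
    [IsProper (X ↘ Spec (CommRingCat.of k))] (d : ℕ) {M : X.Modules} (hM : PicF.IsInvertible M)
    (hd : topologicalKrullDim X = d) :
    Filter.limsup (fun m : ℕ => (Module.finrank k (Coh.HH X (CohB1.tensorPow M m) 0) : ℝ≥0∞) /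
        (m : ℝ≥0∞) ^ d) Filter.atTop =
      ENNReal.ofReal (VolLib.vsup d (VolLib.hseq k M (Coh.structureModule X) 0) / (d.factorial : ℝ)) := by
  haveI := CurveCohLib.isNoetherian_of_proper (k := k) (X := X)
  have hb := VolLib.bd_all k hM hd.le (QCoh.isCoh_structureModule' (X := X)) 0
  let F : ℝ → ℝ≥0∞ := fun x => ENNReal.ofReal (x / (d.factorial : ℝ))
  have hmono : Monotone F := fun a b h => ENNReal.ofReal_le_ofReal (by gcongr)
  have hcont : Continuous F := ENNReal.continuous_ofReal.comp (continuous_id.div_const _)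
  show _ = F (Filter.limsup _ Filter.atTop)
  rw [hmono.map_limsup_of_continuousAt _ hcont.continuousAt hb.isBounded_nseq (VolLib.isCobounded_nseq _ _)]
  refine Filter.limsup_congr ?_
  filter_upwards [Filter.eventually_ge_atTop 1] with m hm
  have hm' : (0 : ℝ) < (m : ℝ) ^ d := pow_pos (by exact_mod_cast hm) _
  have hf : (d.factorial : ℝ) ≠ 0 := by exact_mod_cast d.factorial_ne_zero
  show _ = ENNReal.ofReal ((VolLib.hseq k M (Coh.structureModule X) 0 m : ℝ) * (d.factorial : ℝ) / (m : ℝ) ^ d / (d.factorial : ℝ))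
  rw [show (VolLib.hseq k M (Coh.structureModule X) 0 m : ℝ) * (d.factorial : ℝ) / (m : ℝ) ^ d / (d.factorial : ℝ) =
      (VolLib.hseq k M (Coh.structureModule X) 0 m : ℝ) / (m : ℝ) ^ d by field_simp,
    ENNReal.ofReal_div_of_pos hm', ENNReal.ofReal_natCast, ENNReal.ofReal_pow (Nat.cast_nonneg _),
    ENNReal.ofReal_natCast]
  rw [show VolLib.hseq k M (Coh.structureModule X) 0 m = Module.finrank k (Coh.HH X (CohB1.tensorPow M m) 0) from
    HilbPoly.finrank_HH_iso k (NakaiMo.pw_structure M m).some 0]

/-- Let X be a geometrically integral scheme of dimension d, proper over a field k and admitting an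
ample invertible module, and let L, N be invertible modules on X with N numerically trivial (degree
zero on every integral closed one-dimensional subscheme). Then the upper limits of dim_k H^0(X, (L ⊗
N)^m) / m^d and of dim_k H^0(X, L^m) / m^d as m → ∞, taken in the extended non-negative reals,
agree; that is, the volume of an invertible module depends only on its numerical equivalence class. -/
theorem result (k : Type u) [Field k] (X : Scheme.{u})
    [X.Over (Spec (CommRingCat.of k))] [IsIntegral X] [GeometricallyIntegral (X ↘ Spec (CommRingCat.of k))]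
    [IsProper (X ↘ Spec (CommRingCat.of k))]
    (hproj : ∃ A : X.Modules, CohB1.IsAmple A) (d : ℕ) (hd : topologicalKrullDim X = d)
    (L N : X.Modules) (hL : PicF.IsInvertible L) (hN : PicF.IsInvertible N) (hNum : Pic13.IsNumEquivZero k X N) :
    Filter.limsup (fun m : ℕ => (Module.finrank k (Coh.HH X (CohB1.tensorPow (CohB1.tensorMod L N) m) 0) : ℝ≥0∞) /
        (m : ℝ≥0∞) ^ d) Filter.atTop =
      Filter.limsup (fun m : ℕ => (Module.finrank k (Coh.HH X (CohB1.tensorPow L m) 0) : ℝ≥0∞) /
        (m : ℝ≥0∞) ^ d) Filter.atTop := by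
  haveI := CurveCohLib.isNoetherian_of_proper (k := k) (X := X)
  obtain ⟨A, hA⟩ := hproj
  obtain ⟨N', hN', ⟨e⟩⟩ := H23.PicInv.exists_inverse hN
  have hLN := InvX.isInvertible_tensorMod hL hN
  have hO : Coh.IsCoh (Coh.structureModule X) := QCoh.isCoh_structureModule'
  have h1 := VolLib.vol_le k hA hd hL hN hN' e (VolLib.isNumEquivZero_inverse k hN hN' e hNum)
  have h2 := VolLib.vol_le k hA hd hLN hN' hN (cl_eq_iff.1 (by
    rw [cl_tensor, mul_comm, ← cl_tensor]; exact cl_eq_iff.2 ⟨e⟩)).some hNum
  have h3 : VolLib.vsup d (VolLib.hseq k (CohB1.tensorMod (CohB1.tensorMod L N) N') (Coh.structureModule X) 0) =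
      VolLib.vsup d (VolLib.hseq k L (Coh.structureModule X) 0) := by
    refine VolLib.vsup_congr_eq fun m => VolLib.finrank_congr_cl ?_
    show PicF.cl (CohB1.tensorMod _ (CohB1.tensorPow (CohB1.tensorMod (CohB1.tensorMod L N) N') m)) =
      PicF.cl (CohB1.tensorMod _ (CohB1.tensorPow L m))
    rw [cl_tensor, cl_tensor, cl_tensorPow, cl_tensorPow, cl_tensor, cl_tensor, mul_assoc (PicF.cl L), ← cl_tensor N,
      cl_eq_iff.2 ⟨e⟩]
    show _ * (PicF.cl L * PicF.cl (Coh.structureModule X)) ^ m = _
    rw [← H23.PicMul.one_def, mul_one]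
  rw [h3] at h2
  have heq := le_antisymm h1 h2
  rw [limsup_ennreal k d hLN hd, limsup_ennreal k d hL hd, heq]

end Groth.Agent.S17374
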