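import Groth.Statements.S17375
import Groth.Agent.VolLib.GenFinite
import Mathlib

set_option autoImplicit false
universe u
open CategoryTheory CategoryTheory.Limits AlgebraicGeometry Asymptotics
open Variety

namespace Groth.Agent.S17375

/-- Let X and Y be geometrically integral schemes proper over a field k, each admitting an ample
invertible module, with X of dimension d, and let f : Y → X be a k-morphism which is dominant and
generically finite of degree n ≥ 1: f maps the generic point of Y to the generic point of X and the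
induced extension of function fields has finite degree n. Then for every invertible module L on X
the difference dim_k H^0(Y, (f^*L)^m) − n · dim_k H^0(X, L^m) is O(m^(d−1)) as m → ∞ (so the volume
of f^*L is n times that of L). -/
theorem result (k : Type u) [Field k] (X Y : Scheme.{u})
    [X.Over (Spec (CommRingCat.of k))] [Y.Over (Spec (CommRingCat.of k))] [IsIntegral X] [IsIntegral Y]
    [GeometricallyIntegral (X ↘ Spec (CommRingCat.of k))] [GeometricallyIntegral (Y ↘ Spec (CommRingCat.of k))]
    [IsProper (X ↘ Spec (CommRingCat.of k))] [IsProper (Y ↘ Spec (CommRingCat.of k))]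
    (hXproj : ∃ A : X.Modules, CohB1.IsAmple A) (hYproj : ∃ B : Y.Modules, CohB1.IsAmple B)
    (d : ℕ) (hd : topologicalKrullDim X = d)
    (f : Y ⟶ X) (hf : f ≫ (X ↘ Spec (CommRingCat.of k)) = Y ↘ Spec (CommRingCat.of k))
    (hdom : f.base (genericPoint Y) = genericPoint X) (n : ℕ) (hn : f.residueDegree (genericPoint Y) = n) (hn0 : 0 < n)
    (L : X.Modules) (hL : PicF.IsInvertible L) :
    (fun m : ℕ => (Module.finrank k (Coh.HH Y (CohB1.tensorPow ((Scheme.Modules.pullback f).obj L) m) 0) : ℝ) -
        n * Module.finrank k (Coh.HH X (CohB1.tensorPow L m) 0)) =O[Filter.atTop]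
      (fun m : ℕ => (m : ℝ) ^ (d - 1)) := by
  haveI := CurveCohLib.isNoetherian_of_proper (k := k) (X := X)
  obtain ⟨A, hA⟩ := hXproj
  obtain ⟨e, ⟨C, hC⟩, he⟩ := VolLib.near_genFinite k hA hd f hf hdom hn hn0 hL 0
  refine Asymptotics.isBigO_iff.2 ⟨(C : ℝ) * 2 ^ d, ?_⟩
  filter_upwards [Filter.eventually_ge_atTop 1] with m hm
  have hY : VolLib.hseq k ((Scheme.Modules.pullback f).obj L) (Coh.structureModule Y) 0 m =
      Module.finrank k (Coh.HH Y (CohB1.tensorPow ((Scheme.Modules.pullback f).obj L) m) 0) :=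
    HilbPoly.finrank_HH_iso k (NakaiMo.pw_structure _ m).some 0
  have hX : VolLib.hseq k L (Coh.structureModule X) 0 m = Module.finrank k (Coh.HH X (CohB1.tensorPow L m) 0) :=
    HilbPoly.finrank_HH_iso k (NakaiMo.pw_structure _ m).some 0
  have hem : e m ≤ C * 2 ^ d * m ^ (d - 1) := by
    rcases d with _ | d
    · have h := hC m
      rw [pow_zero, Nat.mul_one] at h
      simpa using! le_trans (Nat.le_mul_of_pos_right _ (Nat.succ_pos m)) h
    · have h : e m ≤ C * (m + 1) ^ d :=
        Nat.le_of_mul_le_mul_right (by rw [mul_assoc, ← pow_succ]; exact hC m) (Nat.succ_pos m)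
      refine h.trans ?_
      rw [mul_assoc, Nat.add_sub_cancel]
      refine Nat.mul_le_mul_left _ ((Nat.pow_le_pow_left (show m + 1 ≤ 2 * m by omega) _).trans ?_)
      rw [mul_pow]
      exact Nat.mul_le_mul_right _ (Nat.pow_le_pow_right (by omega) (Nat.le_succ d))
  have hem' : (e m : ℝ) ≤ (C : ℝ) * 2 ^ d * (m : ℝ) ^ (d - 1) := by exact_mod_cast hem
  have h1 : (VolLib.hseq k ((Scheme.Modules.pullback f).obj L) (Coh.structureModule Y) 0 m : ℝ) ≤
      (n : ℝ) * VolLib.hseq k L (Coh.structureModule X) 0 m + e m := by exact_mod_cast (he m).1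
  have h2 : (n : ℝ) * VolLib.hseq k L (Coh.structureModule X) 0 m ≤
      (VolLib.hseq k ((Scheme.Modules.pullback f).obj L) (Coh.structureModule Y) 0 m : ℝ) + e m := by
    exact_mod_cast (he m).2
  rw [hY, hX] at h1 h2
  rw [Real.norm_eq_abs, Real.norm_eq_abs, abs_of_nonneg (by positivity : (0 : ℝ) ≤ (m : ℝ) ^ (d - 1))]
  exact abs_le.2 ⟨by linarith, by linarith⟩

end Groth.Agent.S17375
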