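import Groth.Statements.S1738
import Groth.Agent.H1Falt.Closure

set_option autoImplicit false
universe u
open CategoryTheory
attribute [local instance] HasDerivedCategory.standard
open LocCoh

namespace Groth.Agent.S1738

/-- Let A be a Noetherian ring with a dualizing complex, T' ⊆ Spec A stable under specialization, and M
a finite A-module such that depth(M_p) ≥ 1 whenever q covers p in Spec A with q in T' and p outside
T'. Then there are a finite A-module M'' and a map M → M'' which is bijective after localizing at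
every prime outside T' and such that M''_p has depth ≥ 2 for every p in T'. (The source: coherent
modules on a Noetherian scheme locally having a dualizing complex, with uniqueness and a pullback
clause.) -/
theorem result (A : Type u) [CommRing A] [IsNoetherianRing A] (hA : ∃ ω : Dual.D A, Dual.IsDualizing A ω) (T' : Set (PrimeSpectrum A)) (hT : StableUnderSpecialization T') (M : Type u) [AddCommGroup M] [Module A M] [Module.Finite A M] (hM : ∀ p q : PrimeSpectrum A, p ⋖ q → q ∈ T' → p ∉ T' → 1 ≤ LocCoh.depth (Localization.AtPrime p.asIdeal) (LocalizedModule p.asIdeal.primeCompl M)) : ∃ (M'' : Type u) (_ : AddCommGroup M'') (_ : Module A M'') (_ : Module.Finite A M'') (f : M →ₗ[A] M''), (∀ p : PrimeSpectrum A, p ∉ T' → Function.Bijective (LocalizedModule.map p.asIdeal.primeCompl f)) ∧ ∀ p : PrimeSpectrum A, p ∈ T' → 2 ≤ LocCoh.depth (Localization.AtPrime p.asIdeal) (LocalizedModule p.asIdeal.primeCompl M'') := by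
  letI := HasDerivedCategory.standard (ModuleCat.{u} A)
  obtain ⟨ω, hω⟩ := hA
  obtain ⟨n, -, hcov, hmono, -⟩ := Groth.Agent.KFlatLib.exists_extDegree hω
  have hd : Groth.Agent.H1Falt.DepthCond M T' T' 1 := by
    intro p q hp hq hpq
    rw [Groth.Agent.H1Falt.krullDim_Icc n hmono hcov hpq]
    have hlt : p < q := hpq.lt_of_ne fun h => hp (h ▸ hq)
    have hn := hmono hlt
    generalize hδ : LocCoh.depth (Localization.AtPrime p.asIdeal) (LocalizedModule p.asIdeal.primeCompl M) = δ
    rw [← WithBot.coe_add]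
    refine WithBot.coe_lt_coe.2 ?_
    by_cases h2 : 2 ≤ (n q - n p).toNat
    · exact lt_of_lt_of_le (by norm_num) ((Nat.cast_le.2 h2).trans le_add_self)
    · have hc : p ⋖ q := ⟨hlt, fun c h1 h2' => by
        have := hmono h1
        have := hmono h2'
        omega⟩
      have hδ1 : (1 : ℕ∞) ≤ δ := hδ ▸ hM p q hc hq hp
      rw [show (n q - n p).toNat = 1 by omega]
      calc ((1 : ℕ) : ℕ∞) < ((2 : ℕ) : ℕ∞) := by exact_mod_cast Nat.one_lt_two
        _ = 1 + ((1 : ℕ) : ℕ∞) := by norm_num
        _ ≤ δ + ((1 : ℕ) : ℕ∞) := add_le_add hδ1 le_rfl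
  obtain ⟨Q, i1, i2, i3, f, hker, hcoker, hdep⟩ := Groth.Agent.H1Falt.exists_extension hω hT M hd
  refine ⟨Q, i1, i2, i3, f, fun p hp => ⟨?_, ?_⟩, hdep⟩
  · rw [injective_iff_map_eq_zero]
    intro z hz
    induction z with
    | h m s =>
      rw [LocalizedModule.map_mk, ← LocalizedModule.zero_mk s, LocalizedModule.mk_eq] at hz
      obtain ⟨c, hc⟩ := hz
      simp only [Submonoid.smul_def, smul_zero, ← map_smul] at hc
      obtain ⟨J, hJ, hJm⟩ := hker _ hc
      obtain ⟨r, hr, hrp⟩ := SetLike.not_le_iff_exists.1 fun hle : J ≤ p.asIdeal => hp (hJ hle)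
      rw [← LocalizedModule.zero_mk s, LocalizedModule.mk_eq]
      refine ⟨⟨r * c.1, p.asIdeal.primeCompl.mul_mem hrp c.2⟩, ?_⟩
      simp only [Submonoid.smul_def, smul_zero]
      rw [mul_smul]
      exact hJm r hr
  · intro z
    induction z with
    | h x s =>
      obtain ⟨J, hJ, hJx⟩ := hcoker x
      obtain ⟨r, hr, hrp⟩ := SetLike.not_le_iff_exists.1 fun hle : J ≤ p.asIdeal => hp (hJ hle)
      obtain ⟨m, hm⟩ := hJx r hr
      refine ⟨LocalizedModule.mk m ((⟨r, hrp⟩ : p.asIdeal.primeCompl) * s), ?_⟩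
      rw [LocalizedModule.map_mk, hm, LocalizedModule.mk_eq]
      exact ⟨1, by simp only [one_smul, Submonoid.smul_def, Submonoid.coe_mul, smul_smul, mul_comm]⟩

end Groth.Agent.S1738
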