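import Groth.Statements.S17380
import Groth.Agent.S17373
import Groth.Agent.VolLib.UnifMain
import Mathlib

set_option autoImplicit false
set_option backward.isDefEq.respectTransparency false
set_option backward.isDefEq.respectTransparency.types false
set_option maxHeartbeats 1000000
universe u
open CategoryTheory CategoryTheory.Limits AlgebraicGeometry
open scoped ENNReal
open Variety

namespace Groth.Agent.S17380
open Groth.Agent.H23.PicMul

/-- Let X be a geometrically integral scheme of dimension d, proper over a field k and admitting an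
ample invertible module, and L an invertible module on X which is big, i.e. the lower limit of dim_k
H^0(X, L^m)/m^d as m → ∞ is positive. Then some power L^a, a > 0, is such that H^0(X, L^(aj) ⊗ N) ≠
0 for every j > 0 and every numerically trivial invertible module N (degree zero on every integral
closed one-dimensional subscheme); in other words every invertible module numerically equivalent to
L^(aj) comes from an effective divisor. (The published statement asserts this for all sufficiently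
large powers of L; its printed reduction to an ample module yields one power a and its multiples,
which is what is stated.) -/
theorem result (k : Type u) [Field k] (X : Scheme.{u})
    [X.Over (Spec (CommRingCat.of k))] [IsIntegral X] [GeometricallyIntegral (X ↘ Spec (CommRingCat.of k))]
    [IsProper (X ↘ Spec (CommRingCat.of k))] (hproj : ∃ A : X.Modules, CohB1.IsAmple A)
    (d : ℕ) (hd : topologicalKrullDim X = d) (L : X.Modules) (hL : PicF.IsInvertible L)
    (hbig : 0 < Filter.liminf (fun m : ℕ => (Module.finrank k (Coh.HH X (CohB1.tensorPow L m) 0) : ℝ≥0∞) /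
        (m : ℝ≥0∞) ^ d) Filter.atTop) :
    ∃ a : ℕ, 0 < a ∧ ∀ j : ℕ, 0 < j → ∀ N : X.Modules, PicF.IsInvertible N → Pic13.IsNumEquivZero k X N →
      0 < Module.finrank k (Coh.HH X (CohB1.tensorMod (CohB1.tensorPow L (a * j)) N) 0) := by
  haveI := CurveCohLib.isNoetherian_of_proper (k := k) (X := X)
  obtain ⟨A, hA⟩ := hproj
  obtain ⟨D, hD, ⟨eD⟩⟩ := H23.PicInv.exists_inverse hA.1
  obtain ⟨e⟩ : Nonempty (CohB1.tensorMod D A ≅ Coh.structureModule X) := cl_eq_iff.1 (by
    rw [cl_tensor, mul_comm, ← cl_tensor]; exact cl_eq_iff.2 ⟨eD⟩)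
  obtain ⟨m, hm, τ, hτ⟩ := VolLib.exists_kodaira (k := k) hA e hL hd (by
    intro C m₀
    obtain ⟨c, hc0, hc⟩ : ∃ c : ℝ, 0 < c ∧ ∀ᶠ j : ℕ in Filter.atTop,
        c * (j : ℝ) ^ d ≤ (Module.finrank k (Coh.HH X (CohB1.tensorPow L j) 0) : ℝ) := by
      obtain ⟨q, hq0, hq⟩ := ENNReal.lt_iff_exists_nnreal_btwn.1 hbig
      refine ⟨q, by exact_mod_cast hq0, ?_⟩
      filter_upwards [Filter.eventually_lt_of_lt_liminf hq, Filter.eventually_ge_atTop 1] with j hj hj1
      have hp0 : ((j : ℝ≥0∞)) ^ d ≠ 0 := pow_ne_zero _ (by exact_mod_cast (by omega : j ≠ 0))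
      have hpt : ((j : ℝ≥0∞)) ^ d ≠ ⊤ := ENNReal.pow_ne_top (ENNReal.natCast_ne_top j)
      have hj' := (ENNReal.lt_div_iff_mul_lt (Or.inl hp0) (Or.inl hpt)).1 hj
      have h2 : (q * (j : NNReal) ^ d : NNReal) ≤ (Module.finrank k (Coh.HH X (CohB1.tensorPow L j) 0) : NNReal) := by
        rw [← ENNReal.coe_le_coe]
        push_cast
        exact hj'.le
      exact_mod_cast h2
    obtain ⟨M, hM⟩ := Filter.eventually_atTop.1 hc
    obtain ⟨M', hM'⟩ := exists_nat_gt ((C : ℝ) / c)
    refine ⟨max (max m₀ M) (M' + 1), (le_max_left _ _).trans (le_max_left _ _), ?_⟩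
    have h1 := hM (max (max m₀ M) (M' + 1)) ((le_max_right _ _).trans (le_max_left _ _))
    generalize hj : max (max m₀ M) (M' + 1) = j at h1 ⊢
    have hj2 : (M' : ℝ) + 1 ≤ (j : ℝ) := by rw [← hj]; exact_mod_cast le_max_right _ _
    have hjpos : (0 : ℝ) < (j : ℝ) ^ d := pow_pos (lt_of_lt_of_le (by positivity) hj2) d
    have h3 : (C : ℝ) < c * (j : ℝ) := by
      rw [div_lt_iff₀ hc0] at hM'
      nlinarith
    have h4 : (C : ℝ) * (j : ℝ) ^ d < (Module.finrank k (Coh.HH X (CohB1.tensorPow L j) 0) : ℝ) * (j : ℝ) :=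
      calc (C : ℝ) * (j : ℝ) ^ d < c * (j : ℝ) * (j : ℝ) ^ d := mul_lt_mul_of_pos_right h3 hjpos
        _ = c * (j : ℝ) ^ d * (j : ℝ) := by ring
        _ ≤ _ := mul_le_mul_of_nonneg_right h1 (Nat.cast_nonneg j)
    exact_mod_cast h4)
  obtain ⟨m₁, hm₁⟩ := S17373.result k X A hA
  let t := max m₁ 1
  refine ⟨m * t, Nat.mul_pos hm (Nat.lt_of_lt_of_le Nat.one_pos (le_max_right _ _)), fun j hj N hN hnum => ?_⟩
  obtain ⟨hs, hp⟩ := hm₁ (t * j) ((le_max_left m₁ 1).trans (Nat.le_mul_of_pos_right _ hj)) N hN hnum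
  have hE : PicF.IsInvertible (CohB1.tensorMod D (CohB1.tensorPow L m)) :=
    InvX.isInvertible_tensorMod hD (InvX.isInvertible_tensorPow hL _)
  obtain ⟨σ, hσ⟩ := VolLib.exists_pow_ne_zero hE τ hτ (t * j)
  refine lt_of_lt_of_le (hs.symm ▸ hp) ((VolLib.finrank_le_tensor (k := k)
    (VolLib.isFinLocFree_inv (InvX.isInvertible_tensorMod (InvX.isInvertible_tensorPow hA.1 _) hN))
    (VolLib.isFinLocFree_inv (InvX.isInvertible_tensorPow hE _)) σ hσ).trans_eq (VolLib.finrank_congr_cl ?_))
  have h1 : PicF.cl A * PicF.cl D = 1 := by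
    rw [← cl_tensor, H23.PicMul.one_def]; exact cl_eq_iff.2 ⟨eD⟩
  simp only [cl_tensor, cl_tensorPow]
  rw [show PicF.cl A ^ (t * j) * PicF.cl N * (PicF.cl D * PicF.cl L ^ m) ^ (t * j) =
    (PicF.cl A * PicF.cl D) ^ (t * j) * ((PicF.cl L ^ m) ^ (t * j) * PicF.cl N) by rw [mul_pow, mul_pow]; ac_rfl,
    h1, one_pow, one_mul, ← pow_mul, mul_assoc]

end Groth.Agent.S17380
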