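import Groth.Statements.S17381
import Groth.Agent.ZRLim.Extend
-- import your own Groth.Agent.* helpers here

set_option autoImplicit false
universe u
open FlatMor

namespace Groth.Agent.S17381

open Groth.Agent

open AlgebraicGeometry CategoryTheory Limits in
/-- Let f : X' → X be a proper morphism with X quasi-compact and quasi-separated (so X' is too), and let
U ⊆ X be a quasi-compact dense open subscheme such that f restricts to an isomorphism over U and the
preimage of U is dense in X'. Then X' and X admit a common blow-up over f: there are a scheme X̃, a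
morphism c' : X̃ → X' which is a blowing up of X' in a quasi-coherent ideal of finite type with
support disjoint from the preimage of U, and a quasi-coherent ideal of finite type on X with support
disjoint from U in which the composite c' ≫ f is a blowing up of X. (A proper morphism is birational
in this sense exactly when source and target have a common admissible blow-up.) -/
theorem result
    {X X' : Scheme.{u}} [CompactSpace X] [QuasiSeparatedSpace X]
    (f : X' ⟶ X) [IsProper f] (U : X.Opens) (hU : IsCompact (U : Set X)) (hUd : Dense (U : Set X))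
    [IsIso (f ∣_ U)] (hU' : Dense ((f ⁻¹ᵁ U : X'.Opens) : Set X')) :
    ∃ (𝓘' : X'.IdealSheafData) (𝓘 : X.IdealSheafData) (Y : Scheme.{u}) (c' : Y ⟶ X'),
      BlowUp.IsBlowUp c' 𝓘' ∧ BlowUp.IsAdmissibleFor (f ⁻¹ᵁ U) 𝓘' ∧
      BlowUp.IsBlowUp (c' ≫ f) 𝓘 ∧ BlowUp.IsAdmissibleFor U 𝓘 := by
  haveI : Nonempty (ZRLim.Adm U) := ZRLim.Adm.nonempty hU
  let φ : X' ⟶ ((⊤ : X.Opens) : Scheme.{u}) := f ≫ X.topIso.inv
  let s : (U : Scheme.{u}) ⟶ X' := inv (f ∣_ U) ≫ (f ⁻¹ᵁ U).ι
  have hφ : φ ≫ (⊤ : X.Opens).ι = f := by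
    simp only [φ, Category.assoc, ← Scheme.topIso_hom, Iso.inv_hom_id, Category.comp_id]
  have hsf : s ≫ f = U.ι := by
    rw [Category.assoc, IsIso.inv_comp_eq, morphismRestrict_ι]
  have hs : s ≫ φ = X.homOfLE (le_top : U ≤ ⊤) := by
    rw [← cancel_mono (⊤ : X.Opens).ι, Category.assoc, hφ, Scheme.homOfLE_ι, hsf]
  obtain ⟨K, h, hE⟩ := ZRLim.exists_extension (f := φ) (s := s) (W := (⊤ : X.Opens)) isCompact_univ hs
  let c' : K.obj ⟶ X' := K.obj.topIso.inv ≫ h
  have hc' : c' ≫ f = K.π := by
    have := hE.comp_eq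
    rw [hφ] at this
    refine (Category.assoc _ _ _).trans ((congrArg (fun m => K.obj.topIso.inv ≫ m) this).trans ?_)
    exact K.obj.topIso.inv_hom_id_assoc K.π
  have hsupp : ∀ {T : Scheme.{u}} (g : T ⟶ X), ModPair.interior (K.1.comap g) = g ⁻¹ᵁ U := fun {T} g => by
    refine TopologicalSpace.Opens.ext (Set.ext fun w => ?_)
    show w ∉ ((K.1.comap g).support : Set T) ↔ g w ∈ (U : Set X)
    rw [Scheme.IdealSheafData.support_comap]
    show g w ∉ (K.1.support : Set X) ↔ _
    rw [K.2.2, Set.notMem_compl_iff]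
  refine ⟨K.1.comap f, K.1, K.obj, c', ⟨?_, fun T g hg => ?_⟩,
    ⟨MorLib.IdealFG.isFG_comap K.2.1 f, ?_⟩, by rw [hc']; exact K.isBlowUp, K.isAdmissible⟩
  · rw [← Scheme.IdealSheafData.comap_comp, hc']
    exact K.isBlowUp.1
  · rw [← Scheme.IdealSheafData.comap_comp] at hg
    obtain ⟨k, hk, hku⟩ := K.isBlowUp.2 T (g ≫ f) hg
    dsimp only at hk hku
    refine ⟨k, ?_, fun k' hk' => hku k' ?_⟩
    · haveI := ModPairLib.isSchemeTheoreticallyDominant_interior hg
      refine ZRLim.hom_ext_dense (ModPair.interior (K.1.comap (g ≫ f))).ι f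
        (by rw [Category.assoc, hc', hk]) ?_
      let w := (ModPair.interior (K.1.comap (g ≫ f))).ι
      have hw : ∀ p, f ((w ≫ g) p) ∈ U := fun p => by
        exact (hsupp (g ≫ f)).le p.2
      have hr : Set.range (w ≫ g ≫ f) ⊆ Set.range U.ι := by
        rintro _ ⟨p, rfl⟩
        rw [Scheme.Opens.range_ι]
        exact hw p
      let v := IsOpenImmersion.lift U.ι (w ≫ g ≫ f) hr
      have hv : v ≫ U.ι = w ≫ g ≫ f := IsOpenImmersion.lift_fac _ _ _
      have hrg : Set.range (w ≫ g) ⊆ Set.range (f ⁻¹ᵁ U).ι := by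
        rintro _ ⟨p, rfl⟩
        rw [Scheme.Opens.range_ι]
        exact hw p
      let v' := IsOpenImmersion.lift (f ⁻¹ᵁ U).ι (w ≫ g) hrg
      have hv' : v' ≫ (f ⁻¹ᵁ U).ι = w ≫ g := IsOpenImmersion.lift_fac _ _ _
      have e : v' ≫ (f ∣_ U) = v := by
        rw [← cancel_mono U.ι, Category.assoc, morphismRestrict_ι, reassoc_of% hv', hv]
      have e1 : w ≫ k ≫ c' = v ≫ s := by
        have := hE.agree (w ≫ k ≫ K.obj.topIso.inv) v (by
          rw [hv]
          refine (Category.assoc _ _ _).trans (congrArg (fun m => w ≫ m) ?_)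
          refine (Category.assoc _ _ _).trans ((congrArg (fun m => k ≫ m) ?_).trans hk)
          exact K.obj.topIso.inv_hom_id_assoc K.π)
        exact Eq.trans (by simp only [c']; exact rfl) this
      show w ≫ k ≫ c' = w ≫ g
      rw [e1, ← hv', ← e]
      simp only [s, Category.assoc, IsIso.hom_inv_id_assoc]
    · dsimp only at hk' ⊢
      rw [← hc', reassoc_of% hk']
  · rw [Scheme.IdealSheafData.support_comap]
    refine Set.disjoint_left.2 fun w hw hwU => ?_
    have : f w ∈ (K.1.support : Set X) := hw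
    rw [K.2.2] at this
    exact this hwU

end Groth.Agent.S17381
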