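import Groth.Statements.S17384
import Groth.Agent.NagataLib.Birat
import Groth.Agent.NagataLib.Glue
-- import your own Groth.Agent.* helpers here

set_option autoImplicit false
set_option linter.style.haveILetI false
set_option backward.isDefEq.respectTransparency false
set_option backward.isDefEq.respectTransparency.types false
universe u
open FlatMor

namespace Groth.Agent.S17384

open AlgebraicGeometry CategoryTheory Limits Groth.Agent.NagataLib in
/-- Gluing `V` to the closure of the graph. -/
theorem exists_glued {X A U : Scheme.{u}} (φ : A ⟶ X) [IsSeparated φ] [LocallyOfFiniteType φ]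
    [CompactSpace A] [QuasiSeparatedSpace X]
    (a : U ⟶ A) [IsOpenImmersion a] (V : X.Opens) (hV : IsCompact (V : Set X))
    (b : U ⟶ (V : Scheme.{u})) [IsOpenImmersion b] (w : a ≫ φ = b ≫ V.ι)
    (hr : ∀ x, φ x ∈ V → x ∈ Set.range a) :
    ∃ (P : Scheme.{u}) (g : P ⟶ X) (i : A ⟶ P), IsSeparated g ∧ QuasiCompact g ∧
      LocallyOfFiniteType g ∧ IsOpenImmersion i ∧ i ≫ g = φ ∧ IsIso (g ∣_ V) ∧
      (∀ z, g z ∈ V → g z ∈ Set.range (a ≫ φ) → z ∈ Set.range i) := by
  haveI : CompactSpace (V : Scheme.{u}) := isCompact_iff_compactSpace.mp hV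
  have hcl : IsClosed (Set.range (pullback.lift a b w)) := by
    suffices Set.range (pullback.lift a b w) = Set.univ by rw [this]; exact isClosed_univ
    refine Set.eq_univ_of_forall fun z => ?_
    have hz : φ (pullback.fst φ V.ι z) ∈ V := by
      rw [← Scheme.Hom.comp_apply, pullback.condition, Scheme.Hom.comp_apply]
      exact (pullback.snd φ V.ι z).2
    obtain ⟨u, hu⟩ := hr _ hz
    refine ⟨u, (pullback.fst φ V.ι).isOpenEmbedding.injective ?_⟩
    rw [← Scheme.Hom.comp_apply, pullback.lift_fst]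
    exact hu
  let g := glueDesc (a := a) (b := b) w
  haveI : IsSeparated g := isSeparated_glue w hcl
  haveI : LocallyOfFiniteType g := locallyOfFiniteType_glue w
  haveI : CompactSpace (glue a b) := compactSpace_glue
  haveI : QuasiCompact g := quasiCompact_of_compactSpace g
  have hinr : ∀ z, g z ∈ V → z ∈ Set.range (pushout.inr a b) := fun z hz => by
    rcases glue_cover a b z with ⟨x, rfl⟩ | h
    · rw [← Scheme.Hom.comp_apply, inl_glueDesc] at hz
      obtain ⟨u, rfl⟩ := hr x hz
      exact ⟨b u, by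
        rw [← Scheme.Hom.comp_apply, ← Scheme.Hom.comp_apply, pushout.condition]⟩
    · exact h
  refine ⟨_, g, pushout.inl a b, inferInstance, inferInstance, inferInstance, inferInstance,
    inl_glueDesc w, ?_, fun z hz hzU => ?_⟩
  · have e : pushout.inr a b ≫ g = V.ι := inr_glueDesc w
    haveI : IsOpenImmersion (pushout.inr a b ≫ g) := by rw [e]; infer_instance
    have h3 := isIso_restrict_opensRange (pushout.inr a b) g (by
      refine TopologicalSpace.Opens.ext (Set.ext fun z => ⟨fun hz => hinr z ?_, ?_⟩)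
      · have hz' : g z ∈ Set.range (pushout.inr a b ≫ g) := hz
        rwa [e, Scheme.Opens.range_ι] at hz'
      · rintro ⟨v, rfl⟩
        exact ⟨v, rfl⟩)
    have e' : (pushout.inr a b ≫ g).opensRange = V :=
      TopologicalSpace.Opens.ext (by
        show Set.range (pushout.inr a b ≫ g) = _; rw [e, Scheme.Opens.range_ι])
    rwa [e'] at h3
  · obtain ⟨v, rfl⟩ := hinr z hz
    rw [← Scheme.Hom.comp_apply, inr_glueDesc] at hzU
    obtain ⟨u, hu⟩ := hzU
    have : b u = v := V.ι.isOpenEmbedding.injective (by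
      rw [← Scheme.Hom.comp_apply, ← w, hu])
    exact ⟨a u, by rw [← this, ← Scheme.Hom.comp_apply, ← Scheme.Hom.comp_apply, pushout.condition]⟩

open AlgebraicGeometry CategoryTheory Limits in
/-- Let S be a quasi-compact quasi-separated scheme, X and Y quasi-compact quasi-separated S-schemes
with Y → S separated and locally of finite type, U ⊆ V ⊆ X dense quasi-compact open subschemes, and
f : U → Y an S-morphism which is a quasi-domination of V over Y: the image Γ of its graph morphism U
→ X ×_S Y satisfies closure(Γ) ∩ (part over V) ⊆ Γ, i.e. the graph is closed in V ×_S Y. Then there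
are a blowing up q : X̃ → X in a quasi-coherent ideal of finite type with support disjoint from V, a
dense open W ⊆ X̃ containing q⁻¹(U), and an S-morphism f̃ : W → Y which agrees with f on q⁻¹(U) and
whose graph morphism W → X̃ ×_S Y has closed image (a quasi-domination of X̃ over Y extending f). -/
theorem result
    {S X Y : Scheme.{u}} [CompactSpace S] [QuasiSeparatedSpace S]
    [CompactSpace X] [QuasiSeparatedSpace X] [CompactSpace Y] [QuasiSeparatedSpace Y]
    (pX : X ⟶ S) (pY : Y ⟶ S) [IsSeparated pY] [LocallyOfFiniteType pY]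
    (U V : X.Opens) (hUV : U ≤ V) (hU : IsCompact (U : Set X)) (hV : IsCompact (V : Set X))
    (hUd : Dense (U : Set X))
    (f : (U : Scheme.{u}) ⟶ Y) (hf : U.ι ≫ pX = f ≫ pY)
    (hcl : closure (Set.range (fun x => pullback.lift U.ι f hf x)) ∩
        ((pullback.fst pX pY) ⁻¹ᵁ V : Set ↥(pullback pX pY)) ⊆ Set.range (fun x => pullback.lift U.ι f hf x)) :
    ∃ (𝓘 : X.IdealSheafData) (Xt : Scheme.{u}) (q : Xt ⟶ X),
      BlowUp.IsBlowUp q 𝓘 ∧ BlowUp.IsAdmissibleFor V 𝓘 ∧
      ∃ (W : Xt.Opens) (hle : q ⁻¹ᵁ U ≤ W) (ft : (W : Scheme.{u}) ⟶ Y) (hft : W.ι ≫ q ≫ pX = ft ≫ pY),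
        Dense (W : Set Xt) ∧ Xt.homOfLE hle ≫ ft = (q ∣_ U) ≫ f ∧
        IsClosed (Set.range (fun x => pullback.lift W.ι ft hft x)) := by
  haveI : CompactSpace (U : Scheme.{u}) := isCompact_iff_compactSpace.mp hU
  haveI : QuasiCompact U.ι := quasiCompact_of_compactSpace U.ι
  haveI : QuasiCompact pY := quasiCompact_of_compactSpace pY
  let r : pullback pX pY ⟶ X := pullback.fst pX pY
  let t : (U : Scheme.{u}) ⟶ pullback pX pY := pullback.lift U.ι f hf
  have ht : t ≫ r = U.ι := pullback.lift_fst _ _ _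
  haveI : QuasiCompact t := by
    haveI : QuasiCompact (t ≫ r) := by rw [ht]; infer_instance
    exact QuasiCompact.of_comp t r
  obtain ⟨h1, h2⟩ := Groth.Agent.NagataLib.closure_graph r U.ι t ht
  haveI := h1
  rw [Scheme.Opens.opensRange_ι] at h2
  haveI := h2
  let φA : t.image ⟶ X := t.imageι ≫ r
  haveI : CompactSpace (pullback pX pY : Scheme.{u}) := QuasiCompact.compactSpace_of_compactSpace r
  haveI : CompactSpace t.image := QuasiCompact.compactSpace_of_compactSpace t.imageι
  have hr : ∀ x, φA x ∈ V → x ∈ Set.range t.toImage := fun x hx => by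
    have hc : t.imageι x ∈ closure (Set.range t) := by
      have h : t.imageι x ∈ Set.range t.imageι := ⟨x, rfl⟩
      rwa [show t.imageι = t.ker.subschemeι from rfl, Scheme.IdealSheafData.range_subschemeι,
        Scheme.Hom.support_ker] at h
    obtain ⟨u, hu⟩ := hcl ⟨hc, hx⟩
    refine ⟨u, t.imageι.isClosedEmbedding.injective ?_⟩
    rw [← Scheme.Hom.comp_apply, Scheme.Hom.toImage_imageι]
    exact hu
  obtain ⟨P, g, i, hgs, hgq, hgf, hi, hig, hgiso, hinl⟩ := exists_glued φA t.toImage V hV
    (X.homOfLE hUV) (by rw [Scheme.Hom.toImage_imageι_assoc, ht, Scheme.homOfLE_ι]) hr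
  haveI := hgs
  haveI := hgq
  haveI := hgf
  haveI := hi
  haveI := hgiso
  obtain ⟨K, hK, hrange⟩ := Groth.Agent.NagataLib.exists_adm_openImmersion g V hV
  haveI := hK
  let q := Groth.Agent.ZRLim.Bir.q g K
  let π' := (Groth.Agent.ZRLim.Bir.pull g K).π
  let O := π' ⁻¹ᵁ i.opensRange
  let oq := O.ι ≫ q
  let W : K.obj.Opens := oq.opensRange
  let a' : (W : Scheme.{u}) ⟶ t.image :=
    oq.isoOpensRange.inv ≫ (π' ∣_ i.opensRange) ≫ i.isoOpensRange.inv
  haveI : IsProper (π' ∣_ i.opensRange) := IsZariskiLocalAtTarget.restrict (P := @IsProper) inferInstance _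
  haveI : IsProper a' := inferInstance
  have ha : a' ≫ φA = W.ι ≫ K.π := by
    simp only [a', ← hig, Category.assoc, Scheme.Hom.isoOpensRange_inv_comp_assoc]
    rw [morphismRestrict_ι_assoc, ← Groth.Agent.ZRLim.Bir.q_π g K]
    simp only [W, ← Scheme.Hom.isoOpensRange_inv_comp oq, oq, q, Category.assoc]
    rfl
  let ft : (W : Scheme.{u}) ⟶ Y := a' ≫ t.imageι ≫ pullback.snd pX pY
  have hft : W.ι ≫ K.π ≫ pX = ft ≫ pY := by
    simp only [ft, Category.assoc, ← pullback.condition]
    rw [← Category.assoc W.ι, ← ha]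
    simp only [φA, r, Category.assoc]
  have hle : K.π ⁻¹ᵁ U ≤ W := fun w hw => by
    obtain ⟨y, hy⟩ := hrange w (hUV hw)
    have hg : g (π' y) = K.π w := by
      rw [← hy, ← Scheme.Hom.comp_apply, ← Scheme.Hom.comp_apply, Groth.Agent.ZRLim.Bir.q_π]
    have hyO : y ∈ O := hinl _ (hg ▸ hUV hw) (by
      rw [hg, Scheme.Hom.toImage_imageι_assoc, ht, Scheme.Opens.range_ι]; exact hw)
    exact ⟨⟨y, hyO⟩, hy⟩
  refine ⟨K.1, K.obj, K.π, K.isBlowUp, K.isAdmissible, W, hle, ft, hft, ?_, ?_, ?_⟩
  · exact (Groth.Agent.NagataLib.dense_preimage K.π V (Groth.Agent.NagataLib.dense_preimage_adm K)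
      U hUd).mono hle
  · let v := K.π ∣_ U
    let m := K.obj.homOfLE hle ≫ a'
    have hm : m ≫ φA = v ≫ U.ι := by
      simp only [m, Category.assoc, ha, Scheme.homOfLE_ι_assoc]
      exact (morphismRestrict_ι _ _).symm
    have hk : (v ≫ t.toImage) ≫ φA = v ≫ U.ι := by
      simp only [φA, Category.assoc, Scheme.Hom.toImage_imageι_assoc, ht]
    have e : m = v ≫ t.toImage :=
      (Groth.Agent.ZRLim.Bir.eq_comp_sec' φA m v hm).trans
        (Groth.Agent.ZRLim.Bir.eq_comp_sec' φA _ v hk).symm
    calc K.obj.homOfLE hle ≫ ft = m ≫ t.imageι ≫ pullback.snd pX pY := by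
          simp only [m, ft, Category.assoc]
      _ = v ≫ f := by
          rw [e, Category.assoc, Scheme.Hom.toImage_imageι_assoc, pullback.lift_snd]
  · let L := pullback.lift (f := K.π ≫ pX) (g := pY) W.ι ft hft
    let μ : pullback (K.π ≫ pX) pY ⟶ pullback pX pY :=
      pullback.map _ _ _ _ K.π (𝟙 Y) (𝟙 S) (by simp) (by simp)
    haveI : IsSeparated μ := by
      haveI : IsSeparated (μ ≫ pullback.fst pX pY) := by
        rw [pullback.lift_fst]; infer_instance
      exact IsSeparated.of_comp μ (pullback.fst pX pY)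
    have hL : L ≫ μ = a' ≫ t.imageι := by
      apply pullback.hom_ext
      · simp only [L, μ, φA, r, Category.assoc, pullback.lift_fst, pullback.lift_fst_assoc] at ha ⊢
        exact ha.symm
      · simp only [L, μ, ft, Category.assoc, pullback.lift_snd, pullback.lift_snd_assoc,
          Category.comp_id]
    haveI : IsProper L := by
      haveI : IsProper (L ≫ μ) := by rw [hL]; infer_instance
      exact IsProper.of_comp L μ
    exact L.isClosedMap.isClosed_range

end Groth.Agent.S17384
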