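import Groth.Statements.S17386
import Groth.Agent.BlowSep.Basic

set_option autoImplicit false
universe u
open BlowUp

namespace Groth.Agent.S17386

open AlgebraicGeometry CategoryTheory Limits in
/-- Let X be any scheme, J_1, …, J_n quasi-coherent ideals on X with closed subschemes Y_i, and b : X' →
X a blowing up of X in the ideal J_1 + ⋯ + J_n of the intersection of the Y_i. For each i let b_i' :
Y_i' → Y_i be a blowing up of Y_i in the inverse image of J_1 + ⋯ + J_n and k_i : Y_i' → X' the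
morphism with k_i ≫ b = b_i' ≫ (Y_i → X), so that the image of k_i is the strict transform of Y_i.
Then the strict transforms have empty common intersection: no point of X' lies in the image of every
k_i. -/
theorem result
    {X X' : Scheme.{u}} {n : ℕ} (𝓙 : Fin n → X.IdealSheafData) (b : X' ⟶ X)
    (hb : BlowUp.IsBlowUp b (⨆ i, 𝓙 i))
    (Y' : Fin n → Scheme.{u}) (b' : ∀ i, Y' i ⟶ (𝓙 i).subscheme)
    (hb' : ∀ i, BlowUp.IsBlowUp (b' i) ((⨆ j, 𝓙 j).comap (𝓙 i).subschemeι))
    (k : ∀ i, Y' i ⟶ X') (hk : ∀ i, k i ≫ b = b' i ≫ (𝓙 i).subschemeι) :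
    (⋂ i, Set.range (fun y => k i y)) = (∅ : Set X') := by
  rw [Set.eq_empty_iff_forall_notMem]
  intro z hz
  have hE : BlowUp.IsEffCartierIdeal (⨆ i, (𝓙 i).comap b) := by
    have e : (⨆ i, 𝓙 i).comap b = ⨆ i, (𝓙 i).comap b :=
      (Scheme.IdealSheafData.map_gc b).l_iSup
    exact e ▸ hb.1
  obtain ⟨i, W, hzW, hW⟩ := BlowSep.exists_eq_of_iSup_isEffCartier _ hE z
  obtain ⟨y, hy⟩ := Set.mem_iInter.1 hz i
  have e : (⨆ j, 𝓙 j).comap b = ⨆ j, (𝓙 j).comap b := (Scheme.IdealSheafData.map_gc b).l_iSup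
  refine BlowSep.ne_of_comap_eq_bot (k i) ?_ ?_ W (y := y) (show k i y ∈ W.1 by rw [show k i y = z from hy]; exact hzW) hW
  · rw [← e, ← Scheme.IdealSheafData.comap_comp, hk i, Scheme.IdealSheafData.comap_comp]
    exact (hb' i).1
  · rw [← Scheme.IdealSheafData.comap_comp, hk i, Scheme.IdealSheafData.comap_comp,
      BlowSep.comap_subschemeι_self, Scheme.IdealSheafData.comap_bot]

end Groth.Agent.S17386
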