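import Groth.Statements.S17389
import Groth.Agent.NagataLib.Pair
-- import your own Groth.Agent.* helpers here

set_option autoImplicit false
set_option linter.style.haveILetI false
set_option backward.isDefEq.respectTransparency false
set_option backward.isDefEq.respectTransparency.types false
universe u
open FlatMor

namespace Groth.Agent.S17389

open AlgebraicGeometry CategoryTheory Limits in
/-- The graph of a proper morphism on one side is closed. -/
theorem isProper_graph {S A P Y Z : Scheme.{u}} (gY : Y ⟶ S) (gZ : Z ⟶ S) [IsSeparated gY]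
    [IsSeparated gZ] (c : P ⟶ Y) [IsSeparated c] (q : P ⟶ S) (hq : q = c ≫ gY) (o : A ⟶ P)
    (e : A ⟶ Z) (w : o ≫ q = e ≫ gZ) (t : A ⟶ pullback gY gZ) [IsProper t]
    (h₁ : t ≫ pullback.fst gY gZ = o ≫ c) (h₂ : t ≫ pullback.snd gY gZ = e) :
    IsProper (pullback.lift o e w) := by
  let μ : pullback q gZ ⟶ pullback gY gZ :=
    pullback.map _ _ _ _ c (𝟙 Z) (𝟙 S) (by simp [hq]) (by simp)
  haveI : IsSeparated μ := by
    haveI : IsSeparated q := by rw [hq]; infer_instance
    haveI : IsSeparated (μ ≫ pullback.fst gY gZ) := by rw [pullback.lift_fst]; infer_instance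
    exact IsSeparated.of_comp μ (pullback.fst gY gZ)
  have he : pullback.lift o e w ≫ μ = t := by
    apply pullback.hom_ext
    · simp only [μ, Category.assoc, pullback.lift_fst, pullback.lift_fst_assoc, h₁]
    · simp only [μ, Category.assoc, pullback.lift_snd, Category.comp_id, h₂]
  haveI : IsProper (pullback.lift o e w ≫ μ) := by rw [he]; infer_instance
  exact IsProper.of_comp (pullback.lift o e w) μ

open AlgebraicGeometry CategoryTheory Limits in
/-- Let S be a quasi-compact quasi-separated scheme, U, X₁, X₂ separated S-schemes of finite type (so U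
is quasi-compact), and j₁ : U → X₁, j₂ : U → X₂ open immersions over S with dense image (necessarily
quasi-compact). Then there are a separated S-scheme X of finite type and a schematically dense open
immersion j : U → X over S such that X properly quasi-dominates each X_i in a manner extending j_i:
for i = 1, 2 there are an open W_i ⊆ X containing the image of j, a proper S-morphism p_i : W_i →
X_i whose composite with the factorisation U → W_i of j is j_i, and the graph morphism W_i → X ×_S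
X_i of p_i has closed image. -/
theorem result
    {S U X₁ X₂ : Scheme.{u}} [CompactSpace S] [QuasiSeparatedSpace S]
    (g₁ : X₁ ⟶ S) (g₂ : X₂ ⟶ S)
    [IsSeparated g₁] [QuasiCompact g₁] [LocallyOfFiniteType g₁]
    [IsSeparated g₂] [QuasiCompact g₂] [LocallyOfFiniteType g₂]
    (j₁ : U ⟶ X₁) (j₂ : U ⟶ X₂) [IsOpenImmersion j₁] [IsOpenImmersion j₂] [IsDominant j₁] [IsDominant j₂]
    [CompactSpace U]
    (h : j₁ ≫ g₁ = j₂ ≫ g₂) :
    ∃ (X : Scheme.{u}) (q : X ⟶ S) (_ : IsSeparated q) (_ : QuasiCompact q) (_ : LocallyOfFiniteType q)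
      (j : U ⟶ X) (_ : IsOpenImmersion j) (_ : IsSchemeTheoreticallyDominant j) (_ : j ≫ q = j₁ ≫ g₁),
      (∃ (W : X.Opens) (l : U ⟶ (W : Scheme.{u})) (p : (W : Scheme.{u}) ⟶ X₁) (hp : W.ι ≫ q = p ≫ g₁),
        l ≫ W.ι = j ∧ l ≫ p = j₁ ∧ IsProper p ∧
        IsClosed (Set.range (fun x => pullback.lift W.ι p hp x))) ∧
      (∃ (W : X.Opens) (l : U ⟶ (W : Scheme.{u})) (p : (W : Scheme.{u}) ⟶ X₂) (hp : W.ι ≫ q = p ≫ g₂),
        l ≫ W.ι = j ∧ l ≫ p = j₂ ∧ IsProper p ∧
        IsClosed (Set.range (fun x => pullback.lift W.ι p hp x))) := by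
  haveI : CompactSpace X₁ := QuasiCompact.compactSpace_of_compactSpace g₁
  haveI : CompactSpace X₂ := QuasiCompact.compactSpace_of_compactSpace g₂
  haveI : QuasiSeparatedSpace X₁ := quasiSeparatedSpace_of_quasiSeparated g₁
  haveI : QuasiSeparatedSpace X₂ := quasiSeparatedSpace_of_quasiSeparated g₂
  haveI : QuasiCompact j₁ := quasiCompact_of_compactSpace j₁
  haveI : QuasiCompact (j₁ ≫ g₁) := inferInstance
  obtain ⟨P₁, P₂, A, A', b, ι, o₁, o₂, u, hb, hι, ho₁, ho₂, w₁, w₂, hu₁, hu₂⟩ :=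
    Groth.Agent.NagataLib.exists_pair (j₁ ≫ g₁) g₁ g₂ j₁ j₂ rfl h.symm
  haveI := hb
  haveI := hι
  haveI := ho₁
  haveI := ho₂
  obtain ⟨hv₁, hd₁⟩ := Groth.Agent.NagataLib.lift_adm j₁ P₁ _ hu₁
  obtain ⟨hv₂, hd₂⟩ := Groth.Agent.NagataLib.lift_adm j₂ P₂ _ hu₂
  haveI := hv₁
  haveI := hv₂
  haveI := hd₁
  haveI := hd₂
  have w : o₁ ≫ (P₁.π ≫ g₁) = o₂ ≫ (P₂.π ≫ g₂) := by
    rw [reassoc_of% w₁, reassoc_of% w₂]
    simp only [pullback.condition]
  haveI : IsProper (pullback.lift (f := P₁.π ≫ g₁) (g := P₂.π ≫ g₂) o₁ o₂ w) := by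
    let μ : pullback (P₁.π ≫ g₁) (P₂.π ≫ g₂) ⟶ pullback g₁ g₂ :=
      pullback.map _ _ _ _ P₁.π P₂.π (𝟙 S) (by simp) (by simp)
    haveI : IsSeparated μ := by
      haveI : IsSeparated (μ ≫ pullback.fst g₁ g₂) := by rw [pullback.lift_fst]; infer_instance
      exact IsSeparated.of_comp μ (pullback.fst g₁ g₂)
    have hL : pullback.lift (f := P₁.π ≫ g₁) (g := P₂.π ≫ g₂) o₁ o₂ w ≫ μ = b ≫ ι := by
      apply pullback.hom_ext
      · simp only [μ, Category.assoc, pullback.lift_fst, pullback.lift_fst_assoc, w₁]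
      · simp only [μ, Category.assoc, pullback.lift_snd, pullback.lift_snd_assoc, w₂]
    haveI : IsProper (pullback.lift (f := P₁.π ≫ g₁) (g := P₂.π ≫ g₂) o₁ o₂ w ≫ μ) := by
      rw [hL]; infer_instance
    exact IsProper.of_comp _ μ
  let q := Groth.Agent.NagataLib.glueDesc (a := o₁) (b := o₂) w
  haveI : IsSeparated q := Groth.Agent.NagataLib.isSeparated_glue w
    (Scheme.Hom.isClosedMap _).isClosed_range
  haveI : LocallyOfFiniteType q := Groth.Agent.NagataLib.locallyOfFiniteType_glue w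
  haveI : CompactSpace (Groth.Agent.NagataLib.glue o₁ o₂) :=
    Groth.Agent.NagataLib.compactSpace_glue
  haveI : QuasiCompact q := quasiCompact_of_compactSpace q
  let i := pushout.inl o₁ o₂
  let k := pushout.inr o₁ o₂
  have hcov := Groth.Agent.NagataLib.glue_cover o₁ o₂
  let j := (u ≫ o₁) ≫ i
  have hj₂ : (u ≫ o₂) ≫ k = j := by simp only [j, i, k, Category.assoc, pushout.condition]
  haveI : IsOpenImmersion j := inferInstance
  haveI : CompactSpace P₁.obj := inferInstance
  haveI : QuasiCompact (u ≫ o₁) := quasiCompact_of_compactSpace _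
  haveI : QuasiCompact (u ≫ o₂) := quasiCompact_of_compactSpace _
  haveI : QuasiSeparatedSpace (Groth.Agent.NagataLib.glue o₁ o₂) :=
    quasiSeparatedSpace_of_quasiSeparated q
  haveI : QuasiCompact j := quasiCompact_of_compactSpace _
  have hdom : IsSchemeTheoreticallyDominant j :=
    Groth.Agent.NagataLib.dominant_of_cover i k hcov j (u ≫ o₁) (u ≫ o₂) rfl hj₂
  have hiq : i ≫ q = P₁.π ≫ g₁ := Groth.Agent.NagataLib.inl_glueDesc w
  have hkq : k ≫ q = P₂.π ≫ g₂ := Groth.Agent.NagataLib.inr_glueDesc w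
  refine ⟨_, q, inferInstance, inferInstance, inferInstance, j, inferInstance, hdom,
    by simp only [j, Category.assoc, hiq]; rw [reassoc_of% hu₁], ?_, ?_⟩
  · refine ⟨i.opensRange, (u ≫ o₁) ≫ i.isoOpensRange.hom, i.isoOpensRange.inv ≫ P₁.π, ?_, ?_, ?_,
      inferInstance, ?_⟩
    · rw [Category.assoc, ← hiq, Scheme.Hom.isoOpensRange_inv_comp_assoc]
    · rw [Category.assoc, Scheme.Hom.isoOpensRange_hom_ι]
    · rw [Category.assoc, Iso.hom_inv_id_assoc, hu₁]
    · let e := b ≫ ι ≫ pullback.fst g₁ g₂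
      have wd : o₂ ≫ (k ≫ q) = e ≫ g₁ := by
        simp only [e, hkq, Category.assoc, pullback.condition]
        rw [reassoc_of% w₂]
      haveI := isProper_graph g₂ g₁ P₂.π (k ≫ q) hkq o₂ e wd
        (b ≫ ι ≫ (pullbackSymmetry g₁ g₂).hom) (by simp [w₂]) (by simp [e])
      exact Groth.Agent.NagataLib.isClosed_graph_glued q g₁ i k hcov o₁ o₂ pushout.condition
        (fun x y hxy => Groth.Agent.NagataLib.glue_inter o₁ o₂ hxy) _ _ (pullback.lift o₂ e wd)
        (Scheme.Hom.isClosedMap _).isClosed_range (pullback.lift_fst _ _ _)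
        (by rw [pullback.lift_snd, Iso.hom_inv_id_assoc, w₁])
  · refine ⟨k.opensRange, (u ≫ o₂) ≫ k.isoOpensRange.hom, k.isoOpensRange.inv ≫ P₂.π, ?_, ?_, ?_,
      inferInstance, ?_⟩
    · rw [Category.assoc, ← hkq, Scheme.Hom.isoOpensRange_inv_comp_assoc]
    · rw [Category.assoc, Scheme.Hom.isoOpensRange_hom_ι, hj₂]
    · rw [Category.assoc, Iso.hom_inv_id_assoc, hu₂]
    · let e := b ≫ ι ≫ pullback.snd g₁ g₂
      have wd : o₁ ≫ (i ≫ q) = e ≫ g₂ := by
        simp only [e, hiq, Category.assoc, ← pullback.condition]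
        rw [reassoc_of% w₁]
      haveI := isProper_graph g₁ g₂ P₁.π (i ≫ q) hiq o₁ e wd
        (b ≫ ι) (by simp [w₁]) (by simp [e])
      exact Groth.Agent.NagataLib.isClosed_graph_glued q g₂ k i (fun z => (hcov z).symm) o₂ o₁
        pushout.condition.symm
        (fun x y hxy => by
          obtain ⟨v, h1, h2⟩ := Groth.Agent.NagataLib.glue_inter o₁ o₂ hxy.symm
          exact ⟨v, h2, h1⟩) _ _ (pullback.lift o₁ e wd)
        (Scheme.Hom.isClosedMap _).isClosed_range (pullback.lift_fst _ _ _)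
        (by rw [pullback.lift_snd, Iso.hom_inv_id_assoc, w₂])

end Groth.Agent.S17389
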