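import Groth.Statements.S1739
import Groth.Agent.H1TorUnif.Annih

set_option autoImplicit false
universe u
open CategoryTheory
attribute [local instance] HasDerivedCategory.standard
open LocCoh

namespace Groth.Agent.S1739

/-- Let A be a Noetherian ring and I an ideal generated by at most t elements. There is an integer c ≥ 0
such that for every A-module M, every i > t and every q ≥ 0, the module Tor_i^A(M, A/I^q) is
annihilated by I^c. -/
theorem result (A : Type u) [CommRing A] [IsNoetherianRing A] (I : Ideal A) (t : ℕ) (s : Finset A) (hs : I = Ideal.span (s : Set A)) (ht : s.card ≤ t) : ∃ c : ℕ, ∀ (M : Type u) [AddCommGroup M] [Module A M] (i q : ℕ), t < i → ∀ a ∈ I ^ c, ∀ x : DRing.Tor A i M (A ⧸ I ^ q), a • x = 0 := by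
  classical
  let e := s.equivFin
  let a : Fin t → A := fun i => if hi : (i : ℕ) < s.card then (e.symm ⟨i, hi⟩ : A) else 0
  let P := MvPolynomial (Fin t) A
  letI : Algebra P A := (MvPolynomial.aeval a : P →ₐ[A] A).toRingHom.toAlgebra
  have hsurj : Function.Surjective (algebraMap P A) := fun r => ⟨MvPolynomial.C r, MvPolynomial.aeval_C a r⟩
  haveI : Module.Finite P A := Module.Finite.of_surjective (Algebra.linearMap P A) hsurj
  have hI : (MvPolynomial.idealOfVars (Fin t) A).map (algebraMap P A) = I := by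
    rw [MvPolynomial.idealOfVars, Ideal.map_span, hs]
    refine le_antisymm (Ideal.span_le.2 ?_) (Ideal.span_le.2 ?_)
    · rintro x ⟨y, ⟨i, rfl⟩, rfl⟩
      show MvPolynomial.aeval a (MvPolynomial.X i) ∈ _
      rw [MvPolynomial.aeval_X]
      by_cases hi : (i : ℕ) < s.card
      · simp only [a, dif_pos hi]
        exact Ideal.subset_span (e.symm ⟨i, hi⟩).2
      · simp only [a, dif_neg hi]
        exact zero_mem _
    · intro x hx
      have hlt : (e ⟨x, hx⟩ : ℕ) < s.card := (e ⟨x, hx⟩).2
      refine Ideal.subset_span ⟨MvPolynomial.X ⟨e ⟨x, hx⟩, lt_of_lt_of_le hlt ht⟩, ⟨_, rfl⟩, ?_⟩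
      show MvPolynomial.aeval a (MvPolynomial.X _) = x
      rw [MvPolynomial.aeval_X]
      simp only [a, dif_pos hlt, Fin.eta, Equiv.symm_apply_apply]
  obtain ⟨c, hc⟩ := H1TorUnif.exists_hmap_factor_zero (A := A) (MvPolynomial.idealOfVars (Fin t) A) t
    (fun n => H1TorUnif.pdLE_quotient_pow A t n) I hI
  refine ⟨c, fun M _ _ i q hi b hb => ?_⟩
  exact H1TorUnif.smul_tor_eq_zero I t c hc q b hb i hi (ModuleCat.of A M)

end Groth.Agent.S1739
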