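import Groth.Statements.S17390
import Groth.Agent.NagataLib.Basic
import Groth.Agent.BlowUpX.Basic
import Groth.Agent.ModPairLib.Basic
-- import your own Groth.Agent.* helpers here

set_option autoImplicit false
set_option linter.style.haveILetI false
set_option backward.isDefEq.respectTransparency false
set_option backward.isDefEq.respectTransparency.types false
universe u
open FlatMor

namespace Groth.Agent.S17390

open AlgebraicGeometry CategoryTheory Limits in
/-- A closed immersion through which a schematically dense morphism factors is an isomorphism. -/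
theorem isIso_of_factor {A B C : Scheme.{u}} (i : A ⟶ B) [IsClosedImmersion i] (t : C ⟶ A)
    [IsSchemeTheoreticallyDominant (t ≫ i)] : IsIso i :=
  IsClosedImmersion.isIso_iff_ker_eq_bot.mpr
    (le_bot_iff.1 ((Scheme.Hom.le_ker_comp t i).trans (t ≫ i).ker_eq_bot.le))

open AlgebraicGeometry CategoryTheory Limits in
/-- Let S be a quasi-compact quasi-separated scheme, X and Y separated S-schemes of finite type, U a
quasi-compact scheme with an open immersion jX : U → X with dense image (so U is separated of finite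
type over S), V ⊆ Y a quasi-compact open subscheme with an open immersion jV : U → V which is
schematically dense and such that U has dense image in Y, and φ : V → X an S-morphism with jV ≫ φ =
jX which is a quasi-domination of Y over X (its graph morphism V → Y ×_S X has closed image). Let I
be a quasi-coherent ideal of finite type on X with support disjoint from the image of U and b : X̃ →
X a blowing up of X in I; let W ⊆ X̃ be an open subscheme, u : U → W the lift of jX (u ≫ W.ι ≫ b =
jX), assumed schematically dense as a morphism to X̃, and ψ : W → V an S-morphism with u ≫ ψ = jV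
which is a quasi-domination of X̃ over V (its graph morphism W → X̃ ×_S V has closed image). Then ψ
is a blowing up of V in the inverse image ideal I·O_V, hence proper, and the graph morphism W → X̃
×_S Y of ψ followed by V ⊆ Y has closed image. -/
theorem result
    {S U X Y Xt : Scheme.{u}} [CompactSpace S] [QuasiSeparatedSpace S]
    (gX : X ⟶ S) (gY : Y ⟶ S)
    [IsSeparated gX] [QuasiCompact gX] [LocallyOfFiniteType gX]
    [IsSeparated gY] [QuasiCompact gY] [LocallyOfFiniteType gY]
    (jX : U ⟶ X) [IsOpenImmersion jX] [IsDominant jX] [CompactSpace U]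
    (V : Y.Opens) (hVc : IsCompact (V : Set Y))
    (jV : U ⟶ (V : Scheme.{u})) [IsOpenImmersion jV] [IsSchemeTheoreticallyDominant jV]
    [IsDominant (jV ≫ V.ι)]
    (φ : (V : Scheme.{u}) ⟶ X) (hφU : jV ≫ φ = jX) (hφ : V.ι ≫ gY = φ ≫ gX)
    (hφcl : IsClosed (Set.range (fun x => pullback.lift V.ι φ hφ x)))
    (𝓘 : X.IdealSheafData) (h𝓘 : BlowUp.IsAdmissibleFor jX.opensRange 𝓘)
    (b : Xt ⟶ X) (hb : BlowUp.IsBlowUp b 𝓘)
    (W : Xt.Opens) (u : U ⟶ (W : Scheme.{u})) (hu : u ≫ W.ι ≫ b = jX)
    [IsSchemeTheoreticallyDominant (u ≫ W.ι)]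
    (ψ : (W : Scheme.{u}) ⟶ (V : Scheme.{u})) (hψU : u ≫ ψ = jV)
    (hψ : W.ι ≫ b ≫ gX = ψ ≫ V.ι ≫ gY)
    (hψcl : IsClosed (Set.range (fun x => pullback.lift W.ι ψ hψ x))) :
    BlowUp.IsBlowUp ψ (𝓘.comap φ) ∧
      IsClosed (Set.range (fun x => pullback.lift (f := b ≫ gX) (g := gY) W.ι (ψ ≫ V.ι)
        (hψ.trans (Category.assoc ψ V.ι gY).symm) x)) := by
  haveI : CompactSpace Y := QuasiCompact.compactSpace_of_compactSpace gY
  haveI : QuasiSeparatedSpace Y := quasiSeparatedSpace_of_quasiSeparated gY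
  haveI : CompactSpace X := QuasiCompact.compactSpace_of_compactSpace gX
  haveI : QuasiSeparatedSpace X := quasiSeparatedSpace_of_quasiSeparated gX
  haveI : IsProper b := Groth.Agent.BlowUpLib.isProper_of_isBlowUp _ hb h𝓘.1
  haveI : QuasiSeparatedSpace Xt := quasiSeparatedSpace_of_quasiSeparated b
  haveI : QuasiSeparatedSpace (W : Scheme.{u}) :=
    QuasiSeparatedSpace.of_isOpenEmbedding W.ι.isOpenEmbedding
  haveI : QuasiSeparatedSpace (V : Scheme.{u}) :=
    QuasiSeparatedSpace.of_isOpenEmbedding V.ι.isOpenEmbedding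
  haveI : QuasiCompact (u ≫ W.ι) := quasiCompact_of_compactSpace _
  haveI : IsSchemeTheoreticallyDominant u :=
    IsSchemeTheoreticallyDominant.of_isPullback (f := u ≫ W.ι) (g := W.ι) (pX := 𝟙 U)
      ⟨⟨Category.id_comp _⟩, ⟨PullbackCone.isLimitAux' _ fun c => ⟨c.fst, Category.comp_id _, by
        show c.fst ≫ u = c.snd
        rw [← cancel_mono W.ι, Category.assoc]; exact c.condition, fun h _ => by
        change _ ≫ 𝟙 U = _ at h
        simpa using h⟩⟩⟩
  have eWφ : W.ι ≫ b = ψ ≫ φ := by
    refine Groth.Agent.ZRLim.hom_ext_dense u gX ?_ ?_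
    · rw [Category.assoc, Category.assoc, ← hφ, hψ]
    · rw [hu, reassoc_of% hψU, hφU]
  -- the closed immersion of `W` in the fibre product
  let m : (W : Scheme.{u}) ⟶ pullback b φ := pullback.lift W.ι ψ eWφ
  let a : pullback b φ ⟶ pullback (b ≫ gX) (V.ι ≫ gY) :=
    pullback.lift (pullback.fst b φ) (pullback.snd b φ) (by
      rw [hφ, ← Category.assoc, pullback.condition, Category.assoc])
  haveI : Mono a := ⟨fun g h e => by
    apply pullback.hom_ext
    · simpa [a, pullback.lift_fst] using congrArg (· ≫ pullback.fst (b ≫ gX) (V.ι ≫ gY)) e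
    · simpa [a, pullback.lift_snd] using congrArg (· ≫ pullback.snd (b ≫ gX) (V.ι ≫ gY)) e⟩
  haveI : IsImmersion m := by
    haveI : IsImmersion (m ≫ pullback.fst b φ) := by rw [pullback.lift_fst]; infer_instance
    exact IsImmersion.of_comp m (pullback.fst b φ)
  haveI : IsImmersion a := by
    haveI : IsImmersion (a ≫ pullback.map (b ≫ gX) (V.ι ≫ gY) (b ≫ gX) (φ ≫ gX) (𝟙 _) (𝟙 _) (𝟙 _)
        (by simp) (by simp [hφ])) := by
      have e : a ≫ pullback.map (b ≫ gX) (V.ι ≫ gY) (b ≫ gX) (φ ≫ gX) (𝟙 _) (𝟙 _) (𝟙 _)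
          (by simp) (by simp [hφ]) = pullback.mapDesc b φ gX := by
        apply pullback.hom_ext <;> simp [a, pullback.lift_fst, pullback.lift_snd, pullback.mapDesc]
      rw [e]
      infer_instance
    exact IsImmersion.of_comp a (pullback.map (b ≫ gX) (V.ι ≫ gY) (b ≫ gX) (φ ≫ gX) (𝟙 _) (𝟙 _) (𝟙 _)
      _ _)
  have ema : m ≫ a = pullback.lift W.ι ψ hψ := by
    apply pullback.hom_ext <;> simp [m, a, pullback.lift_fst, pullback.lift_snd]
  have hmcl : IsClosed (Set.range m) := by
    have e : Set.range m = a ⁻¹' Set.range (m ≫ a) := by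
      rw [Scheme.Hom.comp_base, TopCat.coe_comp, Set.range_comp,
        Set.preimage_image_eq _ a.isEmbedding.injective]
    rw [e, ema]
    exact hψcl.preimage a.continuous
  haveI : IsClosedImmersion m := IsClosedImmersion.of_isPreimmersion m hmcl
  -- the part away from the centre
  let X₀ : X.Opens := 𝓘.support.compl
  haveI := Groth.Agent.BlowUpX.isIso_restrict hb
  let V₀ : (V : Scheme.{u}).Opens := φ ⁻¹ᵁ X₀
  let s₀ : (V₀ : Scheme.{u}) ⟶ pullback b φ :=
    pullback.lift ((φ ∣_ X₀) ≫ inv (b ∣_ X₀) ≫ (b ⁻¹ᵁ X₀).ι) V₀.ι (by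
      simp only [Category.assoc, ← morphismRestrict_ι, IsIso.inv_hom_id_assoc]
      exact morphismRestrict_ι φ X₀)
  have huniq : ∀ {T : Scheme.{u}} (h : T ⟶ pullback b φ) (v : T ⟶ (V₀ : Scheme.{u})),
      h ≫ pullback.snd b φ = v ≫ V₀.ι → h = v ≫ s₀ := by
    intro T h v e
    apply pullback.hom_ext
    · let h' : T ⟶ ((b ⁻¹ᵁ X₀ : Xt.Opens) : Scheme.{u}) :=
        IsOpenImmersion.lift (b ⁻¹ᵁ X₀).ι (h ≫ pullback.fst b φ) (by
          rintro _ ⟨x, rfl⟩
          rw [Scheme.Opens.range_ι]
          show b ((h ≫ pullback.fst b φ) x) ∈ X₀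
          rw [← Scheme.Hom.comp_apply, Category.assoc, pullback.condition, reassoc_of% e]
          exact (v x).2)
      have hh' : h' ≫ (b ⁻¹ᵁ X₀).ι = h ≫ pullback.fst b φ := IsOpenImmersion.lift_fac _ _ _
      have e2 : h' ≫ (b ∣_ X₀) = v ≫ (φ ∣_ X₀) := by
        rw [← cancel_mono X₀.ι]
        simp only [Category.assoc, morphismRestrict_ι]
        rw [reassoc_of% hh', pullback.condition, reassoc_of% e]
      rw [← hh', Category.assoc, pullback.lift_fst, ← reassoc_of% e2, IsIso.hom_inv_id_assoc]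
    · rw [Category.assoc, pullback.lift_snd, e]
  let u₀ : U ⟶ (V₀ : Scheme.{u}) := IsOpenImmersion.lift V₀.ι jV (by
    rintro _ ⟨x, rfl⟩
    rw [Scheme.Opens.range_ι]
    show φ (jV x) ∉ (𝓘.support : Set X)
    rw [← Scheme.Hom.comp_apply, hφU]
    exact fun h => Set.disjoint_left.1 h𝓘.2 h ⟨x, rfl⟩)
  have hu₀ : u₀ ≫ V₀.ι = jV := IsOpenImmersion.lift_fac _ _ _
  haveI : QuasiSeparatedSpace (V₀ : Scheme.{u}) :=
    QuasiSeparatedSpace.of_isOpenEmbedding V₀.ι.isOpenEmbedding
  haveI : QuasiCompact jV := quasiCompact_of_compactSpace _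
  haveI : IsSchemeTheoreticallyDominant u₀ :=
    IsSchemeTheoreticallyDominant.of_isPullback (f := jV) (g := V₀.ι) (pX := 𝟙 U)
      ⟨⟨(Category.id_comp _).trans hu₀.symm⟩,
        ⟨PullbackCone.isLimitAux' _ fun c => ⟨c.fst, Category.comp_id _, by
          show c.fst ≫ u₀ = c.snd
          rw [← cancel_mono V₀.ι, Category.assoc, hu₀]; exact c.condition, fun h _ => by
          change _ ≫ 𝟙 U = _ at h
          simpa using h⟩⟩⟩
  have ws : (u : U ⟶ _) ≫ m = u₀ ≫ s₀ :=
    huniq _ _ (by rw [Category.assoc, pullback.lift_snd, hψU, hu₀])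
  haveI : IsIso (pullback.snd m s₀) := by
    haveI : IsSchemeTheoreticallyDominant (pullback.lift u u₀ ws ≫ pullback.snd m s₀) := by
      rw [pullback.lift_snd]; infer_instance
    exact isIso_of_factor _ (pullback.lift u u₀ ws)
  have hblow : BlowUp.IsBlowUp ψ (𝓘.comap φ) := by
    refine ⟨?_, fun Z g hg => ?_⟩
    · rw [← Scheme.IdealSheafData.comap_comp, ← eWφ, Scheme.IdealSheafData.comap_comp]
      exact Groth.Agent.BlowUpLib.isEffCartier_comap_flat W.ι hb.1
    · have hg' : BlowUp.IsEffCartierIdeal (𝓘.comap (g ≫ φ)) := by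
        rw [Scheme.IdealSheafData.comap_comp]; exact hg
      obtain ⟨k, hk, -⟩ := hb.2 Z (g ≫ φ) hg'
      let h := pullback.lift k g hk
      let Z₀ := ModPair.interior ((𝓘.comap φ).comap g)
      haveI := ModPairLib.isSchemeTheoreticallyDominant_interior hg
      let v : (Z₀ : Scheme.{u}) ⟶ (V₀ : Scheme.{u}) := IsOpenImmersion.lift V₀.ι (Z₀.ι ≫ g) (by
        rintro _ ⟨z, rfl⟩
        rw [Scheme.Opens.range_ι]
        intro hz
        exact z.2 (by
          rw [Scheme.IdealSheafData.support_comap, Scheme.IdealSheafData.support_comap]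
          exact hz))
      have hv : v ≫ V₀.ι = Z₀.ι ≫ g := IsOpenImmersion.lift_fac _ _ _
      have e₀ : Z₀.ι ≫ h = v ≫ s₀ :=
        huniq _ _ (by rw [Category.assoc, pullback.lift_snd, hv])
      haveI : IsIso (pullback.fst h m) := by
        let l := v ≫ inv (pullback.snd m s₀) ≫ pullback.fst m s₀
        have el : Z₀.ι ≫ h = l ≫ m := by
          simp only [l, Category.assoc, pullback.condition, IsIso.inv_hom_id_assoc, e₀]
        haveI : IsSchemeTheoreticallyDominant (pullback.lift Z₀.ι l el ≫ pullback.fst h m) := by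
          rw [pullback.lift_fst]; infer_instance
        exact isIso_of_factor _ (pullback.lift Z₀.ι l el)
      let t := inv (pullback.fst h m) ≫ pullback.snd h m
      have ht : t ≫ m = h := by
        simp only [t, Category.assoc, ← pullback.condition, IsIso.inv_hom_id_assoc]
      have et : t ≫ ψ = g := by
        have := congrArg (· ≫ pullback.snd b φ) ht
        simpa [m, h, pullback.lift_snd] using this
      refine ⟨t, et, fun t' ht' => ?_⟩
      · change t' ≫ ψ = g at ht'
        rw [← cancel_mono W.ι]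
        refine Groth.Agent.BlowUpLib.isBlowUp_hom_ext hb ?_ ?_
        · simp only [Category.assoc, eWφ, reassoc_of% ht', reassoc_of% et]
        · have := congrArg (· ≫ pullback.fst b φ ≫ b) ht
          simp only [Category.assoc, m, h, pullback.lift_fst_assoc] at this
          rw [Category.assoc, this, hk]
          exact hg'
  refine ⟨hblow, ?_⟩
  let L := pullback.lift (f := b ≫ gX) (g := gY) W.ι (ψ ≫ V.ι)
    (hψ.trans (Category.assoc ψ V.ι gY).symm)
  let σ : pullback (b ≫ gX) gY ⟶ pullback gY gX :=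
    pullback.lift (pullback.snd _ _) (pullback.fst _ _ ≫ b) (by rw [Category.assoc, pullback.condition])
  let μ : pullback (b ≫ gX) (V.ι ≫ gY) ⟶ pullback (b ≫ gX) gY :=
    pullback.map _ _ _ _ (𝟙 _) V.ι (𝟙 _) (by simp) (by simp)
  haveI : IsOpenImmersion μ := inferInstance
  have eL : pullback.lift (f := b ≫ gX) (g := V.ι ≫ gY) W.ι ψ hψ ≫ μ = L := by
    apply pullback.hom_ext <;> simp [μ, L, pullback.lift_fst, pullback.lift_snd]
  show IsClosed (Set.range L)
  refine isClosed_of_closure_subset fun ζ hζ => ?_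
  have h1 : σ ζ ∈ Set.range (pullback.lift V.ι φ hφ) := by
    refine closure_minimal ?_ (hφcl.preimage σ.continuous) hζ
    rintro _ ⟨w, rfl⟩
    refine ⟨ψ w, ?_⟩
    have e : ψ ≫ pullback.lift V.ι φ hφ = L ≫ σ := by
      apply pullback.hom_ext <;> simp [L, σ, eWφ, pullback.lift_fst, pullback.lift_snd]
    exact congrArg (fun f : (W : Scheme.{u}) ⟶ pullback gY gX => f w) e
  obtain ⟨y, hy⟩ := h1
  have hsnd : pullback.snd (b ≫ gX) gY ζ = V.ι y := by
    have := congrArg (pullback.fst gY gX) hy
    rw [← Scheme.Hom.comp_apply, ← Scheme.Hom.comp_apply, pullback.lift_fst, pullback.lift_fst] at this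
    exact this.symm
  obtain ⟨z, rfl⟩ : ζ ∈ Set.range μ := by
    rw [Scheme.Pullback.range_map]
    exact ⟨⟨pullback.fst (b ≫ gX) gY ζ, by simp⟩, y, hsnd.symm⟩
  have hz : z ∈ closure (Set.range (pullback.lift (f := b ≫ gX) (g := V.ι ≫ gY) W.ι ψ hψ)) := by
    rw [μ.isOpenEmbedding.isInducing.closure_eq_preimage_closure_image, Set.mem_preimage,
      ← Set.range_comp]
    have : Set.range (μ ∘ pullback.lift (f := b ≫ gX) (g := V.ι ≫ gY) W.ι ψ hψ) = Set.range L := by
      rw [← eL]; rfl
    rwa [this]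
  obtain ⟨w, hw⟩ := hψcl.closure_subset hz
  exact ⟨w, by rw [← eL, Scheme.Hom.comp_apply]; exact congrArg μ hw⟩

end Groth.Agent.S17390
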