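import Groth.Statements.S17391
import Groth.Agent.BlowSep.Basic

set_option autoImplicit false
universe u
open BlowUp

namespace Groth.Agent.S17391

open AlgebraicGeometry CategoryTheory Limits in
/-- Let X and Z be schemes, p : Z → X a morphism, U ⊆ V ⊆ X open subschemes, and f : Y → Z a
quasi-compact immersion whose composite with p lands in U. Let I₁ be a quasi-coherent ideal on X
whose support contains V ∖ U and is disjoint from U, and I₂ a quasi-coherent ideal whose support
lies in supp(I₁) ∖ V. Assume that the closed subscheme p⁻¹(V(I₁²)) ∩ Ȳ of Z, where Ȳ is the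
scheme-theoretic image of f, is contained in p⁻¹(V(I₂)) as a closed subscheme: the inverse image
ideal of I₂ on Z lies in the sum of the inverse image ideal of I₁² and the kernel ideal of f. Then
for every blowing up q : X' → X of X in I₁ + I₂, writing Z' = Z ×_X X' → X' and Y' = Y ×_Z Z' → Z'
for the base changes, the closure in Z' of the image of Y' is disjoint from the preimage in Z' of
the closure in X' of q⁻¹(V ∖ U). (The blowing up is an isomorphism over V, since the support of I₁ +
I₂ is that of I₂ and lies in X ∖ V; the point is that the closure of q⁻¹(V ∖ U) in X', which may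
reach over X ∖ V, still misses the closure of Y'.) -/
theorem result
    {X Y Z X' : Scheme.{u}} (p : Z ⟶ X) (U V : X.Opens) (hUV : U ≤ V)
    (f : Y ⟶ Z) [IsImmersion f] [QuasiCompact f] (hY : Set.range (fun y => p (f y)) ⊆ (U : Set X))
    (𝓘₁ 𝓘₂ : X.IdealSheafData)
    (h₁ : (V : Set X) \ (U : Set X) ⊆ (𝓘₁.support : Set X)) (h₁' : Disjoint (𝓘₁.support : Set X) (U : Set X))
    (h₂ : (𝓘₂.support : Set X) ⊆ (𝓘₁.support : Set X) \ (V : Set X))
    (hincl : 𝓘₂.comap p ≤ (𝓘₁ * 𝓘₁).comap p ⊔ f.ker)
    (q : X' ⟶ X) (hq : BlowUp.IsBlowUp q (𝓘₁ ⊔ 𝓘₂)) :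
    Disjoint (closure (Set.range (fun y => (pullback.snd f (pullback.fst p q)) y)))
      ((fun z => (pullback.snd p q) z) ⁻¹'
        closure ((fun x' => q x') ⁻¹' ((V : Set X) \ (U : Set X)))) := by
  let Y' := pullback f (pullback.fst p q)
  let f' : Y' ⟶ pullback p q := pullback.snd f (pullback.fst p q)
  refine Set.disjoint_right.2 fun z hzF => ?_
  have hsupp : ((𝓘₁ ⊔ 𝓘₂).support : Set X) ⊆ (𝓘₂.support : Set X) :=
    Scheme.IdealSheafData.support_antitone le_sup_right
  refine BlowSep.notMem_closure (pullback.snd p q) (𝓘₁.comap q) ((𝓘₁ ⊔ 𝓘₂).comap q) hq.1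
    (Scheme.IdealSheafData.comap_mono q le_sup_left) (f.ker.comap (pullback.fst p q)) _ _
    ?_ ?_ ?_ ?_ ⊤ ?_ trivial hzF
  · intro a ha
    rw [Scheme.IdealSheafData.support_comap]
    exact h₁ ha
  · refine Set.disjoint_left.2 fun a ha hE => ?_
    rw [Scheme.IdealSheafData.support_comap] at hE
    exact (h₂ (hsupp hE)).2 ha.1
  · rintro _ ⟨y, rfl⟩ hE
    rw [Scheme.IdealSheafData.support_comap] at hE
    have e : q (pullback.snd p q (f' y)) = p (f (pullback.fst f (pullback.fst p q) y)) := by
      simp only [f', ← Scheme.Hom.comp_apply, Category.assoc, ← pullback.condition,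
        ← pullback.condition_assoc]
    refine Set.disjoint_left.1 h₁' (h₂ (hsupp hE)).1 ?_
    rw [e]
    exact hY ⟨_, rfl⟩
  · rintro _ ⟨y, rfl⟩
    rw [Scheme.IdealSheafData.support_comap]
    refine f.range_subset_ker_support ⟨pullback.fst f (pullback.fst p q) y, ?_⟩
    rw [← Scheme.Hom.comp_apply, ← Scheme.Hom.comp_apply, pullback.condition]
  · refine Scheme.IdealSheafData.comap_mono _ ?_
    rw [← Scheme.IdealSheafData.comap_comp, ← Scheme.IdealSheafData.comap_comp, ← pullback.condition,
      Scheme.IdealSheafData.comap_comp, Scheme.IdealSheafData.comap_comp,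
      ← Scheme.IdealSheafData.comap_sup, Scheme.IdealSheafData.comap_sup]
    refine Scheme.IdealSheafData.comap_mono _ (sup_le le_sup_left (hincl.trans (sup_le_sup_right ?_ _)))
    rw [ModPairLib.ideal_comap_mul]
    intro U
    exact Ideal.mul_le_right

end Groth.Agent.S17391
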