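import Groth.Statements.S17392
import Groth.Agent.BlowSep.Basic

set_option autoImplicit false
universe u
open BlowUp

namespace Groth.Agent.S17392

open AlgebraicGeometry CategoryTheory Limits in
/-- Let X₁ and X₂ be quasi-compact quasi-separated schemes, q : X₂ → X₁ a quasi-compact separated
morphism, V₁ ⊆ X₁ a quasi-compact open subscheme and U ⊆ q⁻¹(V₁) an open subscheme of X₂ on which q
restricts to an open immersion (so U is identified with an open of V₁). Let Z₁ ⊆ X₁ be a closed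
subset whose open complement is quasi-compact, put Y₁ = Z₁ ∩ V₁, and let Z₂ ⊆ X₂ be a closed subset
whose open complement is also quasi-compact, with q⁻¹(Y₁) ⊆ Z₂. Then there is a quasi-coherent ideal
E of finite type on X₁ with support contained in Z₁ ∖ V₁ (so that blowing up E is V₁-admissible)
such that, for every blowing up c : X₁' → X₁ of X₁ in E with base change q' : X₂' = X₂ ×_{X₁} X₁' →
X₁' and c₂ : X₂' → X₂, one has q'⁻¹(closure of c⁻¹(Y₁)) ∩ closure(c₂⁻¹(U)) ⊆ c₂⁻¹(Z₂) as subsets of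
X₂'. -/
theorem result
    {X₁ X₂ : Scheme.{u}} [CompactSpace X₁] [QuasiSeparatedSpace X₁] [CompactSpace X₂] [QuasiSeparatedSpace X₂]
    (q : X₂ ⟶ X₁) [QuasiCompact q] [IsSeparated q]
    (V₁ : X₁.Opens) (hV₁ : IsCompact (V₁ : Set X₁))
    (U : X₂.Opens) (hU : U ≤ q ⁻¹ᵁ V₁) [IsOpenImmersion (U.ι ≫ q)]
    (Z₁ : Set X₁) (hZ₁ : IsClosed Z₁) (hZ₁c : IsCompact Z₁ᶜ)
    (Z₂ : Set X₂) (hZ₂ : IsClosed Z₂) (hZ₂c : IsCompact Z₂ᶜ)
    (hYZ : (fun x => q x) ⁻¹' (Z₁ ∩ (V₁ : Set X₁)) ⊆ Z₂) :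
    ∃ 𝓔 : X₁.IdealSheafData, BlowUp.IsFiniteTypeIdeal 𝓔 ∧ (𝓔.support : Set X₁) ⊆ Z₁ \ (V₁ : Set X₁) ∧
      ∀ (X₁' : Scheme.{u}) (c : X₁' ⟶ X₁), BlowUp.IsBlowUp c 𝓔 →
        (fun z => (pullback.snd q c) z) ⁻¹' closure ((fun x => c x) ⁻¹' (Z₁ ∩ (V₁ : Set X₁))) ∩
            closure ((fun z => (pullback.fst q c) z) ⁻¹' (U : Set X₂)) ⊆
          (fun z => (pullback.fst q c) z) ⁻¹' Z₂ := by
  obtain ⟨I₁, hI₁, hS₁⟩ := BlowSep.exists_ft_support_eq Z₁ hZ₁ hZ₁c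
  let W₀ : X₂.Opens := ⟨Z₂ᶜ, hZ₂.isOpen_compl⟩
  haveI : CompactSpace ↥(W₀ : Scheme.{u}) := isCompact_iff_compactSpace.1 hZ₂c
  haveI : QuasiCompact W₀.ι := quasiCompact_of_compactSpace W₀.ι
  let g := W₀.ι ≫ q
  haveI : QuasiCompact g := inferInstanceAs (QuasiCompact (W₀.ι ≫ q))
  let 𝔞 := (I₁.comap g).map g
  let Ω : X₁.Opens := ⟨Z₁ᶜ, hZ₁.isOpen_compl⟩ ⊔ V₁
  have hΩ : IsCompact (Ω : Set X₁) := hZ₁c.union hV₁
  have hΩ' : Disjoint (𝔞.support : Set X₁) (Ω : Set X₁) := by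
    rw [Scheme.IdealSheafData.support_map, TopologicalSpace.Closeds.coe_closure]
    refine (Disjoint.closure_left ?_ Ω.2)
    refine Set.disjoint_left.2 ?_
    rintro _ ⟨a, ha, rfl⟩ hb
    rw [Scheme.IdealSheafData.support_comap] at ha
    have ha' : g a ∈ Z₁ := hS₁ ▸ ha
    rcases hb with hb | hb
    · exact hb ha'
    · exact (show W₀.ι a ∈ Z₂ᶜ from a.2) (hYZ ⟨ha', hb⟩)
  obtain ⟨I₂, hI₂le, hI₂⟩ := BlowSep.exists_ft_le 𝔞 Ω hΩ hΩ'
  refine ⟨I₁ ⊔ I₂, BlowSep.isFiniteTypeIdeal_sup hI₁ hI₂.1, fun x hx => ?_, fun X₁' c hc z hz => ?_⟩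
  · rw [Scheme.IdealSheafData.support_sup] at hx
    exact ⟨hS₁ ▸ hx.1, fun hV => Set.disjoint_left.1 hI₂.2 hx.2 (Or.inr hV)⟩
  by_contra hne
  have hdisj : ∀ x ∈ ((I₁ ⊔ I₂).support : Set X₁), x ∈ Z₁ ∧ x ∉ (V₁ : Set X₁) := fun x hx => by
    rw [Scheme.IdealSheafData.support_sup] at hx
    exact ⟨hS₁ ▸ hx.1, fun hV => Set.disjoint_left.1 hI₂.2 hx.2 (Or.inr hV)⟩
  let O : (pullback q c).Opens := pullback.fst q c ⁻¹ᵁ W₀
  refine BlowSep.notMem_closure (pullback.snd q c) (I₁.comap c) ((I₁ ⊔ I₂).comap c) hc.1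
    (Scheme.IdealSheafData.comap_mono c le_sup_left) ⊥ _ _ ?_ ?_ ?_ ?_ O ?_ hne hz.1 hz.2
  · intro a ha
    rw [Scheme.IdealSheafData.support_comap]
    show c a ∈ (I₁.support : Set X₁)
    rw [hS₁]
    exact ha.1
  · refine Set.disjoint_left.2 fun a ha hE => ?_
    rw [Scheme.IdealSheafData.support_comap] at hE
    exact (hdisj _ hE).2 ha.2
  · intro a ha hE
    rw [Scheme.IdealSheafData.support_comap] at hE
    have e : c (pullback.snd q c a) = q (pullback.fst q c a) := by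
      simp only [← Scheme.Hom.comp_apply, pullback.condition]
    refine (hdisj _ hE).2 ?_
    rw [e]
    exact hU ha
  · rw [Scheme.IdealSheafData.support_bot]
    exact fun _ _ => trivial
  · rw [sup_bot_eq, ← Scheme.IdealSheafData.comap_comp, ← Scheme.IdealSheafData.comap_comp,
      ← Scheme.IdealSheafData.comap_comp, ← Scheme.IdealSheafData.comap_comp, Category.assoc,
      ← pullback.condition]
    have e : (pullback.fst q c ⁻¹ᵁ W₀).ι ≫ pullback.fst q c ≫ q =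
        (pullback.fst q c ∣_ W₀) ≫ g := by
      simp only [g, morphismRestrict_ι_assoc]
    rw [e, Scheme.IdealSheafData.comap_comp (I₁ ⊔ I₂), Scheme.IdealSheafData.comap_comp I₁]
    refine Scheme.IdealSheafData.comap_mono (pullback.fst q c ∣_ W₀) ?_
    rw [Scheme.IdealSheafData.comap_sup]
    exact sup_le le_rfl (Scheme.IdealSheafData.le_map_iff_comap_le.1 hI₂le)

end Groth.Agent.S17392
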