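import Groth.Statements.S17394
import Groth.Agent.BlowSep.Multi
import Groth.Agent.BlowSep.Wide
import Groth.Agent.BlowUpLib.Glue
import Groth.Agent.BlowUpX.Basic
import Groth.Agent.S7846
import Groth.Agent.FComplLib.IdealComap

set_option autoImplicit false
universe u
open FlatMor

namespace Groth.Agent.S17394

open AlgebraicGeometry CategoryTheory Limits in
/-- Let S be a quasi-compact quasi-separated scheme, X → S separated of finite type, and for i = 1, …, m
let X̄_i → S be proper, o_i : X_i → X̄_i a quasi-compact open immersion and q_i : X_i → X a proper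
S-morphism; let U be a scheme with quasi-compact open immersions jU : U → X and v_i : U → X_i such
that v_i ≫ q_i = jU, with U dense in X, in each X_i and in each X̄_i (via v_i ≫ o_i). Let Y_i ⊆ X_i
be closed subschemes of finite presentation. Let Ū ⊆ X̄_1 ×_S ⋯ ×_S X̄_m be the closure of the image
of U (the scheme-theoretic closure, the morphism being quasi-compact) with projections π_i : Ū →
X̄_i, and assume ⋂_i π_i⁻¹(Y_i) = ∅. Then there are blowing ups c_i : X̄_i' → X̄_i in quasi-coherent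
ideals of finite type with support disjoint from X_i (X_i-admissible), with the lifts v_i' : U →
X̄_i' of v_i ≫ o_i, such that, writing Ū' for the closure of the image of U in X̄_1' ×_S ⋯ ×_S X̄_m'
with projections π_i' and Ȳ_i' for the closure in X̄_i' of c_i⁻¹(Y_i), one has ⋂_i (π_i')⁻¹(Ȳ_i') =
∅. -/
theorem result
    {S X U : Scheme.{u}} [CompactSpace S] [QuasiSeparatedSpace S] {m : ℕ}
    (gX : X ⟶ S) [IsSeparated gX] [QuasiCompact gX] [LocallyOfFiniteType gX]
    (Xi Xb : Fin m → Scheme.{u}) (gb : ∀ i, Xb i ⟶ S) [∀ i, IsProper (gb i)]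
    (o : ∀ i, Xi i ⟶ Xb i) [∀ i, IsOpenImmersion (o i)] [∀ i, QuasiCompact (o i)]
    (q : ∀ i, Xi i ⟶ X) [∀ i, IsProper (q i)] (hq : ∀ i, q i ≫ gX = o i ≫ gb i)
    (jU : U ⟶ X) [IsOpenImmersion jU] [QuasiCompact jU] [IsDominant jU]
    (v : ∀ i, U ⟶ Xi i) [∀ i, IsOpenImmersion (v i)] [∀ i, QuasiCompact (v i)] [∀ i, IsDominant (v i)]
    [∀ i, IsDominant (v i ≫ o i)]
    (hv : ∀ i, v i ≫ q i = jU) (w : ∀ i, (v i ≫ o i) ≫ gb i = jU ≫ gX)
    (Y : ∀ i, (Xi i).IdealSheafData) (hY : ∀ i, BlowUp.IsFiniteTypeIdeal (Y i))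
    (hempty : ∀ z ∈ closure (Set.range (fun x => (WidePullback.lift (jU ≫ gX) (fun i => v i ≫ o i) w) x)),
      ∃ i, (WidePullback.π gb i) z ∉ (fun x => o i x) '' ((Y i).support : Set (Xi i))) :
    ∃ (𝓔 : ∀ i, (Xb i).IdealSheafData) (Xb' : Fin m → Scheme.{u}) (c : ∀ i, Xb' i ⟶ Xb i)
      (v' : ∀ i, U ⟶ Xb' i) (w' : ∀ i, v' i ≫ c i ≫ gb i = jU ≫ gX),
      (∀ i, BlowUp.IsBlowUp (c i) (𝓔 i) ∧ BlowUp.IsAdmissibleFor (o i).opensRange (𝓔 i) ∧
        v' i ≫ c i = v i ≫ o i) ∧
      ∀ z ∈ closure (Set.range (fun x => (WidePullback.lift (jU ≫ gX) (fun i => v' i) w') x)),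
        ∃ i, (WidePullback.π (fun i => c i ≫ gb i) i) z ∉
          closure ((fun y => c i y) ⁻¹' ((fun x => o i x) '' ((Y i).support : Set (Xi i)))) := by
  classical
  haveI : ∀ i, CompactSpace (Xb i) := fun i => QuasiCompact.compactSpace_of_compactSpace (gb i)
  haveI : ∀ i, QuasiSeparatedSpace (Xb i) := fun i => quasiSeparatedSpace_of_quasiSeparated (gb i)
  haveI : ∀ i, CompactSpace (Xi i) := fun i => QuasiCompact.compactSpace_of_compactSpace (o i)
  let P := widePullback S Xb gb
  haveI : CompactSpace ↥P := BlowSep.compactSpace_widePullback Xb gb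
  let l : U ⟶ P := WidePullback.lift (jU ≫ gX) (fun i => v i ≫ o i) w
  let C : TopologicalSpace.Closeds P := ⟨closure (Set.range l), isClosed_closure⟩
  let 𝔎 := Scheme.IdealSheafData.vanishingIdeal C
  have hK : (𝔎.support : Set P) = closure (Set.range l) :=
    Scheme.IdealSheafData.coe_support_vanishingIdeal _
  -- the centres
  have hZ : ∀ i, ∃ I : (Xb i).IdealSheafData, BlowUp.IsFiniteTypeIdeal I ∧
      (I.support : Set (Xb i)) = ((o i) '' ((Y i).support : Set (Xi i))ᶜ)ᶜ := fun i =>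
    BlowSep.exists_ft_support_eq _
      ((o i).isOpenEmbedding.isOpenMap _ (Y i).support.isClosed.isOpen_compl).isClosed_compl
      (by rw [compl_compl]; exact (BlowSep.isCompact_compl_support _ (hY i)).image (o i).continuous)
  choose I hI hIs using hZ
  have hB : ∀ i, ∃ D : (Xb i).IdealSheafData, BlowUp.IsFiniteTypeIdeal D ∧
      (D.support : Set (Xb i)) = (Set.range (o i))ᶜ := fun i =>
    BlowSep.exists_ft_support_eq _ (o i).isOpenEmbedding.isOpen_range.isClosed_compl
      (by rw [compl_compl]; exact isCompact_range (o i).continuous)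
  choose D hD hDs using hB
  have hYI : ∀ i, (o i) '' ((Y i).support : Set (Xi i)) ⊆ ((I i).support : Set (Xb i)) := by
    rintro i _ ⟨a, ha, rfl⟩
    rw [hIs i]
    rintro ⟨a', ha', he⟩
    exact ha' ((o i).isOpenEmbedding.injective he ▸ ha)
  have hIY : ∀ i a, a ∈ ((I i).support : Set (Xb i)) → a ∈ Set.range (o i) →
      a ∈ (o i) '' ((Y i).support : Set (Xi i)) := by
    rintro i _ ha ⟨a, rfl⟩
    refine ⟨a, ?_, rfl⟩
    by_contra hne
    rw [hIs i] at ha
    exact ha ⟨a, hne, rfl⟩
  let Δ : P.IdealSheafData := (⨆ j, (I j).comap (WidePullback.π gb j)) ⊔ 𝔎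
  have hΔ : ∀ i, (Δ.support : Set P) ⊆ (((D i).comap (WidePullback.π gb i)).support : Set P) := by
    intro i x hx
    rw [Scheme.IdealSheafData.support_sup, Scheme.IdealSheafData.support_iSup] at hx
    obtain ⟨hx1, hx2⟩ := hx
    rw [hK] at hx2
    rw [Scheme.IdealSheafData.support_comap]
    show WidePullback.π gb i x ∈ ((D i).support : Set (Xb i))
    rw [hDs i]
    intro hxi
    obtain ⟨j, hj⟩ := hempty x hx2
    refine hj (hIY j _ ?_ (BlowSep.range_sync gX gb o q hq jU v hv w hx2 i j hxi))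
    have := Set.mem_iInter.1 (show x ∈ ⋂ j, (((I j).comap (WidePullback.π gb j)).support : Set P) by
      simpa using hx1) j
    rw [Scheme.IdealSheafData.support_comap] at this
    exact this
  have hM : ∀ i, ∃ n : ℕ, 1 ≤ n ∧ ((D i).comap (WidePullback.π gb i)) ^ n ≤ Δ := fun i =>
    S7846.result P _ Δ (MorLib.IdealFG.isFG_comap (hD i) _) (hΔ i)
  choose M hM1 hM using hM
  let E : ∀ i, (Xb i).IdealSheafData := fun i => I i ⊔ D i ^ M i
  have hEs : ∀ i, ((E i).support : Set (Xb i)) ⊆ (Set.range (o i))ᶜ := fun i => by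
    intro a ha
    have h := Scheme.IdealSheafData.support_antitone (le_sup_right : D i ^ M i ≤ E i) ha
    rwa [Scheme.IdealSheafData.support_pow _ (M i) (Nat.one_le_iff_ne_zero.1 (hM1 i)), ← SetLike.mem_coe,
      hDs i] at h
  have hb : ∀ i, ∃ (Xb' : Scheme.{u}) (c : Xb' ⟶ Xb i), BlowUp.IsBlowUp c (E i) := fun i =>
    BlowUpLib.exists_blowUp (E i)
  choose Xb' c hc using hb
  choose v' hv' _ using fun i => (hc i).2 U (v i ≫ o i)
    (BlowUpX.isEffCartier_comap_of_avoid _ _ fun u hu => hEs i hu ⟨v i u, rfl⟩)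
  have w' : ∀ i, v' i ≫ c i ≫ gb i = jU ≫ gX := fun i => by
    rw [← Category.assoc, hv' i, w i]
  refine ⟨E, Xb', c, v', w', fun i => ⟨hc i, ⟨BlowSep.isFiniteTypeIdeal_sup (hI i)
    (BlowSep.isFiniteTypeIdeal_pow (hD i) _), ?_⟩, hv' i⟩, fun z hz => ?_⟩
  · exact Set.disjoint_left.2 fun a ha hb => hEs i ha hb
  by_contra hne
  push Not at hne
  let ρ : widePullback S Xb' (fun i => c i ≫ gb i) ⟶ P :=
    WidePullback.lift (WidePullback.base _) (fun i => WidePullback.π (fun i => c i ≫ gb i) i ≫ c i)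
      (fun i => by rw [Category.assoc]; exact WidePullback.π_arrow _ i)
  let l' := WidePullback.lift (jU ≫ gX) (fun i => v' i) w'
  have hlρ : l' ≫ ρ = l := by
    refine WidePullback.hom_ext _ _ _ (fun i => ?_) ?_
    · rw [Category.assoc, WidePullback.lift_π, WidePullback.lift_π, WidePullback.lift_π_assoc]
      exact hv' i
    · rw [Category.assoc, WidePullback.lift_base, WidePullback.lift_base, WidePullback.lift_base]
  refine BlowSep.notMem_closure_multi Xb' (fun i => WidePullback.π (fun i => c i ≫ gb i) i)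
    (fun i => (I i).comap (c i)) (fun i => (E i).comap (c i)) (fun i => (hc i).1)
    (fun i => Scheme.IdealSheafData.comap_mono (c i) le_sup_left) (𝔎.comap ρ)
    (fun i => (fun y => c i y) ⁻¹' ((fun x => o i x) '' ((Y i).support : Set (Xi i))))
    (Set.range l') ?_ ?_ ?_ ?_ ?_ hne hz
  · intro i a ha
    rw [Scheme.IdealSheafData.support_comap]
    exact hYI i ha
  · refine fun i => Set.disjoint_left.2 fun a ha hE => ?_
    rw [Scheme.IdealSheafData.support_comap] at hE
    obtain ⟨b, -, hb⟩ := ha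
    exact hEs i hE ⟨b, hb⟩
  · rintro _ ⟨u, rfl⟩
    rw [Scheme.IdealSheafData.support_comap]
    show ρ (l' u) ∈ (𝔎.support : Set P)
    rw [hK, ← Scheme.Hom.comp_apply, hlρ]
    exact subset_closure ⟨u, rfl⟩
  · rintro _ ⟨u, rfl⟩
    obtain ⟨i, hi⟩ := hempty (l u) (subset_closure ⟨u, rfl⟩)
    have e1 : c i (WidePullback.π (fun i => c i ≫ gb i) i (l' u)) = o i (v i u) := by
      rw [← Scheme.Hom.comp_apply, ← Scheme.Hom.comp_apply, ← Scheme.Hom.comp_apply]
      exact congrArg (fun φ => φ u) ((WidePullback.lift_π_assoc _ _ _ _ _ _).trans (hv' i))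
    have e2 : WidePullback.π gb i (l u) = o i (v i u) := by
      rw [← Scheme.Hom.comp_apply, WidePullback.lift_π, Scheme.Hom.comp_apply]
    refine ⟨i, fun hu => hi ?_⟩
    rw [Scheme.IdealSheafData.support_comap] at hu
    have hu' : c i (WidePullback.π (fun i => c i ≫ gb i) i (l' u)) ∈ ((I i).support : Set (Xb i)) := hu
    rw [e1] at hu'
    rw [e2]
    exact hIY i _ hu' ⟨_, rfl⟩
  · intro i
    have hρ : ∀ j, ρ ≫ WidePullback.π gb j = WidePullback.π (fun i => c i ≫ gb i) j ≫ c j :=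
      fun j => WidePullback.lift_π _ _ _ _ _
    have h1 : ((E i).comap (WidePullback.π gb i)).comap ρ ≤ Δ.comap ρ := by
      refine Scheme.IdealSheafData.comap_mono ρ ?_
      rw [Scheme.IdealSheafData.comap_sup]
      refine sup_le ((le_iSup (fun j => (I j).comap (WidePullback.π gb j)) i).trans le_sup_left) ?_
      rw [FComplLib.comap_pow]
      exact hM i
    rw [← Scheme.IdealSheafData.comap_comp, hρ, Scheme.IdealSheafData.comap_comp] at h1
    refine h1.trans (le_of_eq ?_)
    rw [Scheme.IdealSheafData.comap_sup]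
    congr 1
    refine ((Scheme.IdealSheafData.map_gc ρ).l_iSup).trans (iSup_congr fun j => ?_)
    show ((I j).comap (WidePullback.π gb j)).comap ρ = _
    rw [← Scheme.IdealSheafData.comap_comp, hρ, Scheme.IdealSheafData.comap_comp]

end Groth.Agent.S17394
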