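import Groth.Statements.S17396
import Groth.Agent.CycEtLib.Cover

set_option autoImplicit false
set_option backward.isDefEq.respectTransparency false
set_option backward.isDefEq.respectTransparency.types false
universe u
open CycCov

namespace Groth.Agent.S17396

open CategoryTheory AlgebraicGeometry in
/-- For X integral and smooth over an algebraically closed field k, L an invertible module, N ≥ 1
invertible in k, D_1, …, D_r a strict normal crossing divisor on X with multiplicities α_j, s a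
global section of the N-th tensor power of L whose divisor of zeros is D = Σ α_j D_j, and π : Y → X
with its root datum the normalised cyclic N-th-root cover of X defined by s, the morphism π is étale
over every open W of X disjoint from the components D_j with α_j > 0. (The published claim allows
any effective divisor on a manifold; it is stated here for components forming a strict normal
crossing divisor.) -/
theorem result {k : Type u} [Field k] [IsAlgClosed k] {X Y : Scheme.{u}}
    (f : X ⟶ Spec (CommRingCat.of k)) [Smooth f] [IsIntegral X]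
    (L : X.Modules) (hL : PicF.IsInvertible L) (N : ℕ) (hN : 0 < N) (hNk : (N : k) ≠ 0)
    {r : ℕ} (D : Fin r → X.IdealSheafData) (α : Fin r → ℕ) (hD : LogNCD.IsNCD D f)
    (s : Coh.structureModule X ⟶ CohB1.tensorPow L N) (hs : CycCov.IsZeroDiv (CohB1.tensorPow L N) s (CycCov.divIdeal D α))
    (π : Y ⟶ X) (R : CycCov.Root L N s π) (hR : CycCov.IsCover R)
    (W : X.Opens) (hW : ∀ j : Fin r, 0 < α j → Disjoint (W : Set X) ((D j).support : Set X)) :
    Etale (π ∣_ W) := by
  haveI := Classical.dec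
  obtain ⟨hfin, hYn, W₀, hW₀, hW₀Y, hb⟩ := hR
  haveI := hfin
  have hXn : Pi1.IsNormalScheme X :=
    Groth.Agent.CycEtLib.isNormalScheme_of_smooth_field f
  haveI : ∀ y : Y, IsReduced (Y.presheaf.stalk y) := fun y => by
    haveI := (hYn y).1
    infer_instance
  haveI : AlgebraicGeometry.IsReduced Y := isReduced_of_isReduced_stalk Y
  have hloc : ∀ x : W, ∃ U : X.affineOpens, x.1 ∈ U.1 ∧ U.1 ≤ W ∧ Etale (π ∣_ U.1) := by
    rintro ⟨x, hx⟩
    obtain ⟨U₀, hxU₀, e₀, he₀⟩ := Groth.Agent.InvX.exists_frame hL x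
    obtain ⟨U, hU, hxU, hle⟩ := exists_isAffineOpen_mem_and_subset (x := x) (U := U₀ ⊓ W) ⟨hxU₀, hx⟩
    have hUU₀ : U ≤ U₀ := fun z hz => (hle hz).1
    have hUW : U ≤ W := fun z hz => (hle hz).2
    refine ⟨⟨U, hU⟩, hxU, hUW, ?_⟩
    haveI : Nonempty ↥U := ⟨⟨x, hxU⟩⟩
    have he := he₀.res hUU₀
    have hI : (CycCov.divIdeal D α).ideal ⟨U, hU⟩ = ⊤ := by
      unfold CycCov.divIdeal
      refine Finset.prod_induction _ (fun I : X.IdealSheafData => I.ideal ⟨U, hU⟩ = ⊤)
        (fun I J hI hJ => ?_) ?_ fun j _ => ?_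
      · rw [Scheme.IdealSheafData.ideal_mul, Pi.mul_apply, hI, hJ, Ideal.top_mul]
      · rfl
      · rw [Scheme.IdealSheafData.ideal_pow, Pi.pow_apply]
        rcases Nat.eq_zero_or_pos (α j) with h0 | h0
        · rw [h0, pow_zero, Ideal.one_eq_top]
        · rw [Groth.Agent.BlowUpX.ideal_eq_top_of_disjoint (D j) ⟨U, hU⟩
            (fun z hz => Set.disjoint_left.1 (hW j h0) (hUW hz)), Ideal.top_pow]
    have hspan := hs ⟨U, hU⟩
    rw [hI] at hspan
    have hgen : CycCov.IsGen (CohB1.tensorPow L N) U (CycCov.lpow L U (Groth.Agent.AModX.res L hUU₀ e₀) N) := by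
      rw [Groth.Agent.CycEtLib.lpow_eq]
      exact Groth.Agent.CycEtLib.isGen_of_isFrame (Groth.Agent.AmpleX.isFrame_powElt he N)
    obtain ⟨f₁, hf₁⟩ := hgen.2 (SecTwist.val s U)
    have hfu : IsUnit f₁ := by
      have h1 : CycCov.lpow L U (Groth.Agent.AModX.res L hUU₀ e₀) N ∈ Submodule.span Γ(X, U) {SecTwist.val s U} := by
        erw [hspan, Submodule.top_smul]
        trivial
      obtain ⟨b, hb1⟩ := Submodule.mem_span_singleton.1 h1
      refine isUnit_iff_exists_inv.2 ⟨b, hgen.1 ?_⟩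
      show (f₁ * b) • _ = (1 : Γ(X, U)) • _
      rw [one_smul, mul_comm, mul_smul]
      exact (congrArg (b • ·) hf₁).trans hb1
    have hNu : IsUnit (N : Γ(X, U)) := by
      have h := ((Ne.isUnit hNk).map ((Scheme.ΓSpecIso (CommRingCat.of k)).inv.hom)).map (f.appLE ⊤ U le_top).hom
      rwa [map_natCast, map_natCast] at h
    exact Groth.Agent.CycEtLib.etale_restrict R hN ⟨U, hU⟩ hNu (Groth.Agent.CycEtLib.isGen_of_isFrame he) hfu hf₁.symm
      (Groth.Agent.CycEtLib.bijective_chart hXn R hN W₀ hW₀ hW₀Y hb ⟨U, hU⟩ hNu he hfu hf₁.symm)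
  choose U hxU hUW hEt using hloc
  rw [IsZariskiLocalAtTarget.iff_of_iSup_eq_top (P := @Etale.{u}) (fun x : W => W.ι ⁻¹ᵁ (U x).1)
    (top_le_iff.1 fun x _ => TopologicalSpace.Opens.mem_iSup.2 ⟨x, hxU x⟩)]
  intro x
  have e : W.ι ''ᵁ (W.ι ⁻¹ᵁ (U x).1) = (U x).1 := by
    rw [Scheme.Hom.image_preimage_eq_opensRange_inf, Scheme.Opens.opensRange_ι, inf_eq_right.mpr (hUW x)]
  exact (MorphismProperty.arrow_mk_iso_iff @Etale
    (morphismRestrictRestrict π W (W.ι ⁻¹ᵁ (U x).1) ≪≫ morphismRestrictEq π e)).mpr (hEt x)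

end Groth.Agent.S17396
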