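import Groth.Statements.S17397
import Groth.Agent.CycEtLib.Main
import Groth.Agent.S17396

set_option autoImplicit false
set_option backward.isDefEq.respectTransparency false
set_option backward.isDefEq.respectTransparency.types false
universe u
open CycCov

namespace Groth.Agent.S17397

open CategoryTheory AlgebraicGeometry in
/-- For X integral and smooth over an algebraically closed field k, L an invertible module, N ≥ 1
invertible in k, D_1, …, D_r a strict normal crossing divisor on X with multiplicities α_j, s a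
global section of the N-th tensor power of L whose divisor of zeros is D = Σ α_j D_j, and π : Y → X
with its root datum the normalised cyclic N-th-root cover of X defined by s, the open π⁻¹W of Y is
smooth over k (Y is non-singular there) for every open W of X through each point of which at most
one of the components D_j with α_j > 0 passes, that is, W avoids the singular points of the reduced
divisor of D. (The published claim allows any effective divisor on a manifold; it is stated here for
components forming a strict normal crossing divisor.) -/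
theorem result {k : Type u} [Field k] [IsAlgClosed k] {X Y : Scheme.{u}}
    (f : X ⟶ Spec (CommRingCat.of k)) [Smooth f] [IsIntegral X]
    (L : X.Modules) (hL : PicF.IsInvertible L) (N : ℕ) (hN : 0 < N) (hNk : (N : k) ≠ 0)
    {r : ℕ} (D : Fin r → X.IdealSheafData) (α : Fin r → ℕ) (hD : LogNCD.IsNCD D f)
    (s : Coh.structureModule X ⟶ CohB1.tensorPow L N) (hs : CycCov.IsZeroDiv (CohB1.tensorPow L N) s (CycCov.divIdeal D α))
    (π : Y ⟶ X) (R : CycCov.Root L N s π) (hR : CycCov.IsCover R)
    (W : X.Opens) (hW : ∀ x ∈ W, ∀ j j' : Fin r, 0 < α j → 0 < α j' → x ∈ (D j).support → x ∈ (D j').support → j = j') :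
    Smooth ((π ⁻¹ᵁ W).ι ≫ π ≫ f) := by
  classical
  haveI : IsFinite π := hR.1
  haveI : LocallyOfFiniteType (π ≫ f) := inferInstance
  rw [← Category.assoc]
  haveI hloc : ∀ y : ↥(π ⁻¹ᵁ W), ∃ O : Y.Opens, y.1 ∈ O ∧ Smooth (O.ι ≫ π ≫ f) := by
    rintro ⟨y, hy⟩
    by_cases hx : ∃ i₀, 0 < α i₀ ∧ π y ∈ (D i₀).support
    · obtain ⟨i₀, hi₀, hx⟩ := hx
      obtain ⟨U, g, hxU, -, -, -, hreg, -⟩ := Groth.Agent.CycEtLib.exists_model_nhd f hL hN hNk hD hs R hR hx W hy
        (fun j hj h0 h => hj (hW _ hy _ _ h0 hi₀ h hx))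
      refine ⟨π ⁻¹ᵁ U.1, hxU, ?_⟩
      haveI := hreg
      exact Groth.Agent.CycEtLib.smooth_of_isRegularRing (π ≫ f) (U.2.preimage π)
    · push Not at hx
      obtain ⟨U, hxU, -, hU⟩ := Groth.Agent.CycEtLib.exists_nhd_top D (fun j => 0 < α j) hx W hy
      haveI := Groth.Agent.S17396.result f L hL N hN hNk D α hD s hs π R hR U.1
        (fun j hj => Set.disjoint_left.2 fun z hz => hU j hj z hz)
      refine ⟨π ⁻¹ᵁ U.1, hxU, ?_⟩
      rw [← Category.assoc, ← morphismRestrict_ι, Category.assoc]
      infer_instance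
  choose O hO hsm using hloc
  rw [IsZariskiLocalAtSource.iff_of_openCover (P := @Smooth.{u}) ((π ⁻¹ᵁ W).toScheme.openCoverOfIsOpenCover
    (fun y : ↥(π ⁻¹ᵁ W) => (π ⁻¹ᵁ W).ι ⁻¹ᵁ O y)
    (TopologicalSpace.IsOpenCover.mk (top_le_iff.1 fun y _ => TopologicalSpace.Opens.mem_iSup.2 ⟨⟨y.1, y.2⟩, hO ⟨y.1, y.2⟩⟩)))]
  intro y
  haveI := hsm y
  rw [← Category.assoc, ← Category.assoc]
  show Smooth (((((π ⁻¹ᵁ W).ι ⁻¹ᵁ O y).ι ≫ (π ⁻¹ᵁ W).ι) ≫ π) ≫ f)
  rw [← morphismRestrict_ι, Category.assoc, Category.assoc]
  infer_instance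

end Groth.Agent.S17397
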