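import Groth.Statements.S1741
import Groth.Agent.H1ExtTor.Basic
import Groth.Agent.S1740
import Mathlib

set_option autoImplicit false
universe u
open CategoryTheory
attribute [local instance] HasDerivedCategory.standard
open LocCoh

namespace Groth.Agent.S1741

open Limits in
theorem main {R : Type u} [CommRing R] [IsNoetherianRing R] (e : ℕ) :
    ∀ {X X' : ModuleCat.{u} R} [Module.Finite R X] (α : X ⟶ X'),
      H1ExtTor.KillExt α e ↔ H1ExtTor.KillTor α e := by
  induction e with
  | zero =>
    intro X X' _ α
    constructor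
    · intro h
      let π : (X' →₀ R) →ₗ[R] X' := Finsupp.linearCombination R id
      let S : ShortComplex (ModuleCat.{u} R) :=
        ShortComplex.mk (X₁ := ModuleCat.of R (LinearMap.ker π)) (X₂ := ModuleCat.of R (X' →₀ R)) (X₃ := X')
          (ModuleCat.ofHom (LinearMap.ker π).subtype) (ModuleCat.ofHom π)
          (ModuleCat.hom_ext (LinearMap.comp_ker_subtype π))
      have hS : S.ShortExact :=
        { exact := (ShortComplex.ShortExact.moduleCat_exact_iff_function_exact _).2 (LinearMap.exact_subtype_ker_map π)
          mono_f := (ModuleCat.mono_iff_injective _).2 (LinearMap.ker π).injective_subtype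
          epi_g := (ModuleCat.epi_iff_surjective _).2 (Finsupp.linearCombination_id_surjective R X') }
      obtain ⟨g, hg⟩ := H1ExtTor.exists_factor_of_killExt α S hS rfl h
      rw [← hg]
      haveI : Module.Flat R S.X₂ := inferInstanceAs (Module.Flat R (X' →₀ R))
      exact H1ExtTor.killTor_of_factor g _ 0
    · intro h
      haveI : Module.FinitePresentation R X := Module.finitePresentation_of_finite R X
      obtain ⟨ι, g, k, hk⟩ := S1740.result R X X' α.hom fun N _ _ => h (ModuleCat.of R N)
      have : α = (ModuleCat.ofHom g : X ⟶ _) ≫ (ModuleCat.ofHom k : _ ⟶ X') := ModuleCat.hom_ext hk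
      rw [this]
      haveI : Projective (ModuleCat.of R (ι →₀ R)) := (IsProjective.iff_projective _).1 inferInstance
      exact H1ExtTor.killExt_of_factor _ _ 0
  | succ e ih =>
    intro X X' _ α
    obtain ⟨n, π, hπ⟩ := Module.Finite.exists_fin' R X
    let π' : (X' →₀ R) →ₗ[R] X' := Finsupp.linearCombination R id
    obtain ⟨ψ, hψ⟩ := Module.projective_lifting_property π' (α.hom ∘ₗ π) (Finsupp.linearCombination_id_surjective R X')
    let S : ShortComplex (ModuleCat.{u} R) :=
      ShortComplex.mk (X₁ := ModuleCat.of R (LinearMap.ker π)) (X₂ := ModuleCat.of R (Fin n → R)) (X₃ := X)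
          (ModuleCat.ofHom (LinearMap.ker π).subtype) (ModuleCat.ofHom π)
        (ModuleCat.hom_ext (LinearMap.comp_ker_subtype π))
    let S' : ShortComplex (ModuleCat.{u} R) :=
      ShortComplex.mk (X₁ := ModuleCat.of R (LinearMap.ker π')) (X₂ := ModuleCat.of R (X' →₀ R)) (X₃ := X')
          (ModuleCat.ofHom (LinearMap.ker π').subtype) (ModuleCat.ofHom π')
        (ModuleCat.hom_ext (LinearMap.comp_ker_subtype π'))
    have hS : S.ShortExact :=
      { exact := (ShortComplex.ShortExact.moduleCat_exact_iff_function_exact _).2 (LinearMap.exact_subtype_ker_map π)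
        mono_f := (ModuleCat.mono_iff_injective _).2 (LinearMap.ker π).injective_subtype
        epi_g := (ModuleCat.epi_iff_surjective _).2 hπ }
    have hS' : S'.ShortExact :=
      { exact := (ShortComplex.ShortExact.moduleCat_exact_iff_function_exact _).2 (LinearMap.exact_subtype_ker_map π')
        mono_f := (ModuleCat.mono_iff_injective _).2 (LinearMap.ker π').injective_subtype
        epi_g := (ModuleCat.epi_iff_surjective _).2 (Finsupp.linearCombination_id_surjective R X') }
    let β : LinearMap.ker π →ₗ[R] LinearMap.ker π' := ψ.restrict fun y hy => by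
      show π' (ψ y) = 0
      rw [← LinearMap.comp_apply, hψ, LinearMap.comp_apply, LinearMap.mem_ker.1 hy, map_zero]
    let φ : S ⟶ S' := ShortComplex.homMk (ModuleCat.ofHom β) (ModuleCat.ofHom ψ) α
      (ModuleCat.hom_ext (LinearMap.ext fun y => rfl)) (ModuleCat.hom_ext hψ)
    haveI : Projective S.X₂ := (IsProjective.iff_projective _).1 (inferInstanceAs (Module.Projective R (Fin n → R)))
    haveI : Projective S'.X₂ := (IsProjective.iff_projective _).1 (inferInstanceAs (Module.Projective R (X' →₀ R)))
    haveI : Module.Flat R S.X₂ := inferInstanceAs (Module.Flat R (Fin n → R))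
    haveI : Module.Flat R S'.X₂ := inferInstanceAs (Module.Flat R (X' →₀ R))
    haveI : Module.Finite R S.X₁ := inferInstanceAs (Module.Finite R (LinearMap.ker π))
    exact (H1ExtTor.killExt_succ_iff hS hS' φ e).trans ((ih φ.τ₁).trans (H1ExtTor.killTor_succ_iff hS hS' φ e).symm)

/-- Equivalence of (4) and (7) in the Noetherian case. Let R be a Noetherian ring, α : M → M' a map of
R-modules with M finite, and e ≥ 0. Then precomposition with α kills all classes in Ext^{e+1}(M', N)
(maps M' → N[e+1] in D(R)) for every module N if and only if the map Tor_{e+1}(M, N) → Tor_{e+1}(M',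
N) induced by α is zero for every module N. -/
theorem result (R : Type u) [CommRing R] [IsNoetherianRing R] (M M' : Type u) [AddCommGroup M] [Module R M] [Module.Finite R M] [AddCommGroup M'] [Module R M'] (α : M →ₗ[R] M') (e : ℕ) : (∀ (N : Type u) [AddCommGroup N] [Module R N] (φ : Dual.inD R M' ⟶ (Dual.inD R N)⟦((e : ℤ) + 1)⟧), (DerivedCategory.singleFunctor (ModuleCat.{u} R) 0).map (ModuleCat.ofHom α) ≫ φ = 0) ↔ (∀ (N : Type u) [AddCommGroup N] [Module R N], ((CategoryTheory.Tor (ModuleCat.{u} R) (e + 1)).map (ModuleCat.ofHom α)).app (ModuleCat.of R N) = 0) := by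
  have hhom : ∀ (N : Type u) [AddCommGroup N] [Module R N] (x : Abelian.Ext.{u} (ModuleCat.of R M') (ModuleCat.of R N) (e + 1)),
      ((Abelian.Ext.mk₀ (ModuleCat.ofHom α)).comp x (zero_add _) = 0 ↔
        (DerivedCategory.singleFunctor (ModuleCat.{u} R) 0).map (ModuleCat.ofHom α) ≫ x.hom = 0) := by
    intro N _ _ x
    rw [Abelian.Ext.ext_iff, Abelian.Ext.comp_hom, Abelian.Ext.mk₀_hom, ShiftedHom.mk₀_comp, Abelian.Ext.zero_hom]
  constructor
  · intro h
    have hk : H1ExtTor.KillExt (ModuleCat.ofHom α) e := fun N x => (hhom N x).2 (h N x.hom)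
    intro N _ _
    exact (main e (ModuleCat.ofHom α)).1 hk (ModuleCat.of R N)
  · intro h N _ _ φ
    have hk : H1ExtTor.KillExt (ModuleCat.ofHom α) e := (main e (ModuleCat.ofHom α)).2 fun X => h X
    obtain ⟨x, rfl⟩ := (Abelian.Ext.homEquiv (X := ModuleCat.of R M') (Y := ModuleCat.of R N) (n := e + 1)).surjective φ
    exact (hhom N x).1 (hk _ x)

end Groth.Agent.S1741
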