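import Groth.Statements.S17411
import Groth.Agent.CharCycDim.Basic

set_option autoImplicit false
set_option backward.isDefEq.respectTransparency false
set_option backward.isDefEq.respectTransparency.types false
set_option maxHeartbeats 1000000
set_option linter.style.haveILetI false
universe u
open CategoryTheory AlgebraicGeometry
open Prym5

namespace Groth.Agent.S17411

open TopologicalSpace Groth.Agent Groth.Agent.FibDim

/-- Let k be an algebraically closed field of characteristic zero and X, Y, Z schemes of finite type
over k, with Y and Z irreducible of the same dimension, η : Y → Z a dominant k-morphism and ρ : X →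
Y a k-morphism. Then the composite ρ ≫ η is dominant exactly when ρ is dominant. (The published
statement concerns the forgetful map from the moduli space of étale double covers of genus-five
curves to the moduli space of genus-five curves, both irreducible of dimension 12, and a morphism
into the former; its argument uses only the hypotheses kept here.) -/
theorem result (k : Type u) [Field k] [IsAlgClosed k]
    [CharZero k] (X Y Z : Scheme.{u}) [X.Over (Spec (CommRingCat.of k))] [Y.Over (Spec (CommRingCat.of k))]
    [Z.Over (Spec (CommRingCat.of k))]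
    [LocallyOfFiniteType (X ↘ Spec (CommRingCat.of k))] [QuasiCompact (X ↘ Spec (CommRingCat.of k))]
    [LocallyOfFiniteType (Y ↘ Spec (CommRingCat.of k))] [QuasiCompact (Y ↘ Spec (CommRingCat.of k))]
    [LocallyOfFiniteType (Z ↘ Spec (CommRingCat.of k))] [QuasiCompact (Z ↘ Spec (CommRingCat.of k))]
    [IrreducibleSpace Y] [IrreducibleSpace Z] (hdim : topologicalKrullDim Y = topologicalKrullDim Z)
    (ρ : X ⟶ Y) [ρ.IsOver (Spec (CommRingCat.of k))] (η : Y ⟶ Z) [η.IsOver (Spec (CommRingCat.of k))]
    [IsDominant η] :
    IsDominant (ρ ≫ η) ↔ IsDominant ρ := by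
  let qY := Y ↘ Spec (CommRingCat.of k)
  let qZ := Z ↘ Spec (CommRingCat.of k)
  haveI : IsNoetherian X := by
    haveI : IsLocallyNoetherian X := LocallyOfFiniteType.isLocallyNoetherian (X ↘ Spec (CommRingCat.of k))
    haveI : CompactSpace X := QuasiCompact.compactSpace_of_compactSpace (X ↘ Spec (CommRingCat.of k))
    exact {}
  haveI : IsNoetherian Y := by
    haveI : IsLocallyNoetherian Y := LocallyOfFiniteType.isLocallyNoetherian (Y ↘ Spec (CommRingCat.of k))
    haveI : CompactSpace Y := QuasiCompact.compactSpace_of_compactSpace (Y ↘ Spec (CommRingCat.of k))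
    exact {}
  refine ⟨fun h => ?_, fun h => inferInstance⟩
  haveI : LocallyOfFiniteType (η ≫ qZ) := by rw [comp_over]; infer_instance
  haveI : LocallyOfFiniteType η := locallyOfFiniteType_of_comp η qZ
  have hgen : ∀ {W V : Scheme.{u}} [IrreducibleSpace V] (g : W ⟶ V) [IsDominant g] [NoetherianSpace W],
      ∃ w : W, g w = genericPoint V := by
    intro W V _ g _ _
    have hfin := NoetherianSpace.finite_irreducibleComponents (α := W)
    have hcov : Set.range g.base = ⋃ C ∈ irreducibleComponents W, g.base '' C := by
      rw [← Set.image_iUnion₂, ← Set.sUnion_eq_biUnion, sUnion_irreducibleComponents, Set.image_univ]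
    have hd := g.denseRange
    have hmem : genericPoint V ∈ closure (Set.range g.base) := hd.closure_range ▸ Set.mem_univ _
    rw [hcov, hfin.closure_biUnion, Set.mem_iUnion₂] at hmem
    obtain ⟨C, hC, hmem⟩ := hmem
    obtain ⟨w, hw⟩ := QuasiSober.sober hC.1 (isClosed_of_mem_irreducibleComponents C hC)
    refine ⟨w, ?_⟩
    have hsub : closure (g.base '' C) ⊆ closure {g.base w} := by
      rw [← hw.def, closure_image_closure g.base.hom.continuous, Set.image_singleton]
    exact (((specializes_iff_mem_closure.2 (hsub hmem)).antisymm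
      ((genericPoint_spec V).specializes (Set.mem_univ _))).eq)
  obtain ⟨y, hy⟩ := hgen η
  obtain ⟨x, hx⟩ := hgen (ρ ≫ η)
  have hdimY : ∀ {W : Scheme.{u}} [IrreducibleSpace W] (q : W ⟶ Spec (CommRingCat.of k)) [LocallyOfFiniteType q],
      topologicalKrullDim W = ((rd q (genericPoint W) : ℕ∞) : WithBot ℕ∞) := by
    intro W _ q _
    refine le_antisymm ((CharCycDim.dim_le_iff' q _).2 fun w =>
      CharCycDim.rd_le_of_specializes' q ((genericPoint_spec W).specializes (Set.mem_univ _))) ?_
    rw [FibDim.topologicalKrullDim_eq_iSup_rd q]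
    exact le_iSup (fun w : W => ((rd q w : ℕ∞) : WithBot ℕ∞)) (genericPoint W)
  have heq : rd qY (genericPoint Y) = rd qZ (genericPoint Z) := by
    have := hdim
    rw [hdimY qY, hdimY qZ] at this
    exact_mod_cast this
  have hle : rd qZ (genericPoint Z) ≤ rd qY (ρ x) := by
    have h1 : rd qY (ρ x) = rd (η ≫ qZ) (ρ x) := by simp only [qY, qZ, comp_over]
    rw [h1, FibDim.rd_comp, ← Scheme.Hom.comp_apply, hx]
    exact Nat.le_add_right _ _
  have hρ := CharCycDim.eq_of_specializes_of_rd_le qY
    ((genericPoint_spec Y).specializes (Set.mem_univ (ρ x))) (heq ▸ hle)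
  refine ⟨dense_iff_closure_eq.2 (Set.eq_univ_of_univ_subset ?_)⟩
  rw [← (genericPoint_spec Y).def]
  exact closure_mono (Set.singleton_subset_iff.2 ⟨x, hρ.symm⟩)

end Groth.Agent.S17411
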