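import Groth.Statements.S17412
import Groth.Agent.ProjEquiv.Basic
import Groth.Agent.CurveFF.Omega
import Groth.Agent.GrpOmega.Shear

set_option autoImplicit false
set_option backward.isDefEq.respectTransparency false
set_option backward.isDefEq.respectTransparency.types false
set_option maxHeartbeats 1000000
set_option linter.style.haveILetI false
universe u
open CategoryTheory CategoryTheory.Limits AlgebraicGeometry
open Prym5

namespace Groth.Agent.S17412
open Groth.Agent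

/-- Let k be an algebraically closed field of characteristic zero, g ≥ 3, and X₁, X₂ smooth proper
integral curves of genus g over k. Suppose each X_j is canonically embedded: i_j : X_j → P^{g-1}_k
is a closed immersion over k, the pullback i_j^* O(1) is isomorphic to the sheaf of differentials of
X_j over k, and X_j lies in no hyperplane (the restriction map from the global sections of O(1) to
those of i_j^* O(1) is injective). Then X₁ and X₂ are isomorphic over k exactly when they are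
projectively equivalent: there are a k-automorphism σ of P^{g-1}_k and an isomorphism ψ : X₁ ≅ X₂
with i₁ ≫ σ = ψ ≫ i₂. (Projective equivalence is expressed through k-automorphisms of the scheme
P^{g-1}_k; that these are exactly the projective linear transformations is classical and not
restated.) -/
theorem result (k : Type u) [Field k] [IsAlgClosed k]
    [CharZero k] (g : ℕ) (hg : 3 ≤ g)
    (X₁ X₂ : Scheme.{u}) [X₁.Over (Spec (CommRingCat.of k))] [X₂.Over (Spec (CommRingCat.of k))]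
    [AlgebraicGeometry.IsIntegral X₁] [AlgebraicGeometry.IsIntegral X₂]
    [IsProper (X₁ ↘ Spec (CommRingCat.of k))] [IsProper (X₂ ↘ Spec (CommRingCat.of k))]
    [Smooth (X₁ ↘ Spec (CommRingCat.of k))] [Smooth (X₂ ↘ Spec (CommRingCat.of k))]
    (hd₁ : topologicalKrullDim X₁ = 1) (hd₂ : topologicalKrullDim X₂ = 1)
    (hg₁ : Curv2.genus k X₁ = g) (hg₂ : Curv2.genus k X₂ = g)
    (i₁ : X₁ ⟶ CohB1.ProjSpace (g - 1) k) (i₂ : X₂ ⟶ CohB1.ProjSpace (g - 1) k)
    [IsClosedImmersion i₁] [IsClosedImmersion i₂]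
    (hi₁ : i₁ ≫ CohB1.ProjSpace.toSpec (g - 1) k = X₁ ↘ Spec (CommRingCat.of k))
    (hi₂ : i₂ ≫ CohB1.ProjSpace.toSpec (g - 1) k = X₂ ↘ Spec (CommRingCat.of k))
    (e₁ : (Scheme.Modules.pullback i₁).obj (Twist.twistProjSpace (g - 1) k 1)
      ≅ Omega.sheaf (X₁ ↘ Spec (CommRingCat.of k)))
    (e₂ : (Scheme.Modules.pullback i₂).obj (Twist.twistProjSpace (g - 1) k 1)
      ≅ Omega.sheaf (X₂ ↘ Spec (CommRingCat.of k)))
    (hnd₁ : Function.Injective
      (((Scheme.Modules.pullbackPushforwardAdjunction i₁).unit.app (Twist.twistProjSpace (g - 1) k 1)).app ⊤))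
    (hnd₂ : Function.Injective
      (((Scheme.Modules.pullbackPushforwardAdjunction i₂).unit.app (Twist.twistProjSpace (g - 1) k 1)).app ⊤)) :
    (∃ φ : X₁ ≅ X₂, φ.hom ≫ (X₂ ↘ Spec (CommRingCat.of k)) = X₁ ↘ Spec (CommRingCat.of k)) ↔
      ∃ (σ : CohB1.ProjSpace (g - 1) k ≅ CohB1.ProjSpace (g - 1) k) (ψ : X₁ ≅ X₂),
        σ.hom ≫ CohB1.ProjSpace.toSpec (g - 1) k = CohB1.ProjSpace.toSpec (g - 1) k ∧
        i₁ ≫ σ.hom = ψ.hom ≫ i₂ := by
  constructor
  · rintro ⟨φ, hφ⟩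
    have hh : ∀ (Y : Scheme.{u}) [Y.Over (Spec (CommRingCat.of k))] [AlgebraicGeometry.IsIntegral Y]
        [IsProper (Y ↘ Spec (CommRingCat.of k))] [Smooth (Y ↘ Spec (CommRingCat.of k))],
        topologicalKrullDim Y = 1 → Curv2.genus k Y = g → ∀ {L : Y.Modules},
        Nonempty (L ≅ Omega.sheaf (Y ↘ Spec (CommRingCat.of k))) → Module.finrank k (Coh.HH Y L 0) = g - 1 + 1 := by
      intro Y _ _ _ _ hd hgY L ⟨e⟩
      rw [(CurveCohLib.hhEquiv (k := k) e 0).finrank_eq, (CurveFF.canonical_invariants k Y hd).1, hgY]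
      omega
    obtain ⟨eΩ⟩ := GrpOmega.nonempty_omega_baseChange
      (IsPullback.of_horiz_isIso (fst := φ.hom) (snd := X₁ ↘ Spec (CommRingCat.of k))
        (f := X₂ ↘ Spec (CommRingCat.of k)) (g := 𝟙 _) ⟨by rw [hφ, Category.comp_id]⟩)
    let O1 := Twist.twistProjSpace (g - 1) k 1
    let L := (Scheme.Modules.pullback (φ.hom ≫ i₂)).obj O1
    let t : (Scheme.Modules.pullback i₁).obj O1 ≅ L := e₁ ≪≫ eΩ.symm ≪≫
      (Scheme.Modules.pullback φ.hom).mapIso e₂.symm ≪≫ (Scheme.Modules.pullbackComp φ.hom i₂).app O1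
    let v : Fin (g - 1 + 1) → Γ(L, ⊤) :=
      fun i => t.hom.app ⊤ (ProjUP.pullSec i₁ O1 (ProjUP.coord (g - 1) k i))
    let w : Fin (g - 1 + 1) → Γ(L, ⊤) :=
      fun i => ProjUP.pullSec (φ.hom ≫ i₂) O1 (ProjUP.coord (g - 1) k i)
    have ha : ProjEquiv.Coords (X₁ ↘ Spec (CommRingCat.of k)) i₁ L v := ⟨hi₁, t, fun _ => rfl⟩
    have hb : ProjEquiv.Coords (X₁ ↘ Spec (CommRingCat.of k)) (φ.hom ≫ i₂) L w :=
      ⟨by rw [Category.assoc, hi₂, hφ], Iso.refl _, fun _ => rfl⟩
    have hr : Module.finrank k (Coh.HH X₁ L 0) = g - 1 + 1 := hh X₁ hd₁ hg₁ ⟨t.symm ≪≫ e₁⟩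
    have hw : Function.Injective
        (((Scheme.Modules.pullbackPushforwardAdjunction (φ.hom ≫ i₂)).unit.app O1).app ⊤) := by
      intro x y hxy
      refine hnd₂ ?_
      have key : ∀ z : Γ(O1, ⊤), ((Scheme.Modules.pullbackComp φ.hom i₂).hom.app O1).app ⊤
          (ProjUP.pullSec φ.hom _ (ProjUP.pullSec i₂ O1 z)) = ProjUP.pullSec (φ.hom ≫ i₂) O1 z := fun z => by
        rw [← KPE7.ps_eq_pullSec φ.hom, ← KPE7.ps_eq_pullSec i₂, ← KPE7.ps_eq_pullSec (φ.hom ≫ i₂)]
        exact KPE7.ps_comp φ.hom i₂ O1 (le_refl ⊤) (le_refl ⊤) (le_refl ⊤) z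
      have h1 := (key x).trans (Eq.trans hxy (key y).symm)
      exact ProjEquiv.pullSec_injective φ.hom _ ((ConcreteCategory.bijective_of_isIso
        (((Scheme.Modules.pullbackComp φ.hom i₂).app O1).hom.app ⊤)).1 h1)
    obtain ⟨σ, hσ, hσi⟩ := ProjEquiv.exists_aut_comp ha hb
      (ProjEquiv.bijective_lin_of_nondegenerate ha hnd₁ hr) (ProjEquiv.bijective_lin_of_nondegenerate hb hw hr)
    exact ⟨σ, φ, hσ, hσi⟩
  · rintro ⟨σ, ψ, hσ, hψ⟩
    exact ⟨ψ, by rw [← hi₁, ← hσ, ← Category.assoc, hψ, Category.assoc, hi₂]⟩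

end Groth.Agent.S17412
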