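import Groth.Statements.S17413
import Groth.Agent.CotDom.Basic
import Groth.Agent.Kleiman.Generic
import Groth.Agent.SmoothCrit.Sch
import Groth.Agent.GeomConn5.Point

set_option autoImplicit false
set_option backward.isDefEq.respectTransparency false
set_option backward.isDefEq.respectTransparency.types false
set_option maxHeartbeats 1000000
set_option linter.style.haveILetI false
universe u
open CategoryTheory AlgebraicGeometry
open Prym5

namespace Groth.Agent.S17413
open Groth.Agent

/-- Let k be an algebraically closed field of characteristic zero, X a reduced scheme of finite type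
over k, Y an integral scheme of finite type over k and u : X → Y a k-morphism. Then u is dominant if
and only if there is a closed point P of X such that X is regular at P and the differential of u at
P is surjective onto the tangent space of Y at u(P); surjectivity of the differential is written
dually as injectivity of the map of cotangent spaces m_{u(P)}/m_{u(P)}² → m_P/m_P² induced by the
local homomorphism of u at P. (The published statement asks only that Y be irreducible, puts no
condition on P and concludes that the scheme-theoretic image is all of Y. Without regularity at P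
the backward implication fails: the inclusion of the union of the two coordinate axes into the
affine plane induces a bijection of tangent spaces at the origin and is not dominant. Without
reducedness of Y the forward implication fails: the reduced line inside the doubled line y² = 0 is
dominant but its differential is nowhere surjective. For Y integral and u quasi-compact, dominance
is the same as the scheme-theoretic image being Y.) -/
theorem result (k : Type u) [Field k]
    [IsAlgClosed k] [CharZero k] (X Y : Scheme.{u})
    [X.Over (Spec (CommRingCat.of k))] [Y.Over (Spec (CommRingCat.of k))]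
    [LocallyOfFiniteType (X ↘ Spec (CommRingCat.of k))] [QuasiCompact (X ↘ Spec (CommRingCat.of k))]
    [LocallyOfFiniteType (Y ↘ Spec (CommRingCat.of k))] [QuasiCompact (Y ↘ Spec (CommRingCat.of k))]
    [AlgebraicGeometry.IsReduced X] [AlgebraicGeometry.IsIntegral Y] (u : X ⟶ Y) [u.IsOver (Spec (CommRingCat.of k))] :
    IsDominant u ↔
      ∃ P : X, IsClosed ({P} : Set X) ∧ IsRegularLocalRing (X.presheaf.stalk P) ∧
        ∀ a ∈ IsLocalRing.maximalIdeal (Y.presheaf.stalk (u P)),
          (u.stalkMap P).hom a ∈ IsLocalRing.maximalIdeal (X.presheaf.stalk P) ^ 2 →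
            a ∈ IsLocalRing.maximalIdeal (Y.presheaf.stalk (u P)) ^ 2 := by
  let sX := X ↘ Spec (CommRingCat.of k)
  let sY := Y ↘ Spec (CommRingCat.of k)
  have hu : u ≫ sY = sX := comp_over u (Spec (CommRingCat.of k))
  haveI : JacobsonSpace X := LocallyOfFiniteType.jacobsonSpace sX
  haveI : LocallyOfFiniteType (u ≫ sY) := by rw [hu]; infer_instance
  constructor
  · intro hdom
    haveI : LocallyOfFiniteType u := locallyOfFiniteType_of_comp u sY
    haveI : IsLocallyNoetherian Y := LocallyOfFiniteType.isLocallyNoetherian sY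
    haveI : IsLocallyNoetherian X := LocallyOfFiniteType.isLocallyNoetherian sX
    haveI : LocallyOfFinitePresentation sX := inferInstance
    haveI : QuasiSeparated sY := inferInstance
    have hdense : Dense (sX.smoothLocus : Set X) := sX.dense_smoothLocus_of_perfectField
    let W := sX.smoothLocus
    haveI hsm : Smooth (W.ι ≫ sX) := by
      rw [← Scheme.Hom.smoothLocus_eq_top_iff, ← Scheme.Hom.preimage_smoothLocus_eq]
      exact top_unique fun w _ => w.2
    have hcomp : (W.ι ≫ u) ≫ sY = W.ι ≫ sX := by rw [Category.assoc, hu]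
    haveI : Smooth ((W.ι ≫ u) ≫ sY) := by rw [hcomp]; exact hsm
    haveI : CompactSpace X := QuasiCompact.compactSpace_of_compactSpace sX
    haveI : IsNoetherian X := ⟨⟩
    haveI : QuasiCompact ((W.ι ≫ u) ≫ sY) := by rw [hcomp]; infer_instance
    haveI : LocallyOfFinitePresentation (W.ι ≫ u) := inferInstance
    obtain ⟨V, hV, hle⟩ := Kleiman.exists_open_le_smoothLocus (W.ι ≫ u) sY
    let W' := W ⊓ u ⁻¹ᵁ V
    have hne : (W' : Set X).Nonempty := by
      obtain ⟨x, hxV, hxW⟩ := hdense.inter_open_nonempty _ (u ⁻¹ᵁ V).2 (by
        obtain ⟨_, hy, ⟨x, rfl⟩⟩ := hdom.denseRange.inter_open_nonempty (V : Set Y) V.2 hV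
        exact ⟨x, hy⟩)
      exact ⟨x, hxW, hxV⟩
    obtain ⟨P, hP, hPc⟩ := nonempty_inter_closedPoints hne W'.2.isLocallyClosed
    haveI : Smooth (W'.ι ≫ sX) := by
      rw [← Scheme.Hom.smoothLocus_eq_top_iff, ← Scheme.Hom.preimage_smoothLocus_eq]
      exact top_unique fun w _ => w.2.1
    haveI : LocallyOfFinitePresentation (W'.ι ≫ u) := inferInstance
    have hsu : Smooth (W'.ι ≫ u) := by
      rw [← Scheme.Hom.smoothLocus_eq_top_iff]
      refine top_unique fun w _ => ?_
      let j : (W' : Scheme.{u}) ⟶ W := X.homOfLE inf_le_left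
      have hj : W'.ι ≫ u = j ≫ W.ι ≫ u := by rw [← Category.assoc, Scheme.homOfLE_ι]
      have h1 : w ∈ (j ≫ W.ι ≫ u).smoothLocus := by
        rw [← Scheme.Hom.preimage_smoothLocus_eq, Scheme.Hom.mem_preimage]
        refine hle ?_
        show (W.ι ≫ u) (j w) ∈ V
        rw [← Scheme.Hom.comp_apply, ← hj, Scheme.Hom.comp_apply]
        exact w.2.2
      suffices key : ∀ (g : (W' : Scheme.{u}) ⟶ Y) (_ : g = j ≫ W.ι ≫ u) [LocallyOfFinitePresentation g],
          w ∈ g.smoothLocus from key _ hj
      intro g hg _
      subst hg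
      exact h1
    let w : (W' : Scheme.{u}) := ⟨P, hP⟩
    have hwc : IsClosed ({w} : Set W') := by
      have h1 := hPc.preimage W'.ι.continuous
      convert h1 using 1
      ext z
      exact ⟨fun h => by subst h; rfl, fun h => W'.ι.isOpenEmbedding.injective h⟩
    have hreg := GrpSchLib.isRegularLocalRing_stalk_of_smooth (W'.ι ≫ sX) w
    refine ⟨P, hPc, IsRegularLocalRing.of_ringEquiv (asIso (W'.ι.stalkMap w)).commRingCatIsoToRingEquiv.symm, ?_⟩
    intro a ha ha2
    have hinj := (SmoothCrit.smooth_iff (W'.ι ≫ sX) sY (W'.ι ≫ u) (by rw [Category.assoc, hu])).1 hsu w hwc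
    have e : FixPt.stalkMapAt (W'.ι ≫ u) w ((W'.ι ≫ u) w) rfl a = (W'.ι.stalkMap w).hom ((u.stalkMap P).hom a) := by
      simp [FixPt.stalkMapAt, Scheme.Hom.stalkMap_comp]
      rfl
    have hmem : FixPt.stalkMapAt (W'.ι ≫ u) w ((W'.ι ≫ u) w) rfl a ∈
        IsLocalRing.maximalIdeal ((W' : Scheme.{u}).presheaf.stalk w) ^ 2 := by
      rw [e]
      have h1 := Ideal.mem_map_of_mem (W'.ι.stalkMap w).hom ha2
      rw [Ideal.map_pow] at h1
      refine Ideal.pow_right_mono ?_ 2 h1
      exact ((IsLocalRing.local_hom_TFAE _).out 0 2).1 (inferInstance : IsLocalHom (W'.ι.stalkMap w).hom)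
    have h2 : (IsLocalRing.maximalIdeal (Y.presheaf.stalk ((W'.ι ≫ u) w))).toCotangent ⟨a, ha⟩ = 0 := by
      apply hinj
      rw [map_zero, FixPt.cotangentMapAt, Ideal.mapCotangent_toCotangent, Ideal.toCotangent_eq_zero]
      exact hmem
    rwa [Ideal.toCotangent_eq_zero] at h2
  · rintro ⟨P, hPc, hreg, hcot⟩
    haveI := hreg
    haveI : IsLocallyNoetherian Y := LocallyOfFiniteType.isLocallyNoetherian sY
    let φ := Spec.preimage (X.fromSpecResidueField P ≫ sX)
    let ψ := Spec.preimage (Y.fromSpecResidueField (u P) ≫ sY)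
    have hφψ : φ = ψ ≫ u.residueFieldMap P := by
      apply Spec.map_injective
      rw [Spec.map_comp, Spec.map_preimage, Spec.map_preimage, ← hu,
        Scheme.Hom.SpecMap_residueFieldMap_fromSpecResidueField_assoc]
    have hφ : Function.Surjective φ.hom := by
      have h1 : φ = CommRingCat.ofHom (Curv2.resMap k X P) := by
        apply Spec.map_injective
        rw [Spec.map_preimage, GeomConn5.spec_resMap]
      rw [h1]
      exact (IsAlgClosed.ringHom_bijective_of_isIntegral _ (Kleiman.finite_resMap k hPc).to_isIntegral).2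
    have hres : ∀ b : X.presheaf.stalk P, ∃ a : Y.presheaf.stalk (u P),
        b - (u.stalkMap P).hom a ∈ IsLocalRing.maximalIdeal (X.presheaf.stalk P) := by
      intro b
      obtain ⟨c, hc⟩ := hφ (X.residue P b)
      obtain ⟨a, ha⟩ := Y.residue_surjective (u P) (ψ c)
      refine ⟨a, (IsLocalRing.residue_eq_zero_iff _).1 ?_⟩
      show X.residue P (b - _) = 0
      rw [map_sub, sub_eq_zero, ← hc, hφψ]
      change u.residueFieldMap P (ψ c) = _
      rw [← ha]
      exact congrArg (fun m : Y.presheaf.stalk (u P) ⟶ X.residueField P => m.hom a) (Scheme.residue_residueFieldMap u P)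
    have hinj := CotDom.injective_of_cotangent (u.stalkMap P).hom hres hcot
    haveI : IsDomain (X.presheaf.stalk P) := RegLoc6.isDomain_of_isRegularLocalRing _
    let A := Y.presheaf.stalk (u P)
    let ξ : Spec (X.presheaf.stalk P) := ⟨⊥, Ideal.isPrime_bot⟩
    let o : Spec A := ⟨⊥, Ideal.isPrime_bot⟩
    have ho : Spec.map (u.stalkMap P) ξ = o := PrimeSpectrum.ext (Ideal.comap_bot_of_injective _ hinj)
    have hgen : u (X.fromSpecStalk P ξ) = genericPoint Y := by
      rw [← Scheme.Hom.comp_apply, ← Scheme.SpecMap_stalkMap_fromSpecStalk, Scheme.Hom.comp_apply, ho]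
      obtain ⟨q, hq⟩ : genericPoint Y ∈ Set.range (Y.fromSpecStalk (u P)) := by
        rw [Scheme.range_fromSpecStalk]
        exact genericPoint_specializes _
      refine (Specializes.antisymm ?_ (genericPoint_specializes _)).eq
      rw [← hq]
      exact ((PrimeSpectrum.le_iff_specializes o q).1 bot_le).map (Y.fromSpecStalk (u P)).continuous
    refine ⟨dense_iff_closure_eq.2 (Set.eq_univ_of_univ_subset ?_)⟩
    rw [← genericPoint_spec Y]
    exact closure_mono (Set.singleton_subset_iff.2 ⟨_, hgen⟩)

end Groth.Agent.S17413
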