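import Groth.Statements.S1742
import Groth.Agent.H1Quot.Basic
import Groth.Agent.Alg6.AssDepth
import Mathlib

set_option autoImplicit false
universe u
open LocCoh

open scoped Pointwise

namespace Groth.Agent.S1742

/-- Let A be a Noetherian ring, I an ideal, M a finite A-module and p a prime containing I such that the
IA_p-depth of M_p is a finite number e. Then there is an open subset U of Spec A meeting V(p) such
that the IA_q-depth of M_q is at least e for every q in U ∩ V(p). -/
theorem result (A : Type u) [CommRing A] [IsNoetherianRing A] (I : Ideal A) (M : Type u) [AddCommGroup M] [Module A M] [Module.Finite A M] (p : PrimeSpectrum A) (hp : I ≤ p.asIdeal) (e : ℕ) (he : LocCoh.idealDepth (I.map (algebraMap A (Localization.AtPrime p.asIdeal))) (LocalizedModule p.asIdeal.primeCompl M) = e) : ∃ U : Set (PrimeSpectrum A), IsOpen U ∧ (U ∩ PrimeSpectrum.zeroLocus (p.asIdeal : Set A)).Nonempty ∧ ∀ q : PrimeSpectrum A, q ∈ U → p ≤ q → (e : ℕ∞) ≤ LocCoh.idealDepth (I.map (algebraMap A (Localization.AtPrime q.asIdeal))) (LocalizedModule q.asIdeal.primeCompl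 M) := by
  have hne : (I.map (algebraMap A (Localization.AtPrime p.asIdeal))) •
      (⊤ : Submodule (Localization.AtPrime p.asIdeal) (LocalizedModule p.asIdeal.primeCompl M)) ≠ ⊤ := by
    intro h
    rw [LocCoh.idealDepth, if_pos h] at he
    exact ENat.top_ne_natCast e he
  obtain ⟨rs, hrs, hmem, hlen⟩ := Groth.Agent.Alg6.exists_length_ge_of_le_idealDepth hne he.ge
  have hrs' : RingTheory.Sequence.IsWeaklyRegular (LocalizedModule p.asIdeal.primeCompl M) (rs.take e) := by
    rw [← List.take_append_drop e rs, RingTheory.Sequence.isWeaklyRegular_append_iff] at hrs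
    exact hrs.1
  have hscale : ∀ (S : Type u) [CommRing S] (as bs : List S), List.Forall₂ (fun a b => ∃ w : S, IsUnit w ∧ b = w * a) as bs →
      ∀ (N : Type u) [AddCommGroup N] [Module S N], RingTheory.Sequence.IsWeaklyRegular N as →
        RingTheory.Sequence.IsWeaklyRegular N bs := by
    intro S _ as bs h
    induction h with
    | nil => exact fun N _ _ h => h
    | @cons a b as bs hab _ ih =>
      intro N _ _ hN
      rw [RingTheory.Sequence.isWeaklyRegular_cons_iff] at hN ⊢
      obtain ⟨w, hw, rfl⟩ := hab
      refine ⟨(hw.isSMulRegular N).mul hN.1, ih _ ?_⟩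
      have heq : (a • ⊤ : Submodule S N) = ((w * a) • ⊤ : Submodule S N) := by
        rw [mul_comm, mul_smul]
        congr 1
        ext n
        simp only [Submodule.mem_top, Submodule.mem_smul_pointwise_iff_exists, true_and, true_iff]
        exact ⟨hw.unit⁻¹.1 • n, by rw [smul_smul, IsUnit.mul_val_inv, one_smul]⟩
      exact ((Submodule.quotEquivOfEq _ _ heq).isWeaklyRegular_congr as).1 hN.2
  have hlist : ∀ l : List (Localization.AtPrime p.asIdeal), (∀ r ∈ l, r ∈ I.map (algebraMap A (Localization.AtPrime p.asIdeal))) →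
      ∃ as : List A, (∀ a ∈ as, a ∈ I) ∧
        List.Forall₂ (fun a b => ∃ w : Localization.AtPrime p.asIdeal, IsUnit w ∧ b = w * a) l
          (as.map (algebraMap A (Localization.AtPrime p.asIdeal))) := by
    intro l
    induction l with
    | nil => exact fun _ => ⟨[], by simp, .nil⟩
    | cons r l ih =>
      intro hl
      obtain ⟨as, has, hF⟩ := ih fun x hx => hl x (List.mem_cons_of_mem _ hx)
      obtain ⟨⟨a, s⟩, has'⟩ := (IsLocalization.mem_map_algebraMap_iff p.asIdeal.primeCompl _).1 (hl r (List.mem_cons_self ..))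
      refine ⟨a.1 :: as, fun x hx => ?_, ?_⟩
      · rcases List.mem_cons.1 hx with rfl | hx
        · exact a.2
        · exact has x hx
      · rw [List.map_cons]
        exact List.Forall₂.cons ⟨_, IsLocalization.map_units _ s, by rw [mul_comm]; exact has'.symm⟩ hF
  obtain ⟨as, has, hF⟩ := hlist (rs.take e) fun r hr => hmem r (List.mem_of_mem_take hr)
  obtain ⟨g, hg, hq⟩ := Groth.Agent.H1Quot.exists_spread p.asIdeal as M (hscale _ _ _ hF _ hrs')
  refine ⟨(PrimeSpectrum.basicOpen g : Set (PrimeSpectrum A)), (PrimeSpectrum.basicOpen g).2,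
    ⟨p, hg, (PrimeSpectrum.mem_zeroLocus _ _).2 subset_rfl⟩, fun q hqg _ => ?_⟩
  have hlen' : (as.map (algebraMap A (Localization.AtPrime q.asIdeal))).length = e := by
    have h1 := hF.length_eq
    rw [List.length_map, List.length_take] at h1
    rw [List.length_map, ← h1]
    omega
  rw [← hlen']
  refine Groth.Agent.Alg6.length_le_idealDepth (hq q.asIdeal hqg) fun r hr => ?_
  obtain ⟨a, ha, rfl⟩ := List.mem_map.1 hr
  exact Ideal.mem_map_of_mem _ (has a ha)

end Groth.Agent.S1742
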