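import Groth.Statements.S17429
import Groth.Agent.H1ExtFlat.Basic
import Groth.Agent.H1ExtFlat.Kaehler
import Groth.Agent.CplFib6.QuotReg
import Groth.Agent.LC.Connected
import Groth.Agent.LC.Depth
import Groth.Agent.S5150

set_option autoImplicit false
universe u
open LocCoh

namespace Groth.Agent.S17429

/-- Let p be a prime, A a regular local ring of characteristic p, t_1, …, t_r an A-regular sequence such
that A/(t_1, …, t_r) is again a regular local ring (a regular closed immersion Z ↪ X = Spec A of
codimension r with Z regular and non-empty), and I = (t_1, …, t_r). Then for every i and every j ≠ r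
the local cohomology module H^j_I(Ω^i_A) vanishes, where Ω^i_A is the i-th exterior power over A of
the module of Kähler differentials of A over ℤ (the same module as over the prime field). (Module
form, for X local, of the vanishing of the local cohomology sheaves H^j_Z(X, Ω^i_X), j ≠ r; the same
vanishing holds more generally for the de Rham–Witt sheaves W_mΩ^i_X and their quotients by
dV^{m-1}Ω^{i-1}_X on the étale site of a regular F_p-scheme, a form not stated here.) -/
theorem result (p : ℕ) [Fact p.Prime]
    (A : Type u) [CommRing A] [IsRegularLocalRing A] [CharP A p]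
    (ts : List A) (hreg : RingTheory.Sequence.IsRegular A ts)
    (hZ : IsRegularLocalRing (A ⧸ Ideal.ofList ts))
    (i j : ℕ) (hj : j ≠ ts.length) :
    Subsingleton (LocCoh.H (Ideal.ofList ts) j
      ↥(ExteriorAlgebra.exteriorPower A i (KaehlerDifferential ℤ A))) := by
  haveI : IsRegularRing A := Groth.Agent.CplFib6.isRegularRing_of_local A
  haveI : Module.Flat A (KaehlerDifferential ℤ A) := Groth.Agent.H1ExtFlat.flat_kaehler_of_regular p A
  haveI : Module.Flat A ↥(ExteriorAlgebra.exteriorPower A i (KaehlerDifferential ℤ A)) :=
    Groth.Agent.H1ExtFlat.flat_exteriorPower i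
  let M := ↥(ExteriorAlgebra.exteriorPower A i (KaehlerDifferential ℤ A))
  classical
  rcases lt_or_gt_of_ne hj with hlt | hgt
  · refine Groth.Agent.LC.H_subsingleton_of_qObj _ j (ModuleCat.of A M) fun m => ?_
    have gen : ∀ (N : Type u) [AddCommGroup N] [Module A N] [Module.Flat A N],
        RingTheory.Sequence.IsWeaklyRegular N ts := fun N _ _ _ =>
      ((TensorProduct.rid A N).isWeaklyRegular_congr ts).1
        (RingTheory.Sequence.IsWeaklyRegular.isWeaklyRegular_lTensor (M₂ := N) hreg.toIsWeaklyRegular)
    have hw : RingTheory.Sequence.IsWeaklyRegular M ts := gen M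
    exact Groth.Agent.S5150.result A (Ideal.ofList ts) M (A ⧸ Ideal.ofList ts ^ m) ts hw
      (fun r hr => Ideal.subset_span hr) m (Groth.Agent.LC.smul_qObj_eq_bot _ m) j hlt
  · have he : Ideal.ofList ts = Ideal.span (ts.toFinset : Set A) := by simp [Ideal.ofList]
    have hcd := Groth.Agent.LC.cdLE_span_finset ts.toFinset
    rw [he]
    exact hcd M j (lt_of_le_of_lt (List.toFinset_card_le ts) hgt)

end Groth.Agent.S17429
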