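import Groth.Statements.S17436
import Groth.Agent.DefoConnLib.Conn
-- import your own Groth.Agent.* helpers here

set_option autoImplicit false
set_option backward.isDefEq.respectTransparency false
set_option backward.isDefEq.respectTransparency.types false
universe u
open CategoryTheory AlgebraicGeometry
open DefoSh
open Groth.Agent.DefoConnLib

namespace Groth.Agent.S17436

/-- Let k be a field, X a scheme over k with a receptacle of differentials (Ω′, δ) over k, Ω′
quasi-coherent, and E a finite locally free O_X-module with a connection ∇ : E → E ⊗ Ω′. Let D be a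
first-order deformation of E (over k[ε]) with reduction π : D.sheaf → E, let ι : E → D.sheaf be
multiplication by ε (π ≫ ι = ε), and let c₀ be a deformation of ∇ over D (a connection on D.sheaf
commuting with k[ε] and reducing to ∇ along π). Then the deformations c of ∇ over D correspond
bijectively to the O_X-linear maps φ : E → E ⊗ Ω′ (the global sections of End(E) ⊗ Ω′ for a vector
bundle), the bijection Φ being pinned by c − c₀ = π ≫ Φ(c) ≫ (ι ⊗ 1). The printed statement is the
case of the trivial deformation E ⊕ εE; its clause on connections with fixed determinant is not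
stated. The published statement is for a curve with its sheaf of differentials; this row takes any
scheme over k with any quasi-coherent receptacle of differentials, which the printed computation
does not use. -/
theorem result (k : Type u) [Field k] (X : Scheme.{u})
    [X.Over (Spec (CommRingCat.of k))] (Ω' : X.Modules) (δ : OmegaSh.Der (X ↘ Spec (CommRingCat.of k)) Ω')
    (hΩ' : Coh.IsQCoh Ω') (E : X.Modules) (hE : FlatMod.IsFinLocFree E)
    (nabla : Coh.toAb E ⟶ Coh.toAb (CohB1.tensorMod E Ω')) (hn : ConnSh.IsConn δ E nabla)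
    (D : DefoSh.Defo E (ArtFun.Art.dual k k)) (ι : E ⟶ D.sheaf)
    (hι : D.π ≫ ι = D.act (DualNumber.eps : DualNumber k)) (c₀ : DefoSh.DefoConn δ nabla D) :
    ∃ Φ : DefoSh.DefoConn δ nabla D ≃ (E ⟶ CohB1.tensorMod E Ω'),
      ∀ c : DefoSh.DefoConn δ nabla D,
        c.conn - c₀.conn = (SheafOfModules.toSheaf X.ringCatSheaf).map (D.π ≫ Φ c ≫ KoszTw.tensorMap ι (𝟙 Ω')) := by
  classical
  haveI := epi_π D
  haveI := (shortExact_tensor D hE Ω' hι).mono_f
  haveI : Mono ((T Ω').map ι) := (shortExact_tensor D hE Ω' hι).mono_f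
  choose φ hφ using fun c : DefoSh.DefoConn δ nabla D => exists_factor hE hι c c₀
  have hconn : ∀ c, c.conn - c₀.conn = ab (N := CohB1.tensorMod D.sheaf Ω') (D.π ≫ φ c ≫ (T Ω').map ι) := fun c => by
    rw [← hφ c]
    exact (toAb_homOfLinear _ _).symm
  have huniq : ∀ ψ ψ' : E ⟶ CohB1.tensorMod E Ω',
      ab (N := CohB1.tensorMod D.sheaf Ω') (D.π ≫ ψ ≫ (T Ω').map ι) =
        ab (N := CohB1.tensorMod D.sheaf Ω') (D.π ≫ ψ' ≫ (T Ω').map ι) → ψ = ψ' := fun ψ ψ' h => by
    have h2 := (SheafOfModules.toSheaf X.ringCatSheaf).map_injective h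
    exact (cancel_mono _).1 ((cancel_epi D.π).1 h2)
  refine ⟨⟨φ, translate hι c₀, fun c => ?_, fun ψ => ?_⟩, fun c => ?_⟩
  · obtain ⟨conn, h1, h2, h3⟩ := c
    have h : (translate hι c₀ (φ ⟨conn, h1, h2, h3⟩)).conn = conn := by
      show c₀.conn + _ = conn
      rw [← hconn ⟨conn, h1, h2, h3⟩]
      exact add_sub_cancel _ _
    revert h
    generalize translate hι c₀ (φ ⟨conn, h1, h2, h3⟩) = t
    intro h
    obtain ⟨conn', _, _, _⟩ := t
    subst h
    rfl
  · refine huniq _ _ ((hconn _).symm.trans ?_)
    show c₀.conn + _ - c₀.conn = _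
    exact add_sub_cancel_left _ _
  · show c.conn - c₀.conn = _
    rw [tensorMap_eq]
    exact hconn c

end Groth.Agent.S17436
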