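import Groth.Statements.S1744
import Groth.Agent.LC.CohBasic

set_option autoImplicit false
universe u
open CategoryTheory
attribute [local instance] HasDerivedCategory.standard
open LocCoh

namespace Groth.Agent.S1744

/-- Let I be an ideal of a Noetherian ring A and e a natural number with cd(A, I) ≤ e. For every n ≥ 1
there is m > n such that for every A-module N and every i > e, precomposing with A/I^m → A/I^n kills
every map A/I^n → N[i] in D(A), i.e. the transition maps annihilate Ext^i_A(A/I^n, N) for i > e. -/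
theorem result (A : Type u) [CommRing A] [IsNoetherianRing A] (I : Ideal A) (e : ℕ) (he : LocCoh.CdLE A I e) (n : ℕ) (hn : 1 ≤ n) : ∃ (m : ℕ) (hm : n < m), ∀ (N : Type u) [AddCommGroup N] [Module A N] (i : ℕ), e < i → ∀ φ : Dual.inD A (A ⧸ I ^ n) ⟶ (Dual.inD A N)⟦(i : ℤ)⟧, (DerivedCategory.singleFunctor (ModuleCat.{u} A) 0).map (ModuleCat.ofHom (Submodule.mapQ (I ^ m) (I ^ n) LinearMap.id (Ideal.pow_le_pow_right (Nat.le_of_lt hm)))) ≫ φ = 0 := by
  have key : ∀ (X : ModuleCat.{u} A) (j : ℕ), ∃ (Ω : ModuleCat.{u} A) (u : Abelian.Ext X Ω j),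
      ∀ (N : ModuleCat.{u} A) (r t : ℕ) (ht : j + r = t) (x : Abelian.Ext X N t),
        ∃ y : Abelian.Ext Ω N r, u.comp y ht = x := by
    intro X j
    induction j with
    | zero =>
      refine ⟨X, Abelian.Ext.mk₀ (𝟙 X), fun N r t ht x => ?_⟩
      obtain rfl : r = t := by omega
      exact ⟨x, Abelian.Ext.mk₀_id_comp x⟩
    | succ j ih =>
      obtain ⟨Ω, u, hu⟩ := ih
      let S := ShortComplex.mk (Limits.kernel.ι (Projective.π Ω)) (Projective.π Ω)
        (Limits.kernel.condition _)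
      have hS : S.ShortExact :=
        { exact := ShortComplex.exact_of_f_is_kernel _ (Limits.kernelIsKernel _) }
      refine ⟨S.X₁, u.comp hS.extClass rfl, fun N r t ht x => ?_⟩
      obtain ⟨y', hy'⟩ := hu N (r + 1) t (by omega) x
      haveI : Projective S.X₂ := Projective.projective_over Ω
      obtain ⟨y, hy⟩ := Abelian.Ext.contravariant_sequence_exact₃ hS N y'
        (Abelian.Ext.eq_zero_of_projective _) (n₀ := r)
        (show 1 + r = r + 1 by omega)
      refine ⟨y, ?_⟩
      rw [Abelian.Ext.comp_assoc u hS.extClass y rfl (show 1 + r = r + 1 by omega) (by omega), hy,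
        hy']
  obtain ⟨Ω, u, hu⟩ := key (Groth.Agent.LC.qObj I n) (e + 1)
  haveI : Subsingleton ((localCohomology I (e + 1)).obj Ω) := he Ω (e + 1) (by omega)
  obtain ⟨m, hm, hmu⟩ := (Groth.Agent.LC.toH_eq_zero_iff I (e + 1) u).1 (Subsingleton.elim _ _)
  refine ⟨m + n + 1, by omega, fun N _ _ i hi φ => ?_⟩
  have hmu' : Groth.Agent.LC.res I (show n ≤ m + n + 1 by omega) (e + 1) Ω u = 0 := by
    rw [← Groth.Agent.LC.res_res I hm (show m ≤ m + n + 1 by omega), hmu, map_zero]
  obtain ⟨x, rfl⟩ := (Abelian.Ext.homEquiv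
    (X := Groth.Agent.LC.qObj I n) (Y := ModuleCat.of A N) (n := i)).surjective φ
  obtain ⟨y, rfl⟩ := hu (ModuleCat.of A N) (i - (e + 1)) i (by omega) x
  have h0 := congrArg Abelian.Ext.hom (Groth.Agent.LC.res_comp I (show n ≤ m + n + 1 by omega)
    (show e + 1 + (i - (e + 1)) = i by omega) u y)
  rw [hmu', Abelian.Ext.zero_comp, Abelian.Ext.zero_hom, Groth.Agent.LC.res_apply,
    Abelian.Ext.comp_hom, Abelian.Ext.mk₀_hom, ShiftedHom.mk₀_comp] at h0
  exact h0

end Groth.Agent.S1744
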