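import Groth.Statements.S17440
import Groth.Agent.DefoTriv.Basic

set_option autoImplicit false
set_option maxHeartbeats 1600000
universe u
open CategoryTheory AlgebraicGeometry
open DefoSh

namespace Groth.Agent.S17440

set_option backward.isDefEq.respectTransparency false
set_option backward.isDefEq.respectTransparency.types false

/-- Let k be a field, X a scheme over k, E a finite locally free O_X-module and D a first-order
deformation of E, with reduction π : D.sheaf → E. Then D is locally trivial: every point of X has an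
open neighbourhood U together with an isomorphism of O_U-modules between the restrictions to U of
D.sheaf and of E ⊕ εE which commutes with the actions of k[ε] and with the reductions to E. In
particular the deformed module is again a vector bundle over the dual numbers. -/
theorem result (k : Type u) [Field k] (X : Scheme.{u})
    [X.Over (Spec (CommRingCat.of k))] (E : X.Modules) (hE : FlatMod.IsFinLocFree E)
    (D : DefoSh.Defo E (ArtFun.Art.dual k k)) (x : X) :
    ∃ (U : X.Opens) (e : D.sheaf.restrict U.ι ≅ (DefoSh.Defo.trivDual k E).sheaf.restrict U.ι), x ∈ U ∧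
      e.hom ≫ (Scheme.Modules.restrictFunctor U.ι).map (DefoSh.Defo.trivDual k E).π =
        (Scheme.Modules.restrictFunctor U.ι).map D.π ∧
      ∀ a : ArtFun.Art.dual k k, (Scheme.Modules.restrictFunctor U.ι).map (D.act a) ≫ e.hom =
        e.hom ≫ (Scheme.Modules.restrictFunctor U.ι).map ((DefoSh.Defo.trivDual k E).act a) := by
  haveI := Groth.Agent.DefoConnLib.epi_π D
  obtain ⟨U₀, n, hxU, ⟨e⟩⟩ := hE x
  let R₀ := Scheme.Modules.restrictFunctor U₀.ι
  haveI : Epi (R₀.map D.π) := by
    haveI := (Scheme.Modules.restrictAdjunction U₀.ι).leftAdjoint_preservesColimits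
    infer_instance
  let p : D.sheaf.restrict U₀.ι ⟶ FlatMod.freeMod U₀ n := R₀.map D.π ≫ e.hom
  haveI : Epi p := epi_comp _ _
  have hp : Function.Surjective (RefHull.stalkMapₗ p (⟨x, hxU⟩ : (U₀ : Scheme.{u}))) :=
    (ModuleCat.epi_iff_surjective _).1 (inferInstance : Epi ((DerSch.stalkFunctor (U₀ : Scheme.{u}) ⟨x, hxU⟩).map p))
  obtain ⟨W, hxW, σ, hσ⟩ := Groth.Agent.DefoTriv.exists_section_nhd p ⟨x, hxU⟩ hp
  let U : X.Opens := U₀.ι ''ᵁ W
  let k' : (U : Scheme.{u}) ⟶ (W : Scheme.{u}) := (U₀.ι.isoImage W).inv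
  have hk : k' ≫ W.ι ≫ U₀.ι = U.ι := by
    rw [← U₀.ι.isoImage_hom_ι W]
    simp [k', U]
  let R := Scheme.Modules.restrictFunctor U.ι
  let c : R ≅ (R₀ ⋙ Scheme.Modules.restrictFunctor W.ι) ⋙ Scheme.Modules.restrictFunctor k' :=
    Scheme.Modules.restrictFunctorCongr hk.symm ≪≫ Scheme.Modules.restrictFunctorComp k' (W.ι ≫ U₀.ι) ≪≫
      Functor.isoWhiskerRight (Scheme.Modules.restrictFunctorComp W.ι U₀.ι) _
  let s : R.obj E ⟶ R.obj D.sheaf := c.hom.app E ≫
    (Scheme.Modules.restrictFunctor k').map ((Scheme.Modules.restrictFunctor W.ι).map e.hom ≫ σ) ≫ c.inv.app D.sheaf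
  have hs : s ≫ R.map D.π = 𝟙 _ := by
    have h2 : σ ≫ (Scheme.Modules.restrictFunctor W.ι).map (R₀.map D.π) = (Scheme.Modules.restrictFunctor W.ι).map e.inv := by
      have h3 : σ ≫ (Scheme.Modules.restrictFunctor W.ι).map (R₀.map D.π) ≫ (Scheme.Modules.restrictFunctor W.ι).map e.hom = 𝟙 _ := by
        rw [← CategoryTheory.Functor.map_comp]; exact hσ
      rw [← cancel_mono ((Scheme.Modules.restrictFunctor W.ι).map e.hom), Category.assoc, h3,
        ← CategoryTheory.Functor.map_comp, e.inv_hom_id, CategoryTheory.Functor.map_id]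
    simp only [s, Category.assoc]
    rw [← c.inv.naturality D.π]
    simp only [Functor.comp_map]
    rw [← Category.assoc ((Scheme.Modules.restrictFunctor k').map _), ← CategoryTheory.Functor.map_comp, Category.assoc, h2,
      ← CategoryTheory.Functor.map_comp, e.hom_inv_id]
    erw [CategoryTheory.Functor.map_id]
    exact (congrArg (_ ≫ ·) (Category.id_comp _)).trans (c.hom_inv_id_app E)
  obtain ⟨ι, hι⟩ := Groth.Agent.DefoConnLib.exists_ι D
  haveI := (Scheme.Modules.restrictAdjunction U.ι).leftAdjoint_preservesColimits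
  haveI : R.PreservesZeroMorphisms := inferInstance
  have hS := (Groth.Agent.DefoConnLib.shortExact D hι).map_of_exact R
  haveI := hS.mono_f
  let sp := ShortComplex.Splitting.ofExactOfSection _ hS.exact s hs inferInstance
  let r : R.obj D.sheaf ⟶ R.obj E := sp.r
  have hr : R.map ι ≫ r = 𝟙 _ := sp.f_r
  have hsum : r ≫ R.map ι + R.map D.π ≫ s = 𝟙 _ := sp.id
  have hιπ : R.map ι ≫ R.map D.π = 0 := by
    rw [← CategoryTheory.Functor.map_comp, Groth.Agent.DefoConnLib.ι_π D hι, R.map_zero]
  have hsr : s ≫ r = 0 := sp.s_r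
  let T := E ⊞ E
  let ψ : R.obj D.sheaf ⟶ R.obj T := R.map D.π ≫ R.map (Limits.biprod.inl : E ⟶ T) + r ≫ R.map (Limits.biprod.inr : E ⟶ T)
  let φ : R.obj T ⟶ R.obj D.sheaf := R.map (Limits.biprod.fst : T ⟶ E) ≫ s + R.map (Limits.biprod.snd : T ⟶ E) ≫ R.map ι
  have i1 : R.map (Limits.biprod.inl : E ⟶ T) ≫ R.map (Limits.biprod.fst : T ⟶ E) = 𝟙 _ := by simp [← CategoryTheory.Functor.map_comp, T]
  have i2 : R.map (Limits.biprod.inr : E ⟶ T) ≫ R.map (Limits.biprod.snd : T ⟶ E) = 𝟙 _ := by simp [← CategoryTheory.Functor.map_comp, T]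
  have i3 : R.map (Limits.biprod.inl : E ⟶ T) ≫ R.map (Limits.biprod.snd : T ⟶ E) = 0 := by simp [← CategoryTheory.Functor.map_comp, T]
  have i4 : R.map (Limits.biprod.inr : E ⟶ T) ≫ R.map (Limits.biprod.fst : T ⟶ E) = 0 := by simp [← CategoryTheory.Functor.map_comp, T]
  have i5 : R.map (Limits.biprod.fst : T ⟶ E) ≫ R.map (Limits.biprod.inl : E ⟶ T) + R.map (Limits.biprod.snd : T ⟶ E) ≫ R.map (Limits.biprod.inr : E ⟶ T) = 𝟙 _ := by
    simp [← CategoryTheory.Functor.map_comp, ← Functor.map_add, T]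
  let eU : R.obj D.sheaf ≅ R.obj T :=
    { hom := ψ
      inv := φ
      hom_inv_id := by
        simp only [ψ, φ, Preadditive.add_comp, Preadditive.comp_add, Category.assoc, reassoc_of% i1, reassoc_of% i2,
          reassoc_of% i3, reassoc_of% i4, Limits.zero_comp, Limits.comp_zero, add_zero, zero_add]
        rw [add_comm]; exact hsum
      inv_hom_id := by
        simp only [ψ, φ, Preadditive.add_comp, Preadditive.comp_add, Category.assoc, reassoc_of% hs, reassoc_of% hr,
          reassoc_of% hιπ, reassoc_of% hsr, Limits.zero_comp, Limits.comp_zero, add_zero, zero_add]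
        exact i5 }
  have hψπ : ψ ≫ R.map (Limits.biprod.fst : T ⟶ E) = R.map D.π := by
    simp only [ψ, Preadditive.add_comp, Category.assoc, i1, i4, Category.comp_id, Limits.comp_zero, add_zero]
  -- global constants commute with morphisms over `U`
  have hnat : ∀ (r : k) {M N : X.Modules} (f : R.obj M ⟶ R.obj N),
      R.map (Formal.smulMod k M r) ≫ f = f ≫ R.map (Formal.smulMod k N r) :=
    fun r _ _ f => Groth.Agent.DefoTriv.map_smulModΓ_comm U.ι _ f
  have hdec : ∀ (M : DefoSh.Defo E (ArtFun.Art.dual k k)) (a : ArtFun.Art.dual k k),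
      R.map (M.act a) = R.map (Formal.smulMod k M.sheaf (TrivSqZeroExt.fst (a : DualNumber k))) +
        R.map (M.act (DualNumber.eps : DualNumber k)) ≫ R.map (Formal.smulMod k M.sheaf (TrivSqZeroExt.snd (a : DualNumber k))) := by
    intro M a
    conv_lhs => rw [Groth.Agent.DefoConnLib.eq_decomp a, map_add, map_mul, End.mul_def, M.act_algebraMap, M.act_algebraMap]
    rw [← CategoryTheory.Functor.map_comp, ← Functor.map_add]
  have h1 : R.map (D.act (DualNumber.eps : DualNumber k)) ≫ ψ = R.map D.π ≫ R.map (Limits.biprod.inr : E ⟶ T) := by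
    rw [← hι, CategoryTheory.Functor.map_comp, Category.assoc]
    simp only [ψ, Preadditive.comp_add, reassoc_of% hιπ, reassoc_of% hr, Limits.zero_comp, zero_add]
  have h2 : ψ ≫ R.map ((DefoSh.Defo.trivDual k E).act (DualNumber.eps : DualNumber k)) = R.map D.π ≫ R.map (Limits.biprod.inr : E ⟶ T) := by
    have h3 : (DefoSh.Defo.trivDual k E).act (DualNumber.eps : DualNumber k) = (Limits.biprod.fst : T ⟶ E) ≫ Limits.biprod.inr :=
      DefoSh.dualAct_eps (k := k) E
    rw [h3]
    erw [R.map_comp]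
    exact (Category.assoc _ _ _).symm.trans (congrArg (· ≫ R.map (Limits.biprod.inr : E ⟶ T)) hψπ)
  refine ⟨U, eU, ⟨⟨x, hxU⟩, hxW, rfl⟩, hψπ, fun a => ?_⟩
  show R.map (D.act a) ≫ ψ = ψ ≫ R.map ((DefoSh.Defo.trivDual k E).act a)
  rw [hdec D a, hdec (DefoSh.Defo.trivDual k E) a]
  refine (Preadditive.add_comp _ _ _ _ _ ψ).trans
    ((congrArg₂ (· + ·) (hnat _ ψ) ?_).trans (Preadditive.comp_add _ _ _ ψ _ _).symm)
  refine (Category.assoc _ _ _).trans ((congrArg (_ ≫ ·) (hnat _ ψ)).trans ?_)
  exact ((Category.assoc _ _ _).symm.trans (congrArg (· ≫ _) (h1.trans h2.symm))).trans (Category.assoc _ _ _)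

end Groth.Agent.S17440
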