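import Groth.Statements.S17447
import Groth.Agent.AlgGlue.ZMT
import Groth.Agent.S17971
import Groth.Agent.S17461
import Mathlib.AlgebraicGeometry.Artinian

set_option autoImplicit false
universe u
open CategoryTheory CategoryTheory.Limits AlgebraicGeometry
open Hensel

namespace Groth.Agent.S17447

/-- Let R be a henselian local ring and X → Spec R a quasi-finite separated morphism (locally of finite
type, quasi-compact, with discrete fibres). Then X decomposes uniquely as the disjoint union of an
open and closed subscheme finite over Spec R and an open and closed subscheme with empty special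
fibre: there is exactly one open subset W of X which is closed, finite over Spec R (as an open
subscheme) and contains every point lying over the closed point of Spec R. (No Noetherian hypothesis
on R.) -/
theorem result (R : Type u) [CommRing R] [HenselianLocalRing R]
    {X : Scheme.{u}} (f : X ⟶ Spec (CommRingCat.of R))
    [LocallyQuasiFinite f] [LocallyOfFiniteType f] [QuasiCompact f] [IsSeparated f] :
    ∃! W : X.Opens, IsClosed (W : Set X) ∧ IsFinite (W.ι ≫ f) ∧
      ∀ x : X, f.base x = IsLocalRing.closedPoint R → x ∈ W := by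
  let I := IsLocalRing.maximalIdeal R
  let i : Spec (CommRingCat.of (IsLocalRing.ResidueField R)) ⟶ Spec (CommRingCat.of R) :=
    Spec.map (CommRingCat.ofHom (IsLocalRing.residue R))
  have hi : Set.range i.base = {IsLocalRing.closedPoint R} :=
    (range_comap_of_surjective _ _ IsLocalRing.residue_surjective).trans (by
      rw [IsLocalRing.ker_residue]
      exact ((PrimeSpectrum.closure_singleton (IsLocalRing.closedPoint R)).symm.trans
        (IsLocalRing.isClosed_singleton_closedPoint R).closure_eq))
  have hR : HenselianRing R I := inferInstance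
  obtain ⟨T, j, π, hj, -, hπ, hjπ⟩ := Groth.Agent.AlgGlue.exists_finite_factor f
  haveI : IsLocallyArtinian (pullback π i) := IsLocallyArtinian.of_locallyQuasiFinite (pullback.snd π i)
  obtain ⟨U, ⟨hU, hUV⟩, -⟩ := (Groth.Agent.S17971.result R I).1 hR T π hπ
    ((pullback.fst π i).base ⁻¹' Set.range j.base) (@isClopen_discrete ↥(pullback π i) _ inferInstance _)
  have hfib : ∀ t : T, π.base t = IsLocalRing.closedPoint R → (t ∈ U ↔ t ∈ Set.range j.base) := by
    intro t ht
    obtain ⟨y, hy⟩ : IsLocalRing.closedPoint R ∈ Set.range i.base := hi.symm ▸ Set.mem_singleton _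
    obtain ⟨w, hw, -⟩ := Scheme.Pullback.exists_preimage_pullback (f := π) (g := i) t y (ht.trans hy.symm)
    rw [← hw]
    exact Set.ext_iff.1 hUV w
  have hUj : U ⊆ Set.range j.base := by
    intro t ht
    by_contra htj
    have hC : IsClosed (π.base '' (U \ Set.range j.base)) :=
      π.isClosedMap _ (hU.1.sdiff j.isOpenEmbedding.isOpen_range)
    obtain ⟨t', ⟨ht'U, ht'j⟩, ht'⟩ :=
      (IsLocalRing.specializes_closedPoint (π.base t)).mem_closed hC ⟨t, ⟨ht, htj⟩, rfl⟩
    exact ht'j ((hfib t' ht').1 ht'U)
  let W : X.Opens := ⟨j.base ⁻¹' U, hU.2.preimage j.continuous⟩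
  have hk : Set.range (W.ι ≫ j).base = U := by
    ext t
    constructor
    · rintro ⟨a, rfl⟩; exact a.2
    · intro ht
      obtain ⟨a, rfl⟩ := hUj ht
      exact ⟨⟨a, ht⟩, rfl⟩
  haveI : IsClosedImmersion (W.ι ≫ j) := IsClosedImmersion.of_isPreimmersion _ (hk ▸ hU.1)
  have hW : IsClosed (W : Set X) ∧ IsFinite (W.ι ≫ f) ∧
      ∀ x : X, f.base x = IsLocalRing.closedPoint R → x ∈ W := by
    refine ⟨hU.1.preimage j.continuous, ?_, fun x hx => (hfib (j.base x) ?_).2 ⟨x, rfl⟩⟩
    · rw [← hjπ, ← Category.assoc]; infer_instance
    · exact (congrArg (fun g => g.base x) hjπ).trans hx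
  refine ⟨W, hW, fun W' hW' => le_antisymm (fun x hx => ?_) fun x hx => ?_⟩
  · exact Groth.Agent.S17461.result R f f W' hW' W hW (𝟙 X) (Category.id_comp f) x hx
  · exact Groth.Agent.S17461.result R f f W hW W' hW' (𝟙 X) (Category.id_comp f) x hx

end Groth.Agent.S17447
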