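import Groth.Statements.S5036
import Groth.Agent.AlgGlue.ZMT
import Groth.Agent.AlgSpLib.EtLocalInst
import Groth.Agent.S5057
import Mathlib.AlgebraicGeometry.Morphisms.FlatMono

set_option autoImplicit false
open CategoryTheory CategoryTheory.Limits AlgebraicGeometry
universe u
open Hensel

namespace Groth.Agent.S5036

/-- a) implies b): let S be a quasi-compact quasi-separated scheme and i : S₀ ⟶ S a closed immersion.
Suppose that for every finite morphism g : S' ⟶ S, every open-closed subset of S' ×_S S₀ is the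
inverse image under the first projection of exactly one open-closed subset of S'. Then for every
étale separated morphism g : S' ⟶ S and every section u₀ of S' ×_S S₀ ⟶ S₀ there is exactly one
section u of g whose restriction to S₀ is u₀ (that is, i ≫ u = u₀ followed by the first projection). -/
theorem result {S S₀ : Scheme.{u}} (i : S₀ ⟶ S) [IsClosedImmersion i]
    [CompactSpace ↥S] [QuasiSeparatedSpace ↥S]
    (ha : ∀ (S' : Scheme.{u}) (g : S' ⟶ S), IsFinite g →
      ∀ V : Set ↥(pullback g i), IsClopen V → ∃! U : Set ↥S', IsClopen U ∧ (pullback.fst g i).base ⁻¹' U = V)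
    {S' : Scheme.{u}} (g : S' ⟶ S) [Etale g] [IsSeparated g]
    (u₀ : S₀ ⟶ pullback g i) (hu₀ : u₀ ≫ pullback.snd g i = 𝟙 S₀) :
    ∃! u : S ⟶ S', u ≫ g = 𝟙 S ∧ i ≫ u = u₀ ≫ pullback.fst g i := by
  have hS : ∀ U : Set ↥S, IsOpen U → Set.range i.base ⊆ U → U = Set.univ := fun U hU hiU =>
    Groth.Agent.S5057.result i ha (𝟙 S) U hU (by
      rintro _ ⟨w, rfl⟩
      refine hiU ⟨(pullback.snd (𝟙 S) i).base w, ?_⟩
      show (pullback.snd (𝟙 S) i ≫ i).base w = _
      rw [← pullback.condition, Category.comp_id])
  -- uniqueness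
  have huniq : ∀ u u' : S ⟶ S', u ≫ g = 𝟙 S → u' ≫ g = 𝟙 S → i ≫ u = i ≫ u' → u = u' := by
    intro u u' hu hu' h
    let q := pullback.lift u u' (hu.trans hu'.symm)
    let E := pullback.fst q (pullback.diagonal g)
    have hE : Set.range E.base = Set.univ := by
      refine hS _ E.isOpenEmbedding.isOpen_range ?_
      let l : S₀ ⟶ pullback q (pullback.diagonal g) := pullback.lift i (i ≫ u) (by
        apply pullback.hom_ext <;> simp only [q, h, Category.assoc, pullback.lift_fst, pullback.lift_snd, pullback.lift_fst_assoc, pullback.lift_snd_assoc, pullback.diagonal_fst, pullback.diagonal_snd, Category.comp_id, Category.id_comp])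
      rintro _ ⟨x, rfl⟩
      refine ⟨l.base x, ?_⟩
      show (l ≫ E).base x = _
      rw [pullback.lift_fst]
    haveI : Surjective E := ⟨Set.range_eq_univ.1 hE⟩
    haveI : IsIso E := (isIso_iff_isOpenImmersion_and_surjective E).2 ⟨inferInstance, inferInstance⟩
    rw [← cancel_epi E]
    have h1 := congrArg (· ≫ pullback.fst g g) (pullback.condition (f := q) (g := pullback.diagonal g))
    have h2 := congrArg (· ≫ pullback.snd g g) (pullback.condition (f := q) (g := pullback.diagonal g))
    simp only [q, Category.assoc, pullback.lift_fst, pullback.lift_snd, pullback.lift_fst_assoc, pullback.lift_snd_assoc, pullback.diagonal_fst, pullback.diagonal_snd, Category.comp_id, Category.id_comp] at h1 h2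
    exact h1.trans h2.symm
  -- a quasi-compact neighbourhood of the given section
  haveI : CompactSpace ↥S₀ := QuasiCompact.compactSpace_of_compactSpace i
  let s₀ := u₀ ≫ pullback.fst g i
  have hs₀g : s₀ ≫ g = i := by
    simp only [s₀, Category.assoc, pullback.condition, ← Category.assoc u₀, hu₀, Category.id_comp]
  obtain ⟨W₀, hW₀, hs₀W⟩ : ∃ W₀ : S'.Opens, IsCompact (W₀ : Set ↥S') ∧ Set.range s₀.base ⊆ W₀ := by
    have hpt : ∀ x : ↥S', ∃ A : S'.Opens, IsAffineOpen A ∧ x ∈ A := fun x => by
      obtain ⟨_, ⟨A, hA, rfl⟩, hxA, -⟩ := S'.isBasis_affineOpens.exists_subset_of_mem_open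
        (Set.mem_univ x) isOpen_univ
      exact ⟨A, hA, hxA⟩
    choose A hA hxA using hpt
    obtain ⟨t, ht⟩ := (isCompact_range s₀.continuous).elim_finite_subcover
      (fun x => (A x : Set ↥S')) (fun x => (A x).2) (fun x _ => Set.mem_iUnion.2 ⟨x, hxA x⟩)
    refine ⟨⟨⋃ x ∈ t, (A x : Set ↥S'), isOpen_biUnion fun x _ => (A x).2⟩, ?_, ht⟩
    exact t.isCompact_biUnion fun x _ => (hA x).isCompact
  haveI : CompactSpace ↥W₀.toScheme := isCompact_iff_compactSpace.1 hW₀
  let gW := W₀.ι ≫ g
  haveI : QuasiCompact gW := quasiCompact_of_compactSpace gW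
  obtain ⟨T, j, π, hj, -, hπ, hjπ⟩ := Groth.Agent.AlgGlue.exists_finite_factor gW
  let s : S₀ ⟶ W₀.toScheme := IsOpenImmersion.lift W₀.ι s₀ (by rw [Scheme.Opens.range_ι]; exact hs₀W)
  have hsι : s ≫ W₀.ι = s₀ := IsOpenImmersion.lift_fac _ _ _
  have hsg : s ≫ gW = i := by simp only [gW, ← Category.assoc, hsι, hs₀g]
  -- the section inside the fibre of the finite scheme is open and closed
  let σ : S₀ ⟶ pullback π i := pullback.lift (s ≫ j) (𝟙 S₀) (by
    rw [Category.assoc, hjπ, hsg, Category.id_comp])
  haveI : IsClosedImmersion σ := by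
    haveI : IsClosedImmersion (σ ≫ pullback.snd π i) := by rw [pullback.lift_snd]; infer_instance
    exact IsClosedImmersion.of_comp σ (pullback.snd π i)
  haveI : IsOpenImmersion σ := by
    let σ' : S₀ ⟶ pullback gW i := pullback.lift s (𝟙 S₀) (by rw [hsg, Category.id_comp])
    haveI : Etale (σ' ≫ pullback.snd gW i) := by rw [pullback.lift_snd]; infer_instance
    haveI : Etale σ' := Etale.of_comp σ' (pullback.snd gW i)
    haveI : IsSplitMono σ' := IsSplitMono.mk' ⟨pullback.snd gW i, pullback.lift_snd _ _ _⟩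
    haveI : IsOpenImmersion σ' := IsOpenImmersion.of_flat_of_mono σ'
    let m : pullback gW i ⟶ pullback π i := pullback.map gW i π i j (𝟙 _) (𝟙 _) (by rw [Category.comp_id, hjπ]) (by simp)
    haveI : IsOpenImmersion m := by
      haveI := hj
      infer_instance
    have : σ = σ' ≫ m := by apply pullback.hom_ext <;> simp only [σ, σ', m, pullback.map, Category.assoc, pullback.lift_fst, pullback.lift_snd, pullback.lift_fst_assoc, pullback.lift_snd_assoc, pullback.diagonal_fst, pullback.diagonal_snd, Category.comp_id, Category.id_comp]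
    rw [this]; infer_instance
  have hσ : IsClopen (Set.range σ.base) := ⟨σ.isClosedEmbedding.isClosed_range, σ.isOpenEmbedding.isOpen_range⟩
  obtain ⟨U, ⟨hU, hUV⟩, -⟩ := ha T π hπ _ hσ
  have hmemU : ∀ w, (pullback.fst π i).base w ∈ U ↔ w ∈ Set.range σ.base := fun w => by
    rw [← hUV]; rfl
  have hUj : U ⊆ Set.range j.base := by
    have hC : IsClosed (U \ Set.range j.base) := hU.1.sdiff j.isOpenEmbedding.isOpen_range
    have h1 := hS (π.base '' (U \ Set.range j.base))ᶜ (π.isClosedMap _ hC).isOpen_compl (by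
      rintro _ ⟨x, rfl⟩ ⟨t, ⟨htU, htj⟩, htx⟩
      obtain ⟨w, hw, -⟩ := Scheme.Pullback.exists_preimage_pullback (f := π) (g := i) t x htx
      obtain ⟨y, hy⟩ := (hmemU w).1 (hw ▸ htU)
      refine htj ⟨s.base y, ?_⟩
      show (s ≫ j).base y = t
      rw [← hw, ← hy, ← pullback.lift_fst (f := π) (g := i) (s ≫ j) (𝟙 S₀) (by
        rw [Category.assoc, hjπ, hsg, Category.id_comp])]
      rfl)
    intro t ht
    by_contra htj
    have : π.base t ∈ (π.base '' (U \ Set.range j.base))ᶜ := h1 ▸ Set.mem_univ _
    exact this ⟨t, ⟨ht, htj⟩, rfl⟩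
  -- the open closed piece
  let U' : W₀.toScheme.Opens := ⟨j.base ⁻¹' U, hU.2.preimage j.continuous⟩
  let z : U'.toScheme ⟶ S := U'.ι ≫ gW
  let k : U'.toScheme ⟶ T := U'.ι ≫ j
  have hk : Set.range k.base = U := by
    ext t
    constructor
    · rintro ⟨a, rfl⟩; exact a.2
    · intro ht
      obtain ⟨a, rfl⟩ := hUj ht
      exact ⟨⟨a, ht⟩, rfl⟩
  haveI : IsClosedImmersion k := IsClosedImmersion.of_isPreimmersion k (hk ▸ hU.1)
  haveI : IsFinite z := by
    have : z = k ≫ π := by simp only [z, k, Category.assoc, hjπ]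
    rw [this]; infer_instance
  let s' : S₀ ⟶ U'.toScheme := IsOpenImmersion.lift U'.ι s (by
    rw [Scheme.Opens.range_ι]
    rintro _ ⟨x, rfl⟩
    show j.base (s.base x) ∈ U
    have := (hmemU (σ.base x)).2 ⟨x, rfl⟩
    rw [show (pullback.fst π i).base (σ.base x) = (σ ≫ pullback.fst π i).base x from rfl,
      pullback.lift_fst] at this
    exact this)
  have hs'z : s' ≫ z = i := by simp only [z, s', ← Category.assoc, IsOpenImmersion.lift_fac, hsg]
  -- its fibre is the base
  haveI : Mono (pullback.snd z i) := by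
    let m : pullback z i ⟶ pullback π i := pullback.map z i π i k (𝟙 _) (𝟙 _)
      (by simp only [Category.comp_id, z, k, Category.assoc, hjπ]) (by simp)
    haveI : IsOpenImmersion m := by
      haveI := hj
      infer_instance
    let m' := IsOpenImmersion.lift σ m (by
      rintro _ ⟨w, rfl⟩
      refine (hmemU _).1 ?_
      show (m ≫ pullback.fst π i).base w ∈ U
      rw [pullback.lift_fst]
      exact hk ▸ Set.mem_range_self ((pullback.fst z i).base w))
    have hm' : m' ≫ σ = m := IsOpenImmersion.lift_fac _ _ _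
    have : m' = pullback.snd z i := by
      have := congrArg (· ≫ pullback.snd π i) hm'
      simpa only [σ, m, pullback.map, Category.assoc, pullback.lift_fst, pullback.lift_snd, pullback.lift_fst_assoc, pullback.lift_snd_assoc, pullback.diagonal_fst, pullback.diagonal_snd, Category.comp_id, Category.id_comp] using this
    rw [← this]
    exact mono_of_mono_fac hm'
  haveI : Mono z := by
    rw [← pullback.isIso_diagonal_iff]
    haveI : IsFinite (pullback.fst z z ≫ z) := inferInstance
    have h1 := Groth.Agent.S5057.result i ha (pullback.fst z z ≫ z) _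
      (pullback.diagonal z).isOpenEmbedding.isOpen_range (by
        rintro _ ⟨w, rfl⟩
        let p := pullback.fst (pullback.fst z z ≫ z) i
        let a : pullback (pullback.fst z z ≫ z) i ⟶ pullback z i :=
          pullback.lift (p ≫ pullback.fst z z) (pullback.snd _ _) (by rw [Category.assoc]; exact pullback.condition)
        let b : pullback (pullback.fst z z ≫ z) i ⟶ pullback z i :=
          pullback.lift (p ≫ pullback.snd z z) (pullback.snd _ _) (by
            rw [Category.assoc, ← pullback.condition]; exact pullback.condition)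
        have hab : a = b := by rw [← cancel_mono (pullback.snd z i)]; simp only [a, b, Category.assoc, pullback.lift_fst, pullback.lift_snd, pullback.lift_fst_assoc, pullback.lift_snd_assoc, pullback.diagonal_fst, pullback.diagonal_snd, Category.comp_id, Category.id_comp]
        have hp : p ≫ pullback.fst z z = p ≫ pullback.snd z z := by
          simpa only [a, b, Category.assoc, pullback.lift_fst, pullback.lift_snd, pullback.lift_fst_assoc, pullback.lift_snd_assoc, pullback.diagonal_fst, pullback.diagonal_snd, Category.comp_id, Category.id_comp] using congrArg (· ≫ pullback.fst z i) hab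
        have hpd : (p ≫ pullback.fst z z) ≫ pullback.diagonal z = p := by
          apply pullback.hom_ext <;> simp [hp]
        exact ⟨(p ≫ pullback.fst z z).base w, congrArg (fun f => f.base w) hpd⟩)
    haveI : Surjective (pullback.diagonal z) := ⟨Set.range_eq_univ.1 h1⟩
    exact (isIso_iff_isOpenImmersion_and_surjective _).2 ⟨inferInstance, inferInstance⟩
  haveI : IsOpenImmersion z := IsOpenImmersion.of_flat_of_mono z
  haveI : Surjective z := ⟨Set.range_eq_univ.1 (hS _ z.isOpenEmbedding.isOpen_range (by
    rintro _ ⟨x, rfl⟩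
    exact ⟨s'.base x, congrArg (fun f => f.base x) hs'z⟩))⟩
  haveI : IsIso z := (isIso_iff_isOpenImmersion_and_surjective z).2 ⟨inferInstance, inferInstance⟩
  have hfin : (s' ≫ z) ≫ inv z ≫ U'.ι ≫ W₀.ι = s₀ := by
    rw [Category.assoc, IsIso.hom_inv_id_assoc, ← Category.assoc, IsOpenImmersion.lift_fac, hsι]
  refine ⟨inv z ≫ U'.ι ≫ W₀.ι, ⟨?_, ?_⟩, fun u' ⟨hu', hiu'⟩ => huniq _ _ hu' ?_ ?_⟩
  · simp only [Category.assoc]
    exact IsIso.inv_hom_id z
  · have := (congrArg (· ≫ inv z ≫ U'.ι ≫ W₀.ι) hs'z).symm.trans (hfin)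
    exact this
  · simp only [Category.assoc]
    exact IsIso.inv_hom_id z
  · exact hiu'.trans ((congrArg (· ≫ inv z ≫ U'.ι ≫ W₀.ι) hs'z).symm.trans hfin).symm

end Groth.Agent.S5036
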