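import Groth.Statements.S17449
import Groth.Agent.SteinX.DvrConn
import Groth.Agent.H23.RedSub

set_option autoImplicit false
universe u
open CategoryTheory CategoryTheory.Limits AlgebraicGeometry
open Stein

namespace Groth.Agent.S17449

set_option backward.isDefEq.respectTransparency false
set_option backward.isDefEq.respectTransparency.types false


/-- Let S be a Noetherian scheme and f : X → S a proper, flat and surjective morphism. Suppose that for
every generic point η of an irreducible component of S the fibre of f at η is geometrically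
connected and smooth over the residue field κ(η). Then every fibre of f is geometrically connected. -/
theorem result {X S : Scheme.{u}}
    (f : X ⟶ S) [IsProper f] [Flat f] [Surjective f] [IsNoetherian S]
    (h : ∀ (Z : Set ↑S) (η : ↑S), Z ∈ irreducibleComponents ↑S → IsGenericPoint η Z →
      GeometricallyConnected (f.fiberToSpecResidueField η) ∧ Smooth (f.fiberToSpecResidueField η)) :
    GeometricallyConnected f := by
  have hK : ∀ (η : ↑S), GeometricallyConnected (f.fiberToSpecResidueField η) →
      ∀ {K : Type u} [Field K] (t : Spec (CommRingCat.of K) ⟶ S), t default = η → ConnectedSpace ↥(pullback f t) := by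
    intro η hη K _ t ht
    obtain ⟨⟨z, ι⟩, hz⟩ := (Scheme.SpecToEquivOfField K S).symm.surjective t
    have hz' : Spec.map ι ≫ S.fromSpecResidueField z = t := hz
    obtain rfl : z = η := by
      rw [← ht, ← hz', Scheme.Hom.comp_apply, Scheme.fromSpecResidueField_apply]
    subst hz'
    haveI : GeometricallyConnected (pullback.snd f (S.fromSpecResidueField z)) := hη
    haveI : ConnectedSpace ↥(pullback (pullback.snd f (S.fromSpecResidueField z)) (Spec.map ι)) :=
      GeometricallyConnected.geometrically_connectedSpace _ _ _ (.of_hasPullback _ _)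
    exact ZarConn.connectedSpace_of_homeomorph
      (pullbackLeftPullbackSndIso f (S.fromSpecResidueField z) (Spec.map ι)).hom.homeomorph
  refine ⟨fun K _ t P fst snd hP => ?_⟩
  suffices ConnectedSpace ↥(pullback f t) from
    ZarConn.connectedSpace_of_homeomorph hP.isoPullback.symm.hom.homeomorph
  let s := t default
  let Z : TopologicalSpace.Closeds ↑S := ⟨irreducibleComponent s, isClosed_irreducibleComponent⟩
  let I := Scheme.IdealSheafData.vanishingIdeal Z
  let i := I.subschemeι
  haveI : IsReduced I.subscheme := H23.RedSub.isReduced_vanishingIdeal _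
  have hrange : Set.range i = irreducibleComponent s :=
    I.range_subschemeι.trans (Scheme.IdealSheafData.coe_support_vanishingIdeal _)
  haveI : IrreducibleSpace I.subscheme := by
    rw [irreducibleSpace_def]
    refine ⟨(Set.nonempty_of_mem (hrange.ge mem_irreducibleComponent)).elim fun _ ⟨x, _⟩ => ⟨x, trivial⟩, ?_⟩
    intro u v hu hv ⟨a, _, ha⟩ ⟨b, _, hb⟩
    obtain ⟨u', hu', rfl⟩ := i.isEmbedding.isInducing.isOpen_iff.1 hu
    obtain ⟨v', hv', rfl⟩ := i.isEmbedding.isInducing.isOpen_iff.1 hv
    obtain ⟨c, hc, hcu, hcv⟩ := (isIrreducible_irreducibleComponent (x := s)).2 u' v' hu' hv'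
      ⟨i a, hrange.subset ⟨a, rfl⟩, ha⟩ ⟨i b, hrange.subset ⟨b, rfl⟩, hb⟩
    obtain ⟨c', rfl⟩ := hrange.superset hc
    exact ⟨c', trivial, hcu, hcv⟩
  haveI : AlgebraicGeometry.IsIntegral I.subscheme := isIntegral_of_irreducibleSpace_of_isReduced _
  haveI : IsLocallyNoetherian I.subscheme := LocallyOfFiniteType.isLocallyNoetherian i
  let g := pullback.snd f i
  haveI : IsProper g := MorphismProperty.pullback_snd f i inferInstance
  haveI : Flat g := MorphismProperty.pullback_snd f i inferInstance
  have hη : IsGenericPoint (i (genericPoint I.subscheme)) (irreducibleComponent s) := by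
    have := (genericPoint_spec I.subscheme).image i.continuous
    rwa [Set.image_univ, hrange, isClosed_irreducibleComponent.closure_eq] at this
  have hgen : GeometricallyConnected (g.fiberToSpecResidueField (genericPoint I.subscheme)) := by
    refine ⟨fun Q _ t' P' fst' snd' hP' => ?_⟩
    suffices ConnectedSpace ↥(pullback g (t' ≫ I.subscheme.fromSpecResidueField _)) from
      ZarConn.connectedSpace_of_homeomorph
        ((pullbackLeftPullbackSndIso g (I.subscheme.fromSpecResidueField (genericPoint I.subscheme)) t').symm ≪≫
          hP'.isoPullback.symm).hom.homeomorph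
    haveI := hK _ (h _ _ (irreducibleComponent_mem_irreducibleComponents s) hη).1
      ((t' ≫ I.subscheme.fromSpecResidueField (genericPoint I.subscheme)) ≫ i) (by
        simp only [Scheme.Hom.comp_apply, Scheme.fromSpecResidueField_apply])
    exact ZarConn.connectedSpace_of_homeomorph
      (pullbackLeftPullbackSndIso f i (t' ≫ I.subscheme.fromSpecResidueField _)).inv.homeomorph
  obtain ⟨z, hz⟩ : s ∈ Set.range i := hrange.ge mem_irreducibleComponent
  have hgz := SteinX.geometricallyConnected_of_dense g hgen (fun Y' g' _ _ _ W hW => by
    obtain ⟨ζ, hζ⟩ := QuasiSober.sober hW.1 (isClosed_of_mem_irreducibleComponents W hW)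
    haveI : Flat (pullback.snd g g') := MorphismProperty.pullback_snd g g' inferInstance
    obtain ⟨ζ', hsp, he⟩ := Flat.generalizingMap (pullback.snd g g')
      (genericPoint_specializes (pullback.snd g g' ζ))
    have hζ' : ζ' = ζ := by
      have h1 : closure {ζ'} ⊆ W := by
        have hir : IsIrreducible (closure ({ζ'} : Set ↥(pullback g g'))) := isIrreducible_singleton.closure
        refine hW.2 hir ?_
        rw [← hζ.def]
        exact closure_minimal (Set.singleton_subset_iff.2 (specializes_iff_mem_closure.1 hsp)) isClosed_closure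
      have h2 : ζ ⤳ ζ' := specializes_iff_mem_closure.2 (hζ.def.symm ▸ h1 (subset_closure rfl))
      exact (hsp.antisymm h2).eq
    refine dense_iff_closure_eq.2 (Set.eq_univ_of_univ_subset ?_)
    rw [← (genericPoint_spec Y').def, ← he, hζ']
    exact closure_mono (Set.singleton_subset_iff.2 ⟨ζ, hζ.mem, rfl⟩)) z
  obtain ⟨⟨s', ι⟩, hι⟩ := (Scheme.SpecToEquivOfField K S).symm.surjective t
  have hι' : Spec.map ι ≫ S.fromSpecResidueField s' = t := hι
  obtain rfl : s' = i z := by
    rw [hz]; show s' = t default
    rw [← hι', Scheme.Hom.comp_apply, Scheme.fromSpecResidueField_apply]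
  haveI : IsIso (i.residueFieldMap z) :=
    (ConcreteCategory.isIso_iff_bijective _).2 ⟨(i.residueFieldMap z).hom.injective, by
      have h1 : Function.Surjective (i.stalkMap z).hom := i.stalkMap_surjective z
      exact fun w => by
        obtain ⟨a, rfl⟩ := I.subscheme.residue_surjective z w
        obtain ⟨b, rfl⟩ := h1 a
        exact ⟨S.residue (i z) b, ConcreteCategory.congr_hom (Scheme.residue_residueFieldMap i z) b⟩⟩
  let u' : Spec (CommRingCat.of K) ⟶ Spec (I.subscheme.residueField z) := Spec.map (inv (i.residueFieldMap z) ≫ ι)
  have ht : (u' ≫ I.subscheme.fromSpecResidueField z) ≫ i = t := by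
    rw [Category.assoc, ← Scheme.Hom.SpecMap_residueFieldMap_fromSpecResidueField, ← Category.assoc, ← Spec.map_comp,
      IsIso.hom_inv_id_assoc, hι']
  haveI : GeometricallyConnected (pullback.snd g (I.subscheme.fromSpecResidueField z)) := hgz
  haveI : ConnectedSpace ↥(pullback (pullback.snd g (I.subscheme.fromSpecResidueField z)) u') :=
    GeometricallyConnected.geometrically_connectedSpace _ _ _ (.of_hasPullback _ _)
  exact ZarConn.connectedSpace_of_homeomorph
    (pullbackLeftPullbackSndIso g (I.subscheme.fromSpecResidueField z) u' ≪≫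
      pullbackLeftPullbackSndIso f i (u' ≫ I.subscheme.fromSpecResidueField z) ≪≫ pullback.congrHom rfl ht).hom.homeomorph

end Groth.Agent.S17449
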