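import Groth.Statements.S1745
import Groth.Agent.H1InjBC.Basic

set_option autoImplicit false
universe u
open scoped TensorProduct
open InjHull

namespace Groth.Agent.S1745

/-- Let A → B be a flat homomorphism of Noetherian rings such that for every prime q of B with
contraction p, the ideal p B_q equals the maximal ideal q B_q of B_q (for instance an étale map).
Then for every injective A-module I the B-module B ⊗_A I is injective. -/
theorem result (A B : Type u) [CommRing A] [CommRing B] [Algebra A B] [IsNoetherianRing A] [IsNoetherianRing B] [Module.Flat A B] (h : ∀ q : PrimeSpectrum B, Ideal.map (algebraMap B (Localization.AtPrime q.asIdeal)) ((q.asIdeal.comap (algebraMap A B)).map (algebraMap A B)) = IsLocalRing.maximalIdeal (Localization.AtPrime q.asIdeal)) (I : Type u) [AddCommGroup I] [Module A I] [Module.Injective A I] : Module.Injective B (B ⊗[A] I) := by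
  refine H1InjBC.injective_tensor I fun q hq => ?_
  haveI := hq
  let P : Ideal B := (q.comap (algebraMap A B)).map (algebraMap A B)
  obtain ⟨t, ht⟩ := (IsNoetherian.noetherian q : q.FG)
  have hy : ∀ y ∈ q, ∃ s ∉ q, s * y ∈ P := fun y hy => by
    have h1 : algebraMap B (Localization.AtPrime q) y ∈
        Ideal.map (algebraMap B (Localization.AtPrime q)) P := by
      rw [h ⟨q, hq⟩]
      exact (IsLocalization.AtPrime.to_map_mem_maximal_iff _ q y).2 hy
    obtain ⟨s, hs, hsy⟩ :=
      (IsLocalization.algebraMap_mem_map_algebraMap_iff q.primeCompl (Localization.AtPrime q) P y).1 h1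
    exact ⟨s, hs, hsy⟩
  choose! s hs hsy using hy
  refine ⟨∏ y ∈ t, s y, fun hmem => ?_, ?_⟩
  · obtain ⟨y, hyt, hyq⟩ := Ideal.IsPrime.prod_mem_iff.1 hmem
    exact hs y (ht ▸ Ideal.subset_span hyt) hyq
  intro y hy
  rw [← ht] at hy
  induction hy using Submodule.span_induction with
  | mem y hy =>
    classical
    rw [← Finset.prod_erase_mul _ _ (Finset.mem_coe.1 hy), mul_assoc]
    exact Ideal.mul_mem_left _ _ (hsy y (ht ▸ Ideal.subset_span hy))
  | zero => rw [mul_zero]; exact zero_mem _
  | add a b _ _ iha ihb => rw [mul_add]; exact add_mem iha ihb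
  | smul c a _ iha => rw [smul_eq_mul, mul_left_comm]; exact Ideal.mul_mem_left _ _ iha

end Groth.Agent.S1745
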