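import Groth.Statements.S17450
import Groth.Agent.Chevalley.CommAff.Finite
import Groth.Agent.Chevalley.CommAff.BCSA
import Groth.Agent.EtFound.Descent
-- import your own Groth.Agent.* helpers here

set_option autoImplicit false
set_option backward.isDefEq.respectTransparency false
set_option maxHeartbeats 1000000
set_option linter.style.haveILetI false
universe u
open CategoryTheory MonoidalCategory CartesianMonoidalCategory MonObj GrpObj AlgebraicGeometry CategoryTheory.Limits
open AlgGrp

namespace Groth.Agent.S17450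

/-- Let k be a field with algebraic closure K and G a semi-abelian variety over k, that is, a smooth
connected commutative k-group scheme of finite type whose base change to K is an extension of an
abelian variety by a torus (there are a closed subgroup scheme T of G_K which is a torus and a flat
surjective homomorphism from G_K onto a proper smooth connected K-group scheme with kernel T). Let H
be a closed subgroup scheme of G and ℓ a prime number such that the ℓ-torsion subgroup scheme H[ℓ]
is trivial: every point h of H with values in any k-scheme satisfying h^ℓ = 1 is the unit. Then H is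
finite over k. -/
theorem result (k : Type u) [Field k]
    (G : Over (Spec (CommRingCat.of k))) [GrpObj G] [IsCommMonObj G] [Smooth G.hom] [QuasiCompact G.hom]
    [ConnectedSpace ↥G.left]
    (hK : (∃ (T : Over (Spec (CommRingCat.of (AlgebraicClosure k)))) (_ : GrpObj T) (i : T ⟶ Red.bc (Spec.map (CommRingCat.ofHom (algebraMap k (AlgebraicClosure k)))) G) (A : Over (Spec (CommRingCat.of (AlgebraicClosure k)))) (_ : GrpObj A) (q : Red.bc (Spec.map (CommRingCat.ofHom (algebraMap k (AlgebraicClosure k)))) G ⟶ A),
        IsMonHom i ∧ IsClosedImmersion i.left ∧ Red.IsTorus T ∧ IsMonHom q ∧ Surjective q.left ∧ Flat q.left ∧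
        AlgGrp.IsKernel i q ∧ IsProper A.hom ∧ Smooth A.hom ∧ ConnectedSpace ↥A.left))
    (H : Over (Spec (CommRingCat.of k))) [GrpObj H] (j : H ⟶ G) [IsMonHom j] [IsClosedImmersion j.left]
    (ℓ : ℕ) (hℓ : ℓ.Prime)
    (htors : ∀ (Y : Over (Spec (CommRingCat.of k))) (h : Y ⟶ H), h ^ ℓ = 1 → h = 1) :
    IsFinite H.hom := by
  let φ : Spec (CommRingCat.of (AlgebraicClosure k)) ⟶ Spec (CommRingCat.of k) :=
    Spec.map (CommRingCat.ofHom (algebraMap k (AlgebraicClosure k)))
  haveI : GeometricallyIntegral G.hom := AlbQuotLib.geometricallyIntegral G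
  haveI : GeometricallyConnected G.hom := H23.CubeAb.geometricallyConnected_of_integral G.hom
  haveI : Smooth (Red.bc φ G).hom := inferInstanceAs (Smooth (pullback.snd G.hom φ))
  haveI : QuasiCompact (Red.bc φ G).hom := inferInstanceAs (QuasiCompact (pullback.snd G.hom φ))
  haveI : ConnectedSpace (Red.bc φ G).left :=
    GeometricallyConnected.geometrically_connectedSpace (f := G.hom) _ _ _ (.of_hasPullback _ _)
  haveI : LocallyOfFiniteType H.hom := by rw [← Over.w j]; infer_instance
  haveI : QuasiCompact H.hom := by rw [← Over.w j]; infer_instance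
  haveI : LocallyOfFiniteType (Red.bc φ H).hom := inferInstanceAs (LocallyOfFiniteType (pullback.snd H.hom φ))
  haveI : QuasiCompact (Red.bc φ H).hom := inferInstanceAs (QuasiCompact (pullback.snd H.hom φ))
  haveI := GrpSchLib.AntiAffine.isSeparated_grp H
  have hSA : Chevalley.CommAff.IsSA (Red.bc φ G) := hK
  let jK := (Over.pullback φ).map j
  haveI : IsClosedImmersion jK.left :=
    MorphismProperty.of_isPullback (P := @IsClosedImmersion) (Chevalley.CommAff.isPullback_bc_map φ j).flip (show IsClosedImmersion j.left from inferInstance)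
  haveI : Mono j := Over.mono_of_mono_left _
  haveI : IsCommMonObj H := Chevalley.CommAff.isCommMonObj_sub j
  haveI := Chevalley.CommAff.isMonHom_pow H ℓ
  obtain ⟨K, _, κ, hκ, hκc, -, hker⟩ := GrpSchLib.exists_kernel ((𝟙 H) ^ ℓ)
  haveI := hκ; haveI := hκc
  haveI : Mono κ := Over.mono_of_mono_left _
  have hκ1 : κ = 1 := htors K κ (by
    rw [← Category.comp_id κ, ← Chevalley.BC.comp_pow, hker.w, ← Hom.one_def])
  have hkerK := Chevalley.CommAff.isKernel_bc φ hker
  have hmap1 : (Over.pullback φ).map κ = 1 := by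
    rw [hκ1]
    exact map_one ((Over.pullback φ).homMonoidHom)
  have hmap2 : (Over.pullback φ).map ((𝟙 H) ^ ℓ) = (𝟙 (Red.bc φ H)) ^ ℓ := by
    rw [show (Over.pullback φ).map ((𝟙 H) ^ ℓ) = (Over.pullback φ).homMonoidHom ((𝟙 H) ^ ℓ) from rfl, map_pow]
    congr 1
    exact (Over.pullback φ).map_id H
  have htK : ∀ (Y : Over (Spec (CommRingCat.of (AlgebraicClosure k)))) (h : Y ⟶ Red.bc φ H), h ^ ℓ = 1 → h = 1 := by
    intro Y h hh
    have hz : h ≫ (Over.pullback φ).map ((𝟙 H) ^ ℓ) = toUnit Y ≫ η[(Over.pullback φ).obj H] := by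
      rw [hmap2, Chevalley.BC.comp_pow, Category.comp_id, hh, Hom.one_def]
    obtain ⟨w, hw⟩ : ∃ w, w ≫ (Over.pullback φ).map κ = h := ⟨_, hkerK.lift_fst h (toUnit Y) hz⟩
    rw [← hw, hmap1, MonObj.comp_one]
  haveI : IsFinite (Red.bc φ H).hom := by
    obtain ⟨N, _, c, hc, hcc, hNs, hNq, hNc, hcr⟩ := Chevalley.BC.exists_comp (Red.bc φ H)
    haveI := hc; haveI := hcc; haveI := hNs; haveI := hNq; haveI := hNc
    haveI : IsMonHom jK := inferInstance
    haveI : IsClosedImmersion (c ≫ jK).left := inferInstanceAs (IsClosedImmersion (c.left ≫ jK.left))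
    haveI : Mono c := Over.mono_of_mono_left _
    have hN : Chevalley.CommAff.IsSA N := hSA.sub (c ≫ jK)
    haveI := Chevalley.CommAff.isFinite_of_torsion_trivial hN hℓ.one_lt fun Y h hh => by
      rw [← cancel_mono c, MonObj.one_comp]
      refine htK Y (h ≫ c) ?_
      rw [← Chevalley.BC.pow_comp, hh, MonObj.one_comp]
    exact Chevalley.BC.isFinite_of_comp c hcr
  have hdesc : MorphismProperty.DescendsAlong @IsFinite (@Surjective ⊓ @Flat ⊓ @QuasiCompact : MorphismProperty Scheme.{u}) :=
    EtFound.fpqc_isFinite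
  refine MorphismProperty.of_isPullback_of_descendsAlong (P := @IsFinite) (Q := @Surjective ⊓ @Flat ⊓ @QuasiCompact)
    (IsPullback.of_hasPullback H.hom φ).flip ⟨⟨?_, ?_⟩, ?_⟩ (show IsFinite (Red.bc φ H).hom from inferInstance)
  · exact ⟨fun x => ⟨IsLocalRing.closedPoint (AlgebraicClosure k), Subsingleton.elim (α := PrimeSpectrum k) _ _⟩⟩
  · infer_instance
  · infer_instance

end Groth.Agent.S17450
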