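import Groth.Statements.S17453
import Groth.Agent.Chevalley.CommAff.SubSA
-- import your own Groth.Agent.* helpers here

set_option autoImplicit false
set_option backward.isDefEq.respectTransparency false
set_option maxHeartbeats 1000000
set_option linter.style.haveILetI false
universe u
open CategoryTheory MonoidalCategory CartesianMonoidalCategory MonObj GrpObj AlgebraicGeometry CategoryTheory.Limits
open AlgGrp

namespace Groth.Agent.S17453

/-- Let k be a field with algebraic closure K and 1 → G' → G → G'' → 1 a short exact sequence of smooth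
connected k-group schemes of finite type: G' → G is a homomorphism and a closed immersion, G → G''
is a flat surjective homomorphism, and G' is its kernel. Say that such a group is semi-abelian when
its base change to K, modulo a suitable torus, is an abelian variety (there are a closed subgroup
scheme of the base change which is a torus and a flat surjective homomorphism onto a proper smooth
connected K-group scheme with that kernel); commutativity is not assumed, it follows. Then G is
semi-abelian exactly when both G' and G'' are semi-abelian. -/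
theorem result (k : Type u) [Field k]
    (G' G G'' : Over (Spec (CommRingCat.of k))) [GrpObj G'] [GrpObj G] [GrpObj G'']
    [Smooth G'.hom] [QuasiCompact G'.hom] [ConnectedSpace ↥G'.left]
    [Smooth G.hom] [QuasiCompact G.hom] [ConnectedSpace ↥G.left]
    [Smooth G''.hom] [QuasiCompact G''.hom] [ConnectedSpace ↥G''.left]
    (j : G' ⟶ G) [IsMonHom j] [IsClosedImmersion j.left]
    (p : G ⟶ G'') [IsMonHom p] [Surjective p.left] [Flat p.left] (hex : AlgGrp.IsKernel j p) :
    (∃ (T : Over (Spec (CommRingCat.of (AlgebraicClosure k)))) (_ : GrpObj T) (i : T ⟶ Red.bc (Spec.map (CommRingCat.ofHom (algebraMap k (AlgebraicClosure k)))) G) (A : Over (Spec (CommRingCat.of (AlgebraicClosure k)))) (_ : GrpObj A) (q : Red.bc (Spec.map (CommRingCat.ofHom (algebraMap k (AlgebraicClosure k)))) G ⟶ A),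
        IsMonHom i ∧ IsClosedImmersion i.left ∧ Red.IsTorus T ∧ IsMonHom q ∧ Surjective q.left ∧ Flat q.left ∧
        AlgGrp.IsKernel i q ∧ IsProper A.hom ∧ Smooth A.hom ∧ ConnectedSpace ↥A.left) ↔
    ((∃ (T : Over (Spec (CommRingCat.of (AlgebraicClosure k)))) (_ : GrpObj T) (i : T ⟶ Red.bc (Spec.map (CommRingCat.ofHom (algebraMap k (AlgebraicClosure k)))) G') (A : Over (Spec (CommRingCat.of (AlgebraicClosure k)))) (_ : GrpObj A) (q : Red.bc (Spec.map (CommRingCat.ofHom (algebraMap k (AlgebraicClosure k)))) G' ⟶ A),
        IsMonHom i ∧ IsClosedImmersion i.left ∧ Red.IsTorus T ∧ IsMonHom q ∧ Surjective q.left ∧ Flat q.left ∧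
        AlgGrp.IsKernel i q ∧ IsProper A.hom ∧ Smooth A.hom ∧ ConnectedSpace ↥A.left) ∧
     (∃ (T : Over (Spec (CommRingCat.of (AlgebraicClosure k)))) (_ : GrpObj T) (i : T ⟶ Red.bc (Spec.map (CommRingCat.ofHom (algebraMap k (AlgebraicClosure k)))) G'') (A : Over (Spec (CommRingCat.of (AlgebraicClosure k)))) (_ : GrpObj A) (q : Red.bc (Spec.map (CommRingCat.ofHom (algebraMap k (AlgebraicClosure k)))) G'' ⟶ A),
        IsMonHom i ∧ IsClosedImmersion i.left ∧ Red.IsTorus T ∧ IsMonHom q ∧ Surjective q.left ∧ Flat q.left ∧
        AlgGrp.IsKernel i q ∧ IsProper A.hom ∧ Smooth A.hom ∧ ConnectedSpace ↥A.left)) := by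
  let φ : Spec (CommRingCat.of (AlgebraicClosure k)) ⟶ Spec (CommRingCat.of k) :=
    Spec.map (CommRingCat.ofHom (algebraMap k (AlgebraicClosure k)))
  have hbc : ∀ (X : Over (Spec (CommRingCat.of k))) [GrpObj X] [Smooth X.hom] [QuasiCompact X.hom] [ConnectedSpace X.left],
      Smooth (Red.bc φ X).hom ∧ QuasiCompact (Red.bc φ X).hom ∧ ConnectedSpace (Red.bc φ X).left := by
    intro X _ _ _ _
    haveI : GeometricallyIntegral X.hom := AlbQuotLib.geometricallyIntegral X
    haveI : GeometricallyConnected X.hom := H23.CubeAb.geometricallyConnected_of_integral X.hom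
    refine ⟨inferInstanceAs (Smooth (pullback.snd X.hom φ)), inferInstanceAs (QuasiCompact (pullback.snd X.hom φ)), ?_⟩
    exact GeometricallyConnected.geometrically_connectedSpace (f := X.hom) _ _ _ (.of_hasPullback _ _)
  obtain ⟨a1, a2, a3⟩ := hbc G'
  obtain ⟨b1, b2, b3⟩ := hbc G
  obtain ⟨c1, c2, c3⟩ := hbc G''
  haveI := a1; haveI := a2; haveI := a3; haveI := b1; haveI := b2; haveI := b3; haveI := c1; haveI := c2; haveI := c3
  haveI : Mono j := Over.mono_of_mono_left _
  let jK := (Over.pullback φ).map j
  let pK := (Over.pullback φ).map p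
  haveI : IsClosedImmersion jK.left :=
    MorphismProperty.of_isPullback (P := @IsClosedImmersion) (Chevalley.CommAff.isPullback_bc_map φ j).flip (show IsClosedImmersion j.left from inferInstance)
  haveI : Flat pK.left :=
    MorphismProperty.of_isPullback (P := @Flat) (Chevalley.CommAff.isPullback_bc_map φ p).flip (show Flat p.left from inferInstance)
  haveI : Surjective pK.left :=
    MorphismProperty.of_isPullback (P := @Surjective) (Chevalley.CommAff.isPullback_bc_map φ p).flip (show Surjective p.left from inferInstance)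
  have hexK : AlgGrp.IsKernel jK pK := Chevalley.CommAff.isKernel_bc φ hex
  constructor
  · intro h
    have hSA : Chevalley.CommAff.IsSA (Red.bc φ G) := h
    haveI := hSA.isCommMonObj
    haveI := Chevalley.CommAff.isCommMonObj_of_cover pK
    exact ⟨hSA.sub jK, hSA.of_cover pK⟩
  · rintro ⟨h', h''⟩
    have hSA' : Chevalley.CommAff.IsSA (Red.bc φ G') := h'
    have hSA'' : Chevalley.CommAff.IsSA (Red.bc φ G'') := h''
    haveI := Chevalley.CommAff.isCommMonObj_ext jK pK hexK hSA' hSA''
    exact Chevalley.CommAff.isSA_ext hSA' hSA'' jK pK hexK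

end Groth.Agent.S17453
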