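import Groth.Statements.S17454
import Groth.Agent.Chevalley.BC.AffLib
-- import your own Groth.Agent.* helpers here

set_option autoImplicit false
set_option backward.isDefEq.respectTransparency false
set_option maxHeartbeats 1000000
set_option linter.style.haveILetI false
universe u
open CategoryTheory MonoidalCategory CartesianMonoidalCategory MonObj GrpObj AlgebraicGeometry CategoryTheory.Limits
open AlgGrp

namespace Groth.Agent.S17454

/-- Let k be a perfect field and f : G' → G a surjective homomorphism of smooth connected k-group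
schemes of finite type. Let N' → G' and N → G be Chevalley decompositions: normal closed subgroup
schemes which are smooth, connected and affine, kernels of flat surjective homomorphisms q' : G' →
A' and q : G → A onto proper smooth connected k-group schemes. Then f maps N' onto N: there is a
homomorphism g : N' → N, compatible with f and the two inclusions, whose underlying map is
surjective; and f induces a homomorphism A' → A compatible with q' and q whose underlying map is
surjective. (The isogeny refinement of the published statement is not stated.) -/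
theorem result (k : Type u) [Field k] [PerfectField k]
    (G' G : Over (Spec (CommRingCat.of k))) [GrpObj G'] [GrpObj G]
    [Smooth G'.hom] [QuasiCompact G'.hom] [ConnectedSpace ↥G'.left]
    [Smooth G.hom] [QuasiCompact G.hom] [ConnectedSpace ↥G.left]
    (f : G' ⟶ G) [IsMonHom f] [Surjective f.left]
    (N' : Over (Spec (CommRingCat.of k))) [GrpObj N'] (i' : N' ⟶ G') [IsMonHom i'] [IsClosedImmersion i'.left]
    [Smooth N'.hom] [ConnectedSpace ↥N'.left] [IsAffine N'.left] (hn' : AlgGrp.IsNormalHom i')
    (A' : Over (Spec (CommRingCat.of k))) [GrpObj A'] (q' : G' ⟶ A') [IsMonHom q'] [Surjective q'.left] [Flat q'.left]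
    [IsProper A'.hom] [Smooth A'.hom] [ConnectedSpace ↥A'.left] (hk' : AlgGrp.IsKernel i' q')
    (N : Over (Spec (CommRingCat.of k))) [GrpObj N] (i : N ⟶ G) [IsMonHom i] [IsClosedImmersion i.left]
    [Smooth N.hom] [ConnectedSpace ↥N.left] [IsAffine N.left] (hn : AlgGrp.IsNormalHom i)
    (A : Over (Spec (CommRingCat.of k))) [GrpObj A] (q : G ⟶ A) [IsMonHom q] [Surjective q.left] [Flat q.left]
    [IsProper A.hom] [Smooth A.hom] [ConnectedSpace ↥A.left] (hk : AlgGrp.IsKernel i q) :
    (∃ g : N' ⟶ N, IsMonHom g ∧ g ≫ i = i' ≫ f ∧ Surjective g.left) ∧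
      (∃ h : A' ⟶ A, IsMonHom h ∧ q' ≫ h = f ≫ q ∧ Surjective h.left) := by
  haveI := GrpSchLib.AntiAffine.isSeparated_grp G
  have hfac : ∃ g : N' ⟶ N, g ≫ i = i' ≫ f := Chevalley.BC.factor_of_affine hk (i' ≫ f)
  obtain ⟨g, hg⟩ := hfac
  haveI : Mono i := Over.mono_of_mono_left _
  haveI hgm : IsMonHom g := LargeNormal.isMonHom_of_mul _ fun T a b => by
    rw [← cancel_mono i, Category.assoc, hg, MonObj.mul_comp, MonObj.mul_comp, Category.assoc, Category.assoc, hg]
  haveI : QuasiCompact A.hom := inferInstance
  have hz : i' ≫ f ≫ q = toUnit N' ≫ η[A] := by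
    rw [← Category.assoc, ← hg, Category.assoc, hk.w, ← Category.assoc, comp_toUnit]
  obtain ⟨h, hh, hqh, -⟩ := S3280.result k G' N' A' A q' i' hk' (f ≫ q) hz
  refine ⟨⟨g, hgm, hg, ?_⟩, h, hh, hqh, ?_⟩
  · haveI : LocallyOfFiniteType N.hom := inferInstance
    haveI : AlgebraicGeometry.IsReduced G.left := GrpSchLib.isReduced_of_smooth_field G.hom
    haveI : QuasiCompact (f.left ≫ G.hom) := by rw [Over.w f]; infer_instance
    haveI : QuasiCompact f.left := QuasiCompact.of_comp f.left G.hom
    haveI : Flat f.left := GrpSchLib.flat_of_surjective_hom f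
    haveI : QuasiCompact N'.hom := inferInstance
    haveI : QuasiCompact N.hom := inferInstance
    obtain ⟨B, _, p, b, _, hb, hpb, hbc, hpf, hps, hBl, hBq⟩ := GrpSchLib.ImageFactor.exists_image (i' ≫ f)
    haveI := hb; haveI := hbc; haveI := hpf; haveI := hps; haveI := hBl; haveI := hBq
    haveI : Mono b := Over.mono_of_mono_left _
    have hBn : AlgGrp.IsNormalHom b := LargeNormal.isNormalHom_image (GrpSchLib.NilpQuot.cover_of_lft f) hn'
      (GrpSchLib.NilpQuot.cover_of_lft p) hpb
    obtain ⟨R, _, r, hr, hrf, hrs, hrl, hRl, -, hrk⟩ := GrpQuotLib.exists_quotientGrp b hBn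
    haveI := hr; haveI := hrf; haveI := hrs; haveI := hrl; haveI := hRl
    obtain ⟨-, hRq, -⟩ := GrpQuotLib.props_of_cover ⟨hrf, hrs, hrl⟩
    haveI : QuasiCompact R.hom := hRq inferInstance
    haveI := GrpSchLib.AntiAffine.isSeparated_grp R
    obtain ⟨u, _, hu, -⟩ := S3280.result k G' N' A' R q' i' hk' (f ≫ r) (by
      rw [← Category.assoc, ← hpb, Category.assoc, hrk.w, ← Category.assoc, comp_toUnit])
    haveI : Surjective (q'.left ≫ u.left) := by
      rw [← Over.comp_left, hu]; exact inferInstanceAs (Surjective (f.left ≫ r.left))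
    haveI : Surjective u.left := Surjective.of_comp q'.left u.left
    haveI := Chevalley.BC.isProper_of_surjective u
    obtain ⟨m, hm⟩ := Chevalley.BC.factor_of_affine hrk i
    refine ⟨fun x => ?_⟩
    obtain ⟨y, hy⟩ := p.left.surjective (m.left x)
    refine ⟨y, i.left.isClosedEmbedding.injective ?_⟩
    have h1 : g.left ≫ i.left = p.left ≫ b.left := by rw [← Over.comp_left, hg, ← hpb]; rfl
    have h2 : m.left ≫ b.left = i.left := by rw [← Over.comp_left, hm]
    rw [← Scheme.Hom.comp_apply, h1, Scheme.Hom.comp_apply, hy, ← Scheme.Hom.comp_apply, h2]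
  · haveI : Surjective (q'.left ≫ h.left) := by
      rw [← Over.comp_left, hqh]; exact inferInstanceAs (Surjective (f.left ≫ q.left))
    exact Surjective.of_comp q'.left h.left

end Groth.Agent.S17454
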