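import Groth.Statements.S17455
import Groth.Agent.Chevalley.CommAff.SemiAb
import Groth.Agent.GrpSchLib.AffToProper
-- import your own Groth.Agent.* helpers here

set_option autoImplicit false
set_option backward.isDefEq.respectTransparency false
set_option maxHeartbeats 1000000
set_option linter.style.haveILetI false
universe u
open CategoryTheory MonoidalCategory CartesianMonoidalCategory MonObj GrpObj AlgebraicGeometry CategoryTheory.Limits
open AlgGrp

namespace Groth.Agent.S17455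

/-- Let k be a field and G a k-group scheme of finite type. If i₁ : T₁ → G and i₂ : T₂ → G are
homomorphisms and closed immersions from tori, and each is the kernel of a flat surjective
homomorphism from G onto a proper smooth connected k-group scheme, then the two subgroups coincide:
there is an isomorphism e : T₁ ≅ T₂ with e ≫ i₂ = i₁. (So the structure of extension of an abelian
variety by a torus on G, when it exists, is unique.) -/
theorem result (k : Type u) [Field k]
    (G : Over (Spec (CommRingCat.of k))) [GrpObj G] [LocallyOfFiniteType G.hom] [QuasiCompact G.hom]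
    (T₁ T₂ A₁ A₂ : Over (Spec (CommRingCat.of k))) [GrpObj T₁] [GrpObj T₂] [GrpObj A₁] [GrpObj A₂]
    (i₁ : T₁ ⟶ G) [IsMonHom i₁] [IsClosedImmersion i₁.left] (h₁ : Red.IsTorus T₁)
    (i₂ : T₂ ⟶ G) [IsMonHom i₂] [IsClosedImmersion i₂.left] (h₂ : Red.IsTorus T₂)
    (q₁ : G ⟶ A₁) [IsMonHom q₁] [Surjective q₁.left] [Flat q₁.left] (hk₁ : AlgGrp.IsKernel i₁ q₁)
    [IsProper A₁.hom] [Smooth A₁.hom] [ConnectedSpace ↥A₁.left]
    (q₂ : G ⟶ A₂) [IsMonHom q₂] [Surjective q₂.left] [Flat q₂.left] (hk₂ : AlgGrp.IsKernel i₂ q₂)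
    [IsProper A₂.hom] [Smooth A₂.hom] [ConnectedSpace ↥A₂.left] :
    ∃ e : T₁ ≅ T₂, e.hom ≫ i₂ = i₁ := by
  have key : ∀ {T T' A' : Over (Spec (CommRingCat.of k))} [GrpObj T] [GrpObj T'] [GrpObj A']
      (i : T ⟶ G) [IsMonHom i] (_ : Red.IsTorus T) (i' : T' ⟶ G) (q : G ⟶ A') [IsMonHom q]
      (_ : AlgGrp.IsKernel i' q) [IsProper A'.hom], ∃ g : T ⟶ T', g ≫ i' = i := by
    intro T T' A' _ _ _ i _ hT i' q _ hk _
    obtain ⟨h1, h2, h3, h4, h5⟩ := Chevalley.CommAff.torus_props hT
    have h : i ≫ q = toUnit T ≫ η[A'] := by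
      rw [GrpSchLib.AffToProper.hom_eq_one (i ≫ q), Hom.one_def]
    exact ⟨hk.lift i (toUnit T) h, hk.lift_fst _ _ _⟩
  obtain ⟨f, hf⟩ := key i₁ h₁ i₂ q₂ hk₂
  obtain ⟨g, hg⟩ := key i₂ h₂ i₁ q₁ hk₁
  haveI : Mono i₁ := Over.mono_of_mono_left _
  haveI : Mono i₂ := Over.mono_of_mono_left _
  exact ⟨⟨f, g, by rw [← cancel_mono i₁, Category.assoc, hg, hf, Category.id_comp],
    by rw [← cancel_mono i₂, Category.assoc, hf, hg, Category.id_comp]⟩, hf⟩

end Groth.Agent.S17455
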