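import Groth.Statements.S4070
import Mathlib
import Groth.Agent.S0536
import Groth.Agent.S1550

set_option autoImplicit false
universe u
open CategoryTheory CategoryTheory.Limits AlgebraicGeometry MonObj
open MonoidalCategory
open SGA7 CartesianMonoidalCategory
attribute [local instance] Curv2.resAlgebra

namespace Groth.Agent.S4070

theorem apply_of_comp_eq {X Y Z : Scheme.{u}} {f : X ⟶ Y} {g : Y ⟶ Z} {h : X ⟶ Z} (e : f ≫ g = h) (x : X) :
    g (f x) = h x := e ▸ (Scheme.Hom.comp_apply f g x).symm

theorem via_residueField_apply {W X Y : Scheme.{u}} (w : X) (e : W ⟶ Spec (X.residueField w)) (i : X ⟶ Y) (c : W) :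
    ((e ≫ X.fromSpecResidueField w) ≫ i) c = i w := by
  rw [Scheme.Hom.comp_apply, Scheme.Hom.comp_apply, Scheme.fromSpecResidueField_apply]

theorem finite_components (X : Type u) [TopologicalSpace X] [TopologicalSpace.NoetherianSpace X] :
    (Set.range fun x : X => connectedComponent x).Finite := by
  classical
  refine ((TopologicalSpace.NoetherianSpace.finite_irreducibleComponents (α := X)).image
    fun s => if h : s.Nonempty then connectedComponent h.choose else ∅).subset ?_
  rintro _ ⟨x, rfl⟩
  refine ⟨irreducibleComponent x, irreducibleComponent_mem_irreducibleComponents x, ?_⟩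
  have hne : (irreducibleComponent x).Nonempty := ⟨x, mem_irreducibleComponent⟩
  simp only [dif_pos hne]
  exact (connectedComponent_eq
    (isIrreducible_irreducibleComponent.2.isPreconnected.subset_connectedComponent mem_irreducibleComponent
      hne.choose_spec)).symm

theorem isOpen_component (X : Type u) [TopologicalSpace X] [TopologicalSpace.NoetherianSpace X] (x : X) :
    IsOpen (connectedComponent x) := by
  have h : (connectedComponent x)ᶜ =
      ⋃₀ ((Set.range fun y : X => connectedComponent y) \ {connectedComponent x}) := by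
    ext y
    constructor
    · exact fun hy => ⟨_, ⟨⟨y, rfl⟩, fun e => hy (e ▸ mem_connectedComponent)⟩, mem_connectedComponent⟩
    · rintro ⟨_, ⟨⟨z, rfl⟩, hz⟩, hyz⟩ hyx
      exact hz ((connectedComponent_eq hyz).trans (connectedComponent_eq hyx).symm)
  rw [← isClosed_compl_iff, h, Set.sUnion_eq_biUnion]
  exact ((finite_components X).subset Set.sdiff_subset).isClosed_biUnion
    (by rintro _ ⟨⟨z, rfl⟩, -⟩; exact isClosed_connectedComponent)

variable {R : Type u} [CommRing R] [IsLocalRing R]

/-- The special fibre as a scheme. -/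
noncomputable abbrev sfib (N : Over (Spec (CommRingCat.of R))) : Scheme.{u} :=
  pullback N.hom (Spec.map (CommRingCat.ofHom (IsLocalRing.residue R)))

theorem range_sfib (N : Over (Spec (CommRingCat.of R))) :
    Set.range (pullback.fst N.hom (Spec.map (CommRingCat.ofHom (IsLocalRing.residue R)))) =
      SGA7.specialFibreSet R N := by
  rw [Scheme.Pullback.range_fst]
  unfold SGA7.specialFibreSet
  congr 1
  refine Set.eq_singleton_iff_unique_mem.2
    ⟨⟨IsLocalRing.closedPoint _, IsLocalRing.comap_closedPoint (IsLocalRing.residue R)⟩, ?_⟩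
  rintro _ ⟨y, rfl⟩
  exact (congrArg _ (Subsingleton.elim y (IsLocalRing.closedPoint (IsLocalRing.ResidueField R)))).trans
    (IsLocalRing.comap_closedPoint (IsLocalRing.residue R))

theorem componentIn_eq_image (N : Over (Spec (CommRingCat.of R))) (w : sfib N) :
    connectedComponentIn (SGA7.specialFibreSet R N)
      (pullback.fst N.hom (Spec.map (CommRingCat.ofHom (IsLocalRing.residue R))) w) =
      pullback.fst N.hom (Spec.map (CommRingCat.ofHom (IsLocalRing.residue R))) '' connectedComponent w := by
  haveI : IsClosedImmersion (Spec.map (CommRingCat.ofHom (IsLocalRing.residue R))) :=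
    IsClosedImmersion.spec_of_surjective _ IsLocalRing.residue_surjective
  let i := pullback.fst N.hom (Spec.map (CommRingCat.ofHom (IsLocalRing.residue R)))
  have hi : Topology.IsEmbedding i := i.isEmbedding
  have hC := connectedComponentIn_subset (SGA7.specialFibreSet R N) (i w)
  refine Set.Subset.antisymm ?_ ?_
  · intro y hy
    have hpre : i '' (i ⁻¹' connectedComponentIn (SGA7.specialFibreSet R N) (i w)) =
        connectedComponentIn (SGA7.specialFibreSet R N) (i w) := by
      rw [Set.image_preimage_eq_inter_range, range_sfib, Set.inter_eq_left.2 hC]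
    obtain ⟨y', hy', rfl⟩ := hpre.symm ▸ hy
    refine ⟨y', ?_, rfl⟩
    have hp : _root_.IsPreconnected (i ⁻¹' connectedComponentIn (SGA7.specialFibreSet R N) (i w)) := by
      rw [← hi.isInducing.isPreconnected_image, hpre]
      exact isPreconnected_connectedComponentIn
    exact hp.subset_connectedComponent
      (show w ∈ i ⁻¹' connectedComponentIn (SGA7.specialFibreSet R N) (i w) from
        mem_connectedComponentIn ((range_sfib N).subset ⟨w, rfl⟩)) hy'
  · exact (isPreconnected_connectedComponent.image i i.continuous.continuousOn).subset_connectedComponentIn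
      ⟨w, mem_connectedComponent, rfl⟩ (by rw [← range_sfib]; exact Set.image_subset_range _ _)

theorem value_mem (N : Over (Spec (CommRingCat.of R))) (x : 𝟙_ (Over (Spec (CommRingCat.of R))) ⟶ N) :
    x.left.base (IsLocalRing.closedPoint R) ∈ SGA7.specialFibreSet R N :=
  apply_of_comp_eq (Over.w x) (IsLocalRing.closedPoint R)

theorem finite_range_secComp (N : Over (Spec (CommRingCat.of R))) [TopologicalSpace.NoetherianSpace (sfib N)] :
    (Set.range (SGA7.secComp R N)).Finite := by
  refine ((finite_components (sfib N)).image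
    (Set.image (pullback.fst N.hom (Spec.map (CommRingCat.ofHom (IsLocalRing.residue R)))))).subset ?_
  rintro _ ⟨x, rfl⟩
  have hx := value_mem N x
  obtain ⟨w, hw⟩ := (range_sfib N).symm.subset hx
  exact ⟨_, ⟨w, rfl⟩, by rw [SGA7.secComp, ← hw, componentIn_eq_image]⟩

theorem exists_section_mem (N : Over (Spec (CommRingCat.of R))) [HenselianLocalRing R]
    [IsSepClosed (IsLocalRing.ResidueField R)] [Smooth N.hom] [TopologicalSpace.NoetherianSpace (sfib N)]
    (z : N.left) (hz : z ∈ SGA7.specialFibreSet R N) :
    ∃ x : 𝟙_ (Over (Spec (CommRingCat.of R))) ⟶ N, z ∈ SGA7.secComp R N x := by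
  let κ := IsLocalRing.ResidueField R
  let ρ := Spec.map (CommRingCat.ofHom (IsLocalRing.residue R))
  let i := pullback.fst N.hom ρ
  obtain ⟨w₀, hw₀⟩ := (range_sfib N).symm.subset hz
  let : (sfib N).Over (Spec (CommRingCat.of κ)) := ⟨pullback.snd N.hom ρ⟩
  have : Smooth (sfib N ↘ Spec (CommRingCat.of κ)) :=
    inferInstanceAs (Smooth (pullback.snd N.hom ρ))
  obtain ⟨w, ⟨-, hfin, hsep⟩, hw⟩ :=
    (Groth.Agent.S1550.result κ (sfib N)).exists_mem_open (isOpen_component _ w₀)
      ⟨w₀, mem_connectedComponent⟩
  have halg : Function.Surjective (Curv2.resMap κ (sfib N) w) :=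
    IsSepClosed.algebraMap_surjective κ ((sfib N).residueField w)
  let e := RingEquiv.ofBijective _ ⟨(Curv2.resMap κ (sfib N) w).injective, halg⟩
  let s₁ : Spec (CommRingCat.of κ) ⟶ N.left :=
    (Spec.map (CommRingCat.ofHom e.symm.toRingHom) ≫ (sfib N).fromSpecResidueField w) ≫ i
  have hf : (sfib N).fromSpecResidueField w ≫ pullback.snd N.hom ρ =
      Spec.map (CommRingCat.ofHom (Curv2.resMap κ (sfib N) w)) := by
    have h1 : pullback.snd N.hom ρ = (sfib N).toSpecΓ ≫
        Spec.map (CommRingCat.ofHom (Coh.toGlobal (pullback.snd N.hom ρ))) :=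
      Groth.Agent.S1550.eq_toSpecΓ_comp _
    rw [Scheme.fromSpecResidueField, Category.assoc]
    conv_lhs => rw [h1]
    rw [Scheme.fromSpecStalk_toSpecΓ_assoc, ← Spec.map_comp, ← Spec.map_comp]
    rfl
  have hs₁ : s₁ ≫ N.hom = ρ := by
    simp only [s₁, i, Category.assoc, pullback.condition]
    rw [reassoc_of% hf, ← Spec.map_comp_assoc,
      show CommRingCat.ofHom (Curv2.resMap κ (sfib N) w) ≫ CommRingCat.ofHom e.symm.toRingHom = 𝟙 _ from
        CommRingCat.hom_ext (RingHom.ext fun a => e.symm_apply_apply a), Spec.map_id, Category.id_comp]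
  obtain ⟨V, hV, hpV, -⟩ := exists_isAffineOpen_mem_and_subset
    (X := N.left) (x := s₁ (IsLocalRing.closedPoint κ)) (U := ⊤) trivial
  let σ₀ : Spec (CommRingCat.of κ) ⟶ Spec Γ(N.left, V) := IsOpenImmersion.lift hV.fromSpec s₁ (by
    rintro _ ⟨y, rfl⟩
    rw [hV.range_fromSpec, Subsingleton.elim y (IsLocalRing.closedPoint κ)]
    exact hpV)
  have hσ₀ : σ₀ ≫ hV.fromSpec = s₁ := IsOpenImmersion.lift_fac _ _ _
  let φ : CommRingCat.of R ⟶ Γ(N.left, V) := Spec.preimage (hV.fromSpec ≫ N.hom)
  have hφ : Spec.map φ = hV.fromSpec ≫ N.hom := Spec.map_preimage _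
  let : Algebra R Γ(N.left, V) := φ.hom.toAlgebra
  have hsm : Smooth (Spec.map φ) := by rw [hφ]; infer_instance
  have : Algebra.Smooth R Γ(N.left, V) :=
    RingHom.smooth_algebraMap.1 ((HasRingHomProperty.Spec_iff (P := @Smooth)).1 hsm)
  have hcomp : φ ≫ Spec.preimage σ₀ = CommRingCat.ofHom (IsLocalRing.residue R) := Spec.map_injective (by
    rw [Spec.map_comp, Spec.map_preimage, hφ, ← Category.assoc, hσ₀, hs₁])
  let σ : Γ(N.left, V) →ₐ[R] R ⧸ IsLocalRing.maximalIdeal R :=
    { (Spec.preimage σ₀).hom with commutes' := fun a => congrArg (fun m => m.hom a) hcomp }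
  obtain ⟨τ, hτ⟩ := Groth.Agent.S0536.result R Γ(N.left, V) R (IsLocalRing.maximalIdeal R) σ
  let x₀ : Spec (CommRingCat.of R) ⟶ N.left := Spec.map (CommRingCat.ofHom τ.toRingHom) ≫ hV.fromSpec
  have hx₀ : x₀ ≫ N.hom = 𝟙 _ := by
    rw [Category.assoc, ← hφ, ← Spec.map_comp,
      show φ ≫ CommRingCat.ofHom τ.toRingHom = 𝟙 _ from CommRingCat.hom_ext (RingHom.ext τ.commutes), Spec.map_id]
  let x : 𝟙_ (Over (Spec (CommRingCat.of R))) ⟶ N := Over.homMk x₀ hx₀
  have hρx : ρ ≫ x₀ = s₁ := by
    rw [← hσ₀, ← Category.assoc, ← Spec.map_preimage σ₀, ← Spec.map_comp]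
    congr 2
    exact CommRingCat.hom_ext (congrArg AlgHom.toRingHom hτ)
  refine ⟨x, ?_⟩
  have hval : x.left.base (IsLocalRing.closedPoint R) = i w := by
    rw [← IsLocalRing.comap_closedPoint (IsLocalRing.residue R)]
    refine (apply_of_comp_eq hρx (IsLocalRing.closedPoint κ)).trans ?_
    exact via_residueField_apply w _ i _
  rw [SGA7.secComp, hval, ← hw₀, componentIn_eq_image]
  refine ⟨w₀, ?_, rfl⟩
  rw [← connectedComponent_eq hw]
  exact mem_connectedComponent

theorem translate_mem (N : Over (Spec (CommRingCat.of R))) (t : N ⟶ N)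
    (x y : 𝟙_ (Over (Spec (CommRingCat.of R))) ⟶ N)
    (h : x.left.base (IsLocalRing.closedPoint R) ∈ SGA7.secComp R N y) :
    (x ≫ t).left.base (IsLocalRing.closedPoint R) ∈ SGA7.secComp R N (y ≫ t) := by
  have hy := value_mem N y
  have hsub : t.left '' SGA7.secComp R N y ⊆ SGA7.specialFibreSet R N := by
    rintro _ ⟨a, ha, rfl⟩
    exact (apply_of_comp_eq (Over.w t) a).trans
      (connectedComponentIn_subset (SGA7.specialFibreSet R N) _ ha :)
  exact (isPreconnected_connectedComponentIn.image t.left t.left.continuous.continuousOn).subset_connectedComponentIn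
    ⟨_, mem_connectedComponentIn hy, rfl⟩ hsub ⟨_, h, rfl⟩

/-- Let R be a strictly henselian discrete valuation ring (henselian, separably closed residue field)
with fraction field K and N a group scheme over Spec R which is a Néron model of its generic fibre,
an abelian variety A over K, so that sections of N over Spec R are the K-points of A. Then the
special fibre of N has finitely many connected components, every one of them is met by a section,
and two sections x, y meet the same connected component if and only if x · y⁻¹ meets the connected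
component of the unit section: the component group of the special fibre is A(K) modulo the subgroup
of points reducing into the identity component. -/
theorem result (R K : Type u) [CommRing R] [IsDomain R] [IsDiscreteValuationRing R] [HenselianLocalRing R]
    [IsSepClosed (IsLocalRing.ResidueField R)] [Field K] [Algebra R K] [IsFractionRing R K]
    (N : Over (Spec (CommRingCat.of R))) [GrpObj N] (hN : SGA7.IsNeron R K N)
    [IsProper ((SGA7.genFib R K).obj N).hom] [GeometricallyIntegral ((SGA7.genFib R K).obj N).hom] :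
    (Set.range (SGA7.secComp R N)).Finite ∧
    (∀ z ∈ SGA7.specialFibreSet R N, ∃ x : 𝟙_ (Over (Spec (CommRingCat.of R))) ⟶ N, z ∈ SGA7.secComp R N x) ∧
      ∀ x y : 𝟙_ (Over (Spec (CommRingCat.of R))) ⟶ N,
        SGA7.secComp R N x = SGA7.secComp R N y ↔ x * y⁻¹ ∈ SGA7.secUnitComp R N := by
  obtain ⟨hsm, hsep, hqc, -⟩ := hN
  haveI := hsm
  haveI := hqc
  haveI : IsLocallyNoetherian N.left := LocallyOfFiniteType.isLocallyNoetherian N.hom
  haveI : CompactSpace N.left := QuasiCompact.compactSpace_of_compactSpace N.hom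
  haveI : IsClosedImmersion (Spec.map (CommRingCat.ofHom (IsLocalRing.residue R))) :=
    IsClosedImmersion.spec_of_surjective _ IsLocalRing.residue_surjective
  haveI : AlgebraicGeometry.IsNoetherian N.left := {}
  haveI : TopologicalSpace.NoetherianSpace (sfib N) :=
    (pullback.fst N.hom (Spec.map (CommRingCat.ofHom (IsLocalRing.residue R)))).isEmbedding.isInducing.noetherianSpace
  refine ⟨finite_range_secComp N, fun z hz => exists_section_mem N z hz, fun x y => ?_⟩
  let T : (𝟙_ (Over (Spec (CommRingCat.of R))) ⟶ N) → (N ⟶ N) := fun a => 𝟙 N * (toUnit N ≫ a)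
  have hT : ∀ b a, b ≫ T a = b * a := fun b a => by
    simp only [T, MonObj.comp_mul, Category.comp_id]
    rw [← Category.assoc, toUnit_unique (b ≫ toUnit N) (𝟙 _), Category.id_comp]
  have hη := value_mem N
  have h1 : η[N] = (1 : 𝟙_ (Over (Spec (CommRingCat.of R))) ⟶ N) := by
    rw [Hom.one_def, toUnit_unique (toUnit _) (𝟙 _), Category.id_comp]
  constructor
  · intro h
    have hmem : x.left.base (IsLocalRing.closedPoint R) ∈ SGA7.secComp R N y :=
      h ▸ mem_connectedComponentIn (hη x)
    have := translate_mem N (T y⁻¹) x y hmem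
    rw [hT, hT, _root_.mul_inv_cancel, ← h1] at this
    exact this
  · intro h
    have := translate_mem N (T y) (x * y⁻¹) η[N] h
    rw [hT, hT, inv_mul_cancel_right, h1, _root_.one_mul] at this
    exact (connectedComponentIn_eq this).symm

end Groth.Agent.S4070
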