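import Groth.Statements.S4058
import Mathlib
import Groth.Agent.S4070
import Groth.Agent.S2569
import Groth.Agent.GeomField.Connected

set_option autoImplicit false
universe u
open CategoryTheory CategoryTheory.Limits AlgebraicGeometry MonObj
open SGA7 MonoidalCategory CartesianMonoidalCategory
attribute [local instance] Curv2.resAlgebra

namespace Groth.Agent.S4058

theorem fibre_of_field_point (P : MorphismProperty Scheme.{u}) [P.IsStableUnderBaseChange] {X S : Scheme.{u}}
    (f : X ⟶ S) (k : Type u) [Field k] (j : Spec (CommRingCat.of k) ⟶ S) [IsPreimmersion j]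
    (h : P (pullback.snd f j)) : P (f.fiberToSpecResidueField (j (IsLocalRing.closedPoint k))) := by
  let s := j (IsLocalRing.closedPoint k)
  let φ : S.residueField s ⟶ CommRingCat.of k := (Scheme.SpecToEquivOfField k S j).2
  have hj : Spec.map φ ≫ S.fromSpecResidueField s = j :=
    (Scheme.SpecToEquivOfField k S).symm_apply_apply j
  have : IsPreimmersion (Spec.map φ ≫ S.fromSpecResidueField s) := hj.symm ▸ inferInstance
  have : IsPreimmersion (Spec.map φ) := IsPreimmersion.of_comp _ (S.fromSpecResidueField s)
  have hs : SurjectiveOnStalks (Spec.map φ) := inferInstance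
  rw [SurjectiveOnStalks.Spec_iff, RingHom.surjectiveOnStalks_iff_forall_ideal] at hs
  have hbij : Function.Bijective φ.hom := by
    refine ⟨RingHom.injective _, fun v => ?_⟩
    obtain ⟨b, r, c, hc, hr, e⟩ := hs ⊥ bot_ne_top v
    rw [Ideal.mem_bot] at hc hr
    rw [_root_.mul_assoc] at e
    have e' := mul_left_cancel₀ hc e
    exact ⟨b / r, by rw [map_div₀, ← e', mul_div_cancel_left₀ _ hr]⟩
  have : IsIso φ := (ConcreteCategory.isIso_iff_bijective φ).2 hbij
  have hinv : inv (Spec.map φ) ≫ j = S.fromSpecResidueField s := (IsIso.inv_comp_eq _).2 hj.symm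
  have sq : IsPullback (pullback.snd f (S.fromSpecResidueField s) ≫ inv (Spec.map φ))
      (pullback.fst f (S.fromSpecResidueField s)) j f :=
    IsPullback.of_iso (IsPullback.of_hasPullback f (S.fromSpecResidueField s)).flip (Iso.refl _)
      (asIso (inv (Spec.map φ))) (Iso.refl _) (Iso.refl _) (by simp) (by simp) (by simp [hinv]) (by simp)
  let e := sq.flip.isoPullback
  have he : e.hom ≫ pullback.snd f j = pullback.snd f (S.fromSpecResidueField s) ≫ inv (Spec.map φ) :=
    sq.flip.isoPullback_hom_snd
  have h' : P (pullback.snd f (S.fromSpecResidueField s) ≫ inv (Spec.map φ)) :=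
    he ▸ (P.cancel_left_of_respectsIso e.hom _).2 h
  exact (P.cancel_right_of_respectsIso _ _).1 h'

/-- The component of the unit section and the generic fibre, as an open subscheme. -/
theorem exists_nhd_unit (R : Type u) [CommRing R] [IsLocalRing R] (N : Over (Spec (CommRingCat.of R)))
    [TopologicalSpace.NoetherianSpace (S4070.sfib N)]
    [IsClosedImmersion (pullback.fst N.hom (Spec.map (CommRingCat.ofHom (IsLocalRing.residue R))))]
    (w₀ : S4070.sfib N) :
    ∃ U : N.left.Opens, ∀ z, z ∈ U ↔ (z ∈ SGA7.specialFibreSet R N →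
      z ∈ pullback.fst N.hom (Spec.map (CommRingCat.ofHom (IsLocalRing.residue R))) '' connectedComponent w₀) := by
  let i := pullback.fst N.hom (Spec.map (CommRingCat.ofHom (IsLocalRing.residue R)))
  have hcl : IsClosed (i '' (connectedComponent w₀)ᶜ) :=
    i.isClosedEmbedding.isClosedMap _ (S4070.isOpen_component _ w₀).isClosed_compl
  refine ⟨⟨(i '' (connectedComponent w₀)ᶜ)ᶜ, hcl.isOpen_compl⟩, fun z => ⟨fun hz hzF => ?_, fun h => ?_⟩⟩
  · obtain ⟨w, rfl⟩ := (S4070.range_sfib N).symm.subset hzF
    exact ⟨w, not_not.1 fun hw => hz ⟨w, hw, rfl⟩, rfl⟩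
  · rintro ⟨w, hw, rfl⟩
    obtain ⟨w', hw', e⟩ := h ((S4070.range_sfib N).subset ⟨w, rfl⟩)
    exact hw (i.isClosedEmbedding.injective e ▸ hw')

theorem geometricallyConnected_of_connected_section {k : Type u} [Field k] {X : Scheme.{u}}
    [ConnectedSpace X] (f : X ⟶ Spec (CommRingCat.of k)) (σ : Spec (CommRingCat.of k) ⟶ X) (hσ : σ ≫ f = 𝟙 _) :
    GeometricallyConnected f := by
  let : X.Over (Spec (CommRingCat.of k)) := ⟨f⟩
  let x := σ (IsLocalRing.closedPoint k)
  let χ : X.residueField x ⟶ CommRingCat.of k := (Scheme.SpecToEquivOfField k X σ).2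
  have hχ : Spec.map χ ≫ X.fromSpecResidueField x = σ := (Scheme.SpecToEquivOfField k X).symm_apply_apply σ
  have hf : X.fromSpecResidueField x ≫ f = Spec.map (CommRingCat.ofHom (Curv2.resMap k X x)) := by
    have h1 : f = X.toSpecΓ ≫ Spec.map (CommRingCat.ofHom (Coh.toGlobal f)) :=
      Groth.Agent.S1550.eq_toSpecΓ_comp _
    rw [Scheme.fromSpecResidueField, Category.assoc]
    conv_lhs => rw [h1]
    rw [Scheme.fromSpecStalk_toSpecΓ_assoc, ← Spec.map_comp, ← Spec.map_comp]
    rfl
  have hid : CommRingCat.ofHom (Curv2.resMap k X x) ≫ χ = 𝟙 _ := Spec.map_injective (by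
    rw [Spec.map_comp, ← hf, ← Category.assoc, hχ, hσ, Spec.map_id])
  refine Groth.Agent.GeomField.geometricallyConnected_of_point x fun a _ => ⟨χ a, ?_⟩
  exact χ.hom.injective (congrArg (fun m => m.hom (χ a)) hid)

theorem exists_preimage {P X Y Z : Scheme.{u}} {fst : P ⟶ X} {snd : P ⟶ Y} {f : X ⟶ Z} {g : Y ⟶ Z}
    (h : IsPullback fst snd f g) (x : X) (y : Y) (e : f x = g y) : ∃ a, fst a = x ∧ snd a = y := by
  obtain ⟨z, h1, h2⟩ := Scheme.Pullback.exists_preimage_pullback x y e
  exact ⟨h.isoPullback.inv z, (S4070.apply_of_comp_eq h.isoPullback_inv_fst z).trans h1,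
    (S4070.apply_of_comp_eq h.isoPullback_inv_snd z).trans h2⟩

theorem geometricallyConnected_of_irreducible {X Y : Scheme.{u}} (f : X ⟶ Y) [GeometricallyIrreducible f] :
    GeometricallyConnected f := by
  refine ⟨fun K _ y Z fst snd h => ?_⟩
  have : IrreducibleSpace Z := GeometricallyIrreducible.geometrically_irreducibleSpace y fst snd h
  infer_instance

theorem isQuotientMap_universally {X Y : Scheme.{u}} (f : X ⟶ Y) [Flat f] [Surjective f]
    [LocallyOfFinitePresentation f] :
    MorphismProperty.universally (topologically fun g => Topology.IsQuotientMap g) f := by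
  intro X' Y' i₁ i₂ f' h
  have : Flat f' := MorphismProperty.of_isPullback h.flip ‹Flat f›
  have : Surjective f' := MorphismProperty.of_isPullback h.flip ‹Surjective f›
  have : LocallyOfFinitePresentation f' := MorphismProperty.of_isPullback h.flip ‹LocallyOfFinitePresentation f›
  exact f'.isOpenMap.isQuotientMap f'.continuous f'.surjective

/-- (iii) ⇒ (iv): let R be a discrete valuation ring with fraction field K and residue field k, and N a
group scheme over Spec R which is a Néron model of its generic fibre, an abelian variety over K. If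
the special fibre N ×_R k is proper over k, then N is proper over Spec R. (In (iii) as published the
special fibre is an abelian variety; connectedness of the special fibre is not assumed here.) -/
theorem result (R K : Type u) [CommRing R] [IsDomain R] [IsDiscreteValuationRing R] [Field K]
    [Algebra R K] [IsFractionRing R K]
    (N : Over (Spec (CommRingCat.of R))) [GrpObj N] (hN : SGA7.IsNeron R K N)
    [IsProper ((SGA7.genFib R K).obj N).hom] [GeometricallyIntegral ((SGA7.genFib R K).obj N).hom]
    [IsProper (Red.bc (Spec.map (CommRingCat.ofHom (IsLocalRing.residue R))) N).hom] :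
    IsProper N.hom := by
  obtain ⟨hsm, hsep, hqc, -⟩ := hN
  have := hsm
  have := hsep
  have := hqc
  let jK := Spec.map (CommRingCat.ofHom (algebraMap R K))
  let ρ := Spec.map (CommRingCat.ofHom (IsLocalRing.residue R))
  let i := pullback.fst N.hom ρ
  have : IsLocallyNoetherian N.left := LocallyOfFiniteType.isLocallyNoetherian N.hom
  have : CompactSpace N.left := QuasiCompact.compactSpace_of_compactSpace N.hom
  have : AlgebraicGeometry.IsNoetherian N.left := {}
  have : IsClosedImmersion ρ := IsClosedImmersion.spec_of_surjective _ IsLocalRing.residue_surjective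
  have : TopologicalSpace.NoetherianSpace (S4070.sfib N) := i.isEmbedding.isInducing.noetherianSpace
  have hK : IsPreimmersion jK := IsPreimmersion.of_isLocalization (R := R) (S := K) (nonZeroDivisors R)
  have hη : η[N].left ≫ N.hom = 𝟙 _ := Over.w η[N]
  obtain ⟨w₀, hw₀⟩ := (S4070.range_sfib N).symm.subset (S4070.value_mem N η[N])
  obtain ⟨U, hU⟩ := exists_nhd_unit R N w₀
  let f' := U.ι ≫ N.hom
  -- the unit section lands in `U`
  have hηU : ∀ y, η[N].left y ∈ U := fun y => (hU _).2 fun hy => by
    have hy' : N.hom (η[N].left y) = IsLocalRing.closedPoint R := hy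
    obtain rfl : y = IsLocalRing.closedPoint R := (S4070.apply_of_comp_eq hη y).symm.trans hy'
    exact ⟨w₀, mem_connectedComponent, hw₀⟩
  let η' : Spec (CommRingCat.of R) ⟶ U.toScheme := IsOpenImmersion.lift U.ι η[N].left (by
    rintro _ ⟨y, rfl⟩
    rw [Scheme.Opens.range_ι]
    exact hηU y)
  have hη'ι : η' ≫ U.ι = η[N].left := IsOpenImmersion.lift_fac _ _ _
  have hη' : η' ≫ f' = 𝟙 _ := (Category.assoc _ _ _).symm.trans ((congrArg (· ≫ N.hom) hη'ι).trans hη)
  have hsurj : Surjective f' := ⟨fun y => ⟨η' y, S4070.apply_of_comp_eq hη' y⟩⟩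
  -- generic fibre
  have hgen : GeometricallyConnected (pullback.snd f' jK) := by
    let m : pullback f' jK ⟶ pullback N.hom jK := pullback.map f' jK N.hom jK U.ι (𝟙 _) (𝟙 _) (by simp [f']) (by simp)
    have sq : IsPullback m (pullback.fst f' jK) (pullback.fst N.hom jK) U.ι := by
      refine (IsPullback.of_bot ?_ ?_ (IsPullback.of_hasPullback N.hom jK)).flip
      · rw [pullback.lift_snd, Category.comp_id]
        exact IsPullback.of_hasPullback f' jK
      · exact (pullback.lift_fst _ _ _).symm
    have : IsOpenImmersion m := MorphismProperty.of_isPullback sq.flip inferInstance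
    have : Surjective m := by
      refine ⟨fun z => ?_⟩
      have hz : pullback.fst N.hom jK z ∈ U := (hU _).2 fun hz => by
        exfalso
        have h1 : jK (pullback.snd N.hom jK z) = IsLocalRing.closedPoint R :=
          ((S4070.apply_of_comp_eq (pullback.condition (f := N.hom) (g := jK)).symm z).trans
            (Scheme.Hom.comp_apply _ _ z)).trans hz
        have h2 : (jK (pullback.snd N.hom jK z)).asIdeal = ⊥ := by
          change Ideal.comap (algebraMap R K) _ = ⊥
          rw [(Ideal.eq_bot_or_top _).resolve_right (pullback.snd N.hom jK z).isPrime.ne_top]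
          exact Ideal.comap_bot_of_injective _ (IsFractionRing.injective R K)
        rw [h1] at h2
        exact IsDiscreteValuationRing.not_a_field R h2
      obtain ⟨u, hu⟩ : pullback.fst N.hom jK z ∈ Set.range U.ι := by rw [Scheme.Opens.range_ι]; exact hz
      obtain ⟨w, hw, -⟩ := exists_preimage sq z u hu.symm
      exact ⟨w, hw⟩
    have : IsIso m := (isIso_iff_isOpenImmersion_and_epi_base m).2
      ⟨inferInstance, (TopCat.epi_iff_surjective _).2 m.surjective⟩
    have : GeometricallyIrreducible (pullback.snd N.hom jK) :=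
      inferInstanceAs (GeometricallyIrreducible ((SGA7.genFib R K).obj N).hom)
    have hgc := geometricallyConnected_of_irreducible (pullback.snd N.hom jK)
    have : MorphismProperty.RespectsIso (@GeometricallyConnected.{u}) :=
      MorphismProperty.IsStableUnderBaseChange.respectsIso
    rw [show pullback.snd f' jK = m ≫ pullback.snd N.hom jK by
      rw [pullback.lift_snd, Category.comp_id]]
    exact (MorphismProperty.cancel_left_of_respectsIso @GeometricallyConnected m _).2 hgc
  -- special fibre
  let m : pullback f' ρ ⟶ pullback N.hom ρ := pullback.map f' ρ N.hom ρ U.ι (𝟙 _) (𝟙 _) (by simp [f']) (by simp)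
  have sq : IsPullback m (pullback.fst f' ρ) i U.ι := by
    refine (IsPullback.of_bot ?_ ?_ (IsPullback.of_hasPullback N.hom ρ)).flip
    · rw [pullback.lift_snd, Category.comp_id]
      exact IsPullback.of_hasPullback f' ρ
    · exact (pullback.lift_fst _ _ _).symm
  have : IsOpenImmersion m := MorphismProperty.of_isPullback sq.flip inferInstance
  have hrange : Set.range m = connectedComponent w₀ := by
    ext w
    constructor
    · rintro ⟨a, rfl⟩
      have h1 : i (m a) ∈ U := by
        rw [← Scheme.Hom.comp_apply, sq.w, Scheme.Hom.comp_apply]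
        exact (pullback.fst f' ρ a).2
      obtain ⟨w', hw', e⟩ := (hU _).1 h1 ((S4070.range_sfib N).subset ⟨_, rfl⟩)
      exact i.isClosedEmbedding.injective e ▸ hw'
    · intro hw
      obtain ⟨u, hu⟩ : i w ∈ Set.range U.ι := by
        rw [Scheme.Opens.range_ι]; exact (hU _).2 fun _ => ⟨w, hw, rfl⟩
      obtain ⟨a, ha, -⟩ := exists_preimage sq w u hu.symm
      exact ⟨a, ha⟩
  have : IsClosedImmersion m := IsClosedImmersion.of_isPreimmersion m (hrange ▸ isClosed_connectedComponent)
  have hm : pullback.snd f' ρ = m ≫ pullback.snd N.hom ρ := by rw [pullback.lift_snd, Category.comp_id]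
  have : IsProper (pullback.snd N.hom ρ) :=
    inferInstanceAs (IsProper (Red.bc (Spec.map (CommRingCat.ofHom (IsLocalRing.residue R))) N).hom)
  have hproper : IsProper (pullback.snd f' ρ) := by rw [hm]; infer_instance
  have : ConnectedSpace ↥(pullback f' ρ) := by
    have h1 : _root_.IsConnected (Set.range m) := hrange ▸ isConnected_connectedComponent
    rw [connectedSpace_iff_univ]
    refine ⟨?_, m.isEmbedding.isInducing.isPreconnected_image.1 (Set.image_univ.symm ▸ h1.isPreconnected)⟩
    obtain ⟨_, a, -⟩ := h1.nonempty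
    exact ⟨a, trivial⟩
  have hspec : GeometricallyConnected (pullback.snd f' ρ) :=
    geometricallyConnected_of_connected_section _ (pullback.lift (ρ ≫ η') (𝟙 _)
      (by rw [Category.assoc, hη', Category.comp_id, Category.id_comp])) (pullback.lift_snd _ _ _)
  -- all fibres
  have hcp : ρ (IsLocalRing.closedPoint (IsLocalRing.ResidueField R)) = IsLocalRing.closedPoint R :=
    IsLocalRing.comap_closedPoint (IsLocalRing.residue R)
  have hgp : (jK (IsLocalRing.closedPoint K)).asIdeal = ⊥ := by
    change Ideal.comap (algebraMap R K) _ = ⊥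
    rw [show (IsLocalRing.closedPoint K).asIdeal = ⊥ from IsLocalRing.maximalIdeal_eq_bot]
    exact Ideal.comap_bot_of_injective _ (IsFractionRing.injective R K)
  have hconn : ∀ y, GeometricallyConnected (f'.fiberToSpecResidueField y) := by
    intro y
    by_cases hy : y.asIdeal = ⊥
    · obtain rfl : y = jK (IsLocalRing.closedPoint K) := PrimeSpectrum.ext (hy.trans hgp.symm)
      exact fibre_of_field_point @GeometricallyConnected f' K jK hgen
    · obtain rfl : y = IsLocalRing.closedPoint R :=
        PrimeSpectrum.ext (IsLocalRing.eq_maximalIdeal (y.isPrime.isMaximal hy))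
      rw [← hcp]
      exact fibre_of_field_point @GeometricallyConnected f' (IsLocalRing.ResidueField R) ρ hspec
  obtain ⟨U₀, hU₀, hUp⟩ := Groth.Agent.S2569.result f' (isQuotientMap_universally f') hconn
    (IsLocalRing.closedPoint R) (hcp ▸ fibre_of_field_point @IsProper f' (IsLocalRing.ResidueField R) ρ hproper)
  have hf' : IsProper f' := by
    refine IsZariskiLocalAtTarget.of_forall_exists_morphismRestrict fun x => ⟨U₀, ?_, hUp⟩
    exact (IsLocalRing.specializes_closedPoint x).mem_open U₀.2 hU₀
  -- `U` is closed and dense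
  have hιp : IsProper U.ι := IsProper.of_comp U.ι N.hom
  have hUtop : U = ⊤ := by
    refine eq_top_iff.2 fun z _ => not_not.1 fun hz => ?_
    have hV : IsOpen (U : Set N.left)ᶜ := by
      rw [← Scheme.Opens.range_ι]
      exact U.ι.isClosedMap.isClosed_range.isOpen_compl
    let ξ : Spec (CommRingCat.of R) := ⟨⊥, Ideal.isPrime_bot⟩
    have hξ : ξ ⤳ N.hom z := (PrimeSpectrum.le_iff_specializes ξ _).1 (bot_le : (⊥ : Ideal R) ≤ _)
    obtain ⟨z', hz'V, hz'⟩ := hξ.mem_open (N.hom.isOpenMap _ hV) ⟨z, hz, rfl⟩
    refine hz'V ((hU z').2 fun hs => ?_)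
    exact absurd (congrArg PrimeSpectrum.asIdeal (hz'.symm.trans hs)).symm (IsDiscreteValuationRing.not_a_field R)
  subst hUtop
  have : IsIso (⊤ : N.left.Opens).ι := inferInstanceAs (IsIso N.left.topIso.hom)
  exact (MorphismProperty.cancel_left_of_respectsIso @IsProper (⊤ : N.left.Opens).ι N.hom).1 hf'

end Groth.Agent.S4058
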