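import Groth.Statements.S17459
import Mathlib
import Groth.Agent.S4058
import Groth.Agent.S5337
import Groth.Agent.S18385

set_option autoImplicit false
universe u
open CategoryTheory CategoryTheory.Limits AlgebraicGeometry MonObj
open SGA7 MonoidalCategory CartesianMonoidalCategory Groth.Agent

namespace Groth.Agent.S17459

/-- `x` is isolated in the fibre of `f` through it. -/
def Isolated {X Y : Type u} [TopologicalSpace X] (f : X → Y) (x : X) : Prop :=
  ∃ V : Set X, IsOpen V ∧ x ∈ V ∧ ∀ y ∈ V, f y = f x → y = x

theorem isolated_iff_quasiFiniteAt {X Y : Scheme.{u}} (f : X ⟶ Y) [LocallyOfFiniteType f] (x : X) :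
    f.QuasiFiniteAt x ↔ Isolated f x := by
  rw [Scheme.Hom.quasiFiniteAt_iff_isOpen_singleton_asFiber, ← (f.fiberHomeo (f x)).isOpen_image,
    Set.image_singleton, Scheme.Hom.asFiber, Homeomorph.apply_symm_apply]
  constructor
  · intro h
    obtain ⟨V, hV, he⟩ := isOpen_induced_iff.1 h
    refine ⟨V, hV, ?_, fun y hy hfy => ?_⟩
    · exact (Set.ext_iff.1 he ⟨x, rfl⟩).2 rfl
    · exact congrArg Subtype.val ((Set.ext_iff.1 he ⟨y, hfy⟩).1 hy)
  · rintro ⟨V, hV, hxV, h⟩
    refine isOpen_induced_iff.2 ⟨V, hV, Set.ext fun y => ⟨fun hy => Subtype.ext (h y hy y.2), ?_⟩⟩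
    rintro rfl
    exact hxV

/-- Isolated points along a square whose verticals are embeddings, the left one containing whole fibres. -/
theorem isolated_of_square {A B X Y : Type u} [TopologicalSpace A] [TopologicalSpace X]
    (i : A → X) (j : B → Y) (g : A → B) (f : X → Y) (hi : Topology.IsInducing i) (hj : Function.Injective j)
    (hsq : ∀ a, f (i a) = j (g a)) (a : A) (hfull : ∀ x, f x = f (i a) → x ∈ Set.range i)
    (h : Isolated g a) : Isolated f (i a) := by
  obtain ⟨V, hV, haV, h⟩ := h
  obtain ⟨V', hV', rfl⟩ := hi.isOpen_iff.1 hV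
  refine ⟨V', hV', haV, fun x hx hfx => ?_⟩
  obtain ⟨b, rfl⟩ := hfull x hfx
  exact congrArg i (h b hx (hj (by rw [← hsq, ← hsq, hfx])))

theorem isolated_of_square' {A B X Y : Type u} [TopologicalSpace A] [TopologicalSpace X]
    (i : A → X) (j : B → Y) (g : A → B) (f : X → Y) (hi : Continuous i) (hinj : Function.Injective i)
    (hsq : ∀ a, f (i a) = j (g a)) (a : A) (h : Isolated f (i a)) : Isolated g a := by
  obtain ⟨V, hV, haV, h⟩ := h
  exact ⟨i ⁻¹' V, hV.preimage hi, haV, fun b hb hgb => hinj (h (i b) hb (by rw [hsq, hsq, hgb]))⟩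

theorem locallyQuasiFinite_of_isolated {X Y : Scheme.{u}} (f : X ⟶ Y) [LocallyOfFiniteType f]
    [TopologicalSpace.NoetherianSpace X] (h : ∀ x, Isolated f x) : LocallyQuasiFinite f := by
  refine LocallyQuasiFinite.of_finite_preimage_singleton f fun y => ?_
  haveI : DiscreteTopology ↥(f ⁻¹' {y}) := by
    rw [discreteTopology_iff_isOpen_singleton]
    rintro ⟨x, hx⟩
    obtain ⟨V, hV, hxV, hu⟩ := h x
    refine isOpen_induced_iff.2 ⟨V, hV, Set.ext fun z => ⟨fun hz => Subtype.ext (hu z hz ?_), ?_⟩⟩
    · exact (z.2 : f _ = y).trans (hx : f _ = y).symm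
    · rintro rfl; exact hxV
  haveI : TopologicalSpace.NoetherianSpace ↥(f ⁻¹' {y}) := Topology.IsInducing.subtypeVal.noetherianSpace
  exact Set.finite_coe_iff.1 (finite_of_compact_of_discrete)

theorem map_left_fst {S S' : Scheme.{u}} (σ : S' ⟶ S) {X Y : Over S} (v : X ⟶ Y) (a : ↥((Over.pullback σ).obj X).left) :
    v.left (pullback.fst X.hom σ a) = pullback.fst Y.hom σ (((Over.pullback σ).map v).left a) := by
  have h : ((Over.pullback σ).map v).left ≫ pullback.fst Y.hom σ = pullback.fst X.hom σ ≫ v.left :=
    pullback.lift_fst _ _ _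
  rw [← Scheme.Hom.comp_apply, ← h, Scheme.Hom.comp_apply]

/-- The projection of a base change, with the source written as the functor's value. -/
noncomputable def prj {S S' : Scheme.{u}} (σ : S' ⟶ S) (X : Over S) : ((Over.pullback σ).obj X).left ⟶ X.left :=
  pullback.fst X.hom σ

instance {S S' : Scheme.{u}} (σ : S' ⟶ S) (X : Over S) [IsPreimmersion σ] : IsPreimmersion (prj σ X) :=
  inferInstanceAs (IsPreimmersion (pullback.fst X.hom σ))

theorem range_prj {S S' : Scheme.{u}} (σ : S' ⟶ S) (X : Over S) :
    Set.range (prj σ X) = X.hom ⁻¹' Set.range σ :=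
  Scheme.Pullback.range_fst X.hom σ

theorem prj_map {S S' : Scheme.{u}} (σ : S' ⟶ S) {X Y : Over S} (v : X ⟶ Y)
    (a : ((Over.pullback σ).obj X).left) :
    v.left (prj σ X a) = prj σ Y (((Over.pullback σ).map v).left a) :=
  map_left_fst σ v a

theorem isolated_prj {S S' : Scheme.{u}} (σ : S' ⟶ S) [IsPreimmersion σ] {X Y : Over S} (v : X ⟶ Y)
    (a : ((Over.pullback σ).obj X).left) (h : Isolated ((Over.pullback σ).map v).left a) :
    Isolated v.left (prj σ X a) := by
  refine isolated_of_square (prj σ X) (prj σ Y) ((Over.pullback σ).map v).left v.left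
    (prj σ X).isEmbedding.isInducing (prj σ Y).isEmbedding.injective (prj_map σ v) a (fun x hx => ?_) h
  rw [range_prj]
  show X.hom x ∈ Set.range σ
  have e : ∀ z, Y.hom (v.left z) = X.hom z := fun z => S4070.apply_of_comp_eq (Over.w v) z
  rw [← e x, hx, e]
  exact (range_prj σ X).subset ⟨a, rfl⟩

theorem isolated_bc {S S' : Scheme.{u}} (σ : S' ⟶ S) [IsPreimmersion σ] {X Y : Over S} (v : X ⟶ Y)
    (a : ((Over.pullback σ).obj X).left) (h : Isolated v.left (prj σ X a)) :
    Isolated ((Over.pullback σ).map v).left a :=
  isolated_of_square' (prj σ X) (prj σ Y) ((Over.pullback σ).map v).left v.left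
    (prj σ X).continuous (prj σ X).isEmbedding.injective (prj_map σ v) a h

/-- Let R be a discrete valuation ring with fraction field K, let N and N' be group schemes over Spec R
which are Néron models of their generic fibres A = N_K and B = N'_K, abelian varieties (proper and
geometrically integral) of the same dimension, and let u : N → N' be a homomorphism (the extension
of u_K : A → B). If the homomorphism induced by u on the special fibres is locally quasi-finite — as
it is when it restricts to an isogeny between the identity components, the printed hypothesis, which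
also forces dim A = dim B — then u_K is an isogeny: its underlying map is surjective and its kernel
is finite. -/
theorem result (R K : Type u) [CommRing R] [IsDomain R]
    [IsDiscreteValuationRing R] [Field K] [Algebra R K] [IsFractionRing R K]
    (N N' : Over (Spec (CommRingCat.of R))) [GrpObj N] [GrpObj N']
    (hN : SGA7.IsNeron R K N) (hN' : SGA7.IsNeron R K N')
    [IsProper ((SGA7.genFib R K).obj N).hom] [GeometricallyIntegral ((SGA7.genFib R K).obj N).hom]
    [IsProper ((SGA7.genFib R K).obj N').hom] [GeometricallyIntegral ((SGA7.genFib R K).obj N').hom]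
    (hdim : topologicalKrullDim ↥((SGA7.genFib R K).obj N).left = topologicalKrullDim ↥((SGA7.genFib R K).obj N').left)
    (u : N ⟶ N') [IsMonHom u]
    [LocallyQuasiFinite (SGA7.fibreHom (IsLocalRing.closedPoint R) u).left] :
    SGA7.IsIsogenyOver ((SGA7.genFib R K).map u) := by
  obtain ⟨hsm, hsep, hqc, -⟩ := hN
  obtain ⟨hsm', hsep', hqc', -⟩ := hN'
  have := hsm
  have := hsep
  have := hqc
  have := hsm'
  have := hsep'
  have := hqc'
  have hu' : u.left ≫ N'.hom = N.hom := Over.w u
  have : LocallyOfFiniteType u.left := by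
    have : LocallyOfFiniteType (u.left ≫ N'.hom) := by rw [hu']; infer_instance
    exact locallyOfFiniteType_of_comp _ N'.hom
  let c : ↥(Spec (CommRingCat.of R)) := IsLocalRing.closedPoint R
  let jK := Spec.map (CommRingCat.ofHom (algebraMap R K))
  let js := (Spec (CommRingCat.of R)).fromSpecResidueField c
  have hK : IsPreimmersion jK := IsPreimmersion.of_isLocalization (R := R) (S := K) (nonZeroDivisors R)
  let us := (SGA7.fibreHom c u).left
  have hlqfs : LocallyQuasiFinite us := by assumption
  -- the unit at the closed point is a point of quasi-finiteness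
  let p := η[N].left c
  have hηN : η[N].left ≫ N.hom = 𝟙 _ := Over.w η[N]
  have hp : N.hom p = c := S4070.apply_of_comp_eq hηN c
  have hpq : u.left.QuasiFiniteAt p := by
    obtain ⟨p₀, hp₀⟩ : p ∈ Set.range (prj js N) := by
      rw [range_prj, Scheme.range_fromSpecResidueField]; exact hp
    haveI : LocallyOfFiniteType us := by
      haveI : LocallyOfFiniteType (us ≫ ((Over.pullback js).obj N').hom) := by
        rw [Over.w ((Over.pullback js).map u)]
        exact inferInstanceAs (LocallyOfFiniteType (pullback.snd N.hom js))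
      exact locallyOfFiniteType_of_comp _ ((Over.pullback js).obj N').hom
    rw [isolated_iff_quasiFiniteAt, ← hp₀]
    exact isolated_prj js u p₀ ((isolated_iff_quasiFiniteAt us p₀).1 (us.quasiFiniteAt p₀))
  -- the generic fibre
  letI : GrpObj ((Over.pullback jK).obj N) := Functor.grpObjObj
  let A := (SGA7.genFib R K).obj N
  let B := (SGA7.genFib R K).obj N'
  let uK : A ⟶ B := (SGA7.genFib R K).map u
  haveI : Smooth A.hom := inferInstanceAs (Smooth (pullback.snd N.hom jK))
  haveI : Smooth B.hom := inferInstanceAs (Smooth (pullback.snd N'.hom jK))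
  haveI : GeometricallyConnected A.hom := S4058.geometricallyConnected_of_irreducible A.hom
  haveI : GeometricallyConnected B.hom := S4058.geometricallyConnected_of_irreducible B.hom
  haveI : IsProper (uK.left ≫ B.hom) := by rw [Over.w uK]; infer_instance
  haveI : IsProper uK.left := IsProper.of_comp uK.left B.hom
  haveI : IsLocallyNoetherian A.left := LocallyOfFiniteType.isLocallyNoetherian A.hom
  haveI : CompactSpace A.left := QuasiCompact.compactSpace_of_compactSpace A.hom
  haveI : AlgebraicGeometry.IsNoetherian A.left := {}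
  let W : A.left.Opens := prj jK N ⁻¹ᵁ u.left.quasiFiniteLocus
  have hWne : (W : Set A.left).Nonempty := by
    let g : ↥(Spec (CommRingCat.of R)) := jK (IsLocalRing.closedPoint K)
    have hgc : g ⤳ c := IsLocalRing.specializes_closedPoint _
    have hmem : η[N].left g ∈ u.left.quasiFiniteLocus :=
      (hgc.map η[N].left.continuous).mem_open u.left.quasiFiniteLocus.2 hpq
    obtain ⟨a, ha⟩ : η[N].left g ∈ Set.range (prj jK N) := by
      rw [range_prj]
      exact ⟨IsLocalRing.closedPoint K, (S4070.apply_of_comp_eq hηN g).symm⟩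
    exact ⟨a, show prj jK N a ∈ u.left.quasiFiniteLocus from ha ▸ hmem⟩
  haveI : LocallyOfFiniteType uK.left := inferInstance
  have hWlqf : LocallyQuasiFinite (W.ι ≫ uK.left) := by
    haveI : TopologicalSpace.NoetherianSpace ↥W.toScheme := W.ι.isEmbedding.isInducing.noetherianSpace
    refine locallyQuasiFinite_of_isolated _ fun w => ?_
    have h1 : Isolated u.left (prj jK N w.1) := (isolated_iff_quasiFiniteAt _ _).1 w.2
    have h2 : Isolated uK.left w.1 := isolated_bc jK u w.1 h1
    exact isolated_of_square' W.ι id (W.ι ≫ uK.left) uK.left W.ι.continuous W.ι.isEmbedding.injective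
      (fun a => (Scheme.Hom.comp_apply W.ι uK.left a).symm) w h2
  haveI : IsMonHom uK := inferInstanceAs (IsMonHom ((Over.pullback jK).map u))
  have hlqf : LocallyQuasiFinite uK.left := (Groth.Agent.S5337.result K A B uK W hWne).1 hWlqf
  haveI := hlqf
  refine ⟨(Groth.Agent.S18385.result A B uK ?_).1 hlqf, fun Z i hi => ?_⟩
  · intro s
    have key : ∀ (X : Scheme.{u}) (f : X ⟶ Spec (CommRingCat.of K)),
        topologicalKrullDim ↥(f.fiber s) = topologicalKrullDim X := fun X f => by
      have e : ↥(f ⁻¹' {s}) ≃ₜ ↥X :=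
        (Homeomorph.setCongr (Set.eq_univ_of_forall fun x => Subsingleton.elim (α := PrimeSpectrum K) (f x) s)).trans
          (Homeomorph.Set.univ X)
      exact IsHomeomorph.topologicalKrullDim_eq _ ((f.fiberHomeo s).trans e).isHomeomorph
    rw [key, key]
    exact hdim
  · haveI : IsFinite uK.left := IsFinite.of_isProper_of_locallyQuasiFinite uK.left
    have sq := hi.map (Over.forget _)
    exact MorphismProperty.of_isPullback (P := @IsFinite) sq (inferInstanceAs (IsFinite uK.left))

end Groth.Agent.S17459
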