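import Groth.Statements.S17465
import Groth.Agent.Chevalley.CommAff.Finite
import Groth.Agent.GrpSchLib.AffToProper
-- import your own Groth.Agent.* helpers here

set_option autoImplicit false
set_option backward.isDefEq.respectTransparency false
set_option maxHeartbeats 1000000
set_option linter.style.haveILetI false
universe u
open CategoryTheory MonoidalCategory CartesianMonoidalCategory MonObj GrpObj AlgebraicGeometry CategoryTheory.Limits
open AlgGrp

namespace Groth.Agent.S17465

/-- Let k be a field and f : G' → G an isogeny, i.e. a surjective homomorphism with finite kernel,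
between smooth connected commutative affine k-group schemes of finite type. Then G' is a torus
exactly when G is one. (The published sentence draws this conclusion after treating surjective
homomorphisms and isogenies together; for a surjective homomorphism with positive-dimensional kernel
only the implication from G' to G survives — the projection of the product of the multiplicative and
the additive group onto the multiplicative group is surjective with a non-torus source — so the
equivalence is stated for isogenies, the case the dimension count in the printed proof covers. The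
companion clause about unipotence is not stated.) -/
theorem result (k : Type u) [Field k]
    (G' G : Over (Spec (CommRingCat.of k))) [GrpObj G'] [GrpObj G] [IsCommMonObj G'] [IsCommMonObj G]
    [Smooth G'.hom] [QuasiCompact G'.hom] [ConnectedSpace ↥G'.left] [IsAffine G'.left]
    [Smooth G.hom] [QuasiCompact G.hom] [ConnectedSpace ↥G.left] [IsAffine G.left]
    (f : G' ⟶ G) [IsMonHom f] (hf : SGA7.IsIsogenyOver f) :
    Red.IsTorus G' ↔ Red.IsTorus G := by
  obtain ⟨hsurj, hfin⟩ := hf
  haveI := hsurj
  haveI := GrpSchLib.AntiAffine.isSeparated_grp G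
  haveI := GrpSchLib.AntiAffine.isSeparated_grp G'
  constructor
  · intro hT
    haveI : AlgebraicGeometry.IsReduced G.left := GrpSchLib.isReduced_of_smooth_field G.hom
    haveI : QuasiCompact (f.left ≫ G.hom) := by rw [Over.w f]; infer_instance
    haveI : QuasiCompact f.left := QuasiCompact.of_comp f.left G.hom
    haveI := GrpSchLib.flat_of_surjective_hom f
    exact Chevalley.CommAff.isTorus_image hT f
  · intro hT
    haveI : Flat (toUnit G).left := inferInstanceAs (Flat G.hom)
    haveI : Surjective (toUnit G).left := ⟨fun x => ⟨η[G].left x, Subsingleton.elim (α := PrimeSpectrum k) _ _⟩⟩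
    haveI : IsProper (𝟙_ (Over (Spec (CommRingCat.of k)))).hom := inferInstanceAs (IsProper (𝟙 (Spec (CommRingCat.of k))))
    haveI : IsClosedImmersion (𝟙 G : G ⟶ G).left := inferInstanceAs (IsClosedImmersion (𝟙 G.left))
    haveI : IsIso η[𝟙_ (Over (Spec (CommRingCat.of k)))] := ⟨toUnit _, toUnit_unique _ _, toUnit_unique _ _⟩
    have hk : AlgGrp.IsKernel (𝟙 G) (toUnit G) := IsPullback.of_horiz_isIso ⟨toUnit_unique _ _⟩
    have hSA : Chevalley.CommAff.IsSA G := Chevalley.CommAff.isSA_of_proper_quot (𝟙 G) hT (toUnit G) hk
    obtain ⟨N, _, n, hn, hnc, -, hkn⟩ := GrpSchLib.exists_kernel f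
    haveI := hn; haveI := hnc
    haveI : IsFinite N.hom := hfin N n hkn
    obtain ⟨T, _, i, A, _, q, hi, hic, hT', hq, hqs, hqf, hk', hAp, hAs, hAc⟩ :=
      Chevalley.CommAff.isSA_of_isogeny f n hkn hSA
    haveI := hi; haveI := hic; haveI := hq; haveI := hAp; haveI := hAs; haveI := hAc
    haveI : Mono i := Over.mono_of_mono_left _
    have hq1 : q = 1 := GrpSchLib.AffToProper.hom_eq_one q
    have h1 : 𝟙 G' ≫ q = toUnit G' ≫ η[A] := by rw [Category.id_comp, hq1, Hom.one_def]
    haveI : IsSplitEpi i := ⟨⟨⟨hk'.lift (𝟙 G') (toUnit G') h1, hk'.lift_fst _ _ _⟩⟩⟩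
    haveI : IsIso i := isIso_of_mono_of_isSplitEpi i
    exact Chevalley.CommAff.isTorus_of_iso (Grp.mkIso (asIso i)) hT' 

end Groth.Agent.S17465
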