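import Groth.Statements.S17473
import Groth.Agent.Blanchard.Descend
import Groth.Agent.FpqcDescLib.Group
-- import your own Groth.Agent.* helpers here

set_option autoImplicit false
universe u
open CategoryTheory MonoidalCategory CartesianMonoidalCategory MonObj GrpObj AlgebraicGeometry CategoryTheory.Limits
open AlgGrp

namespace Groth.Agent.S17473

/-- Let k be a field, G a k-group scheme locally of finite type, X and Y separated k-schemes, f : X → Y
a proper k-morphism such that O_Y → f_*O_X is an isomorphism (on sections over every open subset of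
Y), and a an action of G on X. The following are equivalent: (i) some action of G on Y makes f
equivariant; (ii) X ×_Y X is stable under G acting diagonally on X × X, i.e. for every k-scheme T,
every T-point g of G and all T-points x₁, x₂ of X with f x₁ = f x₂ one has f (g · x₁) = f (g · x₂);
(iii) the underlying map of the composite G × X → X → Y is constant on the topological fibres of G ×
X → G × Y. (The published text works over an algebraically closed field; any field is allowed here.) -/
theorem result (k : Type u) [Field k]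
    (G X Y : Over (Spec (CommRingCat.of k))) [GrpObj G] [LocallyOfFiniteType G.hom]
    [IsSeparated X.hom] [IsSeparated Y.hom]
    (f : X ⟶ Y) [IsProper f.left] (hf : ∀ U : Y.left.Opens, IsIso (f.left.app U))
    (a : AlgGrp.Action G X) :
    [∃ b : AlgGrp.Action G Y, (G ◁ f) ≫ b.act = a.act ≫ f,
      ∀ (T : Over (Spec (CommRingCat.of k))) (g : T ⟶ G) (x₁ x₂ : T ⟶ X),
        x₁ ≫ f = x₂ ≫ f → lift g x₁ ≫ a.act ≫ f = lift g x₂ ≫ a.act ≫ f,
      ∀ p q : ↥(G ⊗ X).left, (G ◁ f).left.base p = (G ◁ f).left.base q →
        (a.act ≫ f).left.base p = (a.act ≫ f).left.base q].TFAE := by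
  have hflat : ∀ {Z : Scheme.{u}} (g : Z ⟶ Spec (CommRingCat.of k)), Flat g := fun g => by
    haveI : Subsingleton (Spec (CommRingCat.of k)) := inferInstanceAs (Subsingleton (PrimeSpectrum k))
    infer_instance
  have hbc : ∀ A : Over (Spec (CommRingCat.of k)),
      Blanchard.IsoOnBasis (A ◁ f).left ∧ UniversallyClosed (A ◁ f).left := fun A => by
    have H := ((FpqcDescLib.isPullback_whiskerLeft f A).map (Over.forget _)).flip
    have hfl : Flat ((Over.forget (Spec (CommRingCat.of k))).map (snd A Y)) :=
      MorphismProperty.pullback_snd _ _ (hflat A.hom)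
    have huc : UniversallyClosed f.left := inferInstance
    exact ⟨@Blanchard.isoOnBasis_of_isPullback _ _ f.left _ _ _ _ _ H hfl inferInstance inferInstance hf,
      MorphismProperty.of_isPullback (P := @UniversallyClosed) H huc⟩
  have hepi : ∀ A : Over (Spec (CommRingCat.of k)), Epi (A ◁ f) := fun A => by
    obtain ⟨h1, h2⟩ := hbc A
    haveI := h2
    haveI : Epi ((Over.forget _).map (A ◁ f)) :=
      GITQuot.epi_of_surjective_of_app_injective _ h1.surjective h1.app_injective
    exact (Over.forget _).epi_of_epi_map ‹_›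
  tfae_have 1 → 2 := by
    rintro ⟨b, hb⟩ T g x₁ x₂ h
    rw [← hb, ← Category.assoc, ← Category.assoc, lift_whiskerLeft, lift_whiskerLeft, h]
  tfae_have 2 → 3 := by
    intro h p q hpq
    obtain ⟨w, hw1, hw2⟩ := Scheme.Pullback.exists_preimage_pullback p q hpq
    let P := pullback (G ◁ f).left (G ◁ f).left
    let T : Over (Spec (CommRingCat.of k)) :=
      Over.mk (P.fromSpecResidueField w ≫ pullback.fst (G ◁ f).left (G ◁ f).left ≫ (G ⊗ X).hom)
    let u₁ : T ⟶ G ⊗ X := Over.homMk (P.fromSpecResidueField w ≫ pullback.fst _ _) (by simp [T])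
    let u₂ : T ⟶ G ⊗ X := Over.homMk (P.fromSpecResidueField w ≫ pullback.snd _ _) (by
      show (P.fromSpecResidueField w ≫ pullback.snd _ _) ≫ (G ⊗ X).hom = _
      rw [Category.assoc, ← Over.w (G ◁ f), ← pullback.condition_assoc, Over.w (G ◁ f)]
      rfl)
    have hu : u₁ ≫ (G ◁ f) = u₂ ≫ (G ◁ f) := Over.OverMorphism.ext (by
      show (P.fromSpecResidueField w ≫ pullback.fst _ _) ≫ (G ◁ f).left =
        (P.fromSpecResidueField w ≫ pullback.snd _ _) ≫ (G ◁ f).left
      rw [Category.assoc, Category.assoc, pullback.condition])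
    have e1 := congrArg (· ≫ fst G Y) hu
    have e2 := congrArg (· ≫ snd G Y) hu
    simp only [Category.assoc, whiskerLeft_fst, whiskerLeft_snd] at e1 e2
    have h' := h T (u₁ ≫ fst G X) (u₁ ≫ snd G X) (u₂ ≫ snd G X) (by simpa only [Category.assoc] using e2)
    rw [show lift (u₁ ≫ fst G X) (u₁ ≫ snd G X) = u₁ by ext <;> simp,
      show lift (u₁ ≫ fst G X) (u₂ ≫ snd G X) = u₂ by ext <;> simp [e1]] at h'
    have h'' := congrArg (fun m : T ⟶ Y => m.left (IsLocalRing.closedPoint (P.residueField w))) h'
    have hp : pullback.fst (G ◁ f).left (G ◁ f).left (P.fromSpecResidueField w (IsLocalRing.closedPoint _)) = p := by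
      rw [Scheme.fromSpecResidueField_apply, hw1]
    have hq : pullback.snd (G ◁ f).left (G ◁ f).left (P.fromSpecResidueField w (IsLocalRing.closedPoint _)) = q := by
      rw [Scheme.fromSpecResidueField_apply, hw2]
    rw [← hp, ← hq]
    exact h''
  tfae_have 3 → 1 := by
    intro h
    obtain ⟨h1, h2⟩ := hbc G
    haveI := h2
    obtain ⟨g, hg, -⟩ := Blanchard.exists_factor h1 (a.act ≫ f).left h
    haveI : Epi (G ◁ f).left := GITQuot.epi_of_surjective_of_app_injective _ h1.surjective h1.app_injective
    let act : G ⊗ Y ⟶ Y := Over.homMk g (by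
      rw [← cancel_epi (G ◁ f).left, reassoc_of% hg, Over.w, Over.w])
    have hact : (G ◁ f) ≫ act = a.act ≫ f := Over.OverMorphism.ext hg
    refine ⟨⟨act, ?_, ?_⟩, hact⟩
    · haveI := hepi (𝟙_ _)
      rw [← cancel_epi ((𝟙_ _) ◁ f), whisker_exchange_assoc, hact, ← Category.assoc, a.one_act]
      simp
    · haveI := hepi (G ⊗ G)
      rw [← cancel_epi ((G ⊗ G) ◁ f), whisker_exchange_assoc, hact, ← Category.assoc, a.mul_act,
        Category.assoc, Category.assoc, ← hact, tensor_whiskerLeft, Category.assoc, Category.assoc,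
        Iso.inv_hom_id_assoc, ← whiskerLeft_comp_assoc, ← whiskerLeft_comp_assoc, ← hact]
  tfae_finish

end Groth.Agent.S17473
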