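import Groth.Statements.S17476
import Groth.Agent.Hartogs.Basic
import Groth.Agent.ParaFX.Ufd

set_option autoImplicit false
universe u
open CategoryTheory AlgebraicGeometry Opposite
open Coh

namespace Groth.Agent.S17476
set_option backward.isDefEq.respectTransparency false
set_option backward.isDefEq.respectTransparency.types false
set_option linter.style.haveILetI false
set_option maxHeartbeats 800000
open CategoryTheory CategoryTheory.Limits AlgebraicGeometry TopologicalSpace Opposite

/-- Let R be a Noetherian ring, Z = Spec R, M a finitely generated R-module with associated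
quasi-coherent sheaf M~ (so that Hom_R(M, R) = Hom_Z(M~, O_Z)), and Z₀ ⊆ Z an open subscheme. (1) If
the restriction of functions Γ(Z, O_Z) → Γ(Z₀, O_Z) is injective, then the restriction map Hom_Z(M~,
O_Z) → Hom_{Z₀}(M~|Z₀, O_{Z₀}) is injective. (2) If R is an integrally closed domain and the closed
complement of Z₀ has codimension at least 2 (every prime ideal outside Z₀ has height at least 2),
then that restriction map is bijective. (The published first assertion assumes only that Z₀ is
dense; for R = k[x,y]/(x², xy), M = R and Z₀ the locus y ≠ 0, which is dense, multiplication by x is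
a nonzero element of Hom_R(M, R) restricting to zero, so schematic density is what is needed and
what the printed argument uses. The published second assertion is for a normal irreducible affine
variety; any Noetherian integrally closed domain is allowed here.) -/
theorem result (R : Type u) [CommRing R] [IsNoetherianRing R]
    (M : ModuleCat.{u} (CommRingCat.of R)) [Module.Finite R M] (U : (Spec (CommRingCat.of R)).Opens) :
    (Function.Injective ((Spec (CommRingCat.of R)).presheaf.map (homOfLE (le_top : U ≤ ⊤)).op) →
      Function.Injective (fun φ : AlgebraicGeometry.tilde M ⟶ Coh.structureModule (Spec (CommRingCat.of R)) =>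
        (Scheme.Modules.restrictFunctor U.ι).map φ)) ∧
    (IsDomain R → IsIntegrallyClosed R → (∀ p : PrimeSpectrum R, p ∉ U → (2 : ℕ∞) ≤ p.asIdeal.height) →
      Function.Bijective (fun φ : AlgebraicGeometry.tilde M ⟶ Coh.structureModule (Spec (CommRingCat.of R)) =>
        (Scheme.Modules.restrictFunctor U.ι).map φ)) := by
  classical
  let X := Spec (CommRingCat.of R)
  let O := Coh.structureModule X
  let res := X.presheaf.map (homOfLE (le_top : U ≤ ⊤)).op
  let u : O ⟶ (Scheme.Modules.pushforward U.ι).obj ((Scheme.Modules.restrictFunctor U.ι).obj O) :=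
    (Scheme.Modules.restrictAdjunction U.ι).unit.app O
  let G := moduleSpecΓFunctor (R := CommRingCat.of R)
  let aT := tilde.adjunction (R := CommRingCat.of R)
  have e : U.ι ''ᵁ (U.ι ⁻¹ᵁ ⊤) = U := Opens.ext (Set.image_univ.trans U.range_ι)
  have key : ∀ φ : AlgebraicGeometry.tilde M ⟶ O, (Scheme.Modules.restrictFunctor U.ι).map φ =
      ((Scheme.Modules.restrictAdjunction U.ι).homEquiv _ _).symm (φ ≫ u) ≫ 𝟙 _ := fun φ => by
    rw [Category.comp_id, Adjunction.homEquiv_counit, Functor.map_comp, Category.assoc]
    erw [(Scheme.Modules.restrictAdjunction U.ι).left_triangle_components O]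
    exact (Category.comp_id _).symm
  have hcomp : ∀ φ : AlgebraicGeometry.tilde M ⟶ O,
      aT.homEquiv _ _ (φ ≫ u) = aT.homEquiv _ _ φ ≫ G.map u := fun φ => aT.homEquiv_naturality_right _ _
  have hres : ∀ z, (G.map u).hom z = (X.presheaf.map (homOfLE (U.ι.image_preimage_le ⊤)).op) z := fun z => rfl
  have hsplit : ∀ z, (X.presheaf.map (eqToHom e).op) (res z) =
      (X.presheaf.map (homOfLE (U.ι.image_preimage_le ⊤)).op) z := fun z => by
    rw [show (homOfLE (U.ι.image_preimage_le ⊤)).op = (homOfLE (le_top : U ≤ ⊤)).op ≫ (eqToHom e).op from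
      Subsingleton.elim _ _, X.presheaf.map_comp]
    rfl
  have hee : Function.Bijective (X.presheaf.map (eqToHom e).op) := ConcreteCategory.bijective_of_isIso _
  have hinj : Function.Injective res →
      Function.Injective (fun φ : AlgebraicGeometry.tilde M ⟶ O => (Scheme.Modules.restrictFunctor U.ι).map φ) := by
    intro hi φ φ' h
    simp only [key, Category.comp_id] at h
    have h1 := congrArg (aT.homEquiv _ _) (((Scheme.Modules.restrictAdjunction U.ι).homEquiv _ _).symm.injective h)
    rw [hcomp, hcomp] at h1
    haveI : Mono (G.map u) := (ModuleCat.mono_iff_injective _).2 fun a b hab => by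
      rw [hres, hres, ← hsplit, ← hsplit] at hab
      exact hi (hee.1 hab)
    exact (aT.homEquiv _ _).injective ((cancel_mono _).1 h1)
  refine ⟨hinj, fun _ _ hU => ?_⟩
  have hb : Function.Bijective res := Hartogs.spec_bijective R U fun p hp => by
    haveI : IsIntegrallyClosed (Localization.AtPrime p.asIdeal) :=
      isIntegrallyClosed_of_isLocalization _ p.asIdeal.primeCompl p.asIdeal.primeCompl_le_nonZeroDivisors
    refine ParaFX.two_le_depth_of_normal _ ?_
    rw [IsLocalization.AtPrime.ringKrullDim_eq_height p.asIdeal (Localization.AtPrime p.asIdeal)]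
    exact WithBot.coe_le_coe.2 (hU p hp)
  haveI : IsIso (G.map u) := (ConcreteCategory.isIso_iff_bijective _).2 (by
    show Function.Bijective (G.map u).hom
    rw [show ⇑(G.map u).hom = (X.presheaf.map (eqToHom e).op) ∘ res from funext fun z => (hres z).trans (hsplit z).symm]
    exact hee.comp hb)
  refine ⟨hinj hb.1, fun ψ => ?_⟩
  let ψ' := (Scheme.Modules.restrictAdjunction U.ι).homEquiv _ _ ψ
  refine ⟨(aT.homEquiv _ _).symm (aT.homEquiv _ _ ψ' ≫ inv (G.map u)), ?_⟩
  show (Scheme.Modules.restrictFunctor U.ι).map _ = ψ
  rw [key, Category.comp_id, Equiv.symm_apply_eq]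
  apply (aT.homEquiv _ _).injective
  rw [hcomp, Equiv.apply_symm_apply, Category.assoc, IsIso.inv_hom_id]
  exact Category.comp_id _

end Groth.Agent.S17476
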