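import Groth.Statements.S17482
import Groth.Agent.CurveCohLib.Nonspecial
import Groth.Agent.QCoh.HHExact
import Groth.Agent.HomotopySeq.Main
import Groth.Agent.Lib.CurveEnd
-- import your own Groth.Agent.* helpers here

set_option autoImplicit false
set_option backward.isDefEq.respectTransparency false
set_option backward.isDefEq.respectTransparency.types false
set_option linter.style.haveILetI false
set_option maxHeartbeats 1000000
universe u
open CategoryTheory CategoryTheory.Limits AlgebraicGeometry
open Surf

namespace Groth.Agent.S17482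
open Groth.Agent

/-- Let k be an algebraically closed field of characteristic zero and X a smooth projective surface over
k (an integral scheme of dimension two with all local rings regular, admitting a closed immersion
into some P^n_k over k) such that H^1(X, O_X) = 0. Let D be a nonempty closed subscheme of X, given
by a quasi-coherent ideal sheaf whose associated O_X-module I_D is invertible (a nonzero effective
divisor). If H^1(X, I_D) = 0, then D is connected. (The published statement is for rational
surfaces; this row assumes only H^1(X, O_X) = 0. Since H^1(X, I_D) depends only on the isomorphism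
class of I_D, the same holds for every effective divisor linearly equivalent to D.) -/
theorem result
    (k : Type u) [Field k] [IsAlgClosed k] [CharZero k]
    (X : Scheme.{u}) [X.Over (Spec (CommRingCat.of k))] [AlgebraicGeometry.IsIntegral X]
    (hdim : topologicalKrullDim X = 2) (hreg : ∀ x : X, IsRegularLocalRing (X.presheaf.stalk x))
    (hproj : ∃ (n : ℕ) (ι : X ⟶ CohB1.ProjSpace n k), IsClosedImmersion ι ∧
      ι ≫ CohB1.ProjSpace.toSpec n k = (X ↘ (Spec (CommRingCat.of k))))
    (hH1 : Subsingleton (Coh.HH X (Coh.structureModule X) 1))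
    (D : X.IdealSheafData) (hD : PicF.IsInvertible (ClSub.idealMod D)) (hne : Nonempty ↥D.subscheme)
    (hvan : Subsingleton (Coh.HH X (ClSub.idealMod D) 1)) :
    ConnectedSpace ↥D.subscheme := by
  obtain ⟨n, ι', hι, hιs⟩ := hproj
  haveI := hι
  haveI : IsProper (X ↘ (Spec (CommRingCat.of k))) := by
    rw [← hιs]
    haveI : IsProper (CohB1.ProjSpace.toSpec n k) := Groth.Agent.PnCoh.Chow.isProper_toSpec n _
    infer_instance
  have hS := Groth.Agent.CurveCohLib.Nonspecial.ideal_shortExact D
  have hsurj := Groth.Agent.QCoh.app_top_surjective_of_HH_one hS hvan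
  let s := X ↘ (Spec (CommRingCat.of k))
  have hs : Function.Surjective (Coh.toGlobal s) := (Groth.Agent.CurveEnd.toGlobal_bijective (X := X) (k := k)).2
  have hsur : Function.Surjective (D.subschemeι.appTop) := hsurj
  have hq : Function.Surjective (Coh.toGlobal (D.subschemeι ≫ s)) := by
    intro z
    obtain ⟨w, rfl⟩ := hsur z
    obtain ⟨c, rfl⟩ := hs w
    exact ⟨c, rfl⟩
  haveI : Nonempty ((⊤ : D.subscheme.Opens) : Scheme.{u}) := ⟨⟨hne.some, trivial⟩⟩
  haveI : Nontrivial Γ(D.subscheme, ⊤) := inferInstance
  haveI : Nontrivial (Coh.Γtop D.subscheme) := ‹Nontrivial Γ(D.subscheme, ⊤)›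
  have hinj : Function.Injective (Coh.toGlobal (D.subschemeι ≫ s)) := RingHom.injective _
  refine Groth.Agent.HomotopySeq.connectedSpace_of_bijective (D.subschemeι ≫ s) ⟨fun a b hab => ?_, fun z => ?_⟩
  · obtain ⟨a, rfl⟩ := (ConcreteCategory.bijective_of_isIso (Scheme.ΓSpecIso (CommRingCat.of k)).inv).2 a
    obtain ⟨b, rfl⟩ := (ConcreteCategory.bijective_of_isIso (Scheme.ΓSpecIso (CommRingCat.of k)).inv).2 b
    exact congrArg _ (hinj hab)
  · obtain ⟨c, hc⟩ := hq z
    exact ⟨_, hc⟩

end Groth.Agent.S17482
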