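import Groth.Statements.S17483
import Groth.Agent.CurveCohLib.Nonspecial
import Groth.Agent.QCoh.HHExact
import Groth.Agent.GeomField.GlobalFunctions
import Groth.Agent.QCoh.Ab.Push
-- import your own Groth.Agent.* helpers here

set_option autoImplicit false
set_option backward.isDefEq.respectTransparency false
set_option backward.isDefEq.respectTransparency.types false
set_option linter.style.haveILetI false
set_option maxHeartbeats 1000000
universe u
open CategoryTheory CategoryTheory.Limits AlgebraicGeometry
open Surf

namespace Groth.Agent.S17483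
open Groth.Agent

/-- Let k be an algebraically closed field of characteristic zero and X a smooth projective surface over
k (an integral scheme of dimension two with all local rings regular, admitting a closed immersion
into some P^n_k over k) such that H^1(X, O_X) = 0. Let D be a closed subscheme of X, given by a
quasi-coherent ideal sheaf whose associated O_X-module I_D is invertible (an effective divisor). If
D is connected and reduced, then H^1(X, I_D) = 0. (The published statement asserts H^1(X, I_D) = 0
as soon as the linear system of D contains a connected curve, without reducedness; that fails: on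
the blow-up of the projective plane at a point, with exceptional curve E, the divisor D = 2E is
connected and is the only member of its linear system, yet H^0(O_{2E}) is three-dimensional, so
H^1(X, I_{2E}) is two-dimensional. The published statement is for rational surfaces; this row
assumes H^1(X, O_X) = 0 instead.) -/
theorem result
    (k : Type u) [Field k] [IsAlgClosed k] [CharZero k]
    (X : Scheme.{u}) [X.Over (Spec (CommRingCat.of k))] [AlgebraicGeometry.IsIntegral X]
    (hdim : topologicalKrullDim X = 2) (hreg : ∀ x : X, IsRegularLocalRing (X.presheaf.stalk x))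
    (hproj : ∃ (n : ℕ) (ι : X ⟶ CohB1.ProjSpace n k), IsClosedImmersion ι ∧
      ι ≫ CohB1.ProjSpace.toSpec n k = (X ↘ (Spec (CommRingCat.of k))))
    (hH1 : Subsingleton (Coh.HH X (Coh.structureModule X) 1))
    (D : X.IdealSheafData) (hD : PicF.IsInvertible (ClSub.idealMod D))
    [ConnectedSpace ↥D.subscheme] [IsReduced D.subscheme] :
    Subsingleton (Coh.HH X (ClSub.idealMod D) 1) := by
  obtain ⟨n, ι', hι, hιs⟩ := hproj
  haveI := hι
  haveI : IsProper (X ↘ (Spec (CommRingCat.of k))) := by
    rw [← hιs]
    haveI : IsProper (CohB1.ProjSpace.toSpec n k) := Groth.Agent.PnCoh.Chow.isProper_toSpec n _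
    infer_instance
  have hS := Groth.Agent.CurveCohLib.Nonspecial.ideal_shortExact D
  letI : D.subscheme.Over (Spec (CommRingCat.of k)) := ⟨D.subschemeι ≫ (X ↘ (Spec (CommRingCat.of k)))⟩
  haveI : IsProper (D.subscheme ↘ (Spec (CommRingCat.of k))) :=
    inferInstanceAs (IsProper (D.subschemeι ≫ (X ↘ (Spec (CommRingCat.of k)))))
  letI := Groth.Agent.GeomField.globalAlgebra k D.subscheme
  haveI : Algebra.IsIntegral k Γ(D.subscheme, ⊤) := Groth.Agent.GeomField.algebraMap_integral k D.subscheme
  haveI : IsDomain Γ(D.subscheme, ⊤) := (Groth.Agent.GeomField.isField_globalFunctions k D.subscheme).isDomain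
  have hb := IsAlgClosed.algebraMap_bijective_of_isIntegral (k := k) (K := Γ(D.subscheme, ⊤))
  have hsurj : Function.Surjective ((ClSub.toSubscheme D).app ⊤) := fun q => by
    obtain ⟨c, rfl⟩ := hb.2 q
    exact ⟨Coh.toGlobal (X ↘ (Spec (CommRingCat.of k))) c, rfl⟩
  let T := (ShortComplex.mk (ClSub.idealModι D) (ClSub.toSubscheme D) (kernel.condition _)).map (Groth.Agent.QCoh.toAbFunctor X)
  have hT : T.ShortExact := Groth.Agent.QCoh.toAb_shortExact hS
  refine subsingleton_of_forall_eq 0 fun x => ?_
  obtain ⟨z, rfl⟩ := Groth.Agent.QCoh.Ab.connecting_surjective (X := X.toPresheafedSpace.carrier) hT 0 hH1 x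
  refine (Groth.Agent.QCoh.Ab.connecting_eq_zero_iff (X := X.toPresheafedSpace.carrier) hT 0 z).2 ?_
  obtain ⟨y, hy⟩ := hsurj (Sheaf.H.equiv₀ T.X₃ isTerminalTop z)
  refine ⟨(Sheaf.H.equiv₀ T.X₂ isTerminalTop).symm y, (Sheaf.H.equiv₀ T.X₃ isTerminalTop).injective ?_⟩
  refine (Sheaf.H.equiv₀_naturality isTerminalTop T.g _).symm.trans ?_
  rw [AddEquiv.apply_symm_apply]
  exact hy

end Groth.Agent.S17483
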