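import Groth.Statements.S17486
import Groth.Agent.FittX.Sheaf
import Groth.Agent.S6894
import Groth.Agent.Bounded.Presented
import Groth.Agent.RGLib.Lim8Zero

set_option autoImplicit false
set_option backward.isDefEq.respectTransparency false
set_option backward.isDefEq.respectTransparency.types false
universe u
open CategoryTheory CategoryTheory.Limits AlgebraicGeometry
open Coherent

namespace Groth.Agent.S17486

open TensorProduct Opposite Groth.Agent.QCoh

variable {Y : Scheme.{u}}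

theorem flf {r : ℕ} {M : Y.Modules} (h : FlatMod.IsFinLocFreeOfRank r M) : FlatMod.IsFinLocFree M :=
  fun x => let ⟨W, hy, he⟩ := h x; ⟨W, r, hy, he⟩

noncomputable def secLin {M N : Y.Modules} (f : M ⟶ N) (U : Y.Opens) : Γ(M, U) →ₗ[Γ(Y, U)] Γ(N, U) :=
  { toFun := f.app U, map_add' := map_add (f.app U).hom, map_smul' := fun r x => f.app_smul r x }

lemma rank_bounds [IsLocallyNoetherian Y] {M : Y.Modules} {r : ℕ}
    (h : FlatMod.IsFinLocFreeOfRank r M) (hM : Coh.IsCoh M) {U : Y.Opens} (hU : IsAffineOpen U)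
    (p : Ideal Γ(Y, U)) [p.IsPrime] :
    Module.finrank p.ResidueField (p.ResidueField ⊗[Γ(Y, U)] Γ(M, U)) = r := by
  have : Module.Finite Γ(Y, U) Γ(M, U) := finite_sections hM hU
  obtain ⟨h1, h2⟩ := (FittX.isFinLocFreeOfRank_iff hM.1 hM.2 r).mp h
  have e : ∀ k, Fitt.ideal Γ(Y, U) Γ(M, U) k = (Fitt.sheafIdeal M k).ideal ⟨U, hU⟩ := fun k =>
    (FittX.sheafIdeal_ideal hM.1 hM.2 k ⟨U, hU⟩).symm
  apply le_antisymm
  · refine (Groth.Agent.S6894.result (Γ(M, U)) r p).1.mp fun hle => ?_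
    rw [e, h2 r le_rfl] at hle
    exact Ideal.IsPrime.ne_top inferInstance (top_le_iff.mp hle)
  · by_contra hlt
    push Not at hlt
    refine (Groth.Agent.S6894.result (Γ(M, U)) (r - 1) p).1.mpr (by omega) ?_
    rw [e, h1 (r - 1) (by omega)]
    exact bot_le


/-- Let k be an algebraically closed field of characteristic zero and Y a smooth projective variety over
k (an integral scheme, smooth over k, with a closed immersion into some P^n_k over k). Let A = A₁ ⊕
A₂ and B = B₁ ⊕ B₂ be finite locally free O_Y-modules with A_i of rank a_i ≥ 1 and B_j of rank b_j ≥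
1, a₁ + a₂ ≤ b₁ + b₂, such that the sheaves Hom(A₁, B₁), Hom(A₁, B₂), Hom(A₂, B₂) (right adjoints of
A_i ⊗ -, whose existence is the stated instance hypothesis; it holds) are globally generated while
every morphism A₂ → B₁ is zero (the sheaf Hom(A₂, B₁) has no nonzero global section). For φ : A → B
let Z(φ) ⊆ Y be the closed set where φ drops rank, i.e. where the rank of φ on fibres is less than
a₁ + a₂: the zero set of the (b₁ + b₂ - a₁ - a₂)-th Fitting ideal sheaf of the cokernel of φ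
(locally generated by the maximal minors of φ). If b₂ < a₂, then every φ : A → B drops rank at every
point of Y, i.e. Z(φ) = Y. -/
theorem result
    (k : Type u) [Field k] [IsAlgClosed k] [CharZero k]
    (Y : Scheme.{u}) [Y.Over (Spec (CommRingCat.of k))] [AlgebraicGeometry.IsIntegral Y]
    [Smooth (Y ↘ Spec (CommRingCat.of k))]
    (hproj : ∃ (N : ℕ) (ι : Y ⟶ CohB1.ProjSpace N k), IsClosedImmersion ι ∧
      ι ≫ CohB1.ProjSpace.toSpec N k = (Y ↘ (Spec (CommRingCat.of k))))
    (A₁ A₂ B₁ B₂ : Y.Modules) (a₁ a₂ b₁ b₂ : ℕ)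
    (hA₁ : FlatMod.IsFinLocFreeOfRank a₁ A₁) (hA₂ : FlatMod.IsFinLocFreeOfRank a₂ A₂)
    (hB₁ : FlatMod.IsFinLocFreeOfRank b₁ B₁) (hB₂ : FlatMod.IsFinLocFreeOfRank b₂ B₂)
    (ha₁ : 1 ≤ a₁) (ha₂ : 1 ≤ a₂) (hb₁ : 1 ≤ b₁) (hb₂ : 1 ≤ b₂) (hab : a₁ + a₂ ≤ b₁ + b₂)
    [DCoh.HasSheafHom A₁] [DCoh.HasSheafHom A₂]
    (h₁₁ : Curv2.IsGloballyGenerated ((DCoh.sheafHom A₁).obj B₁))
    (h₁₂ : Curv2.IsGloballyGenerated ((DCoh.sheafHom A₁).obj B₂))
    (h₂₂ : Curv2.IsGloballyGenerated ((DCoh.sheafHom A₂).obj B₂))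
    (h₂₁ : ∀ ψ : A₂ ⟶ B₁, ψ = 0) (hlt : b₂ < a₂) (φ : (A₁ ⊞ A₂) ⟶ (B₁ ⊞ B₂)) :
    (((Fitt.sheafIdeal (cokernel φ) (b₁ + b₂ - (a₁ + a₂))).support : TopologicalSpace.Closeds Y) : Set Y) = Set.univ := by
  have : IsLocallyNoetherian Y :=
    LocallyOfFiniteType.isLocallyNoetherian (Y ↘ Spec (CommRingCat.of k))
  have cA₁ : Coh.IsCoh A₁ := isCoh_iff_isFP.mpr (isFP_of_isFinLocFree (flf hA₁))
  have cA₂ : Coh.IsCoh A₂ := isCoh_iff_isFP.mpr (isFP_of_isFinLocFree (flf hA₂))
  have cB₁ : Coh.IsCoh B₁ := isCoh_iff_isFP.mpr (isFP_of_isFinLocFree (flf hB₁))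
  have cB₂ : Coh.IsCoh B₂ := isCoh_iff_isFP.mpr (isFP_of_isFinLocFree (flf hB₂))
  have cA : Coh.IsCoh (A₁ ⊞ A₂) := Bounded.isCoh_biprod' cA₁ cA₂
  have cB : Coh.IsCoh (B₁ ⊞ B₂) := Bounded.isCoh_biprod' cB₁ cB₂
  have cQ : Coh.IsCoh (cokernel φ) := isCoh_cokernel cA.1 cB φ
  let f : A₁ ⟶ B₁ := biprod.inl ≫ φ ≫ biprod.fst
  have cC : Coh.IsCoh (cokernel f) := isCoh_cokernel cA₁.1 cB₁ f
  have hw : φ ≫ biprod.fst ≫ cokernel.π f = 0 := by
    apply biprod.hom_ext'
    · rw [comp_zero]
      exact (by simp only [f, Category.assoc] : biprod.inl ≫ φ ≫ biprod.fst ≫ cokernel.π f = f ≫ cokernel.π f).trans (cokernel.condition f)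
    · rw [comp_zero]
      have := h₂₁ (biprod.inr ≫ φ ≫ biprod.fst)
      rw [← Category.assoc φ, ← Category.assoc biprod.inr, this, zero_comp]
  let g : cokernel φ ⟶ cokernel f := cokernel.desc φ (biprod.fst ≫ cokernel.π f) hw
  have : Epi g := by
    have : Epi (cokernel.π φ ≫ g) := by
      rw [cokernel.π_desc]
      exact epi_comp _ _
    exact epi_of_epi (cokernel.π φ) g
  ext x
  refine ⟨fun _ => trivial, fun _ => ?_⟩
  obtain ⟨_, ⟨U, hU, rfl⟩, hx, -⟩ :=
    Y.isBasis_affineOpens.exists_subset_of_mem_open (Set.mem_univ x) isOpen_univ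
  rw [SetLike.mem_coe, FittX.mem_support_sheafIdeal cQ.1 cQ.2 _ hU hx]
  set p := (hU.primeIdealOf ⟨x, hx⟩).asIdeal
  have : Module.Finite Γ(Y, U) Γ(cokernel φ, U) := finite_sections cQ hU
  have : Module.Finite Γ(Y, U) Γ(cokernel f, U) := finite_sections cC hU
  have : Module.Finite Γ(Y, U) Γ(A₁, U) := finite_sections cA₁ hU
  have : Module.Finite Γ(Y, U) Γ(B₁, U) := finite_sections cB₁ hU
  by_contra hfit
  have hQ := (Groth.Agent.S6894.result (Γ(cokernel φ, U)) _ p).1.mp hfit
  have hgs : Function.Surjective ((secLin g U).baseChange p.ResidueField) :=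
    LinearMap.lTensor_surjective p.ResidueField (g := secLin g U)
      (app_surjective_of_epi cQ.1 cC.1 g hU)
  have hCQ := LinearMap.finrank_le_finrank_of_surjective hgs
  let K := kernel (cokernel.π f)
  have cK : Coh.IsQCoh K := isQCoh_kernel cB₁.1 cC.1 _
  let q : A₁ ⟶ K := kernel.lift (cokernel.π f) f (cokernel.condition f)
  have : Epi q := inferInstanceAs (Epi (Abelian.factorThruImage f))
  have hex : Function.Exact (secLin f U) (secLin (cokernel.π f) U) := by
    intro b
    constructor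
    · intro hb
      let S := ShortComplex.mk (kernel.ι (cokernel.π f)) (cokernel.π f) (kernel.condition _)
      let G : Y.Modules ⥤ AddCommGrpCat.{u} :=
        Scheme.Modules.toPresheaf Y ⋙ (evaluation (Y.Opens)ᵒᵖ AddCommGrpCat.{u}).obj (op U)
      have : PreservesFiniteLimits (Scheme.Modules.toPresheaf Y) := inferInstance
      have : PreservesFiniteLimits ((evaluation (Y.Opens)ᵒᵖ AddCommGrpCat.{u}).obj (op U)) := ⟨fun _ _ _ => evaluation_preservesLimitsOfShape _⟩
      have : PreservesFiniteLimits G := comp_preservesFiniteLimits _ _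
      have : G.Additive := ⟨fun {_ _ _ _} => rfl⟩
      have : PreservesLimit (parallelPair (cokernel.π f) 0) G := inferInstance
      have h1 := (ShortComplex.ab_exact_iff _).1
        ((ShortComplex.exact_kernel (cokernel.π f)).map_of_mono_of_preservesKernel
          G inferInstance inferInstance) b hb
      obtain ⟨c, hc⟩ := h1
      obtain ⟨a, rfl⟩ := app_surjective_of_epi cA₁.1 cK q hU c
      refine ⟨a, ?_⟩
      show (f.app U).hom a = b
      rw [← hc]
      show _ = ((kernel.ι (cokernel.π f)).app U).hom ((q.app U).hom a)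
      have hq : q ≫ kernel.ι (cokernel.π f) = f := kernel.lift_ι _ _ _
      exact (congrArg (fun (t : A₁ ⟶ B₁) => (t.app U).hom a) hq).symm
    · rintro ⟨a, rfl⟩
      show ((cokernel.π f).app U).hom ((f.app U).hom a) = 0
      exact congrArg (fun (t : A₁ ⟶ cokernel f) => (t.app U).hom a) (cokernel.condition f)
  have hπs : Function.Surjective (secLin (cokernel.π f) U) :=
    app_surjective_of_epi cB₁.1 cC.1 _ hU
  have hex' : Function.Exact ((secLin f U).baseChange p.ResidueField)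
      ((secLin (cokernel.π f) U).baseChange p.ResidueField) :=
    lTensor_exact p.ResidueField hex hπs
  have e := LinearMap.finrank_range_add_finrank_ker ((secLin (cokernel.π f) U).baseChange p.ResidueField)
  rw [LinearMap.exact_iff.mp hex'] at e
  have hr := LinearMap.finrank_range_le ((secLin f U).baseChange p.ResidueField)
  have hrπ := Submodule.finrank_le (LinearMap.range ((secLin (cokernel.π f) U).baseChange p.ResidueField))
  rw [rank_bounds hA₁ cA₁ hU p] at hr
  rw [rank_bounds hB₁ cB₁ hU p] at e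
  omega

end Groth.Agent.S17486
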