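import Groth.Statements.S17487


set_option autoImplicit false
universe u
open CategoryTheory CategoryTheory.Limits AlgebraicGeometry
open Coherent

namespace Groth.Agent.S17487

/-- Let k be an algebraically closed field of characteristic zero and Y a smooth projective variety over
k (an integral scheme, smooth over k, with a closed immersion into some P^n_k over k). Let E_1, …,
E_n be coherent O_Y-modules forming a strong exceptional sequence, expressed through Ext groups in
the category of O_Y-modules (the Ext instance is the stated hypothesis; it holds): End(E_i) is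
one-dimensional over k, Ext^p(E_i, E_j) = 0 for all p when i > j, and Ext^p(E_i, E_j) = 0 for all i,
j when p ≥ 1 (indices here run over 0, …, n-1). Let d ≤ n and let 0 → K → M → F → 0 be a short exact
sequence of O_Y-modules in which K is isomorphic to a finite direct sum of copies of members E_i
with i < d and M to a finite direct sum of copies of members E_i with i ≥ d (a two-term resolution
of F by the sequence, split at d). Then Ext^p(E_i, F) = 0 for every i and every p ≥ 1, and Ext^p(F,
E_i) = 0 for every i < d and every p ≠ 1. (The published criterion also asks that the sequence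
generate the derived category, states the first vanishing only for i ≥ d, and adds conditions on
terms of the associated filtration and cofiltration of F, which are not restated here; the
vanishings above follow from the resolution alone.) -/
theorem result
    (k : Type u) [Field k] [IsAlgClosed k] [CharZero k]
    (Y : Scheme.{u}) [Y.Over (Spec (CommRingCat.of k))] [AlgebraicGeometry.IsIntegral Y]
    [Smooth (Y ↘ Spec (CommRingCat.of k))]
    (hproj : ∃ (N : ℕ) (ι : Y ⟶ CohB1.ProjSpace N k), IsClosedImmersion ι ∧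
      ι ≫ CohB1.ProjSpace.toSpec N k = (Y ↘ (Spec (CommRingCat.of k))))
    [HasExt.{u} Y.Modules]
    (n d : ℕ) (hdn : d ≤ n) (E : Fin n → Y.Modules) (hEcoh : ∀ i, Coh.IsCoh (E i))
    (hend : ∀ i, Module.finrank k (E i ⟶ E i) = 1)
    (hexc : ∀ i j : Fin n, j < i → ∀ p : ℕ, Subsingleton (Abelian.Ext (E i) (E j) p))
    (hstr : ∀ (i j : Fin n) (p : ℕ), 1 ≤ p → Subsingleton (Abelian.Ext (E i) (E j) p))
    (S : ShortComplex Y.Modules) (hS : S.ShortExact)
    (m₁ : ℕ) (c₁ : Fin m₁ → Fin n) (hc₁ : ∀ t, (c₁ t : ℕ) < d) (e₁ : S.X₁ ≅ ∐ fun t => E (c₁ t))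
    (m₂ : ℕ) (c₂ : Fin m₂ → Fin n) (hc₂ : ∀ t, d ≤ (c₂ t : ℕ)) (e₂ : S.X₂ ≅ ∐ fun t => E (c₂ t)) :
    (∀ (i : Fin n) (p : ℕ), 1 ≤ p → Subsingleton (Abelian.Ext (E i) S.X₃ p)) ∧
      (∀ i : Fin n, (i : ℕ) < d → ∀ p : ℕ, p ≠ 1 → Subsingleton (Abelian.Ext S.X₃ (E i) p)) := by
  have hfst : ∀ (m : ℕ) (c : Fin m → Fin n) (Z : Y.Modules) (p : ℕ),
      (∀ t, Subsingleton (Abelian.Ext Z (E (c t)) p)) → Subsingleton (Abelian.Ext Z (∐ fun t => E (c t)) p) := by
    intro m c Z p h
    let b : Bicone (fun t => E (c t)) := Bicone.ofColimitCocone (coproductIsCoproduct _)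
    exact (Abelian.Ext.addEquivBiproduct Z (c := b)
      (biconeIsBilimitOfColimitCoconeOfIsColimit (coproductIsCoproduct _)) p).toEquiv.subsingleton
  have hsnd : ∀ (m : ℕ) (c : Fin m → Fin n) (Z : Y.Modules) (p : ℕ),
      (∀ t, Subsingleton (Abelian.Ext (E (c t)) Z p)) → Subsingleton (Abelian.Ext (∐ fun t => E (c t)) Z p) := by
    intro m c Z p h
    let b : Bicone (fun t => E (c t)) := Bicone.ofColimitCocone (coproductIsCoproduct _)
    exact (Abelian.Ext.biproductAddEquiv (c := b)
      (biconeIsBilimitOfColimitCoconeOfIsColimit (coproductIsCoproduct _)) Z p).toEquiv.subsingleton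
  have hisoR : ∀ {Z A B : Y.Modules} (e : A ≅ B) (p : ℕ), Subsingleton (Abelian.Ext Z B p) →
      Subsingleton (Abelian.Ext Z A p) := by
    intro Z A B e p h
    refine ⟨fun x y => ?_⟩
    have := Subsingleton.elim (x.comp (Abelian.Ext.mk₀ e.hom) (add_zero p)) (y.comp (Abelian.Ext.mk₀ e.hom) (add_zero p))
    simpa using congrArg (fun z => z.comp (Abelian.Ext.mk₀ e.inv) (add_zero p)) this
  have hisoL : ∀ {Z A B : Y.Modules} (e : A ≅ B) (p : ℕ), Subsingleton (Abelian.Ext B Z p) →
      Subsingleton (Abelian.Ext A Z p) := by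
    intro Z A B e p h
    refine ⟨fun x y => ?_⟩
    have := Subsingleton.elim ((Abelian.Ext.mk₀ e.inv).comp x (zero_add p)) ((Abelian.Ext.mk₀ e.inv).comp y (zero_add p))
    simpa using congrArg (fun z => (Abelian.Ext.mk₀ e.hom).comp z (zero_add p)) this
  have hz : ∀ {A B : Y.Modules} {p : ℕ}, (∀ x : Abelian.Ext A B p, x = 0) → Subsingleton (Abelian.Ext A B p) :=
    fun h => ⟨fun x y => (h x).trans (h y).symm⟩
  refine ⟨fun i p hp => hz fun x => ?_, fun i hi p hp => hz fun x => ?_⟩
  · haveI h1 : Subsingleton (Abelian.Ext (E i) S.X₁ (p + 1)) :=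
      hisoR e₁ _ (hfst _ _ _ _ fun t => hstr _ _ _ (Nat.le_add_left 1 p))
    haveI h2 : Subsingleton (Abelian.Ext (E i) S.X₂ p) := hisoR e₂ _ (hfst _ _ _ _ fun t => hstr _ _ _ hp)
    obtain ⟨x₂, rfl⟩ := Abelian.Ext.covariant_sequence_exact₃ (X := E i) hS x rfl (Subsingleton.elim _ _)
    rw [Subsingleton.elim x₂ 0, Abelian.Ext.zero_comp]
  · have h2 : ∀ q, Subsingleton (Abelian.Ext S.X₂ (E i) q) := fun q => hisoL e₂ _ (hsnd _ _ _ _ fun t =>
      hexc _ _ (by have := hc₂ t; omega) q)
    haveI := h2 p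
    rcases p with _ | p
    · haveI := hS.epi_g
      exact Abelian.Ext.precomp_mk₀_injective_of_epi (E i) S.g (Subsingleton.elim _ _)
    · haveI h1 : Subsingleton (Abelian.Ext S.X₁ (E i) p) :=
        hisoL e₁ _ (hsnd _ _ _ _ fun t => hstr _ _ _ (by omega))
      obtain ⟨x₁, rfl⟩ := Abelian.Ext.contravariant_sequence_exact₃ hS (E i) x (Subsingleton.elim _ _)
        (show 1 + p = p + 1 by omega)
      rw [Subsingleton.elim x₁ 0, Abelian.Ext.comp_zero]

end Groth.Agent.S17487
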