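import Groth.Statements.S17504
import Groth.Agent.AVIndex.Orth

set_option autoImplicit false
set_option backward.isDefEq.respectTransparency false
set_option backward.isDefEq.respectTransparency.types false
set_option maxHeartbeats 1000000
set_option linter.style.haveILetI false
universe u
open CategoryTheory CategoryTheory.Limits MonoidalCategory CartesianMonoidalCategory MonObj GrpObj AlgebraicGeometry
open AbVar

namespace Groth.Agent.S17504
open Groth.Agent CategoryTheory AlgebraicGeometry
open scoped Groth.Agent.H23.PicMul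
set_option backward.isDefEq.respectTransparency false
set_option backward.isDefEq.respectTransparency.types false

/-- Let X be an abelian variety over a field k (a proper, geometrically integral k-group scheme), let L₁
and L₂ be invertible O_X-modules and M an O_X-module isomorphic to L₁ ⊗ L₂. Suppose that the
cohomology of L₁ is concentrated in degree i₁: H^j(X, L₁) = 0 for j ≠ i₁ and H^i₁(X, L₁) ≠ 0, that
likewise the cohomology of L₂ is concentrated in degree i₂, and that of M in degree i, each non-zero
in that degree (all three line bundles non-degenerate, with indices i₁, i₂, i). Then i ≤ i₁ + i₂. (A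
line bundle on an abelian variety is non-degenerate with index i exactly when its cohomology
vanishes outside degree i and is non-zero in degree i; this is how non-degeneracy and the index are
expressed here.) -/
theorem result
    (k : Type u) [Field k] (X : Over (Spec (CommRingCat.of k))) [GrpObj X] [IsProper X.hom] [GeometricallyIntegral X.hom]
    (L₁ L₂ M : X.left.Modules) (hL₁ : PicF.IsInvertible L₁) (hL₂ : PicF.IsInvertible L₂)
    (hM : Nonempty (M ≅ CohB1.tensorMod L₁ L₂)) (i₁ i₂ i : ℕ)
    (h₁ : ∀ j : ℕ, j ≠ i₁ → Subsingleton (Coh.HH X.left L₁ j)) (h₁' : Nontrivial (Coh.HH X.left L₁ i₁))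
    (h₂ : ∀ j : ℕ, j ≠ i₂ → Subsingleton (Coh.HH X.left L₂ j)) (h₂' : Nontrivial (Coh.HH X.left L₂ i₂))
    (h : ∀ j : ℕ, j ≠ i → Subsingleton (Coh.HH X.left M j)) (h' : Nontrivial (Coh.HH X.left M i)) :
    i ≤ i₁ + i₂ := by
  let t := AVIndex.clMap k
  haveI : IsProper (Red.bc t X).hom := (H23.BcComp.isAV_bc t X).1
  haveI : GeometricallyIntegral (Red.bc t X).hom := (H23.BcComp.isAV_bc t X).2
  have hMi : PicF.IsInvertible M :=
    H23.PicMul.isInvertible_of_iso hM.some.symm (H23.PicMul.isInvertible_tensor hL₁ hL₂)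
  have hc : ∀ {L : X.left.Modules} (hL : PicF.IsInvertible L) {i : ℕ},
      (∀ j, j ≠ i → Subsingleton (Coh.HH X.left L j)) → Nontrivial (Coh.HH X.left L i) →
      (∀ j, j ≠ i → Subsingleton (Coh.HH _ ((Scheme.Modules.pullback (AVDualCx.prj t X)).obj L) j)) ∧
        Nontrivial (Coh.HH _ ((Scheme.Modules.pullback (AVDualCx.prj t X)).obj L) i) :=
    fun hL i hv hn => ⟨fun j hj => (AVIndex.subsingleton_HH_bar_iff hL j).2 (hv j hj),
      not_subsingleton_iff_nontrivial.1 fun he =>
        not_subsingleton_iff_nontrivial.2 hn ((AVIndex.subsingleton_HH_bar_iff hL i).1 he)⟩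
  obtain ⟨a1, b1⟩ := hc hL₁ h₁ h₁'
  obtain ⟨a2, b2⟩ := hc hL₂ h₂ h₂'
  obtain ⟨a, b⟩ := hc hMi h h'
  refine AVIndex.index_le_add (PicClLib.isInvertible_pullback _ hL₁) (PicClLib.isInvertible_pullback _ hL₂)
    (PicClLib.isInvertible_pullback _ hMi) ?_
    (AVIndex.finite_fixSet_of_concentrated (PicClLib.isInvertible_pullback _ hL₁) a1 b1)
    (AVIndex.finite_fixSet_of_concentrated (PicClLib.isInvertible_pullback _ hL₂) a2 b2)
    (AVIndex.finite_fixSet_of_concentrated (PicClLib.isInvertible_pullback _ hMi) a b) a1 b1 a2 b2 a b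
  show PicF.pullCl _ (PicF.cl M) = PicF.pullCl _ (PicF.cl L₁) * PicF.pullCl _ (PicF.cl L₂)
  rw [H23.PicMul.cl_eq_iff.2 hM, H23.PicMul.cl_tensor, H23.PicMul.pullCl_mul]

end Groth.Agent.S17504
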