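import Groth.Statements.S17511
import Groth.Agent.AVIndex.Field
import Groth.Agent.CohPullLib.NbhdExchange
import Groth.Agent.FibDim.BaseField

set_option autoImplicit false
set_option backward.isDefEq.respectTransparency false
set_option backward.isDefEq.respectTransparency.types false
set_option maxHeartbeats 1000000
set_option linter.style.haveILetI false
universe u
open CategoryTheory CategoryTheory.Limits MonoidalCategory CartesianMonoidalCategory MonObj GrpObj AlgebraicGeometry
open AbVar

namespace Groth.Agent.S17511
open Groth.Agent CategoryTheory AlgebraicGeometry CategoryTheory.Limits TopologicalSpace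
set_option backward.isDefEq.respectTransparency false
set_option backward.isDefEq.respectTransparency.types false

/-- In an algebraic family of line bundles the index cannot jump locally. Let X be an abelian variety
over a field k (a proper, geometrically integral k-group scheme), let T be a locally Noetherian
k-scheme, M an invertible module on X ×_k T, and for each point t of T let M_t be the pull-back of M
to the fibre X ×_k Spec k(t). Suppose every M_t is non-degenerate, with index idx(t): H^j(X ×_k Spec
k(t), M_t) = 0 for j ≠ idx(t) and H^{idx(t)} ≠ 0. Then t ↦ idx(t) is a locally constant function on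
T. (Non-degeneracy with index i is expressed by the equivalent condition that the cohomology is
concentrated in degree i and non-zero there.) -/
theorem result
    (k : Type u) [Field k] (X : Over (Spec (CommRingCat.of k))) [GrpObj X] [IsProper X.hom] [GeometricallyIntegral X.hom]
    (T : Over (Spec (CommRingCat.of k))) [IsLocallyNoetherian T.left]
    (M : (X ⊗ T).left.Modules) (hM : PicF.IsInvertible M)
    (idx : ↥T.left → ℕ)
    (hidx : ∀ t : ↥T.left,
      (∀ j : ℕ, j ≠ idx t →
        Subsingleton (Coh.HH (pullback (snd X T).left (T.left.fromSpecResidueField t))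
          ((Scheme.Modules.pullback (pullback.fst (snd X T).left (T.left.fromSpecResidueField t))).obj M) j)) ∧
      Nontrivial (Coh.HH (pullback (snd X T).left (T.left.fromSpecResidueField t))
          ((Scheme.Modules.pullback (pullback.fst (snd X T).left (T.left.fromSpecResidueField t))).obj M) (idx t))) :
    IsLocallyConstant idx := by
  letI f : (X ⊗ T).left ⟶ T.left := (snd X T).left
  haveI : IsProper f := inferInstanceAs (IsProper (pullback.snd X.hom T.hom))
  haveI : Flat f := inferInstanceAs (Flat (pullback.snd X.hom T.hom))
  haveI : LocallyOfFinitePresentation f := inferInstanceAs (LocallyOfFinitePresentation (pullback.snd X.hom T.hom))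
  haveI : IsIntegral X.left := GeometricallyIntegral.isIntegral_of_subsingleton X.hom
  have hq : Coh.IsQCoh M := QCoh.isQCoh_of_isFinLocFree (H23.PullPush.isFinLocFree_of_isInvertible hM)
  have hfp := SeesawGen.isFP_of_isInvertible hM
  have hfl := H23.Seesaw.isFlatOver_of_isInvertible f hM
  obtain ⟨g, hg⟩ : ∃ g : ℕ, topologicalKrullDim X.left = g :=
    ⟨_, VarDim.topologicalKrullDim_eq_deg_genericPoint X.hom⟩
  have hbd : ∀ s : T.left, idx s ≤ g := fun s => by
    by_contra hlt
    have sq : IsPullback (pullback.fst f (T.left.fromSpecResidueField s) ≫ (fst X T).left)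
        (pullback.snd f (T.left.fromSpecResidueField s)) X.hom (T.left.fromSpecResidueField s ≫ T.hom) :=
      (IsPullback.of_hasPullback f (T.left.fromSpecResidueField s)).paste_horiz (IsPullback.of_hasPullback X.hom T.hom)
    haveI : Subsingleton ↥(Spec (CommRingCat.of k)) := inferInstanceAs (Subsingleton (PrimeSpectrum k))
    haveI : Subsingleton ↥(Spec (T.left.residueField s)) :=
      inferInstanceAs (Subsingleton (PrimeSpectrum (T.left.residueField s)))
    have hd : topologicalKrullDim ↥(pullback f (T.left.fromSpecResidueField s)) = (g : WithBot ℕ∞) :=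
      (FibDim.topologicalKrullDim_baseChange sq).trans hg
    haveI : IsProper (pullback.snd f (T.left.fromSpecResidueField s)) := inferInstance
    haveI : IsLocallyNoetherian (pullback f (T.left.fromSpecResidueField s)) :=
      LocallyOfFiniteType.isLocallyNoetherian (pullback.snd f (T.left.fromSpecResidueField s))
    haveI : CompactSpace ↥(pullback f (T.left.fromSpecResidueField s)) :=
      QuasiCompact.compactSpace_of_compactSpace (pullback.snd f (T.left.fromSpecResidueField s))
    haveI : AlgebraicGeometry.IsNoetherian (pullback f (T.left.fromSpecResidueField s)) := ⟨⟩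
    haveI : (pullback f (T.left.fromSpecResidueField s)).IsSeparated :=
      ⟨by rw [← terminal.comp_from (pullback.snd f (T.left.fromSpecResidueField s))]; infer_instance⟩
    exact not_subsingleton_iff_nontrivial.2 (hidx s).2
      (Snapper.subsingleton_HH_of_dim_le hd.le (QCoh.isQCoh_pullback _ hq) (not_le.1 hlt))
  refine (IsLocallyConstant.iff_exists_open idx).2 fun t => ?_
  let J : Finset ℕ := (Finset.range (g + 1)).filter (· ≠ idx t)
  refine ⟨⋂ j ∈ J, {s | CohPullLib.VanAt f M j s}, isOpen_biInter_finset fun j _ => CohPullLib.isOpen_vanAt j,
    Set.mem_iInter₂.2 fun j hj => CohPullLib.vanAt_of_subsingleton hq hfp hfl j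
      ((hidx t).1 j (Finset.mem_filter.1 hj).2), fun s hs => ?_⟩
  by_contra hne
  exact not_subsingleton_iff_nontrivial.2 (hidx s).2 (CohPullLib.subsingleton_of_vanAt hq
    (Set.mem_iInter₂.1 hs (idx s) (Finset.mem_filter.2 ⟨Finset.mem_range.2 (Nat.lt_succ_of_le (hbd s)), hne⟩)))

end Groth.Agent.S17511
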