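import Groth.Statements.S17513
import Groth.Agent.AVPowLib.Power

set_option autoImplicit false
universe u
open CategoryTheory CategoryTheory.Limits MonoidalCategory CartesianMonoidalCategory MonObj GrpObj AlgebraicGeometry
open AbVar

namespace Groth.Agent.S17513

/-- Let X be an abelian variety over a field k (a proper, geometrically integral, commutative k-group
scheme) whose underlying space has Krull dimension g, let r be a natural number and α an r × r
matrix with integer entries. Write X^r for the r-fold product of X over k and [α]_X : X^r → X^r for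
the homomorphism (x_1, …, x_r) ↦ (Σ_j α_{1j} x_j, …, Σ_j α_{rj} x_j), i.e. the map whose i-th
component is the product, in the commutative group of maps X^r → X, of the powers pr_j^{α_{ij}}. If
det α ≠ 0 then [α]_X is finite and flat of constant degree |det α|^{2g} = det(α)^{2g}. (The
published statement covers det α = 0 too, with the convention that a non-finite homomorphism has
degree 0; that case says only that [α]_X is not finite and is not part of this row.) -/
theorem result
    (k : Type u) [Field k] (X : Over (Spec (CommRingCat.of k))) [GrpObj X] [IsCommMonObj X]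
    [IsProper X.hom] [GeometricallyIntegral X.hom]
    (g : ℕ) (hg : topologicalKrullDim ↥X.left = g)
    (r : ℕ) (α : Matrix (Fin r) (Fin r) ℤ) (hα : α.det ≠ 0)
    (φ : (∏ᶜ fun _ : Fin r => X) ⟶ (∏ᶜ fun _ : Fin r => X))
    (hφ : φ = Pi.lift (fun i => ∏ j : Fin r, (Pi.π (fun _ : Fin r => X) j) ^ (α i j))) :
    IsFinite φ.left ∧ Flat φ.left ∧
      ∀ y : ↥(∏ᶜ fun _ : Fin r => X).left, Scheme.Hom.finrank φ.left y = α.det.natAbs ^ (2 * g) := by
  obtain ⟨hPp, hPi⟩ := Groth.Agent.AVPowLib.proper_geomIntegral_pw X r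
  let P := Groth.Agent.AVPowLib.Pw X r
  haveI : IsProper P.hom := hPp
  haveI : GeometricallyIntegral P.hom := hPi
  haveI : IsCommMonObj P := isCommMonObj_of_isProper_of_geometricallyIntegral _
  obtain ⟨l, hp, hl⟩ := Groth.Agent.AVHomForm.exists_prime_ne_zero (k := k)
  obtain ⟨g', hg'⟩ := Groth.Agent.TorsPtsLib.exists_dim P
  obtain ⟨hf1, hf2, hf3⟩ := Groth.Agent.AVHomForm.tate_free (AlgebraicClosure k) l hl X hg
  obtain ⟨hP1, hP2, hP3⟩ := Groth.Agent.AVHomForm.tate_free (AlgebraicClosure k) l hl P hg'
  obtain ⟨Q, hQm, hQd, hQ, hQc⟩ := Groth.Agent.AVCharpoly.exists_charpoly (AlgebraicClosure k) l hl hg'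
    (EndAV.End.of (Groth.Agent.AVPowLib.matEndo X r α))
  have hdeg : Groth.Agent.AVCharpoly.degQ (Groth.Agent.AVPowLib.matEndo X r α) = (α.det : ℚ) ^ (2 * g) := by
    have h0 := hQ 0
    rw [Int.cast_zero, sub_zero, Polynomial.eval_intCast_map, Int.cast_id, eq_intCast] at h0
    refine h0.trans ?_
    have hdet := LinearMap.det_eq_sign_charpoly_coeff
      (AbDual.tateMapₗ (l := l) (T := SGA7.pt (AlgebraicClosure k)) (Groth.Agent.AVPowLib.matEndo X r α))
    rw [Groth.Agent.AVPowLib.det_matEndo] at hdet
    change _ = _ * (EndAV.End.tateRep l (SGA7.pt (AlgebraicClosure k))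
      (EndAV.End.of (Groth.Agent.AVPowLib.matEndo X r α))).charpoly.coeff 0 at hdet
    rw [hQc, hf3, hP3, pow_mul (-1 : ℤ_[l]), neg_one_sq, one_pow, _root_.one_mul, Polynomial.coeff_map, eq_intCast] at hdet
    rw [← Polynomial.coeff_zero_eq_eval_zero]
    rw [← Int.cast_pow] at hdet
    exact_mod_cast (Int.cast_injective hdet).symm
  have e : φ = Groth.Agent.AVPowLib.matEndo X r α := hφ
  subst e
  have hfin : IsFinite (Groth.Agent.AVPowLib.matEndo X r α).left := by
    by_contra h
    rw [Groth.Agent.AVCharpoly.degQ_of_not _ h] at hdeg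
    exact pow_ne_zero _ (Int.cast_ne_zero.mpr hα) hdeg.symm
  haveI := hfin
  haveI : IsIntegral P.left := GeometricallyIntegral.isIntegral_of_subsingleton P.hom
  haveI : Surjective (Groth.Agent.AVPowLib.matEndo X r α).left :=
    Groth.Agent.H23.Isogeny.surjective_of_isFinite P.hom P.hom _ (Over.w _) rfl
  refine ⟨hfin, (Groth.Agent.AVDegPoly.isFinite_of_surjective hg' hg' _).2.1, fun y => ?_⟩
  have h := (Groth.Agent.AVCharpoly.finrank_eq_degQ _ hfin y).trans hdeg
  rw [← Even.pow_abs (even_two_mul g), ← Int.cast_abs, Int.abs_eq_natAbs, Int.cast_natCast] at h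
  exact_mod_cast h

end Groth.Agent.S17513
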