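import Groth.Statements.S17514
import Groth.Agent.AVSubLib.TateSeq
import Groth.Agent.TorsPtsLib.Isog

set_option autoImplicit false
universe u
open CategoryTheory CategoryTheory.Limits MonoidalCategory CartesianMonoidalCategory MonObj GrpObj AlgebraicGeometry
open AbVar

namespace Groth.Agent.S17514

/-- Let k be a field with algebraic closure k̄, ℓ a prime number invertible in k, X and Y abelian
varieties over k (proper, geometrically integral, commutative k-group schemes), f : X → Y an isogeny
(a homomorphism which is finite and surjective) and i : N → X its kernel (the square formed by i, f,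
the unit of Y and the structure map of N is cartesian). Let T_ℓ denote the Tate module formed with
k̄-valued points and T_ℓ f : T_ℓ X → T_ℓ Y the induced ℤ_ℓ-linear map. Then T_ℓ f is injective and
its cokernel is isomorphic, as a group, to the ℓ-primary part of the finite group N(k̄) of k̄-valued
points of N (existence of an isomorphism; the published sequence 0 → T_ℓ X → T_ℓ Y → N_ℓ(k_s) → 0 is
moreover Galois-equivariant with a specific connecting map, and uses points over a separable
closure, which for ℓ-power torsion gives the same groups). -/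
theorem result
    (k : Type u) [Field k] (ℓ : ℕ) [Fact ℓ.Prime] (hℓ : (ℓ : k) ≠ 0)
    (X Y : Over (Spec (CommRingCat.of k)))
    [GrpObj X] [IsCommMonObj X] [IsProper X.hom] [GeometricallyIntegral X.hom]
    [GrpObj Y] [IsCommMonObj Y] [IsProper Y.hom] [GeometricallyIntegral Y.hom]
    (f : X ⟶ Y) [IsMonHom f] [IsFinite f.left] [Surjective f.left]
    (N : Over (Spec (CommRingCat.of k))) [GrpObj N] [IsCommMonObj N] (i : N ⟶ X) [IsMonHom i]
    (hN : AlgGrp.IsKernel i f) :
    Function.Injective (AbDual.tateMapₗ (l := ℓ)
        (T := Over.mk (Spec.map (CommRingCat.ofHom (algebraMap k (AlgebraicClosure k))))) f) ∧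
      Nonempty ((AbDual.TateMod Y ℓ (Over.mk (Spec.map (CommRingCat.ofHom (algebraMap k (AlgebraicClosure k))))) ⧸
          LinearMap.range (AbDual.tateMapₗ (l := ℓ)
            (T := Over.mk (Spec.map (CommRingCat.ofHom (algebraMap k (AlgebraicClosure k))))) f)) ≃+
        Additive ↥(CommGroup.primaryComponent
          (Over.mk (Spec.map (CommRingCat.ofHom (algebraMap k (AlgebraicClosure k)))) ⟶ N) ℓ)) := by
  let j := Spec.map (CommRingCat.ofHom (algebraMap k (AlgebraicClosure k)))
  obtain ⟨g, hg⟩ := Groth.Agent.TorsPtsLib.exists_dim X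
  have hdiv := (Groth.Agent.TorsPtsLib.geom_points j X hg).1 ℓ (Fact.out : ℓ.Prime).pos
  have hsurj := Groth.Agent.TorsPtsLib.exists_lift_point j f
  haveI : Finite (Groth.Agent.AVSubLib.kerPts (Over.mk j) f) :=
    Groth.Agent.TorsPtsLib.finite_fibre_points j f 1
  obtain ⟨hinj, ⟨e⟩⟩ := Groth.Agent.AVSubLib.tate_sequence (Over.mk j) ℓ f hsurj hdiv
  refine ⟨hinj, ⟨e.trans ?_⟩⟩
  let E : Groth.Agent.AVSubLib.kerPts (Over.mk j) f ≃* (Over.mk j ⟶ N) :=
    MulEquiv.mk' { toFun := fun x => hN.lift x.1 (toUnit _) x.2
                   invFun := fun n => ⟨n ≫ i, by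
                     refine (Groth.Agent.AVSubLib.mem_kerPts _ f).mpr ?_
                     rw [Category.assoc, hN.w, ← Category.assoc, toUnit_unique (n ≫ toUnit N) (toUnit _),
                       MonObj.one_eq_one, MonObj.comp_one]⟩
                   left_inv := fun x => Subtype.ext (hN.lift_fst _ _ _)
                   right_inv := fun n => hN.hom_ext (hN.lift_fst _ _ _) (toUnit_unique _ _) }
      fun a b => hN.hom_ext (by
        show hN.lift (a * b).1 (toUnit _) (a * b).2 ≫ i = (hN.lift a.1 (toUnit _) a.2 * hN.lift b.1 (toUnit _) b.2) ≫ i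
        refine (hN.lift_fst _ _ _).trans (Eq.trans ?_ (MonObj.mul_comp _ _ i).symm)
        exact congrArg₂ (· * ·) (hN.lift_fst a.1 _ a.2).symm (hN.lift_fst b.1 _ b.2).symm) (toUnit_unique _ _)
  exact MulEquiv.toAdditive (MulEquiv.mk'
    { toFun := fun p => ⟨E p.1, p.2.imp fun s hs => by rw [← map_pow, hs, map_one]⟩
      invFun := fun q => ⟨E.symm q.1, q.2.imp fun s hs => by rw [← map_pow, hs, map_one]⟩
      left_inv := fun p => Subtype.ext (E.symm_apply_apply p.1)
      right_inv := fun q => Subtype.ext (E.apply_symm_apply q.1) }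
    fun a b => Subtype.ext (map_mul E a.1 b.1))

end Groth.Agent.S17514
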