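import Groth.Statements.S17515
import Groth.Agent.AVPrincPol.Symmetric

set_option autoImplicit false
set_option backward.isDefEq.respectTransparency false
set_option backward.isDefEq.respectTransparency.types false
set_option maxHeartbeats 1000000
set_option linter.style.haveILetI false
universe u
open CategoryTheory CategoryTheory.Limits MonoidalCategory CartesianMonoidalCategory MonObj GrpObj AlgebraicGeometry
open AbVar
open Groth.Agent (AVPair.pl)
open scoped Groth.Agent.H23.PicMul

namespace Groth.Agent.S17515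

/-- A symmetric homomorphism to the dual comes from a line bundle after passing to an algebraically
closed field. Let X be an abelian variety over a field k (a proper, geometrically integral,
commutative k-group scheme) and (X^t, φ) a given dual abelian variety for the fppf topology, X^t
itself an abelian variety, with Poincaré class ξ on X ×_k X^t; suppose moreover that (X, φ') is
given as the dual of X^t in such a way that the swap of ξ to X^t ×_k X is its Poincaré class (this
identifies X with its double dual, the biduality map becoming the identity). Let λ : X → X^t be a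
homomorphism which is symmetric: λ is its own transpose with respect to φ and φ'. Then for every
algebraically closed field Ω and every k-point t : Spec Ω → Spec k there is an invertible module L
on the base change X_Ω such that the base change λ_Ω : X_Ω → X^t_Ω is the homomorphism φ_L attached
to L through the base-changed dual data (there is an invertible module N on X_Ω × X_Ω with N ⊗
pr_1^*L ⊗ pr_2^*L ≅ m^*L whose class is sent to λ_Ω). (The published item also gives a finite
separable extension of k over which such an L exists; that refinement is not part of this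
statement.) -/
theorem result
    (k : Type u) [Field k] (X Xt : Over (Spec (CommRingCat.of k)))
    [GrpObj X] [IsCommMonObj X] [IsProper X.hom] [GeometricallyIntegral X.hom]
    [GrpObj Xt] [IsCommMonObj Xt] [IsProper Xt.hom] [GeometricallyIntegral Xt.hom]
    (φ : AgPol.DualMap X Xt) (hφ : AbDual.IsDualAV Scheme.fppfPrecoverage X Xt φ)
    (φ' : AgPol.DualMap Xt X) (hφ' : AbDual.IsDualAV Scheme.fppfPrecoverage Xt X φ')
    (ξ : PicF.Cl (PicF.XT X.hom Xt)) (hξ : AbDual.IsPoincareCl X Xt φ ξ)
    (hξ' : AbDual.IsPoincareCl Xt X φ' (PicF.pullCl (pullbackSymmetry Xt.hom X.hom).hom ξ))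
    (lam : X ⟶ Xt) [IsMonHom lam] (hsymm : AbDual.IsTranspose lam φ φ' lam)
    (Ω : Type u) [Field Ω] [IsAlgClosed Ω] (t : Spec (CommRingCat.of Ω) ⟶ Spec (CommRingCat.of k)) :
    ∃ L : (Red.bc t X).left.Modules, PicF.IsInvertible L ∧
      AgPol.IsLambda (Red.bc t X) (Red.bc t Xt) (AgPol.bcDual t X Xt φ) L ((Over.pullback t).map lam) := by
  haveI := (Groth.Agent.AVField.smooth_connected (A := X)).1
  haveI := (Groth.Agent.AVField.smooth_connected (A := X)).2
  haveI : IsProper (Red.bc t X).hom := (Groth.Agent.H23.BcComp.isAV_bc t X).1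
  haveI : GeometricallyIntegral (Red.bc t X).hom := (Groth.Agent.H23.BcComp.isAV_bc t X).2
  haveI : IsProper (Red.bc t Xt).hom := (Groth.Agent.H23.BcComp.isAV_bc t Xt).1
  haveI : GeometricallyIntegral (Red.bc t Xt).hom := (Groth.Agent.H23.BcComp.isAV_bc t Xt).2
  haveI : IsCommMonObj (Red.bc t X) := isCommMonObj_of_isProper_of_geometricallyIntegral _
  obtain ⟨ha1, ha2⟩ := Groth.Agent.AVDual.poincare_axes hφ hξ
  let c : PicF.Cl (X ⊗ X).left := AVPair.pl (X ◁ lam) ξ
  have hci : PicF.IsInvertibleCl c :=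
    Groth.Agent.AVPair.isInv_pl _ (Groth.Agent.AVDual.pz_invertible hξ.1)
  have h1 : AVPair.pl (lift (1 : X ⟶ X) (𝟙 X)) c = 1 := by
    rw [Groth.Agent.AVPair.pl_pl, show lift (1 : X ⟶ X) (𝟙 X) ≫ X ◁ lam = lam ≫ lift (1 : Xt ⟶ X) (𝟙 Xt) by
      rw [lift_whiskerLeft, comp_lift, MonObj.comp_one, Category.id_comp, Category.comp_id],
      ← Groth.Agent.AVPair.pl_pl, ha1, map_one]
  have h2 : AVPair.pl (lift (𝟙 X) (1 : X ⟶ X)) c = 1 := by
    rw [Groth.Agent.AVPair.pl_pl, show lift (𝟙 X) (1 : X ⟶ X) ≫ X ◁ lam = lift (𝟙 X) (1 : X ⟶ Xt) by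
      rw [lift_whiskerLeft, MonObj.one_comp], ha2]
  have hsym : AVPair.pl (lift (snd X X) (fst X X)) c = c := by
    let σ : PicF.Cl (Xt ⊗ X).left := PicF.pullCl (pullbackSymmetry Xt.hom X.hom).hom ξ
    have hσ : φ' X σ = 𝟙 X := hξ'.2.1
    have hh := hsymm X σ hξ'.1
    rw [hσ, Category.id_comp, Groth.Agent.AVDual.bcMap_eq] at hh
    have e : PicF.pullCl (lam ▷ X).left σ = AVPair.pl (lift (snd X X) (fst X X)) c := by
      show PicF.pullCl (lam ▷ X).left (PicF.pullCl _ ξ) = _
      rw [Groth.Agent.AVDual.swap_eq]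
      show AVPair.pl (lam ▷ X) (AVPair.pl (lift (snd Xt X) (fst Xt X)) ξ) =
        AVPair.pl (lift (snd X X) (fst X X)) (AVPair.pl (X ◁ lam) ξ)
      rw [Groth.Agent.AVPair.pl_pl, Groth.Agent.AVPair.pl_pl]
      congr 2
      apply CartesianMonoidalCategory.hom_ext <;> simp
    rw [e] at hh
    have hzc : Groth.Agent.AVDual.PZ X X c := Groth.Agent.AVDual.pz_pl lam hξ.1
    have hzs : Groth.Agent.AVDual.PZ X X (AVPair.pl (lift (snd X X) (fst X X)) c) :=
      Groth.Agent.AVDual.pz_of_slice (1 : 𝟙_ (Over (Spec (CommRingCat.of k))) ⟶ X)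
        (Groth.Agent.AVPair.isInv_pl _ hci) (by
          rw [MonObj.comp_one, Groth.Agent.AVPair.pl_pl, comp_lift, lift_fst, lift_snd, h1])
    have hc0 : φ X c = lam := by
      rw [Groth.Agent.AVDual.phi_pl hφ lam hξ.1, hξ.2.1, Category.comp_id]
    have he : PicF.secT X.hom η[X].left (Over.w η[X]) X = (lift (1 : X ⟶ X) (𝟙 X)).left := by
      refine pullback.hom_ext ?_ ?_
      · refine (pullback.lift_fst _ _ _).trans ?_
        refine Eq.trans ?_ (congrArg CommaMorphism.left (lift_fst (1 : X ⟶ X) (𝟙 X))).symm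
        rfl
      · exact (pullback.lift_snd _ _ _).trans (congrArg CommaMorphism.left (lift_snd (1 : X ⟶ X) (𝟙 X))).symm
    refine Groth.Agent.PicZeroPrim.eq_of_phi hφ hzs hzc (hh.trans hc0.symm) ?_
    rw [he]
    show AVPair.pl (lift (1 : X ⟶ X) (𝟙 X)) (AVPair.pl _ c) = AVPair.pl (lift (1 : X ⟶ X) (𝟙 X)) c
    rw [h1, Groth.Agent.AVPair.pl_pl, comp_lift, lift_fst, lift_snd, h2]
  -- over the algebraically closed field
  let U := Red.bc t X
  let c' : PicF.Cl (U ⊗ U).left := PicF.pullCl (Groth.Agent.AVDualCx.prj₂ t X X) c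
  have hbc : ∀ (T : Over (Spec (CommRingCat.of Ω))) (g : T ⟶ U ⊗ U) (T' : Over (Spec (CommRingCat.of k)))
      (p : T.left ⟶ T'.left) (g' : T' ⟶ X ⊗ X), g.left ≫ Groth.Agent.AVDualCx.prj₂ t X X = p ≫ g'.left →
      AVPair.pl g c' = PicF.pullCl p (AVPair.pl g' c) := fun T g T' p g' h => by
    show PicF.pullCl g.left (PicF.pullCl _ c) = PicF.pullCl p (PicF.pullCl g'.left c)
    rw [Groth.Agent.PicClLib.pullCl_comp, Groth.Agent.PicClLib.pullCl_comp, h]
  let p := Groth.Agent.AVDualCx.prj t X
  have hone : (1 : U ⟶ U).left ≫ p = p ≫ (1 : X ⟶ X).left := by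
    rw [Groth.Agent.AVDualCx.one_prj, Hom.one_def, Over.comp_left, Over.toUnit_left]
    exact (pullback.condition_assoc (f := X.hom) (g := t) η[X].left).symm
  have h1' : AVPair.pl (lift (1 : U ⟶ U) (𝟙 U)) c' = 1 := by
    rw [hbc U _ X p (lift (1 : X ⟶ X) (𝟙 X)) ?_, h1, Groth.Agent.H23.PicMul.pullCl_one]
    refine Groth.Agent.AVDualCx.tensor_ext _ _ ?_ ?_
    · rw [Category.assoc, Groth.Agent.AVDualCx.prj₂_fst, ← Category.assoc, ← Over.comp_left, lift_fst,
        Category.assoc, ← Over.comp_left, lift_fst]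
      exact hone
    · rw [Category.assoc, Groth.Agent.AVDualCx.prj₂_snd, ← Category.assoc, ← Over.comp_left, lift_snd,
        Category.assoc, ← Over.comp_left, lift_snd, Over.id_left, Over.id_left, Category.id_comp, Category.comp_id]
  have h2' : AVPair.pl (lift (𝟙 U) (1 : U ⟶ U)) c' = 1 := by
    rw [hbc U _ X p (lift (𝟙 X) (1 : X ⟶ X)) ?_, h2, Groth.Agent.H23.PicMul.pullCl_one]
    refine Groth.Agent.AVDualCx.tensor_ext _ _ ?_ ?_
    · rw [Category.assoc, Groth.Agent.AVDualCx.prj₂_fst, ← Category.assoc, ← Over.comp_left, lift_fst,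
        Category.assoc, ← Over.comp_left, lift_fst, Over.id_left, Over.id_left, Category.id_comp, Category.comp_id]
    · rw [Category.assoc, Groth.Agent.AVDualCx.prj₂_snd, ← Category.assoc, ← Over.comp_left, lift_snd,
        Category.assoc, ← Over.comp_left, lift_snd]
      exact hone
  have hsym' : AVPair.pl (lift (snd U U) (fst U U)) c' = c' := by
    rw [hbc _ _ (X ⊗ X) (Groth.Agent.AVDualCx.prj₂ t X X) (lift (snd X X) (fst X X)) ?_, hsym]
    refine Groth.Agent.AVDualCx.tensor_ext _ _ ?_ ?_
    · rw [Category.assoc, Groth.Agent.AVDualCx.prj₂_fst, ← Category.assoc, ← Over.comp_left, lift_fst,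
        Category.assoc, ← Over.comp_left, lift_fst, Groth.Agent.AVDualCx.prj₂_snd]
    · rw [Category.assoc, Groth.Agent.AVDualCx.prj₂_snd, ← Category.assoc, ← Over.comp_left, lift_snd,
        Category.assoc, ← Over.comp_left, lift_snd, Groth.Agent.AVDualCx.prj₂_fst]
  obtain ⟨M, d, hM, hMd, hmum⟩ := Groth.Agent.AVPrincPol.exists_mum_eq
    (Groth.Agent.AVField.isDualAV_bc t hφ) (Groth.Agent.PicClLib.isInvertibleCl_pullCl _ hci) h1' h2' hsym'
  refine ⟨M, hM, ?_⟩
  have h := Groth.Agent.AVPrincPol.isLambda_phi_mum (φ := AgPol.bcDual t X Xt φ) (L := M) hM hMd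
  have hlam : φ X c = lam := by
    rw [Groth.Agent.AVDual.phi_pl hφ lam hξ.1, hξ.2.1, Category.comp_id]
  rwa [hmum, Groth.Agent.AVPrincPol.bcDual_prj₂ hφ (Groth.Agent.AVDual.pz_pl lam hξ.1) t,
    hlam] at h

end Groth.Agent.S17515
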