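import Groth.Statements.S17516
import Groth.Agent.AVFieldDual.BcDual

set_option autoImplicit false
set_option backward.isDefEq.respectTransparency false
set_option backward.isDefEq.respectTransparency.types false
set_option maxHeartbeats 1000000
set_option linter.style.haveILetI false
universe u
open CategoryTheory CategoryTheory.Limits MonoidalCategory CartesianMonoidalCategory MonObj GrpObj AlgebraicGeometry
open AbVar

namespace Groth.Agent.S17516
open Groth.Agent CategoryTheory AlgebraicGeometry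
open scoped Groth.Agent.H23.PicMul
set_option backward.isDefEq.respectTransparency false
set_option backward.isDefEq.respectTransparency.types false
set_option maxHeartbeats 1000000

/-- Let X and Y be abelian varieties over a field k (proper, geometrically integral, commutative k-group
schemes) with given dual abelian varieties (X^t, φ_X) and (Y^t, φ_Y) for the fppf topology, let f :
X → Y be an isogeny — a homomorphism which is finite, flat and surjective — of constant degree d,
with transpose f^t : Y^t → X^t, and let λ : Y → Y^t be a polarization of Y (a homomorphism whose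
base change to every algebraically closed field is the homomorphism φ_M attached to some ample
invertible module M) which is finite and flat of constant degree e. Then f^*λ := f^t ∘ λ ∘ f : X →
X^t is a polarization of X, and it is finite and flat of constant degree d² · e = deg(f)² · deg(λ). -/
theorem result
    (k : Type u) [Field k] (X Xt Y Yt : Over (Spec (CommRingCat.of k)))
    [GrpObj X] [IsCommMonObj X] [IsProper X.hom] [GeometricallyIntegral X.hom] [GrpObj Xt] [IsCommMonObj Xt] [IsProper Xt.hom] [GeometricallyIntegral Xt.hom]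
    [GrpObj Y] [IsCommMonObj Y] [IsProper Y.hom] [GeometricallyIntegral Y.hom] [GrpObj Yt] [IsCommMonObj Yt] [IsProper Yt.hom] [GeometricallyIntegral Yt.hom]
    (φX : AgPol.DualMap X Xt) (hX : AbDual.IsDualAV Scheme.fppfPrecoverage X Xt φX)
    (φY : AgPol.DualMap Y Yt) (hY : AbDual.IsDualAV Scheme.fppfPrecoverage Y Yt φY)
    (f : X ⟶ Y) [IsMonHom f] [IsFinite f.left] [Flat f.left] [Surjective f.left]
    (d : ℕ) (hd : ∀ y : ↥Y.left, Scheme.Hom.finrank f.left y = d)
    (ft : Yt ⟶ Xt) (hft : AbDual.IsTranspose f φX φY ft)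
    (lam : Y ⟶ Yt) (hlam : AgPol.IsPolarization Y Yt φY lam)
    [IsFinite lam.left] [Flat lam.left] (e : ℕ) (he : ∀ y : ↥Yt.left, Scheme.Hom.finrank lam.left y = e) :
    AgPol.IsPolarization X Xt φX (f ≫ lam ≫ ft) ∧ IsFinite (f ≫ lam ≫ ft).left ∧ Flat (f ≫ lam ≫ ft).left ∧
      ∀ x : ↥Xt.left, Scheme.Hom.finrank (f ≫ lam ≫ ft).left x = d ^ 2 * e := by
  obtain ⟨hftm, hftf, hftfl, hfts, hftd⟩ := AVField.transpose_isogeny hX hY f d hd hft
  haveI := hftm; haveI := hftf; haveI := hftfl; haveI := hfts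
  haveI := hlam.1
  haveI : IsIntegral X.left := GeometricallyIntegral.isIntegral_of_subsingleton X.hom
  haveI : IsIntegral Y.left := GeometricallyIntegral.isIntegral_of_subsingleton Y.hom
  haveI : IsIntegral Xt.left := GeometricallyIntegral.isIntegral_of_subsingleton Xt.hom
  haveI : IsIntegral Yt.left := GeometricallyIntegral.isIntegral_of_subsingleton Yt.hom
  haveI : Surjective lam.left := Scheme.Hom.one_le_finrank_iff_surjective lam.left |>.1 fun y => by
    obtain ⟨a⟩ : Nonempty Y.left := inferInstance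
    show 1 ≤ _
    rw [he y, ← he (lam.left a)]
    exact Scheme.Hom.one_le_finrank_map lam.left a
  haveI : IsFinite (lam ≫ ft).left := inferInstanceAs (IsFinite (lam.left ≫ ft.left))
  haveI : Flat (lam ≫ ft).left := inferInstanceAs (Flat (lam.left ≫ ft.left))
  haveI : Surjective (lam ≫ ft).left := inferInstanceAs (Surjective (lam.left ≫ ft.left))
  refine ⟨⟨inferInstance, fun Ω _ _ t => ?_⟩, inferInstanceAs (IsFinite (f.left ≫ (lam ≫ ft).left)),
    inferInstanceAs (Flat (f.left ≫ (lam ≫ ft).left)), fun x => ?_⟩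
  · obtain ⟨M, hM, N, hN, ⟨iso⟩, hφN⟩ := hlam.2 Ω t
    haveI : IsProper (Red.bc t X).hom := (H23.BcComp.isAV_bc t X).1
    haveI : GeometricallyIntegral (Red.bc t X).hom := (H23.BcComp.isAV_bc t X).2
    haveI : IsProper (Red.bc t Y).hom := (H23.BcComp.isAV_bc t Y).1
    haveI : GeometricallyIntegral (Red.bc t Y).hom := (H23.BcComp.isAV_bc t Y).2
    let fb : Red.bc t X ⟶ Red.bc t Y := (Over.pullback t).map f
    haveI : IsMonHom fb := H23.BcComp.isMonHom_bc_map t f
    haveI : IsFinite fb.left := MorphismProperty.baseChange_map (P := @IsFinite) t f ‹_›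
    obtain ⟨D, hD, ⟨u⟩⟩ := H23.PicInv.exists_inverse hM.1
    have hMD : PicF.cl M * PicF.cl D = 1 := by rw [← H23.PicMul.cl_tensor]; exact H23.PicMul.cl_eq_iff.2 ⟨u⟩
    have hrel : (PicF.cl N : PicF.Cl (Red.bc t Y ⊗ Red.bc t Y).left) *
        AVPair.pl (fst (Red.bc t Y) (Red.bc t Y)) (PicF.cl M) * AVPair.pl (snd (Red.bc t Y) (Red.bc t Y)) (PicF.cl M) =
          AVPair.pl μ[Red.bc t Y] (PicF.cl M) :=
      ((congrArg (· * _) (H23.PicMul.cl_tensor _ _).symm).trans (H23.PicMul.cl_tensor _ _).symm).trans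
        (H23.PicMul.cl_eq_iff.2 ⟨iso⟩)
    have hNm : (PicF.cl N : PicF.Cl (Red.bc t Y ⊗ Red.bc t Y).left) = AVField.mum (PicF.cl M) (PicF.cl D) := by
      have hu : ∀ g : Red.bc t Y ⊗ Red.bc t Y ⟶ Red.bc t Y,
          AVPair.pl g (PicF.cl M) * AVPair.pl g (PicF.cl D) = 1 := fun g => by rw [← map_mul, hMD, map_one]
      rw [AVField.mum, ← hrel]
      calc (PicF.cl N : PicF.Cl (Red.bc t Y ⊗ Red.bc t Y).left)
          = (PicF.cl N : PicF.Cl (Red.bc t Y ⊗ Red.bc t Y).left) * (AVPair.pl (fst _ _) (PicF.cl M) * AVPair.pl (fst _ _) (PicF.cl D)) *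
            (AVPair.pl (snd _ _) (PicF.cl M) * AVPair.pl (snd _ _) (PicF.cl D)) := by
              rw [hu, hu, _root_.mul_one, _root_.mul_one]
        _ = _ := by ac_rfl
    refine ⟨(Scheme.Modules.pullback fb.left).obj M, RGLib.Lim8.isAmple_pullback_affine _ hM,
      (Scheme.Modules.pullback (fb ⊗ₘ fb).left).obj N, PicClLib.isInvertible_pullback _ hN, ?_, ?_⟩
    · refine H23.PicMul.cl_eq_iff.1 ?_
      rw [H23.PicMul.cl_tensor, H23.PicMul.cl_tensor]
      show AVPair.pl (fb ⊗ₘ fb) (PicF.cl N : PicF.Cl (Red.bc t Y ⊗ Red.bc t Y).left) * AVPair.pl (fst _ _) (AVPair.pl fb (PicF.cl M)) *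
          AVPair.pl (snd _ _) (AVPair.pl fb (PicF.cl M)) = AVPair.pl μ[Red.bc t X] (AVPair.pl fb (PicF.cl M))
      rw [AVPair.pl_pl, AVPair.pl_pl, AVPair.pl_pl, ← tensorHom_fst fb fb, ← tensorHom_snd fb fb, IsMonHom.mul_hom fb,
        ← AVPair.pl_pl, ← AVPair.pl_pl (fb ⊗ₘ fb) (snd _ _), ← map_mul, ← map_mul, hrel, AVPair.pl_pl]
    · have hz : AbDual.IsPicZeroCl (Red.bc t Y).hom (Red.bc t Y) (PicF.cl N) :=
        hNm ▸ AVField.pz_mum ⟨M, rfl, hM.1⟩ hMD
      refine (AVField.bcDual_pull t hY.relPic.natural hft fb hz).trans ?_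
      rw [hφN, Functor.map_comp, Functor.map_comp]
  · haveI lfp : ∀ {A B : Over (Spec (CommRingCat.of k))} [IsProper A.hom] [IsProper B.hom] (w : A ⟶ B),
        LocallyOfFinitePresentation w.left := fun {A B} _ _ w => by
      haveI : LocallyOfFinitePresentation (w.left ≫ B.hom) := by rw [Over.w w]; infer_instance
      exact S12442.locallyOfFinitePresentation_of_comp w.left B.hom
    haveI := lfp f; haveI := lfp lam; haveI := lfp ft; haveI := lfp (lam ≫ ft)
    obtain ⟨y⟩ : Nonempty Y.left := inferInstance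
    obtain ⟨y'⟩ : Nonempty Yt.left := inferInstance
    rw [AVSubLib.finrank_comp f (lam ≫ ft) y x, AVSubLib.finrank_comp lam ft y' x, hd, he, hftd]
    ring

end Groth.Agent.S17516
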