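import Groth.Statements.S1753
import Groth.Agent.Licht7.Main

set_option autoImplicit false
universe u
open CategoryTheory AlgebraicGeometry
open Dual

namespace Groth.Agent.S1753

/-- Let U be a variety over a field k (integral, separated and of finite type over k) and F a coherent
O_U-module with H^d(U, F) ≠ 0. Then dim U ≥ d, and if dim U = d then U is proper over k. -/
theorem result (k : Type u) [Field k] (U : Scheme.{u}) (f : U ⟶ Spec (CommRingCat.of k)) [IsIntegral U] [IsSeparated f] [LocallyOfFiniteType f] [QuasiCompact f] (F : U.Modules) (hF : Coh.IsCoh F) (d : ℕ) (h : Nontrivial (Coh.HH U F d)) : (d : WithBot ℕ∞) ≤ topologicalKrullDim U ∧ (topologicalKrullDim U = d → IsProper f) := by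
  haveI : IsLocallyNoetherian U := LocallyOfFiniteType.isLocallyNoetherian f
  haveI : CompactSpace U := QuasiCompact.compactSpace_of_compactSpace f
  haveI : IsNoetherian U := ⟨⟩
  have hdim := Groth.Agent.VarDim.topologicalKrullDim_eq_deg_genericPoint f
  obtain ⟨n, hn⟩ : ∃ n, Groth.Agent.VarDim.deg f (genericPoint U) = n := ⟨_, rfl⟩
  rw [hn] at hdim
  haveI : TopologicalSpace.NoetherianSpace U.toTopCat := (inferInstance : TopologicalSpace.NoetherianSpace U)
  have hdn : d ≤ n := by
    by_contra hlt
    haveI : Subsingleton (Coh.HH U F d) :=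
      Groth.Agent.VanishGroth7.subsingleton_H_of_dim_le (X := U.toTopCat) n hdim.le (Coh.toAb F) d (by omega)
    exact not_nontrivial (Coh.HH U F d) h
  refine ⟨by rw [hdim]; exact_mod_cast hdn, fun hd => ?_⟩
  by_contra hnp
  have hS : Subsingleton (Coh.HH U F d) := by
    refine Groth.Agent.Licht7.subsingleton_top f d hd.le (fun Z i _ _ hZ hp => hnp ?_) hF.1
    haveI : Surjective i := ⟨fun y => ?_⟩
    · haveI := isIso_of_isClosedImmersion_of_surjective i
      haveI := hp
      rw [← IsIso.inv_hom_id_assoc i f]
      infer_instance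
    have hr : IsClosed (Set.range i) := i.isClosedEmbedding.isClosed_range
    suffices hg : genericPoint U ∈ Set.range i from (genericPoint_specializes y).mem_closed hr hg
    by_contra hg
    obtain ⟨z⟩ : Nonempty Z := inferInstance
    have hlt : ∀ w : Set.range i, Groth.Agent.VarDim.deg f w.1 < n := fun w => by
      refine hn ▸ Groth.Agent.VarDim.deg_strictMono f (lt_iff_le_not_ge.2 ⟨genericPoint_specializes w.1, fun hw => hg ?_⟩)
      exact Specializes.mem_closed hw hr w.2
    have h1 : topologicalKrullDim Z ≤ ((n - 1 : ℕ) : WithBot ℕ∞) := by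
      rw [IsHomeomorph.topologicalKrullDim_eq _ i.isClosedEmbedding.isEmbedding.toHomeomorph.isHomeomorph,
        Groth.Agent.VarDim.topologicalKrullDim_set_eq_iSup_deg f hr]
      refine iSup_le fun w => ?_
      have := hlt w
      exact WithBot.coe_le_coe.2 (Nat.cast_le.2 (by omega : Groth.Agent.VarDim.deg f w.1 ≤ n - 1))
    have hn0 : 0 < n := lt_of_le_of_lt (Nat.zero_le _) (hlt ⟨i z, z, rfl⟩)
    rw [hZ, ← hd, hdim] at h1
    have h2 : n ≤ n - 1 := Nat.cast_le.1 (WithBot.coe_le_coe.1 h1)
    omega
  exact not_nontrivial (Coh.HH U F d) h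

end Groth.Agent.S1753
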