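import Groth.Statements.S1755
import Groth.Agent.H1CohPush.Kollar
import Groth.Agent.H1CohPush.Bridge
import Groth.Agent.S2724
import Mathlib

set_option autoImplicit false
universe u
open LocCoh

namespace Groth.Agent.S1755

/-- Kollár's criterion for finiteness of first local cohomology, sufficiency direction, in affine form.
Let A be a Noetherian ring, I an ideal and M a finite A-module. Suppose that for every associated
prime p of M not containing I, every prime q containing both p and I, and every associated prime P
of the completion C of the local ring A_q/pA_q at its maximal ideal, the quotient C/P has Krull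
dimension at least 2. Then H¹_I(M) is a finite A-module. (The criterion is an equivalence; only this
implication is asserted here.) -/
theorem result (A : Type u) [CommRing A] [IsNoetherianRing A] (I : Ideal A) (M : Type u) [AddCommGroup M] [Module A M] [Module.Finite A M] (h : ∀ p : Ideal A, p ∈ associatedPrimes A M → ¬ I ≤ p → ∀ (q : PrimeSpectrum A), p ≤ q.asIdeal → I ≤ q.asIdeal → ∀ P ∈ associatedPrimes (AdicCompletion ((IsLocalRing.maximalIdeal (Localization.AtPrime q.asIdeal)).map (Ideal.Quotient.mk (p.map (algebraMap A (Localization.AtPrime q.asIdeal))))) (Localization.AtPrime q.asIdeal ⧸ p.map (algebraMap A (Localization.AtPrime q.asIdeal)))) (AdicCompletion ((IsLocalRing.maximalIdeal (Localization.AtPrime q.asIdeal)).map (Ideal.Quotient.mk (p.map (algebraMap A (Localization.AtPrime q.asIdeal))))) (Localization.AtPrime q.asIdeal ⧸ p.map (algebraMap A (Localization.AtPrime q.asIdeal)))), (2 : WithBot ℕ∞) ≤ ringKrullDim (AdicCompletion ((IsLocalRing.maximalIdeal (Localization.AtPrime q.asIdeal)).map (Ideal.Quotient.mk (p.map (algebraMap A (Localization.AtPrime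 q.asIdeal))))) (Localization.AtPrime q.asIdeal ⧸ p.map (algebraMap A (Localization.AtPrime q.asIdeal))) ⧸ P)) : Module.Finite A (LocCoh.H I 1 M) := by
  refine Groth.Agent.H1CohPush.finite_H1 (Groth.Agent.H1CohPush.finite_sec ((Groth.Agent.S2724.result A I M).mpr ?_))
  intro p hp hIp
  haveI : p.IsPrime := IsAssociatedPrime.isPrime (AssociatedPrimes.mem_iff.mp hp)
  let π := Ideal.Quotient.mk p
  have hI' : I.map π ≠ ⊥ := fun hb => hIp fun a ha => by
    rw [← Ideal.Quotient.eq_zero_iff_mem, ← Ideal.mem_bot, ← hb]
    exact Ideal.mem_map_of_mem π ha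
  refine Groth.Agent.H1CohPush.isCoherentPushCompl_of_finite _ _
    (Groth.Agent.H1CohPush.finite_sec_domain (I.map π) hI' ?_)
  intro q' hq'
  let q : PrimeSpectrum A := PrimeSpectrum.comap π q'
  have hpq : p ≤ q.asIdeal := fun a ha => by
    show π a ∈ q'.asIdeal
    rw [Ideal.Quotient.eq_zero_iff_mem.mpr ha]
    exact Ideal.zero_mem _
  have hIq : I ≤ q.asIdeal := Ideal.map_le_iff_le_comap.mp hq'
  let S := Localization.AtPrime q.asIdeal
  let B := S ⧸ p.map (algebraMap A S)
  have hsub : Algebra.algebraMapSubmonoid (A ⧸ p) q.asIdeal.primeCompl = q'.asIdeal.primeCompl := by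
    ext a
    constructor
    · rintro ⟨s, hs, rfl⟩
      exact hs
    · intro ha
      obtain ⟨a, rfl⟩ := Ideal.Quotient.mk_surjective a
      exact ⟨a, ha, rfl⟩
  have hloc : IsLocalization.AtPrime B q'.asIdeal := by
    have h1 : IsLocalization (Algebra.algebraMapSubmonoid (A ⧸ p) q.asIdeal.primeCompl) B := inferInstance
    rwa [hsub] at h1
  refine ⟨B, inferInstance, inferInstance, hloc, fun m hm => ?_⟩
  haveI := hloc
  haveI : IsLocalRing B := IsLocalization.AtPrime.isLocalRing B q'.asIdeal
  haveI : IsDomain B := IsLocalization.isDomain_of_le_nonZeroDivisors (M := q'.asIdeal.primeCompl) B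
    q'.asIdeal.primeCompl_le_nonZeroDivisors
  refine Groth.Agent.H1CohPush.finite_sec_punctured
    ((IsLocalRing.maximalIdeal S).map (Ideal.Quotient.mk (p.map (algebraMap A S)))) ?_ (h p hp hIp q hpq hIq) m
  rcases Ideal.map_eq_top_or_isMaximal_of_surjective (Ideal.Quotient.mk (p.map (algebraMap A S))) Ideal.Quotient.mk_surjective
    (I := IsLocalRing.maximalIdeal S) (IsLocalRing.maximalIdeal.isMaximal _) with hh | hh
  · exfalso
    have h1 := congrArg (Ideal.comap (Ideal.Quotient.mk (p.map (algebraMap A S)))) hh
    rw [Ideal.comap_map_of_surjective _ Ideal.Quotient.mk_surjective, ← RingHom.ker_eq_comap_bot, Ideal.mk_ker,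
      Ideal.comap_top, sup_eq_left.mpr] at h1
    · exact (IsLocalRing.maximalIdeal.isMaximal S).ne_top h1
    · rw [← IsLocalization.AtPrime.map_eq_maximalIdeal q.asIdeal S]
      exact Ideal.map_mono hpq
  · exact IsLocalRing.eq_maximalIdeal hh

end Groth.Agent.S1755
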