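import Groth.Statements.S1756
import Groth.Agent.H1CohPush.SOneFibres
import Groth.Agent.H1CohPush.Bridge
import Groth.Agent.S1755
import Groth.Agent.DimFormula.Catenary
import Mathlib

set_option autoImplicit false
universe u
open LocCoh

namespace Groth.Agent.S1756

/-- Let A be a universally catenary Noetherian ring and I an ideal such that for every prime q
containing I the formal fibres of A_q satisfy (S_1), and let M be a finite A-module. If for every
associated prime p of M not containing I and every prime q containing both p and I the longest chain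
of primes from p to q has length at least 2, then the local cohomology module H^1_I(M) is a finite
A-module. (Affine form: finiteness of H^1_I(M) stands in for coherence of the pushforward of the
restriction of M~ to Spec A ∖ V(I).) -/
theorem result (A : Type u) [CommRing A] [IsNoetherianRing A] (hA : CAlg.IsUniversallyCatenary A) (I : Ideal A) (hF : ∀ q : PrimeSpectrum A, I ≤ q.asIdeal → EGA4.HasSnFormalFibres 1 (Localization.AtPrime q.asIdeal)) (M : Type u) [AddCommGroup M] [Module A M] [Module.Finite A M] (h : ∀ (p q : PrimeSpectrum A) (hpq : p ≤ q), p.asIdeal ∈ associatedPrimes A M → ¬ I ≤ p.asIdeal → I ≤ q.asIdeal → (2 : ℕ∞) ≤ Order.height (⟨q, hpq⟩ : Set.Ici p)) : Module.Finite A (LocCoh.H I 1 M) := by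
  refine Groth.Agent.S1755.result A I M fun p hp hIp q hpq hIq P hP => ?_
  haveI hpp : p.IsPrime := IsAssociatedPrime.isPrime (AssociatedPrimes.mem_iff.mp hp)
  let S := Localization.AtPrime q.asIdeal
  haveI : IsNoetherianRing S := IsLocalization.isNoetherianRing q.asIdeal.primeCompl _ inferInstance
  have hd : Disjoint (q.asIdeal.primeCompl : Set A) (p : Set A) :=
    Set.disjoint_left.mpr fun x hx hxp => hx (hpq hxp)
  haveI ha : (p.map (algebraMap A S)).IsPrime :=
    IsLocalization.isPrime_of_isPrime_disjoint q.asIdeal.primeCompl S p hpp hd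
  haveI : IsLocalRing (S ⧸ p.map (algebraMap A S)) :=
    IsLocalRing.of_surjective' (Ideal.Quotient.mk _) Ideal.Quotient.mk_surjective
  have hK : (IsLocalRing.maximalIdeal S).map (Ideal.Quotient.mk (p.map (algebraMap A S))) =
      IsLocalRing.maximalIdeal (S ⧸ p.map (algebraMap A S)) :=
    IsLocalRing.map_maximalIdeal_of_surjective _ Ideal.Quotient.mk_surjective
  rw [Groth.Agent.H1CohPush.ringKrullDim_quotient_ass
    (Groth.Agent.DimFormula.isUniversallyCatenary_localization hA q.asIdeal.primeCompl S) (hF q hIq)
    (p.map (algebraMap A S)) _ hK P hP]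
  have h2 := Groth.Agent.H1CohPush.height_map_of_chain ⟨p, hpp⟩ I 2 fun q' hq' hI' => h _ q' hq' hp hIp hI'
  -- the height of `q / p` is the dimension of the local ring
  haveI : (q.asIdeal.map (Ideal.Quotient.mk p)).IsPrime :=
    Ideal.map_isPrime_of_surjective Ideal.Quotient.mk_surjective (by rw [Ideal.mk_ker]; exact hpq)
  have h3 : (2 : ℕ∞) ≤ (q.asIdeal.map (Ideal.Quotient.mk p)).height := h2.trans (Ideal.height_mono (Ideal.map_mono hIq))
  have hsub : Algebra.algebraMapSubmonoid (A ⧸ p) q.asIdeal.primeCompl =
      (q.asIdeal.map (Ideal.Quotient.mk p)).primeCompl := by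
    have hc : (q.asIdeal.map (Ideal.Quotient.mk p)).comap (Ideal.Quotient.mk p) = q.asIdeal := by
      rw [Ideal.comap_map_of_surjective _ Ideal.Quotient.mk_surjective, ← RingHom.ker_eq_comap_bot, Ideal.mk_ker,
        sup_eq_left.mpr hpq]
    ext a
    constructor
    · rintro ⟨s, hs, rfl⟩
      exact fun hm => hs (hc.le hm)
    · intro ha
      obtain ⟨a, rfl⟩ := Ideal.Quotient.mk_surjective a
      exact ⟨a, fun hm => ha (hc.ge hm), rfl⟩
  have hloc : IsLocalization.AtPrime (S ⧸ p.map (algebraMap A S)) (q.asIdeal.map (Ideal.Quotient.mk p)) := by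
    have h1 : IsLocalization (Algebra.algebraMapSubmonoid (A ⧸ p) q.asIdeal.primeCompl) (S ⧸ p.map (algebraMap A S)) :=
      inferInstance
    rwa [hsub] at h1
  haveI := hloc
  rw [IsLocalization.AtPrime.ringKrullDim_eq_height (q.asIdeal.map (Ideal.Quotient.mk p)) (S ⧸ p.map (algebraMap A S))]
  exact WithBot.coe_le_coe.mpr h3

end Groth.Agent.S1756
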