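import Groth.Statements.S17584
import Groth.Agent.S2102
import Groth.Agent.S9821

set_option autoImplicit false
open CategoryTheory CategoryTheory.Limits AlgebraicGeometry
open PosLin

namespace Groth.Agent.S17584

/-- Let X and Y each be a projective variety over the complex numbers (an integral scheme, proper over
ℂ, with an ample invertible module), and f : X → Y an algebraic fibre space (a surjective morphism
over ℂ with O_Y → f_*O_X an isomorphism). If X is normal, then Y is normal. -/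
theorem result (X : Scheme.{0}) [X.Over (Spec (CommRingCat.of ℂ))] [IsIntegral X] [IsProper (X ↘ Spec (CommRingCat.of ℂ))]
    (HX : X.Modules) (hHX : CohB1.IsAmple HX)
    (Y : Scheme.{0}) [Y.Over (Spec (CommRingCat.of ℂ))] [IsIntegral Y] [IsProper (Y ↘ Spec (CommRingCat.of ℂ))]
    (HY : Y.Modules) (hHY : CohB1.IsAmple HY)
    (f : X ⟶ Y) (hf : f ≫ (Y ↘ Spec (CommRingCat.of ℂ)) = X ↘ Spec (CommRingCat.of ℂ)) [Surjective f]
    (hfs : IsIso (ClSub.unitToPush f))
    (hX : Pi1.IsNormalScheme X) : Pi1.IsNormalScheme Y := by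
  refine (Groth.Agent.S9821.result Y).mpr fun U hU hUa => ?_
  haveI : Nonempty (f ⁻¹ᵁ U) := by
    obtain ⟨y, hy⟩ := hU
    obtain ⟨x, rfl⟩ := f.surjective y
    exact ⟨⟨x, hy⟩⟩
  haveI : IsIntegral (f ⁻¹ᵁ U).toScheme := isIntegral_of_isOpenImmersion (f ⁻¹ᵁ U).ι
  have hV : Pi1.IsNormalScheme (f ⁻¹ᵁ U).toScheme := fun x => by
    obtain ⟨h1, h2⟩ := hX ((f ⁻¹ᵁ U).ι.base x)
    haveI := h1
    haveI := h2
    let e : (f ⁻¹ᵁ U).toScheme.presheaf.stalk x ≃+* X.presheaf.stalk ((f ⁻¹ᵁ U).ι.base x) :=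
      (asIso ((f ⁻¹ᵁ U).ι.stalkMap x)).symm.commRingCatIsoToRingEquiv
    exact ⟨e.toMulEquiv.isDomain _, IsIntegrallyClosed.of_equiv e.symm⟩
  haveI := Groth.Agent.S2102.result _ hV
  haveI hclosed : IsIntegrallyClosed Γ(X, f ⁻¹ᵁ U) :=
    IsIntegrallyClosed.of_equiv (f ⁻¹ᵁ U).topIso.commRingCatIsoToRingEquiv
  have hbij : Function.Bijective (f.app U).hom := by
    haveI := hfs
    haveI : IsIso ((ClSub.unitToPush f).app U) :=
      inferInstanceAs (IsIso (((Scheme.Modules.toPresheaf Y).map (ClSub.unitToPush f)).app (Opposite.op U)))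
    exact ConcreteCategory.bijective_of_isIso ((ClSub.unitToPush f).app U)
  exact IsIntegrallyClosed.of_equiv (RingEquiv.ofBijective (f.app U).hom hbij).symm

end Groth.Agent.S17584
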