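import Groth.Statements.S1761
import Groth.Agent.PerfGen7.LocalDualityRows
import Groth.Agent.H1Falt.KillCompl
import Groth.Agent.S1812
import Groth.Agent.LC.Matlis
import Groth.Agent.KFlatLib.Ring.RHomFinite
import Groth.Agent.KFlatLib.Ring.DualizingFlat

set_option autoImplicit false
set_option backward.isDefEq.respectTransparency false
set_option backward.isDefEq.respectTransparency.types false
set_option linter.style.haveILetI false
set_option maxHeartbeats 1000000
universe u
open CategoryTheory
attribute [local instance] HasDerivedCategory.standard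
open Dual

namespace Groth.Agent.S1761

section
open CategoryTheory.Limits CategoryTheory.Pretriangulated Groth.Agent.RGammaD Groth.Agent.H9Misc Groth.Agent.H9Misc.ExtCechTors

variable {A : Type u} [CommRing A]

/-- Localization preserves vanishing of one homology module. -/
lemma isZero_homology_locCx (S : Submonoid A) {K : DRing.Cx A} (q : ℤ) (h : IsZero (K.homology q)) :
    IsZero (((DerCA.locCx S).obj K).homology q) := by
  haveI := ModuleCat.subsingleton_of_isZero h
  refine ModuleCat.isZero_iff_subsingleton.2 (subsingleton_of_forall_eq 0 fun x => ?_)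
  let L := (DerCA.locCx S).obj K
  obtain ⟨z, rfl⟩ := exists_cycle_rep L q x
  obtain ⟨⟨m, s⟩, hm⟩ := IsLocalizedModule.mk'_surjective S (LocalizedModule.mkLinearMap S (K.X q)) (L.iCycles q z)
  have hd : L.d q (q + 1) (L.iCycles q z) = 0 := by
    rw [← ConcreteCategory.comp_apply, L.iCycles_d]; rfl
  rw [← hm] at hd
  have hd' : IsLocalizedModule.mk' (LocalizedModule.mkLinearMap S (K.X (q + 1))) (K.d q (q + 1) m) s = 0 := by
    refine Eq.trans ?_ hd
    exact (IsLocalizedModule.map_mk' (S := S) (LocalizedModule.mkLinearMap S (K.X q))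
      (LocalizedModule.mkLinearMap S (K.X (q + 1))) (K.d q (q + 1)).hom m s).symm
  obtain ⟨t, ht⟩ := (IsLocalizedModule.mk'_eq_zero' _ _).1 hd'
  obtain ⟨w, hw⟩ := exists_cycle_of_d_eq_zero K q ((t : A) • m) (by rw [map_smul]; exact ht)
  obtain ⟨y, hy⟩ := exists_of_homologyπ_eq_zero K q w (Subsingleton.elim _ _)
  refine homologyπ_eq_zero L q _ (IsLocalizedModule.mk' (LocalizedModule.mkLinearMap S (K.X (q - 1))) y (t * s) :
    LocalizedModule S (K.X (q - 1))) ?_
  rw [← hm]
  refine (IsLocalizedModule.map_mk' (S := S) (LocalizedModule.mkLinearMap S (K.X (q - 1)))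
    (LocalizedModule.mkLinearMap S (K.X q)) (K.d (q - 1) q).hom y (t * s)).trans ?_
  show IsLocalizedModule.mk' (LocalizedModule.mkLinearMap S (K.X q)) (K.d (q - 1) q y) (t * s) = _
  rw [hy, hw]
  exact IsLocalizedModule.mk'_cancel_left _ m t s

/-- Torsion sections of a complex of injectives. -/
lemma isZero_homology_gam [IsNoetherianRing A] (J : DRing.Cx A) (hJ : ∀ n, Injective (J.X n)) (N : ℤ)
    (hN : ∀ q, N < q → IsZero (J.homology q)) :
    ∀ (s : Finset A) (a : Ideal A), Ideal.span (s : Set A) = a →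
      ∀ q, N + s.card < q → IsZero (((gam a).obj J).homology q) := by
  classical
  intro s
  induction s using Finset.induction_on with
  | empty =>
    intro a ha q hq
    rw [Finset.coe_empty, Ideal.span_empty] at ha
    subst ha
    haveI : ∀ n, IsIso ((incl (⊥ : Ideal A) J).f n) := fun n =>
      (ConcreteCategory.isIso_iff_bijective _).2 ⟨Subtype.val_injective, fun x => ⟨⟨x, 1, fun c hc => by
        rw [pow_one, Ideal.mem_bot] at hc
        rw [hc, zero_smul]⟩, rfl⟩⟩
    haveI := HomologicalComplex.Hom.isIso_of_components (incl (⊥ : Ideal A) J)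
    exact (hN q (by simpa using hq)).of_iso (asIso (HomologicalComplex.homologyMap (incl (⊥ : Ideal A) J) q))
  | insert f s hfs ih =>
    intro a ha q hq
    rw [Finset.card_insert_of_notMem hfs] at hq
    obtain rfl : Ideal.span (s : Set A) ⊔ Ideal.span {f} = a := by
      rw [← ha, Finset.coe_insert, Ideal.span_insert, sup_comm]
    have hS := stepSeq_shortExact (Ideal.span (s : Set A)) f J hJ
    exact (hS.homology_exact₁ (q - 1) q (by simp)).isZero_of_both_zeros
      ((isZero_homology_locCx _ _ (ih _ rfl (q - 1) (by omega))).eq_of_src _ _)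
      ((ih _ rfl q (by omega)).eq_of_tgt _ _)

/-- The cone of a map between K-injective complexes is K-injective. -/
lemma isKInjective_cone {K L : DRing.Cx A} (φ : K ⟶ L) [K.IsKInjective] [L.IsKInjective] :
    (CochainComplex.mappingCone φ).IsKInjective := by
  rw [CochainComplex.isKInjective_iff_rightOrthogonal]
  exact ObjectProperty.ext_of_isTriangulatedClosed₃ _ (CochainComplex.mappingCone.triangleh φ)
    (HomotopyCategory.mappingCone_triangleh_distinguished φ)
    (CochainComplex.IsKInjective.rightOrthogonal K) (CochainComplex.IsKInjective.rightOrthogonal L)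

/-- A map is an isomorphism on cohomology where the cone is exact. -/
lemma isZero_cone_iff {K L : DRing.Cx A} (φ : K ⟶ L) :
    (∀ N : ℤ, (∀ c, N ≤ c → IsIso ((DerivedCategory.homologyFunctor (ModuleCat.{u} A) c).map (DerivedCategory.Q.map φ))) →
      ∀ c, N ≤ c → IsZero ((CochainComplex.mappingCone φ).homology c)) ∧
    (∀ c : ℤ, IsZero ((CochainComplex.mappingCone φ).homology (c - 1)) → IsZero ((CochainComplex.mappingCone φ).homology c) →
      IsIso ((DerivedCategory.homologyFunctor (ModuleCat.{u} A) c).map (DerivedCategory.Q.map φ))) := by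
  let T := DerivedCategory.Q.mapTriangle.obj (CochainComplex.mappingCone.triangle φ)
  have hT : T ∈ distTriang (Dual.D A) := DerivedCategory.mappingCone_triangle_distinguished φ
  let H := fun c => DerivedCategory.homologyFunctor (ModuleCat.{u} A) c
  let e := fun c => ((DerivedCategory.homologyFunctorFactors (ModuleCat.{u} A) c).app (CochainComplex.mappingCone φ))
  refine ⟨fun N h c hc => ?_, fun c h0 h1 => ?_⟩
  · haveI : IsIso ((H c).map T.mor₁) := h c hc
    haveI : IsIso ((H (c + 1)).map T.mor₁) := h (c + 1) (by omega)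
    have h2 : (H c).map T.mor₂ = 0 :=
      (DerivedCategory.HomologySequence.epi_homologyMap_mor₁_iff T hT c).1 inferInstance
    have h3 : DerivedCategory.HomologySequence.δ T c (c + 1) rfl = 0 :=
      (DerivedCategory.HomologySequence.mono_homologyMap_mor₁_iff T hT c (c + 1) rfl).1 inferInstance
    exact ((DerivedCategory.HomologySequence.exact₃ T hT c (c + 1) rfl).isZero_of_both_zeros h2 h3).of_iso (e c).symm
  · haveI : Mono ((H c).map T.mor₁) :=
      (DerivedCategory.HomologySequence.mono_homologyMap_mor₁_iff T hT (c - 1) c (by omega)).2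
        ((h0.of_iso (e (c - 1))).eq_of_src _ _)
    haveI : Epi ((H c).map T.mor₁) :=
      (DerivedCategory.HomologySequence.epi_homologyMap_mor₁_iff T hT c).2 ((h1.of_iso (e c)).eq_of_tgt _ _)
    exact isIso_of_mono_of_epi ((H c).map T.mor₁)

/-- `H^i(RΓ)` only sees high degrees. -/
theorem exists_HDI_congr [IsNoetherianRing A] (I : Ideal A) (s : Finset A) (hs : Ideal.span (s : Set A) = I)
    {K Z : Dual.D A} (v : K ⟶ Z) (N : ℤ)
    (hv : ∀ c, N ≤ c → IsIso ((DerivedCategory.homologyFunctor (ModuleCat.{u} A) c).map v))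
    (i : ℤ) (hi : N + s.card < i) :
    Nonempty (Dual2.HDI A I K i ≃ₗ[A] Dual2.HDI A I Z i) := by
  haveI := H1Falt.hasRgammaI I
  obtain ⟨JK, hK, hKi, ⟨eK⟩⟩ := DRingRHomCompl.exists_resolution K
  obtain ⟨JZ, hZ, hZi, ⟨eZ⟩⟩ := DRingRHomCompl.exists_resolution Z
  obtain ⟨φ, hφ⟩ := DRingInjDim.lift_to_injective (L := JZ) (eK.inv ≫ v ≫ eZ.hom)
  haveI := isKInjective_cone φ
  have hinj : ∀ n, Injective ((CochainComplex.mappingCone φ).X n) := fun n => by
    haveI := hKi (n + 1)
    haveI := hZi n
    exact Injective.of_iso (HomologicalComplex.homotopyCofiber.XIsoBiprod φ n (n + 1) rfl).symm inferInstance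
  have hcone : ∀ c, N - 1 < c → IsZero ((CochainComplex.mappingCone φ).homology c) := fun c hc => by
    refine (isZero_cone_iff φ).1 N (fun c hc => ?_) c (by omega)
    haveI := hv c hc
    change IsIso ((DerivedCategory.homologyFunctor (ModuleCat.{u} A) c).map (DerivedCategory.Q.map φ))
    rw [show DerivedCategory.Q.map φ = eK.inv ≫ v ≫ eZ.hom from hφ, Functor.map_comp, Functor.map_comp]
    infer_instance
  have hg := isZero_homology_gam (CochainComplex.mappingCone φ) hinj (N - 1) hcone s I hs
  have hg' : ∀ c, N - 1 + s.card < c → IsZero ((CochainComplex.mappingCone ((gam I).map φ)).homology c) :=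
    fun c hc => (hg c hc).of_iso ((HomologicalComplex.homologyFunctor (ModuleCat.{u} A) _ c).mapIso
      (CochainComplex.mappingCone.mapHomologicalComplexIso φ (DRing.gammaI I)).symm)
  haveI := (isZero_cone_iff ((gam I).map φ)).2 i (hg' _ (by omega)) (hg' _ (by omega))
  obtain ⟨a, -⟩ := exists_iso_gam I JK
  obtain ⟨b, -⟩ := exists_iso_gam I JZ
  let H := DerivedCategory.homologyFunctor (ModuleCat.{u} A) i
  obtain ⟨E₁⟩ := Groth.Agent.S1812.result A I (IsNoetherian.noetherian I) K i
  obtain ⟨E₂⟩ := Groth.Agent.S1812.result A I (IsNoetherian.noetherian I) Z i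
  let m := H.mapIso ((DRing.RgammaI I).mapIso eK ≪≫ a.symm) ≪≫
    asIso (H.map (DerivedCategory.Q.map ((gam I).map φ))) ≪≫ H.mapIso (b ≪≫ ((DRing.RgammaI I).mapIso eZ).symm)
  exact ⟨E₁.symm.trans (m.toLinearEquiv.trans E₂)⟩

end



/-- For a complete local ring (where the completion on the left-hand side is the identity). Let A be a
complete Noetherian local ring with maximal ideal m, normalized dualizing complex ω and injective
hull κ → E of the residue field. For every K in D(A) all of whose cohomology modules are finite and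
every integer i, the A-module of maps K → ω[−i] in D(A) is isomorphic to Hom_A(H^i_m(K), E), where
H^i_m(K) is the direct limit of Hom(A/m^n, K[i]). -/
theorem result (A : Type u) [CommRing A] [IsLocalRing A] [IsNoetherianRing A] [IsAdicComplete (IsLocalRing.maximalIdeal A) A] (ω : Dual.D A) (hω : Dual.IsDualizing A ω) (hn : Dual.IsNormalized A ω) (E : Type u) [AddCommGroup E] [Module A E] (f : IsLocalRing.ResidueField A →ₗ[A] E) (hf : InjHull.IsInjectiveHull f) (K : Dual.D A) (hK : ∀ i : ℤ, Module.Finite A (Dual.HD A K i)) (i : ℤ) : Nonempty ((K ⟶ ω⟦(-i)⟧) ≃ₗ[A] (Dual2.HDI A (IsLocalRing.maximalIdeal A) K i →ₗ[A] E)) := by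
  obtain ⟨s, hs⟩ := IsNoetherian.noetherian (IsLocalRing.maximalIdeal A)
  obtain ⟨a, b, hab, _, _⟩ := Groth.Agent.KFlatLib.exists_bounds_of_isDualizing hω
  let N : ℤ := min (a + i - 1) (i - s.card - 1)
  obtain ⟨P, Z, hP, hZ, u, v, w, hT⟩ := DerivedCategory.TStructure.t.exists_triangle K (N - 1) N (by omega)
  haveI : P.IsLE (N - 1) := ⟨hP⟩
  haveI : Z.IsGE N := ⟨hZ⟩
  let H := fun c => DerivedCategory.homologyFunctor (ModuleCat.{u} A) c
  have hv : ∀ c : ℤ, N ≤ c → IsIso ((H c).map v) := fun c hc => by
    haveI : Mono ((H c).map v) := (DerivedCategory.HomologySequence.mono_homologyMap_mor₂_iff _ hT c).2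
      ((DerivedCategory.isZero_of_isLE P (N - 1) c (by omega)).eq_of_src _ _)
    haveI : Epi ((H c).map v) := (DerivedCategory.HomologySequence.epi_homologyMap_mor₂_iff _ hT c (c + 1) rfl).2
      ((DerivedCategory.isZero_of_isLE P (N - 1) (c + 1) (by omega)).eq_of_tgt _ _)
    exact isIso_of_mono_of_epi _
  have hfin : ∀ c : ℤ, Module.Finite A (Dual.HD A Z c) := fun c => by
    by_cases hc : N ≤ c
    · haveI := hv c hc
      haveI := hK c
      exact Module.Finite.equiv (asIso ((H c).map v)).toLinearEquiv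
    · haveI : Subsingleton (Dual.HD A Z c) :=
        ModuleCat.subsingleton_of_isZero (DerivedCategory.isZero_of_isGE Z N c (by omega))
      exact Module.Finite.of_finite
  obtain ⟨e⟩ := exists_HDI_congr _ s hs v N hv i (by omega)
  obtain ⟨d⟩ := Groth.Agent.PerfGen7.LocalDualityD.exists_HDI_equiv hω hn hf Z N hfin i
  haveI hY : (ω⟦(-i)⟧).IsGE (a + i) := DerivedCategory.TStructure.t.isGE_shift ω a (-i) (a + i) (by omega)
  have hbij : Function.Bijective (CategoryTheory.Linear.leftComp A (ω⟦(-i)⟧) v) := by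
    constructor
    · refine (injective_iff_map_eq_zero _).2 fun g hg => ?_
      obtain ⟨k, hk⟩ := Pretriangulated.Triangle.yoneda_exact₃ _ hT g hg
      haveI : (P⟦(1 : ℤ)⟧).IsLE (N - 2) := DerivedCategory.TStructure.t.isLE_shift P (N - 1) 1 (N - 2) (by omega)
      have hk0 : (k : P⟦(1 : ℤ)⟧ ⟶ ω⟦(-i)⟧) = 0 :=
        DerivedCategory.TStructure.t.zero (X := P⟦(1 : ℤ)⟧) k (N - 2) (a + i) (by omega)
      exact hk.trans ((congrArg (_ ≫ ·) hk0).trans Limits.comp_zero)
    · intro g
      obtain ⟨k, hk⟩ := Pretriangulated.Triangle.yoneda_exact₂ _ hT g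
        (DerivedCategory.TStructure.t.zero (u ≫ g) (N - 1) (a + i) (by omega))
      exact ⟨k, hk.symm⟩
  let c := LinearEquiv.ofBijective _ hbij
  haveI := Groth.Agent.KFlatLib.finite_hom_of_finite_hd hfin hω.finite_cohomology ⟨a, b, hab⟩ (-i)
  obtain ⟨n, π, hπ⟩ := Module.Finite.exists_fin' A (Z ⟶ ω⟦(-i)⟧)
  let q := π.quotKerEquivOfSurjective hπ
  let ev := LinearEquiv.ofBijective _ (Groth.Agent.LC.applyₗ_bijective_of_finite hf ((Fin n → A) ⧸ LinearMap.ker π))
  exact ⟨c.symm.trans (q.symm.trans (ev.trans (((e.trans d).trans (q.congrLeft E A).symm).congrLeft E A).symm))⟩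

end Groth.Agent.S1761
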