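import Groth.Statements.S17622
import Groth.Agent.VolLib.UnifLev
import Groth.Agent.S17373
import Groth.Agent.S17621
import Groth.Agent.H23.EquidimFibres
import Mathlib

set_option autoImplicit false
set_option backward.isDefEq.respectTransparency false
set_option backward.isDefEq.respectTransparency.types false
set_option maxHeartbeats 1000000
universe u
open CategoryTheory CategoryTheory.Limits AlgebraicGeometry
open Variety

namespace Groth.Agent.S17622
open Groth.Agent.H23.PicMul

/-- Let X be an integral scheme, proper over an uncountable algebraically closed field k of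
characteristic zero and admitting an ample invertible module, of dimension n (stated in the source
over the complex numbers), L an invertible O_X-module and P an invertible O_X-module which is
numerically equivalent to zero, i.e. of degree 0 on every integral closed curve in X. Then ĥ^i(X, L
⊗ P) = ĥ^i(X, L) for every i ≥ 0, where ĥ^i(X, L) = limsup_m dim_k H^i(X, L^{⊗m}) · n!/m^n; so ĥ^i
only depends on the numerical class of L. -/
theorem result (k : Type u) [Field k] [IsAlgClosed k] [CharZero k] [Uncountable k] (X : Scheme.{u})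
    [X.Over (Spec (CommRingCat.of k))] [AlgebraicGeometry.IsIntegral X]
    [IsProper (X ↘ Spec (CommRingCat.of k))] (hproj : ∃ A : X.Modules, CohB1.IsAmple A)
    (n : ℕ) (hn : topologicalKrullDim X = n)
    (L : X.Modules) (hL : PicF.IsInvertible L) (P : X.Modules) (hP : PicF.IsInvertible P)
    (hnum : Pic13.IsNumEquivZero k X P) (i : ℕ) :
    W4c5asymptcohfn.hhat k X n i (CohB1.tensorMod L P) = W4c5asymptcohfn.hhat k X n i L := by
  obtain ⟨A, hA⟩ := hproj
  have hproj : ∃ A : X.Modules, CohB1.IsAmple A := ⟨A, hA⟩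
  haveI := CurveCohLib.isNoetherian_of_proper (k := k) (X := X)
  haveI : X.IsSeparated := AmpleVan.isSeparated_of_proper (A := k)
  haveI : IsIntegral (Over.mk (X ↘ Spec (CommRingCat.of k))).left := ‹IsIntegral X›
  haveI : GeometricallyIntegral (X ↘ Spec (CommRingCat.of k)) :=
    H23.EquidimFibres.geometricallyIntegral_of_isAlgClosed (V := Over.mk (X ↘ Spec (CommRingCat.of k)))
  obtain ⟨e₁, -, he₁⟩ := AmpleX.eventually_ample_tensor hA hL
  obtain ⟨e₂, -, he₂⟩ := AmpleX.eventually_ample_tensor hA (InvX.isInvertible_structureModule (X := X))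
  let e := max e₁ e₂
  let B₀ := CohB1.tensorMod (CohB1.tensorPow A e) L
  let B₁ := CohB1.tensorMod (CohB1.tensorPow A e) (Coh.structureModule X)
  obtain ⟨hB₀, hg₀⟩ : CohB1.IsAmple B₀ ∧ Curv2.IsGloballyGenerated B₀ := he₁ e (le_max_left _ _)
  obtain ⟨hB₁, hg₁⟩ : CohB1.IsAmple B₁ ∧ Curv2.IsGloballyGenerated B₁ := he₂ e (le_max_right _ _)
  obtain ⟨m₁, hm₁⟩ := S17373.result k X B₀ hB₀
  obtain ⟨p, hp, hpm⟩ : ∃ p, 1 ≤ p ∧ m₁ ≤ p := ⟨m₁ + 1, Nat.le_add_left _ _, Nat.le_succ _⟩
  obtain ⟨p', rfl⟩ := Nat.exists_eq_add_of_le' hp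
  have hp1 := InvX.isInvertible_tensorPow hB₁.1 (p' + 1)
  obtain ⟨D, hD, ⟨eD⟩⟩ := H23.PicInv.exists_inverse hp1
  let H : Fin 2 → X.Modules := ![CohB1.tensorPow B₀ (p' + 1), CohB1.tensorPow B₁ (p' + 1)]
  have hHD : PicF.cl (H 1) * PicF.cl D = 1 := by
    show PicF.cl (CohB1.tensorPow B₁ (p' + 1)) * PicF.cl D = 1
    rw [← cl_tensor, H23.PicMul.one_def]; exact cl_eq_iff.2 ⟨eD⟩
  obtain ⟨C, m₀, hC⟩ := VolLib.twist_compare (k := k) (H := H) (AmpleX.isAmple_tensorPow hB₀ (Nat.succ_pos p')) hn.le hp1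
    ((VolLib.gen_of_gg hB₀.1 hg₀).pow hB₀.1 p') ((VolLib.gen_of_gg hB₁.1 hg₁).pow hB₁.1 p') hD hHD
    (fun N hN => by
      rw [VolLib.dimH_def]
      obtain ⟨h1, h2⟩ := hm₁ (p' + 1) hpm N hN.1 hN.2
      exact h1.symm ▸ h2) i
  let L₀ := CohB1.tensorMod (H 0) D
  have hL₀ : PicF.cl L₀ = PicF.cl L ^ (p' + 1) := by
    have h1 : (PicF.cl A ^ e) ^ (p' + 1) * PicF.cl D = 1 := by
      refine Eq.trans ?_ hHD
      show _ = PicF.cl (CohB1.tensorPow B₁ (p' + 1)) * _
      simp only [B₁, cl_tensor, cl_tensorPow, ← H23.PicMul.one_def, mul_one]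
    show PicF.cl (CohB1.tensorMod (CohB1.tensorPow B₀ (p' + 1)) D) = _
    simp only [B₀, cl_tensor, cl_tensorPow]
    rw [mul_pow, show (PicF.cl A ^ e) ^ (p' + 1) * PicF.cl L ^ (p' + 1) * PicF.cl D =
      PicF.cl L ^ (p' + 1) * ((PicF.cl A ^ e) ^ (p' + 1) * PicF.cl D) by ac_rfl, h1, mul_one]
  have hLP := InvX.isInvertible_tensorMod hL hP
  have hLPp := InvX.isInvertible_tensorPow hLP (p' + 1)
  have hLp := InvX.isInvertible_tensorPow hL (p' + 1)
  have hne : ((p' + 1 : ℕ) : ℝ) ^ n ≠ 0 := pow_ne_zero _ (by exact_mod_cast Nat.succ_ne_zero p')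
  refine mul_left_cancel₀ hne ?_
  rw [← S17621.result k X ⟨A, hA⟩ n hn _ hLP (p' + 1) hp i, ← S17621.result k X ⟨A, hA⟩ n hn L hL (p' + 1) hp i,
    VolLib.hhat_eq k, VolLib.hhat_eq k]
  let f := VolLib.hseq k (CohB1.tensorPow (CohB1.tensorMod L P) (p' + 1)) (Coh.structureModule X) i
  let g := VolLib.hseq k (CohB1.tensorPow L (p' + 1)) (Coh.structureModule X) i
  refine VolLib.vsup_congr (a := f) (b := g) ⟨fun a => (if a < m₀ then f a + g a else 0) + C * VolLib.pT n (a + 1),
    ?_, fun a => ?_⟩ (VolLib.bd_all k hLp hn.le QCoh.isCoh_structureModule' i)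
  · refine ⟨(Finset.range m₀).sup (fun a => f a + g a) * (m₀ + 1) + C, fun a => ?_⟩
    rw [add_mul, add_mul]
    refine add_le_add ?_ ?_
    · split
      · rename_i ha
        calc (f a + g a) * (a + 1) ≤ (Finset.range m₀).sup (fun a => f a + g a) * (m₀ + 1) :=
              Nat.mul_le_mul (Finset.le_sup (f := fun a => f a + g a) (Finset.mem_range.2 ha)) (by omega)
          _ ≤ _ := Nat.le_mul_of_pos_right _ (pow_pos (Nat.succ_pos a) n)
      · rw [zero_mul]; exact Nat.zero_le _
    · rw [mul_assoc]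
      refine Nat.mul_le_mul_left _ ?_
      cases n with
      | zero => simp [VolLib.pT]
      | succ d => exact le_of_eq (pow_succ _ d).symm
  · dsimp only
    by_cases ha : a < m₀
    · rw [if_pos ha]; omega
    · rw [if_neg ha, zero_add]
      have hN : VolLib.NT k (CohB1.tensorPow P ((p' + 1) * a)) := VolLib.NT.pow ⟨hP, hnum⟩ _
      obtain ⟨h1, h2⟩ := hC a (Nat.le_of_not_lt ha) _ hN
      have ef : VolLib.dimH k (CohB1.tensorMod (CohB1.tensorPow L₀ a) (CohB1.tensorPow P ((p' + 1) * a))) i = f a := by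
        rw [VolLib.dimH_def]
        refine HilbPoly.finrank_HH_iso k (cl_eq_iff.1 ?_).some i
        show _ = PicF.cl (CohB1.tensorMod _ (CohB1.tensorPow (CohB1.tensorPow (CohB1.tensorMod L P) (p' + 1)) a))
        simp only [cl_tensor, cl_tensorPow, hL₀, ← H23.PicMul.one_def, one_mul, mul_pow, ← pow_mul]
      have eg : VolLib.dimH k (CohB1.tensorPow L₀ a) i = g a := by
        rw [VolLib.dimH_def]
        refine HilbPoly.finrank_HH_iso k (cl_eq_iff.1 ?_).some i
        show _ = PicF.cl (CohB1.tensorMod _ (CohB1.tensorPow (CohB1.tensorPow L (p' + 1)) a))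
        simp only [cl_tensor, cl_tensorPow, hL₀, ← H23.PicMul.one_def, one_mul]
      rw [ef, eg] at h1 h2
      exact ⟨h1, h2⟩

end Groth.Agent.S17622
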