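import Groth.Statements.S17627
import Groth.Agent.VolLib.GenRank
import Mathlib

set_option autoImplicit false
universe u
open CategoryTheory CategoryTheory.Limits AlgebraicGeometry
open Variety

namespace Groth.Agent.S17627

theorem vsup_mul {n : ℕ} {f : ℕ → ℕ} (hf : VolLib.Bd (n + 1) f) (r : ℕ) :
    VolLib.vsup n (fun m => r * f m) = (r : ℝ) * VolLib.vsup n f := by
  rcases Nat.eq_zero_or_pos r with rfl | hr
  · simp only [zero_mul, Nat.cast_zero]
    exact VolLib.vsup_eq_zero (VolLib.Bd.zero n)
  have hr' : (0 : ℝ) < r := by exact_mod_cast hr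
  obtain ⟨B, hB⟩ := hf.exists_nseq_le
  show Filter.limsup (VolLib.nseq n fun m => r * f m) Filter.atTop = _
  rw [show (VolLib.nseq n fun m => r * f m) = fun m => (OrderIso.mulLeft₀ _ hr') (VolLib.nseq n f m) from
    funext fun m => by simp only [VolLib.nseq, Nat.cast_mul, OrderIso.mulLeft₀_apply]; ring]
  exact (OrderIso.limsup_apply (OrderIso.mulLeft₀ _ hr') hf.isBounded_nseq (VolLib.isCobounded_nseq n f)
    (Filter.isBoundedUnder_of ⟨(r : ℝ) * B, fun m => mul_le_mul_of_nonneg_left (hB _) hr'.le⟩)
    (Filter.isBoundedUnder_of ⟨0, fun m => mul_nonneg hr'.le (VolLib.nseq_nonneg n f m)⟩ :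
      Filter.IsBoundedUnder (· ≥ ·) Filter.atTop
        fun m => (OrderIso.mulLeft₀ _ hr') (VolLib.nseq n f m)).isCoboundedUnder_le).symm

/-- Let X be an integral scheme, proper over an algebraically closed field k of characteristic zero and
admitting an ample invertible module, of dimension n (stated in the source over the complex
numbers), F a coherent O_X-module whose generic rank — the dimension of its stalk at the generic
point of X over the function field — is r, and L an invertible O_X-module. Then limsup_m dim_k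
H^i(X, F ⊗ L^{⊗m}) · n!/m^n = r · ĥ^i(X, L) for every i ≥ 0, where ĥ^i(X, L) = limsup_m dim_k H^i(X,
L^{⊗m}) · n!/m^n. -/
theorem result (k : Type u) [Field k] [IsAlgClosed k] [CharZero k] (X : Scheme.{u})
    [X.Over (Spec (CommRingCat.of k))] [AlgebraicGeometry.IsIntegral X]
    [IsProper (X ↘ Spec (CommRingCat.of k))] (hproj : ∃ A : X.Modules, CohB1.IsAmple A)
    (n : ℕ) (hn : topologicalKrullDim X = n)
    (F : X.Modules) (hF : Coh.IsCoh F) (r : ℕ)
    (hr : Module.finrank (X.presheaf.stalk (genericPoint X)) (F.presheaf.stalk (genericPoint X)) = r)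
    (L : X.Modules) (hL : PicF.IsInvertible L) (i : ℕ) :
    W4c5asymptcohfn.hhatF k X n i F L = (r : ℝ) * W4c5asymptcohfn.hhat k X n i L := by
  haveI := CurveCohLib.isNoetherian_of_proper (k := k) (X := X)
  obtain ⟨A, hA⟩ := hproj
  have hO : Coh.IsCoh (Coh.structureModule X) := QCoh.isCoh_structureModule'
  have hb := VolLib.bd_all k hL hn.le hO i
  subst hr
  rw [VolLib.hhatF_eq, VolLib.hhat_eq k]
  have hb' : VolLib.Bd (n + 1) (fun m => Module.finrank (X.presheaf.stalk (genericPoint X))
      (F.presheaf.stalk (genericPoint X)) * VolLib.hseq k L (Coh.structureModule X) i m) := by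
    obtain ⟨C, hC⟩ := hb
    exact ⟨_ * C, fun m => by rw [mul_assoc, mul_assoc]; exact Nat.mul_le_mul_left _ (hC m)⟩
  rw [VolLib.vsup_congr (VolLib.near_free hA hn hL hF i) hb']
  exact vsup_mul hb _

end Groth.Agent.S17627
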