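import Groth.Statements.S17626
import Groth.Agent.VolLib.Hhat
import Groth.Agent.VolLib.Kodaira
import Groth.Agent.Snapper.DimVanish
import Mathlib

set_option autoImplicit false
universe u
open CategoryTheory CategoryTheory.Limits AlgebraicGeometry
open Variety

namespace Groth.Agent.S17626

open Groth.Agent.H23.PicMul

/-- Let X be an integral scheme, proper over an algebraically closed field k of characteristic zero and
admitting an ample invertible module, of dimension n ≥ 1 (stated in the source over the complex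
numbers), and L an invertible O_X-module which is big, in the sense that its volume ĥ^0(X, L) =
limsup_m dim_k H^0(X, L^{⊗m}) · n!/m^n is positive. Then ĥ^n(X, L) = 0. (The published statement
allows n = 0, where it fails: X is then a point, every L is big and ĥ^0(X, L) = 1; the printed
argument uses that L and its inverse cannot both be big, which needs n ≥ 1.) -/
theorem result (k : Type u) [Field k] [IsAlgClosed k] [CharZero k] (X : Scheme.{u})
    [X.Over (Spec (CommRingCat.of k))] [AlgebraicGeometry.IsIntegral X]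
    [IsProper (X ↘ Spec (CommRingCat.of k))] (hproj : ∃ A : X.Modules, CohB1.IsAmple A)
    (n : ℕ) (hn : topologicalKrullDim X = n) (hn1 : 1 ≤ n)
    (L : X.Modules) (hL : PicF.IsInvertible L) (hbig : 0 < W4c5asymptcohfn.hhat k X n 0 L) :
    W4c5asymptcohfn.hhat k X n n L = 0 := by
  classical
  haveI := CurveCohLib.isNoetherian_of_proper (k := k) (X := X)
  haveI : X.IsSeparated := AmpleVan.isSeparated_of_proper (A := k)
  have hbig' : ∀ C m₀ : ℕ, ∃ m, m₀ ≤ m ∧ C * m ^ n < Module.finrank k (Coh.HH X (CohB1.tensorPow L m) 0) * m := by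
    intro C m₀
    by_contra hcon
    simp only [not_exists, not_and, not_lt] at hcon
    refine hbig.ne' ?_
    refine Filter.Tendsto.limsup_eq (squeeze_zero' (Filter.Eventually.of_forall fun m => by positivity) ?_
      (tendsto_const_div_atTop_nhds_zero_nat ((C : ℝ) * n.factorial)))
    filter_upwards [Filter.eventually_ge_atTop (max m₀ 1)] with m hm
    have h : (Module.finrank k (Coh.HH X (CohB1.tensorPow L m) 0) : ℝ) * m ≤ (C : ℝ) * (m : ℝ) ^ n := by
      exact_mod_cast hcon m (le_of_max_le_left hm)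
    have hm' : (0 : ℝ) < m := by exact_mod_cast lt_of_lt_of_le Nat.one_pos (le_of_max_le_right hm)
    rw [div_le_div_iff₀ (by positivity) hm']
    calc _ = (Module.finrank k (Coh.HH X (CohB1.tensorPow L m) 0) : ℝ) * m * n.factorial := by ring
      _ ≤ (C : ℝ) * (m : ℝ) ^ n * n.factorial := mul_le_mul_of_nonneg_right h (Nat.cast_nonneg _)
      _ = _ := by ring
  obtain ⟨A, hA⟩ := hproj
  obtain ⟨A', hA', ⟨e₀⟩⟩ := H23.PicInv.exists_inverse hA.1
  have e : CohB1.tensorMod A' A ≅ Coh.structureModule X := (cl_eq_iff.1 (by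
    rw [cl_tensor, mul_comm, ← cl_tensor]
    exact cl_eq_iff.2 ⟨e₀⟩)).some
  obtain ⟨m₀, hm₀, τ, hτ⟩ := VolLib.exists_kodaira hA e hL hn hbig'
  choose v hv using fun r : Fin m₀ => AmpleVan.exists_vanishing (A := k) hA
    (AmpleVan.isCoh_invertible (InvX.isInvertible_tensorPow hL (r : ℕ)))
  obtain ⟨j, rfl⟩ : ∃ j, n = j + 1 := ⟨n - 1, by omega⟩
  have hE : PicF.IsInvertible (CohB1.tensorMod A' (CohB1.tensorPow L m₀)) :=
    InvX.isInvertible_tensorMod hA' (InvX.isInvertible_tensorPow hL m₀)
  have hO : Coh.IsCoh (Coh.structureModule X) := QCoh.isCoh_structureModule'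
  have hzero : ∀ m, m₀ * (Finset.univ.sup v + 1) ≤ m →
      Module.finrank k (Coh.HH X (CohB1.tensorPow L m) (j + 1)) = 0 := by
    intro m hm
    obtain ⟨q, r, hr, rfl⟩ : ∃ q r, r < m₀ ∧ m = m₀ * q + r :=
      ⟨m / m₀, m % m₀, Nat.mod_lt _ hm₀, (Nat.div_add_mod m m₀).symm⟩
    have hq : v ⟨r, hr⟩ ≤ q := by
      by_contra hlt
      have h1 : v ⟨r, hr⟩ ≤ Finset.univ.sup v := Finset.le_sup (f := v) (Finset.mem_univ _)
      have : m₀ * (q + 1) ≤ m₀ * (Finset.univ.sup v) := Nat.mul_le_mul_left _ (by omega)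
      rw [Nat.mul_add, Nat.mul_one] at this hm
      omega
    obtain ⟨σ, hσ⟩ := VolLib.exists_pow_ne_zero hE τ hτ q
    have hN := InvX.isInvertible_tensorPow hE q
    let s : Coh.structureModule X ⟶ CohB1.tensorPow (CohB1.tensorMod A' (CohB1.tensorPow L m₀)) q := InvX.ofSect σ
    have hs : s ≠ 0 := fun h => hσ (by
      rw [← InvX.one_ofSect σ]
      exact congrArg InvX.one h)
    haveI := InvEnd.mono_of_ne_zero InvX.isInvertible_structureModule hN s hs
    haveI := NakaiMo.isIso_stalk hN s
    let P := CohB1.tensorMod (CohB1.tensorPow L r) (CohB1.tensorPow A q)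
    have hP : PicF.IsInvertible P :=
      InvX.isInvertible_tensorMod (InvX.isInvertible_tensorPow hL r) (InvX.isInvertible_tensorPow hA.1 q)
    haveI := AmpleVan.isEquivalence_tw hP
    haveI : (AmpleVan.tw P).Additive := Functor.additive_of_preserves_binary_products _
    have hS : (ShortComplex.mk s (cokernel.π s) (cokernel.condition s)).ShortExact :=
      { exact := ShortComplex.exact_of_g_is_cokernel _ (cokernelIsCokernel s) }
    have hS' := hS.map_of_exact (AmpleVan.tw P)
    have hQ := QCoh.isCoh_cokernel hO.1 (AmpleVan.isCoh_invertible hN) s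
    have hdim : topologicalKrullDim ↥(CohB1.support (cokernel s)) < ((j + 1 : ℕ) : WithBot ℕ∞) := by
      have := H23.TopDim.dim_lt_of_ssubset (X := X) (by rw [hn]; exact WithBot.coe_inj.not.2 (ENat.coe_ne_top (j + 1)))
        (QCoh.isClosed_support_of_isFT hQ.1 hQ.2)
        (fun he => Snapper.notMem_support_cokernel s inferInstance (he.symm ▸ Set.mem_univ (genericPoint X)))
      rwa [hn] at this
    have h3 := Snapper.subsingleton_HH_of_dim_lt (X := X) (j + 1) ⟨_, QCoh.isClosed_support_of_isFT hQ.1 hQ.2⟩ hdim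
      (CohB1.tensorMod (cokernel s) P) (AmpleVan.isCoh_tensor hQ (AmpleVan.isCoh_invertible hP)).1
      (HilbPoly.support_tensor_subset _ _) (j + 1) le_rfl
    have hsurj := NakaiMo.surjective_f k hS' (j + 1) h3
    have h1 : Subsingleton (Coh.HH X (CohB1.tensorMod (Coh.structureModule X) P) (j + 1)) :=
      QCoh.subsingleton_HH_of_iso (cl_eq_iff.1 (by
        rw [cl_tensor (Coh.structureModule X) P, ← H23.PicMul.one_def, one_mul])).some _ (hv ⟨r, hr⟩ q hq j)
    haveI : Subsingleton (Coh.HH X (CohB1.tensorMod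
        (CohB1.tensorPow (CohB1.tensorMod A' (CohB1.tensorPow L m₀)) q) P) (j + 1)) :=
      @Function.Surjective.subsingleton _ _ _ h1 hsurj
    have hunit : PicF.cl A' * PicF.cl A = 1 := by
      rw [← cl_tensor, H23.PicMul.one_def]; exact cl_eq_iff.2 ⟨e⟩
    obtain ⟨i'⟩ : Nonempty (CohB1.tensorMod (CohB1.tensorPow (CohB1.tensorMod A' (CohB1.tensorPow L m₀)) q) P ≅
        CohB1.tensorPow L (m₀ * q + r)) := cl_eq_iff.1 (by
      simp only [P, cl_tensor, cl_tensorPow]
      rw [mul_pow, mul_comm (PicF.cl L ^ r), ← mul_assoc, mul_right_comm (PicF.cl A' ^ q), ← mul_pow, hunit, one_pow,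
        one_mul, ← pow_mul, pow_add])
    rw [← HilbPoly.finrank_HH_iso k i']
    exact Module.finrank_zero_of_subsingleton
  refine Filter.Tendsto.limsup_eq (tendsto_const_nhds.congr' ?_)
  filter_upwards [Filter.eventually_ge_atTop (m₀ * (Finset.univ.sup v + 1))] with m hm
  rw [hzero m hm, Nat.cast_zero, zero_mul, zero_div]

end Groth.Agent.S17626
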