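import Groth.Statements.S17632
import Groth.Agent.VolLib.MultiGrowth
import Mathlib

set_option autoImplicit false
universe u
open CategoryTheory CategoryTheory.Limits AlgebraicGeometry
open Variety

namespace Groth.Agent.S17632

open Groth.Agent.H23.PicMul

theorem hhat_congr (k : Type u) [Field k] {X : Scheme.{u}} [X.Over (Spec (CommRingCat.of k))] (n i : ℕ)
    {A B : X.Modules} (h : PicF.cl A = PicF.cl B) :
    W4c5asymptcohfn.hhat k X n i A = W4c5asymptcohfn.hhat k X n i B := by
  unfold W4c5asymptcohfn.hhat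
  congr 1
  funext m
  rw [HilbPoly.finrank_HH_iso k (cl_eq_iff.1 (by rw [cl_tensorPow, cl_tensorPow, h]) :
    Nonempty (CohB1.tensorPow A m ≅ CohB1.tensorPow B m)).some i]

/-- Let X be an integral scheme, proper over an uncountable algebraically closed field k of
characteristic zero and admitting an ample invertible module, of dimension n (stated in the source
over the complex numbers), L an invertible O_X-module and A an ample invertible O_X-module with
inverse A', i.e. A ⊗ A' ≅ O_X. Then for every i ≥ 0, (ĥ^i(X, L^{⊗p} ⊗ A') − ĥ^i(X, L^{⊗p})) / p^n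
tends to 0 as p → ∞, where ĥ^i(X, M) = limsup_m dim_k H^i(X, M^{⊗m}) · n!/m^n. -/
theorem result (k : Type u) [Field k] [IsAlgClosed k] [CharZero k] [Uncountable k] (X : Scheme.{u})
    [X.Over (Spec (CommRingCat.of k))] [AlgebraicGeometry.IsIntegral X]
    [IsProper (X ↘ Spec (CommRingCat.of k))] (hproj : ∃ A : X.Modules, CohB1.IsAmple A)
    (n : ℕ) (hn : topologicalKrullDim X = n)
    (L : X.Modules) (hL : PicF.IsInvertible L) (A A' : X.Modules) (hA : CohB1.IsAmple A)
    (hA' : ClSub.IsInverseOf A A') (i : ℕ) :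
    Filter.Tendsto (fun p : ℕ =>
        (W4c5asymptcohfn.hhat k X n i (CohB1.tensorMod (CohB1.tensorPow L p) A') -
          W4c5asymptcohfn.hhat k X n i (CohB1.tensorPow L p)) / (p : ℝ) ^ n)
      Filter.atTop (nhds 0) := by
  obtain ⟨L', -, hL'⟩ := H23.PicInv.exists_inverse hL
  let Ls : Fin 2 → X.Modules := ![L, A]
  let Ms : Fin 2 → X.Modules := ![L', A']
  have hLs : ∀ j, PicF.IsInvertible (Ls j) := by
    intro j; fin_cases j
    · exact hL
    · exact hA.1
  have hMs : ∀ j, ClSub.IsInverseOf (Ls j) (Ms j) := by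
    intro j; fin_cases j
    · exact hL'
    · exact hA'
  have hcl : PicF.cl A' = (((VolLib.ucl hA.1)⁻¹ : (PicF.Cl X)ˣ) : PicF.Cl X) := by
    have h : PicF.cl A * PicF.cl A' = 1 := by
      rw [← cl_tensor, H23.PicMul.one_def]; exact cl_eq_iff.2 hA'
    rw [← VolLib.val_ucl hA.1] at h
    exact (Units.inv_eq_of_mul_eq_one_right h).symm
  have e1 : ∀ p : ℕ, W4c5asymptcohfn.hhat k X n i (CohB1.tensorMod (CohB1.tensorPow L p) A') =
      W4c5asymptcohfn.hhat k X n i (W4c5asymptcohfn.ztwist X Ls Ms ![(p : ℤ), -1]) := fun p =>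
    hhat_congr k n i (by
      rw [VolLib.cl_ztwist hLs hMs, Fin.prod_univ_two, cl_tensor, cl_tensorPow, hcl, ← VolLib.val_ucl hL,
        ← Units.val_pow_eq_pow_val, ← Units.val_mul, ← zpow_natCast, ← zpow_neg_one]
      rfl)
  have e2 : ∀ p : ℕ, W4c5asymptcohfn.hhat k X n i (CohB1.tensorPow L p) =
      W4c5asymptcohfn.hhat k X n i (W4c5asymptcohfn.ztwist X Ls Ms ![(p : ℤ), 0]) := fun p =>
    hhat_congr k n i (by
      rw [VolLib.cl_ztwist hLs hMs, Fin.prod_univ_two, cl_tensorPow, ← VolLib.val_ucl hL,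
        ← Units.val_pow_eq_pow_val, ← zpow_natCast]
      simp
      rfl)
  simp only [e1, e2]
  rcases n with _ | d
  · simp only [VolLib.hhat_const k hLs hMs hn i _ ![(0 : ℤ), 0], sub_self, zero_div]
    exact tendsto_const_nhds
  obtain ⟨C, hC0, hC⟩ := VolLib.exists_lip k hLs hMs hn i
  refine squeeze_zero_norm' ?_ (tendsto_const_div_atTop_nhds_zero_nat C)
  filter_upwards [Filter.eventually_ge_atTop 1] with p hp
  have h := hC ![(p : ℤ), -1] ![(p : ℤ), 0]
  have hD : (VolLib.sz fun j => ![(p : ℤ), -1] j - ![(p : ℤ), 0] j) ≤ 1 :=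
    Finset.sup_le fun j _ => by fin_cases j <;> simp
  have hN : max (VolLib.sz ![(p : ℤ), -1]) (VolLib.sz ![(p : ℤ), 0]) ≤ p :=
    max_le (Finset.sup_le fun j _ => by fin_cases j <;> simp [hp]) (Finset.sup_le fun j _ => by fin_cases j <;> simp)
  have hp' : (0 : ℝ) < p := by exact_mod_cast hp
  rw [Real.norm_eq_abs, abs_div, abs_of_pos (by positivity : (0 : ℝ) < (p : ℝ) ^ (d + 1)),
    div_le_div_iff₀ (by positivity) hp']
  calc _ ≤ C * ((max (VolLib.sz ![(p : ℤ), -1]) (VolLib.sz ![(p : ℤ), 0]) : ℕ) : ℝ) ^ d *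
        ((VolLib.sz fun j => ![(p : ℤ), -1] j - ![(p : ℤ), 0] j : ℕ) : ℝ) * p := mul_le_mul_of_nonneg_right h hp'.le
    _ ≤ C * (p : ℝ) ^ d * 1 * p := by
      gcongr
      exact_mod_cast hD
    _ = _ := by rw [mul_one, pow_succ]; ring

end Groth.Agent.S17632
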