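import Groth.Statements.S17634
import Groth.Agent.VolLib.MultiGrowth
import Mathlib

set_option autoImplicit false
universe u
open CategoryTheory CategoryTheory.Limits AlgebraicGeometry
open Variety

namespace Groth.Agent.S17634

/-- Let X be an integral scheme, proper over an uncountable algebraically closed field k of
characteristic zero and admitting an ample invertible module, of dimension n (stated in the source
over the complex numbers), and L_1, …, L_r invertible O_X-modules with inverses M_1, …, M_r; for a ∈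
ℤ^r write L^a = ⊗_j L_j^{a_j} (negative powers through the M_j) and ‖a‖ = max_j |a_j|. Then for
every i there is a constant C with ĥ^i(X, L^a) ≤ C · ‖a‖^n for all a ∈ ℤ^r, where ĥ^i(X, L) =
limsup_m dim_k H^i(X, L^{⊗m}) · n!/m^n. (The source states the bound for all real classes in the
Néron–Severi space with any fixed norm.) -/
theorem result (k : Type u) [Field k] [IsAlgClosed k] [CharZero k] [Uncountable k] (X : Scheme.{u})
    [X.Over (Spec (CommRingCat.of k))] [AlgebraicGeometry.IsIntegral X]
    [IsProper (X ↘ Spec (CommRingCat.of k))] (hproj : ∃ A : X.Modules, CohB1.IsAmple A)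
    (n : ℕ) (hn : topologicalKrullDim X = n)
    (r : ℕ) (L M : Fin r → X.Modules) (hL : ∀ j, PicF.IsInvertible (L j))
    (hM : ∀ j, ClSub.IsInverseOf (L j) (M j)) (i : ℕ) :
    ∃ C : ℝ, ∀ a : Fin r → ℤ,
      W4c5asymptcohfn.hhat k X n i (W4c5asymptcohfn.ztwist X L M a) ≤
        C * ‖(fun j => ((a j : ℤ) : ℝ))‖ ^ n := by
  haveI := CurveCohLib.isNoetherian_of_proper (k := k) (X := X)
  obtain ⟨C, hC⟩ := VolLib.bd_fz k hL hM hn i
  refine ⟨(C : ℝ) * 2 ^ n * n.factorial, fun a => ?_⟩
  rw [VolLib.hhat_ztwist k hL hM]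
  refine le_trans ?_ (mul_le_mul_of_nonneg_left (pow_le_pow_left₀ (Nat.cast_nonneg _) (VolLib.cast_sz_le_norm a) n)
    (by positivity : (0 : ℝ) ≤ (C : ℝ) * 2 ^ n * n.factorial))
  rcases Nat.eq_zero_or_pos n with rfl | hn0
  · refine Filter.limsup_le_of_le (VolLib.isCobounded_nseq 0 _) (Filter.Eventually.of_forall fun m => ?_)
    have h : (VolLib.fz k hL hM i a m : ℝ) ≤ (C : ℝ) := by exact_mod_cast (by simpa using! hC a m)
    simp only [VolLib.nseq, pow_zero, div_one, Nat.factorial_zero, Nat.cast_one, mul_one]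
    exact h
  rcases Nat.eq_zero_or_pos (VolLib.sz a) with hz | hz
  · have hb : VolLib.Bd n (VolLib.fz k hL hM i a) := ⟨C, fun m => by
      have h := hC a m
      rw [hz, Nat.mul_zero, Nat.zero_add, one_pow, Nat.mul_one] at h
      exact (Nat.mul_le_mul_right _ h).trans (Nat.mul_le_mul_left _ (Nat.le_self_pow hn0.ne' _))⟩
    rw [VolLib.vsup_eq_zero hb, hz, Nat.cast_zero, zero_pow hn0.ne', mul_zero]
  · refine Filter.limsup_le_of_le (VolLib.isCobounded_nseq n _) ?_
    filter_upwards [Filter.eventually_ge_atTop 1] with m hm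
    have h2 : VolLib.fz k hL hM i a m ≤ C * (2 * m * VolLib.sz a) ^ n := by
      refine (hC a m).trans (Nat.mul_le_mul_left _ (Nat.pow_le_pow_left ?_ _))
      have := Nat.mul_le_mul hm hz
      rw [Nat.mul_assoc]
      omega
    have h3 : (VolLib.fz k hL hM i a m : ℝ) ≤ (C : ℝ) * (2 * (m : ℝ) * (VolLib.sz a : ℝ)) ^ n := by exact_mod_cast h2
    have hm' : (0 : ℝ) < m := by exact_mod_cast hm
    rw [VolLib.nseq, div_le_iff₀ (by positivity)]
    calc _ ≤ (C : ℝ) * (2 * (m : ℝ) * (VolLib.sz a : ℝ)) ^ n * n.factorial :=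
          mul_le_mul_of_nonneg_right h3 (Nat.cast_nonneg _)
      _ = _ := by rw [mul_pow, mul_pow]; ring

end Groth.Agent.S17634
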