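import Groth.Statements.S17637
import Groth.Agent.VolLib.UnifMain
import Groth.Agent.S1647
import Groth.Agent.S9710
import Groth.Agent.RGLib.VAmpleImm
import Groth.Agent.RGLib.PnVeryAmple
import Groth.Agent.SymX.VeryAmpleTwist
import Groth.Agent.ExpDescLib.Core
import Groth.Agent.AmpleVan.ThickPush
import Groth.Agent.Lib.AmpleEmbed
import Groth.Agent.PnPic.Twist
import Groth.Agent.HilbPoly.PnTwist
import Groth.Agent.VarDim.Top
import Groth.Agent.PnCoh.Chow.Pairing
import Mathlib

set_option autoImplicit false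
set_option backward.isDefEq.respectTransparency false
set_option backward.isDefEq.respectTransparency.types false
set_option maxHeartbeats 1000000
universe u
open CategoryTheory CategoryTheory.Limits AlgebraicGeometry
open Variety

namespace Groth.Agent.S17637
open Groth.Agent.H23.PicMul

/-- Let X be an integral scheme, proper over an algebraically closed field k of characteristic zero and
admitting an ample invertible module (the published statement is over the complex numbers). Then
there is a very ample invertible O_X-module A — A ≅ i^*O(1) for an immersion i : X → P^N_k over k —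
such that A ⊗ N is again very ample for every invertible O_X-module N which is numerically
equivalent to zero. (The published statement also provides one flat family over a quasi-projective
base whose fibres include every divisor of every |A ⊗ N|; that clause is not stated here.) -/
theorem result (k : Type u) [Field k] [IsAlgClosed k] [CharZero k] (X : Scheme.{u})
    [X.Over (Spec (CommRingCat.of k))] [AlgebraicGeometry.IsIntegral X]
    [IsProper (X ↘ Spec (CommRingCat.of k))] (hproj : ∃ A : X.Modules, CohB1.IsAmple A) :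
    ∃ A : X.Modules, PicF.IsInvertible A ∧
      RelAmple.IsRelVeryAmplePn (X ↘ Spec (CommRingCat.of k)) A ∧
      ∀ N : X.Modules, PicF.IsInvertible N → Pic13.IsNumEquivZero k X N →
        RelAmple.IsRelVeryAmplePn (X ↘ Spec (CommRingCat.of k)) (CohB1.tensorMod A N) := by
  obtain ⟨L, hL⟩ := hproj
  haveI := CurveCohLib.isNoetherian_of_proper (k := k) (X := X)
  obtain ⟨n, r, hr, hrk⟩ := AmpleEmbed.exists_closedImmersion (X ↘ Spec (CommRingCat.of k)) hL
  haveI := hr
  haveI : IsProper (CohB1.ProjSpace n k ↘ Spec (CommRingCat.of k)) := PnCoh.Chow.isProper_toSpec n k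
  haveI := CurveCohLib.isNoetherian_of_proper (k := k) (X := CohB1.ProjSpace n k)
  let B := (Scheme.Modules.pullback r).obj (Twist.twistProjSpace n k 1)
  have hB : CohB1.IsAmple B := NormX.isAmple_pullback_affine r (HilbPoly.isAmple_twistProjSpace_one n k)
  obtain ⟨d, hd⟩ : ∃ d : ℕ, topologicalKrullDim X < (d : WithBot ℕ∞) :=
    ⟨VarDim.deg (X ↘ Spec (CommRingCat.of k)) (genericPoint X) + 1, by
      rw [VarDim.topologicalKrullDim_eq_deg_genericPoint (X ↘ Spec (CommRingCat.of k))]
      exact_mod_cast Nat.lt_succ_self _⟩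
  obtain ⟨m₀, hv⟩ := (VolLib.unif k hB (QCoh.isCoh_structureModule' (X := X))
    ((topologicalKrullDim_subspace_le X _).trans_lt hd)).van
  obtain ⟨e₀, -, he₀⟩ := S9710.result (X ↘ Spec (CommRingCat.of k)) L hL
  let H := CohB1.tensorPow L e₀
  have hH : PicF.IsInvertible H := InvX.isInvertible_tensorPow hL.1 _
  have hHva : RelProj.IsRelVeryAmple (X ↘ Spec (CommRingCat.of k)) H :=
    RGLib.PnVeryAmple.isRelVeryAmple_of_isRelVeryAmplePn _ (he₀ e₀ le_rfl)
  let m := m₀ + n
  let A := CohB1.tensorMod H (CohB1.tensorPow B m)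
  have hA : PicF.IsInvertible A := InvX.isInvertible_tensorMod hH (InvX.isInvertible_tensorPow hB.1 _)
  have key : ∀ N, VolLib.NT k N → RelAmple.IsRelVeryAmplePn (X ↘ Spec (CommRingCat.of k)) (CohB1.tensorMod A N) := by
    intro N hN
    let O' := fun z : ℤ => Twist.twistProjSpace n k z
    have hO' : ∀ z, PicF.IsInvertible (O' z) := fun z => PnPic.isInvertible_twistProjSpace n k z
    let G := CohB1.tensorMod N ((Scheme.Modules.pullback r).obj (O' (m : ℤ)))
    have hG : PicF.IsInvertible G := InvX.isInvertible_tensorMod hN.1 (PicClLib.isInvertible_pullback r (hO' _))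
    have hpow : ∀ j : ℕ, PicF.cl ((Scheme.Modules.pullback r).obj (O' (j : ℤ))) = PicF.cl B ^ j := fun j => by
      obtain ⟨e₁⟩ := HilbPoly.nonempty_pow n k j
      obtain ⟨e₂⟩ := IntNum.pullback_tensorPow r (O' 1) j
      rw [← cl_tensorPow]
      exact cl_eq_iff.2 ⟨(Scheme.Modules.pullback r).mapIso e₁ ≪≫ e₂⟩
    let F := (Coh.push r).obj G
    have hF : Coh.IsCoh F := QCoh.isCoh_push r (AmpleVan.isCoh_invertible hG)
    have hreg : Curv2.IsMRegular k n F 0 := by
      intro q hq1 hqn
      obtain ⟨j, rfl⟩ := Nat.exists_eq_add_of_le' hq1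
      obtain ⟨p⟩ := IntNum.push_tensor r G (O' (0 - ((j + 1 : ℕ) : ℤ)))
      refine QCoh.subsingleton_HH_of_iso p _ ?_
      obtain ⟨e⟩ : Nonempty ((AmpleVan.tw (VolLib.tP B N (m - (j + 1)))).obj (Coh.structureModule X) ≅
          CohB1.tensorMod G ((Scheme.Modules.pullback r).obj (O' (0 - ((j + 1 : ℕ) : ℤ))))) := cl_eq_iff.1 (by
        obtain ⟨a⟩ := HilbPoly.nonempty_add n k (m : ℤ) (0 - ((j + 1 : ℕ) : ℤ))
        have h1 := cl_eq_iff.2 ⟨(IntNum.pullTensor r (O' (m : ℤ)) (O' (0 - ((j + 1 : ℕ) : ℤ)))).symm ≪≫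
          (Scheme.Modules.pullback r).mapIso a⟩
        rw [show (m : ℤ) + (0 - ((j + 1 : ℕ) : ℤ)) = ((m - (j + 1) : ℕ) : ℤ) by omega, hpow, cl_tensor] at h1
        show PicF.cl (CohB1.tensorMod _ (CohB1.tensorMod N _)) = PicF.cl (CohB1.tensorMod (CohB1.tensorMod N _) _)
        rw [cl_tensor, cl_tensor, cl_tensor, cl_tensor, mul_assoc, h1, ← H23.PicMul.one_def, one_mul, cl_tensorPow])
      have hsub : Subsingleton (Coh.HH X (CohB1.tensorMod G
          ((Scheme.Modules.pullback r).obj (O' (0 - ((j + 1 : ℕ) : ℤ))))) (j + 1)) :=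
        QCoh.subsingleton_HH_of_iso e _ (hv N hN _ (by omega) j)
      obtain ⟨l⟩ := QCoh.HH_push_linear r (Coh.toGlobal (CohB1.ProjSpace n k ↘ Spec (CommRingCat.of k)))
        (Coh.toGlobal (X ↘ Spec (CommRingCat.of k))) (fun b => by rw [← hrk]; rfl)
        (KFlatLib.isQCoh_tensor (ProjUPX.isQCoh_of_isInvertible hG)
          (ProjUPX.isQCoh_of_isInvertible (PicClLib.isInvertible_pullback r (hO' (0 - ((j + 1 : ℕ) : ℤ)))))) (j + 1)
      exact @Equiv.subsingleton _ _ l.symm.toEquiv hsub
    have hgg : Curv2.IsGloballyGenerated G := by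
      obtain ⟨ι, p, hp⟩ := ExpDescLib.isGloballyGenerated_pullback r (S1647.result k n F hF 0 hreg)
      obtain ⟨e0⟩ : Nonempty (O' 0 ≅ Coh.structureModule (CohB1.ProjSpace n k)) := cl_eq_iff.1 (by
        obtain ⟨a⟩ := HilbPoly.nonempty_add n k 0 0
        have h1 := cl_eq_iff.2 ⟨a⟩
        rw [add_zero, cl_tensor] at h1
        rw [← H23.PicMul.one_def]
        exact (isUnit_cl (hO' 0)).mul_left_cancel (h1.trans (mul_one _).symm))
      haveI := AmpleVan.isIso_counit r (ProjUPX.isQCoh_of_isInvertible hG)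
      haveI := hp
      exact ⟨ι, p ≫ ((Scheme.Modules.pullback r).mapIso
        (PicGrp.tensorModIso (Iso.refl F) e0 ≪≫ AmpleVan.twUnit.app F) ≪≫
          asIso ((Scheme.Modules.pullbackPushforwardAdjunction r).counit.app G)).hom, inferInstance⟩
    have hrel : RelProj.IsRelVeryAmple (X ↘ Spec (CommRingCat.of k)) (CohB1.tensorMod H G) :=
      SymX.isRelVeryAmple_tensor_of_theta hH hG hHva
        (E' := (Scheme.Modules.pushforward (X ↘ Spec (CommRingCat.of k))).obj G)
        (QCoh.isQCoh_pushforward _ (ProjUPX.isQCoh_of_isInvertible hG)) (𝟙 _) fun x => by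
          obtain ⟨s, hs⟩ := ExpDescLib.exists_genLocus hG hgg x
          refine ⟨⊤, (show Γ(G, ⊤) from InvX.one s), ?_⟩
          rw [AmpleX.genLocus_eq_locus] at hs
          exact hs
    refine RGLib.VAmpleImm.isRelVeryAmplePn_of_isRelVeryAmple _ (InvX.isInvertible_tensorMod hA hN.1) ?_
    refine SymX.isRelVeryAmple_of_iso (cl_eq_iff.1 ?_).some hrel
    show PicF.cl (CohB1.tensorMod H (CohB1.tensorMod N _)) =
      PicF.cl (CohB1.tensorMod (CohB1.tensorMod H (CohB1.tensorPow B m)) N)
    rw [cl_tensor, cl_tensor, cl_tensor, cl_tensor, hpow, cl_tensorPow B, mul_comm (PicF.cl N), mul_assoc]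
  refine ⟨A, hA, ?_, fun N hN hnum => key N ⟨hN, hnum⟩⟩
  have h := RGLib.PnVeryAmple.isRelVeryAmple_of_isRelVeryAmplePn _ (key _ VolLib.NT.one)
  exact RGLib.VAmpleImm.isRelVeryAmplePn_of_isRelVeryAmple _ hA
    (SymX.isRelVeryAmple_of_iso (cl_eq_iff.1 (by rw [cl_tensor, ← H23.PicMul.one_def, mul_one])).some h)

end Groth.Agent.S17637
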