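import Groth.Statements.S17643
import Groth.Agent.TorSmoothRel.Basic
import Groth.Agent.GrassX.PolySmooth
import Groth.Agent.PerfGen7.RelPerfectAffine

set_option autoImplicit false
set_option linter.style.haveILetI false
set_option backward.isDefEq.respectTransparency false
set_option backward.isDefEq.respectTransparency.types false
universe u
open CategoryTheory AlgebraicGeometry
attribute [local instance] HasDerivedCategory.standard
open DerSch

namespace Groth.Agent.S17643

/-- Let f : X ⟶ Y be a morphism of finite type between Noetherian schemes which is of finite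
Tor-dimension (the structure sheaf of X, placed in degree 0, has finite tor amplitude stalkwise over
the local rings of Y), U ⊆ X an affine open subset and V ⊆ Y an affine open subset with f(U) ⊆ V.
Then the restriction of f to U factors as U ⟶ W ⟶ Y with U ⟶ W a closed immersion of finite
Tor-dimension and W ⟶ Y smooth. The published section's standing conventions also take all morphisms
separated; the printed argument does not use this, so separatedness is not assumed here. -/
theorem result {X Y : Scheme.{u}}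
    [IsNoetherian X] [IsNoetherian Y] (f : X ⟶ Y) [LocallyOfFiniteType f] (hf : DerSch.HasFiniteTorDim f)
    (U : X.Opens) (hU : IsAffineOpen U) (V : Y.Opens) (hV : IsAffineOpen V) (hUV : U ≤ f ⁻¹ᵁ V) :
    ∃ (W : Scheme.{u}) (g : (U : Scheme.{u}) ⟶ W) (h : W ⟶ Y),
      IsClosedImmersion g ∧ DerSch.HasFiniteTorDim g ∧ Smooth h ∧ g ≫ h = U.ι ≫ f := by
  obtain ⟨a, b, hab⟩ := hf
  letI := (f.appLE V U hUV).hom.toAlgebra
  haveI : Algebra.FiniteType Γ(Y, V) Γ(X, U) := f.finiteType_appLE hV hU hUV
  obtain ⟨n, π, hπ⟩ := Algebra.FiniteType.iff_quotient_mvPolynomial''.1 ‹Algebra.FiniteType Γ(Y, V) Γ(X, U)›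
  let B := CommRingCat.of (MvPolynomial (ULift.{u} (Fin n)) Γ(Y, V))
  let π' : B ⟶ Γ(X, U) := CommRingCat.ofHom
    (π.comp (MvPolynomial.renameEquiv Γ(Y, V) Equiv.ulift).toAlgHom).toRingHom
  have hπ' : Function.Surjective π'.hom :=
    hπ.comp (MvPolynomial.renameEquiv Γ(Y, V) (Equiv.ulift.{u} (α := Fin n))).surjective
  let c : Γ(Y, V) ⟶ B := CommRingCat.ofHom (MvPolynomial.C : Γ(Y, V) →+* _)
  have hc : c ≫ π' = f.appLE V U hUV := by
    ext r
    show π (MvPolynomial.rename Equiv.ulift (MvPolynomial.C r)) = _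
    rw [MvPolynomial.rename_C]
    exact π.commutes r
  let h₀ : Spec B ⟶ Spec Γ(Y, V) := Spec.map c
  let g : (U : Scheme.{u}) ⟶ Spec B := hU.isoSpec.hom ≫ Spec.map π'
  have hcs : RingHom.IsStandardSmoothOfRelativeDimension n c.hom := by
    show RingHom.IsStandardSmoothOfRelativeDimension _ (MvPolynomial.C : Γ(Y, V) →+* _)
    rw [← MvPolynomial.algebraMap_eq, RingHom.isStandardSmoothOfRelativeDimension_algebraMap]
    exact Groth.Agent.GrassX.standardSmooth_mvPolynomial Γ(Y, V) _ (by simp)
  haveI hsm : SmoothOfRelativeDimension n h₀ :=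
    (HasRingHomProperty.Spec_iff (P := @SmoothOfRelativeDimension n)).2
      (RingHom.locally_of RingHom.isStandardSmoothOfRelativeDimension_respectsIso _ hcs)
  have hgh : g ≫ h₀ ≫ hV.fromSpec = U.ι ≫ f := by
    show (hU.isoSpec.hom ≫ Spec.map π') ≫ Spec.map c ≫ hV.fromSpec = _
    rw [Category.assoc, ← Spec.map_comp_assoc, hc, hV.SpecMap_appLE_fromSpec f hU hUV,
      ← Category.assoc, hU.isoSpec_hom_fromSpec]
  refine ⟨Spec B, g, h₀ ≫ hV.fromSpec, ?_, ⟨a - n, b, fun x => ?_⟩, ?_, hgh⟩
  · haveI : IsClosedImmersion (Spec.map π') := IsClosedImmersion.spec_of_surjective π' hπ'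
    infer_instance
  · have h1 : DerSch.HasTorAmplitudeAt (U.ι ≫ f) a b (DerSch.unitCx (U : Scheme.{u})) x := by
      refine Groth.Agent.PerfGen7.RelTor.torAmplitudeAt_congr _ ?_ (Groth.Agent.PerfGen7.RelTor.torAmplitudeAt_restrict f U.ι x (hab (U.ι.base x)))
      exact DerivedCategory.Q.mapIso
        ((HomologicalComplex.singleMapHomologicalComplex (Scheme.Modules.restrictFunctor U.ι) (ComplexShape.up ℤ) 0).app _ ≪≫
          (HomologicalComplex.single _ (ComplexShape.up ℤ) 0).mapIso (Scheme.Modules.restrictUnitIso U.ι))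
    have h2 : DerSch.HasTorAmplitudeAt (g ≫ h₀) a b (DerSch.unitCx (U : Scheme.{u})) x :=
      Groth.Agent.PerfGen7.RelTor.torAmplitudeAt_of_comp_openImmersion (g ≫ h₀) hV.fromSpec
        (Groth.Agent.PerfGen7.RelTor.torAmplitudeAt_of_eq (by rw [Category.assoc, hgh]) h1)
    obtain ⟨V₀, hV₀, W₀, hW₀, hz, e, hn⟩ :=
      SmoothOfRelativeDimension.exists_isStandardSmoothOfRelativeDimension (n := n) (f := h₀) (g x)
    exact Groth.Agent.TorSmoothRel.torAmplitudeAt_of_chart g h₀ hV₀ hW₀ e hn _ hz h2
  · haveI : Smooth h₀ := SmoothOfRelativeDimension.smooth n h₀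
    infer_instance

end Groth.Agent.S17643
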