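import Groth.Statements.S1765
import Groth.Agent.H1Falt.Annih

set_option autoImplicit false
universe u
open CategoryTheory
attribute [local instance] HasDerivedCategory.standard
open LocCoh

namespace Groth.Agent.S1765

/-- Let A be a Noetherian ring with a dualizing complex, I an ideal, M a finite A-module, p a prime not
containing I and s ≥ 0. Suppose that for all primes p' ⊆ p and all primes q ⊇ I with p' ⊆ q,
depth(M_{p'}) plus the Krull dimension of the interval of primes [p', q] exceeds s. Then there is f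
∉ p annihilating H^i_I(M) for all i ≤ s. -/
theorem result (A : Type u) [CommRing A] [IsNoetherianRing A] (hA : ∃ ω : Dual.D A, Dual.IsDualizing A ω) (I : Ideal A) (M : Type u) [AddCommGroup M] [Module A M] [Module.Finite A M] (p : PrimeSpectrum A) (hp : ¬ I ≤ p.asIdeal) (s : ℕ) (h : ∀ p' q : PrimeSpectrum A, p' ≤ p → I ≤ q.asIdeal → p' ≤ q → (s : WithBot ℕ∞) < ((LocCoh.depth (Localization.AtPrime p'.asIdeal) (LocalizedModule p'.asIdeal.primeCompl M) : ℕ∞) : WithBot ℕ∞) + Order.krullDim (Set.Icc p' q)) : ∃ f : A, f ∉ p.asIdeal ∧ ∀ i : ℕ, i ≤ s → ∀ x : LocCoh.H I i M, f • x = 0 := by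
  letI := HasDerivedCategory.standard (ModuleCat.{u} A)
  obtain ⟨ω, hω⟩ := hA
  obtain ⟨L, hb, hinj, hL, ⟨e⟩⟩ := Groth.Agent.H1Falt.exists_model (Dual.inD A M) 0
    (fun j hj => Groth.Agent.H1Falt.inD_subsingleton M j hj.ne)
  haveI := hL
  let T : Set (PrimeSpectrum A) := PrimeSpectrum.zeroLocus (I : Set A)
  let T' : Set (PrimeSpectrum A) := {q | ¬ q ≤ p}
  have hT : StableUnderSpecialization T := fun x y hxy hx =>
    Set.Subset.trans hx ((PrimeSpectrum.le_iff_specializes x y).2 hxy)
  have hT' : StableUnderSpecialization T' := fun x y hxy hx hy =>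
    hx (((PrimeSpectrum.le_iff_specializes x y).2 hxy).trans hy)
  obtain ⟨J, hJ, hk⟩ := (Groth.Agent.H1Falt.exists_killed_iff M hω hT hT' (s := s) hb hinj e).2
    (fun a q ha hq haq => h a q (not_not.1 ha) hq haq)
  obtain ⟨f, hfJ, hfp⟩ := SetLike.not_le_iff_exists.1 fun hle : J ≤ p.asIdeal => hJ hle le_rfl
  exact ⟨f, hfp, fun i hi => (((Groth.Agent.H1Falt.powSystem I M i).transfer L e).2 f).2 (hk i (by omega) f hfJ)⟩

end Groth.Agent.S1765
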