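import Groth.Statements.S17653
import Groth.Agent.DimFormula.Scheme
import Groth.Agent.FibDim.AffineSpaceFibre
import Groth.Agent.S10831
import Mathlib.AlgebraicGeometry.ZariskisMainTheorem

set_option autoImplicit false
universe u
open CategoryTheory CategoryTheory.Limits AlgebraicGeometry TopologicalSpace
open Variety

namespace Groth.Agent.S17653

/-- Suppose X and Y are locally Noetherian schemes of the same pure dimension d (every irreducible
component of X and every irreducible component of Y has topological Krull dimension d), and π : X →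
Y is a proper morphism between them. If there is a point x of X which is isolated in its fibre
π⁻¹(π(x)), i.e. some open neighbourhood of x meets that fibre only in x, then the image of π, with
the subspace topology, has the same dimension as Y. -/
theorem result
    (X Y : Scheme.{u}) [IsLocallyNoetherian X] [IsLocallyNoetherian Y] (π : X ⟶ Y) [IsProper π]
    (d : WithBot ℕ∞) (hX : ∀ Z ∈ irreducibleComponents ↥X, topologicalKrullDim ↥Z = d)
    (hY : ∀ Z ∈ irreducibleComponents ↥Y, topologicalKrullDim ↥Z = d)
    (x : ↥X) (hx : ∃ U : X.Opens, x ∈ U ∧ ∀ x' ∈ U, π x' = π x → x' = x) :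
    topologicalKrullDim ↥(Set.range (fun z : ↥X => π z)) = topologicalKrullDim ↥Y := by
  haveI : IsLocallyNoetherian X := inferInstance
  -- the point is quasi-finite
  obtain ⟨U, hxU, hU⟩ := hx
  have hq : π.QuasiFiniteAt x := by
    rw [Scheme.Hom.quasiFiniteAt_iff_isOpen_singleton_asFiber]
    have h1 : ({π.asFiber x} : Set ↥(π.fiber (π x))) = (π.fiberι (π x)) ⁻¹' (U : Set X) := by
      ext z
      refine ⟨fun hz => ?_, fun hz => ?_⟩
      · rw [Set.mem_singleton_iff.1 hz, Set.mem_preimage, Scheme.Hom.fiberι_asFiber]
        exact hxU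
      · have hz2 : π (π.fiberι (π x) z) = π x := by
          have : π.fiberι (π x) z ∈ Set.range (π.fiberι (π x)) := ⟨z, rfl⟩
          rwa [Scheme.Hom.range_fiberι] at this
        refine Set.mem_singleton_iff.2 ((π.fiberι (π x)).isEmbedding.injective ?_)
        rw [Scheme.Hom.fiberι_asFiber]
        exact hU _ hz hz2
    rw [h1]
    exact U.isOpen.preimage (π.fiberι (π x)).continuous
  set Q := π.quasiFiniteLocus with hQ
  haveI : LocallyQuasiFinite (Q.ι ≫ π) := by
    rw [← Scheme.Hom.quasiFiniteLocus_eq_top_iff, Scheme.Hom.quasiFiniteLocus_comp]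
    exact TopologicalSpace.Opens.ext (Set.eq_univ_of_forall fun u => u.2)
  -- the component through the point
  set Z := irreducibleComponent x with hZdef
  have hZi : IsIrreducible Z := isIrreducible_irreducibleComponent
  have hZc : IsClosed Z := isClosed_irreducibleComponent
  have hgen : IsGenericPoint hZi.genericPoint Z := hZi.isGenericPoint_genericPoint hZc
  set η := hZi.genericPoint with hη
  have hηQ : η ∈ Q := (hgen.specializes (mem_irreducibleComponent)).mem_open Q.isOpen hq
  have hrd : FibDim.rd π η = 0 :=
    (FibDim.rd_opens π Q ⟨η, hηQ⟩).symm.trans (FibDim.rd_eq_zero_of_quasiFinite (Q.ι ≫ π) _)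
  set R := Set.range (fun z : ↥X => π z) with hR
  have hRc : IsClosed R := π.isClosedMap.isClosed_range
  -- specializations inside the component bound the image
  have hcd : ∀ z : ↥X, η ⤳ z → ((DimFormula.cd η z : ℕ∞) : WithBot ℕ∞) ≤ topologicalKrullDim ↥R := fun z hz => by
    have hle : DimFormula.cd η z ≤ DimFormula.cd (π η) (π z) := by
      have := (DimFormula.cd_formula π hz).1
      omega
    obtain ⟨l, hl0, hl1, hlen⟩ := DimFormula.exists_cd_series (hz.map π.continuous)
    have hmem : ∀ i, l i ∈ R := fun i => by
      have h2 : π η ⤳ l i := hl1.trans (DimFormula.le_def'.1 (LTSeries.monotone l (Fin.le_last i)))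
      exact h2.mem_closed hRc ⟨η, rfl⟩
    let g : Fin (l.length + 1) → TopologicalSpace.IrreducibleCloseds ↥R := fun i =>
      ⟨closure {(⟨l i, hmem i⟩ : ↥R)}, isIrreducible_singleton.closure, isClosed_closure⟩
    have hg : StrictMono g := fun i j hij => by
      have hlt := l.strictMono hij
      have hsp : (⟨l j, hmem j⟩ : ↥R) ⤳ ⟨l i, hmem i⟩ := (subtype_specializes_iff _ _).2 (DimFormula.le_def'.1 hlt.le)
      refine lt_of_le_of_ne (show g i ≤ g j from closure_minimal (Set.singleton_subset_iff.2 hsp.mem_closure) isClosed_closure) fun h => ?_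
      have h' : (⟨l j, hmem j⟩ : ↥R) ∈ closure {(⟨l i, hmem i⟩ : ↥R)} := by
        have := congrArg (fun s : TopologicalSpace.IrreducibleCloseds ↥R => (s : Set ↥R)) h
        change closure {(⟨l i, hmem i⟩ : ↥R)} = closure {(⟨l j, hmem j⟩ : ↥R)} at this
        rw [this]
        exact subset_closure rfl
      have hsp' : l i ⤳ l j := (subtype_specializes_iff _ _).1 (specializes_iff_mem_closure.2 h')
      exact (lt_iff_le_not_ge.1 hlt).2 (DimFormula.le_def'.2 hsp')
    refine le_trans ?_ (Order.LTSeries.length_le_krullDim (LTSeries.mk l.length g hg))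
    exact_mod_cast hle.trans hlen.ge
  have hZ : topologicalKrullDim ↥Z ≤ topologicalKrullDim ↥R := by
    refine iSup_le fun L => ?_
    let p : Fin (L.length + 1) → ↥X := fun i =>
      ((L i).2.image Subtype.val continuous_subtype_val.continuousOn).genericPoint
    have hp : ∀ i, closure {p i} = Subtype.val '' (L i : Set ↥Z) := fun i => by
      have h := ((L i).2.image Subtype.val continuous_subtype_val.continuousOn).isGenericPoint_genericPoint_closure
      rw [(hZc.isClosedEmbedding_subtypeVal.isClosedMap _ (L i).3).closure_eq] at h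
      exact h
    have hpm : StrictMono p := fun i j hij => by
      have hsub : closure {p i} ⊆ closure {p j} := by
        rw [hp, hp]
        exact Set.image_mono (L.strictMono hij).le
      refine lt_iff_le_not_ge.2 ⟨DimFormula.le_def'.2 (specializes_iff_mem_closure.2 (hsub (subset_closure rfl))), fun h => ?_⟩
      refine (L.strictMono hij).ne (TopologicalSpace.IrreducibleCloseds.ext ?_)
      refine Set.image_injective.2 Subtype.val_injective ?_
      rw [← hp, ← hp]
      exact hsub.antisymm (closure_minimal (Set.singleton_subset_iff.2 (DimFormula.le_def'.1 h).mem_closure) isClosed_closure)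
    haveI : IsLocallyNoetherian X := inferInstance
    have hpZ : ∀ i, η ⤳ p i := fun i => hgen.specializes (by
      have : p i ∈ Subtype.val '' (L i : Set ↥Z) := hp i ▸ subset_closure rfl
      obtain ⟨w, -, hw⟩ := this
      exact hw ▸ w.2)
    have := DimFormula.le_cd (hpZ (0 : Fin _)) (LTSeries.mk L.length p hpm) rfl (hpZ (Fin.last _))
    exact le_trans (by exact_mod_cast this) (hcd _ (hpZ 0))
  refine le_antisymm (topologicalKrullDim_subspace_le _ _) ?_
  rw [Groth.Agent.S10831.result ↥Y]
  refine iSup₂_le fun W hW => ?_
  rw [hY W hW, ← hX Z (irreducibleComponent_mem_irreducibleComponents x)]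
  exact hZ

end Groth.Agent.S17653
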