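import Groth.Statements.S17659
import Groth.Agent.Lib.CurveTensor
import Groth.Agent.IntNum.Leading
import Groth.Agent.KFlatLib.Perfect.LocFree

set_option autoImplicit false
set_option backward.isDefEq.respectTransparency false
set_option backward.isDefEq.respectTransparency.types false
universe u
open CategoryTheory CategoryTheory.Limits AlgebraicGeometry
open CIDisc

namespace Groth.Agent.S17659
open Groth.Agent TopologicalSpace

lemma dim_closure_eq_one_iff {X : Scheme.{u}} [IsNoetherian X]
    (hdim : ∀ Z ∈ irreducibleComponents (X : Type u), topologicalKrullDim Z = 1) (ξ : X) :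
    topologicalKrullDim ↥(closure ({ξ} : Set X)) = 1 ↔ closure ({ξ} : Set X) ∈ irreducibleComponents (X : Type u) := by
  refine ⟨fun h => ?_, fun h => hdim _ h⟩
  obtain ⟨Z, hZ, hsub⟩ := exists_mem_irreducibleComponents_subset_of_isIrreducible _
    (isIrreducible_singleton (x := ξ)).closure
  have hZc := isClosed_of_mem_irreducibleComponents Z hZ
  obtain ⟨η, hη⟩ := QuasiSober.sober hZ.1 hZc
  rw [← hη.def] at hsub hZ
  by_cases he : ξ = η
  · exact he ▸ hZ
  · have := IntNum.dim_closure_lt (d := 1) hsub he (hdim _ hZ).le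
    rw [h] at this
    exact absurd this (lt_irrefl _)

lemma closed_of_dim_lt_one {X : Scheme.{u}} {C : Set X} (hC : IsClosed C)
    (h : topologicalKrullDim ↥C < ((1 : ℕ) : WithBot ℕ∞)) {x : X} (hx : x ∈ C) : IsClosed ({x} : Set X) := by
  rw [← closure_subset_iff_isClosed]
  intro y hy
  by_contra hne
  have hsub : closure ({y} : Set X) ⊆ closure {x} :=
    closure_minimal (Set.singleton_subset_iff.2 hy) isClosed_closure
  have hxC : closure ({x} : Set X) ⊆ C := closure_minimal (Set.singleton_subset_iff.2 hx) hC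
  have h0 : topologicalKrullDim ↥(closure ({x} : Set X)) ≤ ((0 : ℕ) : WithBot ℕ∞) := by
    have h1 := (H23.TopDim.dim_le_dim_of_subset hxC).trans_lt h
    rcases hd : topologicalKrullDim ↥(closure ({x} : Set X)) with _ | a
    · exact bot_le
    · rw [hd] at h1
      have h2 : a < ((1 : ℕ) : ℕ∞) := WithBot.coe_lt_coe.1 h1
      rw [Nat.cast_one, ENat.lt_one_iff_eq_zero] at h2
      rw [h2]; exact le_rfl
  haveI : Nonempty (IrreducibleCloseds ↥(closure ({y} : Set X))) :=
    ⟨⟨closure {(⟨y, subset_closure rfl⟩ : ↥(closure ({y} : Set X)))}, isIrreducible_singleton.closure, isClosed_closure⟩⟩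
  exact absurd (IntNum.dim_closure_lt hsub (fun e => hne e) h0) (not_lt.2 Order.krullDim_nonneg)

/-- Let X be a proper scheme over a field k all of whose irreducible components have dimension one, E a
finite locally free O_X-module of constant rank n and F a coherent O_X-module. Then χ(X, E ⊗ F) =
Σ_Z r_Z(F) · deg(E|_{Z_red}) + n · χ(X, F), the sum running over the irreducible components Z of X,
where r_Z(F) is the length of the stalk of F at the generic point ξ_Z of Z as a module over
O_{X,ξ_Z}, and Z_red is Z with its reduced induced structure (the closed subscheme cut out by the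
radical of the ideal of the component). The Noetherian hypothesis on X is a consequence of
properness over k and is stated for convenience. -/
theorem result (k : Type u) [Field k] (X : Scheme.{u}) [X.Over (Spec (CommRingCat.of k))]
    [IsProper (X ↘ (Spec (CommRingCat.of k)))] [IsNoetherian X]
    (hdim : ∀ Z ∈ irreducibleComponents (X : Type u), topologicalKrullDim Z = 1)
    (n : ℕ) (E : X.Modules) (hE : FlatMod.IsFinLocFreeOfRank n E) (F : X.Modules) (hF : Coh.IsCoh F) :
    Curv2.euler k X (CohB1.tensorMod E F) =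
      (∑ᶠ Z : irreducibleComponents (X : Type u),
        ((Module.length (X.presheaf.stalk Z.2.1.genericPoint) (F.presheaf.stalk Z.2.1.genericPoint)).toNat : ℤ) *
          @Curv2.deg k _ (X.irreducibleComponentIdeal Z.1 Z.2).radical.subscheme
            ⟨(X.irreducibleComponentIdeal Z.1 Z.2).radical.subschemeι ≫ (X ↘ (Spec (CommRingCat.of k)))⟩
            ((Scheme.Modules.pullback (X.irreducibleComponentIdeal Z.1 Z.2).radical.subschemeι).obj E) n) +
        (n : ℤ) * Curv2.euler k X F := by
  classical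
  haveI : Fintype ↥(irreducibleComponents (X : Type u)) :=
    (NoetherianSpace.finite_irreducibleComponents (α := X)).fintype
  have hEf : FlatMod.IsFinLocFree E := fun y => let ⟨W, hy, he⟩ := hE y; ⟨W, n, hy, he⟩
  let φ : X.Modules → ℤ := fun M =>
    Curv2.euler k X ((DCoh.tensorBi.obj E).obj M) - n * Curv2.euler k X M
  have hiso : ∀ {M M' : X.Modules}, (M ≅ M') → φ M = φ M' := fun e => by
    simp only [φ, Euler.euler_congr k e, Euler.euler_congr k ((DCoh.tensorBi.obj E).mapIso e)]
  have hadd : ∀ S : ShortComplex X.Modules, S.ShortExact → Coh.IsCoh S.X₁ → Coh.IsCoh S.X₂ → Coh.IsCoh S.X₃ →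
      φ S.X₂ = φ S.X₁ + φ S.X₃ := fun S hS h₁ h₂ h₃ => by
    simp only [φ, Euler.euler_add k hS h₁ h₂ h₃]
    rw [CurveBundle.euler_add' k _ _ _ (CurveTensor.shortExact_tensor hEf S.f S.g S.zero hS)
      (CurveTensor.isCoh_tensor hEf h₁) (CurveTensor.isCoh_tensor hEf h₂) (CurveTensor.isCoh_tensor hEf h₃)]
    ring
  have hsmall : ∀ M : X.Modules, Coh.IsCoh M →
      topologicalKrullDim ↥(CohB1.support M) < ((1 : ℕ) : WithBot ℕ∞) → φ M ∈ (⊥ : AddSubgroup ℤ) :=
    fun M hM h => by
      rw [AddSubgroup.mem_bot]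
      simp only [φ]
      rw [CurveTensor.euler_tensor_torsion k hE hM fun x hx =>
        closed_of_dim_lt_one (QCoh.isClosed_support_of_isFT hM.1 hM.2) h hx, sub_self]
  have hd : topologicalKrullDim ↥(CohB1.support F) ≤ ((1 : ℕ) : WithBot ℕ∞) := by
    refine (Topology.IsInducing.subtypeVal.topologicalKrullDim_le).trans ?_
    rw [H23.TopDim.dim_eq_iSup_irreducibleComponents]
    exact iSup₂_le fun Z hZ => by rw [hdim Z hZ]; rfl
  obtain ⟨S, hS, hS0, hmem⟩ := IntNum.leading ⊥ φ 1 hiso hadd hsmall hF hd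
  rw [AddSubgroup.mem_bot, sub_eq_zero] at hmem
  have hgen : ∀ ξ : X, topologicalKrullDim ↥(closure ({ξ} : Set X)) = ((1 : ℕ) : WithBot ℕ∞) →
      ∀ hC : closure ({ξ} : Set X) ∈ irreducibleComponents (X : Type u),
        φ (ClSub.quotMod (IntNum.ptIdeal ξ)) =
          @Curv2.deg k _ (X.irreducibleComponentIdeal _ hC).radical.subscheme
            ⟨(X.irreducibleComponentIdeal _ hC).radical.subschemeι ≫ (X ↘ (Spec (CommRingCat.of k)))⟩
            ((Scheme.Modules.pullback (X.irreducibleComponentIdeal _ hC).radical.subschemeι).obj E) n := by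
    intro ξ _ hC
    have hI : (X.irreducibleComponentIdeal _ hC).radical = IntNum.ptIdeal ξ := by
      rw [← Scheme.IdealSheafData.vanishingIdeal_support]
      exact congrArg Scheme.IdealSheafData.vanishingIdeal (Closeds.ext rfl)
    rw [hI]
    let J := IntNum.ptIdeal ξ
    letI : J.subscheme.Over (Spec (CommRingCat.of k)) := ⟨J.subschemeι ≫ (X ↘ (Spec (CommRingCat.of k)))⟩
    obtain ⟨e⟩ := IntNum.push_tensor J.subschemeι (Coh.structureModule J.subscheme) E
    have hpb : FlatMod.IsFinLocFree ((Scheme.Modules.pullback J.subschemeι).obj E) :=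
      KFlatLib.isFinLocFree_pullback J.subschemeι hEf
    show Curv2.euler k X ((DCoh.tensorBi.obj E).obj (ClSub.quotMod J)) -
        n * Curv2.euler k X (ClSub.quotMod J) = _
    rw [Euler.euler_congr k (CurveTensor.commIso E (ClSub.quotMod J) ≪≫ e.symm ≪≫
        (Coh.push J.subschemeι).mapIso (CurveTensor.structureTensorIso ((Scheme.Modules.pullback J.subschemeι).obj E))),
      IntNum.euler_push k J.subschemeι rfl (QCoh.isQCoh_of_isFinLocFree hpb),
      IntNum.euler_push k J.subschemeι rfl QCoh.isQCoh_structureModule]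
    rfl
  show Curv2.euler k X ((DCoh.tensorBi.obj E).obj F) = _
  have hφ : Curv2.euler k X ((DCoh.tensorBi.obj E).obj F) = φ F + n * Curv2.euler k X F := by
    simp only [φ]; ring
  rw [hφ, hmem, finsum_eq_sum_of_fintype]
  congr 1
  let gen : ↥(irreducibleComponents (X : Type u)) → X := fun Z => Z.2.1.genericPoint
  have hcl : ∀ Z, closure ({gen Z} : Set X) = Z.1 := fun Z =>
    Z.2.1.isGenericPoint_genericPoint (isClosed_of_mem_irreducibleComponents Z.1 Z.2)
  have hinj : Function.Injective gen := fun Z W h => Subtype.ext (by rw [← hcl Z, ← hcl W, h])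
  have hsub : S ⊆ Finset.univ.image gen := fun ξ hξ => by
    have hC := (dim_closure_eq_one_iff hdim ξ).1 (by rw [hS ξ hξ]; rfl)
    refine Finset.mem_image.2 ⟨⟨_, hC⟩, Finset.mem_univ _, ?_⟩
    exact ((isGenericPoint_closure (x := ξ)).eq (hcl ⟨_, hC⟩)).symm
  rw [Finset.sum_subset hsub fun ξ hξ hξS => ?_, Finset.sum_image hinj.injOn]
  · refine Finset.sum_congr rfl fun Z _ => ?_
    obtain ⟨Z, hZ⟩ := Z
    have h1 := hcl ⟨Z, hZ⟩
    have hd1 : topologicalKrullDim ↥(closure ({gen ⟨Z, hZ⟩} : Set X)) = ((1 : ℕ) : WithBot ℕ∞) := by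
      rw [h1, hdim Z hZ]; rfl
    have key : ∀ (W : Set X) (hW : W ∈ irreducibleComponents (X : Type u)), closure ({gen ⟨Z, hZ⟩} : Set X) = W →
        φ (ClSub.quotMod (IntNum.ptIdeal (gen ⟨Z, hZ⟩))) =
          @Curv2.deg k _ (X.irreducibleComponentIdeal W hW).radical.subscheme
            ⟨(X.irreducibleComponentIdeal W hW).radical.subschemeι ≫ (X ↘ (Spec (CommRingCat.of k)))⟩
            ((Scheme.Modules.pullback (X.irreducibleComponentIdeal W hW).radical.subschemeι).obj E) n := by
      rintro W hW rfl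
      exact hgen _ hd1 hW
    rw [key Z hZ h1, nsmul_eq_mul]
    rfl
  · obtain ⟨Z, -, rfl⟩ := Finset.mem_image.1 hξ
    rw [hS0 _ (by rw [hcl Z, hdim Z.1 Z.2]; rfl) hξS, zero_smul]

end Groth.Agent.S17659
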