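import Groth.Statements.S17690
import Groth.Agent.S2654
import Groth.Agent.N12Aux.Nagata

set_option autoImplicit false
set_option backward.isDefEq.respectTransparency false
set_option backward.isDefEq.respectTransparency.types false
set_option maxHeartbeats 1000000
set_option linter.style.haveILetI false
universe u
open Neron

namespace Groth.Agent.S17690

open Groth.Agent

/-- Let R be an excellent discrete valuation ring (Noetherian, universally catenary, G-ring, J-2) with
fraction field K, and let L be a finite purely inseparable field extension of K. Then the integral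
closure S of R in L is a discrete valuation ring, and S is a finite R-module. -/
theorem result
    (R K L : Type u) [CommRing R] [IsDomain R] [IsDiscreteValuationRing R] (hR : EGA4.IsExcellent R)
    [Field K] [Algebra R K] [IsFractionRing R K] [Field L] [Algebra K L] [FiniteDimensional K L]
    [IsPurelyInseparable K L] [Algebra R L] [IsScalarTower R K L] :
    IsDiscreteValuationRing ↥(integralClosure R L) ∧ Module.Finite R ↥(integralClosure R L) := by
  letI : Algebra (FractionRing R) K := (FractionRing.algEquiv R K).toAlgHom.toRingHom.toAlgebra
  letI : Algebra (FractionRing R) L := ((algebraMap K L).comp (algebraMap (FractionRing R) K)).toAlgebra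
  haveI : IsScalarTower (FractionRing R) K L := IsScalarTower.of_algebraMap_eq fun x => rfl
  haveI : IsScalarTower R (FractionRing R) L := IsScalarTower.of_algebraMap_eq fun x => by
    show algebraMap R L x = algebraMap K L ((FractionRing.algEquiv R K) (algebraMap R (FractionRing R) x))
    rw [AlgEquiv.commutes, ← IsScalarTower.algebraMap_apply]
  haveI : FiniteDimensional (FractionRing R) K :=
    Module.Finite.equiv ((LinearEquiv.ofBijective (Algebra.linearMap (FractionRing R) K)
      (FractionRing.algEquiv R K).bijective))
  haveI : FiniteDimensional (FractionRing R) L := Module.Finite.trans K L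
  haveI hfin : Module.Finite R ↥(integralClosure R L) :=
    N12Aux.isN2_of_isNagata (S2654.result R ⟨hR.1, hR.2.2.1, hR.2.2.2⟩) L inferInstance
  set S := ↥(integralClosure R L)
  have hinjL : Function.Injective (algebraMap R L) := by
    rw [IsScalarTower.algebraMap_eq R K L]
    exact (algebraMap K L).injective.comp (IsFractionRing.injective R K)
  haveI : Algebra.IsIntegral R S := inferInstance
  haveI : IsNoetherianRing S := isNoetherian_of_tower R (isNoetherian_of_isNoetherianRing_of_finite R S)
  haveI : IsIntegrallyClosed S := integralClosure.isIntegrallyClosedOfFiniteExtension K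
  have hinj : Function.Injective (algebraMap R S) := fun a b h => hinjL (congrArg Subtype.val h)
  haveI : Ring.DimensionLEOne S := Ring.DimensionLEOne.integralClosure R L
  haveI : IsDedekindDomain S := {}
  -- every element has a power coming from `R`
  obtain ⟨q, hq⟩ := ExpChar.exists K
  have hpow : ∀ x : S, ∃ (m : ℕ) (y : R), 0 < m ∧ x ^ m = algebraMap R S y := fun x => by
    obtain ⟨n, y, hy⟩ := (isPurelyInseparable_iff_pow_mem K q).1 ‹_› (x : L)
    have hyint : IsIntegral R y :=
      (isIntegral_algebraMap_iff (A := K) (algebraMap K L).injective).1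
        (by rw [hy]; exact (x.2 : IsIntegral R (x : L)).pow _)
    obtain ⟨r, rfl⟩ := IsIntegrallyClosed.isIntegral_iff.1 hyint
    exact ⟨q ^ n, r, Nat.pos_of_ne_zero (pow_ne_zero n (expChar_pos K q).ne'), Subtype.ext (by
      show (x : L) ^ q ^ n = algebraMap R L r
      rw [← hy, ← IsScalarTower.algebraMap_apply])⟩
  haveI : IsLocalRing S := by
    obtain ⟨P, hP⟩ := Ideal.exists_maximal S
    refine IsLocalRing.of_unique_max_ideal ⟨P, hP, fun Q hQ => ?_⟩
    haveI := hP; haveI := hQ
    have hc : ∀ (T : Ideal S) [T.IsMaximal], T.comap (algebraMap R S) = IsLocalRing.maximalIdeal R :=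
      fun T _ => IsLocalRing.eq_maximalIdeal (Ideal.isMaximal_comap_of_isIntegral_of_isMaximal T)
    ext x
    obtain ⟨m, y, hm, hy⟩ := hpow x
    have h : ∀ (T : Ideal S) [T.IsMaximal], x ∈ T ↔ y ∈ IsLocalRing.maximalIdeal R := fun T _ => by
      rw [← hc T, Ideal.mem_comap, ← hy]
      exact ⟨fun h => Ideal.pow_mem_of_mem T h m hm, fun h => Ideal.IsPrime.mem_of_pow_mem inferInstance m h⟩
    rw [h Q, h P]
  refine ⟨?_, hfin⟩
  haveI : IsPrincipalIdealRing S := inferInstance
  refine { not_a_field' := ?_ }
  intro hbot
  exact IsDiscreteValuationRing.not_isField R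
    (isField_of_isIntegral_of_isField hinj (IsLocalRing.isField_iff_maximalIdeal_eq.2 hbot))

end Groth.Agent.S17690
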