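import Groth.Statements.S17694
import Groth.Agent.GmProperLib.Basic
import Groth.Agent.GmProperLib.Transpose
-- import your own Groth.Agent.* helpers here

set_option autoImplicit false
set_option backward.isDefEq.respectTransparency false
set_option maxHeartbeats 1000000
set_option linter.style.haveILetI false
universe u
open CategoryTheory CategoryTheory.Limits AlgebraicGeometry MonObj
open WeilRes

namespace Groth.Agent.S17694

/-- Let κ be a field, B a finite κ-algebra and E an abelian scheme over B, that is a proper smooth
B-group scheme whose geometric fibres are connected. Let R be a κ-group scheme which, with the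
homomorphism q : R ×_κ Spec B → E, is the Weil restriction of E along Spec B → Spec κ. Then the
maximal torus of R is trivial; precisely, as the proof establishes, for every algebraically closed
field Ω over κ every homomorphism of Ω-group schemes from the multiplicative group over Ω to the
base change of R to Ω is trivial. -/
theorem result
    (κ B : Type u) [Field κ] [CommRing B] [Algebra κ B] [Module.Finite κ B]
    (E : Over (Spec (CommRingCat.of B))) [GrpObj E] [IsProper E.hom] [Smooth E.hom]
    (hEc : ∀ (Ω' : Type u) [Field Ω'] (t : Spec (CommRingCat.of Ω') ⟶ Spec (CommRingCat.of B)),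
      ConnectedSpace ↥(pullback E.hom t))
    (R : Over (Spec (CommRingCat.of κ))) [GrpObj R]
    (q : Red.bc (Spec.map (CommRingCat.ofHom (algebraMap κ B))) R ⟶ E) [IsMonHom q]
    (hR : WeilRes.IsWeilRes (Spec.map (CommRingCat.ofHom (algebraMap κ B))) E R q)
    (Ω : Type u) [Field Ω] [IsAlgClosed Ω] [Algebra κ Ω]
    (φ : Red.Gm (Spec (CommRingCat.of Ω)) ⟶ Red.bc (Spec.map (CommRingCat.ofHom (algebraMap κ Ω))) R)
    [IsMonHom φ] :
    φ = 1 := by
  let β : Spec (CommRingCat.of Ω) ⟶ Spec (CommRingCat.of κ) := Spec.map (CommRingCat.ofHom (algebraMap κ Ω))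
  let fB : Spec (CommRingCat.of B) ⟶ Spec (CommRingCat.of κ) := Spec.map (CommRingCat.ofHom (algebraMap κ B))
  let G := Red.Gm (Spec (CommRingCat.of Ω))
  let A := TensorProduct κ Ω B
  let p1 : Spec (CommRingCat.of A) ⟶ Spec (CommRingCat.of Ω) :=
    Spec.map (CommRingCat.ofHom (Algebra.TensorProduct.includeLeftRingHom (R := κ) (A := Ω) (B := B)))
  let p2 : Spec (CommRingCat.of A) ⟶ Spec (CommRingCat.of B) :=
    Spec.map (CommRingCat.ofHom (Algebra.TensorProduct.includeRight (R := κ) (A := Ω) (B := B)).toRingHom)
  have sq : IsPullback p1 p2 β fB := GmProperLib.isPullback_tensor κ Ω B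
  obtain ⟨h, hh, hone⟩ := GmProperLib.exists_transpose sq G E R q hR φ
  haveI := hh
  haveI : IsProper (Red.bc p2 E).hom := MorphismProperty.pullback_snd _ _ inferInstance
  haveI : LocallyOfFinitePresentation (Red.bc p2 E).hom := MorphismProperty.pullback_snd _ _ inferInstance
  haveI : Module.Finite Ω A := inferInstance
  haveI : IsArtinianRing A := IsArtinianRing.of_finite Ω A
  obtain ⟨a, ha, ha'⟩ := GmProperLib.exists_gm_bc_iso p1
  haveI := ha
  haveI := ha'
  refine hone ?_
  rw [← cancel_epi a, MonObj.comp_one]
  refine GmProperLib.eq_one_of_isArtinian A ?_ 1 (Red.bc p2 E) (a ≫ h)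
  intro m hm
  letI := Ideal.Quotient.field m
  have hb : Function.Bijective (algebraMap Ω (A ⧸ m)) :=
    ⟨(algebraMap Ω (A ⧸ m)).injective, IsAlgClosed.algebraMap_bijective_of_isIntegral.2⟩
  exact IsAlgClosed.of_ringEquiv Ω _ (RingEquiv.ofBijective _ hb)

end Groth.Agent.S17694
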