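import Groth.Statements.S17701
import Groth.Agent.PseudoAbTate.Main

set_option autoImplicit false
set_option backward.isDefEq.respectTransparency false
set_option backward.isDefEq.respectTransparency.types false
set_option maxHeartbeats 1000000
set_option linter.style.haveILetI false
universe u
open CategoryTheory CategoryTheory.Limits MonoidalCategory CartesianMonoidalCategory AlgebraicGeometry MonObj
open Neron

namespace Groth.Agent.S17701
open Groth.Agent

/-- Let k be a field, Ω a separable closure of k, ℓ a prime invertible in k and P a pseudo-abelian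
variety over k, that is a smooth connected commutative k-group scheme of finite type all of whose
smooth connected affine closed subgroup schemes are trivial (unit section an isomorphism). Suppose
L/k is a finite purely inseparable field extension and H is a smooth connected affine closed
subgroup scheme of P_L, unipotent in the sense that after base change to an algebraic closure of L
it has no non-trivial subtorus, such that the quotient P_L → A (a surjective homomorphism with
kernel H) is an abelian variety A over L of dimension g; g is then the virtual abelian rank of P.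
Then the ℓ-adic Tate module of P built from Ω-points (compatible sequences of ℓ-power torsion
Ω-points) is a finitely generated free ℤ_ℓ-module of rank 2g. -/
theorem result
    (k Ω : Type u) [Field k] [Field Ω] [Algebra k Ω] [IsSepClosure k Ω] (ℓ : ℕ) [Fact ℓ.Prime] (hℓ : (ℓ : k) ≠ 0)
    (P : Over (Spec (CommRingCat.of k))) [GrpObj P] [IsCommMonObj P]
    [Smooth P.hom] [LocallyOfFiniteType P.hom] [QuasiCompact P.hom] [ConnectedSpace ↥P.left]
    (hP : ∀ (H : Over (Spec (CommRingCat.of k))) [GrpObj H] (j : H ⟶ P) [IsMonHom j],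
      IsClosedImmersion j.left → Smooth H.hom → ConnectedSpace ↥H.left → IsAffine H.left → IsIso η[H])
    (L : Type u) [Field L] [Algebra k L] [FiniteDimensional k L] [IsPurelyInseparable k L]
    (H A : Over (Spec (CommRingCat.of L))) [GrpObj H] [GrpObj A]
    (i : H ⟶ Red.bc (Spec.map (CommRingCat.ofHom (algebraMap k L))) P) [IsMonHom i] (π : Red.bc (Spec.map (CommRingCat.ofHom (algebraMap k L))) P ⟶ A) [IsMonHom π]
    (hi : IsClosedImmersion i.left) (hker : AlgGrp.IsKernel i π) (hπ : Surjective π.left)
    [Smooth H.hom] [ConnectedSpace ↥H.left] [IsAffine H.left]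
    (hH : Red.HasNoSubtorus (AlgebraicClosure L) (Red.bc (Spec.map (CommRingCat.ofHom (algebraMap L (AlgebraicClosure L)))) H))
    [IsProper A.hom] [Smooth A.hom] [GeometricallyIntegral A.hom]
    (g : ℕ) (hg : topologicalKrullDim ↥A.left = g) :
    Module.Free ℤ_[ℓ] (AbDual.TateMod P ℓ (SGA7.pt Ω)) ∧ Module.Finite ℤ_[ℓ] (AbDual.TateMod P ℓ (SGA7.pt Ω)) ∧
      Module.finrank ℤ_[ℓ] (AbDual.TateMod P ℓ (SGA7.pt Ω)) = 2 * g := by
  classical
  haveI : IsSepClosed Ω := IsSepClosure.sep_closed k
  haveI : Algebra.IsSeparable k Ω := IsSepClosure.separable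
  let K := AlgebraicClosure L
  let j : Ω →ₐ[k] K := IsAlgClosed.lift
  let f := Spec.map (CommRingCat.ofHom (algebraMap k L))
  let gg := Spec.map (CommRingCat.ofHom (algebraMap L K))
  have hσ : Spec.map (CommRingCat.ofHom (algebraMap k K)) = gg ≫ f := by
    rw [IsScalarTower.algebraMap_eq k L K, CommRingCat.ofHom_comp, Spec.map_comp]
  have hlK : ∀ m : ℕ, ((ℓ ^ m : ℕ) : K) ≠ 0 := fun m => by
    rw [Nat.cast_pow]
    refine pow_ne_zero _ ?_
    rw [← map_natCast (algebraMap k K)]
    exact (map_ne_zero _).mpr hℓ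
  have hlk : ∀ m : ℕ, ((ℓ ^ m : ℕ) : k) ≠ 0 := fun m => by
    rw [Nat.cast_pow]; exact pow_ne_zero _ hℓ
  let PL := Red.bc f P
  haveI : IsCommMonObj PL := PseudoAbTate.isCommMonObj_pullback f P
  haveI : Smooth PL.hom := MorphismProperty.pullback_snd _ _ inferInstance
  haveI : QuasiCompact PL.hom := MorphismProperty.pullback_snd _ _ inferInstance
  haveI : ConnectedSpace PL.left := GrpSchLib.AntiAffine.connectedSpace_bc P (algebraMap k L)
  haveI : IsCommMonObj A := isCommMonObj_of_isProper_of_geometricallyIntegral _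
  haveI : Mono i := Over.mono_of_mono_left i
  haveI : IsCommMonObj H := ⟨by
    rw [← cancel_mono i, Category.assoc, IsMonHom.mul_hom, ← BraidedCategory.braiding_naturality_assoc,
      IsCommMonObj.mul_comm]⟩
  have hdivK : ∀ b : Over.mk (Spec.map (CommRingCat.ofHom (algebraMap k K))) ⟶ P,
      ∃ a : Over.mk (Spec.map (CommRingCat.ofHom (algebraMap k K))) ⟶ P, a ^ ℓ = b := by
    rw [hσ]
    intro b
    obtain ⟨a, ha⟩ := PseudoAbTate.geom_root (algebraMap L K) (n := ℓ) (by simpa using hlK 1)
      (PseudoAbTate.ptsBC f gg P b)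
    exact ⟨(PseudoAbTate.ptsBC f gg P).symm a, by rw [← map_pow, ha, MulEquiv.symm_apply_apply]⟩
  have hcardK : ∀ m : ℕ, Nat.card (AbDual.torsPts P (ℓ ^ m)
      (Over.mk (Spec.map (CommRingCat.ofHom (algebraMap k K))))) = (ℓ ^ m) ^ (2 * g) := by
    intro m
    rw [hσ]
    have e1 : Nat.card (AbDual.torsPts P (ℓ ^ m) (Over.mk (gg ≫ f))) =
        Nat.card (AbDual.torsPts PL (ℓ ^ m) (Over.mk gg)) :=
      Nat.card_congr (Equiv.subtypeEquiv (PseudoAbTate.ptsBC f gg P).toEquiv fun a => by
        show a ^ _ = 1 ↔ PseudoAbTate.ptsBC f gg P a ^ _ = 1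
        rw [← map_pow, MulEquiv.map_eq_one_iff])
    rw [e1, PseudoAbTate.geom_card (algebraMap L K) i π hker hH (hlK m)]
    exact (TorsPtsLib.geom_points gg A hg).2.1 _ (hlK m)
  refine TorsPtsLib.tateMod_free P ℓ (SGA7.pt Ω) (2 * g)
    (PseudoAbTate.exists_root_sep j P hℓ hdivK) fun m => ?_
  rw [← hcardK m]
  exact PseudoAbTate.card_tors_sep j P (hlk m)

end Groth.Agent.S17701
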