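import Groth.Statements.S1771
import Groth.Agent.H1CohPush.Bridge
import Groth.Agent.S0567
import Mathlib

set_option autoImplicit false
universe u
open LocCoh

namespace Groth.Agent.S1771

/-- Let A be a Noetherian ring which is Nagata and universally catenary, I an ideal of A and M a finite
A-module. Suppose that for every associated prime p of M not containing I and every prime q
containing both p and I, the longest chain of primes from p to q has length at least 2. Then the
local cohomology module H^1_I(M) is a finite A-module. The published statement asserts that the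
pushforward of a coherent sheaf from the open complement of V(I) is coherent; this is its affine
form, stated as finiteness of H^1_I(M). -/
theorem result (A : Type u) [CommRing A] [IsNoetherianRing A] (hN : CAlg.IsNagata A) (hU : CAlg.IsUniversallyCatenary A) (I : Ideal A) (M : Type u) [AddCommGroup M] [Module A M] [Module.Finite A M] (h : ∀ (p q : PrimeSpectrum A) (hpq : p ≤ q), p.asIdeal ∈ associatedPrimes A M → ¬ I ≤ p.asIdeal → I ≤ q.asIdeal → (2 : ℕ∞) ≤ Order.height (⟨q, hpq⟩ : Set.Ici p)) : Module.Finite A (LocCoh.H I 1 M) := by
  refine Groth.Agent.H1CohPush.finite_H1 (Groth.Agent.H1CohPush.finite_sec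
    (Groth.Agent.H1CohPush.isCoherentPushCompl_of_hull I M
      (fun q _ => Groth.Agent.H1CohPush.heightOneHullFinite_quotient hU ((Groth.Agent.S0567.result A).1 hN).2 q) ?_))
  intro p hp hIp
  have hpp := IsAssociatedPrime.isPrime (AssociatedPrimes.mem_iff.mp hp)
  exact Groth.Agent.H1CohPush.height_map_of_chain ⟨p, hpp⟩ I 2 fun q hpq hIq => h _ q hpq hp hIp hIq

end Groth.Agent.S1771
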