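import Groth.Statements.S17728
import Groth.Agent.FlatLocus.Basic
import Groth.Agent.SchDenseLib.FlatLFP
import Groth.Agent.SchDenseLib.Hom

set_option autoImplicit false
set_option backward.isDefEq.respectTransparency false
set_option backward.isDefEq.respectTransparency.types false
set_option maxHeartbeats 1000000
set_option linter.style.haveILetI false
universe u
open Neron

namespace Groth.Agent.S17728

open Groth.Agent CategoryTheory.Limits

open CategoryTheory AlgebraicGeometry in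
/-- Let S be a Noetherian scheme, U ⊆ S a dense open subscheme and f : X → S a morphism locally of
finite type which restricts to an isomorphism over U and for which the preimage of U is
schematically dense in X. For a point x of X the following are equivalent: f is étale on some open
neighbourhood of x; f is flat at x, that is, the local ring of X at x is flat over the local ring of
S at f(x); some open neighbourhood V of f(x) carries a section σ of f over V passing through x. -/
theorem result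
    {X S : Scheme.{u}} [IsNoetherian S] (f : X ⟶ S) [LocallyOfFiniteType f]
    (U : S.Opens) (hU : Dense (U : Set S))
    (hiso : IsIso (morphismRestrict f U)) (hdense : CInt.IsSchematicallyDense (f ⁻¹ᵁ U))
    (x : X) :
    List.TFAE [
      ∃ W : X.Opens, x ∈ W ∧ Etale (W.ι ≫ f),
      (f.stalkMap x).hom.Flat,
      ∃ (V : S.Opens) (hV : f.base x ∈ V) (σ : (V : Scheme.{u}) ⟶ X),
        σ ≫ f = V.ι ∧ σ.base ⟨f.base x, hV⟩ = x] := by
  haveI : LocallyOfFinitePresentation f :=
    LocallyOfFinitePresentation.iff_locallyOfFiniteType.mpr inferInstance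
  -- two maps into the preimage of `U` agreeing after `f` are equal
  have hmono : ∀ {T : Scheme.{u}} (a b : T ⟶ X), (∀ t, f (a t) ∈ U) → (∀ t, f (b t) ∈ U) →
      a ≫ f = b ≫ f → a = b := by
    intro T a b ha hb hab
    have hra : Set.range a ⊆ Set.range (f ⁻¹ᵁ U).ι := by
      rintro _ ⟨t, rfl⟩
      rw [Scheme.Opens.range_ι]
      exact ha t
    have hrb : Set.range b ⊆ Set.range (f ⁻¹ᵁ U).ι := by
      rintro _ ⟨t, rfl⟩
      rw [Scheme.Opens.range_ι]
      exact hb t
    have : IsOpenImmersion.lift (f ⁻¹ᵁ U).ι a hra = IsOpenImmersion.lift (f ⁻¹ᵁ U).ι b hrb := by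
      rw [← cancel_mono (f ∣_ U), ← cancel_mono U.ι]
      simp only [Category.assoc, morphismRestrict_ι]
      rw [IsOpenImmersion.lift_fac_assoc, IsOpenImmersion.lift_fac_assoc, hab]
    rw [← IsOpenImmersion.lift_fac (f ⁻¹ᵁ U).ι a hra, ← IsOpenImmersion.lift_fac (f ⁻¹ᵁ U).ι b hrb,
      this]
  tfae_have 1 → 2 := by
    rintro ⟨W, hxW, hW⟩
    have h := Flat.stalkMap (W.ι ≫ f) ⟨x, hxW⟩
    rw [Scheme.Hom.stalkMap_comp, Groth.Agent.FlatLocus.flat_comp_isIso] at h
    exact h
  tfae_have 2 → 3 := by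
    intro hx
    obtain ⟨W, hW, hxW, hWO⟩ := exists_isAffineOpen_mem_and_subset
      (U := (⟨_, Groth.Agent.FlatLocus.isOpen_flat_locus f⟩ : X.Opens)) (x := x) hx
    haveI : Flat (W.ι ≫ f) := Flat.of_stalkMap _ fun w => by
      rw [Scheme.Hom.stalkMap_comp, Groth.Agent.FlatLocus.flat_comp_isIso]
      exact hWO w.2
    haveI : IsAffine (W : Scheme.{u}) := hW
    let V : S.Opens := ⟨Set.range (W.ι ≫ f), (W.ι ≫ f).isOpenMap.isOpen_range⟩
    have hr : Set.range (W.ι ≫ f) ⊆ Set.range V.ι := by rw [Scheme.Opens.range_ι]; rfl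
    let g : (W : Scheme.{u}) ⟶ V := IsOpenImmersion.lift V.ι (W.ι ≫ f) hr
    have hg : g ≫ V.ι = W.ι ≫ f := IsOpenImmersion.lift_fac _ _ _
    haveI : Flat g := MorphismProperty.of_postcomp (W := @Flat) (W' := @IsOpenImmersion) g V.ι
      inferInstance (hg ▸ inferInstance)
    haveI : LocallyOfFinitePresentation g :=
      MorphismProperty.of_postcomp (W := @LocallyOfFinitePresentation) (W' := @IsOpenImmersion)
        g V.ι inferInstance (hg ▸ inferInstance)
    haveI : IsSeparated g := inferInstance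
    haveI : QuasiCompact g := inferInstance
    haveI : Surjective g := ⟨fun v => by
      obtain ⟨w, hw⟩ := v.2
      refine ⟨w, V.ι.isOpenEmbedding.injective ?_⟩
      rw [← Scheme.Hom.comp_apply, hg]
      exact hw⟩
    have hd : CInt.IsSchematicallyDense (pullback.fst g g ⁻¹ᵁ (W.ι ⁻¹ᵁ (f ⁻¹ᵁ U))) :=
      SchDenseLib.preimage_of_flat_lfp _ _ (SchDenseLib.preimage_of_flat_lfp _ _ hdense)
    have hfs : pullback.fst g g = pullback.snd g g := by
      refine SchDenseLib.hom_ext hd g _ _ pullback.condition ?_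
      rw [← cancel_mono W.ι]
      have e : (pullback.fst g g ⁻¹ᵁ (W.ι ⁻¹ᵁ (f ⁻¹ᵁ U))).ι ≫ pullback.fst g g ≫ g ≫ V.ι =
          (pullback.fst g g ⁻¹ᵁ (W.ι ⁻¹ᵁ (f ⁻¹ᵁ U))).ι ≫ pullback.snd g g ≫ g ≫ V.ι := by
        rw [pullback.condition_assoc]
      rw [hg] at e
      refine hmono _ _ (fun t => ?_) (fun t => ?_) (by simpa only [Category.assoc] using e)
      · exact t.2
      · have e2 := congrArg (fun m => m t) e
        simp only [Scheme.Hom.comp_apply] at e2 ⊢
        rw [← e2]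
        exact t.2
    haveI : Mono g := ⟨fun a b hab => by
      rw [← pullback.lift_fst a b hab, hfs, pullback.lift_snd]⟩
    haveI : IsIso g := MorphismProperty.of_pullback_fst_of_descendsAlong
      (P := MorphismProperty.isomorphisms Scheme.{u}) (Q := @Surjective ⊓ @Flat ⊓ @QuasiCompact)
      (f := g) (g := g) ⟨⟨inferInstance, inferInstance⟩, inferInstance⟩
      (inferInstanceAs (IsIso (pullback.fst g g)))
    refine ⟨V, ⟨⟨x, hxW⟩, rfl⟩, inv g ≫ W.ι, ?_, ?_⟩
    · rw [Category.assoc, IsIso.inv_comp_eq, hg]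
    · have h1 : g ⟨x, hxW⟩ = ⟨f x, ⟨⟨x, hxW⟩, rfl⟩⟩ := by
        apply V.ι.isOpenEmbedding.injective
        rw [← Scheme.Hom.comp_apply, hg]
        rfl
      change W.ι ((inv g) _) = x
      rw [← h1, ← Scheme.Hom.comp_apply g (inv g), IsIso.hom_inv_id]
      rfl
  tfae_have 3 → 1 := by
    rintro ⟨V, hV, σ, hσ, hσx⟩
    obtain ⟨W, hW, hxW, hWV⟩ := exists_isAffineOpen_mem_and_subset (U := f ⁻¹ᵁ V) (x := x) hV
    haveI : IsAffine (W : Scheme.{u}) := hW
    let V' : S.Opens := V.ι ''ᵁ (σ ⁻¹ᵁ W)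
    have hV'V : V' ≤ V := by
      rintro _ ⟨v, -, rfl⟩; exact v.2
    let W' : X.Opens := W ⊓ f ⁻¹ᵁ V'
    have hfx : f x ∈ V' := ⟨⟨f x, hV⟩, (show σ ⟨f x, hV⟩ ∈ W by rw [hσx]; exact hxW), rfl⟩
    let g : (W' : Scheme.{u}) ⟶ V' := f.resLE V' W' inf_le_right
    have hg : g ≫ V'.ι = W'.ι ≫ f := f.resLE_comp_ι _
    haveI : IsSeparated g := by
      haveI : IsSeparated (W'.ι ≫ f) := by
        rw [← X.homOfLE_ι (inf_le_left : W' ≤ W), Category.assoc]
        infer_instance
      rw [← hg] at this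
      exact IsSeparated.of_comp g V'.ι
    have hr : Set.range (S.homOfLE hV'V ≫ σ) ⊆ Set.range W'.ι := by
      rintro _ ⟨v, rfl⟩
      rw [Scheme.Opens.range_ι]
      obtain ⟨v', hv', hvv⟩ := v.2
      have e0 : S.homOfLE hV'V v = v' := V.ι.isOpenEmbedding.injective (by
        rw [← Scheme.Hom.comp_apply, S.homOfLE_ι]; exact hvv.symm)
      refine ⟨by rw [Scheme.Hom.comp_apply, e0]; exact hv', ?_⟩
      change f _ ∈ V'
      rw [← Scheme.Hom.comp_apply _ f, Category.assoc, hσ, S.homOfLE_ι]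
      exact v.2
    let s : (V' : Scheme.{u}) ⟶ W' := IsOpenImmersion.lift W'.ι (S.homOfLE hV'V ≫ σ) hr
    have hs : s ≫ W'.ι = S.homOfLE hV'V ≫ σ := IsOpenImmersion.lift_fac _ _ _
    have hsg : s ≫ g = 𝟙 _ := by
      rw [← cancel_mono V'.ι, Category.assoc, hg, reassoc_of% hs, hσ, S.homOfLE_ι, Category.id_comp]
    have hgs : g ≫ s = 𝟙 _ := by
      refine SchDenseLib.hom_ext (SchDenseLib.preimage_of_flat_lfp W'.ι _ hdense) g _ _
        (by rw [Category.assoc, hsg, Category.comp_id, Category.id_comp]) ?_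
      rw [← cancel_mono W'.ι]
      have e : (W'.ι ⁻¹ᵁ (f ⁻¹ᵁ U)).ι ≫ (g ≫ s) ≫ W'.ι ≫ f = (W'.ι ⁻¹ᵁ (f ⁻¹ᵁ U)).ι ≫ W'.ι ≫ f := by
        rw [← hg, Category.assoc, reassoc_of% hsg]
      refine hmono _ _ (fun t => ?_) (fun t => ?_) (by simpa only [Category.assoc, Category.id_comp] using e)
      · have e2 := congrArg (fun m => m t) e
        simp only [Scheme.Hom.comp_apply] at e2 ⊢
        rw [e2]
        exact t.2
      · exact t.2
    haveI : IsIso g := ⟨s, hgs, hsg⟩
    refine ⟨W', ⟨hxW, hfx⟩, ?_⟩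
    rw [← hg]
    infer_instance
  tfae_finish

end Groth.Agent.S17728
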