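import Groth.Statements.S17729
import Groth.Agent.NodeNZD7.Alg
import Groth.Agent.GeomRedFlat5.Bridge
import Groth.Agent.VarGeom.Normal
import Groth.Agent.SmoothReg.Scheme
import Groth.Agent.S2156
import Groth.Agent.Triage.CMMor
import Groth.Agent.WDivX.SpecOrd

set_option autoImplicit false
set_option backward.isDefEq.respectTransparency false
set_option backward.isDefEq.respectTransparency.types false
set_option linter.style.haveILetI false
set_option maxHeartbeats 1000000
universe u
open DualGr

namespace Groth.Agent.S17729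

open CategoryTheory AlgebraicGeometry IsLocalRing

/-- An annihilated nonzero element is nonzero at some point of a schematically dense open. -/
theorem exists_point {R : Type u} [CommRing R] (U : (Spec (CommRingCat.of R)).Opens)
    (hU : CInt.IsSchematicallyDense U) (a r : R) (hr : r ≠ 0) (har : a * r = 0) :
    ∃ x ∈ U, a ∈ x.asIdeal := by
  let g : R →+* Γ(Spec (CommRingCat.of R), ⊤) := (Scheme.ΓSpecIso (CommRingCat.of R)).inv.hom
  by_contra hcon
  push_neg at hcon
  refine hr ?_
  have h1 : (Spec (CommRingCat.of R)).presheaf.map (homOfLE (inf_le_left : ⊤ ⊓ U ≤ ⊤)).op (g r) = 0 := by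
    refine TopCat.Presheaf.section_ext (Spec (CommRingCat.of R)).sheaf _ _ _ fun x hx => ?_
    show (Spec (CommRingCat.of R)).presheaf.germ _ x hx _ = (Spec (CommRingCat.of R)).presheaf.germ _ x hx 0
    rw [(Spec (CommRingCat.of R)).presheaf.germ_res_apply]
    rw [map_zero]
    have hu : IsUnit (WDivX.gS x a) := (WDivX.isUnit_gS_iff (R := CommRingCat.of R) x a).2 (hcon x hx.2)
    refine hu.mul_right_eq_zero.1 ?_
    show WDivX.gS x a * WDivX.gS (R := CommRingCat.of R) x r = 0
    rw [← map_mul, har, map_zero]
  rw [← map_zero ((Spec (CommRingCat.of R)).presheaf.map (homOfLE (inf_le_left : ⊤ ⊓ U ≤ ⊤)).op).hom] at h1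
  have h2 := hU ⊤ h1
  have h3 := congrArg (Scheme.ΓSpecIso (CommRingCat.of R)).hom h2
  rw [map_zero] at h3
  rw [← h3]
  exact ((Scheme.ΓSpecIso (CommRingCat.of R)).commRingCatIsoToRingEquiv.apply_symm_apply r).symm

/-- Smoothness over an open forbids non-regular fibres at generalizations lying over it. -/
theorem not_smooth_of_point {R : Type u} [CommRing R] [IsNoetherianRing R] {C : Scheme.{u}}
    (f : C ⟶ Spec (CommRingCat.of R)) [LocallyOfFiniteType f] (U : (Spec (CommRingCat.of R)).Opens)
    (hsm : Smooth (morphismRestrict f U)) (c : C) (x : Spec (CommRingCat.of R)) (hxU : x ∈ U)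
    (q : Ideal (C.presheaf.stalk c)) (hq : q.IsPrime) (hqc : q.comap (stalkHom f c) = x.asIdeal)
    (hnot : ∀ (B : Type u) [CommRing B] [IsLocalRing B] [Algebra (C.presheaf.stalk c) B]
      (S : Submonoid (C.presheaf.stalk c)) [IsLocalization S B],
      (maximalIdeal B).comap (algebraMap (C.presheaf.stalk c) B) = q →
        ¬ IsRegularLocalRing (B ⧸ x.asIdeal.map ((algebraMap (C.presheaf.stalk c) B).comp (stalkHom f c)))) :
    False := by
  haveI : LocallyOfFinitePresentation f :=
    LocallyOfFinitePresentation.iff_locallyOfFiniteType.2 inferInstance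
  let w : Spec (C.presheaf.stalk c) := ⟨q, hq⟩
  let ζ : C := C.fromSpecStalk c w
  have hsp : ζ ⤳ c := by
    have : ζ ∈ Set.range (C.fromSpecStalk c) := ⟨w, rfl⟩
    rwa [Scheme.range_fromSpecStalk] at this
  have hζx : f ζ = x := by
    show (C.fromSpecStalk c ≫ f) w = x
    rw [GeomRedFlat5.fromSpecStalk_comp_eq f c]
    exact PrimeSpectrum.ext hqc
  letI : Algebra (C.presheaf.stalk c) (C.presheaf.stalk ζ) := (C.presheaf.stalkSpecializes hsp).hom.toAlgebra
  obtain ⟨S, hS⟩ := VarGeom.exists_isLocalization_stalkSpecializes hsp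
  have hBq : (maximalIdeal (C.presheaf.stalk ζ)).comap (algebraMap (C.presheaf.stalk c) (C.presheaf.stalk ζ)) = q := by
    have h1 : C.fromSpecStalk c (Spec.map (C.presheaf.stalkSpecializes hsp) (closedPoint _)) = C.fromSpecStalk c w := by
      rw [← Scheme.Hom.comp_apply, Scheme.SpecMap_stalkSpecializes_fromSpecStalk, Scheme.fromSpecStalk_closedPoint]
    exact congrArg PrimeSpectrum.asIdeal ((C.fromSpecStalk c).isEmbedding.injective h1)
  refine hnot (C.presheaf.stalk ζ) S hBq ?_
  -- the fibre is smooth there
  have hζsm : ζ ∈ f.smoothLocus := by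
    haveI := hsm
    haveI : Smooth ((f ⁻¹ᵁ U).ι ≫ f) := by rw [← morphismRestrict_ι]; infer_instance
    have hζU : ζ ∈ f ⁻¹ᵁ U := by show f ζ ∈ U; rw [hζx]; exact hxU
    have h1 : (f ⁻¹ᵁ U).ι ⁻¹ᵁ f.smoothLocus = ⊤ := by
      rw [Scheme.Hom.preimage_smoothLocus_eq, Scheme.Hom.smoothLocus_eq_top_iff]
      infer_instance
    have h2 : (⟨ζ, hζU⟩ : ↥(f ⁻¹ᵁ U)) ∈ (f ⁻¹ᵁ U).ι ⁻¹ᵁ f.smoothLocus := by rw [h1]; trivial
    exact h2
  have hfib := ((S2156.result f ζ).1 hζsm).2
  haveI := SmoothReg.isRegularLocalRing_stalk_of_mem_smoothLocus (f.fiberToSpecResidueField (f ζ)) hfib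
  obtain ⟨e⟩ := Triage.CMMor.exists_equiv_fibre_stalk f ζ
  haveI := IsRegularLocalRing.of_ringEquiv e.symm
  refine IsRegularLocalRing.of_ringEquiv (R := C.presheaf.stalk ζ ⧸
    (maximalIdeal ((Spec (CommRingCat.of R)).presheaf.stalk (f ζ))).map (f.stalkMap ζ).hom)
    (Ideal.quotEquivOfEq ?_)
  subst hζx
  rw [WDivX.maximalIdeal_stalk, Ideal.map_map]
  congr 1
  refine RingHom.ext fun r => ?_
  show f.stalkMap ζ ((Spec (CommRingCat.of R)).presheaf.germ ⊤ (f ζ) trivial _) =
    C.presheaf.stalkSpecializes hsp (C.presheaf.germ ⊤ c trivial _)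
  rw [Scheme.Hom.germ_stalkMap_apply, TopCat.Presheaf.germ_stalkSpecializes_apply]
  rfl


open CategoryTheory AlgebraicGeometry IsLocalRing in
/-- Let R be a complete Noetherian local ring and C → Spec R a morphism locally of finite type, smooth
over a schematically dense open subscheme U of Spec R. Let c be a point of C over the closed point
whose local ring is formally a node of thickness (a) over R for an element a of R: the completion of
the local ring at c is isomorphic, compatibly with R, to R̂[[x,y]]/(xy − a). Then a is a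
non-zero-divisor in R. (The published statement is for a semistable curve over a locally Noetherian
base and a non-smooth point over a separably closed field, with the node presentation supplied by
the local structure of such curves; it is stated here over the spectrum of a complete Noetherian
local ring with the node presentation as a hypothesis, the case to which the argument reduces, and
semistability plays no further role.) -/
theorem result
    (R : Type u) [CommRing R] [IsNoetherianRing R] [IsLocalRing R]
    [IsAdicComplete (maximalIdeal R) R]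
    {C : Scheme.{u}} (f : C ⟶ Spec (CommRingCat.of R)) [LocallyOfFiniteType f]
    (U : (Spec (CommRingCat.of R)).Opens) (hU : CInt.IsSchematicallyDense U)
    (hsm : Smooth (morphismRestrict f U))
    (c : C) (hc : f.base c = closedPoint R) (a : R)
    (hnode : DualGr.IsThickNode (DualGr.stalkHom f c) a) :
    a ∈ nonZeroDivisors R := by
  have key : ∀ r : R, r ≠ 0 → a * r = 0 → False := by
    intro r hr0 har
    obtain ⟨x, hxU, hax⟩ := exists_point U hU a r hr0 har
    haveI : IsLocallyNoetherian C := LocallyOfFiniteType.isLocallyNoetherian f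
    obtain ⟨q, hq, hqc, hnot⟩ := NodeNZD7.exists_prime (stalkHom f c) a hnode x.asIdeal hax
    refine not_smooth_of_point f U hsm c x hxU q hq hqc hnot
  rw [mem_nonZeroDivisors_iff_right]
  intro r hr
  by_contra hr0
  exact key r hr0 (by rwa [mul_comm])

end Groth.Agent.S17729
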