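import Groth.Statements.S17734
import Groth.Agent.PicSpread.Loc
import Groth.Agent.PicSpread.Desc

set_option autoImplicit false
set_option backward.isDefEq.respectTransparency false
set_option backward.isDefEq.respectTransparency.types false
set_option maxHeartbeats 1000000
set_option linter.style.haveILetI false
universe u
open PicF

namespace Groth.Agent.S17734
open Groth.Agent

open CategoryTheory AlgebraicGeometry Limits in
/-- Let f : X → S be a proper morphism of finite presentation, s a point of S, and L an invertible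
module on the base change X^s of X to the spectrum of the local ring of S at s. Then there are an
open neighbourhood V of s in S and an invertible module L' on the open subscheme f⁻¹(V) = X ×_S V
such that the pullback of L' along the canonical morphism X^s → f⁻¹(V) (the unique one compatible
with the projection X^s → X) is isomorphic to L. -/
theorem result
    {X S : Scheme.{u}} (f : X ⟶ S) [IsProper f] [LocallyOfFinitePresentation f] (s : S)
    (L : (pullback f (S.fromSpecStalk s)).Modules) (hL : PicF.IsInvertible L) :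
    ∃ (V : S.Opens) (_ : s ∈ V) (L' : (↑(f ⁻¹ᵁ V) : Scheme.{u}).Modules), PicF.IsInvertible L' ∧
      ∀ (ι : pullback f (S.fromSpecStalk s) ⟶ ↑(f ⁻¹ᵁ V)),
        ι ≫ (f ⁻¹ᵁ V).ι = pullback.fst f (S.fromSpecStalk s) →
        Nonempty ((Scheme.Modules.pullback ι).obj L' ≅ L) := by
  obtain ⟨_, ⟨U, hU, rfl⟩, hs, -⟩ := S.isBasis_affineOpens.exists_subset_of_mem_open (Set.mem_univ s) isOpen_univ
  let j := pullback.fst f (S.fromSpecStalk s)
  have haff : ∀ {W W' : X.Opens}, IsAffineOpen W → IsAffineOpen W' → W ≤ f ⁻¹ᵁ U → W' ≤ f ⁻¹ᵁ U →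
      IsAffineOpen (W ⊓ W') := fun {W W'} hW hW' h h' => by
    haveI : IsAffine _ := hU
    haveI : IsAffine _ := hW
    let i := X.homOfLE h
    haveI : IsSeparated (f ∣_ U) := IsZariskiLocalAtTarget.restrict (inferInstanceAs (IsSeparated f)) U
    haveI : IsAffineHom (i ≫ (f ∣_ U)) := inferInstance
    haveI : IsAffineHom i := IsAffineHom.of_comp i (f ∣_ U)
    have h1 : IsAffineOpen ((f ⁻¹ᵁ U).ι ⁻¹ᵁ W') :=
      hW'.preimage_of_isOpenImmersion _ (by rw [Scheme.Opens.opensRange_ι]; exact h')
    have h2 := (h1.preimage i).image_of_isOpenImmersion W.ι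
    rwa [← Scheme.Hom.comp_preimage, Scheme.homOfLE_ι, Scheme.Hom.image_preimage_eq_opensRange_inf,
      Scheme.Opens.opensRange_ι] at h2
  let D : PicSpread.LocData j (f ⁻¹ᵁ U) := {
    M := (PicSpread.Mon U s hs).map (f.app U).hom
    compact := f.isCompact_preimage hU.isCompact
    top_le := fun y => by
      show f (j y) ∈ U
      rw [← Scheme.Hom.comp_apply, pullback.condition, Scheme.Hom.comp_apply]
      exact PicSpread.fromSpecStalk_preimage hs trivial
    inf := haff
    affine := fun hW h => PicSpread.isAffineOpen_preimage f s hs hU hW h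
    loc := fun {W} hW h => by
      have := PicSpread.isLocalization_preimage f s hs hU hW h
      exact (Submonoid.map_map (PicSpread.Mon U s hs) (AModX.resR h).toMonoidHom (f.app U).hom.toMonoidHom).symm ▸ this }
  obtain ⟨_, ⟨a, ha, rfl⟩, N, hN, ⟨e⟩⟩ := PicSpread.exists_descent D hL
  refine ⟨S.basicOpen a, PicSpread.mem_Mon.1 ha,
    (Scheme.Modules.pullback (f ⁻¹ᵁ S.basicOpen a).ι).obj N, ?_, fun i hi => ?_⟩
  · refine InvX.isInvertible_of_frames fun x => ?_
    obtain ⟨W, hxW, fr, hfr⟩ := hN x.1 ((Scheme.preimage_basicOpen f a).le x.2)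
    exact ⟨(f ⁻¹ᵁ S.basicOpen a).ι ⁻¹ᵁ W, hxW, _, InvX.isFrame_pullElt _ hfr⟩
  · exact ⟨(Scheme.Modules.pullbackComp i (f ⁻¹ᵁ S.basicOpen a).ι).app N ≪≫
      (Scheme.Modules.pullbackCongr hi).app N ≪≫ e⟩

end Groth.Agent.S17734
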