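import Groth.Statements.S17735
import Groth.Agent.H1Node.Fibral
import Groth.Agent.S2821

set_option autoImplicit false
universe u
open CAlg

namespace Groth.Agent.S17735

open IsLocalRing in
theorem core (R : Type u) [CommRing R] [IsRegularLocalRing R]
    [IsAdicComplete (maximalIdeal R) R]
    (r : R) (hr : r ≠ 0)
    (ι : (MvPolynomial (Fin 2) R ⧸ Ideal.span {(MvPolynomial.X 0 * MvPolynomial.X 1 - MvPolynomial.C r : MvPolynomial (Fin 2) R)}) →+*
      (MvPowerSeries (Fin 2) R ⧸ Ideal.span {(MvPowerSeries.X 0 * MvPowerSeries.X 1 - MvPowerSeries.C r : MvPowerSeries (Fin 2) R)}))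
    (hι : ι.comp (Ideal.Quotient.mk _) =
      (Ideal.Quotient.mk _).comp (MvPolynomial.coeToMvPowerSeries.ringHom : MvPolynomial (Fin 2) R →+* MvPowerSeries (Fin 2) R))
    (P : Ideal (MvPolynomial (Fin 2) R ⧸ Ideal.span {(MvPolynomial.X 0 * MvPolynomial.X 1 - MvPolynomial.C r : MvPolynomial (Fin 2) R)})) [P.IsPrime]
    (hP : P = Ideal.span {Ideal.Quotient.mk _ (MvPolynomial.X 0), Ideal.Quotient.mk _ (MvPolynomial.X 1)} ⊔
      (maximalIdeal R).map (algebraMap R _))
    (T : Type u) [CommRing T] [IsLocalRing T] [Algebra R T]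
    [Algebra (MvPolynomial (Fin 2) R ⧸ Ideal.span {(MvPolynomial.X 0 * MvPolynomial.X 1 - MvPolynomial.C r : MvPolynomial (Fin 2) R)}) T]
    [IsScalarTower R (MvPolynomial (Fin 2) R ⧸ Ideal.span {(MvPolynomial.X 0 * MvPolynomial.X 1 - MvPolynomial.C r : MvPolynomial (Fin 2) R)}) T]
    [IsLocalization.AtPrime T P]
    (φ : T →+* (MvPowerSeries (Fin 2) R ⧸ Ideal.span {(MvPowerSeries.X 0 * MvPowerSeries.X 1 - MvPowerSeries.C r : MvPowerSeries (Fin 2) R)}))
    (hφ : φ.comp (algebraMap _ T) = ι) :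
    Set.BijOn (fun 𝔓 => Ideal.comap φ 𝔓)
      {𝔓 | 𝔓.IsPrime ∧ 𝔓.height = 1 ∧ Ideal.comap (algebraMap R _) 𝔓 ≠ ⊥}
      {𝔮 : Ideal T | 𝔮.IsPrime ∧ 𝔮.height = 1 ∧ Ideal.comap (algebraMap R T) 𝔮 ≠ ⊥} := by
  classical
  obtain ⟨hRdom, hRufd⟩ := Groth.Agent.S2821.result R
  haveI := hRdom
  haveI := hRufd
  let relA : Ideal (MvPowerSeries (Fin 2) R) := Ideal.span {(MvPowerSeries.X 0 * MvPowerSeries.X 1 - MvPowerSeries.C r : MvPowerSeries (Fin 2) R)}
  let relB : Ideal (MvPolynomial (Fin 2) R) := Ideal.span {(MvPolynomial.X 0 * MvPolynomial.X 1 - MvPolynomial.C r : MvPolynomial (Fin 2) R)}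
  let A := MvPowerSeries (Fin 2) R ⧸ relA
  let B := MvPolynomial (Fin 2) R ⧸ relB
  have halgA : ∀ c : R, algebraMap R A c = Ideal.Quotient.mk relA (MvPowerSeries.C c) := fun c => by
    rw [MvPowerSeries.c_eq_algebraMap, Ideal.Quotient.mk_algebraMap]
  have halgB : ∀ c : R, algebraMap R B c = Ideal.Quotient.mk relB (MvPolynomial.C c) := fun c => by
    rw [← MvPolynomial.algebraMap_eq, Ideal.Quotient.mk_algebraMap]
  have hιp : ∀ p : MvPolynomial (Fin 2) R, ι (Ideal.Quotient.mk relB p) = Ideal.Quotient.mk relA (p : MvPowerSeries (Fin 2) R) :=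
    fun p => RingHom.congr_fun hι p
  have hφb : ∀ b : B, φ (algebraMap B T b) = ι b := fun b => RingHom.congr_fun hφ b
  have hφR : ∀ c : R, φ (algebraMap R T c) = algebraMap R A c := fun c => by
    rw [IsScalarTower.algebraMap_apply R B T, hφb, halgB, hιp, MvPolynomial.coe_C, ← halgA]
  have hXP : ∀ i : Fin 2, Ideal.Quotient.mk relB (MvPolynomial.X i) ∈ P := fun i => by
    rw [hP]
    refine Ideal.mem_sup_left (Ideal.subset_span ?_)
    fin_cases i
    · exact Set.mem_insert _ _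
    · exact Set.mem_insert_of_mem _ rfl
  have hxy : Ideal.Quotient.mk relB (MvPolynomial.X 0) * Ideal.Quotient.mk relB (MvPolynomial.X 1) = algebraMap R B r := by
    rw [halgB, ← map_mul, Ideal.Quotient.eq]
    exact Ideal.subset_span rfl
  have hrm : r ∈ maximalIdeal R := by
    by_contra hc
    refine (inferInstance : P.IsPrime).ne_top (P.eq_top_of_isUnit_mem ?_ ((IsLocalRing.notMem_maximalIdeal.1 hc).map (algebraMap R B)))
    rw [← hxy]
    exact Ideal.mul_mem_right _ _ (hXP 0)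
  haveI : IsDomain A := H1Node.isDomain_node R r hrm hr
  -- contraction of extended ideals
  have hcomap : ∀ J : Ideal T, (J.map φ).comap φ = J := by
    intro J
    refine le_antisymm (fun x hx => ?_) Ideal.le_comap_map
    by_cases hJ : J = ⊤
    · rw [hJ]; trivial
    obtain ⟨⟨b, s⟩, hbs⟩ := IsLocalization.surj P.primeCompl x
    let J0 : Ideal B := J.comap (algebraMap B T)
    have hmap : J.map φ = J0.map ι := by
      conv_lhs => rw [← IsLocalization.map_under P.primeCompl T J, Ideal.map_map, hφ]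
    have hb : b ∈ (J0.map ι).comap ι := by
      rw [Ideal.mem_comap, ← hmap, ← hφb, ← hbs, map_mul]
      exact Ideal.mul_mem_right _ _ hx
    have hn : ∀ n : ℕ, x ∈ J ⊔ maximalIdeal T ^ n := by
      intro n
      have h := Ideal.mem_map_of_mem (algebraMap B T) (H1Node.mem_sup_pow_of_coe_mem ι hι P J0 hXP n hb)
      rw [Ideal.map_sup, Ideal.map_pow, IsLocalization.AtPrime.map_eq_maximalIdeal P T] at h
      rw [← hbs] at h
      have h2 := (sup_le_sup_right Ideal.map_comap_le _ : _ ≤ J ⊔ maximalIdeal T ^ n) h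
      obtain ⟨u, hu⟩ := IsLocalization.map_units T s
      rw [← hu] at h2
      simpa using Ideal.mul_mem_right (↑u⁻¹ : T) _ h2
    haveI : Nontrivial (T ⧸ J) := Ideal.Quotient.nontrivial_iff.2 hJ
    haveI : IsLocalRing (T ⧸ J) := IsLocalRing.of_surjective' (Ideal.Quotient.mk J) Ideal.Quotient.mk_surjective
    haveI : IsNoetherianRing T := IsLocalization.isNoetherianRing P.primeCompl T inferInstance
    rw [← Ideal.Quotient.eq_zero_iff_mem, ← Ideal.mem_bot,
      ← Ideal.iInf_pow_eq_bot_of_isLocalRing (maximalIdeal (T ⧸ J)) (maximalIdeal.isMaximal _).ne_top, Ideal.mem_iInf]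
    intro n
    have h := Ideal.mem_map_of_mem (Ideal.Quotient.mk J) (hn n)
    rw [Ideal.map_sup, Ideal.map_quotient_self, bot_sup_eq, Ideal.map_pow,
      map_maximalIdeal_of_surjective _ Ideal.Quotient.mk_surjective] at h
    exact h
  haveI : IsNoetherianRing T := IsLocalization.isNoetherianRing P.primeCompl T inferInstance
  have hφinj : Function.Injective φ := by
    rw [RingHom.injective_iff_ker_eq_bot, RingHom.ker_eq_comap_bot, ← Ideal.map_bot (f := φ), hcomap]
  haveI : IsDomain T := hφinj.isDomain φ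
  -- candidates
  have hS : ∀ π : R, Prime π → ∃ S : Set (Ideal T), (∀ J ∈ S, (J.map φ).IsPrime ∧ algebraMap R T π ∈ J) ∧
      (∀ Q : Ideal A, Q.IsPrime → algebraMap R A π ∈ Q → ∃ J ∈ S, J.map φ ≤ Q) ∧
      (∀ Q : Ideal T, Q.IsPrime → algebraMap R T π ∈ Q → ∃ J ∈ S, J ≤ Q) ∧
      (∀ J ∈ S, ∀ J' ∈ S, J' ≤ J → J' = J) := by
    intro π hπ
    by_cases hπr : π ∣ r
    · let tX : Fin 2 → T := fun i => algebraMap B T (Ideal.Quotient.mk relB (MvPolynomial.X i))
      let J : Fin 2 → Ideal T := fun i => Ideal.span {algebraMap R T π, tX i}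
      have htX : ∀ i, φ (tX i) = Ideal.Quotient.mk relA (MvPowerSeries.X i) := fun i => by
        rw [hφb, hιp, MvPolynomial.coe_X]
      have hJ : ∀ i, (J i).map φ = Ideal.span {Ideal.Quotient.mk relA (MvPowerSeries.C π), Ideal.Quotient.mk relA (MvPowerSeries.X i)} :=
        fun i => by rw [Ideal.map_span, Set.image_pair, htX, hφR, halgA]
      have hxyT : tX 0 * tX 1 = algebraMap R T r := by
        rw [IsScalarTower.algebraMap_apply R B T, ← hxy, map_mul]
      have hne : ∀ i j, i ≠ j → ¬ J j ≤ J i := fun i j hij h => by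
        refine (H1Node.isPrime_span_C_X hπ hπr hij).2 ?_
        rw [← hJ, ← htX]
        exact Ideal.mem_map_of_mem φ (h (Ideal.subset_span (Set.mem_insert_of_mem _ rfl)))
      refine ⟨Set.range J, ?_, fun Q hQ hπQ => ?_, fun Q hQ hπQ => ?_, ?_⟩
      · rintro _ ⟨i, rfl⟩
        refine ⟨?_, Ideal.subset_span (Set.mem_insert _ _)⟩
        obtain ⟨j, hij⟩ : ∃ j, i ≠ j := ⟨1 - i, by fin_cases i <;> decide⟩
        rw [hJ]
        exact (H1Node.isPrime_span_C_X hπ hπr hij).1
      · have h : φ (tX 0 * tX 1) ∈ Q := by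
          rw [hxyT, hφR]
          obtain ⟨c, hc⟩ := hπr
          rw [show algebraMap R A r = algebraMap R A π * algebraMap R A c by rw [← map_mul]; exact congrArg _ hc]
          exact Ideal.mul_mem_right _ _ hπQ
        rw [map_mul] at h
        obtain ⟨i, hi⟩ : ∃ i, φ (tX i) ∈ Q := (hQ.mem_or_mem h).elim (fun h => ⟨0, h⟩) (fun h => ⟨1, h⟩)
        refine ⟨J i, ⟨i, rfl⟩, ?_⟩
        rw [Ideal.map_le_iff_le_comap, Ideal.span_le]
        rintro _ (rfl | rfl)
        · rw [SetLike.mem_coe, Ideal.mem_comap, hφR]; exact hπQ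
        · exact hi
      · have h : tX 0 * tX 1 ∈ Q := by
          rw [hxyT]
          obtain ⟨c, hc⟩ := hπr
          rw [show algebraMap R T r = algebraMap R T π * algebraMap R T c by rw [← map_mul]; exact congrArg _ hc]
          exact Ideal.mul_mem_right _ _ hπQ
        obtain ⟨i, hi⟩ : ∃ i, tX i ∈ Q := (hQ.mem_or_mem h).elim (fun h => ⟨0, h⟩) (fun h => ⟨1, h⟩)
        refine ⟨J i, ⟨i, rfl⟩, Ideal.span_le.2 ?_⟩
        rintro _ (rfl | rfl)
        · exact hπQ
        · exact hi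
      · rintro _ ⟨i, rfl⟩ _ ⟨j, rfl⟩ hle
        by_cases hij : i = j
        · rw [hij]
        · exact absurd hle (hne i j hij)
    · refine ⟨{Ideal.span {algebraMap R T π}}, ?_, fun Q hQ hπQ => ⟨_, rfl, ?_⟩, fun Q hQ hπQ => ⟨_, rfl, ?_⟩, ?_⟩
      · rintro _ rfl
        refine ⟨?_, Ideal.mem_span_singleton_self _⟩
        rw [Ideal.map_span, Set.image_singleton, hφR, halgA]
        exact H1Node.isPrime_span_C hπ hrm hπr
      · rw [Ideal.map_span, Set.image_singleton, hφR, Ideal.span_le, Set.singleton_subset_iff]; exact hπQ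
      · exact Ideal.span_le.2 (Set.singleton_subset_iff.2 hπQ)
      · rintro _ rfl _ rfl _; rfl
  have hinjA : ∀ π : R, π ≠ 0 → algebraMap R A π ≠ 0 := by
    intro π h0 h
    refine h0 ?_
    rw [halgA, Ideal.Quotient.eq_zero_iff_mem] at h
    have hc := SpinNodeLib.coordMv_rel (I := maximalIdeal R) (π := r) hrm
    obtain ⟨c, hcc⟩ := Ideal.mem_span_singleton.1 h
    have h0' := congrFun (hc c) 0
    rw [← hcc] at h0'
    refine Eq.trans ?_ h0'
    symm
    refine SpinNodeLib.piSum_eq hrm _ _ fun n => ?_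
    rcases n with _ | n
    · simp
    · rw [Finset.sum_range_succ', Finset.sum_eq_zero (fun k _ => by
        simp only [SpinNodeLib.diag, MvPowerSeries.coeff_C]
        rw [if_neg, mul_zero]
        intro hh
        simpa using DFunLike.congr_fun hh 0), zero_add]
      simp [SpinNodeLib.diag, MvPowerSeries.coeff_C, SpinNodeLib.ex]
  have hinjT : ∀ π : R, π ≠ 0 → algebraMap R T π ≠ 0 := fun π h0 h => hinjA π h0 (by rw [← hφR, h, map_zero])
  -- height one fibral primes are the candidates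
  have hA : ∀ 𝔓 : Ideal A, 𝔓.IsPrime → 𝔓.height = 1 → Ideal.comap (algebraMap R A) 𝔓 ≠ ⊥ →
      ∃ J : Ideal T, J.map φ = 𝔓 ∧ J.IsPrime ∧ J.height = 1 ∧ Ideal.comap (algebraMap R T) J ≠ ⊥ := by
    intro 𝔓 hp hh hne
    haveI : (Ideal.comap (algebraMap R A) 𝔓).IsPrime := Ideal.IsPrime.comap _
    obtain ⟨π, hπ𝔓, hπ⟩ := Ideal.IsPrime.exists_mem_prime_of_ne_bot inferInstance hne
    obtain ⟨S, h1, h2, h3, h4⟩ := hS π hπ
    obtain ⟨J, hJS, hJle⟩ := h2 𝔓 hp hπ𝔓
    haveI := (h1 J hJS).1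
    have hJp : J.IsPrime := hcomap J ▸ Ideal.IsPrime.comap φ
    refine ⟨J, H1Node.eq_of_le_of_height_eq_one (fun h => hinjA π hπ.ne_zero ?_) hJle hh, hJp, ?_, ?_⟩
    · have := Ideal.mem_map_of_mem φ (h1 J hJS).2
      rwa [h, Ideal.mem_bot, hφR] at this
    · refine H1Node.height_eq_one (hinjT π hπ.ne_zero) J (h1 J hJS).2 fun Q hQ hc hle => ?_
      obtain ⟨J', hJ', hle'⟩ := h3 Q hQ hc
      exact (h4 J hJS J' hJ' (hle'.trans hle)).symm.le.trans hle'
    · exact fun h => hπ.ne_zero (by rw [← Ideal.mem_bot, ← h]; exact (h1 J hJS).2)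
  refine ⟨fun 𝔓 hmem => ?_, fun 𝔓 hmem 𝔔 hmem' heq => ?_, fun 𝔮 hmem => ?_⟩
  · obtain ⟨J, hJ, hp, hh, hne⟩ := hA 𝔓 hmem.1 hmem.2.1 hmem.2.2
    show Ideal.comap φ 𝔓 ∈ _
    rw [← hJ, hcomap]
    exact ⟨hp, hh, hne⟩
  · obtain ⟨J, rfl, -⟩ := hA 𝔓 hmem.1 hmem.2.1 hmem.2.2
    obtain ⟨J', rfl, -⟩ := hA 𝔔 hmem'.1 hmem'.2.1 hmem'.2.2
    simp only [hcomap] at heq
    rw [heq]
  · obtain ⟨hp, hh, hne⟩ := hmem
    haveI := hp
    haveI : (Ideal.comap (algebraMap R T) 𝔮).IsPrime := Ideal.IsPrime.comap _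
    obtain ⟨π, hπq, hπ⟩ := Ideal.IsPrime.exists_mem_prime_of_ne_bot inferInstance hne
    obtain ⟨S, h1, h2, h3, h4⟩ := hS π hπ
    obtain ⟨J, hJS, hJle⟩ := h3 𝔮 hp hπq
    haveI := (h1 J hJS).1
    haveI hJp : J.IsPrime := hcomap J ▸ Ideal.IsPrime.comap φ
    obtain rfl := H1Node.eq_of_le_of_height_eq_one (fun h => hinjT π hπ.ne_zero (by
      have := (h1 J hJS).2
      rwa [h, Ideal.mem_bot] at this)) hJle hh
    have hπA : algebraMap R A π ∈ J.map φ := hφR π ▸ Ideal.mem_map_of_mem φ (h1 J hJS).2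
    refine ⟨J.map φ, ⟨inferInstance, ?_, fun h => hπ.ne_zero (by rw [← Ideal.mem_bot, ← h]; exact hπA)⟩, hcomap J⟩
    refine H1Node.height_eq_one (hinjA π hπ.ne_zero) _ hπA fun Q hQ hc hle => ?_
    obtain ⟨J', hJ', hle'⟩ := h2 Q hQ hc
    have hJJ : J' ≤ J := by
      rw [← hcomap J', ← hcomap J]
      exact Ideal.comap_mono (hle'.trans hle)
    rw [h4 J hJS J' hJ' hJJ] at hle'
    exact hle'

open IsLocalRing in
/-- Let R be a regular local ring complete for its maximal ideal, r a non-zero element of R, A the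
quotient of the power series ring in x, y over R by xy − r, B the quotient of the polynomial ring in
x, y over R by xy − r, ι : B → A the natural map, P the ideal of B generated by x, y and the maximal
ideal of R, à the localization of B at P and φ : à → A the map extending ι. Call a prime of height
one of A (or of Ã) fibral when it contains a non-zero element of R. Then contraction along φ is a
bijection from the set of fibral height-one primes of A onto the set of fibral height-one primes of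
Ã; equivalently it induces an isomorphism between the free abelian groups of fibral Weil divisors. -/
theorem result
    (R : Type u) [CommRing R] [IsRegularLocalRing R]
    [IsAdicComplete (maximalIdeal R) R]
    (r : R) (hr : r ≠ 0)
    (ι : (MvPolynomial (Fin 2) R ⧸ Ideal.span {(MvPolynomial.X 0 * MvPolynomial.X 1 - MvPolynomial.C r : MvPolynomial (Fin 2) R)}) →+*
      (MvPowerSeries (Fin 2) R ⧸ Ideal.span {(MvPowerSeries.X 0 * MvPowerSeries.X 1 - MvPowerSeries.C r : MvPowerSeries (Fin 2) R)}))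
    (hι : ι.comp (Ideal.Quotient.mk _) =
      (Ideal.Quotient.mk _).comp (MvPolynomial.coeToMvPowerSeries.ringHom : MvPolynomial (Fin 2) R →+* MvPowerSeries (Fin 2) R))
    (P : Ideal (MvPolynomial (Fin 2) R ⧸ Ideal.span {(MvPolynomial.X 0 * MvPolynomial.X 1 - MvPolynomial.C r : MvPolynomial (Fin 2) R)})) [P.IsPrime]
    (hP : P = Ideal.span {Ideal.Quotient.mk _ (MvPolynomial.X 0), Ideal.Quotient.mk _ (MvPolynomial.X 1)} ⊔
      (maximalIdeal R).map (algebraMap R _))
    (φ : Localization.AtPrime P →+* (MvPowerSeries (Fin 2) R ⧸ Ideal.span {(MvPowerSeries.X 0 * MvPowerSeries.X 1 - MvPowerSeries.C r : MvPowerSeries (Fin 2) R)}))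
    (hφ : φ.comp (algebraMap _ (Localization.AtPrime P)) = ι) :
    Set.BijOn (fun 𝔓 => Ideal.comap φ 𝔓)
      {𝔓 | 𝔓.IsPrime ∧ 𝔓.height = 1 ∧ Ideal.comap (algebraMap R _) 𝔓 ≠ ⊥}
      {𝔮 : Ideal (Localization.AtPrime P) | 𝔮.IsPrime ∧ @Ideal.height (Localization.AtPrime P) _ 𝔮 = 1 ∧ Ideal.comap (algebraMap R (Localization.AtPrime P)) 𝔮 ≠ ⊥} := by
  exact core R r hr ι hι P hP (Localization.AtPrime P) φ hφ

end Groth.Agent.S17735
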