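import Groth.Statements.S17737
import Groth.Agent.FlatLoc6.Cpl
import Mathlib

set_option autoImplicit false
universe u
open DualGr

namespace Groth.Agent.S17737

open MvPowerSeries IsLocalRing

variable {S : Type u} [CommRing S]

/-- The linear coefficient. -/
noncomputable def lin (i : Fin 2) : MvPowerSeries (Fin 2) S →ₗ[S] S := coeff (Finsupp.single i 1)

theorem lin_mul (i : Fin 2) (f g : MvPowerSeries (Fin 2) S) :
    lin i (f * g) = constantCoeff f * lin i g + lin i f * constantCoeff g := by
  classical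
  rw [lin, coeff_mul, Finsupp.antidiagonal_single, Finset.sum_map]
  rw [show Finset.HasAntidiagonal.antidiagonal 1 = ({(0, 1), (1, 0)} : Finset (ℕ × ℕ)) from rfl]
  simp

theorem lin_X (i j : Fin 2) : lin (S := S) i (X j) = if i = j then 1 else 0 := by
  classical
  rw [lin, coeff_index_single_X]

theorem lin_C (i : Fin 2) (c : S) : lin i (C c : MvPowerSeries (Fin 2) S) = 0 := by
  classical
  rw [lin, coeff_C, if_neg (by simp)]

/-- The equation of a node. -/
noncomputable def eqn (b : S) : MvPowerSeries (Fin 2) S := X 0 * X 1 - C b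

theorem constantCoeff_eqn (b : S) : constantCoeff (eqn b) = -b := by simp [eqn]

theorem lin_eqn (i : Fin 2) (b : S) : lin i (eqn b) = 0 := by
  simp [eqn, lin_mul, lin_C]

theorem exists_decomp (f : MvPowerSeries (Fin 2) S) :
    ∃ g0 g1, f = C (constantCoeff f) + X 0 * g0 + X 1 * g1 := by
  classical
  let h : MvPowerSeries (Fin 2) S := fun n => if n 0 = 0 ∧ n 1 ≠ 0 then coeff n f else 0
  have hh : ∀ n, coeff n h = if n 0 = 0 ∧ n 1 ≠ 0 then coeff n f else 0 := fun n => rfl
  obtain ⟨g1, hg1⟩ : X 1 ∣ h := X_dvd_iff.2 fun n hn => by rw [hh, if_neg (fun h' => h'.2 hn)]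
  obtain ⟨g0, hg0⟩ : X 0 ∣ f - C (constantCoeff f) - h := X_dvd_iff.2 fun n hn => by
    rw [map_sub, map_sub, hh, coeff_C]
    by_cases h1 : n 1 = 0
    · have : n = 0 := Finsupp.ext fun i => by fin_cases i <;> simpa
      subst this
      simp
    · rw [if_neg (fun h' : n = 0 => h1 (by rw [h']; rfl)), if_pos (And.intro hn h1)]
      ring
  exact ⟨g0, g1, by rw [← hg0, ← hg1]; ring⟩

/-- Two node presentations with compatible constants: the first thickness lies in the ideal of the second. -/
theorem mem_of_iso [IsLocalRing S] {R : Type u} [CommRing R] [IsLocalRing R] (σ : R →+* S)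
    (hσ : (maximalIdeal R).map σ = maximalIdeal S) (a b : R) (ha : a ∈ maximalIdeal R) (hb : b ∈ maximalIdeal R)
    (ψ : (MvPowerSeries (Fin 2) S ⧸ Ideal.span {eqn (σ a)}) ≃+*
      (MvPowerSeries (Fin 2) S ⧸ Ideal.span {eqn (σ b)}))
    (hψ : ∀ r : R, ψ (Ideal.Quotient.mk _ (C (σ r))) = Ideal.Quotient.mk _ (C (σ r))) :
    σ a ∈ Ideal.span {σ b} := by
  have hσm : ∀ r ∈ maximalIdeal R, σ r ∈ maximalIdeal S := fun r hr => hσ ▸ Ideal.mem_map_of_mem σ hr
  choose L hL using fun f : MvPowerSeries (Fin 2) S =>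
    Ideal.Quotient.mk_surjective (ψ (Ideal.Quotient.mk (Ideal.span {eqn (σ a)}) f))
  have hrel : ∀ f g : MvPowerSeries (Fin 2) S,
      Ideal.Quotient.mk (Ideal.span {eqn (σ b)}) f = Ideal.Quotient.mk (Ideal.span {eqn (σ b)}) g →
      ∃ H, f = g + H * eqn (σ b) := fun f g h => by
    obtain ⟨H, hH⟩ := Ideal.mem_span_singleton'.1 (Ideal.Quotient.eq.1 h)
    exact ⟨H, by rw [hH]; ring⟩
  have hnu : ∀ F j, Ideal.Quotient.mk (Ideal.span {eqn (σ b)}) F = ψ (Ideal.Quotient.mk _ (X j)) →
      constantCoeff F ∈ maximalIdeal S := by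
    intro F j hF
    by_contra hn
    have hu : IsUnit F := MvPowerSeries.isUnit_iff_constantCoeff.2 (by simpa [mem_nonunits_iff] using hn)
    have h1 := (hu.map (Ideal.Quotient.mk (Ideal.span {eqn (σ b)}))).map ψ.symm
    rw [hF, RingEquiv.symm_apply_apply] at h1
    obtain ⟨w, hw⟩ := h1.exists_right_inv
    obtain ⟨w, rfl⟩ := Ideal.Quotient.mk_surjective w
    rw [← map_mul, ← map_one (Ideal.Quotient.mk _)] at hw
    obtain ⟨H, hH⟩ := Ideal.mem_span_singleton'.1 (Ideal.Quotient.eq.1 hw)
    have h2 := congrArg (fun t => constantCoeff t) hH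
    simp only [map_mul, map_sub, map_one, constantCoeff_eqn, constantCoeff_X, zero_mul, zero_sub] at h2
    exact (maximalIdeal.isMaximal S).ne_top ((Ideal.eq_top_iff_one _).2 (by
      have : (1 : S) = constantCoeff H * σ a := by linear_combination h2
      rw [this]; exact Ideal.mul_mem_left _ _ (hσm a ha)))
  let F := L (X 0)
  let G := L (X 1)
  let r := constantCoeff F
  let s := constantCoeff G
  have hr : r ∈ maximalIdeal S := hnu F 0 (hL _)
  have hs : s ∈ maximalIdeal S := hnu G 1 (hL _)
  -- constants from the maximal ideal die modulo the maximal ideal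
  have hC : ∀ c ∈ maximalIdeal S, ∀ T, Ideal.Quotient.mk (Ideal.span {eqn (σ b)}) T =
      ψ (Ideal.Quotient.mk _ (C c)) → ∀ i, lin i T ∈ maximalIdeal S := by
    intro c hc
    rw [← hσ] at hc
    refine Submodule.span_induction (p := fun c _ => ∀ T, Ideal.Quotient.mk (Ideal.span {eqn (σ b)}) T =
      ψ (Ideal.Quotient.mk _ (C c)) → ∀ i, lin i T ∈ maximalIdeal S) ?_ ?_ ?_ ?_ hc
    · rintro _ ⟨m, -, rfl⟩ T hT i
      rw [hψ] at hT
      obtain ⟨H, rfl⟩ := hrel _ _ hT
      rw [map_add, lin_C, lin_mul, lin_eqn, constantCoeff_eqn, zero_add, mul_zero, zero_add, mul_neg]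
      exact neg_mem (Ideal.mul_mem_left _ _ (hσm b hb))
    · intro T hT i
      rw [map_zero, map_zero, map_zero, ← map_zero (Ideal.Quotient.mk _)] at hT
      obtain ⟨H, rfl⟩ := hrel _ _ hT
      rw [map_add, map_zero, lin_mul, lin_eqn, constantCoeff_eqn, zero_add, mul_zero, zero_add, mul_neg]
      exact neg_mem (Ideal.mul_mem_left _ _ (hσm b hb))
    · intro x y _ _ hx hy T hT i
      rw [map_add, map_add, map_add, ← hL (C x), ← hL (C y), ← map_add] at hT
      obtain ⟨H, rfl⟩ := hrel _ _ hT
      rw [map_add, map_add, lin_mul, lin_eqn, constantCoeff_eqn, mul_zero, zero_add, mul_neg]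
      exact add_mem (add_mem (hx _ (hL _) i) (hy _ (hL _) i)) (neg_mem (Ideal.mul_mem_left _ _ (hσm b hb)))
    · intro t x hxm hx T hT i
      rw [smul_eq_mul, map_mul, map_mul, map_mul, ← hL (C t), ← hL (C x), ← map_mul] at hT
      obtain ⟨H, rfl⟩ := hrel _ _ hT
      rw [map_add, lin_mul, lin_mul, lin_eqn, constantCoeff_eqn, mul_zero, zero_add, mul_neg]
      refine add_mem (add_mem (Ideal.mul_mem_left _ _ (hx _ (hL _) i)) (Ideal.mul_mem_left _ _ ?_))
        (neg_mem (Ideal.mul_mem_left _ _ (hσm b hb)))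
      by_contra hn
      have hu : IsUnit (L (C x)) := MvPowerSeries.isUnit_iff_constantCoeff.2 (by simpa [mem_nonunits_iff] using hn)
      have h1 := (hu.map (Ideal.Quotient.mk (Ideal.span {eqn (σ b)}))).map ψ.symm
      rw [hL, RingEquiv.symm_apply_apply] at h1
      obtain ⟨w, hw⟩ := h1.exists_right_inv
      obtain ⟨w, rfl⟩ := Ideal.Quotient.mk_surjective w
      rw [← map_mul, ← map_one (Ideal.Quotient.mk _)] at hw
      obtain ⟨H, hH⟩ := Ideal.mem_span_singleton'.1 (Ideal.Quotient.eq.1 hw)
      have h2 := congrArg (fun t => constantCoeff t) hH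
      simp only [map_mul, map_sub, map_one, constantCoeff_eqn, constantCoeff_C] at h2
      have hxS : x ∈ maximalIdeal S := hσ ▸ hxm
      exact (maximalIdeal.isMaximal S).ne_top ((Ideal.eq_top_iff_one _).2 (by
        have : (1 : S) = x * constantCoeff w + constantCoeff H * σ a := by linear_combination h2
        rw [this]
        exact add_mem (Ideal.mul_mem_right _ _ hxS) (Ideal.mul_mem_left _ _ (hσm a ha))))
  -- the linear parts of the images of the coordinates span modulo the maximal ideal
  let π := IsLocalRing.residue S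
  have hspan : ∀ j : Fin 2, ∃ p q : S, ∀ i, π (p * lin i F + q * lin i G) = π (if i = j then 1 else 0) := by
    intro j
    obtain ⟨g, hg⟩ := Ideal.Quotient.mk_surjective (ψ.symm (Ideal.Quotient.mk _ (X j)))
    obtain ⟨g0, g1, hg'⟩ := exists_decomp g
    have hgc : constantCoeff g ∈ maximalIdeal S := by
      by_contra hn
      have hu : IsUnit g := MvPowerSeries.isUnit_iff_constantCoeff.2 (by simpa [mem_nonunits_iff] using hn)
      have h1 := (hu.map (Ideal.Quotient.mk (Ideal.span {eqn (σ a)}))).map ψ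
      rw [hg, RingEquiv.apply_symm_apply] at h1
      obtain ⟨w, hw⟩ := h1.exists_right_inv
      obtain ⟨w, rfl⟩ := Ideal.Quotient.mk_surjective w
      rw [← map_mul, ← map_one (Ideal.Quotient.mk _)] at hw
      obtain ⟨H, hH⟩ := Ideal.mem_span_singleton'.1 (Ideal.Quotient.eq.1 hw)
      have h2 := congrArg (fun t => constantCoeff t) hH
      simp only [map_mul, map_sub, map_one, constantCoeff_eqn, constantCoeff_X, zero_mul, zero_sub] at h2
      exact (maximalIdeal.isMaximal S).ne_top ((Ideal.eq_top_iff_one _).2 (by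
        have : (1 : S) = constantCoeff H * σ b := by linear_combination h2
        rw [this]; exact Ideal.mul_mem_left _ _ (hσm b hb)))
    have h3 : Ideal.Quotient.mk (Ideal.span {eqn (σ b)}) (X j) =
        Ideal.Quotient.mk _ (L (C (constantCoeff g)) + F * L g0 + G * L g1) := by
      have h4 := congrArg (fun t => ψ (Ideal.Quotient.mk (Ideal.span {eqn (σ a)}) t)) hg'
      simp only [map_add, map_mul, hg, RingEquiv.apply_symm_apply] at h4
      simp only [map_add, map_mul, F, G, hL]
      exact h4
    obtain ⟨H, hH⟩ := hrel _ _ h3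
    refine ⟨constantCoeff (L g0), constantCoeff (L g1), fun i => ?_⟩
    have h5 := congrArg (fun t => π (lin i t)) hH
    have z1 := (IsLocalRing.residue_eq_zero_iff _).2 (hC _ hgc _ (hL _) i)
    have z2 := (IsLocalRing.residue_eq_zero_iff _).2 hr
    have z3 := (IsLocalRing.residue_eq_zero_iff _).2 hs
    have z4 := (IsLocalRing.residue_eq_zero_iff _).2 (hσm b hb)
    simp only [lin_X, map_add, lin_mul, lin_eqn, constantCoeff_eqn, map_mul, map_neg, mul_zero, zero_add, r, s] at h5 z2 z3
    simp only [π] at h5 ⊢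
    rw [z1, z2, z3, z4] at h5
    simp only [map_add, map_mul]
    rw [h5]; ring
  obtain ⟨p, q, hpq⟩ := hspan 0
  obtain ⟨p', q', hpq'⟩ := hspan 1
  have hdet : IsUnit (lin 0 F * lin 1 G - lin 1 F * lin 0 G) := by
    have h00 := hpq 0
    have h01 := hpq 1
    have h10 := hpq' 0
    have h11 := hpq' 1
    simp only [if_pos, map_one, map_zero, map_add, map_mul, show ¬ ((1 : Fin 2) = 0) from by decide,
      show ¬ ((0 : Fin 2) = 1) from by decide, if_false] at h00 h01 h10 h11
    by_contra hn
    have hz : π (lin 0 F * lin 1 G - lin 1 F * lin 0 G) = 0 :=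
      (IsLocalRing.residue_eq_zero_iff _).2 ((IsLocalRing.mem_maximalIdeal _).2 hn)
    simp only [map_sub, map_mul] at hz
    refine one_ne_zero (α := ResidueField S) ?_
    linear_combination (π p' * π (lin 1 F) + π q' * π (lin 1 G)) * (-1 : ResidueField S) * h00 - h11 +
      (π p' * π (lin 0 F) + π q' * π (lin 0 G)) * h01 + (π p * π q' - π p' * π q) * hz
  have hmul : Ideal.Quotient.mk (Ideal.span {eqn (σ b)}) (F * G) = Ideal.Quotient.mk _ (C (σ a)) := by
    rw [map_mul, hL, hL, ← map_mul, ← map_mul, ← hψ a]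
    exact congrArg ψ (Ideal.Quotient.eq.2 (Ideal.mem_span_singleton'.2 ⟨1, one_mul _⟩))
  obtain ⟨H, hH⟩ := hrel _ _ hmul
  have e0 := congrArg (fun t => constantCoeff t) hH
  have el := fun i => congrArg (fun t => lin i t) hH
  simp only [map_mul, map_add, constantCoeff_C, constantCoeff_eqn] at e0
  simp only [map_add, lin_mul, lin_C, lin_eqn, constantCoeff_eqn, mul_zero, zero_add] at el
  have hrdet : r * (lin 0 F * lin 1 G - lin 1 F * lin 0 G) ∈ Ideal.span {σ b} := by
    refine Ideal.mem_span_singleton'.2 ⟨-(lin 0 F * lin 1 H) + lin 1 F * lin 0 H, ?_⟩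
    linear_combination (lin 1 F) * el 0 - (lin 0 F) * el 1
  have hrb : r ∈ Ideal.span {σ b} := (Ideal.mul_unit_mem_iff_mem _ hdet).1 hrdet
  have : σ a = r * s + constantCoeff H * σ b := by linear_combination -e0
  rw [this]
  exact add_mem (Ideal.mul_mem_right _ _ hrb) (Ideal.mem_span_singleton'.2 ⟨_, rfl⟩)

open IsLocalRing in
/-- Let R be a Noetherian local ring, A a local ring with a ring map φ : R → A, and a, b two elements of
the maximal ideal of R such that A is formally a node over R both of thickness (a) and of thickness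
(b): the completion of A is isomorphic, compatibly with R, to R̂[[x,y]]/(xy − a) and also to
R̂[[x,y]]/(xy − b). Then aR = bR. (This is the uniqueness assertion: the element in a node
presentation is not unique but the principal ideal it generates is; it is stated for presentations
with the element taken in R, whose ideal in R is then determined.) -/
theorem result
    (R A : Type u) [CommRing R] [IsLocalRing R] [IsNoetherianRing R] [CommRing A] [IsLocalRing A]
    (φ : R →+* A) (a b : R) (ha : a ∈ maximalIdeal R) (hb : b ∈ maximalIdeal R)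
    (h₁ : DualGr.IsThickNode φ a) (h₂ : DualGr.IsThickNode φ b) :
    Ideal.span {a} = Ideal.span {b} := by
  obtain ⟨e₁, he₁⟩ := h₁
  obtain ⟨e₂, he₂⟩ := h₂
  haveI : IsLocalRing (Curv2.cpl R) := FlatLoc6.isLocalRing_cpl R
  haveI : Module.FaithfullyFlat R (Curv2.cpl R) := FlatLoc6.faithfullyFlat_cpl R
  have hσ : (maximalIdeal R).map (algebraMap R (Curv2.cpl R)) = maximalIdeal (Curv2.cpl R) :=
    (AdicCompletion.maximalIdeal_eq_map_of_fg (IsNoetherian.noetherian _)).symm
  have main : ∀ (a b : R) (ha : a ∈ maximalIdeal R) (hb : b ∈ maximalIdeal R) (e : Curv2.cpl A ≃+* nodeRing R a)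
      (he : ∀ r : R, e (algebraMap A (Curv2.cpl A) (φ r)) =
        Ideal.Quotient.mk _ (MvPowerSeries.C (algebraMap R (Curv2.cpl R) r)))
      (e' : Curv2.cpl A ≃+* nodeRing R b)
      (he' : ∀ r : R, e' (algebraMap A (Curv2.cpl A) (φ r)) =
        Ideal.Quotient.mk _ (MvPowerSeries.C (algebraMap R (Curv2.cpl R) r))),
      a ∈ Ideal.span {b} := fun a b ha hb e he e' he' => by
    rw [← Ideal.comap_map_eq_self_of_faithfullyFlat (B := Curv2.cpl R) (Ideal.span {b}), Ideal.mem_comap,
      Ideal.map_span, Set.image_singleton]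
    refine mem_of_iso (algebraMap R (Curv2.cpl R)) hσ a b ha hb (e.symm.trans e') fun r => ?_
    show e' (e.symm (Ideal.Quotient.mk _ (MvPowerSeries.C (algebraMap R (Curv2.cpl R) r)))) = _
    rw [← he r, RingEquiv.symm_apply_apply, he' r]
    rfl
  exact le_antisymm (Ideal.span_le.2 (Set.singleton_subset_iff.2 (main a b ha hb e₁ he₁ e₂ he₂)))
    (Ideal.span_le.2 (Set.singleton_subset_iff.2 (main b a hb ha e₂ he₂ e₁ he₁)))

end Groth.Agent.S17737
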