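import Groth.Statements.S17759
import Groth.Statements.S17759
import Groth.Agent.LC.DualDim
import Groth.Agent.LC.HlvtMain
import Groth.Agent.LC.HTensor
import Groth.Agent.LC.CdBase
import Groth.Agent.S2935
import Groth.Agent.S11625

set_option linter.unusedSectionVars false
set_option linter.style.haveILetI false
open CategoryTheory IsLocalRing Groth.Agent.LC

set_option autoImplicit false
universe u
open LocCoh

namespace Groth.Agent.S17759

section Aux

variable {R : Type u} [CommRing R] [IsNoetherianRing R] [IsLocalRing R]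

theorem map_eq_zero_of_sum {p : Ideal R} {H E : Type u} [AddCommGroup H] [Module R H] [AddCommGroup E]
    [Module R E] (φ : H →ₗ[R] E) (hp : ∀ a ∈ p, a • φ = 0) {k : ℕ} (t : Fin k → p × H) :
    φ (∑ i, ((t i).1 : R) • (t i).2) = 0 := by
  rw [map_sum]
  refine Finset.sum_eq_zero fun i _ => ?_
  rw [map_smul, ← LinearMap.smul_apply, hp _ (t i).1.2]
  rfl

theorem mem_smul_H (I : Ideal R) (n : ℕ) (M : Type u) [AddCommGroup M] [Module R M] [Module.Finite R M]
    (p : Ideal R) (hn : Module.supportDim R M ≤ n)
    (hs : Subsingleton (LocCoh.H I n (M ⧸ p • (⊤ : Submodule R M)))) (z : LocCoh.H I n M) :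
    ∃ t : Fin (Submodule.fg_iff_exists_fin_generating_family.1 (IsNoetherian.noetherian p)).choose →
      p × LocCoh.H I n M, (∑ i, ((t i).1 : R) • (t i).2) = z := by
  classical
  let k := (Submodule.fg_iff_exists_fin_generating_family.1 (IsNoetherian.noetherian p)).choose
  obtain ⟨x, hx⟩ := (Submodule.fg_iff_exists_fin_generating_family.1 (IsNoetherian.noetherian p)).choose_spec
  have hxp : ∀ i, x i ∈ p := fun i => hx ▸ Submodule.subset_span ⟨i, rfl⟩
  let π : (Fin k → M) →ₗ[R] M := ∑ i, x i • LinearMap.proj i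
  have hπ : LinearMap.range π = p • (⊤ : Submodule R M) := by
    refine le_antisymm ?_ (Submodule.smul_le.2 fun a ha m _ => ?_)
    · rintro _ ⟨v, rfl⟩
      rw [LinearMap.sum_apply]
      exact Submodule.sum_mem _ fun i _ => Submodule.smul_mem_smul (hxp i) trivial
    · rw [← hx] at ha
      induction ha using Submodule.span_induction with
      | mem a ha =>
        obtain ⟨i, rfl⟩ := ha
        exact ⟨Pi.single i m, by simp [π, LinearMap.sum_apply, Pi.single_apply, smul_ite]⟩
      | zero => simp
      | add a b _ _ h1 h2 => rw [add_smul]; exact add_mem h1 h2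
      | smul r a _ h1 => rw [smul_eq_mul, mul_smul]; exact Submodule.smul_mem _ r h1
  let N := LinearMap.range π
  let S : ShortComplex (ModuleCat.{u} R) := ShortComplex.mk
    (X₁ := ModuleCat.of R N) (X₂ := ModuleCat.of R M) (X₃ := ModuleCat.of R (M ⧸ N))
    (ModuleCat.ofHom N.subtype) (ModuleCat.ofHom N.mkQ)
    (ModuleCat.hom_ext (LinearMap.ext fun z => (Submodule.Quotient.mk_eq_zero _).2 z.2))
  have hS : S.ShortExact :=
    { exact := (ShortComplex.ShortExact.moduleCat_exact_iff_function_exact _).2 (LinearMap.exact_subtype_mkQ _)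
      mono_f := (ModuleCat.mono_iff_injective _).2 Subtype.val_injective
      epi_g := (ModuleCat.epi_iff_surjective _).2 (Submodule.mkQ_surjective _) }
  haveI : Subsingleton ((localCohomology I n).obj (ModuleCat.of R (M ⧸ N))) :=
    ((localCohomology I n).mapIso (Submodule.quotEquivOfEq _ _ hπ).toModuleIso).toLinearEquiv.toEquiv.subsingleton
  obtain ⟨w, rfl⟩ := (exact₂ I n hS z).1 (Subsingleton.elim _ _)
  have hsurj := surjective_H_map_of_supportDim_lt I π.rangeRestrict π.surjective_rangeRestrict n ?_
  · obtain ⟨v, rfl⟩ := hsurj w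
    refine ⟨fun i => (⟨x i, hxp i⟩, ((localCohomology I n).map (ModuleCat.ofHom (LinearMap.proj i))).hom v), ?_⟩
    refine Eq.symm ?_
    rw [Liaison.H_map_comp I n π.rangeRestrict N.subtype v |>.symm]
    show ((localCohomology I n).map (ModuleCat.ofHom π)).hom v = _
    suffices ∀ s : Finset (Fin k),
        ((localCohomology I n).map (ModuleCat.ofHom (X := Fin k → M) (Y := M)
          (∑ i ∈ s, x i • LinearMap.proj i))).hom v =
          ∑ i ∈ s, x i • ((localCohomology I n).map (ModuleCat.ofHom (LinearMap.proj i))).hom v from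
      this Finset.univ
    intro s
    induction s using Finset.induction with
    | empty =>
      rw [Finset.sum_empty, Finset.sum_empty]
      exact map_zero_apply I n v
    | insert i s hi ih =>
      rw [Finset.sum_insert hi, Finset.sum_insert hi, ← ih, ← map_smul_apply, ← map_add_apply]
      rfl
  · have hd : Module.supportDim R (Fin k → M) ≤ n := by
      refine le_trans ?_ hn
      rw [Module.supportDim_eq_ringKrullDim_quotient_annihilator, Module.supportDim_eq_ringKrullDim_quotient_annihilator]
      have h : Module.annihilator R M ≤ Module.annihilator R (Fin k → M) := fun a ha =>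
        Module.mem_annihilator.2 fun v => funext fun i => Module.mem_annihilator.1 ha (v i)
      exact ringKrullDim_le_of_surjective (Ideal.Quotient.factor h) (Ideal.Quotient.factor_surjective h)
    exact ((Module.supportDim_le_of_injective _ (LinearMap.ker π.rangeRestrict).injective_subtype).trans hd).trans_lt
      (by exact_mod_cast Nat.lt_succ_self n)

theorem subsingleton_H_top_ideal (n : ℕ) (M : ModuleCat.{u} R) :
    Subsingleton ((localCohomology (⊤ : Ideal R) n).obj M) := subsingleton_of_forall_eq 0 fun z => by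
  obtain ⟨k, x, rfl⟩ := exists_toH ⊤ n z
  have : Subsingleton (qObj (⊤ : Ideal R) k) :=
    Submodule.Quotient.subsingleton_iff.2 (Ideal.top_pow R k)
  have h0 : CategoryTheory.CategoryStruct.id (qObj (⊤ : Ideal R) k) = 0 :=
    ModuleCat.hom_ext (LinearMap.ext fun q => Subsingleton.elim _ _)
  rw [← CategoryTheory.Abelian.Ext.mk₀_id_comp x, h0, CategoryTheory.Abelian.Ext.mk₀_zero,
    CategoryTheory.Abelian.Ext.zero_comp, map_zero]

theorem subsingleton_H_quot [IsAdicComplete (maximalIdeal R) R] (I p : Ideal R) [p.IsPrime] (n : ℕ)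
    (hdim : ringKrullDim (R ⧸ p) = n) (hrad : (I ⊔ p).radical ≠ maximalIdeal R) :
    Subsingleton ((localCohomology I n).obj (ModuleCat.of R (R ⧸ p))) := by
  rcases eq_or_ne I ⊤ with rfl | hI
  · exact subsingleton_H_top_ideal n _
  let S := R ⧸ p
  have : IsLocalRing S := .of_surjective' _ Ideal.Quotient.mk_surjective
  have : IsAdicComplete (maximalIdeal S) S := by
    have h1 : IsAdicComplete (maximalIdeal R) S := Adic7.isAdicComplete_of_finite _ _
    rw [← IsLocalRing.map_maximalIdeal_of_surjective (algebraMap R S) Ideal.Quotient.mk_surjective]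
    exact (IsAdicComplete.map_algebraMap_iff (S := S) (maximalIdeal R) S).mpr h1
  have h1 : 1 ≤ ringKrullDim (S ⧸ I.map (algebraMap R S)) := by
    rw [Ideal.Quotient.algebraMap_eq, ringKrullDim_eq_of_ringEquiv
      ((DoubleQuot.quotQuotEquivQuotSup p I).trans (Ideal.quotEquivOfEq (sup_comm p I)))]
    by_contra hlt
    have hne : I ⊔ p ≠ ⊤ := fun h => by
      rcases IsLocalRing.le_maximalIdeal hI with hIm
      exact (maximalIdeal.isMaximal R).ne_top (top_le_iff.1 (h ▸ sup_le hIm
        (IsLocalRing.le_maximalIdeal (Ideal.IsPrime.ne_top ‹_›))))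
    have h0 : Ring.KrullDimLE 0 (R ⧸ (I ⊔ p)) := by
      rw [Ring.krullDimLE_iff]
      haveI : Nontrivial (R ⧸ (I ⊔ p)) := Ideal.Quotient.nontrivial_iff.2 hne
      cases hv : ringKrullDim (R ⧸ (I ⊔ p)) with
      | bot => exact bot_le
      | coe v =>
        rw [hv] at hlt
        have : v < 1 := by exact_mod_cast not_le.1 hlt
        rw [Order.lt_one_iff] at this
        simp [this]
    refine hrad (le_antisymm (IsLocalRing.le_maximalIdeal fun h => hne (Ideal.radical_eq_top.1 h)) ?_)
    rw [Ideal.radical_eq_sInf]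
    refine le_sInf fun J hJ => ?_
    haveI := hJ.2
    have hJm : J.IsMaximal := (Ideal.Quotient.maximal_of_isField _ <| by
      haveI : Ring.KrullDimLE 0 (R ⧸ J) := by
        rw [Ring.krullDimLE_iff] at h0 ⊢
        exact (ringKrullDim_le_of_surjective (Ideal.Quotient.factor hJ.1)
          (Ideal.Quotient.factor_surjective hJ.1)).trans h0
      exact Ring.KrullDimLE.isField_of_isDomain)
    exact (IsLocalRing.eq_maximalIdeal hJm).ge
  obtain ⟨φ, -⟩ := exists_indep (R := R) (R' := S) I n S
  haveI := subsingleton_H_complete_domain hdim (I.map (algebraMap R S)) h1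
  exact φ.symm.toEquiv.subsingleton

end Aux

/-- Let R be a complete Noetherian local ring with maximal ideal m, E an injective hull of its residue
field, I an ideal of R and M a finitely generated R-module whose support has dimension n. Then the
set of associated primes of the Matlis dual Hom_R(H^n_I(M), E) of the top local cohomology module
(the coassociated primes of H^n_I(M)) is the set of prime ideals p of R containing the annihilator
of M such that R ⧸ p has dimension n and the radical of I + p is m. -/
theorem result (R : Type u) [CommRing R] [IsNoetherianRing R] [IsLocalRing R] [IsAdicComplete (IsLocalRing.maximalIdeal R) R] (E : Type u) [AddCommGroup E] [Module R E] (f : IsLocalRing.ResidueField R →ₗ[R] E) (hf : InjHull.IsInjectiveHull f) (I : Ideal R) (M : Type u) [AddCommGroup M] [Module R M] [Module.Finite R M] (n : ℕ) (hn : Module.supportDim R M = n) : associatedPrimes R (LocCoh.H I n M →ₗ[R] E) = {p : Ideal R | p.IsPrime ∧ Module.annihilator R M ≤ p ∧ ringKrullDim (R ⧸ p) = n ∧ (I ⊔ p).radical = IsLocalRing.maximalIdeal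 R} := by
  classical
  let H := LocCoh.H I n M
  have hannp : ∀ {p : Ideal R}, p.IsPrime → Module.annihilator R M ≤ p → ringKrullDim (R ⧸ p) ≤ n :=
    fun {p} _ h => by
      rw [← hn, Module.supportDim_eq_ringKrullDim_quotient_annihilator]
      exact ringKrullDim_le_of_surjective (Ideal.Quotient.factor h) (Ideal.Quotient.factor_surjective h)
  haveI : Nontrivial M := by
    by_contra h
    rw [not_nontrivial_iff_subsingleton] at h
    rw [Module.supportDim_eq_bot_of_subsingleton R M] at hn
    exact WithBot.bot_ne_coe hn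
  -- quotient by a prime
  have hQ : ∀ {p : Ideal R}, p.IsPrime → Module.annihilator R M ≤ p →
      Module.support R (M ⧸ p • (⊤ : Submodule R M)) = PrimeSpectrum.zeroLocus p := fun {p} _ h => by
    rw [Module.support_quotient, Set.inter_eq_right, Module.support_eq_zeroLocus]
    exact PrimeSpectrum.zeroLocus_anti_mono h
  have hA : ∀ p ∈ associatedPrimes R (H →ₗ[R] E), p.IsPrime ∧ Module.annihilator R M ≤ p ∧
      ringKrullDim (R ⧸ p) = n ∧ (I ⊔ p).radical = maximalIdeal R := by
    intro p hp
    obtain ⟨hpp, φ, hφ⟩ := Alg6.mem_ass_iff.1 hp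
    have hMp : Module.annihilator R M ≤ p := fun a ha => (hφ a).2 (LinearMap.ext fun z => by
      rw [LinearMap.smul_apply, ← map_smul, smul_eq_zero_of_forall I n a
        (M := ModuleCat.of R M) (fun m => Module.mem_annihilator.1 ha m) z]
      exact map_zero _)
    have hne : ¬ Subsingleton (LocCoh.H I n (M ⧸ p • (⊤ : Submodule R M))) := fun hs => by
      refine hpp.ne_top ((Ideal.eq_top_iff_one p).2 ((hφ 1).2 ?_))
      rw [one_smul]
      refine LinearMap.ext fun z => ?_
      obtain ⟨t, ht⟩ := mem_smul_H I n M p hn.le hs z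
      exact ht ▸ map_eq_zero_of_sum φ (fun a ha => (hφ a).1 ha) t
    haveI := hpp
    have hsupp : Module.supportDim R (M ⧸ p • (⊤ : Submodule R M)) = ringKrullDim (R ⧸ p) := by
      rw [Module.supportDim, hQ hpp hMp, ringKrullDim_quotient]
    have hdim : ringKrullDim (R ⧸ p) = n := le_antisymm (hannp hpp hMp) (le_of_not_gt fun hlt =>
      hne (Groth.Agent.S11625.result R I _ n (hsupp ▸ hlt)))
    refine ⟨hpp, hMp, hdim, ?_⟩
    by_contra hrad
    refine hne (subsingleton_H_of_filtration I n _ fun q hq => ?_)
    rw [hQ hpp hMp] at hq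
    rcases eq_or_lt_of_le (show (⟨p, hpp⟩ : PrimeSpectrum R) ≤ q from hq) with rfl | hlt
    · exact subsingleton_H_quot I p n hdim hrad
    · refine subsingleton_H_quot_prime I q n ?_
      have h1 := Order.coheight_add_one_le hlt
      have h2 : Order.coheight (⟨p, hpp⟩ : PrimeSpectrum R) = (n : ℕ∞) :=
        WithBot.coe_injective ((coheight_eq_ringKrullDim_quotient ⟨p, hpp⟩).trans hdim)
      rw [h2] at h1
      exact lt_of_lt_of_le (ENat.lt_add_one_iff
        (ne_top_of_le_ne_top (ENat.natCast_ne_top n) (le_self_add.trans h1)) |>.2 le_rfl) h1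
  refine Set.ext fun p => ⟨hA p, fun ⟨hpp, hMp, hdim, hrad⟩ => ?_⟩
  let π := (p • (⊤ : Submodule R M)).mkQ
  haveI : Nontrivial (M ⧸ p • (⊤ : Submodule R M)) :=
    (Module.nonempty_support_iff (R := R)).1 ⟨⟨p, hpp⟩, by rw [hQ hpp hMp]; exact le_refl p⟩
  have hsupp : Module.supportDim R (M ⧸ p • (⊤ : Submodule R M)) = (n : WithBot ℕ∞) := by
    rw [Module.supportDim, hQ hpp hMp, ← ringKrullDim_quotient, hdim]
  have hnt := Groth.Agent.S2935.result R (M ⧸ p • (⊤ : Submodule R M)) n hsupp
  have hntI : Nontrivial (LocCoh.H I n (M ⧸ p • (⊤ : Submodule R M))) := by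
    by_contra hs
    rw [not_nontrivial_iff_subsingleton] at hs
    have htor : LocCoh.IsPowerTorsion p (M ⧸ p • (⊤ : Submodule R M)) := fun z => ⟨1, fun a ha => by
      rw [pow_one] at ha
      obtain ⟨m, rfl⟩ := Submodule.mkQ_surjective _ z
      rw [← map_smul, Submodule.mkQ_apply, Submodule.Quotient.mk_eq_zero]
      exact Submodule.smul_mem_smul ha trivial⟩
    have h2 := subsingleton_H_sup_of_torsion I p n (ModuleCat.of R _) htor hs
    exact not_subsingleton _ (subsingleton_H_of_radical_eq (I := I ⊔ p) (J := maximalIdeal R)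
      (by rw [hrad, (maximalIdeal.isMaximal R).isPrime.radical]) n _ h2)
  obtain ⟨z, hz⟩ := exists_ne (0 : LocCoh.H I n (M ⧸ p • (⊤ : Submodule R M)))
  obtain ⟨ψ, hψ⟩ := exists_dual_ne_zero hf hz
  have hsurj := surjective_H_map_of_supportDim_lt I π (Submodule.mkQ_surjective _) n
    (((Module.supportDim_le_of_injective _ (LinearMap.ker π).injective_subtype).trans hn.le).trans_lt
      (by exact_mod_cast Nat.lt_succ_self n))
  let φ : H →ₗ[R] E := ψ ∘ₗ ((localCohomology I n).map (ModuleCat.ofHom π)).hom
  have hφ0 : φ ≠ 0 := fun h => hψ (by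
    obtain ⟨w, rfl⟩ := hsurj z
    exact LinearMap.congr_fun h w)
  obtain ⟨q, hq, hle⟩ := exists_le_isAssociatedPrime_of_isNoetherianRing R φ hφ0
  have hpq : p ≤ q := fun a ha => hle (by
    rw [Submodule.mem_colon_singleton, Submodule.mem_bot]
    refine LinearMap.ext fun w => ?_
    rw [LinearMap.smul_apply]
    show a • ψ _ = 0
    rw [← map_smul, smul_eq_zero_of_forall I n a
      (M := ModuleCat.of R (M ⧸ p • (⊤ : Submodule R M))) (fun m => by
        obtain ⟨m, rfl⟩ := Submodule.mkQ_surjective _ m
        exact (Submodule.Quotient.mk_smul _ a m).symm.trans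
          ((Submodule.Quotient.mk_eq_zero _).2 (Submodule.smul_mem_smul ha trivial))) _]
    exact map_zero _)
  obtain ⟨hqp, -, hqd, -⟩ := hA q hq
  rcases eq_or_lt_of_le (show (⟨p, hpp⟩ : PrimeSpectrum R) ≤ ⟨q, hqp⟩ from hpq) with h | hlt
  · obtain rfl : p = q := congrArg PrimeSpectrum.asIdeal h
    exact hq
  · have h1 := Order.coheight_add_one_le hlt
    have e1 : Order.coheight (⟨p, hpp⟩ : PrimeSpectrum R) = (n : ℕ∞) :=
      WithBot.coe_injective ((coheight_eq_ringKrullDim_quotient ⟨p, hpp⟩).trans hdim)
    have e2 : Order.coheight (⟨q, hqp⟩ : PrimeSpectrum R) = (n : ℕ∞) :=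
      WithBot.coe_injective ((coheight_eq_ringKrullDim_quotient ⟨q, hqp⟩).trans hqd)
    rw [e1, e2] at h1
    exact absurd h1 (by exact_mod_cast Nat.not_succ_le_self n)

end Groth.Agent.S17759
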