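import Groth.Statements.S17760
import Groth.Statements.S17760
import Groth.Agent.S17759
import Groth.Agent.S3262
import Groth.Agent.LC.ExtBridge
import Groth.Agent.LC.GorCore
import Groth.Agent.LC.CanonComplete
import Groth.Agent.LC.MatlisExtra
import Groth.Agent.H1Fields.CplDim

set_option linter.unusedSectionVars false
set_option linter.style.haveILetI false
open CategoryTheory Opposite IsLocalRing Groth.Agent.LC TensorProduct

set_option autoImplicit false
universe u
open CategoryTheory Opposite
open LocCoh

namespace Groth.Agent.S17760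

section Aux

variable {R : Type u} [CommRing R] [IsNoetherianRing R]

theorem isArtinian_ext (i : ℕ) (N : Type u) [AddCommGroup N] [Module R N] [Module.Finite R N]
    (H : ModuleCat.{u} R) [IsArtinian R H] :
    IsArtinian R (Abelian.Ext (ModuleCat.of R N) H i) := by
  induction i generalizing N with
  | zero =>
    obtain ⟨k, π, hπ⟩ := Module.Finite.exists_fin' R N
    haveI : IsArtinian R (N →ₗ[R] H) := by
      haveI : IsArtinian R ((Fin k → R) →ₗ[R] H) :=
        ((LinearMap.lsum R (fun _ => R) R).symm.trans
          (LinearEquiv.piCongrRight fun _ => LinearMap.ringLmapEquivSelf R R H)).symm.isArtinian_iff.1 inferInstance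
      exact isArtinian_of_injective (LinearMap.lcomp R H π) fun f g h =>
        LinearMap.ext fun z => by obtain ⟨w, rfl⟩ := hπ z; exact LinearMap.congr_fun h w
    exact (Abelian.Ext.linearEquiv₀.trans ModuleCat.homLinearEquiv).symm.isArtinian_iff.1 inferInstance
  | succ i ih =>
    obtain ⟨k, π, hπ⟩ := Module.Finite.exists_fin' R N
    let S : ShortComplex (ModuleCat.{u} R) := ShortComplex.mk
      (X₁ := ModuleCat.of R (LinearMap.ker π)) (X₂ := ModuleCat.of R (Fin k → R)) (X₃ := ModuleCat.of R N)
      (ModuleCat.ofHom (LinearMap.ker π).subtype) (ModuleCat.ofHom π)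
      (ModuleCat.hom_ext (LinearMap.ext fun z => z.2))
    have hS : S.ShortExact :=
      { exact := (ShortComplex.ShortExact.moduleCat_exact_iff_function_exact _).2
          (LinearMap.exact_subtype_ker_map π)
        mono_f := (ModuleCat.mono_iff_injective _).2 Subtype.val_injective
        epi_g := (ModuleCat.epi_iff_surjective _).2 hπ }
    haveI : Projective S.X₂ := (IsProjective.iff_projective (R := R) _).1 inferInstance
    haveI := ih (LinearMap.ker π)
    refine isArtinian_of_surjective (Abelian.Ext S.X₁ H i)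
      (Abelian.Ext.precompOfLinear hS.extClass R H (add_comm 1 i)) fun e => ?_
    obtain ⟨y, hy⟩ := Abelian.Ext.contravariant_sequence_exact₃ hS H e
      (Abelian.Ext.eq_zero_of_projective _) (add_comm 1 i)
    exact ⟨y, hy⟩

variable [IsLocalRing R]

theorem isFiniteLength_of_isArtinian_of_kill (k : ℕ) (E : Type u) [AddCommGroup E] [Module R E]
    [IsArtinian R E] (h : ∀ a ∈ maximalIdeal R ^ k, ∀ e : E, a • e = 0) : IsFiniteLength R E := by
  haveI : IsArtinianRing (R ⧸ maximalIdeal R ^ k) :=
    have := (isFiniteLength_iff_isNoetherian_isArtinian.1 (isFiniteLength_quot_pow (R := R) k)).2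
    isArtinian_of_tower R this
  haveI := finite_of_kill (maximalIdeal R ^ k) E h
  exact isFiniteLength_iff_isNoetherian_isArtinian.2 ⟨inferInstance, inferInstance⟩

theorem exists_pow_le (I : Ideal R) (M : Type u) [AddCommGroup M] [Module R M] [Module.Finite R M]
    (n : ℕ) (hn : Module.supportDim R M = n) (H : ModuleCat.{u} R)
    (hH : H = (localCohomology I n).obj (ModuleCat.of R M)) :
    ∃ k : ℕ, ∀ a ∈ maximalIdeal R ^ k, ∃ (r : ℕ) (c : Fin r → R) (φ : Fin r → (H ⟶ H)),
      (∀ j, c j ∈ I) ∧ a • 𝟙 H = ∑ j : Fin r, c j • φ j := by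
  subst hH
  let C := AdicCompletion (maximalIdeal R) R
  haveI : IsNoetherianRing C := Canon.isNoetherianRing_completion
  haveI : Module.FaithfullyFlat R C := Canon.faithfullyFlat_completion
  haveI : Nontrivial M := by
    by_contra h
    rw [not_nontrivial_iff_subsingleton] at h
    rw [Module.supportDim_eq_bot_of_subsingleton R M] at hn
    exact WithBot.bot_ne_coe hn
  let H := (localCohomology I n).obj (ModuleCat.of R M)
  haveI : IsArtinian R H := Groth.Agent.S3262.result R I M n hn
  have hbij := mk_one_bijective_of_powerTorsion (R := R) H (isPowerTorsion_of_isArtinian H)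
  let e : H ≃ₗ[R] C ⊗[R] H := LinearEquiv.ofBijective _ hbij
  obtain ⟨e1⟩ := exists_baseChange (R' := C) I n M
  let I' := I.map (algebraMap R C)
  let N := (C ⊗[R] M)
  have hdimN : Module.supportDim C N = n :=
    (H1Fields.supportDim_tensor_completion R (maximalIdeal R)
      (fun p hp => (IsLocalRing.eq_maximalIdeal hp).ge) M).trans hn
  let H' := (localCohomology I' n).obj (ModuleCat.of C N)
  haveI : IsArtinian C (C ⊗[R] H) := by
    haveI : IsArtinian R (C ⊗[R] H) := e.isArtinian_iff.1 inferInstance
    exact isArtinian_of_tower R inferInstance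
  haveI : IsArtinian C H' := e1.isArtinian_iff.1 inferInstance
  obtain ⟨E, _, _, f, hf⟩ := exists_injectiveHull C (ResidueField C)
  haveI : Module.Finite C (H' →ₗ[C] E) := (dual_finite_of_isArtinian hf H').1
  obtain ⟨k, hk⟩ : ∃ k, maximalIdeal C ^ k ≤ I' ⊔ Module.annihilator C H' := by
    refine Ideal.exists_pow_le_of_le_radical_of_fg ?_ (IsNoetherian.noetherian _)
    rw [Ideal.radical_eq_sInf]
    refine le_sInf fun q hq => ?_
    haveI := hq.2
    have hq' : Module.annihilator C (H' →ₗ[C] E) ≤ q := by
      rw [← annihilator_dual hf H']; exact le_sup_right.trans hq.1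
    obtain ⟨p, hp, hpq⟩ := Ideal.exists_minimalPrimes_le hq'
    have hass := Module.associatedPrimes.minimalPrimes_annihilator_subset_associatedPrimes C (H' →ₗ[C] E) hp
    have hEq := Groth.Agent.S17759.result C E f hf I' N n hdimN
    change associatedPrimes C (H' →ₗ[C] E) = _ at hEq
    rw [hEq] at hass
    rw [← hass.2.2.2]
    exact (Ideal.radical_mono (sup_le (le_sup_left.trans hq.1) hpq)).trans hq.2.radical.le
  refine ⟨k, fun a ha => ?_⟩
  have ha' : algebraMap R C a ∈ maximalIdeal C ^ k := by
    rw [AdicCompletion.maximalIdeal_eq_map, ← Ideal.map_pow]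
    exact Ideal.mem_map_of_mem _ ha
  obtain ⟨y, hy, z, hz, hyz⟩ := Submodule.mem_sup.1 (hk ha')
  obtain ⟨r, c, hc⟩ := Submodule.fg_iff_exists_fin_generating_family.1 (IsNoetherian.noetherian I)
  have hy' : y ∈ Submodule.span C (Set.range (algebraMap R C ∘ c)) := by
    have h : I' = Ideal.span (Set.range (algebraMap R C ∘ c)) := by
      rw [Set.range_comp, ← Ideal.map_span]
      exact congrArg (Ideal.map (algebraMap R C)) hc.symm
    rw [h] at hy; exact hy
  obtain ⟨b, hb⟩ := (Submodule.mem_span_range_iff_exists_fun C).1 hy'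
  refine ⟨r, c, fun j => ModuleCat.ofHom
    (e.symm.toLinearMap ∘ₗ ((LinearMap.lsmul C (C ⊗[R] H) (b j)).restrictScalars R) ∘ₗ e.toLinearMap),
    fun j => hc ▸ Submodule.subset_span ⟨j, rfl⟩, ModuleCat.hom_ext (LinearMap.ext fun v => ?_)⟩
  simp only [ModuleCat.hom_sum, ModuleCat.hom_smul, LinearMap.sum_apply, LinearMap.smul_apply,
    ModuleCat.hom_id, LinearMap.id_apply, ModuleCat.hom_ofHom, LinearMap.coe_comp, LinearEquiv.coe_coe,
    Function.comp_apply, LinearMap.coe_restrictScalars, LinearMap.lsmul_apply]
  apply e.injective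
  simp only [map_sum, map_smul, LinearEquiv.apply_symm_apply]
  rw [← algebraMap_smul C a (e v), ← hyz, add_smul, ← hb, Finset.sum_smul]
  have hz0 : z • e v = 0 := e1.injective (by rw [map_smul, map_zero, Module.mem_annihilator.1 hz (e1 (e v))])
  rw [hz0, add_zero]
  refine Finset.sum_congr rfl fun j _ => ?_
  rw [smul_eq_mul, mul_comm, mul_smul, Function.comp_apply, algebraMap_smul]

end Aux

/-- Let R be a Noetherian local ring, I an ideal of R and M a finitely generated R-module whose support
has dimension n. Then for every i ≥ 0 the R-module Ext^i_R(R ⧸ I, H^n_I(M)) has finite length; in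
particular the top local cohomology module H^n_I(M) is I-cofinite. -/
theorem result (R : Type u) [CommRing R] [IsNoetherianRing R] [IsLocalRing R] (I : Ideal R) (M : Type u) [AddCommGroup M] [Module R M] [Module.Finite R M] (n : ℕ) (hn : Module.supportDim R M = n) (i : ℕ) : IsFiniteLength R (((Ext R (ModuleCat.{u} R) i).obj (op (ModuleCat.of R (R ⧸ I)))).obj (ModuleCat.of R (LocCoh.H I n M))) := by
  classical
  let H : ModuleCat.{u} R := (localCohomology I n).obj (ModuleCat.of R M)
  let X := ModuleCat.of R (R ⧸ I)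
  haveI : Nontrivial M := by
    by_contra h
    rw [not_nontrivial_iff_subsingleton] at h
    rw [Module.supportDim_eq_bot_of_subsingleton R M] at hn
    exact WithBot.bot_ne_coe hn
  haveI hArt : IsArtinian R H := Groth.Agent.S3262.result R I M n hn
  suffices h : IsFiniteLength R (Abelian.Ext X H i) by
    obtain ⟨P⟩ := (inferInstance : HasProjectiveResolution X).out
    rw [← Module.length_ne_top_iff] at h ⊢
    rwa [(ExtBridge.bridge P H i).length_eq]
  haveI := isArtinian_ext i (R ⧸ I) H
  obtain ⟨k, hk⟩ := exists_pow_le I M n hn H rfl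
  refine isFiniteLength_of_isArtinian_of_kill k (Abelian.Ext X H i) fun a ha e => ?_
  obtain ⟨r, c, φ, hc, hφ⟩ := hk a ha
  have h1 : a • e = e.comp (Abelian.Ext.mk₀ (∑ j : Fin r, c j • φ j)) (add_zero i) := by
    rw [← hφ, Abelian.Ext.mk₀_smul, Abelian.Ext.comp_smul, Abelian.Ext.comp_mk₀_id]
  rw [h1, Abelian.Ext.mk₀_sum, Abelian.Ext.comp_sum]
  refine Finset.sum_eq_zero fun j _ => ?_
  rw [Abelian.Ext.mk₀_smul, Abelian.Ext.comp_smul]
  exact smul_ext_eq_zero_of_smul (N := X) (fun z => by
    obtain ⟨z, rfl⟩ := Submodule.Quotient.mk_surjective _ z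
    rw [← Submodule.Quotient.mk_smul, Submodule.Quotient.mk_eq_zero]
    exact I.mul_mem_right z (hc j)) _

end Groth.Agent.S17760
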