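import Groth.Statements.S17766
import Groth.Statements.S17766
import Groth.Agent.LC.CanonIdeal
import Groth.Agent.LC.CanonGor
import Groth.Agent.LC.ExtBridge
import Groth.Agent.LC.GorLoc
import Groth.Agent.LC.GorHull
import Groth.Agent.LC.GorRing

set_option linter.unusedSectionVars false
set_option linter.style.haveILetI false
open CategoryTheory Opposite IsLocalRing Groth.Agent.LC Groth.Agent.LC.Canon
open scoped Pointwise

set_option autoImplicit false
universe u
open CategoryTheory Opposite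
open LocCoh

namespace Groth.Agent.S17766

/-- Let B be a regular local ring, p a prime ideal of B of height r, and suppose that A = B ⧸ p is
Cohen–Macaulay. Then the B-module Ext^r_B(A, B) is isomorphic either to A itself or to a proper
ideal I of A which is unmixed of height one, i.e. every associated prime of A ⧸ I has height one in
A (existence of a B-linear isomorphism in each case). -/
theorem result (B : Type u) [CommRing B] [IsRegularLocalRing B] (p : Ideal B) [p.IsPrime] [LocCoh.IsCohenMacaulayLocalRing (B ⧸ p)] (r : ℕ) (hr : p.height = r) : Nonempty (((Ext B (ModuleCat.{u} B) r).obj (op (ModuleCat.of B (B ⧸ p)))).obj (ModuleCat.of B B) ≃ₗ[B] (B ⧸ p)) ∨ ∃ I : Ideal (B ⧸ p), I ≠ ⊤ ∧ (∀ q ∈ associatedPrimes (B ⧸ p) ((B ⧸ p) ⧸ I), q.height = 1) ∧ Nonempty (((Ext B (ModuleCat.{u} B) r).obj (op (ModuleCat.of B (B ⧸ p)))).obj (ModuleCat.of B B) ≃ₗ[B] I) := by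
  classical
  let A := B ⧸ p
  haveI := gorenstein_of_isRegularLocalRing (R := B)
  haveI : LocCoh.IsCohenMacaulayLocalRing B := isCohenMacaulayLocalRing_of_gorenstein
  obtain ⟨N, hN, -, -⟩ := gorenstein_basic (R := B)
  have hsum := height_add_ringKrullDim_quotient p (Ideal.IsPrime.ne_top ‹_›)
  rw [hN, hr] at hsum
  obtain ⟨n, hn⟩ : ∃ n : ℕ, ringKrullDim A = n := by
    obtain ⟨n, hn⟩ := exists_supportDim_eq_nat (R := A) A
    exact ⟨n, (Module.supportDim_self_eq_ringKrullDim (R := A)).symm.trans hn⟩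
  have hnr : n + r = N := by
    rw [show ringKrullDim (B ⧸ p) = (n : WithBot ℕ∞) from hn] at hsum
    exact_mod_cast hsum
  have hπ : Function.Surjective (algebraMap B A) := Ideal.Quotient.mk_surjective
  obtain ⟨E, _, _, f, hf⟩ := exists_injectiveHull A (ResidueField A)
  obtain ⟨K, _, _, hK, ⟨ι⟩⟩ := exists_extModule (S := B) hπ r
  haveI := hK
  obtain ⟨eK⟩ := canon_of_ext hf hπ hN hnr K ι
  obtain ⟨I, hI, ⟨e⟩⟩ := exists_ideal_equiv hn hf eK hπ
  obtain ⟨P⟩ := (inferInstance : HasProjectiveResolution (ModuleCat.of B A)).out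
  let eExt := (ExtBridge.bridge P (ModuleCat.of B B) r).trans (ι.symm.trans (e.restrictScalars B))
  by_cases htop : I = ⊤
  · exact Or.inl ⟨eExt.trans (((LinearEquiv.ofEq _ _ htop).trans Submodule.topEquiv).restrictScalars B)⟩
  refine Or.inr ⟨I, htop, fun q hq => ?_, ⟨eExt⟩⟩
  obtain ⟨hqp, z, hz⟩ := Alg6.mem_ass_iff.1 hq
  haveI := hqp
  obtain ⟨a, rfl⟩ := Ideal.Quotient.mk_surjective z
  have hz' : ∀ c : A, c ∈ q ↔ c * a ∈ I := fun c => (hz c).trans (by
    rw [← Ideal.Quotient.eq_zero_iff_mem]; rfl)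
  have ha : a ∉ I := fun h => hqp.ne_top ((Ideal.eq_top_iff_one q).2 ((hz' 1).2 (by rwa [one_mul])))
  have hIq : I ≤ q := fun c hc => (hz' c).2 (I.mul_mem_right a hc)
  have hq0 : q ≠ ⊥ := fun h => hI (le_bot_iff.1 (h ▸ hIq))
  have h1 : 1 ≤ q.height := by
    rw [Order.one_le_iff_ne_zero]
    intro h0
    haveI : (⊥ : Ideal A).IsPrime := Ideal.isPrime_bot
    exact (Ideal.height_strict_mono_of_isPrime (Ne.bot_lt hq0)).ne' (h0.trans Ideal.height_bot.symm)
  refine le_antisymm (not_lt.1 fun hlt => ?_) h1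
  obtain ⟨x, hxq, hx0⟩ := Submodule.exists_mem_ne_zero_of_ne_bot hq0
  have hfin : (Ideal.span {x}).minimalPrimes.Finite :=
    Ideal.finite_minimalPrimes_of_isNoetherianRing _ _
  obtain ⟨y, hyq, hy⟩ : ∃ y ∈ q, ∀ P ∈ (Ideal.span {x}).minimalPrimes, y ∉ P := by
    by_contra hcon
    push Not at hcon
    have hsub : (q : Set A) ⊆ ⋃ P ∈ (hfin.toFinset : Set (Ideal A)), (P : Set A) := fun y hy => by
      obtain ⟨P, hP, hyP⟩ := hcon y hy
      exact Set.mem_biUnion (hfin.mem_toFinset.2 hP) hyP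
    obtain ⟨P, hP, hle⟩ := (Ideal.subset_union_prime (s := hfin.toFinset) (f := id) ⊥ ⊥
      (fun P hP _ _ => (hfin.mem_toFinset.1 hP).1.1)).1 hsub
    exact absurd ((Ideal.height_mono hle).trans
      (Ideal.height_le_one_of_isPrincipal_of_mem_minimalPrimes (Ideal.span {x}) P (hfin.mem_toFinset.1 hP)))
      (not_le.2 hlt)
  have hne : Ideal.span {x} ⊔ Ideal.span {y} ≠ ⊤ := fun h =>
    hqp.ne_top (top_le_iff.1 (h ▸ sup_le (Ideal.span_le.2 (Set.singleton_subset_iff.2 hxq))
      (Ideal.span_le.2 (Set.singleton_subset_iff.2 hyq))))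
  have h2 : (2 : ℕ∞) ≤ (Ideal.span {x} ⊔ Ideal.span {y}).height := by
    rw [Ideal.height_eq_inf_minimalPrimes]
    refine le_iInf₂ fun Q hQ => ?_
    haveI := hQ.1.1
    obtain ⟨P, hP, hPQ⟩ := Ideal.exists_minimalPrimes_le (I := Ideal.span {x}) (J := Q) (le_sup_left.trans hQ.1.2)
    haveI := hP.1.1
    haveI : (⊥ : Ideal A).IsPrime := Ideal.isPrime_bot
    have hlt1 : P < Q := lt_of_le_of_ne hPQ fun h =>
      hy P hP (h ▸ hQ.1.2 (Submodule.mem_sup_right (Ideal.mem_span_singleton_self y)))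
    have hlt0 : (⊥ : Ideal A) < P :=
      Ne.bot_lt fun h => hx0 ((Submodule.mem_bot A).1 (h ▸ hP.1.2 (Ideal.mem_span_singleton_self x)))
    have e1 := Ideal.height_strict_mono_of_isPrime hlt1
    have e0 := Ideal.height_strict_mono_of_isPrime hlt0
    calc (2 : ℕ∞) = 0 + 1 + 1 := by norm_num
      _ ≤ P.height + 1 := add_le_add (Order.add_one_le_of_lt (lt_of_le_of_lt bot_le e0)) le_rfl
      _ ≤ Q.height := Order.add_one_le_of_lt e1
  have hxy := height_add_ringKrullDim_quotient (Ideal.span {x} ⊔ Ideal.span {y}) hne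
  have hx1 := ringKrullDim_quotient_succ_le_of_nonZeroDivisor (mem_nonZeroDivisors_of_ne_zero hx0)
  rw [show ringKrullDim A = (n : WithBot ℕ∞) from hn] at hxy hx1
  haveI : Nontrivial (A ⧸ Ideal.span {x}) := Ideal.Quotient.nontrivial_iff.2 fun h =>
    hne (top_le_iff.1 (h ▸ le_sup_left))
  obtain ⟨d1, hd1⟩ := exists_supportDim_eq_nat (R := A) (A ⧸ Ideal.span {x})
  haveI : Nontrivial (A ⧸ (Ideal.span {x} ⊔ Ideal.span {y})) := Ideal.Quotient.nontrivial_iff.2 hne
  obtain ⟨d2, hd2⟩ := exists_supportDim_eq_nat (R := A) (A ⧸ (Ideal.span {x} ⊔ Ideal.span {y}))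
  rw [Module.supportDim_quotient_eq_ringKrullDim] at hd1 hd2
  rw [hd1] at hx1
  have hx1' : d1 + 1 ≤ n := by exact_mod_cast hx1
  rw [hd2] at hxy
  obtain ⟨m, rfl⟩ : ∃ m, n = m + 1 := ⟨n - 1, by omega⟩
  obtain ⟨t, ht⟩ : ∃ t : ℕ, (Ideal.span {x} ⊔ Ideal.span {y}).height = t := by
    generalize (Ideal.span {x} ⊔ Ideal.span {y}).height = v at hxy
    induction v using ENat.recTopCoe with
    | top => exact absurd hxy (fun h => by
        rw [show ((⊤ : ℕ∞) : WithBot ℕ∞) = WithBot.some ⊤ from rfl,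
          show ((d2 : ℕ) : WithBot ℕ∞) = WithBot.some (d2 : ℕ∞) from rfl,
          show ((m + 1 : ℕ) : WithBot ℕ∞) = WithBot.some ((m + 1 : ℕ) : ℕ∞) from rfl, ← WithBot.coe_add] at h
        exact (ENat.natCast_ne_top (m + 1)) ((WithBot.coe_injective h).symm.trans (add_top _)))
    | coe v => exact ⟨v, rfl⟩
  rw [ht] at hxy h2
  have hxy' : d2 + t = m + 1 := by exact_mod_cast hxy
  have h2' : 2 ≤ t := by exact_mod_cast h2
  have hreg := isWeaklyRegular_pair hn hf eK rfl (x := x) (y := y)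
    (by rw [hd1]; exact_mod_cast (show d1 ≤ m by omega)) (by rw [hd2]; exact_mod_cast (show d2 < m by omega))
  rw [RingTheory.Sequence.isWeaklyRegular_cons_iff, RingTheory.Sequence.isWeaklyRegular_cons_iff] at hreg
  obtain ⟨-, hyreg, -⟩ := hreg
  let kx : K := e.symm ⟨x * a, (hz' x).1 hxq⟩
  let ky : K := e.symm ⟨y * a, (hz' y).1 hyq⟩
  have hk : y • kx = x • ky := by
    rw [← map_smul, ← map_smul]
    exact congrArg e.symm (Subtype.ext (show y * (x * a) = x * (y * a) by ring))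
  have h0 : Submodule.Quotient.mk (p := x • (⊤ : Submodule A K)) kx = 0 :=
    hyreg.right_eq_zero_of_smul (by
      rw [← Submodule.Quotient.mk_smul, hk, Submodule.Quotient.mk_eq_zero]
      exact Submodule.smul_mem_pointwise_smul ky x ⊤ trivial)
  rw [Submodule.Quotient.mk_eq_zero, Submodule.mem_smul_pointwise_iff_exists] at h0
  obtain ⟨w, -, hw⟩ := h0
  have hw' : x * ((e w : I) : A) = x * a := by
    have := congrArg e hw
    rw [map_smul, LinearEquiv.apply_symm_apply] at this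
    exact congrArg Subtype.val this
  exact ha (mul_left_cancel₀ hx0 hw' ▸ (e w).2)

end Groth.Agent.S17766
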