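import Groth.Statements.S17773
import Mathlib
import Groth.Agent.H9Misc.TorBalance

set_option autoImplicit false
set_option backward.isDefEq.respectTransparency false
set_option backward.isDefEq.respectTransparency.types false
set_option linter.style.haveILetI false
universe u
open CategoryTheory CategoryTheory.Limits
open CAlg

namespace Groth.Agent.S17773

section

open CategoryTheory CategoryTheory.Limits MonoidalCategory Groth.Agent.KFlatLib
  Groth.Agent.H9Misc.DRingLTensor Groth.Agent.H9Misc.TorBalance

attribute [local instance] HasDerivedCategory.standard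

variable {R : Type u} [CommRing R] {M : Type u} [AddCommGroup M] [Module R M]
  (F : ChainComplex (ModuleCat.{u} R) ℕ) (hF : ∀ i : ℕ, Module.Flat R (F.X i))
  (φ : F ⟶ (ChainComplex.single₀ (ModuleCat.{u} R)).obj (ModuleCat.of R M)) [QuasiIso φ]

/-- The flat resolution as a cochain complex. -/
noncomputable abbrev Fc : DRing.Cx R := F.extend ComplexShape.embeddingDownNat

/-- Its augmentation. -/
noncomputable def aug : Fc F ⟶ sgl (ModuleCat.of R M) :=
  (ComplexShape.embeddingDownNat.extendFunctor (ModuleCat.{u} R)).map φ ≫
    (HomologicalComplex.extendSingleIso _ _ _ _ (by simp)).hom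

instance : QuasiIso (aug F φ) := by
  haveI : QuasiIso (HomologicalComplex.extendMap φ ComplexShape.embeddingDownNat) :=
    (HomologicalComplex.quasiIso_extendMap_iff φ ComplexShape.embeddingDownNat).2 inferInstance
  show QuasiIso (HomologicalComplex.extendMap φ ComplexShape.embeddingDownNat ≫ _)
  exact quasiIso_comp _ _

include hF in
lemma isKF_Fc : IsKF (Fc F) := by
  refine kFlat_of_termwiseFlat (b := 0) (fun n => ?_) fun i hi => ?_
  · by_cases h : ∃ k, ComplexShape.embeddingDownNat.f k = n
    · obtain ⟨k, hk⟩ := h
      haveI := hF k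
      exact Module.Flat.of_linearEquiv (F.extendXIso ComplexShape.embeddingDownNat hk).toLinearEquiv
    · haveI := ModuleCat.subsingleton_of_isZero
        (F.isZero_extend_X ComplexShape.embeddingDownNat n (fun k hk => h ⟨k, hk⟩))
      haveI : Module.Free R ((Fc F).X n) := Module.Free.of_subsingleton _ _
      exact Module.Flat.of_free
  · refine F.isZero_extend_X ComplexShape.embeddingDownNat i (fun k hk => ?_)
    have : -(k : ℤ) = i := hk
    omega

/-- Tensoring a flat resolution computes `Tor`. -/
noncomputable def homologyTensorIso (N : Type u) [AddCommGroup N] [Module R N] (i : ℕ) :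
    (((tensorRight (ModuleCat.of R N)).mapHomologicalComplex (ComplexShape.down ℕ)).obj F).homology i ≅
      ((CategoryTheory.Tor (ModuleCat.{u} R) i).obj (ModuleCat.of R M)).obj (ModuleCat.of R N) :=
  let Q := ProjectiveResolution.of (ModuleCat.of R N)
  let a : ((T (A := R)).obj (Fc F)).obj Q.cochainComplex ⟶ (tensC (ModuleCat.of R M)).obj Q.cochainComplex :=
    ((T (A := R)).map (aug F φ)).app Q.cochainComplex ≫ (sglLeftIso (ModuleCat.of R M)).hom.app Q.cochainComplex
  let b : ((T (A := R)).obj (Fc F)).obj Q.cochainComplex ⟶ (tensC (ModuleCat.of R N)).obj (Fc F) :=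
    ((T (A := R)).obj (Fc F)).map Q.π' ≫ (sglRightIso (ModuleCat.of R N)).hom.app (Fc F)
  haveI : QuasiIso a := by
    haveI := (isKF_cochainComplex Q).quasiIso_map (aug F φ)
    haveI : QuasiIso ((sglLeftIso (ModuleCat.of R M)).hom.app Q.cochainComplex) :=
      inferInstanceAs (QuasiIso ((sglLeftIso (ModuleCat.of R M)).app Q.cochainComplex).hom)
    exact quasiIso_comp _ _
  haveI : QuasiIso b := by
    haveI := (isKF_Fc F hF).quasiIso_map' curriedTensorFlipIso Q.π'
    haveI : QuasiIso ((sglRightIso (ModuleCat.of R N)).hom.app (Fc F)) :=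
      inferInstanceAs (QuasiIso ((sglRightIso (ModuleCat.of R N)).app (Fc F)).hom)
    exact quasiIso_comp _ _
  (HomologicalComplex.extendHomologyIso _ ComplexShape.embeddingDownNat (by simp)).symm ≪≫
    (HomologicalComplex.homologyFunctor _ _ (-i : ℤ)).mapIso (mapExtendIso (tensorRight (ModuleCat.of R N)) F).symm ≪≫
    (isoOfQuasiIsoAt b (-i : ℤ)).symm ≪≫ isoOfQuasiIsoAt a (-i : ℤ) ≪≫ (torIso (ModuleCat.of R M) Q i).symm

end

/-- Let R be a commutative ring, M and N two R-modules, and F a flat resolution of M: a chain complex F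
of flat R-modules concentrated in non-negative degrees together with a quasi-isomorphism from F to M
placed in degree 0. Then for every i ≥ 0 the i-th homology module of the complex F ⊗_R N is
isomorphic to Tor_i^R(M, N), the i-th left derived functor of − ⊗_R N evaluated at M (existence of
an isomorphism of R-modules). -/
theorem result (R : Type u) [CommRing R] (M N : Type u) [AddCommGroup M] [Module R M] [AddCommGroup N] [Module R N] (F : ChainComplex (ModuleCat.{u} R) ℕ) (hF : ∀ i : ℕ, Module.Flat R (F.X i)) (φ : F ⟶ (ChainComplex.single₀ (ModuleCat.{u} R)).obj (ModuleCat.of R M)) [QuasiIso φ] (i : ℕ) : Nonempty ((((MonoidalCategory.tensorRight (ModuleCat.of R N)).mapHomologicalComplex (ComplexShape.down ℕ)).obj F).homology i ≅ ((Tor' (ModuleCat.{u} R) i).obj (ModuleCat.of R M)).obj (ModuleCat.of R N)) := by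
  let P := ProjectiveResolution.of (ModuleCat.of R M)
  exact ⟨homologyTensorIso F hF φ N i ≪≫
    (Groth.Agent.H9Misc.TorBalance.torIso' P (ModuleCat.of R N) i) ≪≫
    (P.isoLeftDerivedObj ((MonoidalCategory.tensoringRight (ModuleCat.{u} R)).obj (ModuleCat.of R N)) i).symm⟩

end Groth.Agent.S17773
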