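import Groth.Statements.S17788
import Groth.Agent.Pi1Rig.CplEtale
import Groth.Agent.Pi1Rig.PureBase
import Groth.Agent.Pi1Rig.PureConn
import Groth.Agent.Pi1Ext.BranchPurity

set_option autoImplicit false
attribute [-instance] CategoryTheory.catToReflQuiver
set_option backward.isDefEq.respectTransparency false
set_option linter.style.haveILetI false
universe u
open CategoryTheory CategoryTheory.Limits AlgebraicGeometry
open Pi1
open CategoryTheory AlgebraicGeometry

namespace Groth.Agent.S17788

/-- Let A be an excellent normal local domain and r a natural number such that A is pure in codimension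
at least r, in the sense that for every prime ideal P of A of height at least r the completion of
the local ring A_P at its maximal ideal is pure (for every open V of its spectrum, restriction of
finite étale covers from V to the part of V outside the closed point is an equivalence of
categories). Let B be a normal domain which is a finite extension of A with injective structure map.
Then every prime ideal q of B which is minimal among the primes at which B is not unramified over A
(B_q not formally unramified over A) has height less than r. -/
theorem result (A : Type u) [CommRing A] [IsDomain A] [IsLocalRing A] [IsNoetherianRing A] [IsIntegrallyClosed A] (hA : EGA4.IsExcellent A) (r : ℕ) (hpure : ∀ (P : Ideal A) [P.IsPrime], (r : ℕ∞) ≤ P.height → SGA2.IsPurePair (Spec (CommRingCat.of (AdicCompletion (IsLocalRing.maximalIdeal (Localization.AtPrime P)) (Localization.AtPrime P)))) (FEt.puncturedSpec (AdicCompletion (IsLocalRing.maximalIdeal (Localization.AtPrime P)) (Localization.AtPrime P)))) (B : Type u) [CommRing B] [IsDomain B] [IsIntegrallyClosed B] [Algebra A B] [Module.Finite A B] (hinj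 : Function.Injective (algebraMap A B)) (q : Ideal B) [q.IsPrime] (hq : ¬ Algebra.IsUnramifiedAt A q) (hmin : ∀ (q' : Ideal B) [q'.IsPrime], q' ≤ q → ¬ Algebra.IsUnramifiedAt A q' → q' = q) : q.height < (r : ℕ∞) := by
  by_contra hr
  rw [not_lt] at hr
  haveI := hA.1
  haveI : IsNoetherianRing B := IsNoetherianRing.of_finite A B
  let P : Ideal A := q.comap (algebraMap A B)
  have hrP : (r : ℕ∞) ≤ P.height :=
    hr.trans (Groth.Agent.Pi1Ext.BranchPurity.height_le_under_of_qf (R := A) ⟨q, inferInstance⟩)
  have hp := hpure P hrP
  let A' := Localization.AtPrime P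
  haveI : IsNoetherianRing A' := IsLocalization.isNoetherianRing P.primeCompl _ inferInstance
  haveI : IsDomain A' := IsLocalization.isDomain_localization P.primeCompl_le_nonZeroDivisors
  haveI : IsIntegrallyClosed A' :=
    isIntegrallyClosed_of_isLocalization _ P.primeCompl P.primeCompl_le_nonZeroDivisors
  haveI : IsLocalRing (EGA4.Cpl A') := Groth.Agent.FlatLoc6.isLocalRing_cpl A'
  have heq : (FEt.restrict (FEt.puncturedSpec (EGA4.Cpl A')).ι).IsEquivalence :=
    (Groth.Agent.Pi1Rig.isPurePair_punctured_iff (EGA4.Cpl A')).1 hp
  have hne : ¬ IsField (EGA4.Cpl A') := fun hf => by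
    haveI := heq
    haveI : ConnectedSpace ↥(Spec (CommRingCat.of (EGA4.Cpl A'))) :=
      { toPreconnectedSpace := ⟨fun u v hu hv hcov ⟨x, _, hx⟩ ⟨y, _, hy⟩ => by
          rcases hcov (Set.mem_univ (IsLocalRing.closedPoint (EGA4.Cpl A'))) with h | h
          · exact ⟨y, trivial, ((PrimeSpectrum.le_iff_specializes y _).1
              (IsLocalRing.le_maximalIdeal y.isPrime.ne_top)).mem_open hu h, hy⟩
          · exact ⟨x, trivial, hx, ((PrimeSpectrum.le_iff_specializes x _).1
              (IsLocalRing.le_maximalIdeal x.isPrime.ne_top)).mem_open hv h⟩⟩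
        toNonempty := ⟨IsLocalRing.closedPoint (EGA4.Cpl A')⟩ }
    obtain ⟨⟨x, hx⟩⟩ := (Groth.Agent.Pi1Rig.connectedSpace_of_restrict
      (FEt.puncturedSpec (EGA4.Cpl A')).ι).toNonempty
    refine hx (PrimeSpectrum.ext ?_)
    show x.asIdeal = IsLocalRing.maximalIdeal (EGA4.Cpl A')
    letI := hf.toField
    rw [(Ideal.eq_bot_or_top x.asIdeal).resolve_right x.isPrime.ne_top,
      (Ideal.eq_bot_or_top (IsLocalRing.maximalIdeal (EGA4.Cpl A'))).resolve_right
        (IsLocalRing.maximalIdeal.isMaximal _).ne_top]
  let M := Algebra.algebraMapSubmonoid B P.primeCompl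
  have hM : M ≤ nonZeroDivisors B := by
    rintro _ ⟨a, ha, rfl⟩
    exact mem_nonZeroDivisors_of_ne_zero ((map_ne_zero_iff _ hinj).2 fun h0 => ha (by rw [h0]; exact P.zero_mem))
  let B' := Localization M
  haveI : IsDomain B' := IsLocalization.isDomain_localization hM
  haveI : IsIntegrallyClosed B' := isIntegrallyClosed_of_isLocalization B' M hM
  letI : Algebra A' B' := localizationAlgebra P.primeCompl B
  haveI : Module.Finite A' B' := Module.Finite.of_isLocalization A B P.primeCompl
  have hinj' : Function.Injective (algebraMap A' B') :=
    localizationAlgebra_injective (Rₘ := A') (Sₘ := B') (M := P.primeCompl) hinj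
  have hdisj : Disjoint (M : Set B) (q : Set B) := Set.disjoint_left.2 fun x ⟨a, ha, hax⟩ hm =>
    ha (show algebraMap A B a ∈ q from hax ▸ hm)
  let q' : Ideal B' := q.map (algebraMap B B')
  haveI : q'.IsPrime := IsLocalization.isPrime_of_isPrime_disjoint M B' q ‹_› hdisj
  have hq'q : q'.comap (algebraMap B B') = q := IsLocalization.under_map_of_isPrime_disjoint M B' ‹_› hdisj
  have hq'm : q'.comap (algebraMap A' B') = IsLocalRing.maximalIdeal A' := by
    rw [← IsLocalization.map_under P.primeCompl A' (q'.comap (algebraMap A' B')),
      show Ideal.under A (q'.comap (algebraMap A' B')) = P by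
        show (q'.comap (algebraMap A' B')).comap (algebraMap A A') = q.comap (algebraMap A B)
        rw [Ideal.comap_comap, ← IsScalarTower.algebraMap_eq, ← hq'q, Ideal.comap_comap,
          ← IsScalarTower.algebraMap_eq]]
    exact Localization.AtPrime.map_eq_maximalIdeal
  have htr : ∀ (Q : Ideal B') [Q.IsPrime],
      Algebra.IsUnramifiedAt A' Q ↔ Algebra.IsUnramifiedAt A (Q.comap (algebraMap B B')) := fun Q _ => by
    let L := Localization.AtPrime Q
    haveI : IsLocalization.AtPrime L (Q.comap (algebraMap B B')) :=
      IsLocalization.isLocalization_isLocalization_atPrime_isLocalization M (T := L) Q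
    haveI : IsScalarTower A B L := IsScalarTower.of_algebraMap_eq fun x => by
      rw [IsScalarTower.algebraMap_apply A B' L, IsScalarTower.algebraMap_apply A B B',
        ← IsScalarTower.algebraMap_apply B B' L]
    let e : Localization.AtPrime (Q.comap (algebraMap B B')) ≃ₐ[A] L :=
      (IsLocalization.algEquiv (Q.comap (algebraMap B B')).primeCompl _ _).restrictScalars A
    constructor
    · intro h
      haveI : Algebra.FormallyUnramified A' L := h
      haveI : Algebra.FormallyUnramified A A' := Algebra.FormallyUnramified.of_isLocalization P.primeCompl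
      haveI : Algebra.FormallyUnramified A L := Algebra.FormallyUnramified.comp A A' L
      exact Algebra.FormallyUnramified.of_equiv e.symm
    · intro h
      haveI : Algebra.FormallyUnramified A L :=
        @Algebra.FormallyUnramified.of_equiv _ _ _ _ _ _ _ _ h e
      exact Algebra.FormallyUnramified.of_restrictScalars A A' L
  refine hq ?_
  have h := (htr q').1 (Groth.Agent.Pi1Rig.unramified_of_pure (hA.2.2.1.2 P)
    (Groth.Agent.CplFib6.isGRing_localization
      (Groth.Agent.CplFib6.isExcellent_of_finiteType hA B).2.2.1 M B') hne
    heq.essSurj hinj' q' hq'm fun Q _ hQ => (htr Q).2 (by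
      by_contra hQn
      have hle : Q.comap (algebraMap B B') ≤ q := hq'q ▸ Ideal.comap_mono hQ.le
      have h2 := hmin _ hle hQn
      refine hQ.ne ?_
      rw [← IsLocalization.map_under M B' Q]
      exact congrArg (Ideal.map (algebraMap B B')) h2))
  simp only [hq'q] at h
  exact h

end Groth.Agent.S17788
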