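import Groth.Statements.S17790
import Groth.Agent.Pi1Rig.PureConn
import Groth.Agent.LefLib.Connected

set_option autoImplicit false
attribute [-instance] CategoryTheory.catToReflQuiver
set_option backward.isDefEq.respectTransparency false
universe u
open CategoryTheory CategoryTheory.Limits AlgebraicGeometry
open Pi1

namespace Groth.Agent.S17790

/-- Let A be a Noetherian local ring and I an ideal for which A is I-adically complete and A/I is local;
write X = Spec A, Y = V(I) and U for the punctured spectrum. Suppose that A is pure (the pair formed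
by X and its closed point is pure) and that the effective Lefschetz condition Leff(U, U ∩ Y) holds.
Then Y minus the closed point, i.e. U ∩ Y, is a connected (nonempty) subset of X. -/
theorem result (A : Type u) [CommRing A] [IsLocalRing A] [IsNoetherianRing A] (I : Ideal A) [IsAdicComplete I A] [IsLocalRing (A ⧸ I)] (hpure : SGA2.IsPurePair (Spec (CommRingCat.of A)) (FEt.puncturedSpec A)) (hleff : LefX.LeffCond (↑(FEt.puncturedSpec A) : Scheme.{u}) ((Spec.map (CommRingCat.ofHom (Ideal.Quotient.mk I))).ker.comap (FEt.puncturedSpec A).ι)) : IsConnected (((Spec.map (CommRingCat.ofHom (Ideal.Quotient.mk I))).ker.support : Set ↥(Spec (CommRingCat.of A))) ∩ (FEt.puncturedSpec A : Set ↥(Spec (CommRingCat.of A)))) := by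
  let X := Spec (CommRingCat.of A)
  let U := FEt.puncturedSpec A
  let K := (Spec.map (CommRingCat.ofHom (Ideal.Quotient.mk I))).ker
  haveI hconnX : ConnectedSpace (PrimeSpectrum A) :=
    { toPreconnectedSpace := ⟨fun u v hu hv hcov ⟨x, _, hx⟩ ⟨y, _, hy⟩ => by
        rcases hcov (Set.mem_univ (IsLocalRing.closedPoint A)) with h | h
        · exact ⟨y, trivial, ((PrimeSpectrum.le_iff_specializes y _).1
            (IsLocalRing.le_maximalIdeal y.isPrime.ne_top)).mem_open hu h, hy⟩
        · exact ⟨x, trivial, hx, ((PrimeSpectrum.le_iff_specializes x _).1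
            (IsLocalRing.le_maximalIdeal x.isPrime.ne_top)).mem_open hv h⟩⟩
      toNonempty := ⟨IsLocalRing.closedPoint A⟩ }
  haveI : ConnectedSpace ↥X := hconnX
  haveI : ConnectedSpace ↥((⊤ : X.Opens) : Scheme.{u}) :=
    X.topIso.inv.homeomorph.surjective.connectedSpace X.topIso.inv.continuous
  haveI := hpure ⊤
  haveI := Groth.Agent.Pi1Rig.connectedSpace_of_restrict (X.homOfLE (inf_le_left : (⊤ : X.Opens) ⊓ U ≤ ⊤))
  haveI : ConnectedSpace ↥(U : Scheme.{u}) := by
    let e := (X.isoOfEq (top_inf_eq U)).hom.homeomorph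
    exact e.surjective.connectedSpace e.continuous
  have hB : Lef.HomToFormalBijective ((K.comap U.ι).comap (⊤ : U.toScheme.Opens).ι) (Coh.structureModule _) :=
    hleff.1 ⊤ (Set.subset_univ _) _ Groth.Agent.LefLib.isFinLocFree_structureModule
  haveI : ConnectedSpace ↥((⊤ : U.toScheme.Opens) : Scheme.{u}) :=
    U.toScheme.topIso.inv.homeomorph.surjective.connectedSpace U.toScheme.topIso.inv.continuous
  have h := (Groth.Agent.LefLib.isConnected_support hB).image
    ((⊤ : U.toScheme.Opens).ι ≫ U.ι) (Scheme.Hom.continuous _).continuousOn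
  convert h using 1
  rw [Scheme.IdealSheafData.support_comap, Scheme.IdealSheafData.support_comap]
  ext x
  constructor
  · rintro ⟨hx, hxU⟩
    exact ⟨⟨⟨x, hxU⟩, trivial⟩, hx, rfl⟩
  · rintro ⟨y, hy, rfl⟩
    exact ⟨hy, y.1.2⟩

end Groth.Agent.S17790
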