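import Groth.Statements.S17794
import Groth.Agent.GrpdLib.QuotSheaf
import Groth.Agent.GrpSchLib.HomFibre
import Groth.Agent.GITQuot.Fppf
import Groth.Agent.GrpSchLib.HomQC
import Groth.Agent.SrcDescent.LocalAtSource

set_option autoImplicit false
universe u
open CategoryTheory CategoryTheory.Limits MonoidalCategory CartesianMonoidalCategory MonObj GrpObj AlgebraicGeometry
open GrpSch

set_option backward.isDefEq.respectTransparency false
set_option backward.isDefEq.respectTransparency.types false

namespace Groth.Agent.S17794

/-- Let S be a scheme and f : G → H a homomorphism of S-group schemes, both of finite presentation over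
S (locally of finite presentation, quasi-compact and quasi-separated), and let i : N → G be the
kernel of f (the square formed by i, f, the unit section of H and N → S is cartesian). Then f is
faithfully flat (flat and surjective) if and only if the map of representable sheaves h_G → h_H
induced by f on the big fppf site of S is an epimorphism of sheaves of sets and N is flat over S. -/
theorem result {S : Scheme.{u}} {G H N : Over S} [GrpObj G] [GrpObj H] (f : G ⟶ H) [IsMonHom f] [LocallyOfFinitePresentation G.hom] [QuasiCompact G.hom] [QuasiSeparated G.hom] [LocallyOfFinitePresentation H.hom] [QuasiCompact H.hom] [QuasiSeparated H.hom] (i : N ⟶ G) (hi : AlgGrp.IsKernel i f) : (Flat f.left ∧ Surjective f.left) ↔ (Epi (QuotSh.repMap Scheme.fppfPrecoverage f) ∧ Flat N.hom) := by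
  have : LocallyOfFinitePresentation f.left := by
    have : LocallyOfFinitePresentation (f.left ≫ H.hom) := by rw [Over.w]; infer_instance
    exact AlgSpPts.locallyOfFinitePresentation_of_comp f.left H.hom
  refine ⟨fun ⟨hfl, hsu⟩ => ⟨?_, ?_⟩, fun ⟨hepi, hN⟩ => ?_⟩
  · have hq : Sieve.generate (Presieve.singleton f.left) ∈ Scheme.fppfPrecoverage.toGrothendieck H.left := by
      refine Precoverage.generate_mem_toGrothendieck ?_
      exact (Scheme.singleton_mem_precoverage_iff _ f.left).mpr ⟨hsu.surj, hfl, inferInstance⟩
    have hls := GrpdLib.isLocallySurjective_of_cover Scheme.fppfPrecoverage f hq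
    rw [← Sheaf.isLocallySurjective_iff_epi]
    exact (Presheaf.isLocallySurjective_presheafToSheaf_map_iff _ _).2 hls
  · have h := hi.map (Over.forget S)
    have hf' : Flat (toUnit N).left := MorphismProperty.of_isPullback (P := @Flat) h hfl
    have : N.hom = (toUnit N).left ≫ (𝟙_ (Over S)).hom := (Over.w (toUnit N)).symm
    rw [this]
    have : Flat (𝟙_ (Over S)).hom := inferInstanceAs (Flat (𝟙 S))
    infer_instance
  · have hls : Presheaf.IsLocallySurjective (QuotSh.J Scheme.fppfPrecoverage S)
        (Functor.whiskerRight (yoneda.map f) uliftFunctor.{u + 1, u}) :=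
      (Presheaf.isLocallySurjective_presheafToSheaf_map_iff _ _).1
        ((Sheaf.isLocallySurjective_iff_epi _).2 hepi)
    have hmem := hls.imageSieve_mem (U := H) ⟨𝟙 H⟩
    rw [GrothendieckTopology.mem_over_iff] at hmem
    obtain ⟨I, W, g, hg, hgfl, hglfp, hsurj⟩ := GITQuot.exists_cover hmem
    have hl : ∀ j, ∃ l : W j ⟶ G.left, l ≫ f.left = g j := fun j => by
      obtain ⟨x, hx⟩ := (Sieve.overEquiv_iff _ _).1 (hg j)
      refine ⟨x.down.left, ?_⟩
      have := congrArg (fun z => (ULift.down z).left) hx
      simpa using this
    choose l hl using hl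
    refine ⟨Flat.of_stalkMap _ fun x => ?_, ⟨fun y => ?_⟩⟩
    · obtain ⟨j, w, hw⟩ := hsurj (f.left x)
      have := hgfl j
      obtain ⟨z, hz1, hz2⟩ := Scheme.Pullback.exists_preimage_pullback (f := g j) (g := f.left) w x hw
      have hsq : IsPullback ((fst N G ≫ i) * snd N G).left (snd N G).left f.left f.left :=
        (GrpSchLib.isPullback_kernel_translate i f hi).map (Over.forget S)
      have sq' : IsPullback (pullback.snd (l j) (snd N G).left) (pullback.fst (l j) (snd N G).left) (snd N G).left (l j) :=
        (IsPullback.of_hasPullback _ _).flip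
      have big := sq'.paste_horiz hsq
      have hfl' : Flat (pullback.fst (g j) f.left) := by
        have hsn : Flat (snd N G).left := by rw [Over.snd_left]; infer_instance
        have h1 : Flat (pullback.fst (l j) (snd N G).left) := inferInstance
        have big' : IsPullback (pullback.fst (l j) (snd N G).left)
            (pullback.snd (l j) (snd N G).left ≫ ((fst N G ≫ i) * snd N G).left) (g j) f.left := hl j ▸ big.flip
        rw [← MorphismProperty.cancel_left_of_respectsIso @Flat big'.isoPullback.hom, IsPullback.isoPullback_hom_fst]
        exact h1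
      have : Flat (pullback.snd (g j) f.left ≫ f.left) := by
        rw [← pullback.condition]; infer_instance
      rw [← hz2]
      exact SrcDescent.flat_of_flat_comp (pullback.snd (g j) f.left) f.left z this
    · obtain ⟨j, w, hw⟩ := hsurj y
      exact ⟨l j w, by rw [← Scheme.Hom.comp_apply, hl]; exact hw⟩

end Groth.Agent.S17794
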