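import Groth.Statements.S17797
import Groth.Statements.S17797
import Mathlib
set_option linter.style.haveILetI false
set_option maxHeartbeats 1000000
set_option synthInstance.maxHeartbeats 200000

set_option autoImplicit false
universe u
open CAlg

namespace Groth.Agent.S17797

/-- Suppose k is a field of characteristic zero and S is a local domain that is an essentially
finite-type k-algebra. Then there are an extension field K of k, a K-algebra A of finite type and a
maximal ideal m of A such that S is isomorphic over k to the localization A_m. -/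
theorem result (k : Type u) [Field k] [CharZero k] (S : Type u) [CommRing S] [IsDomain S] [IsLocalRing S] [Algebra k S] [Algebra.EssFiniteType k S] : ∃ (K : Type u) (_ : Field K) (_ : Algebra k K) (A : Type u) (_ : CommRing A) (_ : Algebra K A) (_ : Algebra k A) (_ : IsScalarTower k K A) (_ : Algebra.FiniteType K A) (m : Ideal A) (_ : m.IsMaximal), Nonempty (S ≃ₐ[k] Localization.AtPrime m) := by
  classical
  let A0 := Algebra.EssFiniteType.subalgebra k S
  let M0 := Algebra.EssFiniteType.submonoid k S
  let κ := IsLocalRing.ResidueField S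
  let p : Ideal A0 := (IsLocalRing.maximalIdeal S).comap (algebraMap A0 S)
  haveI : p.IsPrime := Ideal.IsPrime.comap _
  have hM0 : p.primeCompl = M0 := by
    ext x
    show (algebraMap A0 S x ∉ IsLocalRing.maximalIdeal S) ↔ IsUnit (algebraMap A0 S x)
    exact IsLocalRing.notMem_maximalIdeal
  haveI hS : IsLocalization.AtPrime S p := by
    show IsLocalization p.primeCompl S
    rw [hM0]
    infer_instance
  -- the residue map of `A0`
  let π : A0 →ₐ[k] κ := IsScalarTower.toAlgHom k A0 κ
  have hπ : ∀ a : A0, π a = IsLocalRing.residue S (algebraMap A0 S a) := fun a => rfl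
  have hπ0 : ∀ a : A0, π a = 0 ↔ a ∈ p := fun a => by
    rw [hπ]; exact IsLocalRing.residue_eq_zero_iff _
  -- `κ` is algebraic over the image of `A0`, so it has a transcendence basis in the image
  have htalg : Algebra.IsAlgebraic (Algebra.adjoin k (Set.range π)) κ := by
    refine ⟨fun x => ?_⟩
    obtain ⟨y, rfl⟩ := IsLocalRing.residue_surjective x
    obtain ⟨⟨a, s⟩, hy⟩ := IsLocalization.surj p.primeCompl y
    let a' : Algebra.adjoin k (Set.range π) := ⟨π a, Algebra.subset_adjoin ⟨a, rfl⟩⟩
    let s' : Algebra.adjoin k (Set.range π) := ⟨π s, Algebra.subset_adjoin ⟨s, rfl⟩⟩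
    have hs' : s' ≠ 0 := fun h => s.2 ((hπ0 _).mp (congrArg Subtype.val h))
    refine ⟨Polynomial.C s' * Polynomial.X - Polynomial.C a', fun h => hs' ?_, ?_⟩
    · simpa using congrArg (Polynomial.coeff · 1) h
    · simp only [map_sub, map_mul, Polynomial.aeval_C, Polynomial.aeval_X]
      show π s * IsLocalRing.residue S y - π a = 0
      rw [hπ, hπ, ← map_mul, mul_comm, hy, sub_self]
  haveI := htalg
  obtain ⟨t, htsub, ht⟩ := exists_isTranscendenceBasis_subset (R := k) (A := κ) (Set.range π)
  choose ι hι using fun i : t => htsub i.2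
  let P := MvPolynomial t k
  let φ : P →ₐ[k] A0 := MvPolynomial.aeval ι
  have hφ : ∀ q : P, π (φ q) = MvPolynomial.aeval (Subtype.val : t → κ) q := by
    intro q
    have : (π.comp φ) = MvPolynomial.aeval (Subtype.val : t → κ) := by
      ext i
      simp [φ, hι]
    exact DFunLike.congr_fun this q
  have hφ0 : ∀ q : P, q ≠ 0 → φ q ∉ p := fun q hq h =>
    hq (ht.1 (show MvPolynomial.aeval (Subtype.val : t → κ) q = MvPolynomial.aeval (Subtype.val : t → κ) 0 by
      rw [← hφ, (hπ0 _).mpr h, map_zero]))
  let K := FractionRing P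
  let T : Submonoid A0 := (nonZeroDivisors P).map φ.toRingHom
  let A := Localization T
  have hTp : T ≤ p.primeCompl := by
    rintro _ ⟨q, hq, rfl⟩
    exact hφ0 q (nonZeroDivisors.ne_zero hq)
  let gK : K →+* A := IsLocalization.lift (M := nonZeroDivisors P) (g := (algebraMap A0 A).comp φ.toRingHom)
    (fun q => IsLocalization.map_units (M := T) A ⟨φ q, ⟨q, q.2, rfl⟩⟩)
  letI algKA : Algebra K A := gK.toAlgebra
  have hgK : ∀ q : P, algebraMap K A (algebraMap P K q) = algebraMap A0 A (φ q) := fun q =>
    IsLocalization.lift_eq _ q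
  haveI towerKA : IsScalarTower k K A := IsScalarTower.of_algebraMap_eq fun c => by
    rw [IsScalarTower.algebraMap_apply k P K, hgK, AlgHom.commutes, ← IsScalarTower.algebraMap_apply]
  -- finite type over `K`
  haveI : Algebra.FiniteType K A := by
    let F : TensorProduct k K A0 →ₐ[K] A :=
      Algebra.TensorProduct.lift (Algebra.ofId K A) (IsScalarTower.toAlgHom k A0 A) (fun _ _ => Commute.all _ _)
    refine Algebra.FiniteType.of_surjective F fun z => ?_
    obtain ⟨⟨a, ⟨_, q, hq, rfl⟩⟩, hz⟩ := IsLocalization.surj T z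
    refine ⟨TensorProduct.tmul k (algebraMap P K q)⁻¹ a, ?_⟩
    have hne : algebraMap P K q ≠ 0 := fun h =>
      nonZeroDivisors.ne_zero hq (IsFractionRing.injective P K (h.trans (map_zero _).symm))
    show algebraMap K A (algebraMap P K q)⁻¹ * algebraMap A0 A a = z
    rw [← hz]
    show algebraMap K A (algebraMap P K q)⁻¹ * (z * algebraMap A0 A (φ q)) = z
    rw [← hgK, mul_left_comm, ← map_mul, inv_mul_cancel₀ hne, map_one, mul_one]
  -- the maximal ideal
  letI algKκ : Algebra K κ := (IsLocalization.lift (M := nonZeroDivisors P) (g := π.toRingHom.comp φ.toRingHom)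
    (fun q => isUnit_iff_ne_zero.mpr fun h => hφ0 q (nonZeroDivisors.ne_zero q.2) ((hπ0 _).mp h)) : K →+* κ).toAlgebra
  have hgκ : ∀ q : P, algebraMap K κ (algebraMap P K q) = π (φ q) := fun q => IsLocalization.lift_eq _ q
  haveI : Algebra.IsAlgebraic K κ := by
    haveI := ht.isAlgebraic
    refine Algebra.IsAlgebraic.ringHom_of_comp_eq (R := Algebra.adjoin k (Set.range (Subtype.val : t → κ)))
      ((algebraMap P K).comp ht.1.aevalEquiv.symm.toRingEquiv.toRingHom) (RingHom.id κ)
      ((IsFractionRing.injective P K).comp ht.1.aevalEquiv.symm.injective) Function.surjective_id ?_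
    ext x
    show algebraMap K κ (algebraMap P K (ht.1.aevalEquiv.symm x)) = (x : κ)
    rw [hgκ, hφ, ← AlgebraicIndependent.algebraMap_aevalEquiv ht.1, AlgEquiv.apply_symm_apply]
    rfl
  let ψ₀ : A →+* κ := IsLocalization.lift (M := T) (g := π.toRingHom)
    (fun s => isUnit_iff_ne_zero.mpr fun h => hTp s.2 ((hπ0 _).mp h))
  have hψ₀ : ∀ a : A0, ψ₀ (algebraMap A0 A a) = π a := fun a => IsLocalization.lift_eq _ a
  let ψ : A →ₐ[K] κ :=
    { ψ₀ with
      commutes' := fun c => by
        have : ψ₀.comp (algebraMap K A) = algebraMap K κ := by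
          refine IsLocalization.ringHom_ext (nonZeroDivisors P) (RingHom.ext fun q => ?_)
          show ψ₀ (algebraMap K A (algebraMap P K q)) = algebraMap K κ (algebraMap P K q)
          rw [hgK, hψ₀, hgκ]
        exact DFunLike.congr_fun this c }
  let m : Ideal A := RingHom.ker ψ.toRingHom
  haveI hm : m.IsMaximal := by
    have hf : IsField ψ.range := Subalgebra.isField_of_algebraic ψ.range
    letI := hf.toField
    have := RingHom.ker_isMaximal_of_surjective ψ.rangeRestrict ψ.rangeRestrict_surjective
    rw [AlgHom.ker_rangeRestrict] at this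
    exact this
  have hcm : m.comap (algebraMap A0 A) = p := by
    ext a
    show ψ₀ (algebraMap A0 A a) = 0 ↔ a ∈ p
    rw [hψ₀, hπ0]
  haveI hAm : IsLocalization.AtPrime (Localization.AtPrime m) p := by
    have := IsLocalization.isLocalization_isLocalization_atPrime_isLocalization T (Localization.AtPrime m) m
    simp only [hcm] at this
    exact this
  haveI : IsScalarTower k A0 (Localization.AtPrime m) := IsScalarTower.to₁₂₄ k A0 A (Localization.AtPrime m)
  exact ⟨K, inferInstance, inferInstance, A, inferInstance, algKA, inferInstance, towerKA, inferInstance, m, hm,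
    ⟨(IsLocalization.algEquiv p.primeCompl S (Localization.AtPrime m)).restrictScalars k⟩⟩

end Groth.Agent.S17797
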