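import Groth.Statements.S5785
import Groth.Agent.FormalFib6.Cplt
import Groth.Agent.RegFS6.Field
import Groth.Agent.S0548
import Groth.Agent.S0565

set_option autoImplicit false
universe u
open EGA41

namespace Groth.Agent.S5785

/-- Let A be a regular ring and J an ideal of A. Then the separated completion of A for the J-adic
topology is a regular ring. -/
theorem result (A : Type u) [CommRing A] [IsRegularRing A] (J : Ideal A) :
    IsRegularRing (AdicCompletion J A) := by
  haveI := FormalFib6.isNoetherianRing_adicCompletion A J
  refine RegFS6.isRegularRing_of_maximal _ fun M _ => ?_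
  obtain ⟨m, _, _, _, hff⟩ := FormalFib6.exists_atMaximal A J M
  haveI : IsRegularLocalRing (EGA4.Cpl (Localization.AtPrime m)) :=
    (S0548.result (Localization.AtPrime m)).1 inferInstance
  haveI : IsLocalHom (algebraMap (Localization.AtPrime M) (EGA4.Cpl (Localization.AtPrime m))) :=
    inferInstance
  exact S0565.result _ (EGA4.Cpl (Localization.AtPrime m))

end Groth.Agent.S5785
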