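import Groth.Statements.S17803
import Groth.Agent.S0600
import Groth.Agent.S5785
import Groth.Agent.CplFib6.Excellent
import Groth.Agent.FlatLoc6.GeomComp

set_option autoImplicit false
universe u
open EGA4

namespace Groth.Agent.S17803

/-- A surjection of rings induces a surjection of completions. -/
theorem exists_completion_surjective {R S : Type u} [CommRing R] [CommRing S] (ψ : R →+* S)
    (hψ : Function.Surjective ψ) (I : Ideal S) :
    ∃ F : AdicCompletion (I.comap ψ) R →+* AdicCompletion I S, Function.Surjective F := by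
  let J := I.comap ψ
  have hJ : J.map ψ = I := Ideal.map_comap_of_surjective ψ hψ I
  have hle : ∀ n, J ^ n ≤ (I ^ n).comap ψ := fun n => by
    rw [← Ideal.map_le_iff_le_comap, Ideal.map_pow, hJ]
  let f : ∀ n, AdicCompletion J R →+* S ⧸ I ^ n := fun n =>
    (Ideal.quotientMap (I ^ n) ψ (hle n)).comp (AdicCompletion.evalₐ J n).toRingHom
  have hf : ∀ {i n : ℕ} (h : i ≤ n), (Ideal.Quotient.factorPow I h).comp (f n) = f i := by
    intro i n h
    refine RingHom.ext fun x => ?_
    obtain ⟨g, rfl⟩ := AdicCompletion.mk_surjective J R x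
    simp only [f, RingHom.comp_apply, AlgHom.toRingHom_eq_coe, RingHom.coe_coe,
      AdicCompletion.evalₐ_mk, Ideal.quotientMap_mk]
    show Ideal.Quotient.mk _ (ψ (g n)) = Ideal.Quotient.mk _ (ψ (g i))
    rw [Ideal.Quotient.eq, ← map_sub]
    refine hle i ?_
    simpa using neg_mem (SModEq.sub_mem.1 (g.property h))
  refine ⟨AdicCompletion.liftRingHom I f hf, fun y => ?_⟩
  obtain ⟨b, rfl⟩ := AdicCompletion.mk_surjective I S y
  choose a ha using fun n => hψ (b n)
  have step : ∀ (n : ℕ) (r : R), ψ r - b n ∈ I ^ n →
      ∃ r' : R, ψ r' - b (n + 1) ∈ I ^ (n + 1) ∧ r' - r ∈ J ^ n := by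
    intro n r hr
    have hb : b (n + 1) - b n ∈ I ^ n := by
      simpa using neg_mem (SModEq.sub_mem.1 (b.property (Nat.le_succ n)))
    have h1 : ψ (a (n + 1) - r) ∈ (J ^ n).map ψ := by
      rw [Ideal.map_pow, hJ, map_sub, ha, ← sub_sub_sub_cancel_right (b (n + 1)) (ψ r) (b n)]
      exact sub_mem hb hr
    obtain ⟨j, hj, hje⟩ := (Ideal.mem_map_iff_of_surjective ψ hψ).mp h1
    exact ⟨r + j, by rw [map_add, hje, map_sub, add_sub_cancel, ha, sub_self]; exact zero_mem _,
      by rwa [add_sub_cancel_left]⟩
  choose nxt h1 h2 using step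
  let c : ∀ n, {r : R // ψ r - b n ∈ I ^ n} := Nat.rec ⟨0, by simp⟩
    fun n r => ⟨nxt n r.1 r.2, h1 n r.1 r.2⟩
  refine ⟨AdicCompletion.mk J R (AdicCompletion.AdicCauchySequence.mk J R (fun n => (c n).1) fun n => ?_), ?_⟩
  · rw [SModEq.sub_mem, smul_eq_mul, Ideal.mul_top, ← neg_sub]
    exact neg_mem (h2 n (c n).1 (c n).2)
  · refine AdicCompletion.ext_evalₐ fun n => ?_
    rw [AdicCompletion.evalₐ_liftRingHom, AdicCompletion.evalₐ_mk]
    show Ideal.quotientMap (I ^ n) ψ (hle n) (AdicCompletion.evalₐ J n (AdicCompletion.mk J R _)) = _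
    rw [AdicCompletion.evalₐ_mk, Ideal.quotientMap_mk, Ideal.Quotient.eq]
    exact (c n).2

/-- Localizations of regular rings are regular. -/
theorem regular_away (R : Type u) [CommRing R] [IsRegularRing R] (g : R) :
    IsRegularRing (Localization.Away g) :=
  GeomReg.isRegularRing_of_isLocalization (Submonoid.powers g) _

/-- Let A be an excellent normal domain which is a quotient of a regular ring, I an ideal of A and f ∈
A. Then the I-adic completion of the localization A_f is a normal ring (its localization at every
prime ideal is an integrally closed domain), and it is a quotient of a regular ring. -/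
theorem result (A : Type u) [CommRing A] [IsDomain A] [IsIntegrallyClosed A] (hexc : EGA4.IsExcellent A) (hreg : ∃ (R : Type u) (_ : CommRing R) (_ : IsRegularRing R) (φ : R →+* A), Function.Surjective φ) (I : Ideal A) (f : A) : EGA4.IsNormalRing (AdicCompletion (I.map (algebraMap A (Localization.Away f))) (Localization.Away f)) ∧ ∃ (R' : Type u) (_ : CommRing R') (_ : IsRegularRing R') (ψ : R' →+* AdicCompletion (I.map (algebraMap A (Localization.Away f))) (Localization.Away f)), Function.Surjective ψ := by
  haveI := hexc.1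
  haveI : IsNoetherianRing (Localization.Away f) :=
    IsLocalization.isNoetherianRing (Submonoid.powers f) _ inferInstance
  haveI : IsNoetherianRing (AdicCompletion (I.map (algebraMap A (Localization.Away f))) (Localization.Away f)) :=
    FormalFib6.isNoetherianRing_adicCompletion _ _
  have hG : CAlg.IsGRing (Localization.Away f) := CplFib6.isGRing_localization hexc.2.2.1 (Submonoid.powers f) _
  refine ⟨FlatLoc6.normal_of_isNormalHom _ _
    (FlatLoc6.isNormalHom_of_isRegularHom _ _ (S0600.result _ hG (I.map (algebraMap A (Localization.Away f)))))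
    (fun q _ => ?_), ?_⟩
  · have hf : f ≠ 0 := fun h => by
      haveI : Subsingleton (Localization.Away f) :=
        IsLocalization.subsingleton (M := Submonoid.powers f) ⟨1, by simp only [pow_one]; exact h⟩
      exact Ideal.IsPrime.ne_top ‹_› (Subsingleton.elim q ⊤)
    have hle : Submonoid.powers f ≤ nonZeroDivisors A := powers_le_nonZeroDivisors_of_noZeroDivisors hf
    haveI : IsDomain (Localization.Away f) := IsLocalization.isDomain_localization hle
    haveI : IsIntegrallyClosed (Localization.Away f) :=
      isIntegrallyClosed_of_isLocalization _ (Submonoid.powers f) hle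
    exact ⟨IsLocalization.isDomain_localization q.primeCompl_le_nonZeroDivisors,
      isIntegrallyClosed_of_isLocalization _ q.primeCompl q.primeCompl_le_nonZeroDivisors⟩
  · obtain ⟨R, _, _, φ, hφ⟩ := hreg
    obtain ⟨g, rfl⟩ := hφ f
    let ψ : Localization.Away g →+* Localization.Away (φ g) :=
      IsLocalization.map (M := Submonoid.powers g) (T := Submonoid.powers (φ g)) _ φ
        (Submonoid.map_le_iff_le_comap.mp (by rw [Submonoid.map_powers]))
    have hψ : Function.Surjective ψ := by
      intro z
      obtain ⟨⟨a, s⟩, rfl⟩ := IsLocalization.mk'_surjective (Submonoid.powers (φ g)) z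
      obtain ⟨r, rfl⟩ := hφ a
      obtain ⟨n, hn⟩ := s.2
      refine ⟨IsLocalization.mk' _ r (⟨g ^ n, n, rfl⟩ : Submonoid.powers g), ?_⟩
      rw [IsLocalization.map_mk']
      congr 1
      exact Subtype.ext ((map_pow φ g n).trans hn)
    obtain ⟨F, hF⟩ := exists_completion_surjective ψ hψ
      (I.map (algebraMap A (Localization.Away (φ g))))
    haveI : IsRegularRing (Localization.Away g) := regular_away R g
    exact ⟨_, inferInstance, S5785.result (Localization.Away g) _, F, hF⟩

end Groth.Agent.S17803
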