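import Groth.Statements.S17807
import Groth.Agent.JacSepPts.Points

set_option autoImplicit false
set_option backward.isDefEq.respectTransparency false
set_option backward.isDefEq.respectTransparency.types false
set_option maxHeartbeats 1000000
set_option linter.style.haveILetI false
universe u
open CategoryTheory CategoryTheory.Limits AlgebraicGeometry
open JacVar

namespace Groth.Agent.S17807

open Groth.Agent Groth.Agent.H23 Groth.Agent.H23.PicMul
open scoped Groth.Agent.H23.PicMul

/-- Let C be a smooth proper geometrically connected curve of genus g > 0 over a field k with a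
k-rational point, and let L be an invertible module on C with h¹(C, L) > 0. Under these hypotheses,
C contains some nonempty open U with the following property: whenever Q is a k-rational point of C
and M is an invertible module satisfying M ⊗ I_Q ≅ L (so M is L(Q)), one has h¹(C, M) = h¹(C, L) − 1
if Q belongs to U, and h¹(C, M) = h¹(C, L) if Q does not. (The published statement is phrased for
all closed points Q; for a closed point of degree d > 1 the drop can exceed one, so this row states
it for k-rational points Q.) -/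
theorem result (k : Type u) [Field k]
    (C : Scheme.{u}) [C.Over (Spec (CommRingCat.of k))]
    [IsProper (C ↘ Spec (CommRingCat.of k))] [Smooth (C ↘ Spec (CommRingCat.of k))] [GeometricallyConnected (C ↘ Spec (CommRingCat.of k))]
    (hdim : topologicalKrullDim ↥C = 1)
    (hg : 0 < Curv2.genus k C)
    (σ₀ : Spec (CommRingCat.of k) ⟶ C) (hσ₀ : σ₀ ≫ (C ↘ Spec (CommRingCat.of k)) = 𝟙 _)
    (L : C.Modules) (hL : PicF.IsInvertible L) (hL1 : 0 < Module.finrank k (Coh.HH C L 1)) :
    ∃ U : C.Opens, (U : Set ↥C).Nonempty ∧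
      ∀ (σ : Spec (CommRingCat.of k) ⟶ C) (hσ : σ ≫ (C ↘ Spec (CommRingCat.of k)) = 𝟙 _) (M : C.Modules) (hM : PicF.IsInvertible M)
        (hML : Nonempty (CohB1.tensorMod M (ClSub.idealMod σ.ker) ≅ L)),
        ((∀ p, σ.base p ∈ U) → Module.finrank k (Coh.HH C M 1) = Module.finrank k (Coh.HH C L 1) - 1) ∧
        ((∀ p, σ.base p ∉ U) → Module.finrank k (Coh.HH C M 1) = Module.finrank k (Coh.HH C L 1)) := by
  have hO := CurveBC.finrank_h0_of_geometricallyConnected k C
  haveI := CurveBC.isIntegral_of_h0 k C hO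
  haveI := CurveCohLib.isNoetherian_of_proper (k := k) (X := C)
  obtain ⟨ω, μ, hω⟩ := CurveDuality.exists_isDualizing k (X := C) hdim
  obtain ⟨D, hD, ⟨e⟩⟩ := H23.PicInv.exists_inverse hL
  let P := CohB1.tensorMod D ω
  have hP : PicF.IsInvertible P := InvX.isInvertible_tensorMod hD hω.inv
  have hP0 : Module.finrank k (Coh.HH C P 0) = Module.finrank k (Coh.HH C L 1) :=
    (CurveDuality.finrank_h1_eq k hω hdim hL e).symm
  refine ⟨⟨JacSepPts.genLocus P, JacSepPts.isOpen_genLocus k hP⟩,
    ⟨genericPoint C, JacSepPts.genericPoint_mem_genLocus k hP (hP0 ▸ hL1)⟩, fun σ hσ M hM hML => ?_⟩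
  obtain ⟨hx, hker, hsur⟩ := CurveEmbed.section_point k σ hσ
  have hI := CurveNondeg.isInvertible_pt k hdim hx
  rw [hker] at hML
  obtain ⟨hin, hout⟩ := JacSepPts.finrank_twist_rat k hP hx hdim hsur
  have hDM : PicF.cl M * (PicF.cl D * PicF.cl (CurvePoint.ptMod _ hx)) = 1 := by
    have h1 : PicF.cl (CurvePoint.ptMod _ hx) * PicF.cl M = PicF.cl L := by
      rw [← cl_tensor, cl_eq_iff]
      obtain ⟨c⟩ := PicMul.comm (CurvePoint.ptMod _ hx) M
      obtain ⟨i⟩ := hML
      exact ⟨c ≪≫ i⟩
    have h2 : PicF.cl L * PicF.cl D = 1 := by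
      rw [← cl_tensor, one_def]
      exact cl_eq_iff.2 ⟨e⟩
    rw [mul_comm (PicF.cl D), ← mul_assoc, mul_comm (PicF.cl M), h1, h2]
  rw [← cl_tensor, ← cl_tensor, one_def, cl_eq_iff] at hDM
  obtain ⟨eM⟩ := hDM
  have hM1 : Module.finrank k (Coh.HH C M 1) =
      Module.finrank k (Coh.HH C (CohB1.tensorMod P (CurvePoint.ptMod _ hx)) 0) := by
    have key : Module.finrank k (Coh.HH C M 1) =
        Module.finrank k (Coh.HH C (CohB1.tensorMod (CohB1.tensorMod D (CurvePoint.ptMod _ hx)) ω) 0) :=
      CurveDuality.finrank_h1_eq k hω hdim (L := M) (D := CohB1.tensorMod D (CurvePoint.ptMod _ hx)) hM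
        (show (DCoh.tensorBi.obj M).obj (CohB1.tensorMod D (CurvePoint.ptMod _ hx)) ≅ Coh.structureModule C from eM)
    refine key.trans ?_
    have h3 : PicF.cl (CohB1.tensorMod (CohB1.tensorMod D (CurvePoint.ptMod _ hx)) ω) =
        PicF.cl (CohB1.tensorMod P (CurvePoint.ptMod _ hx)) := by
      simp only [P, cl_tensor]
      rw [mul_right_comm]
    obtain ⟨ε⟩ := cl_eq_iff.1 h3
    exact (CurveCohLib.hhEquiv (k := k) ε 0).finrank_eq
  constructor
  · intro h
    have h4 : Module.finrank k (Coh.HH C P 0) =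
        Module.finrank k (Coh.HH C (CohB1.tensorMod P (CurvePoint.ptMod _ hx)) 0) + 1 := hin (h _)
    omega
  · intro h
    have h4 : Module.finrank k (Coh.HH C P 0) =
        Module.finrank k (Coh.HH C (CohB1.tensorMod P (CurvePoint.ptMod _ hx)) 0) := hout (h _)
    omega

end Groth.Agent.S17807
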