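import Groth.Statements.S17808
import Groth.Agent.JacVarLib.Open

set_option autoImplicit false
set_option backward.isDefEq.respectTransparency false
set_option backward.isDefEq.respectTransparency.types false
set_option maxHeartbeats 1000000
set_option linter.style.haveILetI false
universe u
open CategoryTheory CategoryTheory.Limits AlgebraicGeometry
open JacVar

namespace Groth.Agent.S17808
open Groth.Agent Groth.Agent.JacVarLib Groth.Agent.H23.PicMul
open scoped Groth.Agent.H23.PicMul

/-- Let C be a smooth proper connected curve of genus g > 0 over an algebraically closed field k (with a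
chosen point), and let r ≤ g. Then there is a nonempty open subset U of the r-fold fibre power C ×_k
⋯ ×_k C such that for every k-point (P_1, …, P_r) of U (closed points, k being algebraically closed)
and every invertible module M on C with M ⊗ I_{P_1} ⊗ ⋯ ⊗ I_{P_r} ≅ O_C (so M is O(P_1 + ⋯ + P_r)),
h⁰(C, M) = 1. (The published statement, over the ground field of the section, says only that U is
open; this row also asserts that U is non-empty; k is taken algebraically closed so that the
k-points of U are its closed points.) -/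
theorem result (k : Type u) [Field k] [IsAlgClosed k]
    (C : Scheme.{u}) [C.Over (Spec (CommRingCat.of k))]
    [IsProper (C ↘ Spec (CommRingCat.of k))] [Smooth (C ↘ Spec (CommRingCat.of k))] [GeometricallyConnected (C ↘ Spec (CommRingCat.of k))]
    (hdim : topologicalKrullDim ↥C = 1)
    (hg : 0 < Curv2.genus k C)
    (σ₀ : Spec (CommRingCat.of k) ⟶ C) (hσ₀ : σ₀ ≫ (C ↘ Spec (CommRingCat.of k)) = 𝟙 _)
    (r : ℕ) (hr : r ≤ Curv2.genus k C) :
    ∃ U : (SymProd.fibPow (C ↘ Spec (CommRingCat.of k)) r).Opens, (U : Set ↥(SymProd.fibPow (C ↘ Spec (CommRingCat.of k)) r)).Nonempty ∧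
      ∀ (x : Spec (CommRingCat.of k) ⟶ SymProd.fibPow (C ↘ Spec (CommRingCat.of k)) r)
        (hx : x ≫ WidePullback.base (fun (_ : Fin r) => (C ↘ Spec (CommRingCat.of k))) = 𝟙 _)
        (hxU : ∀ p, x.base p ∈ U) (M : C.Modules) (hM : PicF.IsInvertible M)
        (hMD : Nonempty (CohB1.tensorMod M (FGA.tensorList (List.ofFn fun i : Fin r =>
          ClSub.idealMod (x ≫ WidePullback.π (fun (_ : Fin r) => (C ↘ Spec (CommRingCat.of k))) i).ker)) ≅ Coh.structureModule C)),
        Module.finrank k (Coh.HH C M 0) = 1 := by
  haveI : IsIntegral C := CurveStable.isIntegral_of_geometricallyConnected (k := k)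
  haveI := CurveAlgEqLib.smoothOfRelativeDimension_one (k := k) hdim
  obtain ⟨U, hU⟩ := exists_open_hz_le k hdim (1 : Pc C) (fun _ : Fin r => (1 : ℤ))
  simp only [comb, zpow_one, _root_.one_mul] at hU
  refine ⟨U, ?_, fun x hx hxU M hM hMD => ?_⟩
  · obtain ⟨z, hz'⟩ := exists_tuple_hz_one k hdim hr
    obtain ⟨y, hy⟩ := exists_tuple k z
    exact ⟨img k y, (hU y).2 (by simp only [hy]; omega)⟩
  let y : KP k (PW k (C := C) r) := Over.homMk x hx
  have h := (hU y).1 (hxU _)
  set v := ∏ i, O k hdim (pt k (y ≫ pr k r i)) with hv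
  have hpos := hz_pos_of_eff k hdim (n := r) ⟨_, hv⟩
  have hMv : mk M hM = v := by
    refine eq_of_div_eq_one (ext_val ?_)
    rw [div_eq_mul_inv, Subgroup.coe_mul, Units.val_mul, mk_val, hv]
    refine Eq.trans ?_ ((cl_tensor _ _).symm.trans (cl_eq_iff.2 hMD))
    rw [cl_tensorList_ker k hdim _ fun i => by
      rw [Category.assoc, WidePullback.π_arrow]; exact hx]
    rfl
  rw [← hz_mk k M hM, hMv]
  omega

end Groth.Agent.S17808
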