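import Groth.Statements.S17810
import Groth.Agent.AlbCurve.Main
import Groth.Agent.S11993

set_option autoImplicit false
set_option backward.isDefEq.respectTransparency false
set_option backward.isDefEq.respectTransparency.types false
set_option maxHeartbeats 1000000
set_option linter.style.haveILetI false
universe u
open CategoryTheory CategoryTheory.Limits AlgebraicGeometry MonoidalCategory CartesianMonoidalCategory MonObj
open JacVar

namespace Groth.Agent.S17810
open Groth.Agent AlgebraicGeometry CategoryTheory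

/-- The case of a curve with a rational point. Let C be a smooth proper geometrically connected curve of
genus g > 0 over a field k with a k-rational point P, (J, ψ) its Jacobian (a commutative group
scheme over k, coarse moduli scheme on all k-schemes for degree-0 line bundles on C modulo twisting
from the base, group law induced by tensor product), j : C ⟶ J the Abel map with base point P, and F
: C ×_k C ⟶ J the morphism (x, y) ↦ j(x) · j(y)⁻¹, which sends (x, y) to the class of O(x − y) and
does not depend on P. Then for every abelian variety A over k (commutative group scheme, proper,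
smooth and geometrically irreducible over k) and every morphism φ : C ×_k C ⟶ A over k which maps
the diagonal to the zero of A, there is a unique homomorphism of group schemes J ⟶ A whose composite
with F is φ. (Stated when C has a rational point, through which F is written; the published
statement covers every C by descent.) -/
theorem result (k : Type u) [Field k]
    (C : Scheme.{u}) [C.Over (Spec (CommRingCat.of k))]
    [IsProper (C ↘ Spec (CommRingCat.of k))] [Smooth (C ↘ Spec (CommRingCat.of k))] [GeometricallyConnected (C ↘ Spec (CommRingCat.of k))]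
    (hdim : topologicalKrullDim ↥C = 1)
    (hg : 0 < Curv2.genus k C)
    (σ : Spec (CommRingCat.of k) ⟶ C) (hσ : σ ≫ (C ↘ Spec (CommRingCat.of k)) = 𝟙 _)
    (J : Over (Spec (CommRingCat.of k))) [GrpObj J] [IsCommMonObj J]
    (ψ : (ModFun.PicDeg (C ↘ Spec (CommRingCat.of k)) 0).Hom ⊤ J) (hJ : Jac.IsJacobian (C ↘ Spec (CommRingCat.of k)) ⊤ J ψ)
    (j : Over.mk (C ↘ Spec (CommRingCat.of k)) ⟶ J) (hj : Jac.IsAbelJacobiAt (C ↘ Spec (CommRingCat.of k)) σ ψ j)
    (A : Over (Spec (CommRingCat.of k))) [GrpObj A] [IsCommMonObj A]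
    [IsProper A.hom] [Smooth A.hom] [GeometricallyIrreducible A.hom]
    (φ : Over.mk (C ↘ Spec (CommRingCat.of k)) ⊗ Over.mk (C ↘ Spec (CommRingCat.of k)) ⟶ A)
    (hφ : lift (𝟙 (Over.mk (C ↘ Spec (CommRingCat.of k)))) (𝟙 (Over.mk (C ↘ Spec (CommRingCat.of k)))) ≫ φ = toUnit _ ≫ η[A]) :
    ∃! χ : J ⟶ A, IsMonHom χ ∧
      ((fst (Over.mk (C ↘ Spec (CommRingCat.of k))) (Over.mk (C ↘ Spec (CommRingCat.of k))) ≫ j) * (snd (Over.mk (C ↘ Spec (CommRingCat.of k))) (Over.mk (C ↘ Spec (CommRingCat.of k))) ≫ j)⁻¹) ≫ χ = φ := by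
  haveI := CurveBC.isIntegral_of_h0 k C (CurveBC.finrank_h0_of_geometricallyConnected k C)
  haveI := PicRep.smoothOfRelativeDimension_one k C hdim
  haveI := GrpSchLib.geometricallyReduced_of_smooth A.hom
  haveI : GeometricallyIntegral A.hom :=
    GeometricallyIntegral.of_geometricallyReduced_of_geometricallyIrreducible _
  haveI : GeometricallyIntegral (Over.mk (C ↘ Spec (CommRingCat.of k))).hom :=
    Jacobian.geometricallyIntegral (C ↘ Spec (CommRingCat.of k))
  haveI : Smooth (Over.mk (C ↘ Spec (CommRingCat.of k))).hom := ‹Smooth (C ↘ Spec (CommRingCat.of k))›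
  haveI : IsProper (Over.mk (C ↘ Spec (CommRingCat.of k))).hom := ‹IsProper (C ↘ Spec (CommRingCat.of k))›
  let P₀ : 𝟙_ (Over (Spec (CommRingCat.of k))) ⟶ Over.mk (C ↘ Spec (CommRingCat.of k)) := Over.homMk σ hσ
  obtain ⟨f₁, f₂, hf⟩ := (S11993.result k _ _ A P₀ φ).1
  have h12 : f₁ * f₂ = 1 := by
    have h := hφ
    rw [hf, MonObj.comp_mul, lift_fst_assoc, lift_snd_assoc, Category.id_comp, Category.id_comp] at h
    rw [h, Hom.one_def]
  have h2 : f₂ = f₁⁻¹ := eq_inv_of_mul_eq_one_right h12
  let φ₁ := f₁ * (toUnit _ ≫ (P₀ ≫ f₁)⁻¹)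
  have hφ₁ : P₀ ≫ φ₁ = 1 := by
    simp only [φ₁, MonObj.comp_mul, ← Category.assoc, comp_toUnit]
    rw [toUnit_unique (toUnit _) (𝟙 _), Category.id_comp, mul_inv_cancel]
  have hsplit : φ = (fst _ _ ≫ φ₁) * (snd _ _ ≫ φ₁)⁻¹ := by
    rw [hf, h2]
    simp only [φ₁, MonObj.comp_mul, GrpObj.comp_inv, mul_inv_rev, ← Category.assoc, comp_toUnit]
    group
  obtain ⟨χ, ⟨hχ, hjχ⟩, hu⟩ := AlbCurve.existsUnique_hom hσ hdim hJ hj hg A φ₁
    (by simpa [P₀, Hom.one_def] using! congrArg CommaMorphism.left hφ₁)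
  haveI := hχ
  refine ⟨χ, ⟨hχ, ?_⟩, fun χ' ⟨hχ', hF⟩ => ?_⟩
  · rw [MonObj.mul_comp, GrpObj.inv_comp, Category.assoc, Category.assoc, hjχ, hsplit]
  · haveI := hχ'
    refine hu χ' ⟨hχ', ?_⟩
    obtain ⟨⟨r, hψ, hmul⟩, -⟩ := PicRep.exists_rep_of_isJacobian hσ hdim hJ
    have hpt := AlbCurve.pt_abel r hmul (fun T x => AlbCurve.val0_abel r hψ hj x)
      (Over.mk (C ↘ Spec (CommRingCat.of k)))
    have hP : GenusOneX.pt (C ↘ Spec (CommRingCat.of k)) σ hσ (Over.mk (C ↘ Spec (CommRingCat.of k))) =
        toUnit _ ≫ P₀ := Over.OverMorphism.ext rfl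
    rw [hP] at hpt
    have h := congrArg (lift (𝟙 _) (toUnit _ ≫ P₀) ≫ ·) (hF.trans hsplit)
    simp only [MonObj.comp_mul, GrpObj.comp_inv, MonObj.mul_comp, GrpObj.inv_comp, Category.assoc, lift_fst_assoc,
      lift_snd_assoc, Category.id_comp, hφ₁] at h
    rw [Category.assoc] at hpt
    have hpt' : toUnit _ ≫ P₀ ≫ j ≫ χ' = (1 : Over.mk (C ↘ Spec (CommRingCat.of k)) ⟶ A) := by
      have := congrArg (· ≫ χ') hpt
      simpa only [Category.assoc, MonObj.one_comp] using this
    rw [hpt', MonObj.comp_one] at h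
    simpa using h

end Groth.Agent.S17810
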