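import Groth.Statements.S17811
import Groth.Agent.Torelli.Main

set_option autoImplicit false
set_option backward.isDefEq.respectTransparency false
set_option backward.isDefEq.respectTransparency.types false
set_option maxHeartbeats 1000000
set_option linter.style.haveILetI false
universe u
open CategoryTheory CategoryTheory.Limits AlgebraicGeometry MonoidalCategory CartesianMonoidalCategory MonObj
open JacVar

namespace Groth.Agent.S17811
open Groth.Agent AlgebraicGeometry CategoryTheory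
open scoped Groth.Agent.H23.PicMul

/-- Torelli's statement. Let k be an algebraically closed field, C and C' smooth proper connected curves
of the same genus g ≥ 2 over k with k-points P and P', (J, ψ) and (J', ψ') their Jacobians
(commutative group schemes over k which are coarse moduli schemes, on all k-schemes, for degree-0
line bundles modulo twisting from the base, group law induced by tensor product), j : C ⟶ J and j' :
C' ⟶ J' the Abel maps with base points P and P', and N, N' invertible modules of degree g − 1 on C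
and C'. Let Θ ⊂ J and Θ' ⊂ J' be the theta loci of N and N' (closures of the loci of classes ξ with
a nonzero global section of ξ ⊗ N, resp. of ξ ⊗ N'); they are translates of the images of the (g −
1)-st symmetric powers. Suppose β : J ≅ J' is an isomorphism of group schemes over k mapping Θ onto
the translate of Θ' by some k-point; this says that β respects the canonical principal
polarizations. Then there are an isomorphism α : C ≅ C' over k, a k-point c of J' and a sign s ∈ {1,
−1} such that j' ∘ α = (β ∘ j)^s · c in the group of morphisms C ⟶ J'. (The published statement does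
not restrict the genus; this row assumes g ≥ 2.) -/
theorem result (k : Type u) [Field k] [IsAlgClosed k]
    (C : Scheme.{u}) [C.Over (Spec (CommRingCat.of k))]
    [IsProper (C ↘ Spec (CommRingCat.of k))] [Smooth (C ↘ Spec (CommRingCat.of k))] [GeometricallyConnected (C ↘ Spec (CommRingCat.of k))]
    (hdim : topologicalKrullDim ↥C = 1)
    (C' : Scheme.{u}) [C'.Over (Spec (CommRingCat.of k))]
    [IsProper (C' ↘ Spec (CommRingCat.of k))] [Smooth (C' ↘ Spec (CommRingCat.of k))] [GeometricallyConnected (C' ↘ Spec (CommRingCat.of k))]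
    (hdim' : topologicalKrullDim ↥C' = 1)
    (g : ℕ) (hg : Curv2.genus k C = g) (hg' : Curv2.genus k C' = g) (hg2 : 2 ≤ g)
    (σ : Spec (CommRingCat.of k) ⟶ C) (hσ : σ ≫ (C ↘ Spec (CommRingCat.of k)) = 𝟙 _) (σ' : Spec (CommRingCat.of k) ⟶ C') (hσ' : σ' ≫ (C' ↘ Spec (CommRingCat.of k)) = 𝟙 _)
    (J : Over (Spec (CommRingCat.of k))) [GrpObj J] [IsCommMonObj J]
    (ψ : (ModFun.PicDeg (C ↘ Spec (CommRingCat.of k)) 0).Hom ⊤ J) (hJ : Jac.IsJacobian (C ↘ Spec (CommRingCat.of k)) ⊤ J ψ)
    (J' : Over (Spec (CommRingCat.of k))) [GrpObj J'] [IsCommMonObj J']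
    (ψ' : (ModFun.PicDeg (C' ↘ Spec (CommRingCat.of k)) 0).Hom ⊤ J') (hJ' : Jac.IsJacobian (C' ↘ Spec (CommRingCat.of k)) ⊤ J' ψ')
    (j : Over.mk (C ↘ Spec (CommRingCat.of k)) ⟶ J) (hj : Jac.IsAbelJacobiAt (C ↘ Spec (CommRingCat.of k)) σ ψ j)
    (j' : Over.mk (C' ↘ Spec (CommRingCat.of k)) ⟶ J') (hj' : Jac.IsAbelJacobiAt (C' ↘ Spec (CommRingCat.of k)) σ' ψ' j')
    (N : C.Modules) (hN : PicF.IsInvertible N) (hNdeg : Curv2.deg k C N 1 = (g : ℤ) - 1)
    (N' : C'.Modules) (hN' : PicF.IsInvertible N') (hNdeg' : Curv2.deg k C' N' 1 = (g : ℤ) - 1)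
    (β : J ≅ J') [IsMonHom β.hom] (c₀ : 𝟙_ (Over (Spec (CommRingCat.of k))) ⟶ J')
    (hβ : β.hom.left.base '' Jac.thetaLocus (C ↘ Spec (CommRingCat.of k)) 0 ψ N =
      (Jac.transl J' c₀).left.base ⁻¹' Jac.thetaLocus (C' ↘ Spec (CommRingCat.of k)) 0 ψ' N') :
    ∃ (α : C ≅ C') (hα : α.hom ≫ (C' ↘ Spec (CommRingCat.of k)) = (C ↘ Spec (CommRingCat.of k))) (c : 𝟙_ (Over (Spec (CommRingCat.of k))) ⟶ J') (s : ℤ),
      (s = 1 ∨ s = -1) ∧
      Over.homMk α.hom hα ≫ j' = (j ≫ β.hom) ^ s * (toUnit (Over.mk (C ↘ Spec (CommRingCat.of k))) ≫ c) := by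
  haveI : IsIntegral C := CurveStable.isIntegral_of_geometricallyConnected (k := k)
  haveI : IsIntegral C' := CurveStable.isIntegral_of_geometricallyConnected (k := k)
  obtain ⟨n, rfl⟩ : ∃ n, g = n + 1 := ⟨g - 1, by omega⟩
  obtain ⟨e, he⟩ := Torelli.exists_theta_translate k hdim hσ hJ hj hg hN (by rw [hNdeg]; push_cast; ring)
  obtain ⟨e', he'⟩ := Torelli.exists_theta_translate k hdim' hσ' hJ' hj' hg' hN' (by rw [hNdeg']; push_cast; ring)
  haveI : IsIso β.hom.left := inferInstanceAs (IsIso ((Over.forget _).map β.hom))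
  have hW : ∀ c : JacVarLib.KP k J, 0 < JacVarLib.hz k (JacVarLib.cls k hdim hJ c * JacVarLib.Os k hdim σ hσ ^ n) ↔
      0 < JacVarLib.hz k (JacVarLib.cls k hdim' hJ' (c ≫ β.hom * ((e⁻¹ ≫ β.hom) * c₀ * e')) *
        JacVarLib.Os k hdim' σ' hσ' ^ n) := fun c => by
    have h1 := he (c * e⁻¹)
    rw [inv_mul_cancel_right] at h1
    rw [← h1, show c ≫ β.hom * ((e⁻¹ ≫ β.hom) * c₀ * e') = (((c * e⁻¹) ≫ β.hom) ≫ Jac.transl J' c₀) * e' by
      rw [JacVarLib.kp_comp_transl, toUnit_unit, Category.id_comp, MonObj.mul_comp]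
      simp only [← _root_.mul_assoc],
      ← he']
    have hinj : Function.Injective β.hom.left.base := β.hom.left.isOpenEmbedding.injective
    rw [← hinj.mem_set_image, hβ, Set.mem_preimage]
    rfl
  obtain ⟨a, ha⟩ := Torelli.exists_translate k hdim hσ hJ hj hdim' hσ' hJ' hj' (m := β.hom) (mi := β.inv)
    β.hom_inv_id β.inv_hom_id (by omega : 1 ≤ n) hg hg' _ hW
  rcases ha with ha | ha
  · obtain ⟨α, hα, h⟩ := Torelli.exists_iso_curve k hdim hσ hJ hj hdim' hσ' hJ' hj' hg β.hom a ha hg'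
    exact ⟨α, hα, a⁻¹, 1, Or.inl rfl, by rw [zpow_one]; exact h⟩
  · haveI : IsIso (β.hom⁻¹ : J ⟶ J') := ⟨β.inv⁻¹,
      by rw [GrpObj.comp_inv, GrpObj.inv_comp, β.hom_inv_id, inv_inv],
      by rw [GrpObj.comp_inv, GrpObj.inv_comp, β.inv_hom_id, inv_inv]⟩
    obtain ⟨α, hα, h⟩ := Torelli.exists_iso_curve k hdim hσ hJ hj hdim' hσ' hJ' hj' hg (β.hom⁻¹) a
      (fun z => by rw [GrpObj.comp_inv, GrpObj.comp_inv]; exact ha z) hg'
    refine ⟨α, hα, a⁻¹, -1, Or.inr rfl, ?_⟩
    rw [zpow_neg, zpow_one, ← GrpObj.comp_inv]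
    exact h

end Groth.Agent.S17811
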