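import Groth.Statements.S17812
import Groth.Agent.JacVarLib.W

set_option autoImplicit false
set_option backward.isDefEq.respectTransparency false
set_option backward.isDefEq.respectTransparency.types false
set_option maxHeartbeats 1000000
set_option linter.style.haveILetI false
universe u
open CategoryTheory CategoryTheory.Limits AlgebraicGeometry MonoidalCategory CartesianMonoidalCategory MonObj
open JacVar

namespace Groth.Agent.S17812
open Groth.Agent
open scoped Groth.Agent.H23.PicMul

/-- Let k be an algebraically closed field, C a smooth proper connected curve of genus g ≥ 2 over k with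
a k-point P, (J, ψ) its Jacobian (a commutative group scheme over k, coarse moduli scheme on all
k-schemes for degree-0 line bundles modulo twisting from the base, group law induced by tensor
product) and j : C ⟶ J the Abel map with base point P. Write W^r ⊂ J for the image of the r-fold
product C ×_k ⋯ ×_k C under (x_1, …, x_r) ↦ j(x_1) ⋯ j(x_r) (the image of the r-th symmetric power;
W^0 is the origin), and W^r_a for its translate by a k-point a of J. Then for 0 ≤ r ≤ g − 1 and
k-points a, b of J one has W^r_a ⊆ W^{g−1}_b if and only if a lies in W^{g−1−r}_b (inclusions of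
sets of points of J). -/
theorem result (k : Type u) [Field k] [IsAlgClosed k]
    (C : Scheme.{u}) [C.Over (Spec (CommRingCat.of k))]
    [IsProper (C ↘ Spec (CommRingCat.of k))] [Smooth (C ↘ Spec (CommRingCat.of k))] [GeometricallyConnected (C ↘ Spec (CommRingCat.of k))]
    (hdim : topologicalKrullDim ↥C = 1)
    (g : ℕ) (hg : Curv2.genus k C = g) (hg2 : 2 ≤ g)
    (σ : Spec (CommRingCat.of k) ⟶ C) (hσ : σ ≫ (C ↘ Spec (CommRingCat.of k)) = 𝟙 _)
    (J : Over (Spec (CommRingCat.of k))) [GrpObj J] [IsCommMonObj J]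
    (ψ : (ModFun.PicDeg (C ↘ Spec (CommRingCat.of k)) 0).Hom ⊤ J) (hJ : Jac.IsJacobian (C ↘ Spec (CommRingCat.of k)) ⊤ J ψ)
    (j : Over.mk (C ↘ Spec (CommRingCat.of k)) ⟶ J) (hj : Jac.IsAbelJacobiAt (C ↘ Spec (CommRingCat.of k)) σ ψ j)
    (r : ℕ) (hr : r ≤ g - 1) (a b : 𝟙_ (Over (Spec (CommRingCat.of k))) ⟶ J) :
    ((Jac.transl J a).left.base '' Set.range ((List.ofFn fun i : Fin r =>
        (Over.homMk (WidePullback.π (fun (_ : Fin r) => (C ↘ Spec (CommRingCat.of k))) i)
          (WidePullback.π_arrow (fun (_ : Fin r) => (C ↘ Spec (CommRingCat.of k))) i) : Over.mk (WidePullback.base fun (_ : Fin r) => (C ↘ Spec (CommRingCat.of k))) ⟶ Over.mk (C ↘ Spec (CommRingCat.of k))) ≫ j).prod).left.base) ⊆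
      ((Jac.transl J b).left.base '' Set.range ((List.ofFn fun i : Fin (g - 1) =>
        (Over.homMk (WidePullback.π (fun (_ : Fin (g - 1)) => (C ↘ Spec (CommRingCat.of k))) i)
          (WidePullback.π_arrow (fun (_ : Fin (g - 1)) => (C ↘ Spec (CommRingCat.of k))) i) : Over.mk (WidePullback.base fun (_ : Fin (g - 1)) => (C ↘ Spec (CommRingCat.of k))) ⟶ Over.mk (C ↘ Spec (CommRingCat.of k))) ≫ j).prod).left.base) ↔
    ∀ p, a.left.base p ∈ ((Jac.transl J b).left.base '' Set.range ((List.ofFn fun i : Fin (g - 1 - r) =>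
        (Over.homMk (WidePullback.π (fun (_ : Fin (g - 1 - r)) => (C ↘ Spec (CommRingCat.of k))) i)
          (WidePullback.π_arrow (fun (_ : Fin (g - 1 - r)) => (C ↘ Spec (CommRingCat.of k))) i) : Over.mk (WidePullback.base fun (_ : Fin (g - 1 - r)) => (C ↘ Spec (CommRingCat.of k))) ⟶ Over.mk (C ↘ Spec (CommRingCat.of k))) ≫ j).prod).left.base) := by
  haveI : IsIntegral C := CurveStable.isIntegral_of_geometricallyConnected (k := k)
  open JacVarLib in
  change ((Jac.transl J a).left.base '' Set.range (sm k j r).left.base ⊆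
      (Jac.transl J b).left.base '' Set.range (sm k j (g - 1)).left.base) ↔
    ∀ p, a.left.base p ∈ (Jac.transl J b).left.base '' Set.range (sm k j (g - 1 - r)).left.base
  open JacVarLib in
  simp only [transl_subset_iff k j r a (isClosed_transl k j _ b), forall_img,
    mem_transl_iff k hdim σ hσ hJ hj, Mem]
  set A := JacVarLib.cls k hdim hJ a
  set B := JacVarLib.cls k hdim hJ b
  set S := JacVarLib.Os k hdim σ hσ
  have hsplit : S ^ (g - 1) = S ^ (g - 1 - r) * S ^ r := by rw [← pow_add, Nat.sub_add_cancel hr]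
  constructor
  · intro h
    by_contra hne
    obtain ⟨x, hx⟩ := JacVarLib.exists_add_zero k hdim r (v := A / B * S ^ (g - 1 - r)) (by omega) (by
      rw [JacVarLib.dg_mul k hdim, JacVarLib.dg_div k hdim, JacVarLib.dg_cls, JacVarLib.dg_cls,
        JacVarLib.dg_pow k hdim, JacVarLib.dg_O]
      omega)
    set D := ∏ i, JacVarLib.O k hdim (x i) with hD
    obtain ⟨c, hc⟩ := JacVarLib.exists_cls k hdim hJ (v := D / S ^ r * A) (by
      rw [JacVarLib.dg_mul k hdim, JacVarLib.dg_div k hdim, JacVarLib.dg_cls, JacVarLib.dg_pow k hdim,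
        JacVarLib.dg_O, JacVarLib.dg_of_eff k hdim ⟨x, hD⟩]
      simp)
    have h1 := h c (by
      rw [hc, mul_div_cancel_right, div_mul_cancel]
      exact JacVarLib.hz_pos_of_eff k hdim ⟨x, hD⟩)
    rw [hc, show D / S ^ r * A / B * S ^ (g - 1) = A / B * S ^ (g - 1 - r) * D by
      rw [hsplit]; cgroup] at h1
    omega
  · intro h c hc
    have h1 := JacVarLib.hz_mul_pos k hdim h hc
    rwa [show A / B * S ^ (g - 1 - r) * (JacVarLib.cls k hdim hJ c / A * S ^ r) =
      JacVarLib.cls k hdim hJ c / B * S ^ (g - 1) by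
        rw [hsplit]; cgroup] at h1

end Groth.Agent.S17812
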