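import Groth.Statements.S17813
import Groth.Agent.JacVarLib.W

set_option autoImplicit false
set_option backward.isDefEq.respectTransparency false
set_option backward.isDefEq.respectTransparency.types false
set_option maxHeartbeats 1000000
set_option linter.style.haveILetI false
universe u
open CategoryTheory CategoryTheory.Limits AlgebraicGeometry MonoidalCategory CartesianMonoidalCategory MonObj
open JacVar

namespace Groth.Agent.S17813
open Groth.Agent Groth.Agent.JacVarLib
open scoped Groth.Agent.H23.PicMul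

/-- Let k be an algebraically closed field, C a smooth proper connected curve of genus g ≥ 2 over k with
a k-point P, (J, ψ) its Jacobian (a commutative group scheme over k, coarse moduli scheme on all
k-schemes for degree-0 line bundles modulo twisting from the base, group law induced by tensor
product) and j : C ⟶ J the Abel map with base point P. Write W^r ⊂ J for the image of the r-fold
product C ×_k ⋯ ×_k C under (x_1, …, x_r) ↦ j(x_1) ⋯ j(x_r) (the image of the r-th symmetric power;
W^0 is the origin), and W^r_a for its translate by a k-point a of J. Then for 0 ≤ r ≤ g − 1 the set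
W^{g−1−r} is the intersection of the translates W^{g−1}_{a⁻¹} over all k-points a of J lying in W^r.
(The companion equality for the images under x ↦ κ·x⁻¹, κ the image of a canonical divisor, is not
stated.) -/
theorem result (k : Type u) [Field k] [IsAlgClosed k]
    (C : Scheme.{u}) [C.Over (Spec (CommRingCat.of k))]
    [IsProper (C ↘ Spec (CommRingCat.of k))] [Smooth (C ↘ Spec (CommRingCat.of k))] [GeometricallyConnected (C ↘ Spec (CommRingCat.of k))]
    (hdim : topologicalKrullDim ↥C = 1)
    (g : ℕ) (hg : Curv2.genus k C = g) (hg2 : 2 ≤ g)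
    (σ : Spec (CommRingCat.of k) ⟶ C) (hσ : σ ≫ (C ↘ Spec (CommRingCat.of k)) = 𝟙 _)
    (J : Over (Spec (CommRingCat.of k))) [GrpObj J] [IsCommMonObj J]
    (ψ : (ModFun.PicDeg (C ↘ Spec (CommRingCat.of k)) 0).Hom ⊤ J) (hJ : Jac.IsJacobian (C ↘ Spec (CommRingCat.of k)) ⊤ J ψ)
    (j : Over.mk (C ↘ Spec (CommRingCat.of k)) ⟶ J) (hj : Jac.IsAbelJacobiAt (C ↘ Spec (CommRingCat.of k)) σ ψ j)
    (r : ℕ) (hr : r ≤ g - 1) :
    Set.range ((List.ofFn fun i : Fin (g - 1 - r) =>
        (Over.homMk (WidePullback.π (fun (_ : Fin (g - 1 - r)) => (C ↘ Spec (CommRingCat.of k))) i)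
          (WidePullback.π_arrow (fun (_ : Fin (g - 1 - r)) => (C ↘ Spec (CommRingCat.of k))) i) : Over.mk (WidePullback.base fun (_ : Fin (g - 1 - r)) => (C ↘ Spec (CommRingCat.of k))) ⟶ Over.mk (C ↘ Spec (CommRingCat.of k))) ≫ j).prod).left.base =
      ⋂ (a : 𝟙_ (Over (Spec (CommRingCat.of k))) ⟶ J) (_ : ∀ p, a.left.base p ∈ Set.range ((List.ofFn fun i : Fin r =>
        (Over.homMk (WidePullback.π (fun (_ : Fin r) => (C ↘ Spec (CommRingCat.of k))) i)
          (WidePullback.π_arrow (fun (_ : Fin r) => (C ↘ Spec (CommRingCat.of k))) i) : Over.mk (WidePullback.base fun (_ : Fin r) => (C ↘ Spec (CommRingCat.of k))) ⟶ Over.mk (C ↘ Spec (CommRingCat.of k))) ≫ j).prod).left.base),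
        ((Jac.transl J a⁻¹).left.base '' Set.range ((List.ofFn fun i : Fin (g - 1) =>
        (Over.homMk (WidePullback.π (fun (_ : Fin (g - 1)) => (C ↘ Spec (CommRingCat.of k))) i)
          (WidePullback.π_arrow (fun (_ : Fin (g - 1)) => (C ↘ Spec (CommRingCat.of k))) i) : Over.mk (WidePullback.base fun (_ : Fin (g - 1)) => (C ↘ Spec (CommRingCat.of k))) ⟶ Over.mk (C ↘ Spec (CommRingCat.of k))) ≫ j).prod).left.base) := by
  haveI : IsIntegral C := CurveStable.isIntegral_of_geometricallyConnected (k := k)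
  haveI := JacVarLib.isSeparated_J k (J := J)
  open JacVarLib in
  change Set.range (sm k j (g - 1 - r)).left.base = ⋂ (a : KP k J) (_ : ∀ p, a.left.base p ∈ Set.range (sm k j r).left.base),
    (Jac.transl J a⁻¹).left.base '' Set.range (sm k j (g - 1)).left.base
  open JacVarLib in
  simp only [forall_img]
  set S := JacVarLib.Os k hdim σ hσ with hS
  have hsplit : S ^ (g - 1) = S ^ (g - 1 - r) * S ^ r := by rw [← pow_add, Nat.sub_add_cancel hr]
  have hcl := isClosed_biInter (s := {a : JacVarLib.KP k J | JacVarLib.img k a ∈ Set.range (JacVarLib.sm k j r).left.base})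
    (f := fun a => (Jac.transl J a⁻¹).left.base '' Set.range (JacVarLib.sm k j (g - 1)).left.base)
    fun a _ => JacVarLib.isClosed_transl k j _ _
  refine Set.Subset.antisymm ?_ ?_
  · refine JacVarLib.subset_of_kp k _ (JacVarLib.isClosed_range k _) hcl subset_rfl fun c hc => ?_
    refine Set.mem_iInter₂.2 fun a ha => ?_
    rw [JacVarLib.mem_range_sm k hdim σ hσ hJ hj] at hc
    rw [JacVarLib.mem_range_sm k hdim σ hσ hJ hj] at ha
    rw [JacVarLib.mem_transl_iff k hdim σ hσ hJ hj]
    have h1 := JacVarLib.hz_mul_pos k hdim hc ha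
    rw [JacVarLib.Mem, JacVarLib.cls_inv]
    rwa [show JacVarLib.cls k hdim hJ c / (JacVarLib.cls k hdim hJ a)⁻¹ * S ^ (g - 1) =
      JacVarLib.cls k hdim hJ c * S ^ (g - 1 - r) * (JacVarLib.cls k hdim hJ a * S ^ r) by rw [hsplit]; cgroup]
  · have h1mem : JacVarLib.img k (1 : JacVarLib.KP k J) ∈ Set.range (JacVarLib.sm k j r).left.base := by
      rw [JacVarLib.mem_range_sm k hdim σ hσ hJ hj, JacVarLib.cls_one, _root_.one_mul]
      exact JacVarLib.hz_pos_of_eff k hdim ⟨fun _ : Fin r => JacVarLib.bpt k σ hσ, by simp [JacVarLib.Os]⟩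
    refine JacVarLib.subset_of_kp k (JacVarLib.sm k j (g - 1) ≫ Jac.transl J (1 : JacVarLib.KP k J)⁻¹) hcl
      (JacVarLib.isClosed_range k _) ((Set.iInter₂_subset (1 : JacVarLib.KP k J) h1mem).trans (JacVarLib.translate_range k j _ _).subset)
      fun c hc => ?_
    rw [JacVarLib.mem_range_sm k hdim σ hσ hJ hj, ← hS]
    by_contra hne
    obtain ⟨x, hx⟩ := JacVarLib.exists_add_zero k hdim r (v := JacVarLib.cls k hdim hJ c * S ^ (g - 1 - r)) (by omega) (by
      rw [JacVarLib.dg_mul k hdim, JacVarLib.dg_cls, JacVarLib.dg_pow k hdim, JacVarLib.dg_O]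
      omega)
    set D := ∏ i, JacVarLib.O k hdim (x i) with hD
    obtain ⟨a, ha⟩ := JacVarLib.exists_cls k hdim hJ (v := D / S ^ r) (by
      rw [JacVarLib.dg_div k hdim, JacVarLib.dg_pow k hdim,
        JacVarLib.dg_O, JacVarLib.dg_of_eff k hdim ⟨x, hD⟩]
      simp)
    have ha' : JacVarLib.img k a ∈ Set.range (JacVarLib.sm k j r).left.base := by
      rw [JacVarLib.mem_range_sm k hdim σ hσ hJ hj, ha, div_mul_cancel]
      exact JacVarLib.hz_pos_of_eff k hdim ⟨x, hD⟩
    have h2 := Set.mem_iInter₂.1 hc a ha'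
    rw [JacVarLib.mem_transl_iff k hdim σ hσ hJ hj, JacVarLib.Mem, JacVarLib.cls_inv, ha,
      show JacVarLib.cls k hdim hJ c / (D / S ^ r)⁻¹ * S ^ (g - 1) =
        JacVarLib.cls k hdim hJ c * S ^ (g - 1 - r) * D by rw [hsplit]; cgroup] at h2
    omega

end Groth.Agent.S17813
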