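import Groth.Statements.S17815
import Groth.Agent.JacVarLib.W

set_option autoImplicit false
set_option backward.isDefEq.respectTransparency false
set_option backward.isDefEq.respectTransparency.types false
set_option maxHeartbeats 1000000
set_option linter.style.haveILetI false
universe u
open CategoryTheory CategoryTheory.Limits AlgebraicGeometry MonoidalCategory CartesianMonoidalCategory MonObj
open JacVar

namespace Groth.Agent.S17815
open Groth.Agent Groth.Agent.JacVarLib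
open scoped Groth.Agent.H23.PicMul

/-- The non-hyperelliptic case. Let k be an algebraically closed field, C and C' smooth proper connected
curves of genus g ≥ 2 over k with k-points P and P', (J, ψ) and (J', ψ') their Jacobians
(commutative group schemes over k, coarse moduli schemes on all k-schemes for degree-0 line bundles
modulo twisting from the base, group law induced by tensor product), j and j' the Abel maps with
base points P and P', and β : J ≅ J' an isomorphism of group schemes over k. Suppose C is not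
hyperelliptic: no invertible module of degree 2 on C has a two-dimensional space of global sections.
Then the isomorphism, the sign and the translation in Torelli's conclusion are uniquely determined
by β, P and P': if isomorphisms α₁, α₂ : C ≅ C' over k, k-points c₁, c₂ of J' and signs s₁, s₂ ∈ {1,
−1} satisfy j' ∘ α_i = (β ∘ j)^{s_i} · c_i for i = 1, 2, then α₁ = α₂, s₁ = s₂ and c₁ = c₂. (The
published statement takes β an isomorphism of the canonically polarized Jacobians; this row allows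
any isomorphism of group schemes β.) -/
theorem result (k : Type u) [Field k] [IsAlgClosed k]
    (C : Scheme.{u}) [C.Over (Spec (CommRingCat.of k))]
    [IsProper (C ↘ Spec (CommRingCat.of k))] [Smooth (C ↘ Spec (CommRingCat.of k))] [GeometricallyConnected (C ↘ Spec (CommRingCat.of k))]
    (hdim : topologicalKrullDim ↥C = 1)
    (C' : Scheme.{u}) [C'.Over (Spec (CommRingCat.of k))]
    [IsProper (C' ↘ Spec (CommRingCat.of k))] [Smooth (C' ↘ Spec (CommRingCat.of k))] [GeometricallyConnected (C' ↘ Spec (CommRingCat.of k))]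
    (hdim' : topologicalKrullDim ↥C' = 1)
    (g : ℕ) (hg : Curv2.genus k C = g) (hg' : Curv2.genus k C' = g) (hg2 : 2 ≤ g)
    (σ : Spec (CommRingCat.of k) ⟶ C) (hσ : σ ≫ (C ↘ Spec (CommRingCat.of k)) = 𝟙 _) (σ' : Spec (CommRingCat.of k) ⟶ C') (hσ' : σ' ≫ (C' ↘ Spec (CommRingCat.of k)) = 𝟙 _)
    (J : Over (Spec (CommRingCat.of k))) [GrpObj J] [IsCommMonObj J]
    (ψ : (ModFun.PicDeg (C ↘ Spec (CommRingCat.of k)) 0).Hom ⊤ J) (hJ : Jac.IsJacobian (C ↘ Spec (CommRingCat.of k)) ⊤ J ψ)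
    (J' : Over (Spec (CommRingCat.of k))) [GrpObj J'] [IsCommMonObj J']
    (ψ' : (ModFun.PicDeg (C' ↘ Spec (CommRingCat.of k)) 0).Hom ⊤ J') (hJ' : Jac.IsJacobian (C' ↘ Spec (CommRingCat.of k)) ⊤ J' ψ')
    (j : Over.mk (C ↘ Spec (CommRingCat.of k)) ⟶ J) (hj : Jac.IsAbelJacobiAt (C ↘ Spec (CommRingCat.of k)) σ ψ j)
    (j' : Over.mk (C' ↘ Spec (CommRingCat.of k)) ⟶ J') (hj' : Jac.IsAbelJacobiAt (C' ↘ Spec (CommRingCat.of k)) σ' ψ' j')
    (β : J ≅ J') [IsMonHom β.hom]
    (hnh : ¬ ∃ L : C.Modules, PicF.IsInvertible L ∧ Curv2.deg k C L 1 = 2 ∧ Module.finrank k (Coh.HH C L 0) = 2)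
    (α₁ α₂ : C ≅ C') (hα₁ : α₁.hom ≫ (C' ↘ Spec (CommRingCat.of k)) = (C ↘ Spec (CommRingCat.of k))) (hα₂ : α₂.hom ≫ (C' ↘ Spec (CommRingCat.of k)) = (C ↘ Spec (CommRingCat.of k)))
    (c₁ c₂ : 𝟙_ (Over (Spec (CommRingCat.of k))) ⟶ J') (s₁ s₂ : ℤ) (hs₁ : s₁ = 1 ∨ s₁ = -1) (hs₂ : s₂ = 1 ∨ s₂ = -1)
    (h₁ : Over.homMk α₁.hom hα₁ ≫ j' = (j ≫ β.hom) ^ s₁ * (toUnit (Over.mk (C ↘ Spec (CommRingCat.of k))) ≫ c₁))
    (h₂ : Over.homMk α₂.hom hα₂ ≫ j' = (j ≫ β.hom) ^ s₂ * (toUnit (Over.mk (C ↘ Spec (CommRingCat.of k))) ≫ c₂)) :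
    α₁ = α₂ ∧ s₁ = s₂ ∧ c₁ = c₂ := by
  haveI : IsIntegral C := CurveStable.isIntegral_of_geometricallyConnected (k := k)
  haveI : IsIntegral C' := CurveStable.isIntegral_of_geometricallyConnected (k := k)
  let e : Over.mk (C ↘ Spec (CommRingCat.of k)) ≅ Over.mk (C' ↘ Spec (CommRingCat.of k)) := Over.isoMk α₂ hα₂
  let a₁ : Over.mk (C ↘ Spec (CommRingCat.of k)) ⟶ Over.mk (C' ↘ Spec (CommRingCat.of k)) := Over.homMk α₁.hom hα₁
  let a₂ : Over.mk (C ↘ Spec (CommRingCat.of k)) ⟶ Over.mk (C' ↘ Spec (CommRingCat.of k)) := Over.homMk α₂.hom hα₂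
  replace h₁ : a₁ ≫ j' = _ := h₁
  replace h₂ : a₂ ≫ j' = _ := h₂
  haveI : IsIso (a₂ : Over.mk (C ↘ Spec (CommRingCat.of k)) ⟶ Over.mk (C' ↘ Spec (CommRingCat.of k))) :=
    Iso.isIso_hom e
  let e₁ : Over.mk (C ↘ Spec (CommRingCat.of k)) ≅ Over.mk (C' ↘ Spec (CommRingCat.of k)) := Over.isoMk α₁ hα₁
  by_cases hs : s₁ = s₂
  · subst hs
    obtain ⟨h, hc⟩ := torelli_unique k hdim' hσ' hJ' hj' (by omega) h₁ h₂
    exact ⟨Iso.ext (congrArg CommaMorphism.left h), rfl, hc⟩
  exfalso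
  have hsum : s₁ + s₂ = 0 := by omega
  set v := cls k hdim' hJ' (c₁ * c₂) * Os k hdim' σ' hσ' ^ 2 with hv
  have key : ∀ P, O k hdim' (pt k (P ≫ a₁)) * O k hdim' (pt k (P ≫ a₂)) = v := fun P => by
    rw [torelli_point k hdim' hσ' hJ' hj' h₁, torelli_point k hdim' hσ' hJ' hj' h₂, hv, _root_.mul_mul_mul_comm,
      ← cls_mul, ← pow_two, _root_.mul_mul_mul_comm, ← zpow_add, hsum, zpow_zero, _root_.one_mul]
  have hdv : dg k v = 2 := by rw [hv, dg_mul k hdim', dg_cls, dg_pow k hdim', dg_O]; rfl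
  obtain ⟨z₀, -⟩ := exists_pt_ne k hdim (∅ : Finset (Pt C))
  obtain ⟨P₀, -⟩ := exists_pt k z₀
  have hpos : ∀ P, 0 < hz k v ∧ 0 < hz k (v / O k hdim' (pt k (P ≫ a₁))) := fun P => by
    rw [← key P, mul_div_cancel_left]
    exact ⟨hz_pos_of_eff k hdim' (eff_mul k hdim' (eff_O k hdim' _) (eff_O k hdim' _)), hz_pos_of_eff k hdim' (eff_O k hdim' _)⟩
  have h2 : hz k v = 2 := by
    have hle := hz_le_of_dg_two k hdim' (by omega) hdv
    by_contra hne
    classical
    obtain ⟨z, hz'⟩ := exists_pt_ne k hdim'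
      {pt k (P₀ ≫ a₁), pt k (P₀ ≫ a₂)}
    simp only [Finset.mem_singleton, Finset.mem_insert, not_or] at hz'
    obtain ⟨P', rfl⟩ := exists_pt k z
    have hP := hpos (P' ≫ e₁.inv)
    rw [show (P' ≫ e₁.inv) ≫ a₁ = P' by
      rw [Category.assoc, show a₁ = e₁.hom from rfl,
        e₁.inv_hom_id, Category.comp_id]] at hP
    rw [← key P₀] at hP hne hle
    obtain ⟨i, hi⟩ := mem_of_hz_eq_one k hdim' ![pt k (P₀ ≫ a₁), pt k (P₀ ≫ a₂)]
      (by rw [Fin.prod_univ_two]; simp only [Matrix.cons_val_zero, Matrix.cons_val_one]; omega) (pt k P')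
      (by rw [Fin.prod_univ_two]; exact hP.2)
    fin_cases i
    · exact hz'.1 hi.symm
    · exact hz'.2 hi.symm
  haveI := CurveCohLib.isNoetherian_of_proper (k := k) (X := C')
  have hid : Spec.map (CommRingCat.ofHom (algebraMap k k)) = 𝟙 _ := by
    rw [show CommRingCat.ofHom (algebraMap k k) = 𝟙 _ from rfl, Spec.map_id]
  haveI : IsIso (Spec.map (CommRingCat.ofHom (algebraMap k k))) := by rw [hid]; infer_instance
  have hpb : IsPullback α₁.hom (C ↘ Spec (CommRingCat.of k)) (C' ↘ Spec (CommRingCat.of k))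
      (Spec.map (CommRingCat.ofHom (algebraMap k k))) :=
    IsPullback.of_horiz_isIso ⟨by rw [hid, Category.comp_id, hα₁]⟩
  have hq := ProjUPX.isQCoh_of_isInvertible (isInvertible_out v)
  exact hnh ⟨(Scheme.Modules.pullback α₁.hom).obj (out v), PicClLib.isInvertible_pullback _ (isInvertible_out v),
    (CurveBC.deg_eq k k α₁.hom hpb (out v) hq 1).trans hdv, (CurveBC.finrank_hh k k α₁.hom hpb (out v) hq 0).trans h2⟩

end Groth.Agent.S17815
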