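import Groth.Statements.S17816
import Groth.Agent.AlbCurve.Classes

set_option autoImplicit false
set_option backward.isDefEq.respectTransparency false
set_option backward.isDefEq.respectTransparency.types false
set_option maxHeartbeats 1000000
set_option linter.style.haveILetI false
universe u
open CategoryTheory CategoryTheory.Limits AlgebraicGeometry MonoidalCategory CartesianMonoidalCategory MonObj
open JacVar

namespace Groth.Agent.S17816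
open Groth.Agent AlgebraicGeometry CategoryTheory
open scoped Groth.Agent.H23.PicMul

/-- Let k be a field and C₁, C₂ smooth proper geometrically connected curves of positive genus over k
with k-points P₁ and P₂; let (J₁, ψ₁) and (J₂, ψ₂) be their Jacobians (commutative group schemes
over k, coarse moduli schemes on all k-schemes for degree-0 line bundles modulo twisting from the
base, group law induced by tensor product), j₁ : C₁ ⟶ J₁ the Abel map with base point P₁, and M a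
universal degree-0 family on C₂ × J₂ which is trivial along P₂ × J₂ and whose classifying morphism
under ψ₂ is the identity of J₂ (the sheaf M^{P₂}). For a homomorphism χ : J₁ ⟶ J₂ let Φ(χ) be the
class of the pullback of M along 1 × (χ ∘ j₁) : C₂ × C₁ ⟶ C₂ × J₂. Then χ ↦ Φ(χ) is a bijection from
the homomorphisms of group schemes J₁ ⟶ J₂ onto the isomorphism classes of divisorial
correspondences between (C₂, P₂) and (C₁, P₁), i.e. classes of invertible modules on C₂ ×_k C₁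
trivial on P₂ × C₁ and on C₂ × P₁: each Φ(χ) is such a class, Φ is injective on homomorphisms, and
every such class is Φ(χ) for a homomorphism χ. -/
theorem result (k : Type u) [Field k]
    (C₁ : Scheme.{u}) [C₁.Over (Spec (CommRingCat.of k))]
    [IsProper (C₁ ↘ Spec (CommRingCat.of k))] [Smooth (C₁ ↘ Spec (CommRingCat.of k))] [GeometricallyConnected (C₁ ↘ Spec (CommRingCat.of k))]
    (hdim₁ : topologicalKrullDim ↥C₁ = 1)
    (C₂ : Scheme.{u}) [C₂.Over (Spec (CommRingCat.of k))]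
    [IsProper (C₂ ↘ Spec (CommRingCat.of k))] [Smooth (C₂ ↘ Spec (CommRingCat.of k))] [GeometricallyConnected (C₂ ↘ Spec (CommRingCat.of k))]
    (hdim₂ : topologicalKrullDim ↥C₂ = 1)
    (hg₁ : 0 < Curv2.genus k C₁) (hg₂ : 0 < Curv2.genus k C₂)
    (σ₁ : Spec (CommRingCat.of k) ⟶ C₁) (hσ₁ : σ₁ ≫ (C₁ ↘ Spec (CommRingCat.of k)) = 𝟙 _) (σ₂ : Spec (CommRingCat.of k) ⟶ C₂) (hσ₂ : σ₂ ≫ (C₂ ↘ Spec (CommRingCat.of k)) = 𝟙 _)
    (J₁ : Over (Spec (CommRingCat.of k))) [GrpObj J₁] [IsCommMonObj J₁]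
    (ψ₁ : (ModFun.PicDeg (C₁ ↘ Spec (CommRingCat.of k)) 0).Hom ⊤ J₁) (hJ₁ : Jac.IsJacobian (C₁ ↘ Spec (CommRingCat.of k)) ⊤ J₁ ψ₁)
    (J₂ : Over (Spec (CommRingCat.of k))) [GrpObj J₂] [IsCommMonObj J₂]
    (ψ₂ : (ModFun.PicDeg (C₂ ↘ Spec (CommRingCat.of k)) 0).Hom ⊤ J₂) (hJ₂ : Jac.IsJacobian (C₂ ↘ Spec (CommRingCat.of k)) ⊤ J₂ ψ₂)
    (j₁ : Over.mk (C₁ ↘ Spec (CommRingCat.of k)) ⟶ J₁) (hj₁ : Jac.IsAbelJacobiAt (C₁ ↘ Spec (CommRingCat.of k)) σ₁ ψ₁ j₁)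
    (Pu : (PicF.XT (C₂ ↘ Spec (CommRingCat.of k)) J₂).Modules) (hPu : ModFun.IsUnivFamily ⊤ (ModFun.PicDeg (C₂ ↘ Spec (CommRingCat.of k)) 0) J₂ Pu)
    (hPn : Jac.IsNormAlong (C₂ ↘ Spec (CommRingCat.of k)) σ₂ hσ₂ J₂ Pu)
    (hT₂ : (⊤ : ObjectProperty (Over (Spec (CommRingCat.of k)))) J₂) (hPuψ : ψ₂.app J₂ Pu hT₂ hPu.1 = 𝟙 J₂) :
    (∀ χ : J₁ ⟶ J₂, IsMonHom χ →
      (PicF.IsInvertibleCl (PicF.pullCl (PicF.XTmap (C₂ ↘ Spec (CommRingCat.of k)) (j₁ ≫ χ)) (PicF.cl Pu)) ∧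
        PicF.IsTrivialCl (PicF.pullCl (PicF.secT (C₂ ↘ Spec (CommRingCat.of k)) σ₂ hσ₂ (Over.mk (C₁ ↘ Spec (CommRingCat.of k)))) (PicF.pullCl (PicF.XTmap (C₂ ↘ Spec (CommRingCat.of k)) (j₁ ≫ χ)) (PicF.cl Pu))) ∧
        PicF.IsTrivialCl (PicF.pullCl (PicF.XTmap (C₂ ↘ Spec (CommRingCat.of k)) (Over.homMk σ₁ hσ₁ : 𝟙_ (Over (Spec (CommRingCat.of k))) ⟶ Over.mk (C₁ ↘ Spec (CommRingCat.of k)))) (PicF.pullCl (PicF.XTmap (C₂ ↘ Spec (CommRingCat.of k)) (j₁ ≫ χ)) (PicF.cl Pu))))) ∧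
    (∀ χ₁ χ₂ : J₁ ⟶ J₂, IsMonHom χ₁ → IsMonHom χ₂ →
      PicF.pullCl (PicF.XTmap (C₂ ↘ Spec (CommRingCat.of k)) (j₁ ≫ χ₁)) (PicF.cl Pu) = PicF.pullCl (PicF.XTmap (C₂ ↘ Spec (CommRingCat.of k)) (j₁ ≫ χ₂)) (PicF.cl Pu) → χ₁ = χ₂) ∧
    (∀ c : PicF.Cl (PicF.XT (C₂ ↘ Spec (CommRingCat.of k)) (Over.mk (C₁ ↘ Spec (CommRingCat.of k)))),
      (PicF.IsInvertibleCl (c) ∧
        PicF.IsTrivialCl (PicF.pullCl (PicF.secT (C₂ ↘ Spec (CommRingCat.of k)) σ₂ hσ₂ (Over.mk (C₁ ↘ Spec (CommRingCat.of k)))) (c)) ∧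
        PicF.IsTrivialCl (PicF.pullCl (PicF.XTmap (C₂ ↘ Spec (CommRingCat.of k)) (Over.homMk σ₁ hσ₁ : 𝟙_ (Over (Spec (CommRingCat.of k))) ⟶ Over.mk (C₁ ↘ Spec (CommRingCat.of k)))) (c))) →
      ∃ χ : J₁ ⟶ J₂, IsMonHom χ ∧ PicF.pullCl (PicF.XTmap (C₂ ↘ Spec (CommRingCat.of k)) (j₁ ≫ χ)) (PicF.cl Pu) = c) := by
  classical
  haveI := CurveBC.isIntegral_of_h0 k C₁ (CurveBC.finrank_h0_of_geometricallyConnected k C₁)
  haveI := CurveBC.isIntegral_of_h0 k C₂ (CurveBC.finrank_h0_of_geometricallyConnected k C₂)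
  haveI := PicRep.smoothOfRelativeDimension_one k C₁ hdim₁
  haveI := PicRep.smoothOfRelativeDimension_one k C₂ hdim₂
  let f₁ := C₁ ↘ Spec (CommRingCat.of k)
  let f₂ := C₂ ↘ Spec (CommRingCat.of k)
  obtain ⟨⟨r₁, hψ₁, hmul₁⟩, -⟩ := PicRep.exists_rep_of_isJacobian hσ₁ hdim₁ hJ₁
  obtain ⟨⟨r₂, hψ₂, hmul₂⟩, hp, hs, hc, hi, -⟩ := PicRep.exists_rep_of_isJacobian hσ₂ hdim₂ hJ₂
  haveI := hp; haveI := hs; haveI := hi
  haveI : PreconnectedSpace (Over.mk f₁).left := inferInstanceAs (PreconnectedSpace C₁)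
  let P₁ : 𝟙_ (Over (Spec (CommRingCat.of k))) ⟶ Over.mk f₁ := Over.homMk σ₁ hσ₁
  have hP₁ : P₁ ≫ j₁ = 1 := by
    have h := AlbCurve.pt_abel r₁ hmul₁ (fun T x => AlbCurve.val0_abel r₁ hψ₁ hj₁ x) (𝟙_ (Over (Spec (CommRingCat.of k))))
    rw [← h]
    exact congrArg (· ≫ j₁) (Over.OverMorphism.ext (Category.id_comp _).symm)
  have hcl : ∀ {T : Over (Spec (CommRingCat.of k))} (a : T ⟶ J₂),
      PicF.pullCl (PicF.XTmap f₂ a) (PicF.cl Pu) = (PicRep.val0 (r₂.homEquiv a)).1.val := fun a =>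
    (AlbCurve.val0_of_normalised r₂ hψ₂ hPu.1 hPn hPuψ a).symm
  refine ⟨fun χ hχ => ?_, fun χ₁ χ₂ h₁ h₂ he => ?_, fun c ⟨hci, hcs, hcp⟩ => ?_⟩
  · haveI := hχ
    rw [hcl]
    refine ⟨(PicRep.val0 (r₂.homEquiv (j₁ ≫ χ))).2, ?_, ?_⟩
    · have := congrArg (fun z : JacVarLib.Pc _ => z.1.val) (PicRep.mem_RP.1 (PicRep.val0_mem (r₂.homEquiv (j₁ ≫ χ))).1)
      simp only [JacVarLib.pullPc_val] at this
      exact this
    · have h1 : P₁ ≫ j₁ ≫ χ = 1 := by rw [← Category.assoc, hP₁, MonObj.one_comp]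
      have h2 := congrArg (AlbCurve.valHom r₂ hmul₂ _) h1
      rw [map_one] at h2
      change PicRep.val0 (r₂.homEquiv (P₁ ≫ j₁ ≫ χ)) = 1 at h2
      rw [r₂.homEquiv_comp, PicRep.val0_map] at h2
      have h3 := congrArg (fun z : JacVarLib.Pc _ => z.1.val) h2
      simp only [JacVarLib.pullPc_val] at h3
      exact h3
  · rw [hcl, hcl] at he
    have heq : j₁ ≫ χ₁ = j₁ ≫ χ₂ := AlbCurve.valHom_injective r₂ hmul₂ _ (JacVarLib.ext_val he)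
    haveI := h₁
    have hφ : σ₁ ≫ (j₁ ≫ χ₁).left = η[J₂].left := by
      have h1 : P₁ ≫ j₁ ≫ χ₁ = η[J₂] := by rw [← Category.assoc, hP₁, MonObj.one_comp]; simp [Hom.one_def]
      exact congrArg CommaMorphism.left h1
    exact (AlbCurve.existsUnique_hom hσ₁ hdim₁ hJ₁ hj₁ hg₁ J₂ (j₁ ≫ χ₁) hφ).unique ⟨h₁, rfl⟩ ⟨h₂, heq.symm⟩
  · let v := PicRep.toPc c hci
    have hσv : JacVarLib.pullPc (PicF.XTmap f₂ P₁) v = 1 :=
      JacVarLib.ext_val (by rw [JacVarLib.pullPc_val, PicRep.toPc_val]; exact hcp)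
    have hRZ : v ∈ PicRep.RZ f₂ σ₂ hσ₂ (Over.mk f₁) := ⟨AlbCurve.toPc_mem_RP_of_trivial hci hcs,
      AlbCurve.mem_PZ_of_point P₁ (IsLocalRing.closedPoint k) (by rw [hσv]; exact one_mem _)⟩
    obtain ⟨φ, hφv⟩ := AlbCurve.exists_val0_eq r₂ hRZ
    have h1 : P₁ ≫ φ = η[J₂] := by
      rw [show η[J₂] = (1 : 𝟙_ _ ⟶ J₂) by simp [Hom.one_def]]
      refine AlbCurve.valHom_injective r₂ hmul₂ _ ?_
      rw [map_one]
      show PicRep.val0 (r₂.homEquiv (P₁ ≫ φ)) = 1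
      rw [r₂.homEquiv_comp, PicRep.val0_map, hφv, hσv]
    obtain ⟨χ, ⟨hχ, hjχ⟩, -⟩ := AlbCurve.existsUnique_hom hσ₁ hdim₁ hJ₁ hj₁ hg₁ J₂ φ (congrArg CommaMorphism.left h1)
    exact ⟨χ, hχ, by rw [hcl, hjχ, hφv, PicRep.toPc_val]⟩

end Groth.Agent.S17816
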