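import Groth.Statements.S17818
import Groth.Agent.AlbCurve.Classes

set_option autoImplicit false
set_option backward.isDefEq.respectTransparency false
set_option backward.isDefEq.respectTransparency.types false
set_option maxHeartbeats 1000000
set_option linter.style.haveILetI false
universe u
open CategoryTheory CategoryTheory.Limits AlgebraicGeometry MonoidalCategory CartesianMonoidalCategory MonObj
open JacVar

namespace Groth.Agent.S17818
open Groth.Agent AlgebraicGeometry CategoryTheory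
open scoped Groth.Agent.H23.PicMul

/-- Let C be a smooth proper geometrically connected curve of genus g > 0 over a field k with a
k-rational point P, (J, ψ) its Jacobian (a commutative group scheme over k, coarse moduli scheme on
all k-schemes for degree-0 line bundles modulo twisting from the base, group law induced by tensor
product), M the universal family on C × J normalised along P × J whose classifying morphism under ψ
is the identity (the sheaf M^P), j : C ⟶ J the Abel map with base point P, and L^P the module on C ×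
C with L^P ⊗ I_Δ ≅ pr₁^* I_P ⊗ pr₂^* I_P, i.e. O(Δ − C × P − P × C). If N is an invertible module on
C × J, trivial along P × J and along C × 0 (a divisorial correspondence between (C, P) and J), whose
pullback along 1 × j is isomorphic to L^P, then N is isomorphic to M. -/
theorem result (k : Type u) [Field k]
    (C : Scheme.{u}) [C.Over (Spec (CommRingCat.of k))]
    [IsProper (C ↘ Spec (CommRingCat.of k))] [Smooth (C ↘ Spec (CommRingCat.of k))] [GeometricallyConnected (C ↘ Spec (CommRingCat.of k))]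
    (hdim : topologicalKrullDim ↥C = 1)
    (hg : 0 < Curv2.genus k C)
    (σ : Spec (CommRingCat.of k) ⟶ C) (hσ : σ ≫ (C ↘ Spec (CommRingCat.of k)) = 𝟙 _)
    (J : Over (Spec (CommRingCat.of k))) [GrpObj J] [IsCommMonObj J]
    (ψ : (ModFun.PicDeg (C ↘ Spec (CommRingCat.of k)) 0).Hom ⊤ J) (hJ : Jac.IsJacobian (C ↘ Spec (CommRingCat.of k)) ⊤ J ψ)
    (Pu : (PicF.XT (C ↘ Spec (CommRingCat.of k)) J).Modules) (hPu : ModFun.IsUnivFamily ⊤ (ModFun.PicDeg (C ↘ Spec (CommRingCat.of k)) 0) J Pu)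
    (hPn : Jac.IsNormAlong (C ↘ Spec (CommRingCat.of k)) σ hσ J Pu)
    (hT : (⊤ : ObjectProperty (Over (Spec (CommRingCat.of k)))) J) (hPuψ : ψ.app J Pu hT hPu.1 = 𝟙 J)
    (j : Over.mk (C ↘ Spec (CommRingCat.of k)) ⟶ J) (hj : Jac.IsAbelJacobiAt (C ↘ Spec (CommRingCat.of k)) σ ψ j)
    (LP : (PicF.XT (C ↘ Spec (CommRingCat.of k)) (Over.mk (C ↘ Spec (CommRingCat.of k)))).Modules) (hLPi : PicF.IsInvertible LP)
    (hLP : Nonempty (CohB1.tensorMod LP (ClSub.idealMod (pullback.diagonal (C ↘ Spec (CommRingCat.of k))).ker) ≅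
      CohB1.tensorMod ((Scheme.Modules.pullback (pullback.fst (C ↘ Spec (CommRingCat.of k)) (C ↘ Spec (CommRingCat.of k)))).obj (ClSub.idealMod σ.ker))
        ((Scheme.Modules.pullback (pullback.snd (C ↘ Spec (CommRingCat.of k)) (C ↘ Spec (CommRingCat.of k)))).obj (ClSub.idealMod σ.ker))))
    (N : (PicF.XT (C ↘ Spec (CommRingCat.of k)) J).Modules) (hN : PicF.IsInvertible N)
    (hNP : Jac.IsNormAlong (C ↘ Spec (CommRingCat.of k)) σ hσ J N)
    (hN0 : PicF.IsTrivialCl (PicF.pullCl (PicF.XTmap (C ↘ Spec (CommRingCat.of k)) (η[J])) (PicF.cl N)))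
    (hNj : Nonempty ((Scheme.Modules.pullback (PicF.XTmap (C ↘ Spec (CommRingCat.of k)) j)).obj N ≅ LP)) :
    Nonempty (N ≅ Pu) := by
  classical
  haveI := CurveBC.isIntegral_of_h0 k C (CurveBC.finrank_h0_of_geometricallyConnected k C)
  haveI := PicRep.smoothOfRelativeDimension_one k C hdim
  let f := C ↘ Spec (CommRingCat.of k)
  obtain ⟨⟨r, hψ, hmul⟩, hp, hs, hc, hi, -⟩ := PicRep.exists_rep_of_isJacobian hσ hdim hJ
  haveI := hp; haveI := hs; haveI := hi
  haveI : IsIntegral J.left := H23.MaxAbelian.isIntegral_of_geometricallyIntegral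
  have hjv := fun T x => AlbCurve.val0_abel r hψ hj (T := T) x
  have hPu' := AlbCurve.val0_of_normalised r hψ hPu.1 hPn hPuψ (𝟙 J)
  let v := PicRep.toPc (PicF.cl N) ⟨N, rfl, hN⟩
  have hη : JacVarLib.pullPc (PicF.XTmap f η[J]) v = 1 :=
    JacVarLib.ext_val (by rw [JacVarLib.pullPc_val, PicRep.toPc_val]; exact hN0)
  have hRP : v ∈ PicRep.RP f σ hσ J := AlbCurve.toPc_mem_RP_of_trivial ⟨N, rfl, hN⟩ hNP
  have hRZ : v ∈ PicRep.RZ f σ hσ J := ⟨hRP,
    AlbCurve.mem_PZ_of_point η[J] (IsLocalRing.closedPoint k) (by rw [hη]; exact one_mem _)⟩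
  obtain ⟨α, hα⟩ := AlbCurve.exists_val0_eq r hRZ
  have hunit : η[J] ≫ α = η[J] := by
    refine AlbCurve.valHom_injective r hmul _ ?_
    rw [show η[J] = (1 : 𝟙_ _ ⟶ J) by simp [Hom.one_def], map_one]
    show PicRep.val0 (r.homEquiv _) = _
    rw [show (1 : 𝟙_ _ ⟶ J) = η[J] by simp [Hom.one_def], r.homEquiv_comp, PicRep.val0_map, hα, hη]
  haveI : IsMonHom α := S11994.result k J J α hunit
  have hjα : j ≫ α = j := by
    refine r.homEquiv.injective (PicRep.val0_injective ?_)
    rw [r.homEquiv_comp, PicRep.val0_map, hα, ← Category.id_comp j, hjv, Category.id_comp]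
    let Ls : C.Modules := ClSub.idealMod σ.ker
    have hLs : PicF.IsInvertible Ls := GenusOneX.isInvertible_ker f hσ
    have hv : JacVarLib.pullPc (PicF.XTmap f j) v = PicRep.toPc (PicF.cl LP) ⟨LP, rfl, hLPi⟩ := by
      refine JacVarLib.ext_val ?_
      rw [JacVarLib.pullPc_val, PicRep.toPc_val, PicRep.toPc_val]
      exact H23.PicMul.cl_eq_iff.2 hNj
    have hLP' : PicRep.toPc (PicF.cl LP) ⟨LP, rfl, hLPi⟩ =
        AlbCurve.ptPc (GenusOneX.pt f σ hσ (Over.mk f)) * (AlbCurve.ptPc (𝟙 (Over.mk f)))⁻¹ *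
          JacVarLib.pullPc (PicF.XTproj f (Over.mk f)) (PicRep.toPc (PicF.cl Ls) ⟨Ls, rfl, hLs⟩) := by
      rw [mul_right_comm, eq_mul_inv_iff_mul_eq]
      refine JacVarLib.ext_val ?_
      rw [Subgroup.coe_mul, Units.val_mul, Subgroup.coe_mul, Units.val_mul, JacVarLib.pullPc_val, PicRep.toPc_val,
        PicRep.toPc_val, ← AlbCurve.cl_fst_section f σ hσ, AlbCurve.ptPc, PicRep.toPc_val]
      obtain ⟨e⟩ := hLP
      exact (H23.PicMul.cl_tensor _ _).symm.trans ((H23.PicMul.cl_eq_iff.2 ⟨e⟩).trans (H23.PicMul.cl_tensor _ _))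
    rw [← PicRep.rho_eq_self (PicRep.pull_mem_RP j hRP), hv, hLP', PicRep.rho_mul_base]
  have hφ : σ ≫ j.left = η[J].left := by
    have hpt := AlbCurve.pt_abel r hmul hjv (𝟙_ (Over (Spec (CommRingCat.of k))))
    have := congrArg CommaMorphism.left hpt
    simpa [Hom.one_def] using! this
  have hid : α = 𝟙 J := (AlbCurve.existsUnique_hom hσ hdim hJ hj hg J j hφ).unique ⟨inferInstance, hjα⟩
    ⟨inferInstance, Category.comp_id j⟩
  refine H23.PicMul.cl_eq_iff.1 ?_
  rw [hid] at hα
  rw [hα] at hPu'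
  rw [show PicF.cl N = v.1.val from (PicRep.toPc_val _ _).symm, hPu', LineDesc.Rig.XTmap_id, PicClLib.pullCl_id]

end Groth.Agent.S17818
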