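import Groth.Statements.S17822
import Groth.Agent.JacVarLib.W

set_option autoImplicit false
set_option backward.isDefEq.respectTransparency false
set_option backward.isDefEq.respectTransparency.types false
set_option maxHeartbeats 1000000
set_option linter.style.haveILetI false
universe u
open CategoryTheory CategoryTheory.Limits AlgebraicGeometry MonoidalCategory CartesianMonoidalCategory MonObj
open JacVar

namespace Groth.Agent.S17822
open Groth.Agent Groth.Agent.JacVarLib
open scoped Groth.Agent.H23.PicMul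

/-- Let k be an algebraically closed field, C a smooth proper connected curve of genus g ≥ 2 over k with
a k-point P, (J, ψ) its Jacobian (a commutative group scheme over k, coarse moduli scheme on all
k-schemes for degree-0 line bundles modulo twisting from the base, group law induced by tensor
product) and j : C ⟶ J the Abel map with base point P. Write W^r ⊂ J for the image of the r-fold
product C ×_k ⋯ ×_k C under (x_1, …, x_r) ↦ j(x_1) ⋯ j(x_r) (the image of the r-th symmetric power;
W^0 is the origin), and W^r_a for its translate by a k-point a of J. Let κ be the k-point of J given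
by ψ on Ω_{C/k} ⊗ I_P^{⊗(2g−2)} and Z^* the image of Z ⊂ J under x ↦ κ·x⁻¹. Let 0 ≤ r ≤ g − 2 and
let a, b, x, y be k-points of J with x in W^1, y in W^{g−1−r} and a·x = b·y. If W^{r+1}_a is not
contained in W^{g−1}_b, then W^{r+1}_a ∩ W^{g−1}_b = W^r_{a·x} ∪ (W^{r+1}_a ∩ (W^{g−2}_{y·a⁻¹})^*)
as subsets of J. -/
theorem result (k : Type u) [Field k] [IsAlgClosed k]
    (C : Scheme.{u}) [C.Over (Spec (CommRingCat.of k))]
    [IsProper (C ↘ Spec (CommRingCat.of k))] [Smooth (C ↘ Spec (CommRingCat.of k))] [GeometricallyConnected (C ↘ Spec (CommRingCat.of k))]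
    (hdim : topologicalKrullDim ↥C = 1)
    (g : ℕ) (hg : Curv2.genus k C = g) (hg2 : 2 ≤ g)
    (σ : Spec (CommRingCat.of k) ⟶ C) (hσ : σ ≫ (C ↘ Spec (CommRingCat.of k)) = 𝟙 _)
    (J : Over (Spec (CommRingCat.of k))) [GrpObj J] [IsCommMonObj J]
    (ψ : (ModFun.PicDeg (C ↘ Spec (CommRingCat.of k)) 0).Hom ⊤ J) (hJ : Jac.IsJacobian (C ↘ Spec (CommRingCat.of k)) ⊤ J ψ)
    (j : Over.mk (C ↘ Spec (CommRingCat.of k)) ⟶ J) (hj : Jac.IsAbelJacobiAt (C ↘ Spec (CommRingCat.of k)) σ ψ j)
    (Kf : (PicF.XT (C ↘ Spec (CommRingCat.of k)) (𝟙_ (Over (Spec (CommRingCat.of k))))).Modules)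
    (hKf : Nonempty (Kf ≅ (Scheme.Modules.pullback (pullback.fst (C ↘ Spec (CommRingCat.of k)) (𝟙_ (Over (Spec (CommRingCat.of k)))).hom)).obj
      (CohB1.tensorMod (Omega.sheaf (C ↘ Spec (CommRingCat.of k))) (CohB1.tensorPow (ClSub.idealMod σ.ker) (2 * g - 2)))))
    (hT₁ : (⊤ : ObjectProperty (Over (Spec (CommRingCat.of k)))) (𝟙_ (Over (Spec (CommRingCat.of k))))) (hKok : (ModFun.PicDeg (C ↘ Spec (CommRingCat.of k)) 0).ok (𝟙_ (Over (Spec (CommRingCat.of k)))) Kf)
    (κ : (𝟙_ (Over (Spec (CommRingCat.of k)))) ⟶ J) (hκ : ψ.app (𝟙_ (Over (Spec (CommRingCat.of k)))) Kf hT₁ hKok = κ)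
    (r : ℕ) (hr : r ≤ g - 2) (a b x y : (𝟙_ (Over (Spec (CommRingCat.of k)))) ⟶ J)
    (hx : ∀ p, x.left.base p ∈ Set.range ((List.ofFn fun i : Fin 1 =>
        (Over.homMk (WidePullback.π (fun (_ : Fin 1) => (C ↘ Spec (CommRingCat.of k))) i)
          (WidePullback.π_arrow (fun (_ : Fin 1) => (C ↘ Spec (CommRingCat.of k))) i) : Over.mk (WidePullback.base fun (_ : Fin 1) => (C ↘ Spec (CommRingCat.of k))) ⟶ Over.mk (C ↘ Spec (CommRingCat.of k))) ≫ j).prod).left.base)
    (hy : ∀ p, y.left.base p ∈ Set.range ((List.ofFn fun i : Fin (g - 1 - r) =>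
        (Over.homMk (WidePullback.π (fun (_ : Fin (g - 1 - r)) => (C ↘ Spec (CommRingCat.of k))) i)
          (WidePullback.π_arrow (fun (_ : Fin (g - 1 - r)) => (C ↘ Spec (CommRingCat.of k))) i) : Over.mk (WidePullback.base fun (_ : Fin (g - 1 - r)) => (C ↘ Spec (CommRingCat.of k))) ⟶ Over.mk (C ↘ Spec (CommRingCat.of k))) ≫ j).prod).left.base)
    (hab : a * x = b * y)
    (hnot : ¬ (((Jac.transl J a).left.base '' Set.range ((List.ofFn fun i : Fin (r + 1) =>
        (Over.homMk (WidePullback.π (fun (_ : Fin (r + 1)) => (C ↘ Spec (CommRingCat.of k))) i)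
          (WidePullback.π_arrow (fun (_ : Fin (r + 1)) => (C ↘ Spec (CommRingCat.of k))) i) : Over.mk (WidePullback.base fun (_ : Fin (r + 1)) => (C ↘ Spec (CommRingCat.of k))) ⟶ Over.mk (C ↘ Spec (CommRingCat.of k))) ≫ j).prod).left.base) ⊆ ((Jac.transl J b).left.base '' Set.range ((List.ofFn fun i : Fin (g - 1) =>
        (Over.homMk (WidePullback.π (fun (_ : Fin (g - 1)) => (C ↘ Spec (CommRingCat.of k))) i)
          (WidePullback.π_arrow (fun (_ : Fin (g - 1)) => (C ↘ Spec (CommRingCat.of k))) i) : Over.mk (WidePullback.base fun (_ : Fin (g - 1)) => (C ↘ Spec (CommRingCat.of k))) ⟶ Over.mk (C ↘ Spec (CommRingCat.of k))) ≫ j).prod).left.base))) :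
    ((Jac.transl J a).left.base '' Set.range ((List.ofFn fun i : Fin (r + 1) =>
        (Over.homMk (WidePullback.π (fun (_ : Fin (r + 1)) => (C ↘ Spec (CommRingCat.of k))) i)
          (WidePullback.π_arrow (fun (_ : Fin (r + 1)) => (C ↘ Spec (CommRingCat.of k))) i) : Over.mk (WidePullback.base fun (_ : Fin (r + 1)) => (C ↘ Spec (CommRingCat.of k))) ⟶ Over.mk (C ↘ Spec (CommRingCat.of k))) ≫ j).prod).left.base) ∩ ((Jac.transl J b).left.base '' Set.range ((List.ofFn fun i : Fin (g - 1) =>
        (Over.homMk (WidePullback.π (fun (_ : Fin (g - 1)) => (C ↘ Spec (CommRingCat.of k))) i)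
          (WidePullback.π_arrow (fun (_ : Fin (g - 1)) => (C ↘ Spec (CommRingCat.of k))) i) : Over.mk (WidePullback.base fun (_ : Fin (g - 1)) => (C ↘ Spec (CommRingCat.of k))) ⟶ Over.mk (C ↘ Spec (CommRingCat.of k))) ≫ j).prod).left.base) =
      ((Jac.transl J (a * x)).left.base '' Set.range ((List.ofFn fun i : Fin r =>
        (Over.homMk (WidePullback.π (fun (_ : Fin r) => (C ↘ Spec (CommRingCat.of k))) i)
          (WidePullback.π_arrow (fun (_ : Fin r) => (C ↘ Spec (CommRingCat.of k))) i) : Over.mk (WidePullback.base fun (_ : Fin r) => (C ↘ Spec (CommRingCat.of k))) ⟶ Over.mk (C ↘ Spec (CommRingCat.of k))) ≫ j).prod).left.base) ∪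
      (((Jac.transl J a).left.base '' Set.range ((List.ofFn fun i : Fin (r + 1) =>
        (Over.homMk (WidePullback.π (fun (_ : Fin (r + 1)) => (C ↘ Spec (CommRingCat.of k))) i)
          (WidePullback.π_arrow (fun (_ : Fin (r + 1)) => (C ↘ Spec (CommRingCat.of k))) i) : Over.mk (WidePullback.base fun (_ : Fin (r + 1)) => (C ↘ Spec (CommRingCat.of k))) ⟶ Over.mk (C ↘ Spec (CommRingCat.of k))) ≫ j).prod).left.base) ∩ ((Jac.transl J κ).left.base '' (((𝟙 J)⁻¹).left.base '' ((Jac.transl J (y * a⁻¹)).left.base '' Set.range ((List.ofFn fun i : Fin (g - 2) =>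
        (Over.homMk (WidePullback.π (fun (_ : Fin (g - 2)) => (C ↘ Spec (CommRingCat.of k))) i)
          (WidePullback.π_arrow (fun (_ : Fin (g - 2)) => (C ↘ Spec (CommRingCat.of k))) i) : Over.mk (WidePullback.base fun (_ : Fin (g - 2)) => (C ↘ Spec (CommRingCat.of k))) ⟶ Over.mk (C ↘ Spec (CommRingCat.of k))) ≫ j).prod).left.base)))) := by
  haveI : IsIntegral C := CurveStable.isIntegral_of_geometricallyConnected (k := k)
  haveI := JacVarLib.isSeparated_J k (J := J)
  open JacVarLib in
  change ((Jac.transl J a).left.base '' Set.range (sm k j (r + 1)).left.base) ∩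
      ((Jac.transl J b).left.base '' Set.range (sm k j (g - 1)).left.base) =
    ((Jac.transl J (a * x)).left.base '' Set.range (sm k j r).left.base) ∪
      (((Jac.transl J a).left.base '' Set.range (sm k j (r + 1)).left.base) ∩
        ((Jac.transl J κ).left.base '' (((𝟙 J)⁻¹).left.base '' ((Jac.transl J (y * a⁻¹)).left.base '' Set.range (sm k j (g - 2)).left.base))))
  have hx' := (mem_range_sm k hdim σ hσ hJ hj 1 x).1 ((forall_img k).1 hx)
  have hy' := (mem_range_sm k hdim σ hσ hJ hj (g - 1 - r) y).1 ((forall_img k).1 hy)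
  set S := Os k hdim σ hσ with hS
  set A := cls k hdim hJ a with hA
  have hS1 : ∀ (c : KP k J) (n : ℕ), dg k (cls k hdim hJ c * S ^ n) = n := fun c n => by
    rw [dg_mul k hdim, dg_cls, dg_pow k hdim, dg_O]; simp
  obtain ⟨P', hP'⟩ := eff_of_hz_pos k hdim (n := 1) (hS1 x 1) hx'
  rw [Fin.prod_univ_one, pow_one] at hP'
  set P := P' 0
  obtain ⟨q, hq⟩ := eff_of_hz_pos k hdim (n := g - 1 - r) (hS1 y _) hy'
  set Q := cls k hdim hJ y * S ^ (g - 1 - r) with hQ
  have hB : cls k hdim hJ b = A * cls k hdim hJ x / cls k hdim hJ y := by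
    rw [hA, ← cls_mul, hab, cls_mul, mul_div_cancel_right]
  have hX : cls k hdim hJ x = O k hdim P / S := by rw [← hP', mul_div_cancel_right]
  have hg1 : g - 1 = (g - 2) + 1 := by omega
  -- classes attached to a point
  have e1 : ∀ c : KP k J, cls k hdim hJ c / cls k hdim hJ b * S ^ (g - 1) =
      cls k hdim hJ c / A * S ^ (r + 1) * Q / O k hdim P := fun c => by
    rw [hB, hX, hQ, show g - 1 = (g - 1 - r) + r by omega, Nat.add_sub_cancel, pow_add, pow_succ]; cgroup
  have e2 : ∀ c : KP k J, cls k hdim hJ c / cls k hdim hJ (a * x) * S ^ r =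
      cls k hdim hJ c / A * S ^ (r + 1) / O k hdim P := fun c => by
    rw [cls_mul, ← hA, hX, pow_succ]; cgroup
  have e3 : ∀ c : KP k J, cls k hdim hJ (κ * c⁻¹) / cls k hdim hJ (y * a⁻¹) * S ^ (g - 2) =
      om k hdim / (cls k hdim hJ c / A * S ^ (r + 1) * Q) := fun c => by
    rw [cls_mul, cls_mul, cls_inv, cls_inv, cls_kappa k hdim hσ hJ hg (by omega) hKf hT₁ hKok hκ, ← hS, ← hA, hQ,
      show 2 * g - 2 = (g - 1 - r) + (r + 1) + (g - 2) by omega]
    simp only [pow_add]; cgroup
  -- positivity facts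
  have drop : ∀ {n : ℕ} (z : Fin n → Pt C) (i : Fin n), 0 < hz k ((∏ l, O k hdim (z l)) / O k hdim (z i)) := by
    intro n z i
    cases n with
    | zero => exact i.elim0
    | succ n =>
      rw [Fin.prod_univ_succAbove _ i, mul_div_cancel_left]
      exact hz_pos_of_eff k hdim ⟨fun l => z (i.succAbove l), rfl⟩
  have key : ∀ c : KP k J, 0 < hz k (cls k hdim hJ c / A * S ^ (r + 1)) →
      (0 < hz k (cls k hdim hJ c / A * S ^ (r + 1) * Q / O k hdim P) ↔
        0 < hz k (cls k hdim hJ c / A * S ^ (r + 1) / O k hdim P) ∨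
          0 < hz k (om k hdim / (cls k hdim hJ c / A * S ^ (r + 1) * Q))) := by
    intro c hD
    set D := cls k hdim hJ c / A * S ^ (r + 1) with hDd
    have hdD : dg k D = (r + 1 : ℕ) := by
      rw [hDd, dg_mul k hdim, dg_div k hdim, hA, dg_cls, dg_cls, dg_pow k hdim, dg_O]; simp
    have hr' := rr k hdim (D * Q)
    rw [dg_mul k hdim, hdD, hS1 y, hg] at hr'
    constructor
    · intro h
      by_cases hom : 0 < hz k (om k hdim / (D * Q))
      · exact Or.inr hom
      obtain ⟨d, hd⟩ := eff_of_hz_pos k hdim hdD hD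
      have hprod : ∏ i, O k hdim (Fin.append d q i) = D * Q := by
        rw [Fin.prod_univ_add, hd, hq]
        exact congrArg₂ _ (Finset.prod_congr rfl fun i _ => by rw [Fin.append_left])
          (Finset.prod_congr rfl fun i _ => by rw [Fin.append_right])
      obtain ⟨i, hi⟩ := mem_of_hz_eq_one k hdim (Fin.append d q) (by rw [hprod]; omega) P (by rwa [hprod])
      revert hi
      refine Fin.addCases (fun i hi => ?_) (fun i hi => ?_) i
      · rw [Fin.append_left] at hi
        exact Or.inl (by rw [hd, ← hi]; exact drop d i)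
      · rw [Fin.append_right] at hi
        refine absurd ((transl_subset_iff k j _ a (isClosed_transl k j _ b)).2 fun c' hc' => ?_) hnot
        rw [mem_transl_iff k hdim σ hσ hJ hj, Mem, ← hS, ← hA] at hc'
        rw [mem_transl_iff k hdim σ hσ hJ hj, Mem, ← hS, e1, mul_div_assoc]
        exact hz_mul_pos k hdim hc' (by rw [hq, ← hi]; exact drop q i)
    · rintro (h | h)
      · rw [mul_div_right_comm]
        exact hz_mul_pos k hdim h hy'
      · by_cases hPg : P.1 ∈ gen (D * Q)
        · have := (hz_div_O k hdim (D * Q) P).1 hPg; omega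
        · have := (hz_div_O k hdim (D * Q) P).2 hPg; omega
  rw [show (Jac.transl J κ).left.base '' (((𝟙 J)⁻¹).left.base '' ((Jac.transl J (y * a⁻¹)).left.base '' Set.range (sm k j (g - 2)).left.base)) =
    Set.range ((sm k j (g - 2) ≫ Jac.transl J (y * a⁻¹)) ≫ refl k κ).left.base by rw [translate_range k j, reflect_range]]
  have hc1 := (isClosed_transl k j (r + 1) a).inter (isClosed_transl k j (g - 1) b)
  have hc2 := (isClosed_transl k j r (a * x)).union ((isClosed_transl k j (r + 1) a).inter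
    (isClosed_range k ((sm k j (g - 2) ≫ Jac.transl J (y * a⁻¹)) ≫ refl k κ)))
  have mem1 : ∀ c : KP k J, img k c ∈ Set.range ((sm k j (g - 2) ≫ Jac.transl J (y * a⁻¹)) ≫ refl k κ).left.base ↔
      0 < hz k (om k hdim / (cls k hdim hJ c / A * S ^ (r + 1) * Q)) := fun c => by
    rw [mem_reflect, ← translate_range k j, mem_transl_iff k hdim σ hσ hJ hj, Mem, ← hS, e3]
  have memA : ∀ c : KP k J, img k c ∈ (Jac.transl J a).left.base '' Set.range (sm k j (r + 1)).left.base ↔
      0 < hz k (cls k hdim hJ c / A * S ^ (r + 1)) := fun c => mem_transl_iff k hdim σ hσ hJ hj _ _ _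
  have memB : ∀ c : KP k J, img k c ∈ (Jac.transl J b).left.base '' Set.range (sm k j (g - 1)).left.base ↔
      0 < hz k (cls k hdim hJ c / A * S ^ (r + 1) * Q / O k hdim P) := fun c => by
    rw [mem_transl_iff k hdim σ hσ hJ hj, Mem, ← hS, e1]
  have mem0 : ∀ c : KP k J, img k c ∈ (Jac.transl J (a * x)).left.base '' Set.range (sm k j r).left.base ↔
      0 < hz k (cls k hdim hJ c / A * S ^ (r + 1) / O k hdim P) := fun c => by
    rw [mem_transl_iff k hdim σ hσ hJ hj, Mem, ← hS, e2]
  refine Set.Subset.antisymm ?_ (Set.union_subset ?_ ?_)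
  · refine subset_of_kp k _ hc1 hc2 (Set.inter_subset_left.trans (translate_range k j _ a).subset) fun c hc => ?_
    have hD := (memA c).1 hc.1
    rcases (key c hD).1 ((memB c).1 hc.2) with h | h
    · exact Or.inl ((mem0 c).2 h)
    · exact Or.inr ⟨hc.1, (mem1 c).2 h⟩
  · refine (transl_subset_iff k j r _ hc1).2 fun c hc => ?_
    have hD : 0 < hz k (cls k hdim hJ c / A * S ^ (r + 1)) := by
      have := hz_mul_pos k hdim ((mem0 c).1 hc) (hz_pos_of_eff k hdim (eff_O k hdim P))
      rwa [div_mul_cancel] at this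
    exact ⟨(memA c).2 hD, (memB c).2 ((key c hD).2 (Or.inl ((mem0 c).1 hc)))⟩
  · refine subset_of_kp k _ ((isClosed_transl k j (r + 1) a).inter (isClosed_range k _)) hc1
      (Set.inter_subset_left.trans (translate_range k j _ a).subset) fun c hc => ?_
    have hD := (memA c).1 hc.1
    exact ⟨hc.1, (memB c).2 ((key c hD).2 (Or.inr ((mem1 c).1 hc.2)))⟩

end Groth.Agent.S17822
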