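import Groth.Statements.S17823
import Groth.Agent.AlbCurve.ThetaMult

set_option autoImplicit false
set_option backward.isDefEq.respectTransparency false
set_option backward.isDefEq.respectTransparency.types false
set_option maxHeartbeats 1000000
set_option linter.style.haveILetI false
universe u
open CategoryTheory CategoryTheory.Limits AlgebraicGeometry MonoidalCategory CartesianMonoidalCategory MonObj
open JacVar

namespace Groth.Agent.S17823
open Groth.Agent AlgebraicGeometry CategoryTheory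
open scoped Groth.Agent.H23.PicMul

/-- Let k be an algebraically closed field, C a smooth proper connected curve of genus g ≥ 2 over k with
a k-point P, (J, ψ) its Jacobian (a commutative group scheme over k, coarse moduli scheme on all
k-schemes for degree-0 line bundles modulo twisting from the base, group law induced by tensor
product) and j : C ⟶ J the Abel map with base point P. Write W^r ⊂ J for the image of the r-fold
product C ×_k ⋯ ×_k C under (x_1, …, x_r) ↦ j(x_1) ⋯ j(x_r) (the image of the r-th symmetric power;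
W^0 is the origin), and W^r_a for its translate by a k-point a of J. Let κ be the k-point of J given
by ψ on Ω_{C/k} ⊗ I_P^{⊗(2g−2)}. If a is a k-point of J such that W^1 = j(C) is not contained in
W^{g−1}_a, then there are k-points P_1, …, P_g of C, unique up to reordering, with j(P_1) ⋯ j(P_g) =
a·κ (the unique effective divisor D(a) of degree g whose class maps to a·κ), and W^1 · W^{g−1}_a
regarded as a divisor on C equals D(a): the pullback along j of the ideal of the reduced closed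
subscheme W^{g−1}_a is the product of the ideals of the points P_i. -/
theorem result (k : Type u) [Field k] [IsAlgClosed k]
    (C : Scheme.{u}) [C.Over (Spec (CommRingCat.of k))]
    [IsProper (C ↘ Spec (CommRingCat.of k))] [Smooth (C ↘ Spec (CommRingCat.of k))] [GeometricallyConnected (C ↘ Spec (CommRingCat.of k))]
    (hdim : topologicalKrullDim ↥C = 1)
    (g : ℕ) (hg : Curv2.genus k C = g) (hg2 : 2 ≤ g)
    (σ : Spec (CommRingCat.of k) ⟶ C) (hσ : σ ≫ (C ↘ Spec (CommRingCat.of k)) = 𝟙 _)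
    (J : Over (Spec (CommRingCat.of k))) [GrpObj J] [IsCommMonObj J]
    (ψ : (ModFun.PicDeg (C ↘ Spec (CommRingCat.of k)) 0).Hom ⊤ J) (hJ : Jac.IsJacobian (C ↘ Spec (CommRingCat.of k)) ⊤ J ψ)
    (j : Over.mk (C ↘ Spec (CommRingCat.of k)) ⟶ J) (hj : Jac.IsAbelJacobiAt (C ↘ Spec (CommRingCat.of k)) σ ψ j)
    (Kf : (PicF.XT (C ↘ Spec (CommRingCat.of k)) (𝟙_ (Over (Spec (CommRingCat.of k))))).Modules)
    (hKf : Nonempty (Kf ≅ (Scheme.Modules.pullback (pullback.fst (C ↘ Spec (CommRingCat.of k)) (𝟙_ (Over (Spec (CommRingCat.of k)))).hom)).obj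
      (CohB1.tensorMod (Omega.sheaf (C ↘ Spec (CommRingCat.of k))) (CohB1.tensorPow (ClSub.idealMod σ.ker) (2 * g - 2)))))
    (hT₁ : (⊤ : ObjectProperty (Over (Spec (CommRingCat.of k)))) (𝟙_ (Over (Spec (CommRingCat.of k))))) (hKok : (ModFun.PicDeg (C ↘ Spec (CommRingCat.of k)) 0).ok (𝟙_ (Over (Spec (CommRingCat.of k)))) Kf)
    (κ : (𝟙_ (Over (Spec (CommRingCat.of k)))) ⟶ J) (hκ : ψ.app (𝟙_ (Over (Spec (CommRingCat.of k)))) Kf hT₁ hKok = κ)
    (a : (𝟙_ (Over (Spec (CommRingCat.of k)))) ⟶ J) (ha : ¬ (Set.range ((List.ofFn fun i : Fin 1 =>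
        (Over.homMk (WidePullback.π (fun (_ : Fin 1) => (C ↘ Spec (CommRingCat.of k))) i)
          (WidePullback.π_arrow (fun (_ : Fin 1) => (C ↘ Spec (CommRingCat.of k))) i) : Over.mk (WidePullback.base fun (_ : Fin 1) => (C ↘ Spec (CommRingCat.of k))) ⟶ Over.mk (C ↘ Spec (CommRingCat.of k))) ≫ j).prod).left.base ⊆ ((Jac.transl J a).left.base '' Set.range ((List.ofFn fun i : Fin (g - 1) =>
        (Over.homMk (WidePullback.π (fun (_ : Fin (g - 1)) => (C ↘ Spec (CommRingCat.of k))) i)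
          (WidePullback.π_arrow (fun (_ : Fin (g - 1)) => (C ↘ Spec (CommRingCat.of k))) i) : Over.mk (WidePullback.base fun (_ : Fin (g - 1)) => (C ↘ Spec (CommRingCat.of k))) ⟶ Over.mk (C ↘ Spec (CommRingCat.of k))) ≫ j).prod).left.base))) :
    ∃ (D : Fin g → (Spec (CommRingCat.of k) ⟶ C)) (hD : ∀ i, D i ≫ (C ↘ Spec (CommRingCat.of k)) = 𝟙 _),
      (List.ofFn fun i : Fin g => (Over.homMk (D i) (hD i) : (𝟙_ (Over (Spec (CommRingCat.of k)))) ⟶ Over.mk (C ↘ Spec (CommRingCat.of k))) ≫ j).prod = a * κ ∧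
      (∀ (D' : Fin g → (Spec (CommRingCat.of k) ⟶ C)) (hD' : ∀ i, D' i ≫ (C ↘ Spec (CommRingCat.of k)) = 𝟙 _),
        (List.ofFn fun i : Fin g => (Over.homMk (D' i) (hD' i) : (𝟙_ (Over (Spec (CommRingCat.of k)))) ⟶ Over.mk (C ↘ Spec (CommRingCat.of k))) ≫ j).prod = a * κ → ∃ e : Equiv.Perm (Fin g), ∀ i, D' i = D (e i)) ∧
      (Scheme.IdealSheafData.vanishingIdeal ⟨closure ((Jac.transl J a).left.base '' Set.range ((List.ofFn fun i : Fin (g - 1) =>
        (Over.homMk (WidePullback.π (fun (_ : Fin (g - 1)) => (C ↘ Spec (CommRingCat.of k))) i)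
          (WidePullback.π_arrow (fun (_ : Fin (g - 1)) => (C ↘ Spec (CommRingCat.of k))) i) : Over.mk (WidePullback.base fun (_ : Fin (g - 1)) => (C ↘ Spec (CommRingCat.of k))) ⟶ Over.mk (C ↘ Spec (CommRingCat.of k))) ≫ j).prod).left.base), isClosed_closure⟩).comap j.left =
        ∏ i : Fin g, (D i).ker := by
  classical
  haveI : IsIntegral C := CurveStable.isIntegral_of_geometricallyConnected (k := k)
  haveI := PicRep.smoothOfRelativeDimension_one k C hdim
  haveI := JacVarLib.isSeparated_J k (J := J)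
  obtain ⟨n, rfl⟩ : ∃ n, g = n + 1 := ⟨g - 1, by omega⟩
  open JacVarLib in
  change ∃ (D : Fin (n + 1) → (Spec (CommRingCat.of k) ⟶ C)) (hD : ∀ i, D i ≫ (C ↘ Spec (CommRingCat.of k)) = 𝟙 _),
      (List.ofFn fun i : Fin (n + 1) => (Over.homMk (D i) (hD i) : (𝟙_ (Over (Spec (CommRingCat.of k)))) ⟶ Over.mk (C ↘ Spec (CommRingCat.of k))) ≫ j).prod = a * κ ∧
      (∀ (D' : Fin (n + 1) → (Spec (CommRingCat.of k) ⟶ C)) (hD' : ∀ i, D' i ≫ (C ↘ Spec (CommRingCat.of k)) = 𝟙 _),
        (List.ofFn fun i : Fin (n + 1) => (Over.homMk (D' i) (hD' i) : (𝟙_ (Over (Spec (CommRingCat.of k)))) ⟶ Over.mk (C ↘ Spec (CommRingCat.of k))) ≫ j).prod = a * κ → ∃ e : Equiv.Perm (Fin (n + 1)), ∀ i, D' i = D (e i)) ∧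
      (Scheme.IdealSheafData.vanishingIdeal ⟨closure ((Jac.transl J a).left.base '' Set.range (sm k j n).left.base), isClosed_closure⟩).comap j.left =
        ∏ i : Fin (n + 1), (D i).ker
  open JacVarLib in
  change ¬ (Set.range (sm k j 1).left.base ⊆ (Jac.transl J a).left.base '' Set.range (sm k j n).left.base) at ha
  set S := JacVarLib.Os k hdim σ hσ with hS
  set b : JacVarLib.KP k J := a * κ with hbdef
  have hκ' := JacVarLib.cls_kappa k hdim hσ hJ hg (by omega) hKf hT₁ hKok hκ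
  rw [show 2 * (n + 1) - 2 = n + n by omega, ← hS] at hκ'
  have hset : (Jac.transl J a).left.base '' Set.range (JacVarLib.sm k j n).left.base =
      (AlbCurve.thetaSet k j n b : Set J.left) := by
    rw [AlbCurve.coe_thetaSet, JacVarLib.translate_range k j n a]
    refine JacVarLib.eq_of_kp k (JacVarLib.sm k j n ≫ Jac.transl J a) (JacVarLib.sm k j n ≫ JacVarLib.refl k b) fun c => ?_
    rw [← JacVarLib.translate_range k j n a, JacVarLib.mem_transl_iff k hdim σ hσ hJ hj, JacVarLib.Mem,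
      ← AlbCurve.coe_thetaSet, AlbCurve.mem_thetaSet k hdim hσ hJ hj, hbdef, JacVarLib.cls_mul, hκ', ← hS]
    have hrr := JacVarLib.rr k hdim (JacVarLib.cls k hdim hJ c / JacVarLib.cls k hdim hJ a * S ^ n)
    rw [JacVarLib.dg_mul k hdim, JacVarLib.dg_div k hdim, JacVarLib.dg_cls, JacVarLib.dg_cls, JacVarLib.dg_pow k hdim,
      JacVarLib.dg_O, hg] at hrr
    rw [show JacVarLib.cls k hdim hJ a * (JacVarLib.om k hdim / S ^ (n + n)) / JacVarLib.cls k hdim hJ c * S ^ n =
      JacVarLib.om k hdim / (JacVarLib.cls k hdim hJ c / JacVarLib.cls k hdim hJ a * S ^ n) by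
        rw [pow_add]; cgroup]
    push_cast at hrr
    omega
  rw [hset] at ha
  set v := JacVarLib.cls k hdim hJ b * S ^ (n + 1) with hv
  have hdv : JacVarLib.dg k v = (n + 1 : ℕ) := by
    rw [hv, JacVarLib.dg_mul k hdim, JacVarLib.dg_cls, JacVarLib.dg_pow k hdim, JacVarLib.dg_O]
    simp
  have hpos : 0 < JacVarLib.hz k v := by
    have h := JacVarLib.rr k hdim v
    rw [hdv, hg] at h
    push_cast at h
    omega
  have hpt : ∀ x : JacVarLib.KP k (Over.mk (C ↘ Spec (CommRingCat.of k))),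
      (JacVarLib.img k (x ≫ j) ∈ (AlbCurve.thetaSet k j n b : Set J.left) ↔
        0 < JacVarLib.hz k (v / JacVarLib.O k hdim (JacVarLib.pt k x))) := fun x => by
    rw [AlbCurve.mem_thetaSet k hdim hσ hJ hj, JacVarLib.cls_point k hdim σ hσ hJ hj, ← hS]
    rw [show JacVarLib.cls k hdim hJ b / (JacVarLib.O k hdim (JacVarLib.pt k x) / S) * S ^ n =
      v / JacVarLib.O k hdim (JacVarLib.pt k x) by rw [hv, pow_succ]; cgroup]
  have hone : JacVarLib.hz k v = 1 := by
    refine le_antisymm (not_lt.1 fun h2 => ha ?_) hpos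
    refine JacVarLib.subset_of_kp k (JacVarLib.sm k j 1) (JacVarLib.isClosed_range k _) (AlbCurve.thetaSet k j n b).isClosed
      subset_rfl fun c hc => ?_
    have hc' := (JacVarLib.mem_range_sm k hdim σ hσ hJ hj 1 c).1 hc
    rw [pow_one, ← hS] at hc'
    obtain ⟨x, hx⟩ := JacVarLib.eff_of_hz_pos k hdim (n := 1) (by
      rw [JacVarLib.dg_mul k hdim, JacVarLib.dg_cls, hS, JacVarLib.dg_O]; simp) hc'
    rw [Fin.prod_univ_one] at hx
    rw [AlbCurve.mem_thetaSet k hdim hσ hJ hj, ← hS,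
      show JacVarLib.cls k hdim hJ b / JacVarLib.cls k hdim hJ c * S ^ n = v / JacVarLib.O k hdim (x 0) by
        rw [← hx, hv, pow_succ]; cgroup]
    by_cases hg' : (x 0).1 ∈ JacVarLib.gen v
    · have := (JacVarLib.hz_div_O k hdim v (x 0)).1 hg'; omega
    · have := (JacVarLib.hz_div_O k hdim v (x 0)).2 hg'; omega
  obtain ⟨x, hx⟩ := JacVarLib.eff_of_hz_pos k hdim hdv hpos
  choose P hP using fun i => JacVarLib.exists_pt k (x i)
  have hPv : (∏ i, JacVarLib.O k hdim (JacVarLib.pt k (P i))) = v := by rw [hx]; simp only [hP]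
  have hb : ∏ i, P i ≫ j = b := by
    refine JacVarLib.cls_injective k hdim hJ ?_
    rw [AlbCurve.cls_prod_points k hdim hσ hJ hj, hPv, hv, ← hS, mul_div_cancel_right]
  refine ⟨fun i => (P i).left, fun i => Over.w (P i), ?_, fun D' hD' hD'p => ?_, ?_⟩
  · rw [List.prod_ofFn]
    exact hb
  · rw [List.prod_ofFn] at hD'p
    have h := congrArg (JacVarLib.cls k hdim hJ) hD'p
    rw [AlbCurve.cls_prod_points k hdim hσ hJ hj, ← hS, div_eq_iff_eq_mul, ← hv, ← hPv] at h
    obtain ⟨e, he⟩ := AlbCurve.perm_of_eq k hdim (fun i => JacVarLib.pt k (P i))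
      (fun i => JacVarLib.pt k (Over.homMk (D' i) (hD' i))) (by rw [hPv]; exact hone) h.symm
    exact ⟨e, fun i => congrArg CommaMorphism.left (JacVarLib.pt_injective k (he i))⟩
  · have hZ : (⟨closure ((Jac.transl J a).left.base '' Set.range (JacVarLib.sm k j n).left.base), isClosed_closure⟩ :
        TopologicalSpace.Closeds J.left) = AlbCurve.thetaSet k j n b :=
      TopologicalSpace.Closeds.ext ((congrArg closure hset).trans (AlbCurve.thetaSet k j n b).isClosed.closure_eq)
    rw [hZ]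
    refine AlbCurve.comap_thetaSet_prod k hdim hσ hJ hj hg b P hb (by rw [hPv]; exact hone) fun h => ha ?_
    refine JacVarLib.subset_of_kp k (JacVarLib.sm k j 1) (JacVarLib.isClosed_range k _) (AlbCurve.thetaSet k j n b).isClosed
      subset_rfl fun c hc => ?_
    obtain ⟨y, rfl⟩ := (JacVarLib.mem_range_iff k (JacVarLib.sm k j 1) c).1 hc
    refine h ⟨JacVarLib.img k (y ≫ JacVarLib.pr k 1 0), ?_⟩
    rw [JacVarLib.comp_list_prod, List.map_ofFn, List.prod_ofFn, Fin.prod_univ_one]
    show j.left _ = JacVarLib.img k (y ≫ JacVarLib.pr k 1 0 ≫ j)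
    rw [← Category.assoc]
    rfl

end Groth.Agent.S17823
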