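import Groth.Statements.S17824
import Groth.Agent.JacVarLib.Open

set_option autoImplicit false
set_option backward.isDefEq.respectTransparency false
set_option backward.isDefEq.respectTransparency.types false
set_option maxHeartbeats 1000000
set_option linter.style.haveILetI false
universe u
open CategoryTheory CategoryTheory.Limits AlgebraicGeometry
open JacVar

namespace Groth.Agent.S17824
open Groth.Agent Groth.Agent.JacVarLib Groth.Agent.H23.PicMul
open scoped Groth.Agent.H23.PicMul

/-- Parts (a) and (b) over an algebraically closed field. Let C be a smooth proper connected curve of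
genus g > 0 over an algebraically closed field k with a k-point P, and consider the 2g-fold fibre
power C ×_k ⋯ ×_k C, a k-rational point of which is a pair (D, D') of g-tuples of k-points (the
first g and the last g coordinates). (a) There is a nonempty open subset U of it such that for every
k-rational point (P_1, …, P_{2g}) of U and every invertible module M with M ⊗ I_{P_1} ⊗ ⋯ ⊗
I_{P_{2g}} ≅ I_P^{⊗g}, i.e. M ≅ O(D + D' − gP), one has h⁰(C, M) = 1. (b) There is a nonempty open
subset V such that for every k-rational point of V and every invertible M with M ⊗ I_{P_{g+1}} ⊗ ⋯ ⊗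
I_{P_{2g}} ⊗ I_P^{⊗g} ≅ I_{P_1} ⊗ ⋯ ⊗ I_{P_g}, i.e. M ≅ O(D' − D + gP), one has h⁰(C, M) = 1. (The
published lemma is phrased on C^(g) × C^(g), over the ground field, and for points with values in
every field containing it; this row takes k algebraically closed and k-points of the 2g-fold fibre
power.) -/
theorem result (k : Type u) [Field k] [IsAlgClosed k]
    (C : Scheme.{u}) [C.Over (Spec (CommRingCat.of k))]
    [IsProper (C ↘ Spec (CommRingCat.of k))] [Smooth (C ↘ Spec (CommRingCat.of k))] [GeometricallyConnected (C ↘ Spec (CommRingCat.of k))]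
    (hdim : topologicalKrullDim ↥C = 1)
    (g : ℕ) (hg : Curv2.genus k C = g) (hg1 : 1 ≤ g)
    (σ : Spec (CommRingCat.of k) ⟶ C) (hσ : σ ≫ (C ↘ Spec (CommRingCat.of k)) = 𝟙 _) :
    (∃ U : (SymProd.fibPow (C ↘ Spec (CommRingCat.of k)) (2 * g)).Opens, (U : Set ↥(SymProd.fibPow (C ↘ Spec (CommRingCat.of k)) (2 * g))).Nonempty ∧
      ∀ (x : Spec (CommRingCat.of k) ⟶ SymProd.fibPow (C ↘ Spec (CommRingCat.of k)) (2 * g))
        (hx : x ≫ WidePullback.base (fun (_ : Fin (2 * g)) => (C ↘ Spec (CommRingCat.of k))) = 𝟙 _)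
        (hxU : ∀ p, x.base p ∈ U) (M : C.Modules) (hM : PicF.IsInvertible M)
        (hMD : Nonempty (CohB1.tensorMod M (FGA.tensorList (List.ofFn fun i : Fin (2 * g) => ClSub.idealMod (x ≫ WidePullback.π (fun (_ : Fin (2 * g)) => (C ↘ Spec (CommRingCat.of k))) i).ker)) ≅
          CohB1.tensorPow (ClSub.idealMod σ.ker) g)),
        Module.finrank k (Coh.HH C M 0) = 1) ∧
    (∃ V : (SymProd.fibPow (C ↘ Spec (CommRingCat.of k)) (2 * g)).Opens, (V : Set ↥(SymProd.fibPow (C ↘ Spec (CommRingCat.of k)) (2 * g))).Nonempty ∧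
      ∀ (x : Spec (CommRingCat.of k) ⟶ SymProd.fibPow (C ↘ Spec (CommRingCat.of k)) (2 * g))
        (hx : x ≫ WidePullback.base (fun (_ : Fin (2 * g)) => (C ↘ Spec (CommRingCat.of k))) = 𝟙 _)
        (hxV : ∀ p, x.base p ∈ V) (M : C.Modules) (hM : PicF.IsInvertible M)
        (hMD : Nonempty (CohB1.tensorMod M (CohB1.tensorMod
            (FGA.tensorList (List.ofFn fun i : Fin g => ClSub.idealMod (x ≫ WidePullback.π (fun (_ : Fin (2 * g)) => (C ↘ Spec (CommRingCat.of k))) (Fin.cast (two_mul g).symm (Fin.natAdd g i))).ker))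
            (CohB1.tensorPow (ClSub.idealMod σ.ker) g)) ≅
          FGA.tensorList (List.ofFn fun i : Fin g => ClSub.idealMod (x ≫ WidePullback.π (fun (_ : Fin (2 * g)) => (C ↘ Spec (CommRingCat.of k))) (Fin.cast (two_mul g).symm (Fin.castAdd g i))).ker))),
        Module.finrank k (Coh.HH C M 0) = 1) := by
  classical
  haveI : IsIntegral C := CurveStable.isIntegral_of_geometricallyConnected (k := k)
  haveI := CurveAlgEqLib.smoothOfRelativeDimension_one (k := k) hdim
  set S := Os k hdim σ hσ with hS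
  have hcl : ∀ x : Pc C, x.1.val * PicF.cl (CohB1.tensorPow (ClSub.idealMod σ.ker) g) = (x * (S ^ g)⁻¹).1.val := fun x => by
    rw [cl_tensorPow, show PicF.cl (ClSub.idealMod σ.ker) = S⁻¹.1.val from cl_ker k hdim (Over.homMk σ hσ),
      ← Units.val_pow_eq_pow_val, ← SubmonoidClass.coe_pow, inv_pow, ← Units.val_mul, ← Subgroup.coe_mul]
  obtain ⟨z, hz'⟩ := exists_tuple_hz_one k hdim (n := g) (by omega)
  obtain ⟨y₀, hy₀⟩ := exists_tuple k
    (fun i : Fin (2 * g) => Fin.append (fun _ : Fin g => bpt k σ hσ) z (Fin.cast (two_mul g) i))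
  have split : ∀ F : Fin (2 * g) → Pc C, ∏ i, F i = (∏ i : Fin g, F (Fin.cast (two_mul g).symm (Fin.castAdd g i))) *
      ∏ i : Fin g, F (Fin.cast (two_mul g).symm (Fin.natAdd g i)) := fun F => by
    rw [← Fin.prod_univ_add fun i : Fin (g + g) => F (Fin.cast (two_mul g).symm i)]
    exact (Fin.prod_congr' F (two_mul g).symm).symm
  have hrr : ∀ v : Pc C, dg k v = g → hz k v ≤ 1 → hz k v = 1 := fun v hv hle => by
    have := rr k hdim v; omega
  refine ⟨?_, ?_⟩
  · obtain ⟨U, hU⟩ := exists_open_hz_le k hdim (S ^ g)⁻¹ (fun _ : Fin (2 * g) => (1 : ℤ))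
    simp only [comb, zpow_one] at hU
    refine ⟨U, ⟨img k y₀, (hU y₀).2 ?_⟩, fun x hx hxU M hM hMD => ?_⟩
    · rw [split]
      simp only [hy₀, Fin.cast_cast, Fin.cast_eq_self, Fin.append_left, Fin.append_right, Finset.prod_const,
        Finset.card_univ, Fintype.card_fin, ← hS, inv_mul_cancel_left]
      omega
    let y : KP k (PW k (C := C) (2 * g)) := Over.homMk x hx
    have h := (hU y).1 (hxU _)
    set v := (S ^ g)⁻¹ * ∏ i, O k hdim (pt k (y ≫ pr k _ i)) with hv
    have hMv : mk M hM = v := by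
      refine mul_right_cancel (b := (∏ i, O k hdim (pt k (y ≫ pr k _ i)))⁻¹) (ext_val ?_)
      rw [hv, mul_inv_cancel_right, Subgroup.coe_mul, Units.val_mul, mk_val]
      refine Eq.trans ?_ (((cl_tensor _ _).symm.trans (cl_eq_iff.2 hMD)).trans ?_)
      · rw [cl_tensorList_ker k hdim _ fun i => by rw [Category.assoc, WidePullback.π_arrow]; exact hx]
        rfl
      · have := hcl 1
        rw [_root_.one_mul] at this
        exact (_root_.one_mul _).symm.trans this
    rw [← hz_mk k M hM, hMv]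
    exact hrr v (by rw [hv, dg_mul k hdim, dg_inv k hdim, dg_pow k hdim, dg_prod k hdim]; simp [hS, dg_O]; omega) h
  · let e : Fin (2 * g) → ℤ := fun i => Fin.append (fun _ : Fin g => (-1 : ℤ)) (fun _ : Fin g => 1) (Fin.cast (two_mul g) i)
    obtain ⟨U, hU⟩ := exists_open_hz_le k hdim (S ^ g) e
    simp only [comb] at hU
    refine ⟨U, ⟨img k y₀, (hU y₀).2 ?_⟩, fun x hx hxU M hM hMD => ?_⟩
    · rw [split]
      simp only [hy₀, e, Fin.cast_cast, Fin.cast_eq_self, Fin.append_left, Fin.append_right, Finset.prod_const,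
        Finset.card_univ, Fintype.card_fin, ← hS, zpow_neg_one, zpow_one, inv_pow, mul_inv_cancel_left]
      omega
    let y : KP k (PW k (C := C) (2 * g)) := Over.homMk x hx
    have h := (hU y).1 (hxU _)
    rw [split] at h
    simp only [e, Fin.cast_cast, Fin.cast_eq_self, Fin.append_left, Fin.append_right, zpow_neg_one, zpow_one,
      Finset.prod_inv_distrib] at h
    set D := ∏ i : Fin g, O k hdim (pt k (y ≫ pr k _ (Fin.cast (two_mul g).symm (Fin.castAdd g i)))) with hD
    set E := ∏ i : Fin g, O k hdim (pt k (y ≫ pr k _ (Fin.cast (two_mul g).symm (Fin.natAdd g i)))) with hE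
    have hMv : mk M hM = S ^ g * (D⁻¹ * E) := by
      refine mul_right_cancel (b := E⁻¹ * (S ^ g)⁻¹) (ext_val ?_)
      rw [show S ^ g * (D⁻¹ * E) * (E⁻¹ * (S ^ g)⁻¹) = D⁻¹ by cgroup, Subgroup.coe_mul, Units.val_mul, mk_val, ← hcl]
      have hπ : ∀ i, (x ≫ WidePullback.π (fun (_ : Fin (2 * g)) => (C ↘ Spec (CommRingCat.of k))) i) ≫
          (C ↘ Spec (CommRingCat.of k)) = 𝟙 _ := fun i => by rw [Category.assoc, WidePullback.π_arrow]; exact hx
      refine Eq.trans ?_ (((cl_tensor _ _).symm.trans (cl_eq_iff.2 hMD)).trans ?_)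
      · rw [cl_tensor, cl_tensorList_ker k hdim _ fun i => hπ _]
        rfl
      · rw [cl_tensorList_ker k hdim _ fun i => hπ _]
        rfl
    rw [← hz_mk k M hM, hMv]
    exact hrr _ (by rw [dg_mul k hdim, dg_mul k hdim, dg_inv k hdim, dg_pow k hdim, dg_of_eff k hdim ⟨_, hD⟩, dg_of_eff k hdim ⟨_, hE⟩]; simp [hS, dg_O]) h

end Groth.Agent.S17824
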