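import Groth.Statements.S17826
import Groth.Agent.JacBC.ThetaBC
import Groth.Agent.JacBC.DualBC
import Groth.Agent.AVPrincPol.BcPhi
import Groth.Agent.EtFound.Descent

set_option autoImplicit false
set_option backward.isDefEq.respectTransparency false
set_option backward.isDefEq.respectTransparency.types false
set_option maxHeartbeats 1000000
set_option linter.style.haveILetI false
universe u
open CategoryTheory CategoryTheory.Limits AlgebraicGeometry MonoidalCategory CartesianMonoidalCategory MonObj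
open JacVar

namespace Groth.Agent.S17826
open Groth.Agent AlgebraicGeometry CategoryTheory TopologicalSpace
open scoped Groth.Agent.H23.PicMul

/-- Let C be a smooth proper geometrically connected curve of genus g > 0 over a field k with a
k-rational point P, (J, ψ) its Jacobian (a commutative group scheme over k, coarse moduli scheme on
all k-schemes for degree-0 line bundles modulo twisting from the base, group law induced by tensor
product) with universal family M on C × J normalised along P × J and classified by the identity of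
J, and j : C ⟶ J the Abel map with base point P. Let N be an invertible module of degree g − 1 on C
and Θ_J the theta line bundle on J (an invertible module inverse to the ideal of the closure of the
locus of classes ξ with a nonzero section of ξ ⊗ N — a translate of W^{g−1}, which has the same
associated homomorphism). Let (Jt, φ) be an fppf dual of J with normalised Poincaré module 𝒫 on J ×
Jt, lam : J ⟶ Jt the homomorphism attached to Θ_J through φ, and fd : Jt ⟶ J a homomorphism such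
that (1 × fd)^* M and (j × 1)^* 𝒫 have the same class on C × Jt. Then lam followed by fd is the
inversion of J and fd followed by lam is the inversion of Jt: −fd is inverse to lam, so lam is an
isomorphism. -/
theorem result (k : Type u) [Field k]
    (C : Scheme.{u}) [C.Over (Spec (CommRingCat.of k))]
    [IsProper (C ↘ Spec (CommRingCat.of k))] [Smooth (C ↘ Spec (CommRingCat.of k))] [GeometricallyConnected (C ↘ Spec (CommRingCat.of k))]
    (hdim : topologicalKrullDim ↥C = 1)
    (g : ℕ) (hg : Curv2.genus k C = g) (hg1 : 1 ≤ g)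
    (σ : Spec (CommRingCat.of k) ⟶ C) (hσ : σ ≫ (C ↘ Spec (CommRingCat.of k)) = 𝟙 _)
    (J : Over (Spec (CommRingCat.of k))) [GrpObj J] [IsCommMonObj J]
    (ψ : (ModFun.PicDeg (C ↘ Spec (CommRingCat.of k)) 0).Hom ⊤ J) (hJ : Jac.IsJacobian (C ↘ Spec (CommRingCat.of k)) ⊤ J ψ)
    (Pu : (PicF.XT (C ↘ Spec (CommRingCat.of k)) J).Modules) (hPu : ModFun.IsUnivFamily ⊤ (ModFun.PicDeg (C ↘ Spec (CommRingCat.of k)) 0) J Pu)
    (hPn : Jac.IsNormAlong (C ↘ Spec (CommRingCat.of k)) σ hσ J Pu)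
    (hT : (⊤ : ObjectProperty (Over (Spec (CommRingCat.of k)))) J) (hPuψ : ψ.app J Pu hT hPu.1 = 𝟙 J)
    (j : Over.mk (C ↘ Spec (CommRingCat.of k)) ⟶ J) (hj : Jac.IsAbelJacobiAt (C ↘ Spec (CommRingCat.of k)) σ ψ j)
    (N : C.Modules) (hN : PicF.IsInvertible N) (hNdeg : Curv2.deg k C N 1 = (g : ℤ) - 1)
    (ΘJ : J.left.Modules) (hΘJ : Jac.IsThetaLB (C ↘ Spec (CommRingCat.of k)) 0 ψ N ΘJ)
    (Jt : Over (Spec (CommRingCat.of k))) [GrpObj Jt] [IsCommMonObj Jt]
    (φ : AgPol.DualMap J Jt) (hJt : AbDual.IsDualAV Scheme.fppfPrecoverage J Jt φ)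
    (P : (PicF.XT J.hom Jt).Modules) (hP : PicF.IsInvertible P) (hPP : AbDual.IsPoincareCl J Jt φ (PicF.cl P))
    (lam : J ⟶ Jt) (hlam : AgPol.IsLambda J Jt φ ΘJ lam)
    (fd : Jt ⟶ J) [IsMonHom fd]
    (hfd : PicF.cl ((Scheme.Modules.pullback (PicF.XTmap (C ↘ Spec (CommRingCat.of k)) fd)).obj Pu) =
      PicF.cl ((Scheme.Modules.pullback (AbDual.bcMap j Jt)).obj P)) :
    lam ≫ fd = (𝟙 J)⁻¹ ∧ fd ≫ lam = (𝟙 Jt)⁻¹ := by
  haveI : IsIntegral C := CurveStable.isIntegral_of_geometricallyConnected (k := k)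
  haveI := PicRep.smoothOfRelativeDimension_one k C hdim
  obtain ⟨⟨r, hψ, hmul⟩, hJp, -, -, hJi, hJd⟩ := PicRep.exists_rep_of_isJacobian hσ hdim hJ
  haveI := hJp; haveI := hJi
  obtain ⟨n, rfl⟩ : ∃ n, g = n + 1 := ⟨g - 1, by omega⟩
  have hNdeg' : Curv2.deg k C N 1 = (n : ℤ) := by rw [hNdeg]; push_cast; ring
  have hJd' : topologicalKrullDim J.left = ((n + 1 : ℕ) : WithBot ℕ∞) := by rw [hJd, hg]
  let K := AlgebraicClosure k
  let q := JacBC.spq k K
  letI := JacBC.overCK k K (C := C)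
  let f := C ↘ Spec (CommRingCat.of k)
  let fK := JacBC.CK k K C ↘ Spec (CommRingCat.of K)
  have hdK := JacBC.dim_CK k K hdim (C := C)
  haveI : IsIntegral (JacBC.CK k K C) := CurveStable.isIntegral_of_geometricallyConnected (k := K)
  have hgK : Curv2.genus K (JacBC.CK k K C) = n + 1 := (JacBC.genus_CK k K).trans hg
  haveI := JacBC.isCommMonObj_bc k K (J := J)
  haveI : IsProper (Red.bc q J).hom := (H23.BcComp.isAV_bc q J).1
  haveI : GeometricallyIntegral (Red.bc q J).hom := (H23.BcComp.isAV_bc q J).2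
  haveI : Flat q := GrpSchLib.flat_spec_map_field _
  haveI : Surjective q := GrpSchLib.surjective_spec_map_field _
  obtain ⟨hTp', hTg', -⟩ := AVDualExist.isAV_of_isDualAV (A := Red.bc q J) (At := Red.bc q Jt) (n + 1)
    (by
      obtain ⟨-, -, -, -, -, hd⟩ := PicRep.exists_rep_of_isJacobian (σ := PicRep.bcσ f q σ hσ)
        (PicRep.bcσ_fac f q σ hσ) hdK (JacBC.isJacobian_bc k K r hmul)
      rw [hd, hgK]) (AVField.isDualAV_bc q hJt)
  haveI := hTp'; haveI := hTg'
  haveI : IsProper Jt.hom := by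
    have := EtFound.fpqc_isProper.{u}
    exact MorphismProperty.of_pullback_snd_of_descendsAlong (P := @IsProper)
      (Q := (@Surjective ⊓ @Flat ⊓ @QuasiCompact : MorphismProperty Scheme.{u})) (g := q) (f := Jt.hom)
      ⟨⟨inferInstance, inferInstance⟩, inferInstance⟩ hTp'
  haveI : ObjectProperty.IsClosedUnderIsomorphisms (fun X : Scheme.{u} => IsIntegral X) :=
    ⟨fun {X Y} e hX => by
      haveI : IsIntegral X := hX
      haveI : Nonempty Y := ⟨e.hom.base (Classical.arbitrary X)⟩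
      exact isIntegral_of_isOpenImmersion e.inv⟩
  haveI : GeometricallyIntegral Jt.hom := ⟨FBaseLib.geometrically_of_surjective (P := fun X : Scheme.{u} => IsIntegral X)
    (fun {Z W} w _ _ hz => by
      haveI : IsIntegral Z := hz
      haveI := FBaseLib.isReduced_of_flat_surjective w
      haveI := FBaseLib.irreducibleSpace_of_surjective w
      exact isIntegral_of_irreducibleSpace_of_isReduced W) Jt.hom q hTg'.geometrically_isIntegral⟩
  have hJK := JacBC.isJacobian_bc k K r hmul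
  let rK := JacBC.bcRep q r
  let jK : Over.mk fK ⟶ Red.bc q J := JacBC.bcMor q j
  have hjK := JacBC.isAbel_bc (q := q) r hψ hj
  have hmulK := JacBC.val0_bcRep_mul q r hmul
  have hσK : PicRep.bcσ f q σ hσ ≫ fK = 𝟙 _ := PicRep.bcσ_fac f q σ hσ
  have hφK := AVField.isDualAV_bc q hJt
  obtain ⟨hΘKi, hΘKI⟩ := JacBC.isThetaLB_bc k K hj r hψ hmul hdim hg hN hNdeg' hΘJ
  obtain ⟨a, ha⟩ := AlbCurve.exists_thetaLocus_eq K hdK hJK hjK rK (fun _ _ _ _ => rfl) hmulK hgK
    (PicClLib.isInvertible_pullback (JacBC.prC k K (C := C)) hN) ((JacBC.deg_CK k K hN).trans hNdeg')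
  let p : (Red.bc q J).left ⟶ J.left := pullback.fst J.hom q
  obtain ⟨hL, hL'⟩ := AlbCurve.theta_data K (j := jK) (n := n) a hΘKi (by
    refine Eq.mp ?_ hΘKI
    exact congrArg (fun Z => ClSub.IsInverseOf ((Scheme.Modules.pullback p).obj ΘJ)
      (ClSub.idealMod (Scheme.IdealSheafData.vanishingIdeal Z))) (Closeds.ext ha))
  set v : JacVarLib.Pc J.left := JacVarLib.mk ΘJ hΘJ.1 with hv
  set vK : JacVarLib.Pc (Red.bc q J).left := JacVarLib.mk _ hΘKi with hvK
  have hvKp : vK = JacVarLib.pullPc p v := JacVarLib.ext_val (by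
    rw [hvK, hv, JacVarLib.pullPc_val, JacVarLib.mk_val, JacVarLib.mk_val]; rfl)
  obtain ⟨M, hMi, hM, rfl⟩ := hlam
  have hmum : PicF.cl M = AVField.mum v.1.val v⁻¹.1.val := by
    obtain ⟨e⟩ := hM
    have h := H23.PicMul.cl_eq_iff.2 ⟨e⟩
    rw [H23.PicMul.cl_tensor, H23.PicMul.cl_tensor] at h
    change (PicF.cl M : PicF.Cl (J ⊗ J).left) * AVPair.pl (fst J J) (PicF.cl ΘJ) * AVPair.pl (snd J J) (PicF.cl ΘJ) =
      AVPair.pl μ[J] (PicF.cl ΘJ) at h
    rw [AVField.mum, hv, JacVarLib.mk_val, ← h, ← hv]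
    have hu : ∀ w : J ⊗ J ⟶ J, AVPair.pl w (PicF.cl ΘJ) * AVPair.pl w v⁻¹.1.val = 1 := fun w => by
      rw [← map_mul, ← JacVarLib.mk_val ΘJ hΘJ.1, ← hv, AlbCurve.val_mul_inv, map_one]
    calc (PicF.cl M : PicF.Cl (J ⊗ J).left) = (PicF.cl M : PicF.Cl (J ⊗ J).left) * (AVPair.pl (fst J J) (PicF.cl ΘJ) * AVPair.pl (fst J J) v⁻¹.1.val) *
          (AVPair.pl (snd J J) (PicF.cl ΘJ) * AVPair.pl (snd J J) v⁻¹.1.val) := by
          rw [hu, hu, _root_.mul_one, _root_.mul_one]
      _ = _ := by ac_rfl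
  let lamK : Red.bc q J ⟶ Red.bc q Jt := (Over.pullback q).map (φ J (PicF.cl M))
  have hlamK : lamK = AgPol.bcDual q J Jt φ (Red.bc q J) (AVField.mum vK.1.val vK⁻¹.1.val) := by
    show (Over.pullback q).map (φ J (PicF.cl M)) = _
    rw [hmum, hvKp, ← map_inv, JacVarLib.pullPc_val, JacVarLib.pullPc_val]
    exact (AVPrincPol.bcDual_mum hJt v.2 (AlbCurve.val_mul_inv v) q).symm
  let PK := (Scheme.Modules.pullback ((AgPol.bcXTIso q J (Red.bc q Jt)).hom ≫
    PicF.XTmap J.hom (JacBC.prO q Jt))).obj P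
  have hξK : AbDual.IsPoincareCl (Red.bc q J) (Red.bc q Jt) (AgPol.bcDual q J Jt φ) (PicF.cl PK) :=
    JacBC.isPoincareCl_bc q hJt hPP
  let fdK : Red.bc q Jt ⟶ Red.bc q J := (Over.pullback q).map fd
  have hfdK : (PicRep.val0 (rK.homEquiv fdK)).1.val = PicF.pullCl (AbDual.bcMap jK (Red.bc q Jt)) (PicF.cl PK) := by
    rw [JacBC.val0_bcRep, JacBC.adj_symm_map, r.homEquiv_comp, PicRep.val0_map, JacVarLib.pullPc_val,
      JacVarLib.pullPc_val]
    rw [AlbCurve.val0_of_normalised r hψ hPu.1 hPn hPuψ]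
    refine Eq.trans (congrArg (PicF.pullCl _) (congrArg (PicF.pullCl _) hfd)) ?_
    show PicF.pullCl _ (PicF.pullCl _ (PicF.pullCl _ (PicF.cl P))) = PicF.pullCl _ (PicF.pullCl _ (PicF.cl P))
    simp only [PicClLib.pullCl_comp]
    exact congrArg (fun w => PicF.pullCl w (PicF.cl P))
      (((Category.assoc _ _ _).trans (JacBC.bcMap_bcMor q j).symm))
  set L : JacVarLib.Pc (Red.bc q J).left := JacVarLib.pullPc (Jac.transl (Red.bc q J) a).left vK with hLdef
  have hlamL : lamK = AgPol.bcDual q J Jt φ (Red.bc q J) (AVField.mum L.1.val L⁻¹.1.val) := by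
    rw [hlamK, hLdef, AlbCurve.mum_transl vK a]
  have h1 : lamK ≫ fdK = (𝟙 (Red.bc q J))⁻¹ := by
    rw [hlamL]
    exact AlbCurve.lam_comp K hdK hJK hjK rK (fun _ _ _ _ => rfl) hmulK hgK hL hL' hφK hξK fdK hfdK
  haveI : IsIso lamK := by
    rw [hlamL]
    exact AlbCurve.lam_isIso K hdK hJK hjK rK (fun _ _ _ _ => rfl) hmulK hgK hL hL' hφK
  haveI : IsMonHom lamK := by
    rw [hlamK]
    exact AVField.isMonHom_phi_mum hφK vK.2 (AlbCurve.val_mul_inv vK)
  have h2 : fdK ≫ lamK = (𝟙 (Red.bc q Jt))⁻¹ := by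
    rw [← cancel_epi lamK, ← Category.assoc, h1, GrpObj.inv_comp, Category.id_comp, GrpObj.comp_inv,
      Category.comp_id]
  haveI : Flat q := GrpSchLib.flat_spec_map_field _
  haveI : Surjective q := GrpSchLib.surjective_spec_map_field _
  refine ⟨JacBC.map_injective q ?_, JacBC.map_injective q ?_⟩
  · rw [Functor.map_comp, JacBC.map_inv_id]
    exact h1
  · rw [Functor.map_comp, JacBC.map_inv_id]
    exact h2

end Groth.Agent.S17826
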