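import Groth.Statements.S17827
import Groth.Agent.AlbCurve.LambdaPull

set_option autoImplicit false
set_option backward.isDefEq.respectTransparency false
set_option backward.isDefEq.respectTransparency.types false
set_option maxHeartbeats 1000000
set_option linter.style.haveILetI false
universe u
open CategoryTheory CategoryTheory.Limits AlgebraicGeometry MonoidalCategory CartesianMonoidalCategory MonObj
open JacVar

namespace Groth.Agent.S17827
open Groth.Agent AlgebraicGeometry CategoryTheory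
open scoped Groth.Agent.H23.PicMul

/-- Let k be an algebraically closed field, C a smooth proper connected curve of genus g ≥ 1 over k with
a k-point P, (J, ψ) its Jacobian (a commutative group scheme over k, coarse moduli scheme on all
k-schemes for degree-0 line bundles modulo twisting from the base, group law induced by tensor
product) with universal family M on C × J normalised along P × J and classified by the identity of
J, and j : C ⟶ J the Abel map with base point P. Let Θ = W^{g−1} ⊂ J be the image of the (g −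
1)-fold product of C under (x_i) ↦ Π j(x_i), Θ⁻ its image under inversion, L(Θ⁻) an invertible
module on J inverse to the ideal of the reduced closed subscheme Θ⁻, and Λ an invertible module on J
× J with Λ ⊗ pr₁^* L(Θ⁻) ⊗ pr₂^* L(Θ⁻) ≅ m^* L(Θ⁻), m the group law (the sheaf m^*L(Θ⁻) ⊗
pr₁^*L(Θ⁻)⁻¹ ⊗ pr₂^*L(Θ⁻)⁻¹). Then the pullback of Λ along j × (−1) : C × J ⟶ J × J is isomorphic to
M. -/
theorem result (k : Type u) [Field k] [IsAlgClosed k]
    (C : Scheme.{u}) [C.Over (Spec (CommRingCat.of k))]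
    [IsProper (C ↘ Spec (CommRingCat.of k))] [Smooth (C ↘ Spec (CommRingCat.of k))] [GeometricallyConnected (C ↘ Spec (CommRingCat.of k))]
    (hdim : topologicalKrullDim ↥C = 1)
    (g : ℕ) (hg : Curv2.genus k C = g) (hg1 : 1 ≤ g)
    (σ : Spec (CommRingCat.of k) ⟶ C) (hσ : σ ≫ (C ↘ Spec (CommRingCat.of k)) = 𝟙 _)
    (J : Over (Spec (CommRingCat.of k))) [GrpObj J] [IsCommMonObj J]
    (ψ : (ModFun.PicDeg (C ↘ Spec (CommRingCat.of k)) 0).Hom ⊤ J) (hJ : Jac.IsJacobian (C ↘ Spec (CommRingCat.of k)) ⊤ J ψ)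
    (j : Over.mk (C ↘ Spec (CommRingCat.of k)) ⟶ J) (hj : Jac.IsAbelJacobiAt (C ↘ Spec (CommRingCat.of k)) σ ψ j)
    (Pu : (PicF.XT (C ↘ Spec (CommRingCat.of k)) J).Modules) (hPu : ModFun.IsUnivFamily ⊤ (ModFun.PicDeg (C ↘ Spec (CommRingCat.of k)) 0) J Pu)
    (hPn : Jac.IsNormAlong (C ↘ Spec (CommRingCat.of k)) σ hσ J Pu)
    (hT : (⊤ : ObjectProperty (Over (Spec (CommRingCat.of k)))) J) (hPuψ : ψ.app J Pu hT hPu.1 = 𝟙 J)
    (LΘm : J.left.Modules) (hLΘm : PicF.IsInvertible LΘm)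
    (hLΘmI : ClSub.IsInverseOf LΘm (ClSub.idealMod (Scheme.IdealSheafData.vanishingIdeal
      ⟨closure (((𝟙 J)⁻¹).left.base '' Set.range ((List.ofFn fun i : Fin (g - 1) =>
        (Over.homMk (WidePullback.π (fun (_ : Fin (g - 1)) => (C ↘ Spec (CommRingCat.of k))) i)
          (WidePullback.π_arrow (fun (_ : Fin (g - 1)) => (C ↘ Spec (CommRingCat.of k))) i) : Over.mk (WidePullback.base fun (_ : Fin (g - 1)) => (C ↘ Spec (CommRingCat.of k))) ⟶ Over.mk (C ↘ Spec (CommRingCat.of k))) ≫ j).prod).left.base), isClosed_closure⟩)))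
    (Λ : (PicF.XT J.hom J).Modules) (hΛ : PicF.IsInvertible Λ)
    (hΛL : AgPol.IsLambdaSheaf (μ[J].left : PicF.XT J.hom J ⟶ J.left) (fst J J).left (snd J J).left LΘm Λ) :
    Nonempty ((Scheme.Modules.pullback (PicF.XTmap (C ↘ Spec (CommRingCat.of k)) ((𝟙 J)⁻¹) ≫ AbDual.bcMap j J)).obj Λ ≅ Pu) := by
  haveI : IsIntegral C := CurveStable.isIntegral_of_geometricallyConnected (k := k)
  haveI := PicRep.smoothOfRelativeDimension_one k C hdim
  obtain ⟨n, rfl⟩ : ∃ n, g = n + 1 := ⟨g - 1, by omega⟩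
  obtain ⟨⟨r, hψ, hmul⟩, -⟩ := PicRep.exists_rep_of_isJacobian hσ hdim hJ
  have hset : ClSub.IsInverseOf LΘm (ClSub.idealMod (Scheme.IdealSheafData.vanishingIdeal
      (AlbCurve.thetaSet k j n (1 : JacVarLib.KP k J)))) := by
    refine Eq.mp ?_ hLΘmI
    refine congrArg (fun Z => ClSub.IsInverseOf LΘm (ClSub.idealMod (Scheme.IdealSheafData.vanishingIdeal Z)))
      (TopologicalSpace.Closeds.ext (congrArg closure ?_))
    refine Eq.trans ?_ (JacVarLib.reflect_range k (JacVarLib.sm k j n) (1 : JacVarLib.KP k J))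
    rw [AlbCurve.transl_one]
    exact (Set.image_id _).symm
  obtain ⟨hL, hL'⟩ := AlbCurve.theta_data k (1 : JacVarLib.KP k J) hLΘm hset
  have hN : JacVarLib.mk Λ hΛ * JacVarLib.pullPc (AlbCurve.pr1 J) (JacVarLib.mk LΘm hLΘm) *
      JacVarLib.pullPc (AlbCurve.pr2 J) (JacVarLib.mk LΘm hLΘm) =
      JacVarLib.pullPc (AlbCurve.mulMap J) (JacVarLib.mk LΘm hLΘm) := by
    obtain ⟨e⟩ := hΛL
    refine JacVarLib.ext_val ?_
    simp only [Subgroup.coe_mul, Units.val_mul, JacVarLib.pullPc_val, JacVarLib.mk_val]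
    refine Eq.trans ?_ (H23.PicMul.cl_eq_iff.2 ⟨e⟩)
    exact (congrArg (· * _) (H23.PicMul.cl_tensor _ _).symm).trans (H23.PicMul.cl_tensor _ _).symm
  have e1 : JacVarLib.pullPc (Jac.transl J (1 : JacVarLib.KP k J)).left (JacVarLib.mk LΘm hLΘm) = JacVarLib.mk LΘm hLΘm := by
    rw [AlbCurve.transl_one]
    exact PicRep.pullPc_id _
  rw [e1] at hL
  have h := AlbCurve.lambda_pull k hdim hJ hj r hψ hmul hg hL hL' hN
  rw [AlbCurve.val0_id_of_normalised r hψ hPu.1 hPn hPuψ] at h
  have h' := congrArg (fun v => (v : JacVarLib.Pc (PicF.XT (C ↘ Spec (CommRingCat.of k)) J)).1.val) h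
  simp only [JacVarLib.pullPc_val, JacVarLib.mk_val, PicRep.toPc_val] at h'
  exact H23.PicMul.cl_eq_iff.1 h'

end Groth.Agent.S17827
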