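import Groth.Statements.S17828
import Groth.Agent.JacBC.Points
import Groth.Agent.S17811
import Groth.Agent.S19877

set_option autoImplicit false
set_option backward.isDefEq.respectTransparency false
set_option backward.isDefEq.respectTransparency.types false
set_option maxHeartbeats 1000000
set_option linter.style.haveILetI false
universe u
open CategoryTheory CategoryTheory.Limits AlgebraicGeometry MonoidalCategory CartesianMonoidalCategory MonObj
open JacVar

namespace Groth.Agent.S17828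
open Groth.Agent AlgebraicGeometry CategoryTheory
open scoped Groth.Agent.H23.PicMul

/-- The case of curves with rational points. Let k be a perfect field, C and C' smooth proper
geometrically connected curves of the same genus g ≥ 2 over k with k-rational points P and P', (J,
ψ) and (J', ψ') their Jacobians (commutative group schemes over k, coarse moduli schemes on all
k-schemes for degree-0 line bundles modulo twisting from the base, group law induced by tensor
product), N and N' invertible modules of degree g − 1 on C and C', and Θ ⊂ J, Θ' ⊂ J' the theta loci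
of N and N' (closures of the loci of classes ξ with a nonzero global section of ξ ⊗ N, resp. ξ ⊗
N'). If β : J ≅ J' is an isomorphism of group schemes over k mapping Θ onto the translate of Θ' by a
k-rational point of J' — for curves with rational points this is an isomorphism of the canonically
polarized Jacobians over k — then C and C' are isomorphic over k. (The published corollary does not
assume rational points on C and C'; it is stated here for curves having them, through which the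
theta divisors are defined over k.) -/
theorem result (k : Type u) [Field k] [PerfectField k]
    (C : Scheme.{u}) [C.Over (Spec (CommRingCat.of k))]
    [IsProper (C ↘ Spec (CommRingCat.of k))] [Smooth (C ↘ Spec (CommRingCat.of k))] [GeometricallyConnected (C ↘ Spec (CommRingCat.of k))]
    (hdim : topologicalKrullDim ↥C = 1)
    (C' : Scheme.{u}) [C'.Over (Spec (CommRingCat.of k))]
    [IsProper (C' ↘ Spec (CommRingCat.of k))] [Smooth (C' ↘ Spec (CommRingCat.of k))] [GeometricallyConnected (C' ↘ Spec (CommRingCat.of k))]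
    (hdim' : topologicalKrullDim ↥C' = 1)
    (g : ℕ) (hg : Curv2.genus k C = g) (hg' : Curv2.genus k C' = g) (hg2 : 2 ≤ g)
    (σ : Spec (CommRingCat.of k) ⟶ C) (hσ : σ ≫ (C ↘ Spec (CommRingCat.of k)) = 𝟙 _) (σ' : Spec (CommRingCat.of k) ⟶ C') (hσ' : σ' ≫ (C' ↘ Spec (CommRingCat.of k)) = 𝟙 _)
    (J : Over (Spec (CommRingCat.of k))) [GrpObj J] [IsCommMonObj J]
    (ψ : (ModFun.PicDeg (C ↘ Spec (CommRingCat.of k)) 0).Hom ⊤ J) (hJ : Jac.IsJacobian (C ↘ Spec (CommRingCat.of k)) ⊤ J ψ)
    (J' : Over (Spec (CommRingCat.of k))) [GrpObj J'] [IsCommMonObj J']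
    (ψ' : (ModFun.PicDeg (C' ↘ Spec (CommRingCat.of k)) 0).Hom ⊤ J') (hJ' : Jac.IsJacobian (C' ↘ Spec (CommRingCat.of k)) ⊤ J' ψ')
    (N : C.Modules) (hN : PicF.IsInvertible N) (hNdeg : Curv2.deg k C N 1 = (g : ℤ) - 1)
    (N' : C'.Modules) (hN' : PicF.IsInvertible N') (hNdeg' : Curv2.deg k C' N' 1 = (g : ℤ) - 1)
    (β : J ≅ J') [IsMonHom β.hom] (c₀ : 𝟙_ (Over (Spec (CommRingCat.of k))) ⟶ J')
    (hβ : β.hom.left.base '' Jac.thetaLocus (C ↘ Spec (CommRingCat.of k)) 0 ψ N =
      (Jac.transl J' c₀).left.base ⁻¹' Jac.thetaLocus (C' ↘ Spec (CommRingCat.of k)) 0 ψ' N') :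
    ∃ α : C ≅ C', α.hom ≫ (C' ↘ Spec (CommRingCat.of k)) = (C ↘ Spec (CommRingCat.of k)) := by
  haveI : IsIntegral C := CurveStable.isIntegral_of_geometricallyConnected (k := k)
  haveI : IsIntegral C' := CurveStable.isIntegral_of_geometricallyConnected (k := k)
  haveI := PicRep.smoothOfRelativeDimension_one k C hdim
  haveI := PicRep.smoothOfRelativeDimension_one k C' hdim'
  obtain ⟨⟨r, hψ, hmul⟩, hJp, -⟩ := PicRep.exists_rep_of_isJacobian hσ hdim hJ
  obtain ⟨⟨r', hψ', hmul'⟩, hJp', -⟩ := PicRep.exists_rep_of_isJacobian hσ' hdim' hJ'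
  haveI := hJp; haveI := hJp'
  obtain ⟨j, hj⟩ := AlbCurve.exists_abel (σ := σ) hσ ψ
  obtain ⟨j', hj'⟩ := AlbCurve.exists_abel (σ := σ') hσ' ψ'
  haveI : IsClosedImmersion j.left := AlbCurve.isClosedImmersion_abel r hmul
    (fun T x => AlbCurve.val0_abel r hψ hj x) hdim (by omega)
  haveI : IsClosedImmersion j'.left := AlbCurve.isClosedImmersion_abel r' hmul'
    (fun T x => AlbCurve.val0_abel r' hψ' hj' x) hdim' (by omega)
  let f := C ↘ Spec (CommRingCat.of k)
  let f' := C' ↘ Spec (CommRingCat.of k)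
  let K := AlgebraicClosure k
  let q := JacBC.spq k K
  letI := JacBC.overCK k K (C := C)
  letI := JacBC.overCK k K (C := C')
  let fK := JacBC.CK k K C ↘ Spec (CommRingCat.of K)
  let fK' := JacBC.CK k K C' ↘ Spec (CommRingCat.of K)
  have hdK := JacBC.dim_CK k K hdim (C := C)
  have hdK' := JacBC.dim_CK k K hdim' (C := C')
  haveI : IsIntegral (JacBC.CK k K C) := CurveStable.isIntegral_of_geometricallyConnected (k := K)
  haveI : IsIntegral (JacBC.CK k K C') := CurveStable.isIntegral_of_geometricallyConnected (k := K)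
  have hgK : Curv2.genus K (JacBC.CK k K C) = g := (JacBC.genus_CK k K).trans hg
  have hgK' : Curv2.genus K (JacBC.CK k K C') = g := (JacBC.genus_CK k K).trans hg'
  haveI := JacBC.isCommMonObj_bc k K (J := J)
  haveI := JacBC.isCommMonObj_bc k K (J := J')
  let r₁ := JacBC.bcRep q r
  let r₁' := JacBC.bcRep q r'
  have hJK := JacBC.isJacobian_bc k K r hmul
  have hJK' := JacBC.isJacobian_bc k K r' hmul'
  let jK : Over.mk fK ⟶ Red.bc q J := JacBC.bcMor q j
  let jK' : Over.mk fK' ⟶ Red.bc q J' := JacBC.bcMor q j'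
  have hjK := JacBC.isAbel_bc (q := q) r hψ hj
  have hjK' := JacBC.isAbel_bc (q := q) r' hψ' hj'
  have hσK : PicRep.bcσ f q σ hσ ≫ fK = 𝟙 _ := PicRep.bcσ_fac f q σ hσ
  have hσK' : PicRep.bcσ f' q σ' hσ' ≫ fK' = 𝟙 _ := PicRep.bcσ_fac f' q σ' hσ'
  have hmulK := JacBC.val0_bcRep_mul q r hmul
  have hmulK' := JacBC.val0_bcRep_mul q r' hmul'
  haveI : IsProper (Red.bc q J').hom := inferInstanceAs (IsProper (pullback.snd J'.hom q))
  haveI : IsProper (Red.bc q J).hom := inferInstanceAs (IsProper (pullback.snd J.hom q))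
  haveI : IsClosedImmersion jK.left := AlbCurve.isClosedImmersion_abel r₁ hmulK
    (fun T x => AlbCurve.val0_abel r₁ (fun _ _ _ _ => rfl) hjK x) hdK (Nat.lt_of_lt_of_le (by omega : 0 < g) hgK.ge)
  haveI : IsClosedImmersion jK'.left := AlbCurve.isClosedImmersion_abel r₁' hmulK'
    (fun T x => AlbCurve.val0_abel r₁' (fun _ _ _ _ => rfl) hjK' x) hdK' (Nat.lt_of_lt_of_le (by omega : 0 < g) hgK'.ge)
  let βK : Red.bc q J ≅ Red.bc q J' := (Over.pullback q).mapIso β
  haveI : IsMonHom βK.hom := inferInstanceAs (IsMonHom ((Over.pullback q).map β.hom))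
  let pJ : (Red.bc q J).left ⟶ J.left := pullback.fst J.hom q
  let pJ' : (Red.bc q J').left ⟶ J'.left := pullback.fst J'.hom q
  have hβp : βK.hom.left ≫ pJ' = pJ ≫ β.hom.left := pullback.lift_fst _ _ _
  haveI : IsIso β.hom.left := inferInstanceAs (IsIso ((Over.forget _).map β.hom))
  haveI : IsIso βK.hom.left := inferInstanceAs (IsIso ((Over.forget _).map βK.hom))
  have hβK : βK.hom.left.base '' Jac.thetaLocus fK 0 (JacBC.psiK k K r) ((Scheme.Modules.pullback (JacBC.prC k K)).obj N) =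
      (Jac.transl (Red.bc q J') (JacBC.constPt K c₀)).left.base ⁻¹'
        Jac.thetaLocus fK' 0 (JacBC.psiK k K r') ((Scheme.Modules.pullback (JacBC.prC k K)).obj N') := by
    rw [JacBC.thetaLocus_bc k K r hψ hN, JacBC.thetaLocus_bc k K r' hψ' hN']
    have hbp : ∀ x, pJ'.base (βK.hom.left.base x) = β.hom.left.base (pJ.base x) := fun x =>
      congrArg (fun m => (m : (Red.bc q J).left ⟶ J'.left).base x) hβp
    have htp : ∀ y, pJ'.base ((Jac.transl (Red.bc q J') (JacBC.constPt K c₀)).left.base y) =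
        (Jac.transl J' c₀).left.base (pJ'.base y) := fun y =>
      congrArg (fun m => (m : (Red.bc q J').left ⟶ J'.left).base y) (JacBC.transl_constPt K c₀)
    ext y
    obtain ⟨x, rfl⟩ := βK.hom.left.surjective y
    rw [βK.hom.left.isOpenEmbedding.injective.mem_set_image, Set.mem_preimage, Set.mem_preimage, Set.mem_preimage]
    erw [htp, hbp]
    rw [← β.hom.left.isOpenEmbedding.injective.mem_set_image, hβ]
    rfl
  have hNK : PicF.IsInvertible ((Scheme.Modules.pullback (JacBC.prC k K (C := C))).obj N) :=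
    PicClLib.isInvertible_pullback _ hN
  have hNK' : PicF.IsInvertible ((Scheme.Modules.pullback (JacBC.prC k K (C := C'))).obj N') :=
    PicClLib.isInvertible_pullback _ hN'
  obtain ⟨α, hα, cK, s, hs, hαs⟩ := S17811.result K (JacBC.CK k K C) hdK (JacBC.CK k K C') hdK' g hgK hgK' hg2
    _ hσK _ hσK' (Red.bc q J) _ hJK (Red.bc q J') _ hJK' jK hjK jK' hjK' _ hNK
    ((JacBC.deg_CK k K hN).trans hNdeg) _ hNK' ((JacBC.deg_CK k K hN').trans hNdeg') βK (JacBC.constPt K c₀) hβK
  let gs : Over.mk f ⟶ J' := (j ≫ β.hom) ^ s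
  let P : (SGA7.pt (K := k) K ⟶ J') → Prop := fun c =>
    ∀ x : SGA7.pt (K := k) K ⟶ Over.mk f, ∃ x' : SGA7.pt (K := k) K ⟶ Over.mk f', (x ≫ gs) * c = x' ≫ j'
  have hgs : ∀ xK : 𝟙_ (Over (Spec (CommRingCat.of K))) ⟶ Over.mk fK,
      JacBC.ptsEq K (xK ≫ (jK ≫ βK.hom) ^ s) = JacBC.ptsEq K (Y := Over.mk f) xK ≫ gs := fun xK => by
    rw [GrpObj.comp_zpow, JacBC.ptsEq_zpow, ← Category.assoc,
      show βK.hom = (Over.pullback q).map β.hom from rfl, JacBC.ptsEq_map]
    erw [JacBC.ptsEq_bcMor]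
    rw [GrpObj.comp_zpow, Category.assoc]
  have hP : P (JacBC.ptsEq K cK) := fun x => by
    let xK : 𝟙_ (Over (Spec (CommRingCat.of K))) ⟶ Over.mk fK :=
      (JacBC.ptsEq K (Y := Over.mk f)).symm x
    have hx : JacBC.ptsEq K (Y := Over.mk f) xK = x := Equiv.apply_symm_apply _ _
    let xK' : 𝟙_ (Over (Spec (CommRingCat.of K))) ⟶ Over.mk fK' := xK ≫ Over.homMk α.hom hα
    refine ⟨JacBC.ptsEq K (Y := Over.mk f') xK', ?_⟩
    refine Eq.trans ?_ (JacBC.ptsEq_bcMor K xK' j')
    rw [← hx, ← hgs, ← JacBC.ptsEq_mul]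
    refine congrArg (JacBC.ptsEq K) ?_
    refine Eq.trans ?_ (Category.assoc _ _ _).symm
    refine Eq.trans ?_ (congrArg (xK ≫ ·) hαs).symm
    erw [MonObj.comp_mul, comp_toUnit_assoc, toUnit_unit, Category.id_comp]
  have hgen : ∀ c : SGA7.pt (K := k) K ⟶ J', P c → ∃ (α₁ : JacBC.CK k K C ≅ JacBC.CK k K C') (hα₁ : α₁.hom ≫ fK' = fK),
      Over.homMk α₁.hom hα₁ ≫ jK' =
        (jK ≫ βK.hom) ^ s * (toUnit (Over.mk fK) ≫ (JacBC.ptsEq K).symm c) := by
    intro c hc
    haveI := JacBC.isClosedImmersion_shift jK βK hs ((JacBC.ptsEq K).symm c)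
    let p : Over.mk fK ⟶ Red.bc q J' := (jK ≫ βK.hom) ^ s * (toUnit (Over.mk fK) ≫ (JacBC.ptsEq K).symm c)
    haveI : JacobsonSpace (JacBC.CK k K C) := LocallyOfFiniteType.jacobsonSpace fK
    obtain ⟨α₁, h₁⟩ := JacBC.exists_iso_of_range hdK hdK' p.left jK'.left (fun z hz => by
      obtain ⟨xK, rfl⟩ : ∃ xK : 𝟙_ (Over (Spec (CommRingCat.of K))) ⟶ Over.mk fK,
          xK.left.base (IsLocalRing.closedPoint K) = z :=
        ⟨Over.homMk (pointOfClosedPoint fK z hz) (pointOfClosedPoint_comp _ _ _), pointOfClosedPoint_apply _ _ _ _⟩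
      obtain ⟨x', hx'⟩ := hc (JacBC.ptsEq K (Y := Over.mk f) xK)
      let xK' : 𝟙_ (Over (Spec (CommRingCat.of K))) ⟶ Over.mk fK' :=
        (JacBC.ptsEq K (Y := Over.mk f')).symm x'
      have key : xK ≫ p = xK' ≫ jK' := by
        refine (JacBC.ptsEq K).injective ?_
        rw [MonObj.comp_mul, comp_toUnit_assoc, toUnit_unit, Category.id_comp, JacBC.ptsEq_mul, hgs,
          Equiv.apply_symm_apply, hx']
        refine Eq.trans ?_ (JacBC.ptsEq_bcMor K xK' j').symm
        rw [Equiv.apply_symm_apply]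
      exact ⟨xK'.left.base (IsLocalRing.closedPoint K),
        (congrArg (fun m => m.left.base (IsLocalRing.closedPoint K)) key).symm⟩)
    refine ⟨α₁, ?_, Over.OverMorphism.ext h₁⟩
    rw [show fK' = jK'.left ≫ (Red.bc q J').hom from (Over.w jK').symm, ← Category.assoc, h₁]
    exact Over.w p
  obtain ⟨α₁, hα₁, h₁⟩ := hgen _ hP
  have huniq : ∀ c, P c → c = JacBC.ptsEq K cK := fun c hc => by
    obtain ⟨α₂, hα₂, h₂⟩ := hgen c hc
    have h := (S19877.result K (JacBC.CK k K C) hdK (JacBC.CK k K C') hdK' g hgK hgK' hg2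
      _ hσK _ hσK' (Red.bc q J) _ hJK (Red.bc q J') _ hJK' jK hjK jK' hjK' βK α₂ α₁ hα₂ hα₁ _ _ s hs h₂ h₁).2
    exact (JacBC.ptsEq K).symm.injective h
  obtain ⟨c, hc⟩ := JacBC.exists_rat_of_fixed K (JacBC.ptsEq K cK) (fun τ => huniq _ fun x => by
    obtain ⟨x', hx'⟩ := hP (SGA7.specAut τ.symm ≫ x)
    refine ⟨SGA7.specAut τ ≫ x', ?_⟩
    have hid : SGA7.specAut τ ≫ SGA7.specAut τ.symm = 𝟙 (SGA7.pt (K := k) K) := by
      refine Over.OverMorphism.ext ?_
      show Spec.map _ ≫ Spec.map _ = 𝟙 _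
      rw [← Spec.map_comp, ← Spec.map_id]
      congr 1
      ext a
      exact τ.apply_symm_apply a
    rw [Category.assoc (SGA7.specAut τ) x', ← hx', MonObj.comp_mul, ← Category.assoc, ← Category.assoc, hid,
      Category.id_comp])
  haveI := JacBC.isClosedImmersion_shift j β hs c
  let p : Over.mk f ⟶ J' := (j ≫ β.hom) ^ s * (toUnit (Over.mk f) ≫ c)
  haveI : JacobsonSpace C := LocallyOfFiniteType.jacobsonSpace f
  haveI : LocallyOfFiniteType (Over.mk f).hom := inferInstanceAs (LocallyOfFiniteType f)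
  obtain ⟨α₀, h₀⟩ := JacBC.exists_iso_of_range hdim hdim' p.left j'.left (fun z hz => by
    obtain ⟨x, rfl⟩ := JacBC.exists_pts K (Over.mk f) hz
    obtain ⟨x', hx'⟩ := hP x
    have key : x ≫ p = x' ≫ j' := by
      rw [MonObj.comp_mul, comp_toUnit_assoc, hc, hx']
    exact ⟨x'.left.base (IsLocalRing.closedPoint K),
      (congrArg (fun m => m.left.base (IsLocalRing.closedPoint K)) key).symm⟩)
  refine ⟨α₀, ?_⟩
  rw [show C' ↘ Spec (CommRingCat.of k) = j'.left ≫ J'.hom from (Over.w j').symm, ← Category.assoc, h₀]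
  exact Over.w p

end Groth.Agent.S17828
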