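import Groth.Statements.S17843
import Mathlib

set_option autoImplicit false
universe u v
open CAlg

namespace Groth.Agent.S17843

/-- In the case of an affine scheme of finite presentation, let B be a finitely presented R-algebra, r ∈
R, and x : B → R[1/r][T] an R-algebra homomorphism whose value at T = 0, a homomorphism B → R[1/r],
is induced by a homomorphism x̃₀ : B → R. Then for every large enough n, the homomorphism x(rⁿT) : B
→ R[1/r][T] is induced by a homomorphism x̃ : B → R[T] whose value at T = 0 is x̃₀. The published
statement is for algebraic spaces locally of finite presentation over R; this row takes an affine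
scheme of finite presentation. -/
theorem result
    (R : Type u) (B : Type v) [CommRing R] [CommRing B] [Algebra R B]
    [Algebra.FinitePresentation R B] (r : R)
    (x : B →ₐ[R] Polynomial (Localization.Away r))
    (x₀ : B →ₐ[R] R)
    (hx₀ : (algebraMap R (Localization.Away r)).comp x₀.toRingHom =
      (Polynomial.evalRingHom 0).comp x.toRingHom) :
    ∃ N : ℕ, ∀ n : ℕ, N ≤ n →
      ∃ y : B →ₐ[R] Polynomial R,
        (Polynomial.evalRingHom 0).comp y.toRingHom = x₀.toRingHom ∧
        (Polynomial.mapRingHom (algebraMap R (Localization.Away r))).comp y.toRingHom =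
          (Polynomial.aeval (Polynomial.C (algebraMap R (Localization.Away r) (r ^ n)) * Polynomial.X) :
              Polynomial (Localization.Away r) →ₐ[Localization.Away r] Polynomial (Localization.Away r)).toRingHom.comp
            x.toRingHom := by
  classical
  let L := Localization.Away r
  let φ : R →+* L := algebraMap R L
  let σ : R → (Polynomial R →ₐ[R] Polynomial R) := fun c => Polynomial.aeval (Polynomial.C c * Polynomial.X)
  let τ : L → (Polynomial L →ₐ[L] Polynomial L) := fun c => Polynomial.aeval (Polynomial.C c * Polynomial.X)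
  have hστ : ∀ (c : R) (q : Polynomial R), (σ c q).map φ = τ (φ c) (q.map φ) := by
    intro c q
    induction q using Polynomial.induction_on' with
    | add a b ha hb => simp only [map_add, Polynomial.map_add, ha, hb]
    | monomial k a =>
      simp [σ, τ, Polynomial.aeval_monomial, Polynomial.algebraMap_eq]
  have hττ : ∀ (c d : L) (q : Polynomial L), τ c (τ d q) = τ (c * d) q := by
    intro c d q
    induction q using Polynomial.induction_on' with
    | add a b ha hb => simp only [map_add, ha, hb]
    | monomial k a =>
      simp [τ, Polynomial.aeval_monomial, Polynomial.algebraMap_eq, mul_pow, map_mul]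
      ring
  have hσ0 : ∀ (c : R) (q : Polynomial R), (σ c q).eval 0 = q.eval 0 := by
    intro c q
    induction q using Polynomial.induction_on' with
    | add a b ha hb => simp only [map_add, Polynomial.eval_add, ha, hb]
    | monomial k a =>
      cases k <;> simp [σ, Polynomial.aeval_monomial, Polynomial.algebraMap_eq]
  -- step 1: every polynomial with integral constant term lifts after a substitution
  have hlift : ∀ (p : Polynomial L) (a : R), p.eval 0 = φ a →
      ∃ M : ℕ, ∀ N, M ≤ N → ∃ q : Polynomial R, q.eval 0 = a ∧ q.map φ = τ (φ (r ^ N)) p := by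
    intro p a hpa
    obtain ⟨⟨_, M, rfl⟩, hb⟩ := IsLocalization.integerNormalization_map_to_map (Submonoid.powers r) (p.divX)
    refine ⟨M, fun N hN => ?_⟩
    obtain ⟨j, rfl⟩ := Nat.exists_eq_add_of_le' hN
    refine ⟨Polynomial.C a + Polynomial.C (r ^ j) * Polynomial.X *
      σ (r ^ (j + M)) (IsLocalization.integerNormalization (Submonoid.powers r) p.divX), by simp, ?_⟩
    have hp : p = Polynomial.X * p.divX + Polynomial.C (φ a) := by
      rw [← hpa, ← Polynomial.coeff_zero_eq_eval_zero]; exact (Polynomial.X_mul_divX_add p).symm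
    rw [Polynomial.map_add, Polynomial.map_mul, Polynomial.map_mul, Polynomial.map_C, Polynomial.map_C, Polynomial.map_X, hστ]
    rw [show (IsLocalization.integerNormalization (Submonoid.powers r) p.divX).map φ = Polynomial.C (φ (r ^ M)) * p.divX by
      rw [hb, ← Polynomial.smul_eq_C_mul, algebraMap_smul]]
    conv_rhs => rw [hp]
    simp only [τ, map_add, map_mul, Polynomial.aeval_C, Polynomial.aeval_X, pow_add]
    simp only [Polynomial.algebraMap_apply, Algebra.algebraMap_self, RingHom.id_apply]
    ring
  obtain ⟨m, π, hπ, hker⟩ := (inferInstance : Algebra.FinitePresentation R B).out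
  obtain ⟨S, hS⟩ := hker
  choose M hM using fun i : Fin m => hlift (x (π (MvPolynomial.X i))) (x₀ (π (MvPolynomial.X i)))
    (RingHom.congr_fun hx₀ (π (MvPolynomial.X i))).symm
  let N0 := Finset.univ.sup M
  choose q hq0 hq using fun i => hM i N0 (Finset.le_sup (Finset.mem_univ i))
  -- values of relations
  have hF : ∀ f : MvPolynomial (Fin m) R, (MvPolynomial.aeval q f).map φ = τ (φ (r ^ N0)) (x (π f)) := by
    intro f
    induction f using MvPolynomial.induction_on with
    | C c =>
      rw [MvPolynomial.algHom_C, show π (MvPolynomial.C c) = algebraMap R B c from π.commutes c, x.commutes]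
      rw [Polynomial.algebraMap_apply, IsScalarTower.algebraMap_apply R L (Polynomial L)]
      simp [τ, φ, L, Polynomial.algebraMap_eq]
    | add a b ha hb => simp only [map_add, Polynomial.map_add, ha, hb]
    | mul_X a i ha => simp only [map_mul, Polynomial.map_mul, MvPolynomial.aeval_X, ha, hq]
  have hF0 : ∀ f : MvPolynomial (Fin m) R, (MvPolynomial.aeval q f).eval 0 = x₀ (π f) := by
    intro f
    induction f using MvPolynomial.induction_on with
    | C c => rw [MvPolynomial.algHom_C, show π (MvPolynomial.C c) = algebraMap R B c from π.commutes c, x₀.commutes]; simp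
    | add a b ha hb => simp only [map_add, Polynomial.eval_add, ha, hb]
    | mul_X a i ha => simp only [map_mul, Polynomial.eval_mul, MvPolynomial.aeval_X, ha, hq0]
  -- step 2: kill the torsion
  have hkill : ∀ f : MvPolynomial (Fin m) R, π f = 0 → ∃ e : ℕ, ∀ e', e ≤ e' → σ (r ^ e') (MvPolynomial.aeval q f) = 0 := by
    intro f hf
    let P := MvPolynomial.aeval q f
    have h1 : ∀ k, ∃ e : ℕ, r ^ e * P.coeff k = 0 := by
      intro k
      have : φ (P.coeff k) = 0 := by rw [← Polynomial.coeff_map, hF, hf, map_zero, map_zero, Polynomial.coeff_zero]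
      obtain ⟨⟨_, e, rfl⟩, he⟩ := (IsLocalization.map_eq_zero_iff (Submonoid.powers r) L _).1 this
      exact ⟨e, he⟩
    choose e he using h1
    refine ⟨(Finset.range (P.natDegree + 1)).sup e, fun e' he' => ?_⟩
    show σ (r ^ e') P = 0
    rw [P.as_sum_range, map_sum]
    refine Finset.sum_eq_zero fun k hk => ?_
    rcases Nat.eq_zero_or_pos k with rfl | hk0
    · rw [Polynomial.coeff_zero_eq_eval_zero, hF0, hf, map_zero, Polynomial.monomial_zero_right, map_zero]
    · have hek : r ^ (e' * k) * P.coeff k = 0 := by
        obtain ⟨t, ht⟩ := Nat.exists_eq_add_of_le ((Finset.le_sup hk).trans (he'.trans (Nat.le_mul_of_pos_right e' hk0)))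
        rw [ht, pow_add, mul_right_comm, he k, zero_mul]
      simp only [σ, Polynomial.aeval_monomial, Polynomial.algebraMap_eq, mul_pow, ← map_pow, ← pow_mul]
      rw [← mul_assoc, ← map_mul, mul_comm, mul_comm (P.coeff k), hek, map_zero, mul_zero]
  choose! e he using hkill
  let e0 := S.sup e
  refine ⟨N0 + e0, fun n hn => ?_⟩
  obtain ⟨d, rfl⟩ := Nat.exists_eq_add_of_le hn
  let Y : MvPolynomial (Fin m) R →ₐ[R] Polynomial R := (σ (r ^ (e0 + d))).comp (MvPolynomial.aeval q)
  have hY : RingHom.ker π.toRingHom ≤ RingHom.ker Y.toRingHom := by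
    rw [← hS, Submodule.span_le]
    intro f hf
    exact he f (show f ∈ RingHom.ker π.toRingHom from hS ▸ Submodule.subset_span hf) _
      ((Finset.le_sup hf).trans (Nat.le_add_right _ _))
  refine ⟨AlgHom.liftOfSurjective π hπ Y (fun f hf => hY hf), RingHom.ext fun b => ?_, RingHom.ext fun b => ?_⟩
  · obtain ⟨f, rfl⟩ := hπ b
    show Polynomial.eval 0 (AlgHom.liftOfSurjective π hπ Y (fun f hf => hY hf) (π f)) = x₀ (π f)
    rw [AlgHom.liftOfSurjective_apply]
    exact (hσ0 _ _).trans (hF0 f)
  · obtain ⟨f, rfl⟩ := hπ b
    show (AlgHom.liftOfSurjective π hπ Y (fun f hf => hY hf) (π f)).map φ = τ (φ (r ^ (N0 + e0 + d))) (x (π f))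
    rw [AlgHom.liftOfSurjective_apply]
    show (σ (r ^ (e0 + d)) (MvPolynomial.aeval q f)).map φ = _
    rw [hστ, hF, hττ, ← map_mul, ← pow_add]
    congr 3
    ring

end Groth.Agent.S17843
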