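import Groth.Statements.S17844
import Groth.Agent.QuillenLib.AffineSetup
import Groth.Agent.QuillenLib.Transport

set_option autoImplicit false
open CategoryTheory CategoryTheory.Limits MonoidalCategory CartesianMonoidalCategory MonObj GrpObj AlgebraicGeometry
universe u
open NonAbH1
open Groth.Agent.QuillenLib

set_option backward.isDefEq.respectTransparency false
set_option backward.isDefEq.respectTransparency.types false

namespace Groth.Agent.S17844

/-- For torsors under a group scheme locally of finite presentation, let S be an affine scheme, G an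
S-group scheme locally of finite presentation and X an fppf torsor over the affine space 𝔸ⁿ_S (n
finite) under the base change of G. Suppose that Zariski locally on S the torsor X descends: every
point of S has an open neighbourhood U ↪ S and a torsor P under G_U over U whose base change to 𝔸ⁿ_U
is equivariantly isomorphic to the restriction of X (both regarded as actions of the base change of
G along 𝔸ⁿ_U → S through the canonical identifications of iterated base changes). Then X is
equivariantly isomorphic to the base change of a G-torsor over S. The published statement also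
allows more general group functors and graded algebras in place of the polynomial algebra;
affineness of S cannot be dropped. -/
theorem result
    (S : Scheme.{u}) [IsAffine S] (n : Type u) [Finite n]
    (G : Over S) [GrpObj G] [LocallyOfFinitePresentation G.hom]
    (X : NonAbH1.TorsorSch (Red.bc (𝔸(n; S) ↘ S) G) Scheme.fppfPrecoverage)
    (hloc : ∀ s : S, ∃ (U : Scheme.{u}) (j : U ⟶ S) (_ : IsOpenImmersion j), s ∈ Set.range j.base ∧
      ∃ P : NonAbH1.TorsorSch (Red.bc j G) Scheme.fppfPrecoverage,
        Nonempty (NonAbH1.EquivIso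
          ((P.act.bc (pullback.snd (𝔸(n; S) ↘ S) j)).restrict
            (ActBC.bcCompIso (pullback.snd (𝔸(n; S) ↘ S) j) j G rfl).inv)
          ((X.act.bc (pullback.fst (𝔸(n; S) ↘ S) j)).restrict
            (ActBC.bcCompIso (pullback.fst (𝔸(n; S) ↘ S) j) (𝔸(n; S) ↘ S) G pullback.condition).inv))) :
    ∃ P : NonAbH1.TorsorSch G Scheme.fppfPrecoverage,
      Nonempty (NonAbH1.EquivIso (P.act.bc (𝔸(n; S) ↘ S)) X.act) := by
  let e := S.isoSpec
  let R : Type u := Γ(S, ⊤)
  let a : 𝔸(n; S) ⟶ S := 𝔸(n; S) ↘ S
  let a' : 𝔸(n; S) ⟶ Spec (CommRingCat.of R) := a ≫ e.hom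
  let xI : O R (MvPolynomial n R) ≅ Over.mk a' :=
    Over.isoMk (AffineSpace.isoOfIsAffine n S).symm (by
      show (AffineSpace.isoOfIsAffine n S).inv ≫ a ≫ e.hom = _
      rw [← Category.assoc, AffineSpace.isoOfIsAffine_inv_over, Category.assoc]
      exact (congrArg (_ ≫ ·) S.isoSpec.inv_hom_id).trans (Category.comp_id _))
  let G' : Over (Spec (CommRingCat.of R)) := Red.bc e.inv G
  haveI : LocallyOfFinitePresentation G'.hom :=
    inferInstanceAs (LocallyOfFinitePresentation (pullback.snd G.hom e.inv))
  let X' : NonAbH1.TorsorSch (Red.bc a' G') Scheme.fppfPrecoverage :=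
    ⟨X.X, X.act.restrict (phi e a).hom, isTorsorFor_restrict X.isTorsor _⟩
  let B := bunX a' X'
  let z := zsec R n xI
  obtain ⟨I, hI⟩ := exists_desc_ideal xI X'
  -- locally on the base the ideal contains a unit
  have hmem : ∀ P : PrimeSpectrum R, ∃ r ∈ I, r ∉ P.asIdeal := by
    intro P
    obtain ⟨U, j, _, hs, P₀, ⟨eP⟩⟩ := hloc (e.inv P)
    haveI : IsOpenImmersion (j ≫ e.hom) := inferInstance
    obtain ⟨_, ⟨r, rfl⟩, hr, hrU⟩ := PrimeSpectrum.isTopologicalBasis_basic_opens.exists_subset_of_mem_open
      (show P ∈ Set.range (j ≫ e.hom : U ⟶ Spec (CommRingCat.of R)) from by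
        obtain ⟨w, hw⟩ := hs
        exact ⟨w, show e.hom (j w) = P by
          rw [hw, ← Scheme.Hom.comp_apply, e.inv_hom_id]; rfl⟩) (j ≫ e.hom).isOpenEmbedding.isOpen_range
    refine ⟨r, (hI r).mpr ?_, hr⟩
    obtain ⟨eP'⟩ := equivIso_transport e j a (pullback.snd a j) (pullback.fst a j) rfl pullback.condition
      P₀.act X.act eP
    have hz : (toUnit (Over.mk (j ≫ e.hom)) ≫ z).left ≫ a = 𝟙 U ≫ j := by
      rw [← cancel_mono e.hom, Category.assoc, Category.id_comp]
      exact Over.w (toUnit (Over.mk (j ≫ e.hom)) ≫ z)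
    obtain ⟨θ⟩ := tiso_of_equivIso a' X' z (j ≫ e.hom) (pullback.snd a j) (pullback.fst a j) _ _
      (pullback.lift _ _ hz) (pullback.lift_snd _ _ _) (pullback.lift_fst _ _ _)
      ⟨_, _, isTorsorFor_restrict P₀.isTorsor (phi e j).hom⟩ eP'
    let q := Spec.map (CommRingCat.ofHom (algebraMap R (Localization.Away r)))
    let ψ : Spec (CommRingCat.of (Localization.Away r)) ⟶ U := IsOpenImmersion.lift (j ≫ e.hom) q (by
      have h : Set.range q = (PrimeSpectrum.basicOpen r : Set (PrimeSpectrum R)) := range_O_away r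
      intro y hy
      exact hrU (h.subset hy))
    have hψ : ψ ≫ j ≫ e.hom = q := IsOpenImmersion.lift_fac _ _ _
    let m : Over.mk (pullback.snd a' q ≫ q) ⟶ Over.mk ((pullback.snd a j ≫ j) ≫ e.hom) :=
      Over.homMk (pullback.lift (pullback.fst a' q) (pullback.snd a' q ≫ ψ) (by
        rw [← cancel_mono e.hom]
        simp only [Category.assoc, hψ]
        exact pullback.condition)) (by
          show _ ≫ (pullback.snd a j ≫ j) ≫ e.hom = _
          refine ((congrArg (_ ≫ ·) (Category.assoc _ _ _)).trans (pullback.lift_snd_assoc _ _ _ _)).trans ?_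
          exact (Category.assoc _ _ _).trans (congrArg (pullback.snd a' q ≫ ·) hψ))
    exact ⟨θ.res m _ _ (Over.OverMorphism.ext (pullback.lift_fst _ _ _)) (comp_toUnit_z m)⟩
  have h1 : (1 : R) ∈ I := by
    rw [← Ideal.eq_top_iff_one]
    by_contra hne
    obtain ⟨M, hM, hIM⟩ := Ideal.exists_le_maximal I hne
    obtain ⟨r, hrI, hrM⟩ := hmem ⟨M, hM.isPrime⟩
    exact hrM (hIM hrI)
  obtain ⟨θ⟩ := (hI 1).mp h1
  obtain ⟨ψ⟩ := exists_awayHom (1 : R) R (by rw [map_one]; exact isUnit_one)
  let q := Spec.map (CommRingCat.ofHom (algebraMap R (Localization.Away (1 : R))))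
  have hq : Spec.map (CommRingCat.ofHom ψ.toRingHom) ≫ q = 𝟙 _ := by
    rw [← Spec.map_comp, ← CommRingCat.ofHom_comp, show ψ.toRingHom.comp (algebraMap R _) = RingHom.id R from
      ψ.comp_algebraMap, CommRingCat.ofHom_id, Spec.map_id]
  let m : Over.mk a' ⟶ Over.mk (pullback.snd a' q ≫ q) :=
    Over.homMk (pullback.lift (𝟙 _) (a' ≫ Spec.map (CommRingCat.ofHom ψ.toRingHom)) (by
      rw [Category.id_comp, Category.assoc, hq, Category.comp_id])) (by
        show _ ≫ pullback.snd a' q ≫ q = a'
        rw [pullback.lift_snd_assoc, Category.assoc, hq, Category.comp_id])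
  obtain ⟨P', ⟨eP'⟩⟩ := equivIso_of_tiso a' X' z e.hom a (𝟙 _) (rfl : a ≫ e.hom = a') (Category.id_comp _)
    (θ.res m _ _ (Over.OverMorphism.ext (pullback.lift_fst _ _ _)) (comp_toUnit_z m))
  exact exists_back e a X.act P' eP'

end Groth.Agent.S17844
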