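import Groth.Statements.S17851
import Groth.Agent.QuillenLib.Line
import Groth.Agent.QuillenLib.FibreBun

set_option autoImplicit false
open CategoryTheory CategoryTheory.Limits MonoidalCategory CartesianMonoidalCategory MonObj GrpObj AlgebraicGeometry
universe u
open NonAbH1
open Groth.Agent.QuillenLib

set_option backward.isDefEq.respectTransparency false
set_option backward.isDefEq.respectTransparency.types false

namespace Groth.Agent.S17851

/-- Let R be a ring and G an R-group scheme locally of finite presentation. Call an fppf torsor over the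
affine line Spec A[t] (under the base change of the group) trivial away from an A-finite closed
subscheme when it has a section over the open complement of V(I) for some ideal I of A[t] with
A[t]/I a finite A-module. If for every maximal ideal m of R every torsor under the base change of G
over Spec R_m[t] which is trivial away from an R_m-finite closed subscheme is trivial, then every
torsor under the base change of G over Spec R[t] which is trivial away from an R-finite closed
subscheme is trivial. The published statement also allows more general group functors. -/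
theorem result
    (R : Type u) [CommRing R]
    (G : Over (Spec (CommRingCat.of R))) [GrpObj G] [LocallyOfFinitePresentation G.hom]
    (hloc : ∀ (m : Ideal R) [m.IsMaximal]
      (Y : NonAbH1.TorsorSch (Red.bc (Spec.map (CommRingCat.ofHom (algebraMap (Localization.AtPrime m) (Polynomial (Localization.AtPrime m))))) (Red.bc (Spec.map (CommRingCat.ofHom (algebraMap R (Localization.AtPrime m)))) G)) Scheme.fppfPrecoverage),
      (∃ I : Ideal (Polynomial (Localization.AtPrime m)), Module.Finite (Localization.AtPrime m) (Polynomial (Localization.AtPrime m) ⧸ I) ∧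
        NonAbH1.HasSectionOver Y.X (Scheme.Opens.ι
          (⟨(PrimeSpectrum.zeroLocus (I : Set (Polynomial (Localization.AtPrime m))))ᶜ,
            (PrimeSpectrum.isClosed_zeroLocus _).isOpen_compl⟩ : (Spec (CommRingCat.of (Polynomial (Localization.AtPrime m)))).Opens))) →
      NonAbH1.HasSectionOver Y.X (𝟙 (Spec (CommRingCat.of (Polynomial (Localization.AtPrime m))))))
    (X : NonAbH1.TorsorSch (Red.bc (Spec.map (CommRingCat.ofHom (algebraMap R (Polynomial R)))) G) Scheme.fppfPrecoverage)
    (I : Ideal (Polynomial R)) (hI : Module.Finite R (Polynomial R ⧸ I))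
    (hX : NonAbH1.HasSectionOver X.X (Scheme.Opens.ι
      (⟨(PrimeSpectrum.zeroLocus (I : Set (Polynomial R)))ᶜ,
        (PrimeSpectrum.isClosed_zeroLocus _).isOpen_compl⟩ : (Spec (CommRingCat.of (Polynomial R))).Opens))) :
    NonAbH1.HasSectionOver X.X (𝟙 (Spec (CommRingCat.of (Polynomial R)))) := by
  have hl : HLoc G := fun m _ Z h => hloc m Z h
  let B := bunX (aL R) X
  let z := zL R
  -- a monic equation of the exceptional set
  obtain ⟨f, hf, hfI⟩ : ∃ f : Polynomial R, f.Monic ∧ f ∈ I := by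
    haveI := hI
    obtain ⟨p, hp, hpe⟩ := Algebra.IsIntegral.isIntegral (R := R) (Ideal.Quotient.mk I Polynomial.X)
    refine ⟨p, hp, Ideal.Quotient.eq_zero_iff_mem.mp ?_⟩
    rw [← hpe, ← Polynomial.aeval_def, ← Ideal.Quotient.mkₐ_eq_mk R, Polynomial.aeval_algHom_apply,
      Polynomial.aeval_X_left_apply]
  -- the section off the exceptional set
  have hσX : Sec X (IsScalarTower.toAlgHom R (Polynomial R) (Localization.Away f)) := by
    obtain ⟨s, hs⟩ := hX
    let U : (Spec (CommRingCat.of (Polynomial R))).Opens :=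
      ⟨(PrimeSpectrum.zeroLocus (I : Set (Polynomial R)))ᶜ, (PrimeSpectrum.isClosed_zeroLocus _).isOpen_compl⟩
    let q := Spec.map (CommRingCat.ofHom (algebraMap (Polynomial R) (Localization.Away f)))
    let l := IsOpenImmersion.lift U.ι q (by
      rw [Scheme.Opens.range_ι]
      intro p hp
      have hp' : p ∈ (PrimeSpectrum.basicOpen f : Set (PrimeSpectrum (Polynomial R))) := by
        rw [← PrimeSpectrum.localization_away_comap_range (Localization.Away f) f]
        exact hp
      exact fun hz => hp' (hz hfI))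
    have hl' : l ≫ U.ι = q := IsOpenImmersion.lift_fac _ _ _
    have hls : (l ≫ s) ≫ X.X.hom = q := by
      rw [Category.assoc]
      exact (congrArg (l ≫ ·) hs).trans hl'
    refine ⟨Over.homMk (l ≫ s) ?_, Over.OverMorphism.ext hls⟩
    show _ ≫ X.X.hom ≫ aL R = _
    rw [← Category.assoc, hls]
    exact Over.w (om (IsScalarTower.toAlgHom R (Polynomial R) (Localization.Away f)))
  -- the torsor is constant
  have hXm : ∀ (m : Ideal R) [m.IsMaximal], Sec X (locMap m) := by
    intro m _
    refine sec_of_hloc X hl m (f.map (algebraMap R (Localization.AtPrime m))) (hf.map _) ?_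
    exact hσX.away X _ (isUnit_locMap m f)
  obtain ⟨θ⟩ := exists_tiso_of_secs X hXm
  -- the fibre at zero
  let P := fibBun (aL R) X z
  let L₁ := Localization.Away (Polynomial.X : Polynomial R)
  let L₂ := Localization.Away f.reverse
  let L₁₂ := Localization.Away ((Polynomial.X : Polynomial R) * f.reverse)
  let φ₁ : Polynomial R →ₐ[R] L₁ := IsScalarTower.toAlgHom R _ _
  let φ₂ : Polynomial R →ₐ[R] L₂ := IsScalarTower.toAlgHom R _ _
  let φ₁₂ : Polynomial R →ₐ[R] L₁₂ := IsScalarTower.toAlgHom R _ _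
  have hu12 : IsUnit (φ₁₂ Polynomial.X) ∧ IsUnit (φ₁₂ f.reverse) := by
    have h := IsLocalization.Away.algebraMap_isUnit (S := L₁₂) ((Polynomial.X : Polynomial R) * f.reverse)
    rw [map_mul] at h
    exact ⟨isUnit_of_mul_isUnit_left h, isUnit_of_mul_isUnit_right h⟩
  obtain ⟨ψ₁, hψ₁⟩ := exists_liftAway (Polynomial.X : Polynomial R) φ₁₂ hu12.1
  obtain ⟨ψ₂, hψ₂⟩ := exists_liftAway f.reverse φ₁₂ hu12.2
  -- the inverse of the coordinate
  let t : L₁₂ := ((hu12.1.unit⁻¹ : L₁₂ˣ) : L₁₂)
  have hft : IsUnit (Polynomial.aeval (R := R) t f) := by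
    let x : L₁₂ := φ₁₂ Polynomial.X
    letI : Invertible t := ⟨x, hu12.1.mul_val_inv, hu12.1.val_inv_mul⟩
    rw [Polynomial.aeval_def, ← Polynomial.eval₂_reverse_mul_pow]
    refine IsUnit.mul ?_ ((hu12.1.unit⁻¹).isUnit.pow _)
    show IsUnit (Polynomial.aeval x f.reverse)
    rw [Polynomial.aeval_algHom_apply, Polynomial.aeval_X_left_apply]
    exact hu12.2
  obtain ⟨ρ, -⟩ := exists_liftAway f (Polynomial.aeval (R := R) t) hft
  obtain ⟨sX, hsX⟩ := hσX
  have hρ : (om ρ ≫ sX) ≫ B.p = (om ρ ≫ om (IsScalarTower.toAlgHom R (Polynomial R) (Localization.Away f))) ≫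
      𝟙 (Over.mk (aL R)) := by
    rw [Category.comp_id, Category.assoc, hsX]
  obtain ⟨σ, -⟩ := exists_down (aL R) X z (θ.hom.app _ (om ρ ≫ sX) hρ)
    ((θ.hom.mem _ _ hρ).trans (by rw [← Category.assoc, toUnit_unique (_ ≫ toUnit _) (toUnit _)]))
  have hopen : ∀ (h : Polynomial R), IsOpenImmersion (om (IsScalarTower.toAlgHom R (Polynomial R) (Localization.Away h))).left :=
    fun h => inferInstanceAs (IsOpenImmersion (Spec.map (CommRingCat.ofHom (algebraMap (Polynomial R) (Localization.Away h)))))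
  haveI := hopen Polynomial.X
  haveI := hopen f.reverse
  haveI := hopen ((Polynomial.X : Polynomial R) * f.reverse)
  have hcomm : om ψ₁ ≫ om φ₁ = om ψ₂ ≫ om φ₂ := by rw [← om_comp, ← om_comp, hψ₁, hψ₂]
  have hrange : ∀ h : Polynomial R,
      Set.range (om (IsScalarTower.toAlgHom R (Polynomial R) (Localization.Away h))).left =
        (PrimeSpectrum.basicOpen h : Set (PrimeSpectrum (Polynomial R))) :=
    fun h => PrimeSpectrum.localization_away_comap_range (Localization.Away h) h
  have hopj₁ : IsOpenImmersion (om ψ₁).left := by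
    haveI : IsOpenImmersion ((om ψ₁).left ≫ (om φ₁).left) := by
      rw [← Over.comp_left, ← om_comp, hψ₁]; infer_instance
    exact IsOpenImmersion.of_comp _ (om φ₁).left
  have hopj₂ : IsOpenImmersion (om ψ₂).left := by
    haveI : IsOpenImmersion ((om ψ₂).left ≫ (om φ₂).left) := by
      rw [← Over.comp_left, ← om_comp, hψ₂]; infer_instance
    exact IsOpenImmersion.of_comp _ (om φ₂).left
  haveI : Mono (om φ₁) := Over.mono_of_mono_left _
  haveI : Mono (om φ₂) := Over.mono_of_mono_left _
  let D : GlueData2 G :=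
    { P := P
      C := O R (Polynomial R), C₁ := O R L₁, C₂ := O R L₂, C₁₂ := O R L₁₂
      c₁ := om φ₁, c₂ := om φ₂, j₁ := om ψ₁, j₂ := om ψ₂
      open₁ := hopen _, open₂ := hopen _, openj₁ := hopj₁, openj₂ := hopj₂
      comm := hcomm
      cov := fun p => by
        let P' : PrimeSpectrum (Polynomial R) := p
        rw [hrange, hrange]
        show P' ∈ PrimeSpectrum.basicOpen (Polynomial.X : Polynomial R) ∨ P' ∈ PrimeSpectrum.basicOpen f.reverse
        rw [PrimeSpectrum.mem_basicOpen, PrimeSpectrum.mem_basicOpen]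
        by_contra hh
        rw [not_or, not_not, not_not] at hh
        refine P'.isPrime.ne_top ((Ideal.eq_top_iff_one _).mpr ?_)
        have e := Polynomial.X_mul_divX_add f.reverse
        rw [Polynomial.coeff_zero_reverse, hf.leadingCoeff, map_one] at e
        have h1 := P'.asIdeal.sub_mem hh.2 (P'.asIdeal.mul_mem_right f.reverse.divX hh.1)
        rwa [sub_eq_of_eq_add' e.symm] at h1
      factor := fun W b₁ b₂ hb => by
        have hr : Set.range (b₁ ≫ om φ₁).left ⊆ Set.range (om φ₁₂).left := by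
          rintro _ ⟨w, rfl⟩
          rw [hrange]
          have h1 : (b₁ ≫ om φ₁).left w ∈ Set.range (om φ₁).left := ⟨b₁.left w, rfl⟩
          have h2 : (b₁ ≫ om φ₁).left w ∈ Set.range (om φ₂).left := by
            rw [hb]; exact ⟨b₂.left w, rfl⟩
          rw [hrange] at h1 h2
          rw [PrimeSpectrum.basicOpen_mul]
          exact ⟨h1, h2⟩
        let r : W ⟶ O R L₁₂ := Over.homMk (IsOpenImmersion.lift (om φ₁₂).left (b₁ ≫ om φ₁).left hr) (by
          rw [← Over.w (om φ₁₂), IsOpenImmersion.lift_fac_assoc]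
          exact Over.w (b₁ ≫ om φ₁))
        have hr' : r ≫ om φ₁₂ = b₁ ≫ om φ₁ := Over.OverMorphism.ext (IsOpenImmersion.lift_fac _ _ _)
        refine ⟨r, (cancel_mono (om φ₁)).1 ?_, (cancel_mono (om φ₂)).1 ?_⟩
        · rw [Category.assoc, ← om_comp, hψ₁, hr']
        · rw [Category.assoc, ← om_comp, hψ₂, hr', hb]
      σ := σ }
  let BY : Bun G (Over.mk (aL R)) := D.bun
  -- the glued torsor
  obtain ⟨R₀, hR₀, hsec₀⟩ := fib_locTriv (aL R) X z
  obtain ⟨J, U, u', rfl⟩ := R₀.exists_eq_ofArrows
  choose sec hsec using fun i => hsec₀ (u' i) (.mk i)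
  have hYtriv : IsLocallyTrivialFor Scheme.fppfPrecoverage (upX (aL R) BY) := by
    let V : Option J → Scheme.{u} := fun k => match k with
      | some i => Limits.pullback (O R L₁).hom (u' i)
      | none => (O R L₂).left
    let v : ∀ k, V k ⟶ Spec (CommRingCat.of (Polynomial R)) := fun k => match k with
      | some i => Limits.pullback.fst (O R L₁).hom (u' i) ≫ (om φ₁).left
      | none => (om φ₂).left
    obtain ⟨hj, hp⟩ := (Scheme.ofArrows_mem_precoverage_iff (P := @Flat ⊓ @LocallyOfFinitePresentation)).1 hR₀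
    refine ⟨Presieve.ofArrows V v,
      (Scheme.ofArrows_mem_precoverage_iff (P := @Flat ⊓ @LocallyOfFinitePresentation)).2 ⟨fun x => ?_, fun k => ?_⟩, ?_⟩
    · rcases D.cov x with ⟨y, hy⟩ | ⟨y, hy⟩
      · obtain ⟨i, w, hw⟩ := hj ((O R L₁).hom y)
        obtain ⟨m, hm, -⟩ := Scheme.Pullback.exists_preimage_pullback (f := (O R L₁).hom) (g := u' i) y w hw.symm
        refine ⟨some i, m, ?_⟩
        show (Limits.pullback.fst (O R L₁).hom (u' i) ≫ (om φ₁).left) m = x
        rw [Scheme.Hom.comp_apply, hm]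
        exact hy
      · exact ⟨none, y, hy⟩
    · match k with
      | some i =>
        obtain ⟨h1, h2⟩ := hp i
        haveI : Flat (u' i) := h1
        haveI : LocallyOfFinitePresentation (u' i) := h2
        exact ⟨inferInstanceAs (Flat (Limits.pullback.fst (O R L₁).hom (u' i) ≫ (om φ₁).left)),
          inferInstanceAs (LocallyOfFinitePresentation (Limits.pullback.fst (O R L₁).hom (u' i) ≫ (om φ₁).left))⟩
      | none =>
        exact ⟨inferInstanceAs (Flat (om φ₂).left), inferInstanceAs (LocallyOfFinitePresentation (om φ₂).left)⟩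
    · rintro S' g ⟨k⟩
      match k with
      | some i =>
        let W : Over (Spec (CommRingCat.of R)) := Over.mk (Limits.pullback.fst (O R L₁).hom (u' i) ≫ (O R L₁).hom)
        let π : W ⟶ D.P.X := Over.homMk (Limits.pullback.snd (O R L₁).hom (u' i) ≫ sec i) (by
          show _ ≫ pullback.snd X.X.hom z.left ≫ 𝟙 _ = _
          rw [Category.comp_id, Category.assoc]
          exact (congrArg (_ ≫ ·) (hsec i)).trans Limits.pullback.condition.symm)
        let b : W ⟶ D.C₁ := Over.homMk (Limits.pullback.fst (O R L₁).hom (u' i)) rfl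
        refine ⟨(lift π b ≫ D.ι₁).left, ?_⟩
        show (lift π b ≫ D.ι₁).left ≫ D.pY.left = _
        rw [← Over.comp_left, Category.assoc, D.i1_pY, lift_snd_assoc]
        rfl
      | none =>
        refine ⟨(lift 1 (𝟙 D.C₂) ≫ D.ι₂).left, ?_⟩
        show (lift 1 (𝟙 D.C₂) ≫ D.ι₂).left ≫ D.pY.left = _
        rw [← Over.comp_left, Category.assoc, D.i2_pY, lift_snd_assoc, Category.id_comp]
  let Y : TorsorSch (Red.bc (aL R) G) Scheme.fppfPrecoverage :=
    ⟨upX (aL R) BY, upAction (aL R) BY, isPseudoTorsorSch_upAction (aL R) BY, hYtriv⟩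
  have up : ∀ {W : Over (Spec (CommRingCat.of R))} (ζ : W ⟶ D.Y),
      ∃ ζ' : W ⟶ (bunX (aL R) Y).X, ζ'.left = ζ.left ∧ (ζ' ≫ (bunX (aL R) Y).p).left = (ζ ≫ D.pY).left := fun {W} ζ =>
    ⟨Over.homMk ζ.left (by
      show ζ.left ≫ D.pY.left ≫ aL R = W.hom
      rw [← Category.assoc]
      exact Over.w (ζ ≫ D.pY)), rfl, rfl⟩
  have hYm : ∀ (m : Ideal R) [m.IsMaximal], Sec Y (locMap m) := by
    intro m _
    refine sec_of_hloc Y hl m Polynomial.X Polynomial.monic_X ?_
    let L := Localization.AtPrime m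
    obtain ⟨s, hs⟩ := (hXm m).map X (ev0 R L) (χ := (Algebra.ofId R L).comp (ev0 R R)) (ev0_comp_map _)
    obtain ⟨π, -⟩ := exists_down (aL R) X z s (by
      rw [hs, om_comp, ← toUnit_zL, ← Category.assoc, toUnit_unique (_ ≫ toUnit _) (toUnit _)])
    let χ : Polynomial R →ₐ[R] Localization.Away (Polynomial.X : Polynomial L) :=
      (IsScalarTower.toAlgHom R (Polynomial L) _).comp (locMap m)
    obtain ⟨ψb, hψb⟩ := exists_liftAway (Polynomial.X : Polynomial R) χ (by
      show IsUnit (algebraMap (Polynomial L) _ (Polynomial.map _ Polynomial.X))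
      rw [Polynomial.map_X]
      exact IsLocalization.Away.algebraMap_isUnit _)
    let b : O R (Localization.Away (Polynomial.X : Polynomial L)) ⟶ O R L₁ := om ψb
    let i : O R (Localization.Away (Polynomial.X : Polynomial L)) ⟶ O R L :=
      om (IsScalarTower.toAlgHom R L (Localization.Away (Polynomial.X : Polynomial L)))
    obtain ⟨ζ', -, hζ'⟩ := up (lift (i ≫ π) b ≫ D.ι₁)
    refine ⟨ζ', Over.OverMorphism.ext (hζ'.trans (congrArg CommaMorphism.left ?_))⟩
    show (lift (i ≫ π) b ≫ D.ι₁) ≫ D.pY = om χ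
    rw [Category.assoc, D.i1_pY, lift_snd_assoc]
    show om ψb ≫ om φ₁ = _
    rw [← om_comp, hψb]
  obtain ⟨θY⟩ := exists_tiso_of_secs Y hYm
  -- a global section of the glued torsor
  obtain ⟨ψ₀, hψ₀⟩ := exists_liftAway f.reverse (ev0 R R) (by
    rw [show ev0 R R f.reverse = f.reverse.coeff 0 from (Polynomial.coeff_zero_eq_aeval_zero _).symm,
      Polynomial.coeff_zero_reverse, hf.leadingCoeff]
    exact isUnit_one)
  obtain ⟨ζ₀, -, hζ₀⟩ := up (lift 1 (om ψ₀) ≫ D.ι₂)
  let AA : Over (Spec (CommRingCat.of R)) := Over.mk (aL R)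
  have hζ₀' : ζ₀ ≫ (bunX (aL R) Y).p = toUnit (O R R) ≫ zL R := by
    rw [toUnit_zL]
    refine Over.OverMorphism.ext (hζ₀.trans (congrArg CommaMorphism.left ?_))
    show (lift 1 (om ψ₀) ≫ D.ι₂) ≫ D.pY = om (ev0 R R)
    rw [Category.assoc, D.i2_pY, lift_snd_assoc]
    show om ψ₀ ≫ om φ₂ = _
    rw [← om_comp, hψ₀]
  let c₀ : AA ⟶ O R R := om (Algebra.ofId R (Polynomial R))
  have hc₀ : (c₀ ≫ ζ₀) ≫ (bunX (aL R) Y).p = 𝟙 AA ≫ toUnit AA ≫ zL R := by
    rw [Category.assoc, hζ₀', ← Category.assoc, Category.id_comp, toUnit_unique (c₀ ≫ toUnit _) (toUnit _)]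
  let sY := θY.inv.app (𝟙 AA) (c₀ ≫ ζ₀) hc₀
  have hsY : sY ≫ (bunX (aL R) Y).p = 𝟙 AA ≫ 𝟙 AA := θY.inv.mem _ _ hc₀
  -- its value at one is a point of the fibre
  let ev1 : Polynomial R →ₐ[R] R := Polynomial.aeval (1 : R)
  obtain ⟨ψ₄, hψ₄⟩ := exists_liftAway (Polynomial.X : Polynomial R) ev1 (by simp [ev1])
  let ζ₁ : O R R ⟶ D.Y := Over.homMk (om ev1 ≫ sY).left (by
    have h := Over.w (om ev1 ≫ sY)
    have e : (bunX (aL R) Y).X.hom = D.Y.hom := Over.w D.pY
    rw [← e]
    exact h)
  obtain ⟨π₁, -⟩ := D.exists_on₁ ζ₁ (om ψ₄) (by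
    refine Over.OverMorphism.ext ?_
    have h := congrArg CommaMorphism.left (congrArg (om ev1 ≫ ·) hsY)
    show ζ₁.left ≫ D.pY.left = (om ψ₄ ≫ om φ₁).left
    rw [← om_comp, hψ₄]
    refine Eq.trans ?_ (h.trans ?_)
    · exact Category.assoc _ _ _
    · simp only [Category.comp_id]
      exact Category.comp_id _)
  -- hence a section of the torsor
  let s₀ := down (aL R) X z π₁
  have hs₀ : (c₀ ≫ s₀) ≫ B.p = 𝟙 AA ≫ toUnit AA ≫ zL R := by
    rw [Category.assoc, down_p, ← Category.assoc, Category.id_comp, toUnit_unique (c₀ ≫ toUnit _) (toUnit _)]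
  refine ⟨(θ.inv.app (𝟙 AA) (c₀ ≫ s₀) hs₀).left, ?_⟩
  exact (congrArg CommaMorphism.left (θ.inv.mem _ _ hs₀)).trans (Category.id_comp _)

end Groth.Agent.S17851
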