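import Groth.Statements.S17870
import Groth.Agent.NisGlob.Main

set_option autoImplicit false
open CategoryTheory
universe u
attribute [local instance] HasDerivedCategory.standard
open Algz

namespace Groth.Agent.S17870

open CategoryTheory CategoryTheory.Limits AlgebraicGeometry
attribute [local instance] HasDerivedCategory.standard
set_option linter.style.haveILetI false


/-- There is a function `F : ℕ → ℕ`, independent of the ring, such that for every commutative ring `R`
and every perfect complex over `R`, given as a bounded complex `E` of finitely generated projective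
modules: if `E` locally has size at most `N` (after base change to some Nisnevich cover `Spec B ⟶
Spec R` of length at most `N` it becomes isomorphic in `D(B)` to a complex vanishing outside `[-N,
N]` whose terms are projective quotients of `B^N`), then it globally has size at most `F N` (it is
isomorphic in `D(R)` to such a complex over `R` with bound `F N`). -/
theorem result :
    ∃ F : ℕ → ℕ, ∀ (R : Type u) [CommRing R] (E : DRing.Cx R) (a b : ℤ),
      DRing.VanishesOutside E a b → DRing.TermwiseFiniteProjective E →
      ∀ N : ℕ, W4c5algebraiztannaka.LocSize E N → W4c5algebraiztannaka.GlobSize R (DRing.toD E) (F N) := by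
  refine ⟨fun N => max N (Groth.Agent.NisGlob.bound N N (2 * N + 2)), ?_⟩
  intro R _ E a b hab hE N hloc
  obtain ⟨B, _, φ, hNis, P, ⟨hP, hPp⟩, ⟨e⟩⟩ := hloc
  letI := HasDerivedCategory.standard (ModuleCat.{u} B)
  letI := φ.toAlgebra
  have hch := Groth.Agent.NisCov7.chain_of_flag hNis
  haveI : AlgebraicGeometry.Flat (AlgebraicGeometry.Spec.map (CommRingCat.ofHom φ)) := by
    haveI := hNis.etale
    infer_instance
  have hfl : φ.Flat :=
    (HasRingHomProperty.Spec_iff (P := @AlgebraicGeometry.Flat) (φ := CommRingCat.ofHom φ)).1 inferInstance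
  haveI : Module.Flat R B := hfl
  have hsurj : Function.Surjective (PrimeSpectrum.comap φ) := by
    have key : ∀ (n : ℕ) (C : Set (AlgebraicGeometry.Spec (CommRingCat.of R))),
        Groth.Agent.NisCov7.Chain (AlgebraicGeometry.Spec.map (CommRingCat.ofHom φ)) n C →
        ∀ y ∈ C, ∃ x, AlgebraicGeometry.Spec.map (CommRingCat.ofHom φ) x = y := by
      intro n
      induction n with
      | zero => intro C h y hy; rw [show C = ∅ from h] at hy; exact hy.elim
      | succ n ih =>
        rintro C ⟨C', h', -, -, -, T, i, s, -, hr, hs⟩ y hy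
        by_cases hyC : y ∈ C'
        · exact ih C' h' y hyC
        · obtain ⟨t, rfl⟩ : y ∈ Set.range (fun t : T => i t) := hr ▸ ⟨hy, hyC⟩
          exact ⟨s t, by rw [← hs]; rfl⟩
    intro y
    obtain ⟨x, hx⟩ := key N _ hch y trivial
    exact ⟨x, hx⟩
  haveI : Module.FaithfullyFlat R B := Module.FaithfullyFlat.of_comap_surjective hsurj
  have hz : ∀ M : ModuleCat.{u} R, IsZero ((ModuleCat.extendScalars.{u, u, u} φ).obj M) → IsZero M := by
    intro M h
    haveI : Subsingleton (TensorProduct R B M) := ModuleCat.subsingleton_of_isZero h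
    haveI := (Module.FaithfullyFlat.subsingleton_tensorProduct_iff_right R B (N := M)).1 inferInstance
    exact ModuleCat.isZero_of_subsingleton M
  have hflat : ∀ M : ModuleCat.{u} R, Module.FinitePresentation R M →
      Module.Projective B ((ModuleCat.extendScalars.{u, u, u} φ).obj M) → Module.Projective R M := by
    intro M _ hp
    haveI : Module.Projective B (TensorProduct R B M) := hp
    haveI : Module.Flat B (TensorProduct R B M) := Module.Flat.of_projective
    haveI := Module.Flat.of_flat_tensorProduct (R := R) (M := M) B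
    exact Module.Flat.projective_of_finitePresentation
  have hm : Groth.Agent.NisGlob.GenDescends φ N := by
    intro n M _ hgen
    obtain ⟨s, hs⟩ := hgen.span
    obtain ⟨t, ht⟩ := Groth.Agent.NisGlob.exists_generators (R := CommRingCat.of R) M
      (CommRingCat.ofHom φ) s hs hch
    exact Groth.Agent.NisGlob.gen_of_span t ht
  haveI : ((W4c5algebraiztannaka.bcCx φ).obj E).IsStrictlyLE b :=
    (CochainComplex.isStrictlyLE_iff _ b).2 fun i hi => Groth.Agent.NisGlob.isZero_bc φ (hab i (Or.inr hi))
  haveI : ∀ i, Projective (((W4c5algebraiztannaka.bcCx φ).obj E).X i) := fun i => by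
    haveI := (Groth.Agent.NisGlob.finProj_bc φ hE i).2
    exact (((W4c5algebraiztannaka.bcCx φ).obj E).X i).projective_of_categoryTheory_projective
  haveI := CochainComplex.isKProjective_of_projective ((W4c5algebraiztannaka.bcCx φ).obj E) b
  obtain ⟨h, hh⟩ : ∃ h : (W4c5algebraiztannaka.bcCx φ).obj E ⟶ P, IsIso (DerivedCategory.Q.map h) := by
    obtain ⟨g, hg⟩ := (CochainComplex.IsKProjective.Qh_map_bijective ((W4c5algebraiztannaka.bcCx φ).obj E)
      ((HomotopyCategory.quotient _ _).obj P)).surjective
      ((DerivedCategory.quotientCompQhIso (ModuleCat.{u} B)).hom.app ((W4c5algebraiztannaka.bcCx φ).obj E) ≫ e.inv ≫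
        (DerivedCategory.quotientCompQhIso (ModuleCat.{u} B)).inv.app P)
    obtain ⟨h, rfl⟩ := (HomotopyCategory.quotient (ModuleCat.{u} B) (ComplexShape.up ℤ)).map_surjective g
    refine ⟨h, ?_⟩
    have h2 := (DerivedCategory.quotientCompQhIso (ModuleCat.{u} B)).hom.naturality h
    have h3 : DerivedCategory.Q.map h = e.inv := by
      rw [← cancel_epi ((DerivedCategory.quotientCompQhIso (ModuleCat.{u} B)).hom.app _)]
      refine h2.symm.trans ?_
      show DerivedCategory.Qh.map ((HomotopyCategory.quotient _ _).map h) ≫ _ = _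
      rw [hg]
      simp
    rw [h3]
    infer_instance
  haveI : QuasiIso h := (DerivedCategory.isIso_Q_map_iff_quasiIso _ _).1 hh
  obtain ⟨T, ⟨hT, hTp⟩, ⟨eT⟩⟩ := Groth.Agent.NisGlob.exists_glob hfl hz hE hab hm hP
    (fun i => ⟨(hPp i).1, (hPp i).2⟩) hflat h
  exact ⟨T, ⟨hT, fun i => ⟨(hTp i).1, (hTp i).2⟩⟩, ⟨eT⟩⟩

end Groth.Agent.S17870
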