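import Groth.Statements.S17877
import Groth.Agent.S0555
import Groth.Agent.VarDim.Basic
import Groth.Agent.CartierEq4.Basic
import Mathlib

set_option autoImplicit false
universe u
open GRRSing

namespace Groth.Agent.S17877

open TensorProduct IsLocalRing in
/-- Cotangent sequence at a prime of a finite type domain over an algebraically closed field. -/
theorem fibre_bound (F B : Type u) [Field F] [IsAlgClosed F] [CommRing B] [IsDomain B] [Algebra F B]
    [Algebra.FiniteType F B] (d : ℕ) (hd : ringKrullDim B = d) (q : Ideal B) [q.IsPrime]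
    (hq : (Module.finrank (ResidueField (Localization.AtPrime q))
          (CotangentSpace (Localization.AtPrime q)) : ℕ∞) ≤ q.height + 1) :
    Module.finrank q.ResidueField (q.ResidueField ⊗[B] Ω[B⁄F]) ≤ d + 1 := by
  haveI : IsNoetherianRing B := Algebra.FiniteType.isNoetherianRing F B
  let R := Localization.AtPrime q
  let L := q.ResidueField
  haveI : Algebra.EssFiniteType F L := Algebra.EssFiniteType.comp F B L
  haveI : Algebra.FormallyEtale B R := .of_isLocalization q.primeCompl
  -- the dimension formula
  obtain ⟨m, hm, htr⟩ := Groth.Agent.VarDim.exists_dim_eq_trdeg F B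
  obtain rfl : m = d := by exact_mod_cast hm.symm.trans hd
  have hF : CAlg.IsUniversallyCatenary F := Groth.Agent.DimFormula.isUniversallyCatenary_field F
  haveI : FaithfulSMul F B := (faithfulSMul_iff_algebraMap_injective _ _).2 (algebraMap F B).injective
  haveI : q.LiesOver (⊥ : Ideal F) := ⟨((Ideal.eq_bot_or_top _).resolve_right
    (Ideal.IsPrime.ne_top (inferInstance : (q.under F).IsPrime))).symm⟩
  have hform := Groth.Agent.S0555.result F hF B (⊥ : Ideal F) q
  rw [show ((⊥ : Ideal F).height) = 0 by rw [Ideal.height_bot], Cardinal.ofENat_zero, zero_add, htr] at hform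
  haveI : Algebra.IsIntegral F (F ⧸ (⊥ : Ideal F)) :=
    Algebra.IsIntegral.of_surjective (Ideal.Quotient.mkₐ F (⊥ : Ideal F)) Ideal.Quotient.mk_surjective
  have h3 := lift_trdeg_add_eq F (F ⧸ (⊥ : Ideal F)) (B ⧸ q)
  rw [trdeg_eq_zero (R := F) (A := F ⧸ (⊥ : Ideal F))] at h3
  simp only [Cardinal.lift_id, zero_add, Cardinal.lift_zero] at h3
  rw [h3] at hform
  haveI : IsFractionRing (B ⧸ q) L := inferInstance
  haveI : Algebra.IsAlgebraic (B ⧸ q) L := IsLocalization.isAlgebraic L (nonZeroDivisors (B ⧸ q))
  have h4 := lift_trdeg_add_eq F (B ⧸ q) L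
  rw [trdeg_eq_zero (R := B ⧸ q) (A := L)] at h4
  simp only [Cardinal.lift_id, add_zero, Cardinal.lift_zero] at h4
  rw [h4] at hform
  -- finiteness of the height and of the transcendence degree
  obtain ⟨t, ht⟩ : ∃ t : ℕ, Algebra.trdeg F L = t := by
    have : Algebra.trdeg F L ≤ (m : Cardinal.{u}) := hform ▸ self_le_add_left _ _
    exact Cardinal.lt_aleph0.1 (this.trans_lt (Cardinal.natCast_lt_aleph0))
  obtain ⟨hgt, hhgt⟩ : ∃ a : ℕ, q.height = a := by
    obtain ⟨a, ha⟩ := ENat.ne_top_iff_exists.1 (Ideal.height_ne_top (I := q) (Ideal.IsPrime.ne_top ‹_›))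
    exact ⟨a, ha.symm⟩
  rw [hhgt, ht, Cardinal.ofENat_nat] at hform
  have hsum : hgt + t = m := by exact_mod_cast hform
  have hcot : Module.finrank (ResidueField R) (CotangentSpace R) ≤ hgt + 1 := by
    rw [hhgt] at hq
    exact_mod_cast hq
  obtain ⟨-, -, hΩ⟩ := Groth.Agent.CartierEq4.finrank_kaehler_eq F L
  rw [ht, Cardinal.toNat_natCast, Module.finrank_zero_of_subsingleton (R := L) (M := Algebra.H1Cotangent F L),
    add_zero] at hΩ
  -- the conormal sequence
  have hf : Function.Surjective (algebraMap R L) := residue_surjective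
  let ψ := KaehlerDifferential.mapBaseChange F R L
  haveI : Module.Finite B Ω[B⁄F] := inferInstance
  let eR : R ⊗[B] Ω[B⁄F] ≃ₗ[R] Ω[R⁄F] := KaehlerDifferential.tensorKaehlerEquivOfFormallyEtale F B R
  let eL : L ⊗[B] Ω[B⁄F] ≃ₗ[L] L ⊗[R] Ω[R⁄F] :=
    (AlgebraTensorModule.cancelBaseChange B R L L Ω[B⁄F]).symm.trans
      (AlgebraTensorModule.congr (LinearEquiv.refl L L) eR)
  haveI : Module.Finite R Ω[R⁄F] := Module.Finite.equiv eR
  have hker : maximalIdeal R = RingHom.ker (algebraMap R L) := Ideal.mk_ker.symm
  let k' := KaehlerDifferential.kerCotangentToTensor F R L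
  have gen : ∀ J : Ideal R, maximalIdeal R = J → Nonempty ((maximalIdeal R).Cotangent ≃ₗ[R] J.Cotangent) :=
    fun J h => by subst h; exact ⟨LinearEquiv.refl _ _⟩
  obtain ⟨e00⟩ := gen _ hker
  let κ : CotangentSpace R →ₗ[L] L ⊗[R] Ω[R⁄F] :=
    { toFun := fun x => k' (e00 x)
      map_add' := fun x y => (congrArg k' (map_add e00 x y)).trans (map_add k' _ _)
      map_smul' := fun c x => by
        obtain ⟨c, rfl⟩ := hf c
        show k' (e00 (c • x)) = algebraMap R L c • k' (e00 x)
        rw [algebraMap_smul, map_smul, map_smul] }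
  have hle : Module.finrank L (LinearMap.ker ψ) ≤ hgt + 1 := by
    have hmem : ∀ x, κ x ∈ LinearMap.ker ψ := fun x =>
      (KaehlerDifferential.exact_kerCotangentToTensor_mapBaseChange F R L hf (κ x)).2 ⟨e00 x, rfl⟩
    refine (LinearMap.finrank_le_finrank_of_surjective (f := κ.codRestrict _ hmem) fun y => ?_).trans hcot
    obtain ⟨z, hz⟩ := (KaehlerDifferential.exact_kerCotangentToTensor_mapBaseChange F R L hf y.1).1
      (LinearMap.mem_ker.1 y.2)
    exact ⟨e00.symm z, Subtype.ext ((congrArg k' (e00.apply_symm_apply z)).trans hz)⟩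
  rw [eL.finrank_eq, ← LinearMap.finrank_range_add_finrank_ker ψ]
  have hr : Module.finrank L (LinearMap.range ψ) ≤ t := hΩ ▸ Submodule.finrank_le _
  omega


open TensorProduct IsLocalRing in
/-- Let K be a field with algebraic closure K̄ and Z = Spec A an affine scheme of finite type over K of
dimension d whose geometric fibre Spec (K̄ ⊗_K A) is integral with at most hypersurface
singularities (at every prime the embedding dimension of the local ring, the dimension of 𝔪/𝔪² over
the residue field, is at most the height of the prime plus one). Then for every prime p of A the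
(Ω_{A/K})_p is generated over A_p by at most d + 1 elements. (The published statement is for any Z
of finite type over K; the assertion is local on Z and the hypotheses pass to affine opens.) -/
theorem result
    {K : Type u} [Field K] {A : Type u} [CommRing A] [Algebra K A] [Algebra.FiniteType K A]
    [IsDomain (TensorProduct K (AlgebraicClosure K) A)]
    (hhyp : ∀ (q : Ideal (TensorProduct K (AlgebraicClosure K) A)) [q.IsPrime],
      (Module.finrank (IsLocalRing.ResidueField (Localization.AtPrime q))
          (IsLocalRing.CotangentSpace (Localization.AtPrime q)) : ℕ∞) ≤ q.height + 1)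
    (d : ℕ) (hd : ringKrullDim A = d) (p : Ideal A) [p.IsPrime] :
    ∃ s : Finset (LocalizedModule p.primeCompl (KaehlerDifferential K A)),
      s.card ≤ d + 1 ∧ Submodule.span (Localization.AtPrime p) (s : Set (LocalizedModule p.primeCompl (KaehlerDifferential K A))) = ⊤ := by
  let F := AlgebraicClosure K
  let B := TensorProduct K F A
  letI : Algebra A B := Algebra.TensorProduct.rightAlgebra
  haveI : IsScalarTower K A B := Algebra.TensorProduct.right_isScalarTower
  haveI : Algebra.IsPushout K F A B := inferInstance
  haveI : Algebra.IsIntegral A B := by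
    haveI : Algebra.IsPushout K A F B := .symm inferInstance
    exact Algebra.IsIntegral.of_surjective (R := A) (A := TensorProduct K A F) (Algebra.IsPushout.equiv K A F B).toAlgHom (Algebra.IsPushout.equiv K A F B).surjective
  haveI : FaithfulSMul A B := (faithfulSMul_iff_algebraMap_injective _ _).2
    (Algebra.TensorProduct.includeRight_injective (algebraMap K F).injective)
  haveI : IsDomain A := Function.Injective.isDomain (algebraMap A B) (FaithfulSMul.algebraMap_injective A B)
  haveI : IsNoetherianRing A := Algebra.FiniteType.isNoetherianRing K A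
  haveI : Algebra.FiniteType F B := inferInstance
  have hdB : ringKrullDim B = d := (Groth.Agent.VarDim.ringKrullDim_eq_of_isIntegral (R := A) (S := B)).trans hd
  obtain ⟨q, hq, hqp⟩ := Ideal.exists_ideal_over_prime_of_isIntegral p (⊥ : Ideal B)
    (by simp [Ideal.comap_bot_of_injective _ (FaithfulSMul.algebraMap_injective A B)]) |>.imp fun q h => h.2
  haveI := hq
  haveI : q.LiesOver p := ⟨hqp.symm⟩
  have hb := fibre_bound F B d hdB q (hhyp q)
  letI : Algebra p.ResidueField q.ResidueField := (Ideal.ResidueField.map p q (algebraMap A B) hqp.symm).toAlgebra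
  haveI : IsScalarTower A p.ResidueField q.ResidueField := .of_algebraMap_eq fun a =>
    (IsScalarTower.algebraMap_apply A B q.ResidueField a).trans
      (Ideal.ResidueField.map_algebraMap p q (algebraMap A B) hqp.symm a).symm
  let e : q.ResidueField ⊗[B] Ω[B⁄F] ≃ₗ[q.ResidueField]
      q.ResidueField ⊗[p.ResidueField] (p.ResidueField ⊗[A] Ω[A⁄K]) :=
    (AlgebraTensorModule.congr (LinearEquiv.refl _ _)
      (KaehlerDifferential.tensorKaehlerEquiv K F A B).symm).trans
    ((AlgebraTensorModule.cancelBaseChange A B q.ResidueField q.ResidueField Ω[A⁄K]).trans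
      (AlgebraTensorModule.cancelBaseChange A p.ResidueField q.ResidueField q.ResidueField Ω[A⁄K]).symm)
  rw [e.finrank_eq, Module.finrank_baseChange] at hb
  let S := Localization.AtPrime p
  let M := LocalizedModule p.primeCompl Ω[A⁄K]
  let eM : M ≃ₗ[S] S ⊗[A] Ω[A⁄K] := LocalizedModule.equivTensorProduct p.primeCompl Ω[A⁄K]
  haveI : Module.Finite S M := Module.Finite.equiv eM.symm
  let N : Submodule S M := ⊤
  have h2 : N.spanFinrank ≤ d + 1 := by
    rw [← TensorProduct.spanFinrank_top_eq_of_residueField N Module.Finite.fg_top,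
      ← Module.finrank_eq_spanFinrank_of_free]
    refine le_trans (le_of_eq ?_) hb
    exact ((AlgebraTensorModule.congr (LinearEquiv.refl p.ResidueField p.ResidueField)
      ((Submodule.topEquiv (R := S) (M := M)).trans eM)).trans
      (AlgebraTensorModule.cancelBaseChange A S p.ResidueField p.ResidueField Ω[A⁄K])).finrank_eq
  obtain ⟨s, hs⟩ : ∃ s : Set M, s.encard = N.spanFinrank ∧ Submodule.span S s = N :=
    Submodule.FG.exists_span_set_encard_eq_spanFinrank Module.Finite.fg_top
  have hfin : s.Finite := Set.finite_of_encard_eq_coe hs.1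
  refine ⟨hfin.toFinset, ?_, by rw [hfin.coe_toFinset]; exact hs.2⟩
  have := hs.1
  rw [hfin.encard_eq_coe_toFinset_card] at this
  have h3 : hfin.toFinset.card = N.spanFinrank := by exact_mod_cast this
  omega

end Groth.Agent.S17877
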