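import Groth.Statements.S17879
import Groth.Agent.S17880
import Groth.Agent.NagataLib.General
import Groth.Agent.ZRLim.System

set_option backward.isDefEq.respectTransparency false
-- import your own Groth.Agent.* helpers here

set_option autoImplicit false
universe u
open CategoryTheory AlgebraicGeometry
open Lim

namespace Groth.Agent.S17879

/-- Let f : Y → X be a morphism of schemes with X and Y quasi-compact and quasi-separated. Then f is
separated if and only if it is the composite of an affine morphism Y → Z and a proper morphism Z →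
X, for some scheme Z. -/
theorem result {X Y : Scheme.{u}} (f : Y ⟶ X)
    [CompactSpace X] [QuasiSeparatedSpace X] [CompactSpace Y] [QuasiSeparatedSpace Y] :
    IsSeparated f ↔
      ∃ (Z : Scheme.{u}) (g : Y ⟶ Z) (h : Z ⟶ X), IsAffineHom g ∧ IsProper h ∧ g ≫ h = f := by
  constructor
  · intro hsep
    obtain ⟨Z, g, h, hg, hfp, hqc, -, hs, rfl⟩ := Groth.Agent.S17880.result f
    haveI := hg
    haveI := hfp
    haveI := hqc
    haveI := hs hsep
    obtain ⟨Zb, j, p, hj, hjqc, hp, rfl⟩ := Groth.Agent.NagataLib.exists_compactification h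
    haveI := hj
    haveI := hjqc
    haveI := hp
    haveI : CompactSpace Zb := QuasiCompact.compactSpace_of_compactSpace p
    haveI : QuasiSeparatedSpace Zb := quasiSeparatedSpace_of_quasiSeparated p
    haveI : CompactSpace Z := QuasiCompact.compactSpace_of_compactSpace j
    have hc : IsCompact (j.opensRange : Set Zb) := isCompact_range j.continuous
    obtain ⟨K⟩ := Groth.Agent.ZRLim.Adm.nonempty hc
    refine ⟨K.obj, g ≫ j.isoOpensRange.hom ≫ inv (K.π ∣_ j.opensRange) ≫ (K.π ⁻¹ᵁ j.opensRange).ι,
      K.π ≫ p, inferInstance, inferInstance, ?_⟩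
    simp only [Category.assoc]
    rw [← morphismRestrict_ι_assoc, IsIso.inv_hom_id_assoc, ← Category.assoc j.isoOpensRange.hom,
      Scheme.Hom.isoOpensRange_hom_ι]
  · rintro ⟨Z, g, h, hg, hp, rfl⟩
    haveI := hg
    haveI := hp
    infer_instance

end Groth.Agent.S17879
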