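import Groth.Statements.S17885
import Groth.Agent.AlgGlue.Models
import Groth.Agent.S9200

set_option backward.isDefEq.respectTransparency false

set_option autoImplicit false
set_option linter.style.haveILetI false
universe u
open CategoryTheory AlgebraicGeometry
open Lim

namespace Groth.Agent.S17885

/-- Let f : Y → X be a morphism of schemes with X and Y quasi-compact and quasi-separated. Then f is
affine if and only if the X-scheme Y is a limit, in the category of schemes over X, of a filtered
inverse system of X-schemes that are affine and of finite presentation over X. -/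
theorem result {X Y : Scheme.{u}} (f : Y ⟶ X)
    [CompactSpace X] [QuasiSeparatedSpace X] [CompactSpace Y] [QuasiSeparatedSpace Y] :
    IsAffineHom f ↔
      ∃ (I : Type u) (_ : SmallCategory I) (_ : IsFiltered I) (D : Iᵒᵖ ⥤ Over X)
        (c : Limits.Cone D) (_ : Limits.IsLimit c),
        (∀ i, IsAffineHom (D.obj i).hom ∧ LocallyOfFinitePresentation (D.obj i).hom) ∧
        Nonempty (c.pt ≅ Over.mk f) := by
  constructor
  · intro hf
    obtain ⟨I, hIp, hId, hIn, D, t, π, hw, hlim, hπt, hfp, haff, hπ⟩ :=
      Groth.Agent.AlgGlue.exists_fp_system f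
    haveI : ∀ i j (a : i ⟶ j), IsAffineHom (D.map a) := fun i j a => haff a
    haveI : ∀ i, CompactSpace (D.obj i) := fun i => (hfp i).2.2.2.1
    haveI : ∀ i, QuasiSeparatedSpace (D.obj i) := fun i => (hfp i).2.2.2.2
    haveI : Nonempty Iᵒᵖ := ⟨Opposite.op (Classical.arbitrary I)⟩
    haveI : IsAffineHom (π (Classical.arbitrary Iᵒᵖ) ≫ t.app (Classical.arbitrary Iᵒᵖ)) := by
      rw [hπt]; exact hf
    obtain ⟨i₁, hi₁⟩ := Groth.Agent.S9200.result X D t _ hlim (Classical.arbitrary Iᵒᵖ)
    let J : Type u := {i : I // i₁.unop ≤ i}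
    haveI : Nonempty J := ⟨⟨_, le_rfl⟩⟩
    haveI : IsDirectedOrder J := ⟨fun a b => by
      obtain ⟨c, ha, hb⟩ := exists_ge_ge a.1 b.1
      exact ⟨⟨c, a.2.trans ha⟩, ha, hb⟩⟩
    let P : J ⥤ I := (Subtype.mono_coe (fun i : I => i₁.unop ≤ i)).functor
    haveI : P.Final := Functor.final_of_exists_of_isFiltered P
      (fun d => by
        obtain ⟨c, hd, hc⟩ := exists_ge_ge d i₁.unop
        exact ⟨⟨c, hc⟩, ⟨homOfLE hd⟩⟩)
      (fun {d c} s s' => ⟨c, 𝟙 c, Subsingleton.elim _ _⟩)
    have hlim' := (Functor.Initial.isLimitWhiskerEquiv P.op _).symm hlim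
    let D' : Jᵒᵖ ⥤ Over X :=
      { obj := fun j => Over.mk (t.app (P.op.obj j))
        map := fun {a b} g => Over.homMk (D.map (P.op.map g))
          ((t.naturality (P.op.map g)).trans (Category.comp_id _))
        map_id := fun j => Over.OverMorphism.ext (by simp)
        map_comp := fun g g' => Over.OverMorphism.ext (by simp) }
    let c : Limits.Cone D' :=
      { pt := Over.mk f
        π :=
          { app := fun j => Over.homMk (π (P.op.obj j)) (hπt _)
            naturality := fun a b g => Over.OverMorphism.ext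
              ((Category.id_comp _).trans (hw (P.op.map g)).symm) } }
    haveI : IsConnected Jᵒᵖ := IsCofiltered.isConnected _
    have hc : Limits.IsLimit c := by
      apply Limits.isLimitOfReflects (Over.forget X)
      exact Limits.IsLimit.ofIsoLimit hlim' (Limits.Cone.ext (Iso.refl _) fun j => (Category.id_comp _).symm)
    exact ⟨J, inferInstance, inferInstance, D', c, hc,
      fun j => ⟨hi₁ (P.op.obj j) (homOfLE j.unop.2).op, (hfp _).1⟩, ⟨Iso.refl _⟩⟩
  · rintro ⟨I, _, _, D, c, hc, hD, ⟨e⟩⟩
    haveI : IsCofiltered Iᵒᵖ := inferInstance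
    haveI : IsConnected Iᵒᵖ := IsCofiltered.isConnected _
    haveI : ∀ {i j : Iᵒᵖ} (a : i ⟶ j), IsAffineHom ((D ⋙ Over.forget X).map a) := fun {i j} a => by
      haveI := (hD j).1
      haveI : IsAffineHom ((D.map a).left ≫ (D.obj j).hom) := by
        rw [Over.w]; exact (hD i).1
      exact IsAffineHom.of_comp (D.map a).left (D.obj j).hom
    have hc' := Limits.isLimitOfPreserves (Over.forget X) hc
    let i : Iᵒᵖ := IsCofiltered.nonempty.some
    haveI : IsAffineHom ((c.π.app i).left) := isAffineHom_π_app _ _ hc' i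
    haveI := (hD i).1
    have hf : f = e.inv.left ≫ (c.π.app i).left ≫ (D.obj i).hom := by
      rw [Over.w]; exact (Over.w e.inv).symm
    haveI : IsIso e.inv.left := inferInstanceAs (IsIso ((Over.forget X).map e.inv))
    rw [hf]
    infer_instance

end Groth.Agent.S17885
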