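import Groth.Statements.S17886
import Groth.Agent.S2336
import Groth.Agent.AmpleFamX.AdmBlowUp
import Groth.Agent.AmpleX.RelAffine

set_option autoImplicit false
universe u
open CategoryTheory AlgebraicGeometry
open FlatMor

namespace Groth.Agent.S17886

/-- Let S be a Noetherian scheme and f : X → S separated and of finite type. Then X is covered by
finitely many affine opens U_1, …, U_n each of which is dense in X and quasi-projective over S (of
finite type with a relatively ample invertible module). -/
theorem result {S X : Scheme.{u}} (f : X ⟶ S)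
    [IsNoetherian S] [IsSeparated f] [QuasiCompact f] [LocallyOfFiniteType f] :
    ∃ (n : ℕ) (U : Fin n → X.Opens), (⨆ i, U i) = ⊤ ∧
      ∀ i, IsAffineOpen (U i) ∧ Dense ((U i : Set X)) ∧ RelProj.IsQuasiProjective ((U i).ι ≫ f) := by
  haveI : IsLocallyNoetherian X := LocallyOfFiniteType.isLocallyNoetherian f
  haveI : CompactSpace X := QuasiCompact.compactSpace_of_compactSpace f
  haveI : IsNoetherian X := { }
  have hirr : (irreducibleComponents (X : Type u)).Finite :=
    TopologicalSpace.NoetherianSpace.finite_irreducibleComponents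
  have hpt : ∀ x : X, ∃ U : X.Opens, x ∈ U ∧ IsAffineOpen U ∧ Dense (U : Set X) := by
    intro x
    obtain ⟨A, hA, hxA, -⟩ := exists_isAffineOpen_mem_and_subset (x := x) (U := (⊤ : X.Opens)) trivial
    obtain ⟨U, hU, hAU, hgen⟩ := Groth.Agent.AmpleFamX.exists_dense_affine_ge hirr hA
    refine ⟨U, hAU hxA, hU, fun z => ?_⟩
    have hmem := irreducibleComponent_mem_irreducibleComponents z
    have hz := (hmem.1.isGenericPoint_genericPoint (isClosed_of_mem_irreducibleComponents _ hmem)).def
    exact closure_mono (Set.singleton_subset_iff.2 (hgen _ hmem)) (hz.ge mem_irreducibleComponent)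
  choose U hxU hU hd using hpt
  obtain ⟨F, hF⟩ := isCompact_univ.elim_finite_subcover (fun x => (U x : Set X)) (fun x => (U x).2)
    (fun x _ => Set.mem_iUnion.2 ⟨x, hxU x⟩)
  refine ⟨F.card, fun i => U (F.equivFin.symm i).1, top_le_iff.1 fun x _ => ?_, fun i => ?_⟩
  · obtain ⟨y, hy, hxy⟩ := Set.mem_iUnion₂.1 (hF (Set.mem_univ x))
    exact TopologicalSpace.Opens.mem_iSup.2 ⟨F.equivFin ⟨y, hy⟩, by simpa using hxy⟩
  · set V := U (F.equivFin.symm i).1
    haveI : IsAffine (V : Scheme.{u}) := hU _
    refine ⟨hU _, hd _, inferInstance, inferInstance, Coh.structureModule _, ?_⟩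
    have hamp : CohB1.IsAmple (Coh.structureModule (V : Scheme.{u})) :=
      (Groth.Agent.S2336.result _).1 inferInstance
    refine Groth.Agent.AmpleX.isRelAmple_of_comp (f := V.ι ≫ f) (Limits.terminal.from S) ?_
    exact (Groth.Agent.AmpleX.isRelAmple_iff_isAmple _ _).2 hamp

end Groth.Agent.S17886
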