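import Groth.Statements.S17892
import Groth.Agent.AmpleX.Comp
import Groth.Agent.InvX.GenLocusPull
import Groth.Agent.KFlatLib.Scheme.ExtZero

set_option autoImplicit false
attribute [-instance] CategoryTheory.catToReflQuiver
universe u
open CategoryTheory AlgebraicGeometry
open FlatMor

namespace Groth.Agent.S17892

/-- Here f : Y → X is an affine morphism with X and Y quasi-compact and quasi-separated; a
Y-modification of X is a factorization f = fᵢ ≫ gᵢ with fᵢ : Y → Xᵢ schematically dominant and gᵢ :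
Xᵢ → X proper, and it is a Y-blow-up of X when Xᵢ carries a gᵢ-ample module L with a section ε : O →
L whose pullback along fᵢ is an isomorphism (a Y-trivialization). If (Xᵢ, fᵢ, gᵢ) is a Y-blow-up of
X and (Xⱼ, fⱼ, gᵢⱼ) is a Y-blow-up of Xᵢ (with respect to fᵢ : Y → Xᵢ), then (Xⱼ, fⱼ, gᵢⱼ ≫ gᵢ) is a
Y-blow-up of X. -/
theorem result {X Y : Scheme.{u}} (f : Y ⟶ X)
    [CompactSpace X] [QuasiSeparatedSpace X] [CompactSpace Y] [QuasiSeparatedSpace Y] [IsAffineHom f]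
    {Xᵢ Xⱼ : Scheme.{u}} (fᵢ : Y ⟶ Xᵢ) (gᵢ : Xᵢ ⟶ X) (fⱼ : Y ⟶ Xⱼ) (gᵢⱼ : Xⱼ ⟶ Xᵢ)
    (hᵢ : IsSchemeTheoreticallyDominant fᵢ ∧ IsProper gᵢ ∧ fᵢ ≫ gᵢ = f ∧
        ∃ (L : Xᵢ.Modules) (ε : Coh.structureModule Xᵢ ⟶ L),
          RelAmple.IsRelAmple gᵢ L ∧ IsIso ((Scheme.Modules.pullback fᵢ).map ε))
    (hⱼ : IsSchemeTheoreticallyDominant fⱼ ∧ IsProper gᵢⱼ ∧ fⱼ ≫ gᵢⱼ = fᵢ ∧
        ∃ (L : Xⱼ.Modules) (ε : Coh.structureModule Xⱼ ⟶ L),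
          RelAmple.IsRelAmple gᵢⱼ L ∧ IsIso ((Scheme.Modules.pullback fⱼ).map ε)) :
    IsSchemeTheoreticallyDominant fⱼ ∧ IsProper (gᵢⱼ ≫ gᵢ) ∧ fⱼ ≫ (gᵢⱼ ≫ gᵢ) = f ∧
        ∃ (L : Xⱼ.Modules) (ε : Coh.structureModule Xⱼ ⟶ L),
          RelAmple.IsRelAmple (gᵢⱼ ≫ gᵢ) L ∧ IsIso ((Scheme.Modules.pullback fⱼ).map ε) := by
  obtain ⟨hdᵢ, hpᵢ, hwᵢ, Lᵢ, εᵢ, hLᵢ, hεᵢ⟩ := hᵢ
  obtain ⟨hdⱼ, hpⱼ, hwⱼ, Lⱼ, εⱼ, hLⱼ, hεⱼ⟩ := hⱼ
  haveI := hpᵢ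
  haveI := hpⱼ
  refine ⟨hdⱼ, inferInstance, by rw [← Category.assoc, hwⱼ, hwᵢ], ?_⟩
  obtain ⟨n₀, hn₀, hn⟩ := Groth.Agent.AmpleX.eventually_isRelAmple_comp gᵢⱼ gᵢ hLⱼ hLᵢ
  obtain ⟨n, rfl⟩ : ∃ n, n₀ = n + 1 := ⟨n₀ - 1, by omega⟩
  have iᵢ := Groth.Agent.AmpleX.isInvertible_of_isRelAmple hLᵢ
  have iⱼ := Groth.Agent.AmpleX.isInvertible_of_isRelAmple hLⱼ
  have iP := Groth.Agent.InvX.isInvertible_tensorPow iᵢ (n + 1)
  obtain ⟨eⱼ⟩ := Groth.Agent.PicClLib.nonempty_pullback_structureModule gᵢⱼ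
  let t := eⱼ.symm.hom ≫ (Scheme.Modules.pullback gᵢⱼ).map (Groth.Agent.InvX.powHom εᵢ (n + 1))
  let σ := Groth.Agent.InvX.mulHom εⱼ t
  refine ⟨_, σ, hn (n + 1) le_rfl, ?_⟩
  have full : ∀ {Z : Scheme.{u}} (u : Y ⟶ Z) (M : Z.Modules) (ε : Coh.structureModule Z ⟶ M),
      PicF.IsInvertible M → IsIso ((Scheme.Modules.pullback u).map ε) → u ⁻¹ᵁ CohB1.genLocus M ε = ⊤ := by
    intro Z u M ε hM hiso
    obtain ⟨e⟩ := Groth.Agent.PicClLib.nonempty_pullback_structureModule u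
    rw [← Groth.Agent.InvX.genLocus_pullback u hM ε e.symm]
    refine top_le_iff.1 (le_sSup ?_)
    show IsIso ((Scheme.Modules.restrictFunctor (⊤ : Y.Opens).ι).map (e.symm.hom ≫ (Scheme.Modules.pullback u).map ε))
    infer_instance
  obtain ⟨e⟩ := Groth.Agent.PicClLib.nonempty_pullback_structureModule fⱼ
  have hσ : fⱼ ⁻¹ᵁ CohB1.genLocus _ σ = ⊤ := by
    rw [Groth.Agent.InvX.genLocus_mulHom iⱼ (Groth.Agent.PicClLib.isInvertible_pullback _ iP),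
      Groth.Agent.InvX.genLocus_pullback gᵢⱼ iP _ eⱼ.symm, Groth.Agent.InvX.genLocus_powHom iᵢ,
      Scheme.Hom.preimage_inf, ← Scheme.Hom.comp_preimage, hwⱼ, full fⱼ Lⱼ εⱼ iⱼ hεⱼ, full fᵢ Lᵢ εᵢ iᵢ hεᵢ,
      inf_top_eq]
  have iM := Groth.Agent.InvX.isInvertible_tensorMod iⱼ (Groth.Agent.PicClLib.isInvertible_pullback gᵢⱼ iP)
  rw [← Groth.Agent.InvX.genLocus_pullback fⱼ iM σ e.symm] at hσ
  have key : ∀ {M N : Y.Modules} (φ : M ⟶ N), (∀ y : Y, ∃ U : Y.Opens, y ∈ U ∧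
      IsIso ((Scheme.Modules.restrictFunctor U.ι).map φ)) → IsIso φ := by
    intro M N φ h
    refine Groth.Agent.KFlatLib.isIso_of_stalk _ fun y => ?_
    obtain ⟨U, hy, hU⟩ := h y
    haveI := hU
    have hb := ConcreteCategory.bijective_of_isIso ((DerSch.stalkFunctor _ (⟨y, hy⟩ : (U : Scheme.{u}))).map
      ((Scheme.Modules.restrictFunctor U.ι).map φ))
    refine (ConcreteCategory.isIso_iff_bijective ((DerSch.stalkFunctor Y (U.ι.base ⟨y, hy⟩)).map φ)).2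
      ⟨Groth.Agent.KFlatLib.injective_stalk_of_restrict U.ι _ ⟨y, hy⟩ hb.1,
        Groth.Agent.KFlatLib.surjective_stalk_of_restrict U.ι _ ⟨y, hy⟩ hb.2⟩
  haveI := key (e.symm.hom ≫ (Scheme.Modules.pullback fⱼ).map σ) fun y => by
    obtain ⟨U, hU, hy⟩ := TopologicalSpace.Opens.mem_sSup.1
      ((SetLike.ext_iff.1 hσ y).2 trivial)
    exact ⟨U, hy, hU⟩
  exact IsIso.of_isIso_comp_left e.symm.hom _

end Groth.Agent.S17892
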