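import Groth.Statements.S17897
import Groth.Agent.H1Lift.Local
import Mathlib.AlgebraicGeometry.ResidueField
import Mathlib.RingTheory.Valuation.ValuationSubring

set_option autoImplicit false
universe u
open CategoryTheory AlgebraicGeometry
open ValCrit

namespace Groth.Agent.S17897

/-- Let f : Y → X be a morphism of schemes (not assumed separated), R a valuation ring with fraction
field K, and i : Spec K → Y, φ : Spec R → X with i ≫ f = (Spec K → Spec R) ≫ φ. Let y be the point
of Y hit by i and g : κ(y) → K the induced embedding, R' = g⁻¹(R) the induced valuation ring of κ(y)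
and ρ : R' → R the restriction of g. Then φ factors uniquely through Spec R → Spec R': there is a
unique φ' : Spec R' → X with (Spec ρ) ≫ φ' = φ whose restriction to the generic point Spec κ(y) is
the canonical morphism Spec κ(y) → Y followed by f. (Here y and g are given as data with Spec g
followed by Spec κ(y) → Y equal to i, and ρ as data by its defining equation.) -/
theorem result {X Y : Scheme.{u}} (f : Y ⟶ X)
    (K : Type u) [Field K] (R : ValuationSubring K)
    (i : Spec (CommRingCat.of K) ⟶ Y) (φ : Spec (CommRingCat.of ↥R) ⟶ X)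
    (w : Spec.map (CommRingCat.ofHom R.subtype) ≫ φ = i ≫ f)
    (y : Y) (g : Y.residueField y ⟶ CommRingCat.of K) (hg : Spec.map g ≫ Y.fromSpecResidueField y = i)
    (ρ : ↥(R.comap g.hom) →+* ↥R)
    (hρ : ∀ x : ↥(R.comap g.hom), ((ρ x : ↥R) : K) = g.hom (x : ↑(Y.residueField y))) :
    ∃! φ' : Spec (CommRingCat.of ↥(R.comap g.hom)) ⟶ X,
      Spec.map (CommRingCat.ofHom ρ) ≫ φ' = φ ∧
      Spec.map (CommRingCat.ofHom (R.comap g.hom).subtype) ≫ φ' = Y.fromSpecResidueField y ≫ f := by
  obtain ⟨U, hUaff, hU⟩ := exists_isAffineOpen_mem_and_subset (X := X) (U := ⊤)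
    (x := φ (IsLocalRing.closedPoint ↥R)) trivial
  have hU' := hU.1
  obtain ⟨b, hb⟩ := H1Lift.exists_factor hUaff φ hU'
  let R' := R.comap g.hom
  let fy := Y.fromSpecResidueField y ≫ f
  have hi : i ≫ f = Spec.map g ≫ fy := by rw [← hg, Category.assoc]
  have hyU : ∀ p, fy p ∈ U := by
    intro p
    have h1 : (i ≫ f) (IsLocalRing.closedPoint K) ∈ U := by
      rw [← w, ← hb, ← Category.assoc]
      show (hUaff.fromSpec : _ → X) _ ∈ (U : Set X)
      rw [← hUaff.range_fromSpec]
      exact ⟨_, rfl⟩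
    rw [hi] at h1
    rw [Subsingleton.elim p (Spec.map g (IsLocalRing.closedPoint K))]
    exact h1
  obtain ⟨ψ, hψ⟩ := H1Lift.exists_factor_of_forall hUaff fy hyU
  have hgψ : ψ ≫ g = b ≫ CommRingCat.ofHom R.subtype := by
    refine H1Lift.factor_inj hUaff ?_
    rw [Spec.map_comp, Spec.map_comp, Category.assoc, Category.assoc, hb, hψ, w, hi]
  have hmem : ∀ x, ψ.hom x ∈ R' := fun x => by
    show g.hom (ψ.hom x) ∈ R
    rw [show g.hom (ψ.hom x) = ((b.hom x : ↥R) : K) from congrArg (fun h => h.hom x) hgψ]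
    exact (b.hom x).2
  let b' : Γ(X, U) ⟶ CommRingCat.of ↥R' := CommRingCat.ofHom (ψ.hom.codRestrict R'.toSubring hmem)
  have hρb : b' ≫ CommRingCat.ofHom ρ = b := by
    refine CommRingCat.hom_ext (RingHom.ext fun x => Subtype.ext ?_)
    show ((ρ _ : ↥R) : K) = _
    rw [hρ]
    exact congrArg (fun h => h.hom x) hgψ
  have hsub : b' ≫ CommRingCat.ofHom R'.subtype = ψ := CommRingCat.hom_ext (RingHom.ext fun x => rfl)
  refine ⟨Spec.map b' ≫ hUaff.fromSpec, ⟨?_, ?_⟩, ?_⟩
  · rw [← Category.assoc, ← Spec.map_comp, hρb, hb]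
  · erw [← Category.assoc, ← Spec.map_comp, hsub, hψ]
  rintro φ'' ⟨h1, h2⟩
  haveI : IsLocalHom ρ := ⟨fun x hx => by
    have hx0 : ((ρ x : ↥R) : K) ≠ 0 := fun h0 => hx.ne_zero (Subtype.ext h0)
    rw [hρ] at hx0
    have hne : (x : Y.residueField y) ≠ 0 := fun h0 => hx0 (by rw [h0, map_zero])
    obtain ⟨v, hv⟩ := hx.exists_right_inv
    have hv' : ((ρ x : ↥R) : K) * v = 1 := congrArg Subtype.val hv
    rw [hρ] at hv'
    have hinv : (x : Y.residueField y)⁻¹ ∈ R' := by
      show g.hom ((x : Y.residueField y)⁻¹) ∈ R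
      rw [map_inv₀, ← eq_inv_of_mul_eq_one_right hv']
      exact v.2
    exact IsUnit.of_mul_eq_one ⟨_, hinv⟩ (Subtype.ext (mul_inv_cancel₀ hne))⟩
  have hcl : φ'' (IsLocalRing.closedPoint ↥R') ∈ U := by
    rw [← H1Lift.map_closedPoint ρ]
    exact (congrArg (fun h : Spec (CommRingCat.of ↥R) ⟶ X => h (IsLocalRing.closedPoint ↥R)) h1) ▸ hU'
  obtain ⟨b'', hb''⟩ := H1Lift.exists_factor hUaff φ'' hcl
  have h3 : b'' ≫ CommRingCat.ofHom R'.subtype = ψ := by
    refine H1Lift.factor_inj hUaff ?_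
    erw [Spec.map_comp, Category.assoc, hb'', h2, hψ]
  have : b'' = b' := CommRingCat.hom_ext (RingHom.ext fun x => Subtype.ext
    (show ((b''.hom x : ↥R') : Y.residueField y) = ψ.hom x from congrArg (fun h => h.hom x) h3))
  rw [← hb'', this]

end Groth.Agent.S17897
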