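import Groth.Statements.S17898
import Groth.Agent.H1Lift.Local
import Mathlib.RingTheory.Valuation.ValuationSubring

set_option autoImplicit false
universe u
open CategoryTheory AlgebraicGeometry
open ValCrit

namespace Groth.Agent.S17898

/-- Let f : Y → X be a morphism of schemes (not assumed separated), K a field with valuation rings R ⊆
R' (inclusion ι), i : Spec K → Y and φ : Spec R → X a commutative square over f, and g : Spec R' → Y
a lift of Spec R' → Spec R → X restricting to i on Spec K. Let K̃ be the residue field of R', R̃ ⊆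
K̃ the image of R (a valuation ring of K̃) with the surjection σ : R → R̃. Then every h̃ : Spec R̃ →
Y whose restriction to Spec K̃ is Spec K̃ → Spec R' → Y (via g) and which lies over Spec R̃ → Spec R
→ X is induced by a unique h : Spec R → Y compatible with the whole diagram: h restricts to i on
Spec K, lies over φ, restricts to g along Spec R' → Spec R and to h̃ along Spec R̃ → Spec R. (ι, R̃,
σ are given as data pinned by their defining equations.) -/
theorem result {X Y : Scheme.{u}} (f : Y ⟶ X)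
    (K : Type u) [Field K] (R R' : ValuationSubring K) (hRR' : R ≤ R')
    (ι : ↥R →+* ↥R') (hι : ∀ x : ↥R, ((ι x : ↥R') : K) = (x : K))
    (i : Spec (CommRingCat.of K) ⟶ Y) (φ : Spec (CommRingCat.of ↥R) ⟶ X)
    (w : Spec.map (CommRingCat.ofHom R.subtype) ≫ φ = i ≫ f)
    (g : Spec (CommRingCat.of ↥R') ⟶ Y) (hg₁ : Spec.map (CommRingCat.ofHom R'.subtype) ≫ g = i)
    (hg₂ : g ≫ f = Spec.map (CommRingCat.ofHom ι) ≫ φ)
    (Rt : ValuationSubring (IsLocalRing.ResidueField ↥R')) (σ : ↥R →+* ↥Rt) (hσs : Function.Surjective σ)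
    (hσ : ∀ x : ↥R, ((σ x : ↥Rt) : IsLocalRing.ResidueField ↥R') = IsLocalRing.residue ↥R' (ι x))
    (ht : Spec (CommRingCat.of ↥Rt) ⟶ Y)
    (hht₁ : Spec.map (CommRingCat.ofHom Rt.subtype) ≫ ht =
      Spec.map (CommRingCat.ofHom (IsLocalRing.residue ↥R')) ≫ g)
    (hht₂ : ht ≫ f = Spec.map (CommRingCat.ofHom σ) ≫ φ) :
    ∃! h : Spec (CommRingCat.of ↥R) ⟶ Y, Spec.map (CommRingCat.ofHom R.subtype) ≫ h = i ∧ h ≫ f = φ ∧
      Spec.map (CommRingCat.ofHom ι) ≫ h = g ∧ Spec.map (CommRingCat.ofHom σ) ≫ h = ht := by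
  obtain ⟨V, hVaff, hV⟩ := exists_isAffineOpen_mem_and_subset (X := Y) (U := ⊤)
    (x := ht (IsLocalRing.closedPoint ↥Rt)) trivial
  obtain ⟨t, htV⟩ := H1Lift.exists_factor hVaff ht hV.1
  obtain ⟨U, hUaff, hU⟩ := exists_isAffineOpen_mem_and_subset (X := X) (U := ⊤)
    (x := φ (IsLocalRing.closedPoint ↥R)) trivial
  obtain ⟨b, hb⟩ := H1Lift.exists_factor hUaff φ hU.1
  have hgV : g (IsLocalRing.closedPoint ↥R') ∈ V := by
    have h1 : (Spec.map (CommRingCat.ofHom Rt.subtype) ≫ ht) (IsLocalRing.closedPoint _) ∈ V := by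
      rw [← htV, ← Category.assoc]
      show (hVaff.fromSpec : _ → Y) _ ∈ (V : Set Y)
      rw [← hVaff.range_fromSpec]
      exact ⟨_, rfl⟩
    rw [hht₁] at h1
    rw [← H1Lift.map_closedPoint (IsLocalRing.residue ↥R')]
    exact h1
  obtain ⟨a, ha⟩ := H1Lift.exists_factor hVaff g hgV
  have hat : t ≫ CommRingCat.ofHom Rt.subtype = a ≫ CommRingCat.ofHom (IsLocalRing.residue ↥R') := by
    refine H1Lift.factor_inj hVaff ?_
    rw [Spec.map_comp, Spec.map_comp, Category.assoc, Category.assoc, htV, ha, hht₁]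
  have hmem : ∀ z, ((a.hom z : ↥R') : K) ∈ R := by
    intro z
    obtain ⟨r, hr⟩ := hσs (t.hom z)
    have h1 : IsLocalRing.residue ↥R' (ι r) = IsLocalRing.residue ↥R' (a.hom z) := by
      rw [← hσ, hr]
      exact congrArg (fun h => h.hom z) hat
    have h2 : (a.hom z - ι r : ↥R') ∈ IsLocalRing.maximalIdeal ↥R' := by
      rw [← IsLocalRing.residue_eq_zero_iff, map_sub, h1, sub_self]
    have h3 : ((a.hom z - ι r : ↥R') : K) ∈ R := by
      by_contra h
      refine h2 ?_
      have hinv : ((a.hom z - ι r : ↥R') : K)⁻¹ ∈ R := (R.mem_or_inv_mem _).resolve_left h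
      have hne : ((a.hom z - ι r : ↥R') : K) ≠ 0 := fun h0 => h (h0 ▸ R.zero_mem)
      exact IsUnit.of_mul_eq_one ⟨_, hRR' hinv⟩ (Subtype.ext (mul_inv_cancel₀ hne))
    have h4 := R.add_mem _ _ h3 r.2
    have h5 : ((a.hom z - ι r : ↥R') : K) + (r : K) = ((a.hom z : ↥R') : K) := by
      rw [← hι r]
      exact sub_add_cancel _ _
    rwa [h5] at h4
  let c : Γ(Y, V) ⟶ CommRingCat.of ↥R := CommRingCat.ofHom
    ((R'.subtype.comp a.hom).codRestrict R.toSubring hmem)
  have hιinj : ∀ x y : ↥R, ι x = ι y → x = y := fun x y h => Subtype.ext (by rw [← hι x, ← hι y, h])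
  have hcι : c ≫ CommRingCat.ofHom ι = a :=
    CommRingCat.hom_ext (RingHom.ext fun z => Subtype.ext (hι (c.hom z)))
  have hcσ : c ≫ CommRingCat.ofHom σ = t := by
    refine CommRingCat.hom_ext (RingHom.ext fun z => Subtype.ext ?_)
    show ((σ (c.hom z) : ↥Rt) : IsLocalRing.ResidueField ↥R') = _
    rw [hσ, show ι (c.hom z) = a.hom z from congrArg (fun h => h.hom z) hcι]
    exact (congrArg (fun h => h.hom z) hat).symm
  have hcR : c ≫ CommRingCat.ofHom R.subtype = a ≫ CommRingCat.ofHom R'.subtype :=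
    CommRingCat.hom_ext (RingHom.ext fun z => rfl)
  haveI : IsLocalHom σ := hσs.isLocalHom
  let h := Spec.map c ≫ hVaff.fromSpec
  have hg' : Spec.map (CommRingCat.ofHom ι) ≫ h = g := by rw [← Category.assoc, ← Spec.map_comp, hcι, ha]
  have ht' : Spec.map (CommRingCat.ofHom σ) ≫ h = ht := by rw [← Category.assoc, ← Spec.map_comp, hcσ, htV]
  have hclU : (h ≫ f) (IsLocalRing.closedPoint ↥R) ∈ U := by
    rw [← H1Lift.map_closedPoint σ]
    show ((Spec.map (CommRingCat.ofHom σ) ≫ h ≫ f) (IsLocalRing.closedPoint ↥Rt)) ∈ U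
    rw [← Category.assoc, ht', hht₂]
    show φ (Spec.map (CommRingCat.ofHom σ) (IsLocalRing.closedPoint ↥Rt)) ∈ U
    rw [H1Lift.map_closedPoint σ]
    exact hU.1
  obtain ⟨b₁, hb₁⟩ := H1Lift.exists_factor hUaff (h ≫ f) hclU
  have hhf : h ≫ f = φ := by
    have h1 : b₁ ≫ CommRingCat.ofHom ι = b ≫ CommRingCat.ofHom ι := by
      refine H1Lift.factor_inj hUaff ?_
      rw [Spec.map_comp, Spec.map_comp, Category.assoc, Category.assoc, hb₁, hb, ← Category.assoc, hg', hg₂]
    have h2 : b₁ = b := CommRingCat.hom_ext (RingHom.ext fun z => hιinj _ _ (congrArg (fun h => h.hom z) h1))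
    rw [← hb₁, h2, hb]
  refine ⟨h, ⟨?_, hhf, hg', ht'⟩, ?_⟩
  · rw [← Category.assoc, ← Spec.map_comp, hcR, Spec.map_comp, Category.assoc, ha, hg₁]
  rintro h' ⟨-, -, h3, h4⟩
  have hcl : h' (IsLocalRing.closedPoint ↥R) ∈ V := by
    rw [← H1Lift.map_closedPoint σ]
    show (Spec.map (CommRingCat.ofHom σ) ≫ h') (IsLocalRing.closedPoint ↥Rt) ∈ V
    rw [h4]
    exact hV.1
  obtain ⟨c', hc'⟩ := H1Lift.exists_factor hVaff h' hcl
  have h5 : c' ≫ CommRingCat.ofHom ι = c ≫ CommRingCat.ofHom ι := by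
    refine H1Lift.factor_inj hVaff ?_
    rw [Spec.map_comp, Category.assoc, hc', h3, hcι, ha]
  have h6 : c' = c := CommRingCat.hom_ext (RingHom.ext fun z => hιinj _ _ (congrArg (fun h => h.hom z) h5))
  rw [← hc', h6]

end Groth.Agent.S17898
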