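import Groth.Statements.S17899
import Groth.Agent.H1SemiVal.Basic

set_option autoImplicit false
universe u
open TensorProduct
open CAlg

namespace Groth.Agent.S17899

/-- Let A be a local ring with residue field K, R a valuation ring of K and O ⊆ A the preimage of R
under A → K (so O is a semi-valuation ring with semi-fraction ring A, S = Spec O is glued from U =
Spec A and T = Spec R). Let C be an O-algebra of finite type which is U-admissible (C → A ⊗_O C
injective) and such that A ⊗_O C is flat and of finite presentation over A. Then C is flat and of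
finite presentation over O. (The published assertion is more general: the base may be any
quasi-compact quasi-separated U-admissible scheme over Spec O, and the scheme over it any
quasi-compact quasi-separated admissible scheme. This row is the case of an affine scheme over Spec
O itself, the case in which the published proof carries out its argument.) -/
theorem result
    (A : Type u) [CommRing A] [IsLocalRing A] (R : ValuationSubring (IsLocalRing.ResidueField A))
    (O : Subring A) (hO : O = R.toSubring.comap (IsLocalRing.residue A))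
    (C : Type u) [CommRing C] [Algebra ↥O C] [Algebra.FiniteType ↥O C]
    (hadm : Function.Injective (Algebra.TensorProduct.includeRight : C →ₐ[↥O] A ⊗[↥O] C))
    (hflat : Module.Flat A (A ⊗[↥O] C)) (hfp : Algebra.FinitePresentation A (A ⊗[↥O] C)) :
    Module.Flat ↥O C ∧ Algebra.FinitePresentation ↥O C := by
  subst hO
  let O : Subring A := R.toSubring.comap (IsLocalRing.residue A)
  let m : Ideal O := (IsLocalRing.maximalIdeal A).comap O.subtype
  haveI : m.IsPrime := Ideal.comap_isPrime _ _
  have hmem : ∀ a : A, a ∈ IsLocalRing.maximalIdeal A → a ∈ O := fun a ha => by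
    show IsLocalRing.residue A a ∈ R.toSubring
    rw [(IsLocalRing.residue_eq_zero_iff a).2 ha]
    exact R.toSubring.zero_mem
  have hu : ∀ s : O, s ∉ m → IsUnit (s : A) := fun s hs => IsLocalRing.notMem_maximalIdeal.1 hs
  haveI : IsLocalization m.primeCompl A := by
    refine ⟨⟨fun s => hu s.1 s.2, fun a => ?_, fun {x y} h => ⟨1, ?_⟩⟩⟩
    · by_cases ha : IsLocalRing.residue A a ∈ R
      · exact ⟨⟨⟨a, ha⟩, 1⟩, by simp; rfl⟩
      have h0 : IsLocalRing.residue A a ≠ 0 := fun h => ha (h ▸ R.zero_mem)
      obtain ⟨u, rfl⟩ : IsUnit a := not_not.1 fun h =>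
        h0 ((IsLocalRing.residue_eq_zero_iff a).2 ((IsLocalRing.mem_maximalIdeal a).2 h))
      have hinv : IsLocalRing.residue A (↑u⁻¹ : A) ∈ R := by
        rw [show IsLocalRing.residue A (↑u⁻¹ : A) = (IsLocalRing.residue A (u : A))⁻¹ from map_units_inv _ u]
        exact (R.mem_or_inv_mem _).resolve_left ha
      have hs : (⟨↑u⁻¹, hinv⟩ : O) ∈ m.primeCompl := fun h =>
        (IsLocalRing.notMem_maximalIdeal.2 u⁻¹.isUnit) h
      exact ⟨⟨1, ⟨_, hs⟩⟩, show (u : A) * ↑u⁻¹ = ((1 : O) : A) by simp⟩
    · simp only [OneMemClass.coe_one, one_mul]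
      exact Subtype.ext h
  have hm : ∀ μ ∈ m, ∀ s : O, s ∉ m → ∃ μ' ∈ m, μ = s * μ' := by
    intro μ hμ s hs
    obtain ⟨u, hu'⟩ := hu s hs
    have hmem' : (↑u⁻¹ : A) * (μ : A) ∈ IsLocalRing.maximalIdeal A := Ideal.mul_mem_left _ _ hμ
    exact ⟨⟨_, hmem _ hmem'⟩, hmem', Subtype.ext (by
      show (μ : A) = (s : A) * (↑u⁻¹ * (μ : A))
      rw [← hu', Units.mul_inv_cancel_left])⟩
  let q : O →+* R.toSubring := RingHom.codRestrict ((IsLocalRing.residue A).comp O.subtype) _ fun x => x.2
  have hq : Function.Surjective q := fun r => by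
    obtain ⟨a, ha⟩ := IsLocalRing.residue_surjective (r : IsLocalRing.ResidueField A)
    exact ⟨⟨a, show IsLocalRing.residue A a ∈ R.toSubring by rw [ha]; exact r.2⟩, Subtype.ext ha⟩
  have hker : RingHom.ker q = m := by
    ext x
    rw [RingHom.mem_ker, Subtype.ext_iff]
    exact IsLocalRing.residue_eq_zero_iff _
  let e : (↥O ⧸ m) ≃+* R.toSubring :=
    (Ideal.quotEquivOfEq hker.symm).trans (RingHom.quotientKerEquivOfSurjective hq)
  haveI : ValuationRing (↥O ⧸ m) := by
    refine ValuationRing.iff_dvd_total.2 ⟨fun a b => ?_⟩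
    haveI hPV : PreValuationRing R.toSubring := inferInstanceAs (PreValuationRing R)
    rcases (PreValuationRing.iff_dvd_total.1 hPV).total (e a) (e b) with h | h
    · exact Or.inl ((map_dvd_iff e).1 h)
    · exact Or.inr ((map_dvd_iff e).1 h)
  have hinjA : Function.Injective (algebraMap O A) := Subtype.val_injective
  haveI := hflat
  haveI := hfp
  exact ⟨H1SemiVal.flat (A := A) m hm hinjA hadm, H1SemiVal.finitePresentation (A := A) m hm hinjA hadm⟩

end Groth.Agent.S17899
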