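import Groth.Statements.S17902
import Mathlib.RingTheory.Spectrum.Prime.FreeLocus
import Mathlib.RingTheory.Spectrum.Prime.Module
import Mathlib.LinearAlgebra.Matrix.Charpoly.LinearMap
import Mathlib

set_option autoImplicit false
universe u
open CAlg

namespace Groth.Agent.S17902

/-- Let A be a commutative ring, M a finitely generated projective A-module, n a natural number and P a
finite set of prime ideals of A such that for every p in P there is g outside p with M_g free of
rank n over A_g. Then there exist n elements of M and an open subset U of Spec A containing P such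
that for every prime q in U the images of these elements in M_q form a basis of M_q over A_q. (The
published conclusion is that the associated sheaf is free of rank n on some open neighbourhood of P;
the form given here, with n global elements of M, is what its proof produces.) -/
theorem result (A : Type u) [CommRing A] (M : Type u) [AddCommGroup M] [Module A M]
    [Module.Finite A M] [Module.Projective A M] (n : ℕ) (P : Finset (PrimeSpectrum A))
    (hP : ∀ p ∈ P, ∃ g : A, g ∉ p.asIdeal ∧
      Nonempty (Module.Basis (Fin n) (Localization.Away g) (LocalizedModule (Submonoid.powers g) M))) :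
    ∃ (s : Fin n → M) (U : Set (PrimeSpectrum A)), IsOpen U ∧ (∀ p ∈ P, p ∈ U) ∧
      ∀ q ∈ U,
        LinearIndependent (Localization.AtPrime q.asIdeal)
            (fun j => LocalizedModule.mkLinearMap q.asIdeal.primeCompl M (s j)) ∧
          Submodule.span (Localization.AtPrime q.asIdeal)
            (Set.range fun j => LocalizedModule.mkLinearMap q.asIdeal.primeCompl M (s j)) = ⊤ := by
  classical
  -- the rank at every point of `P`
  have hrk : ∀ p ∈ P, Module.rankAtStalk M p = n := by
    intro p hp
    obtain ⟨g, hg, ⟨b⟩⟩ := hP p hp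
    have hp' : p ∈ Set.range (PrimeSpectrum.comap (algebraMap A (Localization.Away g))) := by
      rw [PrimeSpectrum.localization_away_comap_range (Localization.Away g) g]; exact hg
    obtain ⟨p', rfl⟩ := hp'
    haveI : Nontrivial (Localization.Away g) := nontrivial_of_ne 0 1 fun h =>
      p'.isPrime.ne_top ((Ideal.eq_top_iff_one _).2 (h ▸ zero_mem _))
    haveI : Module.Free (Localization.Away g) (LocalizedModule (Submonoid.powers g) M) := Module.Free.of_basis b
    haveI : Module.Finite (Localization.Away g) (LocalizedModule (Submonoid.powers g) M) := Module.Finite.of_basis b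
    rw [← Module.rankAtStalk_baseChange,
      ← Module.rankAtStalk_eq_of_equiv (LocalizedModule.equivTensorProduct (Submonoid.powers g) M),
      Module.rankAtStalk_eq_finrank_of_free, Pi.natCast_apply, Nat.cast_id,
      Module.finrank_eq_card_basis b, Fintype.card_fin]
  -- maximal elements of `P`
  let Pm : Finset (PrimeSpectrum A) := P.filter fun p => Maximal (· ∈ P) p
  have hm : ∀ p ∈ Pm, ∃ (m : Fin n → M) (a : A), a ∉ p.asIdeal ∧ (∀ q ∈ Pm, q ≠ p → a ∈ q.asIdeal) ∧
      ∀ x : M, ∃ t : A, t ∉ p.asIdeal ∧ t • x ∈ Submodule.span A (Set.range m) := by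
    intro p hp
    have hpP : p ∈ P := (Finset.mem_filter.1 hp).1
    haveI : Module.Free (Localization.AtPrime p.asIdeal) (LocalizedModule p.asIdeal.primeCompl M) :=
      Module.free_of_flat_of_isLocalRing
    let b := Module.finBasisOfFinrankEq (Localization.AtPrime p.asIdeal)
      (LocalizedModule p.asIdeal.primeCompl M) (hrk p hpP)
    choose m hm using fun j => IsLocalizedModule.surj p.asIdeal.primeCompl
      (LocalizedModule.mkLinearMap p.asIdeal.primeCompl M) (b j)
    have ha : ∀ q : {q // q ∈ Pm.erase p}, ∃ a ∈ q.1.asIdeal, a ∉ p.asIdeal := fun q => by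
      obtain ⟨hne, hq⟩ := Finset.mem_erase.1 q.2
      refine SetLike.not_le_iff_exists.1 fun hle => hne ?_
      exact le_antisymm hle ((Finset.mem_filter.1 hq).2.2 hpP hle)
    choose a ha ha' using ha
    refine ⟨fun j => (m j).1, ∏ q, a q, ?_, fun q hq hne => ?_, fun x => ?_⟩
    · rw [Ideal.IsPrime.prod_mem_iff]; rintro ⟨q, -, hq⟩; exact ha' q hq
    · exact Ideal.prod_mem q.asIdeal (Finset.mem_univ (⟨q, Finset.mem_erase.2 ⟨hne, hq⟩⟩ : {q // q ∈ Pm.erase p})) (ha ⟨q, Finset.mem_erase.2 ⟨hne, hq⟩⟩)
    · let N := Submodule.span A (Set.range fun j => (m j).1)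
      have hmem : LocalizedModule.mk x 1 ∈
          N.localized' (Localization.AtPrime p.asIdeal) p.asIdeal.primeCompl
            (LocalizedModule.mkLinearMap p.asIdeal.primeCompl M) := by
        rw [← b.sum_repr (LocalizedModule.mk x 1)]
        refine Submodule.sum_mem _ fun j _ => Submodule.smul_mem _ _ ?_
        exact ⟨(m j).1, Submodule.subset_span ⟨j, rfl⟩, (m j).2, IsLocalizedModule.mk'_eq_iff.2 (hm j).symm⟩
      obtain ⟨y, hy, t, ht⟩ := hmem
      rw [IsLocalizedModule.mk'_eq_iff] at ht
      obtain ⟨c, hc⟩ := (IsLocalizedModule.eq_iff_exists p.asIdeal.primeCompl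
        (LocalizedModule.mkLinearMap p.asIdeal.primeCompl M) (x₁ := y) (x₂ := (t : A) • x)).1 (by
          rw [ht, map_smul]; rfl)
      refine ⟨(c : A) * t, fun h => (p.isPrime.mem_or_mem h).elim c.2 t.2, ?_⟩
      rw [mul_smul, ← Submonoid.smul_def c, ← hc]
      exact Submodule.smul_mem _ _ hy
  choose! m a ha ha' hspan using hm
  let s : Fin n → M := fun j => ∑ p ∈ Pm, a p • m p j
  let N := Submodule.span A (Set.range s)
  let U : Set (PrimeSpectrum A) := (Module.support A (M ⧸ N))ᶜ ∩ Module.rankAtStalk M ⁻¹' {n}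
  haveI : Module.FinitePresentation A M := Module.finitePresentation_of_projective A M
  refine ⟨s, U, Module.isClosed_support.isOpen_compl.inter
    (Module.isLocallyConstant_rankAtStalk.isOpen_fiber n), fun p hp => ⟨?_, hrk p hp⟩, ?_⟩
  · obtain ⟨p₀, hle, hmax⟩ := P.exists_le_maximal hp
    have hp₀ : p₀ ∈ Pm := Finset.mem_filter.2 ⟨hmax.1, hmax⟩
    intro hsupp
    have h0 : p₀ ∈ Module.support A (M ⧸ N) := Module.mem_support_mono hle hsupp
    have key : ∀ x : M, ∃ t : A, t ∉ p₀.asIdeal ∧ t • x ∈ N ⊔ p₀.asIdeal • (⊤ : Submodule A M) := by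
      intro x
      obtain ⟨t, ht, htx⟩ := hspan p₀ hp₀ x
      refine ⟨a p₀ * t, fun h => (p₀.isPrime.mem_or_mem h).elim (ha p₀ hp₀) ht, ?_⟩
      have hgen : Submodule.span A (Set.range (m p₀)) ≤
          Submodule.comap (LinearMap.lsmul A M (a p₀)) (N ⊔ p₀.asIdeal • (⊤ : Submodule A M)) := by
        rw [Submodule.span_le]
        rintro _ ⟨j, rfl⟩
        rw [SetLike.mem_coe, Submodule.mem_comap, LinearMap.lsmul_apply]
        rw [show a p₀ • m p₀ j = s j - ∑ q ∈ Pm.erase p₀, a q • m q j from
          eq_sub_of_add_eq (Finset.add_sum_erase Pm (fun q => a q • m q j) hp₀)]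
        refine sub_mem (Submodule.mem_sup_left (Submodule.subset_span ⟨j, rfl⟩)) (Submodule.mem_sup_right ?_)
        refine Submodule.sum_mem _ fun q hq => Submodule.smul_mem_smul ?_ trivial
        obtain ⟨hne, hq'⟩ := Finset.mem_erase.1 hq
        exact ha' q hq' p₀ hp₀ (Ne.symm hne)
      rw [mul_smul]; exact hgen htx
    have key' : ∀ z : M ⧸ N, ∃ t : A, t ∉ p₀.asIdeal ∧ t • z ∈ p₀.asIdeal • (⊤ : Submodule A (M ⧸ N)) := by
      intro z
      obtain ⟨x, rfl⟩ := Submodule.mkQ_surjective N z
      obtain ⟨t, ht, htx⟩ := key x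
      refine ⟨t, ht, ?_⟩
      rw [← map_smul]
      have := Submodule.mem_map_of_mem (f := N.mkQ) htx
      rwa [Submodule.map_sup, Submodule.mkQ_map_self, bot_sup_eq, Submodule.map_smul'',
        Submodule.map_top, Submodule.range_mkQ] at this
    choose t ht htz using key'
    obtain ⟨k, g, hg⟩ := Submodule.fg_iff_exists_fin_generating_family.1
      (Module.Finite.fg_top (R := A) (M := M ⧸ N))
    let u := ∏ i, t (g i)
    have hu : u ∉ p₀.asIdeal := by
      rw [Ideal.IsPrime.prod_mem_iff]; rintro ⟨i, -, hi⟩; exact ht _ hi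
    have hrange : LinearMap.range (u • LinearMap.id : (M ⧸ N) →ₗ[A] (M ⧸ N)) ≤ p₀.asIdeal • ⊤ := by
      rw [LinearMap.range_eq_map, ← hg, Submodule.map_span, Submodule.span_le]
      rintro _ ⟨_, ⟨i, rfl⟩, rfl⟩
      rw [show u = (∏ j ∈ Finset.univ.erase i, t (g j)) * t (g i) from
        (Finset.prod_erase_mul _ _ (Finset.mem_univ i)).symm]
      rw [LinearMap.smul_apply, LinearMap.id_apply, mul_smul]
      exact hg ▸ Submodule.smul_mem _ _ (htz _)
    obtain ⟨f, hf, -, hfc, hfz⟩ :=
      LinearMap.exists_monic_and_natDegree_eq_and_coeff_mem_pow_and_aeval_eq_zero A _ _ hrange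
    have heval : f.eval u ∉ p₀.asIdeal := by
      intro h
      rw [Polynomial.eval_eq_sum_range, Finset.sum_range_succ, hf.coeff_natDegree, one_mul] at h
      refine hu (p₀.isPrime.mem_of_pow_mem f.natDegree ((Ideal.add_mem_iff_right _ ?_).1 h))
      exact Ideal.sum_mem _ fun i hi => Ideal.mul_mem_right _ _
        (Ideal.pow_le_self (by have := Finset.mem_range.1 hi; omega) (hfc i))
    obtain ⟨z, hz⟩ := Module.mem_support_iff_exists_annihilator.1 h0
    refine heval (hz ?_)
    rw [Submodule.mem_annihilator_span_singleton]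
    have hpow : ∀ (i : ℕ) (w : M ⧸ N), ((u • LinearMap.id : (M ⧸ N) →ₗ[A] (M ⧸ N)) ^ i) w = u ^ i • w := by
      intro i
      induction i with
      | zero => intro w; simp
      | succ i ih => intro w; rw [pow_succ, Module.End.mul_apply, ih, pow_succ, mul_smul]; rfl
    have := DFunLike.congr_fun hfz z
    rw [Polynomial.aeval_eq_sum_range, LinearMap.sum_apply] at this
    rw [Polynomial.eval_eq_sum_range, Finset.sum_smul]
    simpa [hpow, mul_smul] using this
  · rintro q ⟨hq1, hq2⟩
    have hspanq : Submodule.span (Localization.AtPrime q.asIdeal)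
        (Set.range fun j => LocalizedModule.mkLinearMap q.asIdeal.primeCompl M (s j)) = ⊤ := by
      refine top_le_iff.1 fun y _ => ?_
      obtain ⟨⟨x, t⟩, hxt⟩ := IsLocalizedModule.surj q.asIdeal.primeCompl
        (LocalizedModule.mkLinearMap q.asIdeal.primeCompl M) y
      obtain ⟨c, hc, hcx⟩ := Module.notMem_support_iff'.1 hq1 (N.mkQ x)
      rw [← map_smul, Submodule.mkQ_apply, Submodule.Quotient.mk_eq_zero] at hcx
      have h1 : LocalizedModule.mkLinearMap q.asIdeal.primeCompl M (c • x) ∈
          Submodule.span (Localization.AtPrime q.asIdeal)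
            (Set.range fun j => LocalizedModule.mkLinearMap q.asIdeal.primeCompl M (s j)) := by
        have := Submodule.mem_map_of_mem (f := LocalizedModule.mkLinearMap q.asIdeal.primeCompl M) hcx
        rw [Submodule.map_span, ← Set.range_comp] at this
        exact Submodule.span_le_restrictScalars A _ _ this
      have hu : IsUnit (algebraMap A (Localization.AtPrime q.asIdeal) (c * t)) :=
        IsLocalization.map_units _ (⟨c * t, fun h => (q.isPrime.mem_or_mem h).elim hc t.2⟩ : q.asIdeal.primeCompl)
      rw [← Submodule.smul_mem_iff_of_isUnit _ hu, algebraMap_smul, mul_smul]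
      rw [map_smul, ← show (t : A) • y = _ from hxt] at h1
      exact h1
    haveI : Module.Free (Localization.AtPrime q.asIdeal) (LocalizedModule q.asIdeal.primeCompl M) :=
      Module.free_of_flat_of_isLocalRing
    exact ⟨linearIndependent_of_top_le_span_of_card_eq_finrank hspanq.ge (by
      rw [Fintype.card_fin]; exact (Set.mem_singleton_iff.1 hq2).symm), hspanq⟩

end Groth.Agent.S17902
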