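import Groth.Statements.S17903
import Groth.Agent.RGLib.PinchFlat
import Groth.Agent.S17900

set_option autoImplicit false
attribute [-instance] CategoryTheory.catToReflQuiver
universe u
open CategoryTheory AlgebraicGeometry
open Pinch

namespace Groth.Agent.S17903

/-- Let S be a scheme and Z → X, Z → Z', X → X', Z' → X' a commutative square of S-schemes in which Z →
X and Z' → X' are closed immersions and Z → Z' and X → X' are affine, and which is a pushout square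
in the category of ringed spaces. If X, Z and Z' are flat over S then X' is flat over S. -/
theorem result {S X Z Z' X' : Scheme.{u}}
    (fX : X ⟶ S) (fZ' : Z' ⟶ S) (fX' : X' ⟶ S) (ι : Z ⟶ X) (q : Z ⟶ Z') (π : X ⟶ X') (ι' : Z' ⟶ X')
    [IsClosedImmersion ι] [IsClosedImmersion ι'] [IsAffineHom q] [IsAffineHom π]
    (hq : q ≫ fZ' = ι ≫ fX) (hπ : π ≫ fX' = fX) (hι' : ι' ≫ fX' = fZ')
    (hpo : IsPushout ((Scheme.forgetToLocallyRingedSpace ⋙ LocallyRingedSpace.forgetToSheafedSpace).map ι) ((Scheme.forgetToLocallyRingedSpace ⋙ LocallyRingedSpace.forgetToSheafedSpace).map q)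
      ((Scheme.forgetToLocallyRingedSpace ⋙ LocallyRingedSpace.forgetToSheafedSpace).map π) ((Scheme.forgetToLocallyRingedSpace ⋙ LocallyRingedSpace.forgetToSheafedSpace).map ι'))
    [Flat fX] [Flat (ι ≫ fX)] [Flat fZ'] :
    Flat fX' := by
  have hw := RGLib.PinchFlat.comm_of_isPushout hpo
  rw [HasRingHomProperty.iff_appLE (P := @Flat)]
  intro U V e
  have e1 : π ⁻¹ᵁ V.1 ≤ fX ⁻¹ᵁ U.1 := fun x hx => by
    rw [← hπ]; exact e hx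
  have e2 : ι' ⁻¹ᵁ V.1 ≤ fZ' ⁻¹ᵁ U.1 := fun x hx => by
    rw [← hι']; exact e hx
  have e3 : ι ⁻¹ᵁ π ⁻¹ᵁ V.1 ≤ (ι ≫ fX) ⁻¹ᵁ U.1 := fun x hx => e1 hx
  have hA' : IsAffineOpen (π ⁻¹ᵁ V.1) := V.2.preimage π
  have h1 := fX.flat_appLE U.2 hA' e1
  have h2 := fZ'.flat_appLE U.2 (V.2.preimage ι') e2
  have h3 := (ι ≫ fX).flat_appLE U.2 (hA'.preimage ι) e3
  let B' := Γ(X', V.1)
  let B := Γ(Z', ι' ⁻¹ᵁ V.1)
  let A' := Γ(X, π ⁻¹ᵁ V.1)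
  let A := Γ(Z, ι ⁻¹ᵁ π ⁻¹ᵁ V.1)
  let R := Γ(S, U.1)
  letI : Algebra B' B := (ι'.app V.1).hom.toAlgebra
  letI : Algebra B' A' := (π.app V.1).hom.toAlgebra
  letI : Algebra B A := (q.appLE (ι' ⁻¹ᵁ V.1) (ι ⁻¹ᵁ π ⁻¹ᵁ V.1) (RGLib.PinchFlat.preimage_le hw V.1)).hom.toAlgebra
  letI : Algebra A' A := (ι.app (π ⁻¹ᵁ V.1)).hom.toAlgebra
  letI : Algebra B' A := ((ι ≫ π).app V.1).hom.toAlgebra
  letI : Algebra R B' := (fX'.appLE U.1 V.1 e).hom.toAlgebra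
  letI : Algebra R B := (fZ'.appLE U.1 (ι' ⁻¹ᵁ V.1) e2).hom.toAlgebra
  letI : Algebra R A' := (fX.appLE U.1 (π ⁻¹ᵁ V.1) e1).hom.toAlgebra
  letI : Algebra R A := ((ι ≫ fX).appLE U.1 (ι ⁻¹ᵁ π ⁻¹ᵁ V.1) e3).hom.toAlgebra
  haveI : IsScalarTower B' B A := IsScalarTower.of_algebraMap_eq' (congrArg CommRingCat.Hom.hom (by
    rw [Scheme.Hom.app_eq_appLE, Scheme.Hom.app_eq_appLE, Scheme.Hom.appLE_comp_appLE]
    simp only [hw]
    rfl :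
      (ι ≫ π).app V.1 = ι'.app V.1 ≫ q.appLE (ι' ⁻¹ᵁ V.1) (ι ⁻¹ᵁ π ⁻¹ᵁ V.1) (RGLib.PinchFlat.preimage_le hw V.1)))
  haveI : IsScalarTower B' A' A := IsScalarTower.of_algebraMap_eq' (congrArg CommRingCat.Hom.hom (Scheme.Hom.comp_app ι π V.1))
  haveI : IsScalarTower R B' B := IsScalarTower.of_algebraMap_eq' (congrArg CommRingCat.Hom.hom (by
    rw [Scheme.Hom.app_eq_appLE, Scheme.Hom.appLE_comp_appLE]; simp only [hι'] :
      fZ'.appLE U.1 (ι' ⁻¹ᵁ V.1) e2 = fX'.appLE U.1 V.1 e ≫ ι'.app V.1))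
  haveI : IsScalarTower R B' A' := IsScalarTower.of_algebraMap_eq' (congrArg CommRingCat.Hom.hom (by
    rw [Scheme.Hom.app_eq_appLE, Scheme.Hom.appLE_comp_appLE]; simp only [hπ] :
      fX.appLE U.1 (π ⁻¹ᵁ V.1) e1 = fX'.appLE U.1 V.1 e ≫ π.app V.1))
  haveI : IsScalarTower R A' A := IsScalarTower.of_algebraMap_eq' (congrArg CommRingCat.Hom.hom (by
    rw [Scheme.Hom.app_eq_appLE, Scheme.Hom.appLE_comp_appLE] :
      (ι ≫ fX).appLE U.1 (ι ⁻¹ᵁ π ⁻¹ᵁ V.1) e3 = fX.appLE U.1 (π ⁻¹ᵁ V.1) e1 ≫ ι.app (π ⁻¹ᵁ V.1)))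
  haveI : IsScalarTower R B A := IsScalarTower.of_algebraMap_eq' (congrArg CommRingCat.Hom.hom (by
    rw [Scheme.Hom.appLE_comp_appLE]; simp only [hq] :
      (ι ≫ fX).appLE U.1 (ι ⁻¹ᵁ π ⁻¹ᵁ V.1) e3 = fZ'.appLE U.1 (ι' ⁻¹ᵁ V.1) e2 ≫
        q.appLE (ι' ⁻¹ᵁ V.1) (ι ⁻¹ᵁ π ⁻¹ᵁ V.1) (RGLib.PinchFlat.preimage_le hw V.1)))
  haveI : IsScalarTower R B' A := IsScalarTower.of_algebraMap_eq fun r => by
    rw [IsScalarTower.algebraMap_apply R A' A, IsScalarTower.algebraMap_apply R B' A', ← IsScalarTower.algebraMap_apply B' A' A]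
  haveI : Module.Flat R B := h2
  haveI : Module.Flat R A' := h1
  haveI : Module.Flat R A := h3
  exact Groth.Agent.S17900.result R B' B A' A ⟨ι.app_surjective _ hA', fun b a' hba => by
    obtain ⟨y, ⟨hy1, hy2⟩, hy3⟩ := RGLib.PinchFlat.exists_unique_section hpo V.1 a' b hba.symm
    exact ⟨y, ⟨hy2, hy1⟩, fun y' hy' => hy3 y' ⟨hy'.2, hy'.1⟩⟩⟩

end Groth.Agent.S17903
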