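import Groth.Statements.S17904
import Groth.Agent.RGLib.PinchRinged

set_option autoImplicit false
attribute [-instance] CategoryTheory.catToReflQuiver
set_option backward.isDefEq.respectTransparency false
universe u
open CategoryTheory AlgebraicGeometry
open Pinch

namespace Groth.Agent.S17904

/-- Let S be a scheme and Z → X, Z → Z', X → X', Z' → X' a commutative square of S-schemes in which Z →
X and Z' → X' are closed immersions and Z → Z' and X → X' are affine, which is a pushout square in
the category of ringed spaces, with X, Z and Z' flat over S. Then for every morphism T → S the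
square of base changes Z_T → X_T, Z_T → Z'_T, X_T → X'_T, Z'_T → X'_T is a pushout square in the
category of ringed spaces. -/
theorem result {S X Z Z' X' : Scheme.{u}}
    (fX : X ⟶ S) (fZ' : Z' ⟶ S) (fX' : X' ⟶ S) (ι : Z ⟶ X) (q : Z ⟶ Z') (π : X ⟶ X') (ι' : Z' ⟶ X')
    [IsClosedImmersion ι] [IsClosedImmersion ι'] [IsAffineHom q] [IsAffineHom π]
    (hq : q ≫ fZ' = ι ≫ fX) (hπ : π ≫ fX' = fX) (hι' : ι' ≫ fX' = fZ')
    (hpo : IsPushout ((Scheme.forgetToLocallyRingedSpace ⋙ LocallyRingedSpace.forgetToSheafedSpace).map ι) ((Scheme.forgetToLocallyRingedSpace ⋙ LocallyRingedSpace.forgetToSheafedSpace).map q)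
      ((Scheme.forgetToLocallyRingedSpace ⋙ LocallyRingedSpace.forgetToSheafedSpace).map π) ((Scheme.forgetToLocallyRingedSpace ⋙ LocallyRingedSpace.forgetToSheafedSpace).map ι'))
    [Flat fX] [Flat (ι ≫ fX)] [Flat fZ']
    {T : Scheme.{u}} (g : T ⟶ S) :
    IsPushout
      ((Scheme.forgetToLocallyRingedSpace ⋙ LocallyRingedSpace.forgetToSheafedSpace).map
        ((Over.pullback g).map (Over.homMk ι rfl : Over.mk (ι ≫ fX) ⟶ Over.mk fX)).left)
      ((Scheme.forgetToLocallyRingedSpace ⋙ LocallyRingedSpace.forgetToSheafedSpace).map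
        ((Over.pullback g).map (Over.homMk q hq : Over.mk (ι ≫ fX) ⟶ Over.mk fZ')).left)
      ((Scheme.forgetToLocallyRingedSpace ⋙ LocallyRingedSpace.forgetToSheafedSpace).map
        ((Over.pullback g).map (Over.homMk π hπ : Over.mk fX ⟶ Over.mk fX')).left)
      ((Scheme.forgetToLocallyRingedSpace ⋙ LocallyRingedSpace.forgetToSheafedSpace).map
        ((Over.pullback g).map (Over.homMk ι' hι' : Over.mk fZ' ⟶ Over.mk fX')).left) := by
  have hP := RGLib.PinchRinged.isPushout_scheme hpo
  have hY := RingPO.chart_of_affineHom hP.w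
  have hsq : ι ≫ fX = ι ≫ fX := rfl
  let iT := ((Over.pullback g).map (Over.homMk ι rfl : Over.mk (ι ≫ fX) ⟶ Over.mk fX)).left
  let aT := ((Over.pullback g).map (Over.homMk π hπ : Over.mk fX ⟶ Over.mk fX')).left
  let bT := ((Over.pullback g).map (Over.homMk ι' hι' : Over.mk fZ' ⟶ Over.mk fX')).left
  have hXT := RingPO.isPullback_map_square hπ g (Limits.pullback.lift_fst _ _ _ : aT ≫ _ = _)
    (Limits.pullback.lift_snd _ _ _)
  have hYT := RingPO.isPullback_map_square hι' g (Limits.pullback.lift_fst _ _ _ : bT ≫ _ = _)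
    (Limits.pullback.lift_snd _ _ _)
  have hZT := RingPO.isPullback_map_square hsq g (Limits.pullback.lift_fst _ _ _ : iT ≫ _ = _)
    (Limits.pullback.lift_snd _ _ _)
  haveI : IsClosedImmersion iT := MorphismProperty.of_isPullback hZT (inferInstanceAs (IsClosedImmersion ι))
  haveI : IsAffineHom aT := MorphismProperty.of_isPullback hXT (inferInstanceAs (IsAffineHom π))
  haveI : IsAffineHom bT := MorphismProperty.of_isPullback hYT (inferInstanceAs (IsAffineHom ι'))
  refine RGLib.PinchRinged.isPushout_toSheafedSpace (i := iT) (a := aT) (b := bT)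
    (RingPO.isPushout_baseChange hP hY fX' g (Or.inl (by rw [Category.assoc, hπ]; infer_instance))
    (IsPullback.of_hasPullback fX' g) hXT hYT hZT (Limits.pullback.lift_fst _ _ _) ?_)
  refine Limits.pullback.hom_ext ?_ ?_
  · simp only [Category.assoc]
    refine (congrArg (_ ≫ ·) (Limits.pullback.lift_fst _ _ _)).trans (Eq.trans ?_ (congrArg (_ ≫ ·) (Limits.pullback.lift_fst _ _ _)).symm)
    refine (Limits.pullback.lift_fst_assoc _ _ _ _).trans (Eq.trans ?_ (Limits.pullback.lift_fst_assoc _ _ _ _).symm)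
    exact ((Category.assoc _ _ _).trans (congrArg (_ ≫ ·) hP.w)).trans (Category.assoc _ _ _).symm
  · simp only [Category.assoc]
    refine (congrArg (_ ≫ ·) (Limits.pullback.lift_snd _ _ _)).trans (Eq.trans ?_ (congrArg (_ ≫ ·) (Limits.pullback.lift_snd _ _ _)).symm)
    exact (Limits.pullback.lift_snd _ _ _).trans (Limits.pullback.lift_snd _ _ _).symm

end Groth.Agent.S17904
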