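import Groth.Statements.S1795
import Groth.Agent.PerfGen7.RelDualDiag

set_option autoImplicit false
universe u
open CategoryTheory
open scoped TensorProduct
attribute [local instance] HasDerivedCategory.standard
open Dual2

namespace Groth.Agent.S1795

/-- Let R → A be a ring map between Noetherian rings which is flat and of finite type, with φ^! formed
from a presentation ψ : R[x_1, …, x_n] → A as RHom_P(A, (−) ⊗^L_R P)[n] (derived base change under
its existence hypothesis, RHom_P(A, −) a right adjoint of restriction). Then ω_{A/R} = φ^!(R) is a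
relative dualizing complex: it is R-perfect and RHom_{A ⊗_R A}(A, ω_{A/R} ⊗^L_A (A ⊗_R A)) ≅ A (with
the same conventions for these functors). -/
theorem result (R A : Type u) [CommRing R] [CommRing A] [IsNoetherianRing R] [IsNoetherianRing A] [Algebra R A] [Module.Flat R A] [Algebra.FinitePresentation R A] (n : ℕ) (ψ : MvPolynomial (Fin n) R →ₐ[R] A) (hψ : Function.Surjective ψ) [DRing.HasLBaseChange (algebraMap R (MvPolynomial (Fin n) R))] (Rψ : Dual.D (MvPolynomial (Fin n) R) ⥤ Dual.D A) (adj : DRing.restrictD ψ.toRingHom ⊣ Rψ) [DRing.HasLBaseChange (Algebra.TensorProduct.includeLeftRingHom : A →+* TensorProduct R A A)] (Rμ : Dual.D (TensorProduct R A A) ⥤ Dual.D A) (adjμ : DRing.restrictD (Algebra.TensorProduct.lmul' R (S := A)).toRingHom ⊣ Rμ) : Dual2.IsRelDualizing R A Rμ (Dual2.shriekVia n Rψ (Dual.inD R R)) := by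
  haveI := KFlatLib.hasLTen A
  haveI := KFlatLib.hasRHom (A := A)
  obtain ⟨e⟩ := PerfGen7.nonempty_shriekVia_unit n Rψ
  obtain ⟨⟨x, y, hxy⟩, hfin⟩ := KFlatLib.bounded_finite_shriek_unit ψ.toRingHom hψ ψ.comp_algebraMap adj
  haveI : DerivedCategory.IsLE ((Rψ.obj (DTen.unit _))⟦(n : ℤ)⟧) y := (DerivedCategory.isLE_iff _ _).2 fun i hi =>
    @ModuleCat.isZero_of_subsingleton _ _ _ (hxy i (Or.inr hi))
  haveI := KFlatLib.hasLBase (Algebra.TensorProduct.includeLeftRingHom : A →+* TensorProduct R A A)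
  obtain ⟨d⟩ := PerfGen7.nonempty_diag_shriek_unit n ψ.toRingHom hψ ψ.comp_algebraMap adj adjμ
  obtain ⟨eL⟩ := KFlatLib.nonempty_LBaseChange_iso (Algebra.TensorProduct.includeLeftRingHom : A →+* TensorProduct R A A)
  obtain ⟨a, b, E, h1, h2, ⟨j⟩⟩ := KFlatLib.hasFiniteTorDimCx_shriek_unit ψ.toRingHom hψ ψ.comp_algebraMap adj
  exact ⟨⟨H9Misc.DRingPC.of_iso' e.symm (KFlatLib.pc'_of_finite_hd _ y hfin),
    a, b, E, h1, h2, ⟨j ≪≫ (DRing.restrictD (algebraMap R A)).mapIso e.symm⟩⟩,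
    ⟨Rμ.mapIso (eL.app _ ≪≫ (DTen.LBase _).mapIso e) ≪≫ d⟩⟩

end Groth.Agent.S1795
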