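import Groth.Statements.S17967
import Groth.Agent.S17965
import Groth.Agent.EtPBCq.FieldStep
import Groth.Agent.GalTorLib.Basic
import Groth.Agent.EtTorLib.ClosedQuot

set_option autoImplicit false
open CategoryTheory CategoryTheory.Limits AlgebraicGeometry
universe u
open Opposite
open EtPBC

set_option backward.isDefEq.respectTransparency false
set_option backward.isDefEq.respectTransparency.types false
set_option maxHeartbeats 1000000

namespace Groth.Agent.S17967

/-- Let A be a Noetherian ring, I an ideal of A, f : X ⟶ Spec A a proper morphism, i : X₀ = X ×_{Spec A}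
Spec (A/I) ⟶ X the first projection, and assume that (X, X₀) is a henselian couple (for every finite
morphism g : Y ⟶ X, every open-closed subset of Y ×_X X₀ is the inverse image under the first
projection of exactly one open-closed subset of Y). Then for every torsion abelian sheaf F on the
small etale site of X and every q ≥ 0 the map H^q(X, F) → H^q(X, i_* i^* F) induced by the unit F →
i_* i^* F is bijective; since i_* is exact with vanishing higher direct images for the closed
immersion i, this is the comparison H^q(X, F) → H^q(X₀, i^* F) phrased on X. -/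
theorem result
    (A : Type u) [CommRing A] [IsNoetherianRing A] (I : Ideal A) {X : Scheme.{u}}
    (f : X ⟶ Spec (CommRingCat.of A)) [IsProper f]
    (hX : ∀ (Y : Scheme.{u}) (g : Y ⟶ X), IsFinite g →
      ∀ V : Set ↥(pullback g (pullback.fst f (Spec.map (CommRingCat.ofHom (Ideal.Quotient.mk I))))), IsClopen V →
        ∃! U : Set ↥Y, IsClopen U ∧ (pullback.fst g (pullback.fst f (Spec.map (CommRingCat.ofHom (Ideal.Quotient.mk I))))).base ⁻¹' U = V)
    (F : EtCoh.Ab X) (hF : EtCoh.IsTorsion F) (q : ℕ) :
    Function.Bijective
      (Sheaf.H.map ((EtCoh.pullPushAdj (pullback.fst f (Spec.map (CommRingCat.ofHom (Ideal.Quotient.mk I))))).unit.app F) q) := by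
  obtain ⟨A', _, I', _, _, f', _, t, sq⟩ := Groth.Agent.S17965.result A I f hX
  let i := pullback.fst f (Spec.map (CommRingCat.ofHom (Ideal.Quotient.mk I)))
  haveI : IsClosedImmersion (Spec.map (CommRingCat.ofHom (Ideal.Quotient.mk I))) :=
    IsClosedImmersion.spec_of_surjective _ Ideal.Quotient.mk_surjective
  haveI : IsClosedImmersion i := MorphismProperty.pullback_fst _ _ inferInstance
  let j := Groth.Agent.EtH1Lib.closedIncl I' f'
  haveI := Groth.Agent.EtFound.pull_preservesFiniteLimits j
  haveI := Groth.Agent.EtFound.pull_preservesFiniteLimits i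
  let e := sq.isoPullback
  haveI := Groth.Agent.EtFound.pull_preservesFiniteLimits e.hom
  have hi : Function.Bijective (EtCore.Hpull i F q) :=
    Groth.Agent.EtPBCq.bijective_Hpull_comp e.hom j i sq.isoPullback_hom_fst
      (Groth.Agent.EtPBC0.AcycComp.bijective_Hpull_of_isIso e.hom _ q)
      (Groth.Agent.EtPBCq.bijective_Hpull_closed I' f' F hF q)
  have hP : Function.Bijective (EtLim.HofPush i ((EtCoh.pull i).obj F) q) :=
    Groth.Agent.BigSiteLib.hofPush_bijective i _
      (fun p hp => Groth.Agent.EtTorLib.isZero_Rpush_closedImmersion i _ p hp) q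
  refine (Function.Bijective.of_comp_iff' hP _).1 ?_
  have e2 : ∀ α : EtCoh.H X F q, EtLim.HofPush i ((EtCoh.pull i).obj F) q
      (Sheaf.H.map ((EtCoh.pullPushAdj i).unit.app F) q α) = EtCore.Hpull i F q α :=
    fun α => Groth.Agent.GalTorLib.hofPush_unit i F q α
  exact ⟨fun a b hab => hi.1 ((e2 a).symm.trans (hab.trans (e2 b))), fun c => (hi.2 c).imp fun a ha => (e2 a).trans ha⟩

end Groth.Agent.S17967
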