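import Groth.Statements.S1797
import Groth.Agent.H1CdOne.Affine
import Groth.Agent.LC.HlvtMain
import Groth.Agent.LC.CdDim
import Groth.Agent.FormCat.Unibranch
import Groth.Agent.PopescuLib.LocalCompletion
import Groth.Agent.FlatLoc6.GeomProp
import Mathlib

set_option autoImplicit false
universe u
open LocCoh

namespace Groth.Agent.S1797

/-- Let A be an excellent normal Noetherian local ring (an integrally closed domain) and I an ideal with
dim V(I) ≥ 1, i.e. dim A/I ≥ 1. Then cd(A, I) < dim A: for every A-module M, H^i_I(M) = 0 whenever i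
≥ dim A. Moreover, if dim A = 2 then the open subscheme Spec A ∖ V(I) is affine. -/
theorem result (A : Type u) [CommRing A] [IsDomain A] [IsLocalRing A] [IsNoetherianRing A] [IsIntegrallyClosed A] (hA : EGA4.IsExcellent A) (I : Ideal A) (hI : (1 : WithBot ℕ∞) ≤ ringKrullDim (A ⧸ I)) : (∀ (M : Type u) [AddCommGroup M] [Module A M] (i : ℕ), ringKrullDim A ≤ (i : WithBot ℕ∞) → Subsingleton (LocCoh.H I i M)) ∧ (ringKrullDim A = 2 → AlgebraicGeometry.IsAffine (↑(LocCoh.puncturedOpen A I) : AlgebraicGeometry.Scheme.{u})) := by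
  classical
  haveI := Groth.Agent.FlatLoc6.isNoetherianRing_cpl A
  haveI := Groth.Agent.FlatLoc6.isLocalRing_cpl A
  haveI := Groth.Agent.FlatLoc6.faithfullyFlat_cpl A
  have hreg := Groth.Agent.PopescuLib.isRegularHom_completion_of_isGRing hA.2.2.1
  have hgn : EGA4.HasGeomNormalFormalFibres A := fun p _ k' _ _ hk' => by
    haveI := (hreg.2 p).2 k' hk'
    exact Groth.Agent.FlatLoc6.isNormalRing_of_isRegularRing _
  have hloc : IsLocalRing (integralClosure A (FractionRing A)) :=
    IsLocalRing.of_surjective' (algebraMap A (integralClosure A (FractionRing A))) (fun x => by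
      obtain ⟨a, ha⟩ := IsIntegrallyClosed.isIntegral_iff.mp x.2
      exact ⟨a, Subtype.ext ha⟩)
  haveI : IsDomain (EGA4.Cpl A) := Groth.Agent.FormCat.isDomain_cpl A hgn hloc
  obtain ⟨d, hd⟩ : ∃ d : ℕ, ringKrullDim A = d := by
    obtain ⟨n, hn⟩ := ENat.ne_top_iff_exists.mp (Ideal.height_ne_top_of_isPrime (I := IsLocalRing.maximalIdeal A))
    exact ⟨n, by rw [← IsLocalRing.maximalIdeal_height_eq_ringKrullDim, ← hn]; rfl⟩
  have hge : (1 : WithBot ℕ∞) ≤ ringKrullDim (EGA4.Cpl A ⧸
      (I.map (algebraMap A (EGA4.Cpl A)) ⊔ (⊥ : Ideal (EGA4.Cpl A)))) := by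
    rw [sup_bot_eq]
    obtain ⟨q, hIq, hqne⟩ : ∃ q : PrimeSpectrum A, I ≤ q.asIdeal ∧ q.asIdeal ≠ IsLocalRing.maximalIdeal A := by
      by_contra hne
      push Not at hne
      have : ringKrullDim (A ⧸ I) ≤ 0 := by
        rw [ringKrullDim_quotient]
        haveI : Subsingleton (PrimeSpectrum.zeroLocus (R := A) I) := ⟨fun a b => Subtype.ext (PrimeSpectrum.ext
          ((hne a.1 a.2).trans (hne b.1 b.2).symm))⟩
        exact Order.krullDim_nonpos_of_subsingleton
      exact absurd (hI.trans this) (by norm_num)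
    obtain ⟨Q, hQ⟩ := PrimeSpectrum.comap_surjective_of_faithfullyFlat (A := A) (B := EGA4.Cpl A) q
    have hQ' : Q.asIdeal.comap (algebraMap A (EGA4.Cpl A)) = q.asIdeal := congrArg PrimeSpectrum.asIdeal hQ
    have hQne : Q.asIdeal ≠ IsLocalRing.maximalIdeal (EGA4.Cpl A) := fun h => hqne (by
      rw [← hQ', h]
      refine (IsLocalRing.eq_maximalIdeal ?_)
      rw [AdicCompletion.maximalIdeal_eq_map_of_fg (IsNoetherian.noetherian (IsLocalRing.maximalIdeal A)),
        Ideal.comap_map_eq_self_of_faithfullyFlat]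
      infer_instance)
    rw [ringKrullDim_quotient]
    let a : PrimeSpectrum.zeroLocus (R := EGA4.Cpl A) (I.map (algebraMap A (EGA4.Cpl A))) :=
      ⟨Q, Ideal.map_le_iff_le_comap.mpr (hIq.trans hQ'.ge)⟩
    let b : PrimeSpectrum.zeroLocus (R := EGA4.Cpl A) (I.map (algebraMap A (EGA4.Cpl A))) :=
      ⟨⟨IsLocalRing.maximalIdeal (EGA4.Cpl A), inferInstance⟩,
        (show (I.map (algebraMap A (EGA4.Cpl A)) : Set (EGA4.Cpl A)) ⊆ IsLocalRing.maximalIdeal (EGA4.Cpl A) from
          Set.Subset.trans (a.2) (IsLocalRing.le_maximalIdeal Q.isPrime.ne_top))⟩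
    have hab : a < b := lt_of_le_of_ne (IsLocalRing.le_maximalIdeal Q.isPrime.ne_top) fun h => hQne
      (congrArg (fun z => z.1.asIdeal) h)
    exact Order.LTSeries.length_le_krullDim ((RelSeries.singleton _ a).snoc b hab)
  have hH : Subsingleton ((localCohomology I d).obj (ModuleCat.of A A)) :=
    Groth.Agent.LC.subsingleton_H_hlvt I hd (fun p hp _ => by
      have : p ∈ minimalPrimes (EGA4.Cpl A) := hp
      rw [IsDomain.minimalPrimes_eq_singleton_bot, Set.mem_singleton_iff] at this
      subst this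
      exact hge)
  have hd1 : 1 ≤ d := by
    have := hI.trans (ringKrullDim_quotient_le (I := I))
    rw [hd] at this
    exact_mod_cast this
  have hcd : LocCoh.CdLE A I (d - 1) := Groth.Agent.LC.cdLE_of_ring I (fun i hi => by
    rcases Nat.lt_or_ge d i with h | h
    · exact Groth.Agent.LC.cdLE_of_ringKrullDim_le I hd.le A i h
    · obtain rfl : i = d := by omega
      exact hH)
  refine ⟨fun M _ _ i hi => hcd M i ?_, fun h2 => ?_⟩
  · rw [hd] at hi
    have : d ≤ i := by exact_mod_cast hi
    omega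
  · rw [hd] at h2
    obtain rfl : d = 2 := by exact_mod_cast h2
    obtain ⟨r, f, hf⟩ := Submodule.fg_iff_exists_fin_generating_family.mp (IsNoetherian.noetherian I)
    have hf' : Ideal.span (Set.range f) = I := hf
    subst hf'
    let L : (Fin r → A) →ₗ[A] A := Fintype.linearCombination A f
    have hL : LinearMap.range L = Ideal.span (Set.range f) := by
      rw [show Ideal.span (Set.range f) = Submodule.span A (Set.range f) from rfl]
      exact Fintype.range_linearCombination A f
    have hmem : ∀ v, L v ∈ Ideal.span (Set.range f) ^ 1 := fun v => by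
      rw [pow_one, ← hL]
      exact LinearMap.mem_range_self L v
    obtain ⟨c, ψ, hψ⟩ := Groth.Agent.H1CdOne.exists_lift _ hcd (L.codRestrict (Ideal.span (Set.range f) ^ 1) hmem) (fun x => by
      have h3 : (x : A) ∈ Ideal.span (Set.range f) := (pow_one (Ideal.span (Set.range f))).le x.2
      obtain ⟨v, hv⟩ := hL.ge h3
      exact ⟨v, Subtype.ext hv⟩)
    refine Groth.Agent.H1CdOne.isAffine_of_lift _ f (fun j => Ideal.subset_span ⟨j, rfl⟩) c
      (fun j => (LinearMap.proj j).comp ψ) fun x => ?_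
    refine (hψ x).symm.trans ?_
    show L (ψ x) = _
    rw [Fintype.linearCombination_apply]
    exact Finset.sum_congr rfl fun j _ => by rw [smul_eq_mul, mul_comm]; rfl

end Groth.Agent.S1797
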