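import Groth.Statements.S17983
import Mathlib.Analysis.Polynomial.Basic
import Mathlib.Analysis.Complex.Polynomial.Basic
import Mathlib.Topology.Algebra.Polynomial
import Mathlib.Topology.Order.IntermediateValue

set_option autoImplicit false
universe u
open WeilNum

namespace Groth.Agent.S17983

/-- Let p be a prime number, e ≥ 1 and q = p^e. Let π be an element of a field of characteristic zero
which is integral over ℤ, with minimal polynomial P over ℤ, and assume that every complex root of P
has absolute value √q and that no complex root of P is real (π is a nonreal Weil q-number). Then the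
degree of P is even, say 2d, and writing a_j for the coefficient of x^j in P one has a_{d−r} = q^r ·
a_{d+r} for every 0 ≤ r ≤ d. -/
theorem result (p e : ℕ) [Fact p.Prime] (he : 0 < e)
    (K : Type u) [Field K] [CharZero K] (π : K) (hπ : IsIntegral ℤ π)
    (hweil : ∀ z ∈ (minpoly ℤ π).aroots ℂ, ‖z‖ = Real.sqrt ((p : ℝ) ^ e))
    (hnr : ∀ z ∈ (minpoly ℤ π).aroots ℂ, z.im ≠ 0) :
    Even (minpoly ℤ π).natDegree ∧
      ∀ r ≤ (minpoly ℤ π).natDegree / 2,
        (minpoly ℤ π).coeff ((minpoly ℤ π).natDegree / 2 - r) =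
          (p : ℤ) ^ (e * r) * (minpoly ℤ π).coeff ((minpoly ℤ π).natDegree / 2 + r) := by
  classical
  set P := minpoly ℤ π with hP
  have hmon : P.Monic := minpoly.monic hπ
  set q : ℝ := (p : ℝ) ^ e with hq
  have hqpos : 0 < q := by
    have : 0 < (p : ℝ) := by exact_mod_cast (Fact.out : p.Prime).pos
    positivity
  set n := P.natDegree with hn
  set Pc := P.map (Int.castRingHom ℂ) with hPc
  set Pr := P.map (Int.castRingHom ℝ) with hPr
  have hPcm : Pc.Monic := hmon.map _
  have hPrm : Pr.Monic := hmon.map _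
  have hPcn : Pc.natDegree = n := hmon.natDegree_map _
  have hPrn : Pr.natDegree = n := hmon.natDegree_map _
  have hR : P.aroots ℂ = Pc.roots := rfl
  have hroot : ∀ x : ℝ, Pr.eval x ≠ 0 := by
    intro x hx
    refine hnr (x : ℂ) ?_ (Complex.ofReal_im x)
    rw [hR, Polynomial.mem_roots hPcm.ne_zero, Polynomial.IsRoot, hPc, Polynomial.eval_map]
    rw [hPr, Polynomial.eval_map] at hx
    rw [show Int.castRingHom ℂ = Complex.ofRealHom.comp (Int.castRingHom ℝ) from RingHom.ext_int _ _]
    show Polynomial.eval₂ (Complex.ofRealHom.comp (Int.castRingHom ℝ)) (Complex.ofRealHom x) P = 0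
    rw [← Polynomial.hom_eval₂, hx, map_zero]
  have hn1 : 0 < n := minpoly.natDegree_pos hπ
  have hdeg : 0 < Pr.degree := Polynomial.natDegree_pos_iff_degree_pos.mp (by omega)
  have hpos : ∀ x : ℝ, 0 < Pr.eval x := by
    intro x
    by_contra hcon
    have hlt : Pr.eval x < 0 := lt_of_le_of_ne (not_lt.mp hcon) (hroot x)
    obtain ⟨y, hy1, hy2⟩ := (((Pr.tendsto_atTop_of_leadingCoeff_nonneg hdeg
      (by rw [hPrm.leadingCoeff]; norm_num)).eventually_ge_atTop 1).and (Filter.eventually_ge_atTop x)).exists
    obtain ⟨z, -, hz⟩ := intermediate_value_Icc hy2 Pr.continuous.continuousOn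
      (show (0 : ℝ) ∈ Set.Icc (Pr.eval x) (Pr.eval y) from ⟨hlt.le, by linarith⟩)
    exact hroot z hz
  have heven : Even n := by
    by_contra hodd
    rw [Nat.not_even_iff_odd] at hodd
    let Q : Polynomial ℝ := -(Pr.comp (-Polynomial.X))
    have hQlc : Q.leadingCoeff = 1 := by
      simp only [Q, Polynomial.leadingCoeff_neg]
      rw [Polynomial.leadingCoeff_comp (by simp), hPrm.leadingCoeff, hPrn]
      simp [hodd.neg_one_pow]
    have hQd : 0 < Q.degree := by
      refine Polynomial.natDegree_pos_iff_degree_pos.mp ?_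
      simp [Q, Polynomial.natDegree_comp, hPrn, hn1]
    obtain ⟨y, hy⟩ := ((Q.tendsto_atTop_of_leadingCoeff_nonneg hQd
      (by rw [hQlc]; norm_num)).eventually_ge_atTop 1).exists
    have := hpos (-y)
    simp only [Q, Polynomial.eval_neg, Polynomial.eval_comp, Polynomial.eval_X] at hy
    linarith
  refine ⟨heven, ?_⟩
  set R := Pc.roots with hRdef
  have hsplit : (R.map fun a => Polynomial.X - Polynomial.C a).prod = Pc :=
    Polynomial.prod_multiset_X_sub_C_of_monic_of_roots_card_eq hPcm
      (IsAlgClosed.card_roots_eq_natDegree)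
  have hcard : Multiset.card R = n := by rw [hRdef, IsAlgClosed.card_roots_eq_natDegree, hPcn]
  set c : ℂ := R.prod with hc
  have hc0 : c = (P.coeff 0 : ℂ) := by
    have h1 := congrArg (Polynomial.eval (0 : ℂ)) hsplit
    rw [Polynomial.eval_multiset_prod, Multiset.map_map] at h1
    simp only [Function.comp_def, Polynomial.eval_sub, Polynomial.eval_X, Polynomial.eval_C, zero_sub,
      Multiset.prod_map_neg, Multiset.map_id'] at h1
    rw [hcard, heven.neg_one_pow, one_mul, ← Polynomial.coeff_zero_eq_eval_zero, hPc,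
      Polynomial.coeff_map] at h1
    exact h1
  have hmodulus : ∀ z ∈ R, z * (starRingEnd ℂ) z = (q : ℂ) := fun z hz => by
    rw [Complex.mul_conj, Complex.normSq_eq_norm_sq, hweil z hz, Real.sq_sqrt hqpos.le]
  have hkey : ∀ x : ℂ, x ≠ 0 → Pc.eval ((q : ℂ) / x) * x ^ n = c * Pc.eval x := by
    intro x hx
    have hconj : R.map (starRingEnd ℂ) = R := by
      have h1 : Pc.map (starRingEnd ℂ) = Pc := by
        rw [hPc, Polynomial.map_map]; congr 1
        exact RingHom.ext_int _ _
      have h2 := Polynomial.map_roots_le_of_injective Pc (starRingEnd ℂ).injective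
      rw [h1] at h2
      exact Multiset.eq_of_le_of_card_le h2 (by rw [Multiset.card_map])
    conv_rhs => rw [← hsplit, Polynomial.eval_multiset_prod, Multiset.map_map]
    conv_lhs => rw [← hsplit, Polynomial.eval_multiset_prod, Multiset.map_map]
    have h3 : x ^ n = (R.map fun _ => x).prod := by rw [Multiset.map_const', Multiset.prod_replicate, hcard]
    have h4 : ∀ y : ℂ, (R.map fun a => y - a).prod = (R.map fun a => (starRingEnd ℂ) a - y).prod := by
      intro y
      have h5 : (R.map fun a => y - a).prod = (R.map fun a => a - y).prod := by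
        rw [show (fun a : ℂ => a - y) = Neg.neg ∘ (fun a => y - a) from funext fun a => (neg_sub y a).symm,
          ← Multiset.map_map Neg.neg, Multiset.prod_map_neg, Multiset.card_map, hcard, heven.neg_one_pow, one_mul]
      rw [h5]
      conv_lhs => rw [← hconj, Multiset.map_map]
      rfl
    simp only [Function.comp_def, Polynomial.eval_sub, Polynomial.eval_X, Polynomial.eval_C]
    rw [h3, h4 x, hc]
    conv_rhs => arg 1; rw [← Multiset.map_id R]
    rw [← Multiset.prod_map_mul, ← Multiset.prod_map_mul]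
    refine congrArg Multiset.prod (Multiset.map_congr rfl fun a ha => ?_)
    simp only [id]
    rw [sub_mul, div_mul_cancel₀ _ hx, ← hmodulus a ha]
    ring
  have hpoly : (∑ j ∈ Finset.range (n + 1), Polynomial.C ((P.coeff j : ℂ) * (q : ℂ) ^ j) * Polynomial.X ^ (n - j))
      = Polynomial.C c * Pc := by
    refine Polynomial.eq_of_infinite_eval_eq _ _ (Set.Infinite.mono (s := {x : ℂ | x ≠ 0}) ?_ ?_)
    · intro x hx
      show Polynomial.eval x _ = Polynomial.eval x _
      rw [Polynomial.eval_mul, Polynomial.eval_C, ← hkey x hx, Polynomial.eval_finsetSum,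
        Polynomial.eval_eq_sum_range, hPcn, Finset.sum_mul]
      refine Finset.sum_congr rfl fun j hj => ?_
      have hjn : j ≤ n := Nat.lt_succ_iff.mp (Finset.mem_range.mp hj)
      simp only [Polynomial.eval_mul, Polynomial.eval_C, Polynomial.eval_pow, Polynomial.eval_X, hPc,
        Polynomial.coeff_map, eq_intCast]
      rw [← Nat.sub_add_cancel hjn, Nat.add_sub_cancel, pow_add, div_pow]
      field_simp
      rw [mul_div_assoc, div_self (pow_ne_zero j hx), mul_one]
    · exact (Set.finite_singleton (0 : ℂ)).infinite_compl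
  have hcoef : ∀ j ≤ n, (P.coeff j : ℂ) * (q : ℂ) ^ j = c * (P.coeff (n - j) : ℂ) := by
    intro j hj
    have h1 := congrArg (fun f : Polynomial ℂ => f.coeff (n - j)) hpoly
    simp only [Polynomial.finsetSum_coeff, Polynomial.coeff_C_mul, Polynomial.coeff_X_pow, hPc,
      Polynomial.coeff_map, eq_intCast] at h1
    rw [← h1, Finset.sum_eq_single j]
    · simp
    · intro b hb hbj
      rw [if_neg, mul_zero]
      have := Finset.mem_range.mp hb
      omega
    · intro h
      exact absurd (Finset.mem_range.mpr (by omega)) h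
  obtain ⟨d, hd⟩ := heven
  have hd2 : n / 2 = d := by omega
  have hsq : (P.coeff 0 : ℝ) = q ^ d := by
    have h1 := hcoef n le_rfl
    rw [Nat.sub_self, hmon.coeff_natDegree, hc0, Int.cast_one, one_mul, hd] at h1
    have h2 : ((P.coeff 0 : ℝ)) ^ 2 = (q ^ d) ^ 2 := by
      have h3 : (((q ^ (d + d) : ℝ)) : ℂ) = (((P.coeff 0 : ℝ) * (P.coeff 0 : ℝ) : ℝ) : ℂ) := by
        push_cast; exact h1
      have h4 := Complex.ofReal_inj.mp h3
      rw [pow_add] at h4
      linarith [h4]
    have h5 : 0 < (P.coeff 0 : ℝ) := by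
      have := hpos 0
      rwa [← Polynomial.coeff_zero_eq_eval_zero, hPr, Polynomial.coeff_map, eq_intCast] at this
    exact (pow_left_inj₀ h5.le (by positivity) two_ne_zero).mp h2
  intro r hr
  rw [hd2] at hr ⊢
  have h1 := hcoef (d - r) (by omega)
  have hqZ : (q : ℂ) = ((p : ℤ) : ℂ) ^ e := by rw [hq]; push_cast; rfl
  rw [show n - (d - r) = d + r by omega, hc0,
    show (P.coeff 0 : ℂ) = (q : ℂ) ^ d by exact_mod_cast hsq] at h1
  rw [show (q : ℂ) ^ d = (q : ℂ) ^ r * (q : ℂ) ^ (d - r) by rw [← pow_add]; congr 1; omega] at h1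
  have hq0 : (q : ℂ) ^ (d - r) ≠ 0 := pow_ne_zero _ (by exact_mod_cast hqpos.ne')
  have h2 : (P.coeff (d - r) : ℂ) = (q : ℂ) ^ r * (P.coeff (d + r) : ℂ) :=
    mul_right_cancel₀ hq0 (h1.trans (by ring))
  rw [hqZ, ← pow_mul] at h2
  exact_mod_cast h2

end Groth.Agent.S17983
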