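import Groth.Statements.S17985
import Groth.Agent.WeilNumLib.Order
import Groth.Agent.LC.GorLCI
import Groth.Agent.VarDim.Basic
import Mathlib.RingTheory.KrullDimension.PID

set_option autoImplicit false
universe u
open MvPolynomial
open WeilNum

namespace Groth.Agent.S17985

/-- Let p be a prime, e ≥ 1 and q = p^e. Let (π_i) be a nonempty finite family of pairwise nonconjugate
Weil q-numbers: π_i is an element of a field K_i of characteristic zero, integral over ℤ with
minimal polynomial P_i, every complex root of P_i has absolute value √q, and P_i ≠ P_j for i ≠ j.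
Suppose the total degree Σ_i deg P_i is even, equal to 2D. Let R_w be the minimal central order, the
image of ℤ[F, V] → ∏_i K_i, F ↦ (π_i), V ↦ (q/π_i). Then R_w is free of rank 2D as a ℤ-module, has
Krull dimension 1, and is a Gorenstein ring (Noetherian, with all localizations at primes of finite
injective dimension over themselves). -/
theorem result (p e : ℕ) [Fact p.Prime] (he : 0 < e)
    (ι : Type) [Fintype ι] (K : ι → Type u) [∀ i, Field (K i)] [∀ i, CharZero (K i)] (π : ∀ i, K i)
    (hint : ∀ i, IsIntegral ℤ (π i))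
    (hweil : ∀ i, ∀ z ∈ (minpoly ℤ (π i)).aroots ℂ, ‖z‖ = Real.sqrt ((p : ℝ) ^ e))
    (hinj : ∀ i j, minpoly ℤ (π i) = minpoly ℤ (π j) → i = j)
    [Nonempty ι] (D : ℕ) (hD : ∑ i, (minpoly ℤ (π i)).natDegree = 2 * D) :
    Module.Free ℤ (MvPolynomial.aeval ![fun i => π i, fun i => ((p : K i) ^ e) / π i] :
        MvPolynomial (Fin 2) ℤ →ₐ[ℤ] ((i : ι) → K i)).range ∧
      Module.finrank ℤ (MvPolynomial.aeval ![fun i => π i, fun i => ((p : K i) ^ e) / π i] :
        MvPolynomial (Fin 2) ℤ →ₐ[ℤ] ((i : ι) → K i)).range = 2 * D ∧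
      ringKrullDim (MvPolynomial.aeval ![fun i => π i, fun i => ((p : K i) ^ e) / π i] :
        MvPolynomial (Fin 2) ℤ →ₐ[ℤ] ((i : ι) → K i)).range = 1 ∧
      LocCoh.IsGorensteinRing (MvPolynomial.aeval ![fun i => π i, fun i => ((p : K i) ^ e) / π i] :
        MvPolynomial (Fin 2) ℤ →ₐ[ℤ] ((i : ι) → K i)).range := by
  classical
  have hp : p.Prime := Fact.out
  have hq : (p : ℤ) ^ e ≠ 0 := pow_ne_zero _ (by exact_mod_cast hp.ne_zero)
  have hdeg := WeilNumLib.natDegree_Pw π hint D hD
  obtain ⟨ε, -, hpal⟩ := WeilNumLib.exists_sign_palindrome (WeilNumLib.Pw π) (WeilNumLib.monic_Pw π hint)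
    (p ^ e) (pow_pos hp.pos e) D hdeg (WeilNumLib.weil_Pw p e π hint hweil)
  rw [Nat.cast_pow] at hpal
  set h := WeilNumLib.hRep (WeilNumLib.Pw π) D ε with hdef
  have hh : X 0 ^ D * h - Polynomial.aeval (X 0 : MvPolynomial (Fin 2) ℤ) (∏ i, minpoly ℤ (π i)) ∈
      Ideal.span ({X 0 * X 1 - C ((p : ℤ) ^ e)} : Set (MvPolynomial (Fin 2) ℤ)) := by
    refine (WeilNumLib.ker_lam ((p : ℤ) ^ e) hq _).mp ?_
    rw [map_sub, hdef, WeilNumLib.lam_hRep _ _ D ε hdeg hpal, WeilNumLib.lam_aeval_X0]
    exact sub_self _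
  obtain ⟨hker, ⟨E⟩⟩ := WeilNumLib.ker_and_rank p e he π hint hweil hinj D hD h hh
  have hreg := WeilNumLib.isWeaklyRegular p e π hint D h hh
  set f : MvPolynomial (Fin 2) ℤ →ₐ[ℤ] ((i : ι) → K i) := WeilNumLib.ev p e π with hf
  haveI : Module.Free ℤ f.range := Module.Free.of_equiv E
  haveI : Module.Finite ℤ f.range := Module.Finite.equiv E
  have hrank : Module.finrank ℤ f.range = 2 * D := by
    rw [← E.finrank_eq, Module.finrank_fintype_fun_eq_card, Fintype.card_fin]
  refine ⟨inferInstance, hrank, ?_, ?_⟩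
  · have hinj' : Function.Injective (algebraMap ℤ f.range) := fun a b hab => by
      have h1 := congrFun (congrArg Subtype.val hab) (Classical.arbitrary ι)
      simpa using h1
    haveI : Algebra.IsIntegral ℤ f.range := Algebra.IsIntegral.of_finite ℤ _
    haveI : FaithfulSMul ℤ f.range := (faithfulSMul_iff_algebraMap_injective ℤ f.range).mpr hinj'
    rw [VarDim.ringKrullDim_eq_of_isIntegral (R := ℤ) (S := f.range)]
    exact IsPrincipalIdealRing.ringKrullDim_eq_one ℤ Int.not_isField
  · rw [RingTheory.Sequence.isWeaklyRegular_cons_iff, RingTheory.Sequence.isWeaklyRegular_singleton_iff] at hreg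
    set r : MvPolynomial (Fin 2) ℤ := X 0 * X 1 - C ((p : ℤ) ^ e) with hr
    let ψ : MvPolynomial (Fin 2) (ULift.{u} ℤ) ≃+* MvPolynomial (Fin 2) ℤ :=
      MvPolynomial.mapEquiv (Fin 2) ULift.ringEquiv
    haveI : IsRegularRing (ULift.{u} ℤ) := IsRegularRing.of_ringEquiv (ULift.ringEquiv (R := ℤ)).symm
    haveI : LocCoh.IsGorensteinRing (ULift.{u} ℤ) := LC.gorensteinRing_of_isRegularRing _
    haveI := LC.gorensteinRing_mvPolynomial_fin (ULift.{u} ℤ) 2
    have hspan : ∀ x, x ∈ Ideal.span {ψ.symm r} ↔ ψ x ∈ Ideal.span {r} := fun x => by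
      rw [Ideal.mem_span_singleton, Ideal.mem_span_singleton]
      refine ⟨fun hx => by simpa using map_dvd ψ hx, fun hx => by simpa using map_dvd ψ.symm hx⟩
    haveI h1 : LocCoh.IsGorensteinRing (MvPolynomial (Fin 2) (ULift.{u} ℤ) ⧸ Ideal.span {ψ.symm r}) := by
      refine LC.gorensteinRing_of_surjective (Ideal.Quotient.mk (Ideal.span {ψ.symm r}))
        Ideal.Quotient.mk_surjective ?_ Ideal.mk_ker
      intro a b hab
      have h4 := congrArg ψ hab
      simp only [smul_eq_mul, map_mul, RingEquiv.apply_symm_apply] at h4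
      exact ψ.injective (hreg.1 h4)
    let g : MvPolynomial (Fin 2) (ULift.{u} ℤ) →+* f.range := f.rangeRestrict.toRingHom.comp ψ.toRingHom
    have hg : ∀ x, g x = 0 ↔ f (ψ x) = 0 := fun x => by
      refine ⟨fun hx => congrArg Subtype.val hx, fun hx => Subtype.ext hx⟩
    have hgsurj : Function.Surjective g := by
      rintro ⟨_, ⟨y, rfl⟩⟩
      exact ⟨ψ.symm y, Subtype.ext (congrArg f (ψ.apply_symm_apply y))⟩
    let g' := Ideal.Quotient.lift (Ideal.span {ψ.symm r}) g (fun x hx => by
      rw [hg, ← RingHom.mem_ker, hker]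
      exact Ideal.span_mono (by simp) ((hspan x).mp hx))
    refine LC.gorensteinRing_of_surjective g' (f := Ideal.Quotient.mk _ (ψ.symm h))
      (Ideal.Quotient.lift_surjective_of_surjective _ _ hgsurj) ?_ ?_
    · rw [isSMulRegular_iff_right_eq_zero_of_smul]
      intro x hx
      obtain ⟨x, rfl⟩ := Ideal.Quotient.mk_surjective x
      rw [smul_eq_mul, ← map_mul, Ideal.Quotient.eq_zero_iff_mem, hspan, map_mul, RingEquiv.apply_symm_apply] at hx
      rw [Ideal.Quotient.eq_zero_iff_mem, hspan]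
      exact WeilNumLib.isDomain_quotient _ hq (by rw [mul_comm]; exact hx) (WeilNumLib.lam_h_ne_zero p e π hint D h hh)
    · ext x
      obtain ⟨x, rfl⟩ := Ideal.Quotient.mk_surjective x
      rw [RingHom.mem_ker]
      show g x = 0 ↔ _
      rw [hg, ← RingHom.mem_ker, hker, Ideal.mem_span_pair, Ideal.mem_span_singleton']
      constructor
      · rintro ⟨a, b, hab⟩
        refine ⟨Ideal.Quotient.mk _ (ψ.symm b), ?_⟩
        rw [← map_mul, Ideal.Quotient.eq, hspan, map_sub, map_mul, RingEquiv.apply_symm_apply,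
          RingEquiv.apply_symm_apply, Ideal.mem_span_singleton']
        exact ⟨-a, by linear_combination -hab⟩
      · rintro ⟨y, hy⟩
        obtain ⟨y, rfl⟩ := Ideal.Quotient.mk_surjective y
        rw [← map_mul, Ideal.Quotient.eq, hspan, map_sub, map_mul, RingEquiv.apply_symm_apply,
          Ideal.mem_span_singleton'] at hy
        obtain ⟨a, ha⟩ := hy
        exact ⟨-a, ψ y, by linear_combination -ha⟩

end Groth.Agent.S17985
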