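import Groth.Statements.S17987
import Groth.Agent.WeilNumLib.Ordinary
-- import your own Groth.Agent.* helpers here

set_option autoImplicit false
universe u
open scoped Classical
open WeilNum

namespace Groth.Agent.S17987

/-- Let p be a prime, e ≥ 1 and q = p^e, and let (π_i) be a finite family of nonreal Weil q-numbers: π_i
lies in a field K_i of characteristic zero, is integral over ℤ with minimal polynomial P_i, every
complex root of P_i has absolute value √q, and no complex root of P_i is real; in particular deg P_i
= 2d_i is even. Call π_i ordinary when exactly half of the roots of P_i in an algebraic closure of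
ℚ_p, counted with multiplicity, are p-adic units (have absolute value 1). Then all π_i are ordinary
if and only if p does not divide ∏_i a_{d_i}, the product of the middle coefficients of the P_i
(this product is the value at F = V = 0 of the symmetric polynomial h_w of the family). -/
theorem result (p e : ℕ) [Fact p.Prime] (he : 0 < e)
    (ι : Type) [Fintype ι] (K : ι → Type u) [∀ i, Field (K i)] [∀ i, CharZero (K i)] (π : ∀ i, K i)
    (hint : ∀ i, IsIntegral ℤ (π i))
    (hweil : ∀ i, ∀ z ∈ (minpoly ℤ (π i)).aroots ℂ, ‖z‖ = Real.sqrt ((p : ℝ) ^ e))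
    (hnr : ∀ i, ∀ z ∈ (minpoly ℤ (π i)).aroots ℂ, z.im ≠ 0) :
    (∀ i, 2 * Multiset.card (((minpoly ℤ (π i)).aroots (PadicAlgCl p)).filter (fun z => ‖z‖ = 1)) = (minpoly ℤ (π i)).natDegree) ↔
      ¬ ((p : ℤ) ∣ ∏ i, (minpoly ℤ (π i)).coeff ((minpoly ℤ (π i)).natDegree / 2)) := by
  classical
  have hp : Prime (p : ℤ) := Nat.prime_iff_prime_int.mp Fact.out
  rw [hp.dvd_finset_prod_iff]
  push Not
  simp only [Finset.mem_univ, forall_true_left]
  refine forall_congr' fun i => ?_
  -- the degree is even since no complex root is real
  obtain ⟨D, hD⟩ : ∃ D, (minpoly ℤ (π i)).natDegree = 2 * D := by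
    rcases Nat.even_or_odd (minpoly ℤ (π i)).natDegree with ⟨D, hD⟩ | hodd
    · exact ⟨D, by omega⟩
    · exfalso
      set P := minpoly ℤ (π i) with hP
      set S := P.aroots ℂ with hS
      have hcard : Multiset.card S = P.natDegree := by
        rw [hS, Polynomial.aroots_def, IsAlgClosed.card_roots_eq_natDegree,
          (minpoly.monic (hint i)).natDegree_map]
      have hconj : S.map (starRingEnd ℂ) = S := by
        rw [hS, Polynomial.aroots_def, Polynomial.roots_map_of_injective_of_card_eq_natDegree
          (starRingEnd ℂ).injective IsAlgClosed.card_roots_eq_natDegree, Polynomial.map_map]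
        congr 1
        exact congrArg (fun g => P.map g) (RingHom.ext_int _ _)
      have hneg : S.filter (fun z => ¬ 0 < z.im) =
          (S.filter fun z => 0 < z.im).map (starRingEnd ℂ) := by
        conv_lhs => rw [← hconj, Multiset.filter_map]
        refine congrArg (Multiset.map _) (Multiset.filter_congr fun z hz => ?_)
        have := hnr i z hz
        simp only [Function.comp_apply, Complex.conj_im, not_lt, neg_nonpos]
        exact ⟨fun h => lt_of_le_of_ne h (Ne.symm this), le_of_lt⟩
      have hsum := congrArg Multiset.card (Multiset.filter_add_not (fun z : ℂ => 0 < z.im) S)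
      rw [Multiset.card_add, hneg, Multiset.card_map, hcard] at hsum
      obtain ⟨c, hc⟩ := hodd
      omega
  rw [show (minpoly ℤ (π i)).natDegree / 2 = D by omega]
  exact Groth.Agent.WeilNumLib.ordinary_iff p e he (minpoly.monic (hint i)) D hD (hweil i)

end Groth.Agent.S17987
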