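import Groth.Statements.S17988
import Groth.Agent.H1Refl.Torsionless
import Groth.Agent.H1Refl.Gorenstein

set_option autoImplicit false
universe u
open CAlg

namespace Groth.Agent.S17988

/-- Let Λ be a principal ideal domain and S a commutative Λ-algebra which is finitely generated and free
as a Λ-module and reduced as a ring; let M be a finitely generated S-module. Then M is torsionless
(the canonical map M → M** to the double S-dual is injective) if and only if M is free as a
Λ-module. If in addition S is a Gorenstein ring (it has Krull dimension at most 1, being finite over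
Λ), then M is reflexive (M → M** bijective) if and only if M is free as a Λ-module, so that for such
S torsionless and reflexive finitely generated modules coincide. The published statement is the case
Λ = ℤ, resp. Λ = ℤ_ℓ for a prime ℓ, with S the minimal central order R_w of a finite set of Weil
q-numbers, resp. its ℓ-adic completion R_w ⊗ ℤ_ℓ, under the assumption that R_w is Gorenstein; the
argument given there uses only that S is finite free over Λ, reduced, and (for reflexivity)
Gorenstein of dimension one. -/
theorem result (Λ : Type u) [CommRing Λ] [IsDomain Λ] [IsPrincipalIdealRing Λ]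
    (S : Type u) [CommRing S] [Algebra Λ S] [Module.Finite Λ S] [Module.Free Λ S] [IsReduced S]
    (M : Type u) [AddCommGroup M] [Module S M] [Module Λ M] [IsScalarTower Λ S M] [Module.Finite S M] :
    (Function.Injective (Module.Dual.eval S M) ↔ Module.Free Λ M) ∧
      (LocCoh.IsGorensteinRing S → (Module.IsReflexive S M ↔ Module.Free Λ M)) := by
  classical
  haveI : IsNoetherianRing S := Algebra.FiniteType.isNoetherianRing Λ S
  haveI : Module.Finite Λ M := Module.Finite.trans S M
  haveI : Algebra.IsIntegral Λ S := Algebra.IsIntegral.of_finite Λ S
  have key : Function.Injective (Module.Dual.eval S M) ↔ Module.Free Λ M := by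
    constructor
    · intro h
      haveI : Module.IsTorsionFree Λ M := Module.isTorsionFree_iff_smul_eq_zero.2 fun c x hcx => by
        rcases eq_or_ne c 0 with hc | hc
        · exact Or.inl hc
        · refine Or.inr (h ?_)
          rw [map_zero]
          refine LinearMap.ext fun φ => ?_
          have h1 : c • φ x = 0 := by rw [← LinearMap.map_smul_of_tower, hcx, map_zero]
          exact (smul_eq_zero.mp h1).resolve_left hc
      exact inferInstance
    · intro hfree
      rw [← LinearMap.ker_eq_bot, Submodule.eq_bot_iff]
      intro m hm
      by_contra hm0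
      obtain ⟨P, hP, hPle⟩ := exists_le_isAssociatedPrime_of_isNoetherianRing S m hm0
      obtain ⟨hPp, y, hy⟩ := isAssociatedPrime_iff.mp hP
      haveI := hPp
      have hy0 : y ≠ 0 := fun h0 => hPp.ne_top (by rw [hy, h0]; ext; simp)
      have hPc : ∀ c : Λ, algebraMap Λ S c ∈ P → c = 0 := by
        intro c hc
        rw [hy, Submodule.mem_colon_singleton, Submodule.mem_bot, algebraMap_smul] at hc
        exact (smul_eq_zero.mp hc).resolve_right hy0
      have hmin : P ∈ minimalPrimes S := by
        refine ⟨⟨hPp, bot_le⟩, fun q hq hqP => ?_⟩
        haveI := hq.1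
        intro x hx
        by_contra hxq
        have hlt := Ideal.comap_lt_comap_of_integral_mem_sdiff (R := Λ) hqP ⟨hx, hxq⟩
          (Algebra.IsIntegral.isIntegral x)
        obtain ⟨c, hc, hcq⟩ := SetLike.exists_of_lt hlt
        exact hcq (by rw [hPc c hc]; exact Submodule.zero_mem _)
      obtain ⟨φ, hφ⟩ := H1Refl.exists_functional hmin (m := m) fun u hu => hPle (by
        rw [Submodule.mem_colon_singleton, hu]; exact Submodule.zero_mem _)
      exact hφ (LinearMap.congr_fun (LinearMap.mem_ker.mp hm) φ)
  refine ⟨key, fun hG => ⟨fun h => key.mp h.bijective_dual_eval'.1, fun h => ?_⟩⟩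
  refine H1Refl.isReflexive_of_injective_eval hG ?_ M (key.mpr h)
  refine le_trans (Order.krullDim_le_of_strictMono (PrimeSpectrum.comap (algebraMap Λ S)) ?_) ?_
  · intro p q hpq
    have hle : p.asIdeal ≤ q.asIdeal := hpq.le
    obtain ⟨x, hx, hxp⟩ := SetLike.exists_of_lt (show p.asIdeal < q.asIdeal from hpq)
    exact Ideal.comap_lt_comap_of_integral_mem_sdiff (R := Λ) hle ⟨hx, hxp⟩ (Algebra.IsIntegral.isIntegral x)
  · exact Ring.krullDimLE_iff.mp (inferInstance : Ring.KrullDimLE 1 Λ)

end Groth.Agent.S17988
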