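import Groth.Statements.S17989
import Groth.Agent.LC.GorHull
import Groth.Agent.LC.DepthExt
import Groth.Agent.LC.GorLoc
import Groth.Agent.HomDimLib.Local

set_option autoImplicit false
universe u
open CategoryTheory
open CAlg

namespace Groth.Agent.S17989

/-- Let S be a Gorenstein ring (a Noetherian ring all of whose localizations at prime ideals have finite
injective dimension as modules over themselves) of Krull dimension 1, and let M be a finitely
generated reflexive S-module (the canonical map M → M** is bijective). Then Ext¹_S(M, S) = 0. -/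
theorem result (S : Type u) [CommRing S]
    [LocCoh.IsGorensteinRing S] (hdim : ringKrullDim S = 1)
    (M : Type u) [AddCommGroup M] [Module S M] [Module.Finite S M] [Module.IsReflexive S M] :
    Subsingleton (Abelian.Ext (ModuleCat.of S M) (ModuleCat.of S S) 1) := by
  have h2 : ∀ (Q : Type u) [AddCommGroup Q] [Module S Q] [Module.Finite S Q],
      Subsingleton (Abelian.Ext (ModuleCat.of S Q) (ModuleCat.of S S) 2) := fun Q _ _ _ => by
    refine HomDimLib.ext_subsingleton_of_forall_localized Q S 2 fun p hp => ?_
    haveI : LocCoh.IsGorensteinLocalRing (Localization p.primeCompl) :=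
      LocCoh.IsGorensteinRing.isGorensteinLocalRing_localization p
    obtain ⟨d, hd, -, hv⟩ := LC.gorenstein_basic (R := Localization p.primeCompl)
    have hle : ringKrullDim (Localization.AtPrime p) ≤ ringKrullDim S := by
      rw [IsLocalization.AtPrime.ringKrullDim_eq_height p (Localization.AtPrime p)]
      exact Ideal.height_le_ringKrullDim_of_ne_top hp.ne_top
    have hd1 : d < 2 := by
      rw [show ringKrullDim (Localization.AtPrime p) = (d : WithBot ℕ∞) from hd, hdim] at hle
      have : d ≤ 1 := by exact_mod_cast hle
      omega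
    haveI : Module.Finite (Localization p.primeCompl) (LocalizedModule p.primeCompl Q) :=
      Module.Finite.of_isLocalizedModule p.primeCompl (LocalizedModule.mkLinearMap p.primeCompl Q)
    have e : LocalizedModule p.primeCompl S ≃ₗ[Localization p.primeCompl] Localization p.primeCompl :=
      LinearEquiv.refl _ _
    exact (LC.extCongr (Iso.refl _) e.toModuleIso 2).toEquiv.subsingleton_congr.mpr
      (hv (LocalizedModule p.primeCompl Q) 2 hd1)
  obtain ⟨b, g, hg⟩ := Module.Finite.exists_fin' S (Module.Dual S M)
  let e := Module.evalEquiv S M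
  let ι₀ : M →ₗ[S] Module.Dual S (Fin b → S) := g.dualMap ∘ₗ e.toLinearMap
  have hι : Function.Injective ι₀ := (LinearMap.dualMap_injective_of_surjective hg).comp e.injective
  let ι : M →ₗ[S] (Fin b → S) := ((Pi.basisFun S (Fin b)).dualBasis.equivFun).toLinearMap ∘ₗ ι₀
  have hι' : Function.Injective ι := ((Pi.basisFun S (Fin b)).dualBasis.equivFun).injective.comp hι
  let C : ShortComplex (ModuleCat.{u} S) := ShortComplex.mk (X₁ := ModuleCat.of S M)
    (X₂ := ModuleCat.of S (Fin b → S)) (X₃ := ModuleCat.of S ((Fin b → S) ⧸ LinearMap.range ι))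
    (ModuleCat.ofHom ι) (ModuleCat.ofHom (LinearMap.range ι).mkQ) (ModuleCat.hom_ext (LinearMap.range_mkQ_comp ι))
  have hC : C.ShortExact :=
    { exact := (ShortComplex.ShortExact.moduleCat_exact_iff_function_exact _).2
        (LinearMap.exact_map_mkQ_range ι)
      mono_f := (ModuleCat.mono_iff_injective _).2 hι'
      epi_g := (ModuleCat.epi_iff_surjective _).2 (Submodule.mkQ_surjective _) }
  haveI : Projective C.X₂ := (IsProjective.iff_projective (R := S) (Fin b → S)).1 inferInstance
  refine subsingleton_of_forall_eq 0 fun x => ?_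
  obtain ⟨y, hy⟩ := Abelian.Ext.contravariant_sequence_exact₁ hC (ModuleCat.of S S) x (n₁ := 2) rfl
    (@Subsingleton.elim _ (h2 _) _ _)
  rw [← hy, Abelian.Ext.eq_zero_of_projective y, Abelian.Ext.comp_zero]

end Groth.Agent.S17989
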