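import Groth.Statements.S17990
import Groth.Agent.H1Refl.Torsionless

set_option autoImplicit false
universe u
open CAlg

namespace Groth.Agent.S17990

/-- Let S be a reduced Gorenstein ring (Noetherian, all localizations at primes of finite injective
dimension over themselves) whose Krull dimension is ≤ 1; let M be a finitely generated S-module
which is reflexive (M → M** bijective). Then M is locally free of rank 1, i.e. the localization M_P
is isomorphic to S_P as an S_P-module for every prime ideal P of S, if and only if the natural ring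
map S → End_S(M), sending s to multiplication by s, is bijective. -/
theorem result (S : Type u) [CommRing S]
    [IsReduced S] [LocCoh.IsGorensteinRing S] (hdim : ringKrullDim S ≤ 1)
    (M : Type u) [AddCommGroup M] [Module S M] [Module.Finite S M] [Module.IsReflexive S M] :
    (∀ (P : Ideal S) (_ : P.IsPrime),
        Nonempty (LocalizedModule P.primeCompl M ≃ₗ[Localization.AtPrime P] Localization.AtPrime P)) ↔
      Function.Bijective (algebraMap S (Module.End S M)) := by
  classical
  let L : ∀ (P : Ideal S) [P.IsPrime], M →ₗ[S] LocalizedModule P.primeCompl M :=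
    fun P _ => LocalizedModule.mkLinearMap P.primeCompl M
  constructor
  · intro hloc
    refine ⟨fun a b hab => ?_, fun h => ?_⟩
    · have hz : ∀ x : M, (a - b) • x = 0 := fun x => by
        rw [sub_smul, sub_eq_zero]
        exact LinearMap.congr_fun hab x
      rw [← sub_eq_zero]
      by_contra hne
      obtain ⟨P, hP, hPle⟩ := Ideal.exists_le_maximal (LinearMap.ker (LinearMap.toSpanSingleton S S (a - b)))
        (fun htop => hne (by simpa using (htop ▸ Submodule.mem_top :
          (1 : S) ∈ LinearMap.ker (LinearMap.toSpanSingleton S S (a - b)))))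
      haveI := hP.isPrime
      obtain ⟨e⟩ := hloc P inferInstance
      obtain ⟨⟨y, t⟩, hy⟩ := IsLocalizedModule.surj P.primeCompl (L P) (e.symm 1)
      have h0 : algebraMap S (Localization.AtPrime P) ((a - b) * t) • e.symm 1 = 0 := by
        rw [algebraMap_smul, mul_smul]
        show (a - b) • (t • e.symm 1) = 0
        rw [hy, ← map_smul, hz, map_zero]
      have h1 : algebraMap S (Localization.AtPrime P) ((a - b) * t) = 0 := by
        have := congrArg e h0
        rw [map_smul, e.apply_symm_apply, map_zero, smul_eq_mul, mul_one] at this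
        exact this
      obtain ⟨u, hu⟩ := (IsLocalization.map_eq_zero_iff P.primeCompl _ _).mp h1
      exact P.primeCompl.mul_mem u.2 t.2 (hPle (by
        show (u.1 * t.1) • (a - b) = 0
        rw [smul_eq_mul]; linear_combination hu))
    · let I : Ideal S := Submodule.comap (LinearMap.toSpanSingleton S (Module.End S M) h)
        (LinearMap.range (Algebra.linearMap S (Module.End S M)))
      suffices htop : I = ⊤ by
        have h1 : (1 : S) ∈ I := htop ▸ Submodule.mem_top
        simpa [I] using h1
      by_contra hne
      obtain ⟨P, hP, hPle⟩ := Ideal.exists_le_maximal I hne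
      haveI := hP.isPrime
      obtain ⟨e⟩ := hloc P inferInstance
      let hP' := IsLocalizedModule.mapExtendScalars P.primeCompl (L P) (L P) (Localization.AtPrime P) h
      obtain ⟨a, t, hat⟩ := IsLocalization.exists_mk'_eq P.primeCompl (e (hP' (e.symm 1)))
      have heq : (L P).comp ((t : S) • h) = (L P).comp (a • LinearMap.id) := by
        refine LinearMap.ext fun m => e.injective ?_
        have h1 : L P (h m) = hP' (L P m) := (IsLocalizedModule.map_apply P.primeCompl (L P) (L P) h m).symm
        have h2 : L P m = e (L P m) • e.symm 1 := by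
          rw [← map_smul, smul_eq_mul, mul_one, e.symm_apply_apply]
        have h3 : e (L P (h m)) = e (L P m) * IsLocalization.mk' (Localization.AtPrime P) a t := by
          rw [hat, h1]
          conv_lhs => rw [h2, map_smul, map_smul, smul_eq_mul]
        simp only [LinearMap.comp_apply, LinearMap.smul_apply, LinearMap.id_coe, id_eq, map_smul]
        rw [← algebraMap_smul (Localization.AtPrime P) (t : S), ← algebraMap_smul (Localization.AtPrime P) a,
          map_smul, map_smul, smul_eq_mul, smul_eq_mul, h3, mul_left_comm]
        rw [IsLocalization.mk'_spec']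
        ring
      obtain ⟨u, hu⟩ := Module.Finite.exists_smul_of_comp_eq_of_isLocalizedModule P.primeCompl (L P) _ _ heq
      refine P.primeCompl.mul_mem u.2 t.2 (hPle ?_)
      refine ⟨u.1 * a, ?_⟩
      rw [LinearMap.toSpanSingleton_apply, mul_smul]
      refine Eq.trans ?_ hu.symm
      refine LinearMap.ext fun m => ?_
      simp [Submonoid.smul_def, smul_comm a u.1 m]
  · intro hb P hP
    have hfaith : ∀ a : S, (∀ x : M, a • x = 0) → a = 0 := fun a ha => hb.1 (by
      rw [map_zero]; exact LinearMap.ext ha)
    let τ : Ideal S := Ideal.span (Set.range fun q : (M →ₗ[S] S) × M => q.1 q.2)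
    have hker : ∀ a : S, (∀ v ∈ τ, a * v = 0) → a = 0 := by
      intro a ha
      refine hfaith a fun x => (Module.IsReflexive.bijective_dual_eval' (R := S) (M := M)).1 ?_
      rw [map_zero]
      refine LinearMap.ext fun φ => ?_
      show φ (a • x) = 0
      rw [map_smul, smul_eq_mul]
      exact ha _ (Ideal.subset_span ⟨(φ, x), rfl⟩)
    have htop : τ = ⊤ := by
      by_contra hne
      obtain ⟨n, hn, hle⟩ := Ideal.exists_le_maximal τ hne
      haveI := hn.isPrime
      have hnot : ¬ ((τ : Set S) ⊆ ⋃ q ∈ (minimalPrimes S), (q : Set S)) := by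
        intro hsub
        obtain ⟨q, hq, hτq⟩ : ∃ q ∈ minimalPrimes S, τ ≤ q := by
          rw [← (minimalPrimes.finite_of_isNoetherianRing S).coe_toFinset] at hsub
          obtain ⟨q, hq, hle'⟩ := (Ideal.subset_union_prime (⊥ : Ideal S) (⊥ : Ideal S)
            (fun i hi _ _ => ((Set.Finite.mem_toFinset _).mp hi).1.1)).mp hsub
          exact ⟨q, (Set.Finite.mem_toFinset _).mp hq, hle'⟩
        have hann : Module.annihilator S S = ⊥ := by
          rw [Module.annihilator_eq_bot]
          infer_instance
        have hass := Module.associatedPrimes.minimalPrimes_annihilator_subset_associatedPrimes S S (by rw [hann]; exact hq)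
        obtain ⟨hqp, z, hz⟩ := isAssociatedPrime_iff.mp hass
        refine hqp.ne_top (Ideal.eq_top_iff_one _ |>.mpr ?_)
        rw [hz, Submodule.mem_colon_singleton, one_smul, Submodule.mem_bot]
        refine hker z fun v hv => ?_
        have := hτq hv
        rw [hz, Submodule.mem_colon_singleton, Submodule.mem_bot, smul_eq_mul] at this
        rwa [mul_comm]
      obtain ⟨c, hcτ, hc⟩ := Set.not_subset.mp hnot
      simp only [Set.mem_iUnion, not_exists] at hc
      have hcreg : ∀ x : S, c * x = 0 → x = 0 := fun x hx => by
        refine IsReduced.eq_zero x ((mem_nilradical (x := x)).mp ?_)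
        rw [nilradical, ← Ideal.sInf_minimalPrimes, Ideal.mem_sInf]
        intro q hq
        haveI := hq.1.1
        exact (Ideal.IsPrime.mem_or_mem inferInstance (hx ▸ q.zero_mem : c * x ∈ q)).resolve_left (hc q hq)
      have hnmin : n ∈ (Ideal.span {c}).minimalPrimes := by
        refine ⟨⟨inferInstance, (Ideal.span_singleton_le_iff_mem n).mpr (hle hcτ)⟩, fun q hq hqn => ?_⟩
        haveI := hq.1
        rcases eq_or_lt_of_le hqn with h | h
        · exact h.ge
        · exfalso
          obtain ⟨q₀, hq₀, hq₀q⟩ := Ideal.exists_minimalPrimes_le (I := (⊥ : Ideal S)) (J := q) bot_le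
          haveI := hq₀.1.1
          have hne' : q₀ ≠ q := fun e => hc q₀ hq₀ (e ▸ hq.2 (Ideal.mem_span_singleton_self c))
          rcases Order.krullDim_le_one_iff.mp hdim ⟨q, inferInstance⟩ with hmin | hmax
          · exact hne' (le_antisymm hq₀q (hmin (b := ⟨q₀, inferInstance⟩) hq₀q))
          · exact h.not_ge (hmax (b := ⟨n, inferInstance⟩) h.le)
      have hann : Module.annihilator S (S ⧸ Ideal.span {c}) = Ideal.span {c} := Ideal.annihilator_quotient
      obtain ⟨-, z', hz'⟩ := isAssociatedPrime_iff.mp
        (Module.associatedPrimes.minimalPrimes_annihilator_subset_associatedPrimes S (S ⧸ Ideal.span {c})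
          (hann.symm ▸ hnmin))
      obtain ⟨z, rfl⟩ := Submodule.Quotient.mk_surjective _ z'
      have hzn : ∀ v : S, v ∈ n ↔ c ∣ v * z := fun v => by
        rw [hz', Submodule.mem_colon_singleton, Submodule.mem_bot, ← Submodule.Quotient.mk_smul,
          Submodule.Quotient.mk_eq_zero, Ideal.mem_span_singleton, smul_eq_mul]
      have hzc : ¬ c ∣ z := fun hd => hn.ne_top ((Ideal.eq_top_iff_one _).mpr ((hzn 1).mpr (by rwa [one_mul])))
      have hdiv : ∀ (φ : M →ₗ[S] S) (y : M), ∃ w, c * w = z * φ y := fun φ y => by
        obtain ⟨w, hw⟩ := (hzn _).mp (hle (Ideal.subset_span ⟨(φ, y), rfl⟩))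
        exact ⟨w, hw.symm.trans (mul_comm _ _)⟩
      choose W hW using hdiv
      have hcancel : ∀ x y : S, c * x = c * y → x = y := fun x y h =>
        sub_eq_zero.mp (hcreg _ (by rw [mul_sub, h, sub_self]))
      let Φ : (M →ₗ[S] S) →ₗ[S] (M →ₗ[S] S) :=
        { toFun := fun φ =>
            { toFun := W φ
              map_add' := fun y y' => hcancel _ _ (by rw [mul_add, hW, hW, hW, map_add, mul_add])
              map_smul' := fun r y => hcancel _ _ (by
                rw [RingHom.id_apply, smul_eq_mul, mul_left_comm, hW, hW, map_smul, smul_eq_mul, mul_left_comm]) }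
          map_add' := fun φ ψ => LinearMap.ext fun y => hcancel _ _ (by
            simp only [LinearMap.coe_mk, AddHom.coe_mk, LinearMap.add_apply, mul_add, hW])
          map_smul' := fun r φ => LinearMap.ext fun y => hcancel _ _ (by
            simp only [LinearMap.coe_mk, AddHom.coe_mk, LinearMap.smul_apply, RingHom.id_apply, smul_eq_mul,
              hW, mul_left_comm c r, mul_left_comm z r]) }
      let g : Module.End S M :=
        (Module.evalEquiv S M).symm.toLinearMap.comp (Φ.dualMap.comp (Module.Dual.eval S M))
      obtain ⟨s, hs⟩ := hb.2 g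
      have hg : ∀ φ y, φ (g y) = Φ φ y := fun φ y => by
        simp only [g, LinearMap.comp_apply, LinearEquiv.coe_coe, Module.apply_evalEquiv_symm_apply]
        rfl
      have hzero : z - c * s = 0 := by
        refine hker _ fun v hv => ?_
        induction hv using Submodule.span_induction with
        | mem v hv =>
          obtain ⟨⟨φ, y⟩, rfl⟩ := hv
          have h1 : s * φ y = W φ y := by
            have h2 := hg φ y
            rw [← hs, Module.algebraMap_end_apply, map_smul, smul_eq_mul] at h2
            exact h2
          show (z - c * s) * φ y = 0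
          rw [sub_mul, mul_assoc, h1, hW, sub_self]
        | zero => exact mul_zero _
        | add a b _ _ ha hb => rw [mul_add, ha, hb, add_zero]
        | smul r a _ ha => rw [smul_eq_mul, mul_left_comm, ha, mul_zero]
      exact hzc ⟨s, sub_eq_zero.mp hzero⟩
    have hPn : ¬ τ ≤ P := fun h => hP.ne_top (top_le_iff.mp (htop ▸ h))
    obtain ⟨t, ⟨φ, y⟩, rfl, htP⟩ : ∃ (t : S) (q : (M →ₗ[S] S) × M), q.1 q.2 = t ∧ t ∉ P := by
      by_contra! h
      exact hPn (Ideal.span_le.mpr (by rintro _ ⟨q, rfl⟩; exact h _ q rfl))
    simp only at htP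
    obtain ⟨s, hs⟩ := hb.2 (φ y • LinearMap.id - φ.smulRight y)
    have hsy : ∀ m : M, φ y • m - φ m • y = s • m := fun m => by
      have := LinearMap.congr_fun hs m
      simpa [Module.algebraMap_end_apply] using this.symm
    have hs0 : s * φ y = 0 := by
      have h1 := congrArg φ (hsy y)
      rw [sub_self, map_zero, map_smul, smul_eq_mul] at h1
      exact h1.symm
    have hgen : ∀ m : M, (φ y * φ y) • m = (φ y * φ m) • y := fun m => by
      have h1 := congrArg (fun x => φ y • x) (hsy m)
      simp only [smul_sub, smul_smul] at h1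
      rw [mul_comm (φ y) s, hs0, zero_smul, sub_eq_zero] at h1
      exact h1
    let A := Localization.AtPrime P
    let g : A →ₗ[A] LocalizedModule P.primeCompl M := LinearMap.toSpanSingleton A _ (L P y)
    refine ⟨(LinearEquiv.ofBijective g ⟨?_, ?_⟩).symm⟩
    · rw [← LinearMap.ker_eq_bot, Submodule.eq_bot_iff]
      intro x hx
      obtain ⟨a, t, rfl⟩ := IsLocalization.exists_mk'_eq P.primeCompl x
      have h0 : L P (a • y) = 0 := by
        have h1 : IsLocalization.mk' A a t • L P y = 0 := hx
        have h2 := congrArg (fun w => algebraMap S A t • w) h1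
        simp only [smul_smul, smul_zero, IsLocalization.mk'_spec'] at h2
        rw [map_smul, ← algebraMap_smul A a]
        exact h2
      obtain ⟨u, hu⟩ := (IsLocalizedModule.eq_zero_iff P.primeCompl (L P)).mp h0
      rw [IsLocalization.mk'_eq_zero_iff]
      refine ⟨⟨u.1 * φ y, P.primeCompl.mul_mem u.2 htP⟩, ?_⟩
      have h3 := congrArg φ hu
      rw [Submonoid.smul_def, smul_smul, map_smul, map_zero, smul_eq_mul] at h3
      show u.1 * φ y * a = 0
      linear_combination h3
    · intro w
      obtain ⟨⟨m, t⟩, hm⟩ := IsLocalizedModule.surj P.primeCompl (L P) w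
      refine ⟨IsLocalization.mk' A (φ y * φ m) (⟨φ y * φ y, P.primeCompl.mul_mem htP htP⟩ * t), ?_⟩
      refine IsUnit.smul_left_cancel
        (IsLocalization.map_units A (⟨φ y * φ y, P.primeCompl.mul_mem htP htP⟩ * t : P.primeCompl)) |>.mp ?_
      rw [LinearMap.toSpanSingleton_apply, smul_smul, IsLocalization.mk'_spec', algebraMap_smul, algebraMap_smul,
        ← map_smul, ← hgen, map_smul, Submonoid.coe_mul, mul_smul]
      exact (congrArg (fun x => φ y • φ y • x) hm.symm).trans (by simp only [mul_smul, Submonoid.smul_def])
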