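import Groth.Statements.S18002
import Groth.Agent.TateIsog.MinOrder

set_option autoImplicit false
set_option backward.isDefEq.respectTransparency false
set_option backward.isDefEq.respectTransparency.types false
set_option maxHeartbeats 1000000
set_option linter.style.haveILetI false
universe u
open CategoryTheory MonoidalCategory CartesianMonoidalCategory MonObj GrpObj AlgebraicGeometry MvPolynomial
open AbVar

namespace Groth.Agent.S18002
open Groth.Agent

/-- (b) ⇒ (a): the implication towards freeness of the Tate modules at the primes ℓ ≠ p; let p be a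
prime and k a field with p elements; let (π_j) be a finite family of pairwise nonconjugate nonreal
Weil p-numbers (π_j in a field K_j of characteristic zero, integral over ℤ with minimal polynomial
P_j, all complex roots of P_j of absolute value √p and none real, P_i ≠ P_j for i ≠ j) and R_w ⊆ ∏_j
K_j the minimal central order, the image of ℤ[F, V] → ∏_j K_j, F ↦ (π_j), V ↦ (p/π_j). Let A be an
abelian variety over k (a proper, geometrically integral commutative group scheme over k, with
p-Frobenius π_A) together with a ring isomorphism ρ : R_w ≅ End(A) with ρ(F) = π_A, so that the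
endomorphism ring of A is the minimal central order. Let Ω be an algebraic closure of k, ℓ a prime
invertible in k, and T_ℓ(A) the ℓ-adic Tate module of Ω-valued points with its action of End(A).
Then T_ℓ(A) is free of rank one over End(A) ⊗ ℤ_ℓ: there is an element x of T_ℓ(A) such that for
every ℤ-basis s_1, …, s_n of End(A) the family T_ℓ(s_i)(x) is a ℤ_ℓ-basis of T_ℓ(A) (linearly
independent and spanning). The published statement is an equivalence, for A isogenous to the product
of the simple abelian varieties attached to the π_j, between End(A) = R_w and freeness of rank one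
of the Tate modules at all primes including the Dieudonné module at p; only the implication towards
the primes ℓ ≠ p is stated here. -/
theorem result (p : ℕ) [Fact p.Prime] (k : Type u) [Field k] [Finite k] (hk : Nat.card k = p)
    (J : Type) [Fintype J] (K : J → Type) [∀ j, Field (K j)] [∀ j, CharZero (K j)] (ϖ : ∀ j, K j)
    (hint : ∀ j, IsIntegral ℤ (ϖ j))
    (hweil : ∀ j, ∀ z ∈ (minpoly ℤ (ϖ j)).aroots ℂ, ‖z‖ = Real.sqrt p)
    (hnr : ∀ j, ∀ z ∈ (minpoly ℤ (ϖ j)).aroots ℂ, z.im ≠ 0)
    (hinj : ∀ i j, minpoly ℤ (ϖ i) = minpoly ℤ (ϖ j) → i = j)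
    (A : Over (Spec (CommRingCat.of k))) [GrpObj A] [IsCommMonObj A] [IsProper A.hom] [GeometricallyIntegral A.hom]
    (πA : A ⟶ A) [IsMonHom πA] (hπAb : πA.left.base = 𝟙 _) (hπAle : ∀ U : A.left.Opens, U ≤ πA.left ⁻¹ᵁ U)
    (hπAapp : ∀ (U : A.left.Opens) (s : Γ(A.left, U)), (πA.left.appLE U U (hπAle U)).hom s = s ^ p)
    (ρ : (MvPolynomial.aeval ![fun j => ϖ j, fun j => (p : K j) / ϖ j] : MvPolynomial (Fin 2) ℤ →ₐ[ℤ] ((j : J) → K j)).range ≃+* EndAV.End A)
    (hρ : ρ ⟨(MvPolynomial.aeval ![fun j => ϖ j, fun j => (p : K j) / ϖ j] : MvPolynomial (Fin 2) ℤ →ₐ[ℤ] ((j : J) → K j)) (X 0), AlgHom.mem_range_self _ _⟩ = EndAV.End.of πA)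
    (Ω : Type u) [Field Ω] [Algebra k Ω] [IsAlgClosure k Ω] (l : ℕ) [Fact l.Prime] (hl : (l : k) ≠ 0) :
    ∃ x : AbDual.TateMod A l (SGA7.pt Ω), ∀ (n : ℕ) (b : Module.Basis (Fin n) ℤ (EndAV.End A)),
      LinearIndependent ℤ_[l] (fun i => EndAV.End.tateRep l (SGA7.pt Ω) (b i) x) ∧
        Submodule.span ℤ_[l] (Set.range fun i => EndAV.End.tateRep l (SGA7.pt Ω) (b i) x) = ⊤ := by
  haveI := IsAlgClosure.isAlgClosed k (K := Ω)
  obtain ⟨g, hg⟩ := TorsPtsLib.exists_dim A
  obtain ⟨hfree, hfin, -⟩ := AVHomForm.tate_free Ω l hl A hg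
  haveI : Module.Free ℤ_[l] (AbDual.TateMod A l (SGA7.pt Ω)) := hfree
  haveI : Module.Finite ℤ_[l] (AbDual.TateMod A l (SGA7.pt Ω)) := hfin
  have hπ : WeilLib.IsPowMap (EndAV.End.of πA).toHom.left (Nat.card k) :=
    WeilLib.isPowMap_of_hyp πA.left _ hπAb hπAle (by rw [hk]; exact hπAapp)
  obtain ⟨⟨hliF, hspan⟩, x, hx, hxtop⟩ :=
    TateIsog.tate_minimal (Ω := Ω) l p ϖ hint hweil hinj hl hk (EndAV.End.of πA) hπ ρ hρ rfl
  refine ⟨x, fun n b => ?_⟩
  let evx : Module.End ℤ_[l] (AbDual.TateMod A l (SGA7.pt Ω)) →ₗ[ℤ_[l]] AbDual.TateMod A l (SGA7.pt Ω) :=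
    LinearMap.applyₗ x
  have hb : Submodule.span ℤ_[l] (TateIsog.homSetInt (Ω := Ω) l A A) =
      Submodule.span ℤ_[l] (Set.range fun i => EndAV.End.tateRep l (SGA7.pt Ω) (b i)) := by
    rw [TateIsog.homSetInt_eq_range]
    refine le_antisymm (Submodule.span_le.2 ?_) (Submodule.span_mono ?_)
    · rintro _ ⟨φ, rfl⟩
      show EndAV.End.tateRep l (SGA7.pt Ω) (φ : EndAV.End A) ∈ Submodule.span ℤ_[l] _
      rw [← b.sum_repr (φ : EndAV.End A), map_sum]
      refine sum_mem fun i _ => ?_
      rw [map_zsmul]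
      exact zsmul_mem (Submodule.subset_span (Set.mem_range_self i)) _
    · rintro _ ⟨i, rfl⟩
      exact ⟨b i, rfl⟩
  have htop : Submodule.span ℤ_[l] (Set.range fun i => EndAV.End.tateRep l (SGA7.pt Ω) (b i) x) = ⊤ := by
    have h1 := congrArg (Submodule.map evx) (hb.symm.trans hspan)
    rw [Submodule.map_span, Submodule.map_span, ← Set.range_comp, ← Set.range_comp] at h1
    exact h1.trans hxtop
  have hcard : n = Module.finrank ℤ_[l] (AbDual.TateMod A l (SGA7.pt Ω)) := by
    have hli := AVHomForm.linearIndependent_tateMap (A := A) (B := A) Ω l hl (fun i => (b i : EndAV.End A)) b.linearIndependent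
    have h1 := finrank_span_eq_card hli
    have h2 := finrank_span_eq_card hliF
    rw [Fintype.card_fin] at h1 h2
    have h3 : Submodule.span ℤ_[l] (Set.range fun i => EndAV.Hom.tateMap l (SGA7.pt Ω) (b i : EndAV.End A)) =
        Submodule.span ℤ_[l] (TateIsog.homSetInt (Ω := Ω) l A A) := hb.symm
    exact h1.symm.trans ((congrArg (fun S : Submodule ℤ_[l] _ => Module.finrank ℤ_[l] S) (h3.trans hspan)).trans h2)
  exact ⟨linearIndependent_of_top_le_span_of_card_eq_finrank htop.ge (by rw [Fintype.card_fin, hcard]), htop⟩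

end Groth.Agent.S18002
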