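import Groth.Statements.S18003
import Groth.Agent.WeilNumLib.Order
-- import your own Groth.Agent.* helpers here

set_option autoImplicit false
universe u
open MvPolynomial
open WeilNum

namespace Groth.Agent.S18003

/-- Let p be a prime, e ≥ 1 and q = p^e; let (π_i) be a finite family of pairwise nonconjugate Weil
q-numbers (π_i in a field K_i of characteristic zero, integral over ℤ with minimal polynomial P_i,
all complex roots of P_i of absolute value √q, P_i ≠ P_j for i ≠ j) of even total degree Σ_i deg
P_i, P_w = ∏_i P_i, and R_w ⊆ ∏_i K_i the minimal central order, the image of ℤ[F, V] → ∏_i K_i, F ↦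
(π_i), V ↦ (q/π_i). Let T be a finitely generated free ℤ-module and F_T an endomorphism of T. Then
there exists an R_w-module structure on the additive group T in which the class of F acts as F_T if
and only if P_w(F_T) = 0 (equivalently: F_T is semisimple after tensoring with ℚ, with eigenvalues
among the conjugates of the π_i) and there is an endomorphism V_T of T with F_T ∘ V_T = q. When it
exists the structure is determined by F_T (the class of V acts as V_T = q·F_T⁻¹), and reflexive
R_w-modules are exactly the ℤ-free finitely generated ones, so this identifies the objects of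
Refl(R_w) with such pairs (T, F_T); the uniqueness remark is not part of the formal statement. -/
theorem result (p e : ℕ) [Fact p.Prime] (he : 0 < e)
    (ι : Type) [Fintype ι] (K : ι → Type u) [∀ i, Field (K i)] [∀ i, CharZero (K i)] (π : ∀ i, K i)
    (hint : ∀ i, IsIntegral ℤ (π i))
    (hweil : ∀ i, ∀ z ∈ (minpoly ℤ (π i)).aroots ℂ, ‖z‖ = Real.sqrt ((p : ℝ) ^ e))
    (hinj : ∀ i j, minpoly ℤ (π i) = minpoly ℤ (π j) → i = j)
    (D : ℕ) (hD : ∑ i, (minpoly ℤ (π i)).natDegree = 2 * D)
    (T : Type) [AddCommGroup T] [Module.Finite ℤ T] [Module.Free ℤ T] (FT : T →ₗ[ℤ] T) :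
    (∃ _ : Module (MvPolynomial.aeval ![fun i => π i, fun i => ((p : K i) ^ e) / π i] :
        MvPolynomial (Fin 2) ℤ →ₐ[ℤ] ((i : ι) → K i)).range T,
        ∀ t : T, (⟨(MvPolynomial.aeval ![fun i => π i, fun i => ((p : K i) ^ e) / π i] :
        MvPolynomial (Fin 2) ℤ →ₐ[ℤ] ((i : ι) → K i)) (X 0), AlgHom.mem_range_self _ _⟩ : (MvPolynomial.aeval ![fun i => π i, fun i => ((p : K i) ^ e) / π i] :
        MvPolynomial (Fin 2) ℤ →ₐ[ℤ] ((i : ι) → K i)).range) • t = FT t) ↔
      (Polynomial.aeval FT (∏ i, minpoly ℤ (π i)) = 0 ∧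
        ∃ VT : T →ₗ[ℤ] T, FT ∘ₗ VT = ((p : ℤ) ^ e) • LinearMap.id) := by
  classical
  set f : MvPolynomial (Fin 2) ℤ →ₐ[ℤ] ((i : ι) → K i) := Groth.Agent.WeilNumLib.ev p e π with hf
  have hp : p.Prime := Fact.out
  have hq : (p : ℤ) ^ e ≠ 0 := pow_ne_zero _ (by exact_mod_cast hp.ne_zero)
  constructor
  · rintro ⟨M, hM⟩
    letI := M
    let ρ : f.range →ₐ[ℤ] Module.End ℤ T :=
      (Module.toModuleEnd ℤ (S := f.range) T).toIntAlgHom
    have hρF : ρ ⟨f (X 0), AlgHom.mem_range_self _ _⟩ = FT := LinearMap.ext hM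
    refine ⟨?_, ρ ⟨f (X 1), AlgHom.mem_range_self _ _⟩, ?_⟩
    · rw [← hρF, Polynomial.aeval_algHom_apply]
      have : Polynomial.aeval (⟨f (X 0), AlgHom.mem_range_self _ _⟩ : f.range)
          (∏ i, minpoly ℤ (π i)) = 0 := by
        refine Subtype.ext ?_
        rw [Polynomial.aeval_subalgebra_coe, ZeroMemClass.coe_zero]
        funext i
        rw [Polynomial.aeval_pi_apply₂]
        simp only [hf, Groth.Agent.WeilNumLib.ev_X0]
        rw [map_prod]
        exact Finset.prod_eq_zero (Finset.mem_univ i) (minpoly.aeval ℤ (π i))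
      rw [this, map_zero]
    · have hFV : (⟨f (X 0), AlgHom.mem_range_self _ _⟩ : f.range) * ⟨f (X 1), AlgHom.mem_range_self _ _⟩ =
          algebraMap ℤ f.range ((p : ℤ) ^ e) := by
        refine Subtype.ext ?_
        have h := Groth.Agent.WeilNumLib.ev_rel p e he π hint hweil
        rw [Groth.Agent.WeilNumLib.rel, map_sub, map_mul, sub_eq_zero] at h
        simpa [hf] using h
      rw [← hρF, ← Module.End.mul_eq_comp, ← map_mul, hFV, AlgHom.commutes,
        Algebra.algebraMap_eq_smul_one]
      rfl
  · rintro ⟨hP, VT, hV⟩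
    have hdeg := Groth.Agent.WeilNumLib.natDegree_Pw π hint D hD
    obtain ⟨ε, -, hpal⟩ := Groth.Agent.WeilNumLib.exists_sign_palindrome (Groth.Agent.WeilNumLib.Pw π)
      (Groth.Agent.WeilNumLib.monic_Pw π hint) (p ^ e) (pow_pos hp.pos e) D hdeg
      (Groth.Agent.WeilNumLib.weil_Pw p e π hint hweil)
    rw [Nat.cast_pow] at hpal
    set h := Groth.Agent.WeilNumLib.hRep (Groth.Agent.WeilNumLib.Pw π) D ε with hdef
    have hh : X 0 ^ D * h - Polynomial.aeval (X 0 : MvPolynomial (Fin 2) ℤ) (∏ i, minpoly ℤ (π i)) ∈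
        Ideal.span ({X 0 * X 1 - MvPolynomial.C ((p : ℤ) ^ e)} : Set (MvPolynomial (Fin 2) ℤ)) := by
      refine (Groth.Agent.WeilNumLib.ker_lam ((p : ℤ) ^ e) hq _).mp ?_
      rw [map_sub, hdef, Groth.Agent.WeilNumLib.lam_hRep _ _ D ε hdeg hpal,
        Groth.Agent.WeilNumLib.lam_aeval_X0]
      exact sub_self _
    obtain ⟨hker, -⟩ := Groth.Agent.WeilNumLib.ker_and_rank p e he π hint hweil hinj D hD h hh
    -- `FT` is injective
    have hP0 : (∏ i, minpoly ℤ (π i)).coeff 0 ≠ 0 := by
      rw [Polynomial.coeff_zero_prod]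
      refine Finset.prod_ne_zero_iff.mpr fun i _ h0 => ?_
      have h1 : Polynomial.aeval (0 : ℂ) (minpoly ℤ (π i)) = 0 := by
        rw [Polynomial.aeval_def, Polynomial.eval₂_at_zero, h0, map_zero]
      have h2 := hweil i 0 (Polynomial.mem_aroots.mpr ⟨minpoly.ne_zero (hint i), h1⟩)
      rw [norm_zero, eq_comm, Real.sqrt_eq_zero (by positivity)] at h2
      exact pow_ne_zero e (Nat.cast_ne_zero.mpr hp.ne_zero) h2
    have hFinj : Function.Injective FT := by
      rw [injective_iff_map_eq_zero]
      intro x hx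
      obtain ⟨Q, hQ⟩ : Polynomial.X ∣ (∏ i, minpoly ℤ (π i)) -
          Polynomial.C ((∏ i, minpoly ℤ (π i)).coeff 0) := Polynomial.X_dvd_iff.mpr (by simp)
      rw [sub_eq_iff_eq_add, mul_comm] at hQ
      have h1 := LinearMap.congr_fun hP x
      rw [hQ, map_add, map_mul, Polynomial.aeval_X, Polynomial.aeval_C, LinearMap.add_apply,
        Module.End.mul_apply, hx, map_zero, zero_add, Module.algebraMap_end_apply,
        LinearMap.zero_apply] at h1
      exact (smul_eq_zero.mp h1).resolve_left hP0
    have hcomm : Commute FT VT := by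
      refine LinearMap.ext fun x => hFinj ?_
      have h1 : ∀ y, FT (VT y) = ((p : ℤ) ^ e) • y := fun y => LinearMap.congr_fun hV y
      rw [Module.End.mul_apply, Module.End.mul_apply, h1, h1, map_smul]
    let A := Algebra.adjoin ℤ ({FT, VT} : Set (Module.End ℤ T))
    letI : CommRing A :=
      { (inferInstance : Ring A) with
        mul_comm := fun x y => Subtype.ext (by
          refine Algebra.commute_of_mem_adjoin_of_forall_mem_commute (a := (x : Module.End ℤ T)) y.2 ?_
          intro b hb
          refine (Algebra.commute_of_mem_adjoin_of_forall_mem_commute x.2 ?_).symm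
          intro a ha
          rcases hb with rfl | rfl <;> rcases ha with rfl | rfl
          · exact Commute.refl _
          · exact hcomm
          · exact hcomm.symm
          · exact Commute.refl _) }
    let g : MvPolynomial (Fin 2) ℤ →ₐ[ℤ] A := MvPolynomial.aeval
      ![(⟨FT, Algebra.subset_adjoin (by simp)⟩ : A), ⟨VT, Algebra.subset_adjoin (by simp)⟩]
    have hgh : g h = 0 := by
      obtain ⟨r, hr⟩ := Ideal.mem_span_singleton'.mp hh
      have hrel : g (X 0 * X 1 - MvPolynomial.C ((p : ℤ) ^ e)) = 0 := by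
        refine Subtype.ext ?_
        simp only [g, map_sub, map_mul, MvPolynomial.aeval_X, MvPolynomial.aeval_C]
        rw [Subalgebra.coe_sub, Subalgebra.coe_mul, Subalgebra.coe_algebraMap]
        simp only [Matrix.cons_val_zero, Matrix.cons_val_one]
        rw [Module.End.mul_eq_comp, hV, Algebra.algebraMap_eq_smul_one]
        exact sub_self _
      have h1 := congrArg g hr
      rw [map_mul, hrel, mul_zero, map_sub, eq_comm, sub_eq_zero, map_mul, map_pow,
        ← Polynomial.aeval_algHom_apply] at h1
      have h1' := congrArg (fun z : A => (z : Module.End ℤ T)) h1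
      rw [Subalgebra.coe_mul, Subalgebra.coe_pow, Polynomial.aeval_subalgebra_coe] at h1'
      have hg0 : ((g (X 0) : A) : Module.End ℤ T) = FT := by simp [g]
      rw [hg0, hP] at h1'
      refine Subtype.ext (LinearMap.ext fun x => ?_)
      have h2 : ∀ n y, (FT ^ n) y = 0 → y = 0 := by
        intro n
        induction n with
        | zero => intro y hy; simpa using hy
        | succ n ih =>
          intro y hy
          rw [pow_succ', Module.End.mul_apply] at hy
          exact ih y (hFinj (hy.trans (map_zero FT).symm))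
      exact h2 D _ (LinearMap.congr_fun h1' x)
    have hle : RingHom.ker f ≤ RingHom.ker g := by
      rw [show RingHom.ker f = _ from hker, Ideal.span_le]
      rintro x (rfl | rfl)
      · refine RingHom.mem_ker.mpr (Subtype.ext ?_)
        simp only [g, map_sub, map_mul, MvPolynomial.aeval_X, MvPolynomial.aeval_C]
        rw [Subalgebra.coe_sub, Subalgebra.coe_mul, Subalgebra.coe_algebraMap]
        simp only [Matrix.cons_val_zero, Matrix.cons_val_one]
        rw [Module.End.mul_eq_comp, hV, Algebra.algebraMap_eq_smul_one]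
        exact sub_self _
      · exact RingHom.mem_ker.mpr hgh
    have hsurj : Function.Surjective f.rangeRestrict := by
      rintro ⟨_, z, rfl⟩; exact ⟨z, rfl⟩
    let ψ : f.range →+* A := RingHom.liftOfSurjective f.rangeRestrict.toRingHom hsurj
      ⟨g.toRingHom, fun z hz => hle (congrArg Subtype.val hz)⟩
    refine ⟨Module.compHom T ((A.val.toRingHom).comp ψ), fun t => ?_⟩
    show ((ψ (f.rangeRestrict.toRingHom (X 0)) : A) : Module.End ℤ T) t = FT t
    rw [RingHom.liftOfSurjective_comp_apply]
    simp [g]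

end Groth.Agent.S18003
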