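import Groth.Statements.S18019
import Mathlib

set_option autoImplicit false
universe u
open ClassStk

namespace Groth.Agent.S18019

open Polynomial in
/-- Let R be an integral domain of characteristic 2 and let a be a nonzero element of R, so that x ↦ x +
a defines an R-algebra involution of the polynomial ring R[x] (an action of the group of order two).
A polynomial f is invariant, f(x + a) = f(x), if and only if f belongs to the R-subalgebra generated
by u = x (x + a); in other words the ring of invariants is the polynomial ring R[u]. -/
theorem result (R : Type u) [CommRing R] [IsDomain R]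
    [CharP R 2] (a : R) (ha : a ≠ 0) (f : Polynomial R) :
    f.comp (X + C a) = f ↔ f ∈ Algebra.adjoin R ({X * (X + C a)} : Set (Polynomial R)) := by
  classical
  have hu : (X * (X + C a) : Polynomial R).Monic := monic_X.mul (monic_X_add_C a)
  have h2 : (C a + C a : Polynomial R) = 0 := by
    rw [← C_add, CharTwo.add_self_eq_zero, C_0]
  have hinv : (X * (X + C a) : Polynomial R).comp (X + C a) = X * (X + C a) := by
    rw [mul_comp, add_comp, X_comp, C_comp, add_assoc, h2, add_zero, mul_comm]
  constructor
  · induction hn : f.natDegree using Nat.strong_induction_on generalizing f with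
    | _ n ih =>
      intro hf
      have hdiv := modByMonic_add_div f (X * (X + C a))
      set q := f /ₘ (X * (X + C a)) with hq
      set r := f %ₘ (X * (X + C a)) with hr
      have hu2 : (X * (X + C a) : Polynomial R).natDegree = 2 := by
        rw [monic_X.natDegree_mul (monic_X_add_C a), natDegree_X, natDegree_X_add_C]
      have hrd : r.natDegree ≤ 1 := by
        have := natDegree_modByMonic_lt f hu (fun h => by rw [h, natDegree_one] at hu2; omega)
        rw [← hr, hu2] at this; omega
      have hrc : r.comp (X + C a) = r ∧ q.comp (X + C a) = q := by
        have h1 : r.comp (X + C a) + (X * (X + C a)) * q.comp (X + C a) = r + (X * (X + C a)) * q := by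
          conv_rhs => rw [hdiv, ← hf, ← hdiv]
          rw [add_comp, mul_comp (p := X * (X + C a)), hinv]
        have hd : (r.comp (X + C a)).degree < (X * (X + C a) : Polynomial R).degree := by
          refine lt_of_le_of_lt degree_le_natDegree ?_
          rw [degree_eq_natDegree hu.ne_zero, hu2, natDegree_comp, natDegree_X_add_C]
          exact_mod_cast (show r.natDegree * 1 < 2 by omega)
        have hd2 : r.degree < (X * (X + C a) : Polynomial R).degree :=
          degree_modByMonic_lt f hu
        have e1 := (div_modByMonic_unique (f := r + (X * (X + C a)) * q) (q.comp (X + C a)) (r.comp (X + C a)) hu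
          ⟨h1, hd⟩)
        have e2 := (div_modByMonic_unique (f := r + (X * (X + C a)) * q) q r hu ⟨rfl, hd2⟩)
        exact ⟨e1.2.symm.trans e2.2, e1.1.symm.trans e2.1⟩
      have hr0 : r = C (r.coeff 0) := by
        have e := eq_X_add_C_of_natDegree_le_one hrd
        have h1 := hrc.1
        rw [e] at h1
        simp only [add_comp, mul_comp, C_comp, X_comp] at h1
        have h3 : C (r.coeff 1) * C a = (0 : Polynomial R) := by linear_combination h1
        have h4 : r.coeff 1 = 0 := by
          rw [← C_mul, C_eq_zero, mul_eq_zero] at h3
          exact h3.resolve_right ha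
        conv_lhs => rw [e, h4, C_0, zero_mul, zero_add]
      rw [← hdiv, hr0]
      refine add_mem ((Algebra.adjoin R _).algebraMap_mem _) (mul_mem (Algebra.subset_adjoin rfl) ?_)
      by_cases hq0 : q = 0
      · rw [hq0]; exact zero_mem _
      refine ih q.natDegree ?_ q rfl hrc.2
      rw [← hn, hq, natDegree_divByMonic f hu, hu2]
      have : ¬ f.natDegree < 2 := fun h => hq0 <| by
        rw [hq, divByMonic_eq_zero_iff hu, degree_eq_natDegree hu.ne_zero, hu2]
        exact lt_of_le_of_lt degree_le_natDegree (by exact_mod_cast h)
      omega
  · intro h
    induction h using Algebra.adjoin_induction with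
    | mem x hx => rw [Set.mem_singleton_iff] at hx; rw [hx]; exact hinv
    | algebraMap r => simp
    | add x y _ _ hx hy => rw [add_comp, hx, hy]
    | mul x y _ _ hx hy => rw [mul_comp, hx, hy]

end Groth.Agent.S18019
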