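import Groth.Statements.S1802
import Groth.Agent.H1CdOne.Affine
import Mathlib

set_option autoImplicit false
universe u
open AlgebraicGeometry
open LocCoh

namespace Groth.Agent.S1802

/-- For a Noetherian ring. Let I be an ideal of a Noetherian ring A with cd(A, I) = 1, i.e. H^i_I(M) = 0
for all modules M and all i ≥ 2 but H^1_I(M) ≠ 0 for some M. Then the open subscheme Spec A minus
V(I) is nonempty and affine. -/
theorem result (A : Type u) [CommRing A] [IsNoetherianRing A] (I : Ideal A) (h1 : LocCoh.CdLE A I 1) (h0 : ¬ LocCoh.CdLE A I 0) : Nonempty (↑(LocCoh.puncturedOpen A I) : Scheme.{u}) ∧ IsAffine (↑(LocCoh.puncturedOpen A I) : Scheme.{u}) := by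
  classical
  obtain ⟨r, f, hf⟩ := Submodule.fg_iff_exists_fin_generating_family.mp (IsNoetherian.noetherian I)
  have hf' : Ideal.span (Set.range f) = I := hf
  subst hf'
  let L : (Fin r → A) →ₗ[A] A := Fintype.linearCombination A f
  have hL : LinearMap.range L = Ideal.span (Set.range f) := by
    rw [show Ideal.span (Set.range f) = Submodule.span A (Set.range f) from rfl]
    exact Fintype.range_linearCombination A f
  have hmem : ∀ v, L v ∈ Ideal.span (Set.range f) ^ 1 := fun v => by
    rw [pow_one, ← hL]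
    exact LinearMap.mem_range_self L v
  obtain ⟨c, ψ, hψ⟩ := Groth.Agent.H1CdOne.exists_lift _ h1 (L.codRestrict (Ideal.span (Set.range f) ^ 1) hmem) (fun x => by
    have h2 : (x : A) ∈ Ideal.span (Set.range f) := (pow_one (Ideal.span (Set.range f))).le x.2
    obtain ⟨v, hv⟩ := hL.ge h2
    exact ⟨v, Subtype.ext hv⟩)
  refine ⟨?_, Groth.Agent.H1CdOne.isAffine_of_lift _ f (fun j => Ideal.subset_span ⟨j, rfl⟩) c
    (fun j => (LinearMap.proj j).comp ψ) fun x => ?_⟩
  · by_contra hne
    apply h0
    have hle : ∀ z : PrimeSpectrum A, Ideal.span (Set.range f) ≤ z.asIdeal := fun z => by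
      by_contra hz
      exact hne ⟨(⟨z, hz⟩ : LocCoh.puncturedOpen A (Ideal.span (Set.range f)))⟩
    obtain ⟨n, hn⟩ := Ideal.exists_pow_le_of_le_radical_of_fg (I := Ideal.span (Set.range f)) (J := (⊥ : Ideal A))
      (fun a ha => by
        rw [Ideal.radical_eq_sInf, Ideal.mem_sInf]
        rintro p ⟨-, hp⟩
        exact hle ⟨p, hp⟩ ha) (IsNoetherian.noetherian _)
    intro M _ _ i hi
    refine subsingleton_of_forall_eq 0 fun z => ?_
    obtain ⟨m, hm, x, rfl⟩ := Groth.Agent.LC.exists_toH_of_le _ i z n
    haveI : CategoryTheory.Projective (Groth.Agent.LC.qObj (Ideal.span (Set.range f)) m) := by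
      refine CategoryTheory.Projective.of_iso (LinearEquiv.toModuleIso ((Submodule.quotEquivOfEqBot _
        (le_bot_iff.mp ((Ideal.pow_le_pow_right hm).trans hn))).symm)) (ModuleCat.projective_of_free (Module.Basis.singleton PUnit.{u+1} A))
    obtain ⟨k, rfl⟩ : ∃ k, i = k + 1 := ⟨i - 1, by omega⟩
    rw [CategoryTheory.Abelian.Ext.eq_zero_of_projective x, map_zero]
  · refine (hψ x).symm.trans ?_
    show L (ψ x) = _
    rw [Fintype.linearCombination_apply]
    exact Finset.sum_congr rfl fun j _ => by rw [smul_eq_mul, mul_comm]; rfl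

end Groth.Agent.S1802
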