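import Groth.Statements.S18026
import Groth.Agent.S17447
import Groth.Agent.AlgSpLib.EtLocalInst
import Mathlib.AlgebraicGeometry.Morphisms.UniversallyOpen

set_option autoImplicit false
universe u
open Hensel

namespace Groth.Agent.S18026

open AlgebraicGeometry CategoryTheory in
/-- Let `A` be a henselian discrete valuation ring and `f : T ⟶ Spec A` an étale surjective morphism of
schemes. Then some open subscheme `U` of `T` is finite over `Spec A` and still maps onto it; in
particular `U → Spec A` is a finite étale cover sitting inside `T` as an open subscheme (étaleness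
of the restriction is automatic, and surjectivity records that `U` meets the closed fibre). (The
published statement asks for an open component of `T` finite étale over `Spec A`; when `T` is not
separated — two copies of `Spec A` glued along the generic point — no open and closed subset of `T`
is finite over `Spec A`, while the published proof constructs an open subscheme, the spectrum of the
local ring of `T` at a point of the closed fibre; so this row asks only for an open subscheme.) -/
theorem result
    (A : Type u) [CommRing A] [IsDomain A] [IsDiscreteValuationRing A] [HenselianLocalRing A]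
    (T : Scheme.{u}) (f : T ⟶ Spec (CommRingCat.of A)) [Etale f] [Surjective f] :
    ∃ U : T.Opens, IsFinite (U.ι ≫ f) ∧ Surjective (U.ι ≫ f) := by
  obtain ⟨t, ht⟩ := f.surjective (IsLocalRing.closedPoint A)
  obtain ⟨_, ⟨(V : T.Opens), hV, rfl⟩, htV, -⟩ := T.isBasis_affineOpens.exists_subset_of_mem_open
    (Set.mem_univ t) isOpen_univ
  haveI : IsAffine V.toScheme := hV
  obtain ⟨W, ⟨-, hW, hW'⟩, -⟩ := Groth.Agent.S17447.result A (V.ι ≫ f)
  let U : T.Opens := V.ι ''ᵁ W
  let e' : U.toScheme ⟶ W.toScheme := (V.ι.isoImage W).inv
  have he : e' ≫ W.ι ≫ V.ι = U.ι := Scheme.Hom.isoImage_inv_ι _ _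
  have hfin : IsFinite (U.ι ≫ f) := by
    rw [← he, Category.assoc, Category.assoc]
    haveI := hW
    infer_instance
  refine ⟨U, hfin, ⟨Set.range_eq_univ.1 ?_⟩⟩
  have hclosed : IsClosed (Set.range (U.ι ≫ f).base) := (U.ι ≫ f).isClosedMap.isClosed_range
  have hopen : IsOpen (Set.range (U.ι ≫ f).base) := (U.ι ≫ f).isOpenMap.isOpen_range
  refine Set.eq_univ_iff_forall.2 fun y => ?_
  refine (IsLocalRing.specializes_closedPoint y).mem_open hopen ?_
  have htU : t ∈ U := ⟨⟨t, htV⟩, hW' _ ht, rfl⟩
  exact ⟨⟨t, htU⟩, ht⟩

end Groth.Agent.S18026
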