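import Groth.Statements.S18029
import Groth.Agent.GrpLimLib.SubStage
import Groth.Agent.Pi1Ext.SpreadLim
-- import your own Groth.Agent.* helpers here

set_option autoImplicit false
set_option backward.isDefEq.respectTransparency false
set_option maxHeartbeats 1000000
set_option linter.style.haveILetI false
universe u
open CategoryTheory MonoidalCategory CartesianMonoidalCategory MonObj GrpObj AlgebraicGeometry CategoryTheory.Limits
open AlgGrp

namespace Groth.Agent.S18029

/-- Closed subgroups of the generic fibre spread out. Let `X` be an integral scheme with generic point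
`η : Spec K(X) ⟶ X`, `G` an affine `X`-group scheme locally of finite presentation and `H_η` a
closed subgroup scheme of the generic fibre `G_η = G ×_X Spec K(X)`. Then there are a non-empty open
`U ⊆ X` (through which `η` factors) and a closed subgroup scheme `H_U` of `G ×_X U` whose generic
fibre is `H_η`: a cartesian square presents `H_η` as `H_U ×_U Spec K(X)`, compatibly with the
embeddings into `G`. -/
theorem result
    (X : Scheme.{u}) [IsIntegral X] (G : Over X) [GrpObj G]
    [IsAffineHom G.hom] [LocallyOfFinitePresentation G.hom]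
    (Hη : Over (Spec X.functionField)) [GrpObj Hη]
    (i : Hη ⟶ Red.bc (X.fromSpecStalk (genericPoint X)) G) [IsMonHom i] [IsClosedImmersion i.left] :
    ∃ (U : X.Opens) (ηU : Spec X.functionField ⟶ (U : Scheme.{u})) (HU : Over (U : Scheme.{u}))
      (_ : GrpObj HU) (j : HU ⟶ Red.bc U.ι G) (φ : Hη.left ⟶ HU.left),
      ηU ≫ U.ι = X.fromSpecStalk (genericPoint X) ∧ IsMonHom j ∧ IsClosedImmersion j.left ∧
      IsPullback φ Hη.hom HU.hom ηU ∧
      φ ≫ j.left ≫ pullback.fst G.hom U.ι = i.left ≫ pullback.fst G.hom (X.fromSpecStalk (genericPoint X)) := by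
  let η₀ := genericPoint X
  let D := Pi1Ext.SpreadLim.specs X η₀
  let c := Pi1Ext.SpreadLim.cone X η₀
  haveI : ∀ W, IsAffine (D.obj W) := fun W => inferInstanceAs (IsAffine (Spec _))
  haveI : ∀ (a b) (f : a ⟶ b), IsAffineHom (D.map f) := fun a b f => isAffineHom_of_isAffine _
  haveI : ∀ W, CompactSpace (D.obj W) := fun W => inferInstance
  haveI : ∀ W, QuasiSeparatedSpace (D.obj W) := fun W => inferInstance
  haveI : IsLocallyNoetherian c.pt := inferInstanceAs (IsLocallyNoetherian (Spec X.functionField))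
  obtain ⟨a, H', hH', v', e, hv, hvci, he⟩ := @GrpLimLib.exists_sub_stage_over _ _ _ D c
    (Pi1Ext.SpreadLim.isLimit X η₀) _ _ _ X (Pi1Ext.SpreadLim.toX X η₀) (fun f => Pi1Ext.SpreadLim.map_toX X η₀ f)
    (X.fromSpecStalk η₀) (Pi1Ext.SpreadLim.π_toX X η₀) G _ _ _ _ Hη _ i _ _
  letI := hH'; haveI := hv; haveI := hvci
  let s := a.2.1.isoSpec
  have hs : s.hom ≫ Pi1Ext.SpreadLim.toX X η₀ a = a.1.ι := a.2.1.isoSpec_hom_fromSpec
  let j := (Over.pullback s.hom).map v' ≫ (GrpLimLib.cmp hs G).hom
  haveI : IsMonHom j := inferInstance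
  let ηU : Spec X.functionField ⟶ (a.1 : Scheme.{u}) := c.π.app a ≫ s.inv
  have hη : ηU ≫ s.hom = c.π.app a := by
    show (c.π.app a ≫ s.inv) ≫ s.hom = _
    rw [Category.assoc, Iso.inv_hom_id]; exact Category.comp_id _
  let φ : Hη.left ⟶ (Red.bc s.hom H').left := pullback.lift (e.hom.left ≫ pullback.fst H'.hom (c.π.app a))
    (Hη.hom ≫ ηU) (by
      rw [Category.assoc, Category.assoc, hη, pullback.condition, ← Category.assoc]
      exact congrArg (· ≫ c.π.app a) (Over.w e.hom))
  refine ⟨a.1, ηU, Red.bc s.hom H', inferInstance, j, φ, ?_, inferInstance, ?_, ?_, ?_⟩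
  · rw [← hs, ← Category.assoc, hη]
    exact Pi1Ext.SpreadLim.π_toX X η₀ a
  · haveI : IsIso (GrpLimLib.cmp hs G).hom.left :=
      inferInstanceAs (IsIso ((Over.forget _).map (GrpLimLib.cmp hs G).hom))
    haveI : IsClosedImmersion ((Over.pullback s.hom).map v').left :=
      GrpLimLib.property_map_left @IsClosedImmersion v' s.hom inferInstance
    exact inferInstanceAs (IsClosedImmersion (((Over.pullback s.hom).map v').left ≫ (GrpLimLib.cmp hs G).hom.left))
  · refine IsPullback.of_right ?_ (pullback.lift_snd _ _ _) (IsPullback.of_hasPullback H'.hom s.hom)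
    rw [show φ ≫ pullback.fst H'.hom s.hom = _ from pullback.lift_fst _ _ _, hη]
    haveI : IsIso e.hom.left := inferInstanceAs (IsIso ((Over.forget _).map e.hom))
    haveI : IsIso (𝟙 c.pt) := IsIso.id c.pt
    have h1 : IsPullback e.hom.left Hη.hom (pullback.snd H'.hom (c.π.app a)) (𝟙 c.pt) :=
      IsPullback.of_horiz_isIso ⟨(Over.w e.hom).trans (Category.comp_id _).symm⟩
    have h2 := h1.paste_horiz (IsPullback.of_hasPullback H'.hom (c.π.app a))
    rw [show 𝟙 c.pt ≫ c.π.app a = c.π.app a from Category.id_comp (c.π.app a)] at h2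
    exact h2
  · show φ ≫ (((Over.pullback s.hom).map v').left ≫ (GrpLimLib.cmp hs G).hom.left) ≫ pullback.fst G.hom a.1.ι = _
    rw [Category.assoc, GrpLimLib.cmp_hom_fst, reassoc_of% (GrpLimLib.map_left_fst (h := s.hom) v'),
      pullback.lift_fst_assoc, Category.assoc]
    exact he

end Groth.Agent.S18029
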