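import Groth.Statements.S1804
import Groth.Agent.H1Falt.RestrGamma
set_option linter.style.haveILetI false
set_option backward.isDefEq.respectTransparency false

set_option autoImplicit false
universe u
open CategoryTheory
attribute [local instance] HasDerivedCategory.standard
open LocCoh

namespace Groth.Agent.S1804

/-- For Noetherian rings and stated on cohomology. Suppose A → B is a ring map between Noetherian rings,
I is an ideal of A whose extension to B is J = IB, and K is an object of D(B). For every i, the
A-module H^i_I of the restriction of K to D(A) (the direct limit of Hom(A/I^n, K[i])) is isomorphic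
to the restriction to A of the B-module H^i_J(K). -/
theorem result (A B : Type u) [CommRing A] [CommRing B] [Algebra A B] [IsNoetherianRing A] [IsNoetherianRing B] (I : Ideal A) (K : Dual.D B) (i : ℤ) : Nonempty (Dual2.HDI A I ((DRing.restrictD (algebraMap A B)).obj K) i ≅ (ModuleCat.restrictScalars (algebraMap A B)).obj (Dual2.HDI B (I.map (algebraMap A B)) K i)) := by
  letI := HasDerivedCategory.standard (ModuleCat.{u} A)
  letI := HasDerivedCategory.standard (ModuleCat.{u} B)
  let φ := algebraMap A B
  haveI := H1Falt.hasRgammaI I
  haveI := H1Falt.hasRgammaI (I.map φ)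
  obtain ⟨e, -⟩ := H1Falt.exists_restr_iso φ I K
  obtain ⟨E₁⟩ := Groth.Agent.S1812.result A I (IsNoetherian.noetherian I) ((DRing.restrictD φ).obj K) i
  obtain ⟨E₂⟩ := Groth.Agent.S1812.result B (I.map φ) (IsNoetherian.noetherian _) K i
  let t := ((DerivedCategory.homologyFunctor (ModuleCat.{u} A) i).mapIso e.symm ≪≫
    H9Misc.DRingRestrict.HDRestrictIso φ ((DRing.RgammaI (I.map φ)).obj K) i).toLinearEquiv
  let u : ((ModuleCat.restrictScalars φ).obj ((DerivedCategory.homologyFunctor (ModuleCat.{u} B) i).obj ((DRing.RgammaI (I.map φ)).obj K))) ≃ₗ[A]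
      ((ModuleCat.restrictScalars φ).obj (Dual2.HDI B (I.map φ) K i)) :=
    { toFun := fun x => E₂ x
      invFun := fun y => E₂.symm y
      left_inv := fun x => E₂.symm_apply_apply x
      right_inv := fun y => E₂.apply_symm_apply y
      map_add' := fun x y => E₂.map_add x y
      map_smul' := fun a x => E₂.map_smul (φ a) x }
  exact ⟨LinearEquiv.toModuleIso (E₁.symm.trans (t.trans u))⟩

end Groth.Agent.S1804
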