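import Groth.Statements.S18067
import Groth.Agent.Chevalley.BC.Div
-- import your own Groth.Agent.* helpers here

set_option autoImplicit false
set_option backward.isDefEq.respectTransparency false
set_option maxHeartbeats 1000000
set_option linter.style.haveILetI false
universe u
open CategoryTheory MonoidalCategory CartesianMonoidalCategory MonObj GrpObj AlgebraicGeometry CategoryTheory.Limits
open AlgGrp

namespace Groth.Agent.S18067

/-- Let k be a field and G an anti-affine algebraic group over k, i.e. a smooth k-group scheme of finite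
type with O(G) = k (hence connected and commutative). Then for every non-zero integer n the n-th
power map G → G, x ↦ x^n, is an isogeny: surjective and finite. -/
theorem result (k : Type u) [Field k]
    (G : Over (Spec (CommRingCat.of k))) [GrpObj G] [Smooth G.hom] [QuasiCompact G.hom]
    (hG : Function.Bijective ((Scheme.ΓSpecIso (CommRingCat.of k)).inv ≫ G.hom.appTop).hom) (n : ℤ) (hn : n ≠ 0) :
    Surjective ((𝟙 G) ^ n).left ∧ IsFinite ((𝟙 G) ^ n).left := by
  have hG' := (GrpSchLib.AntiAffine.bijective_appTop_iff G.hom).mp hG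
  let K := AlgebraicClosure k
  let σ : Spec (CommRingCat.of K) ⟶ Spec (CommRingCat.of k) := (SGA7.pt (K := k) K).hom
  obtain ⟨h1, h2, h3⟩ := GrpSchLib.AntiAffine.bc_hyp hG' σ
  haveI := h1; haveI := h2
  obtain ⟨hc1, hc2, hc3⟩ := LargeNormal.covering_pt (k := k) (K := K)
  haveI : Surjective σ := hc1
  haveI : Flat σ := hc2
  haveI : QuasiCompact σ := hc3
  let F := Over.pullback σ
  have hmap : ∀ m : ℕ, F.map (𝟙 G ^ m : G ⟶ G) = (𝟙 (F.obj G) ^ m : F.obj G ⟶ F.obj G) := by
    intro m
    induction m with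
    | zero =>
      rw [pow_zero, pow_zero]
      have h := Functor.map_mul F (1 : G ⟶ G) 1
      rwa [_root_.one_mul, left_eq_mul] at h
    | succ m ih => rw [pow_succ, pow_succ, Functor.map_mul, ih, F.map_id]
  have key : ∀ m : ℕ, 0 < m → Surjective (𝟙 G ^ m : G ⟶ G).left ∧ IsFinite (𝟙 G ^ m : G ⟶ G).left := by
    intro m hm
    have sq := GrpSchLib.IsogenyFibre.fibre_isPullback (𝟙 G ^ m : G ⟶ G) σ
    rw [hmap] at sq
    have hQ : (@Surjective ⊓ @Flat ⊓ @QuasiCompact : MorphismProperty Scheme.{u}) (Limits.pullback.fst G.hom σ) :=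
      ⟨⟨inferInstance, inferInstance⟩, inferInstance⟩
    haveI := EtFound.fpqc_isFinite.{u}
    exact ⟨MorphismProperty.of_isPullback_of_descendsAlong (P := @Surjective) sq hQ
        (Chevalley.BC.surjective_pow h3 hm),
      MorphismProperty.of_isPullback_of_descendsAlong (P := @IsFinite) sq hQ
        (Chevalley.BC.isFinite_pow h3 hm)⟩
  obtain ⟨m, rfl | rfl⟩ := n.eq_nat_or_neg
  · rw [zpow_natCast]; exact key m (by omega)
  · obtain ⟨hs, hf⟩ := key m (by omega)
    haveI := hs; haveI := hf
    have e : (𝟙 G) ^ (-(m : ℤ)) = (𝟙 G ^ m : G ⟶ G) ≫ (𝟙 G)⁻¹ := by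
      rw [zpow_neg, zpow_natCast, GrpObj.comp_inv, Category.comp_id]
    haveI : IsIso (𝟙 G : G ⟶ G)⁻¹ := ⟨(𝟙 G)⁻¹, by rw [GrpObj.comp_inv, Category.comp_id, _root_.inv_inv],
      by rw [GrpObj.comp_inv, Category.comp_id, _root_.inv_inv]⟩
    haveI : IsIso ((𝟙 G : G ⟶ G)⁻¹).left := ((Over.forget _).mapIso (asIso (𝟙 G : G ⟶ G)⁻¹)).isIso_hom
    rw [e, Over.comp_left]
    exact ⟨inferInstance, inferInstance⟩

end Groth.Agent.S18067
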