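import Groth.Statements.S18072
import Groth.Agent.GrpFieldLib.SVHom
import Groth.Agent.GrpFieldLib.IsogTorus
-- import your own Groth.Agent.* helpers here

set_option autoImplicit false
set_option backward.isDefEq.respectTransparency false
set_option maxHeartbeats 1000000
set_option linter.style.haveILetI false
universe u
open CategoryTheory MonoidalCategory CartesianMonoidalCategory MonObj GrpObj AlgebraicGeometry CategoryTheory.Limits
open AlgGrp

namespace Groth.Agent.S18072

/-- Let F be a field and f : G → H an isogeny between affine smooth connected F-groups (a surjective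
homomorphism with finite kernel, i.e. surjective and finite). Then each of the properties unipotent,
solvable, nilpotent and commutative holds for G exactly when it holds for H; here unipotence is
expressed as: the base change to an algebraic closure contains no non-trivial subtorus, solvable and
nilpotent through the derived and upper central series of the groups of points. -/
theorem result (F : Type u) [Field F]
    (G H : Over (Spec (CommRingCat.of F))) [GrpObj G] [Smooth G.hom] [QuasiCompact G.hom] [IsAffine G.left] [ConnectedSpace ↥G.left]
    [GrpObj H] [Smooth H.hom] [QuasiCompact H.hom] [IsAffine H.left] [ConnectedSpace ↥H.left]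
    (f : G ⟶ H) [IsMonHom f] [Surjective f.left] [IsFinite f.left] :
    (Red.HasNoSubtorus (AlgebraicClosure F) (Red.bc (Spec.map (CommRingCat.ofHom (algebraMap F (AlgebraicClosure F)))) G) ↔ Red.HasNoSubtorus (AlgebraicClosure F) (Red.bc (Spec.map (CommRingCat.ofHom (algebraMap F (AlgebraicClosure F)))) H)) ∧
    (Red.IsSolvableGrp G ↔ Red.IsSolvableGrp H) ∧ (AGF.IsNilpotentGrp G ↔ AGF.IsNilpotentGrp H) ∧
    (IsCommMonObj G ↔ IsCommMonObj H) := by

  haveI : AlgebraicGeometry.IsReduced H.left := Groth.Agent.GrpSchLib.isReduced_of_smooth_field H.hom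
  haveI := Groth.Agent.GrpSchLib.flat_of_surjective_hom f
  have hc : Groth.Agent.GrpSchLib.IsCover f := Groth.Agent.GrpSchLib.isCover_of_flat_surjective f
  refine ⟨?_, ⟨Groth.Agent.GrpFieldLib.SolvBound.isSolvableGrp_of_cover f hc,
    Groth.Agent.GrpFieldLib.SolvBound.isSolvableGrp_of_finite f⟩,
    ⟨Groth.Agent.GrpFieldLib.SolvBound.isNilpotentGrp_of_cover f hc,
    Groth.Agent.GrpFieldLib.SolvBound.isNilpotentGrp_of_finite f⟩, fun h => ?_,
    fun h => Groth.Agent.GrpFieldLib.SolvBound.isCommMonObj_of_finite f⟩
  · exact Groth.Agent.GrpFieldLib.IsogTorus.hasNoSubtorus_iff_bc F G H f _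
  · exact Groth.Agent.Chevalley.CommAff.isCommMonObj_of_cover f


end Groth.Agent.S18072
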