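import Groth.Statements.S18075
import Groth.Agent.Chevalley.CommAff.AntiAffTools
import Groth.Agent.Chevalley.CommAff.Fibre
-- import your own Groth.Agent.* helpers here

set_option autoImplicit false
set_option backward.isDefEq.respectTransparency false
set_option maxHeartbeats 1000000
set_option linter.style.haveILetI false
universe u
open CategoryTheory MonoidalCategory CartesianMonoidalCategory MonObj GrpObj AlgebraicGeometry CategoryTheory.Limits
open AlgGrp

namespace Groth.Agent.S18075

/-- Let k be a field and G a non-trivial anti-affine k-group scheme of finite type, and let i : N → G be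
a connected affine closed subgroup scheme which is the kernel of a flat surjective homomorphism q :
G → A onto an abelian variety A (for instance N = G_aff and A = G/G_aff, but any such N is allowed).
Then G has no anti-affine closed subgroup scheme other than G and the trivial group if and only if
the abelian variety A is simple (every smooth connected closed subgroup scheme of A is trivial or
equal to A). -/
theorem result (k : Type u) [Field k]
    (G : Over (Spec (CommRingCat.of k))) [GrpObj G] [LocallyOfFiniteType G.hom] [QuasiCompact G.hom] (hG : ¬ Red.IsTrivialGrp G)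
    (hGa : Function.Bijective ((Scheme.ΓSpecIso (CommRingCat.of k)).inv ≫ G.hom.appTop).hom)
    (N A : Over (Spec (CommRingCat.of k))) [GrpObj N] [GrpObj A] (i : N ⟶ G) [IsMonHom i] [IsClosedImmersion i.left]
    [IsAffine N.left] [ConnectedSpace ↥N.left]
    (q : G ⟶ A) [IsMonHom q] [Surjective q.left] [Flat q.left] [IsProper A.hom] [Smooth A.hom] [ConnectedSpace ↥A.left]
    (hq : AlgGrp.IsKernel i q) :
    (∀ (H : Over (Spec (CommRingCat.of k))) [GrpObj H] (h : H ⟶ G) [IsMonHom h] [IsClosedImmersion h.left], ¬ IsIso h → Function.Bijective ((Scheme.ΓSpecIso (CommRingCat.of k)).inv ≫ H.hom.appTop).hom → Red.IsTrivialGrp H) ↔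
    (∀ (B : Over (Spec (CommRingCat.of k))) [GrpObj B] (b : B ⟶ A) [IsMonHom b] [IsClosedImmersion b.left], Smooth B.hom → ConnectedSpace ↥B.left → IsIso b ∨ Red.IsTrivialGrp B) := by
  haveI := GrpSchLib.AntiAffine.isSeparated_grp G
  haveI := GrpSchLib.AntiAffine.isSeparated_grp A
  have hG' := Chevalley.CommAff.appTop_bijective hGa
  haveI : IsCommMonObj G := Chevalley.CommAff.isCommMonObj_of_antiAffine hG'
  haveI : Smooth G.hom := GrpSchLib.AntiAffineSmooth.smooth hG'
  haveI : AlgebraicGeometry.IsReduced A.left := GrpSchLib.isReduced_of_smooth_field A.hom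
  haveI : Mono i := Over.mono_of_mono_left _
  constructor
  · intro hmin B _ b _ _ hBs hBc
    haveI := hBs; haveI := hBc
    haveI : IsProper B.hom := by rw [← Over.w b]; infer_instance
    haveI := GrpSchLib.AntiAffine.isSeparated_grp B
    haveI : GeometricallyIntegral A.hom := AlbQuotLib.geometricallyIntegral A
    haveI : IsCommMonObj A := isCommMonObj_of_isProper_of_geometricallyIntegral A
    haveI := Chevalley.CommAff.isCommMonObj_sub b
    obtain ⟨E, _, e, πE, iE, he, hπE, hiE, hpb, hπEf, hπEs, hiEc, hiEe, hkE, hEc, hEl, hEq, hec⟩ :=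
      Chevalley.CommAff.exists_fibre q i hq b
    haveI := he; haveI := hπE; haveI := hπEs; haveI := hEl; haveI := hEq; haveI := hec inferInstance
    obtain ⟨I, _, p, K, _, κ, hp, hIa, hIl, hIq, hpf, hps, hκ, hκc, hk, hK⟩ :=
      GrpSchLib.Rosenlicht.exists_antiAffine_kernel E
    haveI := hp; haveI := hIa; haveI := hIl; haveI := hIq; haveI := hpf; haveI := hps; haveI := hκ; haveI := hκc
    haveI := GrpSchLib.Rosenlicht.surjective_comp πE p κ hk hK
    haveI : IsClosedImmersion (κ ≫ e).left := inferInstanceAs (IsClosedImmersion (κ.left ≫ e.left))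
    by_cases hiso : IsIso (κ ≫ e)
    · left
      haveI := hiso
      haveI : Surjective b.left := by
        have h1 : q = inv (κ ≫ e) ≫ (κ ≫ πE) ≫ b := by
          rw [IsIso.eq_inv_comp, Category.assoc, Category.assoc, hpb.w]
        haveI : Surjective ((inv (κ ≫ e) ≫ (κ ≫ πE)).left ≫ b.left) := by
          rw [← Over.comp_left, Category.assoc, ← h1]; infer_instance
        exact Surjective.of_comp (inv (κ ≫ e) ≫ (κ ≫ πE)).left b.left
      haveI : IsIso b.left := isIso_of_isClosedImmersion_of_surjective b.left
      haveI : IsIso ((Over.forget _).map b) := inferInstanceAs (IsIso b.left)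
      exact isIso_of_reflects_iso b (Over.forget _)
    · right
      have hK' : Function.Bijective ((Scheme.ΓSpecIso (CommRingCat.of k)).inv ≫ K.hom.appTop).hom := by
        rw [CommRingCat.hom_comp, RingHom.coe_comp]
        exact hK.comp (ConcreteCategory.bijective_of_isIso (Scheme.ΓSpecIso (CommRingCat.of k)).inv)
      haveI : IsIso K.hom := hmin K (κ ≫ e) hiso hK'
      haveI : Subsingleton K.left := ⟨fun x y => K.hom.homeomorph.injective (Subsingleton.elim (α := PrimeSpectrum k) _ _)⟩
      haveI : Subsingleton B.left := (κ ≫ πE).left.surjective.subsingleton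
      exact Chevalley.CommAff.isTrivialGrp_of_id_eq_one B (Chevalley.CommAff.isTrivial_of_subsingleton B)
  · intro hsimple H _ h _ _ hniso hH
    have hH' := Chevalley.CommAff.appTop_bijective hH
    haveI : LocallyOfFiniteType H.hom := by rw [← Over.w h]; infer_instance
    haveI : QuasiCompact H.hom := by rw [← Over.w h]; infer_instance
    obtain ⟨I, _, p, b, hp, hb, hpb, hbc, hpf, hps, hIl, hIq⟩ := GrpSchLib.ImageFactor.exists_image (h ≫ q)
    haveI := hp; haveI := hb; haveI := hbc; haveI := hpf; haveI := hps; haveI := hIl; haveI := hIq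
    haveI := GrpSchLib.AntiAffine.isSeparated_grp I
    haveI : QuasiCompact (p.left ≫ I.hom) := by rw [Over.w p]; infer_instance
    haveI : QuasiCompact p.left := QuasiCompact.of_comp p.left I.hom
    haveI : Epi p.left := Flat.epi_of_flat_of_surjective _
    have hI := GrpSchLib.Rosenlicht.bijective_of_comp p hH'
    rcases hsimple I b (GrpSchLib.AntiAffineSmooth.smooth hI) (GrpSchLib.AntiAffine.connectedSpace_of_bijective hI) with hiso | htriv
    · exfalso
      apply hniso
      haveI := hiso
      haveI : IsIso b.left := inferInstanceAs (IsIso ((Over.forget _).map b))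
      haveI : Surjective (h ≫ q).left := by rw [← hpb, Over.comp_left]; infer_instance
      haveI := Chevalley.CommAff.surjective_mul_of_surjective i q hq h
      obtain ⟨C, _, r, hr, hrf, hrs, hrk, hCl, hCq⟩ :=
        Chevalley.CommAff.exists_quot h (Chevalley.CommAff.isNormal_of_comm _)
      haveI := hr; haveI := hrf; haveI := hrs; haveI := hCl; haveI := hCq
      haveI := GrpSchLib.AntiAffine.isSeparated_grp C
      haveI : QuasiCompact (r.left ≫ C.hom) := by rw [Over.w r]; infer_instance
      haveI : QuasiCompact r.left := QuasiCompact.of_comp r.left C.hom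
      haveI : Epi r.left := Flat.epi_of_flat_of_surjective _
      have hC := GrpSchLib.Rosenlicht.bijective_of_comp r hG'
      haveI : Smooth C.hom := GrpSchLib.AntiAffineSmooth.smooth hC
      haveI : AlgebraicGeometry.IsReduced C.left := GrpSchLib.isReduced_of_smooth_field C.hom
      haveI : LocallyOfFiniteType N.hom := by rw [← Over.w i]; infer_instance
      haveI : Surjective (i ≫ r).left := by
        have e1 : ((i ⊗ₘ h) ≫ μ[G]) ≫ r = fst N H ≫ i ≫ r := by
          rw [show (i ⊗ₘ h) ≫ μ[G] = (fst N H ≫ i) * (snd N H ≫ h) by
              rw [Hom.mul_def, ← lift_map, lift_fst_snd, Category.id_comp],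
            MonObj.mul_comp, Category.assoc, Category.assoc, hrk.w, ← Category.assoc (snd N H), comp_toUnit,
            ← Hom.one_def, _root_.mul_one]
        haveI : Surjective ((fst N H).left ≫ (i ≫ r).left) := by
          rw [← Over.comp_left, ← e1, Over.comp_left]; infer_instance
        exact Surjective.of_comp (fst N H).left (i ≫ r).left
      haveI : QuasiCompact ((i ≫ r).left ≫ C.hom) := by rw [Over.w (i ≫ r)]; infer_instance
      haveI : QuasiCompact (i ≫ r).left := QuasiCompact.of_comp (i ≫ r).left C.hom
      haveI := GrpSchLib.flat_of_surjective_hom (i ≫ r)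
      haveI : IsAffine C.left := GrpSchLib.isAffine_of_quotient (i ≫ r)
      have hr1 : r = 1 := GrpSchLib.Rosenlicht.hom_affine_eq_one hG' r
      haveI : Mono h := Over.mono_of_mono_left _
      haveI : IsSplitEpi h := ⟨⟨⟨hrk.lift (𝟙 G) (toUnit G) (by rw [Category.id_comp, hr1, Hom.one_def]), hrk.lift_fst _ _ _⟩⟩⟩
      exact isIso_of_mono_of_isSplitEpi h
    · have h1 : h ≫ q = toUnit H ≫ η[A] := by
        rw [← hpb, ← Category.id_comp b, Chevalley.CommAff.id_eq_one_of_isTrivialGrp htriv,
          MonObj.one_comp, MonObj.comp_one, Hom.one_def]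
      let a : H ⟶ N := hq.lift h (toUnit H) h1
      have ha : a ≫ i = h := hq.lift_fst _ _ _
      haveI : IsClosedImmersion (a.left ≫ i.left) := by rw [← Over.comp_left, ha]; infer_instance
      haveI : IsClosedImmersion a.left := IsClosedImmersion.of_comp a.left i.left
      haveI : IsAffine H.left := isAffine_of_isAffineHom a.left
      exact Chevalley.CommAff.isTrivialGrp_of_id_eq_one H (GrpSchLib.Rosenlicht.hom_affine_eq_one hH' (𝟙 H))

end Groth.Agent.S18075
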