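import Groth.Statements.S18076
import Groth.Agent.Chevalley.FF.FinField
import Groth.Agent.GrpSchLib.AntiAffineQuot
import Groth.Agent.S19705
-- import your own Groth.Agent.* helpers here

set_option autoImplicit false
set_option backward.isDefEq.respectTransparency false
set_option maxHeartbeats 1000000
set_option linter.style.haveILetI false
universe u
open CategoryTheory MonoidalCategory CartesianMonoidalCategory MonObj GrpObj AlgebraicGeometry CategoryTheory.Limits
open AlgGrp

namespace Groth.Agent.S18076

/-- Let k be a finite field and G a connected k-group scheme of finite type, i : N → G a connected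
affine closed normal subgroup scheme which is the kernel of a flat surjective homomorphism q onto an
abelian variety A (for instance N = G_aff; any such N is allowed) and b : B → G the largest abelian
subvariety G_ab of G (a smooth connected proper closed subgroup scheme through which every other one
factors). Then G = N G_ab, i.e. multiplication N × B → G is surjective, and N ∩ G_ab is finite; for
N = G_aff this reads G = G_aff G_ab with G_aff ∩ G_ab finite. -/
theorem result (k : Type u) [Field k] [Finite k]
    (G : Over (Spec (CommRingCat.of k))) [GrpObj G] [LocallyOfFiniteType G.hom] [QuasiCompact G.hom] [ConnectedSpace ↥G.left]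
    (N A : Over (Spec (CommRingCat.of k))) [GrpObj N] [GrpObj A] (i : N ⟶ G) [IsMonHom i] [IsClosedImmersion i.left]
    [IsAffine N.left] [ConnectedSpace ↥N.left] (hN : AlgGrp.IsNormalHom i)
    (q : G ⟶ A) [IsMonHom q] [Surjective q.left] [Flat q.left] [IsProper A.hom] [Smooth A.hom] [ConnectedSpace ↥A.left]
    (hq : AlgGrp.IsKernel i q)
    (B : Over (Spec (CommRingCat.of k))) [GrpObj B] (b : B ⟶ G) [IsMonHom b] [IsClosedImmersion b.left] [Smooth B.hom] [ConnectedSpace ↥B.left] [IsProper B.hom]
    (hBmax : ∀ (B' : Over (Spec (CommRingCat.of k))) [GrpObj B'] (b' : B' ⟶ G) [IsMonHom b'] [IsClosedImmersion b'.left], Smooth B'.hom → ConnectedSpace ↥B'.left → IsProper B'.hom →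
      ∃ g : B' ⟶ B, g ≫ b = b') :
    Surjective ((i ⊗ₘ b) ≫ μ[G]).left ∧
    ∀ (P : Over (Spec (CommRingCat.of k))) (p₁ : P ⟶ N) (p₂ : P ⟶ B), IsPullback p₁ p₂ i b → IsFinite P.hom := by
  haveI := GrpSchLib.AntiAffine.isSeparated_grp G
  obtain ⟨I, _, p, K, _, κ, hp, hI, -, -, -, -, hκ, hκc, hk, hK⟩ := GrpSchLib.Rosenlicht.exists_antiAffine_kernel G
  haveI := hp; haveI := hI; haveI := hκ; haveI := hκc
  haveI : LocallyOfFiniteType K.hom := by rw [← Over.w κ]; infer_instance
  haveI : QuasiCompact K.hom := by rw [← Over.w κ]; infer_instance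
  haveI : IsProper K.hom := Chevalley.FF.isProper_of_antiAffine K hK
  obtain ⟨g, hg⟩ := hBmax K κ (GrpSchLib.AntiAffineSmooth.smooth hK)
    (GrpSchLib.AntiAffine.connectedSpace_of_bijective hK) inferInstance
  obtain ⟨hsur, -⟩ := S19705.result k G N i hN A q hq K κ
    ((GrpSchLib.AntiAffine.bijective_appTop_iff K.hom).mpr hK) fun M₁ _ _ _ j₁ _ _ hM₁ => by
      have h1 : j₁ ≫ p = toUnit M₁ ≫ η[I] := by
        rw [GrpSchLib.Rosenlicht.hom_affine_eq_one ((GrpSchLib.AntiAffine.bijective_appTop_iff M₁.hom).mp hM₁)
          (j₁ ≫ p), Hom.one_def]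
      exact ⟨hk.lift j₁ (toUnit M₁) h1, hk.lift_fst _ _ _⟩
  refine ⟨?_, fun P p₁ p₂ hP => ?_⟩
  · haveI : Surjective (((𝟙 N ⊗ₘ g) ≫ (i ⊗ₘ b) ≫ μ[G]).left) := by
      rw [← Category.assoc, tensorHom_comp_tensorHom, Category.id_comp, hg]
      exact hsur
    rw [Over.comp_left] at *
    exact Surjective.of_comp (𝟙 N ⊗ₘ g).left _
  · have hl := hP.map (Over.forget _)
    haveI : IsClosedImmersion p₁.left := MorphismProperty.of_isPullback hl.flip (show IsClosedImmersion b.left from inferInstance)
    haveI : IsClosedImmersion p₂.left := MorphismProperty.of_isPullback hl (show IsClosedImmersion i.left from inferInstance)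
    haveI : IsAffine P.left := isAffine_of_isAffineHom p₁.left
    haveI : IsProper P.hom := by rw [← Over.w p₂]; infer_instance
    exact IsFinite.iff_isProper_and_isAffineHom.mpr ⟨inferInstance, inferInstance⟩

end Groth.Agent.S18076
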