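import Groth.Statements.S18079
import Groth.Agent.GrpFieldLib.IsogSub
-- import your own Groth.Agent.* helpers here

set_option autoImplicit false
set_option backward.isDefEq.respectTransparency false
set_option maxHeartbeats 1000000
set_option linter.style.haveILetI false
universe u
open CategoryTheory MonoidalCategory CartesianMonoidalCategory MonObj GrpObj AlgebraicGeometry CategoryTheory.Limits
open AlgGrp

namespace Groth.Agent.S18079

/-- Let k be a field with algebraic closure k̄ and f : G → H an isogeny of algebraic k-groups (a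
surjective homomorphism of k-group schemes of finite type with finite kernel, i.e. surjective and
finite). Then for every d, G_{k̄} contains a smooth connected unipotent subgroup of dimension at
least d (unipotent: no non-trivial subtorus) if and only if H_{k̄} does; that is, d_u(G) = d_u(H). -/
theorem result (k : Type u) [Field k]
    (G H : Over (Spec (CommRingCat.of k))) [GrpObj G] [LocallyOfFiniteType G.hom] [QuasiCompact G.hom]
    [GrpObj H] [LocallyOfFiniteType H.hom] [QuasiCompact H.hom]
    (f : G ⟶ H) [IsMonHom f] [Surjective f.left] [IsFinite f.left] (d : ℕ) :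
    (∃ (U : Over (Spec (CommRingCat.of (AlgebraicClosure k)))) (_ : GrpObj U) (i : U ⟶ Red.bc (Spec.map (CommRingCat.ofHom (algebraMap k (AlgebraicClosure k)))) G), IsMonHom i ∧ IsClosedImmersion i.left ∧
        Smooth U.hom ∧ IsAffine U.left ∧ ConnectedSpace ↥U.left ∧ Red.HasNoSubtorus (AlgebraicClosure k) U ∧
        (d : WithBot ℕ∞) ≤ topologicalKrullDim ↥U.left) ↔
    (∃ (U : Over (Spec (CommRingCat.of (AlgebraicClosure k)))) (_ : GrpObj U) (i : U ⟶ Red.bc (Spec.map (CommRingCat.ofHom (algebraMap k (AlgebraicClosure k)))) H), IsMonHom i ∧ IsClosedImmersion i.left ∧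
        Smooth U.hom ∧ IsAffine U.left ∧ ConnectedSpace ↥U.left ∧ Red.HasNoSubtorus (AlgebraicClosure k) U ∧
        (d : WithBot ℕ∞) ≤ topologicalKrullDim ↥U.left) := by

  obtain ⟨σ, hσ⟩ : ∃ σ : Spec (CommRingCat.of (AlgebraicClosure k)) ⟶ Spec (CommRingCat.of k),
      σ = Spec.map (CommRingCat.ofHom (algebraMap k (AlgebraicClosure k))) := ⟨_, rfl⟩
  rw [← hσ]
  let f' : Red.bc σ G ⟶ Red.bc σ H := (Over.pullback σ).map f
  have sq : IsPullback (Limits.pullback.fst G.hom σ) f'.left f.left (Limits.pullback.fst H.hom σ) := by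
    refine IsPullback.of_bot ?_ (Limits.pullback.lift_fst _ _ _).symm (IsPullback.of_hasPullback H.hom σ)
    rw [show f'.left ≫ Limits.pullback.snd H.hom σ = Limits.pullback.snd G.hom σ from Limits.pullback.lift_snd _ _ _,
      Over.w f]
    exact IsPullback.of_hasPullback G.hom σ
  haveI : IsFinite f'.left := MorphismProperty.of_isPullback (P := @IsFinite) sq inferInstance
  haveI : Surjective f'.left := MorphismProperty.of_isPullback (P := @Surjective) sq inferInstance
  haveI : LocallyOfFiniteType (Red.bc σ G).hom := MorphismProperty.pullback_snd _ _ inferInstance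
  haveI : LocallyOfFiniteType (Red.bc σ H).hom := MorphismProperty.pullback_snd _ _ inferInstance
  haveI : QuasiCompact (Red.bc σ G).hom := MorphismProperty.pullback_snd _ _ inferInstance
  haveI : QuasiCompact (Red.bc σ H).hom := MorphismProperty.pullback_snd _ _ inferInstance
  constructor
  · rintro ⟨U, _, i, hi, hic, hUs, hUa, hUc, hU, hd⟩
    haveI := hi; haveI := hic; haveI := hUs; haveI := hUc; haveI := hUa
    haveI : QuasiCompact U.hom := by rw [← Over.w i]; infer_instance
    obtain ⟨J, _, b, p, hb, hp, hbc, hJs, hJc, hJq, hpfin, hps, hpf, e⟩ :=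
      Groth.Agent.GrpFieldLib.IsogSub.exists_image_sub f' i
    haveI := hb; haveI := hp; haveI := hbc; haveI := hJs; haveI := hJc; haveI := hJq; haveI := hpfin; haveI := hps; haveI := hpf
    haveI : IsAffine J.left := Groth.Agent.GrpSchLib.isAffine_of_quotient p
    refine ⟨J, inferInstance, b, hb, hbc, hJs, inferInstance, hJc, ?_, e ▸ hd⟩
    exact Groth.Agent.GrpFieldLib.IsogTorus.hasNoSubtorus_of_surjective p hU
  · rintro ⟨U, _, i, hi, hic, hUs, hUa, hUc, hU, hd⟩
    haveI := hi; haveI := hic; haveI := hUs; haveI := hUc; haveI := hUa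
    haveI : QuasiCompact U.hom := by rw [← Over.w i]; infer_instance
    obtain ⟨J, _, b, p, hb, hp, hbc, hJs, hJc, hJq, hpfin, hps, hpf, e⟩ :=
      Groth.Agent.GrpFieldLib.IsogSub.exists_preimage_sub f' i
    haveI := hb; haveI := hp; haveI := hbc; haveI := hJs; haveI := hJc; haveI := hJq; haveI := hpfin; haveI := hps; haveI := hpf
    haveI : IsAffine J.left := isAffine_of_isAffineHom p.left
    refine ⟨J, inferInstance, b, hb, hbc, hJs, inferInstance, hJc, ?_, e.symm ▸ hd⟩
    exact Groth.Agent.GrpFieldLib.IsogTorus.hasNoSubtorus_of_finite p hU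


end Groth.Agent.S18079
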