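import Groth.Statements.S18085
import Groth.Agent.Chevalley.CommAff.AntiAffTools
-- import your own Groth.Agent.* helpers here

set_option autoImplicit false
set_option backward.isDefEq.respectTransparency false
set_option maxHeartbeats 1000000
set_option linter.style.haveILetI false
universe u
open CategoryTheory MonoidalCategory CartesianMonoidalCategory MonObj GrpObj AlgebraicGeometry CategoryTheory.Limits
open AlgGrp

namespace Groth.Agent.S18085

/-- Let k be a field and G a connected k-group scheme of finite type, with G_aff = N (the smallest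
normal connected affine closed subgroup scheme with abelian variety quotient), G_ant = M (the
largest anti-affine closed subgroup scheme) and (G_ant)_aff = M' (the smallest connected affine
closed subgroup scheme of M with abelian variety quotient M/M' = B). Then M' is smooth and contained
in N, and (N ∩ M)/M' is finite: the image of N ∩ M in B is a finite set of points. -/
theorem result (k : Type u) [Field k]
    (G : Over (Spec (CommRingCat.of k))) [GrpObj G] [LocallyOfFiniteType G.hom] [QuasiCompact G.hom] [ConnectedSpace ↥G.left]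
    (N : Over (Spec (CommRingCat.of k))) [GrpObj N] (i : N ⟶ G) [IsMonHom i] [IsClosedImmersion i.left]
    [IsAffine N.left] [ConnectedSpace ↥N.left] (hN : AlgGrp.IsNormalHom i)
    (A : Over (Spec (CommRingCat.of k))) [GrpObj A] (q : G ⟶ A) [IsMonHom q] [Surjective q.left] [Flat q.left]
    [IsProper A.hom] [Smooth A.hom] [ConnectedSpace ↥A.left] (hq : AlgGrp.IsKernel i q)
    (hNmin : ∀ (N₁ : Over (Spec (CommRingCat.of k))) [GrpObj N₁] (i₁ : N₁ ⟶ G) [IsMonHom i₁] [IsClosedImmersion i₁.left]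
    [IsAffine N₁.left] [ConnectedSpace ↥N₁.left] (A₁ : Over (Spec (CommRingCat.of k))) [GrpObj A₁] (q₁ : G ⟶ A₁) [IsMonHom q₁]
      [Surjective q₁.left] [Flat q₁.left] [IsProper A₁.hom] [Smooth A₁.hom] [ConnectedSpace ↥A₁.left],
      AlgGrp.IsNormalHom i₁ → AlgGrp.IsKernel i₁ q₁ → ∃ g : N ⟶ N₁, g ≫ i₁ = i)
    (M : Over (Spec (CommRingCat.of k))) [GrpObj M] [LocallyOfFiniteType M.hom] [QuasiCompact M.hom] (j : M ⟶ G) [IsMonHom j] [IsClosedImmersion j.left]
    (hM : Function.Bijective ((Scheme.ΓSpecIso (CommRingCat.of k)).inv ≫ M.hom.appTop).hom)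
    (hMmax : ∀ (M₁ : Over (Spec (CommRingCat.of k))) [GrpObj M₁] [LocallyOfFiniteType M₁.hom] [QuasiCompact M₁.hom] (j₁ : M₁ ⟶ G) [IsMonHom j₁] [IsClosedImmersion j₁.left],
      Function.Bijective ((Scheme.ΓSpecIso (CommRingCat.of k)).inv ≫ M₁.hom.appTop).hom → ∃ g : M₁ ⟶ M, g ≫ j = j₁)
    (M' : Over (Spec (CommRingCat.of k))) [GrpObj M'] (m : M' ⟶ M) [IsMonHom m] [IsClosedImmersion m.left]
    [IsAffine M'.left] [ConnectedSpace ↥M'.left]
    (B : Over (Spec (CommRingCat.of k))) [GrpObj B] (r : M ⟶ B) [IsMonHom r] [Surjective r.left] [Flat r.left]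
    [IsProper B.hom] [Smooth B.hom] [ConnectedSpace ↥B.left] (hr : AlgGrp.IsKernel m r)
    (hM'min : ∀ (M₂ : Over (Spec (CommRingCat.of k))) [GrpObj M₂] (m₂ : M₂ ⟶ M) [IsMonHom m₂] [IsClosedImmersion m₂.left]
    [IsAffine M₂.left] [ConnectedSpace ↥M₂.left] (B₂ : Over (Spec (CommRingCat.of k))) [GrpObj B₂] (r₂ : M ⟶ B₂) [IsMonHom r₂]
      [Surjective r₂.left] [Flat r₂.left] [IsProper B₂.hom] [Smooth B₂.hom] [ConnectedSpace ↥B₂.left],
      AlgGrp.IsKernel m₂ r₂ → ∃ g : M' ⟶ M₂, g ≫ m₂ = m)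
    (P : Over (Spec (CommRingCat.of k))) (p₁ : P ⟶ N) (p₂ : P ⟶ M) (hP : IsPullback p₁ p₂ i j) :
    Smooth M'.hom ∧ (∃ g : M' ⟶ N, g ≫ i = m ≫ j) ∧ (Set.range ⇑(p₂ ≫ r).left.base).Finite := by
  haveI := GrpSchLib.AntiAffine.isSeparated_grp G
  haveI := GrpSchLib.AntiAffine.isSeparated_grp M
  have hM' := Chevalley.CommAff.appTop_bijective hM
  haveI : IsCommMonObj M := Chevalley.CommAff.isCommMonObj_of_antiAffine hM'
  haveI : Mono i := Over.mono_of_mono_left _
  haveI : Mono j := Over.mono_of_mono_left _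
  haveI : Mono m := Over.mono_of_mono_left _
  haveI : LocallyOfFiniteType M'.hom := by rw [← Over.w m]; infer_instance
  have hsm : Smooth M'.hom := by
    obtain ⟨p, hp⟩ := CharP.exists k
    rcases CharP.char_is_prime_or_zero k p with hpp | rfl
    · haveI : Fact p.Prime := ⟨hpp⟩
      obtain ⟨T, _, iT, Q, _, qT, hiT, hiTc, hT, hqT, hqTs, hqTf, hkT, hQp, hQs, hQc⟩ :=
        Chevalley.CommAff.isSA_of_antiAffine p hM'
      haveI := hiT; haveI := hiTc; haveI := hqT; haveI := hqTs; haveI := hqTf; haveI := hQp; haveI := hQs; haveI := hQc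
      obtain ⟨h1, h2, h3, h4, h5⟩ := Chevalley.CommAff.torus_props hT
      haveI := h1; haveI := h2; haveI := h3
      haveI : Mono iT := Over.mono_of_mono_left _
      obtain ⟨g, hg⟩ := hM'min T iT Q qT hkT
      have hTr : iT ≫ r = toUnit T ≫ η[B] := by
        rw [GrpSchLib.AffToProper.hom_eq_one (iT ≫ r), Hom.one_def]
      have hl : hr.lift iT (toUnit T) hTr ≫ m = iT := hr.lift_fst _ _ _
      let e : M' ≅ T := ⟨g, hr.lift iT (toUnit T) hTr, by rw [← cancel_mono m, Category.assoc, hl, hg, Category.id_comp],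
        by rw [← cancel_mono iT, Category.assoc, hg, hl, Category.id_comp]⟩
      haveI : IsIso g.left := ((Over.forget _).mapIso e).isIso_hom
      rw [← Over.w g]
      infer_instance
    · haveI : CharZero k := CharP.charP_to_charZero k
      exact GrpSchLib.smooth_of_charZero M'
  haveI := hsm
  refine ⟨hsm, ?_, ?_⟩
  · have h : (m ≫ j) ≫ q = toUnit M' ≫ η[A] := by
      rw [Category.assoc, GrpSchLib.AffToProper.hom_eq_one (m ≫ j ≫ q), Hom.one_def]
    exact ⟨hq.lift (m ≫ j) (toUnit M') h, hq.lift_fst _ _ _⟩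
  · obtain ⟨K, _, κ, hκ, hκc, -, hK⟩ := GrpSchLib.exists_kernel (j ≫ q)
    haveI := hκ; haveI := hκc
    haveI : LocallyOfFiniteType K.hom := by rw [← Over.w κ]; infer_instance
    let a : K ⟶ N := hq.lift (κ ≫ j) (toUnit K) (by rw [Category.assoc, hK.w])
    have ha : a ≫ i = κ ≫ j := hq.lift_fst _ _ _
    haveI : IsClosedImmersion (a.left ≫ i.left) := by
      rw [← Over.comp_left, ha, Over.comp_left]; infer_instance
    haveI : IsClosedImmersion a.left := IsClosedImmersion.of_comp a.left i.left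
    haveI : IsAffine K.left := isAffine_of_isAffineHom a.left
    refine (Chevalley.CommAff.finite_range (κ ≫ r)).subset ?_
    rintro _ ⟨x, rfl⟩
    let b : P ⟶ K := hK.lift p₂ (toUnit P) (by
      rw [← Category.assoc, ← hP.w, Category.assoc, hq.w, ← Category.assoc, comp_toUnit])
    refine ⟨b.left x, ?_⟩
    rw [← Scheme.Hom.comp_apply, ← Over.comp_left, ← Category.assoc, hK.lift_fst]

end Groth.Agent.S18085
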