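import Groth.Statements.S18112
import Mathlib.Algebra.Group.ForwardDiff
import Mathlib.RingTheory.Polynomial.Pochhammer

set_option autoImplicit false
set_option backward.isDefEq.respectTransparency false
set_option backward.isDefEq.respectTransparency.types false
set_option maxHeartbeats 1000000
set_option linter.style.haveILetI false
universe u
open CategoryTheory CategoryTheory.Limits MonoidalCategory CartesianMonoidalCategory MonObj GrpObj AlgebraicGeometry
open AbVar

namespace Groth.Agent.S18112

/-- Let k be an algebraically closed field of characteristic zero, A an abelian variety over k (a proper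
smooth k-group scheme with geometrically connected fibres) of dimension g, (A^t, φ) a given dual
abelian variety of A for the fppf topology with A^t itself an abelian variety, and P an invertible
module on A ×_k A^t whose class is a Poincaré class; for a k-point α of A^t write P_α for the
restriction of P to A × {α}. Let L be an ample invertible O_A-module with an inverse L' (L ⊗ L' ≅
O_A), negative powers of L meaning powers of L'. For a coherent O_A-module G write h^i_gen(G) for
the generic value of h^i(A, G ⊗ P_α), rendered as the minimum over all k-points α of A^t (the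
generic value by semicontinuity), and for b ≥ 1 let b_A : A → A be multiplication by b. Let F be a
coherent O_A-module and i ≥ 0, and consider the i-th cohomological rank function of F with respect
to L, the function on the rationals x = a/b (b ≥ 1) with value b^{-2g} · h^i_gen(b_A^* F ⊗ L^{ab}).
Suppose that on an open interval (u, v), u < v rational, this function agrees with a polynomial Q
with rational coefficients of degree at most g. Then every coefficient of Q lies in (1/g!)ℤ, i.e. g!
· Q has integer coefficients. (Stated for a coherent module; the source allows any object of the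
bounded derived category of coherent modules. The degree bound on Q, which the source takes from the
local polynomiality of rank functions, is made a hypothesis here.) -/
theorem result (k : Type u) [Field k] [IsAlgClosed k] [CharZero k]
    (A At : Over (Spec (CommRingCat.of k))) [GrpObj A] [IsProper A.hom] [Smooth A.hom] [GeometricallyConnected A.hom]
    [GrpObj At] [IsProper At.hom] [Smooth At.hom] [GeometricallyConnected At.hom]
    (φ : ∀ T : Over (Spec (CommRingCat.of k)), PicF.Cl (PicF.XT A.hom T) → (T ⟶ At))
    (hφ : AbDual.IsDualAV Scheme.fppfPrecoverage A At φ)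
    (P : (pullback A.hom At.hom).Modules) (hP : PicF.IsInvertible P)
    (hPξ : AbDual.IsPoincareCl A At φ (PicF.cl P))
    (g : ℕ) (hg : topologicalKrullDim ↥A.left = g)
    (L L' : A.left.Modules) (hL : CohB1.IsAmple L) (hLL' : Nonempty (CohB1.tensorMod L L' ≅ Coh.structureModule A.left))
    (F : A.left.Modules) (hF : Coh.IsCoh F) (i : ℕ) (u v : ℚ) (huv : u < v)
    (Q : Polynomial ℚ) (hQ : Q.natDegree ≤ g)
    (hpoly : ∀ (a : ℤ) (b : ℕ), 0 < b → u < (a : ℚ) / (b : ℚ) → (a : ℚ) / (b : ℚ) < v →
      ((W4c5cohrankabvar.hgen k P (W4c5cohrankabvar.twist A F L L' b (a * b)) i : ℕ) : ℚ) / (b : ℚ) ^ (2 * g) =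
        Q.eval ((a : ℚ) / (b : ℚ)))
    (j : ℕ) : ∃ z : ℤ, (Nat.factorial g : ℚ) * Q.coeff j = (z : ℚ) := by
  classical
  have key : ∀ b : ℕ, 0 < b → (g : ℚ) + 1 < (b : ℚ) * (v - u) →
      ∃ z : ℤ, (Nat.factorial g : ℚ) * Q.coeff j * (b : ℚ) ^ (2 * g - j) = (z : ℚ) := by
    intro b hb hbig
    by_cases hj : g < j
    · exact ⟨0, by rw [Polynomial.coeff_eq_zero_of_natDegree_lt (lt_of_le_of_lt hQ hj)]; simp⟩
    push Not at hj
    have hbq : (0 : ℚ) < b := by exact_mod_cast hb
    set a0 : ℤ := ⌊u * b⌋ + 1 with ha0
    have hfl1 : (⌊u * b⌋ : ℚ) ≤ u * b := Int.floor_le _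
    have hfl2 : u * b < (⌊u * b⌋ : ℚ) + 1 := Int.lt_floor_add_one _
    let R : Polynomial ℚ := Polynomial.C ((b : ℚ) ^ (2 * g)) * Q.comp (Polynomial.C ((b : ℚ)⁻¹) * Polynomial.X)
    let f : ℕ → ℤ := fun n =>
      ((W4c5cohrankabvar.hgen k P (W4c5cohrankabvar.twist A F L L' b ((a0 + n) * b)) i : ℕ) : ℤ)
    have hf : ∀ n : ℕ, n ≤ g → R.eval ((a0 : ℚ) + n) = (f n : ℚ) := by
      intro n hn
      have hnq : (n : ℚ) ≤ g := by exact_mod_cast hn
      have hn0 : (0 : ℚ) ≤ n := by positivity
      have h1 : u < ((a0 + n : ℤ) : ℚ) / (b : ℚ) := by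
        rw [lt_div_iff₀ hbq]; push_cast [ha0]; linarith
      have h2 : ((a0 + n : ℤ) : ℚ) / (b : ℚ) < v := by
        rw [div_lt_iff₀ hbq]; push_cast [ha0]; linarith
      have h3 := hpoly (a0 + n) b hb h1 h2
      rw [div_eq_iff (pow_ne_zero _ (ne_of_gt hbq))] at h3
      simp only [R, f, Polynomial.eval_mul, Polynomial.eval_C, Polynomial.eval_comp, Polynomial.eval_X]
      rw [Int.cast_natCast, h3, mul_comm _ ((b : ℚ) ^ (2 * g))]
      congr 2
      push_cast
      ring
    let T : Polynomial ℤ := ∑ m ∈ Finset.range (g + 1),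
      Polynomial.C (((Nat.factorial g / Nat.factorial m : ℕ) : ℤ) * (fwdDiff 1)^[m] f 0) * descPochhammer ℤ m
    have hTdeg : T.natDegree ≤ g := by
      refine Polynomial.natDegree_sum_le_of_forall_le _ _ fun m hm => ?_
      refine (Polynomial.natDegree_C_mul_le _ _).trans ?_
      rw [descPochhammer_natDegree]
      exact Nat.lt_succ_iff.mp (Finset.mem_range.mp hm)
    have hT : ∀ n : ℕ, n ≤ g → T.eval (n : ℤ) = (Nat.factorial g : ℤ) * f n := by
      intro n hn
      have h := shift_eq_sum_fwdDiff_iter (1 : ℕ) f n 0
      rw [zero_add, smul_eq_mul, _root_.mul_one] at h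
      rw [h, Finset.mul_sum, Polynomial.eval_finsetSum]
      symm
      rw [Finset.sum_subset (s₂ := Finset.range (g + 1))
        (fun x hx => Finset.mem_range.mpr (lt_of_lt_of_le (Finset.mem_range.mp hx) (by omega)))]
      · refine Finset.sum_congr rfl fun m hm => ?_
        rw [Polynomial.eval_mul, Polynomial.eval_C, descPochhammer_eval_eq_descFactorial,
          Nat.descFactorial_eq_factorial_mul_choose, nsmul_eq_mul]
        have hd : (((Nat.factorial g / Nat.factorial m : ℕ) : ℤ) * (Nat.factorial m : ℤ)) =
            (Nat.factorial g : ℤ) := by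
          exact_mod_cast Nat.div_mul_cancel
            (Nat.factorial_dvd_factorial (Nat.lt_succ_iff.mp (Finset.mem_range.mp hm)))
        rw [← hd]; push_cast; ring
      · intro x _ hx
        rw [Nat.choose_eq_zero_of_lt (by simpa using hx)]
        simp
    let P' : Polynomial ℤ := T.comp (Polynomial.X - Polynomial.C a0)
    have heq : P'.map (Int.castRingHom ℚ) = Polynomial.C (Nat.factorial g : ℚ) * R := by
      refine Polynomial.eq_of_natDegree_lt_card_of_eval_eq' _ _
        ((Finset.range (g + 1)).image fun n : ℕ => (a0 : ℚ) + n) ?_ ?_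
      · intro x hx
        obtain ⟨n, hn, rfl⟩ := Finset.mem_image.mp hx
        have hng : n ≤ g := Nat.lt_succ_iff.mp (Finset.mem_range.mp hn)
        rw [Polynomial.eval_mul, Polynomial.eval_C, hf n hng]
        have e : ((a0 : ℚ) + n) = (Int.castRingHom ℚ) (a0 + n) := by simp
        rw [e, Polynomial.eval_map, Polynomial.eval₂_at_apply]
        simp only [P', Polynomial.eval_comp, Polynomial.eval_sub, Polynomial.eval_X,
          Polynomial.eval_C, add_sub_cancel_left, hT n hng]
        push_cast; simp
      · rw [Finset.card_image_of_injective _ (fun a b h => by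
          exact_mod_cast add_left_cancel h), Finset.card_range]
        refine max_lt ?_ ?_
        · refine lt_of_le_of_lt Polynomial.natDegree_map_le (Nat.lt_succ_of_le ?_)
          refine (Polynomial.natDegree_comp_le).trans ?_
          rw [Polynomial.natDegree_X_sub_C, _root_.mul_one]; exact hTdeg
        · refine lt_of_le_of_lt ((Polynomial.natDegree_C_mul_le _ _).trans
            ((Polynomial.natDegree_C_mul_le _ _).trans (Polynomial.natDegree_comp_le.trans ?_)))
            (Nat.lt_succ_self g)
          refine (Nat.mul_le_mul hQ ((Polynomial.natDegree_C_mul_le _ _).trans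
            Polynomial.natDegree_X_le)).trans ?_
          simp
    refine ⟨P'.coeff j, ?_⟩
    have h := congrArg (fun p => Polynomial.coeff p j) heq
    simp only [Polynomial.coeff_map, eq_intCast, R, Polynomial.coeff_C_mul,
      Polynomial.comp_C_mul_X_coeff] at h
    rw [h, inv_pow, show 2 * g = (2 * g - j) + j by omega, pow_add]
    simp only [Nat.add_sub_cancel]
    field_simp
  obtain ⟨B, hB⟩ := exists_nat_gt (((g : ℚ) + 1) / (v - u))
  have hvu : 0 < v - u := sub_pos.mpr huv
  rw [div_lt_iff₀ hvu] at hB
  have hg0 : (0 : ℚ) ≤ g := by positivity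
  have hBpos : 0 < B := by
    rcases Nat.eq_zero_or_pos B with h | h
    · subst h; simp at hB; linarith
    · exact h
  obtain ⟨z1, h1⟩ := key B hBpos hB
  obtain ⟨z2, h2⟩ := key (B + 1) (Nat.succ_pos _) (by push_cast; nlinarith)
  obtain ⟨x, y, hxy⟩ : IsCoprime ((B : ℤ) ^ (2 * g - j)) (((B : ℤ) + 1) ^ (2 * g - j)) :=
    IsCoprime.pow ⟨-1, 1, by ring⟩
  refine ⟨x * z1 + y * z2, ?_⟩
  have hxy' : (x : ℚ) * (B : ℚ) ^ (2 * g - j) + (y : ℚ) * ((B : ℚ) + 1) ^ (2 * g - j) = 1 := by
    exact_mod_cast hxy
  push_cast at h2 ⊢
  rw [← h1, ← h2]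
  linear_combination -((Nat.factorial g : ℚ) * Q.coeff j) * hxy'

end Groth.Agent.S18112
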