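import Groth.Statements.S18128
import Groth.Agent.H1MinCx.Basic
import Mathlib

set_option autoImplicit false
universe u
open CAlg

namespace Groth.Agent.S18128

open Groth.Agent.CAlgOdd.Acyclicity

/-- Local step of Buchsbaum–Eisenbud: let R be a Noetherian local ring with maximal ideal m, and 0 →
R^(n_e) → ⋯ → R^(n_1) → R^(n_0) a complex of finite free modules, the map R^(n_(i+1)) → R^(n_i)
being given by the matrix A i, with 1 ≤ e and e at most the depth of R (there is an R-regular
sequence of length e inside m). If for every prime ideal p ≠ m the complex of matrices over R_p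
obtained by localization is exact at R_p^(n_e), …, R_p^(n_1), then the complex is exact at R^(n_e),
…, R^(n_1). -/
theorem result
    {R : Type u} [CommRing R] [IsLocalRing R] [IsNoetherianRing R]
    (e : ℕ) (he : 1 ≤ e) (n : ℕ → ℕ) (A : (i : ℕ) → Matrix (Fin (n i)) (Fin (n (i + 1))) R)
    (hA : ∀ i, i + 2 ≤ e → A i * A (i + 1) = 0)
    (rs : List R) (hlen : rs.length = e) (hmem : ∀ x ∈ rs, x ∈ IsLocalRing.maximalIdeal R)
    (hreg : RingTheory.Sequence.IsRegular R rs)
    (hloc : ∀ (p : Ideal R) [p.IsPrime], p ≠ IsLocalRing.maximalIdeal R →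
      LinearMap.ker ((A (e - 1)).map (algebraMap R (Localization.AtPrime p))).mulVecLin = ⊥ ∧
        ∀ i, i + 2 ≤ e →
          LinearMap.ker ((A i).map (algebraMap R (Localization.AtPrime p))).mulVecLin =
            LinearMap.range ((A (i + 1)).map (algebraMap R (Localization.AtPrime p))).mulVecLin) :
    LinearMap.ker (A (e - 1)).mulVecLin = ⊥ ∧
      ∀ i, i + 2 ≤ e → LinearMap.ker (A i).mulVecLin = LinearMap.range (A (i + 1)).mulVecLin := by
  have hR : DepthGE e (ModuleCat.of R R) := by
    rw [depthGE_iff]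
    rw [← hlen]
    exact Groth.Agent.Alg6.length_le_idealDepth hreg.toIsWeaklyRegular hmem
  have hF : ∀ k, DepthGE e (ModuleCat.of R (Fin (n k) → R)) := fun k =>
    Groth.Agent.H1MinCx.depthGE_free hR _
  have hmap : ∀ (p : Ideal R) [p.IsPrime] (k : ℕ) (x : Fin (n (k + 1)) → R),
      ((A k).map (algebraMap R (Localization.AtPrime p))).mulVecLin (fun j => algebraMap R _ (x j)) =
        fun j => algebraMap R (Localization.AtPrime p) ((A k).mulVecLin x j) := by
    intro p _ k x
    funext j
    simp [Matrix.mulVec, dotProduct, map_sum, map_mul]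
  have hzero : ∀ (p : Ideal R) [p.IsPrime] {m : ℕ} (x : Fin m → R),
      (fun j => algebraMap R (Localization.AtPrime p) (x j)) = 0 → ∃ t : R, t ∉ p ∧ t • x = 0 := by
    intro p _ m x hx
    choose t ht using fun j => (IsLocalization.map_eq_zero_iff p.primeCompl (Localization.AtPrime p) (x j)).1 (congrFun hx j)
    refine ⟨∏ j, (t j : R), fun h => ?_, funext fun j => ?_⟩
    · obtain ⟨j, -, hj⟩ := ‹p.IsPrime›.prod_mem_iff.1 h
      exact (t j).2 hj
    · obtain ⟨d, hd⟩ := Finset.dvd_prod_of_mem (fun j => (t j : R)) (Finset.mem_univ j)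
      show (∏ i, (t i : R)) * x j = 0
      rw [hd, mul_right_comm, ht j, zero_mul]
  have key : ∀ (m : ℕ) (K T : Submodule R (Fin m → R)), T ≤ K →
      (∀ p : Ideal R, p.IsPrime → p ≠ IsLocalRing.maximalIdeal R → ∀ x ∈ K, ∃ t, t ∉ p ∧ t • x ∈ T) →
      (∀ x ∈ K, (∀ a ∈ IsLocalRing.maximalIdeal R, a • x ∈ T) → x ∈ T) → K ≤ T := by
    intro m K T hTK h1 h2
    by_contra hKT
    obtain ⟨x₀, hxK, hxT⟩ := SetLike.not_le_iff_exists.1 hKT
    let H := ↥K ⧸ T.comap K.subtype
    have hne : (Submodule.Quotient.mk ⟨x₀, hxK⟩ : H) ≠ 0 := by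
      rw [Ne, Submodule.Quotient.mk_eq_zero]
      exact hxT
    obtain ⟨P, hP, hann⟩ := Groth.Agent.Alg6.exists_ass_ge (R := R) (M := H) hne
    obtain ⟨hPprime, z, hz⟩ := Groth.Agent.Alg6.mem_ass_iff.1 hP
    obtain ⟨⟨x, hx⟩, rfl⟩ := Submodule.Quotient.mk_surjective _ z
    have hz' : ∀ a : R, a ∈ P ↔ a • x ∈ T := fun a => by
      rw [hz a, ← Submodule.Quotient.mk_smul, Submodule.Quotient.mk_eq_zero]
      exact Iff.rfl
    by_cases hPm : P = IsLocalRing.maximalIdeal R
    · have hxT : x ∈ T := h2 x hx fun a ha => (hz' a).1 (hPm ▸ ha)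
      exact hPprime.ne_top ((Ideal.eq_top_iff_one P).2 ((hz' 1).2 (by rwa [one_smul])))
    · obtain ⟨t, ht, htx⟩ := h1 P hPprime hPm x hx
      exact ht ((hz' t).2 htx)
  have hsoc : ∀ (m : ℕ) (B : Submodule R (Fin m → R)), DepthGE 1 (ModuleCat.of R (Fin m → R)) →
      (∀ x : Fin m → R, (∀ a ∈ IsLocalRing.maximalIdeal R, a • x = 0) → x = 0) := by
    intro m B hd x hx
    haveI := hd 0 one_pos
    haveI := CategoryTheory.Abelian.Ext.addEquiv₀.symm.subsingleton
      (α := ModuleCat.of R (R ⧸ IsLocalRing.maximalIdeal R) ⟶ ModuleCat.of R (Fin m → R))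
    let g : ModuleCat.of R (R ⧸ IsLocalRing.maximalIdeal R) ⟶ ModuleCat.of R (Fin m → R) :=
      ModuleCat.ofHom (Submodule.liftQ _ (LinearMap.toSpanSingleton R _ x) fun a ha => hx a ha)
    have h0 : g.hom (Submodule.Quotient.mk (1 : R)) = 0 := by rw [Subsingleton.elim g 0]; rfl
    have h1 : (1 : R) • x = 0 := h0
    rwa [one_smul] at h1
  have h1F : ∀ k, DepthGE 1 (ModuleCat.of R (Fin (n k) → R)) := fun k t ht => hF k t (by omega)
  obtain ⟨e, rfl⟩ : ∃ e', e = e' + 1 := ⟨e - 1, by omega⟩
  rw [Nat.add_sub_cancel] at hloc ⊢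
  have htop : LinearMap.ker (A e).mulVecLin = ⊥ := by
    refine le_bot_iff.1 (key _ _ _ bot_le (fun p hp hpm x hx => ?_) fun x _ h => ?_)
    · have h0 := (hloc p hpm).1
      obtain ⟨t, ht, htx⟩ := hzero p x (by
        rw [← Submodule.mem_bot (Localization.AtPrime p), ← h0, LinearMap.mem_ker, hmap p e x, LinearMap.mem_ker.1 hx]
        funext j
        simp)
      exact ⟨t, ht, by rw [htx]; exact zero_mem _⟩
    · exact (Submodule.mem_bot R).2 (hsoc _ ⊥ (h1F _) x fun a ha => (Submodule.mem_bot R).1 (h a ha))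
  refine ⟨htop, ?_⟩
  suffices H : ∀ d i, i + d = e → DepthGE (i + 1) (ModuleCat.of R (LinearMap.range (A i).mulVecLin)) ∧
      (1 ≤ d → LinearMap.ker (A i).mulVecLin = LinearMap.range (A (i + 1)).mulVecLin) from
    fun i hi => (H (e - i) i (by omega)).2 (by omega)
  intro d
  induction d with
  | zero =>
    intro i hi
    obtain rfl : i = e := by omega
    refine ⟨fun t ht => ?_, by omega⟩
    let eq : ModuleCat.of R (Fin (n (i + 1)) → R) ≅ ModuleCat.of R (LinearMap.range (A i).mulVecLin) :=
      (LinearEquiv.ofInjective _ (LinearMap.ker_eq_bot.1 htop)).toModuleIso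
    exact (((CategoryTheory.Abelian.extFunctor t).obj (Opposite.op (ModuleCat.of R (R ⧸ IsLocalRing.maximalIdeal R)))).mapIso
      eq).addCommGroupIsoToAddEquiv.toEquiv.subsingleton_congr.1 (hF _ t ht)
  | succ d ih =>
    intro i hi
    obtain ⟨hB, -⟩ := ih (i + 1) (by omega)
    have hle : LinearMap.range (A (i + 1)).mulVecLin ≤ LinearMap.ker (A i).mulVecLin := by
      rintro _ ⟨y, rfl⟩
      rw [LinearMap.mem_ker, ← LinearMap.comp_apply, ← Matrix.mulVecLin_mul, hA i (by omega), Matrix.mulVecLin_zero]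
      rfl
    have hex : LinearMap.ker (A i).mulVecLin = LinearMap.range (A (i + 1)).mulVecLin := by
      refine le_antisymm (key _ _ _ hle (fun p hp hpm x hx => ?_) fun x hx h => ?_) hle
      · have h0 := (hloc p hpm).2 i (by omega)
        have hmem : (fun j => algebraMap R (Localization.AtPrime p) (x j)) ∈
            LinearMap.ker ((A i).map (algebraMap R (Localization.AtPrime p))).mulVecLin := by
          rw [LinearMap.mem_ker, hmap p i x, LinearMap.mem_ker.1 hx]
          funext j
          simp
        rw [h0] at hmem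
        obtain ⟨y, hy⟩ := hmem
        obtain ⟨s, hs⟩ := IsLocalization.exist_integer_multiples_of_finite p.primeCompl y
        choose y' hy' using hs
        obtain ⟨t, ht, htx⟩ := hzero p ((s : R) • x - (A (i + 1)).mulVecLin y') (by
          have hsy : (fun j => algebraMap R (Localization.AtPrime p) (y' j)) = algebraMap R (Localization.AtPrime p) (s : R) • y := by
            funext j
            rw [hy' j, Pi.smul_apply, Algebra.smul_def, smul_eq_mul]
          have h3 := hmap p (i + 1) y'
          rw [hsy, map_smul, hy] at h3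
          funext j
          have h4 := congrFun h3 j
          simp only [Pi.smul_apply, smul_eq_mul, Pi.sub_apply, Pi.zero_apply, map_sub, map_mul] at h4 ⊢
          rw [sub_eq_zero]
          exact h4)
        refine ⟨t * s, fun hh => (hp.mem_or_mem hh).elim ht s.2, ⟨t • y', ?_⟩⟩
        rw [map_smul, mul_smul, eq_comm, ← sub_eq_zero, ← smul_sub]
        exact htx
      · haveI := hB 1 (by omega)
        haveI := h1F (i + 1) 0 one_pos
        by_contra hxT
        let g : ModuleCat.of R (R ⧸ IsLocalRing.maximalIdeal R) ⟶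
            ModuleCat.of R ((Fin (n (i + 1)) → R) ⧸ LinearMap.range (A (i + 1)).mulVecLin) :=
          ModuleCat.ofHom (Submodule.liftQ _ (LinearMap.toSpanSingleton R _ (Submodule.Quotient.mk x))
            fun a ha => (Submodule.Quotient.mk_eq_zero _).2 (h a ha))
        let S : CategoryTheory.ShortComplex (ModuleCat.{u} R) :=
          CategoryTheory.ShortComplex.mk (ModuleCat.ofHom (LinearMap.range (A (i + 1)).mulVecLin).subtype)
            (ModuleCat.ofHom (LinearMap.range (A (i + 1)).mulVecLin).mkQ) (by ext z; simp)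
        have hS : S.ShortExact :=
          { exact := (CategoryTheory.ShortComplex.ShortExact.moduleCat_exact_iff_function_exact _).2
              (LinearMap.exact_subtype_mkQ _)
            mono_f := (ModuleCat.mono_iff_injective _).2 Subtype.val_injective
            epi_g := (ModuleCat.epi_iff_surjective _).2 (Submodule.mkQ_surjective _) }
        haveI : Subsingleton (CategoryTheory.Abelian.Ext (ModuleCat.of R (R ⧸ IsLocalRing.maximalIdeal R)) S.X₃ 0) :=
          Groth.Agent.LC.ext_subsingleton_X₃ hS _ 0 (h1F (i + 1) 0 one_pos) (hB 1 (by omega))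
        haveI := CategoryTheory.Abelian.Ext.addEquiv₀.symm.subsingleton
          (α := ModuleCat.of R (R ⧸ IsLocalRing.maximalIdeal R) ⟶ S.X₃)
        have h0 : g.hom (Submodule.Quotient.mk (1 : R)) = 0 := by
          rw [show g = 0 from Subsingleton.elim (α := ModuleCat.of R (R ⧸ IsLocalRing.maximalIdeal R) ⟶ S.X₃) g 0]
          rfl
        have h1 : (1 : R) • (Submodule.Quotient.mk x : (Fin (n (i + 1)) → R) ⧸ LinearMap.range (A (i + 1)).mulVecLin) = 0 := h0
        rw [one_smul] at h1
        exact hxT ((Submodule.Quotient.mk_eq_zero _).1 h1)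
    refine ⟨fun t ht => ?_, fun _ => hex⟩
    let S : CategoryTheory.ShortComplex (ModuleCat.{u} R) :=
      CategoryTheory.ShortComplex.mk (ModuleCat.ofHom (LinearMap.range (A (i + 1)).mulVecLin).subtype)
        (ModuleCat.ofHom (A i).mulVecLin.rangeRestrict) (by
          ext ⟨z, y, rfl⟩
          have h5 : (A i).mulVecLin ((A (i + 1)).mulVecLin y) = 0 := hle ⟨y, rfl⟩
          exact congrFun h5 _)
    have hS : S.ShortExact :=
      { exact := by
          rw [CategoryTheory.ShortComplex.moduleCat_exact_iff]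
          intro z hz
          exact ⟨⟨z, hex ▸ (congrArg Subtype.val hz : _)⟩, rfl⟩
        mono_f := (ModuleCat.mono_iff_injective _).2 Subtype.val_injective
        epi_g := (ModuleCat.epi_iff_surjective _).2 (LinearMap.surjective_rangeRestrict _) }
    exact Groth.Agent.LC.ext_subsingleton_X₃ hS _ t (hF (i + 1) t (by omega)) (hB (t + 1) (by omega))

end Groth.Agent.S18128
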