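import Groth.Statements.S18136
import Mathlib.RingTheory.Ideal.Cotangent
import Mathlib.RingTheory.LocalRing.ResidueField.Basic

set_option autoImplicit false
universe u v
open IsLocalRing
open CAlg

namespace Groth.Agent.S18136

/-- Let A be a regular local ring with maximal ideal m and residue field k, written as a directed
colimit of regular local rings A_j with local transition maps (compatible maps ψ_j : A_j → A that
are jointly surjective, an element dying in A dying at some later stage). Let f_1, …, f_c, g_1, …,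
g_d ∈ m have linearly independent classes in m/m^2 over k, and put I = (f_1, …, f_c) ⊆ I' = (f_1, …,
f_c, g_1, …, g_d) (so I is generated by part of a regular system of parameters of A and I'/I by part
of a regular system of parameters of A/I; for a regular local ring the condition on I ⊆ I' is stated
through such a joint family). Then there are an index j_0 and ideals I_j ⊆ I'_j ⊆ A_j for j ≥ j_0
such that: each I_j is generated by c elements and I'_j by these together with d further elements of
the maximal ideal m_j, the c + d classes in m_j/m_j^2 being linearly independent over the residue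
field of A_j; the transition maps carry I_i, I'_i onto generators of I_j, I'_j for j_0 ≤ i ≤ j; and
I_j, I'_j generate I, I' in A. -/
theorem result
    {A : Type u} [CommRing A] [IsRegularLocalRing A]
    {ι : Type v} [Preorder ι] [Nonempty ι] [IsDirected ι (· ≤ ·)]
    (B : ι → Type u) [∀ j, CommRing (B j)] [∀ j, IsRegularLocalRing (B j)]
    (φ : ∀ i j, i ≤ j → (B i →+* B j)) (hφloc : ∀ i j (h : i ≤ j), IsLocalHom (φ i j h))
    (hφ : ∀ i j l (hij : i ≤ j) (hjl : j ≤ l), (φ j l hjl).comp (φ i j hij) = φ i l (hij.trans hjl))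
    (ψ : ∀ j, B j →+* A) (hψ : ∀ i j (h : i ≤ j), (ψ j).comp (φ i j h) = ψ i)
    (hsurj : ∀ a : A, ∃ j, ∃ x : B j, ψ j x = a)
    (hker : ∀ j (x : B j), ψ j x = 0 → ∃ l, ∃ h : j ≤ l, φ j l h x = 0)
    (c d : ℕ) (f : Fin c → maximalIdeal A) (g : Fin d → maximalIdeal A)
    (hind : LinearIndependent (ResidueField A) (⇑(maximalIdeal A).toCotangent ∘ Sum.elim f g)) :
    ∃ j₀ : ι, ∃ (P : ∀ j, j₀ ≤ j → Ideal (B j)) (Q : ∀ j, j₀ ≤ j → Ideal (B j)),
      (∀ j (hj : j₀ ≤ j), ∃ (F : Fin c → maximalIdeal (B j)) (E : Fin d → maximalIdeal (B j)),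
        LinearIndependent (ResidueField (B j)) (⇑(maximalIdeal (B j)).toCotangent ∘ Sum.elim F E) ∧
        P j hj = Ideal.span (Set.range (fun s => (F s : B j))) ∧
        Q j hj = P j hj ⊔ Ideal.span (Set.range (fun t => (E t : B j)))) ∧
      (∀ i j (hi : j₀ ≤ i) (hij : i ≤ j),
        (P i hi).map (φ i j hij) = P j (le_trans hi hij) ∧ (Q i hi).map (φ i j hij) = Q j (le_trans hi hij)) ∧
      (∀ j (hj : j₀ ≤ j),
        (P j hj).map (ψ j) = Ideal.span (Set.range (fun s => (f s : A))) ∧
        (Q j hj).map (ψ j) = Ideal.span (Set.range (fun s => (f s : A))) ⊔ Ideal.span (Set.range (fun t => (g t : A)))) := by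
  classical
  have hloc : ∀ j (x : B j), IsUnit (ψ j x) → IsUnit x := by
    intro j x hx
    obtain ⟨y, hy⟩ := hx.exists_right_inv
    obtain ⟨l, z, hz⟩ := hsurj y
    obtain ⟨k, hjk, hlk⟩ := exists_ge_ge j l
    have h : ψ k (φ j k hjk x * φ l k hlk z - 1) = 0 := by
      rw [map_sub, map_mul, ← RingHom.comp_apply (ψ k), hψ, ← RingHom.comp_apply (ψ k), hψ, hz, hy, map_one, sub_self]
    obtain ⟨m, hkm, hm⟩ := hker k _ h
    rw [map_sub, map_mul, map_one, sub_eq_zero] at hm
    have hu : IsUnit (φ k m hkm (φ j k hjk x)) := IsUnit.of_mul_eq_one _ hm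
    haveI := hφloc k m hkm
    haveI := hφloc j k hjk
    exact isUnit_of_map_unit (φ j k hjk) x (isUnit_of_map_unit (φ k m hkm) _ hu)
  let a : Fin c ⊕ Fin d → A := fun s => (Sum.elim f g s : maximalIdeal A)
  have hs : ∀ s : Fin c ⊕ Fin d, ∃ (j : ι) (x : B j), ψ j x = a s := fun s => hsurj _
  choose J X hX using hs
  obtain ⟨j₀, hj₀⟩ := Finite.exists_le J
  let Y : ∀ j, j₀ ≤ j → Fin c ⊕ Fin d → B j := fun j hj s => φ (J s) j ((hj₀ s).trans hj) (X s)
  have hY : ∀ j hj s, ψ j (Y j hj s) = a s := fun j hj s => by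
    show ψ j (φ _ _ _ (X s)) = _
    rw [← RingHom.comp_apply, hψ, hX]
  have hYm : ∀ j hj s, Y j hj s ∈ maximalIdeal (B j) := fun j hj s => by
    rw [mem_maximalIdeal, mem_nonunits_iff]
    intro hu
    have h := hu.map (ψ j)
    rw [hY j hj] at h
    exact (Sum.elim f g s).2 h
  have hYφ : ∀ i j (hi : j₀ ≤ i) (hij : i ≤ j) s, φ i j hij (Y i hi s) = Y j (hi.trans hij) s := fun i j hi hij s => by
    show φ i j hij (φ _ _ _ (X s)) = φ _ _ _ (X s)
    rw [← RingHom.comp_apply, hφ]
  refine ⟨j₀, fun j hj => Ideal.span (Set.range fun s => Y j hj (Sum.inl s)),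
    fun j hj => Ideal.span (Set.range fun s => Y j hj (Sum.inl s)) ⊔ Ideal.span (Set.range fun t => Y j hj (Sum.inr t)),
    fun j hj => ⟨fun s => ⟨Y j hj (Sum.inl s), hYm j hj _⟩, fun t => ⟨Y j hj (Sum.inr t), hYm j hj _⟩, ?_, rfl, rfl⟩,
    fun i j hi hij => ?_, fun j hj => ?_⟩
  · rw [Fintype.linearIndependent_iff] at hind ⊢
    intro r hr s
    choose b hb using fun s => Ideal.Quotient.mk_surjective (r s)
    have hrel : ∑ t, b t • (maximalIdeal (B j)).toCotangent ⟨Y j hj t, hYm j hj t⟩ = 0 := by
      rw [← hr]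
      refine Finset.sum_congr rfl fun t _ => ?_
      rcases t with t | t <;> · rw [← hb]; exact (algebraMap_smul (ResidueField (B j)) _ _).symm
    rw [← Finset.sum_congr rfl (fun t _ => map_smul (maximalIdeal (B j)).toCotangent (b t) _), ← map_sum,
      Ideal.toCotangent_eq_zero] at hrel
    simp only [Submodule.coe_sum, Submodule.coe_smul, smul_eq_mul] at hrel
    have hA : (∑ t, ψ j (b t) * a t) ∈ maximalIdeal A ^ 2 := by
      have h := Ideal.mem_map_of_mem (ψ j) hrel
      rw [map_sum, Ideal.map_pow] at h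
      simp only [map_mul, hY] at h
      refine Ideal.pow_right_mono (Ideal.map_le_iff_le_comap.2 fun z hz => ?_) 2 h
      rw [Ideal.mem_comap, mem_maximalIdeal, mem_nonunits_iff]
      exact fun hu => hz (hloc j z hu)
    have h0 : ∑ t, residue A (ψ j (b t)) • (maximalIdeal A).toCotangent (Sum.elim f g t) = 0 := by
      show ∑ t, algebraMap A (ResidueField A) (ψ j (b t)) • (maximalIdeal A).toCotangent (Sum.elim f g t) = 0
      rw [Finset.sum_congr rfl (fun t _ => algebraMap_smul (ResidueField A) (ψ j (b t)) _),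
        Finset.sum_congr rfl (fun t _ => (map_smul (maximalIdeal A).toCotangent (ψ j (b t)) _).symm), ← map_sum,
        Ideal.toCotangent_eq_zero]
      simpa only [Submodule.coe_sum, Submodule.coe_smul, smul_eq_mul] using hA
    have h1 := hind (fun t => residue A (ψ j (b t))) h0 s
    rw [← hb s]
    refine (residue_eq_zero_iff (b s)).2 ?_
    rw [mem_maximalIdeal, mem_nonunits_iff]
    rw [residue_eq_zero_iff, mem_maximalIdeal, mem_nonunits_iff] at h1
    exact fun hu => h1 (hu.map _)
  · simp only [Ideal.map_sup, Ideal.map_span, ← Set.range_comp, Function.comp_def, hYφ, and_self]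
  · simp only [Ideal.map_sup, Ideal.map_span, ← Set.range_comp, Function.comp_def, hY]
    exact ⟨rfl, rfl⟩

end Groth.Agent.S18136
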