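import Groth.Statements.S1815
import Groth.Agent.RGammaD.CechUniv

set_option autoImplicit false
universe u
open CategoryTheory CategoryTheory.Limits
attribute [local instance] HasDerivedCategory.standard
open LocCoh

namespace Groth.Agent.S1815

set_option backward.isDefEq.respectTransparency false
set_option linter.style.haveILetI false


/-- Let I and J be ideals of a Noetherian ring A and M a finite A-module; assume RΓ_J exists as a total
right derived functor, derived I-completion exists, and D(A) has countable products. Then the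
derived I-completion of RΓ_J(M) is a derived limit of the inverse system n ↦ RΓ_J(M/I^nM)
(transition maps induced by the quotient maps), and its cohomology vanishes in negative degrees. -/
theorem result (A : Type u) [CommRing A] [IsNoetherianRing A] (I J : Ideal A) [DRing.HasRgammaI J] [DRing.HasDerivedCompletion I] [∀ K : ℕ → Dual.D A, HasProduct K] (M : Type u) [AddCommGroup M] [Module A M] [Module.Finite A M] : DCoh.IsRlim (fun n : ℕ => (DRing.RgammaI J).obj (Dual.inD A (M ⧸ (I ^ n • ⊤ : Submodule A M)))) (fun n : ℕ => (DRing.RgammaI J).map ((DerivedCategory.singleFunctor (ModuleCat.{u} A) 0).map (ModuleCat.ofHom (Submodule.mapQ (I ^ (n + 1) • ⊤ : Submodule A M) (I ^ n • ⊤ : Submodule A M) LinearMap.id (Submodule.smul_mono (Ideal.pow_le_pow_right (Nat.le_succ n)) le_rfl))))) ((DRing.derivedCompletion I).obj ((DRing.RgammaI J).obj (Dual.inD A M))).obj ∧ ∀ i : ℤ, i < 0 → Subsingleton (Dual.HD A ((DRing.derivedCompletion I).obj ((DRing.RgammaI J).obj (Dual.inD A M))).obj i)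 := by
  obtain ⟨sI, hsI⟩ := IsNoetherian.noetherian I
  obtain ⟨sJ, hsJ⟩ := IsNoetherian.noetherian J
  let fs := sI.toList
  let gs := sJ.toList
  have hfs : Ideal.span {x : A | x ∈ fs} = I := by
    rw [show {x : A | x ∈ fs} = (sI : Set A) from Set.ext fun x => Finset.mem_toList]
    exact hsI
  have hgs : Ideal.span {x : A | x ∈ gs} = J := by
    rw [show {x : A | x ∈ gs} = (sJ : Set A) from Set.ext fun x => Finset.mem_toList]
    exact hsJ
  let M' := ModuleCat.of A M
  haveI : Module.Finite A M' := inferInstanceAs (Module.Finite A M)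
  let E := RGammaD.powSys I M' ⋙ RGammaD.cechF gs
  let K := (Functor.const ℕᵒᵖ).obj M' ⋙ RGammaD.cechF gs
  let C := RGammaD.quotSys I M' ⋙ RGammaD.cechF gs
  let a : E ⟶ K := Functor.whiskerRight (RGammaD.powNat I M') (RGammaD.cechF gs)
  let b : K ⟶ C := Functor.whiskerRight (RGammaD.quotNat I M') (RGammaD.cechF gs)
  choose w hw using RGammaD.shortExact_powQuot I M'
  have hS := fun n => H1CechLC.cxSC_shortExact (hw n) gs
  have hE : RGammaD.PZ (E ⋙ RGammaD.konR fs) :=
    (RGammaD.pzk_cech M' fs hfs gs 0).of_iso (Functor.isoWhiskerRight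
      (Functor.isoWhiskerLeft E (CategoryTheory.shiftFunctorZero (DRing.Cx A) ℤ) ≪≫ Functor.rightUnitor E) _)
  have hbij := fun (W : Dual.D A) (hW : DRing.IsDerivedComplete I W) =>
    RGammaD.bijective_fibMap a b (fun n => (H1CechLC.cxSC (ShortComplex.mk _ _ (w n)) gs).zero) (fun n => hS n) fs
      (fun f hf => hfs ▸ Ideal.subset_span hf) hE hW
  obtain ⟨eK⟩ := RGammaD.nonempty_fibConst gs M'
  have hC : DRing.IsDerivedComplete I (DerivedCategory.Q.obj (RGammaD.fib C)) :=
    RGammaD.isDerivedComplete_fib C fun f hf n => ⟨n, RGammaD.smul_id_extCech_eq_zero (fun x => by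
      obtain ⟨m, rfl⟩ := Submodule.mkQ_surjective _ x
      exact (Submodule.Quotient.mk_eq_zero _).2
        (Submodule.smul_mem_smul (Ideal.pow_mem_pow hf n) Submodule.mem_top)) gs⟩
  choose θ hθ using RGammaD.exists_cechIso J gs hgs
  let R := fun n : ℕ => (DRing.RgammaI J).obj (Dual.inD A (M ⧸ (I ^ n • ⊤ : Submodule A M)))
  let η : (DRing.RgammaI J).obj (Dual.inD A M) ⟶ DerivedCategory.Q.obj (RGammaD.fib C) :=
    ((θ M').symm ≪≫ eK).hom ≫ DerivedCategory.Q.map (RGammaD.fibMap b)
  obtain ⟨eL⟩ := RGammaD.nonempty_iso_completion η hC fun W hW => by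
    have e : (fun φ : DerivedCategory.Q.obj (RGammaD.fib C) ⟶ W => η ≫ φ) =
        ((θ M').symm ≪≫ eK).symm.homFromEquiv ∘ (fun φ => DerivedCategory.Q.map (RGammaD.fibMap b) ≫ φ) :=
      funext fun φ => Category.assoc _ _ _
    exact e ▸ (Equiv.bijective _).comp (hbij W hW)
  refine ⟨?_, fun i hi => ?_⟩
  · haveI := RGammaD.isIso_prodQ (RGammaD.terms C)
    let Z := fun n => DerivedCategory.Q.obj ((RGammaD.terms C) n)
    let Φ : DerivedCategory.Q.obj (∏ᶜ RGammaD.terms C) ⟶ ∏ᶜ Z :=
      Pi.lift fun n => DerivedCategory.Q.map (Pi.π (RGammaD.terms C) n)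
    let θn : ∀ n, Z n ≅ R n := fun n => θ (ModuleCat.of A (M ⧸ (I ^ n • ⊤ : Submodule A M)))
    let Ψ : DerivedCategory.Q.obj (∏ᶜ RGammaD.terms C) ≅ ∏ᶜ R := asIso Φ ≪≫ Limits.Pi.mapIso θn
    have hΨ : ∀ n, Ψ.hom ≫ Pi.π R n = DerivedCategory.Q.map (Pi.π (RGammaD.terms C) n) ≫ (θn n).hom := fun n => by
      show (Φ ≫ Limits.Pi.map fun n => (θn n).hom) ≫ Pi.π R n = _
      rw [Category.assoc, Limits.Pi.map_π, Pi.lift_π_assoc]
    have hT := DerivedCategory.mappingCocone_triangle_distinguished (RGammaD.dif C)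
    refine ⟨eL.hom ≫ DerivedCategory.Q.map (CochainComplex.mappingCocone.fst (RGammaD.dif C)) ≫ Ψ.hom,
      Ψ.inv ≫ (DerivedCategory.Q.mapTriangle.obj (CochainComplex.mappingCocone.triangle (RGammaD.dif C))).mor₃ ≫
        eL.inv⟦(1 : ℤ)⟧', Pretriangulated.isomorphic_distinguished _ hT _ ?_⟩
    refine Pretriangulated.Triangle.isoMk _ _ eL Ψ.symm Ψ.symm ?_ ?_ ?_
    · show (_ ≫ _ ≫ Ψ.hom) ≫ Ψ.inv = _
      simp only [Category.assoc, Iso.hom_inv_id, Category.comp_id]
      rfl
    · show _ ≫ Ψ.inv = Ψ.inv ≫ DerivedCategory.Q.map (RGammaD.dif C)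
      rw [← cancel_epi Ψ.hom, Iso.hom_inv_id_assoc, ← cancel_mono Ψ.hom]
      simp only [Category.assoc, Iso.inv_hom_id, Category.comp_id]
      refine Limits.Pi.hom_ext _ _ fun n => ?_
      simp only [Pretriangulated.Triangle.mk_mor₂, Category.assoc]
      erw [Pi.lift_π]
      rw [hΨ, Preadditive.comp_sub, hΨ, ← Category.assoc (DerivedCategory.Q.map (RGammaD.dif C)),
        ← Functor.map_comp, RGammaD.dif_π, Functor.map_sub, Functor.map_comp, Preadditive.sub_comp,
        reassoc_of% hΨ (n + 1), Category.assoc]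
      refine congrArg (fun t => _ - DerivedCategory.Q.map (Pi.π (RGammaD.terms C) (n + 1)) ≫ t) ?_
      exact (RGammaD.cechIso_naturality J gs ((RGammaD.quotSys I M').map (homOfLE (Nat.le_succ n)).op) _ _ (hθ _) (hθ _)).symm
    · show (Ψ.inv ≫ _ ≫ eL.inv⟦(1 : ℤ)⟧') ≫ eL.hom⟦(1 : ℤ)⟧' = Ψ.inv ≫ _
      rw [Category.assoc, Category.assoc, ← Functor.map_comp, Iso.inv_hom_id, CategoryTheory.Functor.map_id,
        Category.comp_id]
  · have hz := RGammaD.isZero_homology_fib (Y := C) (fun n p hp => Groth.Agent.LC.ExtCech.isZero_extCech_X_neg _ gs p hp) hi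
    obtain ⟨e⟩ := RGammaD.hd_iso (RGammaD.fib C) i
    have h1 : IsZero ((DerivedCategory.homologyFunctor (ModuleCat.{u} A) i).obj (DerivedCategory.Q.obj (RGammaD.fib C))) :=
      hz.of_iso ((DerivedCategory.homologyFunctorFactors (ModuleCat.{u} A) i).app (RGammaD.fib C))
    exact ModuleCat.subsingleton_of_isZero
      (h1.of_iso ((DerivedCategory.homologyFunctor (ModuleCat.{u} A) i).mapIso eL))

end Groth.Agent.S1815
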