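import Groth.Statements.S18151
import Groth.Agent.FrobSplitPow.Basic
import Groth.Agent.CurveCohLib.Proper
import Groth.Agent.QCoh.LocFree
import Groth.Agent.QCoh.Support
import Groth.Agent.H23.PullPush

set_option backward.isDefEq.respectTransparency false
set_option backward.isDefEq.respectTransparency.types false
set_option linter.style.haveILetI false
open Groth.Agent.FrobSplitPow Groth.Agent

set_option autoImplicit false
universe u
open CategoryTheory AlgebraicGeometry Opposite TopologicalSpace
open FrobSch

namespace Groth.Agent.S18151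

/-- Let p be a prime, k a perfect field of characteristic p, and X a proper k-scheme. Let φ be the p-th
power map on the sheaf of additive groups underlying O_X and suppose X is Frobenius split: φ admits
a retraction s, an additive endomorphism of O_X with s ∘ φ the identity and s(a^p·b) = a·s(b) on
every open. Then for every invertible module L and every i the dimension of H^i(X, L) over k is at
most that of H^i(X, L^{⊗p}). (The source shows, for any k-scheme X, that the Frobenius pull-back
H^i(X, L) → H^i(X, L^{⊗p}) is injective, with a left inverse coming from the splitting; that map is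
not named here, so the statement records its consequence on dimensions, for X proper so that both
are finite.) -/
theorem result (p : ℕ) [Fact p.Prime]
    (k : Type u) [Field k] [CharP k p] [PerfectRing k p]
    (X : Scheme.{u}) [X.Over (Spec (CommRingCat.of k))] [IsProper (X ↘ Spec (CommRingCat.of k))]
    (φ : Coh.toAb (Coh.structureModule X) ⟶ Coh.toAb (Coh.structureModule X))
    (hφ : ∀ (U : X.Opens) (t : Γ(X, U)), φ.hom.app (op U) t = t ^ p)
    (s : Coh.toAb (Coh.structureModule X) ⟶ Coh.toAb (Coh.structureModule X))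
    (hs : φ ≫ s = 𝟙 _)
    (hlin : ∀ (U : X.Opens) (a b : Γ(X, U)),
      s.hom.app (op U) (a ^ p * b) = a * @id Γ(X, U) (s.hom.app (op U) b))
    (L : X.Modules) (hL : PicF.IsInvertible L) (i : ℕ) :
    Module.finrank k (Coh.HH X L i) ≤ Module.finrank k (Coh.HH X (CohB1.tensorPow L p) i) := by
  have hp : ∀ U : X.Opens, (p : Γ(X, U)) = 0 := fun U => by
    let q : k →+* Γ(X, U) :=
      (X.presheaf.map (homOfLE (le_top : U ≤ ⊤)).op).hom.comp (Coh.toGlobal (X ↘ Spec (CommRingCat.of k)))
    have h := congrArg q (CharP.cast_eq_zero k p)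
    rwa [map_natCast, map_zero] at h
  let sf : ∀ U : X.Opens, Γ(X, U) →+ Γ(X, U) := fun U => (s.hom.app (op U)).hom
  have hres : ∀ (V U : X.Opens) (h : V ≤ U) (a : Γ(X, U)), sf V (AModX.resR h a) = AModX.resR h (sf U a) :=
    fun V U h a => ConcreteCategory.congr_hom (s.hom.naturality (homOfLE h).op) a
  have hroot : ∀ (U : X.Opens) (a : Γ(X, U)), sf U (a ^ p) = a := fun U a => by
    have h1 : (φ ≫ s).hom.app (op U) a = a := by rw [hs]; rfl
    refine Eq.trans ?_ h1
    show sf U (a ^ p) = sf U (φ.hom.app (op U) a)
    exact congrArg (sf U) (hφ U a).symm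
  have hlin' : ∀ (U : X.Opens) (a b : Γ(X, U)), sf U (a ^ p * b) = a * sf U b := hlin
  let ψ : Coh.toAb L ⟶ Coh.toAb (CohB1.tensorPow L p) :=
    ⟨{ app := fun U => AddCommGrpCat.ofHom (AddMonoidHom.mk' (powT (L := L) p (U := U.unop)) (powT_add p hL hp))
       naturality := fun U V i => by
        ext a
        exact (res_powT p i.unop.le a).symm }⟩
  choose root hrootspec using fun (V : X.Opens) (y : Γ(CohB1.tensorPow L p, V)) => exists_isRoot p hL sf hres hlin' y
  have hadd : ∀ (V : X.Opens) (y y' : Γ(CohB1.tensorPow L p, V)), root V (y + y') = root V y + root V y' :=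
    fun V y y' => isRoot_unique p hL sf hlin' (hrootspec V _) fun W h e he b hb => by
      obtain ⟨b₁, h₁⟩ := (isFrame_powT p he).exists_coord le_rfl (AModX.res (CohB1.tensorPow L p) h y)
      obtain ⟨b₂, h₂⟩ := (isFrame_powT p he).exists_coord le_rfl (AModX.res (CohB1.tensorPow L p) h y')
      rw [AModX.res_self] at h₁ h₂
      have hb' : b = b₁ + b₂ := (isFrame_powT p he).coord_unique le_rfl (by
        rw [AModX.res_self, add_smul, ← h₁, ← h₂, ← map_add]
        exact hb.symm)
      rw [map_add, hrootspec V y W h e he b₁ h₁, hrootspec V y' W h e he b₂ h₂, hb', map_add, add_smul]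
  let ρ : Coh.toAb (CohB1.tensorPow L p) ⟶ Coh.toAb L :=
    ⟨{ app := fun U => AddCommGrpCat.ofHom (AddMonoidHom.mk' (root U.unop) (hadd U.unop))
       naturality := fun U V i => by
        ext y
        refine isRoot_unique p hL sf hlin' (hrootspec V.unop _) fun W h e he b hb => ?_
        show AModX.res L h (AModX.res L i.unop.le (root U.unop y)) = _
        rw [AModX.res_res]
        refine hrootspec U.unop y W _ e he b ?_
        rw [← hb]
        exact (AModX.res_res i.unop.le h y).symm }⟩
  have hψρ : ψ ≫ ρ = 𝟙 _ := by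
    ext U l
    exact isRoot_unique p hL sf hlin' (hrootspec U.unop _) (isRoot_powT p hL sf hres hlin' hroot l)
  have hinj : Function.Injective (Sheaf.H.map ψ i) := Function.LeftInverse.injective (g := Sheaf.H.map ρ i) fun x => by
    rw [← Sheaf.H.map_comp_apply, hψρ, Sheaf.H.map_id_apply]
  have hsemi : ∀ (c : k) (x : Coh.HH X L i), Sheaf.H.map ψ i (c • x) =
      (c ^ p • (show Coh.HH X (CohB1.tensorPow L p) i from Sheaf.H.map ψ i x)) := by
    intro c x
    let r : Coh.Γtop X := Coh.toGlobal (X ↘ Spec (CommRingCat.of k)) c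
    have hr : Coh.smulAb L r ≫ ψ = ψ ≫ Coh.smulAb (CohB1.tensorPow L p) (r ^ p) := by
      ext U m
      show ψ.hom.app U ((Coh.smulAb L r).hom.app U m) =
        (Coh.smulAb (CohB1.tensorPow L p) (r ^ p)).hom.app U (ψ.hom.app U m)
      rw [Coh.smulAb_app, Coh.smulAb_app, map_pow]
      exact powT_smul (L := L) p _ m
    show Sheaf.H.map ψ i (Sheaf.H.map (Coh.smulAb L r) i x) =
      Sheaf.H.map (Coh.smulAb (CohB1.tensorPow L p)
        (Coh.toGlobal (X ↘ Spec (CommRingCat.of k)) (c ^ p))) i (Sheaf.H.map ψ i x)
    rw [← Sheaf.H.map_comp_apply, hr, map_pow, Sheaf.H.map_comp_apply]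
  haveI := CurveCohLib.isNoetherian_of_proper (k := k) (X := X)
  haveI : Module.Finite k (Coh.HH X (CohB1.tensorPow L p) i) := CurveCohLib.finite_HH
    (QCoh.isCoh_iff_isFP.2 (QCoh.isFP_of_isFinLocFree
      (H23.PullPush.isFinLocFree_of_isInvertible (InvX.isInvertible_tensorPow hL p)))) i
  by_cases hfin : Module.Finite k (Coh.HH X L i)
  swap
  · rw [Module.finrank_of_not_finite hfin]
    exact Nat.zero_le _
  let b := Module.finBasis k (Coh.HH X L i)
  have hli : LinearIndependent k (fun j => (show Coh.HH X (CohB1.tensorPow L p) i from Sheaf.H.map ψ i (b j))) := by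
    refine Fintype.linearIndependent_iff.mpr fun g hg j => ?_
    choose d hd using fun j => surjective_frobenius k p (g j)
    simp only [frobenius_def] at hd
    have h0 : Sheaf.H.map ψ i (∑ j, d j • b j) = Sheaf.H.map ψ i 0 := by
      rw [map_zero, map_sum]
      refine Eq.trans ?_ hg
      exact Finset.sum_congr rfl fun j _ => by rw [hsemi, hd]
    have h1 := Fintype.linearIndependent_iff.mp b.linearIndependent d (hinj h0) j
    rw [← hd j, h1, zero_pow (Fact.out : p.Prime).ne_zero]
  have := hli.fintype_card_le_finrank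
  simpa using this

end Groth.Agent.S18151
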