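import Groth.Statements.S18158
import Groth.Agent.FrobW2.EtaleFLift
import Groth.Agent.S0118
import Groth.Agent.S5075

set_option autoImplicit false
set_option linter.style.haveILetI false
set_option backward.isDefEq.respectTransparency false
set_option backward.isDefEq.respectTransparency.types false
universe u
open CategoryTheory CategoryTheory.Limits AlgebraicGeometry
open Lift

namespace Groth.Agent.S18158

/-- Let k be an algebraically closed field of characteristic p and q : Y → X an étale morphism to a
smooth k-scheme X. Suppose X has a W_2-lifting of its Frobenius: a scheme X~ flat over Spec W_2(k),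
a morphism i : X → X~ making X the base change of X~ along Spec k → Spec W_2(k) (the residue map),
and an endomorphism F~ of X~ with i ∘ F_X = F~ ∘ i, F_X the absolute Frobenius. Then Y has one as
well: there are a scheme Y~ flat over Spec W_2(k), a morphism j : Y → Y~ making Y the base change of
Y~ along the same map, and an endomorphism G~ of Y~ with j ∘ F_Y = G~ ∘ j. (The source speaks of an
étale cover Y → X of smooth varieties; its argument uses only that Y is étale over X and that X
lifts, so X is taken smooth over k and Y étale over X, with no integrality, separatedness or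
quasi-compactness assumed.) -/
theorem result
    (p : ℕ) [Fact p.Prime] (k : Type u) [Field k] [IsAlgClosed k] [CharP k p]
    (X Y : Scheme.{u}) (f : X ⟶ Spec (CommRingCat.of k)) [Smooth f]
    (q : Y ⟶ X) [AlgebraicGeometry.Etale q]
    [FrobSch.IsCharP X p] [FrobSch.IsCharP Y p]
    (Xl : Scheme.{u}) (g : Xl ⟶ Spec (CommRingCat.of (FrobAlg.W2 p k))) [Flat g]
    (i : X ⟶ Xl) (hsq : IsPullback i f g (Spec.map (CommRingCat.ofHom (FrobAlg.res p k))))
    (Fl : Xl ⟶ Xl) (hF : i ≫ Fl = FrobSch.frob X p ≫ i) :
    ∃ (Yl : Scheme.{u}) (gY : Yl ⟶ Spec (CommRingCat.of (FrobAlg.W2 p k))) (j : Y ⟶ Yl) (Gl : Yl ⟶ Yl),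
      Flat gY ∧ IsPullback j (q ≫ f) gY (Spec.map (CommRingCat.ofHom (FrobAlg.res p k))) ∧
        j ≫ Gl = FrobSch.frob Y p ≫ j := by
  let r : CommRingCat.of (FrobAlg.W2 p k) ⟶ CommRingCat.of k := CommRingCat.ofHom (FrobAlg.res p k)
  haveI hc : IsClosedImmersion (Spec.map r) := IsClosedImmersion.spec_of_surjective r Groth.Agent.FrobW2.res_surjective
  haveI hsS : Surjective (Spec.map r) := by
    refine ⟨fun P => ?_⟩
    obtain ⟨m, hm⟩ := Groth.Agent.FrobW2.res_isNilpotent_ker (p := p) (R := k) (CharP.cast_eq_zero k p)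
    have hle : RingHom.ker (FrobAlg.res p k) ≤ P.asIdeal := by
      refine P.isPrime.le_of_pow_le (n := m) ?_
      rw [hm]; exact bot_le
    have : P ∈ Set.range (PrimeSpectrum.comap (FrobAlg.res p k)) := by
      rw [_root_.range_comap_of_surjective _ _ Groth.Agent.FrobW2.res_surjective]
      exact hle
    exact this
  haveI : IsClosedImmersion i := MorphismProperty.of_isPullback hsq.flip hc
  haveI : Surjective i := MorphismProperty.of_isPullback hsq.flip hsS
  haveI := Groth.Agent.S0118.result i
  let U : X.Etale := MorphismProperty.Over.mk ⊤ q ‹_›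
  obtain ⟨V, ⟨e⟩⟩ := Functor.EssSurj.mem_essImage (F := EtCoh.bc i) U
  haveI hV : AlgebraicGeometry.Etale V.hom := V.prop
  haveI he1 : IsIso e.inv.left := ⟨e.hom.left, congrArg (fun k => k.left) e.inv_hom_id,
    congrArg (fun k => k.left) e.hom_inv_id⟩
  let j : Y ⟶ V.left := e.inv.left ≫ pullback.fst V.hom i
  have hj : IsPullback j q V.hom i := by
    refine IsPullback.of_iso_pullback ⟨?_⟩ (asIso e.inv.left) rfl ?_
    · show (e.inv.left ≫ pullback.fst V.hom i) ≫ V.hom = q ≫ i
      rw [Category.assoc, pullback.condition, ← Category.assoc]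
      exact congrArg (· ≫ i) (MorphismProperty.Over.w e.inv)
    · exact MorphismProperty.Over.w e.inv
  haveI : IsClosedImmersion j := MorphismProperty.of_isPullback hj.flip ‹_›
  haveI : Surjective j := MorphismProperty.of_isPullback hj.flip ‹_›
  obtain ⟨Gl, ⟨-, hG⟩, -⟩ := Groth.Agent.S5075.result V.hom (V.hom ≫ Fl) j (FrobSch.frob Y p ≫ j) (by
    rw [Category.assoc, hj.w, ← Category.assoc, FrobSch.frob_comp p q, Category.assoc, ← hF, ← reassoc_of% hj.w])
  exact ⟨V.left, V.hom ≫ g, j, Gl, inferInstance, hj.paste_vert hsq, hG⟩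

end Groth.Agent.S18158
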