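import Groth.Statements.S18163
import Groth.Agent.ExpDescLib.Core
import Groth.Agent.H23.PicMul
import Groth.Agent.AmpleX.Generated

set_option autoImplicit false
set_option backward.isDefEq.respectTransparency false
set_option backward.isDefEq.respectTransparency.types false
set_option maxHeartbeats 1000000
set_option linter.style.haveILetI false
universe u
open BSB

namespace Groth.Agent.S18163

open Groth.Agent
open Groth.Agent.H23 Groth.Agent.H23.PicMul
open scoped Groth.Agent.H23.PicMul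

open AlgebraicGeometry CategoryTheory CategoryTheory.Limits in
/-- Let X and X' be proper over a field k, π : X ⟶ X' a k-morphism such that O_{X'} ⟶ π_* O_X is an
isomorphism, L an invertible O_X-module, M an ample invertible module on X' whose pullback along π
is isomorphic to L^m for some m > 0, and d > 0 such that for all large n the power L^n is globally
generated exactly when d ∣ n (d is the exponent of the semiample module L, and X' with π is the
contraction L determines). Then for e > 0 the power L^e is isomorphic to the pullback of an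
invertible module on X' if and only if d ∣ e. -/
theorem result (k : Type u) [Field k] (X X' : Scheme.{u})
    [X.Over (Spec (CommRingCat.of k))] [X'.Over (Spec (CommRingCat.of k))]
    [IsProper (X ↘ Spec (CommRingCat.of k))] [IsProper (X' ↘ Spec (CommRingCat.of k))]
    (π : X ⟶ X') (hover : π ≫ (X' ↘ Spec (CommRingCat.of k)) = X ↘ Spec (CommRingCat.of k))
    (hπ : ∀ U : X'.Opens, IsIso (π.app U))
    (L : X.Modules) (hL : PicF.IsInvertible L) (M : X'.Modules) (hM : PicF.IsInvertible M) (hMa : CohB1.IsAmple M)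
    (m : ℕ) (hm : 0 < m) (e0 : Nonempty ((Scheme.Modules.pullback π).obj M ≅ CohB1.tensorPow L m))
    (d : ℕ) (hd : 0 < d)
    (hexp : ∃ m0 : ℕ, ∀ n : ℕ, m0 ≤ n → (Curv2.IsGloballyGenerated (CohB1.tensorPow L n) ↔ d ∣ n)) :
    ∀ e : ℕ, 0 < e →
      ((∃ L' : X'.Modules, PicF.IsInvertible L' ∧ Nonempty ((Scheme.Modules.pullback π).obj L' ≅ CohB1.tensorPow L e)) ↔ d ∣ e) := by
  haveI : (Spec (CommRingCat.of k)).IsSeparated := inferInstance
  haveI : X'.IsSeparated := ⟨by
    rw [← terminal.comp_from (X' ↘ Spec (CommRingCat.of k))]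
    infer_instance⟩
  haveI : IsProper (π ≫ (X' ↘ Spec (CommRingCat.of k))) := by rw [hover]; infer_instance
  haveI : IsProper π := IsProper.of_comp π (X' ↘ Spec (CommRingCat.of k))
  haveI : CompactSpace X' := hMa.2.1
  have hsurj := ExpDescLib.surjective_of_isIso_app π hπ π.isClosedMap
  obtain ⟨m0, hm0⟩ := hexp
  obtain ⟨m', rfl⟩ : ∃ m', m = m' + 1 := ⟨m - 1, by omega⟩
  obtain ⟨e0⟩ := e0
  have hπM : PicF.pullCl π (PicF.cl M) = PicF.cl L ^ (m' + 1) := by
    rw [← cl_tensorPow]
    exact cl_eq_iff.2 ⟨e0⟩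
  intro e he
  constructor
  · rintro ⟨L', hL', ⟨eL⟩⟩
    have hπL' : PicF.pullCl π (PicF.cl L') = PicF.cl L ^ e := by
      rw [← cl_tensorPow]
      exact cl_eq_iff.2 ⟨eL⟩
    have key : ∀ a : ℕ, ∃ b0 : ℕ, ∀ b, b0 ≤ b → d ∣ e * a + (m' + 1) * b := by
      intro a
      obtain ⟨n₀, -, hn₀⟩ := AmpleX.eventually_ample_tensor hMa (InvX.isInvertible_tensorPow (n := a) hL')
      refine ⟨max n₀ m0, fun b hb => ?_⟩
      have hle : m0 ≤ e * a + (m' + 1) * b := by
        have : b ≤ (m' + 1) * b := Nat.le_mul_of_pos_left b (Nat.succ_pos m')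
        omega
      refine (hm0 _ hle).1 ?_
      obtain ⟨i⟩ := cl_eq_iff.1 (show PicF.pullCl π (PicF.cl (CohB1.tensorMod (CohB1.tensorPow M b) (CohB1.tensorPow L' a))) =
          PicF.cl (CohB1.tensorPow L (e * a + (m' + 1) * b)) by
        rw [cl_tensor, pullCl_mul, cl_tensorPow, cl_tensorPow, cl_tensorPow, pullCl_pow, pullCl_pow, hπM, hπL',
          ← pow_mul, ← pow_mul, ← pow_add, add_comm ((m' + 1) * b)])
      exact AmpleX.isGloballyGenerated_of_iso i
        (ExpDescLib.isGloballyGenerated_pullback π (hn₀ b (le_trans (le_max_left _ _) hb)).2)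
    obtain ⟨b1, h1⟩ := key 1
    obtain ⟨b2, h2⟩ := key 2
    have h3 := Nat.dvd_sub (h2 (max b1 b2) (le_max_right _ _)) (h1 (max b1 b2) (le_max_left _ _))
    rwa [show e * 2 + (m' + 1) * max b1 b2 - (e * 1 + (m' + 1) * max b1 b2) = e by omega] at h3
  · rintro ⟨q, rfl⟩
    have desc : ∀ n, m0 ≤ n → d ∣ n → ∃ L' : X'.Modules, PicF.IsInvertible L' ∧
        PicF.pullCl π (PicF.cl L') = PicF.cl L ^ n := by
      intro n hn hdn
      obtain ⟨i⟩ := cl_eq_iff.1 (show PicF.cl (CohB1.tensorPow (CohB1.tensorPow L n) (m' + 1)) =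
          PicF.pullCl π (PicF.cl (CohB1.tensorPow M n)) by
        rw [cl_tensorPow, cl_tensorPow, cl_tensorPow, pullCl_pow, hπM, ← pow_mul, ← pow_mul, mul_comm])
      obtain ⟨L', hL', ⟨j⟩⟩ := ExpDescLib.exists_descend π hπ hsurj (InvX.isInvertible_tensorPow (n := n) hM)
        (InvX.isInvertible_tensorPow (n := n) hL) ((hm0 n hn).2 hdn) m' i
      exact ⟨L', hL', (cl_eq_iff.2 ⟨j⟩).trans (cl_tensorPow L n)⟩
    have hle : m0 ≤ d * (m0 + 1) := (Nat.le_succ m0).trans (Nat.le_mul_of_pos_left _ hd)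
    obtain ⟨A, hA, hA'⟩ := desc _ hle (dvd_mul_right d _)
    obtain ⟨B, hB, hB'⟩ := desc (d * (m0 + 1) + d) (hle.trans (Nat.le_add_right _ _)) (dvd_add (dvd_mul_right d _) dvd_rfl)
    obtain ⟨D, hD, ⟨eD⟩⟩ := PicInv.exists_inverse hA
    have hBD : PicF.IsInvertible (CohB1.tensorMod B D) := InvX.isInvertible_tensorMod hB hD
    have hd' : PicF.pullCl π (PicF.cl (CohB1.tensorMod B D)) = PicF.cl L ^ d := by
      refine ((isUnit_cl hL).pow (d * (m0 + 1))).mul_left_injective ?_
      show _ * PicF.cl L ^ (d * (m0 + 1)) = _ * PicF.cl L ^ (d * (m0 + 1))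
      rw [← pow_add, add_comm d, ← hB', ← hA', cl_tensor, ← pullCl_mul, mul_assoc, mul_comm (PicF.cl D),
        ← cl_tensor A D, cl_eq_iff.2 ⟨eD⟩, ← one_def, mul_one]
    refine ⟨CohB1.tensorPow (CohB1.tensorMod B D) q, InvX.isInvertible_tensorPow (n := q) hBD, cl_eq_iff.1 ?_⟩
    show PicF.pullCl π (PicF.cl (CohB1.tensorPow (CohB1.tensorMod B D) q)) = _
    rw [cl_tensorPow, cl_tensorPow, pullCl_pow, hd', ← pow_mul]

end Groth.Agent.S18163
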