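import Groth.Statements.S18164
import Groth.Agent.RelVA.Main
-- import your own Groth.Agent.* helpers here

set_option autoImplicit false
set_option backward.isDefEq.respectTransparency false
set_option backward.isDefEq.respectTransparency.types false
set_option linter.style.haveILetI false
set_option maxHeartbeats 1000000
universe u
open BSB

namespace Groth.Agent.S18164
open Groth.Agent

open AlgebraicGeometry CategoryTheory CategoryTheory.Limits in
/-- Let A be a Noetherian ring, π : X ⟶ Spec A proper and flat, L an ample invertible O_X-module and y a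
point of Spec A such that the restriction L_y of L to the fibre X_y is very ample over the residue
field of y (pullback of O(1) along an immersion into some projective space) and H^1(X_y, L_y) = 0.
Then y has an open neighbourhood U such that L restricted to π⁻¹(U) is very ample relative to π⁻¹(U)
⟶ U (pullback of O(1) along a U-immersion into the projective bundle of a quasi-coherent module).
(Projectivity of π in the source is rendered as properness together with the ample module L.) -/
theorem result (A : Type u) [CommRing A] [IsNoetherianRing A]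
    (X : Scheme.{u}) (π : X ⟶ Spec (CommRingCat.of A)) [IsProper π] [Flat π]
    (L : X.Modules) (hLi : PicF.IsInvertible L) (hLa : CohB1.IsAmple L) (y : Spec (CommRingCat.of A))
    (hva : RelAmple.IsRelVeryAmplePn (π.fiberToSpecResidueField y) (CohIII.fiberMod π L y))
    (h1 : Subsingleton (CohIII.fiberH π L y 1)) :
    ∃ U : (Spec (CommRingCat.of A)).Opens, y ∈ U ∧ RelProj.IsRelVeryAmple (π ∣_ U) (L.restrict (π ⁻¹ᵁ U).ι) := by
  have hq := ProjUPX.isQCoh_of_isInvertible hLi
  have hfp : CohB1.IsFP L := QCoh.isFP_of_isFinLocFree fun x =>
    let ⟨U, hx, e⟩ := InvEnd.isFinLocFreeOfRank_one hLi x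
    ⟨U, 1, hx, e⟩
  have hex : CohPullLib.ExchAt π L 0 y :=
    (CohPullLib.vanAt_of_subsingleton hq hfp (H23.Seesaw.isFlatOver_of_isInvertible π hLi) 1 h1).exchAt_pred
  haveI := CohPullLib.isIso_bc0_of_exchAt (f := π) (f' := π.fiberToSpecResidueField y) (g' := π.fiberι y)
    (g := (Spec (CommRingCat.of A)).fromSpecResidueField y) (IsPullback.of_hasPullback _ _) hq
    (fun z => by rw [Scheme.fromSpecResidueField_apply]; exact hex)
  obtain ⟨U, hy, hU⟩ := RelVA.exists_nhd_isRelVeryAmplePn π hLi y
    (ConcreteCategory.bijective_of_isIso ((CohBC.bc0 π ((Spec (CommRingCat.of A)).fromSpecResidueField y)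
      (π.fiberToSpecResidueField y) (π.fiberι y) (π.fiber_fac y) L).app ⊤)).2 hva
  exact ⟨U, hy, RGLib.PnVeryAmple.isRelVeryAmple_of_isRelVeryAmplePn _ hU⟩

end Groth.Agent.S18164
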