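import Groth.Statements.S18166
import Groth.Agent.FlatContr.Main

set_option autoImplicit false
set_option backward.isDefEq.respectTransparency false
set_option backward.isDefEq.respectTransparency.types false
set_option maxHeartbeats 1000000
set_option linter.style.haveILetI false
universe u
open BSB

namespace Groth.Agent.S18166

open AlgebraicGeometry CategoryTheory CategoryTheory.Limits in
/-- Let S be a Noetherian scheme, π : X ⟶ S and q : Y ⟶ S proper, ψ : X ⟶ Y a flat S-morphism with O_Y ⟶
ψ_* O_X an isomorphism, L an invertible O_X-module and N an invertible O_Y-module ample relative to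
q with ψ^* N ≅ L^ℓ for some ℓ > 0 (over affine opens of S the module L is then semiample and ψ is
the flat contraction it determines), and M an invertible O_X-module ample relative to π. If c and d
are such that H^i(X_y, (L^r ⊗ M^j) restricted to X_y) = 0 for every point y of Y, all r ≥ 0, all 1 ≤
i ≤ c and all j ≥ d, then there is n with R^i π_* (L^a ⊗ M^b) = 0 for all 1 ≤ i ≤ c and all a, b
with b ≥ d and max(a, b) ≥ n. (The published statement asks the fibrewise vanishing only for the
powers M^j, that is for r = 0; since L restricted to a fibre of ψ is merely a torsion module of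
order dividing ℓ, that is not enough: for a curve of genus two over a field, with ψ = π its
structure morphism, ℓ = 2, L a non-trivial invertible module with L^2 trivial and M the canonical
module twisted by L, the published hypothesis holds with c = d = 1 while H^1(L^a ⊗ M) ≠ 0 for every
odd a. The published proof uses the vanishing of the higher direct images under ψ, in degrees 1 to
c, of the twists L^e ⊗ M^b with 0 ≤ e < ℓ, which is what the fibrewise hypothesis of this row
supplies through cohomology and base change; as L^ℓ is trivial on the fibres of ψ, asking it for all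
r ≥ 0 is the same as asking it for 0 ≤ r < ℓ. The instance argument recording injective resolutions
of O_X-modules is true but not yet in Mathlib.) -/
theorem result {X Y S : Scheme.{u}} [IsNoetherian S]
    (π : X ⟶ S) [IsProper π] (q : Y ⟶ S) [IsProper q] (ψ : X ⟶ Y) [Flat ψ] (hψ : ψ ≫ q = π)
    (hψO : ∀ U : Y.Opens, IsIso (ψ.app U)) [HasInjectiveResolutions X.Modules]
    (L : X.Modules) (hLi : PicF.IsInvertible L) (N : Y.Modules) (hNi : PicF.IsInvertible N) (hN : RelAmple.IsRelAmple q N)
    (ℓ : ℕ) (hℓ : 0 < ℓ) (eN : Nonempty ((Scheme.Modules.pullback ψ).obj N ≅ CohB1.tensorPow L ℓ))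
    (M : X.Modules) (hMi : PicF.IsInvertible M) (hM : RelAmple.IsRelAmple π M)
    (c d : ℕ) (hfib : ∀ (y : Y) (i r j : ℕ), 1 ≤ i → i ≤ c → d ≤ j →
      Subsingleton (CohIII.fiberH ψ (CohB1.tensorMod (CohB1.tensorPow L r) (CohB1.tensorPow M j)) y i)) :
    ∃ n : ℕ, ∀ (i a b : ℕ), 1 ≤ i → i ≤ c → d ≤ b → n ≤ max a b →
      IsZero ((Coh.Rpush π i).obj (CohB1.tensorMod (CohB1.tensorPow L a) (CohB1.tensorPow M b))) := by
  exact Groth.Agent.FlatContr.main π q ψ hψ hLi hNi hN hℓ eN hMi hM c d hfib

end Groth.Agent.S18166
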