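import Groth.Statements.S18168
import Groth.Agent.FlatTwist.Main
import Groth.Agent.H23.PullPush
import Groth.Agent.AmpleX.Rel
import Groth.Agent.NakaiMo.Vanish
import Groth.Agent.IntNum.Push
import Groth.Agent.DerBC7.SplitPush
import Groth.Agent.PerfGen7.RelFlatZero
import Groth.Agent.RelCurveCoh.Basic
import Groth.Agent.ZeroSchX.Basic
import Groth.Agent.QCoh.RpushModel

set_option autoImplicit false
set_option linter.style.haveILetI false
set_option backward.isDefEq.respectTransparency false
set_option backward.isDefEq.respectTransparency false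
set_option backward.isDefEq.respectTransparency.types false
set_option maxHeartbeats 1000000
set_option linter.style.haveILetI false
universe u
open BSB

namespace Groth.Agent.S18168
open Groth.Agent

open AlgebraicGeometry CategoryTheory CategoryTheory.Limits in
/-- Let S be a Noetherian scheme, φ : X ⟶ S proper and flat, L an invertible O_X-module, q : X' ⟶ S
proper and ψ : X ⟶ X' an S-morphism with O_{X'} ⟶ ψ_* O_X an isomorphism, and N an invertible module
on X', ample relative to q, with ψ^* N ≅ L^m for some m > 0 (L is then relatively semiample and ψ is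
the contraction it determines). If for some n > 0 the higher direct images R^i φ_* (L^(jn)) vanish
for all i > 0 and j ≥ 1, then X' is flat over S. (The published statement also asserts that the
direct images φ_* (L^(jn)) are finite locally free and that their formation commutes with base
change; those clauses are not restated. The instance argument recording injective resolutions of
O_X-modules is true but not yet in Mathlib.) -/
theorem result {X X' S : Scheme.{u}} [IsNoetherian S]
    (φ : X ⟶ S) [IsProper φ] [Flat φ] [HasInjectiveResolutions X.Modules]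
    (L : X.Modules) (hLi : PicF.IsInvertible L)
    (q : X' ⟶ S) [IsProper q] (ψ : X ⟶ X') (hψ : ψ ≫ q = φ) (hψO : ∀ U : X'.Opens, IsIso (ψ.app U))
    (N : X'.Modules) (hNi : PicF.IsInvertible N) (hN : RelAmple.IsRelAmple q N)
    (m : ℕ) (hm : 0 < m) (eN : Nonempty ((Scheme.Modules.pullback ψ).obj N ≅ CohB1.tensorPow L m))
    (n : ℕ) (hn : 0 < n)
    (hvan : ∀ (i j : ℕ), 0 < i → 1 ≤ j → IsZero ((Coh.Rpush φ i).obj (CohB1.tensorPow L (j * n)))) :
    Flat q := by
  letI : HasDerivedCategory X.Modules := HasDerivedCategory.standard _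
  have hb : ∀ U : X'.Opens, Function.Bijective (ψ.app U) := fun U =>
    (ConcreteCategory.isIso_iff_bijective _).mp (hψO U)
  haveI : IsLocallyNoetherian X := LocallyOfFiniteType.isLocallyNoetherian φ
  have hflat : FlatMod.IsFlatOver φ (Coh.structureModule X) := DerBC7.isFlatOver_structureModule φ
  have hO : Coh.IsCoh (Coh.structureModule X) := AmpleVan.isCoh_invertible InvX.isInvertible_structureModule
  -- direct images of the powers are finite locally free
  have hpush : ∀ j : ℕ, 1 ≤ j → FlatMod.IsFinLocFree ((Coh.push φ).obj (CohB1.tensorPow L (j * n))) := by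
    intro j hj
    have hc : Coh.IsCoh (CohB1.tensorPow L (j * n)) :=
      AmpleVan.isCoh_invertible (InvX.isInvertible_tensorPow hLi _)
    have hfl : FlatMod.IsFlatOver φ (CohB1.tensorPow L (j * n)) :=
      QCoh.isFlatOver_of_iso (KFlatLib.structureTensorIso (CohB1.tensorPow L (j * n)))
        (ZeroSchX.isQCoh_inv (H23.PicMul.isInvertible_of_iso (KFlatLib.structureTensorIso _).symm
          (InvX.isInvertible_tensorPow hLi _)))
        (FlatTwist.isFlatOver_tensor φ hO.1 hflat (InvX.isInvertible_tensorPow hLi _))
    refine CohPullLib.isFinLocFree_push_of_exchAt hc.1 ?_ hfl fun y => ?_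
    · exact KZ.LFRes.isFP_of_isCoh hc
    · refine CohPullLib.exchAt_of_isFinLocFree_above hc.1 (KZ.LFRes.isFP_of_isCoh hc) hfl (m := 0)
        (fun i hi => ?_) y 0 le_rfl
      obtain ⟨r, rfl⟩ := Nat.exists_eq_add_of_le' hi
      exact KFlatLib.isFinLocFree_of_isZero (hvan (r + 1) j (Nat.succ_pos r) hj)
  refine PerfGen7.flat_of_isFlatOver q (FlatTwist.isFlatOver_of_twists q
    ((AmpleX.isRelAmple_tensorPow_iff hNi hn).mp hN) (InvX.isInvertible_tensorPow hNi n)
    (F := Coh.structureModule X') (ZeroSchX.isQCoh_inv InvX.isInvertible_structureModule) 1 fun a ha => ?_)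
  let M := CohB1.tensorMod (Coh.structureModule X') (CohB1.tensorPow (CohB1.tensorPow N n) a)
  have hM : PicF.IsInvertible M :=
    H23.PicMul.isInvertible_of_iso (KFlatLib.structureTensorIso _).symm
      (InvX.isInvertible_tensorPow (InvX.isInvertible_tensorPow hNi n) a)
  haveI : IsIso ((Scheme.Modules.pullbackPushforwardAdjunction ψ).unit.app M) :=
    H23.PullPush.isIso_unit_of_isFinLocFree ψ hb M (H23.PullPush.isFinLocFree_of_isInvertible hM)
  obtain ⟨eN⟩ := eN
  have e1 : Nonempty ((Scheme.Modules.pullback ψ).obj M ≅ CohB1.tensorPow L (m * a * n)) := by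
    obtain ⟨a1⟩ := NakaiMo.tensorPow_mul N n a
    obtain ⟨a2⟩ := IntNum.pullback_tensorPow ψ N (n * a)
    obtain ⟨a3⟩ := NakaiMo.tensorPow_mul L m (n * a)
    obtain ⟨a4⟩ : Nonempty (CohB1.tensorPow ((Scheme.Modules.pullback ψ).obj N) (n * a) ≅
        CohB1.tensorPow (CohB1.tensorPow L m) (n * a)) := by
      generalize n * a = r
      induction r with
      | zero => exact ⟨Iso.refl _⟩
      | succ r ih => exact ⟨PicGrp.tensorModIso ih.some eN⟩
    refine ⟨(Scheme.Modules.pullback ψ).mapIso (KFlatLib.structureTensorIso _ ≪≫ a1.symm) ≪≫ a2 ≪≫ a4 ≪≫ a3.symm ≪≫ eqToIso ?_⟩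
    rw [show m * (n * a) = m * a * n by ring]
  obtain ⟨e1⟩ := e1
  exact H23.PullPush.isFinLocFree_of_iso
    ((Scheme.Modules.pushforward q).mapIso (asIso ((Scheme.Modules.pullbackPushforwardAdjunction ψ).unit.app M) ≪≫
      (Scheme.Modules.pushforward ψ).mapIso e1) ≪≫ (Scheme.Modules.pushforwardComp ψ q).app _ ≪≫
      (Scheme.Modules.pushforwardCongr hψ).app _).symm
    (hpush (m * a) (Nat.one_le_iff_ne_zero.mpr (Nat.mul_ne_zero hm.ne' (by omega))))

end Groth.Agent.S18168
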