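import Groth.Statements.S1817
import Groth.Agent.RGammaD.Univ

set_option autoImplicit false
universe u
open CategoryTheory
attribute [local instance] HasDerivedCategory.standard
open LocCoh

namespace Groth.Agent.S1817

set_option backward.isDefEq.respectTransparency false
set_option linter.style.haveILetI false


/-- First statement, for a Noetherian ring (where the functor with supports in V(I) is RΓ_I). Let A be a
Noetherian ring and I an ideal, and assume RΓ_I exists as a total right derived functor. Then every
RΓ_I(K) has I-power torsion cohomology modules, and the resulting functor from D(A) to the full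
subcategory of such objects is right adjoint to the inclusion. -/
theorem result (A : Type u) [CommRing A] [IsNoetherianRing A] (I : Ideal A) [DRing.HasRgammaI I] : ∃ h : ∀ K : Dual.D A, (fun L : Dual.D A => ∀ i : ℤ, LocCoh.IsPowerTorsion I (Dual.HD A L i)) ((DRing.RgammaI I).obj K), Nonempty (ObjectProperty.ι (fun L : Dual.D A => ∀ i : ℤ, LocCoh.IsPowerTorsion I (Dual.HD A L i)) ⊣ ObjectProperty.lift (fun L : Dual.D A => ∀ i : ℤ, LocCoh.IsPowerTorsion I (Dual.HD A L i)) (DRing.RgammaI I) h) := by
  let P : ObjectProperty (Dual.D A) := fun L : Dual.D A => ∀ i : ℤ, LocCoh.IsPowerTorsion I (Dual.HD A L i)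
  have h : ∀ K : Dual.D A, P ((DRing.RgammaI I).obj K) := fun K => Groth.Agent.RGammaD.torsD_RgammaI I K
  refine ⟨h, ⟨Adjunction.mkOfHomEquiv
    { homEquiv := fun T K => ((Equiv.ofBijective _ (Groth.Agent.RGammaD.bijective_comp_ε I T.property K)).symm.trans
        { toFun := fun φ => ObjectProperty.homMk φ
          invFun := fun φ => φ.hom
          left_inv := fun _ => rfl
          right_inv := fun _ => rfl })
      homEquiv_naturality_left_symm := ?_
      homEquiv_naturality_right := ?_ }⟩⟩
  · intro T' T K f g
    exact Category.assoc f.hom g.hom _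
  · intro T K K' f g
    refine ObjectProperty.hom_ext _ ?_
    refine (Groth.Agent.RGammaD.bijective_comp_ε I T.property K').1 ?_
    refine (Equiv.ofBijective_apply_symm_apply _ (Groth.Agent.RGammaD.bijective_comp_ε I T.property K') (f ≫ g)).trans ?_
    have hn := (DRing.RgammaIε I).naturality g
    have hf := Equiv.ofBijective_apply_symm_apply _ (Groth.Agent.RGammaD.bijective_comp_ε I T.property K) f
    simp only [Functor.id_map] at hn
    refine Eq.trans ?_ (Category.assoc _ _ _).symm
    exact (congrArg (· ≫ g) hf.symm).trans ((Category.assoc _ _ _).trans (congrArg (_ ≫ ·) hn.symm))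

end Groth.Agent.S1817
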