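import Groth.Statements.S1818
import Groth.Agent.RGammaD.Duality
import Groth.Agent.S1718
import Groth.Agent.S1812

set_option autoImplicit false
universe u
open CategoryTheory
attribute [local instance] HasDerivedCategory.standard
open Dual

namespace Groth.Agent.S1818

set_option backward.isDefEq.respectTransparency false
set_option linter.style.haveILetI false


/-- Let A be a Noetherian local ring with maximal ideal m, ω a normalized dualizing complex and κ → E an
injective hull of the residue field. Let K be a complex of A-modules and G a complex representing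
RΓ_m(K); assume the derived functors RHom(K, −), RHom(G, −), RΓ_m and derived m-completion exist.
Then the derived m-completion of RHom_A(K, ω) is isomorphic in D(A) to RHom_A(G, E[0]) =
RHom_A(RΓ_m(K), E[0]). -/
theorem result (A : Type u) [CommRing A] [IsLocalRing A] [IsNoetherianRing A] (ω : Dual.D A) (hω : Dual.IsDualizing A ω) (hn : Dual.IsNormalized A ω) (E : Type u) [AddCommGroup E] [Module A E] (f : IsLocalRing.ResidueField A →ₗ[A] E) (hf : InjHull.IsInjectiveHull f) [DRing.HasRgammaI (IsLocalRing.maximalIdeal A)] [DRing.HasDerivedCompletion (IsLocalRing.maximalIdeal A)] (K : DRing.Cx A) [DRing.HasRHomCx K] (G : DRing.Cx A) [DRing.HasRHomCx G] (hG : Nonempty (DRing.toD G ≅ (DRing.RgammaI (IsLocalRing.maximalIdeal A)).obj (DRing.toD K))) : Nonempty (((DRing.derivedCompletion (IsLocalRing.maximalIdeal A)).obj ((DRing.RHomCx K).obj ω)).obj ≅ (DRing.RHomCx G).obj (Dual.inD A E)) := by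
  let m := IsLocalRing.maximalIdeal A
  -- the completion side
  obtain ⟨JK, ι, hJK, hι, -, hinj⟩ := Groth.Agent.TriCat.exists_kInjective_resolution'.{u} K
  haveI := hJK
  haveI := hι
  obtain ⟨W, hW, -, ⟨eW⟩⟩ := Groth.Agent.H9Misc.DRingRHomCompl.exists_resolution ω
  haveI := Groth.Agent.H9Misc.DRingHomCx.quasiIso_homCxPre_of_isKInjective ι W
  let eR : (DRing.RHomCx K).obj ω ≅ DerivedCategory.Q.obj (DRing.homCx JK W) :=
    (DRing.RHomCx K).mapIso eW ≪≫ (Groth.Agent.H9Misc.DRingHomCx.isoOfKInjective K W).symm ≪≫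
      (asIso (DerivedCategory.Q.map (Groth.Agent.H9Misc.DRingHomCx.homCxPre ι W))).symm
  obtain ⟨e₁⟩ := Groth.Agent.RGammaD.nonempty_completion_homCx m JK hinj W
  let T := (Groth.Agent.RGammaD.gam m).obj JK
  let eL : ((DRing.derivedCompletion m).obj ((DRing.RHomCx K).obj ω)).obj ≅
      DerivedCategory.Q.obj (DRing.homCx T W) :=
    (ObjectProperty.ι (DRing.IsDerivedComplete m)).mapIso ((DRing.derivedCompletion m).mapIso eR) ≪≫ e₁
  -- `RHom(T, E) ≅ RHom(T, ω)`
  haveI : DRing.HasRHomCx T := Groth.Agent.H9Misc.DRingHomCx.hasRHomCx T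
  obtain ⟨eH, hH⟩ := Groth.Agent.S1718.result A ω hω hn E f hf
  let R := (DRing.RgammaI m).obj ω
  have hz : ∀ i : ℤ, i ≠ 0 → CategoryTheory.Limits.IsZero ((DerivedCategory.homologyFunctor (ModuleCat.{u} A) i).obj R) := fun i hi => by
    let ⟨g⟩ := Groth.Agent.S1812.result A m (IsNoetherian.noetherian m) ω i
    haveI := hH i hi
    haveI : Subsingleton (Dual.HD A R i) := g.toEquiv.subsingleton
    exact ModuleCat.isZero_of_subsingleton _
  haveI : R.IsGE 0 := (DerivedCategory.isGE_iff R 0).2 fun i hi => hz i (by omega)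
  haveI : R.IsLE 0 := (DerivedCategory.isLE_iff R 0).2 fun i hi => hz i (by omega)
  obtain ⟨N, ⟨eN⟩⟩ := DerivedCategory.exists_iso_singleFunctor_obj_of_isGE_of_isLE R 0
  obtain ⟨g0⟩ := Groth.Agent.S1812.result A m (IsNoetherian.noetherian m) ω 0
  obtain ⟨eH⟩ := eH
  let eNE : N ≃ₗ[A] E :=
    (((DerivedCategory.homologyFunctor (ModuleCat.{u} A) 0).mapIso eN ≪≫
      (DerivedCategory.singleFunctorCompHomologyFunctorIso (ModuleCat.{u} A) 0).app N).symm.toLinearEquiv.trans g0).trans eH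
  let eE : Dual.inD A E ≅ R :=
    (DerivedCategory.singleFunctor (ModuleCat.{u} A) 0).mapIso eNE.toModuleIso.symm ≪≫ eN.symm
  obtain ⟨e₂⟩ := Groth.Agent.RGammaD.nonempty_iso_rhom T (Groth.Agent.RGammaD.torsD_gam m JK)
    ((DRing.RgammaIε m).app ω) fun T' hT' => Groth.Agent.RGammaD.bijective_comp_ε m hT' ω
  let eM : DerivedCategory.Q.obj (DRing.homCx T W) ≅ (DRing.RHomCx T).obj (Dual.inD A E) :=
    Groth.Agent.H9Misc.DRingHomCx.isoOfKInjective T W ≪≫ (DRing.RHomCx T).mapIso eW.symm ≪≫ e₂.symm ≪≫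
      (DRing.RHomCx T).mapIso eE.symm
  -- `RHom(T, E) ≅ RHom(G, E)`
  obtain ⟨e₀, -⟩ := Groth.Agent.RGammaD.exists_iso_gam m JK
  obtain ⟨eG⟩ := hG
  let eT : DerivedCategory.Q.obj T ≅ DerivedCategory.Q.obj G :=
    e₀ ≪≫ (DRing.RgammaI m).mapIso (asIso (DerivedCategory.Q.map ι)).symm ≪≫ eG.symm
  obtain ⟨G', β, hG', hβ, -, -⟩ := Groth.Agent.TriCat.exists_kInjective_resolution'.{u} G
  haveI := hG'
  haveI := hβ
  obtain ⟨ψ, hψ⟩ := Groth.Agent.H9Misc.BddInjective.lift_to_injective (L := G')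
    (eT.hom ≫ DerivedCategory.Q.map β)
  haveI : QuasiIso ψ := (DerivedCategory.isIso_Q_map_iff_quasiIso (φ := ψ)).1 (by rw [hψ]; infer_instance)
  obtain ⟨IE, hIE, -, ⟨eIE⟩⟩ := Groth.Agent.H9Misc.DRingRHomCompl.exists_resolution (Dual.inD A E)
  haveI := Groth.Agent.H9Misc.DRingHomCx.quasiIso_homCxPre_of_isKInjective ψ IE
  haveI := Groth.Agent.H9Misc.DRingHomCx.quasiIso_homCxPre_of_isKInjective β IE
  exact ⟨eL ≪≫ eM ≪≫ (DRing.RHomCx T).mapIso eIE ≪≫ (Groth.Agent.H9Misc.DRingHomCx.isoOfKInjective T IE).symm ≪≫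
    (asIso (DerivedCategory.Q.map (Groth.Agent.H9Misc.DRingHomCx.homCxPre ψ IE))).symm ≪≫
    asIso (DerivedCategory.Q.map (Groth.Agent.H9Misc.DRingHomCx.homCxPre β IE)) ≪≫
    Groth.Agent.H9Misc.DRingHomCx.isoOfKInjective G IE ≪≫ (DRing.RHomCx G).mapIso eIE.symm⟩

end Groth.Agent.S1818
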