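import Groth.Statements.S18193
import Groth.Agent.LocImmLib.Factor

set_option backward.isDefEq.respectTransparency false

set_option autoImplicit false
universe u
open LocImm

namespace Groth.Agent.S18193

open CategoryTheory AlgebraicGeometry in
/-- Let `X, Y₁, Y₂, S` be Noetherian schemes, `f_i : X ⟶ Y_i` separated localizing immersions
(localizing and injective on points) and `π_i : Y_i ⟶ S` separated morphisms of finite type with `f₁
≫ π₁ = f₂ ≫ π₂`. Then there are a scheme `W`, a localizing immersion `k : X ⟶ W` and open immersions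
`g_i : W ⟶ Y_i` compatible over `S` with `k ≫ g_i = f_i`; in particular `W` is of finite type over
`S`. -/
theorem result {X Y₁ Y₂ S : Scheme.{u}} [IsNoetherian X] [IsNoetherian Y₁] [IsNoetherian Y₂] [IsNoetherian S]
    (f₁ : X ⟶ Y₁) (f₂ : X ⟶ Y₂) (π₁ : Y₁ ⟶ S) (π₂ : Y₂ ⟶ S)
    (hf₁ : LocImm.IsLocImmersion f₁) (hf₂ : LocImm.IsLocImmersion f₂) [IsSeparated f₁] [IsSeparated f₂]
    [IsSeparated π₁] [IsSeparated π₂] [LocallyOfFiniteType π₁] [LocallyOfFiniteType π₂] (h : f₁ ≫ π₁ = f₂ ≫ π₂) :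
    ∃ (W : Scheme.{u}) (k : X ⟶ W) (g₁ : W ⟶ Y₁) (g₂ : W ⟶ Y₂), LocImm.IsLocImmersion k ∧ IsOpenImmersion g₁ ∧ IsOpenImmersion g₂ ∧ g₁ ≫ π₁ = g₂ ≫ π₂ ∧ k ≫ g₁ = f₁ ∧ k ≫ g₂ = f₂ := by
  obtain ⟨hj, N, hNj, hN₁, hN₂⟩ := Groth.Agent.LocImmLib.exists_open_image f₁ f₂ π₁ π₂ h hf₁ hf₂
  let m := Limits.pullback.lift f₁ f₂ h
  let k : X ⟶ (N : Scheme.{u}) := IsOpenImmersion.lift N.ι m.toImage (by rw [Scheme.Opens.range_ι]; exact hNj)
  have hk : k ≫ N.ι = m.toImage := IsOpenImmersion.lift_fac _ _ _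
  refine ⟨N, k, N.ι ≫ m.imageι ≫ Limits.pullback.fst π₁ π₂, N.ι ≫ m.imageι ≫ Limits.pullback.snd π₁ π₂,
    Groth.Agent.LocImmLib.IsLocImmersion.of_comp_openImmersion N.ι (hk.symm ▸ hj), hN₁, hN₂, ?_, ?_, ?_⟩
  · simp only [Category.assoc, Limits.pullback.condition]
  · rw [reassoc_of% hk, Scheme.Hom.toImage_imageι_assoc, Limits.pullback.lift_fst]
  · rw [reassoc_of% hk, Scheme.Hom.toImage_imageι_assoc, Limits.pullback.lift_snd]

end Groth.Agent.S18193
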