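import Groth.Statements.S18209
import Groth.Agent.LocImmLib.Nagata

set_option backward.isDefEq.respectTransparency false
set_option backward.isDefEq.respectTransparency.types false
-- import your own Groth.Agent.* helpers here

set_option autoImplicit false
universe u
open LocImm

namespace Groth.Agent.S18209

open CategoryTheory AlgebraicGeometry Limits in
/-- Let `f : X ⟶ Y` and `g : Y ⟶ Z` be separated morphisms of Noetherian schemes, essentially of finite
type, such that `f` and `f ≫ g` are localizing immersions (localizing and injective on points). Then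
there are blow-ups `b : Ỹ ⟶ Y` and `c : Z̃ ⟶ Z` in quasi-coherent (hence coherent) ideals whose
closed subschemes are disjoint from the image of `X`, and a localizing immersion `g' : Ỹ ⟶ Z̃`
lifting `g`, i.e. `g' ≫ c = b ≫ g`. -/
theorem result {X Y Z : Scheme.{u}} [IsNoetherian X] [IsNoetherian Y] [IsNoetherian Z]
    (f : X ⟶ Y) (g : Y ⟶ Z) [IsSeparated f] [IsSeparated g] [EssFT.EssFiniteType f] [EssFT.EssFiniteType g]
    (hf : LocImm.IsLocImmersion f) (hfg : LocImm.IsLocImmersion (f ≫ g)) :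
    ∃ (𝓘 : Y.IdealSheafData) (𝓙 : Z.IdealSheafData) (Yt Zt : Scheme.{u}) (b : Yt ⟶ Y) (c : Zt ⟶ Z) (g' : Yt ⟶ Zt),
      BlowUp.IsBlowUp b 𝓘 ∧ Disjoint (𝓘.support : Set Y) (Set.range (fun x => f x)) ∧
      BlowUp.IsBlowUp c 𝓙 ∧ Disjoint (𝓙.support : Set Z) (Set.range (fun x => g (f x))) ∧
      LocImm.IsLocImmersion g' ∧ g' ≫ c = b ≫ g := by
  obtain ⟨Yb, i, gb, hYb, hi, -, hgb, rfl⟩ := Groth.Agent.LocImmLib.exists_factor_proper g
  haveI := hYb
  haveI := hgb
  obtain ⟨T, b, c, hb, hc, rfl⟩ := Groth.Agent.LocImmLib.exists_adm_iso (f ≫ i) gb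
    (Groth.Agent.LocImmLib.IsLocImmersion.comp hf hi) (by rwa [Category.assoc])
  obtain ⟨I, hI, hdI⟩ := hb.pullback_fst hi
  obtain ⟨J, hJ, hdJ⟩ := hc
  refine ⟨I, J, Limits.pullback i b, T, Limits.pullback.fst i b, b ≫ gb, Limits.pullback.snd i b, hI,
    hdI, hJ, hdJ, Groth.Agent.LocImmLib.isLocImmersion_snd i b hi, ?_⟩
  rw [← Category.assoc, ← Limits.pullback.condition, Category.assoc]

end Groth.Agent.S18209
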