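import Groth.Statements.S18210
import Groth.Agent.LocImmLib.NagataMulti

set_option backward.isDefEq.respectTransparency false
set_option backward.isDefEq.respectTransparency.types false
-- import your own Groth.Agent.* helpers here

set_option autoImplicit false
universe u
open LocImm

namespace Groth.Agent.S18210

open CategoryTheory AlgebraicGeometry Limits in
/-- Let `S` be a Noetherian scheme, `U` and `Y_1, …, Y_n` Noetherian schemes separated and essentially
of finite type over `S`, and `f_i : U ⟶ Y_i` localizing immersions over `S` (localizing and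
injective on points). Then there are blow-ups `b_i : Ỹ_i ⟶ Y_i` in quasi-coherent ideals whose
closed subschemes miss `f_i(U)`, a separated `S`-scheme `Z` of finite type, lifts `u_i : U ⟶ Ỹ_i` of
the `f_i`, and localizing immersions `g_i : Ỹ_i ⟶ Z` over `S` with dense image such that all
composites `u_i ≫ g_i` coincide. (The published statement does not require the `Y_i` to be separated
over `S`; its proof factors each `Y_i ⟶ S` through the main factorization result, which needs it,
and without it the line with a doubled point over a field, with `U` the complement of the doubled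
point, is a counterexample, since a scheme admitting a localizing immersion into a separated
`S`-scheme is separated over `S`.) -/
theorem result {S U : Scheme.{u}} [IsNoetherian S] [IsNoetherian U] {n : ℕ}
    (gU : U ⟶ S) (Y : Fin n → Scheme.{u}) [∀ i, IsNoetherian (Y i)] (q : ∀ i, Y i ⟶ S)
    [∀ i, IsSeparated (q i)] [∀ i, EssFT.EssFiniteType (q i)]
    (f : ∀ i, U ⟶ Y i) (hf : ∀ i, LocImm.IsLocImmersion (f i)) (hfq : ∀ i, f i ≫ q i = gU) :
    ∃ (Z : Scheme.{u}) (r : Z ⟶ S) (_ : IsSeparated r) (_ : LocallyOfFiniteType r) (_ : QuasiCompact r)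
      (𝓘 : ∀ i, (Y i).IdealSheafData) (Yt : Fin n → Scheme.{u}) (b : ∀ i, Yt i ⟶ Y i) (u : ∀ i, U ⟶ Yt i) (g : ∀ i, Yt i ⟶ Z),
      (∀ i, BlowUp.IsBlowUp (b i) (𝓘 i) ∧ Disjoint ((𝓘 i).support : Set (Y i)) (Set.range (fun x => f i x)) ∧
        u i ≫ b i = f i ∧ LocImm.IsLocImmersion (g i) ∧ Dense (Set.range (fun x => g i x)) ∧ g i ≫ r = b i ≫ q i) ∧
      (∀ i i', u i ≫ g i = u i' ≫ g i') := by
  obtain _ | m := n
  · exact ⟨S, 𝟙 S, inferInstance, inferInstance, inferInstance, fun i => i.elim0, fun i => i.elim0,
      fun i => i.elim0, fun i => i.elim0, fun i => i.elim0, fun i => i.elim0, fun i => i.elim0⟩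
  choose Yb k p hYb hk hkd hp hkp using fun i => Groth.Agent.LocImmLib.exists_factor_proper (q i)
  haveI := hYb
  haveI := hp
  obtain ⟨T, r, kU, b, hT, hr, hkU, hb⟩ := Groth.Agent.LocImmLib.exists_common_family gU m Yb p
    (fun i => f i ≫ k i) (fun i => Groth.Agent.LocImmLib.IsLocImmersion.comp (hf i) (hk i))
    (fun i => by rw [Category.assoc, hkp, hfq])
  haveI := hT
  haveI := hr
  choose I hI hdI using fun i => (hb i).1.pullback_fst (hk i)
  refine ⟨T, r, inferInstance, inferInstance, inferInstance, I,
    fun i => Limits.pullback (k i) (b i), fun i => Limits.pullback.fst (k i) (b i),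
    fun i => Limits.pullback.lift (f i) kU (hb i).2.1.symm,
    fun i => Limits.pullback.snd (k i) (b i), fun i => ⟨hI i, hdI i, Limits.pullback.lift_fst _ _ _,
      Groth.Agent.LocImmLib.isLocImmersion_snd _ _ (hk i), ?_, ?_⟩,
    fun i i' => (Limits.pullback.lift_snd _ _ _).trans (Limits.pullback.lift_snd _ _ _).symm⟩
  · show Dense (Set.range (Limits.pullback.snd (k i) (b i)))
    rw [Scheme.Pullback.range_snd]
    exact (hb i).1.dense_preimage (hkd i)
  · rw [← hkp i, ← Category.assoc, Limits.pullback.condition, Category.assoc, (hb i).2.2]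

end Groth.Agent.S18210
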