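import Groth.Statements.S18211
import Groth.Agent.LocImmLib.NagataMulti
import Groth.Agent.S8910
import Groth.Agent.S9708
import Groth.Agent.ProjX.Proper

set_option backward.isDefEq.respectTransparency false
set_option backward.isDefEq.respectTransparency.types false
-- import your own Groth.Agent.* helpers here

set_option autoImplicit false
universe u
open LocImm

namespace Groth.Agent.S18211

open CategoryTheory AlgebraicGeometry Limits in
/-- Let `π : Y ⟶ S` be a separated morphism of Noetherian schemes, essentially of finite type, and `f :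
U ⟶ Y` a localizing immersion (localizing and injective on points) with dense image such that `U ⟶
S` is essentially quasi-projective: it factors as a localizing immersion `j : U ⟶ P` followed by a
projective morphism `P ⟶ S` (in the sense of the relative homogeneous spectrum of a quasi-coherent
graded algebra generated in degree one with degree-one part of finite type). Then there is a blow-up
`Ỹ ⟶ Y` in a quasi-coherent ideal whose closed subscheme misses `f(U)` such that `Ỹ ⟶ S` is
essentially quasi-projective in the same sense. -/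
theorem result {U Y S P : Scheme.{u}} [IsNoetherian U] [IsNoetherian Y] [IsNoetherian S] [IsNoetherian P]
    (π : Y ⟶ S) [IsSeparated π] [EssFT.EssFiniteType π] (f : U ⟶ Y) (hf : LocImm.IsLocImmersion f)
    (hfd : Dense (Set.range (fun x => f x))) (j : U ⟶ P) (p : P ⟶ S) (hj : LocImm.IsLocImmersion j)
    (hp : RelProj.IsProjective p) (hc : j ≫ p = f ≫ π) :
    ∃ (𝓘 : Y.IdealSheafData) (Yt P' : Scheme.{u}) (b : Yt ⟶ Y) (j' : Yt ⟶ P') (p' : P' ⟶ S),
      BlowUp.IsBlowUp b 𝓘 ∧ Disjoint (𝓘.support : Set Y) (Set.range (fun x => f x)) ∧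
      LocImm.IsLocImmersion j' ∧ RelProj.IsProjective p' ∧ j' ≫ p' = b ≫ π := by
  obtain ⟨Yb, k, q, hYb, hk, -, hq, rfl⟩ := Groth.Agent.LocImmLib.exists_factor_proper π
  haveI := hYb
  haveI := hq
  haveI : IsProper p := Groth.Agent.ProjX.isProper_of_isProjective hp
  obtain ⟨T, kT, bP, bY, hT, -, ⟨J, hJ, -⟩, hbY, -, -, e⟩ := Groth.Agent.LocImmLib.exists_common p q j
    (f ≫ k) hj (Groth.Agent.LocImmLib.IsLocImmersion.comp hf hk) (by rw [hc, Category.assoc])
  obtain ⟨I, hI, hdI⟩ := hbY.pullback_fst hk
  refine ⟨I, Limits.pullback k bY, T, Limits.pullback.fst k bY, Limits.pullback.snd k bY, bP ≫ p, hI,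
    hdI, Groth.Agent.LocImmLib.isLocImmersion_snd k bY hk,
    Groth.Agent.S9708.result bP p
      (Groth.Agent.S8910.result J (Groth.Agent.LocImmLib.isFiniteType_ideal J) bP hJ) hp, ?_⟩
  rw [e, ← Category.assoc, ← Limits.pullback.condition, Category.assoc]

end Groth.Agent.S18211
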