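import Groth.Statements.S18212
import Groth.Agent.LocImmLib.Nagata

set_option backward.isDefEq.respectTransparency false
set_option backward.isDefEq.respectTransparency.types false
-- import your own Groth.Agent.* helpers here

set_option autoImplicit false
universe u
open LocImm

namespace Groth.Agent.S18212

open CategoryTheory AlgebraicGeometry Limits in
/-- Let `S` be a Noetherian scheme, `a : X ⟶ S` and `b : Y ⟶ S` separated morphisms essentially of
finite type with `X, Y` Noetherian, `Z` a Noetherian scheme, `j : Z ⟶ X` a localizing immersion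
(localizing and injective on points) and `f : Z ⟶ Y` a morphism over `S`. Then there are a blow-up
`c : X̃ ⟶ X` in a quasi-coherent ideal whose closed subscheme misses `j(Z)`, a localizing immersion
`j' : Z' ⟶ X̃` and a morphism `e : Z ⟶ Z'` with `e ≫ j' ≫ c = j` (so `j'` extends the lift of `j` to
`X̃`), and a morphism `f' : Z' ⟶ Y` over `S` extending `f` (`e ≫ f' = f`), such that the morphism
`Z' ⟶ X̃ ×_S Y` induced by `j'` and `f'` is a closed immersion. -/
theorem result {S X Y Z : Scheme.{u}} [IsNoetherian S] [IsNoetherian X] [IsNoetherian Y] [IsNoetherian Z]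
    (a : X ⟶ S) (b : Y ⟶ S) [IsSeparated a] [IsSeparated b] [EssFT.EssFiniteType a] [EssFT.EssFiniteType b]
    (j : Z ⟶ X) (hj : LocImm.IsLocImmersion j) (f : Z ⟶ Y) (hjf : j ≫ a = f ≫ b) :
    ∃ (𝓘 : X.IdealSheafData) (Xt Z' : Scheme.{u}) (c : Xt ⟶ X) (j' : Z' ⟶ Xt) (e : Z ⟶ Z') (f' : Z' ⟶ Y)
      (h : j' ≫ (c ≫ a) = f' ≫ b),
      BlowUp.IsBlowUp c 𝓘 ∧ Disjoint (𝓘.support : Set X) (Set.range (fun x => j x)) ∧
      LocImm.IsLocImmersion j' ∧ e ≫ j' ≫ c = j ∧ e ≫ f' = f ∧
      IsClosedImmersion (pullback.lift j' f' h) := by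
  obtain ⟨Yb, k, p, hYb, hk, -, hp, rfl⟩ := Groth.Agent.LocImmLib.exists_factor_proper b
  haveI := hYb
  haveI := hp
  obtain ⟨T, c, e₀, g, ⟨I, hc, hI⟩, he₀i, he₀, heg, hg⟩ :=
    Groth.Agent.LocImmLib.exists_adm_extend a p j hj (f ≫ k) (by rw [hjf, Category.assoc])
  refine ⟨I, T, pullback k g, c, pullback.snd k g, pullback.lift f e₀ heg.symm, pullback.fst k g,
    by rw [hg, ← Category.assoc, ← pullback.condition, Category.assoc], hc, hI,
    Groth.Agent.LocImmLib.isLocImmersion_snd k g hk, by simp [he₀], by simp, ?_⟩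
  let E : pullback (k ≫ p) (g ≫ p) ≅ pullback (c ≫ a) (k ≫ p) :=
    pullbackSymmetry _ _ ≪≫ pullback.congrHom hg.symm rfl
  haveI : IsClosedImmersion (pullback.mapDesc k g p ≫ E.hom) := inferInstance
  convert (inferInstance : IsClosedImmersion (pullback.mapDesc k g p ≫ E.hom)) using 1
  apply pullback.hom_ext <;> simp [E]

end Groth.Agent.S18212
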