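import Groth.Statements.S18237
import Groth.Agent.MagnetLib.AtlasLift
import Groth.Agent.H28.MagnetPure

set_option autoImplicit false
set_option backward.isDefEq.respectTransparency false
set_option backward.isDefEq.respectTransparency.types false
set_option maxHeartbeats 1000000
set_option linter.style.haveILetI false
universe u
open CategoryTheory MonoidalCategory CartesianMonoidalCategory AlgebraicGeometry Opposite
open Magnet

namespace Groth.Agent.S18237

open Groth.Agent

/-- Let S be a quasi-compact scheme, M a finitely generated abelian group, X a scheme which is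
quasi-compact, separated and locally of finite presentation over S with an action of the
diagonalizable group scheme D(M)_S, and N a submonoid of M with subgroup of invertible elements Z =
N*. Assume X admits an S-affine N*-FPR atlas: an equivariant, étale and surjective g : U → X with U
affine over S such that, for the actions restricted along D(M/Z)_S → D(M)_S, the square of
fixed-point subfunctors U^{D(M/Z)} → X^{D(M/Z)} over U → X is cartesian. Then there is a finitely
generated submonoid N_c of N with the same invertible elements as N such that the canonical map of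
attractors X^{N_c} → X^N is an isomorphism of functors. (Stated for schemes, the published statement
being for algebraic spaces. The published statement assumes only M finitely generated and X → S
quasi-compact and separated; it fails without X locally of finite presentation over S or without S
quasi-compact, so this row assumes both, and it assumes an S-affine N*-FPR atlas, which the
published argument obtains from a general existence result.) -/
theorem result (S : Scheme.{u}) [CompactSpace S] (M : Type)
    [AddCommGroup M] [AddGroup.FG M] {X : Over S} [QuasiCompact X.hom] [IsSeparated X.hom]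
    [LocallyOfFinitePresentation X.hom] (a : Magnet.MonAct (Magnet.AMonS S M) X) (N : AddSubmonoid M)
    (Z : AddSubgroup M) (hZ : ∀ m : M, m ∈ Z ↔ (m ∈ N ∧ -m ∈ N)) (U : Over S) [IsAffineHom U.hom]
    (aU : Magnet.MonAct (Magnet.AMonS S M) U) (g : U ⟶ X) (hg : Magnet.MonAct.IsEquivariant aU a g)
    [Etale g.left] [Surjective g.left]
    (hgZ : Magnet.MonAct.IsEquivariant (aU.restrict (Magnet.AMonS.map S (QuotientAddGroup.mk' Z))) (a.restrict (Magnet.AMonS.map S (QuotientAddGroup.mk' Z))) g)
    (hfpr : IsPullback (Magnet.MonAct.fixedPsh.map g hgZ)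
      (Magnet.MonAct.fixedPshι (aU.restrict (Magnet.AMonS.map S (QuotientAddGroup.mk' Z))))
      (Magnet.MonAct.fixedPshι (a.restrict (Magnet.AMonS.map S (QuotientAddGroup.mk' Z)))) (yoneda.map g)) :
    ∃ (Nc : AddSubmonoid M) (h : Nc ≤ N), Nc.FG ∧ (∀ m : M, (m ∈ Nc ∧ -m ∈ Nc) ↔ (m ∈ N ∧ -m ∈ N)) ∧
      IsIso (Magnet.attrMap a h) := by
  haveI : LocallyOfFinitePresentation U.hom := by rw [← Over.w g]; infer_instance
  obtain ⟨E, hE⟩ := H28.MagnetAff.exists_degrees_global aU
  haveI : Module.Finite ℤ M := Module.Finite.iff_addGroup_fg.mpr inferInstance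
  have hZfg : Z.toAddSubmonoid.FG := (AddSubgroup.fg_iff_addSubmonoid_fg Z).mp
    ((Submodule.fg_iff_addSubgroup_fg (AddSubgroup.toIntSubmodule Z)).mp (IsNoetherian.noetherian _))
  obtain ⟨s, hs⟩ := hZfg
  classical
  let Nc : AddSubmonoid M := AddSubmonoid.closure ((s ∪ E.filter (· ∈ N) : Finset M) : Set M)
  have hle : Nc ≤ N := by
    refine AddSubmonoid.closure_le.mpr fun m hm => ?_
    simp only [Finset.coe_union, Set.mem_union, Finset.mem_coe, Finset.mem_filter] at hm
    rcases hm with hm | hm
    · exact ((hZ m).1 (hs.le (AddSubmonoid.subset_closure hm))).1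
    · exact hm.2
  have hZle : Z.toAddSubmonoid ≤ Nc := hs.ge.trans (AddSubmonoid.closure_mono (by simp))
  have hQ : Magnet.IsFace N Z.toAddSubmonoid := by
    have he : Z.toAddSubmonoid = Magnet.unitFace N := by
      ext m
      rw [AddSubgroup.mem_toAddSubmonoid, hZ]
      exact ⟨fun h => ⟨h.1, -m, h.2, add_neg_cancel m⟩, fun ⟨h1, y, hy, hxy⟩ =>
        ⟨h1, by rwa [neg_eq_of_add_eq_zero_right hxy]⟩⟩
    rw [he]
    exact Magnet.isFace_unitFace N
  have hcompat : ∀ (T : Over S) (ψ : (Magnet.attr a Nc).obj (op T)),
      (Magnet.attrToX a N).app (op T) ((Magnet.attrMap a hle).app (op T) ψ) = (Magnet.attrToX a Nc).app (op T) ψ := by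
    intro T ψ
    open scoped MonObj in
      show lift (toUnit T ≫ η[Magnet.AMonS S N]) (𝟙 T) ≫ (Magnet.AMonS.map S (AddSubmonoid.inclusion hle) ▷ T) ≫ ψ.1 =
        lift (toUnit T ≫ η[Magnet.AMonS S Nc]) (𝟙 T) ≫ ψ.1
    rw [lift_whiskerRight_assoc, ← Hom.one_def, MonObj.one_comp, ← Hom.one_def]
  refine ⟨Nc, hle, ⟨_, rfl⟩, fun m => ⟨fun h => ⟨hle h.1, hle h.2⟩, fun h =>
    ⟨hZle ((hZ m).2 h), hZle (Z.neg_mem ((hZ m).2 h))⟩⟩, ?_⟩
  haveI : ∀ T, IsIso ((Magnet.attrMap a hle).app T) := fun T => by
    refine (ConcreteCategory.isIso_iff_bijective _).mpr ⟨MagnetLib.attrMap_injective a hle (unop T), fun φ => ?_⟩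
    obtain ⟨T', t, χ, hEt, hS, hχ⟩ := MagnetLib.AtlasLift.exists_cover_lift aU a g hg N Z hQ
      (fun W _ => H28.FaceSquare.lifts_of_union aU a g hg hQ W) hgZ hfpr φ
    obtain ⟨lam, hlam⟩ := hE N Nc (fun m hm => ⟨fun h => AddSubmonoid.subset_closure (by simp [hm, h]), fun h => hle h⟩)
      T' _ ⟨χ, rfl⟩
    obtain ⟨ψ, hψ⟩ := MagnetLib.AtlasLift.exists_of_cover a Nc ((Magnet.attrToX a N).app T φ) t
      ((Magnet.MonAct.eqvHom.postcomp (Magnet.subAct S M Nc) g hg).app (op T') lam) (by
        rw [MagnetLib.AtlasLift.attrToX_postcomp, hlam,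
          ← MagnetLib.AtlasLift.attrToX_postcomp (a := a) (hg := hg), hχ]
        exact ConcreteCategory.congr_hom ((Magnet.attrToX a N).naturality t.op) φ)
    exact ⟨ψ, MagnetLib.attrToX_injective a N (unop T) ((hcompat _ ψ).trans hψ)⟩
  exact NatIso.isIso_of_isIso_app _

end Groth.Agent.S18237
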