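import Groth.Statements.S18242
import Groth.Agent.MagnetLib.Retract

set_option autoImplicit false
set_option maxHeartbeats 1000000
set_option linter.style.haveILetI false
universe u
open CategoryTheory MonoidalCategory CartesianMonoidalCategory AlgebraicGeometry Opposite
open Magnet

namespace Groth.Agent.S18242

open Groth.Agent

/-- Let S be a scheme, M a finitely generated abelian group, N a finitely generated submonoid of M and Z
= N* its subgroup of invertible elements (a face of N); let X be a scheme locally of finite
presentation over S with an action of the diagonalizable group scheme D(M)_S, admitting an N*-FPR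
atlas: an equivariant, étale and surjective g : U → X where U is a disjoint union of D(M)_S-stable
open subschemes each affine over S, such that for the actions restricted along D(M/Z)_S → D(M)_S the
square of fixed-point subfunctors U^{D(M/Z)} → X^{D(M/Z)} over U → X is cartesian. If the attractors
X^N and X^{N*} are represented by S-schemes Z_N and Z_* and j : Z_N → Z_* is the S-morphism
corresponding to the canonical map X^N → X^{N*} under the two representing bijections, then for
every field K and every K-valued point of Z_* the fibre of j is connected (the fibres are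
geometrically connected), and j induces a bijection on the sets of connected components. (Stated for
schemes; the published statement is for algebraic spaces over S.) -/
theorem result (S : Scheme.{u}) (M : Type) [AddCommGroup M]
    [AddGroup.FG M] (N : AddSubmonoid M) (hN : N.FG) (Z : AddSubgroup M)
    (hZ : ∀ m : M, m ∈ Z ↔ m ∈ Magnet.unitFace N)
    {X : Over S} [LocallyOfFinitePresentation X.hom] (a : Magnet.MonAct (Magnet.AMonS S M) X)
    (U : Over S) (aU : Magnet.MonAct (Magnet.AMonS S M) U) (g : U ⟶ X)
    (hg : Magnet.MonAct.IsEquivariant aU a g) [Etale g.left] [Surjective g.left]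
    (ι : Type u) (V : ι → U.left.Opens) (hVd : ∀ i i', i ≠ i' → Disjoint (V i) (V i'))
    (hVc : ⨆ i, V i = ⊤) (hVa : ∀ i, IsAffineHom ((V i).ι ≫ U.hom))
    (hVs : ∀ i, (CartesianMonoidalCategory.snd (Magnet.AMonS S M) U).left ⁻¹ᵁ (V i) ≤ aU.act.left ⁻¹ᵁ (V i))
    (hgZ : Magnet.MonAct.IsEquivariant (aU.restrict (Magnet.AMonS.map S (QuotientAddGroup.mk' Z))) (a.restrict (Magnet.AMonS.map S (QuotientAddGroup.mk' Z))) g)
    (hfpr : IsPullback (Magnet.MonAct.fixedPsh.map g hgZ)
      (Magnet.MonAct.fixedPshι (aU.restrict (Magnet.AMonS.map S (QuotientAddGroup.mk' Z))))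
      (Magnet.MonAct.fixedPshι (a.restrict (Magnet.AMonS.map S (QuotientAddGroup.mk' Z)))) (yoneda.map g))
    {ZN Z0 : Over S} (eN : (Magnet.attr a N).RepresentableBy ZN)
    (e0 : (Magnet.attr a (Magnet.unitFace N)).RepresentableBy Z0) (j : ZN ⟶ Z0)
    (hj : ∀ (T : Over S) (z : T ⟶ ZN), e0.homEquiv (z ≫ j) = (Magnet.attrFace a (Magnet.isFace_unitFace N)).app (op T) (eN.homEquiv z)) :
    (∀ (K : Type u) [Field K] (k : Spec (CommRingCat.of K) ⟶ Z0.left),
        ConnectedSpace ↥(Limits.pullback j.left k)) ∧
      Function.Bijective (Continuous.connectedComponentsMap (Scheme.Hom.continuous j.left)) := by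
  let Q := Magnet.unitFace N
  have hQ : Magnet.IsFace N Q := Magnet.isFace_unitFace N
  obtain ⟨δ, hδnat, hδ0, hδ1, -, hδr⟩ := MagnetLib.Retract.exists_homotopy a hN hQ
  let s : Z0 ⟶ ZN := eN.homEquiv.symm ((Magnet.attrMap a hQ.le).app (op Z0) (e0.homEquiv (𝟙 Z0)))
  have hnat : ∀ (T : Over S) (y : T ⟶ Z0), eN.homEquiv (y ≫ s) = (Magnet.attrMap a hQ.le).app (op T) (e0.homEquiv y) := by
    intro T y
    rw [eN.homEquiv_comp, Equiv.apply_symm_apply, e0.homEquiv_eq y]
    exact (ConcreteCategory.congr_hom ((Magnet.attrMap a hQ.le).naturality y.op) (e0.homEquiv (𝟙 Z0))).symm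
  have hsj : s ≫ j = 𝟙 Z0 := by
    apply e0.homEquiv.injective
    rw [hj, ← Category.id_comp s, hnat]
    refine Subtype.ext ?_
    show (Magnet.AMonS.faceMap S hQ ▷ Z0) ≫ (Magnet.AMonS.map S (AddSubmonoid.inclusion hQ.le) ▷ Z0) ≫
      (e0.homEquiv (𝟙 Z0)).1 = _
    rw [← MonoidalCategory.comp_whiskerRight_assoc, Magnet.AMonS.faceMap_comp_map, MonoidalCategory.id_whiskerRight, Category.id_comp]
  have key : ∀ (L : Type u) [Field L] (z : Spec (CommRingCat.of L) ⟶ ZN.left),
      ∃ H : Spec (CommRingCat.of (Polynomial L)) ⟶ ZN.left,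
        H ≫ j.left = Spec.map (CommRingCat.ofHom Polynomial.C) ≫ z ≫ j.left ∧
        Spec.map (CommRingCat.ofHom (Polynomial.evalRingHom (1 : L))) ≫ H = z ∧
        Spec.map (CommRingCat.ofHom (Polynomial.evalRingHom (0 : L))) ≫ H = z ≫ j.left ≫ s.left := by
    intro L _ z
    let T : Over S := Over.mk (z ≫ ZN.hom)
    let T' : Over S := Over.mk (Spec.map (CommRingCat.ofHom (Polynomial.C : L →+* Polynomial L)) ≫ T.hom)
    let q : T' ⟶ T := Over.homMk (Spec.map (CommRingCat.ofHom Polynomial.C)) rfl
    let zo : T ⟶ ZN := Over.homMk z rfl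
    let x := eN.homEquiv zo
    let c : Γ(T'.left, ⊤) := (Scheme.ΓSpecIso (CommRingCat.of (Polynomial L))).inv Polynomial.X
    let Ho : T' ⟶ ZN := eN.homEquiv.symm (δ T' ((Magnet.attr a N).map q.op x) c)
    let σ : L → (T ⟶ T') := fun l => Over.homMk (Spec.map (CommRingCat.ofHom (Polynomial.evalRingHom l))) (by
      show _ ≫ Spec.map _ ≫ T.hom = T.hom
      rw [← Category.assoc, ← Spec.map_comp, ← CommRingCat.ofHom_comp,
        show (Polynomial.evalRingHom l).comp Polynomial.C = RingHom.id L from RingHom.ext fun r => Polynomial.eval_C,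
        CommRingCat.ofHom_id, Spec.map_id]
      exact Category.id_comp _)
    have hc : ∀ l, (σ l).left.appTop c = (Scheme.ΓSpecIso (CommRingCat.of L)).inv l := by
      intro l
      have h := ConcreteCategory.congr_hom (Scheme.ΓSpecIso_inv_naturality
        (CommRingCat.ofHom (Polynomial.evalRingHom l))) Polynomial.X
      refine h.symm.trans ?_
      show (Scheme.ΓSpecIso (CommRingCat.of L)).inv (Polynomial.eval l Polynomial.X) = _
      rw [Polynomial.eval_X]
    have hσq : ∀ l, σ l ≫ q = 𝟙 T := fun l => Over.OverMorphism.ext (by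
      show Spec.map _ ≫ Spec.map _ = 𝟙 _
      rw [← Spec.map_comp, ← CommRingCat.ofHom_comp,
        show (Polynomial.evalRingHom l).comp Polynomial.C = RingHom.id L from RingHom.ext fun r => Polynomial.eval_C,
        CommRingCat.ofHom_id, Spec.map_id])
    have hval : ∀ l, eN.homEquiv (σ l ≫ Ho) = δ T x ((Scheme.ΓSpecIso (CommRingCat.of L)).inv l) := by
      intro l
      rw [eN.homEquiv_comp, Equiv.apply_symm_apply, ← hδnat, hc, ← Functor.map_comp_apply, ← op_comp, hσq, op_id,
        Functor.map_id_apply]
    refine ⟨Ho.left, ?_, ?_, ?_⟩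
    · have h : Ho ≫ j = q ≫ zo ≫ j := by
        apply e0.homEquiv.injective
        rw [hj, Equiv.apply_symm_apply, hδr, ← Category.assoc, hj, eN.homEquiv_comp]
      exact congrArg Over.Hom.left h
    · have h : σ 1 ≫ Ho = zo := eN.homEquiv.injective (by rw [hval, map_one]; exact hδ1 T x)
      exact congrArg Over.Hom.left h
    · have h : σ 0 ≫ Ho = zo ≫ j ≫ s := eN.homEquiv.injective (by
        rw [hval, map_zero, hδ0, ← Category.assoc, hnat, hj])
      exact congrArg Over.Hom.left h
  have hfib : ∀ (K : Type u) [Field K] (k : Spec (CommRingCat.of K) ⟶ Z0.left),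
      ConnectedSpace ↥(Limits.pullback j.left k) := by
    intro K _ k
    let P := Limits.pullback j.left k
    let o : Spec (CommRingCat.of K) ⟶ P := Limits.pullback.lift (k ≫ s.left) (𝟙 _) (by
      rw [Category.assoc, ← Over.comp_left, hsj, Over.id_left, Category.id_comp]
      exact Category.comp_id k)
    let p₀ : P := o (IsLocalRing.closedPoint K)
    have hpre : _root_.IsPreconnected (Set.univ : Set P) := by
      refine isPreconnected_of_forall p₀ fun p _ => ?_
      let L := P.residueField p
      let ρ : Spec (CommRingCat.of L) ⟶ P := P.fromSpecResidueField p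
      obtain ⟨H, hHj, hH1, hH0⟩ := key L (ρ ≫ Limits.pullback.fst j.left k)
      let G : Spec (CommRingCat.of (Polynomial L)) ⟶ P := Limits.pullback.lift H
        (Spec.map (CommRingCat.ofHom Polynomial.C) ≫ ρ ≫ Limits.pullback.snd j.left k) (by
          rw [hHj, Category.assoc, Category.assoc, Category.assoc, Limits.pullback.condition])
      have hC : ∀ l : L, Spec.map (CommRingCat.ofHom (Polynomial.evalRingHom l)) ≫
          Spec.map (CommRingCat.ofHom (Polynomial.C : L →+* Polynomial L)) = 𝟙 _ := fun l => by
        rw [← Spec.map_comp, ← CommRingCat.ofHom_comp,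
          show (Polynomial.evalRingHom l).comp Polynomial.C = RingHom.id L from RingHom.ext fun r => Polynomial.eval_C,
          CommRingCat.ofHom_id, Spec.map_id]
      have h1 : Spec.map (CommRingCat.ofHom (Polynomial.evalRingHom (1 : L))) ≫ G = ρ := by
        apply Limits.pullback.hom_ext
        · rw [Category.assoc, Limits.pullback.lift_fst, hH1]
        · rw [Category.assoc, Limits.pullback.lift_snd, ← Category.assoc, hC, Category.id_comp]
      have h0 : Spec.map (CommRingCat.ofHom (Polynomial.evalRingHom (0 : L))) ≫ G =
          (ρ ≫ Limits.pullback.snd j.left k) ≫ o := by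
        apply Limits.pullback.hom_ext
        · rw [Category.assoc, Limits.pullback.lift_fst, hH0, Category.assoc, Category.assoc, Category.assoc,
            Limits.pullback.lift_fst, Limits.pullback.condition_assoc]
        · rw [Category.assoc, Limits.pullback.lift_snd, ← Category.assoc, hC, Category.id_comp, Category.assoc,
            Limits.pullback.lift_snd, Category.comp_id]
      refine ⟨Set.range G, Set.subset_univ _, ?_, ?_, isPreconnected_range G.continuous⟩
      · refine ⟨Spec.map (CommRingCat.ofHom (Polynomial.evalRingHom (0 : L))) (IsLocalRing.closedPoint L), ?_⟩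
        refine (congr(($h0) (IsLocalRing.closedPoint L)) : _).trans ?_
        exact congrArg o (Subsingleton.elim _ _)
      · refine ⟨Spec.map (CommRingCat.ofHom (Polynomial.evalRingHom (1 : L))) (IsLocalRing.closedPoint L), ?_⟩
        refine (congr(($h1) (IsLocalRing.closedPoint L)) : _).trans ?_
        exact P.fromSpecResidueField_apply p _
    exact { toPreconnectedSpace := ⟨hpre⟩, toNonempty := ⟨p₀⟩ }
  refine ⟨hfib, ?_, ?_⟩
  · have hz : ∀ z : ZN.left, (_root_.ConnectedComponents.mk z : _root_.ConnectedComponents ZN.left) =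
        _root_.ConnectedComponents.mk (s.left (j.left z)) := by
      intro z
      haveI := hfib (Z0.left.residueField (j.left z)) (Z0.left.fromSpecResidueField (j.left z))
      let f := Limits.pullback.fst j.left (Z0.left.fromSpecResidueField (j.left z))
      have hmem : ∀ w, j.left w = j.left z → w ∈ Set.range f := fun w hw => by
        rw [Scheme.Pullback.range_fst, Scheme.range_fromSpecResidueField]
        exact hw
      rw [_root_.ConnectedComponents.coe_eq_coe']
      exact (isPreconnected_range f.continuous).subset_connectedComponent (hmem (s.left (j.left z)) (by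
        rw [← Scheme.Hom.comp_apply, ← Over.comp_left, hsj]
        rfl)) (hmem z rfl)
    intro x x' h
    obtain ⟨z, rfl⟩ := _root_.ConnectedComponents.surjective_coe x
    obtain ⟨z', rfl⟩ := _root_.ConnectedComponents.surjective_coe x'
    rw [hz z, hz z']
    exact congrArg (Continuous.connectedComponentsMap s.left.continuous) h
  · intro y
    obtain ⟨y, rfl⟩ := _root_.ConnectedComponents.surjective_coe y
    refine ⟨_root_.ConnectedComponents.mk (s.left y), congrArg _root_.ConnectedComponents.mk ?_⟩
    show j.left (s.left y) = y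
    rw [← Scheme.Hom.comp_apply, ← Over.comp_left, hsj]
    rfl

end Groth.Agent.S18242
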