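import Groth.Statements.S18244
import Groth.Agent.MagnetLib.FacePos
import Groth.Agent.MagnetLib.NilpExt
import Groth.Agent.H28.FaceThick
import Groth.Agent.H23.AttrComapGrp

set_option autoImplicit false
set_option maxHeartbeats 1000000
set_option linter.style.haveILetI false
universe u
open CategoryTheory MonoidalCategory CartesianMonoidalCategory AlgebraicGeometry Opposite
open Magnet MonObj

namespace Groth.Agent.S18244

open Groth.Agent

/-- Let S be a scheme, M a finitely generated abelian group, X a scheme locally of finite presentation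
over S with an action of the diagonalizable group scheme D(M)_S, N a finitely generated submonoid of
M and F a face of N; let ι : X^F → X^N be the canonical section and r : X^N → X^F the face
projection. Then (ι, r) is a strong deformation retract: there is a morphism δ : X^N ×_S 𝔸¹_S → X^N
of functors on S-schemes — here a family of maps X^N(T) × Γ(T, O_T) → X^N(T) natural in T — such
that δ(x, 0) = ι(r(x)), δ(x, 1) = x, and δ(ι(y), c) = ι(y) for all x in X^N(T), y in X^F(T) and
functions c on T. (Stated for schemes; the published statement is for algebraic spaces over S.) -/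
theorem result (S : Scheme.{u}) (M : Type) [AddCommGroup M] [AddGroup.FG M]
    {X : Over S} [LocallyOfFinitePresentation X.hom] (a : Magnet.MonAct (Magnet.AMonS S M) X)
    {N F : AddSubmonoid M} (hN : N.FG) (hF : Magnet.IsFace N F) :
    ∃ δ : ∀ T : Over S, (Magnet.attr a N).obj (op T) → Γ(T.left, ⊤) → (Magnet.attr a N).obj (op T),
      (∀ (T T' : Over S) (t : T' ⟶ T) (x : (Magnet.attr a N).obj (op T)) (c : Γ(T.left, ⊤)),
          δ T' ((Magnet.attr a N).map t.op x) (t.left.appTop c) = (Magnet.attr a N).map t.op (δ T x c)) ∧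
      (∀ (T : Over S) (x : (Magnet.attr a N).obj (op T)),
          δ T x 0 = (Magnet.attrMap a hF.le).app (op T) ((Magnet.attrFace a hF).app (op T) x)) ∧
      (∀ (T : Over S) (x : (Magnet.attr a N).obj (op T)), δ T x 1 = x) ∧
      (∀ (T : Over S) (y : (Magnet.attr a F).obj (op T)) (c : Γ(T.left, ⊤)),
          δ T ((Magnet.attrMap a hF.le).app (op T) y) c = (Magnet.attrMap a hF.le).app (op T) y) := by
  obtain ⟨lam, hlam⟩ := MagnetLib.FacePos.exists_weight hN hF
  let A := Magnet.AMonS S N
  let inc := Magnet.AMonS.map S (AddSubmonoid.inclusion hF.le)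
  have hchar : ∀ (T : Over S) (c : Γ(T.left, ⊤)), ∃ pc : T ⟶ A,
      ∀ n : N, H23.CharPts.chi pc (Multiplicative.ofAdd n) = c ^ lam n := by
    intro T c
    obtain ⟨pc, hpc⟩ := H23.CharPts.exists_chi_eq (S := S) (T := T) (M := ↥N)
      { toFun := fun n => c ^ lam (Multiplicative.toAdd n)
        map_one' := by rw [toAdd_one, map_zero, pow_zero]
        map_mul' := fun x y => by rw [toAdd_mul, map_add, pow_add] }
    exact ⟨pc, fun n => by rw [hpc]; rfl⟩
  choose pc hpc using hchar
  have hnat : ∀ {T T' : Over S} (t : T' ⟶ T) (c : Γ(T.left, ⊤)), pc T' (t.left.appTop c) = t ≫ pc T c := by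
    intro T T' t c
    refine H23.CharPts.chi_injective (MonoidHom.ext fun n => ?_)
    obtain ⟨n, rfl⟩ := Multiplicative.ofAdd.surjective n
    rw [H23.CharPts.chi_comp, hpc, hpc, map_pow]
  have hchi1 : ∀ (T : Over S) (n : Multiplicative ↥N), H23.CharPts.chi (1 : T ⟶ A) n = 1 := by
    intro T n
    rw [show (1 : T ⟶ A) = (1 : T ⟶ Magnet.AMonS S M) ≫ Magnet.AMonS.map S N.subtype from (MonObj.one_comp _).symm,
      H23.CharPts.chi_map, MagnetLib.NilpExt.chi_one]
  have hone : ∀ T : Over S, pc T 1 = 1 := by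
    intro T
    refine H23.CharPts.chi_injective (MonoidHom.ext fun n => ?_)
    obtain ⟨n, rfl⟩ := Multiplicative.ofAdd.surjective n
    rw [hpc, hchi1, one_pow]
  have hinc : ∀ (T : Over S) (c : Γ(T.left, ⊤)), pc T c ≫ inc = 1 := by
    intro T c
    refine H23.CharPts.chi_injective (MonoidHom.ext fun n => ?_)
    obtain ⟨n, rfl⟩ := Multiplicative.ofAdd.surjective n
    rw [show (1 : T ⟶ Magnet.AMonS S F) = (1 : T ⟶ A) ≫ inc from (MonObj.one_comp _).symm,
      H23.CharPts.chi_map, H23.CharPts.chi_map, hchi1,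
      show (AddMonoidHom.toMultiplicative (AddSubmonoid.inclusion hF.le) (Multiplicative.ofAdd n)) =
        Multiplicative.ofAdd (AddSubmonoid.inclusion hF.le n) from rfl,
      hpc, (hlam _).2 n.2, pow_zero]
  have hzero : ∀ {T W : Over S} (t : W ⟶ T) (b : W ⟶ A),
      b ≫ inc ≫ Magnet.AMonS.faceMap S hF = b * (t ≫ pc T 0) := by
    intro T W t b
    refine H23.CharPts.chi_injective (MonoidHom.ext fun n => ?_)
    obtain ⟨n, rfl⟩ := Multiplicative.ofAdd.surjective n
    rw [← Category.assoc, H23.CharPts.chi_mul, H23.CharPts.chi_comp t (pc T 0), hpc]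
    by_cases hn : (n : M) ∈ F
    · rw [H28.FaceThick.chi_face_mem N F _ n hn, H23.CharPts.chi_map, (hlam n).2 hn, pow_zero, map_one, _root_.mul_one]
      rfl
    · rw [H28.FaceThick.chi_face_notMem N F _ n hn, zero_pow fun h => hn ((hlam n).1 h), map_zero, mul_zero]
  let d : ∀ (T : Over S) (c : Γ(T.left, ⊤)), A ⊗ T ⟶ A ⊗ T := fun T c =>
    lift (fst A T * (snd A T ≫ pc T c)) (snd A T)
  have hd : ∀ {T W : Over S} (c : Γ(T.left, ⊤)) (b : W ⟶ A) (t : W ⟶ T),
      lift b t ≫ d T c = lift (b * (t ≫ pc T c)) t := by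
    intro T W c b t
    show lift b t ≫ lift _ _ = _
    rw [comp_lift, MonObj.comp_mul, lift_fst, lift_snd, ← Category.assoc, lift_snd]
  have heq : ∀ (T : Over S) (x : (Magnet.attr a N).obj (op T)) (c : Γ(T.left, ⊤)),
      Magnet.MonAct.IsEquivariant ((Magnet.subAct S M N).prod (Magnet.MonAct.trivial (Magnet.AMonS S M) T)) a
        (d T c ≫ x.1) := by
    intro T x c
    rw [Magnet.MonAct.mem_eqvHom_iff]
    intro W g b t
    have h := (Magnet.MonAct.mem_eqvHom_iff _).1 x.2 W g (b * (t ≫ pc T c)) t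
    rw [H23.AttrComapGrp.subAct_point] at h ⊢
    rw [← Category.assoc (lift _ t), hd, ← Category.assoc (lift b t), hd, _root_.mul_assoc]
    exact h
  refine ⟨fun T x c => ⟨d T c ≫ x.1, heq T x c⟩, fun T T' t x c => Subtype.ext ?_, fun T x => Subtype.ext ?_,
    fun T x => Subtype.ext ?_, fun T y c => Subtype.ext ?_⟩
  · show d T' (t.left.appTop c) ≫ (A ◁ t) ≫ x.1 = (A ◁ t) ≫ d T c ≫ x.1
    rw [← Category.assoc, ← Category.assoc]
    congr 1
    apply hom_ext_lift₂
    intro W b u
    rw [← Category.assoc, hd, lift_whiskerLeft, hnat, ← Category.assoc u, lift_whiskerLeft_assoc, hd]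
  · show d T 0 ≫ x.1 = (inc ▷ T) ≫ (Magnet.AMonS.faceMap S hF ▷ T) ≫ x.1
    apply hom_ext_lift₂
    intro W b u
    rw [← Category.assoc, hd, lift_whiskerRight_assoc, lift_whiskerRight_assoc, Category.assoc, hzero u b]
  · show d T 1 ≫ x.1 = x.1
    apply hom_ext_lift₂
    intro W b u
    rw [← Category.assoc, hd, hone, MonObj.comp_one, _root_.mul_one]
  · show d T c ≫ (inc ▷ T) ≫ y.1 = (inc ▷ T) ≫ y.1
    apply hom_ext_lift₂
    intro W b u
    rw [← Category.assoc, hd, lift_whiskerRight_assoc, lift_whiskerRight_assoc, MonObj.mul_comp, Category.assoc u, hinc,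
      MonObj.comp_one, _root_.mul_one]

end Groth.Agent.S18244
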