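import Groth.Statements.S18257
import Groth.Agent.UnitsSeq.Over

set_option autoImplicit false
universe u
open UnitsSh

namespace Groth.Agent.S18257

open CategoryTheory CategoryTheory.Limits AlgebraicGeometry in
/-- In the case of the multiplicative group, for schemes and with Zariski cohomology of the sheaf of
units. Let A be a local ring with maximal ideal m, t a nonzero element of m with m·t = 0, and X' a
scheme flat over Spec A; let i : X ⟶ X' be the closed subscheme cut out by t (base change to A/(t))
and X₀ the closed fibre (base change to the residue field). If H^{q+1}(X₀, O_{X₀}) = 0, then the map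
H^q(X', O_{X'}^×) → H^q(X', i_* O_X^×) induced by the units map of i is surjective. (The published
statement covers any smooth commutative group scheme in place of the multiplicative group, with the
Lie algebra of its closed fibre in place of O_{X₀}, uses étale cohomology, and takes A Artinian;
this row allows any local ring A with t as stated.) -/
theorem result
    (A : Type u) [CommRing A] [IsLocalRing A]
    (t : A) (ht0 : t ≠ 0) (ht : t ∈ IsLocalRing.maximalIdeal A)
    (hmt : ∀ x ∈ IsLocalRing.maximalIdeal A, x * t = 0)
    (X' : Scheme.{u}) [X'.Over (Spec (CommRingCat.of A))] [Flat (X' ↘ Spec (CommRingCat.of A))]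
    (q : ℕ)
    (hvan : Subsingleton (Coh.HH
      (pullback (X' ↘ Spec (CommRingCat.of A)) (Spec.map (CommRingCat.ofHom (IsLocalRing.residue A))))
      (Coh.structureModule _) (q + 1))) :
    Function.Surjective (Sheaf.H.map (UnitsSh.comap
      (pullback.fst (X' ↘ Spec (CommRingCat.of A))
        (Spec.map (CommRingCat.ofHom (Ideal.Quotient.mk (Ideal.span ({t} : Set A))))))) q) := by
  let f : X' ⟶ Spec (CommRingCat.of A) := X' ↘ Spec (CommRingCat.of A)
  let φ : CommRingCat.of A ⟶ CommRingCat.of (A ⧸ Ideal.span ({t} : Set A)) :=
    CommRingCat.ofHom (Ideal.Quotient.mk (Ideal.span ({t} : Set A)))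
  have hφ : Function.Surjective φ := Ideal.Quotient.mk_surjective
  have h := IsPullback.of_hasPullback f (Spec.map φ)
  have h₀ := IsPullback.of_hasPullback f (Spec.map (CommRingCat.ofHom (IsLocalRing.residue A)))
  have hker : RingHom.ker φ.hom = Ideal.span {t} := Ideal.mk_ker
  obtain ⟨h1, h2⟩ := UnitsSeq.surjective_of_nilpotent f hφ h fun a ha => by
    rw [← RingHom.mem_ker, hker, Ideal.mem_span_singleton'] at ha
    obtain ⟨c, rfl⟩ := ha
    exact ⟨2, by rw [mul_pow, pow_two t, hmt t ht, mul_zero]⟩
  haveI := IsClosedImmersion.spec_of_surjective (CommRingCat.ofHom (IsLocalRing.residue A)) IsLocalRing.residue_surjective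
  haveI : IsClosedImmersion (pullback.fst f (Spec.map (CommRingCat.ofHom (IsLocalRing.residue A)))) :=
    MorphismProperty.of_isPullback (P := @IsClosedImmersion) h₀.flip inferInstance
  refine (UnitsSeq.isSmallExt_of_isPullback f hφ h IsLocalRing.residue_surjective h₀ t hker (fun a => ?_)
    (hmt t ht)).surjective_H_comap q hvan
  show IsLocalRing.residue A a = 0 ↔ _
  rw [IsLocalRing.residue_eq_zero_iff]
  refine ⟨fun ha => by rw [mul_comm]; exact hmt a ha, fun ha => ?_⟩
  by_contra hu
  exact ht0 ((IsLocalRing.notMem_maximalIdeal.1 hu).mul_left_eq_zero.1 ha)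

end Groth.Agent.S18257
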