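import Groth.Statements.S18258
import Groth.Agent.UnitsSeq.Over
import Groth.Agent.UnitsSeq.Split

set_option autoImplicit false
universe u
open UnitsSh

namespace Groth.Agent.S18258

open CategoryTheory CategoryTheory.Limits AlgebraicGeometry in
/-- In the case of the multiplicative group, for schemes and with Zariski cohomology of the sheaf of
units. Let k be a field, X₀ a k-scheme, X' = X₀ ×_k Spec k[ε] (k[ε] the dual numbers) and i : X ⟶ X'
the closed subscheme ε = 0 (base change of X' along k[ε] → k, a copy of X₀). Then for every q the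
kernel of the map H^q(X', O_{X'}^×) → H^q(X', i_* O_X^×) induced by the units map of i — the tangent
space at the origin of the functor A ↦ H^q(X₀ ⊗_k A, O^×) on local Artinian k-algebras — is
isomorphic, as an additive group, to H^q(X, O_X). (Existence of an isomorphism only. The published
statement covers any smooth commutative group scheme in place of the multiplicative group, with the
Lie algebra of its closed fibre in place of the structure sheaf, and uses étale cohomology.) -/
theorem result
    (k : Type u) [Field k] (X₀ : Scheme.{u}) [X₀.Over (Spec (CommRingCat.of k))] (q : ℕ) :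
    Nonempty ((Sheaf.H.map (UnitsSh.comap (pullback.fst (pullback.snd (X₀ ↘ Spec (CommRingCat.of k)) (Spec.map (CommRingCat.ofHom (algebraMap k (DualNumber k))))) (Spec.map (CommRingCat.ofHom (TrivSqZeroExt.fstHom k k k).toRingHom)))) q).ker ≃+
      Coh.HH (pullback (pullback.snd (X₀ ↘ Spec (CommRingCat.of k)) (Spec.map (CommRingCat.ofHom (algebraMap k (DualNumber k))))) (Spec.map (CommRingCat.ofHom (TrivSqZeroExt.fstHom k k k).toRingHom))) (Coh.structureModule (pullback (pullback.snd (X₀ ↘ Spec (CommRingCat.of k)) (Spec.map (CommRingCat.ofHom (algebraMap k (DualNumber k))))) (Spec.map (CommRingCat.ofHom (TrivSqZeroExt.fstHom k k k).toRingHom)))) q) := by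
  let a := Spec.map (CommRingCat.ofHom (algebraMap k (DualNumber k)))
  let f := pullback.snd (X₀ ↘ Spec (CommRingCat.of k)) a
  let φ : CommRingCat.of (DualNumber k) ⟶ CommRingCat.of k :=
    CommRingCat.ofHom (TrivSqZeroExt.fstHom k k k).toRingHom
  haveI : Flat (X₀ ↘ Spec (CommRingCat.of k)) := inferInstance
  haveI : Flat f := inferInstance
  have hφ : Function.Surjective φ := fun x => ⟨TrivSqZeroExt.inl x, TrivSqZeroExt.fst_inl k x⟩
  have hmem : ∀ z : DualNumber k, φ z = 0 ↔ z = DualNumber.eps * TrivSqZeroExt.inl z.snd := fun z => by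
    refine ⟨fun hz => TrivSqZeroExt.ext ?_ ?_, fun hz => ?_⟩
    · rw [TrivSqZeroExt.fst_mul]; exact hz.trans (by simp only [DualNumber.fst_eps, DualNumber.snd_eps, TrivSqZeroExt.fst_inl, TrivSqZeroExt.snd_inl, zero_mul, mul_zero, zero_smul, smul_zero, zero_add, add_zero, MulOpposite.smul_eq_mul_unop, MulOpposite.unop_op, smul_eq_mul, one_mul, mul_one, MulOpposite.op_zero])
    · rw [TrivSqZeroExt.snd_mul]; simp only [DualNumber.fst_eps, DualNumber.snd_eps, TrivSqZeroExt.fst_inl, TrivSqZeroExt.snd_inl, zero_mul, mul_zero, zero_smul, smul_zero, zero_add, add_zero, MulOpposite.smul_eq_mul_unop, MulOpposite.unop_op, smul_eq_mul, one_mul, mul_one, MulOpposite.op_zero]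
    · show z.fst = 0
      rw [hz, TrivSqZeroExt.fst_mul]
      simp only [DualNumber.fst_eps, DualNumber.snd_eps, TrivSqZeroExt.fst_inl, TrivSqZeroExt.snd_inl, zero_mul, mul_zero, zero_smul, smul_zero, zero_add, add_zero, MulOpposite.smul_eq_mul_unop, MulOpposite.unop_op, smul_eq_mul, one_mul, mul_one, MulOpposite.op_zero]
  have hsq : (DualNumber.eps : DualNumber k) * DualNumber.eps = 0 := DualNumber.eps_mul_eps
  have hker : RingHom.ker φ.hom = Ideal.span {(DualNumber.eps : DualNumber k)} := by
    ext z
    rw [RingHom.mem_ker, Ideal.mem_span_singleton']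
    refine ⟨fun hz => ⟨_, (mul_comm _ _).trans ((hmem z).1 hz).symm⟩, ?_⟩
    rintro ⟨c, rfl⟩
    show (c * DualNumber.eps).fst = 0
    rw [TrivSqZeroExt.fst_mul]
    simp only [DualNumber.fst_eps, DualNumber.snd_eps, TrivSqZeroExt.fst_inl, TrivSqZeroExt.snd_inl, zero_mul, mul_zero, zero_smul, smul_zero, zero_add, add_zero, MulOpposite.smul_eq_mul_unop, MulOpposite.unop_op, smul_eq_mul, one_mul, mul_one, MulOpposite.op_zero]
  have hann : ∀ z, φ z = 0 ↔ (DualNumber.eps : DualNumber k) * z = 0 := fun z => by
    refine ⟨fun hz => by rw [(hmem z).1 hz, ← mul_assoc, hsq, zero_mul], fun hz => ?_⟩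
    show z.fst = 0
    have h1 := congrArg TrivSqZeroExt.snd hz
    rw [TrivSqZeroExt.snd_mul] at h1
    simpa only [TrivSqZeroExt.snd_zero, DualNumber.fst_eps, DualNumber.snd_eps, TrivSqZeroExt.fst_inl, TrivSqZeroExt.snd_inl, zero_mul, mul_zero, zero_smul, smul_zero, zero_add, add_zero, MulOpposite.smul_eq_mul_unop, MulOpposite.unop_op, smul_eq_mul, one_mul, mul_one, MulOpposite.op_zero] using h1
  have h := IsPullback.of_hasPullback f (Spec.map φ)
  obtain ⟨hc, hs⟩ := UnitsSeq.surjective_of_nilpotent f hφ h fun z hz =>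
    ⟨2, by rw [(hmem z).1 hz, mul_pow, pow_two, hsq, zero_mul]⟩
  haveI := hc
  haveI := hs
  let g := pullback.fst f (Spec.map φ) ≫ pullback.fst (X₀ ↘ Spec (CommRingCat.of k)) a
  have hid : Spec.map φ ≫ a = 𝟙 _ := by
    rw [← Spec.map_comp, ← Spec.map_id]
    rfl
  haveI : IsIso g := (h.paste_horiz (IsPullback.of_hasPullback (X₀ ↘ Spec (CommRingCat.of k)) a)).isIso_fst_of_isIso
    (by rw [hid]; infer_instance)
  exact (UnitsSeq.isSmallExt_of_isPullback f hφ h hφ h DualNumber.eps hker hann hsq).nonempty_ker_H_comap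
    (pullback.fst (X₀ ↘ Spec (CommRingCat.of k)) a ≫ inv g) (by rw [← Category.assoc]; exact IsIso.hom_inv_id g) q

end Groth.Agent.S18258
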