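import Groth.Statements.S18259
import Groth.Agent.UnitsSeq.Artin

set_option autoImplicit false
universe u
open UnitsSh

namespace Groth.Agent.S18259

open CategoryTheory CategoryTheory.Limits AlgebraicGeometry in
/-- In the case of the multiplicative group, for schemes and with Zariski cohomology of the sheaf of
units, in the form 'the functor A ↦ H^q(X ⊗ A, O^×) on local Artinian algebras is formally smooth'.
Let A be an Artinian local ring with maximal ideal m, J ⊆ m an ideal, X' a scheme flat over Spec A,
i : X ⟶ X' the closed subscheme defined by J (base change to A/J) and X₀ the closed fibre (base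
change to A/m). If H^{q+1}(X₀, O_{X₀}) = 0, then the map H^q(X', O_{X'}^×) → H^q(X', i_* O_X^×)
induced by the units map of i is surjective. (The published statement asserts formal smoothness for
any smooth commutative group scheme in place of the multiplicative group, with the Lie algebra of
its closed fibre in place of O_{X₀}, and uses étale cohomology.) -/
theorem result
    (A : Type u) [CommRing A] [IsArtinianRing A] [IsLocalRing A]
    (J : Ideal A) (hJ : J ≤ IsLocalRing.maximalIdeal A)
    (X' : Scheme.{u}) [X'.Over (Spec (CommRingCat.of A))] [Flat (X' ↘ Spec (CommRingCat.of A))]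
    (q : ℕ)
    (hvan : Subsingleton (Coh.HH (pullback (X' ↘ Spec (CommRingCat.of A)) (Spec.map (CommRingCat.ofHom (IsLocalRing.residue A)))) (Coh.structureModule _) (q + 1))) :
    Function.Surjective (Sheaf.H.map (UnitsSh.comap
      (pullback.fst (X' ↘ Spec (CommRingCat.of A)) (Spec.map (CommRingCat.ofHom (Ideal.Quotient.mk J))))) q) := by
  let f : X' ⟶ Spec (CommRingCat.of A) := X' ↘ Spec (CommRingCat.of A)
  have h := IsPullback.of_hasPullback f (Spec.map (CommRingCat.ofHom (Ideal.Quotient.mk J)))
  obtain ⟨hc, hs⟩ := UnitsSeq.surjective_of_nilpotent f (φ := CommRingCat.ofHom (Ideal.Quotient.mk J))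
    Ideal.Quotient.mk_surjective h fun a ha =>
      UnitsSeq.isNilpotent_of_mem_maximalIdeal (hJ (Ideal.Quotient.eq_zero_iff_mem.1 ha))
  haveI := hc
  haveI := hs
  exact UnitsSeq.surjective_H_comap_of_kernel _ q
    (UnitsSeq.subsingleton_H_kernel_of_artinian f (IsPullback.of_hasPullback f _) (q + 1) hvan J hJ _ _ h)

end Groth.Agent.S18259
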