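import Groth.Statements.S18265
import Mathlib.RingTheory.IntegralClosure.IntegrallyClosed
import Mathlib.RingTheory.Polynomial.UniqueFactorization
import Mathlib.RingTheory.Polynomial.RationalRoot
import Mathlib.RingTheory.Localization.FractionRing

set_option autoImplicit false
universe u
open InvQ

namespace Groth.Agent.S18265

/-- A domain embedded in a normal domain and stable under exact division is normal. -/
theorem isIntegrallyClosed_of_emb {R P : Type u} [CommRing R] [IsDomain R] [CommRing P] [IsDomain P] [IsIntegrallyClosed P]
    (g : R →+* P) (hg : Function.Injective g)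
    (h : ∀ (a b : R) (f : P), b ≠ 0 → f * g b = g a → ∃ c, g c = f) : IsIntegrallyClosed R := by
  let K := FractionRing R
  let F := FractionRing P
  have hinj : Function.Injective ((algebraMap P F).comp g) := fun x y h => hg (IsFractionRing.injective P F h)
  let ι : K →+* F := IsFractionRing.lift (A := R) (K := K) (L := F) hinj
  have hc : ι.comp (algebraMap R K) = (algebraMap P F).comp g := IsLocalization.lift_comp _
  rw [isIntegrallyClosed_iff K]
  intro z hz
  obtain ⟨a, b, hb, rfl⟩ := IsFractionRing.div_surjective (A := R) z
  have hz' : IsIntegral P (ι (algebraMap R K a / algebraMap R K b)) := by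
    obtain ⟨q, hq, hq'⟩ := hz
    refine ⟨q.map g, hq.map _, ?_⟩
    rw [Polynomial.eval₂_map, ← hc, ← Polynomial.hom_eval₂, hq', map_zero]
  obtain ⟨f, hf⟩ := (isIntegrallyClosed_iff F).1 ‹IsIntegrallyClosed P› hz'
  have hb0 : b ≠ 0 := nonZeroDivisors.ne_zero hb
  have hbP : g b ≠ 0 := fun h0 => hb0 (hg (h0.trans g.map_zero.symm))
  have hfab : f * g b = g a := by
    apply IsFractionRing.injective P F
    rw [map_mul, hf, map_div₀, IsFractionRing.lift_algebraMap, IsFractionRing.lift_algebraMap]
    exact div_mul_cancel₀ _ ((map_ne_zero_iff _ (IsFractionRing.injective P F)).2 hbP)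
  obtain ⟨c, hcf⟩ := h a b f hb0 hfab
  refine ⟨c, ?_⟩
  rw [eq_div_iff (IsFractionRing.to_map_ne_zero_of_mem_nonZeroDivisors hb), ← map_mul]
  exact congrArg _ (hg (by rw [map_mul, hcf, hfab]))

/-- Let k be an algebraically closed field and n, m natural numbers, and let R be the ring of polynomial
functions of m vectors of k^(n+1) invariant under the special linear group SL(n+1, k) acting on all
the vectors at once and under the rescalings of the individual vectors by units with product 1
(equivalently: invariant and homogeneous of one and the same degree in each vector) — the graded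
ring of invariant sections whose Proj is the quotient variety of ordered m-point sets in projective
n-space. Then R is integrally closed in its field of fractions; hence that quotient variety is
normal. (Only the normality assertion of the source's statement is given here; its dimension,
rationality and singular-locus assertions are not.) -/
theorem result (k : Type u) [Field k] [IsAlgClosed k] (n m : ℕ) :
    IsIntegrallyClosed (W4c5pointsetsdelpezzo.invRing k n m) := by
  haveI : IsIntegrallyClosed (W4c5pointsetsdelpezzo.TupleRing k n m) := inferInstance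
  refine isIntegrallyClosed_of_emb (W4c5pointsetsdelpezzo.invRing k n m).val.toRingHom Subtype.val_injective
    fun a b f hb0' hfab => ⟨⟨f, ?_⟩, rfl⟩
  obtain ⟨a, ha⟩ := a
  obtain ⟨b, hb⟩ := b
  have hb0 : b ≠ 0 := fun h => hb0' (Subtype.ext h)
  change f * b = a at hfab
  have hmem : ∀ p, p ∈ W4c5pointsetsdelpezzo.invRing k n m ↔
      (∀ g, W4c5pointsetsdelpezzo.slSubst k n m g p = p) ∧
      ∀ s : {s : Fin m → kˣ // ∏ i, s i = 1}, W4c5pointsetsdelpezzo.colScale k n m s.1 p = p := fun p => by
    simp only [W4c5pointsetsdelpezzo.invRing, Algebra.mem_inf, Algebra.mem_iInf, AlgHom.mem_equalizer,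
      AlgHom.id_apply]
  have key : ∀ φ : W4c5pointsetsdelpezzo.TupleRing k n m →ₐ[k] W4c5pointsetsdelpezzo.TupleRing k n m,
      φ a = a → φ b = b → φ f = f := fun φ ha hb' => by
    refine mul_right_cancel₀ hb0 ?_
    rw [hfab, ← ha, ← hfab, map_mul, hb']
  exact (hmem f).2 ⟨fun g => key _ (((hmem a).1 ha).1 g) (((hmem b).1 hb).1 g),
    fun s => key _ (((hmem a).1 ha).2 s) (((hmem b).1 hb).2 s)⟩

end Groth.Agent.S18265
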