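import Groth.Statements.S18267
import Groth.Agent.S0220
import Groth.Agent.DimFormula.DedekindFlat
import Groth.Agent.SmoothReg.Scheme
import Groth.Agent.ChowX.Prod
import Groth.Agent.SymX.HEmbed
import Mathlib.AlgebraicGeometry.ZariskisMainTheorem
-- import your own Groth.Agent.* helpers here

set_option autoImplicit false
set_option backward.isDefEq.respectTransparency false
set_option backward.isDefEq.respectTransparency.types false
open CategoryTheory CategoryTheory.Limits AlgebraicGeometry
open ZCorr

namespace Groth.Agent.S18267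

/-- Over the complex numbers, suppose C is a quasi-projective curve that is smooth and irreducible and X
is a projective variety that is smooth and irreducible; take Z to be an integral closed subscheme of
C × X of dimension one whose projection to C is surjective (a non-vertical irreducible component of
a correspondence from C to X). Then the projection Z → C is finite and flat. -/
theorem result
    (C X : Scheme.{0}) [C.Over (Spec (CommRingCat.of ℂ))] [X.Over (Spec (CommRingCat.of ℂ))]
    [AlgebraicGeometry.IsIntegral C] [Smooth (C ↘ Spec (CommRingCat.of ℂ))] (hC : RelProj.IsHQuasiProjective (C ↘ Spec (CommRingCat.of ℂ)))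
    (hdimC : topologicalKrullDim C = 1)
    [AlgebraicGeometry.IsIntegral X] [Smooth (X ↘ Spec (CommRingCat.of ℂ))] (hX : RelProj.IsHProjective (X ↘ Spec (CommRingCat.of ℂ)))
    {Z : Scheme.{0}} (i : Z ⟶ pullback (C ↘ Spec (CommRingCat.of ℂ)) (X ↘ Spec (CommRingCat.of ℂ))) [IsClosedImmersion i]
    [AlgebraicGeometry.IsIntegral Z] (hdimZ : topologicalKrullDim Z = 1)
    (hsurj : Function.Surjective ⇑(i ≫ pullback.fst (C ↘ Spec (CommRingCat.of ℂ)) (X ↘ Spec (CommRingCat.of ℂ)))) :
    IsFinite (i ≫ pullback.fst (C ↘ Spec (CommRingCat.of ℂ)) (X ↘ Spec (CommRingCat.of ℂ))) ∧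
      Flat (i ≫ pullback.fst (C ↘ Spec (CommRingCat.of ℂ)) (X ↘ Spec (CommRingCat.of ℂ))) := by
  let p := C ↘ Spec (CommRingCat.of ℂ)
  let q := X ↘ Spec (CommRingCat.of ℂ)
  haveI : IsProper q := ChowX.isProper_of_isHProjective hX
  obtain ⟨r, j, hj, hjqc, hjp⟩ := hC
  haveI := hj
  haveI := hjqc
  haveI : IsProper (CohB1.ProjSpace.toSpec r (ULift.{0} ℤ)) := PnCoh.Chow.isProper_toSpec r _
  haveI : IsProper (CohB1.ProjSpaceOver.toBase r (Spec (CommRingCat.of ℂ))) :=
    MorphismProperty.pullback_snd _ _ inferInstance
  haveI : IsSeparated p := by rw [show p = _ from hjp.symm]; infer_instance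
  haveI : QuasiCompact p := by rw [show p = _ from hjp.symm]; infer_instance
  let f := i ≫ pullback.fst p q
  haveI : IsProper f := MorphismProperty.comp_mem _ _ _ inferInstance
    (show IsProper (pullback.fst p q) from inferInstance)
  haveI : Surjective f := ⟨hsurj⟩
  haveI : IsLocallyNoetherian C := LocallyOfFiniteType.isLocallyNoetherian p
  haveI : IsLocallyNoetherian Z := LocallyOfFiniteType.isLocallyNoetherian (f ≫ p)
  haveI : CompactSpace Z := QuasiCompact.compactSpace_of_compactSpace (f ≫ p)
  haveI : AlgebraicGeometry.IsNoetherian Z := { }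
  have hdegle : ∀ {W : Scheme.{0}} (s : W ⟶ Spec (CommRingCat.of ℂ)) [LocallyOfFiniteType s],
      topologicalKrullDim W = 1 → ∀ w : W, VarDim.deg s w ≤ 1 := by
    intro W s _ hW w
    rw [VarDim.topologicalKrullDim_eq_iSup_deg s] at hW
    exact_mod_cast (le_iSup (fun w : W => ((VarDim.deg s w : ℕ∞) : WithBot ℕ∞)) w).trans hW.le
  -- closedness of points different from the generic one
  have hclosed : ∀ {W : Scheme.{0}} [AlgebraicGeometry.IsIntegral W] (s : W ⟶ Spec (CommRingCat.of ℂ)) [LocallyOfFiniteType s],
      topologicalKrullDim W = 1 → ∀ w : W, w ≠ genericPoint W → IsClosed ({w} : Set W) := by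
    intro W _ s _ hW w hne
    have h1 := VarDim.deg_strictMono s (show w < genericPoint W from
      lt_iff_le_not_ge.2 ⟨genericPoint_specializes w,
        fun h' => hne (Specializes.antisymm h' (genericPoint_specializes w)).eq⟩)
    have h2 := hdegle s hW (genericPoint W)
    exact (VarDim.closedPoint_iff_deg_eq_zero s w).2 (by omega)
  have hηC : ¬ IsClosed ({genericPoint C} : Set C) := by
    intro hcl
    have h0 := (VarDim.closedPoint_iff_deg_eq_zero p _).1 hcl
    rw [VarDim.topologicalKrullDim_eq_deg_genericPoint p, h0] at hdimC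
    exact absurd hdimC (by norm_num)
  have hgen : f (genericPoint Z) = genericPoint C := by
    by_contra hne
    have hcl := hclosed p hdimC _ hne
    obtain ⟨z, hz⟩ := hsurj (genericPoint C)
    exact hne ((((genericPoint_specializes z).map f.continuous).mem_closed hcl rfl).symm.trans hz)
  have hfib : ∀ y : C, (f ⁻¹' {y}).Finite := by
    intro y
    by_cases hy : y = genericPoint C
    · refine (Set.finite_singleton (genericPoint Z)).subset fun z hz => ?_
      by_contra hne
      refine hηC ?_
      rw [← hy, ← show f z = y from hz, ← Set.image_singleton]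
      exact f.isClosedMap _ (hclosed (f ≫ p) hdimZ z hne)
    · have hT : IsClosed (f ⁻¹' {y}) := (hclosed p hdimC y hy).preimage f.continuous
      obtain ⟨S, hSfin, hSirr, hScl, hTS⟩ : ∃ S : Set (Set Z), S.Finite ∧ (∀ t ∈ S, IsIrreducible t) ∧
          (∀ t ∈ S, IsClosed t) ∧ f ⁻¹' {y} = ⋃₀ S := by
        obtain ⟨S, h1, h2, h3, h4⟩ := TopologicalSpace.NoetherianSpace.exists_finite_set_isClosed_irreducible hT
        exact ⟨S, h1, h3, h2, h4⟩
      rw [hTS]
      refine hSfin.sUnion fun t ht => ?_
      refine (Set.finite_singleton (hSirr t ht).genericPoint).subset ?_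
      have hg : (hSirr t ht).genericPoint ∈ t := by
        have := (hSirr t ht).isGenericPoint_genericPoint_closure.mem
        rwa [(hScl t ht).closure_eq] at this
      have hgne : (hSirr t ht).genericPoint ≠ genericPoint Z := by
        intro e
        have hm : (hSirr t ht).genericPoint ∈ f ⁻¹' {y} := hTS ▸ ⟨t, ht, hg⟩
        exact hy (by rw [← hgen, ← e]; exact hm.symm)
      intro z hz
      exact ((hSirr t ht).isGenericPoint_genericPoint_closure.specializes (subset_closure hz)).mem_closed
        (hclosed (f ≫ p) hdimZ _ hgne) rfl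
  haveI : LocallyQuasiFinite f := LocallyQuasiFinite.of_finite_preimage_singleton f hfib
  have hN : ∀ y : C, IsDomain (C.presheaf.stalk y) ∧ IsIntegrallyClosed (C.presheaf.stalk y) := by
    intro y
    have hreg : IsRegularLocalRing (C.presheaf.stalk y) :=
      SmoothReg.isRegularLocalRing_stalk_of_mem_smoothLocus p (by rw [Scheme.Hom.smoothLocus_eq_top_iff.2 ‹Smooth (C ↘ Spec (CommRingCat.of ℂ))›]; trivial)
    obtain ⟨b, hb, ⟨η, -, hη⟩, -⟩ := VarDim.exists_deg_add_stalk p y
    haveI := hreg
    haveI := RegLoc6.isDomain_of_isRegularLocalRing (C.presheaf.stalk y)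
    haveI := DimFormula.isPrincipalIdealRing_of_regular_dim_le_one (R := C.presheaf.stalk y) (by
      rw [hb]
      have := hdegle p hdimC η
      exact_mod_cast (show b ≤ 1 by omega))
    exact ⟨inferInstance, inferInstance⟩
  refine ⟨IsFinite.of_isProper_of_locallyQuasiFinite f, ?_⟩
  refine S0220.result ℂ Z C (f ≫ p) p hdimZ hdimC hN f rfl ?_
  rw [show Set.range f.base = Set.univ from hsurj.range_eq]
  obtain ⟨y, -, hy⟩ : ∃ y : C, True ∧ y ≠ genericPoint C := by
    by_contra h
    push_neg at h
    exact hηC (by
      rw [show ({genericPoint C} : Set C) = Set.univ from Set.eq_univ_of_forall fun y => h y trivial]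
      exact isClosed_univ)
  exact ⟨y, trivial, genericPoint C, trivial, hy⟩

end Groth.Agent.S18267
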