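import Groth.Statements.S18281
import Groth.Agent.FlatLocus.Basic
import Groth.Agent.ChowX.Prod

set_option autoImplicit false
open CategoryTheory CategoryTheory.Limits AlgebraicGeometry
open ZCorr

namespace Groth.Agent.S18281

open Order

theorem dim_eq_krullDim (X : Scheme.{0}) : topologicalKrullDim ↥X = krullDim ↥X :=
  krullDim_eq_of_orderIso irreducibleSetEquivPoints

/-- Chains downstairs lift along closed maps. -/
theorem exists_series_lift {Z W : Scheme.{0}} (π : Z ⟶ W) [UniversallyClosed π] :
    ∀ (m : ℕ) (p : LTSeries W), p.length = m → ∀ z : Z, π z = p.last →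
      ∃ q : LTSeries Z, q.length = m ∧ q.last = z := by
  intro m
  induction m with
  | zero => exact fun _ _ z _ => ⟨RelSeries.singleton _ z, rfl, rfl⟩
  | succ m ih =>
    intro p hp z hz
    have hlt : p.eraseLast.last < p.last := p.eraseLast_last_rel_last (by omega)
    obtain ⟨z', hz', hπ⟩ := π.isClosedMap.specializingMap
      (show π z ⤳ p.eraseLast.last by rw [hz]; exact hlt.le)
    obtain ⟨q, hq, hql⟩ := ih p.eraseLast (by rw [RelSeries.eraseLast_length, hp]; rfl) z' hπ
    have hne : z' ≠ z := fun h => hlt.ne (by rw [← hπ, h, hz])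
    refine ⟨q.snoc z (hql ▸ lt_iff_le_not_ge.2 ⟨hz', fun h => hne (Specializes.antisymm h hz').eq⟩), ?_, RelSeries.last_snoc _ _ _⟩
    show q.length + 1 = m + 1
    rw [hq]

/-- The generic fibre of a closed map between integral schemes of equal finite dimension is a point. -/
theorem fibre_genericPoint_subset {Z W : Scheme.{0}} [IsIntegral Z] [IsIntegral W] (π : Z ⟶ W)
    [UniversallyClosed π] (n : ℕ) (hW : topologicalKrullDim ↥W = n) (hZ : topologicalKrullDim ↥Z = n) :
    π ⁻¹' {genericPoint W} ⊆ {genericPoint Z} := by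
  intro z hz
  by_contra hne
  rw [dim_eq_krullDim] at hW hZ
  obtain ⟨p, hp⟩ := le_krullDim_iff.1 hW.ge
  obtain ⟨z', hz', hπ⟩ := π.isClosedMap.specializingMap
    (show π z ⤳ p.last by
      rw [show π z = genericPoint W from hz]
      exact genericPoint_specializes _)
  obtain ⟨q, hq, hql⟩ := exists_series_lift π n p hp z' hπ
  have hne' : z' ≠ genericPoint Z := fun h => by
    rw [h] at hz'
    exact hne ((genericPoint_specializes z).antisymm hz').eq.symm
  have := LTSeries.length_le_krullDim (q.snoc (genericPoint Z)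
    (hql ▸ lt_iff_le_not_ge.2
      ⟨genericPoint_specializes _, fun h => hne' (Specializes.antisymm h (genericPoint_specializes _)).eq⟩))
  rw [hZ, RelSeries.snoc_length, hq] at this
  norm_cast at this
  omega


/-- Over the complex numbers let W be a smooth irreducible quasi-projective variety of dimension n, X a
smooth irreducible projective variety, and Z an integral closed subscheme of X × W of dimension n
(an irreducible component of a correspondence from W to X), with projection π : Z → W. (a) The set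
of points of W over which π is flat (flat at every point of the fibre) is open and nonempty. (b) The
set U of points of W with finite fibre is open and nonempty, and π restricted over U is finite. -/
theorem result
    (W X : Scheme.{0}) [W.Over (Spec (CommRingCat.of ℂ))] [X.Over (Spec (CommRingCat.of ℂ))]
    [AlgebraicGeometry.IsIntegral W] [Smooth (W ↘ Spec (CommRingCat.of ℂ))] (hW : RelProj.IsHQuasiProjective (W ↘ Spec (CommRingCat.of ℂ)))
    (n : ℕ) (hdimW : topologicalKrullDim W = n)
    [AlgebraicGeometry.IsIntegral X] [Smooth (X ↘ Spec (CommRingCat.of ℂ))] (hX : RelProj.IsHProjective (X ↘ Spec (CommRingCat.of ℂ)))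
    {Z : Scheme.{0}} (i : Z ⟶ pullback (X ↘ Spec (CommRingCat.of ℂ)) (W ↘ Spec (CommRingCat.of ℂ))) [IsClosedImmersion i]
    [AlgebraicGeometry.IsIntegral Z] (hdimZ : topologicalKrullDim Z = n) :
    (IsOpen {w : W | ∀ z : Z, (i ≫ pullback.snd (X ↘ Spec (CommRingCat.of ℂ)) (W ↘ Spec (CommRingCat.of ℂ))) z = w →
        ((i ≫ pullback.snd (X ↘ Spec (CommRingCat.of ℂ)) (W ↘ Spec (CommRingCat.of ℂ))).stalkMap z).hom.Flat} ∧
      {w : W | ∀ z : Z, (i ≫ pullback.snd (X ↘ Spec (CommRingCat.of ℂ)) (W ↘ Spec (CommRingCat.of ℂ))) z = w →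
        ((i ≫ pullback.snd (X ↘ Spec (CommRingCat.of ℂ)) (W ↘ Spec (CommRingCat.of ℂ))).stalkMap z).hom.Flat}.Nonempty) ∧
    ∃ U : W.Opens, (U : Set W) = {w : W | ((i ≫ pullback.snd (X ↘ Spec (CommRingCat.of ℂ)) (W ↘ Spec (CommRingCat.of ℂ))) ⁻¹' {w}).Finite} ∧
      (U : Set W).Nonempty ∧ IsFinite ((i ≫ pullback.snd (X ↘ Spec (CommRingCat.of ℂ)) (W ↘ Spec (CommRingCat.of ℂ))) ∣_ U) := by
  haveI : IsProper (X ↘ Spec (CommRingCat.of ℂ)) := Groth.Agent.ChowX.isProper_of_isHProjective hX
  set π := i ≫ pullback.snd (X ↘ Spec (CommRingCat.of ℂ)) (W ↘ Spec (CommRingCat.of ℂ)) with hπ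
  haveI : IsProper π := by rw [hπ]; infer_instance
  haveI : IsLocallyNoetherian W := LocallyOfFiniteType.isLocallyNoetherian (W ↘ Spec (CommRingCat.of ℂ))
  haveI : LocallyOfFinitePresentation π := inferInstance
  have hgenflat : ∀ z : Z, π z = genericPoint W → (π.stalkMap z).hom.Flat := by
    intro z hz
    have hf : IsField (W.presheaf.stalk (π z)) := hz ▸ Field.toIsField W.functionField
    letI := hf.toField
    show @Module.Flat _ _ _ _ (π.stalkMap z).hom.toAlgebra.toModule
    infer_instance
  refine ⟨⟨?_, ⟨genericPoint W, hgenflat⟩⟩, ?_⟩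
  · rw [show {w : W | ∀ z : Z, π z = w → (π.stalkMap z).hom.Flat} =
      (π '' {z : Z | (π.stalkMap z).hom.Flat}ᶜ)ᶜ from Set.ext fun w => by
        simp only [Set.mem_setOf_eq, Set.mem_compl_iff, Set.mem_image, not_exists, not_and]
        exact ⟨fun h z hz e => hz (h z e), fun h z e => by_contra fun hz => h z hz e⟩]
    exact (π.isClosedMap _ (Groth.Agent.FlatLocus.isOpen_flat_locus π).isClosed_compl).isOpen_compl
  · have hopen : IsOpen {w : W | (π ⁻¹' {w}).Finite} := by
      rw [isOpen_iff_forall_mem_open]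
      intro w hw
      obtain ⟨V, hwV, hV⟩ := exists_isFinite_morphismRestrict_of_finite_preimage_singleton π w hw
      refine ⟨V, fun v hv => ?_, V.2, hwV⟩
      have h := ((π ∣_ V).finite_preimage_singleton ⟨v, hv⟩).image (π ⁻¹ᵁ V).ι
      refine h.subset fun z hz => ⟨⟨z, show π z ∈ V from (show π z = v from hz) ▸ hv⟩, ?_, rfl⟩
      exact Subtype.ext ((morphismRestrict_base_coe π V ⟨z, _⟩).trans hz)
    refine ⟨⟨_, hopen⟩, rfl, ⟨genericPoint W, ?_⟩, ?_⟩
    · exact (Set.finite_singleton _).subset (fibre_genericPoint_subset π n hdimW hdimZ)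
    · haveI : LocallyQuasiFinite (π ∣_ ⟨_, hopen⟩) := by
        rw [locallyQuasiFinite_iff_finite_preimage_singleton]
        intro v
        refine .of_finite_image (f := (π ⁻¹ᵁ ⟨_, hopen⟩).ι) (v.2.subset ?_)
          (π ⁻¹ᵁ ⟨_, hopen⟩).ι.isOpenEmbedding.injective.injOn
        rintro _ ⟨z, hz, rfl⟩
        have := morphismRestrict_base_coe π ⟨_, hopen⟩ z
        exact this.symm.trans (congrArg Subtype.val hz)
      exact IsFinite.of_isProper_of_locallyQuasiFinite _

end Groth.Agent.S18281
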