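import Groth.Statements.S18309
import Groth.Agent.AlgSpDec.Hens.Smooth

set_option autoImplicit false
universe u
open CategoryTheory CategoryTheory.Limits AlgebraicGeometry
open AlgSp

namespace Groth.Agent.S18309

set_option backward.isDefEq.respectTransparency false
set_option backward.isDefEq.respectTransparency.types false

open Groth.Agent.AlgSpLib Groth.Agent.AlgSpPts Groth.Agent.AlgSpDec Groth.Agent.AlgSpDec.Hens

/-- Let S be a scheme, f : Z → X a morphism of algebraic spaces over S which is smooth (étale locally on
source and target), R a Henselian local ring with residue field k = R/m and structure morphism Spec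
R → S, z : h_{Spec R} → X an R-point of X, and z₀' : h_{Spec k} → Z a k-point of Z whose composite
with f is the restriction of z to Spec k. Then there is an R-point z' : h_{Spec R} → Z with z'
followed by f equal to z and whose restriction to Spec k is z₀'. The source states this for X an
algebraic stack (lifting up to isomorphism); the algebraic-space case is stated here. -/
theorem result {S : Scheme.{u}} {Z X : AlgSp.Space S}
    (f : Z ⟶ X) (hf : AlgSp.LocP @Smooth f.hom)
    (R : Type u) [CommRing R] [HenselianLocalRing R] (str : Spec (CommRingCat.of R) ⟶ S)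
    (z : (AlgSp.yon S).obj (Over.mk str) ⟶ X.obj)
    (z₀ : (AlgSp.yon S).obj (Over.mk (Spec.map (CommRingCat.ofHom (IsLocalRing.residue R)) ≫ str)) ⟶ Z.obj)
    (w : z₀ ≫ f.hom = (AlgSp.yon S).map (Over.homMk (Spec.map (CommRingCat.ofHom (IsLocalRing.residue R))) rfl :
        Over.mk (Spec.map (CommRingCat.ofHom (IsLocalRing.residue R)) ≫ str) ⟶ Over.mk str) ≫ z) :
    ∃ z' : (AlgSp.yon S).obj (Over.mk str) ⟶ Z.obj, z' ≫ f.hom = z ∧
      (AlgSp.yon S).map (Over.homMk (Spec.map (CommRingCat.ofHom (IsLocalRing.residue R))) rfl :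
        Over.mk (Spec.map (CommRingCat.ofHom (IsLocalRing.residue R)) ≫ str) ⟶ Over.mk str) ≫ z' = z₀ := by
  have sqP := IsPullback.of_hasPullback f.hom z
  let P : Space S := ⟨pullback f.hom z, isAlgSpace_pullback Z.property (IsAlgSpace.yon_obj _) X.property _ _⟩
  have hs : LocP @Smooth (pullback.snd f.hom z) :=
    locP_of_isPullback sqP Z.property X.property (IsAlgSpace.yon_obj _) hf
  obtain ⟨Z', p, -, hp, hlift⟩ := exists_rat_chart P
  obtain ⟨y₀, hy₀⟩ := hlift _ _ (pullback.lift z₀ _ w : _ ⟶ P.obj)
  obtain ⟨h, hh⟩ := (yon S).map_surjective (p ≫ pullback.snd f.hom z)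
  haveI : Smooth h.left := hs p (𝟙 _) h hp (AlgSp.repWith_id _ _) (by rw [hh, Category.comp_id])
  have hy : y₀ ≫ h = Over.homMk (Spec.map (CommRingCat.ofHom (IsLocalRing.residue R))) rfl :=
    (yon S).map_injective (by rw [Functor.map_comp, hh, ← Category.assoc, hy₀, pullback.lift_snd])
  obtain ⟨σ, h1, h2⟩ := exists_smooth_section_local (IsLocalRing.maximalIdeal R)
    (IsLocalRing.maximalIdeal.isMaximal R).ne_top h.left y₀.left (congrArg CommaMorphism.left hy :)
  let σO : Over.mk str ⟶ Z' := Over.homMk σ (by
    show σ ≫ Z'.hom = str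
    rw [← Over.w h, ← Category.assoc, h1]
    exact Category.id_comp _)
  refine ⟨(yon S).map σO ≫ p ≫ pullback.fst f.hom z, ?_, ?_⟩
  · rw [Category.assoc, Category.assoc, pullback.condition, ← Category.assoc p, ← hh, ← Category.assoc,
      ← Functor.map_comp, show σO ≫ h = 𝟙 _ from Over.OverMorphism.ext h1, CategoryTheory.Functor.map_id,
      Category.id_comp]
  · rw [← Category.assoc, ← Functor.map_comp,
      show _ ≫ σO = y₀ from Over.OverMorphism.ext h2, ← Category.assoc, hy₀, pullback.lift_fst]

end Groth.Agent.S18309
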