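import Groth.Statements.S18312
import Groth.Agent.AlgSpDec.Hens.Chart

set_option autoImplicit false
universe u
open CategoryTheory CategoryTheory.Limits AlgebraicGeometry
open AlgSp

namespace Groth.Agent.S18312

set_option backward.isDefEq.respectTransparency false
set_option backward.isDefEq.respectTransparency.types false

open Groth.Agent.AlgSpLib Groth.Agent.AlgSpPts Groth.Agent.AlgSpDec Groth.Agent.AlgSpDec.Hens

/-- Let S be a scheme, X an algebraic space over S, and R a Henselian local ring with residue field k =
R/m and a structure morphism Spec R → S, and suppose that the set of k-points h_{Spec k} → X over S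
is finite. Then there are an affine scheme Z over S and a representable étale morphism p : h_Z → X
such that, for every ideal a of R, every point h_{Spec (R/a)} → X over S is h_g followed by p for
some S-morphism g : Spec (R/a) → Z. The source states this for algebraic stacks whose diagonal has a
separated S-fibre over the image of the closed point, with Z smooth over the stack in general, Z
étale over it when the stack is an algebraic space (a clause of the same statement; no
quasi-separatedness assumed), finitely many isomorphism classes over k, and essential surjectivity;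
only the algebraic-space case is stated here. -/
theorem result {S : Scheme.{u}} (X : AlgSp.Space S)
    (R : Type u) [CommRing R] [HenselianLocalRing R] (str : Spec (CommRingCat.of R) ⟶ S)
    (hfin : Finite ((AlgSp.yon S).obj (Over.mk (Spec.map (CommRingCat.ofHom (IsLocalRing.residue R)) ≫ str)) ⟶ X.obj)) :
    ∃ (Z : Over S) (p : (AlgSp.yon S).obj Z ⟶ X.obj), IsAffine Z.left ∧ AlgSp.RepWith @Etale p ∧
      ∀ (a : Ideal R) (x : (AlgSp.yon S).obj (Over.mk (Spec.map (CommRingCat.ofHom (Ideal.Quotient.mk a)) ≫ str)) ⟶ X.obj),
        ∃ g : Over.mk (Spec.map (CommRingCat.ofHom (Ideal.Quotient.mk a)) ≫ str) ⟶ Z, (AlgSp.yon S).map g ≫ p = x := by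
  obtain ⟨Z, p, -, hp, hlift⟩ := exists_rat_chart X
  choose y hy using hlift (IsLocalRing.ResidueField R)
    (Spec.map (CommRingCat.ofHom (IsLocalRing.residue R)) ≫ str)
  choose W g hW hg using fun x => exists_affine_factor (y x)
  obtain ⟨n, ⟨e⟩⟩ := Finite.exists_equiv_fin
    ((yon S).obj (Over.mk (Spec.map (CommRingCat.ofHom (IsLocalRing.residue R)) ≫ str)) ⟶ X.obj)
  let T : ULift.{u} (Fin n) → Over S := fun i => Over.mk ((W (e.symm i.down)).ι ≫ Z.hom)
  obtain ⟨q, hq⟩ := exists_hom_sigma T fun i => (yon S).map (Over.homMk (W (e.symm i.down)).ι rfl : T i ⟶ Z) ≫ p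
  haveI : ∀ i, IsAffine (T i).left := fun i => hW _
  refine ⟨sigmaOver T, q, inferInstanceAs (IsAffine (∐ fun i => (T i).left)),
    ?_, exists_lift_quotient ?_ R str fun x₀ => ?_⟩
  · exact repWith_etale_sigma (X.property.representable_from_yon _) fun i => by
      rw [hq]; exact repWith_comp ((repWith_yon_map_iff _ _).2 (inferInstanceAs (Etale (W _).ι))) hp
  · exact repWith_etale_sigma (X.property.representable_from_yon _) fun i => by
      rw [hq]; exact repWith_comp ((repWith_yon_map_iff _ _).2 (inferInstanceAs (Etale (W _).ι))) hp
  · obtain ⟨i, rfl⟩ := e.symm.surjective x₀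
    refine ⟨g (e.symm i) ≫ sigmaι T (ULift.up i), ?_⟩
    rw [Functor.map_comp, Category.assoc, hq, ← Category.assoc, ← Functor.map_comp, hg, hy]

end Groth.Agent.S18312
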