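import Groth.Statements.S18313
import Groth.Agent.AlgSpDec.Hens.Smooth

set_option autoImplicit false
universe u
open CategoryTheory CategoryTheory.Limits AlgebraicGeometry
open AlgSp

namespace Groth.Agent.S18313

set_option backward.isDefEq.respectTransparency false
set_option backward.isDefEq.respectTransparency.types false

open Groth.Agent.AlgSpLib Groth.Agent.AlgSpPts Groth.Agent.AlgSpDec Groth.Agent.AlgSpDec.Hens

/-- Let R be a Henselian local ring, S = Spec R, and X an algebraic space over S which is smooth over S,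
in the sense that there are a scheme U over S with smooth structure morphism U → S and a
representable étale, representable surjective morphism h_U → X. Then for every ideal a ≠ R, every
point h_{Spec (R/a)} → X over S is the composite of h_q with a point h_S → X over S, where q : Spec
(R/a) → S is the closed immersion. The source states this for smooth algebraic stacks over R whose
diagonal has a separated fibre over the closed point (essential surjectivity on R/a-points); the
algebraic-space case is stated here. -/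
theorem result (R : Type u) [CommRing R] [HenselianLocalRing R]
    (X : AlgSp.Space (Spec (CommRingCat.of R)))
    (hX : ∃ (U : Over (Spec (CommRingCat.of R))) (c : (AlgSp.yon (Spec (CommRingCat.of R))).obj U ⟶ X.obj),
      Smooth U.hom ∧ AlgSp.RepWith @Etale c ∧ AlgSp.RepWith @Surjective c)
    (a : Ideal R) (ha : a ≠ ⊤)
    (x₀ : (AlgSp.yon (Spec (CommRingCat.of R))).obj (Over.mk (Spec.map (CommRingCat.ofHom (Ideal.Quotient.mk a)))) ⟶ X.obj) :
    ∃ x : (AlgSp.yon (Spec (CommRingCat.of R))).obj (Over.mk (𝟙 (Spec (CommRingCat.of R)))) ⟶ X.obj,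
      (AlgSp.yon (Spec (CommRingCat.of R))).map (Over.homMk (Spec.map (CommRingCat.ofHom (Ideal.Quotient.mk a)))
        (Category.comp_id _) : Over.mk (Spec.map (CommRingCat.ofHom (Ideal.Quotient.mk a))) ⟶ Over.mk (𝟙 _)) ≫ x = x₀ := by
  obtain ⟨U, c, hU, hc, hcs⟩ := hX
  obtain ⟨Z, p, -, hp, hlift⟩ := exists_rat_chart X
  have hT : IsTerminal ((yon (Spec (CommRingCat.of R))).obj (Over.mk (𝟙 (Spec (CommRingCat.of R))))) :=
    Over.mkIdTerminal.isTerminalObj (yon (Spec (CommRingCat.of R))) _
  have hs : LocP @Smooth (hT.from X.obj) :=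
    locP_of_chart (h := (Over.homMk U.hom (Category.comp_id _) : U ⟶ Over.mk (𝟙 (Spec (CommRingCat.of R))))) hc hcs (AlgSp.repWith_id _ _) (hT.hom_ext _ _) hU
  haveI : Smooth Z.hom :=
    hs p (𝟙 _) (Over.homMk Z.hom (Category.comp_id _) : Z ⟶ Over.mk (𝟙 (Spec (CommRingCat.of R)))) hp (AlgSp.repWith_id _ _) (hT.hom_ext _ _)
  obtain ⟨g₀, hg₀⟩ : ∃ g₀ : Over.mk (Spec.map (CommRingCat.ofHom (Ideal.Quotient.mk a)) ≫ 𝟙 _) ⟶ Z,
      (yon _).map g₀ ≫ p = (yon _).map (Over.homMk (𝟙 _) (by simp) :
        Over.mk (Spec.map (CommRingCat.ofHom (Ideal.Quotient.mk a)) ≫ 𝟙 _) ⟶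
          Over.mk (Spec.map (CommRingCat.ofHom (Ideal.Quotient.mk a)))) ≫ x₀ :=
    exists_lift_quotient hp R (𝟙 _) (fun x => hlift _ _ x) a _
  obtain ⟨σ, h1, h2⟩ := exists_smooth_section_local a ha Z.hom g₀.left ((Over.w g₀).trans (Category.comp_id _))
  let σO : Over.mk (𝟙 (Spec (CommRingCat.of R))) ⟶ Z := Over.homMk σ h1
  let e : Over.mk (Spec.map (CommRingCat.ofHom (Ideal.Quotient.mk a))) ⟶
      Over.mk (Spec.map (CommRingCat.ofHom (Ideal.Quotient.mk a)) ≫ 𝟙 _) := Over.homMk (𝟙 _) (by simp)
  refine ⟨(yon _).map σO ≫ p, ?_⟩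
  have : (Over.homMk (Spec.map (CommRingCat.ofHom (Ideal.Quotient.mk a))) (Category.comp_id _) :
      Over.mk (Spec.map (CommRingCat.ofHom (Ideal.Quotient.mk a))) ⟶ Over.mk (𝟙 _)) ≫ σO = e ≫ g₀ :=
    Over.OverMorphism.ext (h2.trans (Category.id_comp _).symm)
  rw [← Category.assoc, ← Functor.map_comp, this, Functor.map_comp, Category.assoc, hg₀, ← Category.assoc,
    ← Functor.map_comp]
  rw [show e ≫ _ = 𝟙 _ from Over.OverMorphism.ext (Category.id_comp (𝟙 _)), CategoryTheory.Functor.map_id,
    Category.id_comp]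

end Groth.Agent.S18313
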