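import Groth.Statements.S18332
import Groth.Agent.AlgStLib.SepDiag
import Groth.Agent.AlgStLib.Bootstrap
import Groth.Agent.S10649
-- import your own Groth.Agent.* helpers here

set_option autoImplicit false
universe u
open AlgSt

namespace Groth.Agent.S18332

set_option backward.isDefEq.respectTransparency false
set_option backward.isDefEq.respectTransparency.types false

section
open CategoryTheory CategoryTheory.Functor AlgebraicGeometry AlgSp
open Groth.Agent.FibBase Groth.Agent.AlgStLib

variable {S : Scheme.{u}} {𝒳 : AlgSt.Cat S} {M : AlgSp.Sp S} (π : 𝒳 ⥤ᵇ AlgSt.ofSp M)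

/-- The inertia over a sheaf maps to the absolute inertia. -/
def toAbs : FibCat.inertia π ⥤ᵇ FibCat.inertia (FibCat.toSelf 𝒳) where
  toFunctor :=
    { obj := fun x => ⟨x.pt, x.aut, (map_eq_of_isHomLift_id (p := 𝒳.p) (aut_isHomLift x)).trans (by simp; rfl)⟩
      map := fun t => ⟨t.hom, t.comm⟩ }
  w := rfl

theorem toAbs_isEquivOver : FibCat.IsEquivOver (toAbs π) := by
  refine isEquivOver_of_exists_iso _ ⟨fun {x y} t => ⟨⟨t.hom, t.comm⟩, rfl⟩⟩
    ⟨fun {x y} t t' h => FibCat.InertiaObj.hom_ext (show t.hom = t'.hom from congrArg (fun k => k.hom) h)⟩ fun η => ?_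
  have hb : 𝒳.p.map η.aut.hom = 𝟙 _ := η.map_aut
  let ξ : FibCat.InertiaObj π := ⟨η.pt, η.aut, Stk.EltObj.hom_ext (by
    refine (Groth.Agent.StkLib.w_map π η.aut.hom).trans ?_
    rw [hb]
    simp only [Category.id_comp]
    first | rfl | exact eqToHom_trans _ _)⟩
  refine ⟨ξ, Iso.refl _, ?_⟩
  exact IsHomLift.id rfl

end

open CategoryTheory AlgebraicGeometry in
/-- Let 𝒳 be an algebraic stack over a scheme S which is locally of finite presentation over S and whose
diagonal over S is quasi-compact, separated and locally quasi-finite. If 𝒳 has a coarse moduli space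
π : 𝒳 → M (universal for morphisms to algebraic spaces and bijective on isomorphism classes of
points with values in algebraically closed fields) such that π is separated, then the inertia of 𝒳
over S is finite over 𝒳. (The converse implication is the Keel–Mori existence result. The diagonal
conditions are taken relative to S; with the absolute conditions, over the integers, the assertion
is the same Zariski-locally on S.) -/
theorem result (S : Scheme.{u}) (𝒳 : AlgSt.Cat S)
    (h𝒳 : AlgSt.IsAlgStack Scheme.fppfPrecoverage 𝒳)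
    (hΔ : AlgSt.RepByAlgSpWith (AlgSp.IsSeparatedMor ⊓ AlgSp.IsQuasiCompactMor) (FibCat.diag (FibCat.toSelf 𝒳)))
    (hqf : AlgSt.IsQuasiDMOver 𝒳)
    (hfp : AlgSt.LocQ (AlgSp.LocP @LocallyOfFinitePresentation) (FibCat.toSelf 𝒳))
    (M : AlgSp.Sp S) (π : 𝒳 ⥤ᵇ AlgSt.ofSp M) (hπ : AlgSt.IsCoarseModuli π)
    (hsep : AlgSt.IsSeparatedMor π) :
    AlgSt.RepByAlgSpWith AlgSp.IsFiniteMor (FibCat.inertiaToBase (FibCat.toSelf 𝒳)) := by
  have h₁ : AlgSt.RepByAlgSpWith AlgSp.IsProperMor (FibCat.inertiaToBase (FibCat.toSelf 𝒳)) :=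
    (Groth.Agent.AlgStLib.repByAlgSpWith_iff_of_square (f := FibCat.inertiaToBase (FibCat.toSelf 𝒳))
      (f' := FibCat.inertiaToBase π) (a := toAbs π) (b := BasedFunctor.id _) (toAbs_isEquivOver π)
      Groth.Agent.FibBase.isEquivOver_id (Iso.refl _)).2 (Groth.Agent.AlgStLib.repByAlgSpWith_inertiaToBase π hsep)
  have h₂ := Groth.Agent.AlgStLib.repByAlgSpWith_inertiaToBase (FibCat.toSelf 𝒳) hqf
  intro U y
  obtain ⟨F, e, he, hp⟩ := h₁ U y
  have hl := (Groth.Agent.AlgStLib.RepOver.property_of_stableBC Groth.Agent.AlgStLib.stableBC_locP (h₂ U y) e he).2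
  exact ⟨F, e, he, ((Groth.Agent.S10649.result (X := F) (Y := ⟨_, AlgSp.IsAlgSpace.yon_obj U⟩)
    (ObjectProperty.homMk (AlgSt.spMapOfOver (BasedFunctor.comp e (FibCat.fpFst y (FibCat.inertiaToBase (FibCat.toSelf 𝒳))))))).out 1 0).1 (And.intro hp hl)⟩

end Groth.Agent.S18332
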