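import Groth.Statements.S7507
import Groth.Agent.GrpdSlice.Global
import Groth.Agent.Triage.CMMor

set_option autoImplicit false
universe u
open CategoryTheory CategoryTheory.Limits AlgebraicGeometry
open Grpd

set_option linter.style.haveILetI false
set_option backward.isDefEq.respectTransparency false

namespace Groth.Agent.S7507

open Groth.Agent.GrpdSlice Groth.Agent.AlgStLib.QuotRestrict Groth.Agent.Triage

/-- Inversion interchanges source and target on the restriction of a groupoid. -/
theorem exists_swap {S : Scheme.{u}} (G : Grpd.GroupoidScheme S) {U' : Scheme.{u}} (g : U' ⟶ G.U) :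
    ∃ σ : pullback (pullback.snd g G.t ≫ G.s) g ⟶ pullback (pullback.snd g G.t ≫ G.s) g, IsIso σ ∧
      σ ≫ pullback.snd (pullback.snd g G.t ≫ G.s) g =
        pullback.fst (pullback.snd g G.t ≫ G.s) g ≫ pullback.fst g G.t := by
  let r := (pullback.fst (pullback.snd g G.t ≫ G.s) g ≫ pullback.snd g G.t) ≫ G.i
  have hr : pullback.snd (pullback.snd g G.t ≫ G.s) g ≫ g = r ≫ G.t := by
    rw [inv_t, Category.assoc, ← pullback.condition]
  let v := pullback.lift (f := g) (g := G.t) (pullback.snd (pullback.snd g G.t ≫ G.s) g) r hr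
  have hv : v ≫ pullback.snd g G.t ≫ G.s =
      (pullback.fst (pullback.snd g G.t ≫ G.s) g ≫ pullback.fst g G.t) ≫ g := by
    rw [pullback.lift_snd_assoc]
    show r ≫ G.s = _
    rw [inv_s, Category.assoc, Category.assoc, ← pullback.condition]
  let σ := pullback.lift v (pullback.fst (pullback.snd g G.t ≫ G.s) g ≫ pullback.fst g G.t) hv
  have h1 : σ ≫ pullback.fst (pullback.snd g G.t ≫ G.s) g = v := pullback.lift_fst _ _ _
  have h2 : σ ≫ pullback.snd (pullback.snd g G.t ≫ G.s) g =
      pullback.fst (pullback.snd g G.t ≫ G.s) g ≫ pullback.fst g G.t := pullback.lift_snd _ _ _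
  have h3 : ∀ (r : pullback (pullback.snd g G.t ≫ G.s) g ⟶ G.R), (r ≫ G.i) ≫ G.i = r := fun r =>
    (inv_unique (inv_s r) ((inv_cmp r).trans (by rw [inv_t]))).symm
  have h : σ ≫ σ = 𝟙 _ := by
    apply pullback.hom_ext
    · apply pullback.hom_ext
      · simp only [Category.assoc, h1, Category.id_comp]
        rw [show v ≫ pullback.fst g G.t = pullback.snd _ _ from pullback.lift_fst _ _ _, h2]
      · simp only [Category.assoc, h1, Category.id_comp]
        rw [show v ≫ pullback.snd g G.t = r from pullback.lift_snd _ _ _]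
        show σ ≫ ((pullback.fst _ _ ≫ pullback.snd g G.t) ≫ G.i) = _
        rw [← Category.assoc, ← Category.assoc, h1, show v ≫ pullback.snd g G.t = r from pullback.lift_snd _ _ _]
        exact h3 _
    · simp only [Category.assoc, h2, Category.id_comp]
      rw [reassoc_of% h1]
      exact pullback.lift_fst _ _ _
  exact ⟨σ, ⟨σ, h, h⟩, h2⟩

/-- Let (U, R, s, t, c, e, i) be a groupoid scheme over S with s and t Cohen-Macaulay and locally of
finite presentation, G -> U the stabilizer and u a finite type point of U. Then there exist an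
affine scheme U', an immersion g : U' -> U locally of finite presentation and a point u' with g(u')
= u such that: h = s ∘ pr_1 : U' x_(g,U,t) R -> U is Cohen-Macaulay as well as locally of finite
presentation; the source and target s', t' : R' -> U' of the restriction R' = (U' x_(g,U,t) R)
x_(h,U,g) U' are likewise locally of finite presentation and Cohen-Macaulay; and, p being the point
of U' x_(g,U,t) R with projections u' and e(u), the local dimension at p of the fibre of h equals
dim(G_u) (that is, dim_(e'(u'))(F'_(u')) = dim(G'_(u'))). Here a morphism is Cohen-Macaulay when it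
is Cohen-Macaulay at every point of its source (flat there with Cohen-Macaulay fibre local ring,
Grpd.IsCMAt), a finite type point u is one for which Spec κ(u) -> U is locally of finite type, dim_x
of a fibre is the local dimension FlatMor.fibreDimAt, and G_u is the scheme-theoretic fibre of the
stabilizer G -> U over u. (A groupoid scheme carries U, R, s, t, c, e, i over S with the groupoid
axioms on T-points; c is defined on the fibre product of s and t and sends a pair (a, b) with s(a) =
t(b) to a composed with b.) -/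
theorem result (S : Scheme.{u}) (G : Grpd.GroupoidScheme S) [LocallyOfFinitePresentation G.s] [LocallyOfFinitePresentation G.t] (hs : ∀ r : G.R, Grpd.IsCMAt G.s r) (ht : ∀ r : G.R, Grpd.IsCMAt G.t r) (u : G.U) (hu : LocallyOfFiniteType (G.U.fromSpecResidueField u)) : ∃ (U' : Scheme.{u}) (_ : IsAffine U') (g : U' ⟶ G.U) (u' : U') (p : ↑(pullback g G.t)), IsImmersion g ∧ LocallyOfFinitePresentation g ∧ g u' = u ∧ pullback.fst g G.t p = u' ∧ pullback.snd g G.t p = G.e u ∧ (∀ q, Grpd.IsCMAt (pullback.snd g G.t ≫ G.s) q) ∧ LocallyOfFinitePresentation (pullback.snd g G.t ≫ G.s) ∧ (∀ q, Grpd.IsCMAt (pullback.snd (pullback.snd g G.t ≫ G.s) g) q) ∧ LocallyOfFinitePresentation (pullback.snd (pullback.snd g G.t ≫ G.s) g) ∧ (∀ q, Grpd.IsCMAt (pullback.fst (pullback.snd g G.t ≫ G.s) g ≫ pullback.fst g G.t) q) ∧ LocallyOfFinitePresentation (pullback.fst (pullback.snd g G.t ≫ G.s) g ≫ pullback.fst g G.t) ∧ FlatMor.fibreDimAt (pullback.snd g G.t ≫ G.s) p = topologicalKrullDim ↥(G.stabilizerToU.fiber u) := by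
  haveI := hu
  obtain ⟨U', hA, g, u', p, hg, hgfp, hgu, hp1, hp2, hcm, hdim⟩ :=
    exists_max_slice G (fun r => (CMMor.isCMAt_iff G.s r).2 (hs r)) (fun r => (CMMor.isCMAt_iff G.t r).2 (ht r)) u
  haveI := hg; haveI := hgfp
  obtain ⟨σ, hσ, hσs⟩ := exists_swap G g
  have hs' : ∀ q, MoreMor.IsCMAt (pullback.snd (pullback.snd g G.t ≫ G.s) g) q :=
    forall_isCMAt_baseChange (IsPullback.of_hasPullback (pullback.snd g G.t ≫ G.s) g) hcm
  refine ⟨U', hA, g, u', p, hg, hgfp, hgu, hp1, hp2, fun q => (CMMor.isCMAt_iff _ _).1 (hcm q), inferInstance,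
    fun q => (CMMor.isCMAt_iff _ _).1 (hs' q), inferInstance, fun q => (CMMor.isCMAt_iff _ _).1 ?_, ?_, hdim⟩
  · rw [← hσs]
    exact ((transport_of_bijective σ _ q (σ q) _ rfl rfl (Scheme.Hom.comp_apply _ _ _)
      (bijective_sm_of_isOpenImmersion _ _ _ _)).2).2 (hs' _)
  · rw [← hσs]; infer_instance

end Groth.Agent.S7507
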