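import Groth.Statements.S7508
import Groth.Agent.GrpdSlice.Global
import Groth.Agent.S7507
import Groth.Agent.S9389
import Groth.Agent.AlgSpDec.FibreDimEtale

set_option autoImplicit false
universe u
open CategoryTheory CategoryTheory.Limits AlgebraicGeometry
open Grpd

set_option linter.style.haveILetI false
set_option backward.isDefEq.respectTransparency false
set_option backward.isDefEq.respectTransparency.types false

namespace Groth.Agent.S7508

open Groth.Agent.GrpdSlice Groth.Agent.Triage

/-- The quasi-finite locus of a slice is a union of fibres of the projection to the slice. -/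
theorem quasiFiniteAt_of_fst_eq {S : Scheme.{u}} (G : Grpd.GroupoidScheme S) [LocallyOfFiniteType G.s]
    {U' : Scheme.{u}} (g : U' ⟶ G.U) [LocallyOfFiniteType g] {p y : ↑(pullback g G.t)}
    (he : pullback.fst g G.t y = pullback.fst g G.t p)
    (hp : (pullback.snd g G.t ≫ G.s).QuasiFiniteAt p) : (pullback.snd g G.t ≫ G.s).QuasiFiniteAt y := by
  obtain ⟨cQ, -, hpb, hts⟩ := exists_translate G g
  haveI : LocallyOfFiniteType (pullback.snd g G.t ≫ G.s) := inferInstance
  obtain ⟨z, hz1, hz2⟩ :=
    Scheme.Pullback.exists_preimage_pullback (f := pullback.fst g G.t) (g := pullback.fst g G.t) y p he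
  let x := hpb.isoPullback.inv z
  have hxy : cQ x = y := by
    show cQ (hpb.isoPullback.inv z) = y
    rw [← Scheme.Hom.comp_apply, hpb.isoPullback_inv_fst, hz1]
  have hxp : pullback.fst (pullback.snd g G.t ≫ G.s) G.t x = p := by
    show pullback.fst (pullback.snd g G.t ≫ G.s) G.t (hpb.isoPullback.inv z) = p
    rw [← Scheme.Hom.comp_apply, hpb.isoPullback_inv_snd, hz2]
  have h1 := S9389.result _ _ _ _ (IsPullback.of_hasPullback (pullback.snd g G.t ≫ G.s) G.t)
  have h2 := S9389.result _ _ _ _ hts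
  have hx := (Set.ext_iff.1 h1 x).2 (show (pullback.snd g G.t ≫ G.s).QuasiFiniteAt
    (pullback.fst (pullback.snd g G.t ≫ G.s) G.t x) by rw [hxp]; exact hp)
  have hy : (pullback.snd g G.t ≫ G.s).QuasiFiniteAt (cQ x) := (Set.ext_iff.1 h2 x).1 hx
  exact hxy ▸ hy

/-- Let (U, R, s, t, c, e, i) be a groupoid scheme over S with s and t Cohen-Macaulay and locally of
finite presentation, assume the stabilizer G -> U is locally quasi-finite (locally of finite type
with discrete fibres), and let u be a finite type point of U. Then there exist an affine scheme U',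
an immersion g : U' -> U locally of finite presentation and a point u' with g(u') = u such that h =
s ∘ pr_1 : U' x_(g,U,t) R -> U and the source and target s', t' : R' -> U' of the restriction R' =
(U' x_(g,U,t) R) x_(h,U,g) U' are flat, locally of finite presentation and locally quasi-finite.
Here a morphism is Cohen-Macaulay when it is Cohen-Macaulay at every point of its source (flat there
with Cohen-Macaulay fibre local ring, Grpd.IsCMAt), and a finite type point u is one for which Spec
κ(u) -> U is locally of finite type. (A groupoid scheme carries U, R, s, t, c, e, i over S with the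
groupoid axioms on T-points; c is defined on the fibre product of s and t and sends a pair (a, b)
with s(a) = t(b) to a composed with b.) -/
theorem result (S : Scheme.{u}) (G : Grpd.GroupoidScheme S) [LocallyOfFinitePresentation G.s] [LocallyOfFinitePresentation G.t] (hs : ∀ r : G.R, Grpd.IsCMAt G.s r) (ht : ∀ r : G.R, Grpd.IsCMAt G.t r) [LocallyOfFiniteType G.stabilizerToU] [LocallyQuasiFinite G.stabilizerToU] (u : G.U) (hu : LocallyOfFiniteType (G.U.fromSpecResidueField u)) : ∃ (U' : Scheme.{u}) (_ : IsAffine U') (g : U' ⟶ G.U) (u' : U'), IsImmersion g ∧ LocallyOfFinitePresentation g ∧ g u' = u ∧ (Flat (pullback.snd g G.t ≫ G.s) ∧ LocallyOfFinitePresentation (pullback.snd g G.t ≫ G.s) ∧ LocallyOfFiniteType (pullback.snd g G.t ≫ G.s) ∧ LocallyQuasiFinite (pullback.snd g G.t ≫ G.s)) ∧ (Flat (pullback.snd (pullback.snd g G.t ≫ G.s) g) ∧ LocallyOfFinitePresentation (pullback.snd (pullback.snd g G.t ≫ G.s) g) ∧ LocallyQuasiFinite (pullback.snd (pullback.snd g G.t ≫ G.s) g)) ∧ (Flat (pullback.fst (pullback.snd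 g G.t ≫ G.s) g ≫ pullback.fst g G.t) ∧ LocallyOfFinitePresentation (pullback.fst (pullback.snd g G.t ≫ G.s) g ≫ pullback.fst g G.t) ∧ LocallyQuasiFinite (pullback.fst (pullback.snd g G.t ≫ G.s) g ≫ pullback.fst g G.t)) := by
  haveI := hu
  have hsM := fun r => (CMMor.isCMAt_iff G.s r).2 (hs r)
  have htM := fun r => (CMMor.isCMAt_iff G.t r).2 (ht r)
  obtain ⟨U₁, hA₁, g₁, u₁, p₁, hg₁, hfp₁, hgu, hp1, hp2, hcm, hdim⟩ := exists_max_slice G hsM htM u
  haveI := hg₁; haveI := hfp₁
  haveI := flat_of_forall_isCMAt G.t htM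
  -- the fibre dimension of the slice at the unit is zero
  haveI : DiscreteTopology ↥(G.stabilizerToU.fiber u) := by
    haveI : DiscreteTopology ↥(G.stabilizerToU ⁻¹' {u}) :=
      isDiscrete_iff_discreteTopology.1 (G.stabilizerToU.isDiscrete_preimage_singleton u)
    exact (G.stabilizerToU.fiberHomeo u).isEmbedding.discreteTopology
  have h0 : FlatMor.fibreDimAt (pullback.snd g₁ G.t ≫ G.s) p₁ = 0 := by
    refine le_antisymm (hdim ▸ topologicalKrullDim_zero_of_discreteTopology _) ?_
    rw [fibreDimAt_slice G u g₁ p₁ hp2]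
    haveI := isNoetherianRing_fibreRing (pullback.snd g₁ G.t ≫ G.s) p₁ u (h_unit G u g₁ p₁ hp2)
    obtain ⟨n, hn⟩ := exists_nat_dim_quot _ _
      (fibreIdeal_le (pullback.snd g₁ G.t ≫ G.s) p₁ u (h_unit G u g₁ p₁ hp2))
    rw [hn]
    exact_mod_cast n.zero_le
  have hqf : (pullback.snd g₁ G.t ≫ G.s).QuasiFiniteAt p₁ :=
    Scheme.Hom.quasiFiniteAt_iff_isOpen_singleton_asFiber.2 ((AlgSpDec.fibreDimAt_eq_zero_iff _ _).1 h0)
  let a := pullback.fst g₁ G.t
  haveI : UniversallyOpen a := UniversallyOpen.of_flat a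
  let O : Set ↑(pullback g₁ G.t) := {q | (pullback.snd g₁ G.t ≫ G.s).QuasiFiniteAt q}
  have hO : IsOpen O := (pullback.snd g₁ G.t ≫ G.s).isOpen_quasiFiniteAt
  let W₁ : U₁.Opens := ⟨a '' O, a.isOpenMap _ hO⟩
  obtain ⟨V, hV, huV, hVW⟩ := exists_isAffineOpen_mem_and_subset (X := U₁) (x := u₁) (U := W₁) ⟨p₁, hqf, hp1⟩
  haveI : IsAffine V.toScheme := hV
  let g := V.ι ≫ g₁
  let m : pullback g G.t ⟶ pullback g₁ G.t :=
    (pullbackRightPullbackFstIso g₁ G.t V.ι).inv ≫ pullback.snd V.ι (pullback.fst g₁ G.t)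
  have hm1 : m ≫ pullback.fst g₁ G.t = pullback.fst g G.t ≫ V.ι := by
    simp only [m, g, Category.assoc, ← pullback.condition]
    rw [pullbackRightPullbackFstIso_inv_fst_assoc]
  have hm2 : m ≫ pullback.snd g₁ G.t = pullback.snd g G.t := by
    simp only [m, g, Category.assoc, pullbackRightPullbackFstIso_inv_snd_snd]
  haveI : IsOpenImmersion m := by
    simp only [m]; infer_instance
  have hcomp : m ≫ pullback.snd g₁ G.t ≫ G.s = pullback.snd g G.t ≫ G.s :=
    (Category.assoc _ _ _).symm.trans (congrArg (· ≫ G.s) hm2)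
  haveI hflat : Flat (pullback.snd g G.t ≫ G.s) := by
    haveI := flat_of_forall_isCMAt _ hcm
    rw [← hcomp]; infer_instance
  haveI hlfp : LocallyOfFinitePresentation (pullback.snd g G.t ≫ G.s) := inferInstance
  haveI hlft : LocallyOfFiniteType (pullback.snd g G.t ≫ G.s) := inferInstance
  haveI hlqf : LocallyQuasiFinite (pullback.snd g G.t ≫ G.s) := by
    rw [AlgSpDec.lqf_iff_fibreDimAt]
    intro q
    rw [AlgSpDec.fibreDimAt_eq_zero_iff, ← Scheme.Hom.quasiFiniteAt_iff_isOpen_singleton_asFiber]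
    rw [← hcomp, Scheme.Hom.quasiFiniteAt_comp_iff_of_isOpenImmersion]
    obtain ⟨q₀, hq₀, he⟩ : pullback.fst g₁ G.t (m q) ∈ a '' O := hVW (by
      rw [← Scheme.Hom.comp_apply, hm1, Scheme.Hom.comp_apply]
      exact (pullback.fst g G.t q).2)
    exact quasiFiniteAt_of_fst_eq G g₁ he.symm hq₀
  obtain ⟨σ, hσ, hσs⟩ := S7507.exists_swap G g
  refine ⟨V.toScheme, inferInstance, g, ⟨u₁, huV⟩, inferInstance, inferInstance, by simpa [g] using hgu,
    ⟨hflat, hlfp, hlft, hlqf⟩, ⟨inferInstance, inferInstance, inferInstance⟩, ?_, ?_, ?_⟩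
  · rw [← hσs]; infer_instance
  · rw [← hσs]; infer_instance
  · rw [← hσs]; infer_instance

end Groth.Agent.S7508
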