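import Groth.Statements.S18333
import Groth.Agent.QDMCover.Present
import Groth.Agent.QDMCover.Slices
import Groth.Agent.S7508
import Groth.Agent.S12844
import Groth.Agent.GerbFlat.Section
import Groth.Agent.AlgStLib.Charts

set_option autoImplicit false
universe u
open AlgSt

set_option backward.isDefEq.respectTransparency false
set_option linter.style.haveILetI false
set_option backward.isDefEq.respectTransparency.types false

namespace Groth.Agent.S18333

section Aux

open CategoryTheory CategoryTheory.Limits AlgebraicGeometry AlgSp Opposite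
open Groth.Agent.FibBase Groth.Agent.AlgStLib Groth.Agent.AlgSpLib Groth.Agent.QDMCover Groth.Agent.GerbFlat

variable {S : Scheme.{u}}

/-- Flat, locally of finite presentation, locally quasi-finite and surjective. -/
abbrev P4 : MorphismProperty (Sp S) :=
  LocP @Flat ⊓ LocP @LocallyOfFinitePresentation ⊓ lqf ⊓ IsSurjectiveMor

theorem stableBC_P4 : StableBC (P4 (S := S)) :=
  stableBC_inf (stableBC_inf (stableBC_inf stableBC_locP stableBC_locP) stableBC_locP) stableBC_isSurjectiveMor

theorem isLocalOnBase_P4 : IsLocalOnBase (IsFppfCover (S := S)) (P4 (S := S)) :=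
  isLocalOnBase_inf
    (isLocalOnBase_inf (isLocalOnBase_inf (isLocalOnBase_fppf_locP _) (isLocalOnBase_fppf_locP _)) isLocalOnBase_lqf)
    isLocalOnBase_isSurjectiveMor

theorem P4_le : (P4 (S := S)) ≤
    LocP (@Flat ⊓ @LocallyOfFinitePresentation ⊓ @LocallyQuasiFinite) ⊓ IsSurjectiveMor :=
  fun _ _ _ h => ⟨fun U V a b k ha hb w =>
    ⟨⟨h.1.1.1 a b k ha hb w, h.1.1.2 a b k ha hb w⟩, (h.1.2 a b k ha hb w).1⟩, h.2⟩

theorem P4_yon {A B : Over S} (f : A ⟶ B) [Flat f.left] [LocallyOfFinitePresentation f.left]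
    [LocallyQuasiFinite f.left] [Surjective f.left] : P4 ((yon S).map f) := by
  refine ⟨⟨⟨?_, ?_⟩, ?_⟩, ?_⟩
  · exact locP_of_repWith ((repWith_yon_map_iff _ _).2 inferInstance)
  · exact locP_of_repWith ((repWith_yon_map_iff _ _).2 inferInstance)
  · exact locP_of_repWith ((repWith_yon_map_iff _ _).2 ⟨inferInstance, inferInstance⟩)
  · exact surjective_map_of_repWith ((repWith_yon_map_iff _ _).2 inferInstance)

end Aux


open CategoryTheory AlgebraicGeometry in
/-- Let 𝒳 be an algebraic stack over a scheme S which is locally of finite presentation over S and whose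
diagonal over S is quasi-compact, separated and locally quasi-finite. Then there are a scheme W over
S and a morphism W → 𝒳 (a functor from (Sch/W) over (Sch/S)) which is representable by algebraic
spaces, flat, locally of finite presentation, locally quasi-finite and surjective. (The source
phrases this as a covering of 𝒳 by open substacks each admitting a quasi-finite, flat, finitely
presented scheme covering; the disjoint union of those coverings is the W here.) -/
theorem result (S : Scheme.{u}) (𝒳 : AlgSt.Cat S)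
    (h𝒳 : AlgSt.IsAlgStack Scheme.fppfPrecoverage 𝒳)
    (hΔ : AlgSt.RepByAlgSpWith (AlgSp.IsSeparatedMor ⊓ AlgSp.IsQuasiCompactMor) (FibCat.diag (FibCat.toSelf 𝒳)))
    (hqf : AlgSt.IsQuasiDMOver 𝒳)
    (hfp : AlgSt.LocQ (AlgSp.LocP @LocallyOfFinitePresentation) (FibCat.toSelf 𝒳)) :
    ∃ (W : Over S) (w : FibCat.overCat W ⥤ᵇ 𝒳),
      AlgSt.RepByAlgSpWith
        (AlgSp.LocP (@Flat ⊓ @LocallyOfFinitePresentation ⊓ @LocallyQuasiFinite) ⊓ AlgSp.IsSurjectiveMor) w := by
  obtain ⟨U, x, hx, hxs⟩ := h𝒳.atlas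
  have hg𝒳 := h𝒳.isStack.1
  obtain ⟨R, s, t, ε, hE, hs, ht, hst₁, hst₂⟩ := QDMCover.exists_presentation x hg𝒳
    (AlgStLib.repByAlgSpWith_mono inf_le_left hΔ) hqf hx
  let G := QDMCover.groupoid hE hg𝒳
  haveI : Smooth G.s := hs
  haveI : Smooth G.t := ht
  haveI : LocallyOfFiniteType G.stabilizerToU := hst₁
  haveI : LocallyQuasiFinite G.stabilizerToU := hst₂
  obtain ⟨W, g, hf, hl, hq, hsurj⟩ := QDMCover.exists_slices s t G.e G.e_s G.e_t fun u hu => by
    obtain ⟨U', -, g, u', -, -, h1, ⟨h2, h3, -, h4⟩, -, -⟩ := S7508.result S G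
      (fun r => QDMCover.grpd_isCMAt_of_smooth G.s r) (fun r => QDMCover.grpd_isCMAt_of_smooth G.t r) u hu
    exact ⟨U', g, u', h1, h2, h3, h4⟩
  refine ⟨W, BasedFunctor.comp (AlgSt.overMap g) x, AlgStLib.repByAlgSpWith_mono P4_le ?_⟩
  let w := BasedFunctor.comp (AlgSt.overMap g) x
  let w' := BasedFunctor.comp (AlgSt.toOverCat U) x
  have hrep : AlgSt.RepByAlgSp1 w :=
    AlgStLib.repByAlgSp1_comp (AlgStLib.isFibGrpd_overCat W) (AlgStLib.isFibGrpd_overCat U)
      (AlgStLib.repByAlgSp1_iff_top.2 (AlgStLib.repByAlgSpWith_overMap AlgStLib.stableBC_top trivial))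
      (AlgStLib.repByAlgSp1_of_repByAlgSpWith hx)
  refine (S12844.result (AlgStLib.isAlgStack_overCat W) h𝒳 P4 stableBC_P4 isLocalOnBase_P4 w hrep
    ⟨_, AlgSp.IsAlgSpace.yon_obj U⟩ w'
    (AlgStLib.repByAlgSpWith_precomp (AlgStLib.isEquivOver_toOverCat U) (AlgStLib.repByAlgSpWith_flat_of_smooth hx))
    (AlgStLib.repByAlgSpWith_precomp (AlgStLib.isEquivOver_toOverCat U) (AlgStLib.repByAlgSpWith_lfp_of_smooth hx))
    (AlgStLib.repByAlgSpWith_precomp (AlgStLib.isEquivOver_toOverCat U) hxs)).2 ?_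
  let P := Limits.pullback g t
  let h : P ⟶ U := Limits.pullback.snd g t ≫ s
  let G' := FibCat.fpLift (FibBase.mapB s) (FibBase.mapB t) ε
  have sq : IsPullback (Limits.pullback.snd g t) (Limits.pullback.fst g t) t g :=
    (IsPullback.of_hasPullback g t).flip
  let m₁ := FibBase.fpMap (F := FibCat.fpSnd x x) (G := FibBase.mapB g) (F' := FibBase.mapB t)
    (G' := FibBase.mapB g) (a := G') (b := BasedFunctor.id _) (c := BasedFunctor.id _) (Iso.refl _) (Iso.refl _)
  let e₀ := BasedFunctor.comp (FibBase.sliceCone _ _ _ _ sq.w)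
    (BasedFunctor.comp m₁ (FibBase.pasteHor x (FibBase.mapB g) x))
  have he₀ : FibCat.IsEquivOver e₀ :=
    FibBase.isEquivOver_comp (FibBase.sliceCone_isEquivOver sq)
      (FibBase.isEquivOver_comp (FibBase.fpMap_isEquivOver _ _ hE FibBase.isEquivOver_id)
        (FibBase.pasteHor_isEquivOver _ _ _))
  let m₂ := FibBase.fpMap (F := w') (G := w) (F' := x) (G' := w) (a := AlgSt.ofOverCat U) (b := BasedFunctor.id _)
    (c := BasedFunctor.id _) (FibBase.whiskerRightIso (AlgStLib.ofOverCatIso U) x) (Iso.refl _)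
  have hm₂ : FibCat.IsEquivOver m₂ :=
    FibBase.fpMap_isEquivOver _ _ (AlgStLib.isEquivOver_ofOverCat U) FibBase.isEquivOver_id
  refine ⟨⟨_, AlgSp.IsAlgSpace.yon_obj P⟩, ObjectProperty.homMk ((AlgSp.yon S).map h),
    BasedFunctor.comp (AlgSt.toOverCat P) (BasedFunctor.comp e₀ m₂),
    FibBase.isEquivOver_comp (AlgStLib.isEquivOver_toOverCat P) (FibBase.isEquivOver_comp he₀ hm₂), ⟨?_⟩, ?_⟩
  · let i : BasedFunctor.comp e₀ (FibCat.fpFst x w) ≅ AlgSt.overMap h :=
      FibBase.overIso _ _ fun a => by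
        show 𝟙 a.left ≫ (a.hom ≫ h) = (a.hom ≫ Limits.pullback.snd g t) ≫ s
        simp [h]
    exact FibBase.whiskerRightIso (FibBase.whiskerLeftIso (AlgSt.toOverCat P) i) (AlgSt.ofOverCat U) ≪≫
      FibBase.whiskerRightIso (AlgStLib.toOverCatMapIso h) (AlgSt.ofOverCat U) ≪≫
      FibBase.whiskerLeftIso (AlgSt.ofSpMap ((AlgSp.yon S).map h)) (AlgStLib.toOverCatIso U)
  · haveI : Flat h.left := hf
    haveI : LocallyOfFinitePresentation h.left := hl
    haveI : LocallyQuasiFinite h.left := hq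
    haveI : Surjective h.left := hsurj
    exact P4_yon h

end Groth.Agent.S18333
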