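import Groth.Statements.S18334
import Groth.Agent.AlgStLib.RedSubstack
import Groth.Agent.AlgStLib.CatModuliLocal
import Groth.Agent.FibBase.Yoneda
-- import your own Groth.Agent.* helpers here

set_option autoImplicit false
universe u
open AlgSt

namespace Groth.Agent.S18334

set_option backward.isDefEq.respectTransparency false
set_option backward.isDefEq.respectTransparency.types false

section
open CategoryTheory CategoryTheory.Limits AlgebraicGeometry Opposite AlgSp
open Groth.Agent.FibBase Groth.Agent.AlgStLib Groth.Agent.AlgSpLib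

variable {S : Scheme.{u}} {M : AlgSp.Sp S} {T : Over S}

/-- The sections attached to a functor from a slice are the restrictions of the one at the identity. -/
theorem secAt_over (Ψ : FibCat.overCat T ⥤ᵇ AlgSt.ofSp M) (a : Over T) :
    secAt Ψ a = M.obj.map a.hom.op (secAt Ψ (Over.mk (𝟙 T))) :=
  (secAt_map Ψ (toId a)).symm

theorem secAt_overMap {W : Over S} (h : W ⟶ T) (Ψ : FibCat.overCat T ⥤ᵇ AlgSt.ofSp M) :
    secAt (BasedFunctor.comp (AlgSt.overMap h) Ψ) (Over.mk (𝟙 W)) = M.obj.map h.op (secAt Ψ (Over.mk (𝟙 T))) := by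
  refine (CatModLocal.secAt_precomp (AlgSt.overMap h) Ψ (Over.mk (𝟙 W))).trans ?_
  refine (congrArg (M.obj.map _) (secAt_over Ψ _)).trans ((res_res M.obj _ _ _).trans (res_congr M.obj ?_ _))
  show eqToHom _ ≫ 𝟙 W ≫ h = h
  simp

/-- A functor to a sheaf from a stack with a reduced atlas factors through a surjective closed subspace. -/
theorem exists_factor_closed_surj {𝒳 : AlgSt.Cat S} (h𝒳 : AlgSt.IsAlgStack Scheme.fppfPrecoverage 𝒳)
    (hred : AlgSt.SmoothLocally (fun X => AlgebraicGeometry.IsReduced X) 𝒳)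
    (π : 𝒳 ⥤ᵇ AlgSt.ofSp M) {Z : AlgSp.Sp S} {j : Z ⟶ M} (hj : RepWith @IsClosedImmersion j)
    (hjs : Function.Surjective (Points.map j)) (x : 𝒳.obj) : ∃ z, j.hom.app _ z = secAt π x := by
  have hg := h𝒳.isStack.1
  obtain ⟨U, u, hu, hus⟩ := id h𝒳.atlas
  haveI : IsReduced U.left := hred U u hu
  haveI := isFibered_of_isFibGrpd hg
  let T := 𝒳.p.obj x
  let G : FibCat.overCat T ⥤ᵇ 𝒳 := ofObj (⟨x, rfl⟩ : 𝒳.p.Fiber T)
  obtain ⟨θ⟩ := ofObj_iso (⟨x, rfl⟩ : 𝒳.p.Fiber T)
  have hθ : secAt π x = secAt (BasedFunctor.comp G π) (Over.mk (𝟙 T)) := by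
    refine Eq.trans ?_ (CatModLocal.secAt_precomp G π (Over.mk (𝟙 T))).symm
    have h1 := secAt_map π θ.hom.1
    refine Eq.trans ?_ (congrArg (M.obj.map _) h1)
    refine ((res_res M.obj _ _ _).trans (res_id M.obj _ ?_ _)).symm
    haveI := θ.hom.2
    have h2 := IsHomLift.fac' 𝒳.p (𝟙 T) θ.hom.1
    rw [h2]
    simp
  let w : (yon S).obj T ⟶ M := (J S).uliftYonedaEquiv.symm (secAt π x)
  let m : (yon S).obj U ⟶ M := (J S).uliftYonedaEquiv.symm (secAt (BasedFunctor.comp u π) (Over.mk (𝟙 U)))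
  -- the atlas lands in the closed subspace
  obtain ⟨l, hl⟩ : ∃ l : (yon S).obj U ⟶ Z, l ≫ j = m := by
    have sq := hj.rep.isPullback m
    haveI : IsClosedImmersion (hj.rep.snd m).left := hj.property_snd m
    obtain ⟨a, ha⟩ := AlgSpDec.exists_factor_closed (hj.rep.snd m).left (𝟙 U.left) (by
      rintro v -
      obtain ⟨z, hz⟩ := hjs (Points.ofPt m v)
      obtain ⟨p, -, hp⟩ := AlgSpPts.exists_lift sq hz
      exact ⟨p, hp⟩)
    let a' : U ⟶ hj.rep.pullback m := Over.homMk a (by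
      rw [← Over.w (hj.rep.snd m), ← Category.assoc, ha, Category.id_comp])
    refine ⟨(yon S).map a' ≫ hj.rep.fst m, ?_⟩
    rw [Category.assoc, sq.w, ← Category.assoc, ← Functor.map_comp,
      show a' ≫ hj.rep.snd m = 𝟙 U from Over.OverMorphism.ext ha, CategoryTheory.Functor.map_id, Category.id_comp]
  obtain ⟨W₀, h₀, g₀, _, _, ⟨e₀⟩⟩ := exists_smooth_lift hu hus G
  obtain ⟨W, h, σ, _, _, hσ⟩ := AlgSpDec.exists_etale_section h₀
  obtain ⟨g, ⟨ig⟩⟩ := exists_mapB (BasedFunctor.comp (AlgSt.overMap σ) g₀)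
  let e : BasedFunctor.comp (AlgSt.overMap g) u ≅ BasedFunctor.comp (AlgSt.overMap h) G :=
    whiskerRightIso (show AlgSt.overMap g ≅ BasedFunctor.comp (AlgSt.overMap σ) g₀ from ig) u ≪≫
      whiskerLeftIso (AlgSt.overMap σ) e₀ ≪≫
      whiskerRightIso (overMapCompIso σ h₀ ≪≫ eqToIso (congrArg AlgSt.overMap hσ)) G
  have hgh : M.obj.map g.op (secAt (BasedFunctor.comp u π) (Over.mk (𝟙 U))) = M.obj.map h.op (secAt π x) := by
    rw [hθ, ← secAt_overMap, ← secAt_overMap]
    exact secAt_eq_of_iso (whiskerRightIso e π) _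
  have hw : (yon S).map h ≫ w = (yon S).map g ≫ m := by
    apply (J S).uliftYonedaEquiv.injective
    rw [GrothendieckTopology.uliftYonedaEquiv_comp, GrothendieckTopology.uliftYonedaEquiv_comp,
      GrothendieckTopology.uliftYonedaEquiv_uliftYoneda_map, GrothendieckTopology.uliftYonedaEquiv_uliftYoneda_map]
    have e₁ : ∀ {A : Over S} (s : M.obj.obj (op A)) (k : W ⟶ A),
        (((J S).uliftYonedaEquiv.{u + 1} (X := A) (F := M)).symm s).hom.app (op W) ⟨k⟩ = M.obj.map k.op s := fun s k =>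
      rfl
    exact ((e₁ _ h).trans hgh.symm).trans (e₁ _ g).symm
  have sq := hj.rep.isPullback w
  haveI : IsClosedImmersion (hj.rep.snd w).left := hj.property_snd w
  obtain ⟨b, hb⟩ := (yon S).map_surjective (sq.lift ((yon S).map g ≫ l) ((yon S).map h) (by
    rw [Category.assoc, hl, hw]))
  haveI : LocallyOfFinitePresentation h.left := inferInstance
  obtain ⟨c, hc⟩ := RedSub.fac_of_local (i := hj.rep.snd w) (φ := 𝟙 T) h ⟨b, by
    refine (yon S).map_injective ?_
    rw [Functor.map_comp, hb, IsPullback.lift_snd, Category.comp_id]⟩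
  refine ⟨(J S).uliftYonedaEquiv ((yon S).map c ≫ hj.rep.fst w), ?_⟩
  rw [← GrothendieckTopology.uliftYonedaEquiv_comp, Category.assoc, sq.w, ← Category.assoc, ← Functor.map_comp, hc,
    CategoryTheory.Functor.map_id, Category.id_comp]
  exact (J S).uliftYonedaEquiv.apply_symm_apply _

end

open CategoryTheory AlgebraicGeometry AlgSp in
/-- Let S be a locally Noetherian scheme and 𝒳 an algebraic stack of finite type over S with finite
diagonal over S, and let π : 𝒳 → M be its coarse moduli space (here: a categorical moduli space in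
algebraic spaces, which for finite inertia is the Keel–Mori one). If 𝒳 is reduced then the algebraic
space M is reduced. -/
theorem result (S : Scheme.{u}) [IsLocallyNoetherian S]
    (𝒳 : AlgSt.Cat S) (h𝒳 : AlgSt.IsAlgStack Scheme.fppfPrecoverage 𝒳)
    (hft : AlgSt.LocQ (AlgSp.LocP @LocallyOfFiniteType) (FibCat.toSelf 𝒳)) (hqc : AlgSt.IsQuasiCompact 𝒳)
    (hΔ : AlgSt.RepByAlgSpWith AlgSp.IsFiniteMor (FibCat.diag (FibCat.toSelf 𝒳)))
    (hI : AlgSt.RepByAlgSpWith AlgSp.IsFiniteMor (FibCat.inertiaToBase (FibCat.toSelf 𝒳)))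
    (hred : AlgSt.SmoothLocally (fun X => AlgebraicGeometry.IsReduced X) 𝒳)
    (M : AlgSp.Sp S) (π : 𝒳 ⥤ᵇ AlgSt.ofSp M) (hπ : AlgSt.IsCatModuli π) :
    AlgSp.EtaleLocally (fun U => AlgebraicGeometry.IsReduced U) M := by
  obtain ⟨Z, j, hj⟩ := Groth.Agent.AlgSpDec.exists_reduced_induced hπ.1 (T := Set.univ) isClosed_univ
  haveI := Groth.Agent.AlgSpDec.mono_of_closedImmersion hj.1
  choose z hz using exists_factor_closed_surj h𝒳 hred π hj.1 fun y => hj.2.1.symm.subset (Set.mem_univ y)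
  have hinj : ∀ T : Over S, Function.Injective (j.hom.app (Opposite.op T)) := fun T (a b : Z.obj.obj.obj (Opposite.op T)) hab => by
    apply ((J S).uliftYonedaEquiv.{u + 1} (X := T) (F := Z.obj)).symm.injective
    rw [← cancel_mono j]
    apply ((J S).uliftYonedaEquiv.{u + 1} (X := T) (F := M)).injective
    simpa [GrothendieckTopology.uliftYonedaEquiv_comp] using hab
  let φ : 𝒳 ⥤ᵇ AlgSt.ofSp Z.obj :=
    { toFunctor :=
        { obj := fun x => ⟨𝒳.p.obj x, z x⟩
          map := fun {x y} k => ⟨𝒳.p.map k, hinj _ (by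
            rw [NatTrans.naturality_apply, hz, hz, Groth.Agent.AlgStLib.secAt_map])⟩
          map_id := fun x => Stk.EltObj.hom_ext (𝒳.p.map_id x)
          map_comp := fun k k' => Stk.EltObj.hom_ext (𝒳.p.map_comp k k') }
      w := rfl }
  obtain ⟨g, ⟨eg⟩, -⟩ := hπ.2 Z.obj Z.property φ
  have hgj : g ≫ j = 𝟙 M := by
    refine (hπ.2 M hπ.1 π).unique ⟨Groth.Agent.AlgStLib.pshIso _ _ fun x => ?_⟩
      ⟨Groth.Agent.AlgStLib.pshIso _ _ fun x => ?_⟩
    · refine (Groth.Agent.AlgStLib.secAt_comp_ofPshMap π (g ≫ j).hom x).trans ?_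
      show j.hom.app _ (g.hom.app _ (Groth.Agent.AlgStLib.secAt π x)) = _
      rw [← Groth.Agent.AlgStLib.secAt_comp_ofPshMap π g.hom x, Groth.Agent.AlgStLib.secAt_eq_of_iso eg x]
      refine Eq.trans (congrArg _ ?_) (hz x)
      exact Groth.Agent.AlgStLib.res_id Z.obj.obj _ rfl _
    · exact Groth.Agent.AlgStLib.secAt_comp_ofPshMap π (𝟙 M : M ⟶ M).hom x
  haveI : IsSplitEpi j := IsSplitEpi.mk' ⟨g, hgj⟩
  haveI : IsIso j := isIso_of_mono_of_isSplitEpi j
  obtain ⟨U, p, hp, hps, hU⟩ := hj.2.2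
  exact ⟨U, p ≫ j, Groth.Agent.AlgSpLib.repWith_comp hp (Groth.Agent.AlgSpLib.repWith_of_isIso _ _),
    Groth.Agent.AlgSpLib.repWith_comp hps (Groth.Agent.AlgSpLib.repWith_of_isIso _ _), hU⟩

end Groth.Agent.S18334
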