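import Groth.Statements.S18335
import Groth.Agent.AlgStLib.ModuliSection
-- import your own Groth.Agent.* helpers here

set_option autoImplicit false
universe u
open AlgSt

namespace Groth.Agent.S18335

set_option backward.isDefEq.respectTransparency false
set_option backward.isDefEq.respectTransparency.types false

open CategoryTheory AlgebraicGeometry in
/-- Let S be a locally Noetherian scheme, 𝒳 a reduced algebraic stack of finite type over S with finite
diagonal over S, Z an algebraic space separated and locally of finite type over S, and f : 𝒳 → Z a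
separated surjective morphism of finite type which is bijective on isomorphism classes of points
with values in algebraically closed fields and admits a section. Then f is a coarse moduli space for
𝒳. (The source also asks f to be universally closed and quasi-finite; its proof does not use these
two conditions, and the second follows from the others.) -/
theorem result (S : Scheme.{u}) [IsLocallyNoetherian S]
    (𝒳 : AlgSt.Cat S) (h𝒳 : AlgSt.IsAlgStack Scheme.fppfPrecoverage 𝒳)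
    (hft : AlgSt.LocQ (AlgSp.LocP @LocallyOfFiniteType) (FibCat.toSelf 𝒳)) (hqc : AlgSt.IsQuasiCompact 𝒳)
    (hΔ : AlgSt.RepByAlgSpWith AlgSp.IsFiniteMor (FibCat.diag (FibCat.toSelf 𝒳)))
    (hI : AlgSt.RepByAlgSpWith AlgSp.IsFiniteMor (FibCat.inertiaToBase (FibCat.toSelf 𝒳)))
    (hred : AlgSt.SmoothLocally (fun X => AlgebraicGeometry.IsReduced X) 𝒳)
    (Z : AlgSp.Sp S) (hZ : AlgSp.IsAlgSpace Z) (hZs : AlgSp.IsSeparatedSp Z)
    (hZt : ∀ t : Z ⟶ (AlgSp.yon S).obj (Over.mk (𝟙 S)), AlgSp.LocP @LocallyOfFiniteType t)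
    (f : 𝒳 ⥤ᵇ AlgSt.ofSp Z) (hf₁ : AlgSt.IsSeparatedMor f)
    (hf₂ : AlgSt.LocQ (AlgSp.LocP @LocallyOfFiniteType) f)
    (hf₃ : AlgSt.IsQuasiCompactMor Scheme.fppfPrecoverage f) (hf₄ : AlgSt.IsSurjective f)
    (hf₅ : AlgSt.GeomPtBij f)
    (s : AlgSt.ofSp Z ⥤ᵇ 𝒳) (e : BasedFunctor.comp s f ≅ BasedFunctor.id (AlgSt.ofSp Z)) :
    AlgSt.IsCoarseModuli f := by
  have hg := h𝒳.isStack.1
  haveI := Groth.Agent.FibBase.isFibered_of_isFibGrpd hg
  obtain ⟨U, u, hu, hus⟩ := id h𝒳.atlas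
  haveI : IsReduced U.left := hred U u hu
  refine ⟨⟨hZ, fun N hN φ => ?_⟩, hf₅⟩
  let χ : AlgSt.ofSp Z ⥤ᵇ AlgSt.ofSp N := BasedFunctor.comp s φ
  let g : Z ⟶ N := Groth.Agent.AlgStLib.spHom χ
  let η : AlgSt.ofSpMap g ≅ χ := (Groth.Agent.AlgStLib.isoOfSpMap χ).symm
  let sf : 𝒳 ⥤ᵇ 𝒳 := BasedFunctor.comp f s
  have hsf : ∀ x, Groth.Agent.AlgStLib.secAt φ x = Groth.Agent.AlgStLib.secAt (BasedFunctor.comp sf φ) x := by
    refine Groth.Agent.AlgStLib.ModuliSection.secAt_eq_of_atlas hu hus φ (BasedFunctor.comp sf φ) ?_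
    refine Groth.Agent.AlgStLib.ModuliSection.secAt_eq_of_geomPts hg hΔ hN u
      (BasedFunctor.comp u sf) ?_ φ
    intro Ω _ _ t k
    have hk : Groth.Agent.AlgStLib.secAt (BasedFunctor.comp u f) (Over.mk k) =
        Groth.Agent.AlgStLib.secAt (BasedFunctor.comp (BasedFunctor.comp u sf) f) (Over.mk k) :=
      (Groth.Agent.AlgStLib.secAt_eq_of_iso (Groth.Agent.FibBase.whiskerLeftIso (BasedFunctor.comp u f) e) _).symm
    obtain ⟨i⟩ := (hf₅ Ω t).2 ⟨u.obj (Over.mk k), u.w_obj _⟩ ⟨(BasedFunctor.comp u sf).obj (Over.mk k),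
      (BasedFunctor.comp u sf).w_obj _⟩ (by
        refine Eq.trans ?_ (Eq.trans hk ?_)
        · exact (Groth.Agent.AlgStLib.res_congr Z.obj rfl _).trans rfl
        · exact (Groth.Agent.AlgStLib.res_congr Z.obj rfl _).trans rfl)
    exact ⟨i.hom.1, i.hom.2⟩
  refine ⟨g, ⟨Groth.Agent.AlgStLib.pshIso _ _ fun x => ?_⟩, fun g' hg' => ?_⟩
  · rw [hsf x]
    exact Groth.Agent.AlgStLib.secAt_eq_of_iso (Groth.Agent.FibBase.whiskerLeftIso f η) x
  · obtain ⟨i⟩ := hg'
    have j : AlgSt.ofSpMap g' ≅ χ :=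
      (Groth.Agent.FibBase.whiskerRightIso e (AlgSt.ofSpMap g')).symm ≪≫ Groth.Agent.FibBase.whiskerLeftIso s i
    rw [← Groth.Agent.AlgStLib.spHom_ofSpMap g']
    exact Groth.Agent.AlgStLib.spHom_congr j

end Groth.Agent.S18335
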