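import Groth.Statements.S18342
import Groth.Agent.CurveExt.HomDeg

set_option autoImplicit false
universe u
open CategoryTheory CategoryTheory.Limits AlgebraicGeometry
open VBCurve

namespace Groth.Agent.S18342

/-- Let k be an algebraically closed field of characteristic zero and X a smooth proper geometrically
connected curve over k (topological dimension one) of genus g ≥ 2. Let E be a finite locally free
O_X-module of rank r ≥ 1 and degree 0, and F a finite locally free O_X-module of rank n ≥ 1 and
degree n(g − 1), degrees being χ − rank · χ(O_X). If every morphism E → F is zero, then E is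
slope-semistable: deg G · r ≤ 0 for every finite locally free submodule G of E of positive rank. The
published statement concerns quasi-parabolic bundles of rank r with trivial determinant and flags at
a finite set of points, and says that for n ≥ ⌈r²/4⌉ the closed substack of bundles that are not
semistable for a given system of weights is the base locus of the parabolic theta functions of order
n, these being attached to semistable F; this row is one inclusion of it (a bundle at which the
theta function of some F does not vanish is semistable) for a single bundle with no parabolic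
points, for every n ≥ 1 and every F of the stated rank and degree, with degree 0 in place of trivial
determinant, and with the vanishing of Hom(E, F) in place of the vanishing of both Hom(E, F) and
Ext^1(E, F). -/
theorem result (k : Type u) [Field k] [IsAlgClosed k] [CharZero k]
    (X : Scheme.{u}) [X.Over (Spec (CommRingCat.of k))]
    [IsProper (X ↘ Spec (CommRingCat.of k))] [Smooth (X ↘ Spec (CommRingCat.of k))]
    [GeometricallyConnected (X ↘ Spec (CommRingCat.of k))] (hdim : topologicalKrullDim ↥X = 1)
    (g : ℕ) (hg : Curv2.genus k X = g) (hg2 : 2 ≤ g)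
    (E : X.Modules) (r : ℕ) (hr : 0 < r) (hE : FlatMod.IsFinLocFreeOfRank r E)
    (hEdeg : Curv2.deg k X E r = 0)
    (F : X.Modules) (n : ℕ) (hn : 0 < n) (hF : FlatMod.IsFinLocFreeOfRank n F)
    (hFdeg : Curv2.deg k X F n = (n : ℤ) * ((g : ℤ) - 1))
    (hhom : ∀ φ : E ⟶ F, φ = 0) :
    ModFun.IsSlopeSemistable k X E r := by
  haveI := Groth.Agent.CurveStable.isIntegral_of_geometricallyConnected k (X := X)
  haveI := Groth.Agent.CurveCohLib.isNoetherian_of_proper (k := k) (X := X)
  haveI : ConnectedSpace X := inferInstance
  have hO := Groth.Agent.CurveCohLib.finrank_h0_eq_one k X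
  have hχO := Groth.Agent.CurveDuality.euler_structure k hO hdim
  rw [hg] at hχO
  have hEf := Groth.Agent.CurveStable.isFinLocFree_of_rank hE
  have hFf := Groth.Agent.CurveStable.isFinLocFree_of_rank hF
  have hEc := Groth.Agent.CurveStable.coh_of_free k hEf
  have hdE : Groth.Agent.CurveSlope.dg k E = 0 := by rw [← Groth.Agent.CurveSlope.deg_eq_dg k hE]; exact hEdeg
  have hdF : Groth.Agent.CurveSlope.dg k F = (n : ℤ) * ((g : ℤ) - 1) := by
    rw [← Groth.Agent.CurveSlope.deg_eq_dg k hF]; exact hFdeg
  have hrF := Groth.Agent.CurveBundle.rk_eq hF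
  obtain ⟨E₁, i₁, hi₁, hpos, hE₁, hmax⟩ := Groth.Agent.CurveStable.exists_max_slope k hdim.le hr hE
  haveI := hi₁
  intro G r' i hi hr' hG
  have hrG := Groth.Agent.CurveBundle.rk_eq hG
  rw [Groth.Agent.CurveSlope.deg_eq_dg k hG, hEdeg, zero_mul]
  have hGle := (hmax G i hi (Groth.Agent.CurveStable.isFinLocFree_of_rank hG) (by rw [hrG]; exact hr')).1
  have hp : (0 : ℤ) < Groth.Agent.CurveBundle.rk E₁ := by exact_mod_cast hpos
  refine mul_nonpos_of_nonpos_of_nonneg ?_ (Int.natCast_nonneg r)
  by_contra hlt
  push Not at hlt
  have hd1 : 0 < Groth.Agent.CurveSlope.dg k E₁ := by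
    by_contra hc
    push Not at hc
    rw [hrG] at hGle
    have h1 := mul_pos hlt hp
    have h2 := mul_nonpos_of_nonpos_of_nonneg hc (Int.natCast_nonneg r')
    linarith
  have hE₁c := Groth.Agent.CurveStable.coh_of_free k hE₁
  have hS := Groth.Agent.CurveSlope.shortExact_cokernel_of_mono i₁
  have hQc : Coh.IsCoh (cokernel i₁) := Groth.Agent.QCoh.isCoh_cokernel hE₁c.1 hEc i₁
  have hQ := Groth.Agent.CurveSlope.isFinLocFree_of_max k hdim.le i₁ (cokernel.π i₁) _ hS hE₁c hEf hQc
    fun P u hu hP hrP => by
      have h := (hmax P u hu hP (hrP ▸ hpos)).1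
      rw [hrP] at h
      exact le_of_mul_le_mul_right h hp
  have r1 := Groth.Agent.CurveSlope.rk_add_coh k _ _ _ hS hEc
  have d1 := Groth.Agent.CurveSlope.dg_add k _ _ _ hS hE₁c hEc hQc
  rw [hdE] at d1
  have hdQ : Groth.Agent.CurveSlope.dg k (cokernel i₁) < 0 := by linarith
  obtain ⟨ψ, hψ⟩ := Groth.Agent.CurveExt.exists_hom_ne_zero_of_rr k hdim hQ hFf (by
    rw [hdF, hrF, hχO]
    have h1 : 0 < (n : ℤ) * (-Groth.Agent.CurveSlope.dg k (cokernel i₁)) :=
      mul_pos (by exact_mod_cast hn) (by linarith)
    linear_combination h1)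
  exact hψ (by rw [← cancel_epi (cokernel.π i₁), hhom (_ ≫ _), comp_zero])

end Groth.Agent.S18342
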