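import Groth.Statements.S18352
import Groth.Agent.FlatNormalLib.Local
import Groth.Agent.NodeLib.NormalFamily
import Groth.Agent.GrpSchLib.SmoothRegular
import Groth.Agent.CurveCohLib.SubBundle
import Groth.Agent.Triage.CMMor
-- import your own Groth.Agent.* helpers here

set_option autoImplicit false
set_option backward.isDefEq.respectTransparency false
set_option backward.isDefEq.respectTransparency.types false
set_option linter.style.haveILetI false
set_option maxHeartbeats 1000000
universe u
open Curv2

namespace Groth.Agent.S18352
open Groth.Agent

open CategoryTheory AlgebraicGeometry in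
/-- Let S be an integral Noetherian scheme all of whose local rings are integrally closed domains, and
let f : C → S be a flat, proper, locally finitely presented morphism of schemes whose fibres are
geometrically reduced and geometrically connected, all of Krull dimension one, and whose fibre over
the generic point of S is smooth over the residue field there. Then every local ring of C is an
integrally closed domain. The total space C is a scheme here; the source also allows an algebraic
space. -/
theorem result (S C : Scheme.{u}) [IsIntegral S] [IsNoetherian S]
    (hS : Pi1.IsNormalScheme S) (f : C ⟶ S) [Flat f] [IsProper f] [LocallyOfFinitePresentation f]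
    [GeometricallyReduced f] [GeometricallyConnected f]
    (hdim : ∀ s : ↥S, topologicalKrullDim ↥(f.fiber s) = 1)
    (hsm : Smooth (f.fiberToSpecResidueField (genericPoint ↥S))) :
    Pi1.IsNormalScheme C := by
  haveI := LocallyOfFiniteType.isLocallyNoetherian f
  have key : ∀ y : C, FlatNormalLib.SerreAt (C.presheaf.stalk y) := fun y => by
    set s := f y
    letI := (f.stalkMap y).hom.toAlgebra
    haveI : IsLocalHom (algebraMap (S.presheaf.stalk s) (C.presheaf.stalk y)) :=
      inferInstanceAs (IsLocalHom (f.stalkMap y).hom)
    haveI : Module.Flat (S.presheaf.stalk s) (C.presheaf.stalk y) := Flat.stalkMap f y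
    haveI := (hS s).1
    haveI := (hS s).2
    haveI : LocallyOfFinitePresentation (f.fiberToSpecResidueField s) :=
      MorphismProperty.pullback_snd _ _ inferInstance
    haveI : GeometricallyReduced (f.fiberToSpecResidueField s) := MorphismProperty.pullback_snd _ _ inferInstance
    haveI : Flat (f.fiberToSpecResidueField s) := MorphismProperty.pullback_snd _ _ inferInstance
    haveI : IsLocallyNoetherian (f.fiber s) := LocallyOfFiniteType.isLocallyNoetherian (f.fiberToSpecResidueField s)
    haveI : AlgebraicGeometry.IsReduced (f.fiber s) :=
      GeometricallyReduced.isReduced_of_flat_of_isLocallyNoetherian (f.fiberToSpecResidueField s)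
    obtain ⟨e⟩ := Triage.CMMor.exists_equiv_fibre_stalk f y
    refine FlatNormalLib.serreAt_of_flat (S.presheaf.stalk s) _ (isReduced_of_injective e.toRingHom e.injective)
      ((ringKrullDim_eq_of_ringEquiv e).trans_le
        ((CurveCohLib.ringKrullDim_stalk_le_topologicalKrullDim _).trans_eq (hdim s))) fun hA => ?_
    have hs : s = genericPoint ↥S := by
      have hm : genericPoint ↥S ∈ Set.range (S.fromSpecStalk s) := by
        rw [Scheme.range_fromSpecStalk]; exact genericPoint_specializes s
      obtain ⟨p, hp⟩ := hm
      letI := hA.toField
      rw [← hp, Subsingleton.elim (α := PrimeSpectrum (S.presheaf.stalk s)) p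
        (IsLocalRing.closedPoint (S.presheaf.stalk s))]
      exact (Scheme.fromSpecStalk_closedPoint).symm
    haveI : Smooth (f.fiberToSpecResidueField s) := by rw [hs]; exact hsm
    haveI := GrpSchLib.isRegularLocalRing_stalk_of_smooth (f.fiberToSpecResidueField s) (f.asFiber y)
    exact IsRegularLocalRing.of_ringEquiv e.symm
  intro x
  refine FlatNormalLib.normal_of_serreAt _ fun p hp => ?_
  obtain ⟨alg, hl⟩ := NodeLib.exists_stalk_localization x ⟨p, hp⟩
  letI := alg
  haveI := hl
  exact (key (C.fromSpecStalk x ⟨p, hp⟩)).of_equiv (IsLocalization.algEquiv p.primeCompl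
    (C.presheaf.stalk (C.fromSpecStalk x ⟨p, hp⟩)) (Localization.AtPrime p)).toRingEquiv

end Groth.Agent.S18352
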