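import Groth.Statements.S18361
import Groth.Agent.EtTorLib.StrataDescent

set_option autoImplicit false
universe u v
open CategoryTheory CategoryTheory.Limits AlgebraicGeometry
open EtPBC

namespace Groth.Agent.S18361

/-- Let q : X' ⟶ X be a surjective morphism locally of finite type between Noetherian schemes (hence of
finite type) and let (F k) be any family of abelian sheaves on the small étale site of X. Suppose X'
carries one finite stratification adapted to the whole pulled-back family: finitely many immersions
g i : T i ⟶ X' with pairwise disjoint images covering X', such that each q⁻¹(F k) pulled back along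
each g i is finite locally constant. Then X carries a finite stratification by immersions with
pairwise disjoint images covering X along each of which every F k becomes finite locally constant.
The published statement is an equivalence; this row states only the implication from X' to X. -/
theorem result {X' X : Scheme.{u}}
    [IsNoetherian X] [IsNoetherian X'] (q : X' ⟶ X) [Surjective q] [LocallyOfFiniteType q]
    {ι : Type v} (F : ι → EtCoh.Ab X) {n : ℕ} (T : Fin n → Scheme.{u}) (g : ∀ i, T i ⟶ X')
    [∀ i, IsImmersion (g i)]
    (hdisj : Pairwise fun i j => Disjoint (Set.range (g i).base) (Set.range (g j).base))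
    (hcov : (⋃ i, Set.range (g i).base) = Set.univ)
    (hF : ∀ k i, EtCoh.IsFiniteLocallyConstant ((EtCoh.pull (g i)).obj ((EtCoh.pull q).obj (F k)))) :
    ∃ (m : ℕ) (T₀ : Fin m → Scheme.{u}) (g₀ : ∀ j, T₀ j ⟶ X),
      (∀ j, IsImmersion (g₀ j)) ∧
      Pairwise (fun j j' => Disjoint (Set.range (g₀ j).base) (Set.range (g₀ j').base)) ∧
      (⋃ j, Set.range (g₀ j).base) = Set.univ ∧
      ∀ k j, EtCoh.IsFiniteLocallyConstant ((EtCoh.pull (g₀ j)).obj (F k)) := by
  obtain ⟨κ, _, S, h, hh, hc, ha⟩ := Groth.Agent.EtTorLib.covered_univ F q T g hcov (fun i k =>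
    Groth.Agent.EtFound.isFiniteLocallyConstant_of_iso ((Groth.Agent.EtFound.pullCompAb (g i) q).app (F k)).symm (hF k i))
  let e := (Finite.equivFin κ).symm
  obtain ⟨m, T₀, g₀, h1, h2, h3, h4⟩ := Groth.Agent.EtFound.exists_disjoint_pieces (fun i => S (e i)) (fun i => h (e i))
    (fun i => hh _) (Set.eq_univ_of_univ_subset (hc.trans (Set.iUnion_subset fun j x hx =>
      Set.mem_iUnion.2 ⟨e.symm j, (e.apply_symm_apply j).symm ▸ hx⟩)))
    (Groth.Agent.EtTorLib.Adapted F) (fun i => ha _) (fun f h hh => hh.comp F f)
  exact ⟨m, T₀, g₀, h1, h2, h3, fun k j => h4 j k⟩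

end Groth.Agent.S18361
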