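import Groth.Statements.S18364
import Groth.Agent.H1Fields.MinPrimeSupp

set_option autoImplicit false
universe u
open CAlg

namespace Groth.Agent.S18364

/-- Let A be a Noetherian ring, π an element of A, and (𝔓_i)_{i ∈ ι} an injective finite family listing
exactly the minimal prime ideals over (π). Let M be a finitely generated A-module and M̄ = M/πM. For
a subset T of ι let K(T) ⊆ M̄ be the submodule of elements whose image in the localisation of M̄ at
𝔓_i is zero for every i ∈ T, and N(T) ⊆ M its preimage in M. Assume K(ι) = 0, i.e. no nonzero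
element of M̄ vanishes at all the minimal primes (every associated prime of M̄ is one of the 𝔓_i).
Then for every subset Y of ι with complement Z one has N(Y) ∩ N(Z) = πM, and the same construction
applied to the module N(Y) instead of M — the preimage in N(Y) of the elements of N(Y)/πN(Y)
vanishing at every 𝔓_i with i ∈ Z — is, as a submodule of M, equal to N(Y) ∩ N(Z). (Geometric
meaning: A is the local ring of a flat family of curves over a discrete valuation ring with
uniformizer π at a point of the reduced special fibre, M the stalk of a torsion-free rank-one sheaf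
I, Y a set of components of the special fibre through the point, and N(Y) the stalk of the kernel
I^Y of I → I(s)_Y; the statement is (I^Y)^Z = I^Y ∩ I^Z = πI. Reducedness of A/πA, flatness and rank
one are not used.) -/
theorem result
    (A : Type u) [CommRing A] [IsNoetherianRing A] (π : A)
    (ι : Type) [Finite ι] (𝔓 : ι → Ideal A) [∀ i, (𝔓 i).IsPrime]
    (h𝔓 : ∀ i, 𝔓 i ∈ (Ideal.span {π}).minimalPrimes) (h𝔓inj : Function.Injective 𝔓)
    (h𝔓surj : ∀ 𝔔 ∈ (Ideal.span {π}).minimalPrimes, ∃ i, 𝔓 i = 𝔔)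
    (M : Type u) [AddCommGroup M] [Module A M] [Module.Finite A M]
    (K : Set ι → Submodule A (M ⧸ Ideal.span {π} • (⊤ : Submodule A M)))
    (hK : ∀ T : Set ι, K T = ⨅ i ∈ T, LinearMap.ker
      (LocalizedModule.mkLinearMap (𝔓 i).primeCompl (M ⧸ Ideal.span {π} • (⊤ : Submodule A M))))
    (htf : K Set.univ = ⊥)
    (N : Set ι → Submodule A M)
    (hN : ∀ T : Set ι, N T = (K T).comap (Submodule.mkQ (Ideal.span {π} • (⊤ : Submodule A M))))
    (Y : Set ι) :
    N Y ⊓ N Yᶜ = Ideal.span {π} • (⊤ : Submodule A M) ∧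
    Submodule.map (N Y).subtype
      ((⨅ i ∈ Yᶜ, LinearMap.ker (LocalizedModule.mkLinearMap (𝔓 i).primeCompl
          (↥(N Y) ⧸ Ideal.span {π} • (⊤ : Submodule A ↥(N Y))))).comap
        (Submodule.mkQ (Ideal.span {π} • (⊤ : Submodule A ↥(N Y)))))
      = N Y ⊓ N Yᶜ := by
  classical
  haveI := Fintype.ofFinite ι
  set Q := Ideal.span {π} • (⊤ : Submodule A M) with hQ
  have hmem : ∀ (T : Set ι) (x : M), x ∈ N T ↔ ∀ i ∈ T, ∃ s, s ∉ 𝔓 i ∧ s • x ∈ Q := fun T x => by
    rw [hN, Submodule.mem_comap, hK]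
    simp only [Submodule.mem_iInf]
    exact forall₂_congr fun i _ => H1Fields.mem_ker_localized_iff (𝔓 i) Q x
  have h1 : N Y ⊓ N Yᶜ = Q := by
    ext x
    constructor
    · rintro ⟨hy, hz⟩
      have hu : x ∈ N Set.univ := (hmem _ x).mpr fun i _ => by
        by_cases h : i ∈ Y
        · exact (hmem _ x).mp hy i h
        · exact (hmem _ x).mp hz i h
      rw [hN, htf, Submodule.mem_comap, Submodule.mem_bot] at hu
      exact (Submodule.Quotient.mk_eq_zero Q).mp hu
    · intro hx
      exact ⟨(hmem _ x).mpr fun i _ => ⟨1, fun h => (inferInstance : (𝔓 i).IsPrime).ne_top ((Ideal.eq_top_iff_one _).mpr h), by rwa [one_smul]⟩,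
        (hmem _ x).mpr fun i _ => ⟨1, fun h => (inferInstance : (𝔓 i).IsPrime).ne_top ((Ideal.eq_top_iff_one _).mpr h), by rwa [one_smul]⟩⟩
  refine ⟨h1, ?_⟩
  ext x
  rw [Submodule.mem_map]
  constructor
  · rintro ⟨⟨x, hxY⟩, hx, rfl⟩
    refine ⟨hxY, (hmem _ x).mpr fun i hi => ?_⟩
    rw [Submodule.mem_comap] at hx
    simp only [Submodule.mem_iInf] at hx
    obtain ⟨s, hs, hsx⟩ := (H1Fields.mem_ker_localized_iff (𝔓 i) _ (⟨x, hxY⟩ : N Y)).mp (hx i hi)
    refine ⟨s, hs, ?_⟩
    have := Submodule.mem_map_of_mem (f := (N Y).subtype) hsx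
    rw [Submodule.map_smul''] at this
    exact Submodule.smul_mono le_rfl le_top this
  · intro hx
    refine ⟨⟨x, hx.1⟩, ?_, rfl⟩
    rw [h1, hQ, Submodule.ideal_span_singleton_smul, Submodule.mem_smul_pointwise_iff_exists] at hx
    have hxY : x ∈ N Y := by
      have hxQ : x ∈ N Y ⊓ N Yᶜ := by
        rw [h1, hQ, Submodule.ideal_span_singleton_smul, Submodule.mem_smul_pointwise_iff_exists]; exact hx
      exact hxQ.1
    obtain ⟨m, -, hm⟩ := hx
    rw [Submodule.mem_comap]
    simp only [Submodule.mem_iInf]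
    intro i hi
    rw [Submodule.mkQ_apply, H1Fields.mem_ker_localized_iff]
    choose n hn using fun j => H1Fields.exists_pow_mem_of_minimal (Ideal.span {π}) (𝔓 j) (h𝔓 j)
    have hex : ∀ j : ι, ∃ y, y ∉ 𝔓 i ∧ (j ∈ Y → y ∈ 𝔓 j) := fun j => by
      by_cases hj : j ∈ Y
      · have hnle : ¬ 𝔓 j ≤ 𝔓 i := fun h => hi (by
          have := le_antisymm h ((h𝔓 i).2 (h𝔓 j).1 h)
          rwa [← h𝔓inj this])
        obtain ⟨y, hyj, hyi⟩ := SetLike.not_le_iff_exists.mp hnle
        exact ⟨y, hyi, fun _ => hyj⟩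
      · exact ⟨1, fun h => (inferInstance : (𝔓 i).IsPrime).ne_top ((Ideal.eq_top_iff_one _).mpr h), fun h => absurd h hj⟩
    choose y hyi hyj using hex
    refine ⟨∏ j, y j ^ n j, fun h => ?_, ?_⟩
    · obtain ⟨j, -, hj⟩ := (inferInstance : (𝔓 i).IsPrime).prod_mem_iff.mp h
      exact hyi j ((inferInstance : (𝔓 i).IsPrime).mem_of_pow_mem _ hj)
    · have hsm : (∏ j, y j ^ n j) • m ∈ N Y := (hmem _ _).mpr fun j hj => by
        have hj' : (∏ k, y k ^ n k) ∈ 𝔓 j ^ n j := by
          rw [← Finset.mul_prod_erase _ _ (Finset.mem_univ j)]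
          exact Ideal.mul_mem_right _ _ (Ideal.pow_mem_pow (hyj j hj) _)
        obtain ⟨t, ht, hts⟩ := hn j _ hj'
        refine ⟨t, ht, ?_⟩
        rw [smul_smul]
        exact Submodule.smul_mem_smul hts Submodule.mem_top
      have he : (∏ j, y j ^ n j) • (⟨x, hxY⟩ : N Y) = π • (⟨_, hsm⟩ : N Y) := Subtype.ext (by
        show _ • x = π • ((∏ j, y j ^ n j) • m)
        rw [smul_comm π, hm])
      rw [he]
      exact Submodule.smul_mem_smul (Ideal.mem_span_singleton_self π) Submodule.mem_top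

end Groth.Agent.S18364
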