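import Groth.Statements.S18365
import Groth.Agent.H1Fields.MinPrimeSupp

set_option autoImplicit false
universe u
open CAlg

namespace Groth.Agent.S18365

/-- Let A be a Noetherian ring, π an element of A, (𝔓_i)_{i ∈ ι} an injective finite family listing
exactly the minimal prime ideals over (π), and M a finitely generated A-module on which π acts
injectively; put M̄ = M/πM. For T ⊆ ι let K(T) ⊆ M̄ be the submodule of elements whose image in the
localisation of M̄ at 𝔓_i vanishes for every i ∈ T, and N(T) ⊆ M its preimage; assume K(ι) = 0.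
Suppose that M̄ decomposes at Y, i.e. K(Y) + K(Yᶜ) = M̄, and that for a subset Z the module
N(Y)/πN(Y) decomposes at Z, i.e. its submodule of elements vanishing at every 𝔓_i (i ∈ Z) and its
submodule of elements vanishing at every 𝔓_i (i ∉ Z) together span it. Then M̄ decomposes at Z: K(Z)
+ K(Zᶜ) = M̄. (Geometric meaning: for a flat family of curves over a discrete valuation ring with
uniformizer π, I a torsion-free rank-one sheaf flat over the base, Y a subcurve of the special fibre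
X(s) at which I(s) decomposes and I^Y = ker(I → I(s)_Y): if I^Y(s) decomposes at a subcurve Z then
so does I(s); decomposition of a sheaf at Z is the surjectivity of I(s) → I(s)_Z ⊕ I(s)_{Z^c},
checked on stalks. Reducedness of the special fibre and rank one are not used.) -/
theorem result
    (A : Type u) [CommRing A] [IsNoetherianRing A] (π : A)
    (ι : Type) [Finite ι] (𝔓 : ι → Ideal A) [∀ i, (𝔓 i).IsPrime]
    (h𝔓 : ∀ i, 𝔓 i ∈ (Ideal.span {π}).minimalPrimes) (h𝔓inj : Function.Injective 𝔓)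
    (h𝔓surj : ∀ 𝔔 ∈ (Ideal.span {π}).minimalPrimes, ∃ i, 𝔓 i = 𝔔)
    (M : Type u) [AddCommGroup M] [Module A M] [Module.Finite A M]
    (hπ : ∀ m : M, π • m = 0 → m = 0)
    (K : Set ι → Submodule A (M ⧸ Ideal.span {π} • (⊤ : Submodule A M)))
    (hK : ∀ T : Set ι, K T = ⨅ i ∈ T, LinearMap.ker
      (LocalizedModule.mkLinearMap (𝔓 i).primeCompl (M ⧸ Ideal.span {π} • (⊤ : Submodule A M))))
    (htf : K Set.univ = ⊥)
    (N : Set ι → Submodule A M)
    (hN : ∀ T : Set ι, N T = (K T).comap (Submodule.mkQ (Ideal.span {π} • (⊤ : Submodule A M))))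
    (Y Z : Set ι) (hY : K Y ⊔ K Yᶜ = ⊤)
    (K' : Set ι → Submodule A (↥(N Y) ⧸ Ideal.span {π} • (⊤ : Submodule A ↥(N Y))))
    (hK' : ∀ T : Set ι, K' T = ⨅ i ∈ T, LinearMap.ker
      (LocalizedModule.mkLinearMap (𝔓 i).primeCompl (↥(N Y) ⧸ Ideal.span {π} • (⊤ : Submodule A ↥(N Y)))))
    (hZ : K' Z ⊔ K' Zᶜ = ⊤) :
    K Z ⊔ K Zᶜ = ⊤ := by
  classical
  have hmem : ∀ (T : Set ι) (x : M), x ∈ N T ↔ Submodule.Quotient.mk x ∈ K T := fun T x => by
    rw [hN, Submodule.mem_comap]; rfl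
  have hk : ∀ (T : Set ι) (z : M ⧸ (Ideal.span {π} • (⊤ : Submodule A M))), z ∈ K T ↔
      ∀ i ∈ T, LocalizedModule.mkLinearMap (𝔓 i).primeCompl (M ⧸ (Ideal.span {π} • (⊤ : Submodule A M))) z = 0 := fun T z => by
    rw [hK]; simp only [Submodule.mem_iInf, LinearMap.mem_ker]
  have hdisj : ∀ (T : Set ι) (z : M ⧸ (Ideal.span {π} • (⊤ : Submodule A M))), z ∈ K T → z ∈ K Tᶜ → z = 0 := fun T z h1 h2 => by
    have hu : z ∈ K Set.univ := (hk _ z).mpr fun i _ => by
      by_cases h : i ∈ T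
      · exact (hk _ z).mp h1 i h
      · exact (hk _ z).mp h2 i h
    rwa [htf, Submodule.mem_bot] at hu
  -- components of an element of `N Y`
  have hdown : ∀ (T : Set ι) (a : ↥(N Y)), Submodule.Quotient.mk a ∈ K' T → Submodule.Quotient.mk (a : M) ∈ K T := by
    intro T a ha
    rw [hK'] at ha
    simp only [Submodule.mem_iInf] at ha
    refine (hk _ _).mpr fun i hi => LinearMap.mem_ker.mp ((H1Fields.mem_ker_localized_iff (𝔓 i) (Ideal.span {π} • (⊤ : Submodule A M)) _).mpr ?_)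
    obtain ⟨s, hs, hsa⟩ := (H1Fields.mem_ker_localized_iff (𝔓 i) (Ideal.span {π} • (⊤ : Submodule A ↥(N Y))) a).mp (ha i hi)
    refine ⟨s, hs, ?_⟩
    have := Submodule.mem_map_of_mem (f := (N Y).subtype) hsa
    rw [ Submodule.map_smul''] at this
    exact Submodule.smul_mono le_rfl le_top this
  have hsplit : ∀ a : ↥(N Y), ∃ b c : ↥(N Y), Submodule.Quotient.mk b ∈ K' Z ∧ Submodule.Quotient.mk c ∈ K' Zᶜ ∧
      ∃ e : ↥(N Y), a = b + c + π • e := fun a => by
    have ha : Submodule.Quotient.mk a ∈ K' Z ⊔ K' Zᶜ := hZ ▸ Submodule.mem_top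
    obtain ⟨b', hb, c', hc, hbc⟩ := Submodule.mem_sup.mp ha
    obtain ⟨b, rfl⟩ := Submodule.Quotient.mk_surjective (Ideal.span {π} • (⊤ : Submodule A ↥(N Y))) b'
    obtain ⟨c, rfl⟩ := Submodule.Quotient.mk_surjective (Ideal.span {π} • (⊤ : Submodule A ↥(N Y))) c'
    rw [← Submodule.Quotient.mk_add, eq_comm, Submodule.Quotient.eq,  Submodule.ideal_span_singleton_smul,
      Submodule.mem_smul_pointwise_iff_exists] at hbc
    obtain ⟨e, -, he⟩ := hbc
    exact ⟨b, c, hb, hc, e, by rw [he]; abel⟩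
  have hKY : K Y ≤ K Z ⊔ K Zᶜ := by
    intro z hz
    obtain ⟨x, rfl⟩ := Submodule.Quotient.mk_surjective (Ideal.span {π} • (⊤ : Submodule A M)) z
    obtain ⟨b, c, hb, hc, e, he⟩ := hsplit ⟨x, (hmem Y x).mpr hz⟩
    refine Submodule.mem_sup.mpr ⟨_, hdown Z b hb, _, hdown Zᶜ c hc, ?_⟩
    rw [← Submodule.Quotient.mk_add, eq_comm, Submodule.Quotient.eq]
    have hx : x = (b : M) + c + π • (e : M) := congrArg Subtype.val he
    rw [hx, add_sub_cancel_left]
    exact Submodule.smul_mem_smul (Ideal.mem_span_singleton_self π) Submodule.mem_top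
  have hKYc : K Yᶜ ≤ K Z ⊔ K Zᶜ := by
    intro w hw
    obtain ⟨m, rfl⟩ := Submodule.Quotient.mk_surjective (Ideal.span {π} • (⊤ : Submodule A M)) w
    have hπm : ∀ t : M, Submodule.Quotient.mk (p := (Ideal.span {π} • (⊤ : Submodule A M))) (π • t) = 0 := fun t =>
      (Submodule.Quotient.mk_eq_zero (Ideal.span {π} • (⊤ : Submodule A M))).mpr (Submodule.smul_mem_smul (Ideal.mem_span_singleton_self π) Submodule.mem_top)
    have hmY : π • m ∈ N Y := (hmem Y _).mpr (by rw [hπm]; exact zero_mem _)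
    obtain ⟨b, c, hb, hc, e, he⟩ := hsplit ⟨π • m, hmY⟩
    have hval : π • m = (b : M) + c + π • (e : M) := congrArg Subtype.val he
    have hbc0 : Submodule.Quotient.mk (p := (Ideal.span {π} • (⊤ : Submodule A M))) (b : M) + Submodule.Quotient.mk (c : M) = 0 := by
      have := congrArg (Submodule.Quotient.mk (p := (Ideal.span {π} • (⊤ : Submodule A M)))) hval
      rw [Submodule.Quotient.mk_add, Submodule.Quotient.mk_add, hπm, hπm, add_zero] at this
      exact this.symm
    have hb0 : Submodule.Quotient.mk (p := (Ideal.span {π} • (⊤ : Submodule A M))) (b : M) = 0 := by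
      refine hdisj Z _ (hdown Z b hb) ?_
      rw [eq_neg_of_add_eq_zero_left hbc0]
      exact neg_mem (hdown Zᶜ c hc)
    have hc0 : Submodule.Quotient.mk (p := (Ideal.span {π} • (⊤ : Submodule A M))) (c : M) = 0 := by rwa [hb0, zero_add] at hbc0
    have key : ∀ (T : Set ι) (d : ↥(N Y)), Submodule.Quotient.mk d ∈ K' T → Submodule.Quotient.mk (p := (Ideal.span {π} • (⊤ : Submodule A M))) (d : M) = 0 →
        ∃ m₁ : M, (d : M) = π • m₁ ∧ ∃ w₁ ∈ K Yᶜ, Submodule.Quotient.mk m₁ - w₁ ∈ K Y ∧ w₁ ∈ K T := by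
      intro T d hd hd0
      rw [Submodule.Quotient.mk_eq_zero, Submodule.ideal_span_singleton_smul,
        Submodule.mem_smul_pointwise_iff_exists] at hd0
      obtain ⟨m₁, -, hm₁⟩ := hd0
      have h' : Submodule.Quotient.mk (p := (Ideal.span {π} • (⊤ : Submodule A M))) m₁ ∈ K Y ⊔ K Yᶜ := hY ▸ Submodule.mem_top
      obtain ⟨y, hy, w₁, hw₁, hyw⟩ := Submodule.mem_sup.mp h'
      refine ⟨m₁, hm₁.symm, w₁, hw₁, by rwa [← hyw, add_sub_cancel_right], (hk T w₁).mpr fun i hi => ?_⟩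
      by_cases hiY : i ∈ Y
      · have h1 : LocalizedModule.mkLinearMap (𝔓 i).primeCompl (M ⧸ (Ideal.span {π} • (⊤ : Submodule A M))) (Submodule.Quotient.mk m₁) = 0 := by
          rw [hK'] at hd
          simp only [Submodule.mem_iInf] at hd
          obtain ⟨s, hs, hsd⟩ := (H1Fields.mem_ker_localized_iff (𝔓 i) (Ideal.span {π} • (⊤ : Submodule A ↥(N Y))) d).mp (hd i hi)
          rw [ Submodule.ideal_span_singleton_smul, Submodule.mem_smul_pointwise_iff_exists] at hsd
          obtain ⟨e', -, he'⟩ := hsd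
          have h2 : π • (e' : M) = s • (d : M) := congrArg Subtype.val he'
          rw [← hm₁, smul_comm s] at h2
          have h3 : s • m₁ = (e' : M) := (sub_eq_zero.mp (hπ _ (by rw [smul_sub, h2, sub_self]))).symm
          have h4 := (hk Y _).mp ((hmem Y _).mp (h3 ▸ e'.2)) i hiY
          obtain ⟨t, ht, htm⟩ := (H1Fields.mem_ker_localized_iff (𝔓 i) (Ideal.span {π} • (⊤ : Submodule A M)) _).mp (LinearMap.mem_ker.mpr h4)
          refine LinearMap.mem_ker.mp ((H1Fields.mem_ker_localized_iff (𝔓 i) (Ideal.span {π} • (⊤ : Submodule A M)) m₁).mpr ⟨t * s, fun h => ?_, ?_⟩)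
          · exact ((inferInstance : (𝔓 i).IsPrime).mem_or_mem h).elim ht hs
          · rwa [mul_smul]
        rw [← hyw, map_add, (hk Y y).mp hy i hiY, zero_add] at h1
        exact h1
      · exact (hk _ _).mp hw₁ i hiY
    obtain ⟨m₁, hm₁, w₁, hw₁c, hw₁Y, hw₁⟩ := key Z b hb hb0
    obtain ⟨m₂, hm₂, w₂, hw₂c, hw₂Y, hw₂⟩ := key Zᶜ c hc hc0
    have hm : m = m₁ + m₂ + (e : M) := sub_eq_zero.mp (hπ _ (by
      rw [smul_sub, smul_add, smul_add, hval, hm₁, hm₂, sub_self]))
    have heY : Submodule.Quotient.mk (p := (Ideal.span {π} • (⊤ : Submodule A M))) (e : M) ∈ K Y := (hmem Y _).mp e.2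
    have hz : Submodule.Quotient.mk (p := (Ideal.span {π} • (⊤ : Submodule A M))) m - (w₁ + w₂) = 0 := by
      refine hdisj Y _ ?_ (sub_mem hw (add_mem hw₁c hw₂c))
      have : Submodule.Quotient.mk (p := (Ideal.span {π} • (⊤ : Submodule A M))) m - (w₁ + w₂) =
          (Submodule.Quotient.mk m₁ - w₁) + (Submodule.Quotient.mk m₂ - w₂) + Submodule.Quotient.mk (e : M) := by
        rw [hm, Submodule.Quotient.mk_add, Submodule.Quotient.mk_add]; abel
      rw [this]
      exact add_mem (add_mem hw₁Y hw₂Y) heY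
    rw [sub_eq_zero.mp hz]
    exact Submodule.mem_sup.mpr ⟨w₁, hw₁, w₂, hw₂, rfl⟩
  rw [eq_top_iff, ← hY]
  exact sup_le hKY hKYc

end Groth.Agent.S18365
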