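import Groth.Statements.S18371
import Groth.Agent.AVFieldDual.ClassMap

set_option autoImplicit false
set_option backward.isDefEq.respectTransparency false
set_option backward.isDefEq.respectTransparency.types false
set_option maxHeartbeats 1000000
set_option linter.style.haveILetI false
universe u
open CategoryTheory CategoryTheory.Limits MonoidalCategory CartesianMonoidalCategory MonObj GrpObj AlgebraicGeometry
open AbVar

namespace Groth.Agent.S18371
open Groth.Agent Groth.Agent.H23
open scoped Groth.Agent.H23.PicMul
set_option backward.isDefEq.respectTransparency false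
set_option backward.isDefEq.respectTransparency.types false

/-- Let k be a field, A and B abelian varieties over k (proper smooth k-group schemes with geometrically
connected fibres) of the same dimension g > 0, and (B^t, φ) a given dual abelian variety of B for
the fppf topology, B^t itself an abelian variety, with a Poincaré invertible module P on B ×_k B^t.
Let Q be an invertible module on B ×_k A, regarded as a family of invertible modules on B
parametrised by A, which is trivial along the unit section of B and trivial on the fibre over the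
unit of A, and whose class is algebraically trivial on every geometric fibre over A (this last
condition follows from the others and is recorded as a hypothesis). Let f_Q = φ_A(Q) : A → B^t be
the classifying homomorphism. Then the Euler characteristic χ(B ×_k A, Q) has absolute value 1 if
and only if f_Q is an isomorphism. (The published statement also asserts the same equivalence for
the homomorphism B → A^t attached to the transposed family; that is this statement applied to the
pulled-back module on A ×_k B with the roles of A and B exchanged. The dimension of B^t is not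
assumed equal to g; it is forced by the duality hypothesis.) -/
theorem result (k : Type u) [Field k]
    (A B Bt : Over (Spec (CommRingCat.of k)))
    [GrpObj A] [IsProper A.hom] [Smooth A.hom] [GeometricallyConnected A.hom]
    [GrpObj B] [IsProper B.hom] [Smooth B.hom] [GeometricallyConnected B.hom]
    [GrpObj Bt] [IsProper Bt.hom] [Smooth Bt.hom] [GeometricallyConnected Bt.hom]
    (φ : ∀ T : Over (Spec (CommRingCat.of k)), PicF.Cl (PicF.XT B.hom T) → (T ⟶ Bt))
    (hφ : AbDual.IsDualAV Scheme.fppfPrecoverage B Bt φ)
    (P : (PicF.XT B.hom Bt).Modules) (hP : PicF.IsInvertible P) (hPξ : AbDual.IsPoincareCl B Bt φ (PicF.cl P))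
    (g : ℕ) (hg : 0 < g) (hA : topologicalKrullDim ↥A.left = g) (hB : topologicalKrullDim ↥B.left = g)
    (Q : (PicF.XT B.hom A).Modules) (hQ : PicF.IsInvertible Q)
    (hQ0 : AbDual.IsPicZeroCl B.hom A (PicF.cl Q))
    (hQB : PicF.IsTrivialCl (PicF.pullCl (PicF.secT B.hom η[B].left (Over.w η[B]) A) (PicF.cl Q)))
    (hQA : PicF.IsTrivialCl (PicF.pullCl (PicF.XTmap B.hom η[A]) (PicF.cl Q))) :
    (@Curv2.euler k _ (PicF.XT B.hom A) ⟨PicF.XTproj B.hom A ≫ A.hom⟩ Q).natAbs = 1 ↔ IsIso (φ A (PicF.cl Q)) := by
  haveI : GeometricallyIntegral A.hom := AVDual.geometricallyIntegral_of_smooth A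
  haveI : GeometricallyIntegral B.hom := AVDual.geometricallyIntegral_of_smooth B
  haveI : GeometricallyIntegral Bt.hom := AVDual.geometricallyIntegral_of_smooth Bt
  haveI : IsIntegral A.left := GeometricallyIntegral.isIntegral_of_subsingleton A.hom
  haveI : IsIntegral Bt.left := GeometricallyIntegral.isIntegral_of_subsingleton Bt.hom
  let f := φ A (PicF.cl Q)
  have h2 : (PicF.pullCl (PicF.secT B.hom η[B].left (Over.w η[B]) A) (PicF.cl Q) : PicF.Cl A.left) = 1 := hQB
  have h1 : AVPair.pl (B ◁ η[A]) (PicF.cl Q : PicF.Cl (B ⊗ A).left) = 1 := hQA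
  haveI : IsMonHom f := by
    refine GrpSchLib.RigidHom.isMonHom_of_one f ?_
    rw [show η[A] ≫ f = φ _ (AVPair.pl (B ◁ η[A]) (PicF.cl Q)) from (AVDual.phi_pl hφ η[A] hQ0).symm, h1,
      AVDual.phi_one hφ]
  have hQe : (PicF.cl Q : PicF.Cl (B ⊗ A).left) = AVPair.pl (B ◁ f) (PicF.cl P) := by
    refine AVDual.eq_of_phi hφ hQ0 (AVDual.pz_pl _ hPξ.1) ?_ 1 ?_
    · rw [AVDual.phi_pl hφ _ hPξ.1, hPξ.2.1, Category.comp_id]
    · rw [AVPair.pl_pl, show lift (1 : A ⟶ B) (𝟙 A) ≫ B ◁ f = f ≫ lift (1 : Bt ⟶ B) (𝟙 Bt) by
        ext <;> simp [MonObj.comp_one], ← AVPair.pl_pl, (AVDual.poincare_axes hφ hPξ).1, map_one]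
      rw [AVDual.secT_eq] at h2
      exact h2
  have he : @Curv2.euler k _ (B ⊗ A).left ⟨(snd B A).left ≫ A.hom⟩ Q =
      @Curv2.euler k _ (B ⊗ A).left ⟨(snd B A).left ≫ A.hom⟩ ((Scheme.Modules.pullback (B ◁ f).left).obj P) :=
    letI : (B ⊗ A).left.Over (Spec (CommRingCat.of k)) := ⟨(snd B A).left ≫ A.hom⟩
    CurveCohLib.euler_congr (k := k) ((PicGrp.cl_eq_cl_iff _ _).1 hQe).some
  have hone := AVField.natAbs_euler_poincare hφ hP hPξ
  have hdim : topologicalKrullDim Bt.left = topologicalKrullDim A.left :=
    (AVField.dim_dual hφ).trans (hB.trans hA.symm)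
  show (@Curv2.euler k _ (B ⊗ A).left ⟨(snd B A).left ≫ A.hom⟩ Q).natAbs = 1 ↔ IsIso f
  rw [he]
  by_cases hf : IsFinite f.left
  · haveI : Surjective f.left :=
      H23.Isogeny.surjective_of_isFinite A.hom Bt.hom f.left (Over.w f) hdim.symm
    haveI : Flat f.left := GrpSchLib.flat_of_surjective_hom f
    haveI : LocallyOfFinitePresentation f.left := by
      haveI : LocallyOfFinitePresentation (f.left ≫ Bt.hom) := by rw [Over.w f]; infer_instance
      exact S12442.locallyOfFinitePresentation_of_comp f.left Bt.hom
    obtain ⟨a⟩ : Nonempty A.left := inferInstance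
    let n := f.left.finrank (f.left a)
    have hn : ∀ y, f.left.finrank y = n := fun y => f.left.isLocallyConstant_finrank.apply_eq_of_preconnectedSpace _ _
    rw [AVField.euler_whisker_finite f n hn hP, Int.natAbs_mul, Int.natAbs_natCast, hone, Nat.mul_one]
    refine ⟨fun h => ?_, fun h => ?_⟩
    · haveI : IsIso f.left := (Scheme.Hom.isIso_iff_finrank_eq f.left).2 (funext fun y => (hn y).trans h)
      haveI : IsIso ((Over.forget _).map f) := ‹IsIso f.left›
      exact isIso_of_reflects_iso f (Over.forget _)
    · haveI : IsIso f.left := inferInstanceAs (IsIso ((Over.forget _).map f))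
      exact congrFun (Scheme.Hom.finrank_eq_one_of_isIso f.left) (f.left a)
  · rw [AVField.euler_whisker_nonfinite f hdim.le hf hP]
    refine ⟨fun h => absurd h (by decide), fun h => absurd ?_ hf⟩
    haveI : IsIso f.left := inferInstanceAs (IsIso ((Over.forget _).map f))
    infer_instance

end Groth.Agent.S18371
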