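import Groth.Statements.S18373
import Groth.Agent.H23.FibreZero
import Groth.Agent.Lib.AVDual
import Groth.Agent.S0219
import Groth.Agent.H23.RatCodim
import Groth.Agent.H23.MaxAbelian
import Groth.Agent.GrpSchLib.GeomIrr
import Groth.Agent.FibDim.BaseField
import Groth.Agent.BMLib.Piece

set_option autoImplicit false
set_option backward.isDefEq.respectTransparency false
set_option backward.isDefEq.respectTransparency.types false
set_option maxHeartbeats 1000000
set_option linter.style.haveILetI false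
universe u
open CategoryTheory CategoryTheory.Limits MonoidalCategory CartesianMonoidalCategory MonObj GrpObj AlgebraicGeometry
open AbVar

namespace Groth.Agent.S18373

open TopologicalSpace

theorem comp_mul_left {C : Type*} [Category C] [CartesianMonoidalCategory C] {X Y M : C} [MonObj M]
    (f : X ⟶ Y) (g h : Y ⟶ M) : f ≫ (g * h) = (f ≫ g) * (f ≫ h) := MonObj.comp_mul f g h

theorem krullDim_zero_of_forall_isClosed {T : Type u} [TopologicalSpace T] [QuasiSober T]
    [T0Space T] [Nonempty T] (h : ∀ t : T, IsClosed ({t} : Set T)) : topologicalKrullDim T = 0 := by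
  letI := specializationPreorder T
  rw [VarDim.topologicalKrullDim_eq_iSup_height]
  have : ∀ t : T, Order.height t = 0 := fun t => Order.height_eq_zero.2 fun s hs => by
    have e : s ∈ closure ({t} : Set T) := specializes_iff_mem_closure.1 hs
    rw [(h t).closure_eq, Set.mem_singleton_iff] at e
    exact e ▸ le_rfl
  simp [this]

variable {k : Type u} [Field k] [IsAlgClosed k]

/-- The point underlying a rational point. -/
noncomputable abbrev pt {A : Over (Spec (CommRingCat.of k))} (p : 𝟙_ (Over (Spec (CommRingCat.of k))) ⟶ A) : A.left :=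
  (p.left : Spec (CommRingCat.of k) ⟶ A.left) (IsLocalRing.closedPoint k)

theorem pt_comp {A B : Over (Spec (CommRingCat.of k))} (p : 𝟙_ (Over (Spec (CommRingCat.of k))) ⟶ A)
    (f : A ⟶ B) : pt (p ≫ f) = f.left (pt p) := rfl

theorem eq_of_pt {A : Over (Spec (CommRingCat.of k))} [LocallyOfFiniteType A.hom]
    {p q : 𝟙_ (Over (Spec (CommRingCat.of k))) ⟶ A} (h : pt p = pt q) : p = q :=
  Over.OverMorphism.ext (ext_of_apply_closedPoint_eq A.hom (Over.w p) (Over.w q) h)

theorem exists_pt {A : Over (Spec (CommRingCat.of k))} [LocallyOfFiniteType A.hom] (z : A.left)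
    (hz : IsClosed ({z} : Set A.left)) : ∃ p : 𝟙_ (Over (Spec (CommRingCat.of k))) ⟶ A, pt p = z :=
  ⟨Over.homMk (pointOfClosedPoint A.hom z hz) (pointOfClosedPoint_comp A.hom z hz),
    pointOfClosedPoint_apply A.hom z hz _⟩

variable {A : Over (Spec (CommRingCat.of k))} [GrpObj A] [IsCommMonObj A] [IsProper A.hom]
  [Smooth A.hom] [GeometricallyConnected A.hom]

theorem key
    (Δ : Set A.left) (hΔ : IsClosed Δ) (ξ : A.left) (hξ : closure {ξ} = Δ)
    (hcodim : ringKrullDim (A.left.presheaf.stalk ξ) = 1)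
    (C : Set A.left) (hC : IsClosed C) (hCirr : IsIrreducible C) (hCdim : topologicalKrullDim C = 1)
    (hdisj : Disjoint C Δ)
    (x y : 𝟙_ (Over (Spec (CommRingCat.of k))) ⟶ A)
    (hx : Set.range x.left.base ⊆ C) (hy : Set.range y.left.base ⊆ C) :
    Δ ⊆ (𝟙 A * (toUnit A ≫ (x * y⁻¹))).left.base ⁻¹' Δ := by
  haveI : GeometricallyIntegral A.hom := AVDual.geometricallyIntegral_of_smooth A
  haveI : IsIntegral A.left := GeometricallyIntegral.isIntegral_of_subsingleton A.hom
  haveI : JacobsonSpace A.left := LocallyOfFiniteType.jacobsonSpace A.hom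
  -- the two closed subschemes
  let iC := (Scheme.IdealSheafData.vanishingIdeal (⟨C, hC⟩ : Closeds A.left)).subschemeι
  let iD := (Scheme.IdealSheafData.vanishingIdeal (⟨Δ, hΔ⟩ : Closeds A.left)).subschemeι
  have hrC : Set.range iC = C := by
    simp [iC, Scheme.IdealSheafData.range_subschemeι, Scheme.IdealSheafData.coe_support_vanishingIdeal]
  have hrD : Set.range iD = Δ := by
    simp [iD, Scheme.IdealSheafData.range_subschemeι, Scheme.IdealSheafData.coe_support_vanishingIdeal]
  let hC' := iC.isClosedEmbedding.isEmbedding.toHomeomorph.trans (Homeomorph.setCongr hrC)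
  let hD' := iD.isClosedEmbedding.isEmbedding.toHomeomorph.trans (Homeomorph.setCongr hrD)
  let CO : Over (Spec (CommRingCat.of k)) := Over.mk (iC ≫ A.hom)
  let DO : Over (Spec (CommRingCat.of k)) := Over.mk (iD ≫ A.hom)
  let ic : CO ⟶ A := Over.homMk iC rfl
  let iu : DO ⟶ A := Over.homMk iD rfl
  haveI : IsProper CO.hom := inferInstanceAs (IsProper (iC ≫ A.hom))
  haveI : IsProper DO.hom := inferInstanceAs (IsProper (iD ≫ A.hom))
  haveI hCi : IrreducibleSpace CO.left := hC'.irreducibleSpace_iff.2 (Subtype.irreducibleSpace hCirr)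
  haveI : IrreducibleSpace DO.left :=
    hD'.irreducibleSpace_iff.2 (Subtype.irreducibleSpace (hξ ▸ isIrreducible_singleton.closure))
  haveI : GeometricallyIrreducible CO.hom := GrpSchLib.geometricallyIrreducible_of_isAlgClosed _
  have hC1 : topologicalKrullDim CO.left = 1 := hC'.isHomeomorph.topologicalKrullDim_eq.trans hCdim
  let W := CO ⊗ DO
  haveI : IrreducibleSpace W.left :=
    inferInstanceAs (IrreducibleSpace ↥(pullback CO.hom DO.hom))
  haveI : IsProper W.hom := inferInstanceAs (IsProper (pullback.fst CO.hom DO.hom ≫ CO.hom))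
  have hdimW : topologicalKrullDim A.left ≤ topologicalKrullDim W.left := by
    have h1 : topologicalKrullDim W.left = topologicalKrullDim CO.left + topologicalKrullDim DO.left :=
      FibDim.topologicalKrullDim_pullback (f := CO.hom) (g := DO.hom)
    have h2 : topologicalKrullDim DO.left = ((VarDim.deg A.hom ξ : ℕ∞) : WithBot ℕ∞) := by
      refine hD'.isHomeomorph.topologicalKrullDim_eq.trans ?_
      rw [← VarDim.topologicalKrullDim_closure_singleton A.hom ξ,
        hξ]
    rw [h1, h2, hC1, VarDim.topologicalKrullDim_eq_deg_genericPoint A.hom,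
      H23.RatCodim.deg_genericPoint A.hom ξ (b := 1) (by exact_mod_cast hcodim)]
    push_cast
    rw [add_comm]
  intro z hz
  refine (hΔ.preimage (𝟙 A * (toUnit A ≫ (x * y⁻¹))).left.continuous).closure_subset_iff.2 ?_
    ((JacobsonSpace.closure_inter_closedPoints_eq_closure hΔ.isLocallyClosed).symm ▸ subset_closure hz)
  rintro z ⟨hzΔ, hzc⟩
  obtain ⟨u, rfl⟩ := exists_pt z hzc
  rw [Set.mem_preimage]
  change (𝟙 A * (toUnit A ≫ (x * y⁻¹))).left (pt u) ∈ Δ
  rw [← pt_comp, comp_mul_left, Category.comp_id, ← Category.assoc, toUnit_unique (u ≫ toUnit A) (𝟙 _),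
    Category.id_comp]
  -- the locus of `C` translated into `Δ`
  let a := u * y⁻¹
  let g : CO ⟶ A := (toUnit CO ≫ a) * ic
  let S := g.left ⁻¹' Δ
  have hlift : ∀ c : 𝟙_ (Over (Spec (CommRingCat.of k))) ⟶ A, pt c ∈ C →
      ∃ c', c' ≫ ic = c := by
    intro c hc
    rw [← hrC] at hc
    obtain ⟨w, hw⟩ := hc
    obtain ⟨c', hc'⟩ := exists_pt (A := CO) w (by
      have := (pointEquivClosedPoint A.hom ⟨c.left, Over.w c⟩).2
      rw [iC.isClosedEmbedding.isClosed_iff_image_isClosed, Set.image_singleton, hw]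
      exact this)
    exact ⟨c', eq_of_pt (by rw [pt_comp, hc']; exact hw)⟩
  have hg : ∀ c' : 𝟙_ (Over (Spec (CommRingCat.of k))) ⟶ CO, c' ≫ g = a * (c' ≫ ic) := by
    intro c'
    rw [comp_mul_left, ← Category.assoc, toUnit_unique (c' ≫ toUnit CO) (𝟙 _), Category.id_comp]
  suffices hS : S = Set.univ by
    obtain ⟨x', hx'⟩ := hlift x (hx ⟨_, rfl⟩)
    have h : pt x' ∈ S := hS ▸ Set.mem_univ _
    rw [Set.mem_preimage, ← pt_comp, hg, hx'] at h
    rwa [show u * (x * y⁻¹) = a * x by simp only [a]; rw [_root_.mul_comm x y⁻¹, _root_.mul_assoc]]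
  by_contra hS
  have hScl : IsClosed S := hΔ.preimage g.left.continuous
  have hSfin : S.Finite := by
    haveI : IsLocallyNoetherian CO.left := LocallyOfFiniteType.isLocallyNoetherian CO.hom
    haveI : CompactSpace CO.left := QuasiCompact.compactSpace_of_compactSpace CO.hom
    haveI : AlgebraicGeometry.IsNoetherian CO.left := {}
    have hgen : genericPoint CO.left ∉ S := fun h => hS (Set.eq_univ_of_univ_subset
      (((genericPoint_spec CO.left).def.symm.subset).trans
        (hScl.closure_subset_iff.2 (Set.singleton_subset_iff.2 h))))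
    have hdeg : ∀ s ∈ S, IsClosed ({s} : Set CO.left) := by
      intro s hs
      have h1 := VarDim.topologicalKrullDim_eq_deg_genericPoint CO.hom
      rw [hC1] at h1
      have h1' : VarDim.deg CO.hom (genericPoint CO.left) = 1 := by exact_mod_cast h1.symm
      refine isClosed_of_closure_subset fun t ht => ?_
      by_contra hne
      rw [Set.mem_singleton_iff] at hne
      have h2 := VarDim.deg_strictMono CO.hom (a := t) (b := s)
        (lt_iff_le_not_ge.2 ⟨specializes_iff_mem_closure.2 ht,
          fun h => hne (Specializes.antisymm h (specializes_iff_mem_closure.2 ht)).eq⟩)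
      have h3 := VarDim.deg_strictMono CO.hom (a := s) (b := genericPoint CO.left)
        (lt_iff_le_not_ge.2 ⟨genericPoint_specializes s,
          fun h => hgen ((Specializes.antisymm h (genericPoint_specializes s)).eq ▸ hs)⟩)
      omega
    haveI : QuasiSober ↥S := hScl.isClosedEmbedding_subtypeVal.quasiSober
    haveI : Finite ↥S := S0219.finite_of_forall_isClosed fun s => by
      rw [hScl.isClosedEmbedding_subtypeVal.isClosed_iff_image_isClosed, Set.image_singleton]
      exact hdeg s s.2
    exact S.toFinite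
  let f : W ⟶ A := (fst CO DO ≫ ic)⁻¹ * (snd CO DO ≫ iu)
  let F := f.left ⁻¹' {pt a}
  haveI : JacobsonSpace W.left := LocallyOfFiniteType.jacobsonSpace W.hom
  haveI : JacobsonSpace A.left := LocallyOfFiniteType.jacobsonSpace A.hom
  have hFcl : IsClosed F := (pointEquivClosedPoint A.hom ⟨a.left, Over.w a⟩).2.preimage f.left.continuous
  have hf : ∀ p : 𝟙_ (Over (Spec (CommRingCat.of k))) ⟶ W,
      p ≫ f = (p ≫ fst CO DO ≫ ic)⁻¹ * (p ≫ snd CO DO ≫ iu) := by
    intro p
    rw [comp_mul_left, GrpObj.comp_inv]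
  have hF : ∀ p : 𝟙_ (Over (Spec (CommRingCat.of k))) ⟶ W, pt p ∈ F →
      p ≫ snd CO DO ≫ iu = a * (p ≫ fst CO DO ≫ ic) := by
    intro p hp
    have h : p ≫ f = a := eq_of_pt (by rw [pt_comp]; exact hp)
    rw [hf, inv_mul_eq_iff_eq_mul] at h
    rw [h, _root_.mul_comm]
  have hinj : Set.InjOn (fst CO DO).left (F ∩ closedPoints W.left) := by
    rintro v ⟨hv, hvc⟩ w ⟨hw, hwc⟩ e
    obtain ⟨p, rfl⟩ := exists_pt v hvc
    obtain ⟨q, rfl⟩ := exists_pt w hwc
    have e1 : p ≫ fst CO DO = q ≫ fst CO DO := eq_of_pt e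
    have e2 : p ≫ snd CO DO = q ≫ snd CO DO := by
      refine eq_of_pt (iD.isClosedEmbedding.injective ?_)
      show pt (p ≫ snd CO DO ≫ iu) = pt (q ≫ snd CO DO ≫ iu)
      rw [hF p hv, hF q hw, ← Category.assoc, e1, Category.assoc]
    rw [show p = q from CartesianMonoidalCategory.hom_ext _ _ e1 e2]
  have hmaps : Set.MapsTo (fst CO DO).left (F ∩ closedPoints W.left) S := by
    rintro v ⟨hv, hvc⟩
    obtain ⟨p, rfl⟩ := exists_pt v hvc
    show g.left (pt (p ≫ fst CO DO)) ∈ Δ
    rw [← pt_comp, hg, Category.assoc, ← hF p hv, ← hrD]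
    exact ⟨pt (p ≫ snd CO DO), rfl⟩
  have hFfin : (F ∩ closedPoints W.left).Finite :=
    Set.Finite.of_injOn hmaps hinj hSfin
  have hFeq : F ⊆ closedPoints W.left := by
    intro v hv
    have hcl : IsClosed (F ∩ closedPoints W.left) := by
      rw [← Set.biUnion_of_singleton (F ∩ closedPoints W.left)]
      exact hFfin.isClosed_biUnion fun w hw => hw.2
    have := JacobsonSpace.closure_inter_closedPoints_eq_closure hFcl.isLocallyClosed
    rw [hFcl.closure_eq, hcl.closure_eq] at this
    exact (this.symm ▸ hv : v ∈ F ∩ closedPoints W.left).2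
  obtain ⟨u', hu'⟩ : ∃ u', u' ≫ iu = u := by
    rw [← hrD] at hzΔ
    obtain ⟨w, hw⟩ := hzΔ
    obtain ⟨c', hc'⟩ := exists_pt (A := DO) w (by
      rw [iD.isClosedEmbedding.isClosed_iff_image_isClosed, Set.image_singleton, hw]
      exact hzc)
    exact ⟨c', eq_of_pt (by rw [pt_comp, hc']; exact hw)⟩
  obtain ⟨y', hy'⟩ := hlift y (hy ⟨_, rfl⟩)
  have hne : pt (lift y' u') ∈ F := by
    show f.left (pt (lift y' u')) = pt a
    rw [← pt_comp, hf, lift_fst_assoc, lift_snd_assoc, hy', hu', _root_.mul_comm]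
  have hfib : topologicalKrullDim ↥(f.left.fiber (pt a)) = 0 := by
    rw [(f.left.fiberHomeo (pt a)).isHomeomorph.topologicalKrullDim_eq]
    haveI : QuasiSober ↥(f.left ⁻¹' {pt a}) := hFcl.isClosedEmbedding_subtypeVal.quasiSober
    haveI : Nonempty ↥(f.left ⁻¹' {pt a}) := ⟨⟨_, hne⟩⟩
    refine krullDim_zero_of_forall_isClosed fun t => ?_
    rw [hFcl.isClosedEmbedding_subtypeVal.isClosed_iff_image_isClosed, Set.image_singleton]
    exact hFeq t.2
  obtain ⟨⟨hsurj⟩, -⟩ := H23.FibreZero.surjective_and_dim_eq W.hom A.hom hdimW f.left (Over.w f) (pt a) hfib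
  obtain ⟨v, hv⟩ := hsurj (pt (1 : 𝟙_ (Over (Spec (CommRingCat.of k))) ⟶ A))
  have hcl1 : IsClosed (f.left ⁻¹' {pt (1 : 𝟙_ (Over (Spec (CommRingCat.of k))) ⟶ A)}) :=
    (pointEquivClosedPoint A.hom ⟨_, Over.w (1 : 𝟙_ (Over (Spec (CommRingCat.of k))) ⟶ A)⟩).2.preimage
      f.left.continuous
  obtain ⟨w, hw, hwc⟩ := nonempty_inter_closedPoints ⟨v, hv⟩ hcl1.isLocallyClosed
  obtain ⟨p, rfl⟩ := exists_pt w hwc
  have h : p ≫ f = 1 := eq_of_pt (by rw [pt_comp]; exact hw)
  rw [hf, inv_mul_eq_one] at h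
  have hc : pt (p ≫ fst CO DO ≫ ic) ∈ C := by rw [← hrC]; exact ⟨pt (p ≫ fst CO DO), rfl⟩
  refine Set.disjoint_left.1 hdisj hc ?_
  rw [h, ← hrD]; exact ⟨pt (p ≫ snd CO DO), rfl⟩

/-- Let k be an algebraically closed field and A an abelian variety over k (a proper smooth k-group
scheme with geometrically connected fibres). Let Δ ⊆ A be an irreducible closed subset of
codimension one, with generic point ξ whose local ring O_{A,ξ} has Krull dimension 1 (an irreducible
effective divisor), and let C ⊆ A be an irreducible closed subset of dimension one (a curve)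
disjoint from Δ. Then for all k-rational points x, y of A lying on C, translation by x − y (the map
z ↦ z + x − y, written with the group Hom(A, A)) carries Δ onto itself: t_{x−y}⁻¹(Δ) = Δ. -/
theorem result (k : Type u) [Field k] [IsAlgClosed k]
    (A : Over (Spec (CommRingCat.of k))) [GrpObj A] [IsProper A.hom] [Smooth A.hom] [GeometricallyConnected A.hom]
    (Δ : Set A.left) (hΔ : IsClosed Δ) (ξ : A.left) (hξ : closure {ξ} = Δ)
    (hcodim : ringKrullDim (A.left.presheaf.stalk ξ) = 1)
    (C : Set A.left) (hC : IsClosed C) (hCirr : IsIrreducible C) (hCdim : topologicalKrullDim C = 1)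
    (hdisj : Disjoint C Δ)
    (x y : 𝟙_ (Over (Spec (CommRingCat.of k))) ⟶ A)
    (hx : Set.range x.left.base ⊆ C) (hy : Set.range y.left.base ⊆ C) :
    (𝟙 A * (toUnit A ≫ (x * y⁻¹))).left.base ⁻¹' Δ = Δ := by
  letI : IsCommMonObj A := by
    haveI : GeometricallyIntegral A.hom := AVDual.geometricallyIntegral_of_smooth A
    exact isCommMonObj_of_isProper_of_geometricallyIntegral A
  refine Set.Subset.antisymm (fun z hz => ?_) (key Δ hΔ ξ hξ hcodim C hC hCirr hCdim hdisj x y hx hy)
  have h := key Δ hΔ ξ hξ hcodim C hC hCirr hCdim hdisj y x hy hx hz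
  have hid : (𝟙 A * (toUnit A ≫ (x * y⁻¹))) ≫ (𝟙 A * (toUnit A ≫ (y * x⁻¹))) = 𝟙 A := by
    rw [comp_mul_left, Category.comp_id, ← Category.assoc, comp_toUnit, _root_.mul_assoc, ← MonObj.comp_mul]
    simp [_root_.mul_assoc]
  rw [Set.mem_preimage, ← Scheme.Hom.comp_apply, ← Over.comp_left, hid] at h
  simpa using h

end Groth.Agent.S18373
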