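import Groth.Statements.S18380
import Groth.Agent.S8914
import Groth.Agent.ThetaLib.EndCoeff
import Groth.Agent.IntSym.QuotTensor
import Groth.Agent.HilbFib.Pn

set_option autoImplicit false
set_option backward.isDefEq.respectTransparency false
set_option backward.isDefEq.respectTransparency.types false
universe u
open Divisors

namespace Groth.Agent.S18380

open CategoryTheory AlgebraicGeometry in
/-- Let k be an algebraically closed field of characteristic 0 and M a scheme, smooth and projective
over k. Let D₁ and D₂ be effective Cartier divisors on M, given by invertible ideal sheaves with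
I_{D₂} ⊆ I_{D₁} (so D₁ is a closed subscheme of D₂). If I_{D₁} and I_{D₂} are isomorphic as
O_M-modules, that is D₁ and D₂ are linearly equivalent, then D₁ = D₂. The published statement is an
equivalence, for effective divisors on a smooth proper Deligne–Mumford stack with equal divisor
classes; its proof reduces to a smooth projective scheme, the case stated here, and the other
direction is immediate. -/
theorem result (k : Type u) [Field k] [IsAlgClosed k] [CharZero k]
    (M : Scheme.{u}) (f : M ⟶ Spec (CommRingCat.of k)) [Smooth f]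
    (hproj : Neron.IsProjectiveOver k (Over.mk f))
    (D₁ D₂ : M.IdealSheafData) (h₁ : BlowUp.IsEffCartierIdeal D₁) (h₂ : BlowUp.IsEffCartierIdeal D₂)
    (hle : D₂ ≤ D₁) (hiso : Nonempty (ClSub.idealMod D₁ ≅ ClSub.idealMod D₂)) :
    D₁ = D₂ := by
  haveI : IsProper f := by
    obtain ⟨n, i, hi, hif⟩ := hproj
    haveI := hi
    haveI : IsProper (CohB1.ProjSpaceOver.toBase n (Spec (CommRingCat.of k))) :=
      Groth.Agent.HilbFib.isProper_toBase n _
    have e : i ≫ CohB1.ProjSpaceOver.toBase n (Spec (CommRingCat.of k)) = f := hif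
    rw [← e]
    infer_instance
  have hI : PicF.IsInvertible (ClSub.idealMod D₁) := (Groth.Agent.S8914.result D₁).2 h₁
  obtain ⟨e⟩ := hiso
  have h0 : ClSub.idealModι D₂ ≫ ClSub.toSubscheme D₁ = 0 :=
    Groth.Agent.QCoh.hom_eq_zero_of_affine _ fun W hW x => by
      refine (Groth.Agent.IntSym.QuotTensor.toSub_app_eq_zero D₁ hW ((ClSub.idealModι D₂).app W x)).2 (hle _ ?_)
      exact (Groth.Agent.IntSym.QuotTensor.toSub_app_eq_zero D₂ hW _).1
        congr(($(Limits.kernel.condition (ClSub.toSubscheme D₂))).app W x)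
  let ι : ClSub.idealMod D₂ ⟶ ClSub.idealMod D₁ := Limits.kernel.lift _ (ClSub.idealModι D₂) h0
  have hι : ι ≫ ClSub.idealModι D₁ = ClSub.idealModι D₂ := Limits.kernel.lift_ι _ _ _
  haveI : Mono (ClSub.idealModι D₂) := inferInstanceAs (Mono (Limits.kernel.ι (ClSub.toSubscheme D₂)))
  haveI : Mono ι := mono_of_mono_fac hι
  obtain ⟨a, ha⟩ := Groth.Agent.ThetaLib.exists_eq_smulG hI (e.hom ≫ ι)
  have hnz : a ∈ nonZeroDivisors Γ(M, ⊤) := mem_nonZeroDivisors_iff_right.2 fun b hb => by
    have h00 : Groth.Agent.HilbPoly.smulG (ClSub.idealMod D₁) (0 : Γ(M, ⊤)) = 0 := by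
      refine Scheme.Modules.hom_ext _ _ fun U => ?_
      ext m
      refine (Groth.Agent.HilbPoly.smulG_app _ _ U m).trans ?_
      rw [map_zero, zero_smul]
      rfl
    apply Groth.Agent.ThetaLib.smulG_injective hI
    rw [h00, ← cancel_mono (e.hom ≫ ι), Limits.zero_comp, ha, ← Groth.Agent.ThetaLib.smulG_mul, mul_comm, hb, h00]
  letI : Algebra k Γ(M, ⊤) := (Coh.toGlobal f).toAlgebra
  have halg : IsAlgebraic k a := by
    refine IsIntegral.isAlgebraic ?_
    have hint : (f.appTop.hom.comp (Scheme.ΓSpecIso (CommRingCat.of k)).inv.hom).IsIntegral :=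
      RingHom.IsIntegral.trans _ _
        (RingHom.isIntegral_of_surjective _ (Scheme.ΓSpecIso (CommRingCat.of k)).symm.commRingCatIsoToRingEquiv.surjective)
        (isIntegral_appTop_of_universallyClosed f)
    exact hint a
  obtain ⟨r, hr, hdvd⟩ := halg.exists_nonzero_dvd hnz
  have hu : IsUnit a := isUnit_of_dvd_unit hdvd ((Ne.isUnit hr).map (algebraMap k Γ(M, ⊤)))
  obtain ⟨b, hb⟩ := hu.exists_left_inv
  haveI : IsSplitEpi ι := ⟨⟨⟨Groth.Agent.HilbPoly.smulG _ b ≫ e.hom, by
    rw [Category.assoc, ha, ← Groth.Agent.ThetaLib.smulG_mul, mul_comm, hb,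
      Groth.Agent.ThetaLib.smulG_one]⟩⟩⟩
  haveI : IsIso ι := isIso_of_mono_of_epi ι
  have h1 : ClSub.idealModι D₁ ≫ ClSub.toSubscheme D₂ = 0 := by
    rw [← cancel_epi ι, reassoc_of% hι, Limits.comp_zero]
    exact Limits.kernel.condition _
  refine le_antisymm (fun W r hr => ?_) hle
  exact (Groth.Agent.IntSym.QuotTensor.toSub_app_eq_zero D₂ W.2 r).1
    (Groth.Agent.IntSym.QuotTensor.app_eq_zero D₁ _ h1 W.2 hr)

end Groth.Agent.S18380
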