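import Groth.Statements.S18384
import Mathlib.RingTheory.Filtration
import Mathlib.AlgebraicGeometry.Noetherian
import Mathlib.AlgebraicGeometry.Morphisms.ClosedImmersion

set_option backward.isDefEq.respectTransparency false
set_option backward.isDefEq.respectTransparency.types false
set_option linter.style.haveILetI false
set_option maxHeartbeats 1000000

set_option autoImplicit false
universe u
open CategoryTheory CategoryTheory.Limits AlgebraicGeometry
open Coherent

namespace Groth.Agent.S18384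

open CategoryTheory CategoryTheory.Limits AlgebraicGeometry in
/-- The ideal has zero germ along the fibre. -/
theorem germ_eq_zero {X S : Scheme.{u}}
    [IsLocallyNoetherian X] (p : X ⟶ S) (x : X) (I : X.IdealSheafData)
    (h : ∀ n : ℕ, ∃ g : pullback p (Spec.map (CommRingCat.ofHom (Ideal.Quotient.mk
        (IsLocalRing.maximalIdeal ↑(S.presheaf.stalk (p x)) ^ (n + 1)))) ≫ S.fromSpecStalk (p x)) ⟶ I.subscheme,
        g ≫ I.subschemeι = pullback.fst p _)
    (V : X.affineOpens) (hx : x ∈ V.1) (a : Γ(X, V.1)) (ha : a ∈ I.ideal V) :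
    X.presheaf.germ V.1 x hx a = 0 := by
  let φ := (p.stalkMap x).hom
  let m := IsLocalRing.maximalIdeal ↑(S.presheaf.stalk (p x))
  have key : ∀ n : ℕ, X.presheaf.germ V.1 x hx a ∈ (IsLocalRing.maximalIdeal ↑(X.presheaf.stalk x)) ^ (n + 1) := by
    intro n
    obtain ⟨g, hg⟩ := h n
    let J := (m ^ (n + 1)).map φ
    let B := CommRingCat.of (↑(X.presheaf.stalk x) ⧸ J)
    let q : X.presheaf.stalk x ⟶ B := CommRingCat.ofHom (Ideal.Quotient.mk J)
    let ψ : CommRingCat.of (↑(S.presheaf.stalk (p x)) ⧸ m ^ (n + 1)) ⟶ B :=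
      CommRingCat.ofHom (Ideal.quotientMap J φ Ideal.le_comap_map)
    have hw : (Spec.map q ≫ X.fromSpecStalk x) ≫ p = Spec.map ψ ≫
        Spec.map (CommRingCat.ofHom (Ideal.Quotient.mk (m ^ (n + 1)))) ≫ S.fromSpecStalk (p x) := by
      rw [Category.assoc, ← Scheme.SpecMap_stalkMap_fromSpecStalk, ← Spec.map_comp_assoc,
        ← Spec.map_comp_assoc]
      congr 2
    let k := pullback.lift (Spec.map q ≫ X.fromSpecStalk x) (Spec.map ψ) hw
    have hle : I ≤ (Spec.map q ≫ X.fromSpecStalk x).ker := by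
      rw [show Spec.map q ≫ X.fromSpecStalk x = (k ≫ g) ≫ I.subschemeι by
        rw [Category.assoc, hg, pullback.lift_fst]]
      exact (I.ker_subschemeι).ge.trans (Scheme.Hom.le_ker_comp _ _)
    have h0 := Scheme.Hom.ideal_ker_le _ V (hle V ha)
    rw [RingHom.mem_ker, Scheme.Hom.comp_app, Scheme.fromSpecStalk_app hx] at h0
    have hJ : J ≤ (IsLocalRing.maximalIdeal ↑(X.presheaf.stalk x)) ^ (n + 1) := by
      show (m ^ (n + 1)).map φ ≤ _
      rw [Ideal.map_pow]
      refine Ideal.pow_right_mono (Ideal.map_le_iff_le_comap.2 fun r hr => ?_) (n + 1)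
      exact map_nonunit φ r hr
    refine hJ ?_
    rw [← Ideal.Quotient.eq_zero_iff_mem]
    show q.hom (X.presheaf.germ V.1 x hx a) = 0
    have hnat := Scheme.ΓSpecIso_inv_naturality q
    apply (Scheme.ΓSpecIso B).commRingCatIsoToRingEquiv.symm.injective
    rw [map_zero]
    refine (ConcreteCategory.congr_hom hnat (X.presheaf.germ V.1 x hx a)).trans ?_
    have hU : (⊤ : (Spec (X.presheaf.stalk x)).Opens) ≤ (X.fromSpecStalk x) ⁻¹ᵁ V.1 := fun z _ =>
      (show X.fromSpecStalk x z ⤳ x by
        have h := Scheme.range_fromSpecStalk (X := X) (x := x)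
        exact (Set.ext_iff.1 h _).1 (Set.mem_range_self z)).mem_open V.1.2 hx
    have hV : (X.fromSpecStalk x) ⁻¹ᵁ V.1 = ⊤ := top_le_iff.1 hU
    have aux : ∀ (W : (Spec (X.presheaf.stalk x)).Opens), W = ⊤ → ∀ (c : Γ(Spec (X.presheaf.stalk x), ⊤)),
        ((Spec.map q).app W).hom (((Spec (X.presheaf.stalk x)).presheaf.map (homOfLE le_top).op).hom c) = 0 →
        ((Spec.map q).appTop).hom c = 0 := by
      rintro W rfl c hc
      rw [show (homOfLE (le_top : (⊤ : (Spec (X.presheaf.stalk x)).Opens) ≤ ⊤)).op = 𝟙 _ from rfl] at hc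
      simpa using hc
    exact aux _ hV _ h0
  have hinf := Ideal.iInf_pow_eq_bot_of_isLocalRing (IsLocalRing.maximalIdeal ↑(X.presheaf.stalk x))
    (IsLocalRing.maximalIdeal.isMaximal _).ne_top
  rw [← Ideal.mem_bot, ← hinf, Ideal.mem_iInf]
  intro n
  cases n with
  | zero => simp
  | succ n => exact key n

/-- Let p : X → S be a morphism of locally Noetherian schemes, t a point of S, m the maximal ideal of
the local ring O_{S,t}, and Z the closed subscheme of X defined by a quasi-coherent ideal I. Suppose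
that for every n ≥ 1 the projection X ×_S Spec(O_{S,t}/m^n) → X factors through Z. Then there is an
open subscheme U of X containing every point of the fibre p⁻¹(t) such that the inclusion U → X
factors through Z. -/
theorem result {X S : Scheme.{u}}
    [IsLocallyNoetherian X] [IsLocallyNoetherian S] (p : X ⟶ S) (t : S) (I : X.IdealSheafData)
    (h : ∀ n : ℕ, ∃ g : pullback p (Spec.map (CommRingCat.ofHom (Ideal.Quotient.mk
        (IsLocalRing.maximalIdeal ↑(S.presheaf.stalk t) ^ (n + 1)))) ≫ S.fromSpecStalk t) ⟶ I.subscheme,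
        g ≫ I.subschemeι = pullback.fst p _) :
    ∃ U : X.Opens, (∀ x : X, p.base x = t → x ∈ U) ∧
      ∃ g : (U : Scheme.{u}) ⟶ I.subscheme, g ≫ I.subschemeι = U.ι := by
  let P : X → Prop := fun x => ∃ V : X.affineOpens, x ∈ V.1 ∧ I.ideal V = ⊥
  let U : X.Opens := ⟨{x | P x}, isOpen_iff_forall_mem_open.2 fun x hx => by
    obtain ⟨V, hxV, hV⟩ := hx
    exact ⟨V.1, fun y hy => ⟨V, hy, hV⟩, V.1.2, hxV⟩⟩
  refine ⟨U, fun x hx => ?_, ?_⟩
  · subst hx
    obtain ⟨_, ⟨W, hW, rfl⟩, hxW, -⟩ := X.isBasis_affineOpens.exists_subset_of_mem_open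
      (Set.mem_univ x) isOpen_univ
    let V : X.affineOpens := ⟨W, hW⟩
    haveI : IsNoetherianRing Γ(X, W) := IsLocallyNoetherian.component_noetherian V
    obtain ⟨G, hG⟩ := (IsNoetherian.noetherian (I.ideal V) : (I.ideal V).FG)
    letI := (X.presheaf.germ W x hxW).hom.toAlgebra
    haveI : IsLocalization.AtPrime (X.presheaf.stalk x) (hW.primeIdealOf ⟨x, hxW⟩).asIdeal :=
      hW.isLocalization_stalk ⟨x, hxW⟩
    have hann : ∀ a ∈ I.ideal V, ∃ s : (hW.primeIdealOf ⟨x, hxW⟩).asIdeal.primeCompl, s.1 * a = 0 :=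
      fun a ha => (IsLocalization.map_eq_zero_iff (hW.primeIdealOf ⟨x, hxW⟩).asIdeal.primeCompl
        (X.presheaf.stalk x) a).1 (germ_eq_zero p x I h V hxW a ha)
    choose s hs using hann
    let t : (hW.primeIdealOf ⟨x, hxW⟩).asIdeal.primeCompl :=
      ∏ a ∈ G.attach, s a.1 (hG ▸ Ideal.subset_span a.2)
    have ht : ∀ a ∈ G, t.1 * a = 0 := fun a ha => by
      obtain ⟨c, hc⟩ := Finset.dvd_prod_of_mem (fun b : G => s b.1 (hG ▸ Ideal.subset_span b.2))
        (Finset.mem_attach G ⟨a, ha⟩)
      rw [show t.1 = (s a (hG ▸ Ideal.subset_span ha)).1 * c.1 from congrArg Subtype.val hc,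
        mul_right_comm, hs, zero_mul]
    refine ⟨X.affineBasicOpen (U := V) t.1, ?_, ?_⟩
    · show x ∈ X.basicOpen t.1
      rw [X.mem_basicOpen t.1 x hxW]
      exact IsLocalization.map_units (X.presheaf.stalk x) t
    · rw [← I.map_ideal (X.affineBasicOpen_le (V := V) t.1), ← hG, Ideal.map_span, Ideal.span_eq_bot]
      rintro _ ⟨a, ha, rfl⟩
      have hu : IsUnit ((X.presheaf.map (homOfLE (X.basicOpen_le t.1)).op).hom t.1) :=
        RingedSpace.isUnit_res_basicOpen _ t.1
      apply hu.mul_right_eq_zero.1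
      exact ((map_mul _ _ _).symm.trans (congrArg _ (ht a ha))).trans (map_zero _)
  · have hker : I.subschemeι.ker ≤ U.ι.ker := by
      rw [I.ker_subschemeι]
      refine Scheme.IdealSheafData.le_ofIdeals_iff.2 fun W a ha => ?_
      rw [RingHom.mem_ker]
      rw [Scheme.Opens.ι_app]
      refine TopCat.Presheaf.section_ext X.sheaf _ _ _ fun y hy => ?_
      have hyW : y ∈ W.1 := Set.image_preimage_subset _ _ hy
      obtain ⟨V, hyV, hV⟩ : P y := by
        obtain ⟨z, -, rfl⟩ := hy
        exact z.2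
      obtain ⟨f, g, hfg, hyf⟩ := exists_basicOpen_le_affine_inter W.2 V.2 y ⟨hyW, hyV⟩
      refine (X.presheaf.germ_res_apply _ _ _ _).trans (Eq.trans ?_ (map_zero _).symm)
      rw [← X.presheaf.germ_res_apply (homOfLE (X.basicOpen_le f)) y hyf a]
      have hD : I.ideal (X.affineBasicOpen f) = ⊥ := by
        rw [← I.map_ideal (show X.affineBasicOpen (U := W) f ≤ V by
          show X.basicOpen f ≤ V.1
          rw [hfg]
          exact X.basicOpen_le g), hV, Ideal.map_bot]
      have hm := I.ideal_le_comap_ideal (X.affineBasicOpen_le f) ha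
      rw [Ideal.mem_comap, hD, Ideal.mem_bot] at hm
      rw [show (X.presheaf.map (homOfLE (X.basicOpen_le f)).op).hom a = 0 from hm]
      exact map_zero _
    exact ⟨IsClosedImmersion.lift _ _ hker, IsClosedImmersion.lift_fac _ _ hker⟩

end Groth.Agent.S18384
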