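import Groth.Statements.S18399
import Mathlib

set_option autoImplicit false
universe u
open CAlg

namespace Groth.Agent.S18399

/-- Let k be a field and A a regular local k-algebra with residue field k (the structure map from k onto
the residue field of A is surjective), let σ be a k-algebra endomorphism of A of finite order n with
n invertible in k, and let I_σ be the ideal of A generated by the elements f - σ f. Then I_σ is
generated by finitely many elements of the maximal ideal whose classes in the cotangent space m/m^2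
are linearly independent over the residue field. (Such elements are part of a regular system of
parameters of A, hence part of a regular sequence, which is the printed conclusion; the generators
with independent classes are what the argument produces.) -/
theorem result {k : Type u} [Field k] {A : Type u} [CommRing A] [Algebra k A] [IsRegularLocalRing A] (hres : Function.Surjective ⇑(algebraMap k (IsLocalRing.ResidueField A))) (σ : A →ₐ[k] A) (n : ℕ) (hσ : ∀ a : A, (⇑σ)^[n] a = a) (hn : (n : k) ≠ 0) : ∃ (m : ℕ) (f : Fin m → ↥(IsLocalRing.maximalIdeal A)), Ideal.span (Set.range fun i : Fin m => (f i : A)) = Ideal.span (Set.range fun a : A => a - σ a) ∧ LinearIndependent (IsLocalRing.ResidueField A) (fun i : Fin m => (IsLocalRing.maximalIdeal A).toCotangent (f i)) := by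
  classical
  have hnpos : 0 < n := Nat.pos_of_ne_zero fun h => hn (by simp [h])
  obtain ⟨q, rfl⟩ : ∃ q, n = q + 1 := ⟨n - 1, by omega⟩
  have hbij : Function.Bijective σ :=
    ⟨fun a b h => by rw [← hσ a, ← hσ b, Function.iterate_succ_apply, Function.iterate_succ_apply, h],
      fun a => ⟨(⇑σ)^[q] a, by rw [← Function.iterate_succ_apply' (⇑σ)]; exact hσ a⟩⟩
  have hmem : ∀ a, a ∈ IsLocalRing.maximalIdeal A → σ a ∈ IsLocalRing.maximalIdeal A := by
    intro a ha hu
    refine ha ?_
    obtain ⟨w, hw⟩ := hu.exists_right_inv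
    obtain ⟨v, rfl⟩ := hbij.2 w
    exact isUnit_iff_exists_inv.2 ⟨v, hbij.1 (by rw [map_mul, hw, map_one])⟩
  have hd : ∀ a, a ∈ IsLocalRing.maximalIdeal A → a - σ a ∈ IsLocalRing.maximalIdeal A := fun a ha => sub_mem ha (hmem a ha)
  let I : Ideal A := Ideal.span (Set.range fun a : A => a - σ a)
  have hIi : ∀ a, a - σ a ∈ I := fun a => Ideal.subset_span ⟨a, rfl⟩
  have hk : ∀ a : A, ∃ (c : k) (x : A), x ∈ IsLocalRing.maximalIdeal A ∧ a = algebraMap k A c + x := by
    intro a
    obtain ⟨c, hc⟩ := hres (IsLocalRing.residue A a)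
    refine ⟨c, a - algebraMap k A c, ?_, by ring⟩
    rw [← IsLocalRing.residue_eq_zero_iff, map_sub, ← hc]
    exact sub_self _
  -- the differences of squares of the maximal ideal
  have hsq : ∀ z ∈ IsLocalRing.maximalIdeal A ^ 2, z - σ z ∈ IsLocalRing.maximalIdeal A * I := by
    intro z hz
    rw [pow_two] at hz
    induction hz using Submodule.mul_induction_on' with
    | mem_mul_mem a ha b hb =>
      have : a * b - σ (a * b) = b * (a - σ a) + σ a * (b - σ b) := by rw [map_mul]; ring
      rw [this]
      exact add_mem (Ideal.mul_mem_mul hb (hIi a)) (Ideal.mul_mem_mul (hmem a ha) (hIi b))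
    | add a _ b _ ha hb =>
      rw [map_add, show a + b - (σ a + σ b) = (a - σ a) + (b - σ b) by ring]
      exact add_mem ha hb
  have key : ∀ y, y - σ y ∈ IsLocalRing.maximalIdeal A ^ 2 → y - σ y ∈ IsLocalRing.maximalIdeal A * I := by
    intro y hy
    have hit : ∀ j, (⇑σ)^[j] y - (⇑σ)^[j + 1] y ∈ IsLocalRing.maximalIdeal A ^ 2 := by
      intro j
      induction j with
      | zero => exact hy
      | succ j ih =>
        have hσ2 : ∀ z ∈ IsLocalRing.maximalIdeal A ^ 2, σ z ∈ IsLocalRing.maximalIdeal A ^ 2 := fun z hz => by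
          rw [pow_two] at hz ⊢
          induction hz using Submodule.mul_induction_on' with
          | mem_mul_mem a ha b hb => rw [map_mul]; exact Ideal.mul_mem_mul (hmem a ha) (hmem b hb)
          | add a _ b _ ha hb => rw [map_add]; exact add_mem ha hb
        have := hσ2 _ ih
        rwa [map_sub, ← Function.iterate_succ_apply' (⇑σ), ← Function.iterate_succ_apply' (⇑σ)] at this
    have hdiff : ∀ i, y - (⇑σ)^[i] y ∈ IsLocalRing.maximalIdeal A ^ 2 := by
      intro i
      induction i with
      | zero => simp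
      | succ i ih => simpa using add_mem ih (hit i)
    have htel : ∑ i ∈ Finset.range (q + 1), ((⇑σ)^[i] y - (⇑σ)^[i + 1] y) = 0 := by
      rw [Finset.sum_range_sub', Function.iterate_zero_apply, hσ, sub_self]
    have hsum : ((q + 1 : ℕ) : A) * (y - σ y) =
        ∑ i ∈ Finset.range (q + 1), ((y - (⇑σ)^[i] y) - σ (y - (⇑σ)^[i] y)) := by
      have : ∀ i, (y - (⇑σ)^[i] y) - σ (y - (⇑σ)^[i] y) = (y - σ y) - ((⇑σ)^[i] y - (⇑σ)^[i + 1] y) :=
        fun i => by rw [map_sub, Function.iterate_succ_apply']; ring
      simp only [this, Finset.sum_sub_distrib, htel, sub_zero, Finset.sum_const, Finset.card_range, nsmul_eq_mul, mul_sub]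
    have hu : IsUnit ((q + 1 : ℕ) : A) := by
      rw [← map_natCast (algebraMap k A)]
      exact (IsUnit.mk0 _ hn).map _
    refine (Ideal.unit_mul_mem_iff_mem _ hu).1 ?_
    rw [hsum]
    exact Ideal.sum_mem _ fun i _ => hsq _ (hdiff i)
  -- choose independent classes
  let S : Set (IsLocalRing.maximalIdeal A).Cotangent := Set.range fun x : IsLocalRing.maximalIdeal A =>
    (IsLocalRing.maximalIdeal A).toCotangent ⟨(x : A) - σ x, hd _ x.2⟩
  obtain ⟨b, hbS, hbspan, hbli⟩ := exists_linearIndependent (IsLocalRing.ResidueField A) S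
  have := hbli.setFinite.fintype
  let e := Fintype.equivFin b
  choose x hx using fun i => hbS (e.symm i).2
  refine ⟨Fintype.card b, fun i => ⟨(x i : A) - σ (x i), hd _ (x i).2⟩, ?_, ?_⟩
  swap
  · have : (fun i => (IsLocalRing.maximalIdeal A).toCotangent ⟨(x i : A) - σ (x i), hd _ (x i).2⟩) =
        (Subtype.val : b → _) ∘ e.symm := funext fun i => hx i
    rw [this]
    exact hbli.comp _ e.symm.injective
  set J := Ideal.span (Set.range fun i => (x i : A) - σ (x i)) with hJ
  refine le_antisymm (Ideal.span_le.2 (by rintro _ ⟨i, rfl⟩; exact hIi _)) ?_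
  refine Submodule.le_of_le_smul_of_le_jacobson_bot (IsNoetherian.noetherian _) (IsLocalRing.maximalIdeal_le_jacobson ⊥)
    (Ideal.span_le.2 ?_)
  rintro _ ⟨a, rfl⟩
  obtain ⟨c, z, hz, rfl⟩ := hk a
  show algebraMap k A c + z - σ (algebraMap k A c + z) ∈ J ⊔ IsLocalRing.maximalIdeal A • I
  rw [map_add, AlgHom.commutes, add_sub_add_left_eq_sub]
  have hzS : (IsLocalRing.maximalIdeal A).toCotangent ⟨z - σ z, hd z hz⟩ ∈
      Submodule.span (IsLocalRing.ResidueField A) (Set.range fun i =>
        (IsLocalRing.maximalIdeal A).toCotangent ⟨(x i : A) - σ (x i), hd _ (x i).2⟩) := by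
    have hr : (Set.range fun i => (IsLocalRing.maximalIdeal A).toCotangent ⟨(x i : A) - σ (x i), hd _ (x i).2⟩) = b := by
      rw [show (fun i => (IsLocalRing.maximalIdeal A).toCotangent ⟨(x i : A) - σ (x i), hd _ (x i).2⟩) =
        (Subtype.val : b → _) ∘ e.symm from funext fun i => hx i, Set.range_comp, Equiv.range_eq_univ,
        Set.image_univ, Subtype.range_coe]
    rw [hr, hbspan]
    exact Submodule.subset_span ⟨⟨z, hz⟩, rfl⟩
  obtain ⟨l, hl⟩ := (Submodule.mem_span_range_iff_exists_fun _).1 hzS
  choose c' hc' using fun i => hres (l i)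
  let y := z - ∑ i, algebraMap k A (c' i) * x i
  have hy : y - σ y = (z - σ z) - ∑ i, algebraMap k A (c' i) * ((x i : A) - σ (x i)) := by
    simp only [y, map_sub, map_sum, map_mul, AlgHom.commutes, mul_sub, Finset.sum_sub_distrib]
    ring
  have hym : y - σ y ∈ IsLocalRing.maximalIdeal A ^ 2 := by
    have h2 : (IsLocalRing.maximalIdeal A).toCotangent
        (⟨z - σ z, hd z hz⟩ - ∑ i, algebraMap k A (c' i) • (⟨(x i : A) - σ (x i), hd _ (x i).2⟩ : IsLocalRing.maximalIdeal A)) = 0 := by
      rw [map_sub, map_sum, sub_eq_zero, ← hl]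
      refine Finset.sum_congr rfl fun i _ => ?_
      rw [map_smul, ← hc' i, ← algebraMap_smul (IsLocalRing.ResidueField A) (algebraMap k A (c' i))]
      congr 1
    rw [Ideal.toCotangent_eq_zero] at h2
    rw [hy]
    simpa [Algebra.smul_def] using h2
  have : z - σ z = (∑ i, algebraMap k A (c' i) * ((x i : A) - σ (x i))) + (y - σ y) := by rw [hy]; ring
  rw [this]
  exact Submodule.add_mem_sup (Ideal.sum_mem _ fun i _ => Ideal.mul_mem_left _ _ (Ideal.subset_span ⟨i, rfl⟩))
    (by rw [smul_eq_mul]; exact key y hym)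

end Groth.Agent.S18399
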