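import Groth.Statements.S18416
import Mathlib

set_option autoImplicit false
universe u v w
open CAlg

namespace Groth.Agent.S18416

open TensorProduct in
theorem etale_quotient_of_basis {C : Type v} {B : Type w} [CommRing C] [CommRing B] [Algebra C B]
    [Algebra.Smooth C B] {ι : Type w} [Fintype ι] (f : B) (g : ι → B)
    (h : Function.Bijective (LocalizedModule.map (Submonoid.powers f)
      (Fintype.linearCombination B fun i => KaehlerDifferential.D C B (g i)))) :
    ((Ideal.Quotient.mk (Ideal.span (Set.range fun i => algebraMap B (Localization.Away f) (g i)))).comp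
      ((algebraMap B (Localization.Away f)).comp (algebraMap C B))).Etale := by
  classical
  let Bf := Localization.Away f
  let S := Submonoid.powers f
  let J₀ : Ideal Bf := Ideal.span (Set.range fun i => algebraMap B Bf (g i))
  haveI : Algebra.Smooth B Bf := ⟨Algebra.FormallySmooth.of_isLocalization S, IsLocalization.Away.finitePresentation f⟩
  haveI : Algebra.Smooth C Bf := Algebra.Smooth.comp C B Bf
  let gf : ι → Bf := fun i => algebraMap B Bf (g i)
  let Λ : (ι → Bf) →ₗ[Bf] Ω[Bf⁄C] := Fintype.linearCombination Bf fun i => KaehlerDifferential.D C Bf (gf i)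
  let fp : (ι → B) →ₗ[B] (ι → Bf) := LinearMap.pi fun i => Algebra.linearMap B Bf ∘ₗ LinearMap.proj i
  let κf := KaehlerDifferential.map C C B Bf
  haveI : IsLocalizedModule S κf := KaehlerDifferential.isLocalizedModule_map C B Bf S
  have hΛ : Function.Bijective Λ := by
    let e1 := IsLocalizedModule.iso S fp
    let e2 := IsLocalizedModule.iso S κf
    have e : Λ.restrictScalars B ∘ₗ e1.toLinearMap =
        e2.toLinearMap ∘ₗ (LocalizedModule.map S
          (Fintype.linearCombination B fun i => KaehlerDifferential.D C B (g i))).restrictScalars B := by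
      apply IsLocalizedModule.linearMap_ext S (LocalizedModule.mkLinearMap S (ι → B)) κf
      refine LinearMap.ext fun w => ?_
      simp only [LinearMap.comp_apply, LinearMap.restrictScalars_apply, LinearEquiv.coe_coe,
        LocalizedModule.mkLinearMap_apply, LocalizedModule.map_mk, e1, e2, IsLocalizedModule.iso_mk_one]
      simp [Λ, fp, κf, gf, Fintype.linearCombination_apply, map_sum]
    have h2 : Function.Bijective (Λ.restrictScalars B ∘ₗ e1.toLinearMap) := by
      rw [e]; exact e2.bijective.comp h
    exact (Function.Bijective.of_comp_iff _ e1.bijective).1 h2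
  let bΩ : Module.Basis ι Bf Ω[Bf⁄C] := Module.Basis.ofEquivFun (LinearEquiv.ofBijective Λ hΛ).symm
  have hbΩ : ∀ i, bΩ i = KaehlerDifferential.D C Bf (gf i) := fun i => by
    simp [bΩ, Λ, Fintype.linearCombination_apply, Pi.single_apply]
  let A₀ := Bf ⧸ J₀
  have hsurjA : Function.Surjective (algebraMap Bf A₀) := Ideal.Quotient.mk_surjective
  have hker : RingHom.ker (algebraMap Bf A₀) = J₀ := Ideal.mk_ker
  let cot : ι → (RingHom.ker (algebraMap Bf A₀)).Cotangent := fun i =>
    Ideal.toCotangent _ ⟨gf i, by rw [hker]; exact Ideal.subset_span ⟨i, rfl⟩⟩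
  let ρ : Ω[Bf⁄C] →ₗ[Bf] (RingHom.ker (algebraMap Bf A₀)).Cotangent := bΩ.constr ℕ cot
  have hρ : (J₀ • ⊤ : Submodule Bf Ω[Bf⁄C]) ≤ LinearMap.ker ρ := by
    refine Submodule.smul_le.2 fun a ha m _ => ?_
    rw [LinearMap.mem_ker, map_smul]
    obtain ⟨y, hy⟩ := Ideal.toCotangent_surjective _ (ρ m)
    rw [← hy, ← map_smul, Ideal.toCotangent_eq_zero, pow_two]
    exact Ideal.mul_mem_mul (hker.symm ▸ ha) y.2
  let σ : A₀ ⊗[Bf] Ω[Bf⁄C] →ₗ[Bf] (RingHom.ker (algebraMap Bf A₀)).Cotangent :=
    (J₀ • ⊤ : Submodule Bf Ω[Bf⁄C]).liftQ ρ hρ ∘ₗ (TensorProduct.quotTensorEquivQuotSMul _ J₀).toLinearMap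
  haveI : Algebra.FormallySmooth C A₀ := by
    refine (Algebra.FormallySmooth.iff_split_injection hsurjA).2 ⟨σ, ?_⟩
    refine LinearMap.ext fun z => ?_
    obtain ⟨⟨y, hy⟩, rfl⟩ := Ideal.toCotangent_surjective _ z
    have hy' : y ∈ Submodule.span Bf (Set.range gf) := (hker ▸ hy : y ∈ J₀)
    have key : ∀ y' (hy' : y' ∈ RingHom.ker (algebraMap Bf A₀)),
        σ ((1 : A₀) ⊗ₜ[Bf] KaehlerDifferential.D C Bf y') = ρ (KaehlerDifferential.D C Bf y') := fun y' _ => by
      simp only [σ, LinearMap.comp_apply, LinearEquiv.coe_coe]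
      erw [TensorProduct.quotTensorEquivQuotSMul_mk_tmul]
      rw [one_smul, Submodule.liftQ_apply]
    show σ (KaehlerDifferential.kerCotangentToTensor C Bf A₀ (Ideal.toCotangent _ ⟨y, hy⟩)) = _
    rw [KaehlerDifferential.kerCotangentToTensor_toCotangent, key y hy]
    clear key
    obtain ⟨c, rfl⟩ := (Submodule.mem_span_range_iff_exists_fun Bf).1 hy'
    have hz : ∀ i, ρ (gf i • KaehlerDifferential.D C Bf (c i)) = 0 := fun i =>
      hρ (Submodule.smul_mem_smul (Ideal.subset_span ⟨i, rfl⟩) trivial)
    simp only [smul_eq_mul, map_sum, Derivation.leibniz, map_add, map_smul] at hz ⊢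
    simp only [hz, add_zero, ← hbΩ, ρ, Module.Basis.constr_basis]
    simp only [cot, ← map_smul, ← map_sum, LinearMap.id_apply]
    congr 1
    exact Subtype.ext (by simp)
  haveI : Algebra.FormallyUnramified C A₀ := by
    refine ⟨⟨fun u v => ?_⟩⟩
    have h0 : ∀ z : A₀ ⊗[Bf] Ω[Bf⁄C], KaehlerDifferential.mapBaseChange C Bf A₀ z = 0 := fun z => by
      induction z using TensorProduct.induction_on with
      | zero => simp
      | add a b ha hb => simp [map_add, ha, hb]
      | tmul a m =>
        rw [← bΩ.sum_repr m, TensorProduct.tmul_sum, map_sum]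
        refine Finset.sum_eq_zero fun i _ => ?_
        rw [TensorProduct.tmul_smul, TensorProduct.smul_tmul', KaehlerDifferential.mapBaseChange_tmul, hbΩ,
          KaehlerDifferential.map_D]
        have : algebraMap Bf A₀ (gf i) = 0 :=
          Ideal.Quotient.eq_zero_iff_mem.2 (Ideal.subset_span ⟨i, rfl⟩)
        rw [this, map_zero, smul_zero]
    obtain ⟨u, rfl⟩ := KaehlerDifferential.mapBaseChange_surjective C Bf A₀ hsurjA u
    obtain ⟨v, rfl⟩ := KaehlerDifferential.mapBaseChange_surjective C Bf A₀ hsurjA v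
    rw [h0, h0]
  haveI : Algebra.FinitePresentation C A₀ :=
    Algebra.FinitePresentation.quotient (R := C) (Submodule.fg_span (Set.finite_range _))
  haveI : Algebra.Etale C A₀ := ⟨Algebra.FormallyEtale.iff_formallyUnramified_and_formallySmooth.2 ⟨‹_›, ‹_›⟩, ‹_›⟩
  have : algebraMap C A₀ = (Ideal.Quotient.mk J₀).comp ((algebraMap B Bf).comp (algebraMap C B)) := by
    rw [← IsScalarTower.algebraMap_eq C B Bf]; rfl
  rw [← this]
  exact RingHom.etale_algebraMap.2 ‹_›

/-- Let R → C and C → B be smooth ring homomorphisms, J an ideal of B and K the preimage of J in C, and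
suppose that C surjects onto A = B/J (so that C/K = B/J = A). Then for every prime x of A there
exist f ∈ B whose image in A does not lie in x and an ideal J₀ of B_f contained in J B_f such that
the composite C → B_f → B_f/J₀ is étale. -/
theorem result (R : Type u) (C : Type v) (B : Type w)
    [CommRing R] [CommRing C] [CommRing B] [Algebra R C] [Algebra C B] [Algebra R B] [IsScalarTower R C B]
    [Algebra.Smooth R C] [Algebra.Smooth C B] (J : Ideal B)
    (hsurj : Function.Surjective ((Ideal.Quotient.mk J).comp (algebraMap C B)))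
    (x : PrimeSpectrum (B ⧸ J)) :
    ∃ f : B, Ideal.Quotient.mk J f ∉ x.asIdeal ∧
      ∃ J₀ : Ideal (Localization.Away f), J₀ ≤ J.map (algebraMap B (Localization.Away f)) ∧
        ((Ideal.Quotient.mk J₀).comp ((algebraMap B (Localization.Away f)).comp (algebraMap C B))).Etale := by
  classical
  let q : Ideal B := x.asIdeal.comap (Ideal.Quotient.mk J)
  haveI : q.IsPrime := Ideal.IsPrime.comap _
  -- every differential is a differential of an element of `J` modulo `J`
  have hgen : ∀ m : Ω[B⁄C], ∃ g ∈ J, m - KaehlerDifferential.D C B g ∈ (J • ⊤ : Submodule B Ω[B⁄C]) := by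
    intro m
    haveI : Algebra.FormallyUnramified C (B ⧸ J) := by
      have : Function.Surjective (Algebra.ofId C (B ⧸ J)) := hsurj
      exact Algebra.FormallyUnramified.of_surjective (Algebra.ofId C (B ⧸ J)) this
    have hex := KaehlerDifferential.exact_kerCotangentToTensor_mapBaseChange C B (B ⧸ J)
      Ideal.Quotient.mk_surjective
    obtain ⟨y, hy⟩ := (hex ((1 : B ⧸ J) ⊗ₜ m)).1 (Subsingleton.elim _ _)
    obtain ⟨⟨g, hg⟩, rfl⟩ := Ideal.toCotangent_surjective _ y
    rw [KaehlerDifferential.kerCotangentToTensor_toCotangent] at hy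
    refine ⟨g, Ideal.Quotient.eq_zero_iff_mem.1 hg, ?_⟩
    rw [← Submodule.Quotient.mk_eq_zero, ← Submodule.mkQ_apply, map_sub, sub_eq_zero]
    have h2 := congrArg (TensorProduct.quotTensorEquivQuotSMul Ω[B⁄C] J) hy.symm
    erw [TensorProduct.quotTensorEquivQuotSMul_mk_tmul, TensorProduct.quotTensorEquivQuotSMul_mk_tmul,
      one_smul, one_smul] at h2
    exact h2
  -- a basis at `q`
  let Bq := Localization.AtPrime q
  let Mq := LocalizedModule q.primeCompl Ω[B⁄C]
  let κq := LocalizedModule.mkLinearMap q.primeCompl Ω[B⁄C]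
  let v : J → Mq := fun g => κq (KaehlerDifferential.D C B g)
  haveI : Module.FinitePresentation B Ω[B⁄C] := Module.finitePresentation_of_projective _ _
  have hv : Submodule.span Bq (Set.range v) = ⊤ := by
    refine top_le_iff.1 (Submodule.le_of_le_smul_of_le_jacobson_bot Module.Finite.fg_top
      (IsLocalRing.maximalIdeal_le_jacobson _) ?_)
    intro z _
    induction z using LocalizedModule.induction_on with
    | h m s =>
      obtain ⟨g, hg, hmg⟩ := hgen m
      have hz : LocalizedModule.mk m s =
          (Localization.mk 1 s : Bq) • v ⟨g, hg⟩ +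
            (Localization.mk 1 s : Bq) • κq (m - KaehlerDifferential.D C B g) := by
        rw [← smul_add, ← map_add, add_sub_cancel]
        show _ = (Localization.mk 1 s : Bq) • LocalizedModule.mk m 1
        rw [LocalizedModule.mk_smul_mk, one_smul, mul_one]
      rw [hz]
      refine Submodule.add_mem_sup (Submodule.smul_mem _ _ (Submodule.subset_span ⟨_, rfl⟩))
        (Submodule.smul_mem _ _ ?_)
      refine Submodule.smul_induction_on hmg (fun a ha n _ => ?_) (fun a b ha hb => ?_)
      · rw [map_smul, ← algebraMap_smul Bq a]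
        refine Submodule.smul_mem_smul ?_ trivial
        rw [← Localization.AtPrime.map_eq_maximalIdeal]
        refine Ideal.mem_map_of_mem _ ?_
        show Ideal.Quotient.mk J a ∈ x.asIdeal
        rw [Ideal.Quotient.eq_zero_iff_mem.2 ha]
        exact zero_mem _
      · rw [map_add]; exact add_mem ha hb
  haveI : Module.Flat Bq Mq := inferInstance
  obtain ⟨ι, a, b, hb⟩ := Module.exists_basis_of_span_of_flat (R := Bq) v hv
  haveI : Finite ι := Module.Finite.finite_basis b
  let : Fintype ι := Fintype.ofFinite ι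
  let gs : ι → B := fun i => (a i : B)
  let l : (ι → B) →ₗ[B] Ω[B⁄C] := Fintype.linearCombination B fun i => KaehlerDifferential.D C B (gs i)
  let fq : (ι → B) →ₗ[B] (ι → Bq) := LinearMap.pi fun i => Algebra.linearMap B Bq ∘ₗ LinearMap.proj i
  have hlq : Function.Bijective (IsLocalizedModule.map q.primeCompl fq κq l) := by
    have e : IsLocalizedModule.map q.primeCompl fq κq l = b.equivFun.symm.toLinearMap.restrictScalars B := by
      apply IsLocalizedModule.linearMap_ext q.primeCompl fq κq
      refine LinearMap.ext fun w => ?_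
      simp only [LinearMap.comp_apply, IsLocalizedModule.map_apply, LinearMap.restrictScalars_apply,
        LinearEquiv.coe_coe, Module.Basis.equivFun_symm_apply]
      simp [l, fq, Fintype.linearCombination_apply, map_sum, hb, v, gs]
    rw [e]
    exact b.equivFun.symm.bijective
  obtain ⟨f, hf, hbij⟩ := exists_bijective_map_powers q.primeCompl fq κq l hlq
  refine ⟨f, hf, Ideal.span (Set.range fun i => algebraMap B _ (gs i)), ?_, ?_⟩
  · refine Ideal.span_le.2 ?_
    rintro _ ⟨i, rfl⟩
    exact Ideal.mem_map_of_mem _ (a i).2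
  exact etale_quotient_of_basis f gs (hbij f dvd_rfl)

end Groth.Agent.S18416
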