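import Groth.Statements.S18417
import Groth.Agent.LinType.Basic
import Mathlib.RingTheory.Smooth.Basic
import Mathlib.RingTheory.MvPolynomial.Ideal

set_option autoImplicit false
universe u v
open CAlg

namespace Groth.Agent.S18417

/-- Let R → A be a ring homomorphism and x_1, …, x_d a weakly regular sequence in A generating an ideal
J such that B = A/J is formally smooth over R. Then for every N ≥ 1 there is an isomorphism of
R-algebras e : A/J^N ≅ B[T_1, …, T_d]/(T_1, …, T_d)^N which sends the class of x_i to the class of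
T_i and which is compatible with the projections to B: for every a ∈ A, e(a mod J^N) is congruent to
the constant a mod J modulo the ideal generated by the variables. (The source also assumes R → A
smooth, which its argument does not use, and a regular sequence; weak regularity is what the
argument uses.) -/
theorem result
    (R : Type u) (A : Type v) [CommRing R] [CommRing A] [Algebra R A] (d : ℕ) (x : Fin d → A)
    (hreg : RingTheory.Sequence.IsWeaklyRegular A (List.ofFn x))
    [Algebra.FormallySmooth R (A ⧸ Ideal.span (Set.range x))] (N : ℕ) (hN : 1 ≤ N) :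
    ∃ e : (A ⧸ Ideal.span (Set.range x) ^ N) ≃ₐ[R]
        (MvPolynomial (Fin d) (A ⧸ Ideal.span (Set.range x)) ⧸
          Ideal.span (Set.range (MvPolynomial.X : Fin d → MvPolynomial (Fin d) (A ⧸ Ideal.span (Set.range x)))) ^ N),
      (∀ i : Fin d, e (Ideal.Quotient.mk _ (x i)) = Ideal.Quotient.mk _ (MvPolynomial.X i)) ∧
      ∀ a : A, e (Ideal.Quotient.mk _ a) - Ideal.Quotient.mk _ (MvPolynomial.C (Ideal.Quotient.mk _ a)) ∈
        (Ideal.span (Set.range (MvPolynomial.X : Fin d → MvPolynomial (Fin d) (A ⧸ Ideal.span (Set.range x))))).map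
          (Ideal.Quotient.mk _) := by
  classical
  set J := Ideal.span (Set.range x) with hJ
  let B := A ⧸ J
  let C := A ⧸ J ^ N
  let π : C →ₐ[R] B := Ideal.Quotient.factorₐ R (Ideal.pow_le_self (by omega))
  have hπs : Function.Surjective π := Ideal.Quotient.factor_surjective (Ideal.pow_le_self (by omega))
  have hπmk : ∀ a : A, π (Ideal.Quotient.mk _ a) = Ideal.Quotient.mk J a := fun a => Ideal.Quotient.factor_mk (Ideal.pow_le_self (by omega : N ≠ 0)) a
  let Jb : Ideal C := J.map (Ideal.Quotient.mk (J ^ N))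
  have hker : RingHom.ker (π : C →+* B) = Jb := Ideal.Quotient.factor_ker (Ideal.pow_le_self (by omega))
  have hJN : Jb ^ N = ⊥ := by
    rw [← Ideal.map_pow, Ideal.map_quotient_self]
  let σ : B →ₐ[R] C := Algebra.FormallySmooth.liftOfSurjective (AlgHom.id R B) π hπs ⟨N, by
    show RingHom.ker (π : C →+* B) ^ N = 0
    rw [hker, hJN, Ideal.zero_eq_bot]⟩
  have hσ : ∀ b, π (σ b) = b := fun b => Algebra.FormallySmooth.liftOfSurjective_apply (AlgHom.id R B) π hπs _ b
  have hσJ : ∀ a : A, σ (Ideal.Quotient.mk J a) - Ideal.Quotient.mk _ a ∈ Jb := fun a => by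
    rw [← hker, RingHom.mem_ker, RingHom.coe_coe, map_sub, hσ, hπmk, sub_self]
  let xb : Fin d → C := fun i => Ideal.Quotient.mk _ (x i)
  have hxb : ∀ i, xb i ∈ Jb := fun i => Ideal.mem_map_of_mem _ (Ideal.subset_span ⟨i, rfl⟩)
  have hmon : ∀ s : Fin d →₀ ℕ, ∏ i, xb i ^ s i ∈ Jb ^ s.degree := fun s => by
    rw [Finsupp.degree_eq_sum, ← Finset.prod_pow_eq_pow_sum]
    exact Ideal.prod_mem_prod fun i _ => Ideal.pow_mem_pow (hxb i) _
  let Ψ₀ : MvPolynomial (Fin d) B →+* C := MvPolynomial.eval₂Hom σ.toRingHom xb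
  let V := Ideal.span (Set.range (MvPolynomial.X : Fin d → MvPolynomial (Fin d) B))
  have hV : V ^ N ≤ RingHom.ker Ψ₀ := by
    intro p hp
    rw [RingHom.mem_ker, ← Ideal.mem_bot, ← hJN]
    refine Ideal.pow_right_mono ?_ N (Ideal.map_pow Ψ₀ V N ▸ Ideal.mem_map_of_mem Ψ₀ hp)
    rw [Ideal.map_span, Ideal.span_le]
    rintro _ ⟨_, ⟨i, rfl⟩, rfl⟩
    simpa [Ψ₀] using hxb i
  let Ψ : (MvPolynomial (Fin d) B ⧸ V ^ N) →ₐ[R] C :=
    { toRingHom := Ideal.Quotient.lift (V ^ N) Ψ₀ (fun a ha => hV ha)
      commutes' := fun r => by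
        show Ψ₀ (algebraMap R (MvPolynomial (Fin d) B) r) = _
        rw [IsScalarTower.algebraMap_apply R B (MvPolynomial (Fin d) B), MvPolynomial.algebraMap_eq, MvPolynomial.eval₂Hom_C]
        exact σ.commutes r }
  have hΨ : ∀ p, Ψ (Ideal.Quotient.mk _ p) = Ψ₀ p := fun p => rfl
  have hsurj : Function.Surjective Ψ := by
    have h : ∀ k, ∀ c : C, ∃ p, c - Ψ₀ p ∈ Jb ^ k := by
      intro k
      induction k with
      | zero => exact fun c => ⟨0, by simp⟩
      | succ k ih =>
        intro c
        have hc : c - σ (π c) ∈ Jb := by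
          rw [← hker, RingHom.mem_ker, RingHom.coe_coe, map_sub, hσ, sub_self]
        simp only [Jb, hJ, Ideal.map_span, ← Set.range_comp] at hc
        obtain ⟨y, hy⟩ := (Submodule.mem_span_range_iff_exists_fun C).1 hc
        choose p hp using fun i => ih (y i)
        refine ⟨MvPolynomial.C (π c) + ∑ i, MvPolynomial.X i * p i, ?_⟩
        have : c - Ψ₀ (MvPolynomial.C (π c) + ∑ i, MvPolynomial.X i * p i) = ∑ i, (y i - Ψ₀ (p i)) * xb i := by
          rw [map_add, map_sum]
          simp only [map_mul, Ψ₀, MvPolynomial.eval₂Hom_C, MvPolynomial.eval₂Hom_X', sub_mul, Finset.sum_sub_distrib]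
          simp only [Function.comp_apply, smul_eq_mul] at hy
          rw [show ∑ i, y i * xb i = c - σ (π c) from hy]
          simp only [mul_comm (xb _), AlgHom.toRingHom_eq_coe, RingHom.coe_coe]
          ring
        rw [this, pow_succ]
        exact Ideal.sum_mem _ fun i _ => Ideal.mul_mem_mul (hp i) (hxb i)
    intro c
    obtain ⟨p, hp⟩ := h N c
    rw [hJN, Ideal.mem_bot, sub_eq_zero] at hp
    exact ⟨Ideal.Quotient.mk _ p, hp.symm⟩
  have hinj : Function.Injective Ψ := by
    rw [injective_iff_map_eq_zero]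
    intro q hq
    obtain ⟨p, rfl⟩ := Ideal.Quotient.mk_surjective q
    rw [hΨ] at hq
    refine Ideal.Quotient.eq_zero_iff_mem.2 ?_
    show p ∈ MvPolynomial.idealOfVars (Fin d) B ^ N
    rw [MvPolynomial.mem_pow_idealOfVars_iff']
    suffices h : ∀ k ≤ N, ∀ s : Fin d →₀ ℕ, s.degree < k → p.coeff s = 0 from fun s hs => h N le_rfl s hs
    intro k hk
    induction k with
    | zero => intro s hs; omega
    | succ e ih =>
      intro s hs
      have ih' := ih (by omega)
      rcases Nat.lt_succ_iff_lt_or_eq.1 hs with hs' | hs'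
      · exact ih' s hs'
      choose g hg using fun b : B => Ideal.Quotient.mk_surjective b
      let T := p.support.filter fun t : Fin d →₀ ℕ => t.degree = e
      let Pt : MvPolynomial (Fin d) A := ∑ t ∈ T, MvPolynomial.monomial t (g (p.coeff t))
      have hPt : Pt.IsHomogeneous e := MvPolynomial.IsHomogeneous.sum _ _ _ fun t ht =>
        MvPolynomial.isHomogeneous_monomial _ (Finset.mem_filter.1 ht).2
      have hev : Ideal.Quotient.mk (J ^ N) (MvPolynomial.eval x Pt) ∈ Jb ^ (e + 1) := by
        have h1 : Ideal.Quotient.mk (J ^ N) (MvPolynomial.eval x Pt) =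
            ∑ t ∈ T, Ideal.Quotient.mk (J ^ N) (g (p.coeff t)) * ∏ i, xb i ^ t i := by
          simp only [Pt, map_sum, MvPolynomial.eval_monomial, map_mul]
          refine Finset.sum_congr rfl fun t _ => ?_
          rw [Finsupp.prod_fintype _ _ (fun i => pow_zero _), map_prod]
          simp only [map_pow, xb]
        have h2 : Ψ₀ p = ∑ t ∈ p.support, σ (p.coeff t) * ∏ i, xb i ^ t i := MvPolynomial.eval₂_eq' _ _ _
        rw [hq] at h2
        have hmem : ∑ t ∈ p.support, σ (p.coeff t) * ∏ i, xb i ^ t i - ∑ t ∈ T, σ (p.coeff t) * ∏ i, xb i ^ t i ∈ Jb ^ (e + 1) := by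
          rw [← Finset.sum_sdiff (Finset.filter_subset (fun t : Fin d →₀ ℕ => t.degree = e) p.support), add_sub_cancel_right]
          refine Ideal.sum_mem _ fun t ht => Ideal.mul_mem_left _ _ (Ideal.pow_le_pow_right ?_ (hmon t))
          rw [Finset.mem_sdiff] at ht
          by_contra hlt
          rcases Nat.lt_succ_iff_lt_or_eq.1 (Nat.lt_of_not_le hlt) with h | h
          · exact MvPolynomial.mem_support_iff.1 ht.1 (ih' t h)
          · exact ht.2 (Finset.mem_filter.2 ⟨ht.1, h⟩)
        rw [← h2, zero_sub, neg_mem_iff] at hmem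
        rw [h1, ← sub_sub_cancel (∑ t ∈ T, σ (p.coeff t) * ∏ i, xb i ^ t i) (∑ t ∈ T, Ideal.Quotient.mk (J ^ N) (g (p.coeff t)) * ∏ i, xb i ^ t i)]
        refine sub_mem hmem ?_
        rw [← Finset.sum_sub_distrib]
        refine Ideal.sum_mem _ fun t ht => ?_
        rw [← sub_mul, pow_succ']
        refine Ideal.mul_mem_mul ?_ ((Finset.mem_filter.1 ht).2 ▸ hmon t)
        simpa only [hg] using hσJ (g (p.coeff t))
      rw [← Ideal.map_pow, ← Ideal.mem_comap, Ideal.comap_map_of_surjective _ Ideal.Quotient.mk_surjective,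
        ← RingHom.ker_eq_comap_bot, Ideal.mk_ker, sup_eq_left.2 (Ideal.pow_le_pow_right (by omega))] at hev
      have hc := Groth.Agent.LinType.quasiRegular x hreg hPt hev s
      by_contra hne
      have hsT : s ∈ T := Finset.mem_filter.2 ⟨MvPolynomial.mem_support_iff.2 hne, hs'⟩
      simp only [Pt, MvPolynomial.coeff_sum, MvPolynomial.coeff_monomial, Finset.sum_ite_eq', if_pos hsT] at hc
      exact hne (by rw [← hg (p.coeff s)]; exact Ideal.Quotient.eq_zero_iff_mem.2 hc)
  let e₀ := AlgEquiv.ofBijective Ψ ⟨hinj, hsurj⟩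
  refine ⟨e₀.symm, fun i => ?_, fun a => ?_⟩
  · apply e₀.injective
    rw [e₀.apply_symm_apply]
    show _ = Ψ₀ (MvPolynomial.X i)
    simp [Ψ₀, xb]
  · obtain ⟨q, hq⟩ := Ideal.Quotient.mk_surjective (e₀.symm (Ideal.Quotient.mk _ a))
    rw [← hq, ← map_sub]
    refine Ideal.mem_map_of_mem _ ?_
    have h0 : Ψ₀ q = Ideal.Quotient.mk _ a := by
      have := congrArg e₀ hq
      rw [e₀.apply_symm_apply] at this
      exact this
    have h1 := congrArg π h0
    have hπΨ : ∀ q, π (Ψ₀ q) = q.constantCoeff := by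
      intro q
      induction q using MvPolynomial.induction_on with
      | C b => simp [Ψ₀, hσ]
      | add p q hp hq => simp only [map_add, hp, hq]
      | mul_X p i _ =>
        simp only [map_mul, Ψ₀, MvPolynomial.eval₂Hom_X', MvPolynomial.constantCoeff_X, mul_zero]
        have : π (xb i) = 0 := by
          rw [hπmk, Ideal.Quotient.eq_zero_iff_mem]; exact Ideal.subset_span ⟨i, rfl⟩
        rw [this, mul_zero]
    rw [hπΨ, hπmk] at h1
    show q - MvPolynomial.C (Ideal.Quotient.mk J a) ∈ MvPolynomial.idealOfVars (Fin d) B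
    rw [← pow_one (MvPolynomial.idealOfVars (Fin d) B), MvPolynomial.mem_pow_idealOfVars_iff']
    intro s hs
    rw [Nat.lt_one_iff, Finsupp.degree_eq_zero_iff] at hs
    subst hs
    rw [MvPolynomial.coeff_sub, MvPolynomial.coeff_zero_C, ← h1, MvPolynomial.constantCoeff_eq, sub_self]

end Groth.Agent.S18417
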