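import Groth.Statements.S18418
import Groth.Agent.FLLib.Strict
-- import your own Groth.Agent.* helpers here

set_option autoImplicit false
universe u v
open FonLaf

namespace Groth.Agent.S18418

/-- Let k be a perfect field of characteristic p and W = W(k) its ring of Witt vectors with Frobenius σ.
Fix r and W-modules of finite length N_0 = M, N_1, N_2, … with W-linear maps α_i : N_{i+1} → N_i and
σ-semilinear maps φ_i : N_i → M such that φ_i ∘ α_i = p φ_{i+1} for all i < r. Let ι be the map
sending (x_1, …, x_r) ∈ N_1 ⊕ ⋯ ⊕ N_r to (α_0 x_1, α_1 x_2 − p x_1, …, α_{r−1} x_r − p x_{r−1}, −p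
x_r) ∈ N_0 ⊕ ⋯ ⊕ N_r, and Φ the map N_0 ⊕ ⋯ ⊕ N_r → M, (y_i) ↦ Σ_i φ_i(y_i). Suppose that Φ is
surjective and that its kernel is contained in the image of ι (with the displayed relation this says
that Φ induces a σ-semilinear bijection from the cokernel of ι onto M). Then for every i < r the map
α_i is injective and its image is a direct summand of N_i (so the N_i form a filtration of M by
direct summands, the data of a Fontaine–Laffaille module). Families are indexed by all natural
numbers; only the indices ≤ r enter. -/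
theorem result (p : ℕ) [Fact p.Prime]
    (k : Type u) [Field k] [CharP k p] [PerfectRing k p] (r : ℕ)
    (N : ℕ → Type v) [∀ i, AddCommGroup (N i)] [∀ i, Module (WittVector p k) (N i)]
    (hfl : ∀ i, IsFiniteLength (WittVector p k) (N i))
    (α : ∀ i, N (i + 1) →ₗ[WittVector p k] N i)
    (φ : ∀ i, N i →ₛₗ[(WittVector.frobenius : WittVector p k →+* WittVector p k)] N 0)
    (hφ : ∀ i, i < r → ∀ y : N (i + 1), φ i (α i y) = (p : WittVector p k) • φ (i + 1) y)
    (hsurj : ∀ m : N 0, ∃ y : (i : ℕ) → N i, (∀ i, r < i → y i = 0) ∧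
      (Finset.range (r + 1)).sum (fun i => φ i (y i)) = m)
    (hker : ∀ y : (i : ℕ) → N i, (∀ i, r < i → y i = 0) →
      (Finset.range (r + 1)).sum (fun i => φ i (y i)) = 0 →
        ∃ z : (i : ℕ) → N (i + 1), (∀ i, r ≤ i → z i = 0) ∧
          y 0 = α 0 (z 0) ∧ ∀ i, y (i + 1) = α (i + 1) (z (i + 1)) - (p : WittVector p k) • z i)
    (i : ℕ) (hi : i < r) :
    Function.Injective (α i) ∧
      ∃ Q : Submodule (WittVector p k) (N i), IsCompl (LinearMap.range (α i)) Q := by
  classical
  haveI : RingHomSurjective (WittVector.frobenius : WittVector p k →+* WittVector p k) :=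
    ⟨(WittVector.frobenius_bijective p k).surjective⟩
  haveI : ∀ j, IsNoetherian (WittVector p k) (N j) := fun j =>
    (isFiniteLength_iff_isNoetherian_isArtinian.mp (hfl j)).1
  haveI : ∀ j, IsArtinian (WittVector p k) (N j) := fun j =>
    (isFiniteLength_iff_isNoetherian_isArtinian.mp (hfl j)).2
  let ext : ((j : Fin r) → N (j.val + 1)) → (∀ j : ℕ, N (j + 1)) := fun x j =>
    if h : j < r then x ⟨j, h⟩ else 0
  have ext_lt : ∀ x j (h : j < r), ext x j = x ⟨j, h⟩ := fun x j h => by simp [ext, h]
  have ext_ge : ∀ x j, r ≤ j → ext x j = 0 := fun x j h => by simp [ext, Nat.not_lt.mpr h]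
  have ext_add : ∀ x y j, ext (x + y) j = ext x j + ext y j := fun x y j => by
    by_cases h : j < r <;> simp [ext, h]
  have ext_smul : ∀ (c : WittVector p k) x j, ext (c • x) j = c • ext x j := fun c x j => by
    by_cases h : j < r <;> simp [ext, h]
  let ι : ((j : Fin r) → N (j.val + 1)) →ₗ[WittVector p k] N 0 × ((j : Fin r) → N (j.val + 1)) :=
    { toFun := fun x => (α 0 (ext x 0),
        fun j => α (j.val + 1) (ext x (j.val + 1)) - (p : WittVector p k) • x j)
      map_add' := fun x y => by
        refine Prod.ext ?_ (funext fun j => ?_)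
        · simp [ext_add]
        · simp only [ext_add, map_add, Pi.add_apply, Prod.snd_add, smul_add]
          abel
      map_smul' := fun c x => by
        refine Prod.ext ?_ (funext fun j => ?_)
        · simp [ext_smul]
        · simp only [ext_smul, map_smul, Pi.smul_apply, Prod.smul_snd, RingHom.id_apply, smul_sub]
          rw [smul_comm] }
  let Φ : N 0 × ((j : Fin r) → N (j.val + 1))
      →ₛₗ[(WittVector.frobenius : WittVector p k →+* WittVector p k)] N 0 :=
    { toFun := fun c => φ 0 c.1 + ∑ j : Fin r, φ (j.val + 1) (c.2 j)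
      map_add' := fun a b => by
        simp only [Prod.fst_add, Prod.snd_add, Pi.add_apply, map_add, Finset.sum_add_distrib]
        abel
      map_smul' := fun a b => by
        simp only [Prod.smul_fst, Prod.smul_snd, Pi.smul_apply, map_smulₛₗ, smul_add,
          Finset.smul_sum] }
  let mk : N 0 × ((j : Fin r) → N (j.val + 1)) → (∀ j, N j) := fun c j =>
    match j with
    | 0 => c.1
    | n + 1 => ext c.2 n
  have mk_sum : ∀ c, (Finset.range (r + 1)).sum (fun j => φ j (mk c j)) = Φ c := by
    intro c
    rw [Finset.sum_range_succ', add_comm]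
    show φ 0 c.1 + _ = φ 0 c.1 + _
    rw [Finset.sum_range (fun n => φ (n + 1) (mk c (n + 1)))]
    congr 1
    refine Finset.sum_congr rfl fun j _ => ?_
    show φ (j.val + 1) (ext c.2 j.val) = _
    rw [ext_lt _ _ j.isLt]
  have mk_zero : ∀ c j, r < j → mk c j = 0 := by
    intro c j hj
    obtain ⟨n, rfl⟩ : ∃ n, j = n + 1 := ⟨j - 1, by omega⟩
    exact ext_ge _ _ (by omega)
  have hs : Function.Surjective Φ := by
    intro m
    obtain ⟨y, hy, hm⟩ := hsurj m
    refine ⟨(y 0, fun j => y (j.val + 1)), ?_⟩
    rw [← hm, Finset.sum_range_succ', add_comm]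
    show φ 0 (y 0) + _ = φ 0 (y 0) + _
    rw [Finset.sum_range (fun n => φ (n + 1) (y (n + 1)))]
  have hk : ∀ c, Φ c = 0 → ∃ x, ι x = c := by
    intro c hc
    obtain ⟨z, hz, h0, hsucc⟩ := hker (mk c) (mk_zero c) (by rw [mk_sum, hc])
    have hze : ∀ j, ext (fun j : Fin r => z j.val) j = z j := by
      intro j
      by_cases h : j < r
      · exact ext_lt (fun j : Fin r => z j.val) j h
      · exact (ext_ge (fun j : Fin r => z j.val) j (by omega)).trans (hz j (by omega)).symm
    refine ⟨fun j : Fin r => z j.val, Prod.ext ?_ (funext fun j => ?_)⟩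
    · exact (congrArg (α 0) (hze 0)).trans h0.symm
    · refine (congrArg (fun w => α (j.val + 1) w - (p : WittVector p k) • z j.val)
        (hze (j.val + 1))).trans ((hsucc j.val).symm.trans ?_)
      exact ext_lt c.2 j.val j.isLt
  have hpfix : (WittVector.frobenius : WittVector p k →+* WittVector p k) (p : WittVector p k) =
      (p : WittVector p k) := map_natCast _ p
  have h0 : ∀ x, Φ (ι x) = 0 := by
    intro x
    let a : ℕ → N 0 := fun j => φ j (α j (ext x j))
    have hterm : ∀ j : Fin r,
        φ (j.val + 1) (α (j.val + 1) (ext x (j.val + 1)) - (p : WittVector p k) • x j) =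
          a (j.val + 1) - a j.val := by
      intro j
      simp only [a]
      rw [map_sub, map_smulₛₗ, hpfix, ← hφ j.val j.isLt, ext_lt x j.val j.isLt]
    refine (congrArg (fun w => a 0 + w) (Finset.sum_congr rfl fun j _ => hterm j)).trans ?_
    rw [← Finset.sum_range (fun n => a (n + 1) - a n),
      Finset.sum_range_sub a r, add_sub_cancel]
    simp only [a]
    rw [ext_ge x r le_rfl, map_zero, map_zero]
  have strict : ∀ (q : WittVector p k),
      (WittVector.frobenius : WittVector p k →+* WittVector p k) q = q →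
      ∀ x, (∃ c, q • c = ι x) → ∃ y, q • y = x := fun q hq x hx =>
    Groth.Agent.FLLib.mem_smul_of_map_mem_smul ι Φ hs h0 hk q hq x hx
  have key : ∀ (n : ℕ) (x : N (i + 1)) (b : N i),
      (p : WittVector p k) ^ n • b = α i x → ∃ y, (p : WittVector p k) ^ n • y = x := by
    intro n
    induction n with
    | zero => intro x b _; exact ⟨x, by rw [pow_zero, one_smul]⟩
    | succ n ih =>
      intro x b hb
      obtain ⟨x', hx'⟩ := ih x ((p : WittVector p k) • b) (by rw [smul_smul, ← pow_succ, hb])
      let e : (j : Fin r) → N (j.val + 1) := Pi.single ⟨i, hi⟩ x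
      let e' : (j : Fin r) → N (j.val + 1) := Pi.single ⟨i, hi⟩ x'
      have hee : ∀ j : Fin r, (p : WittVector p k) ^ n • e' j = e j := by
        intro j
        by_cases h : j = ⟨i, hi⟩
        · subst h; simp [e, e', hx']
        · simp [e, e', h]
      have hae : ∀ m, ∃ b' : N m, (p : WittVector p k) ^ (n + 1) • b' = α m (ext e m) := by
        intro m
        by_cases h : m = i
        · subst h
          exact ⟨b, by rw [hb, ext_lt e m hi]; simp [e]⟩
        · refine ⟨0, ?_⟩
          have : ext e m = 0 := by
            by_cases hm : m < r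
            · rw [ext_lt e m hm]
              exact Pi.single_eq_of_ne (fun hc => h (congrArg Fin.val hc)) _
            · exact ext_ge e m (by omega)
          rw [this, map_zero, smul_zero]
      choose b' hb' using hae
      obtain ⟨y, hy⟩ := strict ((p : WittVector p k) ^ (n + 1))
        (by rw [map_pow, hpfix]) e ⟨(b' 0, fun j => b' (j.val + 1) - e' j), by
          refine Prod.ext ?_ (funext fun j => ?_)
          · exact hb' 0
          · show (p : WittVector p k) ^ (n + 1) • (b' (j.val + 1) - e' j) =
              α (j.val + 1) (ext e (j.val + 1)) - (p : WittVector p k) • e j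
            rw [smul_sub, hb', ← hee j, smul_smul (p : WittVector p k), ← pow_succ']⟩
      refine ⟨y ⟨i, hi⟩, ?_⟩
      have := congrFun hy ⟨i, hi⟩
      simpa [e] using this
  have hirr : Irreducible (p : WittVector p k) := WittVector.irreducible p
  have tors : ∀ j, ∃ m : ℕ, ∀ x : N j, (p : WittVector p k) ^ m • x = 0 := by
    intro j
    obtain ⟨m, hm⟩ := IsArtinian.monotone_stabilizes (R := WittVector p k) (M := N j)
      ⟨fun n => OrderDual.toDual
        (LinearMap.range (LinearMap.lsmul (WittVector p k) (N j) ((p : WittVector p k) ^ n))), by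
        intro n n' hnn'
        rintro _ ⟨x, rfl⟩
        refine ⟨(p : WittVector p k) ^ (n' - n) • x, ?_⟩
        simp only [LinearMap.lsmul_apply, smul_smul, ← pow_add]
        rw [Nat.add_sub_cancel' hnn']⟩
    set P := LinearMap.range (LinearMap.lsmul (WittVector p k) (N j) ((p : WittVector p k) ^ m))
    have hP : P = ⊥ := by
      refine Submodule.eq_bot_of_le_smul_of_le_jacobson_bot (Ideal.span {(p : WittVector p k)}) P
        (IsNoetherian.noetherian P) ?_ ?_
      · intro w hw
        have h := hm (m + 1) (Nat.le_succ m)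
        have hw' : w ∈ LinearMap.range
            (LinearMap.lsmul (WittVector p k) (N j) ((p : WittVector p k) ^ (m + 1))) := by
          have h' : P = LinearMap.range
            (LinearMap.lsmul (WittVector p k) (N j) ((p : WittVector p k) ^ (m + 1))) := h
          rw [← h']; exact hw
        obtain ⟨x, rfl⟩ := hw'
        rw [LinearMap.lsmul_apply, pow_succ', ← smul_smul]
        exact Submodule.smul_mem_smul (Ideal.mem_span_singleton_self _) ⟨x, rfl⟩
      · rw [IsLocalRing.jacobson_eq_maximalIdeal _ bot_ne_top,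
          Irreducible.maximalIdeal_eq hirr]
    exact ⟨m, fun x => (Submodule.eq_bot_iff _).mp hP _ ⟨x, rfl⟩⟩
  have hinj : Function.Injective (α i) := by
    rw [injective_iff_map_eq_zero]
    intro x hx
    obtain ⟨m, hm⟩ := tors (i + 1)
    obtain ⟨y, hy⟩ := key m x 0 (by rw [smul_zero, hx])
    rw [← hy, hm]
  refine ⟨hinj, Groth.Agent.FLLib.exists_isCompl_of_pure _ ?_ ?_⟩
  · intro w
    obtain ⟨m, hm⟩ := tors i
    obtain ⟨b, rfl⟩ := Submodule.mkQ_surjective _ w
    refine ⟨⟨(p : WittVector p k) ^ m, mem_nonZeroDivisors_of_ne_zero (pow_ne_zero _ hirr.ne_zero)⟩, ?_⟩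
    rw [Submonoid.smul_def]
    rw [← map_smul, hm, map_zero]
  · intro q b hqb
    by_cases hq : q = 0
    · subst hq
      exact ⟨0, zero_mem _, by simp⟩
    obtain ⟨m, u, rfl⟩ := WittVector.exists_eq_pow_p_mul' q hq
    obtain ⟨x, hx⟩ := hqb
    obtain ⟨y, hy⟩ := key m x ((u : WittVector p k) • b) (by rw [smul_smul, hx])
    refine ⟨α i ((↑u⁻¹ : WittVector p k) • y), ⟨_, rfl⟩, ?_⟩
    rw [← map_smul, smul_smul, mul_assoc, Units.mul_inv, mul_one, hy, hx]

end Groth.Agent.S18418
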