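import Groth.Statements.S18438
import Groth.Agent.SurfRR.Curve

set_option autoImplicit false
set_option backward.isDefEq.respectTransparency false
set_option backward.isDefEq.respectTransparency.types false
set_option linter.style.haveILetI false
set_option maxHeartbeats 1000000
universe u
open CategoryTheory CategoryTheory.Limits AlgebraicGeometry TopologicalSpace
open Surf

namespace Groth.Agent.S18438
open Groth.Agent
open scoped Groth.Agent.H23.PicMul

/-- Let k be an algebraically closed field and X a smooth projective surface over k whose anticanonical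
module is ample: X is an integral scheme, proper and smooth over k of dimension 2, W is a canonical
module (a second exterior power of Ω_{X/k}) and D a tensor inverse of W which is ample. Intersection
numbers of invertible modules are (L·M) = χ(O_X) − χ(L) − χ(M) + χ(L ⊗ M), so that for a closed
subscheme C with ideal I_C one has C·C = (I_C·I_C) and K·C = −(I_C·W). If C ⊆ X is an integral
closed one-dimensional subscheme with C·C < 0, then C is an exceptional curve of the first kind: C·C
= −1, K·C = −1 and H¹(C, O_C) = 0. (The published statement concerns del Pezzo surfaces of degree d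
embedded in projective d-space; its argument uses only the ampleness of the anticanonical module,
which is the hypothesis taken here.) -/
theorem result (k : Type u) [Field k] [IsAlgClosed k] (X : Scheme.{u})
    [X.Over (Spec (CommRingCat.of k))] [IsIntegral X] [IsProper (X ↘ (Spec (CommRingCat.of k)))] [Smooth (X ↘ (Spec (CommRingCat.of k)))]
    (hdim : topologicalKrullDim X = 2)
    (W : X.Modules) (hW : ExtPow.IsExtPow 2 (Omega.sheaf (X ↘ (Spec (CommRingCat.of k)))) W)
    (D : X.Modules) (hD : ClSub.IsInverseOf D W) (hample : CohB1.IsAmple D)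
    (C : X.IdealSheafData) (hC : IsIntegral C.subscheme) (hC1 : topologicalKrullDim (C.support : Set X) = 1)
    (hneg : FGA.intNum k X 2 ![ClSub.idealMod C, ClSub.idealMod C] (Coh.structureModule X) < 0) :
    FGA.intNum k X 2 ![ClSub.idealMod C, ClSub.idealMod C] (Coh.structureModule X) = -1 ∧
      FGA.intNum k X 2 ![ClSub.idealMod C, W] (Coh.structureModule X) = 1 ∧
      Subsingleton (Coh.HH C.subscheme (Coh.structureModule C.subscheme) 1) := by
  haveI := CurveCohLib.isNoetherian_of_proper (k := k) (X := X)
  have hdim2 : topologicalKrullDim X = ((2 : ℕ) : WithBot ℕ∞) := by rw [hdim]; rfl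
  have hWi := SurfRR.isInvertible_canonical k hdim2 (SurfRR.exists_proj_smooth k hdim2) hW
  have hCc := SurfRR.isEffCartier_curve k hdim2 hC hC1 (SurfRR.regular_of_smooth (X := X) k)
  have hI := (S8914.result C).2 hCc
  obtain ⟨eD⟩ := hD
  have hQ : Coh.IsCoh (ClSub.quotMod C) := ParShLib.isCoh_quotMod C
  have hQd : topologicalKrullDim ↥(CohB1.support (ClSub.quotMod C)) = ((1 : ℕ) : WithBot ℕ∞) := by
    haveI := hC
    exact (BigMono.dim_support_push k C.subschemeι).trans (SurfRR.dim_subscheme hC1)
  have hpos : 0 < IntSym.sym k [D] (ClSub.quotMod C) := (HilbPoly.mult_nonneg_and_pos k hample 1 _ hQ hQd.le).2 hQd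
  have h3 := IntSym.sym_inverse_head k hample.1 hWi eD (l := []) (List.forall_mem_nil _) hQ hQd.le
  rw [SurfRR.intNum_two k hdim2.le hI hI] at hneg ⊢
  rw [SurfRR.intNum_two k hdim2.le hI hWi]
  have hadj := SurfRR.adjunction k hdim2 hCc hW
  have h2 := SurfRR.pair_idealMod k hdim2 hCc hWi
  obtain ⟨h5, h6⟩ := SurfRR.euler_curve k hC hC1
  exact ⟨by omega, by omega, h6.1 (by omega)⟩

end Groth.Agent.S18438
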