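import Groth.Statements.S18440
import Groth.Agent.SurfRR.Curve

set_option autoImplicit false
set_option backward.isDefEq.respectTransparency false
set_option backward.isDefEq.respectTransparency.types false
set_option linter.style.haveILetI false
set_option maxHeartbeats 1000000
universe u
open CategoryTheory CategoryTheory.Limits AlgebraicGeometry TopologicalSpace
open Surf

namespace Groth.Agent.S18440
open Groth.Agent
open scoped Groth.Agent.H23.PicMul

/-- Let k be an algebraically closed field and X a smooth projective surface over k (an integral scheme,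
proper and smooth over k of dimension 2) with H¹(X, O_X) = 0, and W a canonical module of X (a
second exterior power of Ω_{X/k}). Let C ⊆ X be an integral closed one-dimensional subscheme, smooth
over k, of arithmetic genus one, written χ(O_C) = 0 with the Euler characteristic of O_C computed on
X through the closed immersion (k being algebraically closed and C integral, H⁰(C, O_C) = k, so this
says dim_k H¹(C, O_C) = 1), whose module O_X(C) — a tensor inverse N of the ideal I_C — is ample.
Then W ≅ I_C, that is ω_X ≅ O_X(−C) (existence of an isomorphism of invertible modules). (The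
published statement is that a smooth del Pezzo surface of degree d embedded in projective d-space
has canonical module O_X(−1); its argument takes C a general hyperplane section and uses about the
embedding only that C is a smooth curve of genus one and that H¹(X, O_X) vanishes, facts it draws
from results quoted without proof; those two properties are the hypotheses here.) -/
theorem result (k : Type u) [Field k] [IsAlgClosed k] (X : Scheme.{u})
    [X.Over (Spec (CommRingCat.of k))] [IsIntegral X] [IsProper (X ↘ (Spec (CommRingCat.of k)))] [Smooth (X ↘ (Spec (CommRingCat.of k)))]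
    (hdim : topologicalKrullDim X = 2)
    (W : X.Modules) (hW : ExtPow.IsExtPow 2 (Omega.sheaf (X ↘ (Spec (CommRingCat.of k)))) W)
    (hq : Subsingleton (Coh.HH X (Coh.structureModule X) 1))
    (C : X.IdealSheafData) (hC : IsIntegral C.subscheme) (hC1 : topologicalKrullDim (C.support : Set X) = 1)
    (hCs : Smooth (C.subschemeι ≫ (X ↘ (Spec (CommRingCat.of k)))))
    (hg : Curv2.euler k X (ClSub.quotMod C) = 0)
    (N : X.Modules) (hN : ClSub.IsInverseOf N (ClSub.idealMod C)) (hNample : CohB1.IsAmple N) :
    Nonempty (W ≅ ClSub.idealMod C) := by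
  haveI := CurveCohLib.isNoetherian_of_proper (k := k) (X := X)
  have hdim2 : topologicalKrullDim X = ((2 : ℕ) : WithBot ℕ∞) := by rw [hdim]; rfl
  have hWi := SurfRR.isInvertible_canonical k hdim2 (SurfRR.exists_proj_smooth k hdim2) hW
  haveI : X.IsSeparated := AmpleVan.isSeparated_of_proper (A := k)
  have hreg := SurfRR.regular_of_smooth (X := X) k
  have hproj := SurfRR.exists_proj_smooth k hdim2
  have hCc := SurfRR.isEffCartier_curve k hdim2 hC hC1 hreg
  have hI := (S8914.result C).2 hCc
  obtain ⟨eN⟩ := hN
  have hMi := InvX.isInvertible_tensorMod hWi hNample.1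
  have hadj := SurfRR.adjunction k hdim2 hCc hW
  rw [hg, mul_zero, sub_zero] at hadj
  have hinv : ∀ {P : X.Modules}, PicF.IsInvertible P → SurfRR.pair k N P = - SurfRR.pair k (ClSub.idealMod C) P :=
    fun hP => SurfRR.pair_inverse k hdim2.le hI hNample.1 (CurveTensor.commIso _ _ ≪≫ eN) hP
  have hMN : SurfRR.pair k (CohB1.tensorMod W N) N = 0 := by
    rw [SurfRR.pair_tensor k hdim2.le hWi hNample.1 hNample.1, SurfRR.pair_comm k hWi hNample.1, hinv hWi,
      hinv hNample.1, SurfRR.pair_comm k hI hNample.1, hinv hI]
    omega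
  have hMW : SurfRR.pair k (CohB1.tensorMod W N) (CohB1.tensorMod W N) = SurfRR.pair k (CohB1.tensorMod W N) W := by
    rw [SurfRR.pair_comm k hMi hMi, SurfRR.pair_tensor k hdim2.le hWi hNample.1 hMi, SurfRR.pair_comm k hWi hMi,
      SurfRR.pair_comm k hNample.1 hMi, hMN, add_zero]
  have hrr := SurfRR.riemann_roch k hdim2 hproj hW hMi
  rw [hMW, sub_self, zero_add] at hrr
  have clIN : PicF.cl (CohB1.tensorMod (ClSub.idealMod C) N) = PicF.cl (Coh.structureModule X) :=
    H23.PicMul.cl_eq_iff.2 ⟨CurveTensor.commIso _ _ ≪≫ eN⟩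
  obtain ⟨Mi, hM', ⟨uM⟩⟩ := H23.PicInv.exists_inverse hMi
  obtain ⟨eI⟩ : Nonempty (CohB1.tensorMod W Mi ≅ ClSub.idealMod C) :=
    H23.PicMul.cl_eq_iff.1 ((H23.PicMul.isUnit_cl hNample.1).mul_right_cancel (by
      rw [H23.PicMul.cl_tensor, mul_right_comm, ← H23.PicMul.cl_tensor, ← H23.PicMul.cl_tensor,
        H23.PicMul.cl_eq_iff.2 ⟨uM⟩, ← H23.PicMul.cl_tensor,
        clIN]))
  have hI0 : Module.finrank k (Coh.HH X (ClSub.idealMod C) 0) = 0 := by
    by_contra h0
    have h := SurfRR.pair_nonneg_of_section k hdim2 hI hNample (Nat.pos_of_ne_zero h0)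
    have h' := SurfRR.pair_self_pos k hNample hdim2
    rw [hinv hNample.1] at h'
    omega
  have hM2 : Module.finrank k (Coh.HH X (CohB1.tensorMod W N) 2) = 0 := by
    rw [SurfRR.finrank_dual k hdim2 hproj hW hMi uM (q := 2) le_rfl, (S2926.hhIso k eI _).finrank_eq]
    exact hI0
  have h0 : 0 < Module.finrank k (Coh.HH X (CohB1.tensorMod W N) 0) := by
    have h1 := SurfRR.euler_three k hdim2 (AmpleVan.isCoh_invertible hMi).1
    have h2 := SurfRR.euler_three k hdim2 (QCoh.isQCoh_structureModule (X := X))
    rw [SurfRR.finrank_h0_structure k X, Module.finrank_zero_of_subsingleton (M := Coh.HH X _ 1)] at h2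
    omega
  obtain ⟨τ, hτ⟩ := VolLib.exists_section_of_pos (k := k) h0
  let s : Coh.structureModule X ⟶ (CohB1.tensorMod W N) := InvX.ofSect τ
  have hs : s ≠ 0 := fun h => hτ (by
    rw [← InvX.one_ofSect τ]
    exact congrArg InvX.one h)
  obtain ⟨D, hD, ⟨eD⟩, hDs⟩ := AffCompl.exists_divisor_of_section hMi s hs
  have hDi := (S8914.result D).2 hD
  have hsym : IntSym.sym k [N] (ClSub.quotMod D) = 0 := by
    have h1 := SurfRR.pair_idealMod k hdim2 hD hNample.1
    have h2 := SurfRR.pair_inverse k hdim2.le hMi hDi eD hNample.1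
    omega
  have hDe : (D.support : Set X) = ∅ := Set.eq_empty_of_forall_notMem fun x hx => by
    obtain ⟨ξ, hξD, -, hξ⟩ := AffCompl.exists_curve_point k hdim2 hD hx
    have hsupp : CohB1.support (ClSub.quotMod D) = (D.support : Set X) := by
      rw [← Scheme.IdealSheafData.range_subschemeι D]
      refine Set.Subset.antisymm (QCoh.support_push_subset D.subschemeι QCoh.isQCoh_structureModule) ?_
      rintro _ ⟨z, rfl⟩ hz
      haveI : Subsingleton (((Coh.push D.subschemeι).obj (Coh.structureModule D.subscheme)).presheaf.stalk (D.subschemeι z)) := hz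
      have h := H23.ClosedPushLen.length_stalk D.subschemeι (Coh.structureModule D.subscheme) z
      rw [Module.length_eq_zero, H23.ClosedPushLen.length_structureModule] at h
      exact absurd (Module.length_eq_zero_iff.1 h.symm) (not_subsingleton _)
    have hd1 : topologicalKrullDim ↥(CohB1.support (ClSub.quotMod D)) = ((1 : ℕ) : WithBot ℕ∞) := by
      rw [hsupp]
      refine le_antisymm (HilbPoly.le_of_lt_succ ((H23.TopDim.dim_lt_of_ssubset (X := X) ?_ D.support.isClosed ?_).trans_le hdim2.le)) ?_
      · rw [hdim2]
        exact WithBot.coe_inj.not.2 (ENat.natCast_ne_top _)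
      · intro h
        have hη : genericPoint ↥X ∈ (D.support : Set X) := h ▸ Set.mem_univ _
        rw [hDs] at hη
        exact hη (by
          haveI := InvEnd.mono_of_ne_zero InvX.isInvertible_structureModule hMi s hs
          exact NakaiMo.genericPoint_mem_genLocus hMi s)
      · have h1 := VarDim.topologicalKrullDim_closure_singleton (X ↘ Spec (CommRingCat.of k)) ξ
        rw [hξ] at h1
        exact h1.ge.trans (H23.TopDim.dim_le_dim_of_subset
          (D.support.isClosed.closure_subset_iff.2 (Set.singleton_subset_iff.2 hξD)))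
    have h := (HilbPoly.mult_nonneg_and_pos k hNample 1 _ (ParShLib.isCoh_quotMod D) hd1.le).2 hd1
    rw [← IntSym.sym_replicate] at h
    exact h.ne' hsym
  haveI := AffCompl.isIso_of_genLocus s (TopologicalSpace.Opens.ext (by
    rw [hDs, Set.compl_empty_iff] at hDe
    exact hDe))
  exact H23.PicMul.cl_eq_iff.1 ((H23.PicMul.isUnit_cl hNample.1).mul_right_cancel (by
    rw [← H23.PicMul.cl_tensor, ← H23.PicMul.cl_tensor, clIN,
      H23.PicMul.cl_eq_iff.2 ⟨(asIso s).symm⟩]))

end Groth.Agent.S18440
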