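import Groth.Statements.S18451
import Groth.Agent.SurfRR.Config
-- import your own Groth.Agent.* helpers here

set_option autoImplicit false
set_option backward.isDefEq.respectTransparency false
set_option backward.isDefEq.respectTransparency.types false
set_option linter.style.haveILetI false
set_option maxHeartbeats 1000000
universe u
open CategoryTheory CategoryTheory.Limits AlgebraicGeometry TopologicalSpace
open Surf

namespace Groth.Agent.S18451
open Groth.Agent

/-- Let k be an algebraically closed field of characteristic zero and X a smooth projective surface over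
k (integral, proper and smooth over k, of dimension 2, carrying an ample invertible module). Let
C_1, …, C_r be pairwise distinct integral curves on X (integral closed one-dimensional subschemes
with ideal sheaves I_1, …, I_r) and write G_{ij} = (I_i·I_j) = χ(O_X) − χ(I_i) − χ(I_j) + χ(I_i ⊗
I_j) for their intersection matrix. Suppose the classes of the C_i span a negative definite
sublattice modulo numerical equivalence: for every integer vector a such that Σ_i a_i [C_i] is
numerically nontrivial, meaning that Σ_i a_i (I_i·M) ≠ 0 for some invertible O_X-module M, one has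
Σ_{i,j} a_i a_j G_{ij} < 0. Then the classes are linearly independent, i.e. G itself is negative
definite: Σ_{i,j} a_i a_j G_{ij} < 0 for every nonzero integer vector a. -/
theorem result (k : Type u) [Field k] [IsAlgClosed k] [CharZero k]
    (X : Scheme.{u}) [X.Over (Spec (CommRingCat.of k))] [IsProper (X ↘ (Spec (CommRingCat.of k)))]
    [Smooth (X ↘ (Spec (CommRingCat.of k)))] [IsIntegral X] (hdim : topologicalKrullDim X = 2)
    (hproj : ∃ H : X.Modules, CohB1.IsAmple H)
    (r : ℕ) (C : Fin r → X.IdealSheafData) (hC : Function.Injective C)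
    (hCi : ∀ i, IsIntegral (C i).subscheme) (hCd : ∀ i, topologicalKrullDim ((C i).support : Set X) = 1)
    (hneg : ∀ a : Fin r → ℤ,
      (∃ M : X.Modules, PicF.IsInvertible M ∧
        ∑ i, a i * FGA.intNum k X 2 ![(ClSub.idealMod (C i)), M] (Coh.structureModule X) ≠ 0) →
      ∑ i, ∑ j, a i * a j * FGA.intNum k X 2 ![(ClSub.idealMod (C i)), (ClSub.idealMod (C j))] (Coh.structureModule X) < 0) :
    ∀ a : Fin r → ℤ, a ≠ 0 →
      ∑ i, ∑ j, a i * a j * FGA.intNum k X 2 ![(ClSub.idealMod (C i)), (ClSub.idealMod (C j))] (Coh.structureModule X) < 0 := by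
  have hd : topologicalKrullDim X = ((2 : ℕ) : WithBot ℕ∞) := by rw [hdim]; rfl
  haveI := CurveCohLib.isNoetherian_of_proper (k := k) (X := X)
  have hreg := SurfRR.regular_of_smooth (X := X) k
  obtain ⟨H, hH⟩ := hproj
  have hCc := fun i => SurfRR.isEffCartier_curve k hd (hCi i) (hCd i) hreg
  have hI := fun i => (S8914.result (C i)).2 (hCc i)
  have hP : ∀ i j, FGA.intNum k X 2 ![(ClSub.idealMod (C i)), (ClSub.idealMod (C j))] (Coh.structureModule X) =
      SurfRR.pair k (ClSub.idealMod (C i)) (ClSub.idealMod (C j)) := fun i j => SurfRR.intNum_two k hd.le (hI i) (hI j)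
  have hoff : ∀ i j, i ≠ j → 0 ≤ SurfRR.pair k (ClSub.idealMod (C i)) (ClSub.idealMod (C j)) := fun i j hij =>
    SurfRR.pair_nonneg_curves k hd (hCi j) (hCd j) (hCi i) (hCd i) hreg fun h => hij (hC h.symm)
  have hCH : ∀ i, SurfRR.pair k (ClSub.idealMod (C i)) H < 0 := fun i => by
    rw [SurfRR.pair_idealMod k hd (hCc i) hH.1]
    exact neg_lt_zero.2 (SurfRR.sym_pos_divisor k hd (hCc i) (SurfRR.curve_ne_top hd (hCi i)) hH)
  simp only [hP] at hneg ⊢
  intro a ha
  by_cases hM : ∃ M : X.Modules, PicF.IsInvertible M ∧ ∑ i, a i * SurfRR.pair k (ClSub.idealMod (C i)) M ≠ 0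
  · obtain ⟨M, hMi, hM⟩ := hM
    refine hneg a ⟨M, hMi, ?_⟩
    simp_rw [SurfRR.intNum_two k hd.le (hI _) hMi]
    exact hM
  exfalso
  push Not at hM
  set p : Fin r → ℤ := fun i => max (a i) 0 with hp
  set q : Fin r → ℤ := fun i => max (- a i) 0 with hq
  have hapq : ∀ i, a i = p i - q i := fun i => by simp only [hp, hq]; omega
  have hpH : ∀ b : Fin r → ℤ, (∀ i, 0 ≤ b i) → b ≠ 0 → ∑ i, b i * SurfRR.pair k (ClSub.idealMod (C i)) H < 0 := by
    intro b hb hb0
    obtain ⟨i, hi⟩ := Function.ne_iff.1 hb0
    refine Finset.sum_neg' (fun j _ => mul_nonpos_of_nonneg_of_nonpos (hb j) (hCH j).le)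
      ⟨i, Finset.mem_univ i, mul_neg_of_pos_of_neg ?_ (hCH i)⟩
    exact lt_of_le_of_ne (hb i) (Ne.symm hi)
  have heq : ∀ M : X.Modules, PicF.IsInvertible M →
      ∑ i, p i * SurfRR.pair k (ClSub.idealMod (C i)) M = ∑ i, q i * SurfRR.pair k (ClSub.idealMod (C i)) M := fun M hMi => by
    have h := hM M hMi
    simp_rw [hapq, sub_mul, Finset.sum_sub_distrib] at h
    linarith
  by_cases hp0 : p = 0
  · have hq0 : q ≠ 0 := fun hq0 => ha (funext fun i => by rw [hapq i, hp0, hq0]; simp)
    have h := hpH q (fun i => le_max_right _ _) hq0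
    rw [← heq H hH.1, hp0] at h
    simp at h
  · have hlt := hneg p ⟨H, hH.1, by
      simp_rw [SurfRR.intNum_two k hd.le (hI _) hH.1]
      exact (hpH p (fun i => le_max_right _ _) hp0).ne⟩
    rw [Finset.sum_comm] at hlt
    have h2 : ∀ j, ∑ i, p i * p j * SurfRR.pair k (ClSub.idealMod (C i)) (ClSub.idealMod (C j)) =
        ∑ i, q i * p j * SurfRR.pair k (ClSub.idealMod (C i)) (ClSub.idealMod (C j)) := fun j => by
      have h := congrArg (p j * ·) (heq _ (hI j))
      simp only [Finset.mul_sum] at h
      calc _ = _ := Finset.sum_congr rfl fun i _ => (by ring)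
        _ = _ := h
        _ = _ := Finset.sum_congr rfl fun i _ => (by ring)
    simp_rw [h2] at hlt
    refine not_le.2 hlt (Finset.sum_nonneg fun j _ => Finset.sum_nonneg fun i _ => ?_)
    rcases eq_or_ne i j with rfl | hij
    · have : q i * p i = 0 := by
        simp only [hp, hq]
        rcases le_total (a i) 0 with h | h
        · rw [max_eq_right h, mul_zero]
        · rw [max_eq_right (neg_nonpos.2 h), zero_mul]
      rw [this, zero_mul]
    · exact mul_nonneg (mul_nonneg (le_max_right _ _) (le_max_right _ _)) (hoff i j hij)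

end Groth.Agent.S18451
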