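import Groth.Statements.S18458
import Groth.Agent.SurfRR.Config
-- import your own Groth.Agent.* helpers here

set_option autoImplicit false
set_option backward.isDefEq.respectTransparency false
set_option backward.isDefEq.respectTransparency.types false
set_option linter.style.haveILetI false
set_option maxHeartbeats 1000000
universe u
open CategoryTheory CategoryTheory.Limits AlgebraicGeometry TopologicalSpace
open Surf

namespace Groth.Agent.S18458
open Groth.Agent

/-- Let k be an algebraically closed field of characteristic zero and X a smooth projective surface over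
k (integral, proper and smooth over k, of dimension 2, carrying an ample invertible module). Let
C_1, …, C_r be pairwise distinct integral curves on X with ideal sheaves I_i whose intersection
matrix is negative definite: Σ_{i,j} a_i a_j (I_i·I_j) < 0 for every nonzero integer vector a, where
(A·B) = χ(O_X) − χ(A) − χ(B) + χ(A ⊗ B). Then there is an invertible O_X-module L (the sheaf of a
divisor H) which is nef and big and is orthogonal to exactly the curves C_i: writing (L·C) = χ(O_C ⊗
L) − χ(O_C) for the degree of L on an integral curve C, one has (L·C) ≥ 0 for every integral curve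
C, (L·L) > 0, and (L·C) = 0 if and only if C is one of the C_i. -/
theorem result (k : Type u) [Field k] [IsAlgClosed k] [CharZero k]
    (X : Scheme.{u}) [X.Over (Spec (CommRingCat.of k))] [IsProper (X ↘ (Spec (CommRingCat.of k)))]
    [Smooth (X ↘ (Spec (CommRingCat.of k)))] [IsIntegral X] (hdim : topologicalKrullDim X = 2)
    (hproj : ∃ H : X.Modules, CohB1.IsAmple H)
    (r : ℕ) (C : Fin r → X.IdealSheafData) (hC : Function.Injective C)
    (hCi : ∀ i, IsIntegral (C i).subscheme) (hCd : ∀ i, topologicalKrullDim ((C i).support : Set X) = 1)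
    (hneg : ∀ a : Fin r → ℤ, a ≠ 0 →
      ∑ i, ∑ j, a i * a j * FGA.intNum k X 2 ![(ClSub.idealMod (C i)), (ClSub.idealMod (C j))] (Coh.structureModule X) < 0) :
    ∃ L : X.Modules, PicF.IsInvertible L ∧
      (∀ D : X.IdealSheafData, IsIntegral D.subscheme → topologicalKrullDim (D.support : Set X) = 1 →
        0 ≤ Curv2.euler k X (CohB1.tensorMod (ClSub.quotMod D) L) - Curv2.euler k X (ClSub.quotMod D)) ∧
      0 < FGA.intNum k X 2 ![L, L] (Coh.structureModule X) ∧
      (∀ D : X.IdealSheafData, IsIntegral D.subscheme → topologicalKrullDim (D.support : Set X) = 1 →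
        (Curv2.euler k X (CohB1.tensorMod (ClSub.quotMod D) L) - Curv2.euler k X (ClSub.quotMod D) = 0 ↔
          ∃ i, D = C i)) := by
  have hd : topologicalKrullDim X = ((2 : ℕ) : WithBot ℕ∞) := by rw [hdim]; rfl
  haveI := CurveCohLib.isNoetherian_of_proper (k := k) (X := X)
  have hreg := SurfRR.regular_of_smooth (X := X) k
  obtain ⟨H, hH⟩ := hproj
  have hCc := fun i => SurfRR.isEffCartier_curve k hd (hCi i) (hCd i) hreg
  have hI := fun i => (S8914.result (C i)).2 (hCc i)
  have hP : ∀ i j, FGA.intNum k X 2 ![(ClSub.idealMod (C i)), (ClSub.idealMod (C j))] (Coh.structureModule X) =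
      SurfRR.pair k (ClSub.idealMod (C i)) (ClSub.idealMod (C j)) := fun i j => SurfRR.intNum_two k hd.le (hI i) (hI j)
  have hoff : ∀ i j, i ≠ j → 0 ≤ SurfRR.pair k (ClSub.idealMod (C i)) (ClSub.idealMod (C j)) := fun i j hij =>
    SurfRR.pair_nonneg_curves k hd (hCi j) (hCd j) (hCi i) (hCd i) hreg fun h => hij (hC h.symm)
  have hCH : ∀ i, SurfRR.pair k (ClSub.idealMod (C i)) H < 0 := fun i => by
    rw [SurfRR.pair_idealMod k hd (hCc i) hH.1]
    exact neg_lt_zero.2 (SurfRR.sym_pos_divisor k hd (hCc i) (SurfRR.curve_ne_top hd (hCi i)) hH)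
  simp only [hP] at hneg
  obtain ⟨d, n, hd0, hn⟩ := SurfRR.exists_solution hneg (fun j => SurfRR.pair k H (ClSub.idealMod (C j)))
  have hn0 := SurfRR.neg_part_eq_zero hoff hneg (s := n) fun j => by
    rw [hn j, SurfRR.pair_comm k hH.1 (hI j)]
    exact mul_nonpos_of_nonneg_of_nonpos hd0.le (hCH j).le
  obtain ⟨S, hS, hSN⟩ := SurfRR.exists_sum k hd.le (fun i => ClSub.idealMod (C i)) hI n
  obtain ⟨L, hL, hLN⟩ := SurfRR.exists_comb k hd.le hH.1 hS d (-1)
  have horth : ∀ j, SurfRR.pair k L (ClSub.idealMod (C j)) = 0 := fun j => by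
    rw [hLN _ (hI j), hSN _ (hI j), hn j]; ring
  have hcur : ∀ D : X.IdealSheafData, IsIntegral D.subscheme → topologicalKrullDim (D.support : Set X) = 1 →
      (∀ i, D ≠ C i) → 0 < - SurfRR.pair k (ClSub.idealMod D) L := by
    intro D hDi hD1 hne
    have hDc := SurfRR.isEffCartier_curve k hd hDi hD1 hreg
    have hID := (S8914.result D).2 hDc
    rw [SurfRR.pair_comm k hID hL, hLN _ hID, hSN _ hID]
    have h1 : 0 < - SurfRR.pair k H (ClSub.idealMod D) := by
      rw [SurfRR.pair_comm k hH.1 hID, SurfRR.pair_idealMod k hd hDc hH.1, neg_neg]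
      exact SurfRR.sym_pos_divisor k hd hDc (SurfRR.curve_ne_top hd hDi) hH
    have h2 : 0 ≤ ∑ i, n i * SurfRR.pair k (ClSub.idealMod (C i)) (ClSub.idealMod D) :=
      Finset.sum_nonneg fun i _ => mul_nonneg (hn0 i)
        (SurfRR.pair_nonneg_curves k hd hDi hD1 (hCi i) (hCd i) hreg (hne i))
    have := mul_pos hd0 h1
    linarith
  have hself : 0 < SurfRR.pair k L L := by
    rw [hLN L hL, hSN L hL]
    have h0 : ∑ i, n i * SurfRR.pair k (ClSub.idealMod (C i)) L = 0 := Finset.sum_eq_zero fun i _ => by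
      rw [SurfRR.pair_comm k (hI i) hL, horth, mul_zero]
    rw [h0, SurfRR.pair_comm k hH.1 hL, hLN _ hH.1, hSN _ hH.1]
    have h1 := mul_pos hd0 (SurfRR.pair_self_pos k hH hd)
    have h2 : ∑ i, n i * SurfRR.pair k (ClSub.idealMod (C i)) H ≤ 0 :=
      Finset.sum_nonpos fun i _ => mul_nonpos_of_nonneg_of_nonpos (hn0 i) (hCH i).le
    have h3 := mul_pos hd0 (show 0 < d * SurfRR.pair k H H + -1 * ∑ i, n i * SurfRR.pair k (ClSub.idealMod (C i)) H by linarith)
    linarith
  refine ⟨L, hL, fun D hDi hD1 => ?_, (SurfRR.intNum_two k hd.le hL hL).symm ▸ hself, fun D hDi hD1 => ?_⟩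
  · rw [SurfRR.eulerDiff_eq_neg_pair k hd hreg hDi hD1 hL]
    by_cases h : ∃ i, D = C i
    · obtain ⟨i, rfl⟩ := h
      rw [SurfRR.pair_comm k (hI i) hL, horth, neg_zero]
    · exact (hcur D hDi hD1 fun i hi => h ⟨i, hi⟩).le
  · rw [SurfRR.eulerDiff_eq_neg_pair k hd hreg hDi hD1 hL]
    refine ⟨fun h0 => by_contra fun h => (hcur D hDi hD1 fun i hi => h ⟨i, hi⟩).ne' h0, ?_⟩
    rintro ⟨i, rfl⟩
    rw [SurfRR.pair_comm k (hI i) hL, horth, neg_zero]

end Groth.Agent.S18458
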