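import Groth.Statements.S18462
import Groth.Agent.SurfRR.Config
-- import your own Groth.Agent.* helpers here

set_option autoImplicit false
set_option backward.isDefEq.respectTransparency false
set_option backward.isDefEq.respectTransparency.types false
set_option linter.style.haveILetI false
set_option maxHeartbeats 1000000
universe u
open CategoryTheory CategoryTheory.Limits AlgebraicGeometry TopologicalSpace
open Surf

namespace Groth.Agent.S18462
open Groth.Agent

/-- Let k be an algebraically closed field of characteristic zero and X a smooth projective surface over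
k (integral, proper and smooth over k, of dimension 2, carrying an ample invertible module). Let
C_1, …, C_r be pairwise distinct integral curves on X with ideal sheaves I_i and negative definite
intersection matrix (Σ_{i,j} a_i a_j (I_i·I_j) < 0 for every nonzero integer vector a, where (A·B) =
χ(O_X) − χ(A) − χ(B) + χ(A ⊗ B)), let F be an effective Cartier divisor on X, with ideal I_F, none
of whose components is a C_i, and let s_1, …, s_r be integers such that the divisor class F + Σ_i
s_i C_i is orthogonal to every C_j, that is (F·C_j) + Σ_i s_i (C_i·C_j) = 0, written here as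
deg(I_F|_{C_j}) = χ(O_{C_j} ⊗ I_F) − χ(O_{C_j}) = Σ_i s_i (I_i·I_j) for every j. Then all the s_i
are nonnegative. The published statement allows real coefficients s_i; this row takes integer
coefficients. Its second assertion, that s_i > 0 on every connected group of the C_i one of which
meets F positively, is not restated. -/
theorem result (k : Type u) [Field k] [IsAlgClosed k] [CharZero k]
    (X : Scheme.{u}) [X.Over (Spec (CommRingCat.of k))] [IsProper (X ↘ (Spec (CommRingCat.of k)))]
    [Smooth (X ↘ (Spec (CommRingCat.of k)))] [IsIntegral X] (hdim : topologicalKrullDim X = 2)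
    (hproj : ∃ H : X.Modules, CohB1.IsAmple H)
    (r : ℕ) (C : Fin r → X.IdealSheafData) (hC : Function.Injective C)
    (hCi : ∀ i, IsIntegral (C i).subscheme) (hCd : ∀ i, topologicalKrullDim ((C i).support : Set X) = 1)
    (hneg : ∀ a : Fin r → ℤ, a ≠ 0 →
      ∑ i, ∑ j, a i * a j * FGA.intNum k X 2 ![(ClSub.idealMod (C i)), (ClSub.idealMod (C j))] (Coh.structureModule X) < 0)
    (F : X.IdealSheafData) (hF : FGA.IsEffCartier F) (hFC : ∀ i, ¬ ((C i).support : Set X) ⊆ (F.support : Set X))
    (s : Fin r → ℤ)
    (horth : ∀ j, Curv2.euler k X (CohB1.tensorMod (ClSub.quotMod (C j)) (ClSub.idealMod F)) - Curv2.euler k X (ClSub.quotMod (C j)) =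
      ∑ i, s i * FGA.intNum k X 2 ![(ClSub.idealMod (C i)), (ClSub.idealMod (C j))] (Coh.structureModule X)) :
    ∀ i, 0 ≤ s i := by
  have hd : topologicalKrullDim X = ((2 : ℕ) : WithBot ℕ∞) := by rw [hdim]; rfl
  haveI := CurveCohLib.isNoetherian_of_proper (k := k) (X := X)
  have hreg := SurfRR.regular_of_smooth (X := X) k
  obtain ⟨H, hH⟩ := hproj
  have hCc := fun i => SurfRR.isEffCartier_curve k hd (hCi i) (hCd i) hreg
  have hI := fun i => (S8914.result (C i)).2 (hCc i)
  have hP : ∀ i j, FGA.intNum k X 2 ![(ClSub.idealMod (C i)), (ClSub.idealMod (C j))] (Coh.structureModule X) =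
      SurfRR.pair k (ClSub.idealMod (C i)) (ClSub.idealMod (C j)) := fun i j => SurfRR.intNum_two k hd.le (hI i) (hI j)
  have hoff : ∀ i j, i ≠ j → 0 ≤ SurfRR.pair k (ClSub.idealMod (C i)) (ClSub.idealMod (C j)) := fun i j hij =>
    SurfRR.pair_nonneg_curves k hd (hCi j) (hCd j) (hCi i) (hCd i) hreg fun h => hij (hC h.symm)
  have hCH : ∀ i, SurfRR.pair k (ClSub.idealMod (C i)) H < 0 := fun i => by
    rw [SurfRR.pair_idealMod k hd (hCc i) hH.1]
    exact neg_lt_zero.2 (SurfRR.sym_pos_divisor k hd (hCc i) (SurfRR.curve_ne_top hd (hCi i)) hH)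
  simp only [hP] at hneg horth
  refine SurfRR.neg_part_eq_zero hoff hneg fun j => ?_
  rw [← horth j, SurfRR.eulerDiff_eq_neg_pair k hd hreg (hCi j) (hCd j) ((S8914.result F).2 hF),
    SurfRR.pair_comm k (hI j) ((S8914.result F).2 hF)]
  exact neg_nonpos.2 (SurfRR.pair_nonneg_curve k hd hF (hCi j) (hCd j) hreg (hFC j))

end Groth.Agent.S18462
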