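import Groth.Statements.S18463
import Groth.Agent.SurfRR.Config
-- import your own Groth.Agent.* helpers here

set_option autoImplicit false
set_option backward.isDefEq.respectTransparency false
set_option backward.isDefEq.respectTransparency.types false
set_option linter.style.haveILetI false
set_option maxHeartbeats 1000000
universe u
open CategoryTheory CategoryTheory.Limits AlgebraicGeometry TopologicalSpace
open Surf

namespace Groth.Agent.S18463
open Groth.Agent

/-- Let k be an algebraically closed field of characteristic zero and X a smooth projective surface over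
k (integral, proper and smooth over k, of dimension 2, carrying an ample invertible module). Let
C_1, …, C_r be pairwise distinct integral curves on X with ideal sheaves I_i and negative definite
intersection matrix (Σ_{i,j} a_i a_j (I_i·I_j) < 0 for every nonzero integer vector a, where (A·B) =
χ(O_X) − χ(A) − χ(B) + χ(A ⊗ B)), let F be an effective Cartier divisor on X, with ideal I_F, none
of whose components is a C_i, and let s_1, …, s_r be integers such that F is numerically equivalent
to Σ_i s_i C_i: (I_F·M) = Σ_i s_i (I_i·M) for every invertible O_X-module M (equivalently (F·D) = Σ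
s_i (C_i·D) for every divisor D). Then F = 0, i.e. I_F = O_X, and every s_i is 0. The published
statement writes the hypothesis as [F] + Σ s_i[C_i] = 0 with real s_i; this row writes F ≡ Σ s_i C_i
with integer s_i, which is the same after changing the signs of the s_i. -/
theorem result (k : Type u) [Field k] [IsAlgClosed k] [CharZero k]
    (X : Scheme.{u}) [X.Over (Spec (CommRingCat.of k))] [IsProper (X ↘ (Spec (CommRingCat.of k)))]
    [Smooth (X ↘ (Spec (CommRingCat.of k)))] [IsIntegral X] (hdim : topologicalKrullDim X = 2)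
    (hproj : ∃ H : X.Modules, CohB1.IsAmple H)
    (r : ℕ) (C : Fin r → X.IdealSheafData) (hC : Function.Injective C)
    (hCi : ∀ i, IsIntegral (C i).subscheme) (hCd : ∀ i, topologicalKrullDim ((C i).support : Set X) = 1)
    (hneg : ∀ a : Fin r → ℤ, a ≠ 0 →
      ∑ i, ∑ j, a i * a j * FGA.intNum k X 2 ![(ClSub.idealMod (C i)), (ClSub.idealMod (C j))] (Coh.structureModule X) < 0)
    (F : X.IdealSheafData) (hF : FGA.IsEffCartier F) (hFC : ∀ i, ¬ ((C i).support : Set X) ⊆ (F.support : Set X))
    (s : Fin r → ℤ)
    (hnum : ∀ M : X.Modules, PicF.IsInvertible M →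
      FGA.intNum k X 2 ![(ClSub.idealMod F), M] (Coh.structureModule X) =
        ∑ i, s i * FGA.intNum k X 2 ![(ClSub.idealMod (C i)), M] (Coh.structureModule X)) :
    F = ⊤ ∧ ∀ i, s i = 0 := by
  have hd : topologicalKrullDim X = ((2 : ℕ) : WithBot ℕ∞) := by rw [hdim]; rfl
  haveI := CurveCohLib.isNoetherian_of_proper (k := k) (X := X)
  have hreg := SurfRR.regular_of_smooth (X := X) k
  obtain ⟨H, hH⟩ := hproj
  have hCc := fun i => SurfRR.isEffCartier_curve k hd (hCi i) (hCd i) hreg
  have hI := fun i => (S8914.result (C i)).2 (hCc i)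
  have hP : ∀ i j, FGA.intNum k X 2 ![(ClSub.idealMod (C i)), (ClSub.idealMod (C j))] (Coh.structureModule X) =
      SurfRR.pair k (ClSub.idealMod (C i)) (ClSub.idealMod (C j)) := fun i j => SurfRR.intNum_two k hd.le (hI i) (hI j)
  have hoff : ∀ i j, i ≠ j → 0 ≤ SurfRR.pair k (ClSub.idealMod (C i)) (ClSub.idealMod (C j)) := fun i j hij =>
    SurfRR.pair_nonneg_curves k hd (hCi j) (hCd j) (hCi i) (hCd i) hreg fun h => hij (hC h.symm)
  have hCH : ∀ i, SurfRR.pair k (ClSub.idealMod (C i)) H < 0 := fun i => by
    rw [SurfRR.pair_idealMod k hd (hCc i) hH.1]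
    exact neg_lt_zero.2 (SurfRR.sym_pos_divisor k hd (hCc i) (SurfRR.curve_ne_top hd (hCi i)) hH)
  simp only [hP] at hneg
  have hIF := (S8914.result F).2 hF
  have hs : ∀ M : X.Modules, PicF.IsInvertible M →
      SurfRR.pair k (ClSub.idealMod F) M = ∑ i, s i * SurfRR.pair k (ClSub.idealMod (C i)) M := fun M hM => by
    rw [← SurfRR.intNum_two k hd.le hIF hM, hnum M hM]
    exact Finset.sum_congr rfl fun i _ => by rw [SurfRR.intNum_two k hd.le (hI i) hM]
  have hs0 : ∀ i, 0 ≤ (fun i => - s i) i := SurfRR.neg_part_eq_zero hoff hneg fun j => by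
    simp only [neg_mul, Finset.sum_neg_distrib, ← hs _ (hI j)]
    exact neg_nonpos.2 (SurfRR.pair_nonneg_curve k hd hF (hCi j) (hCd j) hreg (hFC j))
  have hterm : ∀ i, 0 ≤ s i * SurfRR.pair k (ClSub.idealMod (C i)) H := fun i => by
    have : 0 ≤ - s i := hs0 i
    exact mul_nonneg_of_nonpos_of_nonpos (by omega) (hCH i).le
  have hF0 : F = ⊤ := by
    by_contra hne
    have h1 := SurfRR.sym_pos_divisor k hd hF hne hH
    have h2 := SurfRR.pair_idealMod k hd hF hH.1
    have h3 := Finset.sum_nonneg fun i (_ : i ∈ Finset.univ) => hterm i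
    rw [← hs H hH.1] at h3
    omega
  refine ⟨hF0, fun i => ?_⟩
  have h3 : SurfRR.pair k (ClSub.idealMod F) H = 0 := by
    rw [SurfRR.pair_idealMod k hd hF hH.1, neg_eq_zero]
    subst hF0
    refine IntSym.sym_eq_zero k (List.forall_mem_singleton.2 hH.1) (ParShLib.isCoh_quotMod _) ?_
    haveI : IsEmpty ↥(CohB1.support (ClSub.quotMod (⊤ : X.IdealSheafData))) := Set.isEmpty_coe_sort.2 (by
      rw [SurfRR.support_quotMod, Scheme.IdealSheafData.support_top]; rfl)
    haveI : IsEmpty (TopologicalSpace.IrreducibleCloseds ↥(CohB1.support (ClSub.quotMod (⊤ : X.IdealSheafData)))) := ⟨fun T => isEmptyElim T.isIrreducible.1.choose⟩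
    exact lt_of_eq_of_lt Order.krullDim_eq_bot (WithBot.bot_lt_coe _)
  have h4 := (Finset.sum_eq_zero_iff_of_nonneg fun i _ => hterm i).1 ((hs H hH.1).symm.trans h3) i (Finset.mem_univ i)
  exact (mul_eq_zero.1 h4).resolve_right (hCH i).ne

end Groth.Agent.S18463
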