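import Groth.Statements.S18485
import Groth.Agent.FibDim.GenerizeDim
import Groth.Agent.FibDim.AffineSpaceFibre
import Groth.Agent.FibDim.BaseChange
import Groth.Agent.FibDim.Comp

set_option autoImplicit false
set_option backward.isDefEq.respectTransparency false
set_option backward.isDefEq.respectTransparency.types false
set_option maxHeartbeats 1000000
set_option linter.style.haveILetI false
universe u
open CategoryTheory CategoryTheory.Limits AlgebraicGeometry MonObj
open Neron

namespace Groth.Agent.S18485

/-- Let R be a Dedekind domain with fraction field K and H a Spec R-scheme which is flat and locally of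
finite type over Spec R. If the generic fibre H_K is locally quasi-finite over K, then H is locally
quasi-finite over Spec R. (The published statement is about the schematic closure, in an S-group
algebraic space of finite type over a connected Dedekind scheme S, of a finite subgroup of the
generic fibre, which it asserts to be a quasi-finite S-group; this row is the statement about flat
schemes locally of finite type over an affine Dedekind base on which that rests. Locally
quasi-finite is meant here without a finite type clause, which is assumed separately.) -/
theorem result (R : Type u) [CommRing R]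
    [IsDedekindDomain R] (H : Over (Spec (CommRingCat.of R))) [Flat H.hom] [LocallyOfFiniteType H.hom]
    [LocallyQuasiFinite ((Neron.genericFibre R).obj H).hom] : LocallyQuasiFinite H.hom := by
  haveI : IsLocallyNoetherian H.left := LocallyOfFiniteType.isLocallyNoetherian H.hom
  haveI : LocallyOfFinitePresentation H.hom := inferInstance
  have hrd : ∀ x : H.left, FibDim.rd H.hom x = 0 := by
    intro x
    obtain ⟨z, hzx, hfz, hz, -⟩ := FibDim.exists_fibMax_generization H.hom x
    let gp : ↥(Spec (CommRingCat.of R)) := ⟨⊥, Ideal.isPrime_bot⟩
    have hy : gp ⤳ H.hom z :=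
      (PrimeSpectrum.le_iff_specializes (R := R) (⟨⊥, Ideal.isPrime_bot⟩ : PrimeSpectrum R) (H.hom z)).1
        (PrimeSpectrum.asIdeal_le_asIdeal _ _ |>.1 bot_le)
    obtain ⟨w, -, hfw, -, hrd⟩ := FibDim.exists_fibMax_eq_rd H.hom H.hom.isOpenMap hz hy
    obtain ⟨w', -, -, hw'⟩ := FibDim.exists_rd_baseChange_eq
      (IsPullback.of_hasPullback H.hom (genPt R)) w (⟨⊥, Ideal.isPrime_bot⟩ : ↥(Spec (CommRingCat.of (FractionRing R))))
      (by
        rw [hfw]
        apply PrimeSpectrum.ext
        exact (Ideal.comap_bot_of_injective _ (IsFractionRing.injective R (FractionRing R))).symm)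
    haveI : LocallyQuasiFinite (pullback.snd H.hom (genPt R)) :=
      show LocallyQuasiFinite ((Neron.genericFibre R).obj H).hom by infer_instance
    haveI : LocallyOfFiniteType (pullback.snd H.hom (genPt R)) := inferInstance
    rw [FibDim.rd_eq_zero_of_quasiFinite] at hw'
    have h1 := FibDim.rd_le_of_specializes H.hom hzx hfz
    omega
  rw [locallyQuasiFinite_iff_isDiscrete_preimage_singleton]
  intro y
  have h0 : topologicalKrullDim ↥(H.hom.fiber y) ≤ 0 := by
    exact_mod_cast (FibDim.topologicalKrullDim_fiber_le_iff H.hom y 0).2 (fun z _ => (hrd z).le)
  haveI : IsLocallyNoetherian (H.hom.fiber y) :=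
    LocallyOfFiniteType.isLocallyNoetherian (H.hom.fiberToSpecResidueField y)
  haveI : IsLocallyArtinian (H.hom.fiber y) := IsLocallyArtinian.of_topologicalKrullDim_le_zero h0
  rw [← Scheme.Hom.range_fiberι]
  simpa using (isDiscrete_univ_iff.mpr inferInstance).image (H.hom.fiberι y).isEmbedding.toIsInducing

end Groth.Agent.S18485
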