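import Groth.Statements.S18487
import Groth.Agent.GrpFieldLib.TDTorsor

set_option autoImplicit false
universe u
open CategoryTheory CategoryTheory.Limits AlgebraicGeometry MonObj
open NonAbH1

namespace Groth.Agent.S18487

/-- Let R be a Dedekind domain with fraction field K, G a proper flat group scheme over Spec R, and P a
Spec R-scheme with an action of G making it a G-torsor for the fppf topology (a pseudo-torsor
acquiring sections on the members of an fppf covering family). If P acquires a section over the
generic point Spec K → Spec R, then P has a section over Spec R: a generically trivial torsor is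
trivial. (The source allows any connected Dedekind scheme as base and torsors that are fppf sheaves,
shown there to be schemes; the affine base and scheme torsors are stated.) -/
theorem result (R : Type u) [CommRing R] [IsDedekindDomain R]
    (G : Over (Spec (CommRingCat.of R))) [GrpObj G] [IsProper G.hom] [Flat G.hom]
    (P : NonAbH1.TorsorSch G Scheme.fppfPrecoverage) (h : NonAbH1.HasSectionOver P.X (Neron.genPt R)) :
    NonAbH1.HasSectionOver P.X (𝟙 (Spec (CommRingCat.of R))) := by
  obtain ⟨hP, -, -⟩ := Groth.Agent.GrpFieldLib.TDTorsor.proper_flat P
  haveI := hP
  obtain ⟨σ, hσ⟩ := h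
  have hval : ∀ (q : Ideal R) [q.IsPrime], ValuationRing (Localization.AtPrime q) := by
    intro q hq
    exact Groth.Agent.GrpFieldLib.Pruefer.valuationRing_localization (R := R) (C := R) (fun _ _ h => h) q
  obtain ⟨τ, hτ, -⟩ := Groth.Agent.GrpFieldLib.TDExtend.exists_extension R (FractionRing R) hval P.X.hom σ hσ
  exact ⟨τ, hτ⟩

end Groth.Agent.S18487
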