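import Groth.Statements.S18488
import Groth.Agent.GrpFieldLib.TDTorsor

set_option autoImplicit false
universe u
open CategoryTheory CategoryTheory.Limits AlgebraicGeometry MonObj
open NonAbH1

namespace Groth.Agent.S18488

/-- Let R be a Dedekind domain with fraction field K and G a proper flat group scheme over Spec R. Then
restriction to the generic fibre, from the set of classes of G-torsors for the fppf topology (Spec
R-schemes with a G-action, pseudo-torsors trivialised on an fppf covering family, up to equivariant
isomorphism) to the set of classes of G_K-torsors, is injective. (The source allows any connected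
Dedekind scheme as base and all fppf torsors, which it shows to be schemes; the affine base and
torsors representable by schemes are stated.) -/
theorem result (R : Type u) [CommRing R] [IsDedekindDomain R]
    (G : Over (Spec (CommRingCat.of R))) [GrpObj G] [IsProper G.hom] [Flat G.hom] :
    Function.Injective (NonAbH1.H1Sch.bcMap (Neron.genPt R) G Scheme.fppfPrecoverage) := by
  intro c d hcd
  induction c using Quot.ind with | _ P => ?_
  induction d using Quot.ind with | _ Q => ?_
  change Quot.mk _ (P.bc (Neron.genPt R)) = Quot.mk _ (Q.bc (Neron.genPt R)) at hcd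
  have hrel : Nonempty (NonAbH1.EquivIso (P.bc (Neron.genPt R)).act (Q.bc (Neron.genPt R)).act) := by
    refine Equivalence.eqvGen_iff ?_ |>.1 (Quot.eqvGen_exact hcd)
    refine ⟨fun T => ⟨⟨Iso.refl _, ?_⟩⟩, fun {T U} ⟨e⟩ => ⟨⟨e.iso.symm, ?_⟩⟩, fun {T U V} ⟨e⟩ ⟨e'⟩ => ⟨⟨e.iso.trans e'.iso, ?_⟩⟩⟩
    · simp
    · rw [Iso.symm_hom, ← cancel_mono e.iso.hom]
      simp only [Category.assoc, Iso.inv_hom_id, Category.comp_id]
      rw [e.comm, ← MonoidalCategory.whiskerLeft_comp_assoc, Iso.inv_hom_id, MonoidalCategory.whiskerLeft_id,
        Category.id_comp]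
    · rw [Iso.trans_hom, reassoc_of% e.comm, e'.comm, MonoidalCategory.whiskerLeft_comp_assoc]
  obtain ⟨e⟩ := hrel
  exact Quot.sound (Groth.Agent.GrpFieldLib.TDTorsor.exists_equivIso e)

end Groth.Agent.S18488
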