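import Groth.Statements.S18497
import Groth.Agent.NeronEtale.Basic
import Groth.Agent.UnramMisc.QFSmooth
import Groth.Agent.WeilExt.Dedekind
import Groth.Agent.NeronBasic.Basic

set_option autoImplicit false
set_option backward.isDefEq.respectTransparency false
set_option backward.isDefEq.respectTransparency.types false
set_option maxHeartbeats 1000000
set_option linter.style.haveILetI false
universe u
open CategoryTheory CategoryTheory.Limits AlgebraicGeometry MonObj
open Neron

namespace Groth.Agent.S18497

/-- Let R be a Dedekind domain with fraction field K and G a finite étale group scheme over K. Then G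
has a Néron model over Spec R which is separated, quasi-finite and étale: there are a Spec R-scheme
N and an isomorphism e of its generic fibre N_K with G such that N is smooth, separated and of
finite type over Spec R with the Néron mapping property (for every smooth Spec R-scheme Y, g ↦ e ∘
g_K is a bijection from R-morphisms Y → N onto K-morphisms Y_K → G), and N → Spec R is étale and
locally quasi-finite. -/
theorem result (R : Type u) [CommRing R] [IsDedekindDomain R]
    (G : Over (Spec (CommRingCat.of (FractionRing R)))) [GrpObj G] [IsFinite G.hom] [Etale G.hom] :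
    ∃ (N : Over (Spec (CommRingCat.of R))) (e : (Neron.genericFibre R).obj N ≅ G),
      Neron.IsNeronModelOf R N G e ∧ Etale N.hom ∧ LocallyQuasiFinite N.hom := by
  let K := FractionRing R
  haveI : IsAffine G.left := isAffine_of_isAffineHom G.hom
  let B := Γ(G.left, ⊤)
  let φ : CommRingCat.of K ⟶ B := Spec.preimage (G.left.isoSpec.inv ≫ G.hom)
  have hφ : Spec.map φ = G.left.isoSpec.inv ≫ G.hom := Spec.map_preimage _
  let _ : Algebra K B := φ.hom.toAlgebra
  let _ : Algebra R B := (φ.hom.comp (algebraMap R K)).toAlgebra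
  haveI : IsScalarTower R K B := IsScalarTower.of_algebraMap_eq fun _ => rfl
  haveI : Module.Finite K B := by
    have : IsFinite (Spec.map φ) := by rw [hφ]; infer_instance
    exact RingHom.finite_algebraMap.1 ((IsFinite.SpecMap_iff φ).1 this)
  haveI : Algebra.Etale K B := by
    have : Etale (Spec.map φ) := by rw [hφ]; infer_instance
    exact RingHom.etale_algebraMap.1 ((HasRingHomProperty.Spec_iff (P := @Etale)).1 this)
  obtain ⟨hfin, hloc⟩ := Groth.Agent.NeronEtale.integralClosure_model R K B
  let C := integralClosure R B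
  let π : Spec (CommRingCat.of C) ⟶ Spec (CommRingCat.of R) :=
    Spec.map (CommRingCat.ofHom (algebraMap R C))
  let j : G.left ⟶ Spec (CommRingCat.of C) :=
    G.left.isoSpec.hom ≫ Spec.map (CommRingCat.ofHom (algebraMap C B))
  haveI : IsFinite π := (IsFinite.SpecMap_iff _).2 (RingHom.finite_algebraMap.2 hfin)
  haveI : IsNoetherianRing C := IsNoetherianRing.of_finite R C
  haveI : IsNoetherianRing (CommRingCat.of R) := inferInstanceAs (IsNoetherianRing R)
  haveI : IsNoetherianRing (CommRingCat.of C) := inferInstanceAs (IsNoetherianRing C)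
  haveI : LocallyOfFinitePresentation π := inferInstance
  haveI := Algebra.isPushout_of_isLocalization (A := K) (nonZeroDivisors R) C B
  have hp : IsPullback j G.hom π (Neron.genPt R) := by
    have h := isPullback_SpecMap_of_isPushout _ _ _ _
      ((CommRingCat.isPushout_iff_isPushout (R := R) (S := K) (R' := C) (S' := B)).2 inferInstance)
    refine IsPullback.of_iso h G.left.isoSpec.symm (Iso.refl _) (Iso.refl _) (Iso.refl _) ?_ ?_ ?_ ?_
    · simp [j]
    · change Spec.map φ ≫ _ = G.left.isoSpec.inv ≫ G.hom
      simp [hφ]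
    · simp [π]
    · exact (Category.comp_id _).trans (Category.id_comp _).symm
  haveI : IsPreimmersion (Neron.genPt R) := IsPreimmersion.of_isLocalization (nonZeroDivisors R)
  haveI : Flat (Neron.genPt R) := by
    rw [Flat.SpecMap_iff]
    exact RingHom.flat_algebraMap_iff.2 (IsLocalization.flat K (nonZeroDivisors R))
  have hr := Groth.Agent.NeronEtale.range_subset_smoothLocus_of_smooth_fibre π (Neron.genPt R) j G.hom hp
  let j' : G.left ⟶ π.smoothLocus := IsOpenImmersion.lift π.smoothLocus.ι j
    (by rw [Scheme.Opens.range_ι]; exact hr)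
  have hj' : j' ≫ π.smoothLocus.ι = j := IsOpenImmersion.lift_fac _ _ _
  have hp' : IsPullback j' G.hom (π.smoothLocus.ι ≫ π) (Neron.genPt R) :=
    IsPullback.of_isLimit' ⟨by rw [reassoc_of% hj']; exact hp.w⟩
      (PullbackCone.IsLimit.mk _
        (fun s => hp.lift (s.fst ≫ π.smoothLocus.ι) s.snd (by rw [Category.assoc]; exact s.condition))
        (fun s => by rw [← cancel_mono π.smoothLocus.ι, Category.assoc, hj', hp.lift_fst])
        (fun s => hp.lift_snd _ _ _)
        (fun s m h₁ h₂ => hp.hom_ext (by rw [hp.lift_fst, ← hj', reassoc_of% h₁])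
          (by rw [hp.lift_snd, h₂])))
  let N : Over (Spec (CommRingCat.of R)) := Over.mk (π.smoothLocus.ι ≫ π)
  haveI : Smooth N.hom := by
    change Smooth (π.smoothLocus.ι ≫ π)
    rw [← Scheme.Hom.smoothLocus_eq_top_iff, ← Scheme.Hom.preimage_smoothLocus_eq,
      Scheme.Opens.ι_preimage_self]
  haveI : IsSeparated N.hom := inferInstanceAs (IsSeparated (π.smoothLocus.ι ≫ π))
  haveI : IsNoetherian (Spec (CommRingCat.of C)) := inferInstance
  haveI : LocallyQuasiFinite N.hom := inferInstanceAs (LocallyQuasiFinite (π.smoothLocus.ι ≫ π))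
  let e : (Neron.genericFibre R).obj N ≅ G :=
    Over.isoMk hp'.isoPullback.symm (hp'.isoPullback_inv_snd)
  refine ⟨N, e, ⟨inferInstance, inferInstance, inferInstance,
    inferInstanceAs (QuasiCompact (π.smoothLocus.ι ≫ π)), fun Y hY => ⟨fun f g h => ?_, fun gK => ?_⟩⟩,
    Groth.Agent.UnramMisc.etale_of_smooth_of_locallyQuasiFinite N.hom, inferInstance⟩
  · haveI := hY
    exact Groth.Agent.NeronBasic.eq_of_map_genericFibre R Y N f g ((cancel_mono e.hom).1 h)
  haveI := hY
  haveI : IsDomain (CommRingCat.of R) := inferInstanceAs (IsDomain R)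
  haveI : IsNoetherian (Spec (CommRingCat.of R)) := inferInstance
  haveI : IsLocallyNoetherian Y.left := LocallyOfFiniteType.isLocallyNoetherian Y.hom
  let η₀ : Spec (CommRingCat.of R) := genericPoint _
  obtain ⟨σ, hσ, he⟩ : ∃ σ : Spec ((Spec (CommRingCat.of R)).presheaf.stalk η₀) ⟶ Spec (CommRingCat.of K),
      IsIso σ ∧ σ ≫ Neron.genPt R = (Spec (CommRingCat.of R)).fromSpecStalk η₀ :=
    Groth.Agent.WeilExt.exists_iso_generic (CommRingCat.of R) K
  let m : pullback Y.hom ((Spec (CommRingCat.of R)).fromSpecStalk η₀) ⟶ pullback Y.hom (Neron.genPt R) :=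
    pullback.lift (pullback.fst _ _) (pullback.snd _ _ ≫ σ) (by
      rw [pullback.condition, Category.assoc, he])
  let m' : pullback Y.hom (Neron.genPt R) ⟶ pullback Y.hom ((Spec (CommRingCat.of R)).fromSpecStalk η₀) :=
    pullback.lift (pullback.fst _ _) (pullback.snd _ _ ≫ inv σ) (by
      rw [pullback.condition, Category.assoc]
      congr 1
      rw [IsIso.eq_inv_comp]
      exact he)
  have hmm : m' ≫ m = 𝟙 _ := by
    apply pullback.hom_ext
    · rw [Category.assoc, pullback.lift_fst, pullback.lift_fst, Category.id_comp]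
    · rw [Category.assoc, pullback.lift_snd, pullback.lift_snd_assoc, Category.assoc, Category.id_comp,
        IsIso.inv_hom_id, Category.comp_id]
  haveI : Epi m := ⟨fun a b h => by
    rw [← Category.id_comp a, ← hmm, Category.assoc, h, ← Category.assoc, hmm, Category.id_comp]⟩
  have hh0 : (gK.left ≫ j) ≫ π = pullback.fst Y.hom (Neron.genPt R) ≫ Y.hom := by
    have h1 : gK.left ≫ G.hom = pullback.snd Y.hom (Neron.genPt R) := Over.w gK
    rw [Category.assoc, hp.w, ← Category.assoc, h1]
    exact pullback.condition.symm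
  obtain ⟨U, v, hUd, hrU, hv, hv0⟩ := Groth.Agent.WeilExt.exists_spread_generic Y.hom π (m ≫ gK.left ≫ j) (by
    rw [Category.assoc, hh0, pullback.lift_fst_assoc])
  have hR := Groth.Agent.WeilExt.isRegularLocalRing_stalk_spec (R := R)
  have hYn : Pi1.IsNormalScheme Y.left := Groth.Agent.WeilExt.isNormalScheme hR Y.hom
  obtain ⟨x, hx, hxU⟩ := Groth.Agent.NeronHDLib.exists_extension_of_isIntegralHom π Y.hom hYn U hUd v hv
  have hC : EGA4.IsNormalRing C.toSubring := by
    haveI : Smooth G.hom := inferInstance
    have hGn : Pi1.IsNormalScheme G.left :=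
      Groth.Agent.WeilExt.isNormalScheme
        (Groth.Agent.WeilExt.isRegularLocalRing_stalk_spec (R := K)) G.hom
    haveI : IsLocallyNoetherian G.left := LocallyOfFiniteType.isLocallyNoetherian G.hom
    refine Groth.Agent.NeronHDLib.isNormalRing_of_isIntegrallyClosedIn hGn ⊤ ?_ C.toSubring fun b hb => ?_
    · exact (isAffineOpen_top G.left).isCompact
    · exact isIntegral_trans (R := R) (A := C) b hb
  have hT : Pi1.IsNormalScheme (Spec (CommRingCat.of C)) := fun t => by
    obtain ⟨hd, hn⟩ := hC (t.asIdeal : Ideal C)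
    let _ : Algebra C ((Spec (CommRingCat.of C)).presheaf.stalk t) := StructureSheaf.stalkAlgebra C t
    haveI : IsLocalization.AtPrime ((Spec (CommRingCat.of C)).presheaf.stalk t) t.asIdeal :=
      StructureSheaf.IsLocalization.to_stalk C t
    let E : (Spec (CommRingCat.of C)).presheaf.stalk t ≃+* Localization.AtPrime (t.asIdeal : Ideal C) :=
      (IsLocalization.algEquiv t.asIdeal.primeCompl _ _).toRingEquiv
    exact ⟨E.toMulEquiv.isDomain _, IsIntegrallyClosed.of_equiv E.symm⟩
  have hxr := Groth.Agent.NeronHDLib.range_subset_smoothLocus π hT Y.hom x hx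
  let x' : Y.left ⟶ π.smoothLocus := IsOpenImmersion.lift π.smoothLocus.ι x
    (by rw [Scheme.Opens.range_ι]; exact hxr)
  have hx' : x' ≫ π.smoothLocus.ι = x := IsOpenImmersion.lift_fac _ _ _
  refine ⟨Over.homMk x' (show x' ≫ π.smoothLocus.ι ≫ π = Y.hom by rw [reassoc_of% hx', hx]),
    Over.OverMorphism.ext (hp.hom_ext ?_ ?_)⟩
  · have h1 : hp'.isoPullback.inv ≫ j = pullback.fst N.hom (Neron.genPt R) ≫ π.smoothLocus.ι := by
      rw [← hj', ← Category.assoc, IsPullback.isoPullback_inv_fst]
      rfl
    change (_ ≫ hp'.isoPullback.inv) ≫ j = gK.left ≫ j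
    rw [Category.assoc, h1, ← Category.assoc]
    simp only [Over.pullback_map_left, pullback.lift_fst, Over.homMk_left]
    rw [Category.assoc, hx', ← cancel_epi m, ← Category.assoc, pullback.lift_fst]
    let b := IsOpenImmersion.lift U.ι (pullback.fst Y.hom ((Spec (CommRingCat.of R)).fromSpecStalk η₀))
      (by rw [Scheme.Opens.range_ι]; exact hrU)
    have hb : b ≫ U.ι = pullback.fst Y.hom ((Spec (CommRingCat.of R)).fromSpecStalk η₀) :=
      IsOpenImmersion.lift_fac _ _ _
    have h := hv0 (𝟙 _) b ((Category.id_comp _).trans hb.symm)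
    rw [Category.id_comp] at h
    rw [h, ← hb, Category.assoc, hxU]
  · exact (Over.w _).trans (Over.w gK).symm

end Groth.Agent.S18497
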