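import Groth.Statements.S18500
import Groth.Agent.AlgSpDec.SchImageChart
import Groth.Agent.AlgSpLib.EtLocalInst
import Groth.Agent.AlgSpLib.LocP
import Groth.Agent.FlatMisc.ImageFlat
import Mathlib.AlgebraicGeometry.Morphisms.SchemeTheoreticallyDominant

set_option autoImplicit false
universe u
open CategoryTheory CategoryTheory.Limits AlgebraicGeometry
open AlgSp

namespace Groth.Agent.S18500

set_option backward.isDefEq.respectTransparency false
set_option backward.isDefEq.respectTransparency.types false

open Groth.Agent.AlgSpLib Groth.Agent.AlgSpPts Groth.Agent.AlgSpDec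

theorem isSchemeTheoreticallyDominant_genPt (R : Type u) [CommRing R] [IsDomain R] :
    IsSchemeTheoreticallyDominant (Neron.genPt R) := by
  have : IsDominant (Neron.genPt R) := ⟨by
    show DenseRange (PrimeSpectrum.comap (algebraMap R (FractionRing R)))
    rw [PrimeSpectrum.denseRange_comap_iff_ker_le_nilRadical,
      (RingHom.injective_iff_ker_eq_bot _).1 (IsFractionRing.injective R (FractionRing R))]
    exact bot_le⟩
  exact .of_isDominant _

theorem flat_of_ker_eq {X V : Scheme.{u}} {W : Scheme.{u}} (z : X ⟶ V) [IsClosedImmersion z] {k : W ⟶ V}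
    (h : z.ker = k.ker) {T : Scheme.{u}} (q : V ⟶ T) [Flat (k.imageι ≫ q)] : Flat (z ≫ q) := by
  have := IsClosedImmersion.isIso_lift k.imageι z (by rw [h]; exact k.ker.ker_subschemeι)
  rw [← IsClosedImmersion.lift_fac k.imageι z (by rw [h]; exact (k.ker.ker_subschemeι).le), Category.assoc]
  infer_instance


/-- Let R be a Dedekind domain with fraction field K, S = Spec R, and Y an algebraic space over S (an
fppf sheaf on S-schemes with representable diagonal and an étale atlas), with structure map p : Y →
h_S; let Y_K → Y be its generic fibre, the pullback of p along h_{Spec K} → h_S; let k : H → Y_K be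
a closed subspace (a representable closed immersion from an algebraic space) and i : Z → Y the
scheme theoretic image of the composite H → Y_K → Y. Then Z is flat over S (étale-locally on
charts), the square H → Z, H → Y_K, Z → Y, Y_K → Y is cartesian for the induced H → Z (the generic
fibre of Z is H), and Z is the unique such subspace: every closed subspace i' : Z' → Y which is flat
over S and whose pullback along Y_K → Y is H (through some H → Z') is isomorphic to Z over Y. (The
source allows any connected Dedekind scheme as base; the affine base is stated.) -/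
theorem result (R : Type u) [CommRing R] [IsDedekindDomain R]
    (Y YK H Z : AlgSp.Space (Spec (CommRingCat.of R)))
    (pY : Y.obj ⟶ (AlgSp.yon (Spec (CommRingCat.of R))).obj (Over.mk (𝟙 (Spec (CommRingCat.of R)))))
    (pr : YK ⟶ Y) (qK : YK.obj ⟶ (AlgSp.yon (Spec (CommRingCat.of R))).obj (Over.mk (Neron.genPt R)))
    (hYK : IsPullback pr.hom qK pY ((AlgSp.yon (Spec (CommRingCat.of R))).map (Over.mkIdTerminal.from (Over.mk (Neron.genPt R)))))
    (k : H ⟶ YK) (hk : AlgSp.RepWith @IsClosedImmersion k.hom)
    (i : Z ⟶ Y) (hZ : AlgSp.IsSchImage (k.hom ≫ pr.hom) i.hom) :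
    AlgSp.LocP @Flat (i.hom ≫ pY) ∧
    (∃ m : H ⟶ Z, m ≫ i = k ≫ pr ∧ IsPullback m.hom k.hom i.hom pr.hom) ∧
    (∀ (Z' : AlgSp.Space (Spec (CommRingCat.of R))) (i' : Z' ⟶ Y) (m' : H ⟶ Z'),
      AlgSp.RepWith @IsClosedImmersion i'.hom → AlgSp.LocP @Flat (i'.hom ≫ pY) →
      IsPullback m'.hom k.hom i'.hom pr.hom → ∃ e : Z ≅ Z', e.hom ≫ i' = i) := by
  let T₀ : Over (Spec (CommRingCat.of R)) := Over.mk (𝟙 (Spec (CommRingCat.of R)))
  let TK : Over (Spec (CommRingCat.of R)) := Over.mk (Neron.genPt R)
  let η : TK ⟶ T₀ := Over.homMk (Neron.genPt R) (Category.comp_id _)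
  rw [show Over.mkIdTerminal.from (Over.mk (Neron.genPt R)) = η from Over.mkIdTerminal.hom_ext _ _] at hYK
  haveI := isSchemeTheoreticallyDominant_genPt R
  haveI : IsSchemeTheoreticallyDominant η.left := ‹_›
  haveI : QuasiCompact η.left := inferInstanceAs (QuasiCompact (Neron.genPt R))
  obtain ⟨U, b, hb, hbs⟩ := Y.property.atlas
  let pU : U ⟶ T₀ := Over.mkIdTerminal.from U
  have hpU : b ≫ pY = (yon _).map pU := by
    obtain ⟨t, ht⟩ := (yon _).map_surjective (b ≫ pY)
    rw [← ht, Over.mkIdTerminal.hom_ext t pU]
  let UK : Over (Spec (CommRingCat.of R)) := pullback pU η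
  let j : UK ⟶ U := pullback.fst pU η
  let qU : UK ⟶ TK := pullback.snd pU η
  have sqU : IsPullback ((yon _).map j) ((yon _).map qU) ((yon _).map pU) ((yon _).map η) :=
    (IsPullback.of_hasPullback pU η).map (yon _)
  let m : (yon _).obj UK ⟶ YK.obj := hYK.lift ((yon _).map j ≫ b) ((yon _).map qU) (by
    rw [Category.assoc, hpU]; exact sqU.w)
  have hm : IsPullback m ((yon _).map j) pr.hom b := by
    refine IsPullback.of_right ?_ (hYK.lift_fst _ _ _) hYK.flip
    rw [hpU, hYK.lift_snd]
    exact sqU.flip
  let HU : Over (Spec (CommRingCat.of R)) := hk.rep.pullback m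
  let s : HU ⟶ UK := hk.rep.snd m
  let hH : (yon _).obj HU ⟶ H.obj := hk.rep.fst m
  have hs : IsPullback hH ((yon _).map s) k.hom m := hk.rep.isPullback m
  haveI : IsClosedImmersion s.left := hk.property_snd m
  have sqj : IsPullback j.left qU.left pU.left η.left := (IsPullback.of_hasPullback pU η).map (Over.forget _)
  haveI : IsAffineHom j.left := MorphismProperty.of_isPullback sqj.flip (inferInstanceAs (IsAffineHom (Neron.genPt R)))
  let k' : HU ⟶ U := s ≫ j
  haveI : QuasiCompact k'.left := inferInstanceAs (QuasiCompact (s.left ≫ j.left))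
  have hf : IsPullback hH ((yon _).map k') (k.hom ≫ pr.hom) b := by
    rw [Functor.map_comp]
    exact hs.paste_vert hm
  -- closed subspaces with generic fibre `H`, flat over the base, are cut out by the kernel of `k'`
  have key : ∀ (Z' : Space (Spec (CommRingCat.of R))) (i' : Z' ⟶ Y) (m' : H ⟶ Z') (hi' : RepWith @IsClosedImmersion i'.hom),
      LocP @Flat (i'.hom ≫ pY) → IsPullback m'.hom k.hom i'.hom pr.hom →
      (hi'.rep.snd b).left.ker = k'.left.ker := by
    intro Z' i' m' hi' hfl sq
    let ZU : Over (Spec (CommRingCat.of R)) := hi'.rep.pullback b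
    let g : (yon _).obj ZU ⟶ Z'.obj := hi'.rep.fst b
    let z : ZU ⟶ U := hi'.rep.snd b
    have sqZ : IsPullback g ((yon _).map z) i'.hom b := hi'.rep.isPullback b
    haveI : IsClosedImmersion z.left := hi'.property_snd b
    haveI : Flat (z ≫ pU).left := hfl g (𝟙 _) (z ≫ pU) (repWith_of_isPullback sqZ.flip hb) (repWith_id _ T₀) (by
      rw [Category.comp_id, ← Category.assoc, sqZ.w, Category.assoc, hpU, Functor.map_comp])
    have outer : IsPullback (hH ≫ m'.hom) ((yon _).map s) i'.hom (m ≫ pr.hom) := hs.paste_horiz sq
    obtain ⟨l, hl⟩ := (yon _).map_surjective (sqZ.lift (hH ≫ m'.hom) ((yon _).map k') (by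
      rw [outer.w, hm.w, ← Category.assoc, ← Functor.map_comp]))
    have hl₁ : (yon _).map l ≫ g = hH ≫ m'.hom := by rw [hl, sqZ.lift_fst]
    have hl₂ : l ≫ z = s ≫ j := (yon _).map_injective (by rw [Functor.map_comp, hl, sqZ.lift_snd])
    have left : IsPullback ((yon _).map l) ((yon _).map s) ((yon _).map z) ((yon _).map j) := by
      refine IsPullback.of_right ?_ (by rw [← Functor.map_comp, hl₂, Functor.map_comp]) sqZ
      rw [hl₁, ← hm.w]
      exact outer
    have sqs : IsPullback l.left s.left z.left j.left := (IsPullback.of_map_of_faithful (yon _) left).map (Over.forget _)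
    have big : IsPullback (s.left ≫ qU.left) l.left η.left (z ≫ pU).left :=
      (sqs.flip.paste_horiz sqj.flip)
    haveI : IsSchemeTheoreticallyDominant l.left := .of_isPullback big
    show z.left.ker = (s ≫ j).left.ker
    rw [← hl₂, Over.comp_left, Scheme.Hom.ker_comp, l.left.ker_eq_bot, Scheme.IdealSheafData.map_bot]
  -- the scheme theoretic image on the chart
  let c : (yon _).obj HU ⟶ pullback (k.hom ≫ pr.hom) b := pullback.lift hH ((yon _).map k') hf.w
  haveI : IsIso c := by
    have : c = hf.isoPullback.hom := pullback.hom_ext (by simp [c]) (by simp [c])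
    rw [this]; infer_instance
  have hce : RepWith @Etale c := repWith_of_isIso @Etale c
  have hcs : RepWith @Surjective c := repWith_of_isIso @Surjective c
  have hker : (hZ.1.rep.snd b).left.ker = k'.left.ker :=
    schImage_chart H.property Y.property hb hbs hce hcs (pullback.lift_snd _ _ _) hZ
  let ZU : Over (Spec (CommRingCat.of R)) := hZ.1.rep.pullback b
  let g : (yon _).obj ZU ⟶ Z.obj := hZ.1.rep.fst b
  let z : ZU ⟶ U := hZ.1.rep.snd b
  have sqZ : IsPullback g ((yon _).map z) i.hom b := hZ.1.rep.isPullback b
  haveI : IsClosedImmersion z.left := hZ.1.property_snd b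
  have hge : RepWith @Etale g := repWith_of_isPullback sqZ.flip hb
  have hgs : RepWith @Surjective g := repWith_of_isPullback sqZ.flip hbs
  haveI : Flat (k'.left ≫ pU.left) := by
    have : k'.left ≫ pU.left = (s.left ≫ qU.left) ≫ η.left := by
      show (s.left ≫ j.left) ≫ pU.left = _
      rw [Category.assoc, Category.assoc, sqj.w]
    rw [this]
    haveI : Flat η.left := (HasRingHomProperty.Spec_iff (P := @Flat)).2
      (RingHom.flat_algebraMap_iff.2 (IsLocalization.flat (FractionRing R) (nonZeroDivisors R)))
    haveI : Subsingleton ↥TK.left := inferInstanceAs (Subsingleton (PrimeSpectrum (FractionRing R)))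
    haveI : IsIntegral TK.left := inferInstanceAs (IsIntegral (Spec (CommRingCat.of (FractionRing R))))
    infer_instance
  haveI : Flat (k'.left.imageι ≫ pU.left) := FlatMisc.flat_imageι pU.left k'.left
  refine ⟨locP_of_chart hge hgs (repWith_id _ T₀) (b := 𝟙 _) (h := z ≫ pU) ?_
    (flat_of_ker_eq z.left hker pU.left), ?_, ?_⟩
  · rw [Category.comp_id, ← Category.assoc, sqZ.w, Category.assoc, hpU, Functor.map_comp]
  · obtain ⟨f', hf'⟩ := hZ.2.1
    haveI := mono_of_closedImmersion hZ.1
    haveI := mono_of_closedImmersion hk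
    refine ⟨ObjectProperty.homMk f', ObjectProperty.hom_ext _ hf', ?_⟩
    show IsPullback f' k.hom i.hom pr.hom
    -- the cover of the fibre product by the pullback on charts
    let P := pullback i.hom pr.hom
    let WU : Over (Spec (CommRingCat.of R)) := pullback z j
    have sqW : IsPullback ((yon _).map (pullback.fst z j)) ((yon _).map (pullback.snd z j)) ((yon _).map z)
        ((yon _).map j) := (IsPullback.of_hasPullback z j).map (yon _)
    let w : (yon _).obj WU ⟶ P := pullback.lift ((yon _).map (pullback.fst z j) ≫ g)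
      ((yon _).map (pullback.snd z j) ≫ m) (by
        rw [Category.assoc, Category.assoc, sqZ.w, hm.w, ← Category.assoc, sqW.w, Category.assoc])
    have hw : IsPullback w ((yon _).map (pullback.snd z j)) (pullback.snd i.hom pr.hom) m := by
      refine IsPullback.of_right ?_ (pullback.lift_snd _ _ _) (IsPullback.of_hasPullback i.hom pr.hom)
      rw [pullback.lift_fst, hm.w]
      exact sqW.paste_horiz sqZ
    have hme : RepWith @Etale m := repWith_of_isPullback hm.flip hb
    have hms : RepWith @Surjective m := repWith_of_isPullback hm.flip hbs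
    obtain ⟨ψ, hψ⟩ := exists_factor_of_cover (repWith_of_isPullback hw.flip hme) (repWith_of_isPullback hw.flip hms)
      (pullback.snd i.hom pr.hom) (j := k.hom) (by
        obtain ⟨gl, hgl⟩ := (factor_iff_of_isPullback hs (pullback.snd z j)).1 ((factor_iff_ker_le s _).2 (by
          have h1 : z.left.ker ≤ ((pullback.snd z j).left ≫ j.left).ker := by
            rw [← Over.comp_left, ← pullback.condition, Over.comp_left]
            exact Scheme.Hom.le_ker_comp _ _
          have h2 : s.left.ker = k'.left.ker.comap j.left := by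
            have sq' : IsPullback (𝟙 HU.left) s.left k'.left j.left := by
              haveI : Mono η.left := by
                haveI : IsPreimmersion (Spec.map (CommRingCat.ofHom (algebraMap R (FractionRing R)))) :=
                  IsPreimmersion.of_isLocalization (nonZeroDivisors R)
                exact inferInstanceAs (Mono (Spec.map (CommRingCat.ofHom (algebraMap R (FractionRing R)))))
              haveI : Mono j.left := sqj.flip.mono_snd_of_mono
              exact IsPullback.of_horiz_isIso_mono ⟨by simp [k']⟩
            haveI : Flat j.left := MorphismProperty.of_isPullback sqj.flip ((HasRingHomProperty.Spec_iff (P := @Flat)).2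
              (RingHom.flat_algebraMap_iff.2 (IsLocalization.flat (FractionRing R) (nonZeroDivisors R))))
            rw [← Groth.Agent.S4667.result k'.left j.left, ← sq'.isoPullback_hom_snd, Scheme.Hom.ker_comp_of_isIso]
          rw [h2, ← Scheme.IdealSheafData.le_map_iff_comap_le, ← Scheme.Hom.ker_comp, ← hker]
          exact h1))
        exact ⟨gl, by rw [hgl, hw.w]⟩)
    refine IsPullback.of_isLimit' ⟨by rw [hf']⟩ (PullbackCone.IsLimit.mk _
      (fun c => pullback.lift c.fst c.snd c.condition ≫ ψ) (fun c => ?_) (fun c => ?_) (fun c r h₁ h₂ => ?_))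
    · rw [← cancel_mono i.hom, Category.assoc, hf', Category.assoc, reassoc_of% hψ]
      exact (pullback.lift_snd_assoc _ _ _ _).trans c.condition.symm
    · rw [Category.assoc, hψ, pullback.lift_snd]
    · rw [← cancel_mono k.hom, h₂, Category.assoc, hψ, pullback.lift_snd]
  · intro Z' i' m' hi' hfl sq
    let ZU' : Over (Spec (CommRingCat.of R)) := hi'.rep.pullback b
    let g' : (yon _).obj ZU' ⟶ Z'.obj := hi'.rep.fst b
    let z' : ZU' ⟶ U := hi'.rep.snd b
    have sqZ' : IsPullback g' ((yon _).map z') i'.hom b := hi'.rep.isPullback b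
    haveI : IsClosedImmersion z'.left := hi'.property_snd b
    have hk' : z'.left.ker = k'.left.ker := key Z' i' m' hi' hfl sq
    haveI := mono_of_closedImmersion hZ.1
    haveI := mono_of_closedImmersion hi'
    obtain ⟨u, hu⟩ := exists_factor_of_cover hge hgs i.hom (j := i'.hom) (by
      rw [sqZ.w, ← factor_iff_of_isPullback sqZ', factor_iff_ker_le, hk', ← hker])
    obtain ⟨v, hv⟩ := exists_factor_of_cover (repWith_of_isPullback sqZ'.flip hb)
      (repWith_of_isPullback sqZ'.flip hbs) i'.hom (j := i.hom) (by
      rw [sqZ'.w, ← factor_iff_of_isPullback sqZ, factor_iff_ker_le, hk', ← hker])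
    refine ⟨⟨ObjectProperty.homMk u, ObjectProperty.homMk v, ObjectProperty.hom_ext _ ?_,
      ObjectProperty.hom_ext _ ?_⟩, ObjectProperty.hom_ext _ hu⟩
    · show u ≫ v = 𝟙 _
      rw [← cancel_mono i.hom, Category.assoc, hv, hu, Category.id_comp]
    · show v ≫ u = 𝟙 _
      rw [← cancel_mono i'.hom, Category.assoc, hu, hv, Category.id_comp]

end Groth.Agent.S18500
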