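import Groth.Statements.S18519
import Groth.Agent.CSALib.Splitting
import Groth.Agent.CSALib.BaseChange

set_option autoImplicit false
set_option maxHeartbeats 1000000
set_option linter.style.haveILetI false
universe u
open scoped TensorProduct
open Brauer

namespace Groth.Agent.S18519

open Groth.Agent

/-- For a field K with maximal abelian extension K_ab, cd(K_ab) ≤ 1 if and only if for every etale
K-algebra E the restriction map Br(E) ⟶ Br(E ⊗_K K_ab) is trivial; the same holds with the maximal
solvable extension. Stated here for an arbitrary separable algebraic extension F of K in place of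
K_ab (the published lemma takes for F the maximal abelian or the maximal solvable extension of K;
this row allows any separable algebraic extension), with cd(F) ≤ 1 unfolded by the Brauer-group
criterion (every finite separable extension of F has trivial Brauer group) and with etale algebras
replaced by their field factors: (a) every finite-dimensional central division algebra over a finite
separable extension F′ of F is F′ itself; if and only if (b) for every finite separable extension E
of K, every finite-dimensional central division algebra D over E and every field M containing E and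
F compatibly over K, the base change M ⊗_E D is isomorphic over M to a matrix algebra over M. -/
theorem result
    (K F : Type u) [Field K] [Field F] [Algebra K F] [Algebra.IsSeparable K F] :
    (∀ (F' : Type u) [Field F'] [Algebra F F'] [FiniteDimensional F F'] [Algebra.IsSeparable F F']
        (D : Type u) [DivisionRing D] [Algebra F' D] [Algebra.IsCentral F' D] [FiniteDimensional F' D],
        Module.finrank F' D = 1) ↔
    (∀ (E : Type u) [Field E] [Algebra K E] [FiniteDimensional K E] [Algebra.IsSeparable K E]
        (D : Type u) [DivisionRing D] [Algebra E D] [Algebra.IsCentral E D] [FiniteDimensional E D]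
        (M : Type u) [Field M] [Algebra K M] [Algebra E M] [Algebra F M] [IsScalarTower K E M]
        [IsScalarTower K F M],
        ∃ n : ℕ, Nonempty ((M ⊗[E] D) ≃ₐ[M] Matrix (Fin n) (Fin n) M)) := by
  classical
  constructor
  · intro ha E _ _ _ _ D _ _ _ _ M _ _ _ _ _ _
    let j : E →ₐ[K] M := IsScalarTower.toAlgHom K E M
    let S : Set M := Set.range (fun i => j (Module.finBasis K E i))
    let F' : IntermediateField F M := IntermediateField.adjoin F S
    have hint : ∀ x : E, IsSeparable F (j x) := fun x => by
      have h1 : IsSeparable K (j x) := by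
        unfold IsSeparable
        rw [minpoly.algHom_eq j j.toRingHom.injective]
        exact Algebra.IsSeparable.isSeparable K x
      exact IsSeparable.tower_top F h1
    haveI : FiniteDimensional F F' := by
      haveI : Finite S := (Set.finite_range _).to_subtype
      refine IntermediateField.finiteDimensional_adjoin ?_
      rintro _ ⟨i, rfl⟩
      exact (hint _).isIntegral
    haveI : Algebra.IsSeparable F F' := by
      rw [IntermediateField.isSeparable_adjoin_iff_isSeparable]
      rintro _ ⟨i, rfl⟩
      exact hint _
    have hmem : ∀ x : E, j x ∈ F' := fun x => by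
      rw [← (Module.finBasis K E).sum_repr x, map_sum]
      refine sum_mem fun i _ => ?_
      rw [Algebra.smul_def, map_mul, j.commutes, IsScalarTower.algebraMap_apply K F M]
      exact mul_mem (F'.algebraMap_mem _) (IntermediateField.subset_adjoin F S ⟨i, rfl⟩)
    letI : Algebra E F' := ((algebraMap E M).codRestrict F' hmem).toAlgebra
    haveI : IsScalarTower E F' M := IsScalarTower.of_algebraMap_eq fun _ => rfl
    haveI : Algebra.IsCentral F' (F' ⊗[E] D) := CSALib.isCentral_baseChange E D F'
    haveI : IsSimpleRing (F' ⊗[E] D) := CSALib.isSimpleRing_baseChange E D F'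
    obtain ⟨n, hn, D', _, _, hc, hf, ⟨e⟩⟩ := CSALib.exists_division F' (F' ⊗[E] D)
    have h1 := ha F' D'
    let e' : D' ≃ₐ[F'] F' := (AlgEquiv.ofBijective (Algebra.ofId F' D')
      ⟨(algebraMap F' D').injective, fun x => by
        obtain ⟨c, hc⟩ := exists_smul_eq_of_finrank_eq_one h1 (one_ne_zero (α := D')) x
        exact ⟨c, by rw [← hc, Algebra.ofId_apply, ← Algebra.algebraMap_eq_smul_one]⟩⟩).symm
    exact ⟨n, ⟨CSALib.splitTrans M (e.trans e'.mapMatrix)⟩⟩
  · intro hb F' _ _ _ _ D _ _ _ _
    letI : Algebra K F' := ((algebraMap F F').comp (algebraMap K F)).toAlgebra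
    haveI : IsScalarTower K F F' := IsScalarTower.of_algebraMap_eq fun _ => rfl
    haveI : Algebra.IsSeparable K F' := Algebra.IsSeparable.trans K F F'
    let ι := Fin (Module.finrank F' D)
    let b : Module.Basis ι F' D := Module.finBasis F' D
    let S : Set F' := Set.range (fun p : ι × ι × ι => b.repr (b p.1 * b p.2.1) p.2.2) ∪
      Set.range (fun i => b.repr 1 i)
    let E : IntermediateField K F' := IntermediateField.adjoin K S
    haveI : FiniteDimensional K E := by
      haveI : Finite S := ((Set.finite_range _).union (Set.finite_range _)).to_subtype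
      refine IntermediateField.finiteDimensional_adjoin fun x _ => ?_
      exact Algebra.IsIntegral.isIntegral x
    haveI : IsScalarTower E F' D := inferInstance
    let W : Submodule E D := Submodule.span E (Set.range b)
    have hcoef : ∀ v : ι → F', (∀ i, v i ∈ E) → ∑ i, v i • b i ∈ W := fun v hv => by
      refine sum_mem fun i _ => ?_
      have : v i • b i = (⟨v i, hv i⟩ : E) • b i := (IsScalarTower.algebraMap_smul F' (⟨v i, hv i⟩ : E) (b i))
      rw [this]
      exact W.smul_mem _ (Submodule.subset_span ⟨i, rfl⟩)
    have hone : (1 : D) ∈ W := by
      rw [← b.sum_repr 1]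
      exact hcoef _ fun i => IntermediateField.subset_adjoin K S (Or.inr ⟨i, rfl⟩)
    have hmul : ∀ x y, x ∈ W → y ∈ W → x * y ∈ W := by
      intro x y hx hy
      induction hx, hy using Submodule.span_induction₂ with
      | mem_mem x y hx hy =>
        obtain ⟨i, rfl⟩ := hx
        obtain ⟨k, rfl⟩ := hy
        rw [← b.sum_repr (b i * b k)]
        exact hcoef _ fun l => IntermediateField.subset_adjoin K S (Or.inl ⟨(i, k, l), rfl⟩)
      | zero_left y hy => simp
      | zero_right x hx => simp
      | add_left x y z hx hy hz h1 h2 => rw [add_mul]; exact add_mem h1 h2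
      | add_right x y z hx hy hz h1 h2 => rw [mul_add]; exact add_mem h1 h2
      | smul_left r x y hx hy h => rw [smul_mul_assoc]; exact W.smul_mem r h
      | smul_right r x y hx hy h => rw [mul_smul_comm]; exact W.smul_mem r h
    let DE : Subalgebra E D := W.toSubalgebra hone hmul
    haveI : Module.Finite E DE := Module.Finite.iff_fg.2 (Submodule.fg_span (Set.finite_range b))
    letI : DivisionRing DE := divisionRingOfFiniteDimensional E DE
    haveI : Algebra.IsCentral E DE := ⟨fun z hz => by
      have hb' : ∀ i, (z : D) * b i = b i * (z : D) := fun i =>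
        (congrArg Subtype.val (Subalgebra.mem_center_iff.1 hz ⟨b i, Submodule.subset_span ⟨i, rfl⟩⟩)).symm
      have hzc : (z : D) ∈ Subalgebra.center F' D := Subalgebra.mem_center_iff.2 fun y => by
        rw [← b.sum_repr y, Finset.sum_mul, Finset.mul_sum]
        exact Finset.sum_congr rfl fun i _ => by rw [smul_mul_assoc, mul_smul_comm, hb' i]
      obtain ⟨f, hf⟩ := Algebra.IsCentral.out hzc
      have hrep : ∀ w ∈ W, ∀ i, b.repr w i ∈ E := by
        intro w hw
        induction hw using Submodule.span_induction with
        | mem x hx =>
          obtain ⟨k, rfl⟩ := hx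
          intro i
          rw [b.repr_self_apply]
          split_ifs
          · exact one_mem E
          · exact zero_mem E
        | zero => intro i; simp
        | add x y hx hy h1 h2 => intro i; rw [map_add, Finsupp.add_apply]; exact add_mem (h1 i) (h2 i)
        | smul r x hx h =>
          intro i
          rw [← IsScalarTower.algebraMap_smul F' r x, map_smul, Finsupp.smul_apply, smul_eq_mul]
          exact mul_mem r.2 (h i)
      obtain ⟨i, hi⟩ : ∃ i, b.repr (1 : D) i ≠ 0 := by
        by_contra h
        push Not at h
        exact one_ne_zero (b.repr.injective (Finsupp.ext fun i => by simpa using h i) : (1 : D) = 0)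
      have hfE : f ∈ E := by
        have h1 := hrep z z.2 i
        have h2 : (z : D) = f • (1 : D) := by rw [← Algebra.algebraMap_eq_smul_one]; exact hf.symm
        rw [h2, map_smul, Finsupp.smul_apply, smul_eq_mul] at h1
        have h3 := hrep 1 hone i
        simpa [mul_assoc, mul_inv_cancel₀ hi] using mul_mem h1 (inv_mem h3)
      exact Algebra.mem_bot.2 ⟨⟨f, hfE⟩, Subtype.ext hf⟩⟩
    obtain ⟨n, ⟨e⟩⟩ := hb E DE F'
    let φ : F' ⊗[E] DE →ₐ[F'] D := Algebra.TensorProduct.lift (Algebra.ofId F' D) DE.val
      (fun x y => Algebra.commutes x (DE.val y))
    have hsurj : Function.Surjective φ := by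
      rw [← AlgHom.range_eq_top, eq_top_iff]
      intro y _
      rw [← b.sum_repr y]
      refine sum_mem fun i _ => Subalgebra.smul_mem _ ?_ _
      exact ⟨1 ⊗ₜ ⟨b i, Submodule.subset_span ⟨i, rfl⟩⟩, (Algebra.TensorProduct.lift_tmul _ _ _ _ _).trans (by simp)⟩
    have hle : Module.finrank E DE ≤ Module.finrank F' D := by
      calc Module.finrank E DE = (Set.range b).finrank E := rfl
        _ ≤ Fintype.card ι := finrank_range_le_card b
        _ = _ := Fintype.card_fin _
    have hge := LinearMap.finrank_le_finrank_of_surjective (f := φ.toLinearMap) hsurj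
    rw [Module.finrank_baseChange] at hge
    have hrank : Module.finrank F' (F' ⊗[E] DE) = Module.finrank F' D := by
      rw [Module.finrank_baseChange]; omega
    have hinj : Function.Injective φ :=
      (LinearMap.injective_iff_surjective_of_finrank_eq_finrank hrank).2 hsurj
    let ψ : D ≃ₐ[F'] Matrix (Fin n) (Fin n) F' :=
      (AlgEquiv.ofBijective φ ⟨hinj, hsurj⟩).symm.trans e
    have hn : n = 1 := by
      haveI : IsDomain (Matrix (Fin n) (Fin n) F') :=
        MulEquiv.isDomain D ψ.symm.toMulEquiv
      rcases n with _ | _ | n
      · exact absurd (Subsingleton.elim (ψ 1) (ψ 0)) (ψ.injective.ne one_ne_zero)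
      · rfl
      · exfalso
        have h0 : (Matrix.single (0 : Fin (n + 2)) (0 : Fin (n + 2)) (1 : F')) *
            Matrix.single (1 : Fin (n + 2)) (1 : Fin (n + 2)) (1 : F') = 0 := by
          ext i j
          rcases eq_or_ne i 0 with rfl | h
          · simp only [Matrix.mul_apply, Matrix.single, Matrix.of_apply, Matrix.zero_apply]
            refine Finset.sum_eq_zero fun k _ => ?_
            rcases eq_or_ne k 0 with rfl | hk <;> simp [*, Ne.symm] 
          · simp [Matrix.mul_apply, Matrix.single, h.symm]
        rcases mul_eq_zero.1 h0 with h | h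
        · simpa using congrFun (congrFun h 0) 0
        · simpa using congrFun (congrFun h 1) 1
    rw [ψ.toLinearEquiv.finrank_eq, Module.finrank_matrix, hn]
    simp

end Groth.Agent.S18519
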