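import Groth.Statements.S18522
import Groth.Agent.ParShLib.CurveDeg
import Groth.Agent.Lib.CurveStable

set_option autoImplicit false
set_option backward.isDefEq.respectTransparency false
set_option backward.isDefEq.respectTransparency.types false
set_option maxHeartbeats 1000000
universe u
open CategoryTheory CategoryTheory.Limits AlgebraicGeometry
open ParSh

namespace Groth.Agent.S18522

/-- Let k be an algebraically closed field of characteristic zero, X a smooth proper geometrically
connected curve over k (topological dimension one) of genus g ≥ 2, and I the ideal of a reduced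
effective Cartier divisor on X (a finite set of points). Let E and F be finite locally free
O_X-modules of ranks r and s with parabolic structures 𝓔 and 𝓕 along I, and φ : E → F a parabolic
homomorphism. Factor φ as an epimorphism q : E → V followed by monomorphisms u : V → V' and ι : V' →
F, where V and V' are finite locally free of the same rank r'' and the cokernel of ι is finite
locally free, so that V is the image of φ and V' the sub-bundle of F it generates. Give V the
structure induced from 𝓔 as a quotient and V' the structure induced from 𝓕 as a sub-module. Then the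
parabolic degree of V is at most the parabolic degree of V' (parabolic degree in rank r'' being χ −
r''·χ(O_X) plus the sum of the weights times the Euler characteristics of the successive filtration
quotients). The published statement is set with E carrying a semistable structure with trivial
determinant and F carrying the same weights as E; neither assumption is used. -/
theorem result (k : Type u) [Field k] [IsAlgClosed k] [CharZero k]
    (X : Scheme.{u}) [X.Over (Spec (CommRingCat.of k))]
    [IsProper (X ↘ Spec (CommRingCat.of k))] [Smooth (X ↘ Spec (CommRingCat.of k))]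
    [GeometricallyConnected (X ↘ Spec (CommRingCat.of k))] (hdim : topologicalKrullDim ↥X = 1)
    (g : ℕ) (hg : Curv2.genus k X = g) (hg2 : 2 ≤ g)
    (I : X.IdealSheafData) (hD : FGA.IsEffCartier I) [AlgebraicGeometry.IsReduced I.subscheme]
    {E F V V' : X.Modules} (r s r'' : ℕ) (hE : FlatMod.IsFinLocFreeOfRank r E)
    (hF : FlatMod.IsFinLocFreeOfRank s F)
    (𝓔 : ParSh.Str E) (h𝓔 : 𝓔.Along I) (𝓕 : ParSh.Str F) (h𝓕 : 𝓕.Along I)
    (φ : E ⟶ F) (hφ : ParSh.IsParHom 𝓔 𝓕 φ)
    (q : E ⟶ V) [Epi q] (u : V ⟶ V') [Mono u] (ι : V' ⟶ F) [Mono ι] (hfac : q ≫ u ≫ ι = φ)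
    (hV : FlatMod.IsFinLocFreeOfRank r'' V) (hV' : FlatMod.IsFinLocFreeOfRank r'' V')
    (hsat : FlatMod.IsFinLocFree (cokernel ι)) :
    (𝓔.coinduced q).parDeg k X r'' ≤ (𝓕.induced ι).parDeg k X r'' := by
  haveI : IsIntegral X := CurveStable.isIntegral_of_geometricallyConnected (k := k)
  haveI := CurveCohLib.isNoetherian' (k := k) (X := X)
  have coh : ∀ {G : X.Modules} {n : ℕ}, FlatMod.IsFinLocFreeOfRank n G → Coh.IsCoh G := fun h =>
    QCoh.isCoh_iff_isFP.2 (QCoh.isFP_of_isFinLocFree (ConsPropLib.isFinLocFreeOfRank_iff.1 h).1)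
  have hVc := coh hV
  have hV'c := coh hV'
  have hFc := coh hF
  haveI : IsLocallyNoetherian X := inferInstance
  haveI := ParShLib.mono_resDMap I ι hsat
  have hbV : (𝓔.coinduced q).bot = ParSh.twistSub I V := by
    show imageSubobject (𝓔.bot.arrow ≫ q) = _
    rw [h𝓔]
    exact ParShLib.image_twistSub I q
  have hbV' : (𝓕.induced ι).bot = ParSh.twistSub I V' := by
    show (Subobject.pullback ι).obj 𝓕.bot = _
    rw [h𝓕]
    exact ParShLib.pullback_twistSub I ι
  have hlow1 : ∀ a, ParSh.twistSub I V ≤ (𝓔.coinduced q).at a := fun a =>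
    hbV ▸ (𝓔.coinduced q).bot_le_at a
  have hlow2 : ∀ a, ParSh.twistSub I V' ≤ (𝓕.induced ι).at a := fun a =>
    hbV' ▸ (𝓕.induced ι).bot_le_at a
  -- comparison of the filtrations
  have hcmp : ∀ a ∈ Set.Icc (0 : ℝ) 1,
      (Curv2.euler k X ((𝓔.coinduced q).at a : X.Modules) : ℝ) ≤ Curv2.euler k X ((𝓕.induced ι).at a : X.Modules) := by
    intro a ha
    set B := (𝓕.induced ι).at a with hB
    let P := (Subobject.pullback u).obj B
    have hfac' : q ≫ u ≫ ι = φ := hfac
    have hsub : ∀ S : Subobject E, S ≤ 𝓔.at a → imageSubobject (S.arrow ≫ q) ≤ P := fun S hS => by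
      have h1 := hφ a ha.1 ha.2
      have hw : (S.arrow ≫ q ≫ u) ≫ ι = (Subobject.ofLE S _ hS ≫ (𝓕.at a).factorThru _ h1) ≫ (𝓕.at a).arrow := by
        rw [Category.assoc, Category.assoc, Category.assoc, hfac', Subobject.factorThru_arrow,
          Subobject.ofLE_arrow_assoc]
      have hpb := Subobject.isPullback ι (𝓕.at a)
      let g := hpb.lift _ (S.arrow ≫ q ≫ u) hw.symm
      have hg : g ≫ ((Subobject.pullback ι).obj (𝓕.at a)).arrow = S.arrow ≫ q ≫ u := hpb.lift_snd _ _ _
      have hB' : B = (Subobject.pullback ι).obj (𝓕.at a) := ParShLib.induced_at 𝓕 ι a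
      have hg' : ∃ g' : (S : X.Modules) ⟶ (B : X.Modules), g' ≫ B.arrow = (S.arrow ≫ q) ≫ u := by
        rw [hB', Category.assoc]
        exact ⟨g, hg⟩
      obtain ⟨g', hg'⟩ := hg'
      have hpu := Subobject.isPullback u B
      exact imageSubobject_le _ (hpu.lift g' (S.arrow ≫ q) hg') (hpu.lift_snd _ _ _)
    have hle : (𝓔.coinduced q).at a ≤ P :=
      (𝓔.coinduced q).at_le (fun j hj => hsub _ (𝓔.piece_le_at j hj)) (hsub _ (𝓔.bot_le_at a))
    let f : (((𝓔.coinduced q).at a : Subobject V) : X.Modules) ⟶ (B : X.Modules) :=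
      Subobject.ofLE _ _ hle ≫ Subobject.pullbackπ u B
    haveI : Mono (Subobject.pullbackπ u B) := (Subobject.isPullback u B).mono_fst_of_mono
    haveI : Mono f := mono_comp _ _
    have h := ParShLib.euler_le_of_mono k hdim f (ParShLib.isCoh_of_twistSub_le I k hdim hD hVc (hlow1 a))
      (ParShLib.isCoh_of_twistSub_le I k hdim hD hV'c (hlow2 a)) (by
        rw [ParShLib.genRank_of_twistSub_le I hD (hlow1 a), ParShLib.genRank_of_twistSub_le I hD (hlow2 a),
          CurveCohLib.genRank_eq hV, CurveCohLib.genRank_eq hV'])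
    exact_mod_cast h
  rw [ParShLib.parDeg_eq k (𝓔.coinduced q) r'', ParShLib.parDeg_eq k (𝓕.induced ι) r'', hbV, hbV',
    ParShLib.euler_twistSub k I hVc, ParShLib.euler_twistSub k I hV'c, ParShLib.euler_resD_eq I k hdim hD hV hV']
  have hint := intervalIntegral.integral_mono_on (μ := MeasureTheory.volume) zero_le_one
    (ParShLib.intervalIntegrable_at (𝓔.coinduced q) fun A => (Curv2.euler k X (A : X.Modules) : ℝ))
    (ParShLib.intervalIntegrable_at (𝓕.induced ι) fun A => (Curv2.euler k X (A : X.Modules) : ℝ)) hcmp
  push_cast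
  linarith

end Groth.Agent.S18522
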