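import Groth.Statements.S18523
import Groth.Agent.S18522
import Groth.Agent.ParShLib.Gap
import Groth.Agent.ParShLib.CurveDeg
import Groth.Agent.Lib.CurveSection

set_option autoImplicit false
set_option backward.isDefEq.respectTransparency false
set_option backward.isDefEq.respectTransparency.types false
set_option maxHeartbeats 1000000
universe u
open CategoryTheory CategoryTheory.Limits AlgebraicGeometry
open ParSh

namespace Groth.Agent.S18523

open Groth.Agent in
/-- The real filtration of an image structure. -/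
theorem coinduced_at {X : Scheme.{u}} {E G : X.Modules} (𝓔 : ParSh.Str E) (q : E ⟶ G) [Epi q] (a : ℝ) :
    (𝓔.coinduced q).at a = imageSubobject ((𝓔.at a).arrow ≫ q) := by
  classical
  by_cases h : ∃ j, a ≤ 𝓔.wt j
  · let S := Finset.univ.filter fun j => a ≤ 𝓔.wt j
    have hS : S.Nonempty := h.imp fun j hj => Finset.mem_filter.2 ⟨Finset.mem_univ _, hj⟩
    have hm : a ≤ 𝓔.wt (S.min' hS) := (Finset.mem_filter.1 (S.min'_mem hS)).2
    have hlt : ∀ j < S.min' hS, 𝓔.wt j < a := fun j hj => not_le.1 fun hle =>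
      not_le.2 hj (S.min'_le j (Finset.mem_filter.2 ⟨Finset.mem_univ _, hle⟩))
    rw [𝓔.at_eq_piece _ hm hlt, (𝓔.coinduced q).at_eq_piece (S.min' hS) hm hlt]
    rfl
  · push Not at h
    rw [𝓔.at_eq_bot h, (𝓔.coinduced q).at_eq_bot h]
    rfl

open Groth.Agent in
/-- Parabolic degrees add along a parabolic extension. -/
theorem parDeg_add (k : Type u) [Field k] {X : Scheme.{u}} [X.Over (Spec (CommRingCat.of k))]
    [IsProper (X ↘ Spec (CommRingCat.of k))] {S : ShortComplex X.Modules} (hS : S.ShortExact)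
    (h1 : Coh.IsCoh S.X₁) (h3 : Coh.IsCoh S.X₃) (𝓔 : ParSh.Str S.X₂)
    (hp : ∀ j, Coh.IsCoh ((𝓔.piece j : Subobject S.X₂) : X.Modules))
    (hpX : ∀ j, Coh.IsCoh ((𝓔.pieceX j : Subobject S.X₂) : X.Modules)) (a b : ℕ) (h2 : Coh.IsCoh S.X₂)
    [Epi S.g] :
    𝓔.parDeg k X (a + b) = (𝓔.induced S.f).parDeg k X a + (𝓔.coinduced S.g).parDeg k X b := by
  haveI := CurveCohLib.isNoetherian_of_proper (k := k) (X := X)
  let f : X.Modules → ℝ := fun A => (Curv2.euler k X A : ℝ)
  have key : ∀ P : Subobject S.X₂, Coh.IsCoh (P : X.Modules) → f (P : X.Modules) =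
      f (((Subobject.pullback S.f).obj P : Subobject S.X₁) : X.Modules) +
        f ((imageSubobject (P.arrow ≫ S.g) : Subobject S.X₃) : X.Modules) := fun P hP => by
    obtain ⟨w, hT⟩ := ParShLib.shortExact_pullback_image hS P
    obtain ⟨g1, g3⟩ := ParShLib.isCoh_parts _ (P.arrow ≫ S.g) hP h3 w hT
    have h := CurveCohLib.euler_additive (k := k) hT g1 hP g3
    dsimp only at h
    show (Curv2.euler k X _ : ℝ) = (Curv2.euler k X _ : ℝ) + (Curv2.euler k X _ : ℝ)
    exact_mod_cast h
  have hE := CurveCohLib.euler_additive (k := k) hS h1 h2 h3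
  have hw : 𝓔.parWt k X = (𝓔.induced S.f).parWt k X + (𝓔.coinduced S.g).parWt k X := by
    show ∑ j : Fin (𝓔.l + 1), _ = ∑ j : Fin (𝓔.l + 1), _ + ∑ j : Fin (𝓔.l + 1), _
    rw [← Finset.sum_add_distrib]
    refine Finset.sum_congr rfl fun j _ => ?_
    show 𝓔.wt j * (f _ - f _) = 𝓔.wt j * (f _ - f _) + 𝓔.wt j * (f _ - f _)
    rw [key _ (hp j), key _ (hpX j.succ), ParShLib.induced_pieceX 𝓔 S.f j.succ,
      ParShLib.coinduced_pieceX 𝓔 S.g j.succ]
    exact (by intros; ring : ∀ t p q r s : ℝ, t * (p + q - (r + s)) = t * (p - r) + t * (q - s)) _ _ _ _ _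
  unfold ParSh.Str.parDeg Curv2.deg
  rw [hw, hE]
  push_cast
  ring


/-- Let k be an algebraically closed field of characteristic zero, X a smooth proper geometrically
connected curve over k (topological dimension one) of genus g ≥ 2, and I the ideal of a reduced
effective Cartier divisor on X. Let F be a finite locally free O_X-module of rank r with a parabolic
structure 𝓕 along I which is parabolic stable: for every finite locally free sub-module F₁ → F of
rank r₁ with 0 < r₁ < r, the structure induced on F₁ has r·par-deg(F₁) < r₁·par-deg(F). Let 0 → F' →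
F → F'' → 0 be a parabolic extension (a short exact sequence in which F' carries the structure
induced from 𝓕 as a sub-module and F'' the structure induced as a quotient) with F' and F'' finite
locally free. Then every parabolic homomorphism F'' → F' is zero. The published statement tests
stability on quotient bundles; on a smooth proper curve this singles out the same parabolic bundles
as the test on sub-modules used here. -/
theorem result (k : Type u) [Field k] [IsAlgClosed k] [CharZero k]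
    (X : Scheme.{u}) [X.Over (Spec (CommRingCat.of k))]
    [IsProper (X ↘ Spec (CommRingCat.of k))] [Smooth (X ↘ Spec (CommRingCat.of k))]
    [GeometricallyConnected (X ↘ Spec (CommRingCat.of k))] (hdim : topologicalKrullDim ↥X = 1)
    (g : ℕ) (hg : Curv2.genus k X = g) (hg2 : 2 ≤ g)
    (I : X.IdealSheafData) (hD : FGA.IsEffCartier I) [AlgebraicGeometry.IsReduced I.subscheme]
    {F F' F'' : X.Modules} (r : ℕ) (hF : FlatMod.IsFinLocFreeOfRank r F)
    (𝓕 : ParSh.Str F) (h𝓕 : 𝓕.Along I) (hst : ParSh.IsParStable k X 𝓕 r)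
    (i : F' ⟶ F) (p : F ⟶ F'') [Epi p] (𝓕' : ParSh.Str F') (𝓕'' : ParSh.Str F'')
    (hext : ParSh.IsParExt i p 𝓕' 𝓕 𝓕'') (hF' : FlatMod.IsFinLocFree F') (hF'' : FlatMod.IsFinLocFree F'')
    (φ : F'' ⟶ F') (hφ : ParSh.IsParHom 𝓕'' 𝓕' φ) : φ = 0 := by
  haveI : IsIntegral X := CurveStable.isIntegral_of_geometricallyConnected (k := k)
  haveI := CurveCohLib.isNoetherian' (k := k) (X := X)
  obtain ⟨w, hS, rfl, rfl⟩ := hext
  haveI : Mono i := hS.mono_f
  by_contra hne
  let ψ : F ⟶ F := p ≫ φ ≫ i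
  have hψ0 : ψ ≠ 0 := fun h => hne (by
    have h1 : φ ≫ i = 0 := by rw [← cancel_epi p, comp_zero]; exact h
    rwa [← cancel_mono i, zero_comp])
  have hψψ : ψ ≫ ψ = 0 := by simp [ψ, reassoc_of% w]
  have hpid := CurveCohLib.isPrincipalIdealRing_stalk_of_smooth (X ↘ Spec (CommRingCat.of k)) hdim.le
  obtain ⟨a, b, hab, hK, hV, -⟩ := CurveCohLib.exists_ker_image k hpid ψ hF hF
  let q := Abelian.factorThruImage ψ
  let u := Abelian.image.ι ψ
  have hqu : q ≫ u = ψ := Abelian.image.fac ψ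
  have hb : 0 < b := Nat.pos_of_ne_zero fun h => hψ0 (by
    subst h
    rw [← hqu, (CurveCohLib.isZero_of_isFinLocFreeOfRank_zero hV).eq_of_tgt q 0, zero_comp])
  have ha : 0 < a := Nat.pos_of_ne_zero fun h => hψ0 (by
    subst h
    haveI : Mono ψ := Preadditive.mono_of_isZero_kernel ψ (CurveCohLib.isZero_of_isFinLocFreeOfRank_zero hK)
    rw [← cancel_mono ψ, hψψ, zero_comp])
  have coh : ∀ {G : X.Modules} {n : ℕ}, FlatMod.IsFinLocFreeOfRank n G → Coh.IsCoh G := fun h =>
    QCoh.isCoh_iff_isFP.2 (QCoh.isFP_of_isFinLocFree (ConsPropLib.isFinLocFreeOfRank_iff.1 h).1)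
  have hFc := coh hF
  have hVc := coh hV
  -- `ψ` is parabolic
  have hψ : ParSh.IsParHom 𝓕 𝓕 ψ := fun c hc0 hc1 => by
    have h2 := hφ c hc0 hc1
    rw [coinduced_at 𝓕 p c, ParShLib.induced_at 𝓕 i c] at h2
    refine (Subobject.factors_iff _ _).2 ⟨factorThruImageSubobject ((𝓕.at c).arrow ≫ p) ≫
      ((Subobject.pullback i).obj (𝓕.at c)).factorThru _ h2 ≫ Subobject.pullbackπ i (𝓕.at c), ?_⟩
    show (_ ≫ _ ≫ _) ≫ (𝓕.at c).arrow = _
    rw [Category.assoc, Category.assoc, (Subobject.isPullback i (𝓕.at c)).w, ← Category.assoc (Subobject.factorThru _ _ h2),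
      Subobject.factorThru_arrow, ← Category.assoc, ← Category.assoc]
    rw [imageSubobject_arrow_comp]
    simp [ψ]
  -- saturation of the image
  obtain ⟨V', ι, u', hι, hu', hu'm, hV', hsat⟩ : ∃ (V' : X.Modules) (ι : V' ⟶ F) (u' : Abelian.image ψ ⟶ V'),
      Mono ι ∧ u' ≫ ι = u ∧ Mono u' ∧ FlatMod.IsFinLocFreeOfRank b V' ∧ FlatMod.IsFinLocFree (cokernel ι) := by
    have hFl := CurveStable.isFinLocFree_of_rank hF
    have hVl := CurveStable.isFinLocFree_of_rank hV
    let P : ℤ → Prop := fun d => ∃ (G : X.Modules) (g : G ⟶ F) (l : Abelian.image ψ ⟶ G), Mono g ∧ l ≫ g = u ∧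
      FlatMod.IsFinLocFree G ∧ CurveBundle.rk G = CurveBundle.rk (Abelian.image ψ) ∧ CurveSlope.dg k G = d
    obtain ⟨d, ⟨G, g, l, hg, hl, hGl, hGr, hGd⟩, hmax⟩ : ∃ d, P d ∧ ∀ e, P e → e ≤ d := by
      refine Int.exists_greatest_of_bdd ⟨(Module.finrank k (Coh.HH X F 0) : ℤ) -
        (CurveBundle.rk (Abelian.image ψ) : ℤ) * Curv2.euler k X (Coh.structureModule X), ?_⟩
        ⟨_, Abelian.image ψ, u, 𝟙 _, inferInstance, Category.id_comp _, hVl, rfl, rfl⟩
      rintro e ⟨G, g, l, hg, -, hGl, hGr, rfl⟩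
      haveI := hg
      rw [← hGr]
      exact CurveStable.dg_le_h0 k hdim.le g (CurveStable.coh_of_free k hGl) hFc
    haveI := hg
    have hGc := CurveStable.coh_of_free k hGl
    haveI : Mono (l ≫ g) := by rw [hl]; infer_instance
    haveI : Mono l := mono_of_mono l g
    refine ⟨G, g, l, hg, hl, inferInstance, ?_, ?_⟩
    · have := CurveCohLib.isFinLocFreeOfRank_genRank hGl
      have e : CurveCohLib.genRank G = b := (show CurveCohLib.genRank G = CurveCohLib.genRank (Abelian.image ψ) from hGr).trans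
        (CurveCohLib.genRank_eq hV)
      rwa [e] at this
    · refine CurveSection.isFinLocFree_of_max_over k hdim.le g (cokernel.π g) (cokernel.condition g)
        { exact := ShortComplex.exact_of_g_is_cokernel _ (cokernelIsCokernel g) } hGc hFl
        (QCoh.isCoh_cokernel hGc.1 hFc g) fun G₂ g₂ hg₂ hG₂ hr ⟨l₂, hl₂⟩ => ?_
      rw [hGd]
      exact hmax _ ⟨G₂, g₂, l ≫ l₂, hg₂, by rw [Category.assoc, hl₂, hl], hG₂, hr.trans hGr, rfl⟩
  haveI := hι
  haveI := hu'm
  have hle := Groth.Agent.S18522.result k X hdim g hg hg2 I hD r r b hF hF 𝓕 h𝓕 𝓕 h𝓕 ψ hψ q u' ι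
    (by rw [hu']; exact hqu) hV hV' hsat
  -- additivity
  have hSψ : (ShortComplex.mk (kernel.ι ψ) q (by rw [← cancel_mono u, Category.assoc, hqu, kernel.condition, zero_comp])).ShortExact :=
    { exact := ShortComplex.exact_of_f_is_kernel _ (KernelFork.IsLimit.ofι' _ _ fun {T} t ht =>
        ⟨kernel.lift ψ t (by rw [← hqu, ← Category.assoc, ht, zero_comp]), kernel.lift_ι _ _ _⟩)
      mono_f := inferInstance
      epi_g := inferInstance }
  have hpieces : ∀ j, Coh.IsCoh ((𝓕.pieceX j : Subobject F) : X.Modules) := fun j =>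
    ParShLib.isCoh_of_twistSub_le I k hdim hD hFc (h𝓕 ▸ 𝓕.bot_le_pieceX j)
  have hadd : 𝓕.parDeg k X r = (𝓕.induced (kernel.ι ψ)).parDeg k X a + (𝓕.coinduced q).parDeg k X b := by
    rw [← hab]
    exact parDeg_add k hSψ (coh hK) hVc 𝓕 (fun j => by simpa using hpieces j.castSucc) hpieces a b hFc
  have h1 := hst (kernel ψ) a (kernel.ι ψ) inferInstance ha (by omega) hK
  have h2 := hst V' b ι inferInstance hb (by omega) hV'
  have hr : (r : ℝ) = (a : ℝ) + b := by exact_mod_cast hab.symm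
  have hr0 : (0 : ℝ) ≤ r := Nat.cast_nonneg r
  have h3 := mul_le_mul_of_nonneg_right hle hr0
  have h4 := congrArg (fun t : ℝ => 𝓕.parDeg k X r * t) hr
  have h5 := congrArg (fun t : ℝ => t * (r : ℝ)) hadd
  simp only [mul_add, add_mul] at h4 h5
  linarith

end Groth.Agent.S18523
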