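import Groth.Statements.S18529
import Groth.Agent.ParShLib.Gap

set_option autoImplicit false
set_option backward.isDefEq.respectTransparency false
set_option backward.isDefEq.respectTransparency.types false
set_option maxHeartbeats 1000000
universe u
open CategoryTheory CategoryTheory.Limits AlgebraicGeometry Polynomial
open ParSh

namespace Groth.Agent.S18529

theorem arith {a b v F P R K V : ℝ} (h1 : a * P ≤ (a + b) * K) (hα : P = K + V) (h2 : v * R ≤ F * V)
    (hr : (a + b) * R = F * P) (hc : b ≤ v) (hP : 0 < P) (hR : 0 < R) : a * P = (a + b) * K ∧ v ≤ b := by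
  subst hα
  have h4 : (a + b) * V ≤ b * (K + V) := by linarith
  have h5 : v * (R * (K + V)) ≤ (a + b) * V * R := by
    calc v * (R * (K + V)) = v * R * (K + V) := by ring
      _ ≤ F * V * (K + V) := mul_le_mul_of_nonneg_right h2 hP.le
      _ = F * (K + V) * V := by ring
      _ = (a + b) * R * V := by rw [hr]
      _ = (a + b) * V * R := by ring
  have h6 : v * (R * (K + V)) ≤ b * (R * (K + V)) :=
    h5.trans ((mul_le_mul_of_nonneg_right h4 hR.le).trans_eq (by ring))
  have hvb := le_of_mul_le_mul_right h6 (mul_pos hR hP)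
  have h7 : b * (R * (K + V)) ≤ (a + b) * V * R := (mul_le_mul_of_nonneg_right hc (mul_pos hR hP).le).trans h5
  have h8 : b * (K + V) ≤ (a + b) * V :=
    le_of_mul_le_mul_right ((by linarith : b * (K + V) * R ≤ (a + b) * V * R)) hR
  exact ⟨le_antisymm h1 (by linarith), hvb⟩

open Groth.Agent in
theorem at_congr {X : Scheme.{u}} {E : X.Modules} {n : ℕ} {w : Fin (n + 1) → ℝ}
    {p p' : Fin (n + 1) → Subobject E} {b b' : Subobject E} {h1 h2 h3 h4 h5 h6 h1' h2' h3' h4' h5' h6'}
    (hp : ∀ j, p j = p' j) (hb : b = b') (a : ℝ) :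
    (ParSh.Str.mk n p b w h1 h2 h3 h4 h5 h6).at a = (ParSh.Str.mk n p' b' w h1' h2' h3' h4' h5' h6').at a := by
  obtain rfl : p = p' := funext hp
  subst hb
  rfl

/-- A parabolic homomorphism between structures with the same weights maps pieces to pieces. -/
theorem factors_pieceX {X : Scheme.{u}} {E F : X.Modules} {n : ℕ} {w : Fin (n + 1) → ℝ}
    {p : Fin (n + 1) → Subobject E} {b : Subobject E} {p' : Fin (n + 1) → Subobject F} {b' : Subobject F}
    {h1 h2 h3 h4 h5 h6 h1' h2' h3' h4' h5' h6'} {f : E ⟶ F}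
    (hf : ParSh.IsParHom (ParSh.Str.mk n p b w h1 h2 h3 h4 h5 h6) (ParSh.Str.mk n p' b' w h1' h2' h3' h4' h5' h6') f)
    (j : Fin (n + 2)) :
    ((ParSh.Str.mk n p' b' w h1' h2' h3' h4' h5' h6').pieceX j).Factors
      (((ParSh.Str.mk n p b w h1 h2 h3 h4 h5 h6).pieceX j).arrow ≫ f) := by
  have hle1 : ∀ j, w j < 1 := fun j => lt_of_le_of_lt (h4.monotone (Fin.le_last j)) h6
  induction j using Fin.lastCases with
  | last =>
    have h := hf 1 zero_le_one le_rfl
    rw [ParSh.Str.at_eq_bot _ hle1, ParSh.Str.at_eq_bot _ hle1] at h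
    rwa [ParSh.Str.pieceX_last, ParSh.Str.pieceX_last]
  | cast i =>
    have h := hf (w i) (h5.trans (h4.monotone (Fin.zero_le i))) (hle1 i).le
    rw [ParSh.Str.at_eq_piece (ParSh.Str.mk n p b w h1 h2 h3 h4 h5 h6) i le_rfl fun j hj => h4 hj,
      ParSh.Str.at_eq_piece (ParSh.Str.mk n p' b' w h1' h2' h3' h4' h5' h6') i le_rfl fun j hj => h4 hj] at h
    rwa [ParSh.Str.pieceX_castSucc, ParSh.Str.pieceX_castSucc]


/-- Kernel and image of a parabolic homomorphism between semistable parabolic sheaves with the same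
reduced parabolic Hilbert polynomial, for one divisor. Let X be a scheme proper over a field k with
an ample invertible sheaf L, I the ideal of an effective Cartier divisor D on X, and d ≥ 1. Let E
and F be nonzero coherent O_X-modules, pure of dimension d, with Supp E ∩ Supp D and Supp F ∩ Supp D
of topological Krull dimension less than d, carrying finite weighted filtrations 𝓔 and 𝓕 along I by
coherent pieces, with the same set of weights and with smallest weight positive. Let P and R be the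
Hilbert polynomials of E and F, P_j and R_j those of the pieces, and Par_E = P_{l+1} + Σ_j w_j (P_j
− P_{j+1}), Par_F likewise; α_d denotes d! times the coefficient of degree d. Assume both filtered
sheaves are semistable for the reduced parabolic Hilbert polynomial: for every nonzero coherent
sub-module W → E whose cokernel is pure of dimension d or zero, with its induced filtration and any
Hilbert polynomials Q of W and Q_j of its pieces, Par_W(m)·α_d(P) ≤ Par_E(m)·α_d(Q) for all large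
natural m (and the same for F); and assume Par_E·α_d(R) = Par_F·α_d(P). Let f : E → F be a parabolic
homomorphism, j : K → E a monomorphism with 0 → K → E → F exact at E, and f = q ≫ u with q : E → V
an epimorphism and u : V → F a monomorphism. Then: (1) for all Hilbert polynomials Q_K of K and
Q_{K,j} of the pieces of the filtration induced on K, Par_K·α_d(P) = Par_E·α_d(Q_K) (the kernel has
the same reduced parabolic Hilbert polynomial); (2) the cokernel of u is pure of dimension d or zero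
(the image of f is saturated in F); (3) for every real a with 0 ≤ a ≤ 1, the a-th piece of the
filtration induced on V as a quotient of E equals the a-th piece of the filtration induced on V as a
sub-module of F. The published statement is phrased for parabolic sheaves along several divisors on
the fibres of a projective X → S over an algebraically closed field and concludes that such sheaves
form an abelian category; this row is the absolute one-divisor case of the kernel and image steps of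
its proof, with semistability tested on saturated sub-modules carrying the induced filtration. -/
theorem result (k : Type u) [Field k] (X : Scheme.{u})
    [X.Over (Spec (CommRingCat.of k))] [IsProper (X ↘ Spec (CommRingCat.of k))]
    (L : X.Modules) (hL : CohB1.IsAmple L) (I : X.IdealSheafData) (hD : FGA.IsEffCartier I) (d : ℕ) (hd : 1 ≤ d)
    {E F : X.Modules} (hE : Coh.IsCoh E) (hF : Coh.IsCoh F) (hE0 : ¬ IsZero E) (hF0 : ¬ IsZero F)
    (hEp : ShStab.IsPure X E d) (hFp : ShStab.IsPure X F d)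
    (hEs : topologicalKrullDim ↥(CohB1.support E ∩ (I.support : Set X)) < (d : WithBot ℕ∞))
    (hFs : topologicalKrullDim ↥(CohB1.support F ∩ (I.support : Set X)) < (d : WithBot ℕ∞))
    (𝓔 : ParSh.Str E) (h𝓔 : 𝓔.Along I) (𝓕 : ParSh.Str F) (h𝓕 : 𝓕.Along I)
    (hcE : ∀ j, Coh.IsCoh ((𝓔.pieceX j : Subobject E) : X.Modules))
    (hcF : ∀ j, Coh.IsCoh ((𝓕.pieceX j : Subobject F) : X.Modules))
    (hw : Set.range 𝓕.wt = Set.range 𝓔.wt) (hw0 : 0 < 𝓔.wt 0)
    (P R : ℚ[X]) (hP : ShStab.IsHilbPoly k X L E P) (hR : ShStab.IsHilbPoly k X L F R)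
    (PX : Fin (𝓔.l + 2) → ℚ[X]) (hPX : ∀ j, ShStab.IsHilbPoly k X L ((𝓔.pieceX j : Subobject E) : X.Modules) (PX j))
    (RX : Fin (𝓕.l + 2) → ℚ[X]) (hRX : ∀ j, ShStab.IsHilbPoly k X L ((𝓕.pieceX j : Subobject F) : X.Modules) (RX j))
    (hssE : (∀ (W : X.Modules) (ι : W ⟶ E), Mono ι → Coh.IsCoh W → ¬ IsZero W → ShStab.IsPure X (cokernel ι) d →
        ∀ (Q : ℚ[X]) (QX : Fin (𝓔.l + 2) → ℚ[X]), ShStab.IsHilbPoly k X L W Q →
          (∀ j, ShStab.IsHilbPoly k X L (((𝓔.induced ι).pieceX j : Subobject W) : X.Modules) (QX j)) →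
          ∃ M : ℕ, ∀ m : ℕ, M ≤ m →
            (W4swparbununimod.parPoly (𝓔.induced ι) QX).eval (m : ℝ) * (StabCat.alpha d P : ℝ) ≤
              (W4swparbununimod.parPoly 𝓔 PX).eval (m : ℝ) * (StabCat.alpha d Q : ℝ)))
    (hssF : (∀ (W : X.Modules) (ι : W ⟶ F), Mono ι → Coh.IsCoh W → ¬ IsZero W → ShStab.IsPure X (cokernel ι) d →
        ∀ (Q : ℚ[X]) (QX : Fin (𝓕.l + 2) → ℚ[X]), ShStab.IsHilbPoly k X L W Q →
          (∀ j, ShStab.IsHilbPoly k X L (((𝓕.induced ι).pieceX j : Subobject W) : X.Modules) (QX j)) →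
          ∃ M : ℕ, ∀ m : ℕ, M ≤ m →
            (W4swparbununimod.parPoly (𝓕.induced ι) QX).eval (m : ℝ) * (StabCat.alpha d R : ℝ) ≤
              (W4swparbununimod.parPoly 𝓕 RX).eval (m : ℝ) * (StabCat.alpha d Q : ℝ)))
    (hred : W4swparbununimod.parPoly 𝓔 PX * Polynomial.C (StabCat.alpha d R : ℝ) =
      W4swparbununimod.parPoly 𝓕 RX * Polynomial.C (StabCat.alpha d P : ℝ))
    (f : E ⟶ F) (hf : ParSh.IsParHom 𝓔 𝓕 f)
    {K V : X.Modules} (j : K ⟶ E) [Mono j] (w : j ≫ f = 0) (hex : (ShortComplex.mk j f w).Exact)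
    (q : E ⟶ V) [Epi q] (u : V ⟶ F) [Mono u] (hqu : q ≫ u = f) :
    (∀ (QK : ℚ[X]) (QKX : Fin (𝓔.l + 2) → ℚ[X]), ShStab.IsHilbPoly k X L K QK →
        (∀ j', ShStab.IsHilbPoly k X L (((𝓔.induced j).pieceX j' : Subobject K) : X.Modules) (QKX j')) →
        W4swparbununimod.parPoly (𝓔.induced j) QKX * Polynomial.C (StabCat.alpha d P : ℝ) =
          W4swparbununimod.parPoly 𝓔 PX * Polynomial.C (StabCat.alpha d QK : ℝ)) ∧
    ShStab.IsPure X (cokernel u) d ∧
    (∀ a : ℝ, 0 ≤ a → a ≤ 1 → (𝓔.coinduced q).at a = (𝓕.induced u).at a) := by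
  obtain ⟨n', pF, bF, w₁, f1, f2, f3, f4, f5, f6⟩ := 𝓕
  obtain rfl : n' = 𝓔.l := by
    have hc := congrArg Set.ncard hw
    rw [Set.ncard_range_of_injective f4.injective, Set.ncard_range_of_injective 𝓔.wt_strictMono.injective] at hc
    simpa using hc
  obtain rfl : w₁ = 𝓔.wt := (f4.range_inj 𝓔.wt_strictMono).1 hw
  let n := 𝓔.l
  let w₀ := 𝓔.wt
  let 𝓕 : ParSh.Str F := ⟨𝓔.l, pF, bF, 𝓔.wt, f1, f2, f3, f4, f5, f6⟩
  haveI := CurveCohLib.isNoetherian_of_proper (k := k) (X := X)
  -- the short exact sequence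
  have w' : j ≫ q = 0 := by rw [← cancel_mono u, Category.assoc, hqu, w, Limits.zero_comp]
  have hS : (ShortComplex.mk j q w').ShortExact :=
    { exact := ShortComplex.exact_of_f_is_kernel _ (KernelFork.IsLimit.ofι' _ _ fun {T} t ht =>
        have ht' : t ≫ f = 0 := by rw [← hqu, ← Category.assoc, ht, Limits.zero_comp]
        ⟨hex.lift t ht', hex.lift_f t ht'⟩)
      mono_f := inferInstance
      epi_g := inferInstance }
  have hK : Coh.IsCoh K :=
    ParShLib.isCoh_ofIso (IsLimit.conePointUniqueUpToIso (kernelIsKernel _) hS.fIsKernel) (QCoh.isCoh_kernel hE hF f |> fun h =>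
      ParShLib.isCoh_ofIso ((kernelIsoOfEq hqu.symm) ≪≫ kernelCompMono q u) h)
  let eV : cokernel j ≅ V := IsColimit.coconePointUniqueUpToIso (cokernelIsCokernel _) hS.gIsCokernel
  have hV : Coh.IsCoh V := ParShLib.isCoh_ofIso eV (QCoh.isCoh_cokernel hK.1 hE j)
  have hdE := HilbPoly.dim_le_of_isPure hEp hE
  have hdF := HilbPoly.dim_le_of_isPure hFp hF
  obtain ⟨V', ι', l, hι', hl, hV', hpur, hprop⟩ :=
    have hQV := HilbPoly.exists_hilb (k := k) hL.1 hV (HilbPoly.dim_mono hV hF u hdF)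
    HilbPoly.exists_saturation hL hF hdF u hV hQV.choose_spec.1
  haveI := hι'
  have hdK := HilbPoly.dim_mono hK hE j hdE
  have hdV := HilbPoly.dim_mono hV hF u hdF
  have hdV' := HilbPoly.dim_mono hV' hF ι' hdF
  obtain ⟨QV', hQV', -, -⟩ := HilbPoly.exists_hilb (k := k) hL.1 hV' hdV'
  obtain ⟨QK, hQK, -, -⟩ := HilbPoly.exists_hilb (k := k) hL.1 hK hdK
  obtain ⟨QV, hQV, -, -⟩ := HilbPoly.exists_hilb (k := k) hL.1 hV hdV
  have hαV' : StabCat.alpha d QV' = StabCat.alpha d QV := by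
    rw [(hprop QV' hQV').1, HilbPoly.isHilbPoly_unique
      (HilbPoly.exists_hilb (k := k) hL.1 hV (HilbPoly.dim_mono hV hF u hdF)).choose_spec.1 hQV]
  have hcK := fun i => ParShLib.isCoh_induced hE hK 𝓔 j hcE i
  have hcVi := fun i => ParShLib.isCoh_induced hF hV 𝓕 u hcF i
  have hcV' := fun i => ParShLib.isCoh_induced hF hV' 𝓕 ι' hcF i
  choose KX hKX _ _ using fun i => HilbPoly.exists_hilb (k := k) hL.1 (hcK i)
    (HilbPoly.dim_mono (hcK i) hK ((𝓔.induced j).pieceX i).arrow hdK)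
  choose VX hVX _ _ using fun i => HilbPoly.exists_hilb (k := k) hL.1 (hcVi i)
    (HilbPoly.dim_mono (hcVi i) hV ((𝓕.induced u).pieceX i).arrow hdV)
  choose VX' hVX' _ _ using fun i => HilbPoly.exists_hilb (k := k) hL.1 (hcV' i)
    (HilbPoly.dim_mono (hcV' i) hV' ((𝓕.induced ι').pieceX i).arrow hdV')
  have hcVc : ∀ i, Coh.IsCoh (((𝓔.coinduced q).pieceX i : Subobject V) : X.Modules) := fun i => by
    rw [ParShLib.coinduced_pieceX 𝓔 q i]
    obtain ⟨w₂, hT⟩ := ParShLib.shortExact_pullback_image hS (𝓔.pieceX i)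
    exact (ParShLib.isCoh_parts _ ((𝓔.pieceX i).arrow ≫ q) (hcE i) hV w₂ hT).2
  choose CX hCX _ _ using fun i => HilbPoly.exists_hilb (k := k) hL.1 (hcVc i)
    (HilbPoly.dim_mono (hcVc i) hV ((𝓔.coinduced q).pieceX i).arrow hdV)
  have hPsum : P = QK + QV := HilbPoly.isHilbPoly_unique hP fun m => by
    rw [ParShLib.euler_twist_add k hS hK hE hV hL.1 m, Polynomial.eval_add, Int.cast_add, hQK m, hQV m]
  have hPXsum : ∀ i, PX i = KX i + CX i := fun i => HilbPoly.isHilbPoly_unique (hPX i) fun m => by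
    rw [ParShLib.euler_piece k hS hV hL.1 (𝓔.pieceX i) (hcE i) m, Polynomial.eval_add, Int.cast_add]
    refine congrArg₂ (· + ·) ?_ ?_
    · rw [← hKX i m, ParShLib.induced_pieceX 𝓔 j i]
    · rw [← hCX i m, ParShLib.coinduced_pieceX 𝓔 q i]
  -- pieces of the quotient structure lie in the induced ones
  have hle : ∀ i, (𝓔.coinduced q).pieceX i ≤ (𝓕.induced u).pieceX i := fun i => by
    rw [ParShLib.coinduced_pieceX 𝓔 q i, ParShLib.induced_pieceX 𝓕 u i]
    have h := factors_pieceX (p := 𝓔.piece) (b := 𝓔.bot) (p' := pF) (b' := bF) hf i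
    have hpb := Subobject.isPullback u (𝓕.pieceX i)
    have he : (𝓕.pieceX i).factorThru _ h ≫ (𝓕.pieceX i).arrow = ((𝓔.pieceX i).arrow ≫ q) ≫ u := by
      rw [Subobject.factorThru_arrow, Category.assoc, hqu]
    exact imageSubobject_le _ (hpb.lift _ _ he) (hpb.lift_snd _ _ _)
  have hαP := HilbPoly.alpha_pos hL hE (HilbPoly.dim_of_isPure hEp hE hE0) hP
  have hαR := HilbPoly.alpha_pos hL hF (HilbPoly.dim_of_isPure hFp hF hF0) hR
  have hpurK : ShStab.IsPure X (cokernel j) d :=
    ParShLib.isPure_of_mono (eV.hom ≫ u) hFp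
  obtain ⟨M₁, hM₁⟩ : ∃ M : ℕ, ∀ m : ℕ, M ≤ m →
      (W4swparbununimod.parPoly (𝓔.induced j) KX).eval (m : ℝ) * (StabCat.alpha d P : ℝ) ≤
        (W4swparbununimod.parPoly 𝓔 PX).eval (m : ℝ) * (StabCat.alpha d QK : ℝ) := by
    by_cases hz : IsZero K
    · refine ⟨0, fun m _ => ?_⟩
      rw [ParShLib.parPoly_eq_zero hz _ hKX, HilbPoly.isHilbPoly_unique hQK (HilbPoly.hilb_isZero hz)]
      simp [StabCat.alpha]
    · exact hssE K j inferInstance hK hz hpurK QK KX hQK hKX
  obtain ⟨M₂, hM₂⟩ : ∃ M : ℕ, ∀ m : ℕ, M ≤ m →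
      (W4swparbununimod.parPoly (𝓕.induced ι') VX').eval (m : ℝ) * (StabCat.alpha d R : ℝ) ≤
        (W4swparbununimod.parPoly 𝓕 RX).eval (m : ℝ) * (StabCat.alpha d QV' : ℝ) := by
    by_cases hz : IsZero V'
    · refine ⟨0, fun m _ => ?_⟩
      rw [ParShLib.parPoly_eq_zero hz _ hVX', HilbPoly.isHilbPoly_unique hQV' (HilbPoly.hilb_isZero hz)]
      simp [StabCat.alpha]
    · exact hssF V' ι' inferInstance hV' hz hpur QV' VX' hQV' hVX'
  -- monotonicity
  obtain ⟨M₃, hM₃⟩ := ParShLib.parPoly_mono hL hF 𝓕 hcF u ι' l hl hV hV' hQV hQV' hVX hVX'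
  have hmono : ∀ i, ∃ M : ℕ, ∀ m : ℕ, M ≤ m → (CX i).eval (m : ℚ) ≤ (VX i).eval (m : ℚ) := fun i =>
    (ParShLib.hilb_mono hL (Subobject.ofLE _ _ (hle i)) (hcVc i) (hcVi i)
      (HilbPoly.dim_mono (hcVi i) hV ((𝓕.induced u).pieceX i).arrow hdV) (hCX i) (hVX i)).1
  choose M₄ hM₄ using hmono
  let N := max M₁ (max M₂ (max M₃ (Finset.univ.sup M₄)))
  have h0K := ParShLib.hilb_zero k hL (𝓔.induced j) hQK hKX
  have h0C := ParShLib.hilb_zero k hL (𝓔.coinduced q) hQV hCX
  have h0V := ParShLib.hilb_zero k hL (𝓕.induced u) hQV hVX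
  have h0V' := ParShLib.hilb_zero k hL (𝓕.induced ι') hQV' hVX'
  let S : ℕ → ℚ[X] → (Fin (n + 2) → ℚ[X]) → ℝ := fun m Q A => w₀ 0 * ((Q.eval (m : ℚ) : ℚ) : ℝ) +
    ∑ i : Fin (n + 1), (𝓔.wtX i.succ - 𝓔.wtX i.castSucc) * (((A i.succ).eval (m : ℚ) : ℚ) : ℝ)
  have hev : ∀ m : ℕ, N ≤ m →
      (W4swparbununimod.parPoly (𝓔.induced j) KX).eval (m : ℝ) * (StabCat.alpha d P : ℝ) =
        (W4swparbununimod.parPoly 𝓔 PX).eval (m : ℝ) * (StabCat.alpha d QK : ℝ) ∧
      S m QV' VX' ≤ S m QV CX := by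
    intro m hm
    simp only [N, max_le_iff] at hm
    have hK' : (W4swparbununimod.parPoly (𝓔.induced j) KX).eval (m : ℝ) = S m QK KX :=
      ParShLib.eval_eq_head_add (𝓔.induced j) h0K m
    have hE' : (W4swparbununimod.parPoly 𝓔 PX).eval (m : ℝ) = S m QK KX + S m QV CX := by
      rw [ParShLib.eval_eq_head_add 𝓔 (ParShLib.hilb_zero k hL 𝓔 hP hPX) m, hPsum]
      simp only [S, hPXsum, Polynomial.eval_add, Rat.cast_add, mul_add, Finset.sum_add_distrib]
      show _ = _
      ring
    have hV2 : (W4swparbununimod.parPoly (𝓕.induced ι') VX').eval (m : ℝ) = S m QV' VX' :=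
      ParShLib.eval_eq_head_add (𝓕.induced ι') h0V' m
    have hV1 : (W4swparbununimod.parPoly (𝓕.induced u) VX).eval (m : ℝ) = S m QV VX :=
      ParShLib.eval_eq_head_add (𝓕.induced u) h0V m
    have hcv : S m QV CX ≤ S m QV VX := by
      refine add_le_add le_rfl (Finset.sum_le_sum fun i _ => mul_le_mul_of_nonneg_left ?_ (ParShLib.wt_diff_nonneg 𝓔 i))
      exact Rat.cast_le.2 (hM₄ i.succ m ((Finset.le_sup (Finset.mem_univ _)).trans hm.2.2.2))
    have h1 := hM₁ m hm.1
    have h2 := hM₂ m hm.2.1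
    have h3 := hM₃ m hm.2.2.1
    rw [hV1, hV2] at h3
    rw [hK', hE'] at h1 ⊢
    rw [hV2, hαV'] at h2
    have hr := congrArg (Polynomial.eval (m : ℝ)) hred
    rw [Polynomial.eval_mul, Polynomial.eval_mul, Polynomial.eval_C, Polynomial.eval_C, hE'] at hr
    have hα : (StabCat.alpha d P : ℝ) = (StabCat.alpha d QK : ℝ) + (StabCat.alpha d QV : ℝ) := by
      rw [hPsum, HilbPoly.alpha_add, Rat.cast_add]
    have hPpos : (0 : ℝ) < (StabCat.alpha d P : ℝ) := Rat.cast_pos.2 hαP
    have hRpos : (0 : ℝ) < (StabCat.alpha d R : ℝ) := Rat.cast_pos.2 hαR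
    exact arith h1 hα h2 hr (hcv.trans h3) hPpos hRpos
  have hw0' : 0 < w₀ 0 := hw0
  obtain ⟨hQeq, hXeq⟩ := ParShLib.polys_eq_of_parPoly (E := E) (E' := E) n 𝓔.wtX (w₀ 0) hw0'
    (fun i => ParShLib.wt_diff_pos 𝓔 i) (Q := QV) (Q' := QV') (A := CX) (A' := VX')
    (by
      haveI : Mono (l ≫ ι') := by rw [hl]; infer_instance
      haveI : Mono l := mono_of_mono l ι'
      exact (ParShLib.hilb_mono hL l hV hV' hdV' hQV hQV').1)
    (fun i => by
      haveI : Mono (l ≫ ι') := by rw [hl]; infer_instance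
      haveI : Mono l := mono_of_mono l ι'
      have he : (𝓕.induced u).pieceX i = (Subobject.pullback l).obj ((𝓕.induced ι').pieceX i) := by
        rw [ParShLib.induced_pieceX 𝓕 u i, ParShLib.induced_pieceX 𝓕 ι' i, ← hl, Subobject.pullback_comp]
      have hc := hcVi i
      have hp := hVX i
      rw [he] at hc hp
      haveI : Mono (Subobject.pullbackπ l ((𝓕.induced ι').pieceX i)) :=
        (Subobject.isPullback l ((𝓕.induced ι').pieceX i)).mono_fst_of_mono
      obtain ⟨M, hM⟩ := (ParShLib.hilb_mono hL (Subobject.pullbackπ l ((𝓕.induced ι').pieceX i)) hc (hcV' i)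
        (HilbPoly.dim_mono (hcV' i) hV' ((𝓕.induced ι').pieceX i).arrow hdV') hp (hVX' i)).1
      exact ⟨max M (M₄ i), fun m hm => (hM₄ i m (le_trans (le_max_right _ _) hm)).trans
        (hM m (le_trans (le_max_left _ _) hm))⟩)
    ⟨N, fun m hm => (hev m hm).2⟩
  haveI : Mono (l ≫ ι') := by rw [hl]; infer_instance
  haveI : Mono l := mono_of_mono l ι'
  haveI := (ParShLib.hilb_mono hL l hV hV' hdV' hQV hQV').2 hQeq
  refine ⟨fun QK₁ QKX₁ h₁ h₂ => ?_, ?_, fun a _ _ => ?_⟩
  · obtain rfl := HilbPoly.isHilbPoly_unique h₁ hQK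
    obtain rfl : QKX₁ = KX := funext fun i => HilbPoly.isHilbPoly_unique (h₂ i) (hKX i)
    refine Polynomial.eq_of_infinite_eval_eq _ _
      (((Set.Ici_infinite N).image (Nat.cast_injective (R := ℝ)).injOn).mono ?_)
    rintro _ ⟨m, hm, rfl⟩
    simpa [Polynomial.eval_mul, Polynomial.eval_C] using (hev m hm).1
  · let e : cokernel u ≅ cokernel ι' := cokernel.mapIso u ι' (asIso l) (Iso.refl F) (by simp [hl])
    exact ParShLib.isPure_of_mono e.hom hpur
  · have hpieces : ∀ i : Fin (n + 1), (𝓔.coinduced q).pieceX i.succ = (𝓕.induced u).pieceX i.succ := fun i => by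
      refine ParShLib.subobject_eq_of_hilb hL (hle i.succ) (hcVc _) (hcVi _)
        (HilbPoly.dim_mono (hcVi _) hV ((𝓕.induced u).pieceX i.succ).arrow hdV) (hCX _) ?_
      have hVV : VX i.succ = VX' i.succ := by
        refine HilbPoly.isHilbPoly_unique (hVX _) ?_
        have he : (𝓕.induced u).pieceX i.succ = (Subobject.pullback l).obj ((𝓕.induced ι').pieceX i.succ) := by
          rw [ParShLib.induced_pieceX 𝓕 u i.succ, ParShLib.induced_pieceX 𝓕 ι' i.succ, ← hl, Subobject.pullback_comp]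
        rw [he]
        haveI : IsIso (Subobject.pullbackπ l ((𝓕.induced ι').pieceX i.succ)) :=
          (Subobject.isPullback l ((𝓕.induced ι').pieceX i.succ)).isIso_fst_of_isIso
        exact HilbPoly.hilb_iso (asIso (Subobject.pullbackπ l ((𝓕.induced ι').pieceX i.succ))).symm (hVX' _)
      rw [hXeq i, ← hVV]
      exact hVX _
    refine at_congr (fun i => ?_) ?_ a
    · induction i using Fin.cases with
      | zero => exact ((𝓔.coinduced q).piece_zero).trans ((𝓕.induced u).piece_zero).symm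
      | succ i =>
        have h := hpieces i.castSucc
        exact (((𝓔.coinduced q).pieceX_succ_castSucc i).symm.trans h).trans ((𝓕.induced u).pieceX_succ_castSucc i)
    · exact (((𝓔.coinduced q).pieceX_succ_last).symm.trans (hpieces (Fin.last n))).trans
        ((𝓕.induced u).pieceX_succ_last)

end Groth.Agent.S18529
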