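import Groth.Statements.S18534
import Groth.Agent.H1CplFin.Invariant
import Mathlib.RingTheory.IsGaloisGroup.Basic
import Mathlib.RingTheory.Localization.Finiteness

set_option autoImplicit false
universe u
open scoped Pointwise
open EtAlg

namespace Groth.Agent.S18534

/-- Let R be a normal domain which is excellent and S a normal domain containing R on which a finite
group G acts by R-algebra automorphisms, faithfully and with ring of invariants exactly R (so S is
the integral closure of R in a finite Galois extension of Frac R with group G), Q a prime of S lying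
over the prime P of R, and D the decomposition group of Q (the stabilizer of Q in G). Equip the
completion of the local ring S_Q with an action of D by ring automorphisms extending the action of D
on S, and with an algebra structure over the completion of R_P compatible with R → S (both exist and
are unique, by density and continuity). Then D is a Galois group for the completed extension: it
acts faithfully, linearly over the completion of R_P, and its ring of invariants is exactly the
image of the completion of R_P; equivalently the extension of fraction fields of the completed local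
rings is Galois with group D. (Only the completions of the local rings R_P and S_Q are treated. For
the P-adic completion of R itself and the Q-adic completion of S the analogous finiteness fails:
with R = k[x,y], S = k[y,t], t² = x + y², char k ≠ 2 and Q = (t − y) over P = (x), the Q-adic
completion k[y][[t − y]] is not finite over the (x)-adic completion k[y][[x]] and their fraction
fields form an extension of infinite degree.) -/
theorem result
    (R S G : Type u) [CommRing R] [CommRing S] [IsDomain R] [IsDomain S]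
    [IsIntegrallyClosed R] [IsIntegrallyClosed S] (hR : EGA4.IsExcellent R)
    [Algebra R S] [FaithfulSMul R S]
    [Group G] [Finite G] [MulSemiringAction G S] [SMulCommClass G R S] [IsGaloisGroup G R S]
    (P : Ideal R) [P.IsPrime] (Q : Ideal S) [Q.IsPrime] [Q.LiesOver P]
    [MulSemiringAction (MulAction.stabilizer G Q) (EGA4.Cpl (Localization.AtPrime Q))]
    (hact : ∀ (g : MulAction.stabilizer G Q) (s : S),
      g • algebraMap (Localization.AtPrime Q) (EGA4.Cpl (Localization.AtPrime Q)) (algebraMap S (Localization.AtPrime Q) s) =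
        algebraMap (Localization.AtPrime Q) (EGA4.Cpl (Localization.AtPrime Q)) (algebraMap S (Localization.AtPrime Q) (g • s)))
    [Algebra (EGA4.Cpl (Localization.AtPrime P)) (EGA4.Cpl (Localization.AtPrime Q))]
    (halg : ∀ r : R,
      algebraMap (EGA4.Cpl (Localization.AtPrime P)) (EGA4.Cpl (Localization.AtPrime Q)) (algebraMap (Localization.AtPrime P) (EGA4.Cpl (Localization.AtPrime P)) (algebraMap R (Localization.AtPrime P) r)) =
        algebraMap (Localization.AtPrime Q) (EGA4.Cpl (Localization.AtPrime Q)) (algebraMap S (Localization.AtPrime Q) (algebraMap R S r))) :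
    IsGaloisGroup (MulAction.stabilizer G Q) (EGA4.Cpl (Localization.AtPrime P)) (EGA4.Cpl (Localization.AtPrime Q)) := by
  haveI := hR.1
  haveI : Algebra.IsIntegral R S := Algebra.IsInvariant.isIntegral R S G
  -- finiteness
  haveI : Module.Finite R S := by
    letI := FractionRing.liftAlgebra R (FractionRing S)
    haveI := IsGaloisGroup.toFractionRing (G := G) (A := R) (B := S)
    letI := IsFractionRing.mulSemiringAction G S (FractionRing S)
    haveI : FiniteDimensional (FractionRing R) (FractionRing S) := IsGaloisGroup.finiteDimensional G _ _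
    haveI : IsGalois (FractionRing R) (FractionRing S) := IsGaloisGroup.isGalois G _ _
    haveI : IsIntegralClosure S R (FractionRing S) :=
      { algebraMap_injective := IsFractionRing.injective S _
        isIntegral_iff := ⟨fun h => IsIntegrallyClosed.isIntegral_iff.1 h.tower_top,
          fun ⟨y, hy⟩ => hy ▸ (Algebra.IsIntegral.isIntegral (R := R) y).algebraMap⟩ }
    exact IsIntegralClosure.finite R (FractionRing R) (FractionRing S) S
  -- localization over `P`
  let Rp := Localization.AtPrime P
  let M := Algebra.algebraMapSubmonoid S P.primeCompl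
  let Sp := Localization M
  let A := Localization.AtPrime Q
  letI : Algebra Rp Sp := localizationAlgebra P.primeCompl S
  haveI : IsScalarTower R Rp Sp := IsScalarTower.of_algebraMap_eq fun r => by
    rw [IsScalarTower.algebraMap_apply R S Sp]
    exact (IsLocalization.map_eq _ r).symm
  haveI : Module.Finite Rp Sp := Module.Finite.of_isLocalization R S P.primeCompl
  have hMQ : M ≤ Q.primeCompl := by
    rintro _ ⟨r, hr, rfl⟩ h
    exact hr ((Q.over_def P).ge h)
  have hunit : ∀ m : M, IsUnit (algebraMap S A m) := fun m => IsLocalization.map_units A (⟨m, hMQ m.2⟩ : Q.primeCompl)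
  letI : Algebra Sp A := (IsLocalization.lift hunit : Sp →+* A).toAlgebra
  haveI : IsScalarTower S Sp A := IsScalarTower.of_algebraMap_eq fun s => (IsLocalization.lift_eq hunit s).symm
  letI : Algebra Rp A := ((algebraMap Sp A).comp (algebraMap Rp Sp)).toAlgebra
  haveI : IsScalarTower Rp Sp A := IsScalarTower.of_algebraMap_eq fun r => rfl
  have hRpA : ∀ r : R, algebraMap Rp A (algebraMap R Rp r) = algebraMap S A (algebraMap R S r) := fun r => by
    rw [IsScalarTower.algebraMap_apply Rp Sp A, ← IsScalarTower.algebraMap_apply R Rp Sp,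
      IsScalarTower.algebraMap_apply R S Sp, ← IsScalarTower.algebraMap_apply S Sp A]
  haveI : IsLocalHom (algebraMap Rp A) := ⟨fun x hx => by
    obtain ⟨a, b, rfl⟩ := IsLocalization.exists_mk'_eq P.primeCompl x
    have ha : IsUnit (algebraMap S A (algebraMap R S a)) := by
      rw [← hRpA, ← IsLocalization.mk'_spec Rp a b, map_mul, hRpA]
      exact hx.mul (hunit ⟨_, b, b.2, rfl⟩)
    exact (IsLocalization.AtPrime.isUnit_mk'_iff Rp P a b).2 fun haP =>
      (IsLocalization.AtPrime.isUnit_to_map_iff A Q _).1 ha ((Q.over_def P).le haP)⟩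
  -- the maximal ideal over `Q`
  let 𝔫 : Ideal Sp := (IsLocalRing.maximalIdeal A).comap (algebraMap Sp A)
  have hQ : ∀ s : S, algebraMap S Sp s ∈ 𝔫 ↔ s ∈ Q := fun s => by
    rw [Ideal.mem_comap, ← IsScalarTower.algebraMap_apply]
    exact IsLocalization.AtPrime.to_map_mem_maximal_iff A Q s
  haveI : Algebra.IsIntegral Rp Sp := Algebra.IsIntegral.of_finite Rp Sp
  haveI : 𝔫.IsMaximal := by
    refine Ideal.isMaximal_of_isIntegral_of_isMaximal_comap (R := Rp) 𝔫 ?_
    rw [Ideal.comap_comap, ← IsScalarTower.algebraMap_eq,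
      show (IsLocalRing.maximalIdeal A).comap (algebraMap Rp A) = IsLocalRing.maximalIdeal Rp from
        ((IsLocalRing.local_hom_TFAE (algebraMap Rp A)).out 0 4).mp (by infer_instance)]
    exact IsLocalRing.maximalIdeal.isMaximal _
  haveI : IsLocalization.AtPrime A 𝔫 := by
    haveI := IsLocalization.isLocalization_of_submonoid_le Sp A M Q.primeCompl hMQ
    refine IsLocalization.of_le (Q.primeCompl.map (algebraMap S Sp)) 𝔫.primeCompl ?_ fun x hx => ?_
    · rintro _ ⟨s, hs, rfl⟩ h
      exact hs ((hQ s).1 h)
    · exact not_not.1 fun h => hx h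
  -- the action
  have hfix : ∀ (g : G) (r : R), g • algebraMap R S r = algebraMap R S r := fun g r => by
    rw [Algebra.algebraMap_eq_smul_one, smul_comm, smul_one]
  have hM : ∀ g : G, M.map (MulSemiringAction.toRingEquiv G S g).toMonoidHom = M := fun g => by
    ext x
    constructor
    · rintro ⟨_, ⟨r, hr, rfl⟩, rfl⟩
      exact ⟨r, hr, (hfix g r).symm⟩
    · rintro ⟨r, hr, rfl⟩
      exact ⟨algebraMap R S r, ⟨r, hr, rfl⟩, hfix g r⟩
  let σ₀ : G → (Sp ≃+* Sp) := fun g => IsLocalization.ringEquivOfRingEquiv Sp Sp _ (hM g)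
  have hσ₀ : ∀ g s, σ₀ g (algebraMap S Sp s) = algebraMap S Sp (g • s) := fun g s =>
    IsLocalization.ringEquivOfRingEquiv_eq (hM g) s
  have hσR : ∀ g x, σ₀ g (algebraMap Rp Sp x) = algebraMap Rp Sp x := fun g x =>
    RingHom.congr_fun (IsLocalization.ringHom_ext P.primeCompl (j := (σ₀ g).toRingHom.comp (algebraMap Rp Sp))
      (k := algebraMap Rp Sp) (RingHom.ext fun r => by
      show σ₀ g (algebraMap Rp Sp (algebraMap R Rp r)) = algebraMap Rp Sp (algebraMap R Rp r)
      rw [← IsScalarTower.algebraMap_apply, IsScalarTower.algebraMap_apply R S Sp, hσ₀, hfix])) x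
  have hext : ∀ f f' : Sp →+* Sp, (∀ s, f (algebraMap S Sp s) = f' (algebraMap S Sp s)) → ∀ x, f x = f' x :=
    fun f f' h => RingHom.congr_fun (IsLocalization.ringHom_ext M (RingHom.ext h))
  let σ : G →* (Sp ≃ₐ[Rp] Sp) :=
    { toFun := fun g => AlgEquiv.ofRingEquiv (f := σ₀ g) (hσR g)
      map_one' := AlgEquiv.ext fun x => hext (σ₀ 1).toRingHom (RingHom.id _) (fun s => by
        show σ₀ 1 (algebraMap S Sp s) = algebraMap S Sp s
        rw [hσ₀, one_smul]) x
      map_mul' := fun g h => AlgEquiv.ext fun x => hext (σ₀ (g * h)).toRingHom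
        ((σ₀ g).toRingHom.comp (σ₀ h).toRingHom) (fun s => by
        show σ₀ (g * h) (algebraMap S Sp s) = σ₀ g (σ₀ h (algebraMap S Sp s))
        rw [hσ₀, hσ₀, hσ₀, mul_smul]) x }
  have hσ : ∀ g s, σ g (algebraMap S Sp s) = algebraMap S Sp (g • s) := hσ₀
  have hSinj : Function.Injective (algebraMap S Sp) :=
    IsLocalization.injective Sp (hMQ.trans Q.primeCompl_le_nonZeroDivisors)
  have hinv : ∀ c : Sp, (∀ g, σ g c = c) → ∃ r, algebraMap Rp Sp r = c := fun c hc => by
    obtain ⟨a, ⟨_, r, hr, rfl⟩, rfl⟩ := IsLocalization.exists_mk'_eq M c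
    have ha : ∀ g : G, g • a = a := fun g => hSinj (by
      rw [← hσ, ← IsLocalization.mk'_spec Sp a (⟨algebraMap R S r, Algebra.mem_algebraMapSubmonoid_of_mem (⟨r, hr⟩ : P.primeCompl)⟩ : M), map_mul, hc g, hσ, hfix])
    obtain ⟨a', rfl⟩ := Algebra.IsInvariant.isInvariant (A := R) (G := G) a ha
    refine ⟨IsLocalization.mk' Rp a' (⟨r, hr⟩ : P.primeCompl), ?_⟩
    exact IsLocalization.map_mk' _ a' _
  have hH : ∀ g, g ∈ MulAction.stabilizer G Q ↔ 𝔫.comap (σ g) = 𝔫 := fun g => by
    rw [MulAction.mem_stabilizer_iff]
    constructor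
    · intro h
      rw [← IsLocalization.map_comap M Sp (𝔫.comap (σ g))]
      conv_rhs => rw [← IsLocalization.map_comap M Sp 𝔫]
      congr 1
      ext s
      show σ g (algebraMap S Sp s) ∈ 𝔫 ↔ algebraMap S Sp s ∈ 𝔫
      rw [hσ, hQ, hQ]
      conv_lhs => rw [← h]
      exact Ideal.smul_mem_pointwise_smul_iff
    · intro h
      ext s
      have : s ∈ g • Q ↔ g⁻¹ • s ∈ Q := Ideal.mem_pointwise_smul_iff_inv_smul_mem
      rw [this, ← hQ, ← h, Ideal.mem_comap, hσ, smul_inv_smul, hQ]
  -- the completions
  haveI := H1CplFin.isNoetherianRing_of_atPrime Rp (C := Sp) (A := A) 𝔫.primeCompl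
  let D := MulAction.stabilizer G Q
  let τ : D → (EGA4.Cpl A →+* EGA4.Cpl A) := fun g => MulSemiringAction.toRingHom D (EGA4.Cpl A) g
  have hτ : ∀ (g : D) (c : Sp), τ g (algebraMap A (EGA4.Cpl A) (algebraMap Sp A c)) =
      algebraMap A (EGA4.Cpl A) (algebraMap Sp A (σ g c)) := fun g =>
    RingHom.congr_fun (IsLocalization.ringHom_ext M
      (j := (τ g).comp ((algebraMap A (EGA4.Cpl A)).comp (algebraMap Sp A)))
      (k := ((algebraMap A (EGA4.Cpl A)).comp (algebraMap Sp A)).comp (σ (g : G)).toRingEquiv.toRingHom)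
      (RingHom.ext fun s => by
      show g • algebraMap A (EGA4.Cpl A) (algebraMap Sp A (algebraMap S Sp s)) =
        algebraMap A (EGA4.Cpl A) (algebraMap Sp A (σ g (algebraMap S Sp s)))
      rw [hσ, ← IsScalarTower.algebraMap_apply S Sp A, ← IsScalarTower.algebraMap_apply S Sp A]
      exact hact g s))
  have hg₀ : ∀ r, algebraMap (EGA4.Cpl Rp) (EGA4.Cpl A) (algebraMap Rp (EGA4.Cpl Rp) r) =
      algebraMap A (EGA4.Cpl A) (algebraMap Rp A r) :=
    RingHom.congr_fun (IsLocalization.ringHom_ext P.primeCompl
      (j := (algebraMap (EGA4.Cpl Rp) (EGA4.Cpl A)).comp (algebraMap Rp (EGA4.Cpl Rp)))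
      (k := (algebraMap A (EGA4.Cpl A)).comp (algebraMap Rp A))
      (RingHom.ext fun r => by
      show algebraMap (EGA4.Cpl Rp) (EGA4.Cpl A) (algebraMap Rp (EGA4.Cpl Rp) (algebraMap R Rp r)) =
        algebraMap A (EGA4.Cpl A) (algebraMap Rp A (algebraMap R Rp r))
      rw [hRpA]
      exact halg r))
  refine { faithful := ⟨fun {g h} e => ?_⟩, commutes := ⟨fun g r x => ?_⟩, isInvariant := ⟨fun x hx => ?_⟩ }
  · haveI := IsGaloisGroup.faithful (G := G) (A := R) (B := S)
    haveI := FlatLoc6.faithfullyFlat_cpl A
    refine Subtype.ext (eq_of_smul_eq_smul (α := S) fun s => ?_)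
    refine IsLocalization.injective A Q.primeCompl_le_nonZeroDivisors
      (FaithfulSMul.algebraMap_injective A (EGA4.Cpl A) ?_)
    exact ((hact g s).symm.trans (e _)).trans (hact h s)
  · have h1 : ((τ g).comp (algebraMap (EGA4.Cpl Rp) (EGA4.Cpl A))) = algebraMap (EGA4.Cpl Rp) (EGA4.Cpl A) :=
      H1CplFin.cplHom_unique _ _ (fun r => by
        rw [RingHom.comp_apply, hg₀, IsScalarTower.algebraMap_apply Rp Sp A, hτ, AlgEquiv.commutes]) hg₀
    rw [Algebra.smul_def, Algebra.smul_def, smul_mul']
    congr 1
    exact RingHom.congr_fun h1 r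
  · exact H1CplFin.exists_of_invariant σ hinv 𝔫 D hH τ hτ _ hg₀ x hx

end Groth.Agent.S18534
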