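import Groth.Statements.S18536
import Groth.Agent.H1CplFin.Setup

set_option autoImplicit false
universe u
open EtAlg

namespace Groth.Agent.S18536

/-- Let R be an excellent normal local domain with fraction field K, let L, M ⊇ K be two finite
separable field extensions, both contained in a field Ω that they generate, let A ⊆ Ω be the
localization of the integral closure of R in Ω at one of its maximal ideals, and put S = A ∩ L, T =
A ∩ M (local rings dominated by A); the completions at the maximal ideals give maps Ŝ → Â ← T̂ (the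
algebra structures below are these inclusions and completed inclusions, pinned by the stated
compatibilities). If the residue field of A is generated, over the residue field of S, by the image
of the residue field of T, then the fraction field of Â is the compositum of the fraction fields of
Ŝ and T̂ inside it: every element of Â is a quotient of two elements of the subring of Â generated
by the images of Ŝ and T̂. -/
theorem result
    (R K L M Ω : Type u) [CommRing R] [IsDomain R] [IsLocalRing R] [IsIntegrallyClosed R]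
    (hR : EGA4.IsExcellent R)
    [Field K] [Field L] [Field M] [Field Ω]
    [Algebra R K] [IsFractionRing R K]
    [Algebra K L] [Algebra K M] [Algebra K Ω] [Algebra L Ω] [Algebra M Ω]
    [IsScalarTower K L Ω] [IsScalarTower K M Ω]
    [FiniteDimensional K L] [FiniteDimensional K M] [Algebra.IsSeparable K L] [Algebra.IsSeparable K M]
    (hΩ : IntermediateField.adjoin K (Set.range (algebraMap L Ω) ∪ Set.range (algebraMap M Ω)) = ⊤)
    [Algebra R L] [Algebra R M] [Algebra R Ω] [IsScalarTower R K L] [IsScalarTower R K M] [IsScalarTower R K Ω]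
    [IsScalarTower R L Ω] [IsScalarTower R M Ω]
    (𝔪 : Ideal ↥(integralClosure R Ω)) [𝔪.IsMaximal]
    (A : Subalgebra R Ω)
    (hA : ∀ z : Ω, z ∈ A ↔ ∃ a b : ↥(integralClosure R Ω), b ∉ 𝔪 ∧ z * (b : Ω) = (a : Ω))
    [IsLocalRing ↥A] [IsLocalRing ↥(Subalgebra.comap (IsScalarTower.toAlgHom R L Ω) A)] [IsLocalRing ↥(Subalgebra.comap (IsScalarTower.toAlgHom R M Ω) A)]
    [Algebra ↥(Subalgebra.comap (IsScalarTower.toAlgHom R L Ω) A) ↥A]
    (hSA : ∀ s : ↥(Subalgebra.comap (IsScalarTower.toAlgHom R L Ω) A), ((algebraMap ↥(Subalgebra.comap (IsScalarTower.toAlgHom R L Ω) A) ↥A s : ↥A) : Ω) = algebraMap L Ω (s : L))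
    [Algebra ↥(Subalgebra.comap (IsScalarTower.toAlgHom R M Ω) A) ↥A]
    (hTA : ∀ t : ↥(Subalgebra.comap (IsScalarTower.toAlgHom R M Ω) A), ((algebraMap ↥(Subalgebra.comap (IsScalarTower.toAlgHom R M Ω) A) ↥A t : ↥A) : Ω) = algebraMap M Ω (t : M))
    [Algebra (EGA4.Cpl ↥(Subalgebra.comap (IsScalarTower.toAlgHom R L Ω) A)) (EGA4.Cpl ↥A)]
    (hcS : ∀ s : ↥(Subalgebra.comap (IsScalarTower.toAlgHom R L Ω) A), algebraMap (EGA4.Cpl ↥(Subalgebra.comap (IsScalarTower.toAlgHom R L Ω) A)) (EGA4.Cpl ↥A) (algebraMap ↥(Subalgebra.comap (IsScalarTower.toAlgHom R L Ω) A) (EGA4.Cpl ↥(Subalgebra.comap (IsScalarTower.toAlgHom R L Ω) A)) s) =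
      algebraMap ↥A (EGA4.Cpl ↥A) (algebraMap ↥(Subalgebra.comap (IsScalarTower.toAlgHom R L Ω) A) ↥A s))
    [Algebra (EGA4.Cpl ↥(Subalgebra.comap (IsScalarTower.toAlgHom R M Ω) A)) (EGA4.Cpl ↥A)]
    (hcT : ∀ t : ↥(Subalgebra.comap (IsScalarTower.toAlgHom R M Ω) A), algebraMap (EGA4.Cpl ↥(Subalgebra.comap (IsScalarTower.toAlgHom R M Ω) A)) (EGA4.Cpl ↥A) (algebraMap ↥(Subalgebra.comap (IsScalarTower.toAlgHom R M Ω) A) (EGA4.Cpl ↥(Subalgebra.comap (IsScalarTower.toAlgHom R M Ω) A)) t) =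
      algebraMap ↥A (EGA4.Cpl ↥A) (algebraMap ↥(Subalgebra.comap (IsScalarTower.toAlgHom R M Ω) A) ↥A t))
    [(IsLocalRing.maximalIdeal ↥A).LiesOver (IsLocalRing.maximalIdeal ↥(Subalgebra.comap (IsScalarTower.toAlgHom R M Ω) A))]
    [(IsLocalRing.maximalIdeal ↥A).LiesOver (IsLocalRing.maximalIdeal ↥(Subalgebra.comap (IsScalarTower.toAlgHom R L Ω) A))]
    (hres : Algebra.adjoin (↥(Subalgebra.comap (IsScalarTower.toAlgHom R L Ω) A) ⧸ IsLocalRing.maximalIdeal ↥(Subalgebra.comap (IsScalarTower.toAlgHom R L Ω) A))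
      (Set.range (algebraMap (↥(Subalgebra.comap (IsScalarTower.toAlgHom R M Ω) A) ⧸ IsLocalRing.maximalIdeal ↥(Subalgebra.comap (IsScalarTower.toAlgHom R M Ω) A)) (↥A ⧸ IsLocalRing.maximalIdeal ↥A))) = ⊤) :
    ∀ x : (EGA4.Cpl ↥A), ∃ a b : (EGA4.Cpl ↥A), a ∈ Algebra.adjoin (EGA4.Cpl ↥(Subalgebra.comap (IsScalarTower.toAlgHom R L Ω) A)) (Set.range (algebraMap (EGA4.Cpl ↥(Subalgebra.comap (IsScalarTower.toAlgHom R M Ω) A)) (EGA4.Cpl ↥A))) ∧ b ∈ Algebra.adjoin (EGA4.Cpl ↥(Subalgebra.comap (IsScalarTower.toAlgHom R L Ω) A)) (Set.range (algebraMap (EGA4.Cpl ↥(Subalgebra.comap (IsScalarTower.toAlgHom R M Ω) A)) (EGA4.Cpl ↥A))) ∧ b ≠ 0 ∧ x * b = a := by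
  haveI := hR.1
  haveI := H1CplFin.finite_integralClosure R K L M Ω hΩ
  obtain ⟨_, _, hval, hloc⟩ := H1CplFin.exists_isLocalization R Ω 𝔪 A hA
  have hRΩ : Function.Injective (algebraMap R Ω) := by
    rw [IsScalarTower.algebraMap_eq R K Ω]
    exact (algebraMap K Ω).injective.comp (IsFractionRing.injective R K)
  haveI : IsLocalHom (algebraMap R A) := H1CplFin.isLocalHom_toA R Ω 𝔪 A hA hRΩ
  haveI : IsScalarTower R ↥(Subalgebra.comap (IsScalarTower.toAlgHom R M Ω) A) A :=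
    IsScalarTower.of_algebraMap_eq fun r => Subtype.ext (by
      rw [hTA]; exact IsScalarTower.algebraMap_apply R M Ω r)
  haveI : IsLocalHom (algebraMap R ↥(Subalgebra.comap (IsScalarTower.toAlgHom R M Ω) A)) := ⟨fun r hr => by
    refine (isUnit_map_iff (algebraMap R A) r).1 ?_
    rw [IsScalarTower.algebraMap_apply R ↥(Subalgebra.comap (IsScalarTower.toAlgHom R M Ω) A) A]
    exact hr.map _⟩
  refine H1CplFin.exists_frac_adjoin (R := R) (C := integralClosure R Ω) (A := A) 𝔪.primeCompl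
    (fun a b h => hRΩ (congrArg Subtype.val h)) _ _ hcS hcT fun c => ?_
  obtain ⟨r, hr, hmem⟩ := H1CplFin.exists_smul_mem_adjoin R K L M Ω hΩ (c : Ω)
  refine ⟨r, hr, ?_⟩
  set Adj := Algebra.adjoin R (Set.range (algebraMap ↥(Subalgebra.comap (IsScalarTower.toAlgHom R L Ω) A) A) ∪
    Set.range (algebraMap ↥(Subalgebra.comap (IsScalarTower.toAlgHom R M Ω) A) A))
  have hle : Algebra.adjoin R (algebraMap L Ω '' {s | IsIntegral R s} ∪ algebraMap M Ω '' {t | IsIntegral R t}) ≤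
      Adj.map A.val := by
    refine Algebra.adjoin_le ?_
    rintro _ (⟨s, hs, rfl⟩ | ⟨s, hs, rfl⟩)
    · have hs' : algebraMap L Ω s ∈ A := H1CplFin.le_of_hA R Ω 𝔪 A hA (hs.map (IsScalarTower.toAlgHom R L Ω))
      exact ⟨_, Algebra.subset_adjoin (Or.inl ⟨⟨s, hs'⟩, rfl⟩), hSA ⟨s, hs'⟩⟩
    · have hs' : algebraMap M Ω s ∈ A := H1CplFin.le_of_hA R Ω 𝔪 A hA (hs.map (IsScalarTower.toAlgHom R M Ω))
      exact ⟨_, Algebra.subset_adjoin (Or.inr ⟨⟨s, hs'⟩, rfl⟩), hTA ⟨s, hs'⟩⟩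
  obtain ⟨y, hy, hy'⟩ := hle hmem
  have : algebraMap R A r * algebraMap (integralClosure R Ω) A c = y := Subtype.ext (by
    show algebraMap R Ω r * ((algebraMap (integralClosure R Ω) A c : A) : Ω) = _
    rw [hval]; exact hy'.symm)
  rw [this]
  exact hy

end Groth.Agent.S18536
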