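import Groth.Statements.S18537
import Groth.Agent.H1CplFin.Normal

set_option autoImplicit false
universe u
open EtAlg

namespace Groth.Agent.S18537

/-- Let R be an excellent normal local domain with fraction field K, let L, M ⊇ K be two finite
separable field extensions, both contained in a field Ω that they generate, let A ⊆ Ω be the
localization of the integral closure of R in Ω at one of its maximal ideals, and put S = A ∩ L, T =
A ∩ M; these are local rings, T ⊆ A, and the completions at the maximal ideals give maps Ŝ → Â ← T̂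
(the algebra structures below are these inclusions and completed inclusions, pinned by the stated
compatibilities). If, inside the fraction field of Â, the ring Ŝ lies in the fraction field of T̂
(every element of Ŝ becomes a quotient of two elements of T̂), then A is unramified over T: m_T A =
m_A and A/m_A is a finite separable extension of T/m_T. -/
theorem result
    (R K L M Ω : Type u) [CommRing R] [IsDomain R] [IsLocalRing R] [IsIntegrallyClosed R]
    (hR : EGA4.IsExcellent R)
    [Field K] [Field L] [Field M] [Field Ω]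
    [Algebra R K] [IsFractionRing R K]
    [Algebra K L] [Algebra K M] [Algebra K Ω] [Algebra L Ω] [Algebra M Ω]
    [IsScalarTower K L Ω] [IsScalarTower K M Ω]
    [FiniteDimensional K L] [FiniteDimensional K M] [Algebra.IsSeparable K L] [Algebra.IsSeparable K M]
    (hΩ : IntermediateField.adjoin K (Set.range (algebraMap L Ω) ∪ Set.range (algebraMap M Ω)) = ⊤)
    [Algebra R L] [Algebra R M] [Algebra R Ω] [IsScalarTower R K L] [IsScalarTower R K M] [IsScalarTower R K Ω]
    [IsScalarTower R L Ω] [IsScalarTower R M Ω]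
    (𝔪 : Ideal ↥(integralClosure R Ω)) [𝔪.IsMaximal]
    (A : Subalgebra R Ω)
    (hA : ∀ z : Ω, z ∈ A ↔ ∃ a b : ↥(integralClosure R Ω), b ∉ 𝔪 ∧ z * (b : Ω) = (a : Ω))
    [IsLocalRing ↥A] [IsLocalRing ↥(Subalgebra.comap (IsScalarTower.toAlgHom R L Ω) A)] [IsLocalRing ↥(Subalgebra.comap (IsScalarTower.toAlgHom R M Ω) A)]
    [Algebra ↥(Subalgebra.comap (IsScalarTower.toAlgHom R L Ω) A) ↥A]
    (hSA : ∀ s : ↥(Subalgebra.comap (IsScalarTower.toAlgHom R L Ω) A), ((algebraMap ↥(Subalgebra.comap (IsScalarTower.toAlgHom R L Ω) A) ↥A s : ↥A) : Ω) = algebraMap L Ω (s : L))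
    [Algebra ↥(Subalgebra.comap (IsScalarTower.toAlgHom R M Ω) A) ↥A]
    (hTA : ∀ t : ↥(Subalgebra.comap (IsScalarTower.toAlgHom R M Ω) A), ((algebraMap ↥(Subalgebra.comap (IsScalarTower.toAlgHom R M Ω) A) ↥A t : ↥A) : Ω) = algebraMap M Ω (t : M))
    [Algebra (EGA4.Cpl ↥(Subalgebra.comap (IsScalarTower.toAlgHom R L Ω) A)) (EGA4.Cpl ↥A)]
    (hcS : ∀ s : ↥(Subalgebra.comap (IsScalarTower.toAlgHom R L Ω) A), algebraMap (EGA4.Cpl ↥(Subalgebra.comap (IsScalarTower.toAlgHom R L Ω) A)) (EGA4.Cpl ↥A) (algebraMap ↥(Subalgebra.comap (IsScalarTower.toAlgHom R L Ω) A) (EGA4.Cpl ↥(Subalgebra.comap (IsScalarTower.toAlgHom R L Ω) A)) s) =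
      algebraMap ↥A (EGA4.Cpl ↥A) (algebraMap ↥(Subalgebra.comap (IsScalarTower.toAlgHom R L Ω) A) ↥A s))
    [Algebra (EGA4.Cpl ↥(Subalgebra.comap (IsScalarTower.toAlgHom R M Ω) A)) (EGA4.Cpl ↥A)]
    (hcT : ∀ t : ↥(Subalgebra.comap (IsScalarTower.toAlgHom R M Ω) A), algebraMap (EGA4.Cpl ↥(Subalgebra.comap (IsScalarTower.toAlgHom R M Ω) A)) (EGA4.Cpl ↥A) (algebraMap ↥(Subalgebra.comap (IsScalarTower.toAlgHom R M Ω) A) (EGA4.Cpl ↥(Subalgebra.comap (IsScalarTower.toAlgHom R M Ω) A)) t) =
      algebraMap ↥A (EGA4.Cpl ↥A) (algebraMap ↥(Subalgebra.comap (IsScalarTower.toAlgHom R M Ω) A) ↥A t))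
    [(IsLocalRing.maximalIdeal ↥A).LiesOver (IsLocalRing.maximalIdeal ↥(Subalgebra.comap (IsScalarTower.toAlgHom R M Ω) A))]
    (hLM : ∀ x : (EGA4.Cpl ↥(Subalgebra.comap (IsScalarTower.toAlgHom R L Ω) A)), ∃ a b : (EGA4.Cpl ↥(Subalgebra.comap (IsScalarTower.toAlgHom R M Ω) A)), algebraMap (EGA4.Cpl ↥(Subalgebra.comap (IsScalarTower.toAlgHom R M Ω) A)) (EGA4.Cpl ↥A) b ≠ 0 ∧
      algebraMap (EGA4.Cpl ↥(Subalgebra.comap (IsScalarTower.toAlgHom R L Ω) A)) (EGA4.Cpl ↥A) x * algebraMap (EGA4.Cpl ↥(Subalgebra.comap (IsScalarTower.toAlgHom R M Ω) A)) (EGA4.Cpl ↥A) b = algebraMap (EGA4.Cpl ↥(Subalgebra.comap (IsScalarTower.toAlgHom R M Ω) A)) (EGA4.Cpl ↥A) a) :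
    (IsLocalRing.maximalIdeal ↥(Subalgebra.comap (IsScalarTower.toAlgHom R M Ω) A)).map (algebraMap ↥(Subalgebra.comap (IsScalarTower.toAlgHom R M Ω) A) ↥A) = IsLocalRing.maximalIdeal ↥A ∧
      Module.Finite (↥(Subalgebra.comap (IsScalarTower.toAlgHom R M Ω) A) ⧸ IsLocalRing.maximalIdeal ↥(Subalgebra.comap (IsScalarTower.toAlgHom R M Ω) A)) (↥A ⧸ IsLocalRing.maximalIdeal ↥A) ∧
      Algebra.IsSeparable (↥(Subalgebra.comap (IsScalarTower.toAlgHom R M Ω) A) ⧸ IsLocalRing.maximalIdeal ↥(Subalgebra.comap (IsScalarTower.toAlgHom R M Ω) A)) (↥A ⧸ IsLocalRing.maximalIdeal ↥A) := by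
  haveI := hR.1
  obtain ⟨_, _⟩ := H1CplFin.finiteDimensional_compositum K L M Ω hΩ
  haveI := H1CplFin.finite_integralClosure R K L M Ω hΩ
  haveI : Module.Finite R (integralClosure R M) := IsIntegralClosure.finite R K M _
  obtain ⟨_, _, hval, hloc⟩ := H1CplFin.exists_isLocalization R Ω 𝔪 A hA
  have hle := H1CplFin.le_of_hA R Ω 𝔪 A hA
  have hRΩ : Function.Injective (algebraMap R Ω) := by
    rw [IsScalarTower.algebraMap_eq R K Ω]
    exact (algebraMap K Ω).injective.comp (IsFractionRing.injective R K)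
  haveI : IsLocalHom (algebraMap R A) := H1CplFin.isLocalHom_toA R Ω 𝔪 A hA hRΩ
  -- normality and completions
  haveI : IsIntegrallyClosed (integralClosure R Ω) := integralClosure.isIntegrallyClosedOfFiniteExtension K
  haveI : IsIntegrallyClosed (integralClosure R M) := integralClosure.isIntegrallyClosedOfFiniteExtension K
  have hexC : EGA4.IsExcellent (integralClosure R Ω) := CplFib6.isExcellent_of_finiteType hR _
  have hexM : EGA4.IsExcellent (integralClosure R M) := CplFib6.isExcellent_of_finiteType hR _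
  haveI : IsIntegrallyClosed A :=
    isIntegrallyClosed_of_isLocalization A 𝔪.primeCompl 𝔪.primeCompl_le_nonZeroDivisors
  obtain ⟨_, _⟩ := H1CplFin.normal_cpl A (CplFib6.isExcellent_localization hexC 𝔪.primeCompl A)
  obtain ⟨_, _⟩ := H1CplFin.normal_cpl R hR
  obtain ⟨ι, _, j, hj⟩ := H1CplFin.exists_embedding R K Ω
  -- the ring `T`
  let i : integralClosure R M →ₐ[R] integralClosure R Ω :=
    ((IsScalarTower.toAlgHom R M Ω).comp (integralClosure R M).val).codRestrict _
      fun s => s.2.map (IsScalarTower.toAlgHom R M Ω)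
  let n : Ideal (integralClosure R M) := 𝔪.comap i
  haveI : n.IsPrime := Ideal.IsPrime.comap _
  let T0 := Localization.AtPrime n
  haveI : IsIntegrallyClosed T0 :=
    isIntegrallyClosed_of_isLocalization T0 n.primeCompl n.primeCompl_le_nonZeroDivisors
  haveI : IsDomain T0 := IsLocalization.isDomain_localization n.primeCompl_le_nonZeroDivisors
  obtain ⟨_, _⟩ := H1CplFin.normal_cpl T0 (CplFib6.isExcellent_localization hexM n.primeCompl T0)
  let f0 : integralClosure R M →+* A := (algebraMap (integralClosure R Ω) A).comp i.toRingHom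
  have hunit : ∀ y : n.primeCompl, IsUnit (f0 y) := fun y =>
    IsLocalization.map_units A (⟨i y, y.2⟩ : 𝔪.primeCompl)
  letI : Algebra T0 A := (IsLocalization.lift hunit : T0 →+* A).toAlgebra
  have hT0 : ∀ x, algebraMap T0 A (algebraMap (integralClosure R M) T0 x) = f0 x :=
    fun x => IsLocalization.lift_eq hunit x
  haveI : IsScalarTower R T0 A := IsScalarTower.of_algebraMap_eq fun r => by
    rw [IsScalarTower.algebraMap_apply R (integralClosure R M) T0, hT0,
      IsScalarTower.algebraMap_apply R (integralClosure R Ω) A]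
    exact congrArg _ (i.commutes r).symm
  haveI : IsLocalHom (algebraMap R T0) := ⟨fun r hr => by
    refine (isUnit_map_iff (algebraMap R A) r).1 ?_
    rw [IsScalarTower.algebraMap_apply R T0 A]
    exact hr.map _⟩
  haveI : IsLocalHom (algebraMap T0 A) := ⟨fun x hx => by
    obtain ⟨a, b, rfl⟩ := IsLocalization.exists_mk'_eq n.primeCompl x
    have hx' : IsUnit (f0 a) := by
      rw [← hT0, ← IsLocalization.mk'_spec T0 a b, map_mul, hT0]
      exact hx.mul (hunit b)
    exact (IsLocalization.AtPrime.isUnit_mk'_iff T0 n a b).2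
      ((IsLocalization.AtPrime.isUnit_to_map_iff A 𝔪 (i a)).1 hx')⟩
  have hf0 : ∀ x, ((f0 x : A) : Ω) = algebraMap M Ω (x : M) := fun x => hval (i x)
  have hT0inj : Function.Injective (algebraMap T0 A) := by
    refine (IsLocalization.lift_injective_iff hunit).2 fun x y => ⟨fun h => ?_, fun h => ?_⟩
    · rw [IsLocalization.injective T0 n.primeCompl_le_nonZeroDivisors h]
    · refine congrArg _ (Subtype.ext ((algebraMap M Ω).injective ?_))
      rw [← hf0, ← hf0, h]
  -- `T` is a localization of the integral closure in `M`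
  letI : Algebra (integralClosure R M) ↥(Subalgebra.comap (IsScalarTower.toAlgHom R M Ω) A) :=
    ((integralClosure R M).val.codRestrict (Subalgebra.comap (IsScalarTower.toAlgHom R M Ω) A)
      fun s => hle (s.2.map (IsScalarTower.toAlgHom R M Ω))).toRingHom.toAlgebra
  haveI : IsScalarTower R (integralClosure R M) ↥(Subalgebra.comap (IsScalarTower.toAlgHom R M Ω) A) :=
    IsScalarTower.of_algebraMap_eq fun r => rfl
  haveI : IsScalarTower R ↥(Subalgebra.comap (IsScalarTower.toAlgHom R M Ω) A) A :=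
    IsScalarTower.of_algebraMap_eq fun r => Subtype.ext (by
      rw [hTA]; exact IsScalarTower.algebraMap_apply R M Ω r)
  haveI : IsLocalHom (algebraMap R ↥(Subalgebra.comap (IsScalarTower.toAlgHom R M Ω) A)) := ⟨fun r hr => by
    refine (isUnit_map_iff (algebraMap R A) r).1 ?_
    rw [IsScalarTower.algebraMap_apply R ↥(Subalgebra.comap (IsScalarTower.toAlgHom R M Ω) A) A]
    exact hr.map _⟩
  haveI : IsLocalization n.primeCompl ↥(Subalgebra.comap (IsScalarTower.toAlgHom R M Ω) A) := by
    refine { map_units := fun y => ?_, surj := fun z => ?_, exists_of_eq := fun {x y} h => ⟨1, ?_⟩ }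
    · have hy : ((y : integralClosure R M) : M) ≠ 0 := fun h => y.2 (by
        show i _ ∈ 𝔪
        rw [show (y : integralClosure R M) = 0 from Subtype.ext h, map_zero]
        exact 𝔪.zero_mem)
      refine IsUnit.of_mul_eq_one ⟨((y : integralClosure R M) : M)⁻¹, ?_⟩ (Subtype.ext (mul_inv_cancel₀ hy))
      show algebraMap M Ω _ ∈ A
      refine (hA _).2 ⟨1, i y, y.2, ?_⟩
      show algebraMap M Ω _ * algebraMap M Ω ((y : integralClosure R M) : M) = _
      rw [← map_mul, inv_mul_cancel₀ hy, map_one]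
      rfl
    · haveI : Algebra.IsAlgebraic R M :=
        (IsFractionRing.comap_isAlgebraic_iff (A := R) (K := K) (C := M)).2 (Algebra.IsAlgebraic.of_finite K M)
      obtain ⟨r, hr, hint⟩ := (Algebra.IsAlgebraic.isAlgebraic (R := R) (z : M)).exists_integral_multiple
      have hzA : algebraMap M Ω (z : M) ∈ A := z.2
      obtain ⟨t, ht⟩ := H1CplFin.exists_eq_of_mul_eq (R := R) (C := integralClosure R Ω) (A := A) 𝔪.primeCompl j hj
        (CT := integralClosure R M) (T := T0) n.primeCompl hT0inj (⟨algebraMap M Ω (z : M), hzA⟩ : A)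
        (algebraMap _ T0 (⟨r • (z : M), hint⟩ : integralClosure R M)) (algebraMap R T0 r)
        (by
          refine (map_ne_zero_iff _ fun a b h => ?_).2 hr
          have h1 := congrArg (fun w : T0 => ((algebraMap T0 A w : A) : Ω)) h
          simp only [← IsScalarTower.algebraMap_apply] at h1
          exact hRΩ h1)
        (Subtype.ext (by
          rw [hT0, hf0, ← IsScalarTower.algebraMap_apply R T0 A]
          show algebraMap M Ω (z : M) * algebraMap R Ω r = algebraMap M Ω (r • (z : M))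
          rw [Algebra.smul_def, map_mul, ← IsScalarTower.algebraMap_apply, mul_comm]))
      obtain ⟨a, s, rfl⟩ := IsLocalization.exists_mk'_eq n.primeCompl t
      refine ⟨(a, s), Subtype.ext ((algebraMap M Ω).injective ?_)⟩
      show algebraMap M Ω ((z : M) * (s : integralClosure R M)) = algebraMap M Ω (a : M)
      have h1 : (⟨algebraMap M Ω (z : M), hzA⟩ : A) * f0 s = f0 a := by
        rw [← ht, ← hT0, ← hT0, ← map_mul, IsLocalization.mk'_spec]
      have h2 := congrArg (fun w : A => (w : Ω)) h1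
      simp only [MulMemClass.coe_mul, hf0] at h2
      rw [map_mul]
      exact h2
    · have h' : (x : M) = y := congrArg
        (fun w : ↥(Subalgebra.comap (IsScalarTower.toAlgHom R M Ω) A) => (w : M)) h
      rw [Subtype.ext h']
  haveI : IsIntegrallyClosed ↥(Subalgebra.comap (IsScalarTower.toAlgHom R M Ω) A) :=
    isIntegrallyClosed_of_isLocalization _ n.primeCompl n.primeCompl_le_nonZeroDivisors
  obtain ⟨_, _⟩ := H1CplFin.normal_cpl ↥(Subalgebra.comap (IsScalarTower.toAlgHom R M Ω) A)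
    (CplFib6.isExcellent_localization hexM n.primeCompl _)
  haveI := H1CplFin.isNoetherianRing_of_atPrime R (C := integralClosure R Ω) (A := A) 𝔪.primeCompl
  haveI := H1CplFin.isNoetherianRing_of_atPrime R (C := integralClosure R M)
    (A := ↥(Subalgebra.comap (IsScalarTower.toAlgHom R M Ω) A)) n.primeCompl
  refine H1CplFin.unramified_of_bijective_cpl hcT (H1CplFin.bijective_cpl (R := R) (C := integralClosure R Ω) (A := A)
    𝔪.primeCompl j hj (CT := integralClosure R M) n.primeCompl hcT fun c => ?_)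
  obtain ⟨r, hr, hmem⟩ := H1CplFin.exists_smul_mem_adjoin R K L M Ω hΩ (c : Ω)
  refine H1CplFin.exists_frac hcT r hr (fun a b h => hRΩ (congrArg (fun w : A => (w : Ω)) h)) _
    (algebraMap ↥(Subalgebra.comap (IsScalarTower.toAlgHom R L Ω) A) A '' Set.univ ∪
      algebraMap ↥(Subalgebra.comap (IsScalarTower.toAlgHom R M Ω) A) A '' Set.univ) ?_ ?_
  · rintro _ (⟨s, -, rfl⟩ | ⟨t, -, rfl⟩)
    · obtain ⟨a, b, hb, h⟩ := hLM (algebraMap _ _ (s : ↥(Subalgebra.comap (IsScalarTower.toAlgHom R L Ω) A)))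
      rw [hcS] at h
      exact ⟨a, b, hb, h⟩
    · exact ⟨algebraMap _ _ (t : ↥(Subalgebra.comap (IsScalarTower.toAlgHom R M Ω) A)), 1,
        by rw [map_one]; exact one_ne_zero, by rw [map_one, mul_one, hcT]⟩
  have hle' : Algebra.adjoin R (algebraMap L Ω '' {s | IsIntegral R s} ∪ algebraMap M Ω '' {t | IsIntegral R t}) ≤
      (Algebra.adjoin R (algebraMap ↥(Subalgebra.comap (IsScalarTower.toAlgHom R L Ω) A) A '' Set.univ ∪
        algebraMap ↥(Subalgebra.comap (IsScalarTower.toAlgHom R M Ω) A) A '' Set.univ)).map A.val := by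
    refine Algebra.adjoin_le ?_
    rintro _ (⟨s, hs, rfl⟩ | ⟨s, hs, rfl⟩)
    · have hs' : algebraMap L Ω s ∈ A := hle (hs.map (IsScalarTower.toAlgHom R L Ω))
      exact ⟨_, Algebra.subset_adjoin (Or.inl ⟨⟨s, hs'⟩, trivial, rfl⟩), hSA ⟨s, hs'⟩⟩
    · have hs' : algebraMap M Ω s ∈ A := hle (hs.map (IsScalarTower.toAlgHom R M Ω))
      exact ⟨_, Algebra.subset_adjoin (Or.inr ⟨⟨s, hs'⟩, trivial, rfl⟩), hTA ⟨s, hs'⟩⟩
  obtain ⟨y, hy, hy'⟩ := hle' hmem
  have : algebraMap R A r * algebraMap (integralClosure R Ω) A c = y := Subtype.ext (by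
    show algebraMap R Ω r * ((algebraMap (integralClosure R Ω) A c : A) : Ω) = _
    rw [hval]; exact hy'.symm)
  rw [this]
  exact hy

end Groth.Agent.S18537
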