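import Groth.Statements.S18538
import Mathlib

set_option autoImplicit false
universe u
open EtAlg

namespace Groth.Agent.S18538

/-- Let A ⊆ B be an injective finite extension of integrally closed domains, with fraction fields K ⊆ L
and L separable over K. Then A → B → B ⊗_A B is exact, the second map being b ↦ b ⊗ 1 - 1 ⊗ b: every
element of B whose two images in B ⊗_A B agree comes from A. -/
theorem result
    (A B K L : Type u) [CommRing A] [CommRing B] [IsDomain A] [IsDomain B]
    [IsIntegrallyClosed A] [IsIntegrallyClosed B] [Algebra A B] [FaithfulSMul A B] [Module.Finite A B]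
    [Field K] [Field L] [Algebra A K] [IsFractionRing A K] [Algebra B L] [IsFractionRing B L]
    [Algebra K L] [Algebra A L] [IsScalarTower A K L] [IsScalarTower A B L]
    [Algebra.IsSeparable K L] :
    Algebra.IsEffective A B := by
  intro b
  refine ⟨fun hb => ?_, fun ⟨a, ha⟩ => ?_⟩
  swap
  · exact Algebra.TensorProduct.includeLeftSubRight_zero_of_mem_range ⟨a, ha⟩
  have he := Algebra.IsEffective.of_faithfullyFlat (R := K) (S := L)
  let φ : TensorProduct A B B →ₐ[A] TensorProduct K L L :=
    Algebra.TensorProduct.lift
      (((Algebra.TensorProduct.includeLeft : L →ₐ[K] TensorProduct K L L).restrictScalars A).comp (IsScalarTower.toAlgHom A B L))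
      (((Algebra.TensorProduct.includeRight : L →ₐ[K] TensorProduct K L L).restrictScalars A).comp (IsScalarTower.toAlgHom A B L))
      (fun _ _ => Commute.all _ _)
  have h2 : Algebra.TensorProduct.includeLeftSubRight K L (algebraMap B L b) = 0 := by
    rw [Algebra.TensorProduct.includeLeftSubRight_apply] at hb ⊢
    have h := congrArg φ hb
    rw [map_sub, map_zero] at h
    simpa [φ] using h
  obtain ⟨k, hk⟩ := (he _).1 h2
  have hint : IsIntegral A k := by
    refine (isIntegral_algHom_iff (IsScalarTower.toAlgHom A K L) (algebraMap K L).injective).1 ?_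
    show IsIntegral A (algebraMap K L k)
    rw [show algebraMap K L k = algebraMap B L b from hk]
    exact (Algebra.IsIntegral.isIntegral b).algebraMap
  obtain ⟨a, rfl⟩ := IsIntegrallyClosed.isIntegral_iff.1 hint
  refine ⟨a, IsFractionRing.injective B L ?_⟩
  rw [show algebraMap B L b = algebraMap K L (algebraMap A K a) from hk.symm, ← IsScalarTower.algebraMap_apply A K L]
  exact (IsScalarTower.algebraMap_apply A B L a).symm

end Groth.Agent.S18538
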