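import Groth.Statements.S18576
import Groth.Agent.RTrivLib.Main
import Mathlib.AlgebraicGeometry.Geometrically.Integral

set_option autoImplicit false
universe u
open CategoryTheory AlgebraicGeometry
open REq

namespace Groth.Agent.S18576

/-- Let k be a field of characteristic zero and X a scheme that is smooth, projective and geometrically
integral over k. If X is retract rational over k, in particular if X is stably rational over k, then
X is R-trivial over k: for every field K containing k (in the universe of k), X(K) is non-empty and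
any two K-points are R-equivalent. -/
theorem result (k : Type u) [Field k] [CharZero k]
    (X : Scheme.{u}) (f : X ⟶ Spec (CommRingCat.of k)) [GeometricallyIntegral f] [Smooth f]
    (hproj : Neron.IsProjectiveOver k (Over.mk f)) (hX : REq.IsRetractRational f) :
    REq.IsRTrivial f := by
  haveI : IsIntegral X := GeometricallyIntegral.isIntegral_of_subsingleton f
  intro K _ _
  haveI : Infinite k := Infinite.of_injective (Nat.cast : ℕ → k) Nat.cast_injective
  obtain ⟨U₀, n, V₀, a, b, hne, hab, ha, hb⟩ := hX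
  have key : ∀ A B : REq.Pts f K, REq.InOpen f U₀ A → REq.InOpen f U₀ B → REq.ElemLink f K A B := by
    intro A B hA hB
    have lift : ∀ C : REq.Pts f K, REq.InOpen f U₀ C → ∃ C' : REq.Pts (U₀.ι ≫ f) K, C'.1 ≫ U₀.ι = C.1 :=
      fun C hC => ⟨⟨IsOpenImmersion.lift U₀.ι C.1 (by rwa [Scheme.Opens.range_ι]), by
        rw [IsOpenImmersion.lift_fac_assoc, C.2]⟩, IsOpenImmersion.lift_fac _ _ _⟩
    obtain ⟨A', hA'⟩ := lift A hA
    obtain ⟨B', hB'⟩ := lift B hB
    obtain ⟨W, h, s, t, h1, h2, h3, h4, h5⟩ := Groth.Agent.S18571.link U₀ V₀ a b hab ha hb A' B'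
    exact ⟨W, h ≫ U₀.ι, s, t, by rw [Category.assoc, h1], h2, h3,
      by rw [← Category.assoc, h4, hA'], by rw [← Category.assoc, h5, hB']⟩
  refine ⟨?_, fun A B => ?_⟩
  · obtain ⟨z, hz⟩ := hne
    obtain ⟨_, ⟨G, rfl⟩, hpG, hGV⟩ := PrimeSpectrum.isTopologicalBasis_basic_opens.exists_subset_of_mem_open
      (a ⟨z, hz⟩).2 V₀.2
    have hG0 : G ≠ 0 := fun h => hpG (by rw [h]; exact zero_mem _)
    obtain ⟨x, hx⟩ : ∃ x : Fin n → k, MvPolynomial.eval x G ≠ 0 := by
      by_contra! h
      exact hG0 (MvPolynomial.funext (fun x => by rw [h x, map_zero]))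
    let e := Spec.map (CommRingCat.ofHom ((algebraMap k K).comp (MvPolynomial.eval x)))
    have hr : Set.range e ⊆ Set.range V₀.ι := by
      rw [Scheme.Opens.range_ι]
      rintro _ ⟨y, rfl⟩
      refine hGV (fun hmem => hx ?_)
      change algebraMap k K (MvPolynomial.eval x G) ∈ (y : PrimeSpectrum K).asIdeal at hmem
      rw [((y : PrimeSpectrum K).asIdeal.eq_bot_or_top).resolve_right (y : PrimeSpectrum K).isPrime.ne_top,
        Ideal.mem_bot] at hmem
      exact (map_eq_zero _).1 hmem
    refine ⟨⟨IsOpenImmersion.lift V₀.ι e hr ≫ b ≫ U₀.ι, ?_⟩⟩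
    simp only [Category.assoc]
    rw [hb, IsOpenImmersion.lift_fac_assoc, ← Spec.map_comp, REq.specMap]
    congr 1
    ext r
    simp
  · obtain ⟨A', hA', hlA⟩ := Groth.Agent.RTrivLib.exists_link U₀ V₀ a b hne hab ha hb A
    obtain ⟨B', hB', hlB⟩ := Groth.Agent.RTrivLib.exists_link U₀ V₀ a b hne hab ha hb B
    exact Relation.EqvGen.trans _ _ _ (Relation.EqvGen.rel _ _ hlA)
      (Relation.EqvGen.trans _ _ _ (Relation.EqvGen.rel _ _ (key A' B' hA' hB'))
        (Relation.EqvGen.symm _ _ (Relation.EqvGen.rel _ _ hlB)))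

end Groth.Agent.S18576
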