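import Groth.Statements.S18578
import Groth.Agent.RegUFD.Basic
import Groth.Agent.CotTLib.SmoothField
import Mathlib

set_option autoImplicit false
universe u
open LogDiff

namespace Groth.Agent.S18578
open scoped TensorProduct

section Helpers

/-- The logarithmic derivative `x⁻¹ dx`. -/
noncomputable def dl (k : Type u) {K : Type u} [CommRing k] [Field K] [Algebra k K] (x : K) : Ω[K⁄k] :=
  x⁻¹ • KaehlerDifferential.D k K x

variable (k : Type u) {K : Type u} [CommRing k] [Field K] [Algebra k K]

theorem dl_mul {x y : K} (hx : x ≠ 0) (hy : y ≠ 0) : dl k (x * y) = dl k x + dl k y := by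
  simp only [dl]
  rw [Derivation.leibniz, smul_add, smul_smul, smul_smul, mul_inv,
    show x⁻¹ * y⁻¹ * x = y⁻¹ by field_simp, show x⁻¹ * y⁻¹ * y = x⁻¹ by field_simp, add_comm]

theorem dl_one : dl k (1 : K) = 0 := by simp [dl]

theorem dl_inv {x : K} (hx : x ≠ 0) : dl k x⁻¹ = - dl k x := by
  have := dl_mul k hx (inv_ne_zero hx)
  rw [mul_inv_cancel₀ hx, dl_one] at this
  exact eq_neg_of_add_eq_zero_right this.symm

theorem dl_pow {x : K} (hx : x ≠ 0) : ∀ n : ℕ, dl k (x ^ n) = (n : K) • dl k x
  | 0 => by simp [dl_one]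
  | n + 1 => by rw [pow_succ, dl_mul k (pow_ne_zero _ hx) hx, dl_pow hx n, Nat.cast_succ, add_smul, one_smul]

theorem dl_prod {ι : Type*} (s : Finset ι) (x : ι → K) (hx : ∀ i ∈ s, x i ≠ 0) :
    dl k (∏ i ∈ s, x i) = ∑ i ∈ s, dl k (x i) := by
  classical
  induction s using Finset.induction_on with
  | empty => simp [dl_one]
  | insert j s hj ih =>
    rw [Finset.prod_insert hj, Finset.sum_insert hj, dl_mul k (hx j (Finset.mem_insert_self j s))
      (Finset.prod_ne_zero_iff.2 fun i hi => hx i (Finset.mem_insert_of_mem hi)),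
      ih fun i hi => hx i (Finset.mem_insert_of_mem hi)]

end Helpers

/-- An element all whose prime factors are associated to some `f i` is a unit times a product of them. -/
theorem exists_prod_form {R : Type u} [CommRing R] [IsDomain R] [UniqueFactorizationMonoid R] {r : ℕ}
    (f : Fin r → R) : ∀ (a : R), a ≠ 0 → (∀ q : R, Prime q → q ∣ a → ∃ i, Associated q (f i)) →
      ∃ (u : Rˣ) (e : Fin r → ℕ), a = (u : R) * ∏ i, f i ^ e i := by
  classical
  intro a
  induction a using UniqueFactorizationMonoid.induction_on_prime with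
  | h₁ => exact fun h => absurd rfl h
  | h₂ x hx => exact fun _ _ => ⟨hx.unit, 0, by simp⟩
  | h₃ a q ha0 hq ih =>
    intro _ h
    obtain ⟨u, e, he⟩ := ih ha0 fun q' hq' hd => h q' hq' (hd.mul_left q)
    obtain ⟨i, w, hw⟩ := h q hq (dvd_mul_right q a)
    refine ⟨w⁻¹ * u, e + Pi.single i 1, ?_⟩
    have : q = f i * (w⁻¹ : Rˣ) := by rw [← hw, Units.mul_inv_cancel_right]
    rw [this, he]
    simp only [Pi.add_apply, pow_add, Finset.prod_mul_distrib, Finset.prod_pow_eq_pow_sum]
    rw [Finset.prod_eq_single (f := fun j => f j ^ (Pi.single i 1 : Fin r → ℕ) j) i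
      (fun j _ hj => by simp [hj]) (fun hi => absurd (Finset.mem_univ i) hi)]
    simp only [Pi.single_eq_same, pow_one, Units.val_mul]
    ring

/-- A uniformiser has nonzero differential at its point, even after multiplying by a nonzero integer. -/
theorem smul_D_ne {k P S : Type u} [Field k] [CharZero k] [CommRing P] [IsDomain P] [Algebra k P]
    [Algebra.FormallySmooth k P] [Field S] [Algebra k S] [Algebra P S] [IsScalarTower k P S]
    [Algebra.FormallySmooth k S] (hsurj : Function.Surjective (algebraMap P S)) {h : P}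
    (hker : RingHom.ker (algebraMap P S) = Ideal.span {h}) (h0 : h ≠ 0) {m : ℕ} (hm : m ≠ 0) (ω : Ω[P⁄k]) :
    (m : P) • KaehlerDifferential.D k P h ≠ h • ω := by
  intro heq
  obtain ⟨σ, hσ⟩ := (Algebra.FormallySmooth.iff_split_injection (P := P) hsurj).1 ‹_›
  have hh : h ∈ RingHom.ker (algebraMap P S) := hker ▸ Ideal.mem_span_singleton_self h
  haveI : CharZero S := (RingHom.charZero_iff (algebraMap k S).injective).1 inferInstance
  have h1 : (1 : S) ⊗ₜ[P] KaehlerDifferential.D k P h = 0 := by
    have h2 := congrArg (fun z => (1 : S) ⊗ₜ[P] z) heq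
    beta_reduce at h2
    rw [← TensorProduct.smul_tmul, ← TensorProduct.smul_tmul, Algebra.smul_def, Algebra.smul_def, mul_one, mul_one,
      RingHom.mem_ker.1 hh, TensorProduct.zero_tmul, map_natCast] at h2
    have h3 := congrArg (fun z : S ⊗[P] Ω[P⁄k] => (m : S)⁻¹ • z) h2
    simp only [TensorProduct.smul_tmul', smul_eq_mul, smul_zero] at h3
    rwa [inv_mul_cancel₀ (Nat.cast_ne_zero.2 hm)] at h3
  have h4 := LinearMap.congr_fun hσ ((RingHom.ker (algebraMap P S)).toCotangent ⟨h, hh⟩)
  rw [LinearMap.comp_apply, KaehlerDifferential.kerCotangentToTensor_toCotangent, h1, map_zero] at h4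
  have h5 : h ∈ RingHom.ker (algebraMap P S) ^ 2 := (Ideal.toCotangent_eq_zero _ ⟨h, hh⟩).1 h4.symm
  rw [hker, Ideal.span_singleton_pow, Ideal.mem_span_singleton] at h5
  obtain ⟨t, ht⟩ := h5
  have h6 : IsUnit h := IsUnit.of_mul_eq_one t
    (mul_left_cancel₀ h0 (by rw [← mul_assoc, ← pow_two, ← ht, mul_one]))
  exact RingHom.ker_ne_top _ (hker.trans (Ideal.span_singleton_eq_top.2 h6))

/-- Off the `f i`, the numerator has no zero. -/
theorem pole_free {k R K : Type u} [Field k] [CharZero k] [CommRing R] [IsDomain R] [IsNoetherianRing R] [Algebra k R]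
    [Algebra.FormallySmooth k R] [Algebra.EssFiniteType k R]
    [Field K] [Algebra R K] [IsFractionRing R K] [Algebra k K] [IsScalarTower k R K]
    (q : R) (hq : Prime q) {r : ℕ} (f : Fin r → R) (c : Fin r → R) (hf : ∀ i, ¬ q ∣ f i)
    (x y : R) (hx : x ≠ 0) (hqx : q ∣ x) (hqy : ¬ q ∣ y)
    (h : ∃ (η : Ω[R⁄k]) (s : ℤ), dl k (algebraMap R K x) - dl k (algebraMap R K y) =
      s • (KaehlerDifferential.map k k R K η +
        ∑ i, (algebraMap R K (c i) * (algebraMap R K (f i))⁻¹) •
          KaehlerDifferential.D k K (algebraMap R K (f i)))) : False := by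
  classical
  obtain ⟨η, s, h⟩ := h
  obtain ⟨m, x', hx', rfl⟩ := WfDvdMonoid.max_power_factor hx hq.irreducible
  have hm : m ≠ 0 := by rintro rfl; exact hx' (by simpa using hqx)
  let I : Ideal R := Ideal.span {q}
  haveI : I.IsPrime := (Ideal.span_singleton_prime hq.ne_zero).2 hq
  have hmem : ∀ z : R, z ∈ I ↔ q ∣ z := fun z => Ideal.mem_span_singleton
  have hle : I.primeCompl ≤ nonZeroDivisors R := I.primeCompl_le_nonZeroDivisors
  let P := Localization.AtPrime I
  haveI : IsDomain P := IsLocalization.isDomain_of_le_nonZeroDivisors (M := I.primeCompl) P hle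
  let φ : P →+* K := IsLocalization.lift (M := I.primeCompl) (g := algebraMap R K)
    fun z => (map_ne_zero_iff _ (IsFractionRing.injective R K)).2 (nonZeroDivisors.ne_zero (hle z.2)) |> IsUnit.mk0 _
  letI : Algebra P K := φ.toAlgebra
  have htw : ∀ z : R, algebraMap R K z = algebraMap P K (algebraMap R P z) := fun z => (IsLocalization.lift_eq _ z).symm
  haveI : IsScalarTower R P K := IsScalarTower.of_algebraMap_eq htw
  haveI : IsScalarTower k P K := IsScalarTower.of_algebraMap_eq fun z => by
    rw [IsScalarTower.algebraMap_apply k R K, htw, ← IsScalarTower.algebraMap_apply k R P]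
  haveI : IsFractionRing P K := IsFractionRing.isFractionRing_of_isDomain_of_isLocalization I.primeCompl P K
  haveI : Algebra.FormallySmooth R P := Algebra.FormallySmooth.of_isLocalization I.primeCompl
  haveI : Algebra.FormallySmooth k P := Algebra.FormallySmooth.comp k R P
  haveI : Algebra.EssFiniteType R P := Algebra.EssFiniteType.of_isLocalization P I.primeCompl
  haveI : Algebra.EssFiniteType k P := Algebra.EssFiniteType.comp k R P
  haveI : Algebra.EssFiniteType k (IsLocalRing.ResidueField P) := Algebra.EssFiniteType.comp k P _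
  let L : Submodule P (Ω[K⁄k]) := LinearMap.range (KaehlerDifferential.map k k P K)
  have hD : ∀ z : R, KaehlerDifferential.D k K (algebraMap R K z) ∈ L := fun z =>
    ⟨KaehlerDifferential.D k P (algebraMap R P z), by rw [KaehlerDifferential.map_D, htw]⟩
  have hsc : ∀ (z : P) (v : Ω[K⁄k]), v ∈ L → algebraMap P K z • v ∈ L := fun z v hv => by
    rw [algebraMap_smul]; exact L.smul_mem z hv
  have hinv : ∀ z : R, ¬ q ∣ z → ∃ w : P, (algebraMap R K z)⁻¹ = algebraMap P K w := fun z hz => by
    have hu : IsUnit (algebraMap R P z) :=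
      IsLocalization.map_units P (⟨z, fun hm' => hz ((hmem z).1 hm')⟩ : I.primeCompl)
    exact ⟨↑hu.unit⁻¹, (eq_inv_of_mul_eq_one_left (by
      rw [htw, ← map_mul, IsUnit.val_inv_mul, map_one])).symm⟩
  have hdl : ∀ z : R, ¬ q ∣ z → dl k (algebraMap R K z) ∈ L := fun z hz => by
    obtain ⟨w, hw⟩ := hinv z hz
    rw [dl, hw]
    exact hsc w _ (hD z)
  have hη : KaehlerDifferential.map k k R K η ∈ L := by
    have htop : η ∈ Submodule.span R (Set.range (KaehlerDifferential.D k R)) := by
      rw [KaehlerDifferential.span_range_derivation]; trivial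
    clear h
    induction htop using Submodule.span_induction with
    | mem z hz => obtain ⟨z, rfl⟩ := hz; rw [KaehlerDifferential.map_D]; exact hD z
    | zero => rw [map_zero]; exact zero_mem _
    | add v w _ _ hv hw => rw [map_add]; exact add_mem hv hw
    | smul z v _ hv =>
      rw [map_smul, ← algebraMap_smul K z (KaehlerDifferential.map k k R K v), htw]
      exact hsc _ _ hv
  have hsum : (∑ i, (algebraMap R K (c i) * (algebraMap R K (f i))⁻¹) •
      KaehlerDifferential.D k K (algebraMap R K (f i))) ∈ L :=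
    sum_mem fun i _ => by
      obtain ⟨w, hw⟩ := hinv (f i) (hf i)
      rw [hw, htw (c i), ← map_mul]
      exact hsc _ _ (hD _)
  have hqK : algebraMap R K q ≠ 0 := (map_ne_zero_iff _ (IsFractionRing.injective R K)).2 hq.ne_zero
  have hxK : algebraMap R K x' ≠ 0 := (map_ne_zero_iff _ (IsFractionRing.injective R K)).2
    fun h0 => hx' (h0 ▸ dvd_zero q)
  have hmL : (m : K) • dl k (algebraMap R K q) ∈ L := by
    have e : (m : K) • dl k (algebraMap R K q) = s • (KaehlerDifferential.map k k R K η +
        ∑ i, (algebraMap R K (c i) * (algebraMap R K (f i))⁻¹) •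
          KaehlerDifferential.D k K (algebraMap R K (f i))) + dl k (algebraMap R K y) - dl k (algebraMap R K x') := by
      rw [← h, map_mul, map_pow, dl_mul k (pow_ne_zero _ hqK) hxK, dl_pow k hqK]
      abel
    rw [e]
    exact sub_mem (add_mem (zsmul_mem (add_mem hη hsum) s) (hdl y hqy)) (hdl x' hx')
  obtain ⟨ω, hω⟩ := hmL
  let qP : P := algebraMap R P q
  have hqP : qP ≠ 0 := (map_ne_zero_iff _ (IsLocalization.injective P hle)).2 hq.ne_zero
  have heq : KaehlerDifferential.map k k P K ((m : P) • KaehlerDifferential.D k P qP) =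
      KaehlerDifferential.map k k P K (qP • ω) := by
    rw [map_smul, map_smul, KaehlerDifferential.map_D, hω, ← algebraMap_smul K (m : P), map_natCast,
      ← algebraMap_smul K qP, ← htw, dl, smul_smul, smul_smul]
    congr 1
    field_simp
  obtain ⟨t, ht⟩ := (IsLocalizedModule.eq_iff_exists (nonZeroDivisors P) (KaehlerDifferential.map k k P K)).1 heq
  have heq' := Module.Flat.isSMulRegular_of_nonZeroDivisors (M := Ω[P⁄k]) t.2 ht
  refine smul_D_ne (S := IsLocalRing.ResidueField P) Ideal.Quotient.mk_surjective ?_ hqP hm ω heq'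
  rw [show RingHom.ker (algebraMap P (IsLocalRing.ResidueField P)) = IsLocalRing.maximalIdeal P from Ideal.mk_ker,
    ← Localization.AtPrime.map_eq_maximalIdeal, Ideal.map_span, Set.image_singleton]

/-- The degree-one case, stated at the local ring of a point. Let k be a field of characteristic zero, B
a smooth k-algebra, R the localization of B at a prime ideal, K the fraction field of R and f_1, …,
f_r prime elements of R. If g is a unit of K whose logarithmic differential g⁻¹dg in Ω_{K/k} is the
image of a form η ∈ Ω_{R/k} plus an R-linear combination Σ c_i f_i⁻¹df_i, then g⁻¹dg = v⁻¹dv + Σ b_i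
f_i⁻¹df_i for a unit v of R and integers b_i. (When the f_i are part of a regular system of
parameters the hypothesis says that g⁻¹dg has at worst logarithmic poles along the divisor f_1⋯f_r =
0 at this point, and the statement is the stalkwise injectivity of 1-forms with logarithmic poles
modulo logarithmic differentials of functions invertible off the divisor into Ω¹_K modulo
logarithmic differentials; it is stated here for arbitrary prime elements f_i.) -/
theorem result
    {k B R K : Type u} [Field k] [CharZero k] [CommRing B] [Algebra k B] [Algebra.Smooth k B]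
    (p : Ideal B) [p.IsPrime] [CommRing R] [Algebra B R] [IsLocalization.AtPrime R p]
    [Algebra k R] [IsScalarTower k B R]
    [Field K] [Algebra R K] [IsFractionRing R K] [Algebra k K] [IsScalarTower k R K]
    {r : ℕ} (f : Fin r → R) (hf : ∀ i, Prime (f i))
    (g : Kˣ) (η : Ω[R⁄k]) (c : Fin r → R)
    (h : (g : K)⁻¹ • KaehlerDifferential.D k K (g : K) =
      KaehlerDifferential.map k k R K η +
        ∑ i, (algebraMap R K (c i) * (algebraMap R K (f i))⁻¹) •
          KaehlerDifferential.D k K (algebraMap R K (f i))) :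
    ∃ (v : Rˣ) (b : Fin r → ℤ),
      (g : K)⁻¹ • KaehlerDifferential.D k K (g : K) =
        (algebraMap R K (v : R))⁻¹ • KaehlerDifferential.D k K (algebraMap R K (v : R)) +
          ∑ i, ((b i : K) * (algebraMap R K (f i))⁻¹) •
            KaehlerDifferential.D k K (algebraMap R K (f i)) := by
  classical
  haveI : Algebra.FormallySmooth B R := Algebra.FormallySmooth.of_isLocalization p.primeCompl
  haveI : Algebra.FormallySmooth k R := Algebra.FormallySmooth.comp k B R
  haveI : Algebra.EssFiniteType B R := Algebra.EssFiniteType.of_isLocalization R p.primeCompl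
  haveI : Algebra.EssFiniteType k R := Algebra.EssFiniteType.comp k B R
  haveI : Algebra.FiniteType k B := inferInstance
  haveI : IsRegularLocalRing R :=
    haveI := CotTLib.isRegularLocalRing_of_isSmoothAt (k := k) p
    IsRegularLocalRing.of_ringEquiv (IsLocalization.algEquiv p.primeCompl (Localization.AtPrime p) R).toRingEquiv
  obtain ⟨hdom, hufd⟩ := RegUFD.ufd R
  have hne : ∀ i, algebraMap R K (f i) ≠ 0 := fun i =>
    (map_ne_zero_iff _ (IsFractionRing.injective R K)).2 (hf i).ne_zero
  let a : R := IsFractionRing.num R (g : K)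
  let b : R := (IsFractionRing.den R (g : K) : R)
  have hb : b ≠ 0 := nonZeroDivisors.coe_ne_zero _
  have ha : a ≠ 0 := fun h0 => g.ne_zero (IsFractionRing.eq_zero_of_num_eq_zero h0)
  have hab : IsRelPrime a b := IsFractionRing.num_den_reduced R (g : K)
  have hg : (g : K) = algebraMap R K a / algebraMap R K b := (IsFractionRing.mk'_num_den' R (g : K)).symm
  have hinj := IsFractionRing.injective R K
  have haK : algebraMap R K a ≠ 0 := (map_ne_zero_iff _ hinj).2 ha
  have hbK : algebraMap R K b ≠ 0 := (map_ne_zero_iff _ hinj).2 hb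
  have hdg : dl k (g : K) = dl k (algebraMap R K a) - dl k (algebraMap R K b) := by
    rw [hg, div_eq_mul_inv, dl_mul k haK (inv_ne_zero hbK), dl_inv k hbK, sub_eq_add_neg]
  have hprime : ∀ x y : R, x ≠ 0 → y ≠ 0 → IsRelPrime x y →
      (dl k (algebraMap R K x) - dl k (algebraMap R K y) = dl k (g : K) ∨
        dl k (algebraMap R K x) - dl k (algebraMap R K y) = - dl k (g : K)) →
      ∀ q : R, Prime q → q ∣ x → ∃ i, Associated q (f i) := by
    intro x y hx hy hxy hor q hq hqx
    by_contra hcon
    refine pole_free (k := k) (K := K) q hq f c (fun i hd => hcon ⟨i, hq.associated_of_dvd (hf i) hd⟩) x y hx hqx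
      (fun hd => hq.not_isUnit (hxy hqx hd)) ?_
    rcases hor with e | e
    · exact ⟨η, 1, by rw [e, one_smul]; exact h⟩
    · exact ⟨η, -1, by rw [e, neg_one_smul]; exact congrArg Neg.neg h⟩
  obtain ⟨u, e, hu⟩ := exists_prod_form f a ha
    (hprime a b ha hb hab (Or.inl hdg.symm))
  obtain ⟨w, e', hw⟩ := exists_prod_form f b hb
    (hprime b a hb ha hab.symm (Or.inr (by rw [hdg, neg_sub])))
  refine ⟨u * w⁻¹, fun i => (e i : ℤ) - e' i, ?_⟩
  have hexp : ∀ (z : Rˣ) (n : Fin r → ℕ),
      dl k (algebraMap R K ((z : R) * ∏ i, f i ^ n i)) =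
        dl k (algebraMap R K (z : R)) + ∑ i, (n i : K) • dl k (algebraMap R K (f i)) := by
    intro z n
    rw [map_mul, dl_mul k (z.isUnit.map _).ne_zero, map_prod, dl_prod k]
    · refine congrArg _ (Finset.sum_congr rfl fun i _ => ?_)
      rw [map_pow, dl_pow k (hne i)]
    · exact fun i _ => by rw [map_pow]; exact pow_ne_zero _ (hne i)
    · rw [map_prod]; exact Finset.prod_ne_zero_iff.2 fun i _ => by rw [map_pow]; exact pow_ne_zero _ (hne i)
  show dl k (g : K) = dl k (algebraMap R K ((u * w⁻¹ : Rˣ) : R)) + _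
  have hwK : algebraMap R K (w : R) ≠ 0 := (w.isUnit.map _).ne_zero
  have hwi : algebraMap R K ((w⁻¹ : Rˣ) : R) = (algebraMap R K (w : R))⁻¹ :=
    eq_inv_of_mul_eq_one_left (by rw [← map_mul, ← Units.val_mul, inv_mul_cancel, Units.val_one, map_one])
  rw [hdg, hu, hw, hexp, hexp, Units.val_mul, map_mul, hwi,
    dl_mul k (u.isUnit.map _).ne_zero (inv_ne_zero hwK), dl_inv k hwK]
  simp only [dl, Int.cast_sub, Int.cast_natCast, sub_mul, sub_smul, Finset.sum_sub_distrib, smul_smul]
  abel

end Groth.Agent.S18578
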