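import Groth.Statements.S18596
import Mathlib
import Groth.Agent.TameEt.Basic

set_option autoImplicit false
universe u
open EtRam

namespace Groth.Agent.S18596

open AlgebraicGeometry CategoryTheory Limits in
theorem aux {X Y : Scheme.{u}} (f : X ⟶ Y) (x : X) [IsFinite f] [Etale f]
    (A : ValuationSubring (Y.residueField (f.base x))) [IsDiscreteValuationRing A]
    (l : Spec (CommRingCat.of A) ⟶ Y)
    (hl : Spec.map (CommRingCat.ofHom A.subtype) ≫ l = Y.fromSpecResidueField (f.base x)) :
    EtRam.IsTamelyRamified A ((f.residueFieldMap x).hom.comp A.subtype) := by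
  let P := pullback f l
  let q : P ⟶ Spec (CommRingCat.of A) := pullback.snd f l
  have : IsAffine P := isAffine_of_isAffineHom q
  let g : CommRingCat.of A ⟶ X.residueField x :=
    CommRingCat.ofHom ((f.residueFieldMap x).hom.comp A.subtype)
  have hw : X.fromSpecResidueField x ≫ f = Spec.map g ≫ l := by
    rw [show g = CommRingCat.ofHom A.subtype ≫ f.residueFieldMap x from rfl, Spec.map_comp,
      Category.assoc, hl, Scheme.Hom.SpecMap_residueFieldMap_fromSpecResidueField]
  let pt : Spec (X.residueField x) ⟶ P := pullback.lift _ _ hw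
  let φ : Γ(P, ⊤) ⟶ X.residueField x := Spec.preimage (pt ≫ P.isoSpec.hom)
  let β : CommRingCat.of A ⟶ Γ(P, ⊤) := Spec.preimage (P.isoSpec.inv ≫ q)
  have hβ : Spec.map β = P.isoSpec.inv ≫ q := Spec.map_preimage _
  have hφ : Spec.map φ = pt ≫ P.isoSpec.hom := Spec.map_preimage _
  have hcomp : β ≫ φ = g := Spec.map_injective <| by
    rw [Spec.map_comp, hβ, hφ, Category.assoc, Iso.hom_inv_id_assoc]
    exact pullback.lift_snd _ _ _
  let : Algebra A Γ(P, ⊤) := β.hom.toAlgebra
  have hfin : IsFinite (Spec.map β) := by rw [hβ]; infer_instance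
  have het : Etale (Spec.map β) := by rw [hβ]; infer_instance
  have : Module.Finite A Γ(P, ⊤) := (IsFinite.SpecMap_iff _).1 hfin
  have : Algebra.Etale A Γ(P, ⊤) :=
    RingHom.etale_algebraMap.1 ((HasRingHomProperty.Spec_iff (P := @Etale)).1 het)
  refine Groth.Agent.TameEt.isTamelyRamified_of_finite_unramified _ ?_ φ.hom
    (congrArg CommRingCat.Hom.hom hcomp) ?_
  · exact (f.residueFieldMap x).hom.injective.comp Subtype.val_injective
  · have h1 : SurjectiveOnStalks (pt ≫ pullback.fst f l) := by
      rw [pullback.lift_fst]; exact ⟨(X.fromSpecResidueField x).stalkMap_surjective⟩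
    have h2 : SurjectiveOnStalks pt := SurjectiveOnStalks.of_comp pt (pullback.fst f l)
    have h3 : SurjectiveOnStalks (Spec.map φ) := by rw [hφ]; infer_instance
    rw [SurjectiveOnStalks.Spec_iff, RingHom.surjectiveOnStalks_iff_forall_ideal] at h3
    intro v
    obtain ⟨b, r, c, hc, hr, e⟩ := h3 ⊥ bot_ne_top v
    rw [Ideal.mem_bot] at hc hr
    exact ⟨b, r, hr, by
      rw [mul_assoc] at e
      rw [mul_comm]
      exact mul_left_cancel₀ hc e⟩

open AlgebraicGeometry CategoryTheory in
/-- Let k be a perfect field, X a k-scheme proper over k and f : Y ⟶ X finite étale. Curve-tameness of f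
asks that the pullback of f to any regular k-curve mapping to X be tamely ramified at every place of
the curve's function field at infinity; proper targets make every finite étale cover curve-tame.
Stated here unfolded at a single place, in the form the argument yields: for every point y of Y with
image x, and every discrete valuation ring A of the residue field κ(x) through which Spec κ(x) ⟶
Spec k factors, the finite separable extension κ(y) of κ(x) is tamely ramified with respect to A. -/
theorem result
    (k : Type u) [Field k] [PerfectField k] {X Y : Scheme.{u}} (s : X ⟶ Spec (CommRingCat.of k))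
    [IsProper s] (f : Y ⟶ X) [IsFinite f] [Etale f] (y : Y)
    (A : ValuationSubring (X.residueField (f.base y))) [IsDiscreteValuationRing A]
    (a : Spec (CommRingCat.of A) ⟶ Spec (CommRingCat.of k))
    (ha : Spec.map (CommRingCat.ofHom A.subtype) ≫ a = X.fromSpecResidueField (f.base y) ≫ s) :
    EtRam.IsTamelyRamified A ((f.residueFieldMap y).hom.comp A.subtype) := by
  have hex : ValuativeCriterion.Existence s :=
    (UniversallyClosed.eq_valuativeCriterion.le _ _ s inferInstance).1
  let S : ValuativeCommSq s :=
    { R := A, K := X.residueField (f.base y), i₁ := X.fromSpecResidueField (f.base y), i₂ := a,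
      commSq := ⟨ha.symm⟩ }
  obtain ⟨⟨l, hl, _⟩⟩ := (hex S).exists_lift
  exact aux f y A l hl

end Groth.Agent.S18596
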