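import Groth.Statements.S1865
import Groth.Agent.GrpFieldLib.HomogTop

set_option autoImplicit false
universe u v
open CategoryTheory MonoidalCategory CartesianMonoidalCategory MonObj GrpObj AlgebraicGeometry
open GrpSch

namespace Groth.Agent.S1865

/-- A group scheme over a field contains an open and closed subset containing the identity point which
is a countable union of affine opens. (The source does not mention the identity point; its
construction contains it, and without it the empty set would do.) -/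
theorem result (K : Type u) [Field K] (G : Over (Spec (CommRingCat.of K))) [GrpObj G] : ∃ U : G.left.Opens, IsClosed (U : Set G.left) ∧ η[G].left (IsLocalRing.closedPoint K) ∈ U ∧ ∃ V : ℕ → G.left.Opens, (∀ n, IsAffineOpen (V n)) ∧ (U : Set G.left) = ⋃ n, (V n : Set G.left) := by
  obtain ⟨V₀, hV₀, heV, -⟩ := exists_isAffineOpen_mem_and_subset
    (show η[G].left (IsLocalRing.closedPoint K) ∈ (⊤ : G.left.Opens) from trivial)
  let a := Groth.Agent.GrpFieldLib.selfAction G
  let H := Groth.Agent.GrpFieldLib.unitTranslates a (V₀ : Set G.left)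
  have heq : H = Groth.Agent.GrpSchLib.hull (V₀ : Set G.left) :=
    Groth.Agent.GrpFieldLib.unitTranslates_eq_hull a Groth.Agent.GrpFieldLib.surjective_selfAction V₀.2
  have hclosed : IsClosed H := heq ▸ Groth.Agent.GrpSchLib.isClosed_hull V₀.2 hV₀.isCompact
  refine ⟨⟨H, Groth.Agent.GrpFieldLib.isOpen_unitTranslates a V₀.2⟩, hclosed,
    show _ ∈ H from heq ▸ ⟨_, heV, specializes_rfl⟩, ?_⟩
  have hc := Groth.Agent.GrpFieldLib.isCompact_unitTranslates a hV₀
  have hex : ∀ x : H, ∃ W : G.left.Opens, IsAffineOpen W ∧ x.1 ∈ W ∧ (W : Set G.left) ⊆ H := fun x => by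
    obtain ⟨W, hW, hx, hWH⟩ := exists_isAffineOpen_mem_and_subset
      (U := (⟨H, Groth.Agent.GrpFieldLib.isOpen_unitTranslates a V₀.2⟩ : G.left.Opens)) x.2
    exact ⟨W, hW, hx, hWH⟩
  choose W hW hxW hWH using hex
  obtain ⟨t, ht⟩ := hc.elim_finite_subcover (fun x => (W x : Set G.left)) (fun x => (W x).2)
    (fun x hx => Set.mem_iUnion.mpr ⟨⟨x, hx⟩, hxW _⟩)
  refine ⟨fun n => if h : n < t.card then W (t.equivFin.symm ⟨n, h⟩).1 else ⊥, fun n => ?_, ?_⟩
  · show IsAffineOpen (if h : n < t.card then W (t.equivFin.symm ⟨n, h⟩).1 else ⊥)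
    by_cases h : n < t.card
    · rw [dif_pos h]; exact hW _
    · rw [dif_neg h]; exact isAffineOpen_bot _
  · refine Set.Subset.antisymm (fun x hx => ?_) ?_
    · obtain ⟨y, hy, hxy⟩ := Set.mem_iUnion₂.mp (ht hx)
      refine Set.mem_iUnion.mpr ⟨t.equivFin ⟨y, hy⟩, ?_⟩
      simp [hxy]
    · refine Set.iUnion_subset fun n => ?_
      show ((if h : n < t.card then W (t.equivFin.symm ⟨n, h⟩).1 else ⊥ : G.left.Opens) : Set G.left) ⊆ H
      by_cases h : n < t.card
      · rw [dif_pos h]; exact hWH _
      · rw [dif_neg h]; simp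

end Groth.Agent.S1865
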