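import Groth.Statements.S18666
import Groth.Agent.GrProjSharp.Flat
import Groth.Agent.LC.GorFlat
import Groth.Agent.FlatLoc6.GeomProp

set_option autoImplicit false
set_option backward.isDefEq.respectTransparency false
set_option backward.isDefEq.respectTransparency.types false
set_option linter.style.haveILetI false
universe u
open GrProj

namespace Groth.Agent.S18666

open AlgebraicGeometry Pointwise in
/-- Let A = ⊕_{n ≥ 0} A_n be a commutative Noetherian graded ring satisfying condition (#) — there is an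
integer d_0 such that for every d ≥ d_0 the Veronese subring A^(d) is generated by A_d over A_0,
equivalently A_{(n+1)d} is additively generated by the products A_d A_{nd} for every n ≥ 1 — and
assume A is a Gorenstein ring. Then X = Proj A is a Gorenstein scheme: all of its local rings are
Gorenstein local rings. (The Cohen–Macaulay case of the same lemma is stated separately.) -/
theorem result (A : Type u) [CommRing A] (𝒜 : ℕ → AddSubgroup A) [GradedRing 𝒜] [LocCoh.IsGorensteinRing A] (hsharp : ∃ d₀ : ℕ, ∀ d : ℕ, d₀ ≤ d → ∀ n : ℕ, 1 ≤ n → 𝒜 ((n + 1) * d) = AddSubgroup.closure ((𝒜 d : Set A) * (𝒜 (n * d) : Set A))) (x : Proj 𝒜) : LocCoh.IsGorensteinLocalRing ((Proj 𝒜).presheaf.stalk x) := by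
  classical
  obtain ⟨d₀, hd₀⟩ := hsharp
  let P : Ideal A := (show ProjectiveSpectrum 𝒜 from x).asHomogeneousIdeal.toIdeal
  haveI : P.IsPrime := (show ProjectiveSpectrum 𝒜 from x).isPrime
  have hex : ∃ (e : ℕ) (f : A), 0 < e ∧ f ∈ 𝒜 e ∧ f ∉ P := by
    obtain ⟨a, ha, haP⟩ := SetLike.not_le_iff_exists.1 (show ProjectiveSpectrum 𝒜 from x).not_irrelevant_le
    by_contra! h
    refine haP ?_
    show a ∈ P
    rw [← DirectSum.sum_support_decompose 𝒜 a]
    refine Ideal.sum_mem _ fun i _ => ?_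
    rcases Nat.eq_zero_or_pos i with rfl | hi
    · rw [show (DirectSum.decompose 𝒜 a 0 : A) = 0 from ha]
      exact zero_mem _
    · exact h i _ hi (SetLike.coe_mem _)
  obtain ⟨e, f₀, he, hf₀, hf₀P⟩ := hex
  let d : ℕ := (d₀ + 2) * e
  have hd : d₀ + 2 ≤ d := Nat.le_mul_of_pos_right _ he
  have hf : f₀ ^ (d₀ + 2) ∈ 𝒜 d := by
    have h := SetLike.pow_mem_graded (d₀ + 2) hf₀
    rwa [smul_eq_mul] at h
  have hfP : f₀ ^ (d₀ + 2) ∉ P := fun h => hf₀P (Ideal.IsPrime.mem_of_pow_mem inferInstance _ h)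
  have hbig : (f₀ ^ (d₀ + 2)) ^ (d + 1) ∈ 𝒜 ((d - 1 + 1) * (d + 1)) := by
    have h := SetLike.pow_mem_graded (d + 1) hf
    rwa [smul_eq_mul, show (d + 1) * d = (d - 1 + 1) * (d + 1) by rw [show d - 1 + 1 = d by omega]; ring] at h
  obtain ⟨g, hg, hgP⟩ : ∃ g, g ∈ 𝒜 (d + 1) ∧ g ∉ P := by
    by_contra! hall
    rw [hd₀ (d + 1) (by omega) (d - 1) (by omega)] at hbig
    refine hfP (Ideal.IsPrime.mem_of_pow_mem inferInstance (d + 1) ?_)
    refine (AddSubgroup.closure_le (K := P.toAddSubgroup)).2 ?_ hbig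
    rintro _ ⟨a, ha, b, -, rfl⟩
    exact P.mul_mem_right b (hall a ha)
  obtain ⟨hloc, hff⟩ := Groth.Agent.GrProjSharp.faithfullyFlat_atPrime 𝒜 P hf hfP hg hgP
  haveI := hloc
  haveI := hff
  haveI hL : LocCoh.IsGorensteinLocalRing (Localization.AtPrime P) :=
    LocCoh.IsGorensteinRing.isGorensteinLocalRing_localization P
  haveI : IsNoetherianRing (HomogeneousLocalization.AtPrime 𝒜 P) :=
    Groth.Agent.FlatLoc6.isNoetherianRing_of_faithfullyFlat _ (Localization.AtPrime P)
  haveI := ((Groth.Agent.LC.gorenstein_flat_local_iff (HomogeneousLocalization.AtPrime 𝒜 P)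
    (Localization.AtPrime P)).1 hL).1
  let E : (Proj 𝒜).presheaf.stalk x ≃+* HomogeneousLocalization.AtPrime 𝒜 P :=
    AlgebraicGeometry.Proj.stalkIso' 𝒜 x
  haveI : IsNoetherianRing ((Proj 𝒜).presheaf.stalk x) := isNoetherianRing_of_ringEquiv _ E.symm
  exact Groth.Agent.LC.gorenstein_of_ringEquiv E.symm

end Groth.Agent.S18666
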