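import Groth.Statements.S18696
import Groth.Agent.GrpFieldLib.RetractScheme

set_option autoImplicit false
open CategoryTheory MonoidalCategory CartesianMonoidalCategory MonObj GrpObj AlgebraicGeometry
universe u
open MultTori

namespace Groth.Agent.S18696

/-- (v) ⇒ (viii): let k be a field and T an isotrivial k-torus (isomorphic to a split torus of some rank
after one finite étale surjective base change). If for every discrete valuation ring A containing k
(a k-algebra), with residue field κ, the reduction map T(A) → T(κ) is surjective, then T is retract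
rational over k: there are a nonempty open subscheme U of T, an open subscheme Y of an affine space
over k and k-morphisms U → Y → U whose composite is the identity of U. -/
theorem result
    (k : Type u) [Field k] (T : Over (Spec (CommRingCat.of k))) [GrpObj T]
    (hT : ∃ r : ℕ, TwC.Locally (Spec (CommRingCat.of k)) .finiteEtale
        (fun S' g => Red.IsSplitTorusWith (Fin r → ℤ) (Red.bc g T)))
    (h : ∀ (A : Type u) [CommRing A] [IsDomain A] [IsDiscreteValuationRing A] [Algebra k A]
        (u : Spec (CommRingCat.of (IsLocalRing.ResidueField A)) ⟶ T.left),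
        u ≫ T.hom = Spec.map (CommRingCat.ofHom ((IsLocalRing.residue A).comp (algebraMap k A))) →
        ∃ s : Spec (CommRingCat.of A) ⟶ T.left, s ≫ T.hom = Spec.map (CommRingCat.ofHom (algebraMap k A)) ∧
          Spec.map (CommRingCat.ofHom (IsLocalRing.residue A)) ≫ s = u) :
    ∃ (U : T.left.Opens) (n : ℕ) (Y : (Spec (CommRingCat.of (MvPolynomial (Fin n) k))).Opens)
        (a : (U : Scheme.{u}) ⟶ (Y : Scheme.{u})) (b : (Y : Scheme.{u}) ⟶ (U : Scheme.{u})),
        (U : Set T.left).Nonempty ∧ a ≫ b = 𝟙 (U : Scheme.{u}) ∧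
        a ≫ Y.ι ≫ Spec.map (CommRingCat.ofHom (algebraMap k (MvPolynomial (Fin n) k))) = U.ι ≫ T.hom ∧
        b ≫ U.ι ≫ T.hom = Y.ι ≫ Spec.map (CommRingCat.ofHom (algebraMap k (MvPolynomial (Fin n) k))) := by
  obtain ⟨A, _, _, _, _, _, ⟨j⟩⟩ := Groth.Agent.GrpFieldLib.exists_model hT
  let jh : Spec (CommRingCat.of A) ⟶ T.left := j.hom.left
  let ji : T.left ⟶ Spec (CommRingCat.of A) := j.inv.left
  have hj : jh ≫ T.hom = Spec.map (CommRingCat.ofHom (algebraMap k A)) := Over.w j.hom
  have hj' : ji ≫ Spec.map (CommRingCat.ofHom (algebraMap k A)) = T.hom := Over.w j.inv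
  have hji : jh ≫ ji = 𝟙 _ := congrArg (fun g => g.left) j.hom_inv_id
  obtain ⟨n, h₀, e, β, α, he, hαβ⟩ := Groth.Agent.GrpFieldLib.exists_retraction (k := k) (A := A)
    fun O _ _ _ _ v => by
      obtain ⟨s, hs1, hs2⟩ := h O (Spec.map (CommRingCat.ofHom v.toRingHom) ≫ jh) (by
        rw [Category.assoc, hj, ← Spec.map_comp]
        congr 1
        ext c
        exact v.commutes c)
      obtain ⟨φ, hφ⟩ := Spec.map_surjective (s ≫ ji)
      have hc : CommRingCat.ofHom (algebraMap k A) ≫ φ = CommRingCat.ofHom (algebraMap k O) := Spec.map_injective <| by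
        rw [Spec.map_comp, hφ, Category.assoc, hj', hs1]
      refine ⟨⟨φ.hom, fun c => congrArg (fun g => g.hom c) hc⟩, ?_⟩
      have h2 : φ ≫ CommRingCat.ofHom (IsLocalRing.residue O) = CommRingCat.ofHom v.toRingHom := Spec.map_injective <| by
        rw [Spec.map_comp, hφ, ← Category.assoc, hs2, Category.assoc, hji, Category.comp_id]
      ext a
      exact congrArg (fun g => g.hom a) h2
  haveI : IsIso jh := ((Over.forget _).mapIso j).isIso_hom
  haveI : IsOpenImmersion (Spec.map (CommRingCat.ofHom (algebraMap A (Localization.Away e)))) :=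
    IsOpenImmersion.of_isLocalization e
  let ιA : Spec (CommRingCat.of (Localization.Away e)) ⟶ T.left :=
    Spec.map (CommRingCat.ofHom (algebraMap A (Localization.Away e))) ≫ jh
  let jP : Spec (CommRingCat.of (Localization.Away h₀)) ⟶ Spec (CommRingCat.of (MvPolynomial (Fin n) k)) :=
    Spec.map (CommRingCat.ofHom (algebraMap (MvPolynomial (Fin n) k) (Localization.Away h₀)))
  haveI : IsOpenImmersion jP := IsOpenImmersion.of_isLocalization h₀
  let bS : Spec (CommRingCat.of (Localization.Away h₀)) ⟶ T.left := Spec.map (CommRingCat.ofHom β.toRingHom) ≫ jh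
  let U := ιA.opensRange
  let W := bS ⁻¹ᵁ U
  have key : Spec.map (CommRingCat.ofHom α.toRingHom) ≫ bS = ιA := by
    rw [← Category.assoc, ← Spec.map_comp]
    congr 2
    ext a
    exact DFunLike.congr_fun hαβ a
  have hαW : Set.range (Spec.map (CommRingCat.ofHom α.toRingHom)) ⊆ Set.range W.ι := by
    rintro _ ⟨x, rfl⟩
    rw [Scheme.Opens.range_ι]
    show bS _ ∈ U
    rw [← Scheme.Hom.comp_apply, key]
    exact ⟨x, rfl⟩
  have hbU : Set.range (W.ι ≫ bS) ⊆ Set.range U.ι := by
    rintro _ ⟨x, rfl⟩
    rw [Scheme.Opens.range_ι]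
    exact x.2
  let a : (U : Scheme.{u}) ⟶ ((jP ''ᵁ W : (Spec (CommRingCat.of (MvPolynomial (Fin n) k))).Opens) : Scheme.{u}) :=
    ιA.isoOpensRange.inv ≫ IsOpenImmersion.lift W.ι _ hαW ≫ (jP.isoImage W).hom
  let b : ((jP ''ᵁ W : (Spec (CommRingCat.of (MvPolynomial (Fin n) k))).Opens) : Scheme.{u}) ⟶ (U : Scheme.{u}) :=
    (jP.isoImage W).inv ≫ IsOpenImmersion.lift U.ι _ hbU
  have hιU : ιA.isoOpensRange.inv ≫ ιA = U.ι := ιA.isoOpensRange_inv_comp
  have hbase : bS ≫ T.hom = jP ≫ Spec.map (CommRingCat.ofHom (algebraMap k (MvPolynomial (Fin n) k))) := by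
    rw [Category.assoc, hj, ← Spec.map_comp, ← Spec.map_comp]
    congr 1
    ext c
    exact (β.commutes c).trans (IsScalarTower.algebraMap_apply k (MvPolynomial (Fin n) k) (Localization.Away h₀) c)
  refine ⟨U, n, jP ''ᵁ W, a, b, ?_, ?_, ?_, ?_⟩
  · haveI : IsDomain (Localization.Away e) := IsLocalization.isDomain_of_le_nonZeroDivisors _
      (powers_le_nonZeroDivisors_of_noZeroDivisors he)
    exact Set.range_nonempty _
  · rw [← cancel_mono U.ι]
    simp only [a, b, Category.assoc, Iso.hom_inv_id_assoc, IsOpenImmersion.lift_fac, Category.id_comp]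
    rw [IsOpenImmersion.lift_fac_assoc, key, hιU]
  · simp only [a, Category.assoc]
    rw [Scheme.Hom.isoImage_hom_ι_assoc, IsOpenImmersion.lift_fac_assoc, ← hbase, ← Category.assoc (Spec.map _), key,
      ← Category.assoc, hιU]
  · simp only [b, Category.assoc]
    rw [IsOpenImmersion.lift_fac_assoc, Category.assoc, hbase, ← Scheme.Hom.isoImage_inv_ι_assoc]

end Groth.Agent.S18696
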