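import Groth.Statements.S18711
import Groth.Agent.H1FourTerm.Basic

set_option autoImplicit false
universe u
open QGor

namespace Groth.Agent.S18711

open TensorProduct in
/-- Affine form. Let A → B be a flat homomorphism of Noetherian rings, J an ideal of B such that for
every prime q ⊇ J with contraction p the fibre local ring B_q/pB_q has depth ≥ 2, A → A′ a
homomorphism of Noetherian rings and B′ = A′ ⊗_A B the (Noetherian) pushout. Let 0 → F → E⁰ → E¹ → G
→ 0 be an exact sequence of finite B-modules with E⁰, E¹ projective and F_q, G_q free for every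
prime q not containing J. Then F is reflexive; the kernel K′ of B′ ⊗_B E⁰ → B′ ⊗_B E¹ is a reflexive
B′-module with depth_{JB′} K′ ≥ 2 (so it is the module of sections of the pull-back of F off
V(JB′)); and K′ is flat over A′ with depth ≥ 2 along JB′ on every fibre stalk K′_{q′}/p′K′_{q′} if
and only if B′ ⊗_B G is flat over A′. (The published statement phrases the last left-hand condition
as the relative S₂ condition of K′ over A′; the two agree when the fibres of Spec B′ → Spec A′
satisfy S₂ off V(JB′), and without that the relative S₂ form fails already for A = A′ a field, J =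
B, F = E⁰ = B not S₂ and E¹ = G = 0, so the fibrewise-depth form, which is what the proof
establishes, is stated.) -/
theorem result (A B : Type u) [CommRing A] [CommRing B] [IsNoetherianRing A] [IsNoetherianRing B] [Algebra A B]
    (A' B' : Type u) [CommRing A'] [CommRing B'] [IsNoetherianRing A'] [IsNoetherianRing B']
    [Algebra A A'] [Algebra B B'] [Algebra A' B'] [Algebra A B'] [IsScalarTower A B B'] [IsScalarTower A A' B']
    [Algebra.IsPushout A B A' B'] [Module.Flat A B] (J : Ideal B)
    (hZ : ∀ q : PrimeSpectrum B, J ≤ q.asIdeal →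
      2 ≤ LocCoh.idealDepth (q.asIdeal.map (algebraMap B (EGA4.FibLocRing A B q.asIdeal))) (EGA4.FibLocRing A B q.asIdeal))
    (F E0 E1 G : Type u) [AddCommGroup F] [Module B F] [Module.Finite B F]
    [AddCommGroup E0] [Module B E0] [Module.Finite B E0] [Module.Projective B E0]
    [AddCommGroup E1] [Module B E1] [Module.Finite B E1] [Module.Projective B E1]
    [AddCommGroup G] [Module B G] [Module.Finite B G]
    (f : F →ₗ[B] E0) (u : E0 →ₗ[B] E1) (v : E1 →ₗ[B] G)
    (hf : Function.Injective f) (hfu : Function.Exact f u) (huv : Function.Exact u v) (hv : Function.Surjective v)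
    (hFU : ∀ q : PrimeSpectrum B, ¬ J ≤ q.asIdeal → Module.Free (Localization.AtPrime q.asIdeal) (LocalizedModule q.asIdeal.primeCompl F))
    (hGU : ∀ q : PrimeSpectrum B, ¬ J ≤ q.asIdeal → Module.Free (Localization.AtPrime q.asIdeal) (LocalizedModule q.asIdeal.primeCompl G)) :
    Module.IsReflexive B F ∧
    Module.IsReflexive B' (LinearMap.ker (u.baseChange B')) ∧
    2 ≤ LocCoh.idealDepth (J.map (algebraMap B B')) (LinearMap.ker (u.baseChange B')) ∧
    ((∀ q' : PrimeSpectrum B', FlatCA.FlatAt A' q'.asIdeal (LinearMap.ker (u.baseChange B')) ∧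
        2 ≤ LocCoh.idealDepth ((J.map (algebraMap B B')).map (algebraMap B' (EGA4.FibLocRing A' B' q'.asIdeal)))
          (EGA4.FibLocMod A' B' q'.asIdeal (LinearMap.ker (u.baseChange B')))) ↔
      Module.Flat A' (B' ⊗[B] G)) := by
  classical
  let J' : Ideal B' := J.map (algebraMap B B')
  let E0' := B' ⊗[B] E0
  let E1' := B' ⊗[B] E1
  let u' : E0' →ₗ[B'] E1' := u.baseChange B'
  let v' : E1' →ₗ[B'] B' ⊗[B] G := v.baseChange B'
  haveI : Module.Finite B' (LinearMap.ker u') := Module.Finite.iff_fg.2 (IsNoetherian.noetherian _)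
  have hf' : Function.Injective (LinearMap.ker u').subtype := Subtype.val_injective
  have hfu' : Function.Exact (LinearMap.ker u').subtype u' := LinearMap.exact_subtype_ker_map u'
  have huv' : Function.Exact u' v' := lTensor_exact B' huv hv
  have hv' : Function.Surjective v' := LinearMap.lTensor_surjective B' hv
  -- freeness off the closed subset
  have hGU' : ∀ q : PrimeSpectrum B', ¬ J' ≤ q.asIdeal →
      Module.Free (Localization.AtPrime q.asIdeal) (LocalizedModule q.asIdeal.primeCompl (B' ⊗[B] G)) := by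
    intro q hq
    exact Module.comap_freeLocus_le (R := B) (M := G)
      (show PrimeSpectrum.comap (algebraMap B B') q ∈ Module.freeLocus B G from
        hGU _ fun h => hq (Ideal.map_le_iff_le_comap.2 h))
  have hKU' : ∀ q : PrimeSpectrum B', ¬ J' ≤ q.asIdeal →
      Module.Free (Localization.AtPrime q.asIdeal) (LocalizedModule q.asIdeal.primeCompl (LinearMap.ker u')) :=
    fun q hq => Groth.Agent.H1FourTerm.free_of_free (F := ↥(LinearMap.ker u')) hf' hfu' huv' hv' q.asIdeal (hGU' q hq)
  have hdB : ((2 : ℕ) : ℕ∞) ≤ LocCoh.idealDepth J B := by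
    refine Groth.Agent.KFlatLib.le_idealDepth_of_fibLocMod (A := A) B J _ fun q hq => ?_
    exact Groth.Agent.H1FourTerm.fibLocMod_self J _ (fun q hq => by exact_mod_cast hZ q hq) q hq
  haveI : Module.Flat A' B' := by
    haveI h1 : Module.Flat A' (A' ⊗[A] B) := inferInstance
    haveI : Algebra.IsPushout A A' B B' := Algebra.IsPushout.symm inferInstance
    exact Module.Flat.of_linearEquiv (Algebra.IsPushout.out (R := A) (S := A') (R' := B) (S' := B')).equiv.symm
  have hdB' : ((2 : ℕ) : ℕ∞) ≤ LocCoh.idealDepth J' B' :=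
    Groth.Agent.KFlatLib.le_idealDepth_baseChange_self J 2 A' (fun q hq => by exact_mod_cast hZ q hq)
  obtain ⟨hK, hK2⟩ := Groth.Agent.H1FourTerm.isReflexive_kernel (F := ↥(LinearMap.ker u')) J' hf' hfu' huv' hv' hdB' hKU'
  refine ⟨(Groth.Agent.H1FourTerm.isReflexive_kernel J hf hfu huv hv hdB hFU).1, hK, hK2, ?_⟩
  -- fibre depths of the projective terms
  haveI : Module.Flat A' E0' := Module.Flat.trans A' B' E0'
  haveI : Module.Flat A' E1' := Module.Flat.trans A' B' E1'
  have hmax : ∀ (E : Type u) [AddCommGroup E] [Module B' E] [Module.Finite B' E] [Module.Projective B' E],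
      ∀ q : PrimeSpectrum B', J' ≤ q.asIdeal →
      2 ≤ LocCoh.idealDepth (q.asIdeal.map (algebraMap B' (EGA4.FibLocRing A' B' q.asIdeal)))
        (EGA4.FibLocMod A' B' q.asIdeal E) := by
    intro E _ _ _ _ q hq
    have h := Groth.Agent.KFlatLib.le_idealDepth_fibLocMod_projective (B' := B') J 2 A'
      (fun q hq => by exact_mod_cast hZ q hq) E q.asIdeal
    haveI : IsNoetherianRing (Localization.AtPrime q.asIdeal) :=
      IsLocalization.isNoetherianRing q.asIdeal.primeCompl _ inferInstance
    refine le_trans (by exact_mod_cast h) (Groth.Agent.LC.idealDepth_le_of_le _ _ ?_)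
    exact Ideal.map_mono hq
  have h0 := hmax E0'
  have h1 : ∀ q : PrimeSpectrum B', J' ≤ q.asIdeal →
      1 ≤ LocCoh.idealDepth (q.asIdeal.map (algebraMap B' (EGA4.FibLocRing A' B' q.asIdeal)))
        (EGA4.FibLocMod A' B' q.asIdeal E1') := fun q hq => le_trans one_le_two (hmax E1' q hq)
  have hGflat : ∀ q : PrimeSpectrum B', ¬ J' ≤ q.asIdeal → FlatCA.FlatAt A' q.asIdeal (B' ⊗[B] G) := by
    intro q hq
    haveI := hGU' q hq
    haveI : Module.Flat A' (Localization.AtPrime q.asIdeal) :=
      Module.Flat.trans A' B' (Localization.AtPrime q.asIdeal)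
    exact Module.Flat.trans A' (Localization.AtPrime q.asIdeal) _
  constructor
  · intro h
    refine Module.flat_of_isLocalized_maximal (R := A') B' (B' ⊗[B] G)
      (fun P _ => LocalizedModule P.primeCompl (B' ⊗[B] G)) (fun P _ => LocalizedModule.mkLinearMap P.primeCompl _)
      fun P hP => ?_
    haveI := hP.isPrime
    refine (Groth.Agent.KFlatLib.fourTerm_atPrime (A := A') (F := ↥(LinearMap.ker u')) J' hf' hfu' huv' hv' P
      (fun r hr _ => h0 r hr) (fun r hr _ => h1 r hr)).2 hGflat fun r hr _ => ?_
    haveI : IsNoetherianRing (Localization.AtPrime r.asIdeal) :=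
      IsLocalization.isNoetherianRing r.asIdeal.primeCompl _ inferInstance
    exact le_trans (h r).2 (Groth.Agent.LC.idealDepth_le_of_le _ _ (Ideal.map_mono hr))
  · intro hG q
    have hGat : ∀ r : PrimeSpectrum B', FlatCA.FlatAt A' r.asIdeal (B' ⊗[B] G) := fun r =>
      Groth.Agent.KFlatLib.flat_localized r.asIdeal.primeCompl (B' ⊗[B] G)
    refine ⟨((Groth.Agent.KFlatLib.fourTerm_atPrime (A := A') (F := ↥(LinearMap.ker u')) J' hf' hfu' huv' hv' q.asIdeal
      (fun r hr _ => h0 r hr) (fun r hr _ => h1 r hr)).1 (hGat q)).1, ?_⟩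
    have hq2 : ∀ r : PrimeSpectrum B', J' ≤ r.asIdeal → r.asIdeal ≤ q.asIdeal →
        2 ≤ LocCoh.idealDepth (r.asIdeal.map (algebraMap B' (EGA4.FibLocRing A' B' r.asIdeal)))
          (EGA4.FibLocMod A' B' r.asIdeal (LinearMap.ker u')) := fun r hr _ =>
      ((Groth.Agent.KFlatLib.fourTerm_atPrime (A := A') (F := ↥(LinearMap.ker u')) r.asIdeal hf' hfu' huv' hv' r.asIdeal
        (fun s hs _ => h0 s (hr.trans hs)) (fun s hs _ => h1 s (hr.trans hs))).1 (hGat r)).2 rfl
    let p := q.asIdeal.comap (algebraMap A' B')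
    haveI : q.asIdeal.LiesOver p := ⟨rfl⟩
    letI := Localization.AtPrime.algebraOfLiesOver p q.asIdeal
    rw [Groth.Agent.KFlatLib.idealDepth_fibLocMod_eq (A := A') q.asIdeal (LinearMap.ker u') J']
    refine le_trans (Groth.Agent.KFlatLib.le_idealDepth_fibMod_atPrime J' p q.asIdeal rfl (LinearMap.ker u') 2 hq2)
      (le_of_eq ?_)
    haveI : IsNoetherianRing (Localization.AtPrime q.asIdeal) :=
      IsLocalization.isNoetherianRing q.asIdeal.primeCompl _ inferInstance
    haveI : Module.Finite (Localization.AtPrime q.asIdeal) (LocalizedModule q.asIdeal.primeCompl (LinearMap.ker u')) :=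
      Module.Finite.of_isLocalizedModule q.asIdeal.primeCompl (LocalizedModule.mkLinearMap _ _)
    exact Groth.Agent.LC.idealDepth_congr _ (Submodule.quotEquivOfEq _ _
      (Groth.Agent.KFlatLib.fibMod_eq p q.asIdeal rfl (LinearMap.ker u')))

end Groth.Agent.S18711
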