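import Groth.Statements.S18712
import Groth.Agent.H1Inf.Main
import Groth.Agent.S18709

set_option autoImplicit false
universe u
open QGor

namespace Groth.Agent.S18712

open TensorProduct in
/-- Infinitesimal criterion, affine-local form. Let R be a Noetherian local ring with maximal ideal m, C
a finitely generated flat R-algebra, y = n a prime of C over m at which the fibre C_n/mC_n satisfies
S₂ (the structure morphism satisfies relative S₂ at y), and F a finite reflexive C-module which is
free at every prime not containing an ideal J such that every fibre local ring C_q/pC_q at primes q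
⊇ J has dimension ≥ 2 (F is locally free in codimension one on each fibre). Suppose that for every
surjective homomorphism R → A′ onto an Artinian local ring and the Noetherian pushout C′ = A′ ⊗_R C,
at every prime q′ of C′ lying over n the double dual (C′ ⊗_C F)^∨∨ is flat over A′ at q′ and its
fibre stalk satisfies S₂. Then F is flat over R at n and the fibre stalk F_n/mF_n satisfies S₂ (F
satisfies relative S₂ at y). Test rings A′ range over the universe of R. -/
theorem result (R C : Type u) [CommRing R] [CommRing C] [IsNoetherianRing R] [IsLocalRing R] [IsNoetherianRing C]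
    [Algebra R C] [Module.Flat R C] (hft : Algebra.FiniteType R C)
    (n : PrimeSpectrum C) (hn : (IsLocalRing.maximalIdeal R).map (algebraMap R C) ≤ n.asIdeal)
    (hS2 : LocCoh.HasSk 2 (EGA4.FibLocRing R C n.asIdeal) (EGA4.FibLocRing R C n.asIdeal))
    (F : Type u) [AddCommGroup F] [Module C F] [Module R F] [IsScalarTower R C F] [Module.Finite C F]
    [Module.IsReflexive C F] (J : Ideal C)
    (hFU : ∀ q : PrimeSpectrum C, ¬ J ≤ q.asIdeal → Module.Free (Localization.AtPrime q.asIdeal) (LocalizedModule q.asIdeal.primeCompl F))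
    (hcodim : ∀ q : PrimeSpectrum C, J ≤ q.asIdeal → (2 : WithBot ℕ∞) ≤ ringKrullDim (EGA4.FibLocRing R C q.asIdeal))
    (hI : ∀ (A' : Type u) [CommRing A'] [IsArtinianRing A'] [IsLocalRing A'] [Algebra R A'],
      Function.Surjective (algebraMap R A') →
      ∀ (C' : Type u) [CommRing C'] [IsNoetherianRing C'] [Algebra C C'] [Algebra A' C'] [Algebra R C']
        [IsScalarTower R C C'] [IsScalarTower R A' C'], Algebra.IsPushout R C A' C' →
        ∀ q' : PrimeSpectrum C', q'.asIdeal.comap (algebraMap C C') = n.asIdeal →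
          FlatCA.FlatAt A' q'.asIdeal (Module.Dual C' (Module.Dual C' (C' ⊗[C] F))) ∧
          LocCoh.HasSk 2 (EGA4.FibLocRing A' C' q'.asIdeal)
            (EGA4.FibLocMod A' C' q'.asIdeal (Module.Dual C' (Module.Dual C' (C' ⊗[C] F))))) :
    FlatCA.FlatAt R n.asIdeal F ∧ LocCoh.HasSk 2 (EGA4.FibLocRing R C n.asIdeal) (EGA4.FibLocMod R C n.asIdeal F) := by
  classical
  obtain ⟨a, b, f, u, hf, hfu, hGU⟩ := Groth.Agent.S18709.result C J F hFU
  let v := (LinearMap.range u).mkQ
  have huv : Function.Exact u v := LinearMap.exact_map_mkQ_range u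
  have hv : Function.Surjective v := Submodule.mkQ_surjective _
  haveI : n.asIdeal.IsPrime := n.2
  suffices hG : FlatCA.FlatAt R n.asIdeal ((Fin b → C) ⧸ LinearMap.range u) by
    haveI : Module.Flat R (Fin a → C) := Module.Flat.trans R C _
    haveI : Module.Flat R (Fin b → C) := Module.Flat.trans R C _
    exact Groth.Agent.H1Inf.relS2_of_flatAt n.asIdeal hn hS2 J hcodim hf hfu huv hv hFU hG
  let L := Localization.AtPrime n.asIdeal
  haveI : IsNoetherianRing L := IsLocalization.isNoetherianRing n.asIdeal.primeCompl _ inferInstance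
  haveI : Module.Finite L (LocalizedModule n.asIdeal.primeCompl ((Fin b → C) ⧸ LinearMap.range u)) :=
    Module.Finite.of_isLocalizedModule n.asIdeal.primeCompl (LocalizedModule.mkLinearMap _ _)
  haveI : IsScalarTower R L (LocalizedModule n.asIdeal.primeCompl ((Fin b → C) ⧸ LinearMap.range u)) :=
    IsScalarTower.of_algebraMap_smul fun r x => by
      rw [IsScalarTower.algebraMap_apply R C L, algebraMap_smul, algebraMap_smul]
  refine Groth.Agent.LocalCrit.flat_of_forall_quotient_pow (B := L) (IsLocalRing.maximalIdeal R) ?_ fun k => ?_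
  · rw [IsLocalRing.jacobson_eq_maximalIdeal _ bot_ne_top, IsScalarTower.algebraMap_eq R C L, ← Ideal.map_map,
      ← Localization.AtPrime.map_eq_maximalIdeal]
    exact Ideal.map_mono hn
  haveI : Module.Flat (R ⧸ IsLocalRing.maximalIdeal R ^ k)
      ((R ⧸ IsLocalRing.maximalIdeal R ^ k) ⊗[R] LocalizedModule n.asIdeal.primeCompl ((Fin b → C) ⧸ LinearMap.range u)) := by
    rcases Nat.eq_zero_or_pos k with rfl | hk
    · haveI : Subsingleton (R ⧸ IsLocalRing.maximalIdeal R ^ 0) :=
        Ideal.Quotient.subsingleton_iff.2 (by rw [pow_zero, Ideal.one_eq_top])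
      haveI := Module.subsingleton (R ⧸ IsLocalRing.maximalIdeal R ^ 0)
        ((R ⧸ IsLocalRing.maximalIdeal R ^ 0) ⊗[R] LocalizedModule n.asIdeal.primeCompl ((Fin b → C) ⧸ LinearMap.range u))
      infer_instance
    let I := IsLocalRing.maximalIdeal R ^ k
    have hI' : I ≤ IsLocalRing.maximalIdeal R := Ideal.pow_le_self hk.ne'
    haveI : Nontrivial (R ⧸ I) :=
      Ideal.Quotient.nontrivial_iff.2 fun h => (IsLocalRing.maximalIdeal.isMaximal R).ne_top (top_le_iff.1 (h ▸ hI'))
    haveI : IsLocalRing (R ⧸ I) := IsLocalRing.of_surjective' _ Ideal.Quotient.mk_surjective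
    haveI : IsArtinianRing (R ⧸ I) := by
      rw [isArtinianRing_iff_isNilpotent_maximalIdeal]
      refine ⟨k, ?_⟩
      rw [← IsLocalRing.map_maximalIdeal_of_surjective (Ideal.Quotient.mk I) Ideal.Quotient.mk_surjective, ← Ideal.map_pow]
      exact Ideal.map_quotient_self I
    letI : Algebra (R ⧸ I) (C ⊗[R] (R ⧸ I)) := Algebra.TensorProduct.rightAlgebra
    haveI : Algebra.IsPushout R C (R ⧸ I) (C ⊗[R] (R ⧸ I)) := inferInstance
    haveI : IsNoetherianRing (C ⊗[R] (R ⧸ I)) :=
      isNoetherianRing_of_ringEquiv _ (Algebra.TensorProduct.quotIdealMapEquivTensorQuot C I).toRingEquiv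
    obtain ⟨q', hq'⟩ := Groth.Agent.H1Inf.exists_prime_reduction n.asIdeal hn I hI'
    have hD := (hI (R ⧸ I) Ideal.Quotient.mk_surjective (C ⊗[R] (R ⧸ I)) inferInstance q' hq').2
    exact Groth.Agent.H1Inf.flat_reduction Ideal.Quotient.mk_surjective n.asIdeal _ q'.asIdeal hq'
      (Groth.Agent.H1Inf.flatAt_coker_test J Ideal.Quotient.mk_surjective n.asIdeal hn hS2 hcodim q'.asIdeal hq'
        hf hfu huv hv hGU hD)
  exact Groth.Agent.LocalCrit.keepsInjective_of_flat _ _

end Groth.Agent.S18712
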