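import Groth.Statements.S18713
import Groth.Agent.H1Inf.Dvr
import Groth.Agent.H1Inf.Descent
import Groth.Agent.S18709

set_option autoImplicit false
universe u
open QGor

namespace Groth.Agent.S18713

open TensorProduct in
/-- Valuative criterion, affine-local form. Let R be a Noetherian local ring with maximal ideal m, C a
finitely generated flat R-algebra, y = n a prime of C over m at which the fibre C_n/mC_n satisfies
S₂ (the structure morphism satisfies relative S₂ at y), and F a finite reflexive C-module which is
free at every prime not containing an ideal J such that every fibre local ring C_q/pC_q at primes q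
⊇ J has dimension ≥ 2 (F is locally free in codimension one on each fibre). Assume R is reduced, and
that for every local homomorphism R → D to a discrete valuation ring and the Noetherian pushout C′ =
D ⊗_R C, at every prime q′ of C′ lying over n and over the closed point of D the double dual (C′ ⊗_C
F)^∨∨ is flat over D at q′ and its fibre stalk satisfies S₂. Then F is flat over R at n and F_n/mF_n
satisfies S₂ (F satisfies relative S₂ at y). Test rings D range over the universe of R. -/
theorem result (R C : Type u) [CommRing R] [CommRing C] [IsNoetherianRing R] [IsLocalRing R] [IsNoetherianRing C]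
    [Algebra R C] [Module.Flat R C] (hft : Algebra.FiniteType R C)
    (n : PrimeSpectrum C) (hn : (IsLocalRing.maximalIdeal R).map (algebraMap R C) ≤ n.asIdeal)
    (hS2 : LocCoh.HasSk 2 (EGA4.FibLocRing R C n.asIdeal) (EGA4.FibLocRing R C n.asIdeal))
    (F : Type u) [AddCommGroup F] [Module C F] [Module R F] [IsScalarTower R C F] [Module.Finite C F]
    [Module.IsReflexive C F] (J : Ideal C)
    (hFU : ∀ q : PrimeSpectrum C, ¬ J ≤ q.asIdeal → Module.Free (Localization.AtPrime q.asIdeal) (LocalizedModule q.asIdeal.primeCompl F))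
    (hcodim : ∀ q : PrimeSpectrum C, J ≤ q.asIdeal → (2 : WithBot ℕ∞) ≤ ringKrullDim (EGA4.FibLocRing R C q.asIdeal)) [IsReduced R]
    (hII : ∀ (D : Type u) [CommRing D] [IsDomain D] [IsDiscreteValuationRing D] [Algebra R D],
      IsLocalHom (algebraMap R D) →
      ∀ (C' : Type u) [CommRing C'] [IsNoetherianRing C'] [Algebra C C'] [Algebra D C'] [Algebra R C']
        [IsScalarTower R C C'] [IsScalarTower R D C'], Algebra.IsPushout R C D C' →
        ∀ q' : PrimeSpectrum C', q'.asIdeal.comap (algebraMap C C') = n.asIdeal →
          (IsLocalRing.maximalIdeal D).map (algebraMap D C') ≤ q'.asIdeal →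
          FlatCA.FlatAt D q'.asIdeal (Module.Dual C' (Module.Dual C' (C' ⊗[C] F))) ∧
          LocCoh.HasSk 2 (EGA4.FibLocRing D C' q'.asIdeal)
            (EGA4.FibLocMod D C' q'.asIdeal (Module.Dual C' (Module.Dual C' (C' ⊗[C] F))))) :
    FlatCA.FlatAt R n.asIdeal F ∧ LocCoh.HasSk 2 (EGA4.FibLocRing R C n.asIdeal) (EGA4.FibLocMod R C n.asIdeal F) := by
  classical
  obtain ⟨a, b, f, u, hf, hfu, hGU⟩ := Groth.Agent.S18709.result C J F hFU
  let v := (LinearMap.range u).mkQ
  have huv : Function.Exact u v := LinearMap.exact_map_mkQ_range u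
  have hv : Function.Surjective v := Submodule.mkQ_surjective _
  haveI : n.asIdeal.IsPrime := n.2
  haveI := hft
  suffices hG : FlatCA.FlatAt R n.asIdeal ((Fin b → C) ⧸ LinearMap.range u) by
    haveI : Module.Flat R (Fin a → C) := Module.Flat.trans R C _
    haveI : Module.Flat R (Fin b → C) := Module.Flat.trans R C _
    exact Groth.Agent.H1Inf.relS2_of_flatAt n.asIdeal hn hS2 J hcodim hf hfu huv hv hFU hG
  let L := Localization.AtPrime n.asIdeal
  haveI : IsNoetherianRing L := IsLocalization.isNoetherianRing n.asIdeal.primeCompl _ inferInstance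
  haveI : Module.Finite L (LocalizedModule n.asIdeal.primeCompl ((Fin b → C) ⧸ LinearMap.range u)) :=
    Module.Finite.of_isLocalizedModule n.asIdeal.primeCompl (LocalizedModule.mkLinearMap _ _)
  haveI : IsScalarTower R L (LocalizedModule n.asIdeal.primeCompl ((Fin b → C) ⧸ LinearMap.range u)) :=
    IsScalarTower.of_algebraMap_smul fun r x => by
      rw [IsScalarTower.algebraMap_apply R C L, algebraMap_smul, algebraMap_smul]
  haveI : Algebra.EssFiniteType R L := Algebra.EssFiniteType.comp R C L
  haveI : IsLocalHom (algebraMap R L) := by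
    refine ((IsLocalRing.local_hom_TFAE (algebraMap R L)).out 0 2).mpr ?_
    rw [IsScalarTower.algebraMap_eq R C L, ← Ideal.map_map, ← Localization.AtPrime.map_eq_maximalIdeal]
    exact Ideal.map_mono hn
  refine Groth.Agent.FlatDvrVC5.flat_of_dvr (S := L) _ ?_
  intro V _ _ _ _ hV P hP hPV hPL
  refine Groth.Agent.H1Inf.flatAway_localized n.asIdeal _ V P hPL fun q' hq' hq'V => ?_
  letI : Algebra C (V ⊗[R] C) := Algebra.TensorProduct.rightAlgebra
  haveI : Algebra.IsPushout R C V (V ⊗[R] C) := Algebra.IsPushout.symm inferInstance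
  haveI : IsNoetherianRing (V ⊗[R] C) := Algebra.FiniteType.isNoetherianRing V _
  haveI : IsLocalHom (algebraMap R V) := hV
  have hqV : (IsLocalRing.maximalIdeal V).map (algebraMap V (V ⊗[R] C)) ≤ q'.asIdeal :=
    Ideal.map_le_iff_le_comap.2 (hq'V.trans hPV).ge
  have hD := (hII V hV (V ⊗[R] C) inferInstance q' hq' hqV).2
  exact Groth.Agent.H1Inf.flatAt_coker_dvr J n.asIdeal hn hS2 hcodim q'.asIdeal hq' hf hfu huv hv hGU hqV hD

end Groth.Agent.S18713
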