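import Groth.Statements.S18715
import Groth.Agent.H1Open.Criteria
import Groth.Agent.S1716

set_option autoImplicit false
universe u
open CategoryTheory
attribute [local instance] HasDerivedCategory.standard
open QGor

namespace Groth.Agent.S18715

theorem nonempty_of_mem_closure' {α : Type u} [TopologicalSpace α] {s : Set α} {a : α} (h : a ∈ closure s) : s.Nonempty :=
  closure_nonempty_iff.1 ⟨a, h⟩

/-- Affine form. Let A be a Noetherian ring with a dualizing complex ω and M a finite A-module. For
every k ≥ 1 the S_k-locus {p : M_p satisfies (S_k) over A_p} is open in Spec A. (The Cohen–Macaulay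
and Gorenstein loci, also treated there, are separate known statements.) -/
theorem result (A : Type u) [CommRing A] [IsNoetherianRing A]
    (ω : Dual.D A) (hω : Dual.IsDualizing A ω) (M : Type u) [AddCommGroup M] [Module A M] [Module.Finite A M]
    (k : ℕ) (hk : 1 ≤ k) :
    IsOpen {p : PrimeSpectrum A | EGA4.HasSkAt k A M p.asIdeal} := by
  refine H1Open.isOpen_hasSkAt (n := k) (fun p _ => ?_) M
  obtain ⟨hU, hdense⟩ := S1716.result A ⟨ω, hω⟩ (A ⧸ p)
  let P : PrimeSpectrum A := ⟨p, inferInstance⟩
  have hP : P ∈ Module.support A (A ⧸ p) := H1Open.mem_support_quot (p := p) le_rfl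
  obtain ⟨r, ⟨hr, hrs⟩⟩ := nonempty_of_mem_closure' (hdense hP)
  have hpr : P ≤ r := H1Open.le_of_mem_support_quot hrs
  have hPU : P ∈ {q : PrimeSpectrum A | Subsingleton (LocalizedModule q.asIdeal.primeCompl (A ⧸ p)) ∨
      LocCoh.IsCohenMacaulayModule (Localization.AtPrime q.asIdeal) (LocalizedModule q.asIdeal.primeCompl (A ⧸ p))} :=
    hU.stableUnderGeneralization ((PrimeSpectrum.le_iff_specializes P r).1 hpr) (Or.inr hr)
  obtain ⟨_, ⟨f, rfl⟩, hfP, hfU⟩ := PrimeSpectrum.isTopologicalBasis_basic_opens.exists_subset_of_mem_open hPU hU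
  refine ⟨f, hfP, fun q hq hfq hpq => ?_⟩
  rcases hfU (show (⟨q, hq⟩ : PrimeSpectrum A) ∈ PrimeSpectrum.basicOpen f from hfq) with hs | hcm
  · haveI : Subsingleton (LocalizedModule q.primeCompl (A ⧸ p)) := hs
    rw [H1Open.dep_top]
    exact le_top
  · refine (min_le_right _ _).trans ?_
    have h1 : H1Open.dm q (A ⧸ p) = (H1Open.dep q (A ⧸ p) : WithBot ℕ∞) := hcm
    rw [H1Open.cod, h1]
    rfl

end Groth.Agent.S18715
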