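import Groth.Statements.S18717
import Groth.Agent.PerfGen7.LocalizeDual
import Groth.Agent.S0366
import Groth.Agent.S0367
import Groth.Agent.S0374
import Groth.Agent.H1FiniteInv.Basic
import Groth.Agent.LC.DepthExt

set_option autoImplicit false
universe u
open CategoryTheory
attribute [local instance] HasDerivedCategory.standard
open QGor

namespace Groth.Agent.S18717

attribute [local instance] HasDerivedCategory.standard

open Groth.Agent.KFlatLib in
lemma amplitude {A : Type u} [CommRing A] [IsNoetherianRing A] [IsLocalRing A] {ω : Dual.D A} (hω : Dual.IsDualizing A ω)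
    {n : PrimeSpectrum A → ℤ} (hdeg : IsExtDegree ω n) (M : Type u) [AddCommGroup M] [Module A M] [Module.Finite A M]
    (p : PrimeSpectrum A) (j : ℤ) (hp : p ∈ Module.support A (Dual.inD A M ⟶ ω⟦j⟧)) (D : ℕ)
    (hD : Module.supportDim (Localization.AtPrime p.asIdeal) (LocalizedModule p.asIdeal.primeCompl M) = D) :
    n p - j ≤ D ∧ 0 ≤ n p - j := by
  obtain ⟨ω', h1, h2, h3⟩ := PerfGen7.LocalizeDual.exists_local hω hdeg p
  haveI : Module.Finite (Localization.AtPrime p.asIdeal) (LocalizedModule p.asIdeal.primeCompl M) :=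
    Module.Finite.of_isLocalizedModule p.asIdeal.primeCompl (LocalizedModule.mkLinearMap _ M)
  obtain ⟨e⟩ := h3 M (j - n p)
  have hnt : Nontrivial (Dual.inD (Localization.AtPrime p.asIdeal) (LocalizedModule p.asIdeal.primeCompl M) ⟶ ω'⟦j - n p⟧) := by
    rw [e.toEquiv.nontrivial_congr, show n p + (j - n p) = j by omega]
    exact Module.mem_support_iff.1 hp
  have := (S0366.result _ ω' h1 h2 (LocalizedModule p.asIdeal.primeCompl M) D hD (j - n p)).1 hnt
  omega

open Groth.Agent.KFlatLib in
lemma depth_spec {A : Type u} [CommRing A] [IsNoetherianRing A] [IsLocalRing A] {ω : Dual.D A} (hω : Dual.IsDualizing A ω)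
    {n : PrimeSpectrum A → ℤ} (hdeg : IsExtDegree ω n) (M : Type u) [AddCommGroup M] [Module A M] [Module.Finite A M]
    (p : PrimeSpectrum A) (hp : p ∈ Module.support A M) :
    ∃ dep : ℕ, LocCoh.depth (Localization.AtPrime p.asIdeal) (LocalizedModule p.asIdeal.primeCompl M) = dep ∧
      (∀ t : ℕ, t < dep → p ∉ Module.support A (Dual.inD A M ⟶ ω⟦n p - t⟧)) ∧
      p ∈ Module.support A (Dual.inD A M ⟶ ω⟦n p - dep⟧) := by
  obtain ⟨ω', h1, h2, h3⟩ := PerfGen7.LocalizeDual.exists_local hω hdeg p
  haveI : Module.Finite (Localization.AtPrime p.asIdeal) (LocalizedModule p.asIdeal.primeCompl M) :=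
    Module.Finite.of_isLocalizedModule p.asIdeal.primeCompl (LocalizedModule.mkLinearMap _ M)
  haveI : Nontrivial (LocalizedModule p.asIdeal.primeCompl M) := Module.mem_support_iff.1 hp
  obtain ⟨dep, hdep⟩ := LC.exists_depth_eq_nat (R := Localization.AtPrime p.asIdeal) (LocalizedModule p.asIdeal.primeCompl M)
  obtain ⟨hlow, hnt⟩ := (S0367.result _ ω' h1 h2 (LocalizedModule p.asIdeal.primeCompl M) dep).1 hdep
  refine ⟨dep, hdep, fun t ht hmem => ?_, ?_⟩
  · obtain ⟨e⟩ := h3 M (-(t : ℤ))
    haveI := hlow t ht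
    haveI := e.symm.toEquiv.subsingleton
    rw [show n p + -(t : ℤ) = n p - t by omega] at *
    exact Module.notMem_support_iff.2 ‹_› hmem
  · obtain ⟨e⟩ := h3 M (-(dep : ℤ))
    rw [Module.mem_support_iff, show n p - (dep : ℤ) = n p + -(dep : ℤ) by omega, ← e.toEquiv.nontrivial_congr]
    exact hnt

lemma supportDim_loc_eq {A : Type u} [CommRing A] [IsNoetherianRing A] [IsLocalRing A] {n : PrimeSpectrum A → ℤ}
    (hcov : ∀ p q : PrimeSpectrum A, p ⋖ q → n q = n p + 1) (hmono : StrictMono n)
    (h0 : n (IsLocalRing.closedPoint A) = 0) (M : Type u) [AddCommGroup M] [Module A M] [Module.Finite A M]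
    (hM : EGA4.IsEquidimModule A M) (δ : ℕ) (hδ : Module.supportDim A M = δ) (p : PrimeSpectrum A)
    (hp : p ∈ Module.support A M) :
    Module.supportDim (Localization.AtPrime p.asIdeal) (LocalizedModule p.asIdeal.primeCompl M) =
      (((n p + δ).toNat : ℕ) : WithBot ℕ∞) ∧ 0 ≤ n p + δ := by
  have hbelow : ∀ t ∈ Module.support A M, ∃ t₀ ∈ Module.support A M, t₀ ≤ t ∧ n t₀ = -(δ : ℤ) := by
    intro t ht
    obtain ⟨q, hq, hqt⟩ := Ideal.exists_minimalPrimes_le (Module.mem_support_iff_of_finite.1 ht)
    obtain ⟨e, he1, he2⟩ := Groth.Agent.KFlatLib.ringKrullDim_quotient_eq hcov hmono ⟨q, hq.1.1⟩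
    have h := hM q hq
    rw [hδ] at h
    have : e = δ := by exact_mod_cast he1.symm.trans h
    refine ⟨⟨q, hq.1.1⟩, Module.mem_support_iff_of_finite.2 hq.1.2, hqt, ?_⟩
    omega
  obtain ⟨t₀, ht₀, ht₀p, hn₀⟩ := hbelow p hp
  have hpos : 0 ≤ n p + δ := by have := hmono.monotone ht₀p; omega
  refine ⟨?_, hpos⟩
  rw [H1FiniteInv.supportDim_localized M p]
  refine le_antisymm (iSup_le fun l => ?_) ?_
  · have hchain : ∀ (i : ℕ) (hi : i < l.length + 1), n (l.head).1 + i ≤ n (l ⟨i, hi⟩).1 := by
      intro i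
      induction i with
      | zero => intro hi; simp [RelSeries.head]
      | succ i ih =>
        intro hi
        have h2 := ih (by omega)
        have h3 := hmono (show (l ⟨i, by omega⟩).1 < (l ⟨i + 1, hi⟩).1 from l.step ⟨i, by omega⟩)
        push_cast
        omega
    obtain ⟨u, -, hu, hnu⟩ := hbelow l.head.1 l.head.2.2
    have h4 := hchain l.length (by omega)
    have h5 := hmono.monotone hu
    have h6 := hmono.monotone (l ⟨l.length, by omega⟩).2.1
    exact_mod_cast (show l.length ≤ (n p + δ).toNat by omega)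
  · obtain ⟨l, hl1, hl2, hl3⟩ := Groth.Agent.KFlatLib.exists_chain_of_le hcov _ p rfl t₀ ht₀p
    have : l.length = (n p + δ).toNat := by omega
    rw [← this]
    exact le_iSup_of_le (⟨l.length, fun i => ⟨l i, hl2 ▸ l.monotone (Fin.le_last i),
      Module.mem_support_mono (hl1.trans (l.monotone (Fin.zero_le i))) ht₀⟩, fun i => l.step i⟩ :
      LTSeries ↥{t : PrimeSpectrum A | t ≤ p ∧ t ∈ Module.support A M}) le_rfl

/-- Affine-local form with a normalized dualizing complex (so the codimension function vanishes at the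
closed point). Let A be a Noetherian local ring with normalized dualizing complex ω, M a nonzero
finite A-module which is equidimensional of dimension δ, E^j = Ext^j(M, ω) the A-module of morphisms
M → ω[j] in D(A), and k ≥ 1. Then M satisfies (S_k) if and only if dim Supp E^j ≤ −j − k for every
integer j ≠ −δ, where for −j − k < 0 this means E^j = 0. -/
theorem result (A : Type u) [CommRing A] [IsNoetherianRing A]
    [IsLocalRing A] (ω : Dual.D A) (hω : Dual.IsDualizing A ω) (hn : Dual.IsNormalized A ω)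
    (M : Type u) [AddCommGroup M] [Module A M] [Module.Finite A M] [Nontrivial M]
    (hM : EGA4.IsEquidimModule A M) (δ : ℕ) (hδ : Module.supportDim A M = δ) (k : ℕ) (hk : 1 ≤ k) :
    LocCoh.HasSk k A M ↔
      ∀ j : ℤ, j ≠ -(δ : ℤ) →
        (-j - (k : ℤ) < 0 → Subsingleton (Dual.inD A M ⟶ ω⟦j⟧)) ∧
        (0 ≤ -j - (k : ℤ) → Module.supportDim A (Dual.inD A M ⟶ ω⟦j⟧) ≤ ((-j - (k : ℤ)).toNat : WithBot ℕ∞)) := by
  obtain ⟨n, hdeg, hcov, hmono, -⟩ := Groth.Agent.KFlatLib.exists_extDegree hω
  obtain ⟨a, b, -, _, _⟩ := Groth.Agent.KFlatLib.exists_bounds_of_isDualizing hω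
  have hfin := hω.finite_cohomology
  have h0 : n (IsLocalRing.closedPoint A) = 0 := Groth.Agent.KFlatLib.extDegree_closedPoint hn hdeg
  have hle0 : ∀ t : PrimeSpectrum A, n t ≤ 0 := fun t =>
    h0 ▸ hmono.monotone (show t ≤ IsLocalRing.closedPoint A from IsLocalRing.le_maximalIdeal t.isPrime.ne_top)
  have hdimloc : ∀ p ∈ Module.support A M,
      Module.supportDim (Localization.AtPrime p.asIdeal) (LocalizedModule p.asIdeal.primeCompl M) =
        (((n p + δ).toNat : ℕ) : WithBot ℕ∞) ∧ 0 ≤ n p + δ := fun p hp =>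
    supportDim_loc_eq hcov hmono h0 M hM δ hδ p hp
  have hsk : LocCoh.HasSk k A M ↔ ∀ (p : PrimeSpectrum A), p ∈ Module.support A M → ∀ t : ℕ, (t : ℤ) < k →
      (t : ℤ) < n p + δ → p ∉ Module.support A (Dual.inD A M ⟶ ω⟦n p - t⟧) := by
    constructor
    · intro h p hp t htk htd
      obtain ⟨e1, e2⟩ := hdimloc p hp
      obtain ⟨dep, hdep, hlow, -⟩ := depth_spec hω hdeg M p hp
      have h1 := h p.asIdeal
      rw [e1, hdep] at h1
      have h2 : min k (n p + δ).toNat ≤ dep := by
        have h1' : min ((k : ℕ∞) : WithBot ℕ∞) (((n p + δ).toNat : ℕ∞) : WithBot ℕ∞) ≤ ((dep : ℕ∞) : WithBot ℕ∞) := h1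
        rcases le_total k (n p + δ).toNat with hc | hc
        · rw [min_eq_left (by exact_mod_cast hc)] at h1'
          rw [min_eq_left hc]; exact_mod_cast h1'
        · rw [min_eq_right (by exact_mod_cast hc)] at h1'
          rw [min_eq_right hc]; exact_mod_cast h1'
      exact hlow t (by omega)
    · intro h p hp
      let P : PrimeSpectrum A := ⟨p, hp⟩
      by_cases hP : P ∈ Module.support A M
      swap
      · rw [Module.notMem_support_iff] at hP
        haveI : Subsingleton (LocalizedModule p.primeCompl M) := hP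
        rw [Module.supportDim_eq_bot_of_subsingleton]
        exact (min_le_right _ _).trans bot_le
      obtain ⟨e1, e2⟩ := hdimloc P hP
      obtain ⟨dep, hdep, -, hnt⟩ := depth_spec hω hdeg M P hP
      show min _ (Module.supportDim (Localization.AtPrime P.asIdeal) (LocalizedModule P.asIdeal.primeCompl M)) ≤ _
      rw [e1, hdep]
      by_contra hlt
      rw [not_le, lt_min_iff] at hlt
      obtain ⟨hk', hd'⟩ := hlt
      have hk'' : dep < k := by exact_mod_cast hk'
      have hd'' : dep < (n P + δ).toNat := by exact_mod_cast hd'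
      exact h P hP dep (by omega) (by omega) hnt
  rw [hsk]
  constructor
  · intro h j hj
    have key : ∀ p ∈ Module.support A (Dual.inD A M ⟶ ω⟦j⟧), -n p ≤ -j - k := by
      intro p hp
      have hpM := Groth.Agent.KFlatLib.support_hom_subset M (ω⟦j⟧) hp
      have h1 := Groth.Agent.KFlatLib.le_extDegree_of_mem_support hdeg a hfin M j hp
      obtain ⟨e1, e2⟩ := hdimloc p hpM
      have h2 := amplitude hω hdeg M p j hp _ e1
      by_contra hcon
      have := h p hpM (n p - j).toNat (by omega) (by omega)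
      rw [show n p - ((n p - j).toNat : ℤ) = j by omega] at this
      exact this hp
    refine ⟨fun hneg => ?_, fun hnn => ?_⟩
    · rw [← Module.support_eq_empty_iff (R := A)]
      refine Set.eq_empty_of_forall_notMem fun p hp => ?_
      have := key p hp
      have := hle0 p
      omega
    · refine iSup_le fun l => ?_
      have hchain : ∀ (i : ℕ) (hi : i < l.length + 1), n (l.head).1 + i ≤ n (l ⟨i, hi⟩).1 := by
        intro i
        induction i with
        | zero => intro hi; simp [RelSeries.head]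
        | succ i ih =>
          intro hi
          have h2 := ih (by omega)
          have h3 := hmono (show (l ⟨i, by omega⟩).1 < (l ⟨i + 1, hi⟩).1 from l.step ⟨i, by omega⟩)
          push_cast
          omega
      have h4 := hchain l.length (by omega)
      have h5 := hle0 (l ⟨l.length, by omega⟩).1
      have h6 := key _ l.head.2
      exact_mod_cast (show l.length ≤ (-j - (k : ℤ)).toNat by omega)
  · intro h p hp t htk htd hmem
    obtain ⟨hA, hB⟩ := h (n p - t) (by omega)
    by_cases hneg : -(n p - (t : ℤ)) - k < 0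
    · haveI := hA hneg
      rw [Module.support_eq_empty] at hmem
      exact hmem
    · have h1 := hB (by omega)
      obtain ⟨l, hl1, hl2, hl3⟩ := Groth.Agent.KFlatLib.exists_chain_of_le hcov _ (IsLocalRing.closedPoint A) rfl p
        (IsLocalRing.le_maximalIdeal p.isPrime.ne_top)
      have h2 : ((l.length : ℕ∞) : WithBot ℕ∞) ≤ ((-(n p - (t : ℤ)) - k).toNat : WithBot ℕ∞) := by
        refine le_trans ?_ h1
        exact le_iSup_of_le (⟨l.length, fun i => ⟨l i, Module.mem_support_mono
          (hl1.trans (l.monotone (Fin.zero_le i))) hmem⟩, fun i => l.step i⟩ :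
          LTSeries ↥(Module.support A (Dual.inD A M ⟶ ω⟦n p - (t : ℤ)⟧))) le_rfl
      have h3 : l.length ≤ (-(n p - (t : ℤ)) - k).toNat := by exact_mod_cast h2
      omega

end Groth.Agent.S18717
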