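import Groth.Statements.S18721
import Groth.Agent.H1SkDual.Basic
import Groth.Agent.KFlatLib.Ring.DualizingExt

set_option autoImplicit false
universe u
open CategoryTheory
attribute [local instance] HasDerivedCategory.standard
open QGor

namespace Groth.Agent.S18721

/-- Affine form. Let k be a field and A a finitely generated k-algebra, equidimensional of Krull
dimension n, and let ω be a dualizing complex of A normalized at every maximal ideal m (no nonzero
morphisms A/m → ω[i] in D(A) for i ≠ 0 — the canonical dualizing complex of Spec A over k). Put Z_i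
= Supp H^{-i}(ω). Then H^{-i}(ω) = 0 for every i > n, and for every k′ ≥ 1: A satisfies (S_{k′}) if
and only if dim Z_i ≤ i − k′ for all i ≠ n, where for i < k′ this means H^{-i}(ω) = 0. -/
theorem result (k A : Type u) [Field k] [CommRing A]
    [Algebra k A] (hft : Algebra.FiniteType k A) [IsNoetherianRing A]
    (hEq : EGA4.IsEquidim A) (n : ℕ) (hd : ringKrullDim A = n)
    (ω : Dual.D A) (hω : Dual.IsDualizing A ω)
    (hnorm : ∀ (m : Ideal A) (_ : m.IsMaximal) (i : ℤ), i ≠ 0 → Subsingleton (Dual.inD A (A ⧸ m) ⟶ ω⟦i⟧)) :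
    (∀ i : ℕ, n < i → Subsingleton (Dual.HD A ω (-(i : ℤ)))) ∧
    ∀ k' : ℕ, 1 ≤ k' →
      (LocCoh.HasSk k' A A ↔
        ∀ i : ℕ, i ≠ n →
          (i < k' → Subsingleton (Dual.HD A ω (-(i : ℤ)))) ∧
          (k' ≤ i → Module.supportDim A (Dual.HD A ω (-(i : ℤ))) ≤ ((i - k' : ℕ) : WithBot ℕ∞))) := by
  open Groth.Agent.KFlatLib in
  obtain ⟨ν, hdeg, hcov, hmono, -⟩ := exists_extDegree hω
  obtain ⟨a, b, -, _, _⟩ := Groth.Agent.KFlatLib.exists_bounds_of_isDualizing hω
  have hfin := hω.finite_cohomology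
  have hmax0 : ∀ p : PrimeSpectrum A, p.asIdeal.IsMaximal → ν p = 0 := fun p hp => by
    by_contra hne
    haveI := hnorm p.asIdeal hp (ν p) hne
    haveI := (hdeg p (ν p)).2 rfl
    exact not_subsingleton (LocalizedModule p.asIdeal.primeCompl (Dual.inD A (A ⧸ p.asIdeal) ⟶ ω⟦ν p⟧)) inferInstance
  have htop : ∀ p : PrimeSpectrum A, ∃ m, p ≤ m ∧ ν m = 0 := fun p => by
    obtain ⟨M, hM, hle⟩ := p.asIdeal.exists_le_maximal p.isPrime.ne_top
    exact ⟨⟨M, hM.isPrime⟩, hle, hmax0 _ hM⟩
  have hle0 : ∀ p, ν p ≤ 0 := fun p => by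
    obtain ⟨m, h1, h2⟩ := htop p
    exact h2 ▸ hmono.monotone h1
  have hgrow : ∀ (s : LTSeries (PrimeSpectrum A)) (i : ℕ) (hi : i < s.length + 1), ν s.head + i ≤ ν (s ⟨i, hi⟩) := by
    intro s i
    induction i with
    | zero => intro hi; simp [RelSeries.head]
    | succ i ih =>
      intro hi
      have h2 := ih (by omega)
      have h3 := hmono (show s ⟨i, by omega⟩ < s ⟨i + 1, hi⟩ from s.step ⟨i, by omega⟩)
      push_cast
      omega
  have hco : ∀ p : PrimeSpectrum A, Order.coheight p = ((-ν p).toNat : ℕ∞) := fun p => by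
    refine le_antisymm (Order.coheight_le fun s hs => ?_) ?_
    · have h1 := hgrow s s.length (by omega)
      have h2 := hle0 (s ⟨s.length, by omega⟩)
      have h3 : ν s.head = ν p := congrArg ν hs
      exact_mod_cast (show s.length ≤ (-ν p).toNat by omega)
    · obtain ⟨m, h1, h2⟩ := htop p
      obtain ⟨l, hl1, hl2, hl3⟩ := Groth.Agent.KFlatLib.exists_chain_of_le hcov _ m rfl p h1
      refine le_trans (le_of_eq ?_) (Order.length_le_coheight (p := l) hl1)
      exact_mod_cast (show (-ν p).toNat = l.length by omega)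
  have hmin : ∀ p : PrimeSpectrum A, ∃ q, q ≤ p ∧ ν q = -(n : ℤ) := fun p => by
    obtain ⟨q, hq, hqp⟩ := Ideal.exists_minimalPrimes_le (bot_le : (⊥ : Ideal A) ≤ p.asIdeal)
    refine ⟨⟨q, hq.1.1⟩, hqp, ?_⟩
    have h1 := hEq q hq
    rw [hd, ← Groth.Agent.LC.coheight_eq_ringKrullDim_quotient ⟨q, hq.1.1⟩, hco] at h1
    have h2 : (-ν ⟨q, hq.1.1⟩).toNat = n := by exact_mod_cast h1
    have := hle0 ⟨q, hq.1.1⟩
    omega
  have hlow : ∀ p, -(n : ℤ) ≤ ν p := fun p => by
    obtain ⟨q, h1, h2⟩ := hmin p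
    exact h2 ▸ hmono.monotone h1
  have hloc : ∀ p : PrimeSpectrum A,
      Module.supportDim (Localization.AtPrime p.asIdeal) (LocalizedModule p.asIdeal.primeCompl A) =
        (((n + ν p).toNat : ℕ) : WithBot ℕ∞) := fun p => by
    rw [Module.supportDim_eq_of_equiv (Groth.Agent.LC.selfLoc p.asIdeal.primeCompl),
      Module.supportDim_self_eq_ringKrullDim, IsLocalization.AtPrime.ringKrullDim_eq_height p.asIdeal,
      PrimeSpectrum.height_eq_orderHeight]
    show ((Order.height p : ℕ∞) : WithBot ℕ∞) = _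
    obtain ⟨q, hqp, hq⟩ := hmin p
    refine congrArg WithBot.some (le_antisymm (Order.height_le fun s hs => ?_) ?_)
    · have h1 := hgrow s s.length (by omega)
      have h2 : ν (s ⟨s.length, by omega⟩) = ν p := congrArg ν hs
      have h3 := hlow s.head
      exact_mod_cast (show s.length ≤ (n + ν p).toNat by omega)
    · obtain ⟨l, hl1, hl2, hl3⟩ := Groth.Agent.KFlatLib.exists_chain_of_le hcov _ p rfl q hqp
      refine le_trans (le_of_eq ?_) (Order.length_le_height (p := l) hl2.le)
      exact_mod_cast (show (n + ν p).toNat = l.length by omega)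
  have hs : ∀ j : ℤ, Module.support A (Dual.inD A A ⟶ ω⟦j⟧) = Module.support A (Dual.HD A ω j) := fun j => by
    obtain ⟨e⟩ := Groth.Agent.KFlatLib.exists_homRingLEquiv ω j
    exact e.support_eq
  have hamp : ∀ (p : PrimeSpectrum A) (j : ℤ), p ∈ Module.support A (Dual.HD A ω j) → -(n : ℤ) ≤ j ∧ j ≤ ν p := by
    intro p j hp
    rw [← hs] at hp
    refine ⟨?_, Groth.Agent.KFlatLib.le_extDegree_of_mem_support hdeg a hfin A j hp⟩
    obtain ⟨ω', h1, h2, h3⟩ := Groth.Agent.PerfGen7.LocalizeDual.exists_local hω hdeg p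
    haveI : Module.Finite (Localization.AtPrime p.asIdeal) (LocalizedModule p.asIdeal.primeCompl A) :=
      Module.Finite.of_isLocalizedModule p.asIdeal.primeCompl (LocalizedModule.mkLinearMap _ A)
    obtain ⟨c⟩ := h3 A (j - ν p)
    rw [show ν p + (j - ν p) = j by omega] at c
    have := ((Groth.Agent.KFlatLib.ext_amplitude_and_support h1 h2 _ _ (hloc p) (j - ν p)).1
      (c.toEquiv.nontrivial_congr.2 (Module.mem_support_iff.1 hp))).1
    have := hlow p
    omega
  have htopmem : ∀ p : PrimeSpectrum A, p ∈ Module.support A (Dual.inD A A ⟶ ω⟦-(n : ℤ)⟧) := fun p => by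
    obtain ⟨ω', h1, h2, h3⟩ := Groth.Agent.PerfGen7.LocalizeDual.exists_local hω hdeg p
    haveI : Module.Finite (Localization.AtPrime p.asIdeal) (LocalizedModule p.asIdeal.primeCompl A) :=
      Module.Finite.of_isLocalizedModule p.asIdeal.primeCompl (LocalizedModule.mkLinearMap _ A)
    have := hlow p
    obtain ⟨c⟩ := h3 A (-(((n + ν p).toNat : ℕ) : ℤ))
    rw [show ν p + -(((n + ν p).toNat : ℕ) : ℤ) = -(n : ℤ) by omega] at c
    exact Module.mem_support_iff.2
      (c.toEquiv.nontrivial_congr.1 (Groth.Agent.H1SkDual.top_nontrivial h1 h2 _ _ (hloc p)))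
  refine ⟨fun i hi => (Module.support_eq_empty_iff (R := A)).1 (Set.eq_empty_of_forall_notMem fun p hp => ?_), fun k hk => ?_⟩
  · have := (hamp p _ hp).1
    omega
  rw [Groth.Agent.H1SkDual.hasSk_iff ω hω A k hk]
  constructor
  · intro H i hi
    have key : ∀ p ∈ Module.support A (Dual.HD A ω (-(i : ℤ))), -ν p ≤ (i : ℤ) - k := fun p hp => by
      have h1 := (hamp p _ hp).1
      have := H (-(i : ℤ)) (-(n : ℤ)) (by omega) p (by rwa [hs]) (htopmem p)
      rw [hloc p] at this
      have h' := Nat.cast_le.1 this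
      have := hlow p
      omega
    refine ⟨fun hlt => (Module.support_eq_empty_iff (R := A)).1 (Set.eq_empty_of_forall_notMem fun p hp => ?_), fun hle => ?_⟩
    · have := key p hp
      have := hle0 p
      omega
    · refine iSup_le fun l => ?_
      have h1 := hgrow (l.map Subtype.val fun _ _ h => h) l.length (by simp)
      have h2 := hle0 ((l.map Subtype.val fun _ _ h => h) ⟨l.length, by simp⟩)
      have h3 := key _ l.head.2
      have h4 : ν (l.map Subtype.val fun _ _ h => h).head = ν l.head.1 := rfl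
      exact_mod_cast (show l.length ≤ i - k by omega)
  · intro H i j hij p hp hq
    rw [hs] at hp hq
    rw [hloc p]
    obtain ⟨hi1, hi2⟩ := hamp p i hp
    obtain ⟨hj1, -⟩ := hamp p j hq
    have := hle0 p
    obtain ⟨i', rfl⟩ : ∃ i' : ℕ, i = -(i' : ℤ) := ⟨(-i).toNat, by omega⟩
    obtain ⟨hA, hB⟩ := H i' (by omega)
    by_cases hik : i' < k
    · haveI := hA hik
      exact absurd (Module.mem_support_iff.1 hp) (not_nontrivial_iff_subsingleton.2 inferInstance)
    · have h4 := (Groth.Agent.LC.coheight_le_supportDim hp).trans (hB (by omega))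
      rw [hco p] at h4
      have h5 : (-ν p).toNat ≤ i' - k := Nat.cast_le.1 (WithBot.coe_le_coe.1 h4)
      exact Nat.cast_le.2 (by omega)

end Groth.Agent.S18721
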