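import Groth.Statements.S18723
import Groth.Agent.H1OrdDual.Basic
import Groth.Agent.KFlatLib.Ring.ReflexiveDepth
import Groth.Agent.S18699
import Mathlib.LinearAlgebra.TensorPower.Basic
import Mathlib.LinearAlgebra.PiTensorProduct.Finite

set_option autoImplicit false
universe u
open CategoryTheory
attribute [local instance] HasDerivedCategory.standard
open QGor

namespace Groth.Agent.S18723

open Groth.Agent.KFlatLib in
/-- Duals over an `S₂` ring are `S₂`, with depth two wherever the ring has it. -/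
lemma dual_two {A : Type u} [CommRing A] [IsNoetherianRing A] (hA : LocCoh.HasSk 2 A A) (I : Ideal A)
    (hI : 2 ≤ LocCoh.idealDepth I A) (T : Type u) [AddCommGroup T] [Module A T] [Module.Finite A T] :
    LocCoh.HasSk 2 A (Module.Dual A (Module.Dual A T)) ∧
      2 ≤ LocCoh.idealDepth I (Module.Dual A (Module.Dual A T)) := by
  let G := Module.Dual A T
  obtain ⟨n, g, hg⟩ := Module.Finite.exists_fin' A G
  obtain ⟨m, k, hk⟩ := Module.Finite.exists_fin' A (LinearMap.ker g)
  let h' : (Fin (m + 1) → A) →ₗ[A] (Fin n → A) :=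
    (LinearMap.ker g).subtype ∘ₗ k ∘ₗ LinearMap.funLeft A A Fin.castSucc
  let e0 : Module.Dual A (Fin n → A) ≃ₗ[A] (Fin n → A) := (Pi.basisFun A (Fin n)).toDualEquiv.symm
  let e1 : Module.Dual A (Fin (m + 1) → A) ≃ₗ[A] (Fin (m + 1) → A) := (Pi.basisFun A (Fin (m + 1))).toDualEquiv.symm
  let a : Module.Dual A G →ₗ[A] (Fin n → A) := e0.toLinearMap ∘ₗ g.dualMap
  let b : (Fin n → A) →ₗ[A] (Fin (m + 1) → A) := e1.toLinearMap ∘ₗ h'.dualMap ∘ₗ e0.symm.toLinearMap
  have ha : Function.Injective a := e0.injective.comp (LinearMap.dualMap_injective_of_surjective hg)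
  have hr : LinearMap.range h' = LinearMap.ker g := by
    rw [LinearMap.range_comp, (LinearMap.range_eq_top (f := k ∘ₗ LinearMap.funLeft A A Fin.castSucc)).2
      (hk.comp (LinearMap.funLeft_surjective_of_injective A A Fin.castSucc (Fin.castSucc_injective m))), Submodule.map_top,
      Submodule.range_subtype]
  have hab : Function.Exact a b := fun x => by
    constructor
    · intro hx
      have h2 : h'.dualMap (e0.symm x) = 0 := e1.injective (by rw [map_zero]; exact hx)
      have h3 : LinearMap.ker g ≤ LinearMap.ker (e0.symm x) := by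
        rw [← hr]; rintro _ ⟨z, rfl⟩; exact LinearMap.congr_fun h2 z
      let φ : Module.Dual A G :=
        (Submodule.liftQ _ (e0.symm x) h3) ∘ₗ (LinearMap.quotKerEquivOfSurjective g hg).symm.toLinearMap
      refine ⟨φ, ?_⟩
      have : g.dualMap φ = e0.symm x := LinearMap.ext fun z => by
        show (Submodule.liftQ _ (e0.symm x) h3) ((LinearMap.quotKerEquivOfSurjective g hg).symm (g z)) = _
        rw [show (LinearMap.quotKerEquivOfSurjective g hg).symm (g z) = Submodule.Quotient.mk z from
          (LinearEquiv.symm_apply_eq _).2 (by simp)]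
        rfl
      show e0 (g.dualMap φ) = x
      rw [this, LinearEquiv.apply_symm_apply]
    · rintro ⟨z, rfl⟩
      show e1 (h'.dualMap (e0.symm (e0 (g.dualMap z)))) = 0
      rw [LinearEquiv.symm_apply_apply, LinearEquiv.map_eq_zero_iff]
      refine LinearMap.ext fun w => ?_
      have hw : h' w ∈ LinearMap.ker g := hr ▸ LinearMap.mem_range_self h' w
      show z (g (h' w)) = 0
      rw [LinearMap.mem_ker.1 hw, map_zero]
  have hsupp : Module.support A (Module.Dual A G) ⊆ Module.support A (Fin (m + 1) → A) := fun q _ =>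
    Module.mem_support_iff'.2 ⟨1, fun r hr h0 => hr (by
      have h1 : r * 1 = 0 := congrFun h0 0
      rw [mul_one] at h1; rw [h1]; exact q.asIdeal.zero_mem)⟩
  have h1 : LocCoh.HasSk 1 A A := fun p hp =>
    haveI := hp
    (min_le_min (Nat.cast_le.2 one_le_two) le_rfl).trans (hA p)
  refine ⟨hasSk_two_of_exact a b ha hab hsupp (hasSk_pi 1 h1 _) (hasSk_pi 2 hA n),
    two_le_idealDepth_of_exact I a b ha hab ?_ ?_⟩
  · rw [← Nat.cast_ofNat (R := ℕ∞) (n := 2)] at hI ⊢
    exact le_idealDepth_pi I 2 hI n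
  · rw [← Nat.cast_one]
    exact le_idealDepth_pi I 1 ((Nat.cast_le.2 one_le_two).trans hI) _

/-- Affine-local form, with (2) for tensor powers m ≥ 0. Let A be a Noetherian local ring of Krull
dimension n with a dualizing complex ω, L = H⁰(ω), and J an ideal with ht J ≥ 2 (the closed set V(J)
has codimension ≥ 2) such that off V(J) the complex ω is the invertible module L in degree 0: for
every prime p not containing J, H^i(ω)_p = 0 for i ≠ 0 and L_p is free of rank 1. (1) If A satisfies
(S₁), then ω is ordinary (A is equidimensional and ω[n] is normalized) and L is reflexive and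
satisfies (S₂). (2) If A satisfies (S₂), then for every m ≥ 0 the double dual L^[m] of the m-th
tensor power of L satisfies (S₂) and depth_J L^[m] ≥ 2 (it is the module of sections of L^⊗m off
V(J)). -/
theorem result (A : Type u) [CommRing A] [IsNoetherianRing A]
    [IsLocalRing A] (ω : Dual.D A) (hω : Dual.IsDualizing A ω) (n : ℕ) (hd : ringKrullDim A = n)
    (J : Ideal A) (hJ : 2 ≤ J.height)
    (hoff : ∀ p : PrimeSpectrum A, ¬ J ≤ p.asIdeal →
      (∀ i : ℤ, i ≠ 0 → p ∉ Module.support A (Dual.HD A ω i)) ∧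
      Module.Free (Localization.AtPrime p.asIdeal) (LocalizedModule p.asIdeal.primeCompl (Dual.HD A ω 0)) ∧
      Module.finrank (Localization.AtPrime p.asIdeal) (LocalizedModule p.asIdeal.primeCompl (Dual.HD A ω 0)) = 1) :
    (LocCoh.HasSk 1 A A →
      (EGA4.IsEquidim A ∧ Dual.IsNormalized A (ω⟦(n : ℤ)⟧)) ∧
      Module.IsReflexive A (Dual.HD A ω 0) ∧ LocCoh.HasSk 2 A (Dual.HD A ω 0)) ∧
    (LocCoh.HasSk 2 A A → ∀ m : ℕ,
      LocCoh.HasSk 2 A (Module.Dual A (Module.Dual A (TensorPower A m (Dual.HD A ω 0)))) ∧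
      2 ≤ LocCoh.idealDepth J (Module.Dual A (Module.Dual A (TensorPower A m (Dual.HD A ω 0))))) := by
  haveI hLfin : Module.Finite A (Dual.HD A ω 0) := hω.finite_cohomology 0
  have hJ1 : 1 ≤ J.height := le_trans one_le_two hJ
  have hdimA : ∀ p : PrimeSpectrum A, J ≤ p.asIdeal → (2 : WithBot ℕ∞) ≤
      Module.supportDim (Localization.AtPrime p.asIdeal) (LocalizedModule p.asIdeal.primeCompl A) := fun p hp => by
    rw [Groth.Agent.FlatLoc6.supportDim_self_atPrime]
    exact WithBot.coe_le_coe.2 (hJ.trans (Ideal.height_mono hp))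
  refine ⟨fun hS1 => ?_, fun hS2 m => dual_two hS2 J (Groth.Agent.S18699.result 2 A A J hS2 fun p hp _ => hdimA p hp) _⟩
  obtain ⟨h1, h2, h3, h4⟩ := Groth.Agent.H1OrdDual.ordinary hω n hd fun q hq i hi => by
    refine (hoff q (fun hle => ?_)).1 i hi
    have hh := hJ1.trans (Ideal.height_mono hle)
    rw [Ideal.height_eq_zero_iff.2 hq] at hh
    exact absurd hh (by simp)
  have hA1 : 1 ≤ LocCoh.idealDepth J A := by
    rw [← Nat.cast_one]
    exact Groth.Agent.S18699.result 1 A A J hS1 fun p hp _ => le_trans (by exact_mod_cast one_le_two) (hdimA p hp)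
  refine ⟨⟨h1, h2⟩, Groth.Agent.KFlatLib.isReflexive_of_off J hA1 _ (fun p hp => ?_)
    (Groth.Agent.H1OrdDual.two_le_idealDepth hω n hd J hJ hLfin h3 h4), h3⟩
  obtain ⟨-, hfree, -⟩ := hoff p hp
  haveI := hfree
  haveI : Module.Finite (Localization.AtPrime p.asIdeal) (LocalizedModule p.asIdeal.primeCompl (Dual.HD A ω 0)) :=
    Module.Finite.of_isLocalizedModule p.asIdeal.primeCompl (LocalizedModule.mkLinearMap _ _)
  exact @Module.IsReflexive.of_finite_of_free (Localization.AtPrime p.asIdeal) (LocalizedModule p.asIdeal.primeCompl (Dual.HD A ω 0)) _ _ _ inferInstance hfree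

end Groth.Agent.S18723
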