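import Groth.Statements.S1873
import Groth.Agent.IntMultCartier.Transversal
import Groth.Agent.IntMultCartier.Dim
import Groth.Agent.H23.TopDim
import Groth.Agent.GrpSchLib.SmoothRegular
-- import your own Groth.Agent.* helpers here

set_option autoImplicit false
set_option backward.isDefEq.respectTransparency false
set_option backward.isDefEq.respectTransparency.types false
set_option linter.style.haveILetI false
set_option maxHeartbeats 1000000
universe u
open CategoryTheory AlgebraicGeometry
attribute [local instance] HasDerivedCategory.standard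
open IntMult

namespace Groth.Agent.S1873
open Groth.Agent

/-- If the multiplicity of Z in the closed subscheme V ∩ W is 1, i.e. length_{O_{X,ξ}}(O_{V∩W,ξ}) = 1,
then e(X, V·W, Z) = 1 and the local rings O_{V,ξ}, O_{W,ξ} are regular (V and W are smooth at a
general point of Z). Here X is a nonsingular variety over an algebraically closed field K (smooth,
separated, of finite type, integral), V and W are closed subvarieties given by quasi-coherent ideal
sheaves with integral subschemes, of dimensions r and s with dim X = n, intersecting properly, and ξ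
is the generic point of an irreducible component Z of V ∩ W; e(X, V·W, Z) is the alternating sum of
lengths of Tor over O_{X,ξ}. -/
theorem result (K : Type u) [Field K] [IsAlgClosed K] (X : Scheme.{u}) (f : X ⟶ Spec (CommRingCat.of K)) [Smooth f] [IsSeparated f] [QuasiCompact f] [IsIntegral X] (IV IW : X.IdealSheafData) [IsIntegral IV.subscheme] [IsIntegral IW.subscheme] (n r s : ℕ) (hn : topologicalKrullDim X = n) (hr : topologicalKrullDim IV.support = r) (hs : topologicalKrullDim IW.support = s) (hprop : IntMult.ProperInt (IV.support : Set X) (IW.support : Set X) n r s) (ξ : X) (hξV : ξ ∈ IV.support) (hξW : ξ ∈ IW.support) (hmax : ∀ ξ' : X, ξ' ∈ IV.support → ξ' ∈ IW.support → ξ' ⤳ ξ → ξ' = ξ) (h1 : Module.length (X.presheaf.stalk ξ) (↑(X.presheaf.stalk ξ) ⧸ (IntMult.stalkIdeal IV ξ ⊔ IntMult.stalkIdeal IW ξ)) = 1) : IntMult.mult IV IW ξ = 1 ∧ IsRegularLocalRing (↑(X.presheaf.stalk ξ) ⧸ IntMult.stalkIdeal IV ξ) ∧ IsRegularLocalRing (↑(X.presheaf.stalk ξ) ⧸ IntMult.stalkIdeal IW ξ) := by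
  haveI : IsLocallyNoetherian X := LocallyOfFiniteType.isLocallyNoetherian f
  haveI : IsRegularLocalRing (X.presheaf.stalk ξ) := Groth.Agent.GrpSchLib.isRegularLocalRing_stalk_of_smooth f ξ
  haveI := Groth.Agent.IntMultCartier.stalkIdeal_isPrime IV hξV
  haveI := Groth.Agent.IntMultCartier.stalkIdeal_isPrime IW hξW
  have hmaxl : (IntMult.stalkIdeal IV ξ ⊔ IntMult.stalkIdeal IW ξ).IsMaximal :=
    ⟨isSimpleModule_iff_isCoatom.1 (Module.length_eq_one_iff.1 h1)⟩
  obtain ⟨a, ha, har⟩ := Groth.Agent.IntMultCartier.height_stalkIdeal f hn IV hr hξV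
  obtain ⟨b, hb, hbs⟩ := Groth.Agent.IntMultCartier.height_stalkIdeal f hn IW hs hξW
  obtain ⟨d, hd, hdn⟩ := Groth.Agent.IntMultCartier.dim_stalk f hn ξ
  obtain ⟨h1', h2'⟩ := hprop ⟨ξ, hξV, hξW⟩
  have hc : Groth.Agent.VarDim.deg f ξ ≤ r + s - n := by
    have h3 := (Groth.Agent.IntMultCartier.dim_closure f ξ).symm.trans_le
      ((Groth.Agent.H23.TopDim.dim_le_dim_of_subset
        (closure_minimal (Set.singleton_subset_iff.2 (show ξ ∈ (IV.support : Set X) ∩ IW.support from ⟨hξV, hξW⟩))
          (IV.support.isClosed.inter IW.support.isClosed))).trans h2')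
    exact_mod_cast h3
  obtain ⟨r1, r2, r3⟩ := Groth.Agent.IntMultCartier.transversal _ _
    (IsLocalRing.eq_maximalIdeal hmaxl) ha hb (by rw [hd]; exact_mod_cast (show a + b ≤ d by omega))
  exact ⟨r3, r1, r2⟩

end Groth.Agent.S1873
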