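import Groth.Statements.S1874
import Groth.Agent.SamuelKoszul.Pos
import Groth.Agent.IntMultCartier.Proper
import Groth.Agent.GrpSchLib.SmoothRegular
-- import your own Groth.Agent.* helpers here

set_option autoImplicit false
set_option backward.isDefEq.respectTransparency false
set_option backward.isDefEq.respectTransparency.types false
set_option linter.style.haveILetI false
set_option maxHeartbeats 1000000
universe u
open CategoryTheory AlgebraicGeometry
attribute [local instance] HasDerivedCategory.standard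
open IntMult

namespace Groth.Agent.S1874
open Groth.Agent

/-- Suppose the ideal of V in O_{X,ξ} is generated by a regular sequence g₁, …, g_c. Then c! ·
length(O_{W,ξ}/(g₁, …, g_c)^t O_{W,ξ}) / t^c tends to e(X, V·W, Z) as t → ∞ (so e is c! times the
leading coefficient of that Hilbert polynomial), and e(X, V·W, Z) > 0. Here X is a nonsingular
variety over an algebraically closed field K (smooth, separated, of finite type, integral), V and W
are closed subvarieties given by quasi-coherent ideal sheaves with integral subschemes, of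
dimensions r and s with dim X = n, intersecting properly, and ξ is the generic point of an
irreducible component Z of V ∩ W; e(X, V·W, Z) is the alternating sum of lengths of Tor over
O_{X,ξ}. -/
theorem result (K : Type u) [Field K] [IsAlgClosed K] (X : Scheme.{u}) (f : X ⟶ Spec (CommRingCat.of K)) [Smooth f] [IsSeparated f] [QuasiCompact f] [IsIntegral X] (IV IW : X.IdealSheafData) [IsIntegral IV.subscheme] [IsIntegral IW.subscheme] (n r s : ℕ) (hn : topologicalKrullDim X = n) (hr : topologicalKrullDim IV.support = r) (hs : topologicalKrullDim IW.support = s) (hprop : IntMult.ProperInt (IV.support : Set X) (IW.support : Set X) n r s) (ξ : X) (hξV : ξ ∈ IV.support) (hξW : ξ ∈ IW.support) (hmax : ∀ ξ' : X, ξ' ∈ IV.support → ξ' ∈ IW.support → ξ' ⤳ ξ → ξ' = ξ) (c : ℕ) (g : Fin c → ↑(X.presheaf.stalk ξ)) (hg : IntMult.stalkIdeal IV ξ = Ideal.span (Set.range g)) (hreg : RingTheory.Sequence.IsRegular (↑(X.presheaf.stalk ξ)) (List.ofFn g)) : Filter.Tendsto (fun t : ℕ => (c.factorial : ℝ) * ((Module.length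 (X.presheaf.stalk ξ) (↑(X.presheaf.stalk ξ) ⧸ (IntMult.stalkIdeal IW ξ ⊔ IntMult.stalkIdeal IV ξ ^ t))).toNat : ℝ) / (t : ℝ) ^ c) Filter.atTop (nhds (IntMult.mult IV IW ξ : ℝ)) ∧ 0 < IntMult.mult IV IW ξ := by
  haveI : IsLocallyNoetherian X := LocallyOfFiniteType.isLocallyNoetherian f
  haveI : IsRegularLocalRing (X.presheaf.stalk ξ) := Groth.Agent.GrpSchLib.isRegularLocalRing_stalk_of_smooth f ξ
  haveI := Groth.Agent.IntMultCartier.stalkIdeal_isPrime IV hξV
  haveI := Groth.Agent.IntMultCartier.stalkIdeal_isPrime IW hξW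
  have hgm : ∀ i, g i ∈ IsLocalRing.maximalIdeal (X.presheaf.stalk ξ) := fun i =>
    IsLocalRing.le_maximalIdeal (Ideal.IsPrime.ne_top inferInstance) (hg.ge (Ideal.subset_span ⟨i, rfl⟩))
  obtain ⟨m, hm⟩ := Groth.Agent.IntMultCartier.exists_pow_le_sup IV IW hmax
  obtain ⟨a, ha, har⟩ := Groth.Agent.IntMultCartier.height_stalkIdeal f hn IV hr hξV
  obtain ⟨b, hb, hbs⟩ := Groth.Agent.IntMultCartier.height_stalkIdeal f hn IW hs hξW
  obtain ⟨d, hd, hdn⟩ := Groth.Agent.IntMultCartier.dim_stalk f hn ξ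
  obtain ⟨h1, h2⟩ := hprop ⟨ξ, hξV, hξW⟩
  have hc : Groth.Agent.VarDim.deg f ξ ≤ r + s - n := by
    have h3 := (Groth.Agent.IntMultCartier.dim_closure f ξ).symm.trans_le ((Groth.Agent.H23.TopDim.dim_le_dim_of_subset
      (closure_minimal (Set.singleton_subset_iff.2 (show ξ ∈ (IV.support : Set X) ∩ IW.support from ⟨hξV, hξW⟩))
        (IV.support.isClosed.inter IW.support.isClosed))).trans h2)
    exact_mod_cast h3
  have hp := Groth.Agent.FormCat.height_add_ringKrullDim_quotient_regular _ (IntMult.stalkIdeal IV ξ) Ideal.IsPrime.ne_top'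
  have hq := Groth.Agent.FormCat.height_add_ringKrullDim_quotient_regular _ (IntMult.stalkIdeal IW ξ) Ideal.IsPrime.ne_top'
  have hlen := ringKrullDim_add_length_eq_ringKrullDim_of_isRegular (List.ofFn g) hreg
  rw [Groth.Agent.H1KoszulEuler.span_ofFn, ← hg, List.length_ofFn] at hlen
  rw [ha, hd] at hp
  rw [hb, hd] at hq
  rw [hd] at hlen
  obtain ⟨p, hp'⟩ := Groth.Agent.LC.exists_supportDim_eq_nat (R := X.presheaf.stalk ξ)
    (↑(X.presheaf.stalk ξ) ⧸ IntMult.stalkIdeal IV ξ)
  obtain ⟨q, hq'⟩ := Groth.Agent.LC.exists_supportDim_eq_nat (R := X.presheaf.stalk ξ)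
    (↑(X.presheaf.stalk ξ) ⧸ IntMult.stalkIdeal IW ξ)
  rw [Module.supportDim_quotient_eq_ringKrullDim] at hp' hq'
  rw [hp'] at hp hlen
  rw [hq'] at hq
  have hp2 : p + a = d := by exact_mod_cast hp
  have hq2 : q + b = d := by exact_mod_cast hq
  have hl2 : p + c = d := by exact_mod_cast hlen
  obtain ⟨hlim, hpos⟩ := Groth.Agent.SamuelKoszul.main (IntMult.stalkIdeal IW ξ) Ideal.IsPrime.ne_top' g
    hreg.toIsWeaklyRegular hgm ⟨m, by rw [← hg, sup_comm]; exact hm⟩
    (by rw [hq']; exact_mod_cast (show c ≤ q by omega))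
  rw [← hg] at hlim hpos
  exact ⟨hlim, hpos⟩

end Groth.Agent.S1874
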