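import Groth.Statements.S1875
import Groth.Agent.RelCycLib.PPower
-- import your own Groth.Agent.* helpers here

set_option autoImplicit false
universe u
open TensorProduct
open RelCyc

namespace Groth.Agent.S1875

/-- Let k be a field of exponential characteristic p, K/k any field extension and L/k a finitely
generated field extension (the function field of an integral scheme locally of finite type over k).
For every minimal prime 𝔮 of K ⊗_k L the length of the Artinian local ring (K ⊗_k L)_𝔮 — the
multiplicity of the corresponding irreducible component of the base change — is a power of p (so 1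
in characteristic zero). -/
theorem result (k K L : Type u) [Field k] [Field K] [Field L] [Algebra k K] [Algebra k L] (hL : (⊤ : IntermediateField k L).FG) (p : ℕ) [ExpChar k p] (q : Ideal (K ⊗[k] L)) [q.IsPrime] (hq : q ∈ minimalPrimes (K ⊗[k] L)) : ∃ n : ℕ, Module.length (Localization.AtPrime q) (Localization.AtPrime q) = (p ^ n : ℕ) := by
  let e : L ⊗[k] K ≃+* K ⊗[k] L := (Algebra.TensorProduct.comm k L K).toRingEquiv
  haveI : (q.comap e).IsPrime := Ideal.IsPrime.comap e
  have hmin : q.comap e ∈ minimalPrimes (L ⊗[k] K) := by
    refine ⟨⟨inferInstance, bot_le⟩, fun P hP hle => ?_⟩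
    haveI := hP.1
    have h1 : P.comap e.symm ≤ q := fun x hx => by
      have := hle hx
      rwa [Ideal.mem_comap, RingEquiv.apply_symm_apply] at this
    have h2 := hq.2 ⟨Ideal.IsPrime.comap e.symm, bot_le⟩ h1
    intro x hx
    have := h2 hx
    rwa [Ideal.mem_comap, RingEquiv.symm_apply_apply] at this
  obtain ⟨n, hn⟩ := Groth.Agent.RelCycLib.length_tensor_pow_expChar k K L hL p (q.comap e) hmin
  exact ⟨n, (Groth.Agent.RelCycLib.length_atPrime_equiv e q).symm.trans hn⟩

end Groth.Agent.S1875
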