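import Groth.Statements.S18768
import Groth.Agent.NodePush7.Setup

set_option autoImplicit false
set_option backward.isDefEq.respectTransparency false
set_option backward.isDefEq.respectTransparency.types false
universe u
open CategoryTheory CategoryTheory.Limits AlgebraicGeometry
open TFNodal

namespace Groth.Agent.S18768

/-- Let k be algebraically closed of characteristic zero, X a connected proper curve over k (dimension
one) whose closed points are smooth points or nodes, and π : Y → X its normalization, given here as
a finite morphism from a smooth k-scheme that is an isomorphism over the complement U of the nodes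
with dense preimage of U. Let F be a coherent O_X-module that is torsion free of rank r with type
a(x) at each node x: its stalk is free of rank r at every point that is not a node and isomorphic to
O_x^{a(x)} ⊕ m_x^{r − a(x)} at each node x. Then the unit F → π_*π^*F is a monomorphism, its
cokernel has stalk of length 2r − a(x) at every node x, and zero stalk at every other point (so the
cokernel is a torsion module of total length Σ (2r − a(x)) over the nodes). The published statement
gives only the total length Σ (2r − a(x)) over the nodes; the statement here gives the length at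
each node, which is what the published proof computes. -/
theorem result (k : Type u) [Field k] [IsAlgClosed k] [CharZero k]
    (X : Scheme.{u}) [X.Over (Spec (CommRingCat.of k))] [IsProper (X ↘ Spec (CommRingCat.of k))]
    [ConnectedSpace X] (hdim : topologicalKrullDim X = 1) (hnod : Curv2.AtWorstNodal k X)
    (Y : Scheme.{u}) (π : Y ⟶ X) [IsFinite π] [Smooth (π ≫ (X ↘ Spec (CommRingCat.of k)))]
    (U : X.Opens) (hU : ∀ x : X, x ∈ U ↔ ¬ Curv2.IsNode k X x) (hUiso : IsIso (π ∣_ U))
    (hUd : Dense ((π ⁻¹ᵁ U : Y.Opens) : Set Y))
    (r : ℕ) (F : X.Modules) (hF : Coh.IsCoh F) (a : X → ℕ)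
    (hfree : ∀ x : X, ¬ Curv2.IsNode k X x →
      Nonempty (F.presheaf.stalk x ≃ₗ[X.presheaf.stalk x] (Fin r → X.presheaf.stalk x)))
    (htype : ∀ x : X, Curv2.IsNode k X x → a x ≤ r ∧
      Nonempty (F.presheaf.stalk x ≃ₗ[X.presheaf.stalk x]
        ((Fin (a x) → X.presheaf.stalk x) × (Fin (r - a x) → IsLocalRing.maximalIdeal (X.presheaf.stalk x))))) :
    Mono ((Scheme.Modules.pullbackPushforwardAdjunction π).unit.app F) ∧
    (∀ x : X, Curv2.IsNode k X x →
      Module.length (X.presheaf.stalk x)
        ((cokernel ((Scheme.Modules.pullbackPushforwardAdjunction π).unit.app F)).presheaf.stalk x) = ((2 * r - a x : ℕ) : ℕ∞)) ∧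
    (∀ x : X, ¬ Curv2.IsNode k X x →
      Subsingleton ((cokernel ((Scheme.Modules.pullbackPushforwardAdjunction π).unit.app F)).presheaf.stalk x)) := by
  haveI := hUiso
  obtain ⟨_, _, _, hUdense, hoff, hnode⟩ := Groth.Agent.NodePush7.setup hdim hnod π U hU hUd
  refine ⟨Groth.Agent.HomShX.mono_of_stalk _ fun x => ?_, fun x hx => ?_, fun x hx => ?_⟩
  · by_cases hx : Curv2.IsNode k X x
    · obtain ⟨ha, ⟨e⟩⟩ := htype x hx
      exact (Groth.Agent.NodePush7.unit_stalk π hUdense hUd hF.1 x e).1
    · obtain ⟨e⟩ := hfree x hx
      exact (Groth.Agent.NodePush7.unit_stalk π hUdense hUd hF.1 x (Groth.Agent.NodePush7.tfOfFree e)).1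
  · obtain ⟨ha, ⟨e⟩⟩ := htype x hx
    obtain ⟨h1, -, hcot⟩ := hnode x hx
    rw [(Groth.Agent.NodePush7.unit_stalk π hUdense hUd hF.1 x e).2.2 h1, hcot]
    congr 1
    omega
  · obtain ⟨e⟩ := hfree x hx
    rw [← Module.length_eq_zero_iff (R := X.presheaf.stalk x)]
    exact (Groth.Agent.NodePush7.unit_stalk π hUdense hUd hF.1 x (Groth.Agent.NodePush7.tfOfFree e)).2.1 (hoff x hx)

end Groth.Agent.S18768
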