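import Groth.Statements.S18769
import Groth.Agent.NodeNorm7.Main
import Groth.Agent.NodePush7.Setup
import Groth.Agent.S0219

set_option autoImplicit false
set_option backward.isDefEq.respectTransparency false
set_option backward.isDefEq.respectTransparency.types false
set_option linter.style.haveILetI false
set_option maxHeartbeats 1000000
universe u
open CategoryTheory CategoryTheory.Limits AlgebraicGeometry
open TFNodal

namespace Groth.Agent.S18769

/-- Let k be algebraically closed of characteristic zero, X a connected proper curve over k (dimension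
one) whose closed points are smooth points or nodes, and π : Y → X its normalization, given as a
finite morphism from a smooth k-scheme that is an isomorphism over the complement U of the nodes
with dense preimage of U; let F be a coherent O_X-module, torsion free of rank r with type a(x) at
each node x (stalk free of rank r off the nodes, isomorphic to O_x^{a(x)} ⊕ m_x^{r − a(x)} at a node
x). Write D ⊂ Y for the reduced closed subscheme on the preimage of the nodes. Then there are a
locally free O_Y-module E of rank r and a quotient q : π_*(E ⊗ O_D) → Q, with Q having zero stalks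
off the nodes and total length r · (number of nodes) over the nodes, such that F is isomorphic to
the kernel of the composite π_*E → π_*(E ⊗ O_D) → Q (existence of such an isomorphism). -/
theorem result (k : Type u) [Field k] [IsAlgClosed k] [CharZero k]
    (X : Scheme.{u}) [X.Over (Spec (CommRingCat.of k))] [IsProper (X ↘ Spec (CommRingCat.of k))]
    [ConnectedSpace X] (hdim : topologicalKrullDim X = 1) (hnod : Curv2.AtWorstNodal k X)
    (Y : Scheme.{u}) (π : Y ⟶ X) [IsFinite π] [Smooth (π ≫ (X ↘ Spec (CommRingCat.of k)))]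
    (U : X.Opens) (hU : ∀ x : X, x ∈ U ↔ ¬ Curv2.IsNode k X x) (hUiso : IsIso (π ∣_ U))
    (hUd : Dense ((π ⁻¹ᵁ U : Y.Opens) : Set Y))
    (r : ℕ) (F : X.Modules) (hF : Coh.IsCoh F) (a : X → ℕ)
    (hfree : ∀ x : X, ¬ Curv2.IsNode k X x →
      Nonempty (F.presheaf.stalk x ≃ₗ[X.presheaf.stalk x] (Fin r → X.presheaf.stalk x)))
    (htype : ∀ x : X, Curv2.IsNode k X x → a x ≤ r ∧
      Nonempty (F.presheaf.stalk x ≃ₗ[X.presheaf.stalk x]
        ((Fin (a x) → X.presheaf.stalk x) × (Fin (r - a x) → IsLocalRing.maximalIdeal (X.presheaf.stalk x))))) :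
    ∃ (E : Y.Modules), FlatMod.IsFinLocFreeOfRank r E ∧
      ∃ (Q : X.Modules) (q : (Scheme.Modules.pushforward π).obj
          (ParSh.resD (Scheme.IdealSheafData.vanishingIdeal
            ⟨closure (π.base ⁻¹' {x : X | Curv2.IsNode k X x}), isClosed_closure⟩) E) ⟶ Q),
        Epi q ∧
        (∀ x : X, ¬ Curv2.IsNode k X x → Subsingleton (Q.presheaf.stalk x)) ∧
        (∑ᶠ x ∈ {x : X | Curv2.IsNode k X x},
            (Module.length (X.presheaf.stalk x) (Q.presheaf.stalk x)).toNat) = r * Nat.card {x : X // Curv2.IsNode k X x} ∧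
        Nonempty (F ≅ kernel ((Scheme.Modules.pushforward π).map
            ((SecTwist.unitorR E).inv ≫ KoszTw.tensorMap (𝟙 E) (ClSub.toSubscheme
              (Scheme.IdealSheafData.vanishingIdeal
                ⟨closure (π.base ⁻¹' {x : X | Curv2.IsNode k X x}), isClosed_closure⟩))) ≫ q)) := by
  haveI := hUiso
  classical
  obtain ⟨_, _, _, hUdense, hoff, hnode⟩ := Groth.Agent.NodePush7.setup hdim hnod π U hU hUd
  haveI := Groth.Agent.CurveCohLib.isNoetherian' (k := k) (X := X)
  have hfin : {x : X | Curv2.IsNode k X x}.Finite := by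
    have hZ : IsClosed ((U : Set X)ᶜ) := U.isOpen.isClosed_compl
    haveI : QuasiSober ((U : Set X)ᶜ : Set X) := hZ.isClosedEmbedding_subtypeVal.quasiSober
    haveI := Groth.Agent.S0219.finite_of_forall_isClosed (α := ((U : Set X)ᶜ : Set X)) fun z => by
      have hz : IsClosed ({z.1} : Set X) := (not_not.1 fun h => z.2 ((hU z.1).2 h) : Curv2.IsNode k X z.1).1
      convert hz.preimage continuous_subtype_val
      ext w
      simp [Subtype.ext_iff]
    refine (Set.toFinite ((U : Set X)ᶜ)).subset fun x hx => fun h => (hU x).1 h hx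
  let s := hfin.toFinset
  have hs : ∀ x, x ∈ s ↔ Curv2.IsNode k X x := fun x => hfin.mem_toFinset
  obtain ⟨G, j, hG, hinj, hoff', hon⟩ := Groth.Agent.NodeModif7.exists_locFree hF r s (fun x hx => ((hs x).1 hx).1) a
    (fun x hx => (htype x ((hs x).1 hx)).1) (fun x hx => hfree x (fun h => hx ((hs x).2 h)))
    (fun x hx => (htype x ((hs x).1 hx)).2) (fun x hx => (hnode x ((hs x).1 hx)).2.1)
  let f := X ↘ Spec (CommRingCat.of k)
  haveI : LocallyOfFiniteType f := inferInstance
  haveI : ∀ y : Y, IsDomain (Y.presheaf.stalk y) := fun y => Groth.Agent.NodeNorm7.isDomain_stalk f π y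
  haveI : ∀ y : Y, IsPrincipalIdealRing (Y.presheaf.stalk y) := fun y =>
    Groth.Agent.NodeNorm7.isPrincipalIdealRing_stalk f π hdim.le y
  have hclosed : IsClosed (π.base ⁻¹' {x : X | Curv2.IsNode k X x}) := by
    refine IsClosed.preimage π.continuous ?_
    have : {x : X | Curv2.IsNode k X x} = (U : Set X)ᶜ := by
      ext x; rw [Set.mem_compl_iff, SetLike.mem_coe, hU x, not_not, Set.mem_setOf_eq]
    rw [this]
    exact U.isOpen.isClosed_compl
  let I := Scheme.IdealSheafData.vanishingIdeal
    (⟨closure (π.base ⁻¹' {x : X | Curv2.IsNode k X x}), isClosed_closure⟩ : TopologicalSpace.Closeds Y)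
  have hI : ∀ y, y ∈ I.support ↔ π y ∈ s := fun y => by
    rw [← SetLike.mem_coe, Scheme.IdealSheafData.coe_support_vanishingIdeal, hs]
    show y ∈ closure (π.base ⁻¹' {x : X | Curv2.IsNode k X x}) ↔ _
    rw [hclosed.closure_eq]
    rfl
  have hnp : ∀ x ∈ s, Groth.Agent.NodeLib.HasNodePair (X.presheaf.stalk x) := fun x hx => by
    haveI := Groth.Agent.NodeLib.isNoetherianRing_stalk_of_lft f x
    exact Groth.Agent.NodeLib.hasNodePair_of_isNode ((hs x).1 hx) (IsPullback.id_horiz f) x rfl
  obtain ⟨E, hE, Q, q, hqepi, hQoff, hQlen, hiso⟩ := Groth.Agent.NodeNorm7.exists_kernel π hUdense hUd s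
    (fun x => by rw [hs, hU, not_not]) (fun x hx => ((hs x).1 hx).1)
    (fun x hx y hy b => Groth.Agent.NodeNorm7.exists_sub_mem f π hy ((hs x).1 hx).1 b)
    (fun x hx => (hnode x ((hs x).1 hx)).1) (fun x hx => hoff x (fun h => hx ((hs x).2 h))) hnp I hI hF hG j
    hinj hoff' (fun x => r - a x) hon
  refine ⟨E, hE, Q, q, hqepi, fun x hx => hQoff x (fun h => hx ((hs x).1 h)), ?_, hiso⟩
  rw [finsum_mem_eq_finite_toFinset_sum _ hfin, Finset.sum_congr rfl (fun x hx => by
    rw [hQlen x hx, ENat.toNat_natCast]), Finset.sum_const, smul_eq_mul, mul_comm]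
  congr 1
  exact (Set.ncard_eq_toFinset_card _ hfin).symm.trans (Nat.card_coe_set_eq _).symm

end Groth.Agent.S18769
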