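import Groth.Statements.S18771
import Groth.Agent.NodeModif7.Main
import Groth.Agent.NodePush7.Setup
import Groth.Agent.S0219

set_option autoImplicit false
set_option backward.isDefEq.respectTransparency false
set_option backward.isDefEq.respectTransparency.types false
set_option linter.style.haveILetI false
set_option maxHeartbeats 1000000
universe u
open CategoryTheory CategoryTheory.Limits AlgebraicGeometry
open TFNodal

namespace Groth.Agent.S18771

/-- Let k be algebraically closed of characteristic zero, X a connected proper curve over k (dimension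
one) whose closed points are smooth points or nodes, and π : Y → X its normalization, given as a
finite morphism from a smooth k-scheme that is an isomorphism over the complement U of the nodes
with dense preimage of U; let F be a coherent O_X-module, torsion free of rank r with type a(x) at
each node x (stalk free of rank r off the nodes, isomorphic to O_x^{a(x)} ⊕ m_x^{r − a(x)} at a node
x). Then there are a locally free O_X-module G of rank r and a monomorphism j : F → G whose cokernel
has zero stalk off the nodes and, at each node x, stalk annihilated by the maximal ideal m_x and of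
length r − a(x) (so G/F is the direct sum over the nodes of k(x)^{r − a(x)}). -/
theorem result (k : Type u) [Field k] [IsAlgClosed k] [CharZero k]
    (X : Scheme.{u}) [X.Over (Spec (CommRingCat.of k))] [IsProper (X ↘ Spec (CommRingCat.of k))]
    [ConnectedSpace X] (hdim : topologicalKrullDim X = 1) (hnod : Curv2.AtWorstNodal k X)
    (Y : Scheme.{u}) (π : Y ⟶ X) [IsFinite π] [Smooth (π ≫ (X ↘ Spec (CommRingCat.of k)))]
    (U : X.Opens) (hU : ∀ x : X, x ∈ U ↔ ¬ Curv2.IsNode k X x) (hUiso : IsIso (π ∣_ U))
    (hUd : Dense ((π ⁻¹ᵁ U : Y.Opens) : Set Y))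
    (r : ℕ) (F : X.Modules) (hF : Coh.IsCoh F) (a : X → ℕ)
    (hfree : ∀ x : X, ¬ Curv2.IsNode k X x →
      Nonempty (F.presheaf.stalk x ≃ₗ[X.presheaf.stalk x] (Fin r → X.presheaf.stalk x)))
    (htype : ∀ x : X, Curv2.IsNode k X x → a x ≤ r ∧
      Nonempty (F.presheaf.stalk x ≃ₗ[X.presheaf.stalk x]
        ((Fin (a x) → X.presheaf.stalk x) × (Fin (r - a x) → IsLocalRing.maximalIdeal (X.presheaf.stalk x))))) :
    ∃ (G : X.Modules) (j : F ⟶ G), FlatMod.IsFinLocFreeOfRank r G ∧ Mono j ∧
      (∀ x : X, ¬ Curv2.IsNode k X x → Subsingleton ((cokernel j).presheaf.stalk x)) ∧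
      (∀ x : X, Curv2.IsNode k X x →
        IsLocalRing.maximalIdeal (X.presheaf.stalk x) • (⊤ : Submodule (X.presheaf.stalk x) ((cokernel j).presheaf.stalk x)) = ⊥ ∧
        Module.length (X.presheaf.stalk x) ((cokernel j).presheaf.stalk x) = ((r - a x : ℕ) : ℕ∞)) := by
  haveI := hUiso
  classical
  obtain ⟨_, _, _, hUdense, hoff, hnode⟩ := Groth.Agent.NodePush7.setup hdim hnod π U hU hUd
  haveI := Groth.Agent.CurveCohLib.isNoetherian' (k := k) (X := X)
  have hfin : {x : X | Curv2.IsNode k X x}.Finite := by
    have hZ : IsClosed ((U : Set X)ᶜ) := U.isOpen.isClosed_compl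
    haveI : QuasiSober ((U : Set X)ᶜ : Set X) := hZ.isClosedEmbedding_subtypeVal.quasiSober
    haveI := Groth.Agent.S0219.finite_of_forall_isClosed (α := ((U : Set X)ᶜ : Set X)) fun z => by
      have hz : IsClosed ({z.1} : Set X) := (not_not.1 fun h => z.2 ((hU z.1).2 h) : Curv2.IsNode k X z.1).1
      convert hz.preimage continuous_subtype_val
      ext w
      simp [Subtype.ext_iff]
    refine (Set.toFinite ((U : Set X)ᶜ)).subset fun x hx => fun h => (hU x).1 h hx
  let s := hfin.toFinset
  have hs : ∀ x, x ∈ s ↔ Curv2.IsNode k X x := fun x => hfin.mem_toFinset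
  obtain ⟨G, j, hG, hinj, hoff', hon⟩ := Groth.Agent.NodeModif7.exists_locFree hF r s (fun x hx => ((hs x).1 hx).1) a
    (fun x hx => (htype x ((hs x).1 hx)).1) (fun x hx => hfree x (fun h => hx ((hs x).2 h)))
    (fun x hx => (htype x ((hs x).1 hx)).2) (fun x hx => (hnode x ((hs x).1 hx)).2.1)
  refine ⟨G, j, hG, Groth.Agent.HomShX.mono_of_stalk _ hinj, fun x hx => ?_, fun x hx => ⟨?_, ?_⟩⟩
  · rw [← Module.length_eq_zero_iff (R := X.presheaf.stalk x), Groth.Agent.NodePush7.length_coker_stalk,
      Module.length_eq_zero_iff, Submodule.Quotient.subsingleton_iff, LinearMap.range_eq_top]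
    exact hoff' x (fun h => hx ((hs x).1 h))
  · rw [eq_bot_iff, Submodule.smul_le]
    intro f hf z _
    rw [Submodule.mem_bot]
    let e := (PreservesCokernel.iso (DerSch.stalkFunctor X x) j ≪≫ ModuleCat.cokernelIsoRangeQuotient _).toLinearEquiv
    refine e.injective ?_
    rw [map_smul, map_zero]
    obtain ⟨g, hg⟩ := Submodule.mkQ_surjective _ (e z)
    rw [← hg, ← map_smul, Submodule.mkQ_apply, Submodule.Quotient.mk_eq_zero]
    exact (hon x ((hs x).2 hx)).1 f hf g
  · rw [Groth.Agent.NodePush7.length_coker_stalk]
    exact (hon x ((hs x).2 hx)).2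

end Groth.Agent.S18771
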