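import Groth.Statements.S18772
import Groth.Agent.TFCurvLib.AssTF
import Groth.Agent.DescLib.Reduced
import Groth.Agent.Lib.CurveTensor
import Groth.Agent.KFlatLib.Scheme.Pullback

set_option autoImplicit false
universe u
open CategoryTheory CategoryTheory.Limits AlgebraicGeometry
open TFNodal

namespace Groth.Agent.S18772

open Groth.Agent in
/-- An epimorphism onto a locally free module of the same rank has a kernel killed by maps to torsion free
modules, once the source is free on a dense open. -/
theorem kernel_comp_eq_zero {X Y : Scheme.{u}} [IsLocallyNoetherian Y] [AlgebraicGeometry.IsReduced Y]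
    (π : Y ⟶ X) (V : Y.Opens) (hV : Dense (V : Set Y)) (F : X.Modules) (r : ℕ)
    (hfree : ∀ y ∈ V, Nonempty (F.presheaf.stalk (π y) ≃ₗ[X.presheaf.stalk (π y)] (Fin r → X.presheaf.stalk (π y))))
    (E₀ : Y.Modules) (hE₀ : FlatMod.IsFinLocFreeOfRank r E₀)
    (p : (Scheme.Modules.pullback π).obj F ⟶ E₀) [Epi p]
    (E : Y.Modules) (hE : FlatMod.IsFinLocFree E) (g : (Scheme.Modules.pullback π).obj F ⟶ E) :
    kernel.ι p ≫ g = 0 := by
  have hq : Coh.IsQCoh E := QCoh.isQCoh_of_isFinLocFree hE
  have ht : TorSh.IsTorsionFree E := fun y => by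
    haveI := QCoh.free_stalk_of_isFinLocFree hE y
    infer_instance
  refine Scheme.Modules.hom_ext _ _ fun W => AddCommGrpCat.hom_ext (AddMonoidHom.ext fun a => ?_)
  refine TFCurvLib.eq_zero_of_germ_isField hq ht ((kernel.ι p ≫ g).app W a) fun y hy hyf => ?_
  have hyV : y ∈ V := TFCurvLib.mem_of_dense_of_isField hV hyf
  obtain ⟨b₀⟩ := Groth.Agent.CurveTensor.exists_basis_stalk hE₀ y
  obtain ⟨e⟩ := hfree y hyV
  let S := DerSch.stalkFunctor Y y
  haveI : S.IsLeftAdjoint := ⟨_, ⟨Groth.Agent.KFlatLib.skyAdj y⟩⟩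
  let φ := (π.stalkMap y).hom
  let c : S.obj ((Scheme.Modules.pullback π).obj F) ≅
      (ModuleCat.extendScalars φ).obj ((DerSch.stalkFunctor X (π y)).obj F) :=
    (KFlatLib.stalkPullbackIso π y).app F
  letI : Algebra (X.presheaf.stalk (π y)) (Y.presheaf.stalk y) := φ.toAlgebra
  let b : Module.Basis (Fin r) (Y.presheaf.stalk y) (S.obj ((Scheme.Modules.pullback π).obj F)) :=
    (((Pi.basisFun _ (Fin r)).map e.symm).baseChange (Y.presheaf.stalk y)).map c.toLinearEquiv.symm
  have hsurj : Function.Surjective (S.map p).hom :=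
    (ModuleCat.epi_iff_surjective _).1 inferInstance
  have hinj : Function.Injective (S.map p).hom := by
    have h : Function.Surjective ((b₀.equiv b (Equiv.refl _)).toLinearMap.comp (S.map p).hom) :=
      (b₀.equiv b (Equiv.refl _)).surjective.comp hsurj
    haveI : Module.Finite (Y.presheaf.stalk y) (S.obj ((Scheme.Modules.pullback π).obj F)) :=
      Module.Finite.of_basis b
    have h' := OrzechProperty.injective_of_surjective_endomorphism _ h
    rw [LinearMap.coe_comp] at h'
    exact h'.of_comp
  have hz : S.map (kernel.ι p) = 0 := by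
    haveI : Mono (S.map p) := (ModuleCat.mono_iff_injective _).2 hinj
    rw [← cancel_mono (S.map p), ← Functor.map_comp, kernel.condition, zero_comp, Functor.map_zero]
  have h1 : ∀ {M N : Y.Modules} (f : M ⟶ N) (m : Γ(M, W)),
      N.presheaf.germ W y hy (f.app W m) = (S.map f).hom (M.presheaf.germ W y hy m) := by
      intro M N f m
      show _ = Algz.stalkMapAb f y (M.presheaf.germ W y hy m)
      exact (TopCat.Presheaf.stalkFunctor_map_germ_apply W y hy f.mapPresheaf m).symm
  rw [h1, Functor.map_comp, hz, zero_comp]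
  rfl


/-- Let k be algebraically closed of characteristic zero, X a connected proper curve over k (dimension
one) whose closed points are smooth points or nodes, and π : Y → X its normalization, given as a
finite morphism from a smooth k-scheme that is an isomorphism over the complement U of the nodes
with dense preimage of U; let F be a coherent O_X-module, torsion free of rank r with type a(x) at
each node x (stalk free of rank r off the nodes, isomorphic to O_x^{a(x)} ⊕ m_x^{r − a(x)} at a node
x). Let p : π^*F → E₀ be an epimorphism onto a locally free O_Y-module of rank r and β : F → π_*E₀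
the composite of the unit with π_*p. Then every monomorphism f : F → π_*E into the direct image of a
locally free O_Y-module E of rank r factors as β followed by π_*λ for exactly one λ : E₀ → E. -/
theorem result (k : Type u) [Field k] [IsAlgClosed k] [CharZero k]
    (X : Scheme.{u}) [X.Over (Spec (CommRingCat.of k))] [IsProper (X ↘ Spec (CommRingCat.of k))]
    [ConnectedSpace X] (hdim : topologicalKrullDim X = 1) (hnod : Curv2.AtWorstNodal k X)
    (Y : Scheme.{u}) (π : Y ⟶ X) [IsFinite π] [Smooth (π ≫ (X ↘ Spec (CommRingCat.of k)))]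
    (U : X.Opens) (hU : ∀ x : X, x ∈ U ↔ ¬ Curv2.IsNode k X x) (hUiso : IsIso (π ∣_ U))
    (hUd : Dense ((π ⁻¹ᵁ U : Y.Opens) : Set Y))
    (r : ℕ) (F : X.Modules) (hF : Coh.IsCoh F) (a : X → ℕ)
    (hfree : ∀ x : X, ¬ Curv2.IsNode k X x →
      Nonempty (F.presheaf.stalk x ≃ₗ[X.presheaf.stalk x] (Fin r → X.presheaf.stalk x)))
    (htype : ∀ x : X, Curv2.IsNode k X x → a x ≤ r ∧
      Nonempty (F.presheaf.stalk x ≃ₗ[X.presheaf.stalk x]
        ((Fin (a x) → X.presheaf.stalk x) × (Fin (r - a x) → IsLocalRing.maximalIdeal (X.presheaf.stalk x)))))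
    (E₀ : Y.Modules) (hE₀ : FlatMod.IsFinLocFreeOfRank r E₀)
    (p : (Scheme.Modules.pullback π).obj F ⟶ E₀) [Epi p]
    (E : Y.Modules) (hE : FlatMod.IsFinLocFreeOfRank r E)
    (f : F ⟶ (Scheme.Modules.pushforward π).obj E) [Mono f] :
    ∃! lam : E₀ ⟶ E, (Scheme.Modules.pullbackPushforwardAdjunction π).unit.app F ≫
      (Scheme.Modules.pushforward π).map p ≫ (Scheme.Modules.pushforward π).map lam = f := by
  haveI : IsLocallyNoetherian Y :=
    LocallyOfFiniteType.isLocallyNoetherian (π ≫ (X ↘ Spec (CommRingCat.of k)))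
  haveI : AlgebraicGeometry.IsReduced Y :=
    Groth.Agent.DescLib.isReduced_of_smooth_of_isReduced (π ≫ (X ↘ Spec (CommRingCat.of k)))
  let adj := Scheme.Modules.pullbackPushforwardAdjunction π
  let g := (adj.homEquiv F E).symm f
  have hg : kernel.ι p ≫ g = 0 := kernel_comp_eq_zero π (π ⁻¹ᵁ U) hUd F r
    (fun y hy => hfree _ ((hU _).1 hy)) E₀ hE₀ p E (fun y => let ⟨W, hy, he⟩ := hE y; ⟨W, r, hy, he⟩) g
  refine ⟨Abelian.epiDesc p g hg, ?_, fun l hl => ?_⟩
  · show adj.unit.app F ≫ (Scheme.Modules.pushforward π).map p ≫ _ = f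
    rw [← Functor.map_comp, Abelian.comp_epiDesc]
    exact (adj.homEquiv_unit F E g).symm.trans ((adj.homEquiv F E).apply_symm_apply f)
  · rw [← cancel_epi p, Abelian.comp_epiDesc]
    refine (adj.homEquiv F E).injective ?_
    rw [Equiv.apply_symm_apply, Adjunction.homEquiv_unit, Functor.map_comp]
    exact hl

end Groth.Agent.S18772
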