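import Groth.Statements.S18790
import Mathlib.Tactic.LinearCombination

set_option autoImplicit false
universe u v w
open TorusGr

namespace Groth.Agent.S18790

/-- Let `A` be a commutative algebra over a field `k`, graded by an additive commutative group `M` (for
`M` the character group of a split torus `T`, a `T`-action on `Spec A`), let `J` be the ideal
generated by the homogeneous elements of non-zero degree (its zero locus is the fixed-point
subscheme) and let `m ⊇ J` be a maximal ideal with residue field `k` (a fixed rational point) at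
which the fixed-point subscheme is the reduced point: `J` and `m` agree after localizing at `m`.
Then the cotangent space `m/m²` has no part of weight zero: every degree-zero element of `m` lies in
`m²`. (The published statement has `M ≅ ℤ^r`, a split torus, and phrases the conclusion as the
non-vanishing of the weights of a semi-invariant basis of `m/m²`; here `M` is any additive
commutative group, i.e. any diagonalizable group.) -/
theorem result
    {k : Type u} [Field k] {M : Type v} [AddCommGroup M] [DecidableEq M]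
    {A : Type w} [CommRing A] [Algebra k A] (𝒜 : M → Submodule k A) [GradedAlgebra 𝒜]
    (m : Ideal A) [m.IsMaximal] (hrat : Function.Surjective (algebraMap k (A ⧸ m)))
    (hfix : ∀ i : M, i ≠ 0 → ∀ a ∈ 𝒜 i, a ∈ m)
    (hred : ∀ a ∈ m, ∃ s ∉ m, s * a ∈ Ideal.span {b : A | ∃ i : M, i ≠ 0 ∧ b ∈ 𝒜 i})
    {f : A} (hf0 : f ∈ 𝒜 0) (hfm : f ∈ m) : f ∈ m ^ 2 := by
  classical
  have hadd : ∀ a b : A, (DirectSum.decompose 𝒜 (a + b) 0 : A) = DirectSum.decompose 𝒜 a 0 + DirectSum.decompose 𝒜 b 0 := fun a b => by
    simp [DirectSum.decompose_add]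
  have hJ : ∀ x ∈ Ideal.span {b : A | ∃ i : M, i ≠ 0 ∧ b ∈ 𝒜 i}, ∀ c : A,
      (DirectSum.decompose 𝒜 (c * x) 0 : A) ∈ m ^ 2 := by
    intro x hx
    induction hx using Submodule.span_induction with
    | mem x hx =>
      obtain ⟨i, hi, hxi⟩ := hx
      intro c
      have h1 := DirectSum.coe_decompose_mul_add_of_right_mem (𝒜 := 𝒜) (a := c) (i := -i) hxi
      rw [neg_add_cancel] at h1
      rw [h1, pow_two]
      exact Ideal.mul_mem_mul (hfix (-i) (neg_ne_zero.2 hi) _ (DirectSum.decompose 𝒜 c (-i)).2) (hfix i hi x hxi)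
    | zero => intro c; simp
    | add x y _ _ hx hy => intro c; rw [mul_add, hadd]; exact add_mem (hx c) (hy c)
    | smul r x _ hx => intro c; rw [smul_eq_mul, ← mul_assoc]; exact hx _
  have hcomp : ∀ a : A, a - (DirectSum.decompose 𝒜 a 0 : A) ∈ m := by
    intro a
    induction a using DirectSum.Decomposition.inductionOn 𝒜 with
    | zero => simp
    | @homogeneous i y =>
      by_cases hi : i = 0
      · subst hi
        simp [DirectSum.decompose_of_mem_same 𝒜 y.2]
      · rw [DirectSum.decompose_of_mem_ne 𝒜 y.2 hi, sub_zero]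
        exact hfix i hi _ y.2
    | add a b ha hb =>
      rw [hadd, show a + b - ((DirectSum.decompose 𝒜 a 0 : A) + DirectSum.decompose 𝒜 b 0) =
        (a - DirectSum.decompose 𝒜 a 0) + (b - DirectSum.decompose 𝒜 b 0) by ring]
      exact add_mem ha hb
  obtain ⟨s, hs, hsf⟩ := hred f hfm
  have h0 : (DirectSum.decompose 𝒜 s 0 : A) * f ∈ m ^ 2 := by
    have h1 := hJ _ hsf 1
    rw [one_mul] at h1
    have h2 := DirectSum.coe_decompose_mul_add_of_right_mem (𝒜 := 𝒜) (a := s) (i := 0) hf0
    rw [add_zero] at h2
    rwa [h2] at h1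
  have hs0 : (DirectSum.decompose 𝒜 s 0 : A) ∉ m := fun h => hs (by simpa using add_mem (hcomp s) h)
  obtain ⟨u, v, hv, huv⟩ := (‹m.IsMaximal›).exists_inv hs0
  have : f = u * ((DirectSum.decompose 𝒜 s 0 : A) * f) + v * f := by linear_combination (-f) * huv
  rw [this]
  exact add_mem (Ideal.mul_mem_left _ _ h0) (pow_two m ▸ Ideal.mul_mem_mul hv hfm)

end Groth.Agent.S18790
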