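import Groth.Statements.S18791
import Mathlib.RingTheory.Nakayama
import Mathlib.RingTheory.Finiteness.Ideal
import Mathlib.RingTheory.Localization.AtPrime.Basic

set_option autoImplicit false
universe u v w x
open TorusGr

namespace Groth.Agent.S18791

/-- Let `φ : B → A` be a degree-preserving homomorphism of commutative algebras over a field `k` graded
by an additive commutative group `M` (for `M` the character group of a split torus, an equivariant
morphism `Spec A → Spec B`), and let `m` be a maximal ideal of `A` containing all homogeneous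
elements of non-zero degree (a fixed point). Then the ideal of those `b` whose image is zero in the
local ring `A_m` is homogeneous: the homogeneous (weight) components of such a `b` again die in
`A_m`. Since `A_m` embeds in its completion when `A` is Noetherian, these are the elements of `B`
that die in the completed local ring. (The published lemma asserts moreover that, for `B = k[Y_1, …,
Y_d]` mapping the `Y_i` to semi-invariant lifts of a basis of `m/m²`, the kernel of the induced
surjection of completions `k[[Y]] → Â_m` is generated by semi-invariant polynomials; generation of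
that kernel by polynomials can fail, so only the statement about polynomial elements of the kernel
is recorded here. The published statement has `M ≅ ℤ^r` (a split torus) and `B` the polynomial ring
on the lifts; here `M` is any additive commutative group and `B` any `M`-graded `k`-algebra.) -/
theorem result
    {k : Type u} [Field k] {M : Type v} [AddCommGroup M] [DecidableEq M]
    {A : Type w} [CommRing A] [Algebra k A] (𝒜 : M → Submodule k A) [GradedAlgebra 𝒜]
    {B : Type x} [CommRing B] [Algebra k B] (ℬ : M → Submodule k B) [GradedAlgebra ℬ]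
    (φ : B →ₐ[k] A) (hφ : ∀ i : M, ∀ b ∈ ℬ i, φ b ∈ 𝒜 i)
    (m : Ideal A) [m.IsMaximal] (hfix : ∀ i : M, i ≠ 0 → ∀ a ∈ 𝒜 i, a ∈ m) :
    (RingHom.ker ((algebraMap A (Localization.AtPrime m)).comp (φ : B →+* A))).IsHomogeneous ℬ := by
  classical
  have hcompat : ∀ (b : B) (i : M), (DirectSum.decompose 𝒜 (φ b) i : A) = φ (DirectSum.decompose ℬ b i : B) := by
    intro b i
    induction b using DirectSum.Decomposition.inductionOn ℬ with
    | zero => simp
    | @homogeneous j y =>
      by_cases hj : j = i
      · subst hj
        rw [DirectSum.decompose_of_mem_same 𝒜 (hφ _ _ y.2), DirectSum.decompose_of_mem_same ℬ y.2]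
      · rw [DirectSum.decompose_of_mem_ne 𝒜 (hφ _ _ y.2) hj, DirectSum.decompose_of_mem_ne ℬ y.2 hj, map_zero]
    | add a b ha hb => simp [DirectSum.decompose_add, ha, hb]
  intro j b hb
  rw [RingHom.mem_ker, RingHom.comp_apply] at hb ⊢
  obtain ⟨⟨s, hs⟩, hsx⟩ := (IsLocalization.map_eq_zero_iff m.primeCompl _ _).1 hb
  change s * φ b = 0 at hsx
  let S := (DirectSum.decompose 𝒜 (φ b)).support
  let N : Ideal A := Ideal.span ((fun i => (DirectSum.decompose 𝒜 (φ b) i : A)) '' (S : Set M))
  have hcomp : ∀ a : A, a - (DirectSum.decompose 𝒜 a 0 : A) ∈ m := by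
    intro a
    induction a using DirectSum.Decomposition.inductionOn 𝒜 with
    | zero => simp
    | @homogeneous i y =>
      by_cases hi : i = 0
      · subst hi
        simp [DirectSum.decompose_of_mem_same 𝒜 y.2]
      · rw [DirectSum.decompose_of_mem_ne 𝒜 y.2 hi, sub_zero]
        exact hfix i hi _ y.2
    | add a b ha hb =>
      simp only [DirectSum.decompose_add, DirectSum.add_apply, Submodule.coe_add]
      rw [show a + b - ((DirectSum.decompose 𝒜 a 0 : A) + DirectSum.decompose 𝒜 b 0) =
        (a - DirectSum.decompose 𝒜 a 0) + (b - DirectSum.decompose 𝒜 b 0) by ring]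
      exact add_mem ha hb
  have hs0 : (DirectSum.decompose 𝒜 s 0 : A) ∉ m := fun h => hs (by simpa using add_mem (hcomp s) h)
  have hkey : ∀ l : M, (DirectSum.decompose 𝒜 s 0 : A) * (DirectSum.decompose 𝒜 (φ b) l : A) ∈ m * N := by
    intro l
    have hterm : ∀ i : M, i ∈ S → i ≠ l →
        (DirectSum.decompose 𝒜 (s * (DirectSum.decompose 𝒜 (φ b) i : A)) l : A) ∈ m * N := fun i hi hil => by
      have h := DirectSum.coe_decompose_mul_add_of_right_mem (𝒜 := 𝒜) (a := s) (i := l - i)
        (DirectSum.decompose 𝒜 (φ b) i).2
      rw [sub_add_cancel] at h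
      rw [h]
      exact Ideal.mul_mem_mul (hfix _ (sub_ne_zero.2 (Ne.symm hil)) _ (DirectSum.decompose 𝒜 s (l - i)).2)
        (Ideal.subset_span ⟨i, hi, rfl⟩)
    by_cases hl : l ∈ S
    · have h0 : (∑ i ∈ S, (DirectSum.decompose 𝒜 (s * (DirectSum.decompose 𝒜 (φ b) i : A)) l : A)) = 0 := by
        rw [← Submodule.coe_sum, ← DFinsupp.finsetSum_apply, ← DirectSum.decompose_sum, ← Finset.mul_sum,
          DirectSum.sum_support_decompose 𝒜 (φ b), hsx, DirectSum.decompose_zero]
        rfl
      rw [← Finset.add_sum_erase _ _ hl] at h0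
      have h := DirectSum.coe_decompose_mul_add_of_right_mem (𝒜 := 𝒜) (a := s) (i := 0)
        (DirectSum.decompose 𝒜 (φ b) l).2
      rw [zero_add] at h
      rw [← h, eq_neg_of_add_eq_zero_left h0]
      exact neg_mem (sum_mem fun i hi => hterm i (Finset.mem_of_mem_erase hi) (Finset.ne_of_mem_erase hi))
    · have : (DirectSum.decompose 𝒜 (φ b) l : A) = 0 := by
        rw [DFinsupp.notMem_support_iff.1 hl]; rfl
      rw [this, mul_zero]
      exact zero_mem _
  let L := Localization.AtPrime m
  let N' : Ideal L := N.map (algebraMap A L)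
  have hN : N' = ⊥ := by
    refine Submodule.eq_bot_of_le_smul_of_le_jacobson_bot (IsLocalRing.maximalIdeal L) N'
      (Ideal.FG.map (Submodule.fg_span (S.finite_toSet.image _)) _) ?_ (IsLocalRing.maximalIdeal_le_jacobson _)
    rw [smul_eq_mul, ← Localization.AtPrime.map_eq_maximalIdeal (I := m), ← Ideal.map_mul]
    refine (Ideal.map_le_iff_le_comap).2 (Ideal.span_le.2 ?_)
    rintro _ ⟨i, -, rfl⟩
    have h := Ideal.mem_map_of_mem (algebraMap A L) (hkey i)
    rw [map_mul] at h
    exact (Ideal.unit_mul_mem_iff_mem _ (IsLocalization.map_units L (⟨_, hs0⟩ : m.primeCompl))).1 h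
  show algebraMap A L (φ (DirectSum.decompose ℬ b j : B)) = 0
  rw [← hcompat]
  by_cases hj : j ∈ S
  · have h : algebraMap A L (DirectSum.decompose 𝒜 (φ b) j : A) ∈ N' :=
      Ideal.mem_map_of_mem _ (Ideal.subset_span ⟨j, hj, rfl⟩)
    rwa [hN] at h
  · rw [DFinsupp.notMem_support_iff.1 hj]
    simp

end Groth.Agent.S18791
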