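import Groth.Statements.S18805
import Groth.Agent.CurveFF.Facts
import Groth.Agent.CurveCohLib.Clifford
import Groth.Agent.CurveCohLib.Nonspecial
import Groth.Agent.SlopeBound.Basic

set_option autoImplicit false
universe u
open CategoryTheory CategoryTheory.Limits AlgebraicGeometry
open Curves

namespace Groth.Agent.S18805

/-- Let k be an algebraically closed field of characteristic zero and X a smooth proper integral curve
over k (integral, proper and smooth over k, of dimension one), with sheaf of differentials ω =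
Ω_(X/k). Then ω is 3-very ample, meaning dim_k H^0(X, ω ⊗ I) + 4 = dim_k H^0(X, ω) for every
quasi-coherent ideal I of O_X with dim_k H^0(X, O_X/I) = 4, if and only if X carries no g^1_4,
meaning that for every such I (the ideal of an effective divisor D of degree 4) every module M with
I ⊗ M ≅ O_X (so M plays the role of O_X(D)) has dim_k H^0(X, M) = 1. -/
theorem result
    (k : Type u) [Field k] [IsAlgClosed k] [CharZero k]
    (X : Scheme.{u}) [X.Over (Spec (CommRingCat.of k))] [IsIntegral X]
    [IsProper (X ↘ Spec (CommRingCat.of k))] [Smooth (X ↘ Spec (CommRingCat.of k))]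
    (hdim : topologicalKrullDim X = 1) :
    (∀ (I : X.IdealSheafData), Module.finrank k (Coh.HH X (ClSub.quotMod I) 0) = 4 →
      Module.finrank k (Coh.HH X (CohB1.tensorMod (Omega.sheaf (X ↘ Spec (CommRingCat.of k))) (ClSub.idealMod I)) 0) + 4 =
        Module.finrank k (Coh.HH X (Omega.sheaf (X ↘ Spec (CommRingCat.of k))) 0)) ↔
    (∀ (I : X.IdealSheafData), Module.finrank k (Coh.HH X (ClSub.quotMod I) 0) = 4 →
      ∀ (M : X.Modules), ClSub.IsInverseOf (ClSub.idealMod I) M →
        Module.finrank k (Coh.HH X M 0) = 1) := by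
  haveI := Groth.Agent.CurveCohLib.isNoetherian_of_proper (k := k) (X := X)
  have hO := Groth.Agent.CurveCohLib.Clifford.finrank_h0_structure k (X := X)
  have key : ∀ (I : X.IdealSheafData), Module.finrank k (Coh.HH X (ClSub.quotMod I) 0) = 4 →
      PicF.IsInvertible (ClSub.idealMod I) ∧
      ∀ (M : X.Modules), ClSub.IsInverseOf (ClSub.idealMod I) M →
        (Module.finrank k (Coh.HH X (CohB1.tensorMod (Omega.sheaf (X ↘ Spec (CommRingCat.of k))) (ClSub.idealMod I)) 0) + 4 =
          Module.finrank k (Coh.HH X (Omega.sheaf (X ↘ Spec (CommRingCat.of k))) 0) ↔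
          Module.finrank k (Coh.HH X M 0) = 1) := by
    intro I hI4
    have hQc : Coh.IsCoh (ClSub.quotMod I) := Groth.Agent.ParShLib.isCoh_quotMod I
    have hOc : Coh.IsCoh (Coh.structureModule X) := Groth.Agent.QCoh.isCoh_structureModule'
    have hIc : Coh.IsCoh (ClSub.idealMod I) := Groth.Agent.QCoh.isCoh_kernel hOc hQc _
    have hS := Groth.Agent.CurveCohLib.Nonspecial.ideal_shortExact I
    have hO1 := Groth.Agent.InvEnd.isFinLocFreeOfRank_one (Groth.Agent.CurveDeg.isInvertible_structureModule (X := X))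
    haveI : Mono (ClSub.idealModι I) := hS.mono_f
    have hIf := Groth.Agent.CurveBundle.isFinLocFree_of_mono k hdim.le hIc (ClSub.idealModι I)
      (Groth.Agent.CurveStable.isFinLocFree_of_rank hO1)
    have hr := Groth.Agent.CurveSlope.rk_add_coh k _ _ _ hS hOc

    rw [Groth.Agent.CurveBundle.rk_eq hO1] at hr
    have hI1 : Groth.Agent.CurveBundle.rk (ClSub.idealMod I) = 1 := by
      by_contra hne
      have hz := Groth.Agent.CurveBundle.isZero_of_rk_zero hIf (show Groth.Agent.CurveBundle.rk (ClSub.idealMod I) = 0 by omega)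
      haveI : Mono (ClSub.toSubscheme I) :=
        hS.exact.mono_g (hz.eq_of_src _ _)
      haveI : Epi (ClSub.toSubscheme I) := hS.epi_g
      haveI : IsIso (ClSub.toSubscheme I) := isIso_of_mono_of_epi _
      have h1 := Groth.Agent.SlopeBound.finrank_h0_congr k (asIso (ClSub.toSubscheme I))
      rw [hO, hI4] at h1
      omega
    have hIr : FlatMod.IsFinLocFreeOfRank 1 (ClSub.idealMod I) :=
      hI1 ▸ Groth.Agent.CurveBundle.isFinLocFreeOfRank_rk hIf
    have hII := Groth.Agent.CurveDuality.isInvertible_of_rank_one hIr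
    refine ⟨hII, fun M hM => ?_⟩
    have hr' : 1 = Groth.Agent.CurveBundle.rk (ClSub.idealMod I) + Groth.Agent.CurveBundle.rk (ClSub.quotMod I) := hr
    rw [hI1] at hr'
    haveI := Groth.Agent.CurveDuality.subsingleton_HH_of_rk_zero k hdim hQc
      (show Groth.Agent.CurveBundle.rk (ClSub.quotMod I) = 0 by omega) 0
    have hχQ := Groth.Agent.CurveDuality.euler_eq k hdim hQc
    rw [hI4, Module.finrank_zero_of_subsingleton (R := k) (M := Coh.HH X (ClSub.quotMod I) (0 + 1))] at hχQ
    have hadd := Groth.Agent.CurveBundle.euler_add' k _ _ _ hS hIc hOc hQc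
    have hdI : Curv2.deg k X (ClSub.idealMod I) 1 = -4 := by
      unfold Curv2.deg
      rw [hadd, hχQ]
      push_cast
      ring
    have hMI := Groth.Agent.CurveFF.isInvertible_of_inverse k hdim hII hM
    have hdM := Groth.Agent.CurveFF.deg_inverse k hdim hII hMI hM
    rw [hdI] at hdM
    obtain ⟨e⟩ := hM
    have e' : (DCoh.tensorBi.obj M).obj (ClSub.idealMod I) ≅ Coh.structureModule X :=
      Groth.Agent.CurveTensor.commIso M (ClSub.idealMod I) ≪≫ e
    have h1 : Module.finrank k (Coh.HH X M 1) = Module.finrank k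
        (Coh.HH X (CohB1.tensorMod (Omega.sheaf (X ↘ Spec (CommRingCat.of k))) (ClSub.idealMod I)) 0) :=
      Groth.Agent.CurveFF.finrank_h1_eq k hdim hMI e'
    have h2 := Groth.Agent.CurveCohLib.Clifford.deg_eq k hdim hMI
    rw [h1, hdM] at h2
    rw [(Groth.Agent.CurveFF.canonical_invariants k X hdim).1]
    constructor <;> intro h <;> omega
  constructor
  · intro h I hI M hM
    exact ((key I hI).2 M hM).1 (h I hI)
  · intro h I hI
    obtain ⟨M, hM, -, ⟨e⟩⟩ := Groth.Agent.CurveDuality.exists_inverse_deg k hdim (key I hI).1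
    exact ((key I hI).2 M ⟨e⟩).2 (h I hI M ⟨e⟩)

end Groth.Agent.S18805
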