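import Groth.Statements.S18840
import Groth.Agent.SlopeBound.Basic
import Groth.Agent.S1530

set_option autoImplicit false
universe u
open CategoryTheory CategoryTheory.Limits AlgebraicGeometry Polynomial
open VBCurve
open Groth.Agent Groth.Agent.CurveBundle Groth.Agent.CurveSlope Groth.Agent.CurveStable
  Groth.Agent.CurveDuality

namespace Groth.Agent.S18840

/-- Let k be an algebraically closed field of characteristic zero, X a smooth projective integral curve
over k with an ample invertible sheaf L, N ≥ 0 and P a rational polynomial. There is an integer l,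
depending only on X, L, N and P, such that for every vector bundle F of rank r ≥ 1 on X which is a
quotient of O_X^N with Hilbert polynomial P (with respect to L), F is slope-semistable if and only
if dim H^0(X, F'(l)) / r' ≤ dim H^0(X, F(l)) / r for every sub-bundle (finite locally free
submodule) F' ⊂ F of rank r' ≥ 1; here G(l) = G ⊗ L^(⊗l). The source polarises X by a very ample
O_X(1); only the positivity of its degree enters, so an ample L is taken. -/
theorem result (k : Type u) [Field k] [IsAlgClosed k] [CharZero k]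
    (X : Scheme.{u}) [X.Over (Spec (CommRingCat.of k))]
    [IsIntegral X] [IsProper (X ↘ Spec (CommRingCat.of k))] [Smooth (X ↘ Spec (CommRingCat.of k))]
    (hdim : topologicalKrullDim X = 1)
    (L : X.Modules) (hLi : PicF.IsInvertible L) (hL : CohB1.IsAmple L)
    (N : ℕ) (P : ℚ[X]) :
    ∃ l : ℕ, ∀ (r : ℕ) (F : X.Modules) (q : FlatMod.freeMod X N ⟶ F),
      0 < r → FlatMod.IsFinLocFreeOfRank r F → Epi q → ShStab.IsHilbPoly k X L F P →
        (ModFun.IsSlopeSemistable k X F r ↔
          ∀ (F' : X.Modules) (r' : ℕ) (i : F' ⟶ F), Mono i → 0 < r' → FlatMod.IsFinLocFreeOfRank r' F' →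
            (Module.finrank k (Coh.HH X (ShStab.twist X L F' l) 0) : ℚ) / (r' : ℚ) ≤
              (Module.finrank k (Coh.HH X (ShStab.twist X L F l) 0) : ℚ) / (r : ℚ)) := by
  classical
  haveI := CurveCohLib.isNoetherian_of_proper (k := k) (X := X)
  haveI : ConnectedSpace X := inferInstance
  have hO := CurveCohLib.finrank_h0_eq_one k X
  have hd : 0 < Curv2.deg k X L 1 := (S1530.result k X hdim L hLi).1 hL
  have hfree := SlopeBound.isFinLocFreeOfRank_freeMod (X := X) N
  have hfreef := isFinLocFree_of_rank hfree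
  obtain ⟨g, hg⟩ : ∃ g : ℤ, g = (Curv2.genus k X : ℤ) := ⟨_, rfl⟩
  have hg0 : 0 ≤ g := hg ▸ Int.natCast_nonneg _
  obtain ⟨C, hC⟩ : ∃ C : ℤ, C = |(Module.finrank k (Coh.HH X (FlatMod.freeMod X N) 0) : ℤ)| +
      (N : ℤ) * (g + 1) + 2 * g + |dg k (FlatMod.freeMod X N)| + 2 * ((N : ℤ) + 2) * (g + 1) +
      |⌊P.eval (0 : ℚ)⌋| + 1 := ⟨_, rfl⟩
  refine ⟨C.toNat, fun r F q hr hF hq hP => ?_⟩
  haveI := hq
  generalize hl : C.toNat = l
  have hFf := isFinLocFree_of_rank hF
  have hrF := rk_eq hF
  have hFc := coh_of_free k hFf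
  have hPl := InvX.isInvertible_tensorPow hLi l
  have hPlf := isFinLocFree_of_rank (InvEnd.isFinLocFreeOfRank_one hPl)
  obtain ⟨d, hd'⟩ : ∃ d : ℤ, Curv2.deg k X (CohB1.tensorPow L l) 1 = d := ⟨_, rfl⟩
  have hdl : C ≤ d := by
    rw [← hd', IntNum.deg_tensorPow k hdim hLi l]
    have h1 : C ≤ (l : ℤ) := hl ▸ Int.self_le_toNat C
    exact h1.trans (le_mul_of_one_le_right (Int.natCast_nonneg l) (by omega))
  let eT : ∀ G : X.Modules, ShStab.twist X L G l ≅
      (DCoh.tensorBi.obj (CohB1.tensorPow L l)).obj G := fun G =>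
    CurveTensor.commIso G (CohB1.tensorPow L l)
  let T := DCoh.tensorBi.obj (CohB1.tensorPow L l)
  have hdT : ∀ G : X.Modules, FlatMod.IsFinLocFree G → FlatMod.IsFinLocFree (T.obj G) ∧
      rk (T.obj G) = rk G ∧ dg k (T.obj G) = dg k G + (rk G : ℤ) * d := fun G hG =>
    ⟨KFlatLib.isFinLocFree_tensor hPlf hG, (dg_tensor_line k hdim hPl hG).1,
      hd' ▸ (dg_tensor_line k hdim hPl hG).2⟩
  obtain ⟨hTF, hrTF, hdTF⟩ := hdT F hFf
  rw [hrF] at hrTF hdTF
  have hKc : Coh.IsCoh (kernel q) := QCoh.isCoh_kernel (coh_of_free k hfreef) hFc q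
  have hrN : r ≤ N := by
    have := rk_add_coh k _ _ _ (shortExact_kernel_of_epi q) (coh_of_free k hfreef)
    rw [rk_eq hfree, hrF] at this
    omega
  have hdF : |dg k F| ≤ |⌊P.eval (0 : ℚ)⌋| + (N : ℤ) * (g + 1) := by
    have h0 := hP 0
    have e : ShStab.twist X L F 0 ≅ F :=
      CurveTensor.commIso F (Coh.structureModule X) ≪≫ CurveTensor.structureTensorIso F
    rw [Euler.euler_congr k e, Nat.cast_zero] at h0
    have hfl : ⌊P.eval (0 : ℚ)⌋ = Curv2.euler k X F := by rw [← h0, Int.floor_intCast]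
    unfold dg
    rw [hrF, hfl, CurveRR.euler_structureModule k hdim.le, ← hg]
    calc |Curv2.euler k X F - (r : ℤ) * (1 - g)|
        ≤ |Curv2.euler k X F| + |(r : ℤ) * (1 - g)| := abs_sub _ _
      _ ≤ _ := by
        refine add_le_add le_rfl ?_
        rw [abs_mul, Nat.abs_cast]
        exact mul_le_mul (by exact_mod_cast hrN) (abs_le.2 ⟨by omega, by omega⟩) (abs_nonneg _)
          (Int.natCast_nonneg _)
  have h1F : Subsingleton (Coh.HH X (T.obj F) 1) := by
    haveI : Subsingleton (Coh.HH X (T.obj (FlatMod.freeMod X N)) 1) := by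
      have hs : Subsingleton (Coh.HH X
          ((DCoh.tensorBi.obj (FlatMod.freeMod X N)).obj (CohB1.tensorPow L l)) 1) := by
        refine subsingleton_HH_one_twist k hO hdim hfreef hPl fun K i hi hK hrk => ?_
        haveI := hi
        rw [hd', ← hg]
        have h1 := dg_le_h0 k hdim.le i (coh_of_free k hK) (coh_of_free k hfreef)
        rw [CurveRR.euler_structureModule k hdim.le, ← hg] at h1
        rw [rk_eq hfree] at hrk
        have h2 : (rk K : ℤ) ≤ N := by omega
        have h3 := mul_le_mul_of_nonneg_right h2 (show (0 : ℤ) ≤ g + 1 by omega)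
        have h4 : (0 : ℤ) ≤ rk K := Int.natCast_nonneg _
        have h5 := le_abs_self (Module.finrank k (Coh.HH X (FlatMod.freeMod X N) 0) : ℤ)
        have h6 := neg_abs_le (dg k (FlatMod.freeMod X N))
        have h7 := abs_nonneg (⌊P.eval (0 : ℚ)⌋)
        have h8 : (0 : ℤ) ≤ ((N : ℤ) + 2) * (g + 1) := by positivity
        linarith
      exact (CurveCohLib.hhEquiv (k := k) (CurveTensor.commIso (FlatMod.freeMod X N)
        (CohB1.tensorPow L l)) 1).toEquiv.symm.injective.subsingleton
    have hS := CurveTensor.shortExact_tensor hPlf _ _ _ (shortExact_kernel_of_epi q)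
    exact (surjective_HH_one_g k hdim hS (CurveTensor.isCoh_tensor hPlf hKc).1).subsingleton
  have hh0 := SlopeBound.finrank_h0_eq k hdim hTF h1F
  rw [hrTF, ← hg] at hh0
  have key : ∀ (G : X.Modules) (r' : ℕ) (i : G ⟶ F), Mono i → 0 < r' →
      FlatMod.IsFinLocFreeOfRank r' G →
      ((Module.finrank k (Coh.HH X (ShStab.twist X L G l) 0) : ℚ) / (r' : ℚ) ≤
        (Module.finrank k (Coh.HH X (ShStab.twist X L F l) 0) : ℚ) / (r : ℚ) ↔
      (Module.finrank k (Coh.HH X (T.obj G) 0) : ℤ) * (r : ℤ) ≤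
        (r' : ℤ) * (dg k (T.obj F) + (r : ℤ) * (1 - g))) := fun G r' i _ hr' _ => by
    rw [SlopeBound.finrank_h0_congr k (eT G), SlopeBound.finrank_h0_congr k (eT F), ← hh0,
      div_le_div_iff₀ (by exact_mod_cast hr') (by exact_mod_cast hr)]
    constructor
    · intro h
      have h' : ((Module.finrank k (Coh.HH X (T.obj G) 0) : ℤ) * (r : ℤ)) ≤
          (Module.finrank k (Coh.HH X (T.obj F) 0) : ℤ) * (r' : ℤ) := by exact_mod_cast h
      linarith
    · intro h
      have h' : ((Module.finrank k (Coh.HH X (T.obj G) 0) : ℤ) * (r : ℤ)) ≤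
          (Module.finrank k (Coh.HH X (T.obj F) 0) : ℤ) * (r' : ℤ) := by linarith
      exact_mod_cast h'
  constructor
  · intro hss G r' i hi hr' hG
    rw [key G r' i hi hr' hG]
    haveI := hi
    have hGf := isFinLocFree_of_rank hG
    obtain ⟨hTG, hrTG, -⟩ := hdT G hGf
    rw [rk_eq hG] at hrTG
    haveI : Mono (T.map i) :=
      (CurveTensor.shortExact_tensor hPlf _ _ _ (shortExact_cokernel_of_mono i)).mono_f
    have hmain := SlopeBound.finrank_h0_slope k hdim N r hr (dg k (T.obj F)) ?_ (T.obj G) hTG ?_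
      fun K j hj hK => ?_
    · rwa [hrTG, ← hg] at hmain
    · rw [hdTF, ← hg]
      have h1 := mul_le_mul_of_nonneg_left hdl (Int.natCast_nonneg r)
      have h2 := neg_abs_le (dg k F)
      have h3 : (1 : ℤ) ≤ r := by exact_mod_cast hr
      have h4 : 0 ≤ |(Module.finrank k (Coh.HH X (FlatMod.freeMod X N) 0) : ℤ)| + 2 * g +
          |dg k (FlatMod.freeMod X N)| + 1 := by positivity
      have h5 := mul_le_mul_of_nonneg_right h3
        (show (0 : ℤ) ≤ C - 2 * ((N : ℤ) + 2) * (g + 1) by
          rw [hC]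
          have : 0 ≤ (N : ℤ) * (g + 1) + |⌊P.eval (0 : ℚ)⌋| := by positivity
          linarith)
      rw [one_mul] at h5
      linarith
    · rw [hrTG]
      have := rk_le_of_mono k i hFc
      rw [rk_eq hG, hrF] at this
      omega
    · haveI := hj
      obtain ⟨K', j', hj', hK', hr'', hd''⟩ := SlopeBound.exists_untwist k hdim hPl hK (j ≫ T.map i)
      haveI := hj'
      have := dg_mul_le_of_ss k hdim.le hF hss j' (coh_of_free k hK')
      rw [hd', hr''] at *
      rw [hd''] at this
      rw [hdTF]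
      linarith
  · intro h G r' i hi hr' hG
    have h' := (key G r' i hi hr' hG).1 (h G r' i hi hr' hG)
    have hGf := isFinLocFree_of_rank hG
    obtain ⟨hTG, hrTG, hdTG⟩ := hdT G hGf
    rw [rk_eq hG] at hrTG hdTG
    have h1 := euler_le_h0 k hdim.le (coh_of_free k hTG)
    have h2 : dg k (T.obj G) = Curv2.euler k X (T.obj G) - (r' : ℤ) * (1 - g) := by
      unfold dg
      rw [hrTG, CurveRR.euler_structureModule k hdim.le, ← hg]
    have h3 := mul_le_mul_of_nonneg_right h1 (Int.natCast_nonneg r)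
    rw [deg_eq_dg k hG, deg_eq_dg k hF]
    have h4 : Curv2.euler k X (T.obj G) = dg k G + (r' : ℤ) * d + (r' : ℤ) * (1 - g) := by linarith
    rw [h4] at h3
    rw [hdTF] at h'
    linarith

end Groth.Agent.S18840
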