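import Groth.Statements.S18847
import Groth.Agent.TFQuot7.Rows
import Groth.Agent.KRR7.PullModel

set_option autoImplicit false
set_option backward.isDefEq.respectTransparency false
set_option backward.isDefEq.respectTransparency.types false
universe u
open CategoryTheory CategoryTheory.Limits AlgebraicGeometry
open TFOne

namespace Groth.Agent.S18847

/-- Let R be a discrete valuation ring with residue field κ, f : X ⟶ Spec R flat and proper, and X_s its
special fibre, assumed reduced of pure dimension one with geometrically integral irreducible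
components over κ. Let I be a coherent R-flat module on X whose restriction I(s) to X_s is
torsion-free rank-1, E a locally free module of rank r > 0 on X with restriction E(s), and d an
integer with χ(I(s)) = d and deg E(s) = -r·d. For a closed subset T of X_s write I(s)_T for the
torsion-free quotient of I(s) on T (pinned by its defining property) and β(T) := r·χ(I(s)_T) +
deg(E(s)|_T) (the source's β cleared of the denominator r). Let Y be a closed subcurve of X_s (a
non-empty union of irreducible components), and let I^Y be the kernel of the composite I ⟶ i_* I(s)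
⟶ i_* I(s)_Y, with restriction I^Y(s) to X_s and quotients I^Y(s)_T and numbers β^Y(T) :=
r·χ(I^Y(s)_T) + deg(E(s)|_T) defined likewise. Assume that Y is the largest closed subcurve of X_s
on which β is minimal: β(Y) ≤ β(T) for every closed subcurve T of X_s, and every closed subcurve T
with β(T) = β(Y) is contained in Y. Then for every closed subcurve Z of X_s one has β(Y) ≤ β^Y(Z),
and β^Y(Z) = β(Y) only if Z ⊆ Y. (The source takes f projective.) -/
theorem result (R : Type u) [CommRing R] [IsDomain R] [IsDiscreteValuationRing R] (X : Scheme.{u}) (f : X ⟶ Spec (CommRingCat.of R)) [Flat f] [IsProper f] (Xs : Scheme.{u}) [Xs.Over (Spec (CommRingCat.of (IsLocalRing.ResidueField R)))] (i : Xs ⟶ X) (hsq : IsPullback i (Xs ↘ Spec (CommRingCat.of (IsLocalRing.ResidueField R))) f (Spec.map (CommRingCat.ofHom (IsLocalRing.residue R)))) [IsReduced Xs] (hpure : ∀ C ∈ irreducibleComponents (Xs : Type u), topologicalKrullDim C = 1) (hgi : ∀ (C : Set Xs) (hC : C ∈ irreducibleComponents (Xs : Type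 u)), GeometricallyIntegral (VecSt.subschι Xs C (isClosed_of_mem_irreducibleComponents C hC) ≫ (Xs ↘ Spec (CommRingCat.of (IsLocalRing.ResidueField R))))) (I : X.Modules) (hIc : Coh.IsCoh I) (hIf : FlatMod.IsFlatOver f I) (hIs : TFOne.IsTF1 Xs ((Scheme.Modules.pullback i).obj I)) (E : X.Modules) (r : ℕ) (hr : 0 < r) (hE : FlatMod.IsFinLocFreeOfRank r E) (d : ℤ) (hχ : Curv2.euler (IsLocalRing.ResidueField R) Xs ((Scheme.Modules.pullback i).obj I) = d) (hEd : Curv2.deg (IsLocalRing.ResidueField R) Xs ((Scheme.Modules.pullback i).obj E) r = -(r : ℤ) * d) (Y : Set Xs) (hY : IsClosed Y) (hYs : VecSt.IsSubcurve Xs Y) (GY : Xs.Modules) (πY : ((Scheme.Modules.pullback i).obj I) ⟶ GY) (hGY : TFOne.IsQuotOn Xs ((Scheme.Modules.pullback i).obj I) Y GY πY) (IY : X.Modules) (hIY : IY = kernel ((Scheme.Modules.pullbackPushforwardAdjunction i).unit.app I ≫ (Scheme.Modules.pushforward i).map πY)) (hmin : ∀ (T : Set Xs) (hT : IsClosed T), VecSt.IsSubcurve Xs T → ∀ (G : Xs.Modules) (π : ((Scheme.Modules.pullback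 i).obj I) ⟶ G), TFOne.IsQuotOn Xs ((Scheme.Modules.pullback i).obj I) T G π → TFOne.rBeta Xs (IsLocalRing.ResidueField R) (Xs ↘ Spec (CommRingCat.of (IsLocalRing.ResidueField R))) Y hY ((Scheme.Modules.pullback i).obj E) r GY ≤ TFOne.rBeta Xs (IsLocalRing.ResidueField R) (Xs ↘ Spec (CommRingCat.of (IsLocalRing.ResidueField R))) T hT ((Scheme.Modules.pullback i).obj E) r G) (hmax : ∀ (T : Set Xs) (hT : IsClosed T), VecSt.IsSubcurve Xs T → ∀ (G : Xs.Modules) (π : ((Scheme.Modules.pullback i).obj I) ⟶ G), TFOne.IsQuotOn Xs ((Scheme.Modules.pullback i).obj I) T G π → TFOne.rBeta Xs (IsLocalRing.ResidueField R) (Xs ↘ Spec (CommRingCat.of (IsLocalRing.ResidueField R))) T hT ((Scheme.Modules.pullback i).obj E) r G = TFOne.rBeta Xs (IsLocalRing.ResidueField R) (Xs ↘ Spec (CommRingCat.of (IsLocalRing.ResidueField R))) Y hY ((Scheme.Modules.pullback i).obj E) r GY → T ⊆ Y) (Z : Set Xs) (hZ : IsClosed Z) (hZs : VecSt.IsSubcurve Xs Z) (GZ1 : Xs.Modules) (πZ1 : ((Scheme.Modules.pullback i).obj IY)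 ⟶ GZ1) (hGZ1 : TFOne.IsQuotOn Xs ((Scheme.Modules.pullback i).obj IY) Z GZ1 πZ1) : TFOne.rBeta Xs (IsLocalRing.ResidueField R) (Xs ↘ Spec (CommRingCat.of (IsLocalRing.ResidueField R))) Y hY ((Scheme.Modules.pullback i).obj E) r GY ≤ TFOne.rBeta Xs (IsLocalRing.ResidueField R) (Xs ↘ Spec (CommRingCat.of (IsLocalRing.ResidueField R))) Z hZ ((Scheme.Modules.pullback i).obj E) r GZ1 ∧ (TFOne.rBeta Xs (IsLocalRing.ResidueField R) (Xs ↘ Spec (CommRingCat.of (IsLocalRing.ResidueField R))) Z hZ ((Scheme.Modules.pullback i).obj E) r GZ1 = TFOne.rBeta Xs (IsLocalRing.ResidueField R) (Xs ↘ Spec (CommRingCat.of (IsLocalRing.ResidueField R))) Y hY ((Scheme.Modules.pullback i).obj E) r GY → Z ⊆ Y) := by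
  haveI := hGY.1
  obtain ⟨hp, δ, γ, hmod⟩ := Groth.Agent.TFQuot7.exists_isModif f i hsq hIc hIf hGY.2.1 πY hIY
  haveI := hp
  haveI := Groth.Agent.CurveCohLib.isNoetherian_of_proper (k := IsLocalRing.ResidueField R) (X := Xs)
  have hEs := Groth.Agent.KRR7.isFinLocFreeOfRank_pullback i hE
  have hYu := Groth.Agent.TFQuot7.IsUC.of_subcurve hYs
  have hZu := Groth.Agent.TFQuot7.IsUC.of_subcurve hZs
  have hmu := Groth.Agent.TFQuot7.isUC_sUnion (X := Xs) (fun C => C ⊆ Y ∩ Z)
  obtain ⟨GW, πW, hGW⟩ := Groth.Agent.TFQuot7.exists_quotOn hIs hmu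
  obtain ⟨GU, πU, hGU⟩ := Groth.Agent.TFQuot7.exists_quotOn hIs (hYu.union hZu)
  obtain ⟨h, -⟩ := Groth.Agent.TFQuot7.beta_modif_ge (k := IsLocalRing.ResidueField R) hmod hIs hGY hpure hEs hY hYu hZ hZu hmu.isClosed rfl
    hGZ1 hGW hGU
  obtain ⟨y, -, hy⟩ := Groth.Agent.TFQuot7.exists_generic_of_subcurve hYs
  have hq := Groth.Agent.TFQuot7.quot_univ hIs
  have h0 := hmin Set.univ isClosed_univ (Groth.Agent.TFQuot7.isUC_univ.subcurve ⟨y, trivial⟩) _ _ hq
  have hu := Groth.Agent.TFQuot7.beta_univ hIs hEs hχ hEd hq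
  have hU := hmin _ (hY.union hZ) ((hYu.union hZu).subcurve ⟨y, Or.inl hy⟩) GU πU hGU
  have hW : Groth.Agent.TFQuot7.beta (IsLocalRing.ResidueField R) ((Scheme.Modules.pullback i).obj E) r Y hY GY ≤
      Groth.Agent.TFQuot7.beta (IsLocalRing.ResidueField R) ((Scheme.Modules.pullback i).obj E) r _ hmu.isClosed GW := by
    rcases Set.eq_empty_or_nonempty (⋃₀ {C | C ∈ irreducibleComponents (Xs : Type u) ∧ C ⊆ Y ∩ Z}) with he | he
    · have hW0 : Groth.Agent.TFQuot7.beta (IsLocalRing.ResidueField R) ((Scheme.Modules.pullback i).obj E) r _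
          hmu.isClosed GW = 0 := by
        revert GW
        generalize hmu.isClosed = hc
        revert hc
        rw [he]
        intro hc GW πW hGW _
        exact Groth.Agent.TFQuot7.beta_empty hEs hc hGW
      rw [hW0]
      exact h0.trans hu.le
    · exact hmin _ hmu.isClosed (hmu.subcurve he) GW πW hGW
  change Groth.Agent.TFQuot7.beta (IsLocalRing.ResidueField R) ((Scheme.Modules.pullback i).obj E) r Y hY GY ≤
      Groth.Agent.TFQuot7.beta (IsLocalRing.ResidueField R) ((Scheme.Modules.pullback i).obj E) r (Y ∪ Z) (hY.union hZ) GU at hU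
  change Groth.Agent.TFQuot7.beta (IsLocalRing.ResidueField R) ((Scheme.Modules.pullback i).obj E) r Y hY GY ≤
      Groth.Agent.TFQuot7.beta (IsLocalRing.ResidueField R) ((Scheme.Modules.pullback i).obj E) r Z hZ GZ1 ∧
    (Groth.Agent.TFQuot7.beta (IsLocalRing.ResidueField R) ((Scheme.Modules.pullback i).obj E) r Z hZ GZ1 =
      Groth.Agent.TFQuot7.beta (IsLocalRing.ResidueField R) ((Scheme.Modules.pullback i).obj E) r Y hY GY → Z ⊆ Y)
  refine ⟨by omega, fun heq => Set.subset_union_right.trans (hmax _ (hY.union hZ)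
    ((hYu.union hZu).subcurve ⟨y, Or.inl hy⟩) GU πU hGU ?_)⟩
  change Groth.Agent.TFQuot7.beta (IsLocalRing.ResidueField R) ((Scheme.Modules.pullback i).obj E) r (Y ∪ Z) (hY.union hZ) GU =
      Groth.Agent.TFQuot7.beta (IsLocalRing.ResidueField R) ((Scheme.Modules.pullback i).obj E) r Y hY GY
  omega

end Groth.Agent.S18847
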