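import Groth.Statements.S18851
import Groth.Agent.TFGeo7.Main

set_option autoImplicit false
set_option backward.isDefEq.respectTransparency false
set_option backward.isDefEq.respectTransparency.types false
universe u
open CategoryTheory CategoryTheory.Limits AlgebraicGeometry
open TFOne

namespace Groth.Agent.S18851

/-- Let R be a discrete valuation ring with fraction field K and residue field κ, f : X ⟶ Spec R flat
and proper with generic fibre X_K (a cartesian square over Spec K ⟶ Spec R with top arrow j) and
special fibre X_s (a cartesian square over Spec κ ⟶ Spec R), the latter reduced of pure dimension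
one with geometrically integral irreducible components over κ. Let I be a relatively torsion-free
rank-1 module on X over Spec R (R-flat, finitely presented, torsion-free rank-1 on every geometric
fibre), E a locally free module of rank r > 0 on X, and d an integer with χ(I(s)) = d and deg E(s) =
-r·d for the restrictions to X_s. If j^* I is simple and semistable with respect to j^* E on every
geometric fibre of X_K over Spec K, then there is a relatively torsion-free rank-1 module I' on X
over Spec R with j^* I' ≅ j^* I which is both simple and semistable with respect to E on every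
geometric fibre of f. (The source's proof starts from an arbitrary extension, the form stated here;
the source takes f projective.) -/
theorem result (R : Type u) [CommRing R] [IsDomain R] [IsDiscreteValuationRing R] (X : Scheme.{u}) (f : X ⟶ Spec (CommRingCat.of R)) [Flat f] [IsProper f] (Xs : Scheme.{u}) [Xs.Over (Spec (CommRingCat.of (IsLocalRing.ResidueField R)))] (i : Xs ⟶ X) (hsq : IsPullback i (Xs ↘ Spec (CommRingCat.of (IsLocalRing.ResidueField R))) f (Spec.map (CommRingCat.ofHom (IsLocalRing.residue R)))) [IsReduced Xs] (hpure : ∀ C ∈ irreducibleComponents (Xs : Type u), topologicalKrullDim C = 1) (hgi : ∀ (C : Set Xs) (hC : C ∈ irreducibleComponents (Xs : Type u)), GeometricallyIntegral (VecSt.subschι Xs C (isClosed_of_mem_irreducibleComponents C hC) ≫ (Xs ↘ Spec (CommRingCat.of (IsLocalRing.ResidueField R))))) (Xg : Scheme.{u}) [Xg.Over (Spec (CommRingCat.of (FractionRing R)))] (j : Xg ⟶ X) (hgen : IsPullback j (Xg ↘ Spec (CommRingCat.of (FractionRing R))) f (Spec.map (CommRingCat.ofHom (algebraMap R (FractionRing R))))) (I : X.Modules) (hI : TFOne.IsRelTF1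 f I) (E : X.Modules) (r : ℕ) (hr : 0 < r) (hE : FlatMod.IsFinLocFreeOfRank r E) (d : ℤ) (hχ : Curv2.euler (IsLocalRing.ResidueField R) Xs ((Scheme.Modules.pullback i).obj I) = d) (hEd : Curv2.deg (IsLocalRing.ResidueField R) Xs ((Scheme.Modules.pullback i).obj E) r = -(r : ℤ) * d) (hIg1 : TFOne.FibSimple (Xg ↘ Spec (CommRingCat.of (FractionRing R))) ((Scheme.Modules.pullback j).obj I)) (hIg2 : TFOne.FibSemistable (Xg ↘ Spec (CommRingCat.of (FractionRing R))) ((Scheme.Modules.pullback j).obj I) ((Scheme.Modules.pullback j).obj E) r) : ∃ I' : X.Modules, TFOne.IsRelTF1 f I' ∧ Nonempty ((Scheme.Modules.pullback j).obj I' ≅ ((Scheme.Modules.pullback j).obj I)) ∧ TFOne.FibSimple f I' ∧ TFOne.FibSemistable f I' E r := by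
  haveI := TFGeo7.nonempty_special (f := f) hsq hpure hgi hgen hIg1
  haveI := TFGeo7.proper_special f hsq
  haveI := CurveCohLib.isNoetherian_of_proper (k := IsLocalRing.ResidueField R) (X := Xs)
  obtain ⟨J₀, hJ₀, hb₀⟩ := TFGeo7.exists_blb_zero (f := f) hsq hpure hgi hgen hE hχ hEd hr hI hIg2
  have hEs := KRR7.isFinLocFreeOfRank_pullback i hE
  rcases TFGeo7.exists_indecomposable_or (J₀ := J₀) hsq hgi hgen
      (fun J => TFGeo7.BLB (IsLocalRing.ResidueField R) ((Scheme.Modules.pullback i).obj E) r
        ((Scheme.Modules.pullback i).obj J) 0) hJ₀ hb₀ (fun J T hJ hb hTu hne hne' hd G π hG => by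
        obtain ⟨-, δ, γ, hmod⟩ := TFGeo7.good_step hsq hgi hgen hJ hG
        have ht := hJ.tf hsq hgi
        exact TFGeo7.blb_modif hEs hmod ht hG hpure hTu.isClosed hTu hb
          (TFGeo7.beta_dec_zero hEs hpure ht (hJ.2.2.trans hχ) hEd hb _ hTu hne hne' hd hG))
    with ⟨J, hJ, hb, hd⟩ | ⟨T, P, hTu, hne, hne', hex, hP⟩
  · exact ⟨J, hJ.1, hJ.2.1, TFGeo7.fibSimple_of_special (f := f) hsq hgi hgen hJ hd hIg1,
      TFGeo7.fibSemistable_of_special (f := f) hsq hpure hgi hgen hE hJ hb hIg2⟩
  · exact (TFGeo7.false_of_stable_dec (f := f) hsq hpure hgi hgen hTu hne hne' P hex hP hIg1).elim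

end Groth.Agent.S18851
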