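import Groth.Statements.S18863
import Groth.Agent.TorsLim.GrpLimit
import Groth.Agent.TorsLim.Torsor
import Groth.Agent.MorLib.LimExists
-- import your own Groth.Agent.* helpers here

set_option autoImplicit false
universe u
open CategoryTheory CategoryTheory.Limits MonoidalCategory CartesianMonoidalCategory MonObj GrpObj AlgebraicGeometry
open NonAbH1

namespace Groth.Agent.S18863

/-- Let k be a field and X a quasi-compact k-scheme. Let (G_i)_{i ∈ I} be a cofiltered inverse system of
affine group schemes of finite type over k with limit G in the category of k-group schemes (a limit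
cone of homomorphisms G → G_i), and (T_i)_{i ∈ I} an inverse system of X-schemes such that each T_i
is a torsor over X for the fpqc topology under the base change of G_i to X and each transition map
T_j → T_i is equivariant along G_j → G_i. Let T be a limit of the T_i over X, with an action of the
base change of G to X for which every projection T → T_i is equivariant along G → G_i. Then T is a
torsor over X under the base change of G for the fpqc topology. (The source indexes the system by a
directed partially ordered set and also records that T is pointed over a rational point of X when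
all the T_i are; the limit scheme, the limit group and the limit action, which exist and are unique,
are taken here as data.) -/
theorem result (k : Type u) [Field k]
    (X : Scheme.{u}) [X.Over (Spec (CommRingCat.of k))] [CompactSpace X]
    {I : Type u} [SmallCategory I] [IsCofiltered I]
    (DG : I ⥤ Grp (Over (Spec (CommRingCat.of k))))
    [∀ i, IsAffineHom (DG.obj i).X.hom] [∀ i, LocallyOfFiniteType (DG.obj i).X.hom]
    (cG : Cone DG) (hcG : IsLimit cG)
    (DT : I ⥤ Over X)
    (aT : ∀ i, AlgGrp.Action (Red.bc (X ↘ Spec (CommRingCat.of k)) (DG.obj i).X) (DT.obj i))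
    (hT : ∀ i, NonAbH1.IsTorsorFor Scheme.fpqcPrecoverage (aT i))
    (hDT : ∀ (i j : I) (φ : i ⟶ j), AlgGrp.Action.IsEquivariant (aT i)
      ((aT j).restrict ((Over.pullback (X ↘ Spec (CommRingCat.of k))).map (DG.map φ).hom.hom)) (DT.map φ))
    (cT : Cone DT) (hcT : IsLimit cT)
    (a : AlgGrp.Action (Red.bc (X ↘ Spec (CommRingCat.of k)) cG.pt.X) cT.pt)
    (ha : ∀ i, AlgGrp.Action.IsEquivariant a
      ((aT i).restrict ((Over.pullback (X ↘ Spec (CommRingCat.of k))).map (cG.π.app i).hom.hom)) (cT.π.app i)) :
    NonAbH1.IsTorsorFor Scheme.fpqcPrecoverage a := by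
  let σ := X ↘ Spec (CommRingCat.of k)
  let F := Over.pullback σ
  haveI := IsCofiltered.isConnected I
  haveI : ∀ i, IsAffine ((DG ⋙ Grp.forget _ ⋙ Over.forget _).obj i) := fun i =>
    @isAffine_of_isAffineHom _ _ (DG.obj i).X.hom (‹∀ i, IsAffineHom (DG.obj i).X.hom› i) inferInstance
  haveI : HasLimit ((DG ⋙ Grp.forget _) ⋙ Over.forget (Spec (CommRingCat.of k))) :=
    MorLib.LimExists.hasLimit_of_isAffine (DG ⋙ Grp.forget _ ⋙ Over.forget _)
  haveI : HasLimit (DG ⋙ Grp.forget (Over (Spec (CommRingCat.of k)))) :=
    hasLimit_of_created _ (Over.forget _)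
  obtain ⟨hL⟩ := TorsLim.isLimit_forget DG hcG
  have hLF := isLimitOfPreserves F hL
  have hps : NonAbH1.IsPseudoTorsorSch a := by
    refine TorsLim.isPseudoTorsor a aT (fun i => F.map (cG.π.app i).hom.hom) (fun i => cT.π.app i)
      (fun i j f => F.map (DG.map f).hom.hom) (fun i j f => DT.map f) (fun i => (hT i).1) (fun i j f => cT.w f)
      (fun i j f => ?_) (fun i => ?_) (fun W x hx => ?_) (fun W g h e => hLF.hom_ext e)
      (fun W g h e => hcT.hom_ext e)
    · rw [hDT i j f, AlgGrp.Action.restrict_act, ← Category.assoc]
      congr 1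
      exact (MonoidalCategory.tensorHom_def' _ _).symm
    · rw [ha i, AlgGrp.Action.restrict_act, ← Category.assoc]
      congr 1
      exact (MonoidalCategory.tensorHom_def' _ _).symm
    · let s : Cone ((DG ⋙ Grp.forget _) ⋙ F) :=
        ⟨W, { app := x, naturality := fun i j f => (Category.id_comp _).trans (hx f).symm }⟩
      exact ⟨hLF.lift s, fun i => hLF.fac s i⟩
  haveI haff : ∀ i, IsAffineHom (DT.obj i).hom := fun i => by
    haveI := EtFound.fpqc_isAffineHom.{u}
    exact SchTorsor.torsor_property @IsAffineHom (hT i)
      (MorphismProperty.pullback_snd (P := @IsAffineHom) (DG.obj i).X.hom σ inferInstance)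
  haveI : ∀ i, Flat (DT.obj i).hom := fun i => by
    haveI : Subsingleton (Spec (CommRingCat.of k)) := inferInstanceAs (Subsingleton (PrimeSpectrum k))
    haveI : Flat (DG.obj i).X.hom := inferInstance
    exact SchTorsor.torsor_property @Flat (hT i)
      (MorphismProperty.pullback_snd (P := @Flat) (DG.obj i).X.hom σ inferInstance)
  haveI : ∀ i, Surjective (DT.obj i).hom := fun i => SchTorsor.surjective_hom (hT i)
  obtain ⟨h1, h2, h3⟩ := TorsLim.limit_faithfullyFlat hcT
  refine ⟨hps, Presieve.singleton cT.pt.hom, cT.pt.hom.singleton_mem_fpqcPrecoverage, ?_⟩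
  rintro S' f ⟨⟩
  exact ⟨𝟙 _, Category.id_comp _⟩

end Groth.Agent.S18863
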