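import Groth.Statements.S18874
import Groth.Agent.Pi1Ext.SpreadLim
import Groth.Agent.S2074
import Groth.Agent.S0086

set_option autoImplicit false
set_option backward.isDefEq.respectTransparency false
set_option backward.isDefEq.respectTransparency.types false
attribute [-instance] CategoryTheory.catToReflQuiver
open Groth.Agent.Pi1Ext CategoryTheory.Limits
universe u
open Lim

namespace Groth.Agent.S18874

open CategoryTheory AlgebraicGeometry in
/-- Let S be a quasi-compact scheme whose affine opens have excellent coordinate rings, let X → S and Y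
→ S be quasi-compact, quasi-separated and locally of finite presentation, let f : X → Y be a
morphism over S, let s be a closed point of S and R the completion of the local ring of S at s. If
the base change X ×_S Spec R → Y ×_S Spec R of f is proper, then s has an open neighbourhood W in S
such that X ×_S W → Y ×_S W is proper. (The published statement assumes X and Y only locally of
finite presentation over S; for S the affine line over a field, s the origin, Y = S and X the
disjoint union of S with one reduced point over each closed point other than s, the base change to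
Spec R is an isomorphism while X ×_S W → W is not quasi-compact for any open W ∋ s, so X and Y are
taken of finite presentation over S here, which is what the limit argument of the published proof
uses.) -/
theorem result
    (S : Scheme.{u}) [CompactSpace S] (hS : ∀ U : S.affineOpens, EGA4.IsExcellent Γ(S, U.1))
    {X Y : Scheme.{u}} (f : X ⟶ Y) (g : Y ⟶ S)
    [QuasiCompact g] [QuasiSeparated g] [LocallyOfFinitePresentation g]
    [QuasiCompact (f ≫ g)] [QuasiSeparated (f ≫ g)] [LocallyOfFinitePresentation (f ≫ g)]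
    (s : S) (hs : IsClosed ({s} : Set S))
    (hR : IsProper (Limits.pullback.snd f (Limits.pullback.fst g
      (Spec.map (CommRingCat.ofHom (algebraMap (S.presheaf.stalk s) (EGA4.Cpl (S.presheaf.stalk s)))) ≫
        S.fromSpecStalk s)))) :
    ∃ W : S.Opens, s ∈ W ∧ IsProper (f ∣_ (g ⁻¹ᵁ W)) := by
  classical
  obtain ⟨W₀⟩ : Nonempty (SpreadLim.Nbhd S s) := inferInstance
  haveI : IsNoetherianRing Γ(S, W₀.1) := (hS ⟨W₀.1, W₀.2.1⟩).1
  haveI : IsNoetherianRing (S.presheaf.stalk s) := by
    letI := S.presheaf.algebra_section_stalk (⟨s, W₀.2.2⟩ : W₀.1)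
    haveI := W₀.2.1.isLocalization_stalk ⟨s, W₀.2.2⟩
    exact IsLocalization.isNoetherianRing (W₀.2.1.primeIdealOf ⟨s, W₀.2.2⟩).asIdeal.primeCompl _ inferInstance
  haveI : LocallyOfFiniteType f :=
    haveI : LocallyOfFiniteType (f ≫ g) := inferInstance
    locallyOfFiniteType_of_comp f g
  let O := S.presheaf.stalk s
  let a : Spec (CommRingCat.of (EGA4.Cpl O)) ⟶ Spec O := Spec.map (CommRingCat.ofHom (algebraMap O (EGA4.Cpl O)))
  let YO := pullback g (S.fromSpecStalk s)
  let bY : pullback g (a ≫ S.fromSpecStalk s) ⟶ YO :=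
    pullback.lift (pullback.fst _ _) (pullback.snd _ _ ≫ a) (by rw [pullback.condition, Category.assoc])
  have hbY : IsPullback bY (pullback.snd g (a ≫ S.fromSpecStalk s)) (pullback.snd g (S.fromSpecStalk s)) a :=
    IsPullback.of_right (by rw [pullback.lift_fst]; exact IsPullback.of_hasPullback _ _) (pullback.lift_snd _ _ _)
      (IsPullback.of_hasPullback _ _)
  haveI : Module.FaithfullyFlat O (EGA4.Cpl O) := Module.FaithfullyFlat.of_flat_of_isLocalHom
  haveI : Flat a := Flat.SpecMap_iff.2 (RingHom.flat_algebraMap_iff.2 inferInstance)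
  haveI : Surjective a := ⟨PrimeSpectrum.comap_surjective_of_faithfullyFlat (A := O) (B := EGA4.Cpl O)⟩
  have hbQ : (@Surjective ⊓ @Flat ⊓ @QuasiCompact : MorphismProperty Scheme.{u}) bY :=
    ⟨⟨MorphismProperty.of_isPullback (P := @Surjective) hbY.flip ‹_›,
      MorphismProperty.of_isPullback (P := @Flat) hbY.flip ‹_›⟩,
      MorphismProperty.of_isPullback (P := @QuasiCompact) hbY.flip inferInstance⟩
  let fO := pullback.snd f (pullback.fst g (S.fromSpecStalk s))
  let bX : pullback f (pullback.fst g (a ≫ S.fromSpecStalk s)) ⟶ pullback f (pullback.fst g (S.fromSpecStalk s)) :=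
    pullback.lift (pullback.fst _ _) (pullback.snd _ _ ≫ bY)
      (by rw [pullback.condition, Category.assoc, pullback.lift_fst])
  have hbX : IsPullback bX (pullback.snd f (pullback.fst g (a ≫ S.fromSpecStalk s))) fO bY :=
    IsPullback.of_right (by rw [pullback.lift_fst, pullback.lift_fst]; exact IsPullback.of_hasPullback _ _)
      (pullback.lift_snd _ _ _) (IsPullback.of_hasPullback _ _)
  have hprO : IsProper fO := by
    haveI := Groth.Agent.S0086.result
    exact MorphismProperty.of_isPullback_of_descendsAlong (P := @IsProper)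
      (Q := @Surjective ⊓ @Flat ⊓ @QuasiCompact) hbX.flip hbQ hR
  let D := SpreadLim.specs S s
  let c := SpreadLim.cone S s
  let ι₀ := SpreadLim.toX S s W₀
  let g₀ := pullback.snd g ι₀
  let f₀ := pullback.snd f (pullback.fst g ι₀)
  haveI : CompactSpace ↥(pullback g ι₀) := QuasiCompact.compactSpace_of_compactSpace g₀
  haveI : QuasiSeparatedSpace ↥(pullback g ι₀) := quasiSeparatedSpace_of_quasiSeparated g₀
  have hX₀ : IsPullback (pullback.fst f (pullback.fst g ι₀)) (f₀ ≫ g₀) (f ≫ g) ι₀ :=
    (IsPullback.of_hasPullback _ _).paste_vert (IsPullback.of_hasPullback _ _)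
  haveI : QuasiCompact (f₀ ≫ g₀) := MorphismProperty.of_isPullback hX₀ ‹QuasiCompact (f ≫ g)›
  haveI : QuasiSeparated (f₀ ≫ g₀) := MorphismProperty.of_isPullback hX₀ ‹QuasiSeparated (f ≫ g)›
  haveI : CompactSpace ↥(pullback f (pullback.fst g ι₀)) := QuasiCompact.compactSpace_of_compactSpace (f₀ ≫ g₀)
  haveI : QuasiSeparatedSpace ↥(pullback f (pullback.fst g ι₀)) := quasiSeparatedSpace_of_quasiSeparated (f₀ ≫ g₀)
  have hc : c.π.app W₀ ≫ ι₀ = S.fromSpecStalk s := SpreadLim.π_toX S s W₀
  let qY : YO ⟶ pullback g ι₀ :=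
    pullback.lift (pullback.fst _ _) (pullback.snd _ _ ≫ c.π.app W₀) (by rw [pullback.condition, Category.assoc, hc])
  have hY : IsPullback qY (pullback.snd g (S.fromSpecStalk s)) g₀ (c.π.app W₀) :=
    IsPullback.of_right (by rw [pullback.lift_fst, hc]; exact IsPullback.of_hasPullback _ _) (pullback.lift_snd _ _ _)
      (IsPullback.of_hasPullback _ _)
  let qX : pullback f (pullback.fst g (S.fromSpecStalk s)) ⟶ pullback f (pullback.fst g ι₀) :=
    pullback.lift (pullback.fst _ _) (pullback.snd _ _ ≫ qY)
      (by rw [pullback.condition, Category.assoc, pullback.lift_fst])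
  have hX : IsPullback qX fO f₀ qY :=
    IsPullback.of_right (by rw [pullback.lift_fst, pullback.lift_fst]; exact IsPullback.of_hasPullback _ _)
      (pullback.lift_snd _ _ _) (IsPullback.of_hasPullback _ _)
  haveI : LocallyOfFiniteType f₀ := inferInstance
  obtain ⟨i, φ, Xi, Yi, fi, gi, pY, pX, hYi, hXi, hpr⟩ :=
    Groth.Agent.S2074.result D c (SpreadLim.isLimit S s) W₀ f₀ g₀ fO (pullback.snd g (S.fromSpecStalk s)) qY qX hY hX
  let e : Yi ⟶ Y := pY ≫ pullback.fst g ι₀
  have hYS : IsPullback e gi g (SpreadLim.toX S s i) := by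
    have := hYi.paste_horiz (IsPullback.of_hasPullback g ι₀)
    rwa [SpreadLim.map_toX] at this
  have hXY : IsPullback (pX ≫ pullback.fst _ _) fi f e := hXi.paste_horiz (IsPullback.of_hasPullback _ _)
  haveI : IsOpenImmersion e := MorphismProperty.of_isPullback hYS.flip inferInstance
  refine ⟨i.1, i.2.2, ?_⟩
  have hrange : Set.range e = Set.range (g ⁻¹ᵁ i.1).ι := by
    rw [Scheme.Opens.range_ι, ← hYS.isoPullback_hom_fst, Scheme.Hom.comp_base, TopCat.coe_comp,
      Set.range_comp, Set.range_eq_univ.2 hYS.isoPullback.hom.surjective, Set.image_univ,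
      Scheme.Pullback.range_fst, SpreadLim.range_toX]
    rfl
  let θ := IsOpenImmersion.isoOfRangeEq e (g ⁻¹ᵁ i.1).ι hrange
  have hθ : θ.inv ≫ e = (g ⁻¹ᵁ i.1).ι := IsOpenImmersion.isoOfRangeEq_inv_fac e (g ⁻¹ᵁ i.1).ι hrange
  have h1 := (isPullback_morphismRestrict f (g ⁻¹ᵁ i.1)).flip
  have h2 : IsPullback (pullback.fst fi θ.inv ≫ pX ≫ pullback.fst _ _) (pullback.snd fi θ.inv) f (θ.inv ≫ e) :=
    (IsPullback.of_hasPullback fi θ.inv).paste_horiz hXY
  rw [hθ] at h2
  rw [← IsPullback.isoIsPullback_hom_snd _ _ h1 h2, MorphismProperty.cancel_left_of_respectsIso @IsProper]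
  exact inferInstance

end Groth.Agent.S18874
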