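import Groth.Statements.S18876
import Groth.Agent.AlgStLib.FppfSite
import Groth.Agent.AlgStLib.OfPsh
import Mathlib.AlgebraicGeometry.AlgClosed.Basic


set_option autoImplicit false
set_option backward.isDefEq.respectTransparency false
set_option backward.isDefEq.respectTransparency.types false
universe u
open Gerb

namespace Groth.Agent.S18876

open CategoryTheory CategoryTheory.Functor AlgebraicGeometry Opposite Groth.Agent.FibBase Groth.Agent.AlgStLib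

/-- A covering sieve of the spectrum of an algebraically closed field is trivial. -/
theorem sieve_id_mem {S : Scheme.{u}} {Ω : Type u} [Field Ω] [IsAlgClosed Ω]
    (t : Spec (CommRingCat.of Ω) ⟶ S) (R : Sieve (Over.mk t))
    (hR : R ∈ QuotSh.J Scheme.fppfPrecoverage S (Over.mk t)) : R.arrows (𝟙 (Over.mk t)) := by
  obtain ⟨ι, V, v, -, hp, hs, hv⟩ := exists_fppf_of_mem_J hR
  obtain ⟨i, p, -⟩ := hs (IsLocalRing.closedPoint Ω)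
  haveI : LocallyOfFiniteType (v i).left := by
    haveI := hp i
    infer_instance
  haveI : JacobsonSpace (Over.mk t).left := inferInstanceAs (JacobsonSpace (PrimeSpectrum Ω))
  haveI : JacobsonSpace (V i).left := LocallyOfFiniteType.jacobsonSpace (v i).left
  obtain ⟨w, -, hw⟩ := nonempty_inter_closedPoints (Z := (Set.univ : Set (V i).left)) ⟨p, trivial⟩
    isClosed_univ.isLocallyClosed
  obtain ⟨⟨s, hs'⟩, -⟩ := (pointEquivClosedPoint (v i).left).surjective ⟨w, hw⟩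
  have hh : s ≫ (V i).hom = t := by
    rw [← Over.w (v i), reassoc_of% hs']
    rfl
  have := R.downward_closed (hv i) (Over.homMk s hh : Over.mk t ⟶ V i)
  rwa [show (Over.homMk s hh : Over.mk t ⟶ V i) ≫ v i = 𝟙 _ from Over.OverMorphism.ext hs'] at this

variable {S : Scheme.{u}} {𝒳 𝒴 : AlgSt.Cat S} {F : 𝒳 ⥤ᵇ 𝒴}

/-- The image of an object of a fibre. -/
def fibObj (F : 𝒳 ⥤ᵇ 𝒴) {T : Over S} (x : 𝒳.p.Fiber T) : 𝒴.p.Fiber T := ⟨F.obj x.1, (F.w_obj x.1).trans x.2⟩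

theorem exists_fibObj_iso {J : GrothendieckTopology (Over S)} (h𝒴 : FibCat.IsFibGrpd 𝒴.p)
    (hF : Gerb.LocSurjObj J F) {T : Over S} (hT : ∀ R : Sieve T, R ∈ J T → R.arrows (𝟙 T))
    (y : 𝒴.p.Fiber T) : ∃ x : 𝒳.p.Fiber T, Nonempty (fibObj F x ≅ y) := by
  obtain ⟨y, rfl⟩ := y
  obtain ⟨R, hR, hR'⟩ := hF y
  obtain ⟨x, g, hg⟩ := hR' _ (hT R hR)
  haveI := h𝒴
  have : IsIso g := isIso_of_lift (p := 𝒴.p) (𝟙 (𝒴.p.obj y)) g
  exact ⟨⟨x, (F.w_obj x).symm.trans (IsHomLift.domain_eq 𝒴.p (𝟙 _) g)⟩, ⟨fiberIsoMk (asIso g) hg⟩⟩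

theorem exists_iso_of_fibObj {J : GrothendieckTopology (Over S)} (h𝒳 : FibCat.IsFibGrpd 𝒳.p)
    (hF : Gerb.LocSurjHom J F) {T : Over S} (hT : ∀ R : Sieve T, R ∈ J T → R.arrows (𝟙 T))
    (x x' : 𝒳.p.Fiber T) (e : fibObj F x ≅ fibObj F x') : Nonempty (x ≅ x') := by
  obtain ⟨x, rfl⟩ := x
  obtain ⟨R, hR, hR'⟩ := hF x x'.1 e.hom.1 e.hom.2
  obtain ⟨x₀, φ, ψ, hφ, hψ, -⟩ := hR' _ (hT R hR)
  haveI := h𝒳
  have : IsIso φ := isIso_of_lift (p := 𝒳.p) (𝟙 (𝒳.p.obj x)) φ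
  have : IsIso ψ := isIso_of_lift (p := 𝒳.p) (𝟙 (𝒳.p.obj x)) ψ
  have : 𝒳.p.IsHomLift (𝟙 (𝒳.p.obj x)) (inv φ) := IsHomLift.lift_id_inv_isIso 𝒳.p _ φ
  have h : 𝒳.p.IsHomLift (𝟙 (𝒳.p.obj x)) (inv φ ≫ ψ) := inferInstance
  exact ⟨fiberIsoMk ((asIso φ).symm ≪≫ asIso ψ) h⟩

theorem fibSec_comp {M : AlgSp.Sp S} (π : 𝒴 ⥤ᵇ AlgSt.ofSp M) {T : Over S} (x : 𝒳.p.Fiber T) :
    AlgSt.fibSec (BasedFunctor.comp F π) x = AlgSt.fibSec π (fibObj F x) := rfl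

theorem fibSec_congr {M : AlgSp.Sp S} {π π' : 𝒳 ⥤ᵇ AlgSt.ofSp M} (e : π ≅ π') {T : Over S}
    (x : 𝒳.p.Fiber T) : AlgSt.fibSec π x = AlgSt.fibSec π' x := by
  obtain ⟨x, rfl⟩ := x
  exact secAt_eq_of_iso e x

theorem fibSec_iso {M : AlgSp.Sp S} (π : 𝒳 ⥤ᵇ AlgSt.ofSp M) {T : Over S} {x x' : 𝒳.p.Fiber T}
    (e : x ≅ x') : AlgSt.fibSec π x = AlgSt.fibSec π x' := by
  obtain ⟨x, rfl⟩ := x
  obtain ⟨x', hx'⟩ := x'
  have h := map_eq_of_isHomLift_id (p := 𝒳.p) (a := x) (b := x') e.hom.2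
  refine (secAt_map π e.hom.1).symm.trans ?_
  refine (res_congr M.obj h _).trans ?_
  exact res_res M.obj _ _ _ |>.trans (res_congr M.obj (eqToHom_trans _ _) _)

end Groth.Agent.S18876

namespace Groth.Agent.S18876

open CategoryTheory AlgebraicGeometry Groth.Agent.FibBase Groth.Agent.AlgStLib in
/-- Let S be a scheme and F : 𝒳 → 𝒴 a morphism of algebraic stacks over S which makes 𝒳 an fppf gerbe
over 𝒴 and through which every morphism from 𝒳 to an algebraic space factors, uniquely up to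
2-isomorphism. Then 𝒴 admits a coarse moduli space exactly when 𝒳 does, and the two coarse moduli
spaces coincide: for every coarse moduli map π : 𝒴 → M the composite 𝒳 → 𝒴 → M is a coarse moduli
map of 𝒳. (The published statement is about the rigidification F of 𝒳 along a flat finitely
presented subgroup stack of its inertia; only two of its properties are assumed here, that F is a
gerbe and that maps to algebraic spaces factor through F, which is what the published argument uses;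
neither stack is assumed quasi-separated or locally of finite presentation over S, and their
diagonals are not assumed quasi-compact or separated.) -/
theorem result (S : Scheme.{u}) (𝒳 𝒴 : AlgSt.Cat S)
    (h𝒳 : AlgSt.IsAlgStack Scheme.fppfPrecoverage 𝒳) (h𝒴 : AlgSt.IsAlgStack Scheme.fppfPrecoverage 𝒴)
    (F : 𝒳 ⥤ᵇ 𝒴) (hF : Gerb.IsGerbeOver (QuotSh.J Scheme.fppfPrecoverage S) F)
    (huniv : ∀ (N : AlgSp.Sp S), AlgSp.IsAlgSpace N → ∀ φ : 𝒳 ⥤ᵇ AlgSt.ofSp N,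
      ∃ ψ : 𝒴 ⥤ᵇ AlgSt.ofSp N, Nonempty (BasedFunctor.comp F ψ ≅ φ) ∧
        ∀ ψ' : 𝒴 ⥤ᵇ AlgSt.ofSp N, Nonempty (BasedFunctor.comp F ψ' ≅ φ) → Nonempty (ψ' ≅ ψ)) :
    ((∃ (M : AlgSp.Sp S) (π : 𝒴 ⥤ᵇ AlgSt.ofSp M), AlgSt.IsCoarseModuli π) ↔
        ∃ (M : AlgSp.Sp S) (π : 𝒳 ⥤ᵇ AlgSt.ofSp M), AlgSt.IsCoarseModuli π) ∧
      ∀ (M : AlgSp.Sp S) (π : 𝒴 ⥤ᵇ AlgSt.ofSp M), AlgSt.IsCoarseModuli π →
        AlgSt.IsCoarseModuli (BasedFunctor.comp F π) := by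
  have hid := fun (Ω : Type u) [Field Ω] [IsAlgClosed Ω] (t : Spec (CommRingCat.of Ω) ⟶ S) =>
    sieve_id_mem (S := S) t
  have hfac : ∀ {M : AlgSp.Sp S} (π : 𝒴 ⥤ᵇ AlgSt.ofSp M), AlgSt.GeomPtBij π →
      AlgSt.GeomPtBij (BasedFunctor.comp F π) := by
    intro M π hπ Ω _ _ t
    refine ⟨fun m => ?_, fun x x' h => ?_⟩
    · obtain ⟨y, rfl⟩ := (hπ Ω t).1 m
      obtain ⟨x, ⟨e⟩⟩ := exists_fibObj_iso h𝒴.isStack.1 hF.1 (hid Ω t) y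
      exact ⟨x, (fibSec_comp π x).trans (fibSec_iso π e)⟩
    · obtain ⟨e⟩ := (hπ Ω t).2 (fibObj F x) (fibObj F x') h
      exact exists_iso_of_fibObj h𝒳.isStack.1 hF.2 (hid Ω t) x x' e
  have hdown : ∀ (M : AlgSp.Sp S) (π : 𝒴 ⥤ᵇ AlgSt.ofSp M), AlgSt.IsCoarseModuli π →
      AlgSt.IsCoarseModuli (BasedFunctor.comp F π) := by
    rintro M π ⟨⟨hM, hπ⟩, hb⟩
    refine ⟨⟨hM, fun N hN φ => ?_⟩, hfac π hb⟩
    obtain ⟨ψ, ⟨a⟩, hψ⟩ := huniv N hN φ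
    obtain ⟨g, ⟨b⟩, hg⟩ := hπ N hN ψ
    exact ⟨g, ⟨whiskerLeftIso F b ≪≫ a⟩, fun g' ⟨c⟩ => hg g' (hψ _ ⟨c⟩)⟩
  refine ⟨⟨fun ⟨M, π, h⟩ => ⟨M, _, hdown M π h⟩, ?_⟩, hdown⟩
  rintro ⟨M, π', ⟨hM, hπ'⟩, hb'⟩
  obtain ⟨π, ⟨a⟩, -⟩ := huniv M hM π'
  refine ⟨M, π, ⟨hM, fun N hN φ => ?_⟩, fun Ω _ _ t => ⟨fun m => ?_, fun y y' h => ?_⟩⟩
  · obtain ⟨g, ⟨b⟩, hg⟩ := hπ' N hN (BasedFunctor.comp F φ)
    obtain ⟨ψ, -, hψ⟩ := huniv N hN (BasedFunctor.comp F φ)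
    obtain ⟨c⟩ := hψ φ ⟨Iso.refl _⟩
    obtain ⟨d⟩ := hψ (BasedFunctor.comp π (AlgSt.ofSpMap g)) ⟨(whiskerRightIso a (AlgSt.ofSpMap g) :) ≪≫ b⟩
    refine ⟨g, ⟨d ≪≫ c.symm⟩, fun g' ⟨e⟩ => hg g' ⟨(whiskerRightIso a.symm (AlgSt.ofSpMap g') :) ≪≫ whiskerLeftIso F e⟩⟩
  · obtain ⟨x, rfl⟩ := (hb' Ω t).1 m
    exact ⟨fibObj F x, (fibSec_comp π x).symm.trans (fibSec_congr a x)⟩
  · obtain ⟨x, ⟨e⟩⟩ := exists_fibObj_iso h𝒴.isStack.1 hF.1 (hid Ω t) y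
    obtain ⟨x', ⟨e'⟩⟩ := exists_fibObj_iso h𝒴.isStack.1 hF.1 (hid Ω t) y'
    obtain ⟨k⟩ := (hb' Ω t).2 x x' (by
      rw [← fibSec_congr a x, ← fibSec_congr a x', fibSec_comp, fibSec_comp, fibSec_iso π e, fibSec_iso π e', h])
    have k' : fibObj F x ≅ fibObj F x' :=
      fiberIsoMk (F.toFunctor.mapIso (ofFiberIso k)) (by haveI := k.hom.2; exact F.preserves_isHomLift (𝟙 _) k.hom.1)
    exact ⟨e.symm ≪≫ k' ≪≫ e'⟩

end Groth.Agent.S18876
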