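import Groth.Statements.S18877
import Groth.Agent.H1Spread.Constr
import Groth.Agent.MorLib.LimCons
import Groth.Agent.FibreLoc5.Constr

set_option autoImplicit false
attribute [-instance] CategoryTheory.catToReflQuiver
set_option backward.isDefEq.respectTransparency false
set_option backward.isDefEq.respectTransparency.types false
universe u
open Lim

namespace Groth.Agent.S18877

open CategoryTheory AlgebraicGeometry in
/-- Let S = lim S_i be a cofiltered limit of Noetherian schemes with affine transition morphisms, let X₀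
→ S_{i₀} be a scheme of finite type over one stage and X → S its base change to the limit. If all
geometric fibres of X → S are connected, then for some stage S_i → S_{i₀} all geometric fibres of
the base change X₀ ×_{S_{i₀}} S_i → S_i are connected. (Connected is read so as to allow the empty
fibre: the underlying space of each geometric fibre is preconnected; the geometric fibre of X₀
×_{S_{i₀}} S_i over Spec Ω → S_i is written as the pullback of X₀ → S_{i₀} along Spec Ω → S_i →
S_{i₀}.) -/
theorem result {I : Type u} [SmallCategory I] [IsCofiltered I]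
    (D : I ⥤ Scheme.{u}) (c : Limits.Cone D) (hc : Limits.IsLimit c)
    [∀ (i j : I) (a : i ⟶ j), IsAffineHom (D.map a)] [∀ i : I, AlgebraicGeometry.IsNoetherian (D.obj i)]
    (i₀ : I) {X₀ : Scheme.{u}} (f₀ : X₀ ⟶ D.obj i₀) [QuasiCompact f₀] [LocallyOfFiniteType f₀]
    {X : Scheme.{u}} (f : X ⟶ c.pt) (q : X ⟶ X₀) (hX : IsPullback q f f₀ (c.π.app i₀))
    (hconn : ∀ (Ω : Type u) [Field Ω] [IsAlgClosed Ω] (t : Spec (CommRingCat.of Ω) ⟶ c.pt),
      PreconnectedSpace ↥(Limits.pullback f t)) :
    ∃ (i : I) (a : i ⟶ i₀), ∀ (Ω : Type u) [Field Ω] [IsAlgClosed Ω] (t : Spec (CommRingCat.of Ω) ⟶ D.obj i),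
      PreconnectedSpace ↥(Limits.pullback f₀ (t ≫ D.map a)) := by
  have hcard : ∀ (Z : Scheme.{u}), PreconnectedSpace ↥Z ↔ ENat.card (_root_.ConnectedComponents ↥Z) ≤ 1 := by
    intro Z
    rw [ENat.card_le_one_iff_subsingleton]
    constructor
    · intro h
      infer_instance
    · intro h
      rw [preconnectedSpace_iff_connectedComponent]
      intro x
      refine Set.eq_univ_of_forall fun y => ?_
      exact ConnectedComponents.coe_eq_coe'.mp (Subsingleton.elim (y : _root_.ConnectedComponents ↥Z) x)
  haveI : ∀ {i j : I} (a : i ⟶ j), IsAffineHom (D.map a) := fun a => inferInstance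
  haveI : LocallyOfFinitePresentation f₀ := Groth.Agent.FibreLoc5.lfp_of_noetherian' f₀
  haveI : IsLocallyNoetherian X₀ := LocallyOfFiniteType.isLocallyNoetherian f₀
  let B : Set (D.obj i₀) := {y | MoreMor.nGeomConnComp f₀ y ≤ 1}
  have hB : ProCons.IsIndConstructible B := by
    have e : B = {y | MoreMor.nGeomConnComp f₀ y = 0} ∪ {y | MoreMor.nGeomConnComp f₀ y = 1} := by
      ext y
      exact ⟨fun hy => (Classical.em _).imp id fun h0 => le_antisymm hy (ENat.one_le_iff_ne_zero.mpr h0),
        fun hy => hy.elim (fun h => le_of_eq_of_le h zero_le_one) (fun h => le_of_eq h)⟩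
    rw [e]
    exact (Groth.Agent.EGA41Lib.lc_iff.mp
      ((Groth.Agent.H1Spread.isLocallyConstructible_level f₀ 0).union
        (Groth.Agent.H1Spread.isLocallyConstructible_level f₀ 1))).1
  obtain ⟨j, φ, hj⟩ := Groth.Agent.MorLib.LimPro.exists_subset hc i₀ (A := Set.univ) (B := B)
    Groth.Agent.MorLib.LimCons.pro_univ hB (fun s _ => by
      let Ω := AlgebraicClosure (c.pt.residueField s)
      let t : Spec (CommRingCat.of Ω) ⟶ c.pt :=
        Spec.map (CommRingCat.ofHom (algebraMap (c.pt.residueField s) Ω)) ≫ c.pt.fromSpecResidueField s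
      have hs : (t ≫ c.π.app i₀).base (Groth.Agent.H1Near.spt Ω) = c.π.app i₀ s := by
        simp only [Scheme.Hom.comp_apply, t]
        congr 1
        exact Scheme.fromSpecResidueField_apply _ _
      show MoreMor.nGeomConnComp f₀ (c.π.app i₀ s) ≤ 1
      rw [← hs, Groth.Agent.H1Spread.nGeomConnComp_eq_card, ← hcard]
      haveI := hconn Ω t
      exact (((IsPullback.of_hasPullback f t).paste_horiz hX).isoPullback
        |>.schemeIsoToHomeo).surjective.denseRange.preconnectedSpace (Homeomorph.continuous _))
  refine ⟨j, φ, fun Ω _ _ t => ?_⟩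
  rw [hcard, ← Groth.Agent.H1Spread.nGeomConnComp_eq_card]
  exact hj (Set.mem_univ (t.base (Groth.Agent.H1Near.spt Ω)))

end Groth.Agent.S18877
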