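import Groth.Statements.S18893
import Groth.Agent.HypX.Involution
-- import your own Groth.Agent.* helpers here

set_option autoImplicit false
set_option backward.isDefEq.respectTransparency false
set_option backward.isDefEq.respectTransparency.types false
set_option linter.style.haveILetI false
set_option maxHeartbeats 1000000
universe u
open CategoryTheory CategoryTheory.Limits AlgebraicGeometry
open Curves

namespace Groth.Agent.S18893
open Groth.Agent

/-- Let k be an algebraically closed field of characteristic different from 2 and X a hyperelliptic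
curve over k (p : X → Spec k smooth and proper, X connected of dimension one, genus dim_k H¹(X, O_X)
≥ 2, with a double cover h : X → P¹_k, finite and flat of rank 2 everywhere) with hyperelliptic
involution σ (σ ≫ h = h, σ ≠ id). Then σ lies in the centre of the automorphism group of X over k:
it commutes with every k-automorphism τ of X. -/
theorem result (k : Type u) [Field k] [IsAlgClosed k] (h2 : (2 : k) ≠ 0)
    {X : Scheme.{u}} (p : X ⟶ Spec (CommRingCat.of k)) [IsProper p] [Smooth p] [ConnectedSpace ↥X]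
    (hX : topologicalKrullDim ↥X = 1) (hg : 2 ≤ @Curv2.genus k _ X ⟨p⟩)
    (h : X ⟶ CohB1.ProjSpace 1 k) (hh : h ≫ CohB1.ProjSpace.toSpec 1 k = p)
    [IsFinite h] [Flat h] (hr : ∀ y : ↥(CohB1.ProjSpace 1 k), h.finrank y = 2)
    (σ : X ⟶ X) (hσ : σ ≫ h = h) (hσ₁ : σ ≠ 𝟙 X)
    (τ : X ≅ X) (hτ : τ.hom ≫ p = p) :
    τ.hom ≫ σ = σ ≫ τ.hom := by
  letI : X.Over (Spec (CommRingCat.of k)) := ⟨p⟩
  haveI : IsProper (X ↘ Spec (CommRingCat.of k)) := ‹IsProper p›
  haveI : Smooth (X ↘ Spec (CommRingCat.of k)) := ‹Smooth p›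
  have hτi : τ.inv ≫ p = p := by rw [← hτ, Iso.inv_hom_id_assoc, hτ]
  haveI : IsFinite (τ.inv ≫ h) := inferInstance
  haveI : Flat (τ.inv ≫ h) := inferInstance
  have hr' : ∀ y : ↥(CohB1.ProjSpace 1 k), (τ.inv ≫ h).finrank y = 2 := fun y => by
    rw [Scheme.Hom.finrank_comp_left_of_isIso, hr]
  have key := HypX.involution_unique hX hg h (τ.inv ≫ h) hh (by rw [Category.assoc, hh]; exact hτi) hr hr' σ
    (τ.inv ≫ σ ≫ τ.hom) hσ hσ₁ (by rw [Category.assoc, Category.assoc, Iso.hom_inv_id_assoc, hσ])
    (fun h1 => hσ₁ (by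
      have h2 := congrArg (fun m => τ.hom ≫ m ≫ τ.inv) h1
      simpa using h2))
  have h3 := congrArg (fun m => τ.hom ≫ m) key
  simpa using h3

end Groth.Agent.S18893
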