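import Groth.Statements.S18896
import Groth.Agent.RelCurveCoh.Smooth
-- import your own Groth.Agent.* helpers here

set_option autoImplicit false
set_option backward.isDefEq.respectTransparency false
set_option backward.isDefEq.respectTransparency.types false
set_option linter.style.haveILetI false
set_option maxHeartbeats 1000000
universe u
open CategoryTheory CategoryTheory.Limits AlgebraicGeometry
open Curves

namespace Groth.Agent.S18896
open Groth.Agent

/-- Let f : X → S be a smooth curve of genus g over a scheme S, i.e. f is proper and smooth and its
fibres are geometrically connected of dimension one and genus g (g the dimension of H¹ of the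
structure sheaf of each fibre over its residue field). Then R¹f_*(O_X) is a locally free O_S-module
of rank g. -/
theorem result {X S : Scheme.{u}} (f : X ⟶ S)
    [IsProper f] [Smooth f] [GeometricallyConnected f]
    (hdim : ∀ s : S, topologicalKrullDim ↥(f.fiber s) = 1) (g : ℕ)
    (hgen : ∀ s : S, letI : (f.fiber s).Over (Spec (S.residueField s)) := ⟨f.fiberToSpecResidueField s⟩
      Curv2.genus (S.residueField s) (f.fiber s) = g)
    [HasInjectiveResolutions X.Modules] :
    FlatMod.IsFinLocFreeOfRank g ((Coh.Rpush f 1).obj (Coh.structureModule X)) := by
  obtain ⟨hq, hfp⟩ := RelCurveCoh.isQCoh_fp_structure (X := X)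
  have hfl := DerBC7.isFlatOver_structureModule f
  refine RelCurveCoh.isFinLocFreeOfRank_Rpush hq hfp hfl
    (fun s => (RelCurveCoh.vanAt_of_two_le f hdim hq hfp hfl s le_rfl).exchAt_pred) (fun s p' hp' => ?_) (fun s => ?_)
  · obtain rfl : p' = 0 := by omega
    exact RelCurveCoh.exchAt_zero_structure (RelCurveCoh.fiberRank_zero_structure f s)
  · rw [RelCurveCoh.fiberRank_structure]
    exact hgen s

end Groth.Agent.S18896
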