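import Groth.Statements.S18900
import Groth.Agent.DblCovInv.Alg
import Groth.Agent.RingPO.Props2

set_option autoImplicit false
universe u
open CategoryTheory CategoryTheory.Limits AlgebraicGeometry
open DblCov

namespace Groth.Agent.S18900

section

open TopologicalSpace

variable {X Y : Scheme.{u}} (f : X ⟶ Y)

/-- An affine open with a trace-zero generator. -/
def Nice (V : Y.Opens) : Prop :=
  IsAffineOpen V ∧ ∃ e, DblCovInv.Good (f.app V).hom e

theorem isUnit_two (h2 : IsUnit (2 : Γ(Y, ⊤))) (V : Y.Opens) : IsUnit (2 : Γ(Y, V)) := by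
  have := h2.map (Y.presheaf.map (homOfLE (le_top : V ≤ ⊤)).op).hom
  rwa [map_ofNat] at this

noncomputable def sigma {V : Y.Opens} (hV : Nice f V) : Γ(X, f ⁻¹ᵁ V) →+* Γ(X, f ⁻¹ᵁ V) :=
  hV.2.choose_spec.sig

variable [IsAffineHom f]

theorem good_restrict {V : Y.Opens} (hV : IsAffineOpen V) {e : Γ(X, f ⁻¹ᵁ V)}
    (he : DblCovInv.Good (f.app V).hom e) (r : Γ(Y, V)) {W : Y.Opens} (hW : W = Y.basicOpen r)
    (hWV : W ≤ V) :
    DblCovInv.Good (f.app W).hom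
      ((X.presheaf.map (homOfLE (Scheme.Hom.preimage_mono f hWV)).op).hom e) := by
  subst hW
  have hc : ∀ x, (f.app (Y.basicOpen r)).hom ((Y.presheaf.map (homOfLE hWV).op).hom x) =
      (X.presheaf.map (homOfLE (Scheme.Hom.preimage_mono f hWV)).op).hom ((f.app V).hom x) :=
    fun x => ConcreteCategory.congr_hom (f.naturality (homOfLE hWV).op) x
  letI : Algebra Γ(Y, V) Γ(Y, Y.basicOpen r) := (Y.presheaf.map (homOfLE hWV).op).hom.toAlgebra
  haveI : IsLocalization.Away r Γ(Y, Y.basicOpen r) := hV.isLocalization_of_eq_basicOpen r _ rfl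
  letI : Algebra Γ(X, f ⁻¹ᵁ V) Γ(X, f ⁻¹ᵁ Y.basicOpen r) :=
    (X.presheaf.map (homOfLE (Scheme.Hom.preimage_mono f hWV)).op).hom.toAlgebra
  haveI : IsLocalization.Away ((f.app V).hom r) Γ(X, f ⁻¹ᵁ Y.basicOpen r) :=
    (hV.preimage f).isLocalization_of_eq_basicOpen _ _ (Scheme.preimage_basicOpen f r)
  refine he.localize (r := r) (ρA := algebraMap _ _) (ρB := algebraMap _ _) (RingHom.ext hc)
    (IsLocalization.Away.algebraMap_isUnit r) (fun x => ?_) (fun x => ?_) (fun b hb => ?_)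
  · obtain ⟨n, a, ha⟩ := IsLocalization.Away.surj r x
    exact ⟨a, n, ha⟩
  · obtain ⟨n, a, ha⟩ := IsLocalization.Away.surj ((f.app V).hom r) x
    exact ⟨a, n, ha⟩
  · obtain ⟨⟨_, n, rfl⟩, hn⟩ :=
      (IsLocalization.map_eq_zero_iff (Submonoid.powers ((f.app V).hom r)) _ b).1 hb
    exact ⟨n, hn⟩

theorem nice_restrict {V : Y.Opens} (hV : Nice f V) (r : Γ(Y, V)) {W : Y.Opens}
    (hW : W = Y.basicOpen r) : Nice f W := by
  obtain ⟨hA, e, he⟩ := hV
  exact ⟨hW ▸ hA.basicOpen r, _, good_restrict f hA he r hW (hW ▸ Y.basicOpen_le r)⟩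

theorem sigma_restrict (h2 : IsUnit (2 : Γ(Y, ⊤))) {V : Y.Opens} (hV : Nice f V) (r : Γ(Y, V))
    {W : Y.Opens} (hW : W = Y.basicOpen r) (hW' : Nice f W) (hWV : W ≤ V) :
    CommRingCat.ofHom (sigma f hV) ≫ X.presheaf.map (homOfLE (Scheme.Hom.preimage_mono f hWV)).op =
      X.presheaf.map (homOfLE (Scheme.Hom.preimage_mono f hWV)).op ≫
        CommRingCat.ofHom (sigma f hW') := by
  have he' := good_restrict f hV.1 hV.2.choose_spec r hW hWV
  have hs : sigma f hW' = he'.sig := hW'.2.choose_spec.sig_unique (isUnit_two h2 W) he'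
  ext1
  simp only [CommRingCat.hom_comp, CommRingCat.hom_ofHom, hs]
  exact (hV.2.choose_spec.sig_nat (ρA := (Y.presheaf.map (homOfLE hWV).op).hom) he'
    (RingHom.ext fun x => ConcreteCategory.congr_hom (f.naturality (homOfLE hWV).op) x)).symm

theorem exists_nice [IsFinite f] [Flat f] [LocallyOfFinitePresentation f]
    (hrk : ∀ y : Y, f.finrank y = 2) (h2 : IsUnit (2 : Γ(Y, ⊤))) (y : Y) :
    ∃ V : Y.Opens, y ∈ V ∧ Nice f V := by
  obtain ⟨_, ⟨V, hV, rfl⟩, hy, -⟩ :=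
    Y.isBasis_affineOpens.exists_subset_of_mem_open (Set.mem_univ y) isOpen_univ
  have hB := hV.preimage f
  letI : Algebra Γ(Y, V) Γ(X, f ⁻¹ᵁ V) := (f.app V).hom.toAlgebra
  haveI : Module.Finite Γ(Y, V) Γ(X, f ⁻¹ᵁ V) :=
    RingHom.finite_algebraMap.1 (f.finite_app V hV)
  haveI : Module.Flat Γ(Y, V) Γ(X, f ⁻¹ᵁ V) := by
    have := f.flat_appLE hV hB le_rfl
    rw [← Scheme.Hom.app_eq_appLE] at this
    exact RingHom.flat_algebraMap_iff.1 this
  haveI : Algebra.FinitePresentation Γ(Y, V) Γ(X, f ⁻¹ᵁ V) := by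
    have := (f.finitePresentation_appLE hV hB le_rfl)
    rw [← Scheme.Hom.app_eq_appLE] at this
    exact RingHom.finitePresentation_algebraMap.1 this
  haveI : Module.FinitePresentation Γ(Y, V) Γ(X, f ⁻¹ᵁ V) :=
    Module.FinitePresentation.of_finite_of_finitePresentation _ _
  obtain ⟨q, hq⟩ : y ∈ Set.range hV.fromSpec := by rwa [hV.range_fromSpec]
  have hrk' : Module.rankAtStalk Γ(X, f ⁻¹ᵁ V) q = 2 := by
    haveI : IsFinite (Spec.map (f.appLE V (f ⁻¹ᵁ V) le_rfl)) :=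
      MorphismProperty.of_isPullback (RingPO.isPullback_fromSpec' f hV hB rfl) ‹_›
    haveI : Flat (Spec.map (f.appLE V (f ⁻¹ᵁ V) le_rfl)) :=
      MorphismProperty.of_isPullback (RingPO.isPullback_fromSpec' f hV hB rfl) ‹_›
    have h1 := Scheme.Hom.finrank_of_isPullback _ _ f hV.fromSpec
      (RingPO.isPullback_fromSpec' f hV hB rfl) q
    rw [hq, hrk, ← Scheme.Hom.app_eq_appLE] at h1
    rw [← h1, Scheme.Hom.finrank_SpecMap_eq_finrank (f.finite_app V hV) (RingHom.flat_algebraMap_iff.2 ‹_›),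
      ← RingHom.algebraMap_toAlgebra (f.app V).hom, RingHom.finrank_algebraMap]
  haveI : q.asIdeal.IsPrime := q.2
  obtain ⟨r, hr, e, he⟩ := DblCovInv.exists_preGood (B := Γ(X, f ⁻¹ᵁ V)) q.asIdeal hrk'
  have hle : Y.basicOpen r ≤ V := Y.basicOpen_le r
  have hyr : y ∈ Y.basicOpen r := by
    have : q ∈ hV.fromSpec ⁻¹ᵁ Y.basicOpen r := by
      rw [hV.fromSpec_preimage_basicOpen]; exact hr
    rwa [← hq]
  refine ⟨Y.basicOpen r, hyr, hV.basicOpen r, ?_⟩
  letI : Algebra Γ(Y, V) Γ(Y, Y.basicOpen r) := (Y.presheaf.map (homOfLE hle).op).hom.toAlgebra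
  haveI : IsLocalization.Away r Γ(Y, Y.basicOpen r) := hV.isLocalization_of_eq_basicOpen r _ rfl
  letI : Algebra Γ(X, f ⁻¹ᵁ V) Γ(X, f ⁻¹ᵁ Y.basicOpen r) :=
    (X.presheaf.map (homOfLE (Scheme.Hom.preimage_mono f hle)).op).hom.toAlgebra
  haveI : IsLocalization.Away ((f.app V).hom r) Γ(X, f ⁻¹ᵁ Y.basicOpen r) :=
    hB.isLocalization_of_eq_basicOpen _ _ (Scheme.preimage_basicOpen f r)
  have hc : ((f.app (Y.basicOpen r)).hom).comp (algebraMap Γ(Y, V) Γ(Y, Y.basicOpen r)) =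
      (algebraMap Γ(X, f ⁻¹ᵁ V) Γ(X, f ⁻¹ᵁ Y.basicOpen r)).comp (f.app V).hom :=
    RingHom.ext fun x => ConcreteCategory.congr_hom (f.naturality (homOfLE hle).op) x
  refine DblCovInv.exists_good (isUnit_two h2 _) (he.bijective hc
    (IsLocalization.Away.algebraMap_isUnit r) (fun x => ?_) (fun x => ?_) (fun b hb => ?_))
  · obtain ⟨n, a, ha⟩ := IsLocalization.Away.surj r x
    exact ⟨a, n, ha⟩
  · obtain ⟨n, a, ha⟩ := IsLocalization.Away.surj ((f.app V).hom r) x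
    exact ⟨a, n, ha⟩
  · obtain ⟨⟨_, n, rfl⟩, hn⟩ :=
      (IsLocalization.map_eq_zero_iff (Submonoid.powers ((f.app V).hom r)) _ b).1 hb
    exact ⟨n, hn⟩

omit [IsAffineHom f] in
theorem exists_common [IsAffineHom f] {V₁ V₂ : Y.Opens} (h₁ : Nice f V₁) (h₂ : Nice f V₂) {y : Y}
    (hy₁ : y ∈ V₁) (hy₂ : y ∈ V₂) :
    ∃ (W : Y.Opens) (r₁ : Γ(Y, V₁)) (r₂ : Γ(Y, V₂)),
      y ∈ W ∧ W = Y.basicOpen r₁ ∧ W = Y.basicOpen r₂ ∧ W ≤ V₁ ∧ W ≤ V₂ ∧ Nice f W := by
  obtain ⟨r₁, r₂, e, hy⟩ := exists_basicOpen_le_affine_inter h₁.1 h₂.1 y ⟨hy₁, hy₂⟩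
  exact ⟨Y.basicOpen r₁, r₁, r₂, hy, rfl, e, Y.basicOpen_le r₁, e ▸ Y.basicOpen_le r₂,
    nice_restrict f h₁ r₁ rfl⟩

/-- The involution over a nice open. -/
noncomputable def piece {V : Y.Opens} (hV : Nice f V) : (f ⁻¹ᵁ V : Scheme.{u}) ⟶ X :=
  (hV.1.preimage f).isoSpec.hom ≫ Spec.map (CommRingCat.ofHom (sigma f hV)) ≫
    (hV.1.preimage f).fromSpec

theorem fromSpec_restrict (h2 : IsUnit (2 : Γ(Y, ⊤))) {V : Y.Opens} (hV : Nice f V) (r : Γ(Y, V))
    {W : Y.Opens} (hW : W = Y.basicOpen r) (hW' : Nice f W) (hWV : W ≤ V) (τ : X ⟶ X)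
    (hτ : (hV.1.preimage f).fromSpec ≫ τ =
      Spec.map (CommRingCat.ofHom (sigma f hV)) ≫ (hV.1.preimage f).fromSpec) :
    (hW'.1.preimage f).fromSpec ≫ τ =
      Spec.map (CommRingCat.ofHom (sigma f hW')) ≫ (hW'.1.preimage f).fromSpec := by
  conv_lhs => rw [← (hV.1.preimage f).map_fromSpec (hW'.1.preimage f)
    (homOfLE (Scheme.Hom.preimage_mono f hWV)).op, Category.assoc, hτ, ← Spec.map_comp_assoc,
    sigma_restrict f h2 hV r hW hW' hWV, Spec.map_comp_assoc,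
    (hV.1.preimage f).map_fromSpec (hW'.1.preimage f)]

theorem piece_restrict (h2 : IsUnit (2 : Γ(Y, ⊤))) {V : Y.Opens} (hV : Nice f V) (r : Γ(Y, V))
    {W : Y.Opens} (hW : W = Y.basicOpen r) (hW' : Nice f W) (hWV : W ≤ V) :
    X.homOfLE (Scheme.Hom.preimage_mono f hWV) ≫ piece f hV = piece f hW' := by
  simp only [piece]
  rw [IsAffineOpen.isoSpec_hom, IsAffineOpen.isoSpec_hom,
    ← Scheme.Opens.toSpecΓ_SpecMap_presheaf_map_assoc _ _ (Scheme.Hom.preimage_mono f hWV),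
    ← Spec.map_comp_assoc, sigma_restrict f h2 hV r hW hW' hWV, Spec.map_comp_assoc,
    (hV.1.preimage f).map_fromSpec (hW'.1.preimage f)]

theorem exists_sigma [IsFinite f] [Flat f] [LocallyOfFinitePresentation f]
    (hrk : ∀ y : Y, f.finrank y = 2) (h2 : IsUnit (2 : Γ(Y, ⊤))) :
    ∃ τ : X ⟶ X, ∀ (W : Y.Opens) (hW : Nice f W), (hW.1.preimage f).fromSpec ≫ τ =
      Spec.map (CommRingCat.ofHom (sigma f hW)) ≫ (hW.1.preimage f).fromSpec := by
  let U : {V : Y.Opens // Nice f V} → X.Opens := fun i => f ⁻¹ᵁ i.1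
  have hU : IsOpenCover U := by
    rw [IsOpenCover, eq_top_iff]
    intro x _
    obtain ⟨V, hx, hV⟩ := exists_nice f hrk h2 (f x)
    exact Opens.mem_iSup.2 ⟨⟨V, hV⟩, hx⟩
  obtain ⟨τ, hτ⟩ : ∃ τ : X ⟶ X, ∀ i : {V : Y.Opens // Nice f V}, (U i).ι ≫ τ = piece f i.2 := by
    let 𝒰 := X.openCoverOfIsOpenCover U hU
    have hcomp : ∀ i j, pullback.fst (𝒰.f i) (𝒰.f j) ≫ piece f i.2 =
        pullback.snd (𝒰.f i) (𝒰.f j) ≫ piece f j.2 := by
      intro i j
      refine Scheme.hom_ext_of_forall _ _ fun x => ?_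
      let a : pullback (U i).ι (U j).ι ⟶ X := pullback.fst _ _ ≫ (U i).ι
      have hi : f (a x) ∈ i.1 := by
        have : a x ∈ U i := by
          rw [← SetLike.mem_coe, ← Scheme.Opens.range_ι (U i)]
          exact ⟨_, rfl⟩
        exact this
      have hj : f (a x) ∈ j.1 := by
        have : a x ∈ U j := by
          rw [← SetLike.mem_coe, ← Scheme.Opens.range_ι (U j)]
          simp only [a, pullback.condition]
          exact ⟨_, rfl⟩
        exact this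
      obtain ⟨W, r₁, r₂, hxW, hW₁, hW₂, hWi, hWj, hWn⟩ := exists_common f i.2 j.2 hi hj
      refine ⟨a ⁻¹ᵁ (f ⁻¹ᵁ W), hxW, ?_⟩
      have hr : Set.range ((a ⁻¹ᵁ (f ⁻¹ᵁ W)).ι ≫ a) ⊆ Set.range (f ⁻¹ᵁ W).ι := by
        rintro _ ⟨z, rfl⟩
        rw [Scheme.Opens.range_ι]
        exact z.2
      let g := IsOpenImmersion.lift (f ⁻¹ᵁ W).ι ((a ⁻¹ᵁ (f ⁻¹ᵁ W)).ι ≫ a) hr
      have hg := IsOpenImmersion.lift_fac (f ⁻¹ᵁ W).ι ((a ⁻¹ᵁ (f ⁻¹ᵁ W)).ι ≫ a) hr
      have e₁ : (a ⁻¹ᵁ (f ⁻¹ᵁ W)).ι ≫ pullback.fst (U i).ι (U j).ι =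
          g ≫ X.homOfLE (Scheme.Hom.preimage_mono f hWi) := by
        rw [← cancel_mono (U i).ι, Category.assoc, Category.assoc, Scheme.homOfLE_ι]
        exact hg.symm
      have e₂ : (a ⁻¹ᵁ (f ⁻¹ᵁ W)).ι ≫ pullback.snd (U i).ι (U j).ι =
          g ≫ X.homOfLE (Scheme.Hom.preimage_mono f hWj) := by
        rw [← cancel_mono (U j).ι, Category.assoc, Category.assoc, Scheme.homOfLE_ι,
          ← pullback.condition]
        exact hg.symm
      show (a ⁻¹ᵁ (f ⁻¹ᵁ W)).ι ≫ pullback.fst (U i).ι (U j).ι ≫ piece f i.2 =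
        (a ⁻¹ᵁ (f ⁻¹ᵁ W)).ι ≫ pullback.snd (U i).ι (U j).ι ≫ piece f j.2
      rw [reassoc_of% e₁, reassoc_of% e₂, piece_restrict f h2 i.2 r₁ hW₁ hWn hWi,
        piece_restrict f h2 j.2 r₂ hW₂ hWn hWj]
    exact ⟨𝒰.glueMorphisms _ hcomp, fun i => 𝒰.ι_glueMorphisms _ hcomp i⟩
  refine ⟨τ, fun W hW => ?_⟩
  rw [← IsAffineOpen.isoSpec_inv_ι, Category.assoc]
  show (hW.1.preimage f).isoSpec.inv ≫ (U ⟨W, hW⟩).ι ≫ τ = _
  rw [hτ, piece, Iso.inv_hom_id_assoc, IsAffineOpen.isoSpec_inv_ι]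

end


/-- Let f : X → Y be a double cover, i.e. a finite, flat, locally finitely presented morphism of rank 2
at every point, and assume 2 is invertible in O_Y(Y). Then X carries a Y-automorphism σ with σ ∘ σ =
id such that f is the quotient of X by the group generated by σ: f is affine and σ-invariant, and
over every open subset of Y the sections of O_Y are exactly the σ-invariant sections of O_X. (The
source adds that σ has order exactly 2, which holds as soon as X is non-empty.) -/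
theorem result {X Y : Scheme.{u}} (f : X ⟶ Y)
    [IsFinite f] [Flat f] [LocallyOfFinitePresentation f] (hrk : ∀ y : Y, f.finrank y = 2)
    (h2 : IsUnit (2 : Γ(Y, ⊤))) :
    ∃ σ : Aut X, σ.hom ≫ f = f ∧ σ * σ = 1 ∧ SGA1.IsQuot (Subgroup.zpowers σ).subtype f := by
  obtain ⟨τ, hτ⟩ := exists_sigma f hrk h2
  have hinv : τ ≫ f = f := by
    refine Scheme.hom_ext_of_forall _ _ fun x => ?_
    obtain ⟨V, hx, hV⟩ := exists_nice f hrk h2 (f x)
    refine ⟨f ⁻¹ᵁ V, hx, ?_⟩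
    rw [← cancel_epi (hV.1.preimage f).isoSpec.inv, IsAffineOpen.isoSpec_inv_ι_assoc,
      IsAffineOpen.isoSpec_inv_ι_assoc, ← Category.assoc, hτ V hV, Category.assoc,
      ← IsAffineOpen.SpecMap_appLE_fromSpec f hV.1 (hV.1.preimage f) le_rfl,
      ← Scheme.Hom.app_eq_appLE, ← Spec.map_comp_assoc]
    congr 2
    ext1
    exact hV.2.choose_spec.sig_comp
  have hsq : τ ≫ τ = 𝟙 X := by
    refine Scheme.hom_ext_of_forall _ _ fun x => ?_
    obtain ⟨V, hx, hV⟩ := exists_nice f hrk h2 (f x)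
    refine ⟨f ⁻¹ᵁ V, hx, ?_⟩
    rw [← cancel_epi (hV.1.preimage f).isoSpec.inv, IsAffineOpen.isoSpec_inv_ι_assoc,
      IsAffineOpen.isoSpec_inv_ι_assoc, ← Category.assoc, hτ V hV, Category.assoc, hτ V hV,
      ← Spec.map_comp_assoc, Category.comp_id]
    rw [show CommRingCat.ofHom (sigma f hV) ≫ CommRingCat.ofHom (sigma f hV) = 𝟙 _ from
      CommRingCat.hom_ext (RingHom.ext hV.2.choose_spec.sig_sig)]
    exact (congrArg (· ≫ _) (Spec.map_id _)).trans (Category.id_comp _)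
  let s₀ : Aut X := Iso.mk τ τ hsq hsq
  have hs₀ : s₀ * s₀ = 1 := Iso.ext hsq
  refine ⟨s₀, hinv, hs₀, ?_⟩
  have hzp : ∀ g : Subgroup.zpowers s₀,
      g.1.hom = 𝟙 X ∨ g.1.hom = τ := by
    rintro ⟨g, n, rfl⟩
    have h1 : s₀ ^ (2 : ℤ) = 1 := by
      rw [zpow_two]; exact hs₀
    obtain ⟨m, rfl | rfl⟩ := Int.even_or_odd' n
    · left
      show (s₀ ^ (2 * m)).hom = _
      rw [zpow_mul, h1, one_zpow]; rfl
    · right
      show (s₀ ^ (2 * m + 1)).hom = _
      rw [zpow_add, zpow_mul, h1, one_zpow, one_mul, zpow_one]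
  have happ : ∀ (W : Y.Opens) (hW : Nice f W) (e : f ⁻¹ᵁ W ≤ τ ⁻¹ᵁ (f ⁻¹ᵁ W)),
      (τ.appLE (f ⁻¹ᵁ W) (f ⁻¹ᵁ W) e).hom = sigma f hW := by
    intro W hW e
    have h1 := IsAffineOpen.SpecMap_appLE_fromSpec τ (hW.1.preimage f) (hW.1.preimage f) e
    rw [hτ W hW, cancel_mono] at h1
    exact congrArg CommRingCat.Hom.hom (Spec.map_injective h1)
  have hle : ∀ U : Y.Opens, f ⁻¹ᵁ U ≤ τ ⁻¹ᵁ (f ⁻¹ᵁ U) := fun U => by
    rw [← Scheme.Hom.comp_preimage, hinv]
  have hsmall : ∀ (U : Y.Opens) (y : Y), y ∈ U → ∃ W : Y.Opens, y ∈ W ∧ W ≤ U ∧ Nice f W := by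
    intro U y hy
    obtain ⟨V, hyV, hV⟩ := exists_nice f hrk h2 y
    obtain ⟨r, hrU, hyr⟩ := hV.1.exists_basicOpen_le (V := U) ⟨y, hy⟩ hyV
    exact ⟨Y.basicOpen r, hyr, hrU, nice_restrict f hV r rfl⟩
  refine ⟨inferInstance, fun g => ?_, fun U s t hst => ?_, fun U s => ⟨?_, ?_⟩⟩
  · show g.1.hom ≫ f = f
    rcases hzp g with h | h
    · rw [h, Category.id_comp]
    · rw [h, hinv]
  · choose W hyW hWU hW using fun y : U => hsmall U y y.2
    refine Y.sheaf.eq_of_locally_eq' W U (fun i => homOfLE (hWU i)) ?_ _ _ fun i => ?_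
    · exact fun y hy => TopologicalSpace.Opens.mem_iSup.2 ⟨⟨y, hy⟩, hyW _⟩
    · refine (hW i).2.choose_spec.injective ?_
      have n1 := ConcreteCategory.congr_hom (f.naturality (homOfLE (hWU i)).op) s
      have n2 := ConcreteCategory.congr_hom (f.naturality (homOfLE (hWU i)).op) t
      exact n1.trans ((congrArg _ hst).trans n2.symm)
  · rintro ⟨t, rfl⟩ g
    show ((f.app U) ≫ g.1.hom.appLE (f ⁻¹ᵁ U) (f ⁻¹ᵁ U) _).hom t = _
    have key : ∀ (k : X ⟶ X), k ≫ f = f → ∀ e, f.app U ≫ k.appLE (f ⁻¹ᵁ U) (f ⁻¹ᵁ U) e = f.app U := by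
      intro k hk e
      rw [Scheme.Hom.app_eq_appLE, Scheme.Hom.appLE_comp_appLE]
      simp only [hk]
    refine congrArg (fun φ => φ.hom t) (key g.1.hom ?_ _)
    rcases hzp g with h | h
    · rw [h, Category.id_comp]
    · rw [h, hinv]
  · intro hs
    have hs' := hs ⟨s₀, Subgroup.mem_zpowers _⟩
    change (τ.appLE (f ⁻¹ᵁ U) (f ⁻¹ᵁ U) (hle U)).hom s = s at hs'
    choose W hyW hWU hW using fun y : U => hsmall U y y.2
    have hres : ∀ i, ∃ a, (f.app (W i)).hom a =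
        (X.presheaf.map (homOfLE (Scheme.Hom.preimage_mono f (hWU i))).op).hom s := by
      intro i
      refine (hW i).2.choose_spec.sig_eq_self (isUnit_two h2 _) ?_
      show sigma f (hW i) _ = _
      rw [← happ _ (hW i) (hle _), ← CommRingCat.comp_apply, Scheme.Hom.map_appLE]
      conv_rhs => rw [← hs', ← CommRingCat.comp_apply, Scheme.Hom.appLE_map]
    choose a ha using hres
    have hcompat : TopCat.Presheaf.IsCompatible Y.presheaf W a := by
      intro i j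
      choose W' hyW' hW'le hW' using fun y : (W i ⊓ W j : Y.Opens) => hsmall (W i ⊓ W j) y y.2
      refine Y.sheaf.eq_of_locally_eq' W' (W i ⊓ W j) (fun k => homOfLE (hW'le k)) ?_ _ _ fun k => ?_
      · exact fun y hy => TopologicalSpace.Opens.mem_iSup.2 ⟨⟨y, hy⟩, hyW' _⟩
      · refine (hW' k).2.choose_spec.injective ?_
        have key : ∀ (l) (hl : W' k ≤ W l), (f.app (W' k)).hom ((Y.presheaf.map (homOfLE hl).op).hom (a l)) =
            (X.presheaf.map (homOfLE (Scheme.Hom.preimage_mono f (hl.trans (hWU l)))).op).hom s := by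
          intro l hl
          refine (ConcreteCategory.congr_hom (f.naturality (homOfLE hl).op) (a l)).trans ?_
          show (X.presheaf.map _).hom ((f.app (W l)).hom (a l)) = _
          rw [ha, ← CommRingCat.comp_apply, ← Functor.map_comp]
          rfl
        have k1 := key i ((hW'le k).trans inf_le_left)
        have k2 := key j ((hW'le k).trans inf_le_right)
        refine Eq.trans ?_ ((k1.trans k2.symm).trans ?_)
        · show (f.app (W' k)).hom _ = _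
          congr 1
          exact (CommRingCat.comp_apply (Y.presheaf.map _) (Y.presheaf.map _) (a i)).symm.trans
            (ConcreteCategory.congr_hom (Y.presheaf.map_comp _ _).symm (a i))
        · congr 1
          exact (ConcreteCategory.congr_hom (Y.presheaf.map_comp _ _) (a j)).trans
            (CommRingCat.comp_apply (Y.presheaf.map _) (Y.presheaf.map _) (a j))
    obtain ⟨t, ht, -⟩ := Y.sheaf.existsUnique_gluing' W U (fun i => homOfLE (hWU i))
      (fun y hy => TopologicalSpace.Opens.mem_iSup.2 ⟨⟨y, hy⟩, hyW _⟩) a hcompat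
    refine ⟨t, X.sheaf.eq_of_locally_eq' (fun i => f ⁻¹ᵁ W i) (f ⁻¹ᵁ U)
      (fun i => homOfLE (Scheme.Hom.preimage_mono f (hWU i))) ?_ _ _ fun i => ?_⟩
    · exact fun x hx => TopologicalSpace.Opens.mem_iSup.2 ⟨⟨f x, hx⟩, hyW _⟩
    · refine (ConcreteCategory.congr_hom (f.naturality (homOfLE (hWU i)).op) t).symm.trans ?_
      exact (congrArg (f.app (W i)).hom (ht i)).trans (ha i)

end Groth.Agent.S18900
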