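import Groth.Statements.S18910
import Groth.Agent.RelVA.Curve
-- import your own Groth.Agent.* helpers here

set_option autoImplicit false
set_option backward.isDefEq.respectTransparency false
set_option backward.isDefEq.respectTransparency.types false
set_option linter.style.haveILetI false
set_option maxHeartbeats 1000000
universe u
open CategoryTheory CategoryTheory.Limits AlgebraicGeometry
open Curves

namespace Groth.Agent.S18910
open Groth.Agent

/-- Let f : X → S be a smooth curve of genus g ≥ 2 over a scheme S (proper and smooth, geometrically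
connected fibres of dimension one and genus g) and n ≥ 3. Then ω_f^{⊗n} = Ω_{X/S}^{⊗n} is very ample
relative to f: there are a quasi-coherent O_S-module E and an S-immersion i of X into the projective
bundle P(E) with Ω_{X/S}^{⊗n} isomorphic to i^*O_{P(E)}(1) (existence of an isomorphism, as in the
definition of relative very ampleness). (The second assertion of the published statement, that
f_*ω_f^{⊗n} is locally free of rank (2n − 1)(g − 1), is not restated here.) -/
theorem result {X S : Scheme.{u}} (f : X ⟶ S)
    [IsProper f] [Smooth f] [GeometricallyConnected f]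
    (hdim : ∀ s : S, topologicalKrullDim ↥(f.fiber s) = 1) (g : ℕ) (hg : 2 ≤ g)
    (hgen : ∀ s : S, letI : (f.fiber s).Over (Spec (S.residueField s)) := ⟨f.fiberToSpecResidueField s⟩
      Curv2.genus (S.residueField s) (f.fiber s) = g)
    (n : ℕ) (hn : 3 ≤ n) :
    RelProj.IsRelVeryAmple f (CohB1.tensorPow (Omega.sheaf f) n) := by
  letI : ∀ s : S, (f.fiber s).Over (Spec (CommRingCat.of (S.residueField s))) := GenusOneX.fibreOver f
  haveI := GenusOneX.smoothOfRelativeDimension_of_fibres f hdim
  have hΩ := RelCurveCoh.isInvertible_omega f
  have hL := InvX.isInvertible_tensorPow hΩ n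
  have hb := fun s => RelVA.fibre_veryAmple_of_deg f hdim hL s (by
    let k := S.residueField s
    let Z := f.fiber s
    haveI : IsProper (Z ↘ Spec (CommRingCat.of k)) :=
      inferInstanceAs (IsProper (pullback.snd f (S.fromSpecResidueField s)))
    haveI : GeometricallyConnected (Z ↘ Spec (CommRingCat.of k)) :=
      inferInstanceAs (GeometricallyConnected (pullback.snd f (S.fromSpecResidueField s)))
    haveI := RelCurveCoh.fibre_smooth' f s
    haveI := RelCurveCoh.fibre_integral f s
    haveI := CurveCohLib.isNoetherian_of_proper (k := k) (X := Z)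
    have h0 := CurveBC.finrank_h0_of_geometricallyConnected k Z
    obtain ⟨a⟩ := RelCurveCoh.nonempty_pullback_tensorPow (f.fiberι s) (Omega.sheaf f) n
    obtain ⟨b⟩ : Nonempty ((Scheme.Modules.pullback (f.fiberι s)).obj (Omega.sheaf f) ≅ Omega.sheaf (Z ↘ Spec (CommRingCat.of k))) := RelCurveCoh.nonempty_omega_baseChange (f := f) (f' := Z ↘ Spec (CommRingCat.of k))
      (IsPullback.of_hasPullback f (S.fromSpecResidueField s))
    have hΩs := CurveBC.isInvertible_omega k Z (hdim s) h0
    have hP := PicClLib.isInvertible_pullback (f.fiberι s) hΩ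
    show 2 * (Curv2.genus k Z : ℤ) + 1 ≤ _
    rw [CurveRR.deg_congr k a 1, IntNum.deg_tensorPow k (hdim s) hP, CurveRR.deg_congr k b 1,
      (CurveBC.canonical_invariants k Z (hdim s) h0).2, show Curv2.genus k Z = g from hgen s]
    have h1 : (3 : ℤ) ≤ n := by exact_mod_cast hn
    have h2 : (2 : ℤ) ≤ g := by exact_mod_cast hg
    nlinarith)
  exact RelVA.isRelVeryAmple_of_fibrewise_h1 f hL (fun s => (hb s).2) fun s => (hb s).1

end Groth.Agent.S18910
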