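import Groth.Statements.S5728
import Groth.Agent.SymX.ProjectiveClosed
import Groth.Agent.SymX.FiniteImm
import Groth.Agent.SymX.CompBase
import Groth.Agent.ProjUPX.Affine
import Groth.Agent.QCoh.Qcqs

set_option autoImplicit false
set_option backward.isDefEq.respectTransparency false
set_option backward.isDefEq.respectTransparency.types false
universe u
open CategoryTheory CategoryTheory.Limits AlgebraicGeometry TopologicalSpace Opposite
open scoped HomogeneousIdeal
open EGA2

namespace Groth.Agent.S5728

/-- Let f : X → Y be a proper morphism and L an invertible O_X-module which is very ample relative to f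
and whose direct image f_*L (a quasi-coherent O_Y-module) is of finite type. Then f is projective: X
is isomorphic over Y to the relative homogeneous spectrum of a quasi-coherent graded O_Y-algebra
generated by its degree-one part, with that part of finite type. -/
theorem result {X Y : Scheme.{u}} (f : X ⟶ Y) [IsProper f]
    (L : X.Modules) (hL : PicF.IsInvertible L) (hva : RelProj.IsRelVeryAmple f L)
    (hft : CohB1.IsFT ((Scheme.Modules.pushforward f).obj L)) : RelProj.IsProjective f := by
  obtain ⟨E₀, θ₀, hpt⟩ := SymX.exists_point_over hva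
  have hE : Coh.IsQCoh ((Scheme.Modules.pushforward f).obj L) := QCoh.isQCoh_pushforward f (ProjUPX.isQCoh_of_isInvertible hL)
  have himm : SymX.ImmPoints f (𝟙 ((Scheme.Modules.pushforward f).obj L)) := fun x => by
    obtain ⟨_, ⟨U, hU : IsAffineOpen U, rfl⟩, hxU, -⟩ :=
      Y.isBasis_affineOpens.exists_subset_of_mem_open (Set.mem_univ (f x)) isOpen_univ
    obtain ⟨e, hxe, he⟩ := hpt U hU x hxU
    refine ⟨U, hU, θ₀.app U e, hxe, ?_⟩
    haveI := SymX.isImmersion_subSpec_of_le (AmpleX.locus (SymX.th f θ₀ e))
      (R := Subring.closure (Set.range ((AModX.resR (AmpleX.locus_le (SymX.th f θ₀ e))).comp (f.app U).hom) ∪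
        SymX.ratioSet f θ₀ e)) (Subring.closure_mono Set.subset_union_right) (hR := he)
    refine SymX.immAt_of_lift (θ' := 𝟙 ((Scheme.Modules.pushforward f).obj L)) e (θ₀.app U e) rfl
      (SymX.ratioSet f θ₀ e) fun c hc => ?_
    rcases hc with hr | ⟨m, hm⟩
    · exact Or.inl hr
    · exact Or.inr ⟨θ₀.app U m, hm⟩
  obtain ⟨A⟩ := SymX.nonempty_bundle hE
  obtain ⟨r, hr, hrp, -⟩ := SymX.exists_immersion_of_immPoints hE himm A
  exact SymX.isProjective_of_immersion A hE hft r hrp

end Groth.Agent.S5728
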