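import Groth.Statements.S18904
import Groth.Agent.RelVA.Curve
import Groth.Agent.S5728
import Groth.Agent.S18910
-- import your own Groth.Agent.* helpers here

set_option autoImplicit false
set_option backward.isDefEq.respectTransparency false
set_option backward.isDefEq.respectTransparency.types false
set_option linter.style.haveILetI false
set_option maxHeartbeats 1000000
universe u
open CategoryTheory CategoryTheory.Limits AlgebraicGeometry
open Curves

namespace Groth.Agent.S18904
open Groth.Agent

/-- A smooth curve of genus g ≥ 2, i.e. a proper smooth morphism f : X → S whose fibres are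
geometrically connected of dimension one and genus g, is a projective morphism: X is isomorphic over
S to the homogeneous spectrum of a quasi-coherent graded O_S-algebra generated by its degree-one
part, the latter of finite type. -/
theorem result {X S : Scheme.{u}} (f : X ⟶ S)
    [IsProper f] [Smooth f] [GeometricallyConnected f]
    (hdim : ∀ s : S, topologicalKrullDim ↥(f.fiber s) = 1) (g : ℕ) (hg : 2 ≤ g)
    (hgen : ∀ s : S, letI : (f.fiber s).Over (Spec (S.residueField s)) := ⟨f.fiberToSpecResidueField s⟩
      Curv2.genus (S.residueField s) (f.fiber s) = g) :
    RelProj.IsProjective f := by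
  letI : ∀ s : S, (f.fiber s).Over (Spec (CommRingCat.of (S.residueField s))) := GenusOneX.fibreOver f
  haveI := GenusOneX.smoothOfRelativeDimension_of_fibres f hdim
  have hL := InvX.isInvertible_tensorPow (RelCurveCoh.isInvertible_omega f) 3
  obtain ⟨hq, hfp, hfl⟩ := RelCurveCoh.tensorPow_omega_sheaf f hdim 3
  haveI : HasInjectiveResolutions X.Modules := KFlatLib.hasInjectiveResolutions_modules
  refine S5728.result f _ hL (S18910.result f hdim g hg hgen 3 le_rfl) ?_
  exact QCoh.isFT_of_isFP (QCoh.isFP_of_isFinLocFree (CohPullLib.isFinLocFree_push_of_exchAt hq hfp hfl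
    fun s => (RelCurveCoh.exchAt_tensorPow_omega f hdim hg (by norm_num) (fun s => hgen s) s).2))

end Groth.Agent.S18904
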