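import Groth.Statements.S18905
import Mathlib
import Groth.Agent.H23.EqvUnr

set_option autoImplicit false
universe u
open CategoryTheory CategoryTheory.Limits AlgebraicGeometry
open Mor

namespace Groth.Agent.S18905
set_option backward.isDefEq.respectTransparency.types false
set_option backward.isDefEq.respectTransparency false

open CategoryTheory AlgebraicGeometry in
theorem ker_fst_nilpotent (k : Type u) [Field k] :
    IsNilpotent (Spec.map (CommRingCat.ofHom (TrivSqZeroExt.fstHom k k k).toRingHom)).ker := by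
  refine Groth.Agent.H23.EqvUnr.ker_SpecMap_sq _ ?_
  rw [eq_bot_iff, pow_two, Ideal.mul_le]
  intro a ha b hb
  have ha' : TrivSqZeroExt.fst a = 0 := ha
  have hb' : TrivSqZeroExt.fst b = 0 := hb
  refine Ideal.mem_bot.2 (TrivSqZeroExt.ext ?_ ?_) <;> simp [ha', hb']

open CategoryTheory in
theorem formallyUnramified_of_dual (k : Type u) [Field k] [IsAlgClosed k] {A : CommRingCat.{u}}
    (φ : CommRingCat.of k ⟶ A) (hft : φ.hom.FiniteType)
    (H : ∀ w₁ w₂ : A ⟶ CommRingCat.of (DualNumber k),
      φ ≫ w₁ = CommRingCat.ofHom (algebraMap k (DualNumber k)) →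
      φ ≫ w₂ = CommRingCat.ofHom (algebraMap k (DualNumber k)) →
      w₁ ≫ CommRingCat.ofHom (TrivSqZeroExt.fstHom k k k).toRingHom =
        w₂ ≫ CommRingCat.ofHom (TrivSqZeroExt.fstHom k k k).toRingHom → w₁ = w₂) :
    φ.hom.FormallyUnramified := by
  letI := φ.hom.toAlgebra
  haveI : Algebra.FiniteType k A := hft
  refine ⟨not_nontrivial_iff_subsingleton.1 fun hn => ?_⟩
  let M := Ω[A⁄k]
  obtain ⟨N, hN, -⟩ := (eq_top_or_exists_le_coatom (⊥ : Submodule A M)).resolve_left (by
    intro h; exact bot_ne_top h)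
  haveI : IsSimpleModule A (M ⧸ N) := isSimpleModule_iff_isCoatom.2 hN
  obtain ⟨m, hm, ⟨l⟩⟩ := isSimpleModule_iff_quot_maximal.1 (inferInstance : IsSimpleModule A (M ⧸ N))
  letI := Ideal.Quotient.field m
  haveI : Module.Finite k (A ⧸ m) := finite_of_finite_type_of_isJacobsonRing k (A ⧸ m)
  let e : k ≃ₐ[k] A ⧸ m := AlgEquiv.ofBijective (Algebra.ofId k (A ⧸ m))
    IsAlgClosed.algebraMap_bijective_of_isIntegral
  let χ : A →ₐ[k] k := e.symm.toAlgHom.comp (Ideal.Quotient.mkₐ k m)
  let L : M →ₗ[A] A ⧸ m := l.toLinearMap ∘ₗ N.mkQ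
  let d : A → k := fun a => e.symm (L (KaehlerDifferential.D k A a))
  have hd : ∀ a b, d (a * b) = χ a * d b + χ b * d a := by
    intro a b
    simp only [d, Derivation.leibniz, map_add, map_smul, χ]
    rw [Algebra.smul_def, Algebra.smul_def, map_mul, map_mul]
    rfl
  let w : A →ₐ[k] DualNumber k :=
    AlgHom.ofLinearMap
      ((TrivSqZeroExt.inlAlgHom k k k).toLinearMap ∘ₗ χ.toLinearMap +
        (TrivSqZeroExt.inrHom k k) ∘ₗ (e.symm.toLinearMap ∘ₗ (L.restrictScalars k) ∘ₗ (KaehlerDifferential.D k A).toLinearMap))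
      (by
        refine TrivSqZeroExt.ext ?_ ?_ <;> simp
        exact (congrArg L (Derivation.map_one_eq_zero _)).trans L.map_zero)
      (fun a b => by
        refine TrivSqZeroExt.ext ?_ ?_
        · simp
        · simp only [LinearMap.add_apply, LinearMap.comp_apply, TrivSqZeroExt.inrHom_apply, TrivSqZeroExt.snd_add,
            TrivSqZeroExt.snd_inr, AlgHom.toLinearMap_apply, TrivSqZeroExt.snd_mul, TrivSqZeroExt.fst_add,
            TrivSqZeroExt.fst_inr, TrivSqZeroExt.inlAlgHom_apply, TrivSqZeroExt.fst_inl, TrivSqZeroExt.snd_inl,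
            zero_add, add_zero, smul_eq_mul, op_smul_eq_smul]
          show d (a * b) = χ a * d b + χ b * d a
          exact hd a b)
  let w₀ : A →ₐ[k] DualNumber k := (TrivSqZeroExt.inlAlgHom k k k).comp χ
  have heq := H (CommRingCat.ofHom w.toRingHom) (CommRingCat.ofHom w₀.toRingHom)
    (CommRingCat.hom_ext w.comp_algebraMap) (CommRingCat.hom_ext w₀.comp_algebraMap)
    (CommRingCat.hom_ext (RingHom.ext fun a => by simp [w, w₀]))
  have h0 : ∀ a, L (KaehlerDifferential.D k A a) = 0 := fun a => by
    have h1 := congrArg (fun f => TrivSqZeroExt.snd (f.hom a)) heq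
    simp [w, w₀] at h1
    exact h1
  have hsurj : Function.Surjective L := l.surjective.comp N.mkQ_surjective
  obtain ⟨z, hz⟩ := hsurj 1
  have hzero : L = 0 := LinearMap.ext_on_range (KaehlerDifferential.span_range_derivation k A) h0
  rw [hzero] at hz
  exact zero_ne_one hz


/-- Let k be an algebraically closed field and X a scheme locally of finite type over k. Then X → Spec k
is formally unramified if and only if the map Hom_k(Spec k[ε], X) → Hom_k(Spec k, X) given by
restricting along the closed immersion of Spec k into Spec k[ε] (k[ε] the ring of dual numbers, ε ↦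
0), is bijective; since that map is always surjective, the condition is stated as injectivity: two
k-morphisms from Spec k[ε] to X which agree on Spec k are equal. -/
theorem result (k : Type u) [Field k] [IsAlgClosed k]
    {X : Scheme.{u}} (p : X ⟶ Spec (CommRingCat.of k)) [LocallyOfFiniteType p] :
    FormallyUnramified p ↔
      ∀ v₁ v₂ : Spec (CommRingCat.of (DualNumber k)) ⟶ X,
        v₁ ≫ p = Spec.map (CommRingCat.ofHom (algebraMap k (DualNumber k))) →
        v₂ ≫ p = Spec.map (CommRingCat.ofHom (algebraMap k (DualNumber k))) →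
        Spec.map (CommRingCat.ofHom (TrivSqZeroExt.fstHom k k k).toRingHom) ≫ v₁ =
          Spec.map (CommRingCat.ofHom (TrivSqZeroExt.fstHom k k k).toRingHom) ≫ v₂ →
        v₁ = v₂ := by
  constructor
  · intro hp v₁ v₂ h₁ h₂ h
    haveI : IsClosedImmersion (Spec.map (CommRingCat.ofHom (TrivSqZeroExt.fstHom k k k).toRingHom)) :=
      IsClosedImmersion.spec_of_surjective _ fun r => ⟨TrivSqZeroExt.inl r, rfl⟩
    refine FormallyUnramified.hom_ext _ (Groth.Agent.S18905.ker_fst_nilpotent k) p h (h₁.trans h₂.symm)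
  · intro H
    refine (IsZariskiLocalAtSource.iff_of_openCover (P := @FormallyUnramified) X.affineCover).2 fun i => ?_
    haveI : LocallyOfFiniteType (X.affineCover.f i ≫ p) := inferInstance
    obtain ⟨φ, hφ⟩ := Spec.map_surjective (X.affineCover.f i ≫ p)
    rw [← hφ, HasRingHomProperty.Spec_iff (P := @FormallyUnramified)]
    have hft : φ.hom.FiniteType :=
      (HasRingHomProperty.Spec_iff (P := @LocallyOfFiniteType)).mp (by rw [hφ]; infer_instance)
    refine Groth.Agent.S18905.formallyUnramified_of_dual k φ hft fun w₁ w₂ e₁ e₂ e => ?_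
    apply Spec.map_injective
    rw [← cancel_mono (X.affineCover.f i)]
    refine H _ _ ?_ ?_ ?_
    · rw [Category.assoc, ← hφ, ← Spec.map_comp, e₁]
    · rw [Category.assoc, ← hφ, ← Spec.map_comp, e₂]
    · rw [← Category.assoc, ← Category.assoc, ← Spec.map_comp, ← Spec.map_comp, e]

end Groth.Agent.S18905
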