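import Groth.Statements.S8890
import Groth.Agent.RefX2.DepthTwoGen
import Groth.Agent.RefX2.DepthTwo

set_option autoImplicit false
set_option backward.isDefEq.respectTransparency false
set_option backward.isDefEq.respectTransparency.types false
universe u
open CategoryTheory CategoryTheory.Limits AlgebraicGeometry TopologicalSpace
open SDiv

namespace Groth.Agent.S8890

/-- Let X be a locally Noetherian scheme and φ : F ⟶ G a morphism of quasi-coherent O_X-modules with F
coherent. Assume that for every point x of X either the stalk map F_x → G_x is an isomorphism, or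
depth(F_x) ≥ 2 and x is not an associated point of G. Then φ is an isomorphism. -/
theorem result (X : Scheme.{u}) [IsLocallyNoetherian X] {F G : X.Modules} (φ : F ⟶ G)
    (hF : Coh.IsCoh F) (hG : Coh.IsQCoh G)
    (h : ∀ x : ↥X, Function.Bijective ((TopCat.Presheaf.stalkFunctor AddCommGrpCat.{u} x).map (Scheme.Modules.Hom.mapPresheaf φ)) ∨
      ((2 : ℕ∞) ≤ LocCoh.depth (X.presheaf.stalk x) (F.presheaf.stalk x) ∧ ¬ Curv2.IsAssPoint G x)) :
    IsIso φ := by
  refine ZClosLib.isIso_of_stalkMap_bijective φ fun x => ?_
  obtain ⟨n, hn⟩ : ∃ n : ℕ, Order.coheight x < n := by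
    rcases eq_or_ne (Order.coheight x) ⊤ with ht | ht
    · exact absurd (ringKrullDim_stalk_eq_coheight x) (by
        rw [ht]; exact (lt_top_iff_ne_top.1 ringKrullDim_lt_top))
    · exact ⟨(Order.coheight x).toNat + 1, by
        conv_lhs => rw [← ENat.coe_toNat ht]
        exact_mod_cast Nat.lt_succ_self _⟩
  exact RefX2.bijective_of_depth_gen φ hF hG h n x hn

end Groth.Agent.S8890
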