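import Groth.Statements.S18915
import Groth.Agent.RefX2.IsoPush
import Groth.Agent.S8890
import Groth.Agent.DepthAlongLib.Flat
import Groth.Agent.Triage.CMMor
import Groth.Agent.TFCurvLib.AssTF
import Groth.Agent.SmoothReg.Scheme
import Groth.Agent.RegLoc6.Basic
import Groth.Agent.CurveCohLib.Skyscraper
import Groth.Agent.VarDim.Top
import Groth.Agent.ZClosLib.CohDescent
import Groth.Agent.FDescent.StalkFinite
import Mathlib.AlgebraicGeometry.AlgClosed.Basic

set_option autoImplicit false
set_option backward.isDefEq.respectTransparency false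
set_option backward.isDefEq.respectTransparency.types false
set_option linter.style.haveILetI false
set_option maxHeartbeats 1000000
universe u
open CategoryTheory CategoryTheory.Limits AlgebraicGeometry
open TFNodal

namespace Groth.Agent.S18915

open IsLocalRing in
/-- A closed point outside `U` is not associated to `j_*j^*M`. -/
theorem not_isAssPoint_pushRes {Z : Scheme.{u}} [IsLocallyNoetherian Z] (U : Z.Opens) (M : Z.Modules) {z : Z}
    (hz : IsClosed ({z} : Set Z)) (hzU : z ∉ U) :
    ¬ Curv2.IsAssPoint ((Groth.Agent.RefX2.pushRes U).obj M) z := by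
  classical
  intro hass
  let G := (Groth.Agent.RefX2.pushRes U).obj M
  haveI : IsNoetherianRing (Z.presheaf.stalk z) := inferInstance
  obtain ⟨-, v, hv⟩ := isAssociatedPrime_iff.1 hass
  have hkill : ∀ r ∈ maximalIdeal (Z.presheaf.stalk z), r • v = 0 := fun r hr => by
    rw [hv, Submodule.mem_colon_singleton, Submodule.mem_bot] at hr
    exact hr
  have hne : v ≠ 0 := fun h0 => (maximalIdeal.isMaximal (Z.presheaf.stalk z)).ne_top
    (top_le_iff.1 fun r _ => by
      rw [hv, Submodule.mem_colon_singleton, h0, smul_zero]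
      exact zero_mem _)
  obtain ⟨V, hzV, a, rfl⟩ := TopCat.Presheaf.exists_germ_eq G.presheaf v
  obtain ⟨_, ⟨W, hW, rfl⟩, hzW, hWV⟩ := Z.isBasis_affineOpens.exists_subset_of_mem_open (show z ∈ V from hzV) V.2
  replace hW : IsAffineOpen W := hW
  replace hzW : z ∈ W := hzW
  replace hWV : W ≤ V := hWV
  haveI : IsNoetherianRing Γ(Z, W) := IsLocallyNoetherian.component_noetherian ⟨W, hW⟩
  let q := hW.primeIdealOf ⟨z, hzW⟩
  have hqmax : q.asIdeal.IsMaximal := hW.primeIdealOf_isMaximal_of_isClosed ⟨z, hzW⟩ hz
  obtain ⟨S, hS⟩ : q.asIdeal.FG := IsNoetherian.noetherian _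
  have hO : ∀ s : Finset Γ(Z, W), (∀ r ∈ s, r ∈ q.asIdeal) → ∃ O : Z.Opens, z ∈ O ∧ ∃ h : O ≤ W,
      ∀ r ∈ s, ∀ (y : Z) (hy : y ∈ O), Z.presheaf.germ W y (h hy) r • G.presheaf.germ V y (hWV (h hy)) a = 0 := by
    intro s
    induction s using Finset.induction with
    | empty => exact fun _ => ⟨W, hzW, le_rfl, fun r hr => absurd hr (Finset.notMem_empty r)⟩
    | insert r s hrs ih =>
      intro hs
      obtain ⟨O, hzO, hOW, hOs⟩ := ih fun r' hr' => hs r' (Finset.mem_insert_of_mem hr')
      have hrm : Z.presheaf.germ W z hzW r ∈ maximalIdeal (Z.presheaf.stalk z) := by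
        letI := Z.presheaf.algebra_section_stalk ⟨z, hzW⟩
        haveI := hW.isLocalization_stalk ⟨z, hzW⟩
        exact (IsLocalization.AtPrime.to_map_mem_maximal_iff (Z.presheaf.stalk z) q.asIdeal r).2
          (hs r (Finset.mem_insert_self r s))
      have h0 := hkill _ hrm
      have h1 : G.presheaf.germ W z hzW (r • G.presheaf.map (homOfLE hWV).op a) = G.presheaf.germ W z hzW 0 := by
        rw [Groth.Agent.QCoh.germ_smul', TopCat.Presheaf.germ_res_apply, map_zero]
        exact h0
      obtain ⟨O', hzO', i, i', hi⟩ := TopCat.Presheaf.germ_eq G.presheaf z _ _ _ _ h1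
      refine ⟨O ⊓ O', ⟨hzO, hzO'⟩, inf_le_left.trans hOW, fun r' hr' y hy => ?_⟩
      rcases Finset.mem_insert.1 hr' with rfl | hr''
      · have h2 := congrArg (G.presheaf.germ O' y hy.2) hi
        rw [TopCat.Presheaf.germ_res_apply, TopCat.Presheaf.germ_res_apply, map_zero,
          Groth.Agent.QCoh.germ_smul', TopCat.Presheaf.germ_res_apply] at h2
        exact h2
      · exact hOs r' hr'' y hy.1
  obtain ⟨O, hzO, hOW, hOS⟩ := hO S fun r hr => hS ▸ Ideal.subset_span hr
  have hzero : G.presheaf.map (homOfLE (hOW.trans hWV)).op a = 0 := by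
    refine Groth.Agent.ZClosLib.section_ext M (U := Groth.Agent.ZClosLib.img U O) _ _ fun y hy => ?_
    have hy' : y ∈ U ∧ y ∈ O := by
      rw [Groth.Agent.ZClosLib.img, ZClos.ι_image_preimage] at hy
      exact hy
    have hyW := hOW hy'.2
    apply (Groth.Agent.RefX2.unitTo_stalk_bijective U M hy'.1).1
    rw [← Groth.Agent.RefX2.germ_pushRes U M _ hy'.1 hy'.2]
    rw [map_zero, map_zero]
    rw [TopCat.Presheaf.germ_res_apply]
    by_contra hne'
    have hnu : ∀ r ∈ q.asIdeal, ¬ IsUnit (Z.presheaf.germ W y hyW r) := fun r hr => by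
      intro hu
      have hall : Z.presheaf.germ W y hyW r ∈ (Submodule.colon (⊥ : Submodule (Z.presheaf.stalk y) _)
          {G.presheaf.germ V y (hWV hyW) a} : Ideal (Z.presheaf.stalk y)) := by
        have : q.asIdeal ≤ Ideal.comap (Z.presheaf.germ W y hyW).hom
            (Submodule.colon (⊥ : Submodule (Z.presheaf.stalk y) _) {G.presheaf.germ V y (hWV hyW) a}) := by
          rw [← hS]
          refine Submodule.span_le.2 fun r' hr' => ?_
          rw [SetLike.mem_coe, Ideal.mem_comap, Submodule.mem_colon_singleton, Submodule.mem_bot]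
          exact hOS r' hr' y hy'.2
        exact this hr
      rw [Submodule.mem_colon_singleton, Submodule.mem_bot] at hall
      exact hne' ((IsUnit.smul_eq_zero hu).1 hall)
    letI := Z.presheaf.algebra_section_stalk ⟨y, hyW⟩
    haveI := hW.isLocalization_stalk ⟨y, hyW⟩
    have hle : q.asIdeal ≤ (hW.primeIdealOf ⟨y, hyW⟩).asIdeal := fun r hr =>
      (IsLocalization.AtPrime.to_map_mem_maximal_iff (Z.presheaf.stalk y) _ r).1
        ((mem_maximalIdeal _).2 (hnu r hr))
    have heq : q = hW.primeIdealOf ⟨y, hyW⟩ :=
      PrimeSpectrum.ext (hqmax.eq_of_le (Ideal.IsPrime.ne_top inferInstance) hle)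
    have hzy : z = y := by
      have := congrArg hW.fromSpec heq
      rwa [hW.fromSpec_primeIdealOf, hW.fromSpec_primeIdealOf] at this
    exact hzU (hzy ▸ hy'.1)
  apply hne
  rw [← TopCat.Presheaf.germ_res_apply G.presheaf (homOfLE (hOW.trans hWV)) z hzO a, hzero, map_zero]

open IsLocalRing in
/-- A point of a scheme with a proper generization has no field as local ring. -/
theorem not_isField_of_gen {W : Scheme.{u}} {w w' : W} (h : w' ⤳ w) (hne : w' ≠ w) :
    ¬ IsField (W.presheaf.stalk w) := fun hf =>
  hne (Groth.Agent.TFCurvLib.eq_of_specializes_of_isField hf h)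


/-- Let k be an algebraically closed field of characteristic zero, X a reduced proper curve over k (a
proper k-scheme of dimension one) without isolated points (no closed point is open, i.e. X is
one-dimensional at every point), C a smooth irreducible k-scheme of dimension one and c a closed
point of C. Put Z = X ×_k C with projections p_X and p_C, let Y be a nonempty finite set of closed
points of Z lying over c, and let j : U → Z be the inclusion of the open complement of Y. Then for
every coherent torsion free O_X-module F (every stalk a torsion free module over the local ring),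
the unit map p_X^* F → j_* j^* (p_X^* F) is an isomorphism. -/
theorem result
    (k : Type u) [Field k] [IsAlgClosed k] [CharZero k]
    (X : Scheme.{u}) [X.Over (Spec (CommRingCat.of k))] [IsProper (X ↘ Spec (CommRingCat.of k))]
    [AlgebraicGeometry.IsReduced X] (hdim : topologicalKrullDim X = 1)
    (hpure : ∀ x : X, IsClosed ({x} : Set X) → ¬ IsOpen ({x} : Set X))
    (C : Scheme.{u}) [C.Over (Spec (CommRingCat.of k))] [Smooth (C ↘ Spec (CommRingCat.of k))]
    [IrreducibleSpace C] (hdimC : topologicalKrullDim C = 1)
    (c : C) (hc : IsClosed ({c} : Set C))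
    (Y : Set ↑(pullback (X ↘ Spec (CommRingCat.of k)) (C ↘ Spec (CommRingCat.of k))))
    (hYfin : Y.Finite) (hYne : Y.Nonempty) (hYcl : ∀ z ∈ Y, IsClosed ({z} : Set _))
    (hYc : ∀ z ∈ Y, (pullback.snd (X ↘ Spec (CommRingCat.of k)) (C ↘ Spec (CommRingCat.of k))).base z = c)
    (U : (pullback (X ↘ Spec (CommRingCat.of k)) (C ↘ Spec (CommRingCat.of k))).Opens)
    (hU : (U : Set _) = Yᶜ)
    (F : X.Modules) (hF : Coh.IsCoh F) (htF : TorSh.IsTorsionFree F) :
    IsIso ((Scheme.Modules.restrictAdjunction U.ι).unit.app
      ((Scheme.Modules.pullback (pullback.fst (X ↘ Spec (CommRingCat.of k)) (C ↘ Spec (CommRingCat.of k)))).obj F)) := by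
  classical
  let fX := X ↘ Spec (CommRingCat.of k)
  let fC := C ↘ Spec (CommRingCat.of k)
  let g := pullback.fst fX fC
  haveI : IsLocallyNoetherian X := LocallyOfFiniteType.isLocallyNoetherian fX
  haveI : IsLocallyNoetherian C := LocallyOfFiniteType.isLocallyNoetherian fC
  haveI : Smooth g := inferInstance
  haveI : IsLocallyNoetherian (pullback fX fC) := LocallyOfFiniteType.isLocallyNoetherian g
  let P := (Scheme.Modules.pullback g).obj F
  have hP : Coh.IsCoh P := Groth.Agent.ZClosLib.isCoh_pullback g hF
  have hG : Coh.IsQCoh ((Groth.Agent.RefX2.pushRes U).obj P) :=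
    Groth.Agent.QCoh.isQCoh_pushforward U.ι (Groth.Agent.QCoh.isQCoh_restrict U.ι hP.1)
  refine Groth.Agent.S8890.result _ (Groth.Agent.RefX2.unitTo U P) hP hG fun z => ?_
  by_cases hzU : z ∈ U
  · exact Or.inl (Groth.Agent.RefX2.unitTo_stalk_bijective U P hzU)
  have hzY : z ∈ Y := by
    by_contra h
    exact hzU ((Set.ext_iff.1 hU z).2 h)
  have hzcl := hYcl z hzY
  refine Or.inr ⟨?_, not_isAssPoint_pushRes U P hzcl hzU⟩
  rw [Groth.Agent.DepthAlongLib.depth_pullback_stalk g F hF z]
  haveI : JacobsonSpace X := LocallyOfFiniteType.jacobsonSpace fX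
  haveI : LocallyOfFiniteType g := inferInstance
  have hx : IsClosed ({g z} : Set X) := by
    exact g.closePoints_subset_preimage_closedPoints hzcl
  have h1 : (1 : ℕ∞) ≤ LocCoh.depth (X.presheaf.stalk (g z)) (F.presheaf.stalk (g z)) := by
    haveI : SheafOfModules.IsFiniteType (R := X.ringCatSheaf) F := hF.2
    haveI := Groth.Agent.FDescent.finite_stalk F (g z)
    rw [Groth.Agent.Alg6.one_le_depth_iff]
    intro hass
    have hfield := Groth.Agent.TFCurvLib.isField_stalk_of_mem_ass htF (show g z ∈ AssSch.Ass F from hass)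
    apply hpure (g z) hx
    haveI := Groth.Agent.CurveCohLib.isNoetherian' (k := k) (X := X)
    have hfin : (irreducibleComponents (X : Type u)).Finite := TopologicalSpace.NoetherianSpace.finite_irreducibleComponents
    have heq : ({g z} : Set X) = (⋃ W ∈ irreducibleComponents (X : Type u) \ {{g z}}, W)ᶜ := by
      ext w
      simp only [Set.mem_compl_iff, Set.mem_iUnion, not_exists, Set.mem_singleton_iff]
      constructor
      · rintro rfl W ⟨hW, hWne⟩ hwW
        obtain ⟨η, hη⟩ := QuasiSober.sober hW.1 (isClosed_of_mem_irreducibleComponents W hW)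
        have := Groth.Agent.TFCurvLib.eq_of_specializes_of_isField hfield (hη.specializes hwW)
        rw [this] at hη
        exact hWne (hη.symm.trans hx.closure_eq)
      · intro hw
        by_contra hwne
        refine hw (irreducibleComponent w) ⟨irreducibleComponent_mem_irreducibleComponents w, fun hc => ?_⟩
          mem_irreducibleComponent
        exact hwne (Set.mem_singleton_iff.1 ((Set.mem_singleton_iff.1 hc) ▸ mem_irreducibleComponent))
    rw [heq]
    exact (Set.Finite.isClosed_biUnion (hfin.subset Set.sdiff_subset)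
      fun W hW => isClosed_of_mem_irreducibleComponents W hW.1).isOpen_compl
  have h2 : (1 : ℕ∞) ≤ LocCoh.depth ((pullback fX fC).presheaf.stalk z ⧸ Groth.Agent.DepthAlongLib.fibJ g z)
      ((pullback fX fC).presheaf.stalk z ⧸ Groth.Agent.DepthAlongLib.fibJ g z) := by
    obtain ⟨e₀⟩ := Groth.Agent.Triage.CMMor.exists_equiv_fibre_stalk g z
    let e : ((pullback fX fC).presheaf.stalk z ⧸ Groth.Agent.DepthAlongLib.fibJ g z) ≃+* _ := e₀
    let w := g.asFiber z
    haveI : Smooth (g.fiberToSpecResidueField (g z)) := MorphismProperty.pullback_snd _ _ inferInstance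
    haveI := Groth.Agent.SmoothReg.isRegularLocalRing_stalk_of_mem_smoothLocus
      (g.fiberToSpecResidueField (g z)) (x := w) (by rw [Scheme.Hom.smoothLocus_eq_top]; trivial)
    haveI := Groth.Agent.RegLoc6.isDomain_of_isRegularLocalRing ((g.fiber (g z)).presheaf.stalk w)
    -- the horizontal line through `z`
    let xp := pointOfClosedPoint fX (g z) hx
    let s : C ⟶ pullback fX fC := pullback.lift (fC ≫ xp) (𝟙 C) (by
      rw [Category.assoc, pointOfClosedPoint_comp, Category.comp_id, Category.id_comp])
    have hsg : ∀ y : C, g (s y) = g z := fun y => by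
      rw [← Scheme.Hom.comp_apply, pullback.lift_fst, Scheme.Hom.comp_apply]
      exact pointOfClosedPoint_apply fX (g z) hx _
    have hsc : s c = z := by
      haveI : JacobsonSpace (pullback fX fC : Scheme.{u}) := LocallyOfFiniteType.jacobsonSpace (g ≫ fX)
      let h := g ≫ fX
      have hs : s ≫ h = fC := by
        simp only [h, s, g, xp, pullback.lift_fst_assoc, Category.assoc, pointOfClosedPoint_comp, Category.comp_id]
      let cp := pointOfClosedPoint fC c hc
      let zp := pointOfClosedPoint h z hzcl
      have hcomp : cp ≫ s = zp := by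
        refine pullback.hom_ext ?_ ?_
        · refine ext_of_apply_closedPoint_eq fX ?_ ?_ ?_
          · rw [Category.assoc, Category.assoc]
            exact (congrArg (cp ≫ ·) hs).trans (pointOfClosedPoint_comp fC c hc)
          · rw [Category.assoc]
            exact pointOfClosedPoint_comp h z hzcl
          · rw [Scheme.Hom.comp_apply, Scheme.Hom.comp_apply, Scheme.Hom.comp_apply, pointOfClosedPoint_apply,
              pointOfClosedPoint_apply]
            exact hsg c
        · refine ext_of_apply_closedPoint_eq fC ?_ ?_ ?_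
          · rw [Category.assoc, Category.assoc]
            simp only [s, pullback.lift_snd_assoc, Category.id_comp]
            exact pointOfClosedPoint_comp fC c hc
          · rw [Category.assoc, ← pullback.condition]
            exact pointOfClosedPoint_comp h z hzcl
          · rw [Scheme.Hom.comp_apply, Scheme.Hom.comp_apply, Scheme.Hom.comp_apply, pointOfClosedPoint_apply,
              pointOfClosedPoint_apply]
            rw [← Scheme.Hom.comp_apply, pullback.lift_snd]
            exact (hYc z hzY).symm
      have := congrArg (fun f : Spec (CommRingCat.of k) ⟶ pullback fX fC => f (IsLocalRing.closedPoint k)) hcomp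
      simpa [cp, zp] using this
    have hgenC : genericPoint C ≠ c := fun hgc => by
      have h0 := Groth.Agent.VarDim.topologicalKrullDim_closure_singleton fC (genericPoint C)
      rw [show closure ({genericPoint C} : Set C) = Set.univ from genericPoint_spec C, hgc, (Groth.Agent.VarDim.closedPoint_iff_deg_eq_zero fC c).1 hc] at h0
      have h1 : topologicalKrullDim (Set.univ : Set C) = topologicalKrullDim C :=
        IsHomeomorph.topologicalKrullDim_eq _ (Homeomorph.Set.univ C).isHomeomorph
      rw [h1, hdimC] at h0
      exact absurd h0 (by decide)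
    have hrange : s (genericPoint C) ∈ Set.range (g.fiberι (g z)) := by
      rw [Scheme.Hom.range_fiberι]
      exact hsg _
    obtain ⟨w', hw'⟩ := hrange
    have hspec : w' ⤳ w := by
      rw [← (g.fiberι (g z)).isEmbedding.isInducing.specializes_iff, hw', Scheme.Hom.fiberι_asFiber, ← hsc]
      exact (genericPoint_specializes c).map s.continuous
    have hne : w' ≠ w := fun hww => hgenC (by
      have h1 : s (genericPoint C) = s c := by rw [← hw', hww, Scheme.Hom.fiberι_asFiber, hsc]
      have h2 := congrArg (pullback.snd fX fC) h1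
      rwa [← Scheme.Hom.comp_apply, ← Scheme.Hom.comp_apply, pullback.lift_snd] at h2)
    have hnf := not_isField_of_gen hspec hne
    rw [Groth.Agent.Alg6.depth_eq_of_semilinear e.toRingHom e.surjective e.toAddEquiv (fun r x => map_mul e r x),
      Groth.Agent.Alg6.one_le_depth_iff]
    intro hass
    obtain ⟨-, v, hv⟩ := isAssociatedPrime_iff.1 hass
    apply hnf
    rw [IsLocalRing.isField_iff_maximalIdeal_eq, eq_bot_iff]
    intro r hr
    have hv0 : v ≠ 0 := fun h0 => (IsLocalRing.maximalIdeal.isMaximal ((g.fiber (g z)).presheaf.stalk w)).ne_top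
      (top_le_iff.1 fun r _ => by
        rw [hv, Submodule.mem_colon_singleton, h0, smul_zero]
        exact zero_mem _)
    rw [hv, Submodule.mem_colon_singleton, Submodule.mem_bot, smul_eq_mul] at hr
    exact (Submodule.mem_bot _).2 ((mul_eq_zero.1 hr).resolve_right hv0)
  exact (show (2 : ℕ∞) = 1 + 1 from rfl).le.trans (add_le_add h1 h2)

end Groth.Agent.S18915
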