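import Groth.Statements.S18916
import Groth.Agent.RefX.Reflexive
import Groth.Agent.KZ.LFRes

set_option autoImplicit false
universe u
open CategoryTheory CategoryTheory.Limits AlgebraicGeometry
open TFNodal

namespace Groth.Agent.S18916



/-- A closed point with field stalk is open. -/
theorem isOpen_of_isField {X : Scheme.{u}} [IsLocallyNoetherian X] [CompactSpace X] (x : X)
    (hx : IsClosed ({x} : Set X)) (h : IsField (X.presheaf.stalk x)) : IsOpen ({x} : Set X) := by
  haveI : IsNoetherian X := {}
  have hgen : ∀ y : X, y ⤳ x → y = x := fun y hy => by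
    have hy' : y ∈ Set.range (X.fromSpecStalk x) := by rw [Scheme.range_fromSpecStalk]; exact hy
    obtain ⟨q, rfl⟩ := hy'
    letI := h.toField
    haveI : Subsingleton (Spec (X.presheaf.stalk x)) := inferInstanceAs (Subsingleton (PrimeSpectrum (X.presheaf.stalk x)))
    rw [Subsingleton.elim q (IsLocalRing.closedPoint _)]
    exact Scheme.fromSpecStalk_closedPoint
  let T : Set X := ⋃₀ {C | C ∈ irreducibleComponents X ∧ x ∉ C}
  have hfin : (irreducibleComponents X).Finite := TopologicalSpace.NoetherianSpace.finite_irreducibleComponents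
  have hT : IsClosed T := by
    have : T = ⋃ C ∈ {C | C ∈ irreducibleComponents X ∧ x ∉ C}, C := by
      simp only [T, Set.sUnion_eq_biUnion]
    rw [this]
    exact (hfin.subset fun C hC => hC.1).isClosed_biUnion fun C hC => isClosed_of_mem_irreducibleComponents C hC.1
  have : ({x} : Set X) = Tᶜ := by
    ext y
    refine ⟨fun hy hyT => ?_, fun hy => ?_⟩
    · obtain ⟨C, ⟨-, hxC⟩, hyC⟩ := hyT
      exact hxC (Set.mem_singleton_iff.1 hy ▸ hyC)
    · by_contra hne
      let C := irreducibleComponent y
      have hC : C ∈ irreducibleComponents X := irreducibleComponent_mem_irreducibleComponents y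
      have hxC : x ∈ C := by
        by_contra hxC
        exact hy ⟨C, ⟨hC, hxC⟩, mem_irreducibleComponent⟩
      have hi : IsIrreducible C := hC.1
      have hg := hi.isGenericPoint_genericPoint (isClosed_of_mem_irreducibleComponents C hC)
      have h1 : hi.genericPoint = x := hgen _ (hg.specializes hxC)
      have h2 : x ⤳ y := h1 ▸ hg.specializes mem_irreducibleComponent
      exact hne (h2.mem_closed hx rfl)
  rw [this]
  exact hT.isOpen_compl


/-- Let k be an algebraically closed field of characteristic zero, X a reduced proper curve over k (a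
proper k-scheme of dimension one) without isolated points (no closed point is open, i.e. X is
one-dimensional at every point) and F a coherent O_X-module. Then the dual 𝓗om(F, O_X) is torsion
free: no closed point of X is an associated point of it. -/
theorem result
    (k : Type u) [Field k] [IsAlgClosed k] [CharZero k]
    (X : Scheme.{u}) [X.Over (Spec (CommRingCat.of k))] [IsProper (X ↘ Spec (CommRingCat.of k))]
    [AlgebraicGeometry.IsReduced X] (hdim : topologicalKrullDim X = 1)
    (hpure : ∀ x : X, IsClosed ({x} : Set X) → ¬ IsOpen ({x} : Set X))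
    (F : X.Modules) (hF : Coh.IsCoh F) (x : X) (hx : IsClosed ({x} : Set X)) :
    ¬ Curv2.IsAssPoint (RefHull.dual F) x := by
  haveI : IsLocallyNoetherian X := LocallyOfFiniteType.isLocallyNoetherian (X ↘ Spec (CommRingCat.of k))
  haveI : CompactSpace X := QuasiCompact.compactSpace_of_compactSpace (X ↘ Spec (CommRingCat.of k))
  rintro ⟨-, θ, hθ⟩
  let R := X.presheaf.stalk x
  let e := Groth.Agent.RefX.dualStalk (Groth.Agent.KZ.LFRes.isFP_of_isCoh hF) x
  have hm : ∀ a ∈ IsLocalRing.maximalIdeal R, ∀ v, a * e θ v = 0 := fun a ha v => by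
    rw [hθ] at ha
    obtain ⟨j, hj⟩ := ha
    have hk : (a ^ j) • θ = 0 := Submodule.mem_colon_singleton.1 hj
    have h2 : a ^ j * e θ v = 0 := by
      rw [← smul_eq_mul, ← LinearMap.smul_apply, ← map_smul, hk, map_zero, LinearMap.zero_apply]
    have : IsNilpotent (a * e θ v) := ⟨j + 1, by
      rw [mul_pow, pow_succ a j, pow_succ (e θ v) j]
      calc a ^ j * a * (e θ v ^ j * e θ v) = (a ^ j * e θ v) * (a * e θ v ^ j) := by ring
        _ = 0 := by rw [h2, zero_mul]⟩
    exact this.eq_zero
  have key : ∀ c : R, (∀ a ∈ IsLocalRing.maximalIdeal R, a * c = 0) → c = 0 := by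
    intro c hc
    by_contra hc0
    have hcu : c ∈ IsLocalRing.maximalIdeal R ∨ IsUnit c := by
      rw [IsLocalRing.mem_maximalIdeal]; exact (em (IsUnit c)).symm
    rcases hcu with h | h
    · exact hc0 (IsNilpotent.eq_zero (show IsNilpotent c from ⟨2, by rw [sq]; exact hc c h⟩))
    · have hbot : IsLocalRing.maximalIdeal R = ⊥ := by
        refine (Submodule.eq_bot_iff _).2 fun a ha => ?_
        exact h.mul_left_eq_zero.1 (hc a ha)
      exact hpure x hx (isOpen_of_isField x hx (IsLocalRing.isField_iff_maximalIdeal_eq.2 hbot))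
  have hzero : e θ = 0 := LinearMap.ext fun v => key _ fun a ha => hm a ha v
  have hθ0 : θ = 0 := e.injective (by rw [hzero, map_zero])
  have h1 : (1 : R) ∈ IsLocalRing.maximalIdeal R := by
    rw [hθ, hθ0]
    exact ⟨1, Submodule.mem_colon_singleton.2 (by rw [smul_zero]; exact zero_mem _)⟩
  exact (IsLocalRing.maximalIdeal.isMaximal R).ne_top ((Ideal.eq_top_iff_one _).2 h1)

end Groth.Agent.S18916
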