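import Groth.Statements.S18918
import Groth.Agent.Pi1X.FEtDegree
import Groth.Agent.S8192

set_option autoImplicit false
set_option backward.isDefEq.respectTransparency false
set_option linter.style.haveILetI false
universe u
open CategoryTheory CategoryTheory.Limits AlgebraicGeometry
open FEt

namespace Groth.Agent.S18918

/-- Let f : X → Y be a finite étale morphism of degree n (f_*O_X locally free of rank n) and φ : X' → Y
a morphism from a nonempty connected scheme X'. Then the Y-morphisms X' → X (equivalently, the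
sections of X ×_Y X' → X') form a finite set with at most n elements, and there are exactly n of
them if and only if the covering X ×_Y X' → X' is trivial, i.e. X ×_Y X' is isomorphic over X' to
the disjoint union of n copies of X'. The source works with separated Noetherian schemes over an
algebraically closed field of characteristic zero; that setting is not needed for the statement. -/
theorem result
    {X Y X' : Scheme.{u}} (f : X ⟶ Y) [IsFinite f] [Etale f] (n : ℕ)
    (hdeg : FlatMod.IsFinLocFreeOfRank n ((Scheme.Modules.pushforward f).obj (Coh.structureModule X)))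
    (φ : X' ⟶ Y) [Nonempty X'] [ConnectedSpace X'] :
    Finite (Over.mk φ ⟶ Over.mk f) ∧ Nat.card (Over.mk φ ⟶ Over.mk f) ≤ n ∧
      (Nat.card (Over.mk φ ⟶ Over.mk f) = n ↔
        ∃ e : pullback f φ ≅ ∐ fun _ : Fin n => X',
          e.hom ≫ Sigma.desc (fun _ : Fin n => 𝟙 X') = pullback.snd f φ) := by
  classical
  obtain ⟨x₀⟩ := (inferInstance : Nonempty X')
  obtain ⟨Ω, _, _, η, -⟩ := Pi1X.exists_geometric_point x₀
  have hcard : Nat.card {s : Spec (CommRingCat.of Ω) ⟶ X // s ≫ f = η ≫ φ} = n :=
    Pi1X.card_lifts_eq f hdeg (η ≫ φ)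
  let Xc : FEt.Cat Y := MorphismProperty.Over.mk ⊤ f ⟨inferInstance, inferInstance⟩
  haveI hfin : Finite {s : Spec (CommRingCat.of Ω) ⟶ X // s ≫ f = η ≫ φ} := Pi1X.fiber_finite (η ≫ φ) Xc
  haveI : PreconnectedSpace ↥(Over.mk φ).left := inferInstanceAs (PreconnectedSpace X')
  let ev : (Over.mk φ ⟶ Over.mk f) → {s : Spec (CommRingCat.of Ω) ⟶ X // s ≫ f = η ≫ φ} :=
    fun g => ⟨η ≫ g.left, (Category.assoc _ _ _).trans (congrArg (η ≫ ·) (Over.w g))⟩
  have hev : Function.Injective ev := fun g h hgh => Over.OverMorphism.ext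
    (Pi1X.hom_ext_of_connected f (g.left : X' ⟶ X) (h.left : X' ⟶ X) ((Over.w g).trans (Over.w h).symm) η (congrArg Subtype.val hgh))
  haveI : Finite (Over.mk φ ⟶ Over.mk f) := Finite.of_injective ev hev
  have hle : Nat.card (Over.mk φ ⟶ Over.mk f) ≤ n := (Nat.card_le_card_of_injective ev hev).trans_eq hcard
  refine ⟨inferInstance, hle, fun hn => ?_, fun ⟨e, he⟩ => le_antisymm hle ?_⟩
  · obtain ⟨en⟩ : Nonempty ((Over.mk φ ⟶ Over.mk f) ≃ Fin n) := ⟨Finite.equivFinOfCardEq hn⟩
    have hb : Function.Bijective ev := (Nat.bijective_iff_injective_and_card _).2 ⟨hev, hn.trans hcard.symm⟩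
    have hw : ∀ i : Fin n, (en.symm i).left ≫ f = φ := fun i => Over.w (en.symm i)
    let Φ : (∐ fun _ : Fin n => X') ⟶ pullback f φ :=
      Sigma.desc fun i => pullback.lift (en.symm i).left (𝟙 X') (by rw [hw i, Category.id_comp])
    have hΦs : Φ ≫ pullback.snd f φ = Sigma.desc fun _ : Fin n => 𝟙 X' := by
      refine Sigma.hom_ext _ _ fun i => ?_
      simp [Φ]
    have hp : FEt.prop (pullback.snd f φ) := MorphismProperty.pullback_snd _ _ ⟨inferInstance, inferInstance⟩
    let Z : FEt.Cat X' := MorphismProperty.Over.mk ⊤ (pullback.snd f φ) hp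
    let W : FEt.Cat X' := MorphismProperty.Over.mk ⊤ (Sigma.desc fun _ : Fin n => 𝟙 X')
      ⟨Groth.Agent.S8192.isFinite_fold X' n,
        IsZariskiLocalAtSource.sigmaDesc fun _ => inferInstanceAs (Etale (𝟙 X'))⟩
    let φW : W ⟶ Z := MorphismProperty.Over.homMk Φ hΦs
    have hι : ∀ i : Fin n, (η ≫ Sigma.ι (fun _ : Fin n => X') i) ≫ Φ =
        pullback.lift (η ≫ (en.symm i).left) η (by rw [Category.assoc, hw i]) := by
      intro i
      apply pullback.hom_ext <;> simp [Φ]
    have hsurjW : ∀ y : FEt.fiberObj η W, ∃ i : Fin n, y.1 = η ≫ Sigma.ι (fun _ : Fin n => X') i := by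
      intro y
      obtain ⟨i, x, hx⟩ := (sigmaOpenCover fun _ : Fin n => X').exists_eq
        (y.1 (IsLocalRing.closedPoint Ω))
      have hsub : Set.range y.1 ⊆ Set.range (Sigma.ι (fun _ : Fin n => X') i) := by
        rintro _ ⟨z, rfl⟩
        rw [Pi1X.eq_closedPoint z]
        exact ⟨x, hx⟩
      let t := IsOpenImmersion.lift (Sigma.ι (fun _ : Fin n => X') i) y.1 hsub
      have ht : t ≫ Sigma.ι (fun _ : Fin n => X') i = y.1 := IsOpenImmersion.lift_fac _ _ hsub
      refine ⟨i, ?_⟩
      have h2 : y.1 ≫ Sigma.desc (fun _ : Fin n => 𝟙 X') = η := y.2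
      rw [← ht, Category.assoc, Sigma.ι_desc, Category.comp_id] at h2
      rw [← ht, h2]
    have hbij : Function.Bijective ((FEt.fiber η).map φW) := by
      constructor
      · intro y₁ y₂ h
        obtain ⟨i, h₁⟩ := hsurjW y₁
        obtain ⟨j, h₂⟩ := hsurjW y₂
        have h' : y₁.1 ≫ Φ = y₂.1 ≫ Φ := congrArg Subtype.val h
        rw [h₁, h₂, hι, hι] at h'
        have e1 := congrArg (· ≫ pullback.fst f φ) h'
        simp only [pullback.lift_fst] at e1
        obtain rfl : i = j := en.symm.injective (hb.1 (Subtype.ext e1))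
        exact Subtype.ext (h₁.trans h₂.symm)
      · intro z
        have hz : z.1 ≫ pullback.snd f φ = η := z.2
        obtain ⟨g, hg⟩ := hb.2 ⟨z.1 ≫ pullback.fst f φ, by
          rw [Category.assoc, pullback.condition, ← Category.assoc, hz]⟩
        refine ⟨⟨η ≫ Sigma.ι (fun _ : Fin n => X') (en g), ?_⟩, Subtype.ext ?_⟩
        · show (η ≫ _) ≫ Sigma.desc (fun _ : Fin n => 𝟙 X') = η
          rw [Category.assoc, Sigma.ι_desc, Category.comp_id]
        · show (η ≫ _) ≫ Φ = z.1
          rw [hι]
          apply pullback.hom_ext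
          · rw [pullback.lift_fst, Equiv.symm_apply_apply]; exact congrArg Subtype.val hg
          · rw [pullback.lift_snd, hz]
    haveI : IsIso φW := Pi1X.isIso_of_bijective η φW hbij
    haveI : IsIso Φ := inferInstanceAs (IsIso ((MorphismProperty.Over.forget FEt.prop ⊤ X' ⋙
      CategoryTheory.Over.forget X').map φW))
    refine ⟨(asIso Φ).symm, ?_⟩
    rw [← hΦs, Iso.symm_hom, asIso_inv, IsIso.inv_hom_id_assoc]
  · have hs : ∀ i : Fin n, (Sigma.ι (fun _ : Fin n => X') i ≫ e.inv) ≫ pullback.snd f φ = 𝟙 X' := by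
      intro i
      rw [← he, Category.assoc, Iso.inv_hom_id_assoc, Sigma.ι_desc]
    let sec : Fin n → (Over.mk φ ⟶ Over.mk f) := fun i => Over.homMk
      ((Sigma.ι (fun _ : Fin n => X') i ≫ e.inv) ≫ pullback.fst f φ) (by
        show _ ≫ f = φ
        rw [Category.assoc, pullback.condition, ← Category.assoc, hs, Category.id_comp])
    have hsec : Function.Injective sec := by
      intro i j h
      have h1 : Sigma.ι (fun _ : Fin n => X') i ≫ e.inv = Sigma.ι (fun _ : Fin n => X') j ≫ e.inv :=
        pullback.hom_ext (congrArg CommaMorphism.left h) ((hs i).trans (hs j).symm)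
      by_contra hne
      have h2 : Sigma.ι (fun _ : Fin n => X') i x₀ = Sigma.ι (fun _ : Fin n => X') j x₀ :=
        congrArg (fun m : X' ⟶ _ => m x₀) ((cancel_mono e.inv).1 h1)
      exact hne (congrArg Sigma.fst ((sigmaι_eq_iff _ _ _ _ _).1 h2))
    simpa using Nat.card_le_card_of_injective sec hsec

end Groth.Agent.S18918
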