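import Groth.Statements.S18929
import Mathlib

set_option autoImplicit false
universe u
open DPow

namespace Groth.Agent.S18929

/-- Let p be a prime, n a natural number, B a commutative ring in which p^n = 0, and I an ideal of B
equipped with divided powers. There is a ring homomorphism θ from the truncated Witt vectors
W_n(B/I) to B such that, for every Witt vector x over B, θ applied to the truncation of the image of
x in W_n(B/I) equals Σ_{i<n} p^i x_i^(p^(n−i)); in particular this sum depends only on the residues
of x_0, …, x_{n−1} modulo I. (The source works with a divided power thickening of an algebra over a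
perfect field and also checks linearity over the Witt vectors of that field; only the ring
homomorphism is asserted here. θ is unique, the truncation-of-reduction map being surjective.) -/
theorem result (p : ℕ) [Fact p.Prime] (n : ℕ)
    {B : Type u} [CommRing B] (hp : (p : B) ^ n = 0) {I : Ideal B} (hI : DividedPowers I) :
    ∃ θ : TruncatedWittVector p n (B ⧸ I) →+* B, ∀ x : WittVector p B, θ (WittVector.truncate n (WittVector.map (Ideal.Quotient.mk I) x)) =
        ∑ i : Fin n, (p : B) ^ (i : ℕ) * (x.coeff i) ^ (p ^ (n - i)) := by
  classical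
  have key : ∀ (i : ℕ) (a : B), i < n → a ∈ I → (p : B) ^ i * a ^ (p ^ (n - i)) = 0 := by
    intro i a hi ha
    obtain ⟨c, hc⟩ : p ^ (n - i) ∣ (p ^ (n - i)).factorial :=
      Nat.dvd_factorial (pow_pos (Fact.out : p.Prime).pos _) le_rfl
    rw [← hI.factorial_mul_dpow_eq_pow ha, hc, Nat.cast_mul, Nat.cast_pow, ← mul_assoc, ← mul_assoc,
      ← pow_add, Nat.add_sub_cancel' hi.le, hp, zero_mul, zero_mul]
  have hsum : ∀ x : WittVector p B, WittVector.ghostComponent n x =
      ∑ i : Fin n, (p : B) ^ (i : ℕ) * (x.coeff i) ^ (p ^ (n - i)) := by
    intro x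
    rw [WittVector.ghostComponent_apply, aeval_wittPolynomial, Finset.sum_range_succ, hp, zero_mul, add_zero,
      Finset.sum_range]
  let π : WittVector p B →+* TruncatedWittVector p n (B ⧸ I) :=
    (WittVector.truncate n).comp (WittVector.map (Ideal.Quotient.mk I))
  have hπ : Function.Surjective π :=
    (WittVector.truncate_surjective p n (B ⧸ I)).comp
      (WittVector.map_surjective (Ideal.Quotient.mk I) Ideal.Quotient.mk_surjective)
  have hker : RingHom.ker π ≤ RingHom.ker (WittVector.ghostComponent (p := p) (R := B) n) := by
    intro x hx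
    have hx' : WittVector.map (Ideal.Quotient.mk I) x ∈
        RingHom.ker (WittVector.truncate (p := p) (R := B ⧸ I) n) := by
      rw [RingHom.mem_ker] at hx ⊢
      rwa [RingHom.comp_apply] at hx
    rw [RingHom.mem_ker, hsum]
    refine Finset.sum_eq_zero fun i _ => key i _ i.isLt (Ideal.Quotient.eq_zero_iff_mem.1 ?_)
    rw [← WittVector.map_coeff]
    exact (WittVector.mem_ker_truncate n _).1 hx' i i.isLt
  exact ⟨RingHom.liftOfSurjective π hπ ⟨_, hker⟩, fun x =>
    (RingHom.liftOfSurjective_comp_apply π hπ ⟨_, hker⟩ x).trans (hsum x)⟩

end Groth.Agent.S18929
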