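import Groth.Statements.S18930
import Mathlib

set_option autoImplicit false
universe u
open DPow

namespace Groth.Agent.S18930

/-- Let p be a prime, n ≥ 1, B a commutative ring with p^n = 0 and A = B/pB. Let θ : W_n(A) → B be the
ring homomorphism which sends the reduction of a Witt vector (x_0, …, x_{n−1}) over B to Σ_{i<n} p^i
x_i^(p^(n−i)), let J_n be its kernel and let I_n be the set of a in W_n(A) whose zeroth component
satisfies a_0^(p^n) = 0. Then J_n + (p) ⊆ I_n. (In the source B is the ring of global sections of a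
scheme over the Witt vectors of length n of a perfect field.) -/
theorem result (p : ℕ) [Fact p.Prime] (n : ℕ) (hn : 0 < n)
    {B : Type u} [CommRing B] (hp : (p : B) ^ n = 0)
    (θ : TruncatedWittVector p n (B ⧸ (Ideal.span {(p : B)})) →+* B)
    (hθ : ∀ x : WittVector p B, θ (WittVector.truncate n (WittVector.map (Ideal.Quotient.mk (Ideal.span {(p : B)})) x)) =
        ∑ i : Fin n, (p : B) ^ (i : ℕ) * (x.coeff i) ^ (p ^ (n - i)))
    (a : TruncatedWittVector p n (B ⧸ (Ideal.span {(p : B)})))
    (ha : a ∈ RingHom.ker θ ⊔ Ideal.span {(p : TruncatedWittVector p n (B ⧸ (Ideal.span {(p : B)})))}) :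
    (TruncatedWittVector.coeff ⟨0, hn⟩ a) ^ (p ^ n) = 0 := by
  classical
  obtain ⟨m, rfl⟩ : ∃ m, n = m + 1 := ⟨n - 1, by omega⟩
  rcases subsingleton_or_nontrivial B with h | h
  · haveI : Subsingleton (B ⧸ Ideal.span {(p : B)}) := Quotient.instSubsingletonQuotient _
    exact Subsingleton.elim _ _
  haveI : CharP (B ⧸ Ideal.span {(p : B)}) p := CharP.quotient B p (fun hu =>
    not_isUnit_zero (M₀ := B) (hp ▸ hu.pow (m + 1)))
  obtain ⟨j, hj, z, hz, rfl⟩ := Submodule.mem_sup.1 ha
  obtain ⟨w, rfl⟩ := Ideal.mem_span_singleton'.1 hz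
  obtain ⟨j, rfl⟩ := WittVector.truncate_surjective p (m + 1) _ j
  obtain ⟨w, rfl⟩ := WittVector.truncate_surjective p (m + 1) _ w
  obtain ⟨x, hx⟩ := WittVector.map_surjective (Ideal.Quotient.mk (Ideal.span {(p : B)})) Ideal.Quotient.mk_surjective j
  rw [← map_natCast (WittVector.truncate (m + 1)), ← map_mul, ← map_add, WittVector.coeff_truncate]
  show (WittVector.constantCoeff (j + w * (p : WittVector p (B ⧸ Ideal.span {(p : B)})))) ^ p ^ (m + 1) = 0
  rw [map_add, show WittVector.constantCoeff (w * (p : WittVector p (B ⧸ Ideal.span {(p : B)}))) = (w * (p : WittVector p (B ⧸ Ideal.span {(p : B)}))).coeff 0 from rfl, WittVector.mul_charP_coeff_zero, add_zero]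
  show j.coeff 0 ^ p ^ (m + 1) = 0
  rw [← hx, WittVector.map_coeff, ← map_pow, Ideal.Quotient.eq_zero_iff_mem, Ideal.mem_span_singleton]
  rw [RingHom.mem_ker, ← hx, hθ, Fin.sum_univ_succ] at hj
  simp only [Fin.val_zero, pow_zero, one_mul, Nat.sub_zero, Fin.val_succ] at hj
  rw [eq_neg_of_add_eq_zero_left hj]
  exact (Finset.dvd_sum fun i _ => (dvd_pow_self _ (Nat.succ_ne_zero _)).mul_right _).neg_right

end Groth.Agent.S18930
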