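import Groth.Statements.S18931
import Mathlib

set_option autoImplicit false
universe u
open DPow

namespace Groth.Agent.S18931

/-- Let p be a prime, n ≥ 1, B a commutative ring with p^n = 0 and A = B/pB, and assume that the p-th
power map of A is surjective. Let θ : W_n(A) → B be the ring homomorphism which sends the reduction
of a Witt vector (x_0, …, x_{n−1}) over B to Σ_{i<n} p^i x_i^(p^(n−i)). Then every a in W_n(A) with
a_0^(p^n) = 0 lies in ker θ + (p); together with the reverse inclusion, ker θ + (p) is exactly the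
set of such a. (In the source B is the ring of global sections of a scheme over the Witt vectors of
length n of a perfect field. The printed argument subtracts a single correction term, which suffices
for n ≤ 2; in general one corrects the components one at a time.) -/
theorem result (p : ℕ) [Fact p.Prime]
    (n : ℕ) (hn : 0 < n) {B : Type u} [CommRing B] (hp : (p : B) ^ n = 0)
    (hF : Function.Surjective (fun y : B ⧸ (Ideal.span {(p : B)}) => y ^ p))
    (θ : TruncatedWittVector p n (B ⧸ (Ideal.span {(p : B)})) →+* B)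
    (hθ : ∀ x : WittVector p B, θ (WittVector.truncate n (WittVector.map (Ideal.Quotient.mk (Ideal.span {(p : B)})) x)) =
        ∑ i : Fin n, (p : B) ^ (i : ℕ) * (x.coeff i) ^ (p ^ (n - i)))
    (a : TruncatedWittVector p n (B ⧸ (Ideal.span {(p : B)}))) (ha : (TruncatedWittVector.coeff ⟨0, hn⟩ a) ^ (p ^ n) = 0) :
    a ∈ RingHom.ker θ ⊔ Ideal.span {(p : TruncatedWittVector p n (B ⧸ (Ideal.span {(p : B)})))} := by
  classical
  obtain ⟨m, rfl⟩ : ∃ m, n = m + 1 := ⟨n - 1, by omega⟩
  let A := B ⧸ Ideal.span {(p : B)}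
  let q := Ideal.Quotient.mk (Ideal.span {(p : B)})
  let W := TruncatedWittVector p (m + 1) A
  rcases subsingleton_or_nontrivial B with h | h
  · haveI : Subsingleton (B ⧸ Ideal.span {(p : B)}) := Quotient.instSubsingletonQuotient _
    haveI : Subsingleton (TruncatedWittVector p (m + 1) (B ⧸ Ideal.span {(p : B)})) :=
      ⟨fun x y => TruncatedWittVector.ext fun i => Subsingleton.elim _ _⟩
    rw [Subsingleton.elim a 0]; exact zero_mem _
  haveI : CharP (B ⧸ Ideal.span {(p : B)}) p := CharP.quotient B p (fun hu =>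
    not_isUnit_zero (M₀ := B) (hp ▸ hu.pow (m + 1)))
  have hfr : ∀ (e : ℕ) (a : A), ∃ y, y ^ p ^ e = a := by
    intro e
    induction e with
    | zero => exact fun a => ⟨a, by simp⟩
    | succ e ih =>
      intro a
      obtain ⟨y, rfl⟩ := ih a
      obtain ⟨z, rfl⟩ := hF y
      exact ⟨z, by rw [pow_succ', pow_mul]⟩
  have hstep : ∀ b : B, ∃ (w : W) (b' : B), b = θ w + (p : B) * b' := by
    intro b
    obtain ⟨y, hy⟩ := hfr (m + 1) (q b)
    obtain ⟨y, rfl⟩ := Ideal.Quotient.mk_surjective y
    let x : WittVector p B := WittVector.teichmuller p y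
    refine ⟨WittVector.truncate (m + 1) (WittVector.map q x), ?_⟩
    rw [hθ, Fin.sum_univ_succ]
    rw [← map_pow, Ideal.Quotient.eq, Ideal.mem_span_singleton] at hy
    obtain ⟨c, hc⟩ := hy
    refine ⟨-c - ∑ i : Fin m, (p : B) ^ (i : ℕ) * x.coeff (i.succ : Fin (m+1)) ^ p ^ (m + 1 - (i.succ : Fin (m+1))), ?_⟩
    simp only [x, Fin.val_zero, pow_zero, one_mul, Nat.sub_zero, WittVector.teichmuller_coeff_zero]
    rw [mul_sub, Finset.mul_sum]
    simp only [Fin.val_succ, pow_succ', mul_assoc]
    linear_combination -hc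
  have hsurj : ∀ b : B, ∃ w : W, θ w = b := by
    have hmem : ∀ (e : ℕ) (b : B), ∃ (w : W) (b' : B), b = θ w + (p : B) ^ e * b' := by
      intro e
      induction e with
      | zero => exact fun b => ⟨0, b, by simp⟩
      | succ e ih =>
        intro b
        obtain ⟨w, b', rfl⟩ := ih b
        obtain ⟨w', b'', rfl⟩ := hstep b'
        exact ⟨w + (p : W) ^ e * w', b'', by rw [map_add, map_mul, map_pow, map_natCast]; ring⟩
    intro b
    obtain ⟨w, b', rfl⟩ := hmem (m + 1) b
    exact ⟨w, by rw [hp, zero_mul, add_zero]⟩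
  -- elements with vanishing zeroth coefficient are divisible by p
  have hdiv : ∀ z : W, TruncatedWittVector.coeff ⟨0, hn⟩ z = 0 → z ∈ Ideal.span {(p : W)} := by
    intro z hz
    obtain ⟨z, rfl⟩ := WittVector.truncate_surjective p (m + 1) _ z
    rw [WittVector.coeff_truncate] at hz
    choose r hr using fun i => hF (z.coeff (i + 1))
    let u : WittVector p A := WittVector.mk p r
    have hu : z = u * p := by
      ext i
      cases i with
      | zero => rw [WittVector.mul_charP_coeff_zero]; exact hz
      | succ i => rw [WittVector.mul_charP_coeff_succ]; exact (hr i).symm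
    rw [hu, map_mul, map_natCast]
    exact Ideal.mul_mem_left _ _ (Ideal.mem_span_singleton_self _)
  obtain ⟨a₀, ha₀⟩ := Ideal.Quotient.mk_surjective (TruncatedWittVector.coeff ⟨0, hn⟩ a)
  let x : WittVector p B := WittVector.teichmuller p a₀
  let t : W := WittVector.truncate (m + 1) (WittVector.map q x)
  have hθt : ∃ b : B, θ t = (p : B) * b := by
    rw [← ha₀, ← map_pow, Ideal.Quotient.eq_zero_iff_mem, Ideal.mem_span_singleton] at ha
    show (p : B) ∣ θ t
    rw [hθ, Fin.sum_univ_succ]
    simp only [x, Fin.val_zero, pow_zero, one_mul, Nat.sub_zero, WittVector.teichmuller_coeff_zero, Fin.val_succ]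
    exact dvd_add ha (Finset.dvd_sum fun i _ => (dvd_pow_self _ (Nat.succ_ne_zero _)).mul_right _)
  obtain ⟨b, hb⟩ := hθt
  obtain ⟨w, hw⟩ := hsurj b
  have h1 : t - (p : W) * w ∈ RingHom.ker θ := by
    rw [RingHom.mem_ker, map_sub, map_mul, map_natCast, hw, hb, sub_self]
  have h2 : a - t ∈ Ideal.span {(p : W)} := by
    obtain ⟨a', rfl⟩ := WittVector.truncate_surjective p (m + 1) _ a
    show WittVector.truncate (m + 1) a' - WittVector.truncate (m + 1) (WittVector.map q x) ∈ _
    rw [← map_sub]
    refine hdiv _ ?_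
    rw [WittVector.coeff_truncate] at ha₀ ⊢
    show WittVector.constantCoeff (a' - WittVector.map q x) = 0
    rw [map_sub, sub_eq_zero]
    show a'.coeff 0 = (WittVector.map q x).coeff 0
    rw [WittVector.map_coeff, WittVector.teichmuller_coeff_zero]
    exact ha₀.symm
  have : a = (t - (p : W) * w) + ((a - t) + (p : W) * w) := by ring
  rw [this]
  exact add_mem (Submodule.mem_sup_left h1) (Submodule.mem_sup_right
    (add_mem h2 (Ideal.mul_mem_right _ _ (Ideal.mem_span_singleton_self _))))

end Groth.Agent.S18931
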