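import Groth.Statements.S18932
import Mathlib

set_option autoImplicit false
universe u
open DPow

namespace Groth.Agent.S18932

/-- Let p be a prime, k a perfect field of characteristic p, n a natural number and A a commutative
W_n(k)-algebra, W_n(k) the truncated Witt vectors, which is flat over W_n(k) and whose reduction
A/pA has surjective p-th power map. Let θ : W_n(A/pA) → A be the ring homomorphism which sends the
reduction of a Witt vector (x_0, …, x_{n−1}) over A to Σ_{i<n} p^i x_i^(p^(n−i)). Then θ is
surjective, so A is the quotient of W_n(A/pA) by the kernel of θ. (This is the step of the source's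
proposition establishing that Spec of the divided power envelope of that kernel is a thickening of
Spec A; the assertion that it is a final object of the crystalline site is not stated here.) -/
theorem result (p : ℕ) [Fact p.Prime]
    (k : Type u) [Field k] [CharP k p] [PerfectRing k p] (n : ℕ)
    (A : Type u) [CommRing A] [Algebra (TruncatedWittVector p n k) A] [Module.Flat (TruncatedWittVector p n k) A]
    (hF : Function.Surjective (fun y : A ⧸ (Ideal.span {(p : A)}) => y ^ p))
    (θ : TruncatedWittVector p n (A ⧸ (Ideal.span {(p : A)})) →+* A)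
    (hθ : ∀ x : WittVector p A, θ (WittVector.truncate n (WittVector.map (Ideal.Quotient.mk (Ideal.span {(p : A)})) x)) =
        ∑ i : Fin n, (p : A) ^ (i : ℕ) * (x.coeff i) ^ (p ^ (n - i))) :
    Function.Surjective θ := by
  classical
  obtain ⟨⟩ | n := n
  · intro a
    have h0 : (1 : A) = 0 := by
      have := congrArg (algebraMap (TruncatedWittVector p 0 k) A)
        (Subsingleton.elim (h := ⟨fun x y => TruncatedWittVector.ext fun i => i.elim0⟩) (1 : TruncatedWittVector p 0 k) 0)
      rwa [map_one, map_zero] at this
    exact ⟨0, by rw [map_zero, ← mul_one a, h0, mul_zero]⟩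
  have hp : (p : A) ^ (n + 1) = 0 := by
    have h : ((p : TruncatedWittVector p (n + 1) k)) ^ (n + 1) = 0 := by
      rw [show (p : TruncatedWittVector p (n + 1) k) ^ (n + 1) = WittVector.truncate (n + 1) ((p : WittVector p k) ^ (n + 1)) by
        rw [map_pow, map_natCast], ← RingHom.mem_ker, WittVector.mem_ker_truncate]
      intro i hi
      exact (WittVector.mem_span_p_pow_iff_le_coeff_eq_zero _ _).1 (Ideal.mem_span_singleton_self _) i hi
    have := congrArg (algebraMap (TruncatedWittVector p (n + 1) k) A) h
    rwa [map_pow, map_natCast, map_zero] at this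
  have hfr : ∀ (e : ℕ) (a : A ⧸ Ideal.span {(p : A)}), ∃ y, y ^ p ^ e = a := by
    intro e
    induction e with
    | zero => exact fun a => ⟨a, by simp⟩
    | succ e ih =>
      intro a
      obtain ⟨y, rfl⟩ := ih a
      obtain ⟨z, rfl⟩ := hF y
      exact ⟨z, by rw [pow_succ', pow_mul]⟩
  have hstep : ∀ a : A, ∃ w a', a = θ w + (p : A) * a' := by
    intro a
    obtain ⟨y, hy⟩ := hfr (n + 1) (Ideal.Quotient.mk _ a)
    obtain ⟨y, rfl⟩ := Ideal.Quotient.mk_surjective y
    let x : WittVector p A := WittVector.teichmuller p y
    refine ⟨WittVector.truncate (n + 1) (WittVector.map (Ideal.Quotient.mk (Ideal.span {(p : A)})) x), ?_⟩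
    rw [hθ, Fin.sum_univ_succ]
    rw [← map_pow, Ideal.Quotient.eq, Ideal.mem_span_singleton] at hy
    obtain ⟨c, hc⟩ := hy
    refine ⟨-c - ∑ i : Fin n, (p : A) ^ (i : ℕ) * x.coeff (i.succ : Fin (n+1)) ^ p ^ (n + 1 - (i.succ : Fin (n+1))), ?_⟩
    simp only [x, Fin.val_zero, pow_zero, one_mul, Nat.sub_zero, WittVector.teichmuller_coeff_zero]
    rw [mul_sub, Finset.mul_sum]
    simp only [Fin.val_succ, pow_succ', mul_assoc]
    linear_combination -hc
  have hmem : ∀ (e : ℕ) (a : A), ∃ w a', a = θ w + (p : A) ^ e * a' := by
    intro e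
    induction e with
    | zero => exact fun a => ⟨0, a, by simp⟩
    | succ e ih =>
      intro a
      obtain ⟨w, a', rfl⟩ := ih a
      obtain ⟨w', a'', rfl⟩ := hstep a'
      exact ⟨w + (p : TruncatedWittVector p (n + 1) (A ⧸ Ideal.span {(p : A)})) ^ e * w', a'',
        by rw [map_add, map_mul, map_pow, map_natCast]; ring⟩
  intro a
  obtain ⟨w, a', rfl⟩ := hmem (n + 1) a
  exact ⟨w, by rw [hp, zero_mul, add_zero]⟩

end Groth.Agent.S18932
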