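import Groth.Statements.S18938
import Groth.Agent.H1Syn.Regular

set_option autoImplicit false
universe u
open Synt

namespace Groth.Agent.S18938

/-- Let A be a Noetherian commutative ring and B a syntomic A-algebra. Then Spec B is covered by basic
opens D(g) with B[1/g] isomorphic, as an A-algebra, to A[T_1, …, T_n]/(P_1, …, P_d) for a regular
sequence P_1, …, P_d (successive non-zero-divisors with nonzero last quotient) in the polynomial
ring A[T_1, …, T_n]. (The source states this for a syntomic scheme over Spec A, syntomic meaning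
flat, locally of finite presentation and locally a Koszul-regular immersion into a smooth scheme;
here syntomic is the ring-map notion with local complete intersection fibres, which agrees with it.) -/
theorem result
    (A : Type u) [CommRing A] [IsNoetherianRing A] (B : Type u) [CommRing B] [Algebra A B]
    (h : Synt.IsSyntomic A B) (q : PrimeSpectrum B) :
    ∃ g : B, g ∉ q.asIdeal ∧
      ∃ (n d : ℕ) (P : Fin d → MvPolynomial (Fin n) A),
        RingTheory.Sequence.IsRegular (MvPolynomial (Fin n) A) (List.ofFn P) ∧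
        Nonempty (Localization.Away g ≃ₐ[A] (MvPolynomial (Fin n) A ⧸ Ideal.ofList (List.ofFn P))) := by
  obtain ⟨hflat, hfp, hfib⟩ := h
  obtain ⟨g, hg, N, M, F, hF, ⟨e⟩⟩ := Groth.Agent.Synt29.exists_isStd_away q
    (PrimeSpectrum.comap (algebraMap A B) q) rfl (hfib _)
  let I : Ideal (MvPolynomial (Fin N) A) := Ideal.span (Set.range F)
  have hIL : I = Ideal.ofList (List.ofFn F) := by
    show Ideal.span _ = Ideal.span _
    congr 1
    ext x
    simp [List.mem_ofFn]
  obtain ⟨f, hf1, hfreg⟩ := Groth.Agent.H1Syn.exists_regular_away (List.ofFn F) fun q' _ hq' =>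
    Groth.Agent.Synt29.weaklyRegular_relGCI hF q' fun i => hq' _ (List.mem_ofFn.2 ⟨i, rfl⟩)
  have hmk : Ideal.Quotient.mk I f = 1 := by
    rw [← map_one (Ideal.Quotient.mk I), Ideal.Quotient.eq, hIL]
    exact hf1
  obtain ⟨qT, -⟩ : q ∈ Set.range (PrimeSpectrum.comap (algebraMap B (Localization.Away g))) := by
    rw [PrimeSpectrum.localization_away_comap_range (Localization.Away g) g]
    exact hg
  let qI : PrimeSpectrum (MvPolynomial (Fin N) A ⧸ I) := PrimeSpectrum.comap e.toRingEquiv.toRingHom qT
  obtain ⟨d, P, hP, ⟨e'⟩⟩ := Groth.Agent.H1Syn.of_away_regular N I f qI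
    (by rw [hmk]; exact fun h1 => qI.isPrime.ne_top ((Ideal.eq_top_iff_one _).2 h1)) _ hfreg
    (by rw [hIL, Ideal.map_ofList])
  refine ⟨g, hg, N + 1, d, P, hP, ⟨(e.symm.trans ?_).trans e'⟩⟩
  haveI : IsLocalization.Away (Ideal.Quotient.mk I f) (MvPolynomial (Fin N) A ⧸ I) :=
    IsLocalization.away_of_isUnit_of_bijective _ (by rw [hmk]; exact isUnit_one) Function.bijective_id
  exact (IsLocalization.algEquiv (Submonoid.powers (Ideal.Quotient.mk I f)) (MvPolynomial (Fin N) A ⧸ I)
    (Localization.Away (Ideal.Quotient.mk I f))).restrictScalars A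

end Groth.Agent.S18938
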