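import Groth.Statements.S18942
import Mathlib

set_option autoImplicit false
universe u
open DPow

namespace Groth.Agent.S18942

theorem inv_frob_pow (p : ℕ) [Fact p.Prime] (k : Type u) [Field k] [CharP k p] [PerfectRing k p] (i : ℕ) (a : k) :
    (((_root_.frobeniusEquiv k p).symm ^ i) a) ^ p ^ i = a := by
  induction i generalizing a with
  | zero => simp
  | succ i ih =>
    rw [pow_succ', pow_succ, pow_mul]
    show ((((_root_.frobeniusEquiv k p).symm ((((_root_.frobeniusEquiv k p).symm ^ i)) a))) ^ p ^ i) ^ p = a
    rw [← pow_mul, ← pow_succ, pow_succ', pow_mul]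
    rw [frobeniusEquiv_symm_pow_p, ih]

/-- Let p be a prime, k a perfect field of characteristic p, n a natural number and x an element of
W_n(k), written here as the truncation of a Witt vector x over k. For any Witt vectors y_0, …,
y_{n−1} over k lifting the components of x under the map y ↦ (y_0)^(p^n) (that is, (y_i)_0^(p^n) =
x_i), one has x = Σ_{i<n} p^i y_i^(p^(n−i)) in W_n(k). -/
theorem result (p : ℕ) [Fact p.Prime]
    (k : Type u) [Field k] [CharP k p] [PerfectRing k p] (n : ℕ) (x : WittVector p k)
    (y : Fin n → WittVector p k) (hy : ∀ i : Fin n, ((y i).coeff 0) ^ (p ^ n) = x.coeff i) :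
    WittVector.truncate n x =
      WittVector.truncate n (∑ i : Fin n, (p : WittVector p k) ^ (i : ℕ) * (y i) ^ (p ^ (n - i))) := by
  classical
  cases n with
  | zero => exact TruncatedWittVector.ext fun i => i.elim0
  | succ m =>
    let W := WittVector p k
    let c : ℕ → W := fun i => WittVector.teichmuller p (((_root_.frobeniusEquiv k p).symm ^ i) (x.coeff i))
    have hpow : ∀ (z : W), (p : W) ^ (m + 1) ∣ z → WittVector.truncate (m + 1) z = 0 := by
      intro z hz
      rw [← RingHom.mem_ker, WittVector.mem_ker_truncate]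
      intro i hi
      exact (WittVector.mem_span_p_pow_iff_le_coeff_eq_zero z (m + 1)).1 (Ideal.mem_span_singleton.2 hz) i hi
    rw [← sub_eq_zero, ← map_sub]
    refine hpow _ ?_
    have h1 := WittVector.dvd_sub_sum_teichmuller_iterateFrobeniusEquiv_coeff (p := p) x m
    have h2 : (p : W) ^ (m + 1) ∣ ∑ i ∈ Finset.Iic m, c i * (p : W) ^ i -
        ∑ i : Fin (m + 1), (p : W) ^ (i : ℕ) * y i ^ p ^ (m + 1 - (i : ℕ)) := by
      rw [← Nat.range_succ_eq_Iic, ← Fin.sum_univ_eq_sum_range (fun i => c i * (p : W) ^ i),
        ← Finset.sum_sub_distrib]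
      refine Finset.dvd_sum fun i _ => ?_
      have hi : (i : ℕ) ≤ m := Nat.lt_succ_iff.1 i.2
      let t : W := WittVector.teichmuller p ((y i).coeff 0)
      have hd : (p : W) ∣ y i - t := by
        rw [← Ideal.mem_span_singleton, WittVector.mem_span_p_iff_coeff_zero_eq_zero]
        show WittVector.constantCoeff (y i - t) = 0
        rw [map_sub, sub_eq_zero]
        exact (WittVector.teichmuller_coeff_zero p _).symm
      have hc : c i = t ^ p ^ (m + 1 - (i : ℕ)) := by
        rw [← map_pow]
        show WittVector.teichmuller p _ = _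
        congr 1
        have hF : Function.Injective (fun z : k => z ^ p ^ (i : ℕ)) := by
          intro a b hab
          exact (iterateFrobeniusEquiv k p i).injective hab
        apply hF
        show (((_root_.frobeniusEquiv k p).symm ^ (i : ℕ)) (x.coeff i)) ^ p ^ (i : ℕ) = ((y i).coeff 0 ^ p ^ (m + 1 - (i : ℕ))) ^ p ^ (i : ℕ)
        rw [← pow_mul, ← pow_add, Nat.sub_add_cancel (by omega), hy i]
        exact inv_frob_pow p k i (x.coeff i)
      obtain ⟨e, he⟩ := dvd_sub_pow_of_dvd_sub hd (m + 1 - (i : ℕ))
      rw [hc, mul_comm ((t ^ p ^ (m + 1 - (i : ℕ))) : W), ← mul_sub]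
      refine ⟨-(e * (p : W)), ?_⟩
      have : ((p : W) ^ (m + 1)) * (p : W) = (p : W) ^ (i : ℕ) * (p : W) ^ (m + 1 - (i : ℕ) + 1) := by
        rw [← pow_add, ← pow_succ]; congr 1; omega
      linear_combination (-(p : W) ^ (i : ℕ)) * he + e * this
    have := dvd_add h1 h2
    simp only [c] at this
    rwa [sub_add_sub_cancel] at this

end Groth.Agent.S18942
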