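import Groth.Statements.S18955
import Groth.Agent.MagnetLib.Extend

set_option autoImplicit false
set_option backward.isDefEq.respectTransparency false
set_option backward.isDefEq.respectTransparency.types false
set_option maxHeartbeats 1000000
set_option linter.style.haveILetI false
universe u
open CategoryTheory MonoidalCategory CartesianMonoidalCategory MonObj AlgebraicGeometry Opposite
open Magnet

namespace Groth.Agent.S18955

open Groth.Agent

/-- Let k be a field, M an affine monoid k-scheme (a monoid object in k-schemes with affine underlying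
scheme), G an affine group k-scheme and i : G → M a homomorphism of monoids which is an open
immersion with scheme-theoretically dense image, and let X be an affine k-scheme with an action a of
G. Let D_X be the functor on k-schemes whose value at Y is the set of k-morphisms M ×_k Y → X that
are G-equivariant for G acting on M ×_k Y by left multiplication through i on the first factor and
on X through a. Then D_X is representable by a k-scheme Z, and the canonical map D_X → X
(restriction to the unit section of M) is a closed immersion j : Z → X. (The published statement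
takes G to be the group of units of M, open and schematically dense; here it is assumed only that i
is a homomorphism of monoids and a scheme-theoretically dominant open immersion of affine schemes.) -/
theorem result (k : Type u) [Field k]
    (M G X : Over (Spec (CommRingCat.of k))) [MonObj M] [GrpObj G] [IsAffine M.left] [IsAffine G.left]
    [IsAffine X.left] (i : G ⟶ M) [IsMonHom i] [IsOpenImmersion i.left]
    [IsSchemeTheoreticallyDominant i.left] (a : AlgGrp.Action G X) :
    ∃ (Z : Over (Spec (CommRingCat.of k))) (j : Z ⟶ X)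
      (e : (Magnet.MonAct.eqvHom ((Magnet.MonAct.regular M).restrict i) (Magnet.MonAct.ofAction a)).RepresentableBy Z),
      IsClosedImmersion j.left ∧
      ∀ (T : Over (Spec (CommRingCat.of k))) (z : T ⟶ Z),
        (Magnet.MonAct.eqvHom.evalAt ((Magnet.MonAct.regular M).restrict i) (Magnet.MonAct.ofAction a) η[M]).app
          (op T) (e.homEquiv z) = z ≫ j := by
  let ρ := (Magnet.MonAct.regular M).restrict i
  let a' := Magnet.MonAct.ofAction a
  let ψ : G ⊗ X ⟶ X := a'.act
  obtain ⟨Z, j, hj, ⟨φ₀, hφ₀⟩, huniv⟩ := MagnetLib.exists_closed_extend i ψ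
  haveI : Mono j := (Over.forget _).mono_of_mono_map (inferInstanceAs (Mono j.left))
  have hdom : ∀ T : Over (Spec (CommRingCat.of k)),
      IsSchemeTheoreticallyDominant (i ▷ T).left ∧ QuasiCompact (i ▷ T).left := fun T => by
    obtain ⟨h1, h2⟩ := MagnetLib.dominant_whiskerLeft T i
    have e : i ▷ T = (β_ G T).hom ≫ (T ◁ i) ≫ (β_ M T).inv := by
      rw [← BraidedCategory.braiding_naturality_left_assoc, Iso.hom_inv_id, Category.comp_id]
    haveI : IsIso (β_ G T).hom.left := (Over.forget _).map_isIso (β_ G T).hom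
    haveI : IsIso (β_ M T).inv.left := (Over.forget _).map_isIso (β_ M T).inv
    rw [e, Over.comp_left, Over.comp_left]
    exact ⟨inferInstance, inferInstance⟩
  have hpt : ∀ {T : Over (Spec (CommRingCat.of k))} (b : T ⟶ G) (t : T ⟶ Z),
      lift (b ≫ i) t ≫ φ₀ = lift b (t ≫ j) ≫ a'.act := fun b t => by
    rw [← lift_whiskerRight b t i, Category.assoc, hφ₀, lift_whiskerLeft_assoc]
  have heq : Magnet.MonAct.IsEquivariant (ρ.prod (Magnet.MonAct.trivial G Z)) a' φ₀ := by
    obtain ⟨h1, h2⟩ := hdom Z
    obtain ⟨h3, h4⟩ := MagnetLib.dominant_whiskerLeft G (i ▷ Z)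
    refine MagnetLib.hom_ext_dominant (G ◁ (i ▷ Z)) ?_
    let g := fst G (G ⊗ Z)
    let b := snd G (G ⊗ Z) ≫ fst G Z
    let t := snd G (G ⊗ Z) ≫ snd G Z
    have e : G ◁ (i ▷ Z) = lift g (lift (b ≫ i) t) := by
      apply CartesianMonoidalCategory.hom_ext
      · simp [g]
      · apply CartesianMonoidalCategory.hom_ext <;> simp [g, b, t]
    rw [e, Magnet.MonAct.lift_prod_act_assoc, Magnet.MonAct.lift_trivial_act, lift_whiskerLeft_assoc,
      Magnet.MonAct.lift_restrict_act, Magnet.MonAct.lift_regular_act, ← MonObj.mul_comp, hpt, hpt,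
      Magnet.MonAct.lift_mul_act]
  let u : (Magnet.MonAct.eqvHom ρ a').obj (op Z) := ⟨φ₀, heq⟩
  have hext : ∀ {T : Over (Spec (CommRingCat.of k))} (φ : (Magnet.MonAct.eqvHom ρ a').obj (op T)),
      (i ▷ T) ≫ φ.1 = (G ◁ (lift (toUnit T ≫ η[M]) (𝟙 T) ≫ φ.1)) ≫ ψ := by
    intro T φ
    have h := (Magnet.MonAct.mem_eqvHom_iff _).1 φ.2 (G ⊗ T) (fst G T) (1 : G ⊗ T ⟶ M) (snd G T)
    rw [Magnet.MonAct.lift_restrict_act, Magnet.MonAct.lift_regular_act, _root_.mul_one] at h
    have e1 : lift (fst G T ≫ i) (snd G T) = i ▷ T := by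
      apply CartesianMonoidalCategory.hom_ext <;> simp
    rw [e1] at h
    rw [h]
    congr 1
    apply CartesianMonoidalCategory.hom_ext
    · simp
    · rw [lift_snd, whiskerLeft_snd, comp_lift_assoc, Category.comp_id, ← Hom.one_def, MonObj.comp_one]
  have hz : ∀ {T : Over (Spec (CommRingCat.of k))} (φ : (Magnet.MonAct.eqvHom ρ a').obj (op T)),
      ∃ z : T ⟶ Z, z ≫ j = lift (toUnit T ≫ η[M]) (𝟙 T) ≫ φ.1 := fun {T} φ => huniv T _ ⟨φ.1, hext φ⟩
  have heval : ∀ {T : Over (Spec (CommRingCat.of k))} (z : T ⟶ Z),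
      lift (toUnit T ≫ η[M]) (𝟙 T) ≫ (M ◁ z) ≫ φ₀ = z ≫ j := fun {T} z => by
    rw [lift_whiskerLeft_assoc, Category.id_comp, ← Hom.one_def, ← MonObj.one_comp i, hpt,
      Magnet.MonAct.lift_one_act]
  have hright : ∀ {T : Over (Spec (CommRingCat.of k))} (φ : (Magnet.MonAct.eqvHom ρ a').obj (op T)),
      (Magnet.MonAct.eqvHom ρ a').map (hz φ).choose.op u = φ := by
    intro T φ
    obtain ⟨h1, h2⟩ := hdom T
    refine Subtype.ext (MagnetLib.hom_ext_dominant (i ▷ T) ?_)
    refine (hext ((Magnet.MonAct.eqvHom ρ a').map (hz φ).choose.op u)).trans ?_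
    rw [hext φ]
    congr 2
    exact (heval _).trans (hz φ).choose_spec
  let E : ∀ T : Over (Spec (CommRingCat.of k)), (T ⟶ Z) ≃ (Magnet.MonAct.eqvHom ρ a').obj (op T) := fun T =>
    Equiv.mk (fun z => (Magnet.MonAct.eqvHom ρ a').map z.op u) (fun φ => (hz φ).choose)
      (fun z => (cancel_mono j).1 ((hz _).choose_spec.trans (heval z))) hright
  have hcomp : ∀ {T T' : Over (Spec (CommRingCat.of k))} (f : T ⟶ T') (g : T' ⟶ Z),
      E T (f ≫ g) = (Magnet.MonAct.eqvHom ρ a').map f.op (E T' g) := by
    intro T T' f g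
    show (Magnet.MonAct.eqvHom ρ a').map (f ≫ g).op u = _
    rw [op_comp, Functor.map_comp]
    rfl
  exact ⟨Z, j, ⟨fun {T} => E T, hcomp⟩, hj, fun T z => heval z⟩

end Groth.Agent.S18955
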