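import Groth.Statements.S18964
import Groth.Agent.OverRep.Basic
import Groth.Agent.S18955
import Groth.Agent.S18958
import Groth.Agent.S18294
import Mathlib.AlgebraicGeometry.Sites.Fpqc

set_option autoImplicit false
set_option backward.isDefEq.respectTransparency false
set_option backward.isDefEq.respectTransparency.types false
set_option maxHeartbeats 1000000
set_option linter.style.haveILetI false
universe u
open CategoryTheory MonoidalCategory CartesianMonoidalCategory MonObj AlgebraicGeometry Opposite
open Magnet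

namespace Groth.Agent.S18964

open Groth.Agent CategoryTheory.Limits MonObj

/-- Let k be a field, M an affine monoid k-scheme, G an affine group k-scheme and i : G → M a
homomorphism of monoids which is an open immersion with scheme-theoretically dense image; let o :
Spec k → M be a zero of M (m·o = o = o·m), and assume that for every k-scheme T whose underlying
scheme is the spectrum of a field, every open subset of M ×_k T which is stable under G acting by
left multiplication through i on the first factor and contains the zero section is the whole of M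
×_k T. Let X be a k-scheme with an action aX of G such that the G-stable affine open subsets U of X
cover the fixed points: for every k-scheme T and every G-fixed T-valued point x of X, the preimages
under x of the G-stable affine opens cover T (equivalently, the open subfunctors U^G cover X^G; this
holds when X is locally linear, i.e. every point has a G-stable affine open neighbourhood). Then the
functor D_X on k-schemes, whose value at Y is the set of k-morphisms M ×_k Y → X that are
G-equivariant for G acting on M ×_k Y by left multiplication through i on the first factor, is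
representable by a k-scheme. (In the source M is a Kempf monoid with G its group of units;
affineness of G, density and openness of G in M and the displayed property of G-stable opens over
field extensions are the consequences of that hypothesis which the argument uses.) -/
theorem result (k : Type u) [Field k]
    (M G X : Over (Spec (CommRingCat.of k))) [MonObj M] [GrpObj G] [IsAffine M.left] [IsAffine G.left]
    (i : G ⟶ M) [IsMonHom i] [IsOpenImmersion i.left] [IsSchemeTheoreticallyDominant i.left]
    (o : 𝟙_ (Over (Spec (CommRingCat.of k))) ⟶ M)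
    (ho : ∀ (T : Over (Spec (CommRingCat.of k))) (m : T ⟶ M), m * (toUnit T ≫ o) = toUnit T ≫ o ∧ (toUnit T ≫ o) * m = toUnit T ≫ o)
    (hM : ∀ (T : Over (Spec (CommRingCat.of k))) (K : Type u) [Field K] (eT : T.left ≅ Spec (CommRingCat.of K))
      (W : (M ⊗ T).left.Opens),
      (CartesianMonoidalCategory.snd G (M ⊗ T)).left ⁻¹ᵁ W ≤
          ((((Magnet.MonAct.regular M).restrict i).prod (Magnet.MonAct.trivial G T)).act).left ⁻¹ᵁ W →
      (CartesianMonoidalCategory.lift (toUnit T ≫ o) (𝟙 T)).left ⁻¹ᵁ W = ⊤ → W = ⊤)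
    (aX : AlgGrp.Action G X)
    (hcov : ∀ (T : Over (Spec (CommRingCat.of k))) (x : (Magnet.MonAct.fixedPsh (Magnet.MonAct.ofAction aX)).obj (op T)),
      ⨆ (U : X.left.Opens) (_ : IsAffineOpen U ∧ (CartesianMonoidalCategory.snd G X).left ⁻¹ᵁ U ≤ aX.act.left ⁻¹ᵁ U),
        x.1.left ⁻¹ᵁ U = ⊤) :
    ∃ Z : Over (Spec (CommRingCat.of k)),
      Nonempty ((Magnet.MonAct.eqvHom ((Magnet.MonAct.regular M).restrict i) (Magnet.MonAct.ofAction aX)).RepresentableBy Z) := by
  let S₀ := Spec (CommRingCat.of k)
  let ρ := (Magnet.MonAct.regular M).restrict i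
  let a := Magnet.MonAct.ofAction aX
  let Idx := {U : X.left.Opens // IsAffineOpen U ∧ (CartesianMonoidalCategory.snd G X).left ⁻¹ᵁ U ≤ aX.act.left ⁻¹ᵁ U}
  let Uo : Idx → Over S₀ := fun U => Over.mk (U.1.ι ≫ X.hom)
  let inc : ∀ U, Uo U ⟶ X := fun U => Over.homMk U.1.ι rfl
  haveI : ∀ U, IsOpenImmersion (inc U).left := fun U => inferInstanceAs (IsOpenImmersion U.1.ι)
  haveI : ∀ U, IsAffine (Uo U).left := fun U => U.2.1
  haveI : ∀ U, Mono (inc U) := fun U =>
    (Over.forget S₀).mono_of_mono_map (inferInstanceAs (Mono (inc U).left))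
  have hrange : ∀ U {T : Over S₀} (p : T ⟶ X), (∃ q, q ≫ inc U = p) ↔ Set.range p.left ⊆ (U.1 : Set X.left) := by
    intro U T p
    have hr : Set.range (inc U).left = (U.1 : Set X.left) := Scheme.Opens.range_ι U.1
    constructor
    · rintro ⟨q, rfl⟩
      exact (H28.StableOpen.range_comp_subset (inc U) q).trans hr.subset
    · intro h
      exact H28.StableOpen.exists_lift (inc U) p (h.trans hr.ge)
  have hst : ∀ U, ∃ q : G ⊗ Uo U ⟶ Uo U, q ≫ inc U = (G ◁ inc U) ≫ aX.act := by
    intro U
    refine (hrange U _).2 ?_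
    rintro _ ⟨z, rfl⟩
    refine U.2.2 (x := (G ◁ inc U).left z) ?_
    show ((G ◁ inc U) ≫ CartesianMonoidalCategory.snd G X).left z ∈ U.1
    rw [whiskerLeft_snd]
    exact ((snd G (Uo U)).left z).2
  choose act hact using hst
  let aU : ∀ U, AlgGrp.Action G (Uo U) := fun U =>
    { act := act U
      one_act := by
        rw [← cancel_mono (inc U), Category.assoc, hact, ← whisker_exchange_assoc, aX.one_act, leftUnitor_hom,
          leftUnitor_hom, whiskerLeft_snd]
      mul_act := by
        rw [← cancel_mono (inc U), Category.assoc, hact, ← whisker_exchange_assoc, aX.mul_act, Category.assoc,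
          Category.assoc, hact, associator_naturality_right_assoc, ← MonoidalCategory.whiskerLeft_comp_assoc,
          ← hact, MonoidalCategory.whiskerLeft_comp_assoc, ← hact] }
  have hj : ∀ U, Magnet.MonAct.IsEquivariant (Magnet.MonAct.ofAction (aU U)) a (inc U) := fun U => hact U
  choose Z jZ eZ hclosed hev using fun U => S18955.result k M G (Uo U) i (aU U)
  let post := fun U => Magnet.MonAct.eqvHom.postcomp ρ (inc U) (hj U)
  let D := Magnet.MonAct.eqvHom ρ a
  let evo : ∀ T : Over S₀, D.obj (op T) → (T ⟶ X) := fun T φ => lift (toUnit T ≫ o) (𝟙 T) ≫ φ.1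
  have hevo : ∀ {T T' : Over S₀} (t : T' ⟶ T) (φ : D.obj (op T)), evo T' (D.map t.op φ) = t ≫ evo T φ := by
    intro T T' t φ
    show lift (toUnit T' ≫ o) (𝟙 T') ≫ (M ◁ t) ≫ φ.1 = t ≫ lift (toUnit T ≫ o) (𝟙 T) ≫ φ.1
    rw [lift_whiskerLeft_assoc, Category.id_comp, comp_lift_assoc, Category.comp_id, ← Category.assoc t (toUnit T),
      comp_toUnit]
  have hfix : ∀ (T : Over S₀) (φ : D.obj (op T)) (T' : Over S₀) (t : T' ⟶ T) (g : T' ⟶ G),
      lift g (t ≫ evo T φ) ≫ a.act = t ≫ evo T φ := by
    intro T φ T' t g
    have h := (Magnet.MonAct.mem_eqvHom_iff _).1 φ.2 T' g (toUnit T' ≫ o) t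
    rw [Magnet.MonAct.lift_restrict_act, Magnet.MonAct.lift_regular_act, (ho T' (g ≫ i)).1] at h
    have e : t ≫ evo T φ = lift (toUnit T' ≫ o) t ≫ φ.1 := by
      show t ≫ lift (toUnit T ≫ o) (𝟙 T) ≫ φ.1 = _
      rw [← Category.assoc t, comp_lift, Category.comp_id, ← Category.assoc t (toUnit T), comp_toUnit]
    rw [e, ← h]
  have hP : ∀ U, _ := fun U => S18958.result k M G X (Uo U) i o ho hM aX (aU U) (inc U) (hj U)
  have hsheaf : Presheaf.IsSheaf (Scheme.zariskiTopology.over S₀) D := by
    have hle : Scheme.zariskiTopology ≤ Scheme.fppfPrecoverage.toGrothendieck := by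
      refine Precoverage.toGrothendieck_mono ?_
      exact Scheme.precoverage_mono fun Y Y' f (hf : IsOpenImmersion f) => ⟨inferInstance, inferInstance⟩
    have h := (isSheaf_iff_isSheaf_of_type _ _).1 (S18294.result S₀ G M X ρ a)
    refine (isSheaf_iff_isSheaf_of_type _ _).2 fun T R hR => h R ?_
    rw [GrothendieckTopology.mem_over_iff] at hR ⊢
    exact hle _ hR
  have hmap : ∀ U (T : Over S₀) (q : T ⟶ Z U),
      D.map q.op ((post U).app (op (Z U)) ((eZ U).homEquiv (𝟙 _))) = (post U).app (op T) ((eZ U).homEquiv q) := by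
    intro U T q
    rw [(eZ U).homEquiv_eq q]
    refine Subtype.ext ?_
    show (M ◁ q) ≫ ((eZ U).homEquiv (𝟙 _)).1 ≫ inc U = ((M ◁ q) ≫ ((eZ U).homEquiv (𝟙 _)).1) ≫ inc U
    rw [Category.assoc]
  refine OverRep.exists_representableBy hsheaf Z (fun U => (post U).app (op (Z U)) ((eZ U).homEquiv (𝟙 _)))
    (fun U T φ => (evo T φ).left ⁻¹ᵁ U.1) (fun U T φ T' t => ?_) (fun U T q q' h => ?_) (fun T φ p => ?_)
  · constructor
    · intro ht
      obtain ⟨z, hz⟩ := (hrange U (t ≫ evo T φ)).2 (by rintro _ ⟨y, rfl⟩; exact ht ⟨y, rfl⟩)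
      obtain ⟨ψ, hψ, -⟩ := ((Types.isPullback_iff _ _ _ _).1 ((hP U).app (op T'))).2.2 (D.map t.op φ) z
        ((hevo t φ).trans hz.symm)
      exact ⟨(eZ U).homEquiv.symm ψ, by rw [hmap, Equiv.apply_symm_apply]; exact hψ⟩
    · rintro ⟨q, hq⟩
      rw [hmap] at hq
      have h := congrArg (evo T') hq
      rw [hevo] at h
      have hr := (hrange U (t ≫ evo T φ)).1 ⟨lift (toUnit T' ≫ o) (𝟙 T') ≫ ((eZ U).homEquiv q).1, by
        rw [← h]; exact Category.assoc _ _ _⟩
      rintro _ ⟨y, rfl⟩
      exact hr ⟨y, rfl⟩
  · rw [hmap, hmap] at h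
    exact (eZ U).homEquiv.injective (Subtype.ext ((cancel_mono (inc U)).1 (congrArg Subtype.val h)))
  · have h := hcov T ⟨evo T φ, hfix T φ⟩
    have hp : p ∈ (⊤ : T.left.Opens) := trivial
    rw [← h] at hp
    simp only [TopologicalSpace.Opens.mem_iSup] at hp
    obtain ⟨U, hU, hp⟩ := hp
    exact ⟨⟨U, hU⟩, hp⟩

end Groth.Agent.S18964
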