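import Groth.Statements.S18968
import Groth.Agent.MuStabIso.Basic
import Groth.Agent.HilbPoly.Simple

set_option backward.isDefEq.respectTransparency false
set_option backward.isDefEq.respectTransparency.types false
set_option linter.style.haveILetI false

set_option autoImplicit false
open CategoryTheory CategoryTheory.Limits AlgebraicGeometry Polynomial
universe u
open ShStab

namespace Groth.Agent.S18968

/-- Let k be an algebraically closed field of characteristic zero, X a smooth projective integral
variety of dimension n ≥ 1 over k polarised by an ample invertible sheaf L, and F a locally free or,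
more generally, reflexive coherent O_X-module which is slope-stable with respect to L. Then End(F)
consists of the homotheties: for every endomorphism φ of F there is c ∈ k with φ(s) = c·s for every
local section s of F. Slope stability is tested through the quantity α_(n−1)/α_n of Hilbert
polynomials with respect to L. -/
theorem result (k : Type u) [Field k] [IsAlgClosed k] [CharZero k]
    (X : Scheme.{u}) [X.Over (Spec (CommRingCat.of k))] [IsIntegral X]
    [IsProper (X ↘ Spec (CommRingCat.of k))] [Smooth (X ↘ Spec (CommRingCat.of k))]
    (n : ℕ) (hn : 1 ≤ n) (hX : topologicalKrullDim X = (n : WithBot ℕ∞))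
    (L : X.Modules) (hLi : PicF.IsInvertible L) (hL : CohB1.IsAmple L)
    (F : X.Modules) (hFr : RefHull.IsReflexive F) (hF : ShStab.IsMuStable k X L F n) (φ : F ⟶ F) :
    ∃ c : k, ∀ (V : X.Opens) (s : F.val.obj (Opposite.op V)),
        (φ.val.app (Opposite.op V)) s =
          (X.ringCatSheaf.obj.map (homOfLE (le_top : V ≤ ⊤)).op
            (Coh.toGlobal (X ↘ Spec (CommRingCat.of k)) c : X.ringCatSheaf.obj.obj (Opposite.op ⊤))) • s := by
  haveI : IsNoetherian X := Groth.Agent.CurveCohLib.isNoetherian_of_proper (k := k)
  obtain ⟨pF, hpF, -, -⟩ := Groth.Agent.HilbPoly.exists_hilb (k := k) hLi hF.1 hF.2.2.1.le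
  obtain ⟨c, rfl⟩ := Groth.Agent.HilbPoly.exists_scalar (X ↘ Spec (CommRingCat.of k)) hF.1 hF.2.1
    (fun ψ h => Groth.Agent.MuStabIso.isIso_of_muStable hn hX
      (Groth.Agent.CycEtLib.isNormalScheme_of_smooth_field (X ↘ Spec (CommRingCat.of k))) hL hFr hFr hF hF hpF hpF le_rfl ψ h) φ
  exact ⟨c, fun V s => Groth.Agent.HilbPoly.smulG_app F _ V s⟩

end Groth.Agent.S18968
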