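import Groth.Statements.S18974
import Mathlib

set_option autoImplicit false
universe u
open CAlg

namespace Groth.Agent.S18974

/-- Taylor coefficient. -/
noncomputable def c (A : Type u) [CommRing A] [Algebra ℚ A] (D : Derivation ℚ A A) (n : ℕ) (x : A) : A :=
  (n.factorial : ℚ)⁻¹ • (((D : A →ₗ[ℚ] A) ^ n) x)

theorem c_shift (A : Type u) [CommRing A] [Algebra ℚ A] (D : Derivation ℚ A A) (n : ℕ) (x : A) :
    c A D n (D x) = ((n + 1 : ℕ) : A) * c A D (n + 1) x := by
  unfold c
  rw [pow_succ, Module.End.mul_apply, ← map_natCast (algebraMap ℚ A), ← Algebra.smul_def, smul_smul]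
  congr 1
  rw [Nat.factorial_succ]; push_cast
  field_simp

theorem exists_taylor (A : Type u) [CommRing A] [Algebra ℚ A] (D : Derivation ℚ A A)
    (hnil : ∀ x : A, ∃ n : ℕ, ((D : A →ₗ[ℚ] A) ^ n) x = 0) :
    ∃ E : A →+* Polynomial A, ∀ x n, (E x).coeff n = c A D n x := by
  classical
  choose N hN using hnil
  let F : A → Polynomial A := fun x => ∑ n ∈ Finset.range (N x), Polynomial.monomial n (c A D n x)
  have hF : ∀ x n, (F x).coeff n = c A D n x := by
    intro x n
    simp only [F, Polynomial.finsetSum_coeff, Polynomial.coeff_monomial, Finset.sum_ite_eq', Finset.mem_range]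
    split_ifs with h
    · rfl
    · obtain ⟨d, rfl⟩ := Nat.exists_eq_add_of_le (not_lt.1 h)
      show 0 = _ • ((D : A →ₗ[ℚ] A) ^ (N x + d)) x
      rw [Nat.add_comm, pow_add, Module.End.mul_apply, hN, map_zero, smul_zero]
  have hadd : ∀ x y, F (x + y) = F x + F y := fun x y => Polynomial.ext fun n => by
    rw [Polynomial.coeff_add, hF, hF, hF]; simp [c, smul_add]
  have hder : ∀ x, Polynomial.derivative (F x) = F (D x) := fun x => Polynomial.ext fun n => by
    rw [Polynomial.coeff_derivative, hF, hF, c_shift, Nat.cast_succ, mul_comm]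
  have hmul : ∀ n, ∀ x y, (F (x * y)).coeff n = (F x * F y).coeff n := by
    intro n
    induction n with
    | zero => intro x y; simp [Polynomial.mul_coeff_zero, hF, c]
    | succ n ih =>
      intro x y
      have h1 : (F (x * y)).coeff (n + 1) * ((n : A) + 1) = (F (D (x * y))).coeff n := by
        rw [← hder, Polynomial.coeff_derivative]
      have h2 : (F x * F y).coeff (n + 1) * ((n : A) + 1) = (F (D (x * y))).coeff n := by
        rw [← Polynomial.coeff_derivative, Polynomial.derivative_mul, hder, hder, Polynomial.coeff_add, ← ih, ← ih,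
          ← Polynomial.coeff_add, ← hadd, D.leibniz, smul_eq_mul, smul_eq_mul]
        congr 2
        ring
      have hu : IsUnit ((n : A) + 1) := by
        have h := (IsUnit.mk0 ((n : ℚ) + 1) (Nat.cast_add_one_ne_zero n)).map (algebraMap ℚ A)
        simpa using h
      exact hu.mul_left_injective (h1.trans h2.symm)
  refine ⟨{ toFun := F, map_one' := ?_, map_mul' := fun x y => Polynomial.ext fun n => hmul n x y,
            map_zero' := ?_, map_add' := hadd }, hF⟩
  · refine Polynomial.ext fun n => ?_
    rw [hF, Polynomial.coeff_one]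
    rcases n with _ | n
    · simp [c]
    · rw [if_neg (Nat.succ_ne_zero n)]
      simp [c, pow_succ, Module.End.mul_apply]
  · exact Polynomial.ext fun n => by rw [hF]; simp [c]

/-- Let A be a commutative algebra over the rationals, D a locally nilpotent derivation of A and a an
element with D a = 1; write A' for the quotient of A by the ideal generated by a. Then there is a
ring isomorphism from A onto the polynomial ring A'[Y] which sends every x to the (finite) sum over
n of (1/n!) (class of D^n x) Y^n; its inverse sends Y to a and the constant polynomial on the class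
of x to the sum over n of ((-1)^n/n!) (D^n x) a^n, and under it D corresponds to the derivative
d/dY. (The source says only that A is a ring, in a setting over a field of characteristic zero; the
rational coefficients 1/n! require an algebra over the rationals, which is the hypothesis taken
here. Both sums are written over any range beyond which the iterates of D vanish at x.) -/
theorem result
    (A : Type u) [CommRing A] [Algebra ℚ A] (D : Derivation ℚ A A)
    (hnil : ∀ x : A, ∃ n : ℕ, ((D : A →ₗ[ℚ] A) ^ n) x = 0) (a : A) (ha : D a = 1) :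
    ∃ χ : A ≃+* Polynomial (A ⧸ Ideal.span ({a} : Set A)),
      (∀ (x : A) (N : ℕ), ((D : A →ₗ[ℚ] A) ^ N) x = 0 →
        χ x = ∑ n ∈ Finset.range N,
          ((n.factorial : ℚ)⁻¹ • Polynomial.C (Ideal.Quotient.mk (Ideal.span ({a} : Set A)) (((D : A →ₗ[ℚ] A) ^ n) x))) *
            Polynomial.X ^ n) ∧
      χ.symm Polynomial.X = a ∧
      (∀ (x : A) (N : ℕ), ((D : A →ₗ[ℚ] A) ^ N) x = 0 →
        χ.symm (Polynomial.C (Ideal.Quotient.mk (Ideal.span ({a} : Set A)) x)) =
          ∑ n ∈ Finset.range N, (((-1 : ℚ) ^ n * (n.factorial : ℚ)⁻¹) • ((((D : A →ₗ[ℚ] A) ^ n) x) * a ^ n))) ∧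
      ∀ p : Polynomial (A ⧸ Ideal.span ({a} : Set A)), χ (D (χ.symm p)) = Polynomial.derivative p := by
  classical
  obtain ⟨E, hE⟩ := exists_taylor A D hnil
  let I : Ideal A := Ideal.span ({a} : Set A)
  let q : A →+* A ⧸ I := Ideal.Quotient.mk I
  let χ : A →+* Polynomial (A ⧸ I) := (Polynomial.mapRingHom q).comp E
  have hc : ∀ x n, (χ x).coeff n = q (c A D n x) := fun x n => by
    show ((E x).map q).coeff n = _
    rw [Polynomial.coeff_map, hE]
  let π : A →+* A := (Polynomial.evalRingHom (-a)).comp E
  have hsum : ∀ (x : A) (N : ℕ), ((D : A →ₗ[ℚ] A) ^ N) x = 0 → ∀ n, N ≤ n → c A D n x = 0 := by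
    intro x N hN n hn
    obtain ⟨d, rfl⟩ := Nat.exists_eq_add_of_le hn
    show _ • ((D : A →ₗ[ℚ] A) ^ (N + d)) x = 0
    rw [Nat.add_comm, pow_add, Module.End.mul_apply, hN, map_zero, smul_zero]
  have hπ : ∀ (x : A) (N : ℕ), ((D : A →ₗ[ℚ] A) ^ N) x = 0 → π x =
      ∑ n ∈ Finset.range N, (((-1 : ℚ) ^ n * (n.factorial : ℚ)⁻¹) • ((((D : A →ₗ[ℚ] A) ^ n) x) * a ^ n)) := by
    intro x N hN
    have hdeg : E x = ∑ n ∈ Finset.range N, Polynomial.C (c A D n x) * Polynomial.X ^ n := by
      refine Polynomial.ext fun n => ?_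
      simp only [Polynomial.finsetSum_coeff, Polynomial.coeff_C_mul_X_pow, Finset.sum_ite_eq, Finset.mem_range, hE]
      split_ifs with h
      · rfl
      · exact hsum x N hN n (not_lt.1 h)
    show Polynomial.eval (-a) (E x) = _
    rw [hdeg, Polynomial.eval_finsetSum]
    refine Finset.sum_congr rfl fun n _ => ?_
    rw [Polynomial.eval_mul, Polynomial.eval_C, Polynomial.eval_pow, Polynomial.eval_X, neg_pow a n]
    simp only [c, Algebra.smul_def, map_mul, map_pow, map_neg, map_one]
    ring
  have hπD : ∀ x, D (π x) = 0 := by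
    intro x
    obtain ⟨N, hN⟩ := hnil x
    have key : ∀ M : ℕ, D (∑ n ∈ Finset.range (M + 1),
        (((-1 : ℚ) ^ n * (n.factorial : ℚ)⁻¹) • ((((D : A →ₗ[ℚ] A) ^ n) x) * a ^ n))) =
        (((-1 : ℚ) ^ M * (M.factorial : ℚ)⁻¹) • ((((D : A →ₗ[ℚ] A) ^ (M + 1)) x) * a ^ M)) := by
      intro M
      induction M with
      | zero => simp
      | succ M ih =>
        have hD1 : D (a ^ (M + 1)) = ((M : ℚ) + 1) • a ^ M := by
          rw [Derivation.leibniz_pow, ha, smul_eq_mul, mul_one, Nat.add_sub_cancel, ← Nat.cast_smul_eq_nsmul ℚ]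
          push_cast; rfl
        rw [Finset.sum_range_succ, map_add, ih, D.map_smul, D.leibniz, hD1, pow_succ' (D : A →ₗ[ℚ] A) (M + 1),
          Module.End.mul_apply, smul_eq_mul, smul_eq_mul, smul_add, mul_smul_comm, smul_smul]
        have hco : ((-1 : ℚ) ^ (M + 1) * ((M + 1).factorial : ℚ)⁻¹) * ((M : ℚ) + 1) = -((-1 : ℚ) ^ M * (M.factorial : ℚ)⁻¹) := by
          rw [Nat.factorial_succ]; push_cast
          have : ((M : ℚ) + 1) ≠ 0 := Nat.cast_add_one_ne_zero M
          field_simp
          ring
        rw [hco, neg_smul, mul_comm (a ^ (M + 1))]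
        simp only [Derivation.coeFn_coe]
        abel
    have hN' : ((D : A →ₗ[ℚ] A) ^ (N + 1)) x = 0 := by
      rw [pow_succ', Module.End.mul_apply, hN, map_zero]
    rw [hπ x (N + 1) hN', key, hN', zero_mul, smul_zero]
  have hqπ : ∀ x, q (π x) = q x := by
    intro x
    show q (Polynomial.eval (-a) (E x)) = _
    rw [← Polynomial.eval_map_apply, show q (-a) = 0 from Ideal.Quotient.eq_zero_iff_mem.2 (neg_mem (Ideal.mem_span_singleton_self a)),
      ← Polynomial.coeff_zero_eq_eval_zero, Polynomial.coeff_map, hE]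
    simp [c]
  have hχD : ∀ x, χ (D x) = Polynomial.derivative (χ x) := by
    intro x
    refine Polynomial.ext fun n => ?_
    rw [Polynomial.coeff_derivative, hc, hc, ← Nat.cast_succ, ← map_natCast q, ← map_mul, c_shift A D n x, mul_comm]
  have hχa : χ a = Polynomial.X := by
    refine Polynomial.ext fun n => ?_
    rw [hc, Polynomial.coeff_X]
    rcases n with _ | _ | n
    · simp [c, q, I, Ideal.Quotient.eq_zero_iff_mem, Ideal.mem_span_singleton_self]
    · simp [c, ha]
    · rw [if_neg (by omega)]
      simp [c, pow_succ, Module.End.mul_apply, ha]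
  have hχπ : ∀ x, χ (π x) = Polynomial.C (q x) := by
    intro x
    have h0 : Polynomial.derivative (χ (π x)) = 0 := by rw [← hχD, hπD, map_zero]
    refine Polynomial.ext fun n => ?_
    rcases n with _ | n
    · rw [Polynomial.coeff_C_zero, hc]
      simp [c, hqπ]
    · rw [Polynomial.coeff_C_ne_zero (Nat.succ_ne_zero n)]
      have := congrArg (fun P => Polynomial.coeff P n) h0
      rw [Polynomial.coeff_derivative, Polynomial.coeff_zero] at this
      have hu : IsUnit ((n : A ⧸ I) + 1) := by
        have h1 := (IsUnit.mk0 ((n : ℚ) + 1) (Nat.cast_add_one_ne_zero n)).map (algebraMap ℚ (A ⧸ I))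
        simpa using h1
      exact hu.mul_left_eq_zero.1 this
  have hπa : π a = 0 := by
    rw [hπ a 2 (by simp [pow_succ, Module.End.mul_apply, ha])]
    simp [Finset.sum_range_succ, ha]
  have hinj : Function.Injective χ := by
    rw [injective_iff_map_eq_zero]
    intro y hy
    by_contra hy0
    have hex : ∃ m, ((D : A →ₗ[ℚ] A) ^ m) y = 0 := hnil y
    obtain ⟨m, hm⟩ : ∃ m, Nat.find hex = m + 1 := by
      refine Nat.exists_eq_add_one_of_ne_zero fun h => hy0 ?_
      have := Nat.find_spec hex
      rw [h] at this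
      simpa using this
    set z := ((D : A →ₗ[ℚ] A) ^ m) y
    have hz : z ≠ 0 := Nat.find_min hex (by omega)
    have hDz : ((D : A →ₗ[ℚ] A) ^ 1) z = 0 := by
      rw [pow_one]
      have := Nat.find_spec hex
      rw [hm, pow_succ', Module.End.mul_apply] at this
      exact this
    have hχz : χ z = 0 := by
      have : ∀ m : ℕ, χ (((D : A →ₗ[ℚ] A) ^ m) y) = 0 := by
        intro m
        induction m with
        | zero => simpa using hy
        | succ m ih => rw [pow_succ', Module.End.mul_apply]; show χ (D _) = 0; rw [hχD, ih, map_zero]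
      exact this m
    have hqz : q z = 0 := by
      have := congrArg (fun P => Polynomial.coeff P 0) hχz
      rw [hc, Polynomial.coeff_zero] at this
      simpa [c] using this
    obtain ⟨w, hw⟩ := Ideal.mem_span_singleton'.1 (Ideal.Quotient.eq_zero_iff_mem.1 hqz)
    refine hz ?_
    have h1 : π z = z := by rw [hπ z 1 hDz]; simp
    rw [← h1, ← hw, map_mul, hπa, mul_zero]
  have hsurj : Function.Surjective χ := by
    intro P
    induction P using Polynomial.induction_on' with
    | add P Q hP hQ => obtain ⟨u, rfl⟩ := hP; obtain ⟨v, rfl⟩ := hQ; exact ⟨u + v, map_add _ _ _⟩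
    | monomial n b =>
      obtain ⟨b, rfl⟩ := Ideal.Quotient.mk_surjective b
      exact ⟨π b * a ^ n, by rw [map_mul, map_pow, hχπ, hχa, Polynomial.C_mul_X_pow_eq_monomial]⟩
  refine ⟨RingEquiv.ofBijective χ ⟨hinj, hsurj⟩, fun x N hN => ?_, ?_, fun x N hN => ?_, fun p => ?_⟩
  · show χ x = _
    refine Polynomial.ext fun n => ?_
    rw [hc, Polynomial.finsetSum_coeff]
    simp only [smul_mul_assoc, Polynomial.coeff_smul, Polynomial.coeff_C_mul_X_pow, smul_ite, smul_zero,
      Finset.sum_ite_eq, Finset.mem_range]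
    split_ifs with h
    · show q (_ • _) = _
      exact map_rat_smul q _ _
    · rw [hsum x N hN n (not_lt.1 h), map_zero]
  · rw [RingEquiv.symm_apply_eq]; exact hχa.symm
  · rw [← hπ x N hN, RingEquiv.symm_apply_eq]; exact (hχπ x).symm
  · show χ (D _) = _
    rw [hχD]
    congr 1
    exact (RingEquiv.ofBijective χ ⟨hinj, hsurj⟩).apply_symm_apply p

end Groth.Agent.S18974
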