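import Groth.Statements.S18983
import Mathlib.LinearAlgebra.FiniteDimensional.Basic
import Mathlib.LinearAlgebra.Basis.VectorSpace
import Mathlib.Algebra.DirectSum.Decomposition
import Mathlib.LinearAlgebra.Dual.Lemmas
import Mathlib.RingTheory.Nilpotent.Basic

set_option autoImplicit false
universe u v w
open CAlg

namespace Groth.Agent.S18983

theorem triangular_solve {k : Type u} [Field k] (m : ℕ) (a : ℕ → k) (ha : a m = 1) (hz : ∀ j, m < j → a j = 0) :
    ∀ r : Fin (m + 1) → k, ∃ c : Fin (m + 1) → k, ∀ i : Fin (m + 1), ∑ l : Fin (m + 1), c l * a ((i : ℕ) + l) = r i := by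
  let T : (Fin (m + 1) → k) →ₗ[k] (Fin (m + 1) → k) :=
    { toFun := fun c i => ∑ l : Fin (m + 1), c l * a ((i : ℕ) + l)
      map_add' := fun c d => funext fun i => by simp [add_mul, Finset.sum_add_distrib]
      map_smul' := fun r c => funext fun i => by simp [mul_assoc, Finset.mul_sum] }
  have hinj : Function.Injective T := by
    rw [injective_iff_map_eq_zero]
    intro c hc
    have key : ∀ j : ℕ, ∀ hj : j < m + 1, c ⟨j, hj⟩ = 0 := by
      intro j
      induction j using Nat.strong_induction_on with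
      | _ j ih =>
        intro hj
        have h1 : ∑ l : Fin (m + 1), c l * a ((m - j) + l) = 0 := congrFun hc ⟨m - j, by omega⟩
        rw [Finset.sum_eq_single (⟨j, hj⟩ : Fin (m + 1))] at h1
        · rwa [show m - j + j = m by omega, ha, mul_one] at h1
        · intro l _ hl
          have hne : (l : ℕ) ≠ j := fun h => hl (Fin.ext h)
          rcases Nat.lt_or_gt_of_ne hne with h | h
          · rw [ih l h l.isLt, zero_mul]
          · rw [hz _ (by omega), mul_zero]
        · intro h; exact absurd (Finset.mem_univ _) h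
    exact funext fun l => key l l.isLt
  intro r
  obtain ⟨c, hc⟩ := LinearMap.surjective_of_injective hinj r
  exact ⟨c, fun i => congrFun hc i⟩

theorem exists_chains {k : Type u} [Field k] {Λ : Type v} [AddCommGroup Λ] [DecidableEq Λ]
    {V : Type w} [AddCommGroup V] [Module k V] [FiniteDimensional k V]
    (𝒱 : Λ → Submodule k V) [DirectSum.Decomposition 𝒱] (A : Module.End k V) (hA : IsNilpotent A) (χ : Λ)
    (hhom : ∀ (μ : Λ) (v : V), v ∈ 𝒱 μ → A v ∈ 𝒱 (μ + χ)) :
    ∀ (N : ℕ) (W : Submodule k V), Module.finrank k W ≤ N → (∀ x ∈ W, A x ∈ W) →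
      (∀ x ∈ W, ∀ ν, (DirectSum.decompose 𝒱 x ν : V) ∈ W) →
      ∃ (ι : Type w) (_ : Finite ι) (n : ι → ℕ) (b : (Σ i : ι, Fin (n i + 1)) → V),
        LinearIndependent k b ∧ Submodule.span k (Set.range b) = W ∧
        (∀ (i : ι) (l : Fin (n i + 1)), ∃ μ : Λ, b ⟨i, l⟩ ∈ 𝒱 μ) ∧
        (∀ i : ι, A (b ⟨i, 0⟩) = 0) ∧
        ∀ (i : ι) (l : Fin (n i)), A (b ⟨i, l.succ⟩) = b ⟨i, l.castSucc⟩ := by
  classical
  intro N
  induction N with
  | zero =>
    intro W hW _ _
    have hbot : W = ⊥ := Submodule.finrank_eq_zero.1 (Nat.le_zero.1 hW)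
    refine ⟨PEmpty.{w+1}, inferInstance, PEmpty.elim, fun x => x.1.elim, linearIndependent_empty_type, ?_,
      fun i => i.elim, fun i => i.elim, fun i => i.elim⟩
    rw [hbot, Set.range_eq_empty, Submodule.span_empty]
  | succ N ih =>
    intro W hW hWA hWh
    by_cases hWN : Module.finrank k W ≤ N
    · exact ih W hWN hWA hWh
    have hex : ∃ j, ∀ x ∈ W, (A ^ (j + 1)) x = 0 := by
      obtain ⟨j, hj⟩ := hA
      exact ⟨j, fun x _ => by rw [pow_succ, hj, zero_mul]; rfl⟩
    obtain ⟨m, hm, hmin⟩ : ∃ m, (∀ x ∈ W, (A ^ (m + 1)) x = 0) ∧ ∀ j < m, ¬ ∀ x ∈ W, (A ^ (j + 1)) x = 0 :=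
      ⟨Nat.find hex, Nat.find_spec hex, fun j hj => Nat.find_min hex hj⟩
    obtain ⟨x, hxW, hx⟩ : ∃ x ∈ W, (A ^ m) x ≠ 0 := by
      by_contra hno
      push Not at hno
      rcases m with _ | m
      · refine hWN ((Nat.le_of_eq ?_).trans (Nat.zero_le N))
        rw [Submodule.finrank_eq_zero, eq_bot_iff]
        exact fun y hy => by simpa using hno y hy
      · exact hmin m (Nat.lt_succ_self m) hno
    obtain ⟨v, μ, hvμ, hvW, hv⟩ : ∃ v μ, v ∈ 𝒱 μ ∧ v ∈ W ∧ (A ^ m) v ≠ 0 := by
      by_contra hno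
      push Not at hno
      apply hx
      rw [← DirectSum.sum_support_decompose 𝒱 x, map_sum]
      exact Finset.sum_eq_zero fun ν _ => hno _ ν (DirectSum.decompose 𝒱 x ν).2 (hWh x hxW ν)
    have hpowdeg : ∀ (i : ℕ) (ν : Λ) (y : V), y ∈ 𝒱 ν → (A ^ i) y ∈ 𝒱 (ν + i • χ) := by
      intro i
      induction i with
      | zero => intro ν y hy; simpa using hy
      | succ i ih' =>
        intro ν y hy
        rw [pow_succ', Module.End.mul_apply, succ_nsmul, ← add_assoc]
        exact hhom _ _ (ih' ν y hy)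
    have hpowW : ∀ (i : ℕ), ∀ y ∈ W, (A ^ i) y ∈ W := by
      intro i
      induction i with
      | zero => intro y hy; simpa using hy
      | succ i ih' => intro y hy; rw [pow_succ', Module.End.mul_apply]; exact hWA _ (ih' y hy)
    obtain ⟨ψ, hψ⟩ := Module.Projective.exists_dual_eq_one k hv
    let pr : V →ₗ[k] V :=
      (𝒱 (μ + m • χ)).subtype.comp ((DirectSum.component k Λ (fun ν => 𝒱 ν) (μ + m • χ)).comp
        (DirectSum.decomposeLinearEquiv 𝒱).toLinearMap)
    have hpr : ∀ y, pr y = (DirectSum.decompose 𝒱 y (μ + m • χ) : V) := fun _ => rfl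
    let φ : V →ₗ[k] k := ψ.comp pr
    have hφ1 : φ ((A ^ m) v) = 1 := by
      show ψ (pr _) = 1
      rw [hpr, DirectSum.decompose_of_mem_same 𝒱 (hpowdeg m μ v hvμ), hψ]
    have hφ0 : ∀ ν y, y ∈ 𝒱 ν → ν ≠ μ + m • χ → φ y = 0 := fun ν y hy hne => by
      show ψ (pr y) = 0
      rw [hpr, DirectSum.decompose_of_mem_ne 𝒱 hy hne, map_zero]
    let W' : Submodule k V := W ⊓ ⨅ i : Fin (m + 1), LinearMap.ker (φ.comp (A ^ (i : ℕ)))
    have hmem' : ∀ y, y ∈ W' ↔ y ∈ W ∧ ∀ i : Fin (m + 1), φ ((A ^ (i : ℕ)) y) = 0 := fun y => by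
      simp [W', Submodule.mem_iInf, LinearMap.mem_ker]
    have hW'le : W' ≤ W := inf_le_left
    have hW'lt : W' < W := by
      refine lt_of_le_of_ne hW'le fun h => ?_
      have h1 := ((hmem' v).1 (h.ge hvW)).2 (Fin.last m)
      rw [Fin.val_last, hφ1] at h1
      exact one_ne_zero h1
    have hW'A : ∀ y ∈ W', A y ∈ W' := by
      intro y hy
      obtain ⟨hyW, hy⟩ := (hmem' y).1 hy
      refine (hmem' _).2 ⟨hWA y hyW, fun i => ?_⟩
      rw [← Module.End.mul_apply, ← pow_succ]
      rcases Nat.lt_or_ge ((i : ℕ) + 1) (m + 1) with h | h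
      · exact hy ⟨(i : ℕ) + 1, h⟩
      · rw [show (i : ℕ) + 1 = m + 1 by omega, hm y hyW, map_zero]
    have hW'h : ∀ y ∈ W', ∀ ν, (DirectSum.decompose 𝒱 y ν : V) ∈ W' := by
      intro y hy ν
      obtain ⟨hyW, hy⟩ := (hmem' y).1 hy
      refine (hmem' _).2 ⟨hWh y hyW ν, fun i => ?_⟩
      by_cases hν : ν + (i : ℕ) • χ = μ + m • χ
      · have h1 := hy i
        rw [← DirectSum.sum_support_decompose 𝒱 y, map_sum, map_sum,
          Finset.sum_eq_single ν (fun ν' _ hne => hφ0 _ _ (hpowdeg _ ν' _ (DirectSum.decompose 𝒱 y ν').2)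
            fun h => hne (add_right_cancel (h.trans hν.symm)))
            (fun hns => by rw [DFinsupp.notMem_support_iff.1 hns, ZeroMemClass.coe_zero, map_zero, map_zero])] at h1
        exact h1
      · exact hφ0 _ _ (hpowdeg _ ν _ (DirectSum.decompose 𝒱 y ν).2) hν
    obtain ⟨ι, hι, n, b, hli, hspan, hhb, hb0, hbs⟩ := ih W'
      (Nat.le_of_lt_succ ((Submodule.finrank_lt_finrank_of_lt hW'lt).trans_le hW)) hW'A hW'h
    let e : Fin (m + 1) → V := fun l => (A ^ (m - (l : ℕ))) v
    let n' : Option ι → ℕ := fun o => o.elim m n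
    let b' : (Σ o : Option ι, Fin (n' o + 1)) → V := fun x => match x with
      | ⟨none, l⟩ => e l
      | ⟨some i, l⟩ => b ⟨i, l⟩
    have hsolve : ∀ y : V, ∃ c : Fin (m + 1) → k, ∀ i : Fin (m + 1), φ ((A ^ (i : ℕ)) (∑ l, c l • e l)) = φ ((A ^ (i : ℕ)) y) := by
      intro y
      obtain ⟨c, hc⟩ := triangular_solve m (fun j => φ ((A ^ j) v)) hφ1
        (fun j hj => by
          obtain ⟨q, rfl⟩ := Nat.exists_eq_add_of_lt hj
          rw [show m + q + 1 = q + (m + 1) by omega, pow_add, Module.End.mul_apply, hm v hvW, map_zero, map_zero])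
        (fun i => φ ((A ^ (i : ℕ)) y))
      refine ⟨fun l => c (Fin.rev l), fun i => ?_⟩
      rw [← hc i, map_sum, map_sum]
      refine (Equiv.sum_comp Fin.revPerm _).symm.trans (Finset.sum_congr rfl fun l _ => ?_)
      simp only [Fin.revPerm_apply, Fin.rev_rev, e, map_smul, smul_eq_mul, ← Module.End.mul_apply, ← pow_add]
      rw [Fin.val_rev, show (i : ℕ) + (m - (m + 1 - ((l : ℕ) + 1))) = (i : ℕ) + l by omega]
    have heW : ∀ l, e l ∈ W := fun l => hpowW _ v hvW
    refine ⟨Option ι, inferInstance, n', b', ?_, ?_, ?_, ?_, ?_⟩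
    · haveI := Fintype.ofFinite ι
      rw [Fintype.linearIndependent_iff]
      intro g hg
      rw [Fintype.sum_sigma, Fintype.sum_option] at hg
      have hrest : ∑ i : ι, ∑ l : Fin (n i + 1), g ⟨some i, l⟩ • b ⟨i, l⟩ ∈ W' := by
        rw [← hspan]
        exact Submodule.sum_mem _ fun i _ => Submodule.sum_mem _ fun l _ =>
          Submodule.smul_mem _ _ (Submodule.subset_span ⟨⟨i, l⟩, rfl⟩)
      have hg' : ∑ l : Fin (m + 1), g ⟨none, l⟩ • e l + ∑ i : ι, ∑ l : Fin (n i + 1), g ⟨some i, l⟩ • b ⟨i, l⟩ = 0 := hg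
      have hchain : ∑ l : Fin (m + 1), g ⟨none, l⟩ • e l ∈ W' := by
        rw [eq_neg_of_add_eq_zero_left hg']; exact W'.neg_mem hrest
      have hzero : ∀ l : Fin (m + 1), g ⟨none, l⟩ = 0 := by
        by_contra hne
        push Not at hne
        obtain ⟨l, hl, hlmax⟩ : ∃ l : Fin (m + 1), g ⟨none, l⟩ ≠ 0 ∧ ∀ l' : Fin (m + 1), l < l' → g ⟨none, l'⟩ = 0 := by
          obtain ⟨l0, hl0⟩ := hne
          let S := Finset.univ.filter fun l : Fin (m + 1) => g ⟨none, l⟩ ≠ 0
          have hS : S.Nonempty := ⟨l0, by simp [S, hl0]⟩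
          refine ⟨S.max' hS, (Finset.mem_filter.1 (S.max'_mem hS)).2, fun l' hl' => ?_⟩
          by_contra h
          exact absurd (S.le_max' l' (by simp [S, h])) (not_le.2 hl')
        apply hl
        have h1 := ((hmem' _).1 hchain).2 l
        rw [map_sum, map_sum, Finset.sum_eq_single l] at h1
        · simp only [map_smul, smul_eq_mul, e] at h1
          rw [← Module.End.mul_apply, ← pow_add, show (l : ℕ) + (m - l) = m by omega, hφ1, mul_one] at h1
          exact h1
        · intro l' _ hne'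
          rcases lt_or_gt_of_ne hne' with h | h
          · have hlt : (l' : ℕ) < (l : ℕ) := h
            simp only [map_smul, smul_eq_mul, e]
            rw [← Module.End.mul_apply, ← pow_add, show (l : ℕ) + (m - l') = ((l : ℕ) - l' - 1) + (m + 1) by omega,
              pow_add, Module.End.mul_apply, hm v hvW, map_zero, map_zero, mul_zero]
          · rw [hlmax l' h, zero_smul, map_zero, map_zero]
        · intro h; exact absurd (Finset.mem_univ _) h
      have hg0 : ∑ i : ι, ∑ l : Fin (n i + 1), g ⟨some i, l⟩ • b ⟨i, l⟩ = 0 := by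
        simpa [hzero] using hg'
      rintro ⟨_ | i, l⟩
      · exact hzero l
      · refine (Fintype.linearIndependent_iff.1 hli (fun x => g ⟨some x.1, x.2⟩) ?_) ⟨i, l⟩
        rw [Fintype.sum_sigma]
        exact hg0
    · refine le_antisymm (Submodule.span_le.2 ?_) fun y hy => ?_
      · rintro _ ⟨⟨_ | i, l⟩, rfl⟩
        · exact heW l
        · exact hW'le (hspan.le (Submodule.subset_span ⟨⟨i, l⟩, rfl⟩))
      · obtain ⟨c, hc⟩ := hsolve y
        have h1 : ∑ l, c l • e l ∈ Submodule.span k (Set.range b') :=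
          Submodule.sum_mem _ fun l _ => Submodule.smul_mem _ _ (Submodule.subset_span ⟨⟨none, l⟩, rfl⟩)
        have h2 : y - ∑ l, c l • e l ∈ W' := by
          refine (hmem' _).2 ⟨W.sub_mem hy (Submodule.sum_mem _ fun l _ => W.smul_mem _ (heW l)), fun i => ?_⟩
          rw [map_sub, map_sub, hc i, sub_self]
        have h3 : y - ∑ l, c l • e l ∈ Submodule.span k (Set.range b') := by
          refine (Submodule.span_mono ?_ : Submodule.span k (Set.range b) ≤ _) (hspan.ge h2)
          rintro _ ⟨⟨i, l⟩, rfl⟩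
          exact ⟨⟨some i, l⟩, rfl⟩
        have h4 := Submodule.add_mem _ h3 h1
        rwa [sub_add_cancel] at h4
    · rintro (_ | i) l
      · exact ⟨_, hpowdeg _ μ v hvμ⟩
      · exact hhb i l
    · rintro (_ | i)
      · show A ((A ^ (m - 0)) v) = 0
        rw [Nat.sub_zero, ← Module.End.mul_apply, ← pow_succ']
        exact hm v hvW
      · exact hb0 i
    · rintro (_ | i) l
      · have hl : (l : ℕ) < m := l.isLt
        show A ((A ^ (m - ((l : ℕ) + 1))) v) = (A ^ (m - (l : ℕ))) v
        rw [← Module.End.mul_apply, ← pow_succ', show m - ((l : ℕ) + 1) + 1 = m - l by omega]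
      · exact hbs i l

/-- Let k be a field, Λ an additive commutative group, V a finite-dimensional k-vector space which is
the internal direct sum of subspaces V_μ indexed by Λ (a representation of a torus with character
group Λ), and A a nilpotent endomorphism of V mapping each V_μ into V_{μ+χ} for a fixed χ (the
infinitesimal generator of an action of the additive group on which the torus acts through the
character χ). Then V has a basis consisting of homogeneous vectors e_{i,l}, 0 ≤ l ≤ n_i, with A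
e_{i,0} = 0 and A e_{i,l+1} = e_{i,l}: a weight basis bringing A into Jordan normal form. (The
source states this, over an algebraically closed field of characteristic zero, as a decomposition of
every representation of the semidirect product of the additive group with a torus into twists of
symmetric powers of the standard two-dimensional representation by characters; the first line of its
proof reduces that to the present statement, which is what is proved, and which holds over any
field.) -/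
theorem result
    (k : Type u) [Field k] (Λ : Type v) [AddCommGroup Λ] [DecidableEq Λ]
    (V : Type w) [AddCommGroup V] [Module k V] [FiniteDimensional k V]
    (𝒱 : Λ → Submodule k V) (h𝒱 : DirectSum.IsInternal 𝒱)
    (A : Module.End k V) (hA : IsNilpotent A) (χ : Λ)
    (hhom : ∀ (μ : Λ) (v : V), v ∈ 𝒱 μ → A v ∈ 𝒱 (μ + χ)) :
    ∃ (ι : Type w) (_ : Finite ι) (n : ι → ℕ) (b : Module.Basis (Σ i : ι, Fin (n i + 1)) k V),
      (∀ (i : ι) (l : Fin (n i + 1)), ∃ μ : Λ, b ⟨i, l⟩ ∈ 𝒱 μ) ∧
      (∀ i : ι, A (b ⟨i, 0⟩) = 0) ∧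
      ∀ (i : ι) (l : Fin (n i)), A (b ⟨i, l.succ⟩) = b ⟨i, l.castSucc⟩ := by
  classical
  letI := h𝒱.chooseDecomposition
  obtain ⟨ι, hι, n, b, hli, hspan, hhomb, hb0, hbs⟩ := exists_chains 𝒱 A hA χ hhom (Module.finrank k V) ⊤
    (finrank_top k V).le (fun x _ => Submodule.mem_top) (fun x _ ν => Submodule.mem_top)
  refine ⟨ι, hι, n, Module.Basis.mk hli hspan.ge, fun i l => ?_, fun i => ?_, fun i l => ?_⟩
  · rw [Module.Basis.mk_apply]; exact hhomb i l
  · rw [Module.Basis.mk_apply]; exact hb0 i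
  · rw [Module.Basis.mk_apply, Module.Basis.mk_apply]; exact hbs i l

end Groth.Agent.S18983
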