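import Groth.Statements.S18990
import Groth.Agent.SymNorm.Main

set_option autoImplicit false
set_option backward.isDefEq.respectTransparency false
set_option backward.isDefEq.respectTransparency.types false
set_option maxHeartbeats 1000000
set_option linter.style.haveILetI false
universe v u
open CategoryTheory CategoryTheory.Limits AlgebraicGeometry Opposite
open AlbPic

namespace Groth.Agent.S18990

open Classical in
/-- Let k be an algebraically closed field and F a contravariant functor from k-schemes to abelian
groups such that (a) the map F(Spec k) → F(𝔸¹_k) induced by the structure morphism of the affine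
line is surjective, and (b) for every smooth separated integral curve V of finite type over k, every
n ≥ 0 and every n-th symmetric product of V over k, that is a morphism q from the n-fold fibre power
V ×_k ⋯ ×_k V to a k-scheme Y which is a quotient by the action of the symmetric group permuting the
factors, the image of F(Y) → F(V ×_k ⋯ ×_k V) is exactly the set of elements fixed by every
permutation of the factors. Let C be a smooth proper integral curve over k, S a finite set of
k-points of C with open complement U, and f a nonzero rational function on C taking the value 1 at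
each point of S. Then for every ξ ∈ F(U) the sum Σ_x ord_x(f) · x^*(ξ) over the k-points x of U
vanishes in F(Spec k), where x^* : F(U) → F(Spec k) is induced by the point x. (The affine line
stands for the projective line with one rational point removed, to which it is isomorphic; curves
are taken irreducible.) -/
theorem result
    (k : Type u) [Field k] [IsAlgClosed k]
    (F : (Over (Spec (CommRingCat.of k)))ᵒᵖ ⥤ AddCommGrpCat.{v})
    (ha : Function.Surjective (F.map (Over.homMk
        (Spec.map (CommRingCat.ofHom (algebraMap k (Polynomial k))))
        (Category.comp_id _) :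
        Over.mk (Spec.map (CommRingCat.ofHom (algebraMap k (Polynomial k)))) ⟶
          Over.mk (𝟙 (Spec (CommRingCat.of k)))).op))
    (hb : ∀ (V : Over (Spec (CommRingCat.of k))) [IsIntegral V.left] [Smooth V.hom] [IsSeparated V.hom]
        [QuasiCompact V.hom], topologicalKrullDim V.left = 1 →
      ∀ (n : ℕ) (Y : Scheme.{u}) (q : SymProd.fibPow V.hom n ⟶ Y) (g : Y ⟶ Spec (CommRingCat.of k))
        (h : SymProd.IsSymProd V.hom n q g),
        Set.range (F.map (Over.homMk q h.over :
            Over.mk (WidePullback.base fun _ : Fin n => V.hom) ⟶ Over.mk g).op) =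
          {ξ | ∀ σ : Equiv.Perm (Fin n),
            F.map (Over.homMk (SymProd.permHom V.hom n σ) (SymProd.permHom_base V.hom n σ) :
              Over.mk (WidePullback.base fun _ : Fin n => V.hom) ⟶
                Over.mk (WidePullback.base fun _ : Fin n => V.hom)).op ξ = ξ})
    (X : Scheme.{u}) [IsIntegral X] (c : X ⟶ Spec (CommRingCat.of k)) [IsProper c] [Smooth c]
    (hdim : topologicalKrullDim X = 1)
    (S : Finset (LocSym.Pt c)) (U : X.Opens)
    (hU : (U : Set X) = (LocSym.Pt.pt '' (S : Set (LocSym.Pt c)))ᶜ)
    (f : X.functionField) (hf0 : f ≠ 0) (hf1 : ∀ x ∈ S, LocSym.HasValueAt x f (1 : k))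
    (pt : ∀ x : LocSym.Pt c, x ∉ S → (Over.mk (𝟙 (Spec (CommRingCat.of k))) ⟶ Over.mk (U.ι ≫ c)))
    (hpt : ∀ (x : LocSym.Pt c) (hx : x ∉ S), (pt x hx).left ≫ U.ι = x.1)
    (ξ : F.obj (op (Over.mk (U.ι ≫ c)))) :
    ∑ᶠ x : LocSym.Pt c,
      (if hx : x ∈ S then (0 : F.obj (op (Over.mk (𝟙 (Spec (CommRingCat.of k))))))
        else (x.ord f) • F.map (pt x hx).op ξ) = 0 := by
  exact Groth.Agent.SymNorm.Curve.finsum_ord_eq_zero c hdim F ha hb S U hU f hf0 hf1 pt hpt ξ

end Groth.Agent.S18990
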