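import Groth.Statements.S18991
import Groth.Agent.LargeGrpA1.Basic

set_option autoImplicit false
set_option backward.isDefEq.respectTransparency false
set_option backward.isDefEq.respectTransparency.types false
set_option maxHeartbeats 1000000
set_option linter.style.haveILetI false
universe u
open CategoryTheory MonoidalCategory CartesianMonoidalCategory MonObj GrpObj AlgebraicGeometry CategoryTheory.Limits
open AbVar

namespace Groth.Agent.S18991

open Groth.Agent MonoidalCategory CartesianMonoidalCategory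

/-- In the form of the factorization it amounts to, let k be a perfect field, X a reduced separated
k-scheme of finite type, n ≥ 0 and G a large group over k, that is a commutative separated k-group
scheme locally of finite type together with a connected open subgroup scheme G⁰ (its neutral
component) which is semiabelian: G⁰ has a closed subgroup scheme T that is a torus and is the kernel
of a flat surjective homomorphism from G⁰ onto an abelian variety A (a proper smooth connected
k-group scheme). Then every k-morphism X ×_k 𝔸ⁿ_k → G factors through the first projection X ×_k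
𝔸ⁿ_k → X. (So a k-morphism X → A_X that is universal for morphisms from X to large groups remains
universal after composing with the projection: the Albanese scheme of X ×_k 𝔸ⁿ_k is that of X via
the projection.) -/
theorem result (k : Type u) [Field k] [PerfectField k]
    (X : Over (Spec (CommRingCat.of k))) [IsReduced X.left] [IsSeparated X.hom] [QuasiCompact X.hom]
    [LocallyOfFiniteType X.hom] (n : ℕ)
    (G : Over (Spec (CommRingCat.of k))) [GrpObj G] [IsCommMonObj G] [IsSeparated G.hom] [LocallyOfFiniteType G.hom]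
    (G0 : Over (Spec (CommRingCat.of k))) [GrpObj G0] (e : G0 ⟶ G) [IsMonHom e] [IsOpenImmersion e.left]
    [ConnectedSpace ↥G0.left]
    (T : Over (Spec (CommRingCat.of k))) [GrpObj T] (i : T ⟶ G0) [IsMonHom i] [IsClosedImmersion i.left]
    (hT : Red.IsTorus T)
    (A : Over (Spec (CommRingCat.of k))) [GrpObj A] [IsProper A.hom] [Smooth A.hom] [ConnectedSpace ↥A.left]
    (q : G0 ⟶ A) [IsMonHom q] [Surjective q.left] [Flat q.left] (hker : AlgGrp.IsKernel i q)
    (φ : X ⊗ Over.mk (Spec.map (CommRingCat.ofHom (algebraMap k (MvPolynomial (Fin n) k)))) ⟶ G) :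
    ∃ ψ : X ⟶ G, φ = fst X (Over.mk (Spec.map (CommRingCat.ofHom (algebraMap k (MvPolynomial (Fin n) k))))) ≫ ψ := by
  classical
  let A1 : Over (Spec (CommRingCat.of k)) :=
    Over.mk (Spec.map (CommRingCat.ofHom (algebraMap k (MvPolynomial (Fin n) k))))
  let o : 𝟙_ (Over (Spec (CommRingCat.of k))) ⟶ A1 :=
    Over.homMk (Spec.map (CommRingCat.ofHom (MvPolynomial.aeval (0 : Fin n → k) : MvPolynomial (Fin n) k →ₐ[k] k).toRingHom)) (by
      show Spec.map _ ≫ Spec.map _ = 𝟙 _
      rw [← Spec.map_comp, ← CommRingCat.ofHom_comp, AlgHom.toRingHom_eq_coe, AlgHom.comp_algebraMap,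
        Algebra.algebraMap_self, CommRingCat.ofHom_id, Spec.map_id])
  let ψ : X ⟶ G := lift (𝟙 X) (toUnit X ≫ o) ≫ φ
  refine ⟨ψ, ?_⟩
  haveI : IsReduced A1.left := inferInstanceAs (IsReduced (Spec (CommRingCat.of (MvPolynomial (Fin n) k))))
  haveI : IsReduced (X ⊗ A1).left := GrpSchLib.isReduced_pullback_of_perfectField X.hom A1.hom
  obtain ⟨S', f, _, _, -, hsplit⟩ := hT
  refine Over.OverMorphism.ext (LargeGrpA1.hom_ext_of_points G.hom φ.left (fst X A1 ≫ ψ).left
    ((Over.w φ).trans (Over.w (fst X A1 ≫ ψ)).symm) fun x => ?_)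
  let b : Spec ((X ⊗ A1).left.residueField x) ⟶ Spec (CommRingCat.of k) :=
    (X ⊗ A1).left.fromSpecResidueField x ≫ (X ⊗ A1).hom
  obtain ⟨z⟩ : Nonempty ↥(pullback b f) := by
    obtain ⟨s', hs'⟩ := f.surjective (b (IsLocalRing.closedPoint _))
    obtain ⟨z, -⟩ := Scheme.Pullback.exists_preimage_pullback (f := b) (g := f) _ s' hs'.symm
    exact ⟨z⟩
  obtain ⟨U, hzU, r, hU⟩ := hsplit (pullback.snd b f z)
  let L := AlgebraicClosure ((pullback b f).residueField z)
  let a : Spec (CommRingCat.of L) ⟶ pullback b f :=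
    Spec.map (CommRingCat.ofHom (algebraMap ((pullback b f).residueField z) L)) ≫ (pullback b f).fromSpecResidueField z
  have ha : ∀ y, a y = z := fun y => by
    show ((pullback b f).fromSpecResidueField z) _ = z
    exact (pullback b f).fromSpecResidueField_apply z _
  let s : Spec (CommRingCat.of L) ⟶ (U : Scheme.{u}) := IsOpenImmersion.lift U.ι (a ≫ pullback.snd b f) (by
    rintro _ ⟨y, rfl⟩
    rw [Scheme.Opens.range_ι, Scheme.Hom.comp_apply, ha]
    exact hzU)
  let θ := (a ≫ pullback.fst b f) ≫ b
  have hs : s ≫ U.ι ≫ f = θ := by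
    rw [IsOpenImmersion.lift_fac_assoc, Category.assoc, ← pullback.condition, ← Category.assoc]
  let p : Spec (CommRingCat.of L) ⟶ (X ⊗ A1).left :=
    (a ≫ pullback.fst b f) ≫ (X ⊗ A1).left.fromSpecResidueField x
  refine ⟨L, inferInstance, p, (X ⊗ A1).left.fromSpecResidueField_apply x _, ?_⟩
  let P : LargeGrpA1.P θ ⟶ X ⊗ A1 := Over.homMk p (Category.assoc _ _ _)
  obtain ⟨cc, hcc⟩ := Spec.map_surjective (P ≫ snd X A1).left
  let σ : k →+* L := (Spec.preimage θ).hom
  have hσ : Spec.map (CommRingCat.ofHom σ) = θ := Spec.map_preimage θ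
  have hcσ : cc.hom.comp (algebraMap k (MvPolynomial (Fin n) k)) = σ := by
    have h := Over.w (P ≫ snd X A1)
    rw [← hcc, show (LargeGrpA1.P θ).hom = Spec.map (CommRingCat.ofHom σ) from hσ.symm,
      show A1.hom = Spec.map (CommRingCat.ofHom (algebraMap k (MvPolynomial (Fin n) k))) from rfl,
      ← Spec.map_comp] at h
    exact congrArg CommRingCat.Hom.hom (Spec.map_injective h)
  let v : Fin n → L := fun i => cc.hom (MvPolynomial.X i)
  let β : LargeGrpA1.W θ n ⟶ A1 := Over.homMk (Spec.map (CommRingCat.ofHom (MvPolynomial.map σ))) (by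
    show Spec.map _ ≫ Spec.map _ = Spec.map _ ≫ θ
    rw [← hσ, ← Spec.map_comp, ← Spec.map_comp]
    congr 1
    ext1
    exact RingHom.ext fun c => MvPolynomial.map_C σ c)
  let w : LargeGrpA1.W θ n ⟶ X ⊗ A1 := lift (LargeGrpA1.pr θ n ≫ P ≫ fst X A1) β
  have hw1 : ∀ u, LargeGrpA1.sect θ n u ≫ w ≫ fst X A1 = P ≫ fst X A1 := fun u => by
    rw [lift_fst, reassoc_of% LargeGrpA1.sect_pr θ n u]
  have hv : LargeGrpA1.sect θ n v ≫ w = P := by
    refine CartesianMonoidalCategory.hom_ext _ _ (by rw [Category.assoc, hw1]) ?_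
    rw [Category.assoc, lift_snd]
    apply Over.OverMorphism.ext
    refine Eq.trans ?_ hcc
    show Spec.map _ ≫ Spec.map _ = Spec.map cc
    rw [← Spec.map_comp]
    congr 1
    ext1
    refine MvPolynomial.ringHom_ext (fun c => ?_) fun i => ?_
    · simpa using (RingHom.congr_fun hcσ c).symm
    · simp [v]
  have h0 : LargeGrpA1.sect θ n 0 ≫ w = P ≫ fst X A1 ≫ lift (𝟙 X) (toUnit X ≫ o) := by
    refine CartesianMonoidalCategory.hom_ext _ _ (by simp [hw1]) ?_
    simp only [Category.assoc, lift_snd]
    rw [← Category.assoc (fst X A1), comp_toUnit, ← Category.assoc P, comp_toUnit, lift_snd]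
    apply Over.OverMorphism.ext
    rw [Over.comp_left, Over.comp_left]
    have hunit : (toUnit (LargeGrpA1.P θ)).left = Spec.map (CommRingCat.ofHom σ) := by
      rw [hσ]
      exact (Category.comp_id _).symm.trans (Over.w (toUnit (LargeGrpA1.P θ)))
    rw [hunit]
    show Spec.map _ ≫ Spec.map _ = Spec.map _ ≫ Spec.map _
    rw [← Spec.map_comp, ← Spec.map_comp]
    congr 1
    ext1
    refine MvPolynomial.ringHom_ext (fun c => ?_) fun i => ?_
    · simp
    · simp
  have key := LargeGrpA1.large_const θ n e i q hker (Fin r → ℤ) (U.ι ≫ f) hU s hs (w ≫ φ)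
  have h := congrArg (LargeGrpA1.sect θ n v ≫ ·) key
  simp only [reassoc_of% hv, reassoc_of% LargeGrpA1.sect_pr θ n v] at h
  rw [reassoc_of% h0] at h
  have := congrArg CommaMorphism.left (h.trans (show P ≫ fst X A1 ≫ lift (𝟙 X) (toUnit X ≫ o) ≫ φ = P ≫ fst X A1 ≫ ψ from rfl))
  exact this

end Groth.Agent.S18991
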