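import Groth.Statements.S18995
import Groth.Agent.S19661
import Groth.Agent.FComplLib.KrullSupp

set_option autoImplicit false
set_option backward.isDefEq.respectTransparency false
set_option backward.isDefEq.respectTransparency.types false
universe u
open CategoryTheory AlgebraicGeometry
open ProjBd

open CategoryTheory.Limits
namespace Groth.Agent.S18995

/-- Let X be a scheme and 0 → A → E → B → 0 a short exact sequence of finite locally free O_X-modules.
Let (π : P → X, O(1), q) be the projective bundle of rank-one quotients of E and (π_B : P_B → X,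
O_B(1), q_B) that of B, each given through its universal property, and let c : P_B → P be the
morphism over X together with an isomorphism c^*O(1) ≅ O_B(1) identifying c^*q with π_B^*E → π_B^*B
→ O_B(1); thus c is the closed sub-bundle P(B) ⊂ P(E). Then for every open subset W of P that does
not meet the image of c, the restriction to W of the composite π^*A → π^*E → O(1) is an epimorphism
of O_W-modules. Consequently W carries an invertible quotient of the pull-back of A and hence a
morphism to P(A) over X, the projection away from the sub-bundle. (In the convention where a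
projective bundle parametrises lines rather than rank-one quotients, this is the statement that for
an exact sequence 0 → F → E → G → 0 of locally free sheaves the tautological line sub-bundle of E
restricted to the complement of P(F) in P(E) maps isomorphically onto a line sub-bundle of the
pull-back of G, giving the canonical morphism from that complement to P(G); A, E, B here are the
duals of G, E, F there. The published statement takes X of finite type over a field; the row is
stated for an arbitrary scheme X, which the argument allows.) -/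
theorem result
    (X P PB : Scheme.{u}) (S : ShortComplex X.Modules) (hS : S.ShortExact)
    (hA : FlatMod.IsFinLocFree S.X₁) (hE : FlatMod.IsFinLocFree S.X₂) (hB : FlatMod.IsFinLocFree S.X₃)
    (π : P ⟶ X) (O1 : P.Modules) (q : (Scheme.Modules.pullback π).obj S.X₂ ⟶ O1)
    (hP : KRR.IsProjBundle π S.X₂ O1 q)
    (πB : PB ⟶ X) (O1B : PB.Modules) (qB : (Scheme.Modules.pullback πB).obj S.X₃ ⟶ O1B)
    (hPB : KRR.IsProjBundle πB S.X₃ O1B qB)
    (c : PB ⟶ P) (hc : c ≫ π = πB) (ec : (Scheme.Modules.pullback c).obj O1 ≅ O1B)
    (hcq : (Scheme.Modules.pullbackCongr hc).inv.app S.X₂ ≫ (Scheme.Modules.pullbackComp c π).inv.app S.X₂ ≫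
      (Scheme.Modules.pullback c).map q ≫ ec.hom = (Scheme.Modules.pullback πB).map S.g ≫ qB)
    (W : P.Opens) (hW : Disjoint (W : Set P) (Set.range c.base)) :
    Epi ((Scheme.Modules.pullback W.ι).map ((Scheme.Modules.pullback π).map S.f ≫ q)) := by
  have hG := Grass.IsGrass.of_isProjBundle hP
  have hGB := Grass.IsGrass.of_isProjBundle hPB
  haveI := hS.epi_g
  haveI := hS.mono_f
  have hqA := Groth.Agent.QCoh.isQCoh_of_isFinLocFree hA
  have hqK : Coh.IsQCoh (kernel S.g) := Groth.Agent.QCoh.isQCoh_kernel
    (Groth.Agent.QCoh.isQCoh_of_isFinLocFree hE) (Groth.Agent.QCoh.isQCoh_of_isFinLocFree hB) S.g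
  have hcq' : Grass.quotBC hc q ≫ ec.hom = (Scheme.Modules.pullback πB).map S.g ≫ qB := by
    simpa only [Grass.quotBC, Category.assoc] using hcq
  obtain ⟨-, hrange⟩ := Groth.Agent.S19661.aux X P PB π πB S.X₂ S.X₃ S.g hqK 1 O1 q hG O1B qB hGB c hc ec hcq'
  set φ := (Scheme.Modules.pullback π).map (kernel.ι S.g) ≫ q with hφdef
  have hO : FlatMod.IsFinLocFree O1 := fun y => by
    obtain ⟨U, hy, hU⟩ := hG.rank y
    exact ⟨U, 1, hy, hU⟩
  have hqO := Groth.Agent.QCoh.isQCoh_of_isFinLocFree hO
  have hftO := Groth.Agent.QCoh.isFT_of_isFP (Groth.Agent.QCoh.isFP_of_isFinLocFree hO)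
  have hqC : Coh.IsQCoh (cokernel φ) :=
    Groth.Agent.QCoh.isQCoh_cokernel (Groth.Agent.QCoh.isQCoh_pullback π hqK) hqO φ
  have hftC : CohB1.IsFT (cokernel φ) := Groth.Agent.RGLib.Lim8.isFT_of_epi (cokernel.π φ) hqO hqC hftO
  rw [show Groth.Agent.FittStrat.lowerIdeal (cokernel φ) 1 = Fitt.sheafIdeal (cokernel φ) 0 from rfl,
    Groth.Agent.FittX.support_sheafIdeal_zero hqC hftC] at hrange
  have hz : IsZero ((Scheme.Modules.pullback W.ι).obj (cokernel φ)) := by
    refine IsZero.of_iso (Groth.Agent.FComplLib.isZero_restrict_of_subsingleton_stalk (cokernel φ) W fun x hx => ?_)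
      ((Scheme.Modules.restrictFunctorIsoPullback W.ι).app _).symm
    by_contra hns
    exact Set.disjoint_left.1 hW hx (hrange ▸ hns)
  obtain ⟨l, -, hl⟩ : ∃ l : kernel S.g ⟶ S.X₁, (True ∧ l ≫ S.f = kernel.ι S.g) :=
    ⟨hS.exact.lift (kernel.ι S.g) (kernel.condition _), trivial, hS.exact.lift_f _ _⟩
  haveI : (Scheme.Modules.pullback W.ι).IsLeftAdjoint :=
    (Scheme.Modules.pullbackPushforwardAdjunction W.ι).isLeftAdjoint
  haveI : Epi ((Scheme.Modules.pullback W.ι).map φ) :=
    Preadditive.epi_of_isZero_cokernel _ (hz.of_iso (PreservesCokernel.iso (Scheme.Modules.pullback W.ι) φ).symm)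
  have hfac : (Scheme.Modules.pullback W.ι).map ((Scheme.Modules.pullback π).map l) ≫
      (Scheme.Modules.pullback W.ι).map ((Scheme.Modules.pullback π).map S.f ≫ q) =
        (Scheme.Modules.pullback W.ι).map φ := by
    rw [← Functor.map_comp, ← Category.assoc, ← Functor.map_comp, hl]
  exact epi_of_epi_fac hfac

end Groth.Agent.S18995
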