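import Groth.Statements.S19035
import Mathlib.RingTheory.WittVector.Basic
import Mathlib.RingTheory.FiniteType
import Mathlib.Data.Fintype.Order

set_option autoImplicit false
universe u v w x
open CAlg

namespace Groth.Agent.S19035

/-- Let p be a prime and k a perfect field of characteristic p. Let (A_i) be a directed system of
finitely generated commutative k-algebras, indexed by a nonempty directed preorder, with compatible
k-algebra transition maps, and let B be a finitely generated k-algebra with compatible k-algebra
maps A_i → B which present B as the direct limit of the system (every element of B is the image of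
an element of some A_i, and two elements of some A_i with the same image in B have the same image in
some A_j). Then the p-typical Witt vectors commute with this direct limit: every Witt vector over B
is the image of a Witt vector over some A_i, and two Witt vectors over some A_i with the same image
over B already have the same image over some A_j. (Both finiteness hypotheses matter: for an
arbitrary filtered direct limit of commutative rings either assertion can fail.) -/
theorem result
    (p : ℕ) [Fact p.Prime] (k : Type u) [Field k] [CharP k p] [PerfectRing k p]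
    {ι : Type v} [Preorder ι] [IsDirected ι (· ≤ ·)] [Nonempty ι]
    (A : ι → Type w) [∀ i, CommRing (A i)] [∀ i, Algebra k (A i)]
    [∀ i, Algebra.FiniteType k (A i)]
    (f : ∀ i j, i ≤ j → (A i →ₐ[k] A j))
    (hf : ∀ i j l (hij : i ≤ j) (hjl : j ≤ l) (x : A i),
      f j l hjl (f i j hij x) = f i l (hij.trans hjl) x)
    (B : Type x) [CommRing B] [Algebra k B] [Algebra.FiniteType k B]
    (g : ∀ i, A i →ₐ[k] B)
    (hfg : ∀ i j (hij : i ≤ j) (x : A i), g j (f i j hij x) = g i x)
    (hsurj : ∀ b : B, ∃ i, ∃ x : A i, g i x = b)
    (hinj : ∀ i (x y : A i), g i x = g i y → ∃ j, ∃ hij : i ≤ j, f i j hij x = f i j hij y) :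
    (∀ w : WittVector p B, ∃ i, ∃ v : WittVector p (A i),
        WittVector.map (g i).toRingHom v = w) ∧
    (∀ i (v v' : WittVector p (A i)),
        WittVector.map (g i).toRingHom v = WittVector.map (g i).toRingHom v' →
        ∃ j, ∃ hij : i ≤ j,
          WittVector.map (f i j hij).toRingHom v = WittVector.map (f i j hij).toRingHom v') := by
  classical
  refine ⟨fun w => ?_, fun i v v' hvv => ?_⟩
  · obtain ⟨t, ht⟩ := (‹Algebra.FiniteType k B›).out
    choose a b hab using hsurj
    obtain ⟨i, hi⟩ := Finite.exists_le (fun z : t => a z.1)
    have hrange : (g i).range = ⊤ := by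
      rw [← top_le_iff, ← ht]
      refine Algebra.adjoin_le fun z hz => ?_
      exact ⟨f (a z) i (hi ⟨z, hz⟩) (b z), (hfg _ _ _ _).trans (hab z)⟩
    choose s hs using fun z : B => (g i).range_eq_top.1 hrange z
    refine ⟨i, WittVector.mk p fun n => s (w.coeff n), WittVector.ext fun n => ?_⟩
    rw [WittVector.map_coeff, WittVector.coeff_mk]
    exact hs _
  · haveI : IsNoetherianRing (A i) := Algebra.FiniteType.isNoetherianRing k (A i)
    obtain ⟨t, ht⟩ := (RingHom.ker (g i).toRingHom).fg_of_isNoetherianRing
    have hz : ∀ z : t, ∃ j, ∃ hij : i ≤ j, f i j hij z.1 = 0 := fun z => by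
      have h : g i z.1 = 0 := (ht ▸ Ideal.subset_span z.2 : z.1 ∈ RingHom.ker (g i).toRingHom)
      obtain ⟨j, hij, h'⟩ := hinj i z.1 0 (by rw [h, map_zero])
      exact ⟨j, hij, by rw [h', map_zero]⟩
    choose J hJ hJ0 using hz
    obtain ⟨j, hj⟩ := Finite.exists_le (fun o : Option t => o.elim i J)
    have hij : i ≤ j := hj none
    have hker : RingHom.ker (g i).toRingHom ≤ RingHom.ker (f i j hij).toRingHom := by
      rw [← ht, Ideal.span_le]
      intro z hz
      show f i j hij z = 0
      rw [← hf i (J ⟨z, hz⟩) j (hJ _) (hj (some ⟨z, hz⟩)), hJ0, map_zero]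
    refine ⟨j, hij, WittVector.ext fun n => ?_⟩
    have h := congrArg (fun x => WittVector.coeff x n) hvv
    simp only [WittVector.map_coeff] at h ⊢
    have h' := hker (show v.coeff n - v'.coeff n ∈ RingHom.ker (g i).toRingHom from (RingHom.sub_mem_ker_iff _).2 h)
    exact (RingHom.sub_mem_ker_iff _).1 h'

end Groth.Agent.S19035
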