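import Groth.Statements.S19039
import Groth.Agent.GmDense.Basic

set_option autoImplicit false
universe u
open Instab

namespace Groth.Agent.S19039

set_option backward.isDefEq.respectTransparency false
set_option backward.isDefEq.respectTransparency.types false

open CategoryTheory MonoidalCategory CartesianMonoidalCategory MonObj GrpObj AlgebraicGeometry in
/-- The case n = 1 for a scheme X separated over an affine base Spec R, stated as the two facts that
identify equivariant families with maps whose orbit map extends. Let G_m act on X (a left action a :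
G_m × X → X over Spec R) and on A¹ × T through the scaling action on A¹, for an R-scheme T; write j
: G_m → A¹ for the inclusion t ↦ t. (a) If u, v : A¹ × T → X are G_m-equivariant R-morphisms with
the same restriction to the section {1} × T, then u = v. (b) If x : T → X is an R-morphism and u :
A¹ × T → X is an R-morphism whose restriction along j × T is the orbit family (g, t) ↦ g · x(t),
then u is G_m-equivariant. (The source works with an algebraic space X quasi-separated and locally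
of finite presentation over a base B with an action of G_mⁿ and deduces that X⁺ → X is a locally
finitely presented unramified monomorphism; only the elementary identification for n = 1 is stated
here, which uses separatedness alone.) -/
theorem result
    (R : Type u) [CommRing R] (X : Over (Spec (CommRingCat.of R))) [IsSeparated X.hom]
    (a : AlgGrp.Action (ThetaS.Gm R) X) (T : Over (Spec (CommRingCat.of R))) :
    (∀ u v : ThetaS.Line R ⊗ T ⟶ X,
        (α_ (ThetaS.Gm R) (ThetaS.Line R) T).inv ≫ ((ThetaS.lineAction R).act ▷ T) ≫ u = (ThetaS.Gm R ◁ u) ≫ a.act →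
        (α_ (ThetaS.Gm R) (ThetaS.Line R) T).inv ≫ ((ThetaS.lineAction R).act ▷ T) ≫ v = (ThetaS.Gm R ◁ v) ≫ a.act →
        lift ((1 : T ⟶ ThetaS.Gm R) ≫ (CoactBr.pt (ThetaS.linePt (ThetaS.zPow R 1)) : ThetaS.Gm R ⟶ ThetaS.Line R)) (𝟙 T) ≫ u =
          lift ((1 : T ⟶ ThetaS.Gm R) ≫ (CoactBr.pt (ThetaS.linePt (ThetaS.zPow R 1)) : ThetaS.Gm R ⟶ ThetaS.Line R)) (𝟙 T) ≫ v →
        u = v) ∧
    (∀ (x : T ⟶ X) (u : ThetaS.Line R ⊗ T ⟶ X),
        ((CoactBr.pt (ThetaS.linePt (ThetaS.zPow R 1)) : ThetaS.Gm R ⟶ ThetaS.Line R) ▷ T) ≫ u = (ThetaS.Gm R ◁ x) ≫ a.act →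
        (α_ (ThetaS.Gm R) (ThetaS.Line R) T).inv ≫ ((ThetaS.lineAction R).act ▷ T) ≫ u =
          (ThetaS.Gm R ◁ u) ≫ a.act) := by
  set L := ThetaS.lineAction R
  set j : ThetaS.Gm R ⟶ ThetaS.Line R := CoactBr.pt (ThetaS.linePt (ThetaS.zPow R 1)) with hjdef
  have hj1 : ∀ {Z : Over (Spec (CommRingCat.of R))} (g : Z ⟶ ThetaS.Gm R),
      g ≫ j = lift g ((1 : Z ⟶ ThetaS.Gm R) ≫ j) ≫ L.act := fun {Z} g => by
    conv_lhs => rw [hjdef, ← Groth.Agent.GmDense.lift_one_line_act R, ← Category.assoc, comp_lift, ← Category.assoc]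
    rw [Category.comp_id, MonObj.comp_one]
  have act_mul : ∀ {Y : Over (Spec (CommRingCat.of R))} (b : AlgGrp.Action (ThetaS.Gm R) Y)
      {Z : Over (Spec (CommRingCat.of R))} (g h : Z ⟶ ThetaS.Gm R) (y : Z ⟶ Y),
      lift (g * h) y ≫ b.act = lift g (lift h y ≫ b.act) ≫ b.act := fun {Y} b {Z} g h y => by
    have e1 : lift (g * h) y = lift (lift g h) y ≫ (μ[ThetaS.Gm R] ▷ Y) := by
      rw [Hom.mul_def]; ext <;> simp
    have e2 : lift (lift g h) y ≫ (α_ (ThetaS.Gm R) (ThetaS.Gm R) Y).hom = lift g (lift h y) := by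
      ext <;> simp
    have e3 : lift g (lift h y) ≫ (ThetaS.Gm R ◁ b.act) = lift g (lift h y ≫ b.act) := by
      ext <;> simp
    rw [e1, Category.assoc, b.mul_act, reassoc_of% e2, reassoc_of% e3]
  have assoc' : ∀ {Z A B C : Over (Spec (CommRingCat.of R))} (g : Z ⟶ A) (h : Z ⟶ B) (t : Z ⟶ C),
      lift g (lift h t) ≫ (α_ A B C).inv = lift (lift g h) t := fun g h t => lift_lift_associator_inv g h t
  refine ⟨fun u v hu hv h => ?_, fun x u hu => ?_⟩
  · refine Groth.Agent.GmDense.eq_of_comp_line T X u v ?_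
    have key : ∀ w : ThetaS.Line R ⊗ T ⟶ X,
        (α_ (ThetaS.Gm R) (ThetaS.Line R) T).inv ≫ (L.act ▷ T) ≫ w = (ThetaS.Gm R ◁ w) ≫ a.act →
        (j ▷ T) ≫ w = (ThetaS.Gm R ◁ (lift ((1 : T ⟶ ThetaS.Gm R) ≫ j) (𝟙 T) ≫ w)) ≫ a.act := fun w hw => by
      rw [whiskerLeft_comp, Category.assoc, ← hw]
      have e : (j ▷ T) = lift (lift (fst _ _) ((1 : _ ⟶ ThetaS.Gm R) ≫ j) ≫ L.act) (snd (ThetaS.Gm R) T) := by
        rw [← hj1 (fst (ThetaS.Gm R) T)]
        ext <;> simp
      have e' : (ThetaS.Gm R ◁ lift ((1 : T ⟶ ThetaS.Gm R) ≫ j) (𝟙 T)) =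
          lift (fst _ _) (lift ((1 : _ ⟶ ThetaS.Gm R) ≫ j) (snd (ThetaS.Gm R) T)) := by
        have hs : snd (ThetaS.Gm R) T ≫ (1 : T ⟶ ThetaS.Gm R) ≫ j =
            (1 : ThetaS.Gm R ⊗ T ⟶ ThetaS.Gm R) ≫ j := by
          rw [← Category.assoc, MonObj.comp_one]
        rw [← hs]
        ext <;> simp only [whiskerLeft_fst, whiskerLeft_snd, lift_fst, lift_snd, lift_snd_assoc, Category.assoc, Category.comp_id, whiskerLeft_snd_assoc]
      rw [e, e', ← Category.assoc _ (α_ _ _ _).inv, assoc', ← Category.assoc _ (L.act ▷ T), lift_whiskerRight]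
    rw [key u hu, key v hv, h]
  · let σ : ThetaS.Line R ⊗ (ThetaS.Gm R ⊗ T) ≅ ThetaS.Gm R ⊗ (ThetaS.Line R ⊗ T) :=
      { hom := lift (snd _ _ ≫ fst _ _) (lift (fst _ _) (snd _ _ ≫ snd _ _))
        inv := lift (snd _ _ ≫ fst _ _) (lift (fst _ _) (snd _ _ ≫ snd _ _))
        hom_inv_id := by ext <;> simp
        inv_hom_id := by ext <;> simp }
    have : IsIso σ.hom := Iso.isIso_hom σ
    rw [← cancel_epi σ.hom]
    refine Groth.Agent.GmDense.eq_of_comp_line (ThetaS.Gm R ⊗ T) X _ _ ?_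
    let g : ThetaS.Gm R ⊗ (ThetaS.Gm R ⊗ T) ⟶ ThetaS.Gm R := snd _ _ ≫ fst _ _
    let h : ThetaS.Gm R ⊗ (ThetaS.Gm R ⊗ T) ⟶ ThetaS.Gm R := fst _ _
    let t : ThetaS.Gm R ⊗ (ThetaS.Gm R ⊗ T) ⟶ T := snd _ _ ≫ snd _ _
    have e : (j ▷ (ThetaS.Gm R ⊗ T)) ≫ σ.hom = lift g (lift (h ≫ j) t) := by
      ext <;> simp [σ, g, h, t]
    have hu' : ∀ {Z : Over (Spec (CommRingCat.of R))} (f : Z ⟶ ThetaS.Gm R) (s : Z ⟶ T),
        lift (f ≫ j) s ≫ u = lift f (s ≫ x) ≫ a.act := fun f s => by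
      rw [← lift_whiskerRight, Category.assoc, hu, ← Category.assoc, lift_whiskerLeft]
    have hj2 : lift g (h ≫ j) ≫ L.act = (g * h) ≫ j := by
      rw [hj1 (g * h), hj1 h, act_mul]
    rw [← Category.assoc, ← Category.assoc (j ▷ _) σ.hom, e]
    rw [← Category.assoc (lift g _) (α_ _ _ _).inv, assoc', ← Category.assoc _ (L.act ▷ T), lift_whiskerRight, hj2,
      hu', act_mul, ← Category.assoc _ (ThetaS.Gm R ◁ u), lift_whiskerLeft, hu']


end Groth.Agent.S19039
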