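import Groth.Statements.S19041
import Groth.Agent.GcLib.Basic
-- import your own Groth.Agent.* helpers here

set_option autoImplicit false
set_option backward.isDefEq.respectTransparency false
set_option maxHeartbeats 1000000
set_option linter.style.haveILetI false
universe u
open Dieu

namespace Groth.Agent.S19041

/-- Let `k` be a perfect field of characteristic `2` and `c` a natural number, and consider the explicit
`2c`-dimensional `k`-space on `X_1, …, X_c, Y_1, …, Y_c` with its operators `F` and `V` (`F Y_j =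
0`; `F X_j = X_{j/2}` for `j` even and `Y_{c-(j-1)/2}` for `j` odd; `V Y_j = Y_{2j}` when `2j ≤ c`,
else `0`; `V X_j = Y_{2c-2j+1}` when `2j > c`, else `0`). For `j = 2^e l` with `l` odd and `c < 2j ≤
2c`, and for `j'` with `c < 2j' ≤ 2c` and `n` with `2^n (2c - 2j' + 1) = c - (l-1)/2`, one has
`F^{e+1} X_j + V^{n+1} X_{j'} = 0`. (Stated over any perfect field of characteristic `2`; the source
works over an algebraically closed one.) -/
theorem result (c : ℕ) (k : Type u) [Field k] [CharP k 2] [PerfectRing k 2]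
    (j e l : ℕ) (hj : j = 2 ^ e * l) (hl : Odd l) (hjc : j ≤ c) (hcj : c < 2 * j)
    (j' n : ℕ) (hj'c : j' ≤ c) (hcj' : c < 2 * j') (hn : 2 ^ n * (2 * c - 2 * j' + 1) = c - (l - 1) / 2) :
    (W4c6eohyperellchar2.F c k)^[e + 1] (W4c6eohyperellchar2.X c k j) + (W4c6eohyperellchar2.V c k)^[n + 1] (W4c6eohyperellchar2.X c k j') = 0 := by
  obtain ⟨a, ha⟩ := hl
  have hF : ∀ i : ℕ, i ≤ e → (W4c6eohyperellchar2.F c k)^[i] (W4c6eohyperellchar2.X c k j) =
      W4c6eohyperellchar2.X c k (2 ^ (e - i) * l) := by
    intro i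
    induction i with
    | zero => intro _; simp [hj]
    | succ i ih =>
      intro hi
      have hle : 2 ^ (e - i) * l ≤ c := by
        refine le_trans (Nat.mul_le_mul_right l (Nat.pow_le_pow_right (by norm_num) (Nat.sub_le e i))) ?_
        rw [← hj]; exact hjc
      have he : 2 ^ (e - i) * l = 2 * (2 ^ (e - (i + 1)) * l) := by
        rw [show e - i = (e - (i + 1)) + 1 by omega, pow_succ]; ring
      rw [Function.iterate_succ_apply', ih (by omega), he]
      refine Groth.Agent.GcLib.F_X_even ?_ (by omega)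
      have := Nat.one_le_two_pow (n := e - (i + 1))
      nlinarith
  have hlc : 2 * a + 1 ≤ c := by
    have := Nat.one_le_two_pow (n := e)
    nlinarith
  rw [Function.iterate_succ_apply', hF e le_rfl, Nat.sub_self, pow_zero, one_mul, ha,
    Groth.Agent.GcLib.F_X_odd hlc]
  rw [Function.iterate_succ_apply, Groth.Agent.GcLib.V_X hcj' hj'c]
  have hV : ∀ i : ℕ, i ≤ n → (W4c6eohyperellchar2.V c k)^[i] (W4c6eohyperellchar2.Y c k (2 * c - 2 * j' + 1)) =
      W4c6eohyperellchar2.Y c k (2 ^ i * (2 * c - 2 * j' + 1)) := by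
    intro i
    induction i with
    | zero => intro _; simp
    | succ i ih =>
      intro hi
      rw [Function.iterate_succ_apply', ih (by omega)]
      have h3 : 2 ^ (i + 1) * (2 * c - 2 * j' + 1) ≤ c := by
        refine le_trans (Nat.mul_le_mul_right _ (Nat.pow_le_pow_right (by norm_num) hi)) ?_
        rw [hn]; exact Nat.sub_le _ _
      rw [pow_succ] at h3 ⊢
      rw [show 2 ^ i * 2 * (2 * c - 2 * j' + 1) = 2 * (2 ^ i * (2 * c - 2 * j' + 1)) by ring] at h3 ⊢
      exact Groth.Agent.GcLib.V_Y (Nat.mul_pos (by positivity) (by omega)) h3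
  rw [hV n le_rfl, hn, show (l - 1) / 2 = a by omega]
  refine Prod.ext (funext fun i => ?_) (funext fun i => ?_)
  · simp [W4c6eohyperellchar2.Y]
  · simp [W4c6eohyperellchar2.Y]
    split_ifs <;> simp [CharTwo.add_self_eq_zero]


end Groth.Agent.S19041
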