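import Groth.Statements.S19042
-- import your own Groth.Agent.* helpers here

set_option autoImplicit false
set_option backward.isDefEq.respectTransparency false
set_option maxHeartbeats 1000000
set_option linter.style.haveILetI false
universe u
open Dieu

namespace Groth.Agent.S19042

/-- Let `k` be a perfect field of characteristic `2` and `c` a natural number, and consider the explicit
`2c`-dimensional `k`-space on `X_1, …, X_c, Y_1, …, Y_c` with its operators `F` and `V` (`F Y_j =
0`; `F X_j = X_{j/2}` for `j` even and `Y_{c-(j-1)/2}` for `j` odd; `V Y_j = Y_{2j}` when `2j ≤ c`,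
else `0`; `V X_j = Y_{2c-2j+1}` when `2j > c`, else `0`). The vectors `X_j` with `c < 2j ≤ 2c`
generate it as a module over `k[F, V]`: a `k`-subspace stable under `F` and `V` containing them is
everything. (Stated over any perfect field of characteristic `2`; the source works over an
algebraically closed one.) -/
theorem result (c : ℕ) (k : Type u) [Field k] [CharP k 2] [PerfectRing k 2]
    (N : Submodule k (W4c6eohyperellchar2.GcMod c k))
    (hF : ∀ v ∈ N, W4c6eohyperellchar2.F c k v ∈ N) (hV : ∀ v ∈ N, W4c6eohyperellchar2.V c k v ∈ N)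
    (hX : ∀ j : ℕ, c < 2 * j → j ≤ c → W4c6eohyperellchar2.X c k j ∈ N) : N = ⊤ := by
  open W4c6eohyperellchar2 in
  have cX : ∀ a b : ℕ, coefX (X c k a) b = if b = a ∧ 1 ≤ b ∧ b ≤ c then 1 else 0 := by
    intro a b
    unfold coefX X
    split_ifs <;> simp_all <;> omega
  have cXY : ∀ a b : ℕ, W4c6eohyperellchar2.coefY (W4c6eohyperellchar2.X c k a) b = 0 := by
    intro a b
    unfold W4c6eohyperellchar2.coefY W4c6eohyperellchar2.X
    split_ifs <;> rfl
  have cY : ∀ a b : ℕ, W4c6eohyperellchar2.coefY (W4c6eohyperellchar2.Y c k a) b =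
      if b = a ∧ 1 ≤ b ∧ b ≤ c then 1 else 0 := by
    intro a b
    unfold W4c6eohyperellchar2.coefY W4c6eohyperellchar2.Y
    split_ifs <;> simp_all <;> omega
  have cYX : ∀ a b : ℕ, W4c6eohyperellchar2.coefX (W4c6eohyperellchar2.Y c k a) b = 0 := by
    intro a b
    unfold W4c6eohyperellchar2.coefX W4c6eohyperellchar2.Y
    split_ifs <;> rfl
  have hXall : ∀ d j : ℕ, c ≤ j + d → 1 ≤ j → j ≤ c → W4c6eohyperellchar2.X c k j ∈ N := by
    intro d
    induction d with
    | zero => exact fun j h h' h'' => hX j (by omega) h''
    | succ d ih =>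
      intro j h h' h''
      by_cases h2 : c < 2 * j
      · exact hX j h2 h''
      · have hv := hF _ (ih (2 * j) (by omega) (by omega) (by omega))
        convert hv using 1
        unfold W4c6eohyperellchar2.F
        refine Prod.ext (funext fun i => ?_) (funext fun i => ?_) <;> have := i.isLt <;> simp only [cX] <;>
          simp only [W4c6eohyperellchar2.X, Pi.zero_apply] <;> split_ifs <;> simp <;> omega
  have hX' : ∀ j, 1 ≤ j → j ≤ c → W4c6eohyperellchar2.X c k j ∈ N := fun j => hXall c j (by omega)
  have hY' : ∀ n, 1 ≤ n → n ≤ c → W4c6eohyperellchar2.Y c k n ∈ N := by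
    intro n
    induction n using Nat.strong_induction_on with
    | _ n ih =>
      intro h h'
      by_cases h2 : n % 2 = 0
      · have hv := hV _ (ih (n / 2) (by omega) (by omega) (by omega))
        convert hv using 1
        unfold W4c6eohyperellchar2.V
        refine Prod.ext rfl (funext fun i => ?_)
        have := i.isLt
        simp only [cY, cYX]
        simp only [W4c6eohyperellchar2.Y]
        split_ifs <;> simp <;> omega
      · have hv := hV _ (hX' ((2 * c + 1 - n) / 2) (by omega) (by omega))
        convert hv using 1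
        unfold W4c6eohyperellchar2.V
        refine Prod.ext rfl (funext fun i => ?_)
        have := i.isLt
        simp only [cXY, cX]
        simp only [W4c6eohyperellchar2.Y]
        split_ifs <;> simp <;> omega
  refine Submodule.eq_top_iff'.2 fun v => ?_
  have e : v = (∑ i : Fin c, v.1 i • W4c6eohyperellchar2.X c k (i.val + 1)) +
      ∑ i : Fin c, v.2 i • W4c6eohyperellchar2.Y c k (i.val + 1) := by
    refine Prod.ext (funext fun j => ?_) (funext fun j => ?_) <;>
      simp [W4c6eohyperellchar2.X, W4c6eohyperellchar2.Y, Prod.fst_sum, Prod.snd_sum, Finset.sum_apply,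
        Fin.val_inj]
  rw [e]
  exact N.add_mem (N.sum_mem fun i _ => N.smul_mem _ (hX' _ (by omega) i.isLt))
    (N.sum_mem fun i _ => N.smul_mem _ (hY' _ (by omega) i.isLt))


end Groth.Agent.S19042
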