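import Groth.Statements.S19043
import Groth.Agent.GcLib.Basic
-- import your own Groth.Agent.* helpers here

set_option autoImplicit false
set_option backward.isDefEq.respectTransparency false
set_option maxHeartbeats 1000000
set_option linter.style.haveILetI false
universe u
open Dieu

namespace Groth.Agent.S19043

/-- Let `k` be a perfect field of characteristic `2` and `c` a natural number, and let `M` be the
explicit `2c`-dimensional `k`-space on `X_1, …, X_c, Y_1, …, Y_c` with its operators `F` and `V` (`F
Y_j = 0`; `F X_j = X_{j/2}` for `j` even and `Y_{c-(j-1)/2}` for `j` odd; `V Y_j = Y_{2j}` when `2j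
≤ c`, else `0`; `V X_j = Y_{2c-2j+1}` when `2j > c`, else `0`). The classes of the `X_j` with `c <
2j ≤ 2c` in the quotient of `M` by the `k`-span of `F(M) ∪ V(M)` are linearly independent and span
that quotient. (Stated over any perfect field of characteristic `2`; the source works over an
algebraically closed one.) -/
theorem result (c : ℕ) (k : Type u) [Field k] [CharP k 2] [PerfectRing k 2] :
    LinearIndependent k (fun j : {j : ℕ // c < 2 * j ∧ j ≤ c} =>
        Submodule.mkQ (Submodule.span k (Set.range (W4c6eohyperellchar2.F c k) ∪ Set.range (W4c6eohyperellchar2.V c k))) (W4c6eohyperellchar2.X c k j.1)) ∧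
      Submodule.span k (Set.range (fun j : {j : ℕ // c < 2 * j ∧ j ≤ c} =>
        Submodule.mkQ (Submodule.span k (Set.range (W4c6eohyperellchar2.F c k) ∪ Set.range (W4c6eohyperellchar2.V c k))) (W4c6eohyperellchar2.X c k j.1))) = ⊤ := by
  open Groth.Agent.GcLib in
  classical
  let U := Submodule.span k (Set.range (W4c6eohyperellchar2.F c k) ∪ Set.range (W4c6eohyperellchar2.V c k))
  have hsub : ∀ v ∈ U, ∀ i : Fin c, c < 2 * (i.val + 1) → v.1 i = 0 := by
    intro v hv
    induction hv using Submodule.span_induction with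
    | mem v hv =>
      intro i hi
      rcases hv with ⟨w, rfl⟩ | ⟨w, rfl⟩
      · show W4c6eohyperellchar2.coefX w (2 * (i.val + 1)) ^ 2 = 0
        rw [W4c6eohyperellchar2.coefX, dif_neg (by omega), zero_pow two_ne_zero]
      · rfl
    | zero => intro i _; rfl
    | add v w _ _ hv hw => intro i hi; simp [hv i hi, hw i hi]
    | smul a v _ hv => intro i hi; simp [hv i hi]
  have hXlow : ∀ j, 1 ≤ j → 2 * j ≤ c → W4c6eohyperellchar2.X c k j ∈ U := fun j h h' =>
    Submodule.subset_span (Or.inl ⟨_, Groth.Agent.GcLib.F_X_even h h'⟩)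
  have hY : ∀ m, 1 ≤ m → m ≤ c → W4c6eohyperellchar2.Y c k m ∈ U := by
    intro m h h'
    refine Submodule.subset_span (Or.inr ?_)
    by_cases h2 : m % 2 = 0
    · exact ⟨_, (Groth.Agent.GcLib.V_Y (a := m / 2) (by omega) (by omega)).trans (by congr 1; omega)⟩
    · exact ⟨_, (Groth.Agent.GcLib.V_X (j := (2 * c + 1 - m) / 2) (by omega) (by omega)).trans (by congr 1; omega)⟩
  let J := {j : ℕ // c < 2 * j ∧ j ≤ c}
  haveI : Finite J := Finite.of_injective (fun j : J => (⟨j.1 - 1, by have := j.2; omega⟩ : Fin c))
    (fun j j' e => by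
      have := congrArg Fin.val e
      have := j.2; have := j'.2
      exact Subtype.ext (by simp only at *; omega))
  cases nonempty_fintype J
  refine ⟨Fintype.linearIndependent_iff.2 fun g hg j => ?_, ?_⟩
  · have h0 : (∑ i, g i • W4c6eohyperellchar2.X c k i.1) ∈ U := by
      rw [← Submodule.Quotient.mk_eq_zero]
      refine Eq.trans ?_ hg
      simp [← Submodule.mkQ_apply, map_sum, U]
    have := hsub _ h0 ⟨j.1 - 1, by have := j.2; omega⟩ (by have := j.2; simp only; omega)
    rw [Prod.fst_sum, Finset.sum_apply, Finset.sum_eq_single j] at this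
    · have hj1 : j.1 - 1 + 1 = j.1 := by have := j.2; omega
      simpa [W4c6eohyperellchar2.X, hj1] using this
    · intro i _ hi
      have : ¬ (j.1 - 1 + 1 = i.1) := fun e => hi (Subtype.ext (by have := j.2; omega))
      simp [W4c6eohyperellchar2.X, this]
    · simp
  · rw [eq_top_iff]
    rintro q -
    obtain ⟨v, rfl⟩ := Submodule.mkQ_surjective _ q
    have e : v = (∑ i : Fin c, v.1 i • W4c6eohyperellchar2.X c k (i.val + 1)) +
        ∑ i : Fin c, v.2 i • W4c6eohyperellchar2.Y c k (i.val + 1) := by
      refine Prod.ext (funext fun j => ?_) (funext fun j => ?_) <;>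
        simp [W4c6eohyperellchar2.X, W4c6eohyperellchar2.Y, Prod.fst_sum, Prod.snd_sum, Finset.sum_apply,
          Fin.val_inj]
    rw [e, map_add, map_sum, map_sum]
    refine add_mem (Submodule.sum_mem _ fun i _ => ?_) (Submodule.sum_mem _ fun i _ => ?_)
    · rw [map_smul]
      refine Submodule.smul_mem _ _ ?_
      by_cases h : c < 2 * (i.val + 1)
      · exact Submodule.subset_span ⟨⟨i.val + 1, h, i.isLt⟩, rfl⟩
      · rw [Submodule.mkQ_apply, (Submodule.Quotient.mk_eq_zero _).2 (hXlow _ (by omega) (by omega))]
        exact Submodule.zero_mem _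
    · rw [Submodule.mkQ_apply, (Submodule.Quotient.mk_eq_zero _).2
        (U.smul_mem _ (hY _ (by omega) i.isLt))]
      exact Submodule.zero_mem _


end Groth.Agent.S19043
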