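import Groth.Statements.S19060
import Groth.Agent.CohPullLib.NbhdRank
import Groth.Agent.QCoh.FlatExchange
import Groth.Agent.FibVanish.QCoh
-- import your own Groth.Agent.* helpers here

set_option autoImplicit false
set_option backward.isDefEq.respectTransparency false
set_option backward.isDefEq.respectTransparency.types false
set_option linter.style.haveILetI false
set_option maxHeartbeats 1000000
universe u
open CategoryTheory CategoryTheory.Limits AlgebraicGeometry Opposite
open Curves

namespace Groth.Agent.S19060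
open Groth.Agent

/-- Let R be a Noetherian ring and X a relative curve over Spec R (proper and smooth, with geometrically
connected fibres of dimension one, and projective: X carries an ample invertible module). Let F be a
coherent O_X-module which is flat over Spec R (every stalk is a flat module over the local ring of
the base). If H^1(X, F) is a projective R-module, then H^0(X, F) is a projective R-module. (The
source says only that F is an O_X-module flat over the base; F is taken coherent here, as the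
finiteness of its cohomology over R used there requires.) -/
theorem result (R : Type u) [CommRing R] [IsNoetherianRing R]
    (X : Scheme.{u}) [X.Over (Spec (CommRingCat.of R))] [IsProper (X ↘ Spec (CommRingCat.of R))]
    [Smooth (X ↘ Spec (CommRingCat.of R))] [GeometricallyConnected (X ↘ Spec (CommRingCat.of R))]
    (hdim : ∀ s : Spec (CommRingCat.of R), topologicalKrullDim ↥((X ↘ Spec (CommRingCat.of R)).fiber s) = 1)
    (hproj : ∃ M : X.Modules, CohB1.IsAmple M)
    (F : X.Modules) (hF : Coh.IsCoh F) (hfl : FlatMod.IsFlatOver (X ↘ Spec (CommRingCat.of R)) F)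
    (h1 : Module.Projective R (Coh.HH X F 1)) :
    Module.Projective R (Coh.HH X F 0) := by
  obtain ⟨P, hfin, hfree, hbd, h4, h5⟩ := QCoh.exists_chain_model F hF hfl
  have hflat : ∀ i, Module.Flat R (P.X i) := fun i => @Module.Flat.of_free _ _ _ _ _ (hfree i)
  have hfib : ∀ y : ↥(Spec (CommRingCat.of R)), IsClosed ({y} : Set ↥(Spec (CommRingCat.of R))) →
      topologicalKrullDim ↥((X ↘ Spec (CommRingCat.of R)) ⁻¹' {y}) ≤ (1 : ℕ) := fun y _ => by
    rw [← ((X ↘ Spec (CommRingCat.of R)).fiberHomeo y).isHomeomorph.topologicalKrullDim_eq, hdim y]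
    rfl
  -- vanishing in degree two
  have h2z : ∀ M, IsZero ((CohIII.TFun P (-((2 : ℕ) : ℤ))).obj M) := fun M => by
    obtain ⟨e⟩ := h4 2
    haveI : Subsingleton (Coh.HH X ((CohIII.tensorAFunctor R F).obj M) 2) :=
      FibVanish.subsingleton_HH_qcoh hfib (KFlatLib.isQCoh_tensor
        (QCoh.isQCoh_pullback _ (show Coh.IsQCoh (tilde (R := CommRingCat.of R) M) from inferInstance)) hF.1) Nat.one_lt_two
    haveI : Subsingleton ((CohIII.TFun P (-((2 : ℕ) : ℤ))).obj M) :=
      @Equiv.subsingleton _ _ (e.app M).addCommGroupIsoToAddEquiv.toEquiv (‹Subsingleton (Coh.HH X _ 2)›)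
    exact ModuleCat.isZero_of_subsingleton _
  have hq1 : -((2 : ℕ) : ℤ) + 1 = -((1 : ℕ) : ℤ) := by lia
  have hepi1 : (CohIII.TFun P (-((1 : ℕ) : ℤ))).PreservesEpimorphisms :=
    (FlatCxLib.preservesEpi_iff_preservesMono hflat hq1).2 (QCoh.isExactT_of_isZero h2z).1
  obtain ⟨e1⟩ := h4 1
  obtain ⟨l1⟩ := CohPullLib.nonempty_linearEquiv_HH hF.1 1 _ e1
  haveI : Module.Flat R (Coh.HH X F 1) := @Module.Flat.of_projective R (Coh.HH X F 1) _ _ _ h1
  haveI : Module.Flat R (CohIII.T P (-((1 : ℕ) : ℤ)) (ModuleCat.of R R)) := Module.Flat.of_linearEquiv l1.symm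
  have hq0 : -((1 : ℕ) : ℤ) + 1 = -((0 : ℕ) : ℤ) := by lia
  have hepi0 : (CohIII.TFun P (-((0 : ℕ) : ℤ))).PreservesEpimorphisms :=
    (FlatCxLib.preservesEpi_iff_preservesMono hflat hq0).2
      ((FlatCxLib.exact_iff hflat hq0 (show -((1 : ℕ) : ℤ) - 1 + 1 = _ by lia)).2 ⟨hepi1, inferInstance⟩).1
  have hz : ∀ M, IsZero ((CohIII.TFun P (-((0 : ℕ) : ℤ) + 1)).obj M) := h5 _ (by simp)
  have hr : -((0 : ℕ) : ℤ) - 1 + 1 = -((0 : ℕ) : ℤ) := by lia
  haveI : Module.Flat R (FlatCxLib.Coker P (-((0 : ℕ) : ℤ)) (-((0 : ℕ) : ℤ) - 1)) := (FlatCxLib.preservesEpi_iff hflat hr).1 hepi0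
  haveI := CohPullLib.finitePresentation_homology hfin hfree hr
  haveI := ((FlatCxLib.exact_iff hflat (show -((0 : ℕ) : ℤ) + 1 = _ from rfl) hr).1
    ⟨(FlatCxLib.preservesEpi_iff_preservesMono hflat rfl).1 (QCoh.isExactT_of_isZero hz).2, hepi0⟩).2
  obtain ⟨e0⟩ := h4 0
  obtain ⟨l0⟩ := CohPullLib.nonempty_linearEquiv_HH hF.1 0 _ e0
  let l : Coh.HH X F 0 ≃ₗ[R] P.homology (-((0 : ℕ) : ℤ)) :=
    l0.trans (FlatCxLib.tUnitIso (P := P) (-((0 : ℕ) : ℤ))).toLinearEquiv
  haveI : Module.Flat R (Coh.HH X F 0) := Module.Flat.of_linearEquiv (show Coh.HH X F 0 ≃ₗ[R] CohIII.T P (-((0 : ℕ) : ℤ)) (ModuleCat.of R R) from l0)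
  haveI : Module.FinitePresentation R (Coh.HH X F 0) := Module.FinitePresentation.of_equiv l.symm
  exact Module.Flat.projective_of_finitePresentation

end Groth.Agent.S19060
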