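import Groth.Statements.S19073
import Groth.Agent.IntSym.CurveSurface
import Groth.Agent.IntSym.NumEuler
import Groth.Agent.PnCoh.Chow.Proper
-- import your own Groth.Agent.* helpers here

set_option autoImplicit false
set_option linter.style.haveILetI false
set_option backward.isDefEq.respectTransparency false
set_option backward.isDefEq.respectTransparency.types false
set_option maxHeartbeats 800000
universe u
open CategoryTheory CategoryTheory.Limits AlgebraicGeometry
open Surf

open Groth.Agent.H23.PicMul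
open scoped Groth.Agent.H23.PicMul

namespace Groth.Agent.S19073


/-- Let X be a surface over an algebraically closed field k (an integral scheme of dimension two all of
whose local rings are regular, with a closed immersion into some P^n_k over k), and let L₁, L₂ be
invertible O_X-modules which are numerically equivalent: (L₁·M) = (L₂·M) for every invertible
O_X-module M, where (L·M) = χ(O_X) − χ(L) − χ(M) + χ(L ⊗ M) is the intersection number. Then χ(X,
L₁) = χ(X, L₂). -/
theorem result (k : Type u) [Field k] [IsAlgClosed k] (X : Scheme.{u}) [X.Over (Spec (CommRingCat.of k))]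
    [AlgebraicGeometry.IsIntegral X] (hdim : topologicalKrullDim X = 2) (hreg : ∀ x : X, IsRegularLocalRing (X.presheaf.stalk x))
    (hproj : ∃ (n : ℕ) (ι : X ⟶ CohB1.ProjSpace n k), IsClosedImmersion ι ∧ ι ≫ CohB1.ProjSpace.toSpec n k = (X ↘ (Spec (CommRingCat.of k))))
    (L₁ L₂ : X.Modules) (hL₁ : PicF.IsInvertible L₁) (hL₂ : PicF.IsInvertible L₂)
    (hnum : ∀ M : X.Modules, PicF.IsInvertible M →
      FGA.intNum k X 2 ![L₁, M] (Coh.structureModule X) = FGA.intNum k X 2 ![L₂, M] (Coh.structureModule X)) :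
    Curv2.euler k X L₁ = Curv2.euler k X L₂ := by
  obtain ⟨n, ι, hι, hιk⟩ := hproj
  haveI := hι
  haveI : IsProper (CohB1.ProjSpace.toSpec n k) := PnCoh.Chow.isProper_toSpec n k
  haveI : IsProper (X ↘ Spec (CommRingCat.of k)) := by rw [← hιk]; infer_instance
  haveI := CurveCohLib.isNoetherian_of_proper (k := k) (X := X)
  have hd : topologicalKrullDim X = ((2 : ℕ) : WithBot ℕ∞) := hdim
  have hn := IntSym.CurveSurface.numEq_of_intNum k hd hreg hL₁ hL₂ hnum
  obtain ⟨L₂', hL₂', ⟨u⟩⟩ := H23.PicInv.exists_inverse hL₂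
  have hD : PicF.IsInvertible (CohB1.tensorMod L₁ L₂') := InvX.isInvertible_tensorMod hL₁ hL₂'
  have hNT : Pic13.IsNumEquivZero k X (CohB1.tensorMod L₁ L₂') := fun Z i hi hZI hZ => by
    haveI := hi; haveI := hZI
    have hF : Coh.IsCoh ((Coh.push i).obj (Coh.structureModule Z)) := QCoh.isCoh_push_structure i
    have hd1 := IntSym.dim_push_le i (QCoh.isQCoh_structureModule (X := Z)) (d := ((1 : ℕ) : WithBot ℕ∞))
      (by rw [Nat.cast_one]; exact hZ.le)
    rw [IntSym.curveDeg_eq k i hZ hD, IntSym.sym_tensor_head k hL₁ hL₂' (l := []) (List.forall_mem_nil _) hF hd1,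
      hn Z i hZ, IntSym.sym_inverse_head k hL₂' hL₂ (CurveTensor.commIso L₂' L₂ ≪≫ u) (l := []) (List.forall_mem_nil _) hF hd1,
      add_neg_cancel]
  have h0 := IntSym.sym_numTriv_eq_zero k hD hNT (AmpleVan.isCoh_invertible hL₂)
  obtain ⟨e⟩ : Nonempty (CohB1.tensorMod L₂ (CohB1.tensorMod L₁ L₂') ≅ L₁) := cl_eq_iff.1 (by
    have hu : PicF.cl L₂ * PicF.cl L₂' = 1 := by rw [← cl_tensor, H23.PicMul.one_def]; exact cl_eq_iff.2 ⟨u⟩
    rw [cl_tensor, cl_tensor, mul_left_comm, hu, mul_one])
  rw [IntSym.sym_singleton, sub_eq_zero, CurveCohLib.euler_congr (k := k) e] at h0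
  exact h0

end Groth.Agent.S19073
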