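import Groth.Statements.S19081
import Groth.Agent.AlbCurve.ThetaAmple
import Groth.Agent.AmpleX.Pow
import Groth.Agent.AVIndex.Field

set_option autoImplicit false
set_option backward.isDefEq.respectTransparency false
set_option backward.isDefEq.respectTransparency.types false
set_option maxHeartbeats 1000000
set_option linter.style.haveILetI false
universe u
open CategoryTheory CategoryTheory.Limits AlgebraicGeometry MonoidalCategory CartesianMonoidalCategory MonObj
open JacVar

namespace Groth.Agent.S19081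
open Groth.Agent AlgebraicGeometry CategoryTheory
open scoped Groth.Agent.H23.PicMul

/-- Let k be an algebraically closed field, C a smooth proper connected curve of genus g ≥ 1 over k, and
(J, ψ) its Jacobian: a commutative group scheme over k, proper and smooth, which is a coarse moduli
scheme on all k-schemes for line bundles of degree 0 on C modulo twisting from the base, with group
law induced by the tensor product. Let N be an invertible O_C-module of degree g − 1 and Θ the theta
line bundle on J attached to N (an invertible module inverse to the ideal of the reduced closure of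
the locus of classes ξ with H^0(ξ ⊗ N) ≠ 0 — a translate of the image W^{g−1} of the (g−1)-st
symmetric power of C, the source's theta divisor), and let M be an invertible O_J-module inverse to
Θ (M ⊗ Θ ≅ O_J), so that M^m is the module of the divisor −mΘ. Then for every m ≥ 1, dim_k H^g(J,
M^m) = m^g and H^i(J, M^m) = 0 for all i < g. -/
theorem result (k : Type u) [Field k] [IsAlgClosed k]
    (C : Scheme.{u}) [C.Over (Spec (CommRingCat.of k))]
    [IsProper (C ↘ Spec (CommRingCat.of k))] [Smooth (C ↘ Spec (CommRingCat.of k))] [GeometricallyConnected (C ↘ Spec (CommRingCat.of k))]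
    (hdim : topologicalKrullDim ↥C = 1)
    (g : ℕ) (hg : Curv2.genus k C = g) (hg1 : 1 ≤ g)
    (J : Over (Spec (CommRingCat.of k))) [GrpObj J] [IsCommMonObj J] [IsProper J.hom] [Smooth J.hom]
    (ψ : (ModFun.PicDeg (C ↘ Spec (CommRingCat.of k)) 0).Hom ⊤ J) (hJ : Jac.IsJacobian (C ↘ Spec (CommRingCat.of k)) ⊤ J ψ)
    (N : C.Modules) (hN : PicF.IsInvertible N) (hNdeg : Curv2.deg k C N 1 = (g : ℤ) - 1)
    (ΘJ : J.left.Modules) (hΘJ : Jac.IsThetaLB (C ↘ Spec (CommRingCat.of k)) 0 ψ N ΘJ)
    (M : J.left.Modules) (hM : PicF.IsInvertible M) (hMΘ : ClSub.IsInverseOf M ΘJ)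
    (m : ℕ) (hm : 1 ≤ m) :
    letI : J.left.Over (Spec (CommRingCat.of k)) := ⟨J.hom⟩
    Module.finrank k (Coh.HH J.left (CohB1.tensorPow M m) g) = m ^ g ∧
      ∀ i : ℕ, i < g → Subsingleton (Coh.HH J.left (CohB1.tensorPow M m) i) := by
  obtain ⟨hp, hi, hd, hamp, hchi⟩ := AlbCurve.theta_ample k hdim hg hg1 hJ hN hNdeg hΘJ
  haveI := hi
  letI : J.left.Over (Spec (CommRingCat.of k)) := ⟨J.hom⟩
  haveI : IsProper (J.left ↘ Spec (CommRingCat.of k)) := hp
  haveI := CurveCohLib.isNoetherian_of_proper (k := k) (X := J.left)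
  have hLM : PicF.cl ΘJ * PicF.cl M = 1 := by
    obtain ⟨e⟩ := hMΘ
    rw [mul_comm, ← H23.PicMul.cl_tensor, H23.PicMul.one_def]
    exact H23.PicMul.cl_eq_iff.2 ⟨e⟩
  have h := AmpleX.isAmple_tensorPow hamp (show 0 < m by omega)
  have hpow : PicF.cl (CohB1.tensorPow ΘJ m) * PicF.cl (CohB1.tensorPow M m) = 1 := by
    rw [H23.PicMul.cl_tensorPow, H23.PicMul.cl_tensorPow, ← mul_pow, hLM, one_pow]
  obtain ⟨-, hvan, -⟩ := AVIndex.concentrated_inverse (i := 0) h.1 hpow hd
    (fun q hq => by
      obtain ⟨q', rfl⟩ := Nat.exists_eq_succ_of_ne_zero hq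
      exact AVEuler.subsingleton_HH_ample h q')
    (AVEuler.nontrivial_HH_zero_ample h)
  rw [Nat.sub_zero] at hvan
  refine ⟨?_, fun i hig => hvan i hig.ne⟩
  have he := AVEuler.euler_homogeneous hd hamp.1 hM hLM 0 m
  rw [hchi, Int.cast_one, _root_.mul_one, Nat.cast_zero, zero_sub,
    CurveCohLib.euler_congr (k := k) (H23.PicMul.cl_eq_iff.1 (show PicF.cl _ = PicF.cl (CohB1.tensorPow M m) by
      rw [H23.PicMul.cl_tensor, H23.PicMul.cl_tensorPow ΘJ 0, pow_zero, _root_.one_mul])).some,
    CurveCohLib.euler_eq_sum (k := k) (N := g + 1) (fun i hi => hvan i (by omega)),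
    Finset.sum_eq_single g (fun i _ hne => by
      haveI := hvan i hne
      rw [Module.finrank_zero_of_subsingleton]; simp) (fun hh => absurd (Finset.mem_range.2 (Nat.lt_succ_self g)) hh)] at he
  have he' : ((-1 : ℚ)) ^ g * (Module.finrank k (Coh.HH J.left (CohB1.tensorPow M m) g) : ℚ) = (-1) ^ g * (m : ℚ) ^ g := by
    rw [← neg_pow (m : ℚ) g, ← he]
    push_cast
    ring
  exact_mod_cast mul_left_cancel₀ (pow_ne_zero g (by norm_num : (-1 : ℚ) ≠ 0)) he'

end Groth.Agent.S19081
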