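import Groth.Statements.S19104
import Groth.Agent.DnFlag.Basic

set_option autoImplicit false
open CategoryTheory CategoryTheory.Limits AlgebraicGeometry
universe u
open HilbD

namespace Groth.Agent.S19104

set_option backward.isDefEq.respectTransparency false
set_option backward.isDefEq.respectTransparency.types false

/-- Let f : X ⟶ S be smooth of relative dimension 1, μ a non-empty Young diagram and n a reversed plane
partition of shape μ (a labelling of the cells by naturals, non-decreasing along rows and columns).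
Call relative divisor of degree d a closed subscheme of X, given by a quasi-coherent ideal sheaf,
whose projection to S is finite locally free of degree d; sums of divisors are products of ideal
sheaves. Then every flag (Z_c)_{c ∈ μ} of relative divisors of degrees n_c which grows along rows
and columns has exactly one system of edge data of type n — the corner divisor Z_00, for each cell
(i,j) with i ≥ 1 a divisor X_ij of degree n_ij − n_{i−1,j} with Z_ij = Z_{i−1,j} + X_ij, and for
each cell with j ≥ 1 a divisor Y_ij of degree n_ij − n_{i,j−1} with Z_ij = Z_{i,j−1} + Y_ij — and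
this edge data satisfies X_ij + Y_{i−1,j} = Y_ij + X_{i,j−1} for every cell with i, j ≥ 1. (The
published statement is for X = C × T ⟶ T with C a smooth irreducible quasi-projective complex curve
and T a complex scheme, and identifies, through T-points, the scheme of such flags with the zero
scheme of a section of a vector bundle on the product of symmetric powers that carries the edge
data; the vanishing of the pulled-back section at a T-point amounts to the containment of Y_ij +
X_{i,j−1} in X_ij + Y_{i−1,j}, which for divisors of equal degree is the equality stated last. Here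
f is any smooth morphism of relative dimension 1, and neither the bundle nor its section is formed.) -/
theorem result {X S : Scheme.{u}} (f : X ⟶ S) [SmoothOfRelativeDimension 1 f]
    (μ : YoungDiagram) (h00 : ((0, 0) : ℕ × ℕ) ∈ μ) (n : ℕ × ℕ → ℕ) (hn : HilbD.IsRevPlanePartition μ n)
    (Z : ∀ c : ℕ × ℕ, c ∈ μ → X.IdealSheafData) (hZ : HilbD.IsDnFlag f μ n Z) :
    (∃! E : HilbD.DnEdgeData μ X, E.IsOfType f n ∧ E.IsEdgesOf h00 Z) ∧
      ∀ E : HilbD.DnEdgeData μ X, E.IsOfType f n → E.IsEdgesOf h00 Z →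
        ∀ (c : ℕ × ℕ) (hc : c ∈ μ) (hi : 1 ≤ c.1) (hj : 1 ≤ c.2), E.gammaOne c hc hi hj = E.gammaTwo c hc hi hj := by
  classical
  obtain ⟨hdeg, hmono⟩ := hZ
  have hv : ∀ (c : ℕ × ℕ) (hc : c ∈ μ) (hi : 1 ≤ c.1), ∃ I : X.IdealSheafData,
      HilbD.IsDivOfDeg f (n c - n (c.1 - 1, c.2)) I ∧ Z c hc = Z (c.1 - 1, c.2) (HilbD.mem_up hc) * I :=
    fun c hc hi => DnFlag.exists_diff f (hmono (c.1 - 1, c.2) c (HilbD.mem_up hc) hc ⟨Nat.sub_le c.1 1, le_rfl⟩)
      (hdeg (c.1 - 1, c.2) (HilbD.mem_up hc)) (hdeg c hc)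
  have hh : ∀ (c : ℕ × ℕ) (hc : c ∈ μ) (hj : 1 ≤ c.2), ∃ I : X.IdealSheafData,
      HilbD.IsDivOfDeg f (n c - n (c.1, c.2 - 1)) I ∧ Z c hc = Z (c.1, c.2 - 1) (HilbD.mem_left hc) * I :=
    fun c hc hj => DnFlag.exists_diff f (hmono (c.1, c.2 - 1) c (HilbD.mem_left hc) hc ⟨le_rfl, Nat.sub_le c.2 1⟩)
      (hdeg (c.1, c.2 - 1) (HilbD.mem_left hc)) (hdeg c hc)
  choose v hv1 hv2 using hv
  choose h hh1 hh2 using hh
  refine ⟨⟨⟨Z (0, 0) h00, v, h⟩, ⟨⟨hdeg (0, 0) h00, hv1, hh1⟩, ⟨rfl, hv2, hh2⟩⟩, ?_⟩, ?_⟩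
  · rintro E ⟨-, e0, ev, eh⟩
    refine HilbD.DnEdgeData.ext e0.symm ?_ ?_
    · funext c hc hi
      exact DnFlag.cancel f (hdeg _ (HilbD.mem_up hc)) ((ev c hc hi).symm.trans (hv2 c hc hi))
    · funext c hc hj
      exact DnFlag.cancel f (hdeg _ (HilbD.mem_left hc)) ((eh c hc hj).symm.trans (hh2 c hc hj))
  · rintro E - ⟨-, ev, eh⟩ ⟨i, j⟩ hc hi hj
    have e1 := eh (i - 1, j) (HilbD.mem_up hc) hj
    have e2 := ev (i, j) hc hi
    have e3 := ev (i, j - 1) (HilbD.mem_left hc) hi
    have e4 := eh (i, j) hc hj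
    unfold HilbD.DnEdgeData.gammaOne HilbD.DnEdgeData.gammaTwo
    dsimp only at e1 e2 e3 e4 ⊢
    refine DnFlag.cancel f (hdeg (i - 1, j - 1) (HilbD.mem_left (HilbD.mem_up hc))) ?_
    rw [mul_comm (E.vert (i, j) hc hi), ← mul_assoc, ← e1, ← e2,
      mul_comm (E.horiz (i, j) hc hj), ← mul_assoc, ← e3, ← e4]

end Groth.Agent.S19104
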