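import Groth.Statements.S19105
import Groth.Agent.DnFlag.Basic

set_option autoImplicit false
open CategoryTheory CategoryTheory.Limits AlgebraicGeometry
universe u
open HilbD

namespace Groth.Agent.S19105

set_option backward.isDefEq.respectTransparency false
set_option backward.isDefEq.respectTransparency.types false

/-- Let f : X ⟶ S be smooth of relative dimension 1, μ a non-empty Young diagram and n a reversed plane
partition of shape μ (a labelling of the cells by naturals, non-decreasing along rows and columns).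
Call relative divisor of degree d a closed subscheme of X, given by a quasi-coherent ideal sheaf,
whose projection to S is finite locally free of degree d; sums of divisors are products of ideal
sheaves. Let edge data of type n be given: a relative divisor Z_00 of degree n_00, for each cell
(i,j) with i ≥ 1 a relative divisor X_ij of degree n_ij − n_{i−1,j} and for each cell with j ≥ 1 a
relative divisor Y_ij of degree n_ij − n_{i,j−1}, such that for every cell with i, j ≥ 1 the divisor
Y_ij + X_{i,j−1} is contained in X_ij + Y_{i−1,j} (containment of ideal sheaves the other way). Then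
there is exactly one flag (Z_c)_{c ∈ μ} of relative divisors of degrees n_c, growing along rows and
columns, with corner Z_00 and with Z_ij = Z_{i−1,j} + X_ij and Z_ij = Z_{i,j−1} + Y_ij throughout.
(The published statement is for X = C × T ⟶ T with C a smooth irreducible quasi-projective complex
curve and T a complex scheme, and identifies, through T-points, the scheme of such flags with the
zero scheme of a section of a vector bundle on the product of symmetric powers that carries the edge
data; the vanishing of the pulled-back section at a T-point amounts to the stated containment of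
divisors. Here f is any smooth morphism of relative dimension 1, and neither the bundle nor its
section is formed.) -/
theorem result {X S : Scheme.{u}} (f : X ⟶ S) [SmoothOfRelativeDimension 1 f]
    (μ : YoungDiagram) (h00 : ((0, 0) : ℕ × ℕ) ∈ μ) (n : ℕ × ℕ → ℕ) (hn : HilbD.IsRevPlanePartition μ n)
    (E : HilbD.DnEdgeData μ X) (hE : E.IsOfType f n)
    (hcomm : ∀ (c : ℕ × ℕ) (hc : c ∈ μ) (hi : 1 ≤ c.1) (hj : 1 ≤ c.2), E.gammaOne c hc hi hj ≤ E.gammaTwo c hc hi hj) :
    ∃! Z : ∀ c : ℕ × ℕ, c ∈ μ → X.IdealSheafData, HilbD.IsDnFlag f μ n Z ∧ E.IsEdgesOf h00 Z := by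
  classical
  obtain ⟨hb, hv, hh⟩ := hE
  let G : ℕ → ℕ → X.IdealSheafData := fun i => Nat.rec
    (fun j => Nat.rec E.base (fun j z => z * if h : (0, j + 1) ∈ μ then E.horiz (0, j + 1) h (Nat.le_add_left 1 j) else ⊤) j)
    (fun i row j => row j * if h : (i + 1, j) ∈ μ then E.vert (i + 1, j) h (Nat.le_add_left 1 i) else ⊤) i
  have hG00 : G 0 0 = E.base := rfl
  have hG0 : ∀ (j : ℕ) (h : (0, j + 1) ∈ μ), G 0 (j + 1) = G 0 j * E.horiz (0, j + 1) h (Nat.le_add_left 1 j) := fun j h => by
    show G 0 j * _ = _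
    rw [dif_pos h]
  have hGi : ∀ (i j : ℕ) (h : (i + 1, j) ∈ μ), G (i + 1) j = G i j * E.vert (i + 1, j) h (Nat.le_add_left 1 i) := fun i j h => by
    show G i j * _ = _
    rw [dif_pos h]
  have low : ∀ {c c' : ℕ × ℕ}, c' ∈ μ → c ≤ c' → c ∈ μ := fun hc h => μ.isLowerSet h hc
  -- degrees
  have deg : ∀ i j : ℕ, (i, j) ∈ μ → HilbD.IsDivOfDeg f (n (i, j)) (G i j) := by
    intro i
    induction i with
    | zero =>
      intro j
      induction j with
      | zero => exact fun _ => hb
      | succ j ih =>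
        intro hc
        have hc' : (0, j) ∈ μ := low hc ⟨le_rfl, Nat.le_succ j⟩
        rw [hG0 j hc]
        refine DnFlag.add f (ih hc') (hh (0, j + 1) hc (Nat.le_add_left 1 j)) ?_
        have := hn hc' hc ⟨le_rfl, Nat.le_succ j⟩
        show n (0, j) + (n (0, j + 1) - n (0, j)) = n (0, j + 1)
        omega
    | succ i ih =>
      intro j hc
      have hc' : (i, j) ∈ μ := low hc ⟨Nat.le_succ i, le_rfl⟩
      rw [hGi i j hc]
      refine DnFlag.add f (ih j hc') (hv (i + 1, j) hc (Nat.le_add_left 1 i)) ?_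
      have := hn hc' hc ⟨Nat.le_succ i, le_rfl⟩
      show n (i, j) + (n (i + 1, j) - n (i, j)) = n (i + 1, j)
      omega
  -- horizontal steps
  have hor : ∀ (i j : ℕ) (h : (i, j + 1) ∈ μ), G i (j + 1) = G i j * E.horiz (i, j + 1) h (Nat.le_add_left 1 j) := by
    intro i
    induction i with
    | zero => exact hG0
    | succ i ih =>
      intro j h
      have h1 : (i + 1, j) ∈ μ := low h ⟨le_rfl, Nat.le_succ j⟩
      have h2 : (i, j + 1) ∈ μ := low h ⟨Nat.le_succ i, le_rfl⟩
      have hγ : E.vert (i + 1, j + 1) h (Nat.le_add_left 1 i) * E.horiz (i, j + 1) h2 (Nat.le_add_left 1 j) =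
          E.horiz (i + 1, j + 1) h (Nat.le_add_left 1 j) * E.vert (i + 1, j) h1 (Nat.le_add_left 1 i) := by
        have a1 := hv (i + 1, j + 1) h (Nat.le_add_left 1 i)
        have a2 := hh (i, j + 1) h2 (Nat.le_add_left 1 j)
        have b1 := hh (i + 1, j + 1) h (Nat.le_add_left 1 j)
        have b2 := hv (i + 1, j) h1 (Nat.le_add_left 1 i)
        have h0 : (i, j) ∈ μ := low h1 ⟨Nat.le_succ i, le_rfl⟩
        have m1 := hn h0 h2 ⟨le_rfl, Nat.le_succ j⟩
        have m2 := hn h0 h1 ⟨Nat.le_succ i, le_rfl⟩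
        have m3 := hn h1 h ⟨le_rfl, Nat.le_succ j⟩
        have m4 := hn h2 h ⟨Nat.le_succ i, le_rfl⟩
        refine DnFlag.eq_of_le f (hcomm (i + 1, j + 1) h (Nat.le_add_left 1 i) (Nat.le_add_left 1 j))
          (d := n (i + 1, j + 1) - n (i, j)) (DnFlag.add f a1 a2 ?_) (DnFlag.add f b1 b2 ?_)
        · show n (i + 1, j + 1) - n (i, j + 1) + (n (i, j + 1) - n (i, j)) = _
          omega
        · show n (i + 1, j + 1) - n (i + 1, j) + (n (i + 1, j) - n (i, j)) = _
          omega
      rw [hGi i (j + 1) h, ih j h2, mul_assoc, mul_comm (E.horiz (i, j + 1) h2 _), hγ,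
        hGi i j h1, mul_assoc, mul_comm (E.horiz (i + 1, j + 1) h _)]
  have steps₁ : ∀ (c : ℕ × ℕ) (hc : c ∈ μ) (hi : 1 ≤ c.1),
      G c.1 c.2 = G (c.1 - 1) c.2 * E.vert c hc hi := by
    rintro ⟨i, j⟩ hc hi
    obtain ⟨i, rfl⟩ := Nat.exists_eq_succ_of_ne_zero (show i ≠ 0 by dsimp at hi; omega)
    exact hGi i j hc
  have steps₂ : ∀ (c : ℕ × ℕ) (hc : c ∈ μ) (hj : 1 ≤ c.2),
      G c.1 c.2 = G c.1 (c.2 - 1) * E.horiz c hc hj := by
    rintro ⟨i, j⟩ hc hj
    obtain ⟨j, rfl⟩ := Nat.exists_eq_succ_of_ne_zero (show j ≠ 0 by dsimp at hj; omega)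
    exact hor i j hc
  refine ⟨fun c _ => G c.1 c.2, ⟨⟨fun c hc => deg c.1 c.2 hc, ?_⟩, ⟨hG00, steps₁, steps₂⟩⟩, ?_⟩
  · -- monotonicity
    have key : ∀ (a b : ℕ) (c : ℕ × ℕ), (c.1 + a, c.2 + b) ∈ μ → G (c.1 + a) (c.2 + b) ≤ G c.1 c.2 := by
      intro a
      induction a with
      | zero =>
        intro b
        induction b with
        | zero => exact fun c _ => le_rfl
        | succ b ih =>
          intro c hc
          have h1 : (c.1 + 0, c.2 + b) ∈ μ := low hc ⟨le_rfl, by dsimp; omega⟩
          refine le_trans ?_ (ih c h1)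
          exact (hor (c.1 + 0) (c.2 + b) hc).trans_le (RelCurve.mul_le_left _ _)
      | succ a ih =>
        intro b c hc
        have h1 : (c.1 + a, c.2 + b) ∈ μ := low hc ⟨by dsimp; omega, le_rfl⟩
        refine le_trans ?_ (ih b c h1)
        exact (hGi (c.1 + a) (c.2 + b) hc).trans_le (RelCurve.mul_le_left _ _)
    rintro ⟨i, j⟩ ⟨i', j'⟩ hc hc' ⟨h1, h2⟩
    obtain ⟨a, rfl⟩ := Nat.exists_eq_add_of_le h1
    obtain ⟨b, rfl⟩ := Nat.exists_eq_add_of_le h2
    exact key a b (i, j) hc'
  · rintro Z' ⟨-, e0, ev, eh⟩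
    funext c hc
    obtain ⟨i, j⟩ := c
    induction i generalizing j with
    | zero =>
      induction j with
      | zero => exact e0.trans hG00.symm
      | succ j ih =>
        show Z' (0, j + 1) hc = G 0 (j + 1)
        rw [eh (0, j + 1) hc (Nat.le_add_left 1 j), hG0 j hc]
        exact congrArg (· * _) (ih _)
    | succ i ih =>
      show Z' (i + 1, j) hc = G (i + 1) j
      rw [ev (i + 1, j) hc (Nat.le_add_left 1 i), hGi i j hc]
      exact congrArg (· * _) (ih j _)

end Groth.Agent.S19105
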