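import Groth.Statements.S19130
import Groth.Agent.EtTorLib.ConstSections
import Groth.Agent.S0627
import Groth.Agent.S0090
import Groth.Agent.EtLC12.EtZarCompare
import Groth.Prelude.Def_EtCore

set_option autoImplicit false
universe u
open CategoryTheory CategoryTheory.Limits AlgebraicGeometry Opposite
open EtCoh

namespace Groth.Agent.S19130

/-- Let p be a prime and Y an integral scheme which is normal (every local ring is integrally closed in
its fraction field) and whose function field is algebraically closed. Then the étale cohomology of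
the constant sheaf Z/p on Y is Z/p in degree 0 and vanishes in positive degrees: H^0(Y_et, Z/p) has
exactly p elements and H^i(Y_et, Z/p) = 0 for i > 0. Moreover, for every nonempty open subscheme j :
U → Y, the unit morphism from the constant sheaf Z/p on Y_et to j_* of its restriction to U is an
isomorphism. -/
theorem result
    (p : ℕ) [Fact p.Prime] (Y : Scheme.{u}) [IsIntegral Y]
    (hnorm : ∀ y : Y, IsIntegrallyClosed (Y.presheaf.stalk y)) [IsAlgClosed Y.functionField] :
    Nat.card (EtCoh.H Y (EtCoh.const Y (ZMod p)) 0) = p ∧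
      (∀ i : ℕ, 0 < i → Subsingleton (EtCoh.H Y (EtCoh.const Y (ZMod p)) i)) ∧
      ∀ U : Y.Opens, (U : Set Y).Nonempty →
        IsIso ((EtCoh.pullPushAdj U.ι).unit.app (EtCoh.const Y (ZMod p))) := by
  haveI : IsSepClosed Y.functionField := inferInstance
  have hS := fun y => Groth.Agent.S0090.result Y hnorm y
  haveI := Groth.Agent.EtLC12.EtZarCompare.zarCont Y
  refine ⟨?_, fun i hi => Groth.Agent.EtTorLib.subsingleton_H_const (ZMod p) hS i hi, fun U hU =>
    Groth.Agent.S0627.result Y hnorm U hU (ZMod p)⟩
  haveI : PreconnectedSpace (EtCoh.top Y).left := inferInstanceAs (PreconnectedSpace Y)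
  have hb : Function.Bijective (Groth.Agent.EtTorLib.constSect (ZMod p) (EtCoh.top Y)) := by
    refine ⟨fun a b hab => ?_, Groth.Agent.EtTorLib.constSect_surjective (ZMod p) (EtCoh.top Y)⟩
    obtain ⟨Ω, _, _, ξ, z, -⟩ := Groth.Agent.EtFound.exists_algClosed_point (EtCoh.top Y) (genericPoint Y)
    exact (Groth.Agent.EtTorLib.constSect_germ_bijective (ZMod p) (EtCoh.top Y) z).1
      (congrArg ((Scheme.pointSmallEtale ξ).toPresheafFiber _ z (EtCoh.const Y (ZMod p)).obj) hab)
  rw [Nat.card_congr (Sheaf.H.equiv₀ (EtCoh.const Y (ZMod p)) (EtCore.topIsTerminal Y)).toEquiv,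
    ← Nat.card_congr (Equiv.ofBijective _ hb), Nat.card_congr Equiv.ulift, Nat.card_zmod]

end Groth.Agent.S19130
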