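import Groth.Statements.S19131
import Groth.Agent.PervTLib.QuotientT

set_option autoImplicit false
set_option backward.isDefEq.respectTransparency false
universe v u v' u'
open CategoryTheory CategoryTheory.Limits CategoryTheory.Pretriangulated CategoryTheory.Triangulated
open PervT

namespace Groth.Agent.S19131

/-- Let C be a triangulated category (octahedron axiom included) carrying a bounded t-structure t (every
object is ≥ a and ≤ b for some integers a, b), and let D be a strictly full triangulated subcategory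
of C (a property of objects containing zero, stable under shifts, extensions and isomorphisms) such
that (1) for X in D and every integer n the n-th cohomology object of X for t, realised as τ^{≥ n}
τ^{≤ n} X, lies in D, and (2) the objects of D in the heart of t are closed under subobjects and
quotients in the heart: for every distinguished triangle X → Y → Z → X[1] whose three vertices lie
in the heart, if Y is in D then so are X and Z. Let q : C ⥤ E be a triangulated functor to a
pretriangulated category E which exhibits E as the localization of C at the class of morphisms whose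
cone lies in D (the Verdier quotient of C by D). Then E carries exactly one t-structure for which q
is t-exact (q sends objects ≤ n to objects ≤ n and objects ≥ n to objects ≥ n), and for this
t-structure an object of E is ≤ n, respectively ≥ n, if and only if it is isomorphic to q X for some
X ≤ n, respectively X ≥ n, in C. (The source also identifies the heart of this t-structure with the
quotient of the heart of t by its intersection with D; that identification is not asserted here.) -/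
theorem result
    {C : Type u} [Category.{v} C] [Preadditive C] [HasZeroObject C] [HasShift C ℤ]
    [∀ n : ℤ, (shiftFunctor C n).Additive] [Pretriangulated C] [IsTriangulated C]
    (t : TStructure C) (hb : ∀ X : C, t.bounded X)
    (D : ObjectProperty C) [D.IsTriangulated] [D.IsClosedUnderIsomorphisms]
    (h1 : ∀ X : C, D X → ∀ n : ℤ, D ((t.truncGELE n n).obj X))
    (h2 : ∀ (X Y Z : C) (f : X ⟶ Y) (g : Y ⟶ Z) (h : Z ⟶ X⟦(1 : ℤ)⟧),
      Triangle.mk f g h ∈ distTriang C → t.heart X → t.heart Y → t.heart Z → D Y → D X ∧ D Z)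
    {E : Type u'} [Category.{v'} E] [Preadditive E] [HasZeroObject E] [HasShift E ℤ]
    [∀ n : ℤ, (shiftFunctor E n).Additive] [Pretriangulated E]
    (q : C ⥤ E) [q.CommShift ℤ] [q.IsTriangulated] [q.IsLocalization D.trW] :
    ∃ t' : TStructure E,
      (∀ (X : C) (n : ℤ), t.IsLE X n → t'.IsLE (q.obj X) n) ∧
      (∀ (X : C) (n : ℤ), t.IsGE X n → t'.IsGE (q.obj X) n) ∧
      (∀ (Y : E) (n : ℤ), t'.IsLE Y n ↔ ∃ X : C, t.IsLE X n ∧ Nonempty (q.obj X ≅ Y)) ∧
      (∀ (Y : E) (n : ℤ), t'.IsGE Y n ↔ ∃ X : C, t.IsGE X n ∧ Nonempty (q.obj X ≅ Y)) ∧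
      ∀ t'' : TStructure E,
        (∀ (X : C) (n : ℤ), t.IsLE X n → t''.IsLE (q.obj X) n) →
        (∀ (X : C) (n : ℤ), t.IsGE X n → t''.IsGE (q.obj X) n) → t'' = t' := by
  haveI := Localization.essSurj q D.trW
  let le' : ℤ → ObjectProperty E := fun n Y => ∃ X : C, t.IsLE X n ∧ Nonempty (q.obj X ≅ Y)
  let ge' : ℤ → ObjectProperty E := fun n Y => ∃ X : C, t.IsGE X n ∧ Nonempty (q.obj X ≅ Y)
  have orth : ∀ ⦃A B : E⦄ (f : A ⟶ B), le' 0 A → ge' 1 B → f = 0 := by
    rintro A B f ⟨X, hX, ⟨e⟩⟩ ⟨Y, hY, ⟨e'⟩⟩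
    suffices h : ∀ g : q.obj X ⟶ q.obj Y, g = 0 by
      have := h (e.hom ≫ f ≫ e'.inv)
      rw [← cancel_epi e.hom, ← cancel_mono e'.inv]
      simpa using this
    intro g
    obtain ⟨φ, rfl⟩ := Localization.exists_rightFraction q D.trW g
    obtain ⟨Z, a, b, hT, hZ⟩ := (ObjectProperty.trW_iff D φ.s).1 φ.hs
    have hmem : D ((t.truncGE 1).obj φ.X') :=
      Groth.Agent.PervTLib.mem_truncGE_one t D hb h1 h2 _ φ.s _ (inv_rot_of_distTriang _ hT) (D.le_shift (-1) _ hZ)
    have hι : D.trW ((t.truncLEι 0).app φ.X') :=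
      (ObjectProperty.trW_iff D _).2 ⟨_, _, _, t.triangleLEGE_distinguished 0 1 rfl φ.X', hmem⟩
    haveI : IsIso (q.map ((t.truncLEι 0).app φ.X')) := Localization.inverts q D.trW _ hι
    have h0 : (t.truncLEι 0).app φ.X' ≫ φ.f = 0 :=
      t.zero_of_isLE_of_isGE _ 0 1 (by omega) inferInstance hY
    haveI := Localization.inverts q D.trW _ φ.hs
    rw [← cancel_epi (q.map φ.s), φ.map_s_comp_map, comp_zero,
      ← cancel_epi (q.map ((t.truncLEι 0).app φ.X')), ← q.map_comp, h0, q.map_zero, comp_zero]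
  let t' : TStructure E :=
    { le := le'
      ge := ge'
      le_isClosedUnderIsomorphisms := fun n => ⟨fun i ⟨X, h, ⟨e⟩⟩ => ⟨X, h, ⟨e ≪≫ i⟩⟩⟩
      ge_isClosedUnderIsomorphisms := fun n => ⟨fun i ⟨X, h, ⟨e⟩⟩ => ⟨X, h, ⟨e ≪≫ i⟩⟩⟩
      le_shift := fun n a n' h Y ⟨X, hX, ⟨e⟩⟩ =>
        ⟨X⟦a⟧, t.isLE_shift X n a n' h, ⟨(q.commShiftIso a).app X ≪≫ (shiftFunctor E a).mapIso e⟩⟩
      ge_shift := fun n a n' h Y ⟨X, hX, ⟨e⟩⟩ =>
        ⟨X⟦a⟧, t.isGE_shift X n a n' h, ⟨(q.commShiftIso a).app X ≪≫ (shiftFunctor E a).mapIso e⟩⟩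
      zero' := fun A B f hA hB => orth f hA hB
      le_zero_le := fun Y ⟨X, hX, he⟩ => ⟨X, t.isLE_of_le X 0 1, he⟩
      ge_one_le := fun Y ⟨X, hX, he⟩ => ⟨X, t.isGE_of_ge X 0 1, he⟩
      exists_triangle_zero_one := fun A => by
        refine ⟨q.obj ((t.truncLE 0).obj (q.objPreimage A)), q.obj ((t.truncGE 1).obj (q.objPreimage A)),
          ⟨_, inferInstance, ⟨Iso.refl _⟩⟩, ⟨_, inferInstance, ⟨Iso.refl _⟩⟩,
          q.map ((t.truncLEι 0).app _) ≫ (q.objObjPreimageIso A).hom,
          (q.objObjPreimageIso A).inv ≫ q.map ((t.truncGEπ 1).app _),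
          q.map ((t.truncGEδLE 0 1 rfl).app _) ≫ (q.commShiftIso (1 : ℤ)).hom.app _, ?_⟩
        refine isomorphic_distinguished _
          (q.map_distinguished _ (t.triangleLEGE_distinguished 0 1 rfl (q.objPreimage A))) _
          (Triangle.isoMk _ _ (Iso.refl _) (q.objObjPreimageIso A).symm (Iso.refl _) ?_ ?_ ?_)
        · exact (Category.assoc _ _ _).trans ((congrArg (q.map _ ≫ ·) (Iso.hom_inv_id _)).trans ((Category.comp_id _).trans (Category.id_comp _).symm))
        · exact (Category.comp_id _).trans rfl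
        · exact (congrArg (_ ≫ ·) (CategoryTheory.Functor.map_id _ _)).trans ((Category.comp_id _).trans (Category.id_comp _).symm) }
  refine ⟨t', fun X n h => ⟨X, h, ⟨Iso.refl _⟩⟩, fun X n h => ⟨X, h, ⟨Iso.refl _⟩⟩,
    fun Y n => ⟨fun h => h.le, fun h => ⟨h⟩⟩, fun Y n => ⟨fun h => h.ge, fun h => ⟨h⟩⟩,
    fun t'' hle hge => ?_⟩
  have hle' : ∀ (Y : E) (n : ℤ), t'.IsLE Y n → t''.IsLE Y n := fun Y n ⟨⟨X, hX, ⟨e⟩⟩⟩ =>
    haveI := hle X n hX; t''.isLE_of_iso e n
  have hge' : ∀ (Y : E) (n : ℤ), t'.IsGE Y n → t''.IsGE Y n := fun Y n ⟨⟨X, hX, ⟨e⟩⟩⟩ =>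
    haveI := hge X n hX; t''.isGE_of_iso e n
  have e₁ : t''.le = t'.le := by
    funext n Y
    refine propext ⟨fun h => ?_, fun h => (hle' Y n ⟨h⟩).le⟩
    haveI : t''.IsLE Y n := ⟨h⟩
    exact ((t'.isLE_iff_orthogonal n (n + 1) rfl Y).2 fun Z f hZ =>
      haveI := hge' Z (n + 1) hZ; t''.zero f n (n + 1) (by omega)).le
  have e₂ : t''.ge = t'.ge := by
    funext n Y
    refine propext ⟨fun h => ?_, fun h => (hge' Y n ⟨h⟩).ge⟩
    haveI : t''.IsGE Y n := ⟨h⟩
    exact ((t'.isGE_iff_orthogonal (n - 1) n (by omega) Y).2 fun Z f hZ =>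
      haveI := hle' Z (n - 1) hZ; t''.zero f (n - 1) n (by omega)).ge
  cases t''
  simp only at e₁ e₂
  subst e₁ e₂
  rfl

end Groth.Agent.S19131
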