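import Groth.Statements.S19135
import Groth.Agent.S1812
import Groth.Agent.S0299
import Groth.Agent.PerfGen7.LocalDualityRows

set_option autoImplicit false
universe u
open CategoryTheory
attribute [local instance] HasDerivedCategory.standard
open Dual

namespace Groth.Agent.S19135

set_option backward.isDefEq.respectTransparency false
set_option linter.style.haveILetI false


/-- In the case of the spectrum of the base local ring and its closed point, let A be a Noetherian local
ring with maximal ideal m and ω a normalized dualizing complex over A (Hom(k, ω[i]) = 0 in D(A) for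
i ≠ 0), assume the total right derived functor RΓ_m of the m-power-torsion functor exists on D(A),
and let M be an object of D(A) which is bounded with finitely generated cohomology modules. Then
RHom(M, ω) is concentrated in degrees ≥ 0 (Hom(M, ω[i]) = 0 for all i < 0) if and only if RΓ_m M is
concentrated in degrees ≤ 0 (H^i(RΓ_m M) = 0 for all i > 0); and RHom(M, ω) is concentrated in
degrees ≤ 0 if and only if RΓ_m M is concentrated in degrees ≥ 0. In particular M is perverse
coherent (RHom(M, ω) concentrated in degree 0) exactly when its local cohomology at m is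
concentrated in degree 0. (The published statement of the two halves, read in cohomological
indexing, has the inequalities on the local cohomology side exchanged: over a field k with ω = k,
the complex k[1] has RHom(k[1], ω) = k[−1] concentrated in degrees ≥ 0 while its local cohomology
k[1] is concentrated in degree −1, not in degrees ≥ 0. This statement gives the form that local
duality yields, which is the one compatible with the description of the perverse t-structure by
support conditions.) -/
theorem result
    (A : Type u) [CommRing A] [IsLocalRing A] [IsNoetherianRing A]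
    (ω : Dual.D A) (hω : Dual.IsDualizing A ω) (hn : Dual.IsNormalized A ω)
    [DRing.HasRgammaI (IsLocalRing.maximalIdeal A)] (M : Dual.D A)
    (hfin : ∀ i : ℤ, Module.Finite A (Dual.HD A M i))
    (hbd : ∃ a b : ℤ, ∀ i : ℤ, (i < a ∨ b < i) → Subsingleton (Dual.HD A M i)) :
    ((∀ i : ℤ, i < 0 → Subsingleton (M ⟶ ω⟦i⟧)) ↔
      (∀ i : ℤ, 0 < i → Subsingleton (Dual.HD A ((DRing.RgammaI (IsLocalRing.maximalIdeal A)).obj M) i))) ∧
    ((∀ i : ℤ, 0 < i → Subsingleton (M ⟶ ω⟦i⟧)) ↔
      (∀ i : ℤ, i < 0 → Subsingleton (Dual.HD A ((DRing.RgammaI (IsLocalRing.maximalIdeal A)).obj M) i))) := by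
  obtain ⟨a, b, hab⟩ := hbd
  obtain ⟨E, fk, hfk⟩ : ∃ (E : ModuleCat.{u} A) (fk : IsLocalRing.ResidueField A →ₗ[A] E),
      InjHull.IsInjectiveHull fk := by
    obtain ⟨E, hg, hm, fk, hfk⟩ := Groth.Agent.S0299.result A (IsLocalRing.ResidueField A)
    exact ⟨ModuleCat.of A E, fk, hfk⟩
  haveI : M.IsGE a := (DerivedCategory.isGE_iff M a).2 fun i hi => by
    haveI := hab i (Or.inl hi)
    exact ModuleCat.isZero_of_subsingleton _
  have key : ∀ i : ℤ, Subsingleton (Dual.HD A ((DRing.RgammaI (IsLocalRing.maximalIdeal A)).obj M) i) ↔
      Subsingleton (M ⟶ ω⟦(-i)⟧) := fun i => by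
    obtain ⟨g⟩ := Groth.Agent.S1812.result A (IsLocalRing.maximalIdeal A) (IsNoetherian.noetherian _) M i
    obtain ⟨d⟩ := Groth.Agent.PerfGen7.LocalDualityD.exists_HDI_equiv hω hn hfk M a hfin i
    refine ⟨fun h => ?_, fun h => (g.trans d).toEquiv.subsingleton⟩
    haveI : Subsingleton ((M ⟶ ω⟦(-i)⟧) →ₗ[A] E) := (g.trans d).toEquiv.symm.subsingleton
    refine subsingleton_of_forall_eq 0 fun x => by_contra fun hx => ?_
    let S := Submodule.span A ({x} : Set (M ⟶ ω⟦(-i)⟧))
    let r := Submodule.liftQ (Ideal.torsionOf A (M ⟶ ω⟦(-i)⟧) x)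
      (fk.comp (Algebra.linearMap A (IsLocalRing.ResidueField A))) (fun c hc => by
        have hcm : c ∈ IsLocalRing.maximalIdeal A :=
          IsLocalRing.le_maximalIdeal (fun hT => hx ((Ideal.torsionOf_eq_top_iff _ _).1 hT)) hc
        show fk (algebraMap A _ c) = 0
        rw [show algebraMap A (IsLocalRing.ResidueField A) c = 0 from
          Ideal.Quotient.eq_zero_iff_mem.2 hcm, map_zero])
    let ψ := r.comp (Ideal.quotTorsionOfEquivSpanSingleton A (M ⟶ ω⟦(-i)⟧) x).symm.toLinearMap
    haveI : Module.Injective A E := hfk.isInjective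
    obtain ⟨φ, hφ⟩ := Module.Baer.extension_property (Module.Baer.of_injective ‹_›) S.subtype S.injective_subtype ψ
    have h0 : φ x = fk 1 := by
      refine (LinearMap.congr_fun hφ ⟨x, Submodule.mem_span_singleton_self x⟩).trans ?_
      have he : (Ideal.quotTorsionOfEquivSpanSingleton A (M ⟶ ω⟦(-i)⟧) x).symm
          ⟨x, Submodule.mem_span_singleton_self x⟩ = Submodule.Quotient.mk 1 := by
        rw [LinearEquiv.symm_apply_eq]
        exact Subtype.ext (one_smul A x).symm
      refine (congrArg r he).trans ?_
      show fk (algebraMap A _ 1) = fk 1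
      rw [map_one]
    rw [Subsingleton.elim φ 0] at h0
    exact one_ne_zero (hfk.injective (h0.symm.trans (map_zero fk).symm))
  refine ⟨⟨fun h i hi => (key i).2 (h (-i) (by omega)), fun h i hi => ?_⟩,
    ⟨fun h i hi => (key i).2 (h (-i) (by omega)), fun h i hi => ?_⟩⟩
  · simpa using (key (-i)).1 (h (-i) (by omega))
  · simpa using (key (-i)).1 (h (-i) (by omega))

end Groth.Agent.S19135
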