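import Groth.Statements.S19139
import Groth.Agent.ThetaSLib.ThetaLift
import Groth.Agent.H23.LiftSqPerm
-- import your own Groth.Agent.* helpers here

set_option autoImplicit false
universe u
open ThetaS

namespace Groth.Agent.S19139

open CategoryTheory AlgebraicGeometry in
/-- Let S be a scheme, X and Y algebraic stacks over (Sch/S) for the fppf topology, and f : X ⟶ Y a
functor over (Sch/S) that is affine, i.e. representable by algebraic spaces with affine structure
morphisms. If Y is Θ-reductive over S with respect to discrete valuation rings — for every discrete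
valuation ring R with a uniformizer and every Spec R ⟶ S, every functor over (Sch/S) from the
punctured stack Θ_R minus its closed point to Y extends to Θ_R = [A¹_R/G_m], uniquely up to a unique
2-isomorphism — then X is Θ-reductive over S with respect to discrete valuation rings as well. (The
published lemma is stated for stacks over a base algebraic stack and for an arbitrary class of
valuation rings; here the base is a scheme, the class is that of discrete valuation rings, and the
stacks are taken algebraic.) -/
theorem result {S : Scheme.{u}} (𝒳 𝒴 : AlgSt.Cat S) (f : 𝒳 ⥤ᵇ 𝒴)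
    (h𝒳 : AlgSt.IsAlgStack Scheme.fppfPrecoverage 𝒳) (h𝒴 : AlgSt.IsAlgStack Scheme.fppfPrecoverage 𝒴)
    (hf : AlgSt.RepByAlgSpWith (AlgSp.RepWith @IsAffineHom) f)
    (hY : ThetaS.IsThetaComplete Scheme.fppfPrecoverage 𝒴) :
    ThetaS.IsThetaComplete Scheme.fppfPrecoverage 𝒳 :=
  fun R _ _ _ ϖ hϖ h => by
    have e : BasedFunctor.comp f (FibCat.toSelf 𝒴) = FibCat.toSelf 𝒳 := by
      have aux : ∀ {F F' : 𝒳 ⥤ᵇ FibCat.selfOver (Over S)}, F.toFunctor = F'.toFunctor → F = F' := by
        rintro ⟨F, _⟩ ⟨F', _⟩ rfl; rfl
      exact aux f.w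
    rw [← e]
    exact Groth.Agent.H23.liftsUniquely_comp
      (Groth.Agent.ThetaSLib.theta_liftsUniquely R h f h𝒳.isStack.1 h𝒴.isStack.1 hf ϖ hϖ) (hY R ϖ hϖ h)

end Groth.Agent.S19139
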