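import Groth.Statements.S1914
import Groth.Agent.SamuelKoszul.TorKoszul
-- import your own Groth.Agent.* helpers here

set_option autoImplicit false
set_option backward.isDefEq.respectTransparency false
set_option backward.isDefEq.respectTransparency.types false
set_option linter.style.haveILetI false
set_option maxHeartbeats 1000000
universe u
open CategoryTheory
attribute [local instance] HasDerivedCategory.standard
open IntMult

namespace Groth.Agent.S1914
open Groth.Agent

/-- Let A be a Noetherian local ring, I = (g₁, …, g_c) an ideal generated by a regular sequence and M a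
finite A-module with Supp(M/IM) of dimension ≤ 0. Then c! · length_A(M/I^t M)/t^c tends, as t → ∞,
to Σ_i (−1)^i length_A Tor_i^A(A/I, M); that is, e_I(M, c) equals this alternating sum. -/
theorem result (A : Type u) [CommRing A] [IsNoetherianRing A] [IsLocalRing A] (c : ℕ) (g : Fin c → A) (hreg : RingTheory.Sequence.IsRegular A (List.ofFn g)) (M : Type u) [AddCommGroup M] [Module A M] [Module.Finite A M] (h0 : Module.supportDim A (M ⧸ (Ideal.span (Set.range g) • (⊤ : Submodule A M))) ≤ 0) : Filter.Tendsto (fun t : ℕ => (c.factorial : ℝ) * ((Module.length A (M ⧸ (Ideal.span (Set.range g) ^ t • (⊤ : Submodule A M)))).toNat : ℝ) / (t : ℝ) ^ c) Filter.atTop (nhds (IntMult.chi A (A ⧸ Ideal.span (Set.range g)) M : ℝ)) := by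
  have hfl : IsFiniteLength A (M ⧸ (Ideal.ofList (List.ofFn g) • ⊤ : Submodule A M)) := by
    rw [Groth.Agent.H1KoszulEuler.span_ofFn]
    refine Module.length_ne_top_iff.1 (Groth.Agent.HSLib.length_ne_top_of_forall_isMaximal fun p hp => ?_)
    have hm : IsLocalRing.closedPoint A ∈ Module.support A (M ⧸ (Ideal.span (Set.range g) • ⊤ : Submodule A M)) :=
      Module.mem_support_mono (IsLocalRing.le_maximalIdeal p.isPrime.ne_top) hp
    have hmax := Order.krullDim_nonpos_iff_forall_isMax.1 h0 ⟨p, hp⟩
    have := hmax (b := ⟨IsLocalRing.closedPoint A, hm⟩) (IsLocalRing.le_maximalIdeal p.isPrime.ne_top)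
    have heq : p = IsLocalRing.closedPoint A :=
      le_antisymm (IsLocalRing.le_maximalIdeal p.isPrime.ne_top) this
    rw [heq]
    exact IsLocalRing.maximalIdeal.isMaximal A
  have h := Groth.Agent.SamuelKoszul.tendsto_samuel M (List.ofFn g) hfl
  rw [← Groth.Agent.SamuelKoszul.chi_eq (List.ofFn g) hreg.toIsWeaklyRegular M] at h
  rw [List.length_ofFn, Groth.Agent.H1KoszulEuler.span_ofFn] at h
  exact h

end Groth.Agent.S1914
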