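import Groth.Statements.S19145
import Groth.Agent.GrpFieldLib.TwIrred

set_option autoImplicit false
open CategoryTheory MonoidalCategory CartesianMonoidalCategory MonObj GrpObj AlgebraicGeometry
universe u
open TwC

namespace Groth.Agent.S19145

/-- Let S be an irreducible scheme whose local rings are all geometrically unibranch, η its generic
point, and X a quasi-isotrivial twisted constant S-scheme (etale-locally on S isomorphic to a
constant scheme). Then X is the disjoint union, over the points λ of the generic fibre X_η, of the
closures X(λ) of λ: every point of X lies in the closure of exactly one such λ, each X(λ) is open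
and closed in X and, as an open subscheme, is a finite etale cover of S (finite, etale and
surjective); and restricting a section of X ⟶ S to the generic point is a bijection from the
sections of X over S onto the sections of X_η over η. -/
theorem result {S : Scheme.{u}} [IrreducibleSpace S]
    (hS : ∀ s : S, CAlg2.IsGeomUnibranch (S.presheaf.stalk s))
    (X : Over S) (hX : TwC.IsTwConst TwC.Topology.etale X) :
    (∀ x : X.left, ∃! l : X.left, X.hom.base l = genericPoint S ∧ x ∈ closure ({l} : Set X.left)) ∧
    (∀ l : X.left, X.hom.base l = genericPoint S →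
      ∃ U : X.left.Opens, (U : Set X.left) = closure ({l} : Set X.left) ∧ IsClosed (U : Set X.left) ∧
        IsFinite (U.ι ≫ X.hom) ∧ Etale (U.ι ≫ X.hom) ∧ Surjective (U.ι ≫ X.hom)) ∧
    (∀ σ₁ σ₂ : S ⟶ X.left, σ₁ ≫ X.hom = 𝟙 S → σ₂ ≫ X.hom = 𝟙 S →
      S.fromSpecResidueField (genericPoint S) ≫ σ₁ = S.fromSpecResidueField (genericPoint S) ≫ σ₂ → σ₁ = σ₂) ∧
    (∀ τ : Spec (S.residueField (genericPoint S)) ⟶ X.left, τ ≫ X.hom = S.fromSpecResidueField (genericPoint S) →
      ∃ σ : S ⟶ X.left, σ ≫ X.hom = 𝟙 S ∧ S.fromSpecResidueField (genericPoint S) ≫ σ = τ) := by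
  haveI : IsPreimmersion (S.fromSpecResidueField (genericPoint S)) := inferInstance
  have hj := GrpFieldLib.TwSplit.fromSpecResidueField_base (genericPoint S) (IsLocalRing.closedPoint _)
  refine ⟨GrpFieldLib.TwSplit.existsUnique_generic hS hX, fun l hl => GrpFieldLib.TwSplit.exists_piece hS hX hl,
    fun σ₁ σ₂ h₁ h₂ h => ?_, fun τ hτ => ?_⟩
  · exact GrpFieldLib.TwSplit.section_eq hS hX (K := S.residueField (genericPoint S))
      (S.fromSpecResidueField (genericPoint S)) hj σ₁ σ₂ h₁ h₂ h
  · exact GrpFieldLib.TwSplit.exists_section hS hX (K := S.residueField (genericPoint S))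
      (S.fromSpecResidueField (genericPoint S)) hj τ hτ

end Groth.Agent.S19145
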