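import Groth.Statements.S19149
import Mathlib.RingTheory.Smooth.Local
import Mathlib.RingTheory.Smooth.Locus
import Mathlib.RingTheory.Etale.Kaehler
import Mathlib.RingTheory.SurjectiveOnStalks

set_option autoImplicit false
universe u
open GrpSch
open scoped TensorProduct

namespace Groth.Agent.S19149

/-- In affine form, let R be a commutative ring, A a smooth R-algebra with an augmentation ε : A → R
(the unit section of G = Spec A over S = Spec R), I = ker ε its augmentation ideal, and J ⊆ I an
ideal (defining a closed subscheme H of G through the unit section) such that (1) J is finitely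
generated, (2) J ∩ I² = I·J in A, and (3) I/(J + I²) is a finitely generated projective R-module
(finite locally free on S). Then H = Spec (A/J) is smooth over S at every point of the unit section:
for every prime P of A/J containing the image of I, the localization (A/J)_P is formally smooth over
R. (The source states this for G an affine smooth group scheme over a scheme S and H a closed
subgroup, concluding that the neutral component H° is a smooth open subgroup scheme; that conclusion
is smoothness of H along the unit section, which is the statement here in affine form; the group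
structure is not used.) -/
theorem result (R A : Type u) [CommRing R] [CommRing A] [Algebra R A]
    [Algebra.Smooth R A] (ε : A →ₐ[R] R) (J : Ideal A) (hJI : J ≤ RingHom.ker ε)
    (h1 : J.FG)
    (h2 : J ⊓ RingHom.ker ε ^ 2 = RingHom.ker ε * J)
    (h3 : Module.Finite R (↥(RingHom.ker ε) ⧸ Submodule.comap (RingHom.ker ε).subtype (J ⊔ RingHom.ker ε ^ 2)) ∧
      Module.Projective R (↥(RingHom.ker ε) ⧸ Submodule.comap (RingHom.ker ε).subtype (J ⊔ RingHom.ker ε ^ 2)))
    (P : Ideal (A ⧸ J)) [P.IsPrime] (hP : (RingHom.ker ε).map (Ideal.Quotient.mk J) ≤ P) :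
    Algebra.IsSmoothAt R P := by
  classical
  let I : Ideal A := RingHom.ker ε
  let 𝔭 : Ideal A := P.comap (Ideal.Quotient.mk J)
  have : 𝔭.IsPrime := Ideal.IsPrime.comap _
  have hI𝔭 : I ≤ 𝔭 := Ideal.map_le_iff_le_comap.mp hP
  let Ap := Localization.AtPrime 𝔭
  let S := Localization.AtPrime P
  let g : Ap →+* S := Localization.localRingHom 𝔭 P (Ideal.Quotient.mk J) rfl
  let _ : Algebra Ap S := g.toAlgebra
  have hg : ∀ a : A, g (algebraMap A Ap a) = algebraMap (A ⧸ J) S (Ideal.Quotient.mk J a) :=
    Localization.localRingHom_to_map _ _ _ _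
  have : IsScalarTower R Ap S := IsScalarTower.of_algebraMap_eq fun r => by
    show algebraMap R S r = g (algebraMap R Ap r)
    rw [IsScalarTower.algebraMap_apply R A Ap, hg, IsScalarTower.algebraMap_apply R (A ⧸ J) S]
    rfl
  have hsurj : Function.Surjective (algebraMap Ap S) :=
    (RingHom.surjectiveOnStalks_of_surjective Ideal.Quotient.mk_surjective).localRingHom_surjective _ _ rfl
  have hker : RingHom.ker (algebraMap Ap S) = J.map (algebraMap A Ap) := by
    refine le_antisymm (fun y hy => ?_) (Ideal.map_le_iff_le_comap.mpr fun j hj => ?_)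
    · obtain ⟨a, s, rfl⟩ := IsLocalization.exists_mk'_eq 𝔭.primeCompl y
      have h0 : algebraMap (A ⧸ J) S (Ideal.Quotient.mk J a) = 0 := by
        have h := congrArg g (IsLocalization.mk'_spec Ap a s)
        rw [map_mul, hg, hg] at h
        rw [← h, show g (IsLocalization.mk' Ap a s) = 0 from hy, zero_mul]
      obtain ⟨⟨m, hm⟩, hm'⟩ := (IsLocalization.map_eq_zero_iff P.primeCompl S _).mp h0
      obtain ⟨b, rfl⟩ := Ideal.Quotient.mk_surjective m
      have hb : b * a ∈ J := by rwa [← Ideal.Quotient.eq_zero_iff_mem, map_mul]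
      have hu : IsUnit (algebraMap A Ap b) := IsLocalization.map_units Ap (⟨b, hm⟩ : 𝔭.primeCompl)
      have he : algebraMap A Ap b * IsLocalization.mk' Ap a s = IsLocalization.mk' Ap (b * a) s :=
        IsLocalization.mul_mk'_eq_mk'_of_mul _ _ _
      have h2 : IsLocalization.mk' Ap (b * a) s ∈ J.map (algebraMap A Ap) := by
        rw [IsLocalization.mk'_eq_mul_mk'_one]
        exact Ideal.mul_mem_right _ _ (Ideal.mem_map_of_mem _ hb)
      rw [← he] at h2
      exact (Ideal.unit_mul_mem_iff_mem _ hu).mp h2
    · show g (algebraMap A Ap j) = 0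
      rw [hg, Ideal.Quotient.eq_zero_iff_mem.mpr hj, map_zero]
  have : Algebra.FormallySmooth R Ap :=
    have : Algebra.FormallySmooth A Ap := Algebra.FormallySmooth.of_isLocalization 𝔭.primeCompl
    Algebra.FormallySmooth.comp R A Ap
  have : Module.Finite A Ω[A⁄R] := inferInstance
  have : Module.Finite Ap Ω[Ap⁄R] := Module.Finite.of_isLocalizedModule 𝔭.primeCompl (KaehlerDifferential.map R R A Ap)
  have : Module.Projective Ap Ω[Ap⁄R] := inferInstance
  have : Module.Free Ap Ω[Ap⁄R] := Module.free_of_flat_of_isLocalRing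
  refine (Algebra.FormallySmooth.iff_injective_cotangentComplexBaseChange_residueField (S := S) Ap hsurj
    (hker ▸ h1.map _)).mpr ?_
  let κ := IsLocalRing.ResidueField S
  let M := κ ⊗[Ap] RingHom.ker (algebraMap Ap S)
  have hlg : IsLocalHom g := Localization.isLocalHom_localRingHom _ _ _ rfl
  have hkill : ∀ (y : Ap), y ∈ IsLocalRing.maximalIdeal Ap → ∀ m : M, y • m = 0 := by
    intro y hy m
    induction m using TensorProduct.induction_on with
    | zero => simp
    | tmul c z =>
      rw [TensorProduct.smul_tmul', Algebra.smul_def, IsScalarTower.algebraMap_apply Ap S κ]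
      have : algebraMap S κ (algebraMap Ap S y) = 0 := by
        rw [IsLocalRing.ResidueField.algebraMap_eq, IsLocalRing.residue_eq_zero_iff]
        exact map_nonunit g y hy
      rw [this, zero_mul, TensorProduct.zero_tmul]
    | add x z hx hz => rw [smul_add, hx, hz, add_zero]
  have : IsScalarTower A Ap S := IsScalarTower.of_algebraMap_eq fun a => by
    show algebraMap A S a = g (algebraMap A Ap a)
    rw [hg, IsScalarTower.algebraMap_apply A (A ⧸ J) S]
    rfl
  have : IsScalarTower A Ap κ := IsScalarTower.of_algebraMap_eq fun a => by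
    rw [IsScalarTower.algebraMap_apply A S κ, IsScalarTower.algebraMap_apply A Ap S,
      ← IsScalarTower.algebraMap_apply Ap S κ]
  have : IsScalarTower A Ap M := inferInstance
  have : IsScalarTower R A M := inferInstance
  have hkillA : ∀ a ∈ I, ∀ m : M, a • m = 0 := fun a ha m => by
    rw [← algebraMap_smul Ap a m]
    refine hkill _ ?_ m
    rw [← Localization.AtPrime.map_eq_maximalIdeal]
    exact Ideal.mem_map_of_mem _ (hI𝔭 ha)
  -- the tautological map on J
  let φ : J →ₗ[A] M :=
    { toFun := fun j => (1 : κ) ⊗ₜ ⟨algebraMap A Ap j, hker ▸ Ideal.mem_map_of_mem _ j.2⟩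
      map_add' := fun x y => by rw [← TensorProduct.tmul_add]; congr 1; exact Subtype.ext (map_add _ _ _)
      map_smul' := fun a x => by
        rw [RingHom.id_apply, ← algebraMap_smul Ap a ((1 : κ) ⊗ₜ[Ap] (_ : RingHom.ker (algebraMap Ap S))),
          ← TensorProduct.tmul_smul]
        congr 1
        exact Subtype.ext (map_mul (algebraMap A Ap) a (x : A)) }
  have hφ : ∀ x : J, (x : A) ∈ I * J → φ x = 0 := by
    have hle : I * J ≤ Submodule.map J.subtype (LinearMap.ker φ) := Ideal.mul_le.mpr fun i hi j hj => by
      refine ⟨i • ⟨j, hj⟩, ?_, rfl⟩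
      rw [SetLike.mem_coe, LinearMap.mem_ker, map_smul, hkillA i hi]
    intro x hx
    obtain ⟨y, hy, hyx⟩ := hle hx
    rw [← Subtype.ext hyx]
    exact hy
  -- extend it to J + I², killing I²
  let ψ : ↥(J ⊔ I ^ 2) →ₗ[A] M :=
    ((Submodule.comap J.subtype J ⊓ Submodule.comap J.subtype (I ^ 2)).liftQ φ fun x hx => hφ x (by
        rw [← h2]; exact ⟨x.2, hx.2⟩)) ∘ₗ
      (LinearMap.quotientInfEquivSupQuotient J (I ^ 2)).symm.toLinearMap ∘ₗ Submodule.mkQ _
  have hψJ : ∀ (j : J), ψ ⟨j, Submodule.mem_sup_left j.2⟩ = φ j := fun j => by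
    simp only [ψ, LinearMap.comp_apply, LinearEquiv.coe_coe, Submodule.mkQ_apply]
    rw [LinearMap.quotientInfEquivSupQuotient_symm_apply_left J (I ^ 2) _ j.2]
    rfl
  have hψI : ∀ (x : ↥(J ⊔ I ^ 2)), (x : A) ∈ I ^ 2 → ψ x = 0 := fun x hx => by
    simp only [ψ, LinearMap.comp_apply, LinearEquiv.coe_coe]
    rw [show Submodule.mkQ _ x = 0 from (Submodule.Quotient.mk_eq_zero _).mpr hx, map_zero, map_zero]
  -- a retraction of the conormal module of the unit section
  let N := Submodule.comap I.subtype (J ⊔ I ^ 2)
  let q : I →ₗ[R] I ⧸ N := (Submodule.mkQ N).restrictScalars R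
  obtain ⟨hfin, hproj⟩ := h3
  have : Module.Projective R (I ⧸ N) := hproj
  obtain ⟨sec, hsec⟩ := Module.projective_lifting_property q LinearMap.id (Submodule.mkQ_surjective N)
  have hmem : ∀ i : I, ((i : A) - sec (q i)) ∈ J ⊔ I ^ 2 := fun i => by
    have h := LinearMap.congr_fun hsec (q i)
    exact (Submodule.Quotient.eq N).mp h.symm
  let r : I →ₗ[R] M :=
    { toFun := fun i => ψ ⟨(i : A) - sec (q i), hmem i⟩
      map_add' := fun x y => by
        rw [← map_add]; congr 1; apply Subtype.ext
        simp only [map_add, Submodule.coe_add]; abel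
      map_smul' := fun c x => by
        rw [RingHom.id_apply, ← algebraMap_smul A c (ψ _), ← map_smul]; congr 1; apply Subtype.ext
        simp only [map_smul, Submodule.coe_smul_of_tower, SetLike.val_smul_of_tower]
        rw [smul_sub, algebraMap_smul, algebraMap_smul] }
  have hr : ∀ i : I, (h : (i : A) ∈ J ⊔ I ^ 2) → r i = ψ ⟨i, h⟩ := fun i h => by
    show ψ _ = ψ _
    congr 1; apply Subtype.ext
    show (i : A) - sec (q i) = i
    rw [show q i = 0 from (Submodule.Quotient.mk_eq_zero _).mpr h, map_zero]
    simp
  let red : A →ₗ[R] I :=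
    (LinearMap.id - (Algebra.linearMap R A).comp ε.toLinearMap).codRestrict (I.restrictScalars R) fun a => by
      simp [I, RingHom.mem_ker]
  have hred : ∀ a, (red a : A) = a - algebraMap R A (ε a) := fun a => rfl
  have hsm : ∀ (a : A) (m : M), a • m = ε a • m := fun a m => by
    rw [← algebraMap_smul A (ε a) m, ← sub_eq_zero, ← sub_smul (M := M)]
    exact hkillA _ (by rw [← hred]; exact (red a).2) m
  let D : Derivation R A M :=
    { toLinearMap := r ∘ₗ red
      map_one_eq_zero' := by
        show r (red 1) = 0
        rw [show red 1 = 0 from Subtype.ext (by rw [hred]; simp), map_zero]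
      leibniz' := fun a b => by
        show r (red (a * b)) = a • r (red b) + b • r (red a)
        have hmul : (red a : A) * (red b : A) ∈ I ^ 2 := by
          rw [pow_two]; exact Ideal.mul_mem_mul (red a).2 (red b).2
        have e : red (a * b) = ε a • red b + ε b • red a + ⟨(red a : A) * red b, Ideal.mul_mem_left _ _ (red b).2⟩ := by
          apply Subtype.ext
          simp only [Submodule.coe_add, SetLike.val_smul_of_tower, hred, map_mul, Algebra.smul_def]
          ring
        rw [e, map_add, map_add, map_smul, map_smul, hsm a, hsm b,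
          hr ⟨(red a : A) * red b, _⟩ (Submodule.mem_sup_right hmul), hψI _ hmul, add_zero] }
  have hDJ : ∀ j : J, D j = φ j := fun j => by
    show r (red j) = φ j
    have e : red j = ⟨j, hJI j.2⟩ := Subtype.ext (by
      rw [hred, show ε (j : A) = 0 from hJI j.2, map_zero, sub_zero])
    rw [e, hr _ (Submodule.mem_sup_left j.2), hψJ]
  -- extend to the local ring
  let ρ := KaehlerDifferential.map R R A Ap
  have hunit : ∀ x : 𝔭.primeCompl, IsUnit ((algebraMap A (Module.End A M)) x) := fun x => by
    rw [Module.End.isUnit_iff]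
    have hu : IsUnit (algebraMap A Ap x) := IsLocalization.map_units Ap x
    refine Function.bijective_iff_has_inverse.mpr ⟨fun m => (hu.unit⁻¹ : Apˣ).val • m, fun m => ?_, fun m => ?_⟩ <;>
    · simp only [Module.algebraMap_end_apply]
      rw [← algebraMap_smul Ap (x : A), smul_smul]
      simp
  let L₀ : Ω[Ap⁄R] →ₗ[A] M := IsLocalizedModule.lift 𝔭.primeCompl ρ D.liftKaehlerDifferential hunit
  let L : Ω[Ap⁄R] →ₗ[Ap] M := L₀.extendScalarsOfIsLocalization 𝔭.primeCompl Ap
  have hL : ∀ a : A, L (KaehlerDifferential.D R Ap (algebraMap A Ap a)) = D a := fun a => by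
    show L₀ _ = _
    have h := LinearMap.congr_fun (IsLocalizedModule.lift_comp 𝔭.primeCompl ρ D.liftKaehlerDifferential hunit)
      (KaehlerDifferential.D R A a)
    rw [LinearMap.comp_apply, KaehlerDifferential.map_D] at h
    exact h.trans (D.liftKaehlerDifferential_comp_D a)
  have hLker : ∀ z : RingHom.ker (algebraMap Ap S), L (KaehlerDifferential.D R Ap z) = (1 : κ) ⊗ₜ z := by
    rintro ⟨y, hy⟩
    obtain ⟨⟨⟨j, hj⟩, s⟩, hs⟩ := (IsLocalization.mem_map_algebraMap_iff 𝔭.primeCompl Ap).mp (hker ▸ hy : y ∈ J.map (algebraMap A Ap))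
    have hu : IsUnit (algebraMap A Ap s) := IsLocalization.map_units Ap s
    have h1' := congrArg (fun x => L (KaehlerDifferential.D R Ap x)) hs
    simp only [Derivation.leibniz, map_add, map_smul, hL] at h1'
    have hmax : y ∈ IsLocalRing.maximalIdeal Ap := IsLocalRing.le_maximalIdeal (RingHom.ker_ne_top _) hy
    rw [hkill y hmax, zero_add, hDJ ⟨j, hj⟩] at h1'
    apply hu.smul_left_cancel.mp
    rw [h1']
    show (1 : κ) ⊗ₜ _ = _
    rw [← TensorProduct.tmul_smul]
    congr 1
    apply Subtype.ext
    show algebraMap A Ap j = algebraMap A Ap s * y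
    rw [← hs, mul_comm]
  refine Function.LeftInverse.injective (g := L.liftBaseChange κ) fun m => ?_
  induction m using TensorProduct.induction_on with
  | zero => simp
  | tmul c z =>
    rw [KaehlerDifferential.cotangentComplexBaseChange_tmul, map_smul, KaehlerDifferential.kerToTensor_apply,
      LinearMap.liftBaseChange_tmul, one_smul, hLker, TensorProduct.smul_tmul']
    simp
  | add x z hx hz => rw [map_add, map_add, hx, hz]

end Groth.Agent.S19149
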