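import Groth.Statements.S19163
import Groth.Agent.MultConjLib.EssFree
import Groth.Agent.TransLib.Universal
import Groth.Agent.AlgSpPts.Sep
import Groth.Agent.GrpSchLib.MultTypeBC

set_option autoImplicit false
open CategoryTheory MonoidalCategory CartesianMonoidalCategory MonObj GrpObj AlgebraicGeometry
universe u
open SGA3x

namespace Groth.Agent.S19163

set_option backward.isDefEq.respectTransparency false
set_option backward.isDefEq.respectTransparency.types false

theorem isLocDS_DS (S : Scheme.{u}) (M : Type) [AddCommGroup M] : MultConjLib.IsLocDS (Red.DS S M) :=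
  ⟨S, 𝟙 S, inferInstance, inferInstance, fun U hU => ⟨U, hU.isCompact, by simp⟩,
    fun s => ⟨⊤, trivial, M, inferInstance, GrpSchLib.MultTypeBC.bc_DS _ M⟩⟩

/-- Let Γ be a non-trivial totally ordered commutative group and H ⟶ G a closed immersion of reductive
S-groups (a homomorphism which is a closed immersion). Let A_H with υ_H, resp. A_G with υ_G,
represent the functor of group homomorphisms D_S(Γ) ⟶ H, resp. D_S(Γ) ⟶ G, and let φ : A_H ⟶ A_G be
the S-morphism induced by composing with H ⟶ G (the universal family over A_H followed by H ⟶ G is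
the pull-back of υ_G along φ). Then φ is a closed immersion, locally of finite presentation. -/
theorem result {S : Scheme.{u}}
    (Γ : Type) [AddCommGroup Γ] [LinearOrder Γ] [IsOrderedAddMonoid Γ] [Nontrivial Γ]
    (H G : Over S) [GrpObj H] [GrpObj G] (hH : Red.IsReductive H) (hG : Red.IsReductive G)
    (k : H ⟶ G) [IsMonHom k] (hk : IsClosedImmersion k.left)
    (AH : Over S) (υH : Red.DS S Γ ⊗ AH ⟶ H) (hAH : AutFam.RepresentsHom (Red.DS S Γ) H AH υH)
    (AG : Over S) (υG : Red.DS S Γ ⊗ AG ⟶ G) (hAG : AutFam.RepresentsHom (Red.DS S Γ) G AG υG)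
    (φ : AH ⟶ AG) (hφ : (Red.DS S Γ ◁ φ) ≫ υG = υH ≫ k) :
    IsClosedImmersion φ.left ∧ LocallyOfFinitePresentation φ.left := by
  haveI := hk
  haveI : Mono k := Over.mono_of_mono_left k
  haveI : LocallyOfFinitePresentation H.hom := by haveI := hH.2.1; infer_instance
  haveI : LocallyOfFiniteType G.hom := by haveI := hG.2.1; infer_instance
  haveI : LocallyOfFinitePresentation (k.left ≫ G.hom) := by rw [Over.w k]; infer_instance
  have hkfp : LocallyOfFinitePresentation k.left := AlgSpPts.locallyOfFinitePresentation_of_comp k.left G.hom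
  obtain ⟨haff, hess⟩ := MultConjLib.locDS_essFree (isLocDS_DS S Γ)
  obtain ⟨Z, c, hc, hfp, huniv⟩ := TransLib.exists_closed_universal_essFree hess υG k
  have hc' : LocallyOfFinitePresentation c.left := hfp inferInstance hkfp
  haveI := hc
  haveI : Mono c := Over.mono_of_mono_left c
  obtain ⟨z, hz⟩ := (huniv φ).2 ⟨υH, hφ.symm⟩
  obtain ⟨l, hl⟩ := (huniv c).1 ⟨𝟙 Z, Category.id_comp c⟩
  have hlF : AutFam.IsHomFamily (Red.DS S Γ) H l := fun X g₁ g₂ t => by
    rw [← cancel_mono k, MonObj.mul_comp, Category.assoc, Category.assoc, Category.assoc, hl,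
      lift_whiskerLeft_assoc, lift_whiskerLeft_assoc, lift_whiskerLeft_assoc]
    exact hAG.1 X g₁ g₂ (t ≫ c)
  obtain ⟨a, ha, -⟩ := hAH.2 Z l hlF
  have hac : a ≫ φ = c := by
    have hF : AutFam.IsHomFamily (Red.DS S Γ) G ((Red.DS S Γ ◁ c) ≫ υG) := fun X g₁ g₂ t => by
      rw [lift_whiskerLeft_assoc, lift_whiskerLeft_assoc, lift_whiskerLeft_assoc]
      exact hAG.1 X g₁ g₂ (t ≫ c)
    refine (hAG.2 Z _ hF).unique ?_ rfl
    show (Red.DS S Γ ◁ (a ≫ φ)) ≫ υG = _
    rw [whiskerLeft_comp, Category.assoc, hφ, ← Category.assoc, ha, hl]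
  have haz : a ≫ z = 𝟙 Z := by rw [← cancel_mono c, Category.assoc, hz, hac, Category.id_comp]
  have hza : z ≫ a = 𝟙 AH := by
    refine (hAH.2 AH υH hAH.1).unique ?_ (by simp)
    show (Red.DS S Γ ◁ (z ≫ a)) ≫ υH = _
    rw [← cancel_mono k, whiskerLeft_comp, Category.assoc, Category.assoc, reassoc_of% ha, hl, ← Category.assoc,
      ← whiskerLeft_comp, hz, hφ]
  let e : AH ≅ Z := ⟨z, a, hza, haz⟩
  haveI : IsIso z.left := inferInstanceAs (IsIso ((Over.forget S).mapIso e).hom)
  have he : φ.left = z.left ≫ c.left := by rw [← Over.comp_left, hz]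
  rw [he]
  haveI := hc'
  exact ⟨inferInstance, inferInstance⟩

end Groth.Agent.S19163
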