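import Groth.Statements.S19180
import Groth.Agent.S0844
import Groth.Agent.QCoh.HHExact
import Groth.Agent.InvX.Tensor

set_option autoImplicit false
set_option backward.isDefEq.respectTransparency false
set_option backward.isDefEq.respectTransparency.types false
universe u
open Coherent

namespace Groth.Agent.S19180

open CategoryTheory AlgebraicGeometry in
/-- Let R be a local ring and m ≥ 1, and consider the projective line P¹_R with its structure sheaf O
and twisting sheaf O(m). For every O-module F and every short exact sequence 0 → O(m) → F → O → 0 of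
O-modules, the surjection F → O admits a section; consequently F is isomorphic to O(m) ⊕ O. -/
theorem result (R : Type u) [CommRing R] [IsLocalRing R]
    (m : ℕ) (hm : 1 ≤ m) (F : (CohB1.ProjSpace 1 R).Modules)
    (i : Twist.twistProjSpace 1 R (m : ℤ) ⟶ F) (p : F ⟶ Coh.structureModule (CohB1.ProjSpace 1 R))
    (w : i ≫ p = 0) (hex : (ShortComplex.mk i p w).ShortExact) :
    ∃ s : Coh.structureModule (CohB1.ProjSpace 1 R) ⟶ F, s ≫ p = 𝟙 _ := by
  obtain ⟨t, ht⟩ := QCoh.app_top_surjective_of_HH_one hex
    (Groth.Agent.S0844.result R 1 (m : ℤ) 1 (fun h => absurd h.1 (by omega)) (fun h => by omega))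
    (show Γ(Coh.structureModule (CohB1.ProjSpace 1 R), ⊤) from (1 : Γ(CohB1.ProjSpace 1 R, ⊤)))
  have key : ∀ (a : Coh.structureModule (CohB1.ProjSpace 1 R) ⟶ Coh.structureModule (CohB1.ProjSpace 1 R)),
      InvX.one a = InvX.one (𝟙 (Coh.structureModule (CohB1.ProjSpace 1 R))) → a = 𝟙 _ := fun a ha => by
    refine Scheme.Modules.hom_ext _ _ fun W => ?_
    ext r
    exact (InvX.app_eq_smul a r).trans ((congrArg (fun e => r • AModX.res _ le_top e) ha).trans
      (InvX.app_eq_smul (𝟙 _) r).symm)
  refine ⟨InvX.ofSect t, key _ ?_⟩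
  show p.app ⊤ (InvX.one (InvX.ofSect t)) = _
  rw [InvX.one_ofSect]
  exact ht

end Groth.Agent.S19180
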