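import Groth.Statements.S19181
import Mathlib

set_option autoImplicit false
universe u
open CAlg

namespace Groth.Agent.S19181

/-- Evaluation at `x = 0`. -/
noncomputable def ev (R : Type u) [CommRing R] : MvPolynomial (Fin 2) R →+* Polynomial R :=
  MvPolynomial.eval₂Hom Polynomial.C ![0, Polynomial.X]

theorem eq_zero_of_coeff {R : Type u} [CommRing R] {P : Polynomial R} (n : ℕ) (hP : P.coeff n = 1)
    (c : Polynomial R) (hc : P * c = 0) : c = 0 := by
  refine mem_nonZeroDivisors_iff_right.1 ?_ c (by rwa [mul_comm])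
  by_contra hmem
  obtain ⟨a, ha, haP⟩ := Polynomial.notMem_nonZeroDivisors_iff.1 hmem
  have := congrArg (fun q => Polynomial.coeff q n) haP
  simp [hP] at this
  exact ha this

theorem sat {R : Type u} [CommRing R] (g : MvPolynomial (Fin 2) R) (hg : ∀ c, ev R g * c = 0 → c = 0)
    (s : MvPolynomial (Fin 2) R) :
    (∃ n : ℕ, MvPolynomial.X 0 ^ n * s ∈ Ideal.span ({MvPolynomial.X 0 ^ 2 * g} : Set (MvPolynomial (Fin 2) R))) ↔
      s ∈ Ideal.span ({g} : Set (MvPolynomial (Fin 2) R)) := by
  refine ⟨fun ⟨n, hn⟩ => ?_, fun h => ⟨2, ?_⟩⟩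
  · have h1 : MvPolynomial.X 0 ^ n * s ∈ Ideal.span ({g} : Set (MvPolynomial (Fin 2) R)) :=
      Ideal.span_singleton_le_span_singleton.2 (dvd_mul_left g _) hn
    have step : ∀ s, MvPolynomial.X 0 * s ∈ Ideal.span ({g} : Set (MvPolynomial (Fin 2) R)) →
        s ∈ Ideal.span ({g} : Set (MvPolynomial (Fin 2) R)) := by
      intro s hs
      obtain ⟨t, ht⟩ := Ideal.mem_span_singleton'.1 hs
      have ht0 : ev R t = 0 := hg _ (by
        rw [← map_mul, mul_comm, ht, map_mul]; simp [ev])
      let back : Polynomial R →+* MvPolynomial (Fin 2) R := Polynomial.eval₂RingHom MvPolynomial.C (MvPolynomial.X 1)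
      have hdiv : ∀ q : MvPolynomial (Fin 2) R, MvPolynomial.X 0 ∣ q - back (ev R q) := by
        intro q
        induction q using MvPolynomial.induction_on with
        | C a => simp [ev, back]
        | add p q hp hq =>
          rw [map_add, map_add, show ∀ a b c d : MvPolynomial (Fin 2) R, a + b - (c + d) = (a - c) + (b - d) from
            fun a b c d => by ring]
          exact dvd_add hp hq
        | mul_X p i hp =>
          fin_cases i
          · simp [ev]
          · have e : back (ev R (p * MvPolynomial.X 1)) = back (ev R p) * MvPolynomial.X 1 := by simp [ev, back]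
            show MvPolynomial.X 0 ∣ p * MvPolynomial.X 1 - back (ev R (p * MvPolynomial.X 1))
            rw [e, ← sub_mul]
            exact hp.mul_right _
      obtain ⟨t', ht'⟩ := hdiv t
      rw [ht0, map_zero, sub_zero] at ht'
      refine Ideal.mem_span_singleton'.2 ⟨t', (MvPolynomial.isRegular_X (n := (0 : Fin 2))).left ?_⟩
      show MvPolynomial.X 0 * (t' * g) = MvPolynomial.X 0 * s
      rw [← ht, ht']; ring
    clear hn
    induction n with
    | zero => simpa using h1
    | succ n ih =>
      rw [pow_succ', mul_assoc] at h1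
      exact ih (step _ h1)
  · obtain ⟨a, rfl⟩ := Ideal.mem_span_singleton'.1 h
    exact Ideal.mem_span_singleton'.2 ⟨a, by ring⟩

open MvPolynomial in
/-- Let R be a commutative ring, a₁, a₂ ∈ R, and C ⊂ A²_R the curve y² + a₁xy = x³ + a₂x², blown up at
the section x = y = 0. In the chart where x = yα (variables y = X 0, α = X 1) the equation of C
becomes y²·g₁ with g₁ = 1 + a₁α − yα³ − a₂α², and the y-saturation of the ideal (y²g₁) is (g₁): for
s ∈ R[y, α], some yⁿs lies in (y²g₁) if and only if s ∈ (g₁). In the chart where y = xβ (variables x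
= X 0, β = X 1) the equation becomes x²·g₂ with g₂ = β² + a₁β − x − a₂, and some xⁿs lies in (x²g₂)
if and only if s ∈ (g₂). In other words the strict transform of C is cut out by g₁, resp. g₂, in the
two charts. -/
theorem result (R : Type u) [CommRing R] (a₁ a₂ : R) :
    (∀ s : MvPolynomial (Fin 2) R,
      (∃ n : ℕ, X 0 ^ n * s ∈ Ideal.span ({X 0 ^ 2 * (1 + C a₁ * X 1 - X 0 * X 1 ^ 3 - C a₂ * X 1 ^ 2)} :
        Set (MvPolynomial (Fin 2) R))) ↔
      s ∈ Ideal.span ({1 + C a₁ * X 1 - X 0 * X 1 ^ 3 - C a₂ * X 1 ^ 2} : Set (MvPolynomial (Fin 2) R))) ∧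
    (∀ s : MvPolynomial (Fin 2) R,
      (∃ n : ℕ, X 0 ^ n * s ∈ Ideal.span ({X 0 ^ 2 * (X 1 ^ 2 + C a₁ * X 1 - X 0 - C a₂)} :
        Set (MvPolynomial (Fin 2) R))) ↔
      s ∈ Ideal.span ({X 1 ^ 2 + C a₁ * X 1 - X 0 - C a₂} : Set (MvPolynomial (Fin 2) R))) := by
  constructor
  · intro s
    refine Groth.Agent.S19181.sat _ ?_ s
    intro c hc
    rw [map_sub, map_sub, map_add, map_one, map_mul, map_mul, map_mul, map_pow, map_pow] at hc
    simp only [Groth.Agent.S19181.ev, MvPolynomial.eval₂Hom_C, MvPolynomial.eval₂Hom_X',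
      Matrix.cons_val_zero, Matrix.cons_val_one, zero_mul, sub_zero] at hc
    refine Groth.Agent.S19181.eq_zero_of_coeff 0 ?_ c hc
    simp [Polynomial.coeff_X, Polynomial.coeff_C_mul]
  · intro s
    refine Groth.Agent.S19181.sat _ ?_ s
    intro c hc
    rw [map_sub, map_sub, map_add, map_pow, map_mul] at hc
    simp only [Groth.Agent.S19181.ev, MvPolynomial.eval₂Hom_C, MvPolynomial.eval₂Hom_X',
      Matrix.cons_val_zero, Matrix.cons_val_one, sub_zero] at hc
    rcases subsingleton_or_nontrivial R with hR | hR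
    · exact Subsingleton.elim _ _
    refine Groth.Agent.S19181.eq_zero_of_coeff 2 ?_ c hc
    simp [Polynomial.coeff_X, Polynomial.coeff_C]

end Groth.Agent.S19181
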