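import Groth.Statements.S19182
import Mathlib

set_option autoImplicit false
universe u
open CAlg

namespace Groth.Agent.S19182

section
open Polynomial (eval₂)
variable (R : Type u) [CommRing R] (a₁ a₂ : R)

local notation "P2" => MvPolynomial (Fin 2) R

theorem chart2 : Algebra.Smooth R (P2 ⧸ Ideal.span ({MvPolynomial.X 1 ^ 2 + MvPolynomial.C a₁ * MvPolynomial.X 1 -
    MvPolynomial.X 0 - MvPolynomial.C a₂} : Set P2)) := by
  let f : P2 →ₐ[R] Polynomial R :=
    MvPolynomial.aeval ![Polynomial.X ^ 2 + Polynomial.C a₁ * Polynomial.X - Polynomial.C a₂, Polynomial.X]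
  let fwd : (P2 ⧸ Ideal.span ({MvPolynomial.X 1 ^ 2 + MvPolynomial.C a₁ * MvPolynomial.X 1 -
      MvPolynomial.X 0 - MvPolynomial.C a₂} : Set P2)) →ₐ[R] Polynomial R :=
    Ideal.Quotient.liftₐ _ f fun x hx => by
      refine (RingHom.mem_ker (f := f)).1 (Ideal.span_le.2 ?_ hx)
      rintro _ rfl
      refine (RingHom.mem_ker (f := f)).2 ?_
      simp [f]
  let bwd : Polynomial R →ₐ[R] (P2 ⧸ Ideal.span ({MvPolynomial.X 1 ^ 2 + MvPolynomial.C a₁ * MvPolynomial.X 1 -
      MvPolynomial.X 0 - MvPolynomial.C a₂} : Set P2)) :=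
    Polynomial.aeval (Ideal.Quotient.mk _ (MvPolynomial.X 1))
  haveI : Algebra.Smooth R (Polynomial R) := ⟨inferInstance, inferInstance⟩
  refine Algebra.Smooth.of_equiv (AlgEquiv.ofAlgHom bwd fwd ?_ ?_)
  · refine Ideal.Quotient.algHom_ext R (MvPolynomial.algHom_ext fun i => ?_)
    fin_cases i
    · show bwd (f (MvPolynomial.X 0)) = Ideal.Quotient.mk _ (MvPolynomial.X 0)
      simp only [f, bwd, MvPolynomial.aeval_X, Matrix.cons_val_zero, map_sub, map_add, map_mul, map_pow,
        Polynomial.aeval_X, Polynomial.aeval_C]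
      rw [IsScalarTower.algebraMap_apply R P2 _ a₁,
        IsScalarTower.algebraMap_apply R P2 _ a₂, Ideal.Quotient.algebraMap_eq, MvPolynomial.algebraMap_eq,
        ← map_pow, ← map_mul, ← map_add, ← map_sub, Ideal.Quotient.eq]
      exact Ideal.mem_span_singleton'.2 ⟨1, by ring⟩
    · show bwd (f (MvPolynomial.X 1)) = Ideal.Quotient.mk _ (MvPolynomial.X 1)
      simp [f, bwd]
  · refine Polynomial.algHom_ext ?_
    show fwd (bwd Polynomial.X) = Polynomial.X
    simp [fwd, bwd, f]

theorem chart1 : Algebra.Smooth R (P2 ⧸ Ideal.span ({1 + MvPolynomial.C a₁ * MvPolynomial.X 1 -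
    MvPolynomial.X 0 * MvPolynomial.X 1 ^ 3 - MvPolynomial.C a₂ * MvPolynomial.X 1 ^ 2} : Set P2)) := by
  obtain ⟨I, hI⟩ : ∃ I, I = Ideal.span ({1 + MvPolynomial.C a₁ * MvPolynomial.X 1 -
    MvPolynomial.X 0 * MvPolynomial.X 1 ^ 3 - MvPolynomial.C a₂ * MvPolynomial.X 1 ^ 2} : Set P2) := ⟨_, rfl⟩
  rw [← hI]
  let L := Localization.Away (Polynomial.X : Polynomial R)
  haveI : Algebra.Smooth R (Polynomial R) := ⟨inferInstance, inferInstance⟩
  haveI : Algebra.Smooth (Polynomial R) L := Algebra.Smooth.of_isLocalization_Away (Polynomial.X : Polynomial R)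
  haveI : Algebra.Smooth R L := Algebra.Smooth.comp R (Polynomial R) L
  let x : L := algebraMap (Polynomial R) L Polynomial.X
  let w : L := IsLocalization.Away.invSelf (Polynomial.X : Polynomial R)
  have hxw : x * w = 1 := IsLocalization.Away.mul_invSelf _
  let f : P2 →ₐ[R] L := MvPolynomial.aeval ![(1 + algebraMap R L a₁ * x - algebraMap R L a₂ * x ^ 2) * w ^ 3, x]
  let fwd : (P2 ⧸ I) →ₐ[R] L :=
    Ideal.Quotient.liftₐ _ f fun y hy => by
      rw [hI] at hy
      refine (RingHom.mem_ker (f := f)).1 (Ideal.span_le.2 ?_ hy)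
      rintro _ rfl
      refine (RingHom.mem_ker (f := f)).2 ?_
      simp [f]
      linear_combination (-(1 + algebraMap R L a₁ * x - algebraMap R L a₂ * x ^ 2) * (x ^ 2 * w ^ 2 + x * w + 1)) * hxw
  let α : P2 ⧸ I := Ideal.Quotient.mk I (MvPolynomial.X 1)
  let y : P2 ⧸ I := Ideal.Quotient.mk I (MvPolynomial.X 0)
  have hrel : 1 + algebraMap R (P2 ⧸ I) a₁ * α - y * α ^ 3 - algebraMap R (P2 ⧸ I) a₂ * α ^ 2 = 0 := by
    simp only [α, y, IsScalarTower.algebraMap_apply R P2 (P2 ⧸ I), Ideal.Quotient.algebraMap_eq,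
      MvPolynomial.algebraMap_eq, ← map_pow, ← map_mul, ← map_one (Ideal.Quotient.mk I), ← map_add, ← map_sub]
    rw [Ideal.Quotient.eq_zero_iff_mem, hI]
    exact Ideal.subset_span rfl
  have hu : IsUnit α := IsUnit.of_mul_eq_one
    (y * α ^ 2 + algebraMap R (P2 ⧸ I) a₂ * α - algebraMap R (P2 ⧸ I) a₁) (by linear_combination -hrel)
  let g : Polynomial R →ₐ[R] P2 ⧸ I := Polynomial.aeval α
  have hg : ∀ z : Submonoid.powers (Polynomial.X : Polynomial R), IsUnit (g z) := by
    rintro ⟨_, n, rfl⟩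
    show IsUnit (g (Polynomial.X ^ n))
    simpa [g] using hu.pow n
  let bwd : L →ₐ[R] P2 ⧸ I := IsLocalization.liftAlgHom (M := Submonoid.powers (Polynomial.X : Polynomial R)) hg
  have hbx : bwd x = α := by
    show IsLocalization.lift _ (algebraMap (Polynomial R) L Polynomial.X) = α
    rw [IsLocalization.lift_eq]; simp [g]
  refine Algebra.Smooth.of_equiv (AlgEquiv.ofAlgHom bwd fwd ?_ ?_)
  · refine Ideal.Quotient.algHom_ext R (MvPolynomial.algHom_ext fun i => ?_)
    fin_cases i
    · show bwd (f (MvPolynomial.X 0)) = y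
      simp only [f, MvPolynomial.aeval_X, Matrix.cons_val_zero, map_sub, map_add, map_mul, map_pow, map_one,
        AlgHom.commutes, hbx]
      have hw : α * bwd w = 1 := by rw [← hbx, ← map_mul, hxw, map_one]
      refine (hu.pow 3).mul_left_cancel ?_
      linear_combination hrel + (1 + algebraMap R (P2 ⧸ I) a₁ * α - algebraMap R (P2 ⧸ I) a₂ * α ^ 2) *
        (α ^ 2 * bwd w ^ 2 + α * bwd w + 1) * hw
    · show bwd (f (MvPolynomial.X 1)) = α
      simp [f, hbx]
  · refine IsLocalization.algHom_ext (Submonoid.powers (Polynomial.X : Polynomial R)) (Polynomial.algHom_ext ?_)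
    show fwd (bwd (algebraMap (Polynomial R) L Polynomial.X)) = algebraMap (Polynomial R) L Polynomial.X
    rw [show algebraMap (Polynomial R) L Polynomial.X = x from rfl, hbx]
    simp [fwd, α, f]

end

open MvPolynomial in
/-- Let R be a commutative ring and a₁, a₂ ∈ R. The two affine charts of the blow-up of the plane curve
y² + a₁xy = x³ + a₂x² at the section x = y = 0, with coordinate rings R[y, α]/(1 + a₁α − yα³ − a₂α²)
and R[x, β]/(β² + a₁β − x − a₂) (variables indexed 0 and 1 in this order), are smooth R-algebras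
(formally smooth of finite presentation). This is the local computation behind the statement that
the blow-up of a Weierstrass curve along a section through its singular locus is a smooth proper
curve of genus 0. -/
theorem result (R : Type u) [CommRing R] (a₁ a₂ : R) :
    Algebra.Smooth R (MvPolynomial (Fin 2) R ⧸
      Ideal.span ({1 + C a₁ * X 1 - X 0 * X 1 ^ 3 - C a₂ * X 1 ^ 2} : Set (MvPolynomial (Fin 2) R))) ∧
    Algebra.Smooth R (MvPolynomial (Fin 2) R ⧸
      Ideal.span ({X 1 ^ 2 + C a₁ * X 1 - X 0 - C a₂} : Set (MvPolynomial (Fin 2) R))) := by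
  refine ⟨Groth.Agent.S19182.chart1 R a₁ a₂, Groth.Agent.S19182.chart2 R a₁ a₂⟩

end Groth.Agent.S19182
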