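import Groth.Statements.S19191
import Groth.Agent.S6604

set_option autoImplicit false
universe w v u v' u'
open CategoryTheory CategoryTheory.Limits CategoryTheory.Pretriangulated CategoryTheory.Triangulated
open CohDer

namespace Groth.Agent.S19191

/-- Let `A` be a commutative ring, `T` an `A`-linear triangulated category (octahedron axiom included;
shift functors `A`-linear), `U` a thick subcategory of `T` (a property of objects containing zero,
stable under shifts, extensions, isomorphisms and direct factors), and `Q : T ⥤ E` a localization of
`T` at the morphisms whose cone lies in `U` (the Verdier quotient `T/U`), where `E` is preadditive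
and `A`-linear and `Q` is `A`-linear. For an object `X` of `T` the following two conditions are
equivalent: (i) `X` lies in `U`; (ii) for every maximal ideal `m` of `A` the image of `X` in the
category obtained from `T/U` by tensoring the morphism modules with `A_m` is zero, i.e. some element
of `A` outside `m` annihilates the identity of `Q X`. (The published statement also lists a third
equivalent condition, phrased with idempotent completions of the localized categories; it is not
asserted here.) -/
theorem result
    {A : Type w} [CommRing A]
    {T : Type u} [Category.{v} T] [Preadditive T] [Linear A T] [HasZeroObject T] [HasShift T ℤ]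
    [∀ n : ℤ, (shiftFunctor T n).Additive] [∀ n : ℤ, (shiftFunctor T n).Linear A]
    [Pretriangulated T] [IsTriangulated T]
    (U : ObjectProperty T) [U.IsTriangulated] [U.IsClosedUnderIsomorphisms] [U.IsStableUnderRetracts]
    {E : Type u'} [Category.{v'} E] [Preadditive E] [Linear A E]
    (Q : T ⥤ E) [Q.Additive] [Q.Linear A] [Q.IsLocalization U.trW] (X : T) :
    U X ↔ ∀ m : Ideal A, m.IsMaximal → ∃ s : A, s ∉ m ∧ s • 𝟙 (Q.obj X) = 0 := by
  have hz : IsZero (Q.obj X) ↔ U X := by
    rw [Groth.Agent.S6604.result U Q X]
    refine ⟨fun ⟨Z', Y, hY, ⟨e⟩⟩ => ?_, fun h => ?_⟩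
    · exact ObjectProperty.prop_of_retract U
        ({ i := biprod.inl ≫ e.hom, r := e.inv ≫ biprod.fst, retract := by simp } : Retract X Y) hY
    · obtain ⟨Z, hZ, hUZ⟩ := U.exists_prop_of_containsZero
      haveI : IsIso (biprod.fst : X ⊞ Z ⟶ X) := ⟨biprod.inl, by
        rw [← biprod.total, hZ.eq_of_tgt (biprod.snd : X ⊞ Z ⟶ Z) 0, zero_comp, add_zero], by simp⟩
      exact ⟨Z, X, h, ⟨asIso biprod.fst⟩⟩
  rw [← hz, IsZero.iff_id_eq_zero]
  constructor
  · intro h m hm
    exact ⟨1, fun h1 => hm.ne_top ((Ideal.eq_top_iff_one m).2 h1), by rw [h, smul_zero]⟩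
  · intro h
    by_contra hne
    obtain ⟨m, hm, hle⟩ := Ideal.exists_le_maximal (LinearMap.ker (LinearMap.toSpanSingleton A _ (𝟙 (Q.obj X))))
      (by
        intro htop
        have h1 : (1 : A) ∈ LinearMap.ker (LinearMap.toSpanSingleton A _ (𝟙 (Q.obj X))) := by
          rw [htop]; trivial
        exact hne (by simpa using h1))
    obtain ⟨s, hs, hs0⟩ := h m hm
    exact hs (hle (by simpa using hs0))

end Groth.Agent.S19191
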