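import Groth.Statements.S19198
import Groth.Agent.SchDenseLib.FlatNoeth
import Groth.Agent.SchDenseLib.Hom
import Groth.Agent.GrpFieldLib.SmoothDense
import Groth.Agent.H23.RatExtend

set_option autoImplicit false
set_option backward.isDefEq.respectTransparency false
set_option backward.isDefEq.respectTransparency.types false
set_option maxHeartbeats 1000000
set_option linter.style.haveILetI false
universe u
open CategoryTheory AlgebraicGeometry
open Models

namespace Groth.Agent.S19198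

/-- Form over the valuation ring: let R be a discrete valuation ring with a uniformizer ϖ, let C → Spec
R be flat and locally of finite type, f : X → C proper, and Z → X a closed immersion with Z flat
over R such that the composite Z → C restricts to an isomorphism over the generic fibre, the
preimage of the open set D(ϖ) of Spec R. Then for every point c of C whose local ring is an
integrally closed domain of Krull dimension one (a codimension-one point at which C is normal, for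
instance a generic point of the closed fibre lying in the smooth locus), there is an open
neighbourhood V of c over which Z → C is an isomorphism. (The published statement, that the closed
fibre of such a Z maps isomorphically onto the closed fibre of C over every generic point of its
smooth locus, also after a finite extension of R, follows by restriction to the closed fibre and
flat descent.) -/
theorem result (R : Type u) [CommRing R] [IsDomain R]
    [IsDiscreteValuationRing R] {C X Z : Scheme.{u}} (πC : C ⟶ Spec (CommRingCat.of R)) [Flat πC]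
    [LocallyOfFiniteType πC] (f : X ⟶ C) [IsProper f] (i : Z ⟶ X) [IsClosedImmersion i]
    [Flat ((i ≫ f) ≫ πC)] (ϖ : R) (hϖ : Irreducible ϖ)
    (hgen : IsIso ((i ≫ f) ∣_ (πC ⁻¹ᵁ (PrimeSpectrum.basicOpen ϖ))))
    (c : C) (hdom : IsDomain (C.presheaf.stalk c)) (hnorm : IsIntegrallyClosed (C.presheaf.stalk c))
    (hdim : ringKrullDim (C.presheaf.stalk c) = 1) :
    ∃ V : C.Opens, c ∈ V ∧ IsIso ((i ≫ f) ∣_ V) := by
  haveI : IsNoetherianRing R := inferInstance
  haveI : IsLocallyNoetherian C := LocallyOfFiniteType.isLocallyNoetherian πC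
  haveI : IsProper (i ≫ f) := inferInstance
  let G : C.Opens := πC ⁻¹ᵁ (PrimeSpectrum.basicOpen ϖ)
  haveI := hgen
  haveI : IsIso ((i ≫ f) ∣_ G) := hgen
  have hmono : ∀ {T : Scheme.{u}} (a b : T ⟶ Z), (∀ t, (i ≫ f) (a t) ∈ G) → (∀ t, (i ≫ f) (b t) ∈ G) →
      a ≫ (i ≫ f) = b ≫ (i ≫ f) → a = b := by
    intro T a b ha hb hab
    have hra : Set.range a ⊆ Set.range ((i ≫ f) ⁻¹ᵁ G).ι := by
      rintro _ ⟨t, rfl⟩
      rw [Scheme.Opens.range_ι]
      exact ha t
    have hrb : Set.range b ⊆ Set.range ((i ≫ f) ⁻¹ᵁ G).ι := by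
      rintro _ ⟨t, rfl⟩
      rw [Scheme.Opens.range_ι]
      exact hb t
    have : IsOpenImmersion.lift ((i ≫ f) ⁻¹ᵁ G).ι a hra = IsOpenImmersion.lift ((i ≫ f) ⁻¹ᵁ G).ι b hrb := by
      rw [← cancel_mono ((i ≫ f) ∣_ G), ← cancel_mono G.ι]
      simp only [Category.assoc, morphismRestrict_ι]
      rw [IsOpenImmersion.lift_fac_assoc, IsOpenImmersion.lift_fac_assoc, hab]
    rw [← IsOpenImmersion.lift_fac ((i ≫ f) ⁻¹ᵁ G).ι a hra, ← IsOpenImmersion.lift_fac ((i ≫ f) ⁻¹ᵁ G).ι b hrb,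
      this]
  haveI := hdom
  haveI := hnorm
  haveI : ValuationRing (C.presheaf.stalk c) := by
    have h1 : Ring.KrullDimLE 1 (C.presheaf.stalk c) := Ring.krullDimLE_iff.mpr (le_of_eq (by rw [hdim]; rfl))
    refine ((tfae_of_isNoetherianRing_of_isLocalRing_of_isDomain (C.presheaf.stalk c)).out 3 1).mp ?_
    exact ⟨hnorm, fun P hP hP' => IsLocalRing.eq_maximalIdeal
      (Ring.krullDimLE_one_iff_of_noZeroDivisors.mp h1 P hP hP')⟩
  let K := FractionRing (C.presheaf.stalk c)
  let η : Spec (CommRingCat.of K) ⟶ C :=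
    Spec.map (CommRingCat.ofHom (algebraMap (C.presheaf.stalk c) K)) ≫ C.fromSpecStalk c
  haveI : Flat (C.fromSpecStalk c) := Groth.Agent.H23.RatExtend.flat_fromSpecStalk C c
  haveI : Flat (Spec.map (CommRingCat.ofHom (algebraMap (C.presheaf.stalk c) K))) :=
    HasRingHomProperty.Spec_iff.mpr (RingHom.flat_algebraMap_iff.mpr
      (IsLocalization.flat K (nonZeroDivisors (C.presheaf.stalk c))))
  haveI : Flat (η ≫ πC) := inferInstance
  have hηG : ∀ x, η x ∈ G := by
    intro x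
    have hg : (⊥ : PrimeSpectrum R) ∈ Set.range (η ≫ πC) := by
      obtain ⟨y, -, hy⟩ := Flat.generalizingMap (η ≫ πC)
        (show (⊥ : PrimeSpectrum R) ⤳ (η ≫ πC) x from
          ((PrimeSpectrum.le_iff_specializes _ _).mp bot_le))
      exact ⟨y, hy⟩
    obtain ⟨y, hy⟩ := hg
    obtain rfl : y = x := Subsingleton.elim _ _
    change (η ≫ πC) y ∈ PrimeSpectrum.basicOpen ϖ
    rw [hy]
    exact fun h => hϖ.ne_zero h
  have hr : Set.range η ⊆ Set.range G.ι := by
    rintro _ ⟨x, rfl⟩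
    rw [Scheme.Opens.range_ι]
    exact hηG x
  let i₁ : Spec (CommRingCat.of K) ⟶ Z :=
    IsOpenImmersion.lift G.ι η hr ≫ inv ((i ≫ f) ∣_ G) ≫ ((i ≫ f) ⁻¹ᵁ G).ι
  have hi₁ : i₁ ≫ i ≫ f = η := by
    simp only [i₁, Category.assoc]
    rw [← morphismRestrict_ι (i ≫ f) G, IsIso.inv_hom_id_assoc, IsOpenImmersion.lift_fac]
  have hval : ValuativeCriterion.Existence (i ≫ f) := by
    have h : UniversallyClosed (i ≫ f) := inferInstance
    rw [UniversallyClosed.eq_valuativeCriterion] at h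
    exact h.1
  let sq : ValuativeCommSq (i ≫ f) :=
    { R := C.presheaf.stalk c, K := K, i₁ := i₁, i₂ := C.fromSpecStalk c, commSq := ⟨hi₁⟩ }
  obtain ⟨(l : Spec (C.presheaf.stalk c) ⟶ Z), -, hl⟩ := (hval sq).exists_lift
  obtain ⟨V, hcV, s, -, hs⟩ := spread_out_of_isGermInjective' (𝟙 C) (i ≫ f) (x := c) l
    (by rw [Category.comp_id]; exact hl)
  rw [Category.comp_id] at hs
  refine ⟨V, hcV, ?_⟩
  have hsV : Set.range s ⊆ Set.range ((i ≫ f) ⁻¹ᵁ V).ι := by
    rintro _ ⟨t, rfl⟩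
    rw [Scheme.Opens.range_ι]
    change (i ≫ f) (s t) ∈ V
    rw [← Scheme.Hom.comp_apply, hs]
    exact t.2
  have h1 : IsOpenImmersion.lift ((i ≫ f) ⁻¹ᵁ V).ι s hsV ≫ (i ≫ f) ∣_ V = 𝟙 _ := by
    rw [← cancel_mono V.ι, Category.assoc, morphismRestrict_ι, IsOpenImmersion.lift_fac_assoc, hs,
      Category.id_comp]
  refine ⟨IsOpenImmersion.lift ((i ≫ f) ⁻¹ᵁ V).ι s hsV, ?_, h1⟩
  haveI : IsReduced (Spec (CommRingCat.of R)) := inferInstance
  have hd : CInt.IsSchematicallyDense (X := Spec (CommRingCat.of R)) (PrimeSpectrum.basicOpen ϖ) := by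
    refine Groth.Agent.GrpFieldLib.SmoothDense.isSchematicallyDense_of_dense _ ?_
    refine (PrimeSpectrum.basicOpen ϖ).isOpen.dense ⟨⊥, fun h => hϖ.ne_zero h⟩
  haveI : IsLocallyNoetherian (Spec (CommRingCat.of R)) := inferInstance
  haveI : Flat (((i ≫ f) ⁻¹ᵁ V).ι ≫ (i ≫ f) ≫ πC) := inferInstance
  refine Groth.Agent.SchDenseLib.hom_ext
    (Groth.Agent.SchDenseLib.preimage_of_isLocallyNoetherian (((i ≫ f) ⁻¹ᵁ V).ι ≫ (i ≫ f) ≫ πC) _ hd)
    ((i ≫ f) ∣_ V) _ _ (by rw [Category.assoc, h1, Category.comp_id, Category.id_comp]) ?_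
  rw [← cancel_mono ((i ≫ f) ⁻¹ᵁ V).ι]
  set D := (((i ≫ f) ⁻¹ᵁ V).ι ≫ (i ≫ f) ≫ πC) ⁻¹ᵁ (PrimeSpectrum.basicOpen ϖ) with hD
  have e : D.ι ≫ ((i ≫ f) ∣_ V ≫ IsOpenImmersion.lift ((i ≫ f) ⁻¹ᵁ V).ι s hsV) ≫
      ((i ≫ f) ⁻¹ᵁ V).ι ≫ i ≫ f = D.ι ≫ ((i ≫ f) ⁻¹ᵁ V).ι ≫ i ≫ f := by
    rw [← morphismRestrict_ι (i ≫ f) V, Category.assoc, reassoc_of% h1]
  refine hmono _ _ (fun t => ?_) (fun t => ?_) (by simpa only [Category.assoc, Category.id_comp] using e)
  · have e2 := congrArg (fun m => m t) e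
    simp only [Scheme.Hom.comp_apply] at e2 ⊢
    rw [e2]
    exact t.2
  · exact t.2

end Groth.Agent.S19198
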