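import Groth.Statements.S19206
import Groth.Agent.H1Lech.Count

set_option autoImplicit false
universe u
open Filter
open LocAlg

namespace Groth.Agent.S19206

/-- Let O be a Noetherian local ring of Krull dimension r which contains a field, with maximal ideal m,
and let I be an m-primary ideal (I ⊆ m and m^N ⊆ I for some N). Write e(I) for the Samuel
multiplicity of I, the limit of r!·length(O/I^n)/n^r, and e(O) for that of m. Then e(I) ≤
r!·e(O)·length(O/I); consequently the supremum of e(I)/(r!·length(O/I)) over such I is at most e(O).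
(Stated for real numbers e(I), e(O) equal to those limits; the hypothesis that O contains a field is
the standing equicharacteristic convention of the section and is not needed for the inequality.) -/
theorem result (O : Type u) [CommRing O] [IsNoetherianRing O] [IsLocalRing O]
    (K : Type u) [Field K] [Algebra K O] (r : ℕ) (hr : ringKrullDim O = r)
    (I : Ideal O) (hI : I ≤ IsLocalRing.maximalIdeal O) (hIN : ∃ N : ℕ, IsLocalRing.maximalIdeal O ^ N ≤ I)
    (eI eO : ℝ)
    (heI : Tendsto (fun n : ℕ => (r.factorial : ℝ) * ((Module.length O (O ⧸ I ^ n)).toNat : ℝ) / (n : ℝ) ^ r)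
      atTop (nhds eI))
    (heO : Tendsto (fun n : ℕ => (r.factorial : ℝ) *
        ((Module.length O (O ⧸ IsLocalRing.maximalIdeal O ^ n)).toNat : ℝ) / (n : ℝ) ^ r) atTop (nhds eO)) :
    eI ≤ (r.factorial : ℝ) * eO * ((Module.length O (O ⧸ I)).toNat : ℝ) := by
  classical
  obtain ⟨N, hN⟩ := hIN
  obtain ⟨s, x, hx⟩ : ∃ (s : ℕ) (x : Fin s → O),
      Ideal.span (Set.range x) = IsLocalRing.maximalIdeal O :=
    Submodule.fg_iff_exists_fin_generating_family.mp
      ((isNoetherian_def.mp inferInstance) (IsLocalRing.maximalIdeal O))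
  obtain ⟨M, hM⟩ := H1Lech.exists_trunc_mem_U_iff x
  set L : ℕ → ℕ := fun n => (Module.length O (O ⧸ IsLocalRing.maximalIdeal O ^ n)).toNat with hL
  set LI : ℕ := (Module.length O (O ⧸ I)).toNat with hLI
  set P := H1Lech.cones x M with hP
  set D : ℕ := s * M with hD
  have hrpos : (0 : ℝ) < r.factorial := by exact_mod_cast r.factorial_pos
  -- lower bound, on real numbers
  have hlow : ∀ k n : ℕ, D < n →
      (((P.filter fun τ => (H1Lech.free τ).card = k).card : ℝ) * ((n : ℝ) - D) ^ k) ≤
        (k.factorial : ℝ) * (L n : ℝ) := by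
    intro k n hn
    obtain ⟨p, rfl⟩ : ∃ p, n = D + p + 1 := ⟨n - D - 1, by omega⟩
    have h := H1Lech.card_cones_mul_le x hx M hM k p
    have h' : (((P.filter fun τ => (H1Lech.free τ).card = k).card * (p + 1) ^ k : ℕ) : ℝ) ≤
        ((k.factorial * L (D + p + 1) : ℕ) : ℝ) := by exact_mod_cast h
    push_cast at h' ⊢
    convert h' using 3
    ring
  -- every cone has dimension at most r
  have hdim : ∀ τ ∈ P, (H1Lech.free τ).card ≤ r := by
    intro τ hτ
    by_contra hk
    set k := (H1Lech.free τ).card with hkdef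
    have hF : (1 : ℝ) ≤ ((P.filter fun σ => (H1Lech.free σ).card = k).card : ℝ) := by
      have hmem : τ ∈ P.filter fun σ => (H1Lech.free σ).card = k :=
        Finset.mem_filter.mpr ⟨hτ, rfl⟩
      exact_mod_cast Finset.card_pos.mpr ⟨τ, hmem⟩
    have hev := (heO.eventually (eventually_le_nhds (show eO < eO + 1 by linarith))).and
      ((eventually_ge_atTop (2 * D + 1)).and
        ((tendsto_natCast_atTop_atTop (R := ℝ)).eventually
          (eventually_gt_atTop ((2 : ℝ) ^ k * (k.factorial : ℝ) * (eO + 1)))))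
    obtain ⟨n, h1, h2, h3⟩ := hev.exists
    have hn1 : (1 : ℝ) ≤ n := by exact_mod_cast (by omega : 1 ≤ n)
    have hn2 : (n : ℝ) / 2 ≤ (n : ℝ) - D := by
      have : (2 * D + 1 : ℝ) ≤ n := by exact_mod_cast h2
      linarith
    have hA : ((n : ℝ) / 2) ^ k ≤ (k.factorial : ℝ) * (L n : ℝ) :=
      calc ((n : ℝ) / 2) ^ k ≤ ((n : ℝ) - D) ^ k := by
            exact pow_le_pow_left₀ (by linarith) hn2 k
        _ ≤ _ := by
            refine le_trans ?_ (hlow k n (by omega))
            exact le_mul_of_one_le_left (pow_nonneg (by linarith) k) hF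
    have hnr : (0 : ℝ) < (n : ℝ) ^ r := by positivity
    have hB : (r.factorial : ℝ) * (L n : ℝ) ≤ (eO + 1) * (n : ℝ) ^ r := (div_le_iff₀ hnr).mp h1
    have hr1 : (1 : ℝ) ≤ r.factorial := by exact_mod_cast r.factorial_pos
    have hB' : (L n : ℝ) ≤ (eO + 1) * (n : ℝ) ^ r :=
      le_trans (le_mul_of_one_le_left (by positivity) hr1) hB
    have hk' : (n : ℝ) ^ r * n ≤ (n : ℝ) ^ k := by
      rw [← pow_succ]; exact pow_le_pow_right₀ hn1 (by omega)
    rw [div_pow, div_le_iff₀ (by positivity)] at hA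
    have hC : (n : ℝ) ^ r * n ≤ (n : ℝ) ^ r * ((2 : ℝ) ^ k * (k.factorial : ℝ) * (eO + 1)) :=
      calc (n : ℝ) ^ r * n ≤ (k.factorial : ℝ) * (L n : ℝ) * 2 ^ k := hk'.trans hA
        _ ≤ (k.factorial : ℝ) * ((eO + 1) * (n : ℝ) ^ r) * 2 ^ k := by gcongr
        _ = _ := by ring
    exact absurd (le_of_mul_le_mul_left hC hnr) (not_le.mpr h3)
  set F : ℕ := (P.filter fun τ => (H1Lech.free τ).card = r).card with hF
  -- F ≤ e(O)
  have hFe : (F : ℝ) ≤ eO := by
    have h1 : Tendsto (fun n : ℕ => (F : ℝ) * (1 - (D : ℝ) / n) ^ r) atTop (nhds (F : ℝ)) := by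
      have h0 := ((tendsto_const_nhds (x := (1 : ℝ))).sub
        (tendsto_const_div_atTop_nhds_zero_nat (D : ℝ))).pow r |>.const_mul (F : ℝ)
      simpa using h0
    refine le_of_tendsto_of_tendsto h1 heO ?_
    filter_upwards [eventually_gt_atTop D] with n hn
    have hn0 : (0 : ℝ) < n := by exact_mod_cast (by omega : 0 < n)
    rw [le_div_iff₀ (by positivity), mul_assoc, ← mul_pow]
    refine le_trans (le_of_eq ?_) (hlow r n hn)
    congr 1
    rw [sub_mul, one_mul, div_mul_cancel₀ _ hn0.ne']
  -- e(I) ≤ r! · length(O/I) · F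
  have hIe : eI ≤ (r.factorial : ℝ) * LI * F := by
    have h2 : Tendsto (fun n : ℕ => (r.factorial : ℝ) * LI * ((F : ℝ) + (P.card : ℝ) / n)) atTop
        (nhds ((r.factorial : ℝ) * LI * F)) := by
      have h0 := ((tendsto_const_nhds (x := (F : ℝ))).add
        (tendsto_const_div_atTop_nhds_zero_nat (P.card : ℝ))).const_mul ((r.factorial : ℝ) * LI)
      simpa using h0
    refine le_of_tendsto_of_tendsto heI h2 ?_
    filter_upwards [eventually_gt_atTop 0] with n hn
    have hn0 : (0 : ℝ) < n := by exact_mod_cast hn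
    rw [div_le_iff₀ (by positivity)]
    have h : ((Module.length O (O ⧸ I ^ n)).toNat : ℝ) ≤
        (LI : ℝ) * ∑ τ ∈ P, (n : ℝ) ^ (H1Lech.free τ).card := by
      exact_mod_cast H1Lech.length_pow_le x hx M hM I hN hn
    have hsum : ∑ τ ∈ P, (n : ℝ) ^ (H1Lech.free τ).card ≤
        ((F : ℝ) + (P.card : ℝ) / n) * (n : ℝ) ^ r := by
      rw [← Finset.sum_filter_add_sum_filter_not P (fun τ => (H1Lech.free τ).card = r),
        add_mul]
      refine add_le_add (le_of_eq ?_) ?_
      · rw [Finset.sum_congr rfl (fun τ hτ => by rw [(Finset.mem_filter.mp hτ).2]),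
          Finset.sum_const, nsmul_eq_mul]
      · refine le_trans (Finset.sum_le_card_nsmul _ _ ((n : ℝ) ^ r / n) ?_) ?_
        · intro τ hτ
          obtain ⟨hτP, hτr⟩ := Finset.mem_filter.mp hτ
          rw [le_div_iff₀ hn0, ← pow_succ]
          exact pow_le_pow_right₀ (by exact_mod_cast hn)
            (by have := hdim τ hτP; omega)
        · rw [nsmul_eq_mul, div_mul_eq_mul_div, ← mul_div_assoc]
          gcongr
          exact Finset.filter_subset _ _
    calc (r.factorial : ℝ) * ((Module.length O (O ⧸ I ^ n)).toNat : ℝ)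
        ≤ (r.factorial : ℝ) * ((LI : ℝ) * (((F : ℝ) + (P.card : ℝ) / n) * (n : ℝ) ^ r)) := by
          refine mul_le_mul_of_nonneg_left (h.trans ?_) hrpos.le
          exact mul_le_mul_of_nonneg_left hsum (Nat.cast_nonneg _)
      _ = _ := by ring
  calc eI ≤ (r.factorial : ℝ) * LI * F := hIe
    _ ≤ (r.factorial : ℝ) * LI * eO := by gcongr
    _ = _ := by ring

end Groth.Agent.S19206
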