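import Groth.Statements.S19207
import Groth.Agent.TFCurvLib.ExtOne
import Mathlib.RingTheory.MvPowerSeries.Inverse
import Mathlib.Analysis.SpecificLimits.Basic

set_option autoImplicit false
universe u
open Filter
open LocAlg

namespace Groth.Agent.S19207

theorem span_pow_pair_le {A : Type*} [CommRing A] (y u : A) (p : ℕ) :
    Ideal.span {y, u} ^ p ≤ Ideal.span {z : A | ∃ r c : ℕ, r + c = p ∧ z = y ^ r * u ^ c} := by
  induction p with
  | zero =>
    have h1 : (1 : A) ∈ Ideal.span {z : A | ∃ r c : ℕ, r + c = 0 ∧ z = y ^ r * u ^ c} :=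
      Ideal.subset_span ⟨0, 0, rfl, by rw [pow_zero, pow_zero, one_mul]⟩
    exact le_top.trans (le_of_eq ((Ideal.eq_top_iff_one _).2 h1).symm)
  | succ p ih =>
    refine (le_of_eq (Submodule.pow_succ _)).trans ((Ideal.mul_mono_left ih).trans ?_)
    rw [Ideal.span_mul_span', Ideal.span_le]
    rintro _ ⟨a, ⟨r, c, hrc, rfl⟩, b, hb, rfl⟩
    rcases hb with rfl | rfl
    · exact Ideal.subset_span ⟨r + 1, c, by omega, by simp only; ring⟩
    · exact Ideal.subset_span ⟨r, c + 1, by omega, by simp only; ring⟩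

theorem span_pow_pair_eq {A B : Type*} [CommRing A] (f : B → A) (y u : A) (p : ℕ) (g : ℕ → B)
    (hf : ∀ c ≤ p, f (g c) = y ^ (p - c) * u ^ c) :
    Ideal.span (f '' (g '' (↑(Finset.range (p + 1)) : Set ℕ))) = Ideal.span {y, u} ^ p := by
  apply le_antisymm
  · rw [Ideal.span_le]
    rintro _ ⟨_, ⟨c, hc, rfl⟩, rfl⟩
    have hcp : c ≤ p := Nat.lt_succ_iff.1 (Finset.mem_range.1 (Finset.mem_coe.1 hc))
    have e : Ideal.span {y, u} ^ (p - c + c) = Ideal.span {y, u} ^ (p - c) * Ideal.span {y, u} ^ c :=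
      Ideal.IsTwoSided.pow_add _ _
    rw [Nat.sub_add_cancel hcp] at e
    have hy : y ∈ Ideal.span {y, u} := Ideal.subset_span (Set.mem_insert _ _)
    have hu : u ∈ Ideal.span {y, u} := Ideal.subset_span (Set.mem_insert_of_mem _ (Set.mem_singleton u))
    have h1 : y ^ (p - c) ∈ Ideal.span {y, u} ^ (p - c) := Ideal.pow_mem_pow hy _
    have h2 : u ^ c ∈ Ideal.span {y, u} ^ c := Ideal.pow_mem_pow hu _
    rw [hf c hcp, SetLike.mem_coe, e]
    exact Ideal.mul_mem_mul h1 h2
  · refine (span_pow_pair_le y u p).trans (Ideal.span_mono ?_)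
    rintro _ ⟨r, c, hrc, rfl⟩
    refine ⟨g c, ⟨c, Finset.mem_coe.2 (Finset.mem_range.2 (by omega)), rfl⟩, ?_⟩
    rw [hf c (by omega), show p - c = r by omega]

open MvPowerSeries in
/-- The monomial of a triple of exponents. -/
noncomputable def mono (k : Type u) [Field k] (s : ℕ × ℕ × ℕ) : MvPowerSeries (Fin 3) k :=
  X 0 ^ s.1 * X 1 ^ s.2.1 * X 2 ^ s.2.2

/-- The exponent of a triple. -/
noncomputable def ex (i a b : ℕ) : Fin 3 →₀ ℕ := Finsupp.equivFunOnFinite.symm ![i, a, b]

theorem ex_surj (e : Fin 3 →₀ ℕ) : e = ex (e 0) (e 1) (e 2) := by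
  ext l; fin_cases l <;> simp [ex]

theorem ex_le (i a b : ℕ) (e : Fin 3 →₀ ℕ) : ex i a b ≤ e ↔ i ≤ e 0 ∧ a ≤ e 1 ∧ b ≤ e 2 := by
  simp [Finsupp.le_def, Fin.forall_fin_succ, ex]

theorem ex_sub (i a b i' a' b' : ℕ) : ex i a b - ex i' a' b' = ex (i - i') (a - a') (b - b') := by
  ext l; fin_cases l <;> simp [ex]

@[simp] theorem ex_0 (i a b : ℕ) : ex i a b 0 = i := by simp [ex]
@[simp] theorem ex_1 (i a b : ℕ) : ex i a b 1 = a := by simp [ex]
@[simp] theorem ex_2 (i a b : ℕ) : ex i a b 2 = b := by simp [ex]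

open MvPowerSeries in
theorem mono_eq (k : Type u) [Field k] (s : ℕ × ℕ × ℕ) : mono k s = monomial (ex s.1 s.2.1 s.2.2) 1 := by
  rw [mono, X_pow_eq, X_pow_eq, X_pow_eq, monomial_mul_monomial, monomial_mul_monomial, one_mul, one_mul]
  congr 1
  congr 1
  ext l; fin_cases l <;> simp [ex]

open MvPowerSeries in
theorem coeff_relMul (k : Type u) [Field k] (n : ℕ) (G : MvPowerSeries (Fin 3) k) (i a b : ℕ) :
    coeff (ex i a b) ((X 0 ^ 2 - X 1 ^ n) * G) =
      (if 2 ≤ i then coeff (ex (i - 2) a b) G else 0) - (if n ≤ a then coeff (ex i (a - n) b) G else 0) := by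
  have h0 : (X 0 ^ 2 : MvPowerSeries (Fin 3) k) = monomial (ex 2 0 0) 1 := by
    rw [X_pow_eq]; congr 1; congr 1; ext l; fin_cases l <;> simp [ex]
  have h1 : (X 1 ^ n : MvPowerSeries (Fin 3) k) = monomial (ex 0 n 0) 1 := by
    rw [X_pow_eq]; congr 1; congr 1; ext l; fin_cases l <;> simp [ex]
  classical
  rw [sub_mul, map_sub, h0, h1, coeff_monomial_mul, coeff_monomial_mul]
  simp only [ex_le, ex_sub, ex_0, ex_1, ex_2, zero_le, Nat.sub_zero, and_true, true_and, one_mul]

open MvPowerSeries in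
/-- The reduced coefficient. -/
noncomputable def red (k : Type u) [Field k] (n : ℕ) (F : MvPowerSeries (Fin 3) k) (i a b : ℕ) : k :=
  ∑ j ∈ Finset.range (a + 1), if n * j ≤ a then coeff (ex (i + 2 * j) (a - n * j) b) F else 0

open MvPowerSeries in
theorem red_rec (k : Type u) [Field k] (n : ℕ) (hn : 1 ≤ n) (F : MvPowerSeries (Fin 3) k) (i a b : ℕ) :
    red k n F i a b = coeff (ex i a b) F + if n ≤ a then red k n F (i + 2) (a - n) b else 0 := by
  have h0 : red k n F i a b = coeff (ex i a b) F +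
      ∑ j ∈ Finset.range a, if n * (j + 1) ≤ a then coeff (ex (i + 2 * (j + 1)) (a - n * (j + 1)) b) F else 0 := by
    rw [red, Finset.sum_range_succ', add_comm]
    simp
  rw [h0]
  congr 1
  by_cases h : n ≤ a
  · rw [if_pos h, red, ← Finset.sum_subset (s₁ := Finset.range (a - n + 1)) (s₂ := Finset.range a)
      (fun j hj => by simp at hj ⊢; omega) (fun j hj hj' => by
        rw [if_neg]
        simp at hj hj'
        have : j + 1 ≤ n * (j + 1) := Nat.le_mul_of_pos_left _ hn
        intro hle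
        rw [Nat.mul_succ] at hle
        have : j ≤ n * j := Nat.le_mul_of_pos_left _ hn
        omega)]
    refine Finset.sum_congr rfl fun j _ => ?_
    rw [Nat.mul_succ]
    by_cases h' : n * j ≤ a - n
    · rw [if_pos h', if_pos (by omega)]
      congr 2
      congr 1 <;> omega
    · rw [if_neg h', if_neg (by omega)]
  · rw [if_neg h]
    refine Finset.sum_eq_zero fun j _ => if_neg ?_
    rw [Nat.mul_succ]
    omega

open MvPowerSeries in
theorem red_relMul (k : Type u) [Field k] (n : ℕ) (hn : 1 ≤ n) (G : MvPowerSeries (Fin 3) k) (i a b : ℕ) :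
    red k n ((X 0 ^ 2 - X 1 ^ n) * G) i a b = if 2 ≤ i then coeff (ex (i - 2) a b) G else 0 := by
  induction a using Nat.strong_induction_on generalizing i with
  | _ a ih =>
    rw [red_rec k n hn, coeff_relMul]
    by_cases h : n ≤ a
    · rw [if_pos h, if_pos h, ih (a - n) (by omega) (i + 2), if_pos (show 2 ≤ i + 2 by omega), Nat.add_sub_cancel]
      ring
    · rw [if_neg h, if_neg h, sub_zero, add_zero]

open MvPowerSeries in
theorem quot_length (k : Type u) [Field k] (n : ℕ) (hn : 1 ≤ n) (T gens : Finset (ℕ × ℕ × ℕ))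
    (hT : ∀ s ∈ T, s.1 < 2)
    (hgen : ∀ g ∈ gens, ∀ s ∈ T, ∀ j, n * j ≤ s.2.1 → g.1 ≤ s.1 + 2 * j → g.2.1 ≤ s.2.1 - n * j → g.2.2 ≤ s.2.2 → False)
    (hcov : ∀ i a b, i < 2 → (i, a, b) ∉ T → ∃ g ∈ gens, g.1 ≤ i ∧ g.2.1 ≤ a ∧ g.2.2 ≤ b) :
    Module.length (MvPowerSeries (Fin 3) k ⧸ Ideal.span {(X 0 ^ 2 - X 1 ^ n : MvPowerSeries (Fin 3) k)})
      ((MvPowerSeries (Fin 3) k ⧸ Ideal.span {(X 0 ^ 2 - X 1 ^ n : MvPowerSeries (Fin 3) k)}) ⧸
        (Ideal.span (mono k '' (gens : Set (ℕ × ℕ × ℕ)))).map (Ideal.Quotient.mk _)) = (T.card : ℕ∞) := by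
  classical
  let R : Ideal (MvPowerSeries (Fin 3) k) := Ideal.span {(X 0 ^ 2 - X 1 ^ n : (MvPowerSeries (Fin 3) k))}
  let M : Ideal (MvPowerSeries (Fin 3) k) := Ideal.span (mono k '' (gens : Set (ℕ × ℕ × ℕ)))
  let Φ : (MvPowerSeries (Fin 3) k) →ₗ[k] (T → k) :=
    { toFun := fun F s => red k n F s.1.1 s.1.2.1 s.1.2.2
      map_add' := fun F G => funext fun s => by
        simp only [red, map_add, Pi.add_apply, ← Finset.sum_add_distrib]
        exact Finset.sum_congr rfl fun j _ => by split_ifs <;> simp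
      map_smul' := fun c F => funext fun s => by
        simp only [red, map_smul, Pi.smul_apply, RingHom.id_apply, Finset.smul_sum]
        exact Finset.sum_congr rfl fun j _ => by split_ifs <;> simp }
  have hsurj : Function.Surjective Φ := by
    intro c
    refine ⟨∑ s : T, monomial (ex s.1.1 s.1.2.1 s.1.2.2) (c s), funext fun u => ?_⟩
    rw [map_sum, Finset.sum_apply, Finset.sum_eq_single u]
    · show red k n (monomial _ _) _ _ _ = c u
      rw [red, Finset.sum_eq_single 0]
      · simp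
      · intro j _ hj
        split_ifs with h
        · rw [coeff_monomial, if_neg]
          intro e
          have := DFunLike.congr_fun e 0
          simp at this
          omega
        · rfl
      · simp
    · intro v _ hv
      show red k n (monomial _ _) _ _ _ = 0
      refine Finset.sum_eq_zero fun j _ => ?_
      split_ifs with h
      · rw [coeff_monomial, if_neg]
        intro e
        have e0 := DFunLike.congr_fun e 0
        have e1 := DFunLike.congr_fun e 1
        have e2 := DFunLike.congr_fun e 2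
        simp only [ex_0, ex_1, ex_2] at e0 e1 e2
        have hv2 := hT v.1 v.2
        have hu2 := hT u.1 u.2
        obtain rfl : j = 0 := by omega
        exact hv (Subtype.ext (Prod.ext (by omega) (Prod.ext (by simpa using e1.symm) (by omega))))
      · rfl
    · simp
  have hker : LinearMap.ker Φ = (R ⊔ M).restrictScalars k := by
    ext F
    rw [LinearMap.mem_ker, Submodule.restrictScalars_mem]
    constructor
    · intro hF
      let G : (MvPowerSeries (Fin 3) k) := fun e => red k n F (e 0 + 2) (e 1) (e 2)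
      have hG : ∀ i a b, coeff (ex i a b) G = red k n F (i + 2) a b := fun i a b => by
        show red k n F (ex i a b 0 + 2) (ex i a b 1) (ex i a b 2) = _
        simp
      let F' := F - (X 0 ^ 2 - X 1 ^ n) * G
      have hF' : ∀ i a b, coeff (ex i a b) F' = if 2 ≤ i then 0 else red k n F i a b := fun i a b => by
        simp only [F', map_sub]
        rw [coeff_relMul, hG, hG]
        rw [red_rec k n hn F i a b]
        by_cases h2 : 2 ≤ i
        · rw [if_pos h2, if_pos h2, Nat.sub_add_cancel h2, red_rec k n hn F i a b]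
          ring
        · rw [if_neg h2, if_neg h2]
          ring
      have hcov' : ∀ e : Fin 3 →₀ ℕ, coeff e F' ≠ 0 → ∃ g ∈ gens, ex g.1 g.2.1 g.2.2 ≤ e := by
        intro e he
        rw [ex_surj e, hF'] at he
        by_cases h2 : 2 ≤ e 0
        · rw [if_pos h2] at he; exact absurd rfl he
        rw [if_neg h2] at he
        obtain ⟨g, hg, hle⟩ := hcov (e 0) (e 1) (e 2) (by omega) (fun hm => he (congrFun hF ⟨_, hm⟩))
        exact ⟨g, hg, (ex_le _ _ _ _).2 hle⟩
      choose! ch hch hle using hcov'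
      let H : (ℕ × ℕ × ℕ) → (MvPowerSeries (Fin 3) k) := fun g d => if ch (ex g.1 g.2.1 g.2.2 + d) = g then coeff (ex g.1 g.2.1 g.2.2 + d) F' else 0
      have hsum : F' = ∑ g ∈ gens, mono k g * H g := by
        refine MvPowerSeries.ext fun e => ?_
        rw [map_sum]
        simp only [mono_eq, coeff_monomial_mul, one_mul]
        by_cases he : coeff e F' = 0
        · rw [he]
          refine (Finset.sum_eq_zero fun g _ => ?_).symm
          split_ifs with hg
          · show (if _ then coeff _ F' else 0) = 0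
            rw [add_tsub_cancel_of_le hg, he, ite_self]
          · rfl
        · rw [Finset.sum_eq_single (ch e)]
          · rw [if_pos (hle e he)]
            show _ = if _ then coeff _ F' else 0
            rw [add_tsub_cancel_of_le (hle e he), if_pos rfl]
          · intro g _ hne
            split_ifs with hg
            · show (if _ then coeff _ F' else 0) = 0
              rw [add_tsub_cancel_of_le hg, if_neg (Ne.symm hne)]
            · rfl
          · exact fun h => absurd (hch e he) h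
      rw [show F = (X 0 ^ 2 - X 1 ^ n) * G + F' by simp [F'], hsum]
      exact add_mem (Ideal.mem_sup_left (Ideal.mul_mem_right _ _ (Ideal.mem_span_singleton_self _)))
        (Ideal.mem_sup_right (sum_mem fun g hg => Ideal.mul_mem_right _ _ (Ideal.subset_span ⟨g, hg, rfl⟩)))
    · intro hF
      obtain ⟨F1, h1, F2, h2, rfl⟩ := Submodule.mem_sup.1 hF
      rw [map_add]
      obtain ⟨G, rfl⟩ := Ideal.mem_span_singleton.1 h1
      have e1 : Φ ((X 0 ^ 2 - X 1 ^ n) * G) = 0 := funext fun s => by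
        show red k n _ _ _ _ = 0
        rw [red_relMul k n hn, if_neg (by have := hT s.1 s.2; omega)]
      rw [e1, zero_add]
      clear hF h1
      induction h2 using Submodule.span_induction with
      | mem w hw =>
        obtain ⟨g, hg, rfl⟩ := hw
        rw [← mul_one (mono k g)]
        funext s
        show red k n _ _ _ _ = 0
        refine Finset.sum_eq_zero fun j _ => ?_
        split_ifs with h
        · rw [mono_eq, coeff_monomial_mul, if_neg]
          intro hle
          rw [ex_le] at hle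
          simp only [ex_0, ex_1, ex_2] at hle
          exact hgen g hg s.1 s.2 j h hle.1 hle.2.1 hle.2.2
        · rfl
      | zero => exact map_zero Φ
      | add a b _ _ ha hb => rw [map_add, ha, hb, add_zero]
      | smul c a hc ha =>
        clear ha
        revert c
        induction hc using Submodule.span_induction with
        | mem w hw =>
          intro c
          obtain ⟨g, hg, rfl⟩ := hw
          rw [smul_eq_mul, mul_comm]
          funext s
          show red k n _ _ _ _ = 0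
          refine Finset.sum_eq_zero fun j _ => ?_
          split_ifs with h
          · rw [mono_eq, coeff_monomial_mul, if_neg]
            intro hle
            rw [ex_le] at hle
            simp only [ex_0, ex_1, ex_2] at hle
            exact hgen g hg s.1 s.2 j h hle.1 hle.2.1 hle.2.2
          · rfl
        | zero => intro c; simp
        | add a b _ _ ha hb => intro c; rw [smul_add, map_add, ha, hb, add_zero]
        | smul d a _ ha => intro c; rw [smul_smul]; exact ha _
  let J := M.map (Ideal.Quotient.mk R)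
  let π : (MvPowerSeries (Fin 3) k) →ₗ[k] (((MvPowerSeries (Fin 3) k) ⧸ R) ⧸ J) := ((Ideal.Quotient.mkₐ k J).comp (Ideal.Quotient.mkₐ k R)).toLinearMap
  have hπ : Function.Surjective π := Ideal.Quotient.mk_surjective.comp Ideal.Quotient.mk_surjective
  have hπker : LinearMap.ker π = (R ⊔ M).restrictScalars k := by
    ext F
    rw [LinearMap.mem_ker, Submodule.restrictScalars_mem, sup_comm]
    show Ideal.Quotient.mk J (Ideal.Quotient.mk R F) = 0 ↔ _
    rw [Ideal.Quotient.eq_zero_iff_mem, ← Ideal.mem_comap, Ideal.comap_map_of_surjective _ Ideal.Quotient.mk_surjective,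
      ← RingHom.ker_eq_comap_bot, Ideal.mk_ker]
  let e := ((LinearMap.quotKerEquivOfSurjective π hπ).symm.trans (Submodule.quotEquivOfEq _ _ (hπker.trans hker.symm))).trans
    (LinearMap.quotKerEquivOfSurjective Φ hsurj)
  haveI : Module.Finite k (((MvPowerSeries (Fin 3) k) ⧸ R) ⧸ J) := Module.Finite.equiv e.symm
  let χ : ((MvPowerSeries (Fin 3) k) ⧸ R) →ₐ[k] k := Ideal.Quotient.liftₐ R
    ({ (constantCoeff : (MvPowerSeries (Fin 3) k) →+* k) with commutes' := fun c => by simp [MvPowerSeries.algebraMap_apply] } : (MvPowerSeries (Fin 3) k) →ₐ[k] k) (fun F hF => by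
      obtain ⟨G, rfl⟩ := Ideal.mem_span_singleton.1 hF
      show constantCoeff (_ * G) = 0
      rw [map_mul, map_sub, map_pow, map_pow, constantCoeff_X, constantCoeff_X, zero_pow (by omega), zero_pow (by omega)]
      ring)
  have hχ : ∀ a, χ a ≠ 0 → IsUnit a := by
    intro a ha
    obtain ⟨F, rfl⟩ := Ideal.Quotient.mk_surjective a
    exact ((MvPowerSeries.isUnit_iff_constantCoeff).2 (isUnit_iff_ne_zero.2 ha)).map _
  rw [TFCurvLib.length_eq_finrank χ hχ (((MvPowerSeries (Fin 3) k) ⧸ R) ⧸ J), e.finrank_eq, Module.finrank_pi, Fintype.card_coe]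

/-- Let k be a field and n ≥ 3, and let A = k[[x, y, t]]/(x^2 − y^n), the power-series ring in t over
the higher double point O = k[[x, y]]/(x^2 − y^n), a two-dimensional local ring. The ideal I = (x^2,
xy, y^2, xt, yt^2, t^4) of A has length(A/I) = 7 and Samuel multiplicity e(I) = 16, in the sense
that 2·length(A/I^m)/m^2 tends to 16. Hence e(I)/(2!·length(A/I)) = 8/7, which gives the bound
e_1(O) ≥ 8/7 for the first flat multiplicity of a higher double point (the supremum of
e(I)/(2!·length(A/I)) over ideals of finite colength of A = O[[t]]). Here x, y, t are the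
power-series variables indexed 0, 1, 2. -/
theorem result (k : Type u) [Field k] (n : ℕ) (hn : 3 ≤ n)
    (I : Ideal (MvPowerSeries (Fin 3) k ⧸ Ideal.span {(MvPowerSeries.X 0 ^ 2 - MvPowerSeries.X 1 ^ n : MvPowerSeries (Fin 3) k)}))
    (hI : I = Ideal.map (Ideal.Quotient.mk (Ideal.span {(MvPowerSeries.X 0 ^ 2 - MvPowerSeries.X 1 ^ n : MvPowerSeries (Fin 3) k)}))
      (Ideal.span {(MvPowerSeries.X 0 ^ 2 : MvPowerSeries (Fin 3) k), MvPowerSeries.X 0 * MvPowerSeries.X 1,
        MvPowerSeries.X 1 ^ 2, MvPowerSeries.X 0 * MvPowerSeries.X 2,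
        MvPowerSeries.X 1 * MvPowerSeries.X 2 ^ 2, MvPowerSeries.X 2 ^ 4})) :
    Module.length (MvPowerSeries (Fin 3) k ⧸ Ideal.span {(MvPowerSeries.X 0 ^ 2 - MvPowerSeries.X 1 ^ n : MvPowerSeries (Fin 3) k)}) ((MvPowerSeries (Fin 3) k ⧸ Ideal.span {(MvPowerSeries.X 0 ^ 2 - MvPowerSeries.X 1 ^ n : MvPowerSeries (Fin 3) k)}) ⧸ I) = 7 ∧
      Tendsto (fun m : ℕ => (2 : ℝ) * ((Module.length (MvPowerSeries (Fin 3) k ⧸ Ideal.span {(MvPowerSeries.X 0 ^ 2 - MvPowerSeries.X 1 ^ n : MvPowerSeries (Fin 3) k)}) ((MvPowerSeries (Fin 3) k ⧸ Ideal.span {(MvPowerSeries.X 0 ^ 2 - MvPowerSeries.X 1 ^ n : MvPowerSeries (Fin 3) k)}) ⧸ I ^ m)).toNat : ℝ) / (m : ℝ) ^ 2)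
        atTop (nhds 16) := by
  classical
  let R : Ideal (MvPowerSeries (Fin 3) k) := Ideal.span {(MvPowerSeries.X 0 ^ 2 - MvPowerSeries.X 1 ^ n : MvPowerSeries (Fin 3) k)}
  let q := Ideal.Quotient.mk (Ideal.span {(MvPowerSeries.X 0 ^ 2 - MvPowerSeries.X 1 ^ n : MvPowerSeries (Fin 3) k)})
  set x : (MvPowerSeries (Fin 3) k ⧸ Ideal.span {(MvPowerSeries.X 0 ^ 2 - MvPowerSeries.X 1 ^ n : MvPowerSeries (Fin 3) k)}) := q (MvPowerSeries.X 0) with hx
  set y : (MvPowerSeries (Fin 3) k ⧸ Ideal.span {(MvPowerSeries.X 0 ^ 2 - MvPowerSeries.X 1 ^ n : MvPowerSeries (Fin 3) k)}) := q (MvPowerSeries.X 1) with hy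
  set t : (MvPowerSeries (Fin 3) k ⧸ Ideal.span {(MvPowerSeries.X 0 ^ 2 - MvPowerSeries.X 1 ^ n : MvPowerSeries (Fin 3) k)}) := q (MvPowerSeries.X 2) with ht
  have hrel : x ^ 2 = y ^ n := by
    rw [hx, hy, ← map_pow, ← map_pow, Ideal.Quotient.eq]
    exact Ideal.subset_span rfl
  have hI' : I = Ideal.span {x ^ 2, x * y, y ^ 2, x * t, y * t ^ 2, t ^ 4} := by
    rw [hI, Ideal.map_span]
    congr 1
    simp only [Set.image_insert_eq, Set.image_singleton, map_pow, map_mul]
    rfl
  refine ⟨?_, ?_⟩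
  · let gens : Finset (ℕ × ℕ × ℕ) := {(2, 0, 0), (1, 1, 0), (0, 2, 0), (1, 0, 1), (0, 1, 2), (0, 0, 4)}
    let T : Finset (ℕ × ℕ × ℕ) := {(0, 0, 0), (0, 0, 1), (0, 0, 2), (0, 0, 3), (0, 1, 0), (0, 1, 1), (1, 0, 0)}
    have h := quot_length k n (by omega) T gens
      (by intro s hs; fin_cases hs <;> simp)
      (by
        intro g hg s hs j h1 h2 h3 h4
        obtain ⟨i, a, b⟩ := s
        obtain ⟨g1, g2, g3⟩ := g
        simp only [T, Finset.mem_insert, Finset.mem_singleton, Prod.mk.injEq] at hs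
        simp only [gens, Finset.mem_insert, Finset.mem_singleton, Prod.mk.injEq] at hg
        simp only at h1 h2 h3 h4
        rcases j with _ | j
        · rcases hg with hg | hg | hg | hg | hg | hg <;> rcases hs with hs | hs | hs | hs | hs | hs | hs <;> omega
        · have : n ≤ n * (j + 1) := Nat.le_mul_of_pos_right _ (by omega)
          rcases hs with hs | hs | hs | hs | hs | hs | hs <;> omega)
      (by
        intro i a b hi hns
        simp only [T, Finset.mem_insert, Finset.mem_singleton, Prod.mk.injEq] at hns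
        simp only [gens, Finset.mem_insert, Finset.mem_singleton]
        by_cases h1 : i = 1 ∧ 1 ≤ a
        · exact ⟨(1, 1, 0), by simp, by simp; omega⟩
        by_cases h2 : i = 1 ∧ 1 ≤ b
        · exact ⟨(1, 0, 1), by simp, by simp; omega⟩
        by_cases h3 : 2 ≤ a
        · exact ⟨(0, 2, 0), by simp, by simp; omega⟩
        by_cases h4 : 1 ≤ a ∧ 2 ≤ b
        · exact ⟨(0, 1, 2), by simp, by simp; omega⟩
        exact ⟨(0, 0, 4), by simp, by simp; omega⟩)
    have hJ : ((Ideal.span (mono k '' (gens : Set (ℕ × ℕ × ℕ)))).map q) = I := by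
      rw [hI', Ideal.map_span]
      congr 1
      simp only [gens, Finset.coe_insert, Finset.coe_singleton, Set.image_insert_eq, Set.image_singleton, mono]
      simp [x, y, t, map_mul, map_pow, q]
    rw [hJ] at h
    rw [h]
    rfl
  · set Q : Ideal (MvPowerSeries (Fin 3) k ⧸ Ideal.span {(MvPowerSeries.X 0 ^ 2 - MvPowerSeries.X 1 ^ n : MvPowerSeries (Fin 3) k)}) := Ideal.span {y, t ^ 2} with hQ
    have hQlen : ∀ p : ℕ, Module.length (MvPowerSeries (Fin 3) k ⧸ Ideal.span {(MvPowerSeries.X 0 ^ 2 - MvPowerSeries.X 1 ^ n : MvPowerSeries (Fin 3) k)}) ((MvPowerSeries (Fin 3) k ⧸ Ideal.span {(MvPowerSeries.X 0 ^ 2 - MvPowerSeries.X 1 ^ n : MvPowerSeries (Fin 3) k)}) ⧸ Q ^ p) = ((2 * (p * (p + 1)) : ℕ) : ℕ∞) := by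
      intro p
      let gens : Finset (ℕ × ℕ × ℕ) := (Finset.range (p + 1)).image fun c => (0, p - c, 2 * c)
      let T : Finset (ℕ × ℕ × ℕ) := Finset.range 2 ×ˢ ((Finset.range p).biUnion fun a => ({a} : Finset ℕ) ×ˢ Finset.range (2 * (p - a)))
      have hTm : ∀ i a b, (i, a, b) ∈ T ↔ i < 2 ∧ a < p ∧ b < 2 * (p - a) := fun i a b => by
        simp [T]
      have hcard : T.card = 2 * (p * (p + 1)) := by
        rw [Finset.card_product, Finset.card_range, Finset.card_biUnion (fun a _ c _ hac => Finset.disjoint_left.2 fun w hw hw' => hac (by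
          simp at hw hw'; obtain ⟨_, _, rfl⟩ := hw; obtain ⟨_, _, h⟩ := hw'; exact (congrArg Prod.fst h).symm))]
        congr 1
        simp only [Finset.card_product, Finset.card_singleton, Finset.card_range, one_mul, ← Finset.mul_sum]
        clear hTm
        induction p with
        | zero => simp
        | succ p ih =>
          rw [Finset.sum_range_succ']
          simp only [Nat.add_sub_add_right, Nat.sub_zero]
          nlinarith [ih]
      have h := quot_length k n (by omega) T gens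
        (by rintro ⟨i, a, b⟩ hs; exact ((hTm i a b).1 hs).1)
        (by
          rintro ⟨g1, g2, g3⟩ hg ⟨i, a, b⟩ hs j h1 h2 h3 h4
          simp only [gens, Finset.mem_image, Finset.mem_range, Prod.mk.injEq] at hg
          obtain ⟨c, hc, e1, e2, e3⟩ := hg
          obtain ⟨-, ha, hb⟩ := (hTm i a b).1 hs
          simp only at h1 h2 h3 h4
          omega)
        (by
          intro i a b hi hns
          rw [hTm] at hns
          simp only [gens, Finset.mem_image, Finset.mem_range]
          exact ⟨(0, p - (p - a), 2 * (p - a)), ⟨p - a, by omega, rfl⟩, by simp; omega⟩)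
      have hJ : ((Ideal.span (mono k '' (gens : Set (ℕ × ℕ × ℕ)))).map q) = Q ^ p := by
        rw [Ideal.map_span, ← Set.image_comp]
        simp only [gens, Finset.coe_image]
        exact span_pow_pair_eq (q ∘ mono k) y (t ^ 2) p (fun c => (0, p - c, 2 * c)) (fun c _ => by
          simp only [Function.comp_apply, mono, pow_zero, one_mul, map_mul, map_pow, ← pow_mul]; rfl)
      rw [hJ] at h
      rw [h, hcard]
    have hyQ : y ∈ Q := Ideal.subset_span (Set.mem_insert _ _)
    have htQ : t ^ 2 ∈ Q := Ideal.subset_span (Set.mem_insert_of_mem _ rfl)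
    have hQI : Q ^ 2 ≤ I := by
      refine (le_of_eq ((Submodule.pow_succ _).trans (by rw [Submodule.pow_one]))).trans ?_
      rw [hI', hQ, Ideal.span_pair_mul_span_pair, Ideal.span_le]
      rintro _ (rfl | rfl | rfl | rfl) <;> refine Ideal.subset_span ?_ <;>
        simp [← sq, ← pow_mul, mul_comm (t ^ 2) y]
    set N : Ideal (MvPowerSeries (Fin 3) k ⧸ Ideal.span {(MvPowerSeries.X 0 ^ 2 - MvPowerSeries.X 1 ^ n : MvPowerSeries (Fin 3) k)}) := Ideal.span {y, t} with hN
    set X : Ideal (MvPowerSeries (Fin 3) k ⧸ Ideal.span {(MvPowerSeries.X 0 ^ 2 - MvPowerSeries.X 1 ^ n : MvPowerSeries (Fin 3) k)}) := Ideal.span {x} * N with hX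
    have hXX : X * X ≤ Q ^ 2 * Q ^ 2 := by
      have h1 : N * N ≤ Q := by
        rw [hN, Ideal.span_pair_mul_span_pair, Ideal.span_le]
        rintro _ (rfl | rfl | rfl | rfl)
        · exact Q.mul_mem_left _ hyQ
        · exact Q.mul_mem_right _ hyQ
        · exact Q.mul_mem_left _ hyQ
        · rw [← sq]; exact htQ
      calc X * X = Ideal.span {x} * Ideal.span {x} * (N * N) := by rw [hX]; ring
        _ ≤ Q ^ 3 * Q := by
          refine Ideal.mul_mono ?_ h1
          rw [Ideal.span_singleton_mul_span_singleton, Ideal.span_singleton_le_iff_mem, ← sq, hrel]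
          exact Ideal.pow_le_pow_right (show 3 ≤ n by omega) (Ideal.pow_mem_pow hyQ n)
        _ = Q ^ 2 * Q ^ 2 := by ring
    have hIW : I ≤ Q ^ 2 + X := by
      rw [hI', Ideal.span_le]
      have hxy : x * y ∈ X := Ideal.mul_mem_mul (Ideal.mem_span_singleton_self x) (Ideal.subset_span (Set.mem_insert _ _))
      have hxt : x * t ∈ X := Ideal.mul_mem_mul (Ideal.mem_span_singleton_self x) (Ideal.subset_span (Set.mem_insert_of_mem _ rfl))
      rintro _ (rfl | rfl | rfl | rfl | rfl | rfl)
      · exact Ideal.mem_sup_left (hrel ▸ Ideal.pow_le_pow_right (by omega) (Ideal.pow_mem_pow hyQ n))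
      · exact Ideal.mem_sup_right hxy
      · exact Ideal.mem_sup_left (Ideal.pow_mem_pow hyQ 2)
      · exact Ideal.mem_sup_right hxt
      · exact Ideal.mem_sup_left (by rw [sq Q]; exact Ideal.mul_mem_mul hyQ htQ)
      · exact Ideal.mem_sup_left (by rw [show t ^ 4 = (t ^ 2) ^ 2 by rw [← pow_mul]]; exact Ideal.pow_mem_pow htQ 2)
    have hpow : ∀ m, I ^ (m + 1) ≤ (Q ^ 2) ^ (m + 1) + (Q ^ 2) ^ m * X := by
      intro m
      induction m with
      | zero => simpa using hIW
      | succ m ih =>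
        calc I ^ (m + 1 + 1) = I ^ (m + 1) * I := Submodule.pow_succ _
          _ ≤ ((Q ^ 2) ^ (m + 1) + (Q ^ 2) ^ m * X) * (Q ^ 2 + X) := Ideal.mul_mono ih hIW
          _ = (Q ^ 2) ^ (m + 1 + 1) + (Q ^ 2) ^ (m + 1) * X + ((Q ^ 2) ^ (m + 1) * X + (Q ^ 2) ^ m * (X * X)) := by ring
          _ ≤ (Q ^ 2) ^ (m + 1 + 1) + (Q ^ 2) ^ (m + 1) * X := by
              simp only [Ideal.add_eq_sup]
              refine sup_le le_rfl (sup_le le_sup_right (le_trans ?_ le_sup_left))
              refine le_trans (mul_le_mul_right hXX _) (le_of_eq ?_)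
              ring
    have hlo : ∀ m, I ^ (m + 1) ≤ Q ^ (2 * m) := fun m => (hpow m).trans (by
      rw [← pow_mul, ← pow_mul, Ideal.add_eq_sup]
      exact sup_le (Ideal.pow_le_pow_right (by omega)) Ideal.mul_le_left)
    have hhi : ∀ m, Q ^ (2 * m) ≤ I ^ m := fun m => by rw [pow_mul]; exact Ideal.pow_right_mono hQI m
    have hmono : ∀ {J K : Ideal (MvPowerSeries (Fin 3) k ⧸ Ideal.span {(MvPowerSeries.X 0 ^ 2 - MvPowerSeries.X 1 ^ n : MvPowerSeries (Fin 3) k)})}, J ≤ K → Module.length (MvPowerSeries (Fin 3) k ⧸ Ideal.span {(MvPowerSeries.X 0 ^ 2 - MvPowerSeries.X 1 ^ n : MvPowerSeries (Fin 3) k)}) ((MvPowerSeries (Fin 3) k ⧸ Ideal.span {(MvPowerSeries.X 0 ^ 2 - MvPowerSeries.X 1 ^ n : MvPowerSeries (Fin 3) k)}) ⧸ K) ≤ Module.length (MvPowerSeries (Fin 3) k ⧸ Ideal.span {(MvPowerSeries.X 0 ^ 2 - MvPowerSeries.X 1 ^ n : MvPowerSeries (Fin 3) k)}) ((MvPowerSeries (Fin 3) k ⧸ Ideal.span {(MvPowerSeries.X 0 ^ 2 - MvPowerSeries.X 1 ^ n : MvPowerSeries (Fin 3) k)}) ⧸ J) := fun h =>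
      Module.length_le_of_surjective (Submodule.factor h) (Submodule.factor_surjective h)
    have hb : ∀ m : ℕ, 2 * (2 * m * (2 * m + 1)) ≤ (Module.length (MvPowerSeries (Fin 3) k ⧸ Ideal.span {(MvPowerSeries.X 0 ^ 2 - MvPowerSeries.X 1 ^ n : MvPowerSeries (Fin 3) k)}) ((MvPowerSeries (Fin 3) k ⧸ Ideal.span {(MvPowerSeries.X 0 ^ 2 - MvPowerSeries.X 1 ^ n : MvPowerSeries (Fin 3) k)}) ⧸ I ^ (m + 1))).toNat ∧
        (Module.length (MvPowerSeries (Fin 3) k ⧸ Ideal.span {(MvPowerSeries.X 0 ^ 2 - MvPowerSeries.X 1 ^ n : MvPowerSeries (Fin 3) k)}) ((MvPowerSeries (Fin 3) k ⧸ Ideal.span {(MvPowerSeries.X 0 ^ 2 - MvPowerSeries.X 1 ^ n : MvPowerSeries (Fin 3) k)}) ⧸ I ^ (m + 1))).toNat ≤ 2 * (2 * (m + 1) * (2 * (m + 1) + 1)) := by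
      intro m
      have h1 := hmono (hlo m)
      have h2 := hmono (hhi (m + 1))
      rw [hQlen] at h1 h2
      exact ⟨(ENat.toNat_natCast _).symm.le.trans (ENat.toNat_le_toNat h1 (ne_top_of_le_ne_top (ENat.coe_ne_top _) h2)),
        (ENat.toNat_le_toNat h2 (ENat.coe_ne_top _)).trans (ENat.toNat_natCast _).le⟩
    have hlim : ∀ c e : ℝ, Tendsto (fun m : ℕ => 16 + c / (m : ℝ) + e / (m : ℝ) / (m : ℝ)) atTop (nhds 16) := fun c e => by
      have h := ((tendsto_const_nhds (x := (16 : ℝ))).add (tendsto_const_div_atTop_nhds_zero_nat c)).add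
        ((tendsto_const_div_atTop_nhds_zero_nat e).div_atTop tendsto_natCast_atTop_atTop)
      simpa using h
    refine tendsto_of_tendsto_of_tendsto_of_le_of_le' (hlim (-24) 8) (hlim 8 0) ?_ ?_
    · filter_upwards [eventually_ge_atTop 1] with m hm
      obtain ⟨j, rfl⟩ : ∃ j, m = j + 1 := ⟨m - 1, by omega⟩
      have h := (Nat.cast_le (α := ℝ)).2 (hb j).1
      push_cast at h ⊢
      rw [le_div_iff₀ (by positivity)]
      field_simp
      nlinarith [h]
    · filter_upwards [eventually_ge_atTop 1] with m hm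
      obtain ⟨j, rfl⟩ : ∃ j, m = j + 1 := ⟨m - 1, by omega⟩
      have h := (Nat.cast_le (α := ℝ)).2 (hb j).2
      push_cast at h ⊢
      rw [div_le_iff₀ (by positivity)]
      field_simp
      nlinarith [h]

end Groth.Agent.S19207
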