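import Groth.Statements.S19208
import Groth.Agent.S3405
import Mathlib.Analysis.Polynomial.Basic

set_option autoImplicit false
universe u
open Filter
open LocAlg

namespace Groth.Agent.S19208

/-- Let O be a Noetherian local ring of Krull dimension r containing a field, with maximal ideal m. The
zeroth flat multiplicity e_0(O), the supremum over m-primary ideals I of e(I)/(r!·length(O/I)) with
e(I) the Samuel multiplicity, is at least 1: for every ε > 0 there is an m-primary ideal I (I ⊆ m,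
m^N ⊆ I for some N) whose multiplicity e(I), the limit of r!·length(O/I^n)/n^r, satisfies e(I) ≥ (1
− ε)·r!·length(O/I). (The same statement for the power-series rings O[[t_1, …, t_k]] is the bound
e_k(O) ≥ 1 for the k-th flat multiplicity.) -/
theorem result (O : Type u) [CommRing O] [IsNoetherianRing O]
    [IsLocalRing O] (K : Type u) [Field K] [Algebra K O] (r : ℕ) (hr : ringKrullDim O = r)
    (ε : ℝ) (hε : 0 < ε) :
    ∃ (I : Ideal O) (e : ℝ), I ≤ IsLocalRing.maximalIdeal O ∧
      (∃ N : ℕ, IsLocalRing.maximalIdeal O ^ N ≤ I) ∧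
      Tendsto (fun n : ℕ => (r.factorial : ℝ) * ((Module.length O (O ⧸ I ^ n)).toNat : ℝ) / (n : ℝ) ^ r)
        atTop (nhds e) ∧
      (1 - ε) * ((r.factorial : ℝ) * ((Module.length O (O ⧸ I)).toNat : ℝ)) ≤ e := by
  obtain ⟨P, ⟨N0, hN0⟩, hdeg⟩ := Groth.Agent.S3405.result O O
  rw [Module.supportDim_self_eq_ringKrullDim, hr] at hdeg
  have hdeg' : P.natDegree = r := by exact_mod_cast hdeg
  set m := IsLocalRing.maximalIdeal O with hm
  have hjac : Ring.jacobson O = m := IsLocalRing.ringJacobson_eq_maximalIdeal O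
  have hev : ∀ n, N0 ≤ n → ((Module.length O (O ⧸ m ^ n)).toNat : ℝ) = ((P.map (algebraMap ℚ ℝ)).eval (n : ℝ)) := by
    intro n hn
    obtain ⟨ℓ, h1, h2⟩ := hN0 n hn
    rw [hjac] at h1
    have he : ((m ^ n : Ideal O) • (⊤ : Submodule O O)) = m ^ n := by rw [smul_eq_mul, Ideal.mul_top]
    rw [he] at h1
    rw [h1]
    simp only [ENat.toNat_coe]
    rw [show (n : ℝ) = algebraMap ℚ ℝ (n : ℚ) by simp, Polynomial.eval_map, Polynomial.eval₂_at_apply, ← h2]
    simp
  set Q := P.map (algebraMap ℚ ℝ) with hQ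
  have hQd : Q.natDegree = r := by rw [hQ, Polynomial.natDegree_map]; exact hdeg'
  have hQ0 : Q ≠ 0 := by
    intro h
    have h1 := hev (N0 + 1) (by omega)
    rw [h, Polynomial.eval_zero, Nat.cast_eq_zero] at h1
    obtain ⟨ℓ, h2, -⟩ := hN0 (N0 + 1) (by omega)
    rw [hjac, show ((m ^ (N0 + 1) : Ideal O) • (⊤ : Submodule O O)) = m ^ (N0 + 1) by rw [smul_eq_mul, Ideal.mul_top]] at h2
    rw [h2, ENat.toNat_coe] at h1
    rw [h1, Nat.cast_zero, Module.length_eq_zero_iff, Ideal.Quotient.subsingleton_iff, Ideal.pow_eq_top_iff] at h2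
    exact (IsLocalRing.maximalIdeal.isMaximal O).ne_top (h2.resolve_right (by omega))
  have hlim : Tendsto (fun n : ℕ => (r.factorial : ℝ) * ((Module.length O (O ⧸ m ^ n)).toNat : ℝ) / (n : ℝ) ^ r)
      atTop (nhds ((r.factorial : ℝ) * Q.leadingCoeff)) := by
    have h := (Polynomial.div_tendsto_leadingCoeff_div_of_degree_eq Q (Polynomial.X ^ r) (by
      rw [Polynomial.degree_X_pow, Polynomial.degree_eq_natDegree hQ0, hQd])).comp tendsto_natCast_atTop_atTop
    rw [Polynomial.leadingCoeff_X_pow, div_one] at h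
    refine (h.const_mul (r.factorial : ℝ)).congr' ?_
    filter_upwards [eventually_ge_atTop N0] with n hn
    simp only [Function.comp_apply, Polynomial.eval_pow, Polynomial.eval_X, hev n hn, mul_div_assoc]
  set e1 := (r.factorial : ℝ) * Q.leadingCoeff with he1
  have he0 : 0 < e1 := by
    refine lt_of_le_of_ne (ge_of_tendsto' hlim fun n => by positivity) ?_
    exact (mul_ne_zero (Nat.cast_ne_zero.2 r.factorial_ne_zero) (Polynomial.leadingCoeff_ne_zero.2 hQ0)).symm
  -- a large power of the maximal ideal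
  obtain ⟨n, hn1, hn⟩ : ∃ n : ℕ, 1 ≤ n ∧
      (1 - ε) * ((r.factorial : ℝ) * ((Module.length O (O ⧸ m ^ n)).toNat : ℝ) / (n : ℝ) ^ r) ≤ e1 := by
    have h := hlim.const_mul (1 - ε)
    have hlt : (1 - ε) * e1 < e1 := by nlinarith
    obtain ⟨n, hn⟩ := ((h.eventually (gt_mem_nhds hlt)).and (eventually_ge_atTop 1)).exists
    exact ⟨n, hn.2, hn.1.le⟩
  refine ⟨m ^ n, (n : ℝ) ^ r * e1, Ideal.pow_le_self (by omega), ⟨n, le_rfl⟩, ?_, ?_⟩
  · have h := (hlim.comp (tendsto_id.const_mul_atTop' (show 0 < n by omega))).const_mul ((n : ℝ) ^ r)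
    refine h.congr' ?_
    filter_upwards [eventually_ge_atTop 1] with j hj
    simp only [Function.comp_apply, id, ← pow_mul]
    have : (n : ℝ) ≠ 0 := Nat.cast_ne_zero.2 (by omega)
    push_cast
    field_simp
    rw [← pow_mul]
    ring
  · have hnr : (0 : ℝ) < (n : ℝ) ^ r := pow_pos (Nat.cast_pos.2 (by omega)) r
    rw [mul_div_assoc', div_le_iff₀ hnr] at hn
    linarith [hn]

end Groth.Agent.S19208
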