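import Groth.Statements.S19221
import Mathlib.LinearAlgebra.ExteriorAlgebra.OfAlternating
import Mathlib.LinearAlgebra.Matrix.Determinant.Basic

set_option autoImplicit false
universe u
open SymRep

namespace Groth.Agent.S19221

theorem pairs_comm {k : Type u} [CommRing k] {V : Type u} [AddCommGroup V] [Module k V] (a0 a1 b0 b1 : V) :
    ExteriorAlgebra.ι k a0 * ExteriorAlgebra.ι k a1 * ExteriorAlgebra.ι k b0 * ExteriorAlgebra.ι k b1 =
      ExteriorAlgebra.ι k b0 * ExteriorAlgebra.ι k b1 * ExteriorAlgebra.ι k a0 * ExteriorAlgebra.ι k a1 := by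
  have c : ∀ (x y : V) (w : ExteriorAlgebra k V),
      ExteriorAlgebra.ι k x * (ExteriorAlgebra.ι k y * w) = -(ExteriorAlgebra.ι k y * (ExteriorAlgebra.ι k x * w)) :=
    fun x y w => by rw [← mul_assoc, eq_neg_of_add_eq_zero_left (ExteriorAlgebra.ι_add_mul_swap x y), neg_mul, mul_assoc]
  rw [← mul_one (ExteriorAlgebra.ι k b1), ← mul_one (ExteriorAlgebra.ι k a1)]
  simp only [mul_assoc]
  simp only [one_mul, mul_one]
  rw [show ExteriorAlgebra.ι k a1 * (ExteriorAlgebra.ι k b0 * ExteriorAlgebra.ι k b1) =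
    ExteriorAlgebra.ι k b0 * (ExteriorAlgebra.ι k b1 * ExteriorAlgebra.ι k a1) by
      rw [c a1 b0, eq_neg_of_add_eq_zero_left (ExteriorAlgebra.ι_add_mul_swap a1 b1), mul_neg, neg_neg]]
  rw [c a0 b0, c a0 b1, mul_neg, neg_neg]

/-- Integer cycle coordinates. -/
def zI (c : Fin 2) (i j l : Fin 4) (c' : Fin 2) (a b : Fin 4) : ℤ :=
  if c' = c then
    ((if a = i ∧ b = j then 1 else 0) + (if a = j ∧ b = l then 1 else 0) + (if a = l ∧ b = i then 1 else 0)
      - (if a = j ∧ b = i then 1 else 0) - (if a = l ∧ b = j then 1 else 0) - (if a = i ∧ b = l then 1 else 0))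
  else 0

/-- The coordinate matrices. -/
def Mz (σ : Equiv.Perm (Fin 4)) : Matrix (Fin 4) (Fin 4) ℤ :=
  fun r s =>
    let v : Fin 2 → Fin 4 → Fin 4 → ℤ := match r with
      | 0 => zI 0 (σ 0) (σ 1) (σ 2) | 1 => zI 1 (σ 0) (σ 1) (σ 2)
      | 2 => zI 0 (σ 0) (σ 2) (σ 3) | 3 => zI 1 (σ 0) (σ 2) (σ 3)
    match s with
      | 0 => v 0 1 2 | 1 => v 0 2 3 | 2 => v 1 1 2 | 3 => v 1 2 3

theorem sum_det : ∑ σ : Equiv.Perm (Fin 4), (Mz σ).det = -12 := by decide +kernel

/-- Let k be a field of characteristic zero and F the k-space of functions Fin 2 → Fin 4 → Fin 4 → k,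
with the symmetric group of Fin 4 acting through P σ f c a b = f c (σ⁻¹ a) (σ⁻¹ b). The signed edge
vectors of the complete graph on four vertices live in F as the functions antisymmetric in the two
vertex arguments, and for a colour c and an oriented 3-cycle i → j → l → i the cycle vector z c i j
l is the function equal, in colour c, to +1 at (i,j), (j,l), (l,i), to −1 at (j,i), (l,j), (i,l) and
to 0 elsewhere (and 0 in the other colour); these cycle vectors span k² ⊗ (cycle space), the
representation written C² ⊗ q in the published text. Let Γ be the graph with edges 01, 02, 03, 12,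
23 (a 4-cycle with one chord), whose cycle space is spanned by the cycles (0,1,2) and (0,2,3), and
let ω be the product in the exterior algebra of F of the four vectors z 0 0 1 2, z 1 0 1 2, z 0 0 2
3, z 1 0 2 3 (a generator of the top exterior power of k² ⊗ q_Γ). Then ω is fixed by the stabiliser
of Γ in the symmetric group (generated by the transpositions (0 2) and (1 3)), and the sum over all
24 permutations σ of the images of ω under the maps induced by P σ is nonzero: the projection of ω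
to the invariants of the fourth exterior power of k² ⊗ q_{K₄} does not vanish. (The published
statement is over the complex numbers; a field of characteristic zero is used here. The published
statement also asserts that this map is an isomorphism onto the one-dimensional space of
S₄-invariants of the fourth exterior power of k² ⊗ q_{K₄}; only its non-vanishing is stated here.) -/
theorem result (k : Type u) [Field k] [CharZero k]
    (P : Equiv.Perm (Fin 4) → ((Fin 2 → Fin 4 → Fin 4 → k) →ₗ[k] (Fin 2 → Fin 4 → Fin 4 → k)))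
    (hP : ∀ (σ : Equiv.Perm (Fin 4)) (f : Fin 2 → Fin 4 → Fin 4 → k) (c : Fin 2) (a b : Fin 4),
      P σ f c a b = f c (σ.symm a) (σ.symm b))
    (z : Fin 2 → Fin 4 → Fin 4 → Fin 4 → (Fin 2 → Fin 4 → Fin 4 → k))
    (hz : ∀ (c : Fin 2) (i j l : Fin 4) (c' : Fin 2) (a b : Fin 4), z c i j l c' a b =
      if c' = c then
        ((if a = i ∧ b = j then 1 else 0) + (if a = j ∧ b = l then 1 else 0) + (if a = l ∧ b = i then 1 else 0)
          - (if a = j ∧ b = i then 1 else 0) - (if a = l ∧ b = j then 1 else 0) - (if a = i ∧ b = l then 1 else 0))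
      else 0)
    (ω : ExteriorAlgebra k (Fin 2 → Fin 4 → Fin 4 → k))
    (hω : ω = ExteriorAlgebra.ι k (z 0 0 1 2) * ExteriorAlgebra.ι k (z 1 0 1 2) *
      ExteriorAlgebra.ι k (z 0 0 2 3) * ExteriorAlgebra.ι k (z 1 0 2 3)) :
    ExteriorAlgebra.map (P (Equiv.swap 0 2)) ω = ω ∧
    ExteriorAlgebra.map (P (Equiv.swap 1 3)) ω = ω ∧
    (∑ σ : Equiv.Perm (Fin 4), ExteriorAlgebra.map (P σ) ω) ≠ 0 := by
  classical
  have hPz : ∀ (σ : Equiv.Perm (Fin 4)) (c : Fin 2) (i j l : Fin 4), P σ (z c i j l) = z c (σ i) (σ j) (σ l) := by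
    intro σ c i j l
    funext c' a b
    simp only [hP, hz, Equiv.symm_apply_eq]
  have hrot : ∀ (c : Fin 2) (i j l : Fin 4), z c i j l = z c j l i := by
    intro c i j l
    funext c' a b
    simp only [hz]
    split <;> ring
  have hrev : ∀ (c : Fin 2) (i j l : Fin 4), z c i j l = -z c l j i := by
    intro c i j l
    funext c' a b
    simp only [hz, Pi.neg_apply]
    split <;> ring
  have hac : ∀ x y : Fin 2 → Fin 4 → Fin 4 → k,
      ExteriorAlgebra.ι k x * ExteriorAlgebra.ι k y = -(ExteriorAlgebra.ι k y * ExteriorAlgebra.ι k x) := fun x y =>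
    eq_neg_of_add_eq_zero_left (ExteriorAlgebra.ι_add_mul_swap x y)
  have hmap : ∀ σ : Equiv.Perm (Fin 4), ExteriorAlgebra.map (P σ) ω =
      ExteriorAlgebra.ι k (z 0 (σ 0) (σ 1) (σ 2)) * ExteriorAlgebra.ι k (z 1 (σ 0) (σ 1) (σ 2)) *
      ExteriorAlgebra.ι k (z 0 (σ 0) (σ 2) (σ 3)) * ExteriorAlgebra.ι k (z 1 (σ 0) (σ 2) (σ 3)) := fun σ => by
    simp only [hω, map_mul, ExteriorAlgebra.map_apply_ι, hPz]
  refine ⟨?_, ?_, fun h => ?_⟩
  · rw [hmap, hω]
    have e1 : ∀ c, z c 2 1 0 = -z c 0 1 2 := fun c => hrev c 2 1 0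
    have e2 : ∀ c, z c 2 0 3 = -z c 0 2 3 := fun c => by rw [hrev c 2 0 3, hrot c 3 0 2]
    simp [Equiv.swap_apply_def, e1, e2]
  · rw [hmap, hω]
    have e1 : ∀ c, z c 0 3 2 = -z c 0 2 3 := fun c => by rw [hrev c 0 3 2, hrot c 2 3 0, hrot c 3 0 2]
    have e2 : ∀ c, z c 0 2 1 = -z c 0 1 2 := fun c => by rw [hrev c 0 2 1, hrot c 1 2 0, hrot c 2 0 1]
    simp only [Equiv.swap_apply_def, Fin.reduceEq, if_true, if_false, e1, e2, map_neg, neg_mul, mul_neg, neg_neg]
    exact (pairs_comm _ _ _ _).symm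
  · let φ : (Fin 2 → Fin 4 → Fin 4 → k) →ₗ[k] (Fin 4 → k) :=
      { toFun := fun f => ![f 0 1 2, f 0 2 3, f 1 1 2, f 1 2 3]
        map_add' := fun f g => by funext i; fin_cases i <;> simp
        map_smul' := fun r f => by funext i; fin_cases i <;> simp }
    let F : ∀ i, (Fin 2 → Fin 4 → Fin 4 → k) [⋀^Fin i]→ₗ[k] k :=
      Function.update 0 4 ((Matrix.detRowAlternating : (Fin 4 → k) [⋀^Fin 4]→ₗ[k] k).compLinearMap φ)
    have hΛ : ∀ σ : Equiv.Perm (Fin 4), ExteriorAlgebra.liftAlternating F (ExteriorAlgebra.map (P σ) ω) =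
        ((Mz σ).det : k) := by
      intro σ
      have hprod : ExteriorAlgebra.map (P σ) ω = ExteriorAlgebra.ιMulti k 4 (fun i : Fin 4 => match i with
          | 0 => z 0 (σ 0) (σ 1) (σ 2) | 1 => z 1 (σ 0) (σ 1) (σ 2)
          | 2 => z 0 (σ 0) (σ 2) (σ 3) | 3 => z 1 (σ 0) (σ 2) (σ 3)) := by
        rw [hmap, ExteriorAlgebra.ιMulti_apply]
        simp [List.ofFn_succ, mul_assoc]
      rw [hprod, ExteriorAlgebra.liftAlternating_apply_ιMulti]
      simp only [F, Function.update_self, AlternatingMap.compLinearMap_apply]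
      rw [show ((Mz σ).det : k) = Int.castRingHom k (Mz σ).det from rfl, RingHom.map_det]
      show Matrix.det _ = Matrix.det _
      congr 1
      funext i j
      fin_cases i <;> fin_cases j <;> simp [φ, Mz, zI, hz]
    have h1 := congrArg (ExteriorAlgebra.liftAlternating F) h
    rw [map_sum, map_zero] at h1
    simp only [hΛ] at h1
    rw [← Int.cast_sum, sum_det] at h1
    norm_num at h1

end Groth.Agent.S19221
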