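import Groth.Statements.S19223
import Mathlib
import Groth.Agent.GpCohX.UniqDiv

set_option autoImplicit false
attribute [-instance] CategoryTheory.catToReflQuiver
attribute [local instance] Units.mulDistribMulActionRight
open GalCoh CategoryTheory CategoryTheory.Limits

namespace Groth.Agent.S19223

/-- For a strictly henselian local ring R whose residue field k has characteristic p ≥ 0, and a finite
group G of order prime to p acting on R by ring automorphisms (hence on the unit groups R^× and
k^×), consider the homomorphism H^n(G, R^×) → H^n(G, k^×) induced by the reduction map. It is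
bijective for every n ≥ 2; it is also bijective for n = 1 provided that p = 0 or the only p-power
root of unity in R is 1. (The reduction map on cohomology is pinned by its values on units; groups,
rings and modules are taken in the lowest universe, as integral coefficients in the group-cohomology
library require.) -/
theorem result (R : Type) [CommRing R]
    [HenselianLocalRing R] [IsSepClosed (IsLocalRing.ResidueField R)] (p : ℕ) [CharP (IsLocalRing.ResidueField R) p]
    (G : Type) [Group G] [Finite G] [MulSemiringAction G R] (hp : ¬ p ∣ Nat.card G)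
    (φ : Rep.ofMulDistribMulAction G Rˣ ⟶ Rep.ofMulDistribMulAction G (IsLocalRing.ResidueField R)ˣ)
    (hφ : ∀ x : Rˣ, Additive.toMul (φ.hom (Additive.ofMul x)) = Units.map (IsLocalRing.residue R).toMonoidHom x)
    (n : ℕ) (hn : 1 ≤ n) (h1 : n = 1 → p ≠ 0 → ∀ (ζ : Rˣ) (m : ℕ), ζ ^ p ^ m = 1 → ζ = 1) :
    Function.Bijective ((groupCohomology.functor ℤ G n).map φ).hom := by
  obtain ⟨n, rfl⟩ : ∃ m, n = m + 1 := ⟨n - 1, by omega⟩
  have hsurj : Function.Surjective φ.hom := fun y => by
    obtain ⟨r, hr⟩ := Ideal.Quotient.mk_surjective (I := IsLocalRing.maximalIdeal R) (Additive.toMul y : _ˣ).val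
    have hru : IsUnit r := isUnit_of_map_unit (IsLocalRing.residue R) r (by rw [show IsLocalRing.residue R r = _ from hr]; exact Units.isUnit _)
    exact ⟨Additive.ofMul hru.unit, Additive.toMul.injective (Units.ext ((congrArg Units.val (hφ hru.unit)).trans hr))⟩
  set X : ShortComplex (Rep ℤ G) := ShortComplex.mk (kernel.ι φ) φ (kernel.condition φ)
  have hX : X.ShortExact :=
    { exact := X.exact_of_f_is_kernel (kernelIsKernel φ)
      mono_f := inferInstanceAs (Mono (kernel.ι φ))
      epi_g := (Rep.epi_iff_surjective φ).2 hsurj }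
  have hN : IsUnit ((Nat.card G : ℕ) : R) := isUnit_of_map_unit (IsLocalRing.residue R) _ (by
    rw [map_natCast]
    exact Ne.isUnit fun h => hp ((CharP.cast_eq_zero_iff (IsLocalRing.ResidueField R) p _).1 h))
  have huniq : ∀ x : R, x ^ Nat.card G = 1 → IsLocalRing.residue R x = 1 → x = 1 := fun x h h' => by
    have hs : IsUnit (∑ i ∈ Finset.range (Nat.card G), x ^ i) :=
      isUnit_of_map_unit (IsLocalRing.residue R) _ (by simpa [map_sum, h'] using hN.map (IsLocalRing.residue R))
    have := geom_sum_mul x (Nat.card G)
    rw [h, sub_self] at this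
    exact sub_eq_zero.1 ((hs.mul_right_eq_zero).1 this)
  have hroot : ∀ y : R, IsLocalRing.residue R y = 1 →
      ∃ x : R, x ^ Nat.card G = y ∧ IsLocalRing.residue R x = 1 := fun y hy => by
    obtain ⟨a, ha, ha'⟩ := HenselianLocalRing.is_henselian (Polynomial.X ^ Nat.card G - Polynomial.C y)
      (Polynomial.monic_X_pow_sub_C _ Nat.card_pos.ne') 1
      (by rw [← IsLocalRing.residue_eq_zero_iff]; simp [hy])
      (by simpa [Polynomial.derivative_X_pow] using hN)
    refine ⟨a, sub_eq_zero.1 (by simpa using ha), ?_⟩
    rw [← IsLocalRing.residue_eq_zero_iff, map_sub, map_one, sub_eq_zero] at ha'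
    exact ha'
  have hinj : Function.Injective (kernel.ι φ).hom := (Rep.mono_iff_injective _).1 inferInstance
  have hmem : ∀ z : Rep.ofMulDistribMulAction G Rˣ, φ.hom z = 0 ↔ IsLocalRing.residue R (Additive.toMul z : Rˣ) = 1 := fun z => by
    have h2 : ((Additive.toMul (φ.hom z) : (IsLocalRing.ResidueField R)ˣ) : IsLocalRing.ResidueField R) =
        IsLocalRing.residue R (Additive.toMul z : Rˣ) :=
      congrArg Units.val (hφ (Additive.toMul z))
    constructor
    · intro h
      exact h2.symm.trans (congrArg (fun t : Rep.ofMulDistribMulAction G (IsLocalRing.ResidueField R)ˣ =>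
        ((Additive.toMul t : (IsLocalRing.ResidueField R)ˣ) : IsLocalRing.ResidueField R)) h)
    · intro h
      exact Additive.toMul.injective (Units.ext (h2.trans h))
  have hcond : ∀ a, φ.hom ((kernel.ι φ).hom a) = 0 := fun a =>
    congrArg (fun f : kernel φ ⟶ Rep.ofMulDistribMulAction G (IsLocalRing.ResidueField R)ˣ => f.hom a) (kernel.condition φ)
  have hK : Function.Bijective (fun a : X.X₁ => Nat.card G • a) := by
    have hex := Groth.Agent.GpCohX.exists_of_exact hX.exact
    constructor
    · intro a b hab
      rw [← sub_eq_zero]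
      refine hinj ((Additive.toMul.injective (Units.ext ?_)).trans (map_zero _).symm)
      refine huniq _ ?_ ((hmem _).1 (hcond _))
      have h0 : Nat.card G • (kernel.ι φ).hom (a - b) = 0 := by
        rw [← map_nsmul, smul_sub]
        simp only at hab
        rw [hab, sub_self, map_zero]
      exact congrArg (fun t => ((Additive.toMul t : Rˣ) : R)) h0
    · intro b
      obtain ⟨x, hx, hx'⟩ := hroot _ ((hmem _).1 (hcond b))
      have hxu : IsUnit x := isUnit_of_map_unit (IsLocalRing.residue R) _ (by rw [hx']; exact isUnit_one)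
      obtain ⟨a, ha⟩ := hex (Additive.ofMul hxu.unit) ((hmem (Additive.ofMul hxu.unit)).2 hx')
      refine ⟨a, hinj ?_⟩
      change (kernel.ι φ).hom (Nat.card G • a) = _
      rw [map_nsmul]
      exact (congrArg (Nat.card G • ·) ha).trans (Additive.toMul.injective (Units.ext hx))
  have hK0 := fun {i : ℕ} (hi : 0 < i) => Groth.Agent.GpCohX.subsingleton_of_bij X.X₁ hK hi
  have he2 := groupCohomology.mapShortComplex₂_exact hX (n + 1)
  have he3 := groupCohomology.mapShortComplex₃_exact hX (i := n + 1) (j := n + 2) rfl
  rw [ShortComplex.moduleCat_exact_iff] at he2 he3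
  refine ⟨(injective_iff_map_eq_zero _).2 fun z hz => ?_, fun z => ?_⟩
  · obtain ⟨w, rfl⟩ := he2 z hz
    rw [@Subsingleton.elim _ (hK0 (i := n + 1) (by omega)) w 0]
    exact map_zero _
  · have := hK0 (i := n + 2) (by omega)
    obtain ⟨w, hw⟩ := he3 z (@Subsingleton.elim _ (hK0 (i := n + 2) (by omega)) _ _)
    exact ⟨w, hw⟩

end Groth.Agent.S19223
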