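import Groth.Statements.S19243
import Groth.Agent.TowerLib.InjTower
import Groth.Agent.SiteBase.DerivedKernel
import Groth.Agent.SiteBase.ModKill
import Groth.Agent.SiteBase.HKRep
import Groth.Agent.SiteBase.Cohom

set_option autoImplicit false
universe u
open CohTop

namespace Groth.Agent.S19243

section Aux

open CategoryTheory CategoryTheory.Limits TopologicalSpace Opposite
open Groth.Agent

variable {X : TopCat.{u}} {R : Sheaf (Opens.grothendieckTopology X) RingCat.{u}}

/-- Sections over an open. -/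
noncomputable abbrev secU (R : Sheaf (Opens.grothendieckTopology X) RingCat.{u}) (U : Opens X) :
    SheafOfModules.{u} R ⥤ AddCommGrpCat.{u} :=
  SheafOfModules.toSheaf R ⋙
    (sheafSections (Opens.grothendieckTopology X) AddCommGrpCat.{u}).obj (op U)

instance (U : Opens X) : PreservesLimitsOfShape ℕᵒᵖ (secU R U) :=
  inferInstanceAs (PreservesLimitsOfShape ℕᵒᵖ (SheafOfModules.forget R ⋙
    PresheafOfModules.toPresheaf R.obj ⋙ (evaluation _ _).obj (op U)))

/-- Acyclicity on a basis. -/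
def Acyc (B : Set (Opens X)) (E : ℕᵒᵖ ⥤ SheafOfModules.{u} R) : Prop :=
  ∀ U ∈ B, ∀ (n i : ℕ), 1 ≤ i →
    Subsingleton (CohTop.HU ((SheafOfModules.toSheaf R).obj (E.obj (op n))) i U)

/-- Mittag-Leffler on a basis. -/
def ML (B : Set (Opens X)) (E : ℕᵒᵖ ⥤ SheafOfModules.{u} R) : Prop :=
  ∀ U ∈ B, (E ⋙ SheafOfModules.toSheaf R ⋙
    (sheafSections (Opens.grothendieckTopology X) AddCommGrpCat.{u}).obj (op U) ⋙
      forget AddCommGrpCat.{u}).IsMittagLeffler

variable {S : ShortComplex (ℕᵒᵖ ⥤ SheafOfModules.{u} R)}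

lemma shortExact_ab (hS : S.ShortExact) (n : ℕ) :
    ((S.map ((evaluation _ _).obj (op n))).map (SheafOfModules.toSheaf R)).ShortExact :=
  (hS.map_of_exact _).map_of_exact _

lemma acyclic_inj {T : ℕᵒᵖ ⥤ SheafOfModules.{u} R} (hT : Injective T) (U : Opens X) (n q : ℕ) :
    Subsingleton (CohTop.HU ((SheafOfModules.toSheaf R).obj (T.obj (op n))) (q + 1) U) :=
  haveI := TowerLib.injective_obj T n
  SiteBase.subsingleton_HU_of_totallyAcyclic
    (SiteBase.isTotallyAcyclic_toSheaf_injective R (T.obj (op n))) U q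

lemma acyc_X₃ {B : Set (Opens X)} (hS : S.ShortExact) (hI : Injective S.X₂) (h : Acyc B S.X₁) :
    Acyc B S.X₃ := by
  intro U hU n i hi
  obtain ⟨i, rfl⟩ := Nat.exists_eq_add_of_le' hi
  exact SiteBase.subsingleton_HU_X₃ (shortExact_ab hS n) U (i + 1)
    (h U hU n (i + 2) (by omega)) (acyclic_inj hI U n i)

lemma surjective_g {B : Set (Opens X)} (hS : S.ShortExact) (h : Acyc B S.X₁)
    {U : Opens X} (hU : U ∈ B) (n : ℕ) :
    Function.Surjective ((secU R U).map (S.g.app (op n))) :=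
  SiteBase.surjective_sections_of_HU_one (shortExact_ab hS n) U (h U hU n 1 le_rfl)

lemma ml_X₃ {B : Set (Opens X)} (hS : S.ShortExact) (hI : Injective S.X₂) (h : Acyc B S.X₁) :
    ML B S.X₃ := by
  intro U hU
  refine Functor.isMittagLeffler_of_surjective _ fun {i j} f => ?_
  obtain ⟨i⟩ := i
  obtain ⟨j⟩ := j
  intro y
  obtain ⟨x, hx⟩ := surjective_g hS h hU j y
  have hle : j ≤ i := leOfHom f.unop
  obtain ⟨s, hs⟩ := TowerLib.exists_section S.X₂ hle
  refine ⟨(secU R U).map (S.g.app (op i)) ((secU R U).map s x), ?_⟩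
  show (secU R U).map (S.X₃.map f) _ = y
  rw [Subsingleton.elim f (homOfLE hle).op, ← ConcreteCategory.comp_apply, ← Functor.map_comp,
    ← ConcreteCategory.comp_apply, ← Functor.map_comp, ← S.g.naturality, reassoc_of% hs]
  exact hx

lemma exact_sections (hS : S.ShortExact) (U : Opens X) (n : ℕ)
    (x : (secU R U).obj (S.X₂.obj (op n))) (hx : (secU R U).map (S.g.app (op n)) x = 0) :
    ∃ e, (secU R U).map (S.f.app (op n)) e = x := by
  have h := shortExact_ab hS n
  exact (ShortComplex.ab_exact_iff _).1 (h.exact.map_of_mono_of_preservesKernel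
    (sheafToPresheaf _ _ ⋙ (evaluation _ _).obj (op U)) h.mono_f inferInstance) x hx

lemma f_g_sections (U : Opens X) (n : ℕ) (e : (secU R U).obj (S.X₁.obj (op n))) :
    (secU R U).map (S.g.app (op n)) ((secU R U).map (S.f.app (op n)) e) = 0 := by
  rw [← ConcreteCategory.comp_apply, ← Functor.map_comp, ← NatTrans.comp_app, S.zero]
  rfl

lemma map_map_sec (T : ℕᵒᵖ ⥤ SheafOfModules.{u} R) (U : Opens X) {a b c : ℕ} (hab : a ≤ b)
    (hbc : b ≤ c) (x : (secU R U).obj (T.obj (op c))) :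
    (secU R U).map (T.map (homOfLE hab).op) ((secU R U).map (T.map (homOfLE hbc).op) x) =
      (secU R U).map (T.map (homOfLE (hab.trans hbc)).op) x := by
  rw [← ConcreteCategory.comp_apply, ← Functor.map_comp, ← Functor.map_comp]
  rfl

lemma exists_lift {B : Set (Opens X)} (hS : S.ShortExact) (h : Acyc B S.X₁) (hML : ML B S.X₁)
    {U : Opens X} (hU : U ∈ B) (s : ∀ n, (secU R U).obj (S.X₃.obj (op n)))
    (hs : ∀ {n m : ℕ} (hnm : n ≤ m), (secU R U).map (S.X₃.map (homOfLE hnm).op) (s m) = s n) :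
    ∃ t : ∀ n, (secU R U).obj (S.X₂.obj (op n)),
      (∀ n, (secU R U).map (S.X₂.map (homOfLE (Nat.le_add_right n 1)).op) (t (n + 1)) = t n) ∧
      ∀ n, (secU R U).map (S.g.app (op n)) (t n) = s n := by
  let F := secU R U
  have hnat : ∀ {n m : ℕ} (hnm : n ≤ m) (b : F.obj (S.X₂.obj (op m))),
      F.map (S.g.app (op n)) (F.map (S.X₂.map (homOfLE hnm).op) b) =
        F.map (S.X₃.map (homOfLE hnm).op) (F.map (S.g.app (op m)) b) := fun hnm b => by
    rw [← ConcreteCategory.comp_apply, ← F.map_comp, S.g.naturality, F.map_comp,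
      ConcreteCategory.comp_apply]
  have hnatf : ∀ {n m : ℕ} (hnm : n ≤ m) (e : F.obj (S.X₁.obj (op m))),
      F.map (S.X₂.map (homOfLE hnm).op) (F.map (S.f.app (op m)) e) =
        F.map (S.f.app (op n)) (F.map (S.X₁.map (homOfLE hnm).op) e) := fun hnm e => by
    rw [← ConcreteCategory.comp_apply, ← F.map_comp, ← S.f.naturality, F.map_comp,
      ConcreteCategory.comp_apply]
  have hst : ∀ n : ℕ, ∃ j, ∃ hj : n ≤ j, ∀ (m : ℕ) (hm : n ≤ m)
      (e : F.obj (S.X₁.obj (op j))), ∃ e' : F.obj (S.X₁.obj (op m)),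
      F.map (S.X₁.map (homOfLE hm).op) e' = F.map (S.X₁.map (homOfLE hj).op) e := fun n => by
    obtain ⟨⟨j⟩, f, hf⟩ := hML U hU (op n)
    exact ⟨j, leOfHom f.unop, fun m hm e => hf (k := op m) (homOfLE hm).op ⟨e, rfl⟩⟩
  choose j hj hstab using hst
  let P : ∀ n, F.obj (S.X₂.obj (op n)) → Prop := fun n y =>
    ∃ b : F.obj (S.X₂.obj (op (j n))), F.map (S.g.app (op (j n))) b = s (j n) ∧
      F.map (S.X₂.map (homOfLE (hj n)).op) b = y
  have hnext : ∀ n (y : {y // P n y}), ∃ y' : {y // P (n + 1) y},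
      F.map (S.X₂.map (homOfLE (Nat.le_add_right n 1)).op) y'.1 = y.1 := by
    intro n ⟨y, b, hb, hby⟩
    let m := max (j n) (j (n + 1))
    have h₁ : j n ≤ m := le_max_left _ _
    have h₂ : j (n + 1) ≤ m := le_max_right _ _
    obtain ⟨c, hc⟩ := surjective_g hS h hU m (s m)
    obtain ⟨e, he⟩ := exact_sections hS U (j n) (b - F.map (S.X₂.map (homOfLE h₁).op) c) (by
      rw [map_sub, hb, hnat, hc, hs, sub_self])
    obtain ⟨e', he'⟩ := hstab n m ((hj n).trans h₁) e
    let c' := c + F.map (S.f.app (op m)) e'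
    refine ⟨⟨F.map (S.X₂.map (homOfLE ((hj (n + 1)).trans h₂)).op) c',
      F.map (S.X₂.map (homOfLE h₂).op) c', ?_, map_map_sec S.X₂ U _ _ c'⟩, ?_⟩
    · rw [hnat, map_add, hc, f_g_sections, add_zero, hs]
    · show F.map (S.X₂.map (homOfLE (Nat.le_add_right n 1)).op) _ = y
      rw [map_map_sec, map_add, hnatf, he', ← hnatf, he, map_sub, map_map_sec, add_sub_cancel]
      exact hby
  choose g hg using hnext
  have h0 : ∃ y, P 0 y := by
    obtain ⟨b, hb⟩ := surjective_g hS h hU (j 0) (s (j 0))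
    exact ⟨_, b, hb, rfl⟩
  let t : ∀ n, {y // P n y} := fun n =>
    Nat.rec (motive := fun n => {y // P n y}) ⟨h0.choose, h0.choose_spec⟩ (fun n y => g n y) n
  refine ⟨fun n => (t n).1, fun n => hg n (t n), fun n => ?_⟩
  obtain ⟨b, hb, hby⟩ := (t n).2
  show F.map (S.g.app (op n)) (t n).1 = _
  rw [← hby, hnat, hb, hs]

lemma exists_limit_section (T : ℕᵒᵖ ⥤ SheafOfModules.{u} R) (U : Opens X)
    (t : ∀ n, (secU R U).obj (T.obj (op n)))
    (ht : ∀ n, (secU R U).map (T.map (homOfLE (Nat.le_add_right n 1)).op) (t (n + 1)) = t n) :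
    ∃ x : (secU R U).obj (limit T), ∀ n, (secU R U).map (limit.π T (op n)) x = t n := by
  let G := secU R U ⋙ forget AddCommGrpCat.{u}
  have h : ∀ m n (h : m ≤ n), G.map (T.map (homOfLE h).op) (t n) = t m := fun m n h => by
    induction n, h using Nat.le_induction with
    | base =>
      rw [Subsingleton.elim (homOfLE le_rfl : m ⟶ m) (𝟙 m), op_id, T.map_id, G.map_id]
      rfl
    | succ n h ih =>
      exact ((map_map_sec T U h (Nat.le_add_right n 1) (t (n + 1))).symm).trans
        ((congrArg _ (ht n)).trans ih)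
  let s : (T ⋙ G).sections := ⟨fun j => t j.unop, fun {i j} f => h j.unop i.unop (leOfHom f.unop)⟩
  obtain ⟨x, hx⟩ : ∃ x, Types.sectionOfCone (G.mapCone (limit.cone T)) x = s :=
    ((Types.isLimit_iff_bijective_sectionOfCone _).1 ⟨isLimitOfPreserves G (limit.isLimit T)⟩).2 s
  exact ⟨x, fun n => congrArg (fun r : (T ⋙ G).sections => r.1 (op n)) hx⟩

lemma section_ext (T : ℕᵒᵖ ⥤ SheafOfModules.{u} R) (U : Opens X)
    {x y : (secU R U).obj (limit T)}
    (h : ∀ n, (secU R U).map (limit.π T (op n)) x = (secU R U).map (limit.π T (op n)) y) : x = y := by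
  let G := secU R U ⋙ forget AddCommGrpCat.{u}
  exact ((Types.isLimit_iff_bijective_sectionOfCone _).1 ⟨isLimitOfPreserves G (limit.isLimit T)⟩).1
    (Subtype.ext (funext fun j => h j.unop))

lemma surjective_limMap {B : Set (Opens X)} (hS : S.ShortExact) (h : Acyc B S.X₁) (hML : ML B S.X₁)
    {U : Opens X} (hU : U ∈ B) : Function.Surjective ((secU R U).map (limMap S.g)) := by
  intro s
  obtain ⟨t, ht, ht'⟩ := exists_lift hS h hML hU
    (fun n => (secU R U).map (limit.π S.X₃ (op n)) s) (fun {n m} hnm => by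
      rw [← ConcreteCategory.comp_apply, ← Functor.map_comp, limit.w])
  obtain ⟨x, hx⟩ := exists_limit_section S.X₂ U t ht
  refine ⟨x, section_ext S.X₃ U fun n => ?_⟩
  rw [← ConcreteCategory.comp_apply, ← Functor.map_comp, limMap_π, Functor.map_comp,
    ConcreteCategory.comp_apply, hx, ht']

lemma epi_limMap {B : Set (Opens X)} (hB : Opens.IsBasis B) (hS : S.ShortExact) (h : Acyc B S.X₁)
    (hML : ML B S.X₁) : Epi (limMap S.g) := by
  have : Sheaf.IsLocallySurjective ((SheafOfModules.toSheaf R).map (limMap S.g)) := by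
    refine ⟨fun {U} s x hx => ?_⟩
    obtain ⟨V, hV, hxV, hVU⟩ := Opens.isBasis_iff_nbhd.1 hB hx
    obtain ⟨t, ht⟩ := surjective_limMap hS h hML hV
      (((SheafOfModules.toSheaf R).obj (limit S.X₃)).obj.map (homOfLE hVU).op s)
    exact ⟨V, homOfLE hVU, ⟨t, ht⟩, hxV⟩
  have := (Sheaf.isLocallySurjective_iff_epi' AddCommGrpCat.{u} ((SheafOfModules.toSheaf R).map (limMap S.g))).1 this
  exact (SheafOfModules.toSheaf R).epi_of_epi_map this

variable [(lim : (ℕᵒᵖ ⥤ SheafOfModules.{u} R) ⥤ SheafOfModules.{u} R).Additive]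
    [HasInjectiveResolutions (ℕᵒᵖ ⥤ SheafOfModules.{u} R)]

instance : EnoughInjectives (ℕᵒᵖ ⥤ SheafOfModules.{u} R) where
  presentation Z := ⟨{
    J := (injectiveResolution Z).cocomplex.X 0
    injective := (injectiveResolution Z).injective 0
    f := (injectiveResolution Z).ι.f 0
    mono := inferInstanceAs (Mono ((injectiveResolution Z).ι.f 0)) }⟩

theorem isZero_one {B : Set (Opens X)} (hB : Opens.IsBasis B)
    (E : ℕᵒᵖ ⥤ SheafOfModules.{u} R) (hE : Acyc B E) (hML : ML B E) :
    IsZero (((lim : (ℕᵒᵖ ⥤ SheafOfModules.{u} R) ⥤ SheafOfModules.{u} R).rightDerived 1).obj E) := by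
  let L : (ℕᵒᵖ ⥤ SheafOfModules.{u} R) ⥤ SheafOfModules.{u} R := lim
  have hs := SiteBase.effSES_shortExact E
  let δ := (SESResLib.derivedLES L).δ (SiteBase.effSES E) hs 0 1 rfl
  have : Epi δ := SiteBase.epi_derivedLES_δ L 0 E
  have hg : Epi (L.map (SiteBase.effSES E).g) := epi_limMap hB hs hE hML
  have : Epi ((L.rightDerived 0).map (SiteBase.effSES E).g) :=
    ((MorphismProperty.epimorphisms _).arrow_mk_iso_iff
      (Arrow.isoMk (L.rightDerivedZeroIsoSelf.app _) (L.rightDerivedZeroIsoSelf.app _)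
        (L.rightDerivedZeroIsoSelf.hom.naturality _).symm)).2 hg
  have h0 : δ = 0 := by
    rw [← cancel_epi ((L.rightDerived 0).map (SiteBase.effSES E).g), comp_zero]
    exact (SESResLib.derivedLES L).comp_δ (SiteBase.effSES E) hs 0 1 rfl
  exact (IsZero.iff_id_eq_zero _).2 ((cancel_epi δ).1 ((congrArg (· ≫ _) h0).trans (zero_comp.trans comp_zero.symm)))

theorem isZero_succ {B : Set (Opens X)} (E : ℕᵒᵖ ⥤ SheafOfModules.{u} R) (hE : Acyc B E) (i : ℕ)
    (ih : ∀ K : ℕᵒᵖ ⥤ SheafOfModules.{u} R, Acyc B K → ML B K →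
      IsZero (((lim : (ℕᵒᵖ ⥤ SheafOfModules.{u} R) ⥤ SheafOfModules.{u} R).rightDerived (i + 1)).obj K)) :
    IsZero (((lim : (ℕᵒᵖ ⥤ SheafOfModules.{u} R) ⥤ SheafOfModules.{u} R).rightDerived (i + 2)).obj E) := by
  let L : (ℕᵒᵖ ⥤ SheafOfModules.{u} R) ⥤ SheafOfModules.{u} R := lim
  have hs := SiteBase.effSES_shortExact E
  let δ := (SESResLib.derivedLES L).δ (SiteBase.effSES E) hs (i + 1) (i + 2) rfl
  have : Epi δ := SiteBase.epi_derivedLES_δ L (i + 1) E
  exact (IsZero.iff_id_eq_zero _).2 ((cancel_epi δ).1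
    ((ih _ (acyc_X₃ hs inferInstance hE) (ml_X₃ hs inferInstance hE)).eq_of_src _ _))

theorem main {B : Set (Opens X)} (hB : Opens.IsBasis B) (i : ℕ) :
    ∀ (E : ℕᵒᵖ ⥤ SheafOfModules.{u} R), Acyc B E → ML B E →
      IsZero (((lim : (ℕᵒᵖ ⥤ SheafOfModules.{u} R) ⥤ SheafOfModules.{u} R).rightDerived (i + 1)).obj E) := by
  induction i with
  | zero => exact isZero_one hB
  | succ i ih => exact fun E hE _ => isZero_succ E hE i ih

end Aux

open CategoryTheory CategoryTheory.Limits TopologicalSpace Opposite in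
/-- Let X be a topological space with a sheaf of (not necessarily commutative) rings R, E = (E_n)_{n ≥
0} an inverse system of R-modules indexed by the natural numbers and B a basis of the topology of X.
Write R^i lim for the i-th right derived functor of the limit functor from ℕ-indexed inverse systems
of R-modules to R-modules (the limit functor is additive and the category of inverse systems has
injective resolutions; both facts are carried as instance hypotheses). (1) If H^i(U, E_n) = 0 for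
every U in B, every n and every i ≥ 1, then R^i lim E = 0 for every i ≥ 2. (2) If in addition, for
every U in B, the inverse system of abelian groups (H^0(U, E_n))_n satisfies the Mittag-Leffler
condition, then R^i lim E = 0 for every i ≥ 1. (The source states this for a ringed space, with a
commutative structure sheaf, and indexes the system by the integers n ≥ 1; commutativity plays no
role.) -/
theorem result
    (X : TopCat.{u}) (R : Sheaf (Opens.grothendieckTopology X) RingCat.{u})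
    [(lim : (ℕᵒᵖ ⥤ SheafOfModules.{u} R) ⥤ SheafOfModules.{u} R).Additive]
    [HasInjectiveResolutions (ℕᵒᵖ ⥤ SheafOfModules.{u} R)]
    (E : ℕᵒᵖ ⥤ SheafOfModules.{u} R) (B : Set (Opens X)) (hB : Opens.IsBasis B)
    (ha : ∀ U ∈ B, ∀ (n i : ℕ), 1 ≤ i →
      Subsingleton (CohTop.HU ((SheafOfModules.toSheaf R).obj (E.obj (op n))) i U)) :
    (∀ i : ℕ, 2 ≤ i →
      IsZero (((lim : (ℕᵒᵖ ⥤ SheafOfModules.{u} R) ⥤ SheafOfModules.{u} R).rightDerived i).obj E)) ∧
    ((∀ U ∈ B, (E ⋙ SheafOfModules.toSheaf R ⋙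
        (sheafSections (Opens.grothendieckTopology X) AddCommGrpCat.{u}).obj (op U) ⋙
          forget AddCommGrpCat.{u}).IsMittagLeffler) →
      ∀ i : ℕ, 1 ≤ i →
        IsZero (((lim : (ℕᵒᵖ ⥤ SheafOfModules.{u} R) ⥤ SheafOfModules.{u} R).rightDerived i).obj E)) := by
  refine ⟨fun i hi => ?_, fun hML i hi => ?_⟩
  · obtain ⟨i, rfl⟩ := Nat.exists_eq_add_of_le' hi
    exact isZero_succ E ha i (main hB i)
  · obtain ⟨i, rfl⟩ := Nat.exists_eq_add_of_le' hi
    exact main hB i E ha hML

end Groth.Agent.S19243
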