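import Groth.Statements.S19244
import Mathlib.CategoryTheory.Abelian.SerreClass.Localization

set_option autoImplicit false
universe v v' u u'
open HomAlg3

namespace Groth.Agent.S19244

open CategoryTheory in
/-- Let A be an abelian category and let P be the class of bounded-torsion objects of A, those X with n
• 𝟙_X = 0 for some nonzero integer n; assume P is a Serre class. Let L : A ⥤ D be an additive
functor to a preadditive category exhibiting D as the localization of A at the morphisms whose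
kernel and cokernel are in P (so D is the quotient category A_ℚ = A ⧸ A_{b-tor}; the source assumes
A well-powered, which guarantees that this quotient exists). Then for all objects X, Y of A: (1) for
every nonzero integer n, multiplication by n is bijective on Hom_D(L X, L Y), so that this group is
naturally a ℚ-vector space; (2) a morphism f : X ⟶ Y satisfies L f = 0 if and only if n • f = 0 for
some nonzero integer n; (3) for every g : L X ⟶ L Y there are a nonzero integer n and f : X ⟶ Y with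
n • g = L f. Equivalently, the natural map Hom_A(X, Y) ⊗_ℤ ℚ → Hom_D(L X, L Y) is an isomorphism. -/
theorem result
    {A : Type u} [Category.{v} A] [Abelian A] {D : Type u'} [Category.{v'} D] [Preadditive D]
    (P : ObjectProperty A) (hP : ∀ X : A, P X ↔ ∃ n : ℤ, n ≠ 0 ∧ n • (𝟙 X) = 0) [P.IsSerreClass]
    (L : A ⥤ D) [L.Additive] [L.IsLocalization P.isoModSerre] (X Y : A) :
    (∀ n : ℤ, n ≠ 0 → Function.Bijective (fun g : L.obj X ⟶ L.obj Y => n • g)) ∧
    (∀ f : X ⟶ Y, L.map f = 0 ↔ ∃ n : ℤ, n ≠ 0 ∧ n • f = 0) ∧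
    (∀ g : L.obj X ⟶ L.obj Y, ∃ (n : ℤ) (f : X ⟶ Y), n ≠ 0 ∧ n • g = L.map f) := by
  classical
  have hsmul : ∀ (Z : A) (n : ℤ), n ≠ 0 → IsIso (L.map (n • 𝟙 Z)) := by
    intro Z n hn
    refine Localization.inverts L P.isoModSerre _ ⟨(hP _).2 ⟨n, hn, ?_⟩, (hP _).2 ⟨n, hn, ?_⟩⟩
    · rw [← cancel_mono (Limits.kernel.ι (n • 𝟙 Z)), Limits.zero_comp, Preadditive.zsmul_comp, Category.id_comp]
      have := Limits.kernel.condition (n • 𝟙 Z)
      rwa [Preadditive.comp_zsmul, Category.comp_id] at this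
    · rw [← cancel_epi (Limits.cokernel.π (n • 𝟙 Z)), Limits.comp_zero, Preadditive.comp_zsmul, Category.comp_id]
      have := Limits.cokernel.condition (n • 𝟙 Z)
      rwa [Preadditive.zsmul_comp, Category.id_comp] at this
  refine ⟨fun n hn => ?_, fun f => ⟨fun hf => ?_, fun ⟨n, hn, hnf⟩ => ?_⟩, fun g => ?_⟩
  · haveI := hsmul X n hn
    have : (fun g : L.obj X ⟶ L.obj Y => n • g) = fun g => L.map (n • 𝟙 X) ≫ g := by
      funext g
      rw [L.map_zsmul, CategoryTheory.Functor.map_id, Preadditive.zsmul_comp, Category.id_comp]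
    rw [this]
    exact ⟨fun a b h => (cancel_epi _).1 h, fun b => ⟨inv (L.map (n • 𝟙 X)) ≫ b, by simp⟩⟩
  · rw [← L.map_zero] at hf
    obtain ⟨Y', s, ⟨hk, -⟩, hfs⟩ :=
      (MorphismProperty.map_eq_iff_postcomp L P.isoModSerre f 0).1 hf
    rw [Limits.zero_comp] at hfs
    obtain ⟨n, hn, hn0⟩ := (hP _).1 hk
    refine ⟨n, hn, ?_⟩
    calc n • f = Limits.kernel.lift s f hfs ≫ (n • 𝟙 _) ≫ Limits.kernel.ι s := by
          simp [Preadditive.zsmul_comp, Preadditive.comp_zsmul]
      _ = 0 := by simp [hn0]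
  · haveI := hsmul X n hn
    rw [← cancel_epi (L.map (n • 𝟙 X)), ← L.map_comp, Preadditive.zsmul_comp, Category.id_comp, hnf,
      L.map_zero, Limits.comp_zero]
  · obtain ⟨φ, hφ⟩ := Localization.exists_rightFraction L P.isoModSerre g
    obtain ⟨⟨n₁, hn₁, h₁⟩, ⟨n₂, hn₂, h₂⟩⟩ := And.intro ((hP _).1 φ.hs.1) ((hP _).1 φ.hs.2)
    let p := Abelian.factorThruImage φ.s
    have hc : (n₂ • 𝟙 X) ≫ Limits.cokernel.π φ.s = 0 := by
      rw [Preadditive.zsmul_comp, Category.id_comp, ← Category.comp_id (Limits.cokernel.π φ.s),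
        ← Preadditive.comp_zsmul, h₂, Limits.comp_zero]
    let t₀ : X ⟶ Abelian.image φ.s := Limits.kernel.lift _ _ hc
    have ht₀ : t₀ ≫ Abelian.image.ι φ.s = n₂ • 𝟙 X := Limits.kernel.lift_ι _ _ _
    have hkp : Limits.kernel.ι p ≫ φ.s = 0 :=
      (congrArg (Limits.kernel.ι p ≫ ·) (Abelian.image.fac φ.s).symm).trans
        ((Limits.kernel.condition_assoc p _).trans Limits.zero_comp)
    have hk : Limits.kernel.ι p ≫ (n₁ • 𝟙 φ.X') = 0 := by
      have e : Limits.kernel.ι p = Limits.kernel.lift φ.s _ hkp ≫ Limits.kernel.ι φ.s := by simp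
      rw [e, Category.assoc, Preadditive.comp_zsmul, Category.comp_id,
        ← Category.id_comp (Limits.kernel.ι φ.s), ← Preadditive.zsmul_comp, h₁]
      simp
    obtain ⟨t₁, ht₁⟩ : ∃ t₁ : Abelian.image φ.s ⟶ φ.X', p ≫ t₁ = n₁ • 𝟙 φ.X' :=
      ⟨Abelian.epiDesc p _ hk, Abelian.comp_epiDesc p _ hk⟩
    have ht₁' : t₁ ≫ p = n₁ • 𝟙 _ := by
      rw [← cancel_epi p, reassoc_of% ht₁, Preadditive.zsmul_comp, Category.id_comp,
        Preadditive.comp_zsmul, Category.comp_id]
    have ht : (t₀ ≫ t₁) ≫ φ.s = (n₁ * n₂) • 𝟙 X := by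
      refine (congrArg ((t₀ ≫ t₁) ≫ ·) (Abelian.image.fac φ.s).symm).trans ?_
      show (t₀ ≫ t₁) ≫ p ≫ Abelian.image.ι φ.s = _
      rw [Category.assoc, reassoc_of% ht₁', Preadditive.zsmul_comp, Category.id_comp, Preadditive.comp_zsmul, ht₀, smul_smul]
    refine ⟨n₁ * n₂, (t₀ ≫ t₁) ≫ φ.f, mul_ne_zero hn₁ hn₂, ?_⟩
    have e : L.map φ.f = L.map φ.s ≫ g := by rw [hφ, MorphismProperty.RightFraction.map_s_comp_map]
    rw [L.map_comp, e, ← Category.assoc, ← L.map_comp, ht, L.map_zsmul,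
      CategoryTheory.Functor.map_id, Preadditive.zsmul_comp, Category.id_comp]

end Groth.Agent.S19244
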