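import Groth.Statements.S19245
import Groth.Agent.SuppFamLib.Derived

set_option autoImplicit false
universe u
open LocCohZ

namespace Groth.Agent.S19245

open Groth.Agent CategoryTheory CategoryTheory.Limits Opposite


open CategoryTheory TopologicalSpace in
/-- Let A be a flasque abelian sheaf on a topological space X and Z = X ∖ U the closed complement of an
open U. Then the sheaf Γ_Z(A) of sections of A supported in Z is flasque. (The source states the
lemma for every family of supports Φ on a Noetherian topological space, where Γ_Φ(A) is the filtered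
union of the Γ_Z(A), Z ∈ Φ; for a single closed Z no Noetherian hypothesis is needed.) -/
theorem result {X : TopCat.{u}} (A : CohTop.Ab X) [TopCat.Sheaf.IsFlasque A]
    (U : Opens X) : TopCat.Sheaf.IsFlasque ((LocCohZ.sectSuppF U).obj A) := by
  constructor
  rintro ⟨W'⟩ ⟨W⟩ i
  rw [AddCommGrpCat.epi_iff_surjective]
  intro t
  let η := (TopCat.Sheaf.pullbackPushforwardAdjunction AddCommGrpCat.{u} (CohCx.incl U)).unit.app A
  let s : A.obj.obj (op W) := ((kernel.ι η).hom.app (op W)).hom t
  have hs : A.obj.map (homOfLE (inf_le_right : U ⊓ W ≤ W)).op s = 0 :=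
    (SuppFamLib.unit_app_eq_zero_iff U A W s).1 ((SuppFamLib.exists_kernel_section_iff η W s).1 ⟨t, rfl⟩)
  have hWW : W ≤ W' := leOfHom i.unop
  let C : Bool → Opens X := fun b => if b then W else U ⊓ W'
  let sf : ∀ b : Bool, A.obj.obj (op (C b)) := fun
    | true => s
    | false => 0
  have hsf : TopCat.Presheaf.IsCompatible A.1 C sf := by
    rintro (_ | _) (_ | _)
    · rfl
    · show A.obj.map _ (0 : A.obj.obj (op (U ⊓ W'))) = A.obj.map (Opens.infLERight (U ⊓ W') W).op s
      rw [map_zero]
      have := congrArg (fun z => A.obj.map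
        (homOfLE (le_inf (inf_le_left.trans inf_le_left) inf_le_right : (U ⊓ W') ⊓ W ≤ U ⊓ W)).op z) hs
      simp only [SuppFamLib.res_res, map_zero] at this
      exact this.symm
    · show A.obj.map (Opens.infLELeft W (U ⊓ W')).op s = A.obj.map _ (0 : A.obj.obj (op (U ⊓ W')))
      rw [map_zero]
      have := congrArg (fun z => A.obj.map
        (homOfLE (le_inf (inf_le_right.trans inf_le_left) inf_le_left : W ⊓ (U ⊓ W') ≤ U ⊓ W)).op z) hs
      simp only [SuppFamLib.res_res, map_zero] at this
      exact this
    · rfl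
  obtain ⟨g, hg, -⟩ := TopCat.Sheaf.existsUnique_gluing' A C (W ⊔ (U ⊓ W'))
    (fun b => homOfLE (by cases b <;> simp [C]))
    (sup_le (le_iSup C true) (le_iSup C false)) sf hsf
  obtain ⟨e, he⟩ := (AddCommGrpCat.epi_iff_surjective _).1
    (TopCat.Presheaf.IsFlasque.epi (F := A.obj) (homOfLE (sup_le hWW inf_le_right)).op) g
  have h0 : A.obj.map (homOfLE (inf_le_right : U ⊓ W' ≤ W')).op e = 0 := by
    have := hg false
    rw [← he, SuppFamLib.res_res] at this
    exact this
  obtain ⟨t', ht'⟩ := (SuppFamLib.exists_kernel_section_iff η W' e).2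
    ((SuppFamLib.unit_app_eq_zero_iff U A W' e).2 h0)
  refine ⟨t', SuppFamLib.kernel_ι_injective η W ?_⟩
  refine (ConcreteCategory.congr_hom ((kernel.ι η).hom.naturality i) t').trans ?_
  refine (congrArg (fun z => (A.obj.map i).hom z) ht').trans ?_
  have := hg true
  rw [← he, SuppFamLib.res_res] at this
  exact this

end Groth.Agent.S19245
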