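import Groth.Statements.S19272
import Groth.Agent.WittFilLib.Fil

set_option autoImplicit false
universe u
open WittFil

namespace Groth.Agent.S19272

/-- Let A be a unique factorisation domain of characteristic p, x_1, …, x_r pairwise non-associate prime
elements of A, B = A[1/(x_1⋯x_r)] with u_i the unit of B defined by x_i, m ≥ 0, and n ∈ ℤ^r with n_i
< 0 for every i. Then every truncated p-typical Witt vector of length m over B lying in the filtered
piece cut out by ∏ u_i ^ n_i (every coordinate y_j has y_j ^ (p ^ (m−1−j)) · ∏ u_i ^ n_i in the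
image of A) has all its coordinates in the image of the ideal (x_1⋯x_r)·A. (The published item,
stated for the filtered de Rham–Witt pieces in all degrees over a regular local ring, says only that
such vectors have all coordinates in A; this row states the divisibility of every coordinate by
x_1⋯x_r that its proof establishes, in degree zero, for a unique factorisation domain in place of a
regular local ring.) -/
theorem result (p : ℕ) [Fact p.Prime] {A B : Type u} [CommRing A] [IsDomain A]
    [UniqueFactorizationMonoid A] [CharP A p] [CommRing B] [Algebra A B] {r : ℕ} (x : Fin r → A)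
    (hx : ∀ i, Prime (x i)) (hxa : ∀ i j, Associated (x i) (x j) → i = j)
    [IsLocalization.Away (∏ i, x i) B] (u : Fin r → Bˣ)
    (hu : ∀ i, (u i : B) = algebraMap A B (x i)) (m : ℕ) (n : Fin r → ℤ) (hn : ∀ i, n i < 0)
    (a : TruncatedWittVector p m B) (ha : a ∈ WittFil.fil p m (A := A) (WittFil.zmon u n))
    (j : Fin m) :
    ∃ b : A, TruncatedWittVector.coeff j a = algebraMap A B ((∏ i, x i) * b) := by
  have hπ : (∏ i, x i) ≠ 0 := Finset.prod_ne_zero_iff.2 fun i _ => (hx i).ne_zero
  obtain ⟨hinj, hroot⟩ := Groth.Agent.WittFilLib.powIn_of_away (B := B) (∏ i, x i) hπ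
  obtain ⟨z, hz⟩ := ha j
  set y := TruncatedWittVector.coeff j a
  set N := p ^ (m - 1 - (j : ℕ))
  have hN : 0 < N := pow_pos (Fact.out (p := p.Prime)).pos _
  obtain ⟨k, hk⟩ : ∃ k : Fin r → ℕ, ∀ i, n i = -((k i : ℤ) + 1) :=
    ⟨fun i => (-n i - 1).toNat, fun i => by have := hn i; simp only; omega⟩
  have hzm : WittFil.zmon u n * algebraMap A B (∏ i, x i ^ (k i + 1)) = 1 := by
    have : algebraMap A B (∏ i, x i ^ (k i + 1)) = ((∏ i, u i ^ (k i + 1) : Bˣ) : B) := by
      simp [map_prod, hu, Units.coe_prod]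
    rw [this, WittFil.zmon, ← Units.val_mul, ← Finset.prod_mul_distrib]
    rw [Finset.prod_eq_one fun i _ => ?_, Units.val_one]
    rw [hk i, zpow_neg, ← zpow_natCast (u i) (k i + 1), Nat.cast_succ, inv_mul_cancel]
  have hyN : y ^ N = algebraMap A B (z * ∏ i, x i ^ (k i + 1)) := by
    rw [map_mul, hz, mul_assoc, hzm, mul_one]
  obtain ⟨c, hc⟩ := hroot y N hN ⟨_, hyN.symm⟩
  have hcN : c ^ N = z * ∏ i, x i ^ (k i + 1) := hinj (by rw [map_pow, hc, hyN])
  have hdvd : ∀ i, x i ∣ c := fun i => (hx i).dvd_of_dvd_pow (n := N) (hcN ▸ dvd_mul_of_dvd_right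
    ((dvd_pow_self (x i) (Nat.succ_ne_zero (k i))).trans (Finset.dvd_prod_of_mem (fun i => x i ^ (k i + 1)) (Finset.mem_univ i))) z)
  obtain ⟨b, rfl⟩ : ∏ i, x i ∣ c := by
    refine Finset.prod_dvd_of_isRelPrime (fun i _ i' _ hne => ?_) (fun i _ => hdvd i)
    exact (hx i).irreducible.isRelPrime_iff_not_dvd.2 fun h => hne (hxa i i' ((hx i).associated_of_dvd (hx i') h))
  exact ⟨b, hc.symm⟩

end Groth.Agent.S19272
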