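import Groth.Statements.S19273
import Mathlib.RingTheory.Etale.Kaehler
import Mathlib.RingTheory.Localization.Module

set_option autoImplicit false
universe u
open CAlg

namespace Groth.Agent.S19273

open KaehlerDifferential in
/-- Let A be an integral domain of prime characteristic p, x_1, …, x_N elements of A, r ≤ N, B =
A[1/(x_1⋯x_r)] with u_i the unit of B defined by x_i for i ≤ r, and suppose that the module Ω_A of
absolute Kähler differentials of A is free with a basis b indexed by {1, …, N} ⊔ ι whose i-th vector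
is d(x_i) for i ≤ N. Then the module of logarithmic 1-forms — the A-submodule of Ω_B spanned by the
image of Ω_A and the forms u_i⁻¹ · d(x_i), i ≤ r — is a free A-module: it has a basis indexed by {1,
…, N} ⊔ ι whose vector at i ≤ r is u_i⁻¹ · d(x_i), at r < i ≤ N is d(x_i), and at k ∈ ι is the image
of b_k. (In the published statement A is a regular local F-finite algebra over the prime field with
maximal ideal (x_1, …, x_N), the basis of Ω_A comes from the preceding lemma, and the assertion
covers the logarithmic q-forms for all q together with their identification with the log de Rham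
complex of the log ring; only the degree-one freeness is stated here, from the properties of A
actually used.) -/
theorem result (p : ℕ) [Fact p.Prime]
    {A B : Type u} [CommRing A] [IsDomain A] [CharP A p] [CommRing B] [Algebra A B] {r N : ℕ}
    (hr : r ≤ N) (x : Fin N → A) [IsLocalization.Away (∏ i : Fin r, x (Fin.castLE hr i)) B]
    (u : Fin r → Bˣ) (hu : ∀ i, (u i : B) = algebraMap A B (x (Fin.castLE hr i)))
    {ι : Type u} (b : Module.Basis (Fin N ⊕ ι) A (Ω[A⁄ℤ])) (hb : ∀ i, b (Sum.inl i) = D ℤ A (x i)) :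
    ∃ e : Module.Basis (Fin N ⊕ ι) A
        (W4c6katofilta.logForms1 (fun i : Fin r => x (Fin.castLE hr i)) u),
      (∀ i : Fin r, (e (Sum.inl (Fin.castLE hr i)) : Ω[B⁄ℤ]) =
          ((u i)⁻¹ : Bˣ) • KaehlerDifferential.map ℤ ℤ A B (D ℤ A (x (Fin.castLE hr i)))) ∧
      (∀ i : Fin N, r ≤ (i : ℕ) →
          (e (Sum.inl i) : Ω[B⁄ℤ]) = KaehlerDifferential.map ℤ ℤ A B (D ℤ A (x i))) ∧
      (∀ k : ι, (e (Sum.inr k) : Ω[B⁄ℤ]) = KaehlerDifferential.map ℤ ℤ A B (b (Sum.inr k))) := by
  classical
  let S := Submonoid.powers (∏ i : Fin r, x (Fin.castLE hr i))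
  let μ := KaehlerDifferential.map ℤ ℤ A B
  haveI : IsLocalizedModule S μ := KaehlerDifferential.isLocalizedModule_map ℤ A B S
  let β := b.ofIsLocalizedModule B S μ
  have hβ : ∀ j, β j = μ (b j) := fun j => b.ofIsLocalizedModule_apply B S μ j
  let sc : Fin N ⊕ ι → Bˣ := Sum.elim (fun i => if h : (i : ℕ) < r then (u ⟨i, h⟩)⁻¹ else 1) (fun _ => 1)
  let w : Fin N ⊕ ι → Ω[B⁄ℤ] := fun j => sc j • μ (b j)
  have hcast : ∀ (i : Fin N) (h : (i : ℕ) < r), Fin.castLE hr ⟨i, h⟩ = i := fun i h => Fin.ext rfl
  have hwu : ∀ (i : Fin N) (h : (i : ℕ) < r),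
      w (Sum.inl i) = ((u ⟨i, h⟩)⁻¹ : Bˣ) • μ (D ℤ A (x (Fin.castLE hr ⟨i, h⟩))) := by
    intro i h
    simp only [w, sc, Sum.elim_inl, dif_pos h, hb, hcast]
  have hw1 : ∀ (i : Fin N), r ≤ (i : ℕ) → w (Sum.inl i) = μ (D ℤ A (x i)) := by
    intro i h
    simp only [w, sc, Sum.elim_inl, dif_neg (not_lt.2 h), hb, one_smul]
  have hw2 : ∀ k, w (Sum.inr k) = μ (b (Sum.inr k)) := fun k => by
    simp only [w, sc, Sum.elim_inr, one_smul]
  let G := W4c6katofilta.logForms1 (fun i : Fin r => x (Fin.castLE hr i)) u
  have hmem : ∀ j, w j ∈ G := by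
    rintro (i | k)
    · by_cases h : (i : ℕ) < r
      · rw [hwu i h]
        exact Submodule.subset_span (Or.inr ⟨⟨i, h⟩, rfl⟩)
      · rw [hw1 i (not_lt.1 h)]
        exact Submodule.subset_span (Or.inl ⟨_, rfl⟩)
    · rw [hw2]
      exact Submodule.subset_span (Or.inl ⟨_, rfl⟩)
  have hinj : Function.Injective (algebraMap A B) := by
    refine IsLocalization.injective B (M := S) (Submonoid.powers_le.2 (mem_nonZeroDivisors_of_ne_zero ?_))
    refine Finset.prod_ne_zero_iff.2 fun i _ h0 => ?_
    have := hb (Fin.castLE hr i)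
    rw [h0, map_zero] at this
    exact b.ne_zero _ this
  have hliB : LinearIndependent B w := by
    have h := β.linearIndependent.units_smul sc
    rwa [show sc • ⇑β = w from funext fun j => by simp only [w, Pi.smul_apply', hβ]] at h
  have hliA : LinearIndependent A w := hliB.restrict_scalars (by
    intro a a' h
    simp only [Algebra.smul_def, mul_one] at h
    exact hinj h)
  have hli : LinearIndependent A (fun j => (⟨w j, hmem j⟩ : G)) := LinearIndependent.of_comp G.subtype hliA
  have hspan : ∀ z ∈ G, z ∈ Submodule.span A (Set.range w) := by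
    refine fun z hz => Submodule.span_le.2 ?_ hz
    rintro z (⟨y, rfl⟩ | ⟨i, rfl⟩)
    · have hy : y ∈ Submodule.span A (Set.range b) := by rw [b.span_eq]; trivial
      refine (Submodule.span_le (p := (Submodule.span A (Set.range w)).comap μ)).2 ?_ hy
      rintro _ ⟨j, rfl⟩
      show μ (b j) ∈ Submodule.span A (Set.range w)
      rcases j with i | k
      · by_cases h : (i : ℕ) < r
        · have : x i • w (Sum.inl i) = μ (b (Sum.inl i)) := by
            rw [hwu i h, hcast, hb, Units.smul_def, ← algebraMap_smul B (x i), smul_smul]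
            have h2 : algebraMap A B (x i) = (u ⟨i, h⟩ : B) := by rw [hu, hcast]
            rw [h2, Units.mul_inv, one_smul]
          rw [← this]
          exact Submodule.smul_mem _ _ (Submodule.subset_span ⟨_, rfl⟩)
        · rw [hb, ← hw1 i (not_lt.1 h)]
          exact Submodule.subset_span ⟨_, rfl⟩
      · rw [← hw2]
        exact Submodule.subset_span ⟨_, rfl⟩
    · refine Submodule.subset_span ⟨Sum.inl (Fin.castLE hr i), ?_⟩
      exact hwu _ i.2
  let e : Module.Basis (Fin N ⊕ ι) A G := Module.Basis.mk hli (fun z _ => by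
    have h := hspan z.1 z.2
    rw [show Set.range w = G.subtype '' Set.range (fun j => (⟨w j, hmem j⟩ : G)) by
      rw [← Set.range_comp]; rfl, Submodule.span_image] at h
    obtain ⟨z', hz', he⟩ := h
    rwa [Subtype.ext he] at hz')
  have he : ∀ j, (e j : Ω[B⁄ℤ]) = w j := fun j => by rw [Module.Basis.mk_apply]
  refine ⟨e, fun i => ?_, fun i h => (he _).trans (hw1 i h), fun k => (he _).trans (hw2 k)⟩
  exact (he _).trans (hwu _ i.2)

end Groth.Agent.S19273
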