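import Groth.Statements.S19274
import Mathlib

set_option autoImplicit false
universe u
open WittFil

namespace Groth.Agent.S19274

/-- Let A be a unique factorisation domain of characteristic p, x a prime element of A, B = A[1/x] with
u the unit of B defined by x, m ≥ 1, and n an integer NOT divisible by p^m. For e in B and k ≥ 0
write fil_k(e) for the set of truncated p-typical Witt vectors of length k over B whose j-th
coordinate y_j satisfies y_j ^ (p ^ (k−1−j)) · e ∈ A for all j < k (the filtered piece; fil_k(u^n)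
is the piece of index n). Then fil_{m+1}(u^n) is contained in fil_{m+1}(u^(n−1)) + V(fil_m(u^n))
(the reverse inclusion is immediate): every a in fil_{m+1}(u^n) can be written a = b + V(y) with b
in fil_{m+1}(u^(n−1)) and y a Witt vector over B whose length-m truncation lies in fil_m(u^n), V(y)
being truncated to length m+1. (In the source A is a henselian discrete valuation ring, n = p^r·l >
1 with p not dividing l, and the condition reads m ≥ r + 1.) -/
theorem result (p : ℕ) [Fact p.Prime]
    {A B : Type u} [CommRing A] [IsDomain A] [UniqueFactorizationMonoid A] [CharP A p]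
    [CommRing B] [Algebra A B] (x : A) (hx : Prime x) [IsLocalization.Away x B] (u : Bˣ)
    (hu : (u : B) = algebraMap A B x) (m : ℕ) (hm : 0 < m) (n : ℤ) (hn : ¬ ((p : ℤ) ^ m ∣ n)) :
    ∀ a ∈ WittFil.fil p (m + 1) (A := A) ((u ^ n : Bˣ) : B),
      ∃ b ∈ WittFil.fil p (m + 1) (A := A) ((u ^ (n - 1) : Bˣ) : B),
        ∃ y : WittVector p B,
          WittVector.truncate m y ∈ WittFil.fil p m (A := A) ((u ^ n : Bˣ) : B) ∧
            a = b + WittVector.truncate (m + 1) (WittVector.verschiebung y) := by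
  classical
  intro a ha
  obtain ⟨a, rfl⟩ := WittVector.truncate_surjective p (m + 1) _ a
  have hinj : Function.Injective (algebraMap A B) :=
    IsLocalization.injective B (powers_le_nonZeroDivisors_of_noZeroDivisors hx.ne_zero)
  let t : WittVector p B := WittVector.teichmuller p (a.coeff 0)
  refine ⟨WittVector.truncate (m + 1) t, ?_, a.shift 1, ?_, ?_⟩
  · rintro ⟨j, hj⟩
    rw [WittVector.coeff_truncate]
    rcases Nat.eq_zero_or_pos j with rfl | hj0
    · rw [WittVector.teichmuller_coeff_zero]
      simp only [Nat.add_sub_cancel, Nat.sub_zero]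
      by_cases h0 : a.coeff 0 = 0
      · rw [h0, zero_pow (pow_ne_zero _ (Fact.out : p.Prime).ne_zero), zero_mul]; exact zero_mem _
      obtain ⟨α, k, hk⟩ := IsLocalization.Away.surj (S := B) x (a.coeff 0) |>.elim (fun k h => h.elim fun α h' => (⟨α, k, h'⟩ : ∃ α k, a.coeff 0 * algebraMap A B x ^ k = algebraMap A B α))
      have hα0 : α ≠ 0 := fun h => h0 (by
        rw [h, map_zero, ← hu, ← Units.val_pow_eq_pow_val] at hk
        exact (Units.mul_left_eq_zero _).1 hk)
      obtain ⟨s, α', hα', rfl⟩ := WfDvdMonoid.max_power_factor hα0 hx.irreducible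
      have hrep : a.coeff 0 = algebraMap A B α' * ((u ^ ((s : ℤ) - (k : ℤ)) : Bˣ) : B) := by
        rw [zpow_sub, Units.val_mul, zpow_natCast, zpow_natCast, Units.val_pow_eq_pow_val, hu]
        rw [map_mul, map_pow] at hk
        rw [← mul_assoc, mul_comm (algebraMap A B α'), ← hk, mul_assoc, ← hu, ← Units.val_pow_eq_pow_val, ← Units.val_mul, mul_inv_cancel, Units.val_one, mul_one]
      have hmem := ha (⟨0, Nat.succ_pos m⟩ : Fin (m + 1))
      rw [WittVector.coeff_truncate] at hmem
      simp only [Nat.add_sub_cancel, Nat.sub_zero] at hmem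
      have hcalc : ∀ e : ℤ, a.coeff 0 ^ p ^ m * ((u ^ e : Bˣ) : B) =
          algebraMap A B (α' ^ p ^ m) * ((u ^ (((s : ℤ) - k) * ((p ^ m : ℕ) : ℤ) + e) : Bˣ) : B) := by
        intro e
        rw [hrep, mul_pow, map_pow, ← Units.val_pow_eq_pow_val, mul_assoc, ← Units.val_mul, ← zpow_natCast (u ^ ((s : ℤ) - k)), ← zpow_mul, ← zpow_add]
      rw [hcalc] at hmem ⊢
      have hpos : 0 ≤ ((s : ℤ) - k) * ((p ^ m : ℕ) : ℤ) + n := by
        by_contra hneg
        obtain ⟨β, hβ⟩ := hmem
        obtain ⟨d, hd⟩ : ∃ d : ℕ, ((s : ℤ) - k) * ((p ^ m : ℕ) : ℤ) + n = -((d + 1 : ℕ) : ℤ) :=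
          ⟨(-(((s : ℤ) - k) * ((p ^ m : ℕ) : ℤ) + n) - 1).toNat, by omega⟩
        rw [hd, zpow_neg, zpow_natCast] at hβ
        have h2 : algebraMap A B (β * x ^ (d + 1)) = algebraMap A B (α' ^ p ^ m) := by
          rw [map_mul, hβ, map_pow _ x, ← hu, ← Units.val_pow_eq_pow_val, mul_assoc, ← Units.val_mul,
            inv_mul_cancel, Units.val_one, mul_one]
        exact hα' (hx.dvd_of_dvd_pow (n := p ^ m) ⟨β * x ^ d, by rw [← hinj h2, pow_succ]; ring⟩)
      have hne : ((s : ℤ) - k) * ((p ^ m : ℕ) : ℤ) + n ≠ 0 := fun h => hn ⟨(k : ℤ) - s, by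
        push_cast at h; linear_combination h⟩
      obtain ⟨e, he⟩ : ∃ e : ℕ, ((s : ℤ) - k) * ((p ^ m : ℕ) : ℤ) + (n - 1) = (e : ℤ) :=
        ⟨(((s : ℤ) - k) * ((p ^ m : ℕ) : ℤ) + (n - 1)).toNat, by omega⟩
      rw [he, zpow_natCast, Units.val_pow_eq_pow_val, hu, ← map_pow (algebraMap A B) x, ← map_mul]
      exact ⟨_, rfl⟩
    · rw [WittVector.teichmuller_coeff_pos p _ j hj0, zero_pow (pow_ne_zero _ (Fact.out : p.Prime).ne_zero), zero_mul]
      exact zero_mem _
  · rintro ⟨j, hj⟩
    have h := ha (⟨j + 1, by omega⟩ : Fin (m + 1))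
    rw [WittVector.coeff_truncate] at h ⊢
    rw [WittVector.shift_coeff]
    convert h using 4
    · show 1 + j = j + 1; omega
    · dsimp only at *; omega
  · rw [← map_add]
    congr 1
    ext i
    rw [WittVector.coeff_add_of_disjoint _ _ _ (fun i => ?_)]
    · rcases i with _ | i
      · rw [WittVector.teichmuller_coeff_zero, WittVector.verschiebung_coeff_zero, add_zero]
      · rw [WittVector.teichmuller_coeff_pos p _ _ (Nat.succ_pos i), WittVector.verschiebung_coeff_succ, WittVector.shift_coeff, zero_add, add_comm]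
    · rcases i with _ | i
      · exact Or.inr (WittVector.verschiebung_coeff_zero _)
      · exact Or.inl (WittVector.teichmuller_coeff_pos p _ _ (Nat.succ_pos i))

end Groth.Agent.S19274
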