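import Groth.Statements.S19275
import Mathlib

set_option autoImplicit false
universe u v w
open Hoch

namespace Groth.Agent.S19275

open TensorProduct

variable {K : Type u} [Field K] {A : Type v} [CommRing A] [HopfAlgebra K A]
  {V : Type v} [AddCommGroup V] [Module K V] {R : Type w} [CommRing R] [Algebra K R]

theorem bijective_phi
    (φ : ∀ n : ℕ, R ⊗[K] (Hoch.cochain K A V n) →ₗ[R] (Hoch.cochain R (R ⊗[K] A) (R ⊗[K] V) n))
    (hφ0 : ∀ x : R ⊗[K] V, φ 0 x = x)
    (hφs : ∀ (n : ℕ) (r : R) (c : Hoch.cochain K A V n) (a : A),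
      φ (n + 1) (r ⊗ₜ[K] (c ⊗ₜ[K] a)) = (φ n (r ⊗ₜ[K] c)) ⊗ₜ[R] ((1 : R) ⊗ₜ[K] a)) :
    ∀ n, Function.Bijective (φ n)
  | 0 => by
    rw [show ⇑(φ 0) = id from funext hφ0]
    exact Function.bijective_id
  | n + 1 => by
    let C : Type v := Hoch.cochain K A V n
    let e : R ⊗[K] (C ⊗[K] A) ≃ₗ[R] (Hoch.cochain R (R ⊗[K] A) (R ⊗[K] V) n : Type _) ⊗[R] (R ⊗[K] A) :=
      (AlgebraTensorModule.distribBaseChange K R C A).trans
        (TensorProduct.congr (LinearEquiv.ofBijective (φ n) (bijective_phi φ hφ0 hφs n)) (LinearEquiv.refl R (R ⊗[K] A)))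
    have : ∀ x, φ (n + 1) x = e x := fun x => by
      induction x using TensorProduct.induction_on with
      | zero => rw [map_zero, map_zero]
      | add x y hx hy => rw [map_add, map_add, hx, hy]
      | tmul r z =>
        induction z using TensorProduct.induction_on with
        | zero => rw [TensorProduct.tmul_zero, map_zero, map_zero]
        | add x y hx hy => rw [TensorProduct.tmul_add, map_add, map_add, hx, hy]
        | tmul c a =>
          rw [hφs]
          simp [e]
    rw [show ⇑(φ (n + 1)) = ⇑e from funext this]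
    exact e.bijective

variable [HopfRep.Comod K A V]

theorem comm_phi
    (φ : ∀ n : ℕ, R ⊗[K] (Hoch.cochain K A V n) →ₗ[R] (Hoch.cochain R (R ⊗[K] A) (R ⊗[K] V) n))
    (hφ0 : ∀ x : R ⊗[K] V, φ 0 x = x)
    (hφs : ∀ (n : ℕ) (r : R) (c : Hoch.cochain K A V n) (a : A),
      φ (n + 1) (r ⊗ₜ[K] (c ⊗ₜ[K] a)) = (φ n (r ⊗ₜ[K] c)) ⊗ₜ[R] ((1 : R) ⊗ₜ[K] a)) :
    letI := CoactBr.Comod.baseChange K R A V
    ∀ (n : ℕ) (r : R) (x : Hoch.cochain K A V n),
        φ (n + 1) (r ⊗ₜ[K] Hoch.d K A V n x) = Hoch.d R (R ⊗[K] A) (R ⊗[K] V) n (φ n (r ⊗ₜ[K] x)) := by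
  letI := CoactBr.Comod.baseChange K R A V
  intro n
  induction n with
  | zero =>
    intro r v
    rw [hφ0, Hoch.d_zero_apply, Hoch.d_zero_apply, TensorProduct.tmul_sub, map_sub, hφs, hφ0]
    congr 1
    rw [CoactBr.baseChange_coact_tmul]
    generalize (HopfRep.Comod.coact (k := K) (A := A) v : V ⊗[K] A) = t
    induction t using TensorProduct.induction_on with
    | zero => rw [TensorProduct.tmul_zero, TensorProduct.tmul_zero, map_zero, map_zero]
    | add x y hx hy => rw [TensorProduct.tmul_add, TensorProduct.tmul_add, map_add, map_add, hx, hy]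
    | tmul w a =>
      rw [hφs, hφ0, AlgebraTensorModule.tensorTensorTensorComm_tmul]
      conv_lhs => rw [show r ⊗ₜ[K] w = r • ((1 : R) ⊗ₜ[K] w) by rw [TensorProduct.smul_tmul', smul_eq_mul, mul_one],
        TensorProduct.smul_tmul, TensorProduct.smul_tmul', smul_eq_mul, mul_one]
  | succ n ih =>
    intro r x
    induction x using TensorProduct.induction_on with
    | zero => simp
    | add x y hx hy => rw [map_add, TensorProduct.tmul_add, TensorProduct.tmul_add, map_add, map_add, map_add, hx, hy]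
    | tmul c a =>
      rw [hφs, Hoch.d_succ, Hoch.d_succ]
      simp only [LinearMap.add_apply, LinearMap.smul_apply, LinearMap.rTensor_tmul, TensorProduct.tmul_add, map_add]
      congr 1
      · rw [hφs, ih]
      · rw [TensorProduct.tmul_smul, ← algebraMap_smul R ((-1 : K) ^ (n + 1)), map_smul, map_pow, map_neg, map_one]
        congr 1
        rw [Hoch.tail_tmul, Hoch.tail_tmul]
        have hcomul : CoalgebraStruct.comul (R := R) ((1 : R) ⊗ₜ[K] a) =
            AlgebraTensorModule.tensorTensorTensorComm K R K R R R A A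
              (((1 : R) ⊗ₜ[R] (1 : R)) ⊗ₜ[K] CoalgebraStruct.comul (R := K) a) := rfl
        rw [hcomul]
        have key : ∀ t : A ⊗[K] A,
            φ (n + 2) (r ⊗ₜ[K] (TensorProduct.assoc K (Hoch.cochain K A V n) A A).symm (c ⊗ₜ[K] t)) =
              (TensorProduct.assoc R (Hoch.cochain R (R ⊗[K] A) (R ⊗[K] V) n) (R ⊗[K] A) (R ⊗[K] A)).symm
                (φ n (r ⊗ₜ[K] c) ⊗ₜ[R] AlgebraTensorModule.tensorTensorTensorComm K R K R R R A A
                  (((1 : R) ⊗ₜ[R] (1 : R)) ⊗ₜ[K] t)) := by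
          intro t
          induction t using TensorProduct.induction_on with
          | zero => simp
          | add x y hx hy => simp only [TensorProduct.tmul_add, map_add, hx, hy]
          | tmul p q =>
            rw [TensorProduct.assoc_symm_tmul, hφs, hφs, AlgebraTensorModule.tensorTensorTensorComm_tmul,
              TensorProduct.assoc_symm_tmul]
        rw [key]
        congr 2
        simp only [TensorProduct.tmul_sub, map_sub, AlgebraTensorModule.tensorTensorTensorComm_tmul,
          Algebra.TensorProduct.one_def]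


open TensorProduct in
/-- In the case of an affine group scheme over a field (a K-groupoid acting on Spec K itself),
cohomology commutes with arbitrary base change. Precisely: let K be a field, A a commutative Hopf
algebra over K (the coordinate ring of an affine K-group scheme G), V a right A-comodule (a linear
representation of G) and R any commutative K-algebra. Give R ⊗ V the base-changed comodule structure
over the R-bialgebra R ⊗ A, whose coaction sends r ⊗ v to the image of r ⊗ ρ(v) under the canonical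
identification of R ⊗ (V ⊗ A) with (R ⊗ V) ⊗_R (R ⊗ A), and let φ_n : R ⊗ C^n(A, V) → C^n(R ⊗ A, R ⊗
V) be the canonical R-linear maps between the Hochschild cochain modules, determined by φ_0 = id and
φ_{n+1}(r ⊗ (c ⊗ a)) = φ_n(r ⊗ c) ⊗ (1 ⊗ a). Then every φ_n is bijective, the φ_n commute with the
Hochschild differentials, and for every n there is an R-linear isomorphism R ⊗ H^n(A, V) ≅ H^n(R ⊗
A, R ⊗ V) sending r ⊗ [z] to [φ_n(r ⊗ z)] for every n-cocycle z. (The published statement is for an
affine K-groupoid acting on the spectrum of a finite extension L of K and its coherent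
representations, with K of characteristic 0; this is its case L = K, in which the cochain complex of
a representation is the Hochschild complex of the comodule; V is not assumed finite-dimensional and
K may be any field.) -/
theorem result
    (K : Type u) [Field K] (A : Type v) [CommRing A] [HopfAlgebra K A]
    (V : Type v) [AddCommGroup V] [Module K V] [HopfRep.Comod K A V]
    (R : Type w) [CommRing R] [Algebra K R]
    (φ : ∀ n : ℕ, R ⊗[K] (Hoch.cochain K A V n) →ₗ[R] (Hoch.cochain R (R ⊗[K] A) (R ⊗[K] V) n))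
    (hφ0 : ∀ x : R ⊗[K] V, φ 0 x = x)
    (hφs : ∀ (n : ℕ) (r : R) (c : Hoch.cochain K A V n) (a : A),
      φ (n + 1) (r ⊗ₜ[K] (c ⊗ₜ[K] a)) = (φ n (r ⊗ₜ[K] c)) ⊗ₜ[R] ((1 : R) ⊗ₜ[K] a)) :
    letI := CoactBr.Comod.baseChange K R A V
    (∀ n : ℕ, Function.Bijective (φ n)) ∧
    (∀ (n : ℕ) (x : R ⊗[K] (Hoch.cochain K A V n)),
        φ (n + 1) ((Hoch.d K A V n).baseChange R x) = Hoch.d R (R ⊗[K] A) (R ⊗[K] V) n (φ n x)) ∧
      ∀ n : ℕ, ∃ e : R ⊗[K] Hoch.H K A V n ≃ₗ[R] Hoch.H R (R ⊗[K] A) (R ⊗[K] V) n,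
        ∀ (r : R) (z : Hoch.cocycles K A V n)
          (hz : φ n (r ⊗ₜ[K] (z : Hoch.cochain K A V n)) ∈ Hoch.cocycles R (R ⊗[K] A) (R ⊗[K] V) n),
          e (r ⊗ₜ[K] Hoch.H.mk K A V n z) = Hoch.H.mk R (R ⊗[K] A) (R ⊗[K] V) n ⟨φ n (r ⊗ₜ[K] (z : Hoch.cochain K A V n)), hz⟩ := by
  letI := CoactBr.Comod.baseChange K R A V
  have hbij := bijective_phi φ hφ0 hφs
  have hc := comm_phi φ hφ0 hφs
  have hcomm : ∀ (n : ℕ) (x : R ⊗[K] (Hoch.cochain K A V n)),
      φ (n + 1) ((Hoch.d K A V n).baseChange R x) = Hoch.d R (R ⊗[K] A) (R ⊗[K] V) n (φ n x) := fun n x => by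
    induction x using TensorProduct.induction_on with
    | zero => simp
    | add x y hx hy => simp only [map_add, hx, hy]
    | tmul r z => rw [LinearMap.baseChange_tmul]; exact hc n r z
  refine ⟨hbij, hcomm, fun n => ?_⟩
  have hmem : ∀ z : Hoch.cocycles K A V n,
      φ n ((Hoch.cocycles K A V n).subtype.baseChange R ((1 : R) ⊗ₜ[K] z)) ∈ Hoch.cocycles R (R ⊗[K] A) (R ⊗[K] V) n :=
    fun z => by
      rw [Hoch.cocycles, LinearMap.mem_ker, ← hcomm, ← LinearMap.comp_apply (LinearMap.baseChange R (Hoch.d K A V n)),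
        ← LinearMap.baseChange_comp, LinearMap.baseChange_tmul]
      simp [LinearMap.mem_ker.1 z.2]
  letI : Module K (Hoch.cocycles R (R ⊗[K] A) (R ⊗[K] V) n) := Module.compHom _ (algebraMap K R)
  haveI : IsScalarTower K R (Hoch.cocycles R (R ⊗[K] A) (R ⊗[K] V) n) := IsScalarTower.of_algebraMap_smul fun _ _ => rfl
  letI : Module K (Hoch.H R (R ⊗[K] A) (R ⊗[K] V) n) := Module.compHom _ (algebraMap K R)
  haveI : IsScalarTower K R (Hoch.H R (R ⊗[K] A) (R ⊗[K] V) n) := IsScalarTower.of_algebraMap_smul fun _ _ => rfl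
  let j : Hoch.cocycles K A V n →ₗ[K] Hoch.cocycles R (R ⊗[K] A) (R ⊗[K] V) n :=
    { toFun := fun z => ⟨_, hmem z⟩
      map_add' := fun x y => Subtype.ext (by simp [TensorProduct.tmul_add, map_add])
      map_smul' := fun c x => Subtype.ext (by
        show φ n ((Hoch.cocycles K A V n).subtype.baseChange R ((1 : R) ⊗ₜ[K] (c • x))) =
          algebraMap K R c • φ n ((Hoch.cocycles K A V n).subtype.baseChange R ((1 : R) ⊗ₜ[K] x))
        rw [TensorProduct.tmul_smul, ← algebraMap_smul R c, map_smul, map_smul]) }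
  let g : Hoch.cocycles K A V n →ₗ[K] Hoch.H R (R ⊗[K] A) (R ⊗[K] V) n :=
    ((Hoch.H.mk R (R ⊗[K] A) (R ⊗[K] V) n).restrictScalars K).comp j
  have hg : (Hoch.coboundaries K A V n).comap (Hoch.cocycles K A V n).subtype ≤ LinearMap.ker g := by
    rintro z hz
    show (Hoch.H.mk R (R ⊗[K] A) (R ⊗[K] V) n) (j z) = 0
    refine (Submodule.Quotient.mk_eq_zero _).2 ?_
    show φ n ((Hoch.cocycles K A V n).subtype.baseChange R ((1 : R) ⊗ₜ[K] z)) ∈ Hoch.coboundaries R (R ⊗[K] A) (R ⊗[K] V) n
    rw [LinearMap.baseChange_tmul]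
    cases n with
    | zero =>
      change (Hoch.cocycles K A V 0).subtype z ∈ (⊥ : Submodule K _) at hz
      rw [(Submodule.mem_bot _).1 hz, TensorProduct.tmul_zero, map_zero]
      exact zero_mem _
    | succ m =>
      obtain ⟨w, hw⟩ := hz
      exact ⟨φ m ((1 : R) ⊗ₜ[K] w), by rw [← hc]; exact congrArg (fun t => φ (m + 1) ((1 : R) ⊗ₜ[K] t)) hw⟩
  let f : R ⊗[K] Hoch.H K A V n →ₗ[R] Hoch.H R (R ⊗[K] A) (R ⊗[K] V) n :=
    LinearMap.liftBaseChange R (Submodule.liftQ _ g hg)
  have hf : ∀ y : R ⊗[K] Hoch.cocycles K A V n,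
      ∀ hy : φ n ((Hoch.cocycles K A V n).subtype.baseChange R y) ∈ Hoch.cocycles R (R ⊗[K] A) (R ⊗[K] V) n,
      f ((Hoch.H.mk K A V n).baseChange R y) = Hoch.H.mk R (R ⊗[K] A) (R ⊗[K] V) n ⟨_, hy⟩ := by
    intro y hy
    let F : R ⊗[K] Hoch.cocycles K A V n →ₗ[R] Hoch.cocycles R (R ⊗[K] A) (R ⊗[K] V) n :=
      LinearMap.liftBaseChange R j
    have h1 : ∀ y, (F y : Hoch.cochain R (R ⊗[K] A) (R ⊗[K] V) n) =
        φ n ((Hoch.cocycles K A V n).subtype.baseChange R y) := fun y => by
      induction y using TensorProduct.induction_on with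
      | zero => simp
      | add a b ha hb => simp only [map_add, Submodule.coe_add, ha, hb]
      | tmul r z =>
        rw [LinearMap.liftBaseChange_tmul, Submodule.coe_smul]
        show r • φ n _ = _
        rw [← map_smul, ← map_smul, TensorProduct.smul_tmul', smul_eq_mul, mul_one]
    have h2 : ∀ y, f ((Hoch.H.mk K A V n).baseChange R y) = Hoch.H.mk R (R ⊗[K] A) (R ⊗[K] V) n (F y) := fun y => by
      induction y using TensorProduct.induction_on with
      | zero => simp only [map_zero]
      | add a b ha hb => simp only [map_add, ha, hb]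
      | tmul r z =>
        rw [LinearMap.baseChange_tmul, LinearMap.liftBaseChange_tmul, LinearMap.liftBaseChange_tmul, map_smul]
        rfl
    rw [h2]
    exact congrArg _ (Subtype.ext (h1 y))
  have hfinj : Function.Injective f := by
    rw [← LinearMap.ker_eq_bot, LinearMap.ker_eq_bot']
    intro y hy
    obtain ⟨x, rfl⟩ : ∃ x, (Hoch.H.mk K A V n).baseChange R x = y :=
      LinearMap.lTensor_surjective R (Submodule.mkQ_surjective _) y
    have hxm : φ n ((Hoch.cocycles K A V n).subtype.baseChange R x) ∈ Hoch.cocycles R (R ⊗[K] A) (R ⊗[K] V) n := by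
      rw [Hoch.cocycles, LinearMap.mem_ker, ← hcomm, ← LinearMap.comp_apply (LinearMap.baseChange R (Hoch.d K A V n)),
        ← LinearMap.baseChange_comp, show (Hoch.d K A V n).comp (Hoch.cocycles K A V n).subtype = 0 from
          LinearMap.ext fun z => z.2, LinearMap.baseChange_zero, LinearMap.zero_apply, map_zero]
    rw [hf x hxm] at hy
    have hcob := (Submodule.Quotient.mk_eq_zero _).1 hy
    change φ n ((Hoch.cocycles K A V n).subtype.baseChange R x) ∈ Hoch.coboundaries R (R ⊗[K] A) (R ⊗[K] V) n at hcob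
    let Q := (Hoch.coboundaries K A V n).mkQ
    let i : Hoch.H K A V n →ₗ[K] _ := Submodule.mapQ ((Hoch.coboundaries K A V n).comap (Hoch.cocycles K A V n).subtype)
      (Hoch.coboundaries K A V n) (Hoch.cocycles K A V n).subtype le_rfl
    have hi : Function.Injective (i.baseChange R) := by
      refine Module.Flat.lTensor_preserves_injective_linearMap i ?_
      rw [← LinearMap.ker_eq_bot, Submodule.ker_mapQ]
      exact Submodule.mkQ_map_self _
    apply hi
    rw [map_zero, ← LinearMap.comp_apply (i.baseChange R), ← LinearMap.baseChange_comp,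
      show i.comp (Hoch.H.mk K A V n) = Q.comp (Hoch.cocycles K A V n).subtype from rfl, LinearMap.baseChange_comp,
      LinearMap.comp_apply]
    cases n with
    | zero =>
      rw [(hbij 0).1 (((Submodule.mem_bot _).1 hcob).trans (map_zero (φ 0)).symm), map_zero]
    | succ m =>
      obtain ⟨w', hw'⟩ := hcob
      obtain ⟨w, rfl⟩ := (hbij m).2 w'
      rw [← hcomm] at hw'
      rw [← (hbij (m + 1)).1 hw', ← LinearMap.comp_apply (Q.baseChange R), ← LinearMap.baseChange_comp,
        show Q.comp (Hoch.d K A V m) = 0 from LinearMap.ext fun z => (Submodule.Quotient.mk_eq_zero _).2 ⟨z, rfl⟩,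
        LinearMap.baseChange_zero, LinearMap.zero_apply]
  have hfsurj : Function.Surjective f := by
    intro y
    obtain ⟨⟨z', hz'⟩, rfl⟩ := Submodule.mkQ_surjective _ y
    obtain ⟨x, rfl⟩ := (hbij n).2 z'
    have h0 : (Hoch.d K A V n).baseChange R x = 0 := by
      apply (hbij (n + 1)).1
      rw [map_zero, hcomm]
      exact hz'
    have hex : Function.Exact (Hoch.cocycles K A V n).subtype (Hoch.d K A V n) :=
      LinearMap.exact_subtype_ker_map _
    obtain ⟨x', rfl⟩ := ((Module.Flat.lTensor_exact R hex) x).1 h0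
    exact ⟨_, hf x' hz'⟩
  refine ⟨LinearEquiv.ofBijective f ⟨hfinj, hfsurj⟩, fun r z hz => ?_⟩
  exact hf (r ⊗ₜ[K] z) hz

end Groth.Agent.S19275
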