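import Groth.Statements.S1928
import Groth.Agent.CycK.Degree
import Groth.Agent.NefTest.Basic
import Groth.Agent.H23.FundCycle
import Groth.Agent.H23.UnitSec

set_option autoImplicit false
set_option linter.style.haveILetI false
set_option backward.isDefEq.respectTransparency false
set_option backward.isDefEq.respectTransparency.types false
universe u
open CategoryTheory AlgebraicGeometry
open Cyc

namespace Groth.Agent.S1928

open CategoryTheory.Limits Groth.Agent Groth.Agent.CycK

/-- Let X be proper over a field k with dim X ≤ 1 and L an invertible O_X-module. Then deg(L) := χ(X, L)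
− χ(X, O_X) equals the degree Σ_x [κ(x) : k] · n_x of the 0-cycle c_1(L) ∩ [X]_1 = Σ n_x [x],
computed with any nonzero rational sections (the degree is independent of the choice). Dimension
function: transcendence degree over k. (The source treats finite locally free modules of any
constant rank via c_1 of a vector bundle; only the invertible case is stated.) Here L(ξ) = L_ξ/𝔪_ξ
L_ξ is the space of rational sections of L on the closure of ξ, div_{L|W}(s) and c_1(L) ∩ α are
computed as coefficient functions from chosen nonzero rational sections (Cyc.secDivFun,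
Cyc.c1CapFun), and results are compared up to rational equivalence for any cycles with those
coefficients. -/
theorem result (k : Type u) [Field k] (X : Scheme.{u}) [X.Over (Spec (CommRingCat.of k))] [IsProper (X ↘ Spec (CommRingCat.of k))] (hdim : topologicalKrullDim X ≤ 1) (δ : X → ℤ) (hδ : Cyc.DeltaCompat (X ↘ Spec (CommRingCat.of k)) δ (fun _ => 0)) (L : X.Modules) (hL : PicF.IsInvertible L) (s : (ξ : X) → Cyc.secFibre L ξ) (hs : ∀ ξ, s ξ ≠ 0) : Curv2.deg k X L 1 = ∑ᶠ x : X, ((X ↘ Spec (CommRingCat.of k)).residueDegree x : ℤ) * Cyc.c1CapFun δ L (Cyc.subschemeFun δ 1 (𝟙 X)) s x := by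
  classical
  haveI := CurveCohLib.isNoetherian_of_proper (k := k) (X := X)
  have hd := (isSetup_over k hδ).2.2
  have hO : Cyc.CohLe δ 1 (Coh.structureModule X) := ⟨QCoh.isCoh_structureModule', fun x _ => by
    have h1 : topologicalKrullDim ↥(Set.univ : Set X) ≤ ((1 : ℕ) : WithBot ℕ∞) :=
      ((Homeomorph.Set.univ X).isHomeomorph.topologicalKrullDim_eq).trans_le hdim
    exact_mod_cast delta_le_dim hδ isClosed_univ h1 (Set.mem_univ x)⟩
  have hF : Cyc.sheafFun δ 1 (Coh.structureModule X) = Cyc.subschemeFun δ 1 (𝟙 X) := funext fun x => by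
    rw [H23.FundCycle.subschemeFun_id, Cyc.sheafFun]
    split_ifs with hx
    · have hg : H23.RatSec.IsGen (H23.UnitSec.one x) := ⟨H23.UnitSec.span_one x, H23.UnitSec.eq_zero_of_smul_one⟩
      rw [(LinearEquiv.ofBijective (LinearMap.toSpanSingleton (X.presheaf.stalk x) _ (H23.UnitSec.one x))
        ⟨(injective_iff_map_eq_zero _).2 hg.2, fun m => Submodule.mem_span_singleton.1 (hg.1.ge trivial)⟩).length_eq]
    · rfl
  rw [NefTest.deg_eq_sym, sym_step (m := 0) hδ (List.forall_mem_nil _) rfl hL hO s hs]
  simp only [Nat.cast_zero, zero_add, hF]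
  refine finsum_congr fun x => ?_
  rcases eq_or_ne (Cyc.c1CapFun δ L (Cyc.subschemeFun δ 1 (𝟙 X)) s x) 0 with h | h
  · simp [h]
  obtain ⟨ξ, hξ⟩ := exists_ne_of_finsum h
  rw [mul_ne_zero_iff] at hξ
  have hk : δ x = 0 := by
    obtain ⟨h1, h2⟩ := hξ
    simp only [Cyc.secDivFun] at h2
    split_ifs at h2 with hh
    · have : δ ξ = 1 := by_contra fun hne => h1 (by rw [← hF]; simp [Cyc.sheafFun, hne])
      omega
    · exact absurd rfl h2
  rw [euler_point hδ hk, mul_comm]

end Groth.Agent.S1928
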