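import Groth.Statements.S19284
import Groth.Agent.H1AffGal.Split
import Groth.Agent.H1AffGal.Inert

set_option autoImplicit false
universe u
open NumberField

open scoped Pointwise

namespace Groth.Agent.S19284

/-- Let L/K be a finite extension of number fields and Ω an algebraic closure of K. Suppose that L/K is
almost abelian in the non-abelian way: for some prime number p there is a bijection between the set
of K-embeddings L → Ω and Z/p under which every K-automorphism of Ω acts by an affine transformation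
x ↦ a x + b with a ≠ 0, and L/K is not an abelian extension (it is not Galois with commutative
automorphism group). Then there is an intermediate extension K ⊂ E ⊂ Ω contained in the normal
closure of L, Galois over K with nontrivial cyclic group, such that for every finite place w of K
which is unramified in L (every prime of the integers of L above w has ramification index 1), either
E admits a K-algebra embedding into the completion K_w (since E/K is Galois: w splits completely in
E) or L admits a K-algebra embedding into K_w (L has a place of degree 1 over w). (Only finite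
places are treated here.) -/
theorem result (K L Ω : Type u) [Field K] [NumberField K]
    [Field L] [NumberField L] [Algebra K L] [Field Ω] [Algebra K Ω] [IsAlgClosure K Ω]
    (p : ℕ) (hp : p.Prime) (e : (L →ₐ[K] Ω) ≃ ZMod p)
    (haff : ∀ σ : Ω ≃ₐ[K] Ω, ∃ a b : ZMod p, a ≠ 0 ∧
      ∀ φ : L →ₐ[K] Ω, e (σ.toAlgHom.comp φ) = a * e φ + b)
    (hnab : IsGalois K L → ∃ σ τ : L ≃ₐ[K] L, σ * τ ≠ τ * σ) :
    ∃ E : IntermediateField K Ω, E ≤ IntermediateField.normalClosure K L Ω ∧
      FiniteDimensional K E ∧ IsGalois K E ∧ IsCyclic (E ≃ₐ[K] E) ∧ 1 < Module.finrank K E ∧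
      ∀ w : IsDedekindDomain.HeightOneSpectrum (NumberField.RingOfIntegers K),
        (∀ P : Ideal (NumberField.RingOfIntegers L), P.IsPrime → P.LiesOver w.asIdeal →
          P.ramificationIdx (NumberField.RingOfIntegers K) = 1) →
        Nonempty (E →ₐ[K] w.adicCompletion K) ∨ Nonempty (L →ₐ[K] w.adicCompletion K) := by
  classical
  haveI : IsAlgClosed Ω := IsAlgClosure.isAlgClosed K
  haveI : Algebra.IsAlgebraic K Ω := IsAlgClosure.isAlgebraic
  haveI : IsGalois K Ω := IsAlgClosure.isGalois K Ω
  haveI : Fact p.Prime := ⟨hp⟩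
  have hfinrank : Module.finrank K L = p := by
    rw [← AlgHom.card K L Ω, Fintype.card_congr e, ZMod.card]
  -- the normal closure
  let N : IntermediateField K Ω := IntermediateField.normalClosure K L Ω
  haveI : FiniteDimensional K N := by
    show FiniteDimensional K (IntermediateField.normalClosure K L Ω)
    infer_instance
  haveI : NumberField N := NumberField.of_module_finite K N
  haveI : Normal K N := by
    show Normal K (IntermediateField.normalClosure K L Ω)
    infer_instance
  haveI : IsGalois K N := ⟨⟩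
  have hrange : ∀ φ : L →ₐ[K] Ω, ∀ x, φ x ∈ N := fun φ x =>
    AlgHom.fieldRange_le_normalClosure φ ⟨x, rfl⟩
  let down : (L →ₐ[K] Ω) → (L →ₐ[K] N) := fun φ => AlgHom.codRestrict φ N.toSubalgebra (hrange φ)
  let eqv : (L →ₐ[K] N) ≃ (L →ₐ[K] Ω) :=
    { toFun := fun ψ => N.val.comp ψ
      invFun := down
      left_inv := fun ψ => AlgHom.ext fun x => Subtype.ext rfl
      right_inv := fun φ => AlgHom.ext fun x => rfl }
  let e' : (L →ₐ[K] N) ≃ ZMod p := eqv.trans e
  -- the action is affine
  have haff' : ∀ g : N ≃ₐ[K] N, ∃ a b : ZMod p, a ≠ 0 ∧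
      ∀ ψ : L →ₐ[K] N, e' (g.toAlgHom.comp ψ) = a * e' ψ + b := by
    intro g
    obtain ⟨σ, hσ⟩ := AlgEquiv.restrictNormalHom_surjective (F := K) (K₁ := N) Ω g
    obtain ⟨a, b, ha, h⟩ := haff σ
    refine ⟨a, b, ha, fun ψ => ?_⟩
    refine Eq.trans ?_ (h (eqv ψ))
    show e (N.val.comp (g.toAlgHom.comp ψ)) = _
    congr 1
    ext x
    show ((g (ψ x) : N) : Ω) = σ ((ψ x : N) : Ω)
    rw [← hσ]
    exact AlgEquiv.restrictNormal_commutes σ N (ψ x)
  choose μ β hμ haff' using haff'
  have hact_comp : ∀ g h : N ≃ₐ[K] N, ∀ ψ : L →ₐ[K] N,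
      (g * h).toAlgHom.comp ψ = g.toAlgHom.comp (h.toAlgHom.comp ψ) := fun g h ψ => rfl
  have hact_one : ∀ ψ : L →ₐ[K] N, (1 : N ≃ₐ[K] N).toAlgHom.comp ψ = ψ := fun ψ => rfl
  have huniq : ∀ a b a' b' : ZMod p, (∀ t : ZMod p, a * t + b = a' * t + b') → a = a' ∧ b = b' := by
    intro a b a' b' h
    have hb : b = b' := by simpa using h 0
    refine ⟨?_, hb⟩
    have := h 1
    rw [hb] at this
    simpa using this
  have hone : μ 1 = 1 ∧ β 1 = 0 := by
    refine huniq _ _ _ _ fun t => ?_
    obtain ⟨ψ, rfl⟩ := e'.surjective t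
    rw [← haff' 1 ψ, hact_one]; ring
  have hmul : ∀ g h, μ (g * h) = μ g * μ h ∧ β (g * h) = μ g * β h + β g := by
    intro g h
    refine huniq _ _ _ _ fun t => ?_
    obtain ⟨ψ, rfl⟩ := e'.surjective t
    rw [← haff' (g * h) ψ, hact_comp, haff', haff']; ring
  -- faithful
  have hfaith : ∀ g : N ≃ₐ[K] N, (∀ ψ : L →ₐ[K] N, g.toAlgHom.comp ψ = ψ) → g = 1 := by
    intro g hg
    set S : IntermediateField K N := IntermediateField.fixedField (Subgroup.closure {g}) with hS
    have hle : N ≤ IntermediateField.lift S := by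
      show IntermediateField.normalClosure K L Ω ≤ _
      refine normalClosure_le_iff.mpr fun φ => ?_
      rintro _ ⟨x, rfl⟩
      refine (IntermediateField.mem_lift (down φ x)).mpr ?_
      rintro ⟨k, hk⟩
      show k (down φ x) = down φ x
      induction hk using Subgroup.closure_induction with
      | mem k hk =>
        rw [Set.mem_singleton_iff.mp hk]
        exact AlgHom.congr_fun (hg (down φ)) x
      | one => rfl
      | mul a b _ _ ha hb => rw [AlgEquiv.mul_apply, hb, ha]
      | inv a _ ha => exact a.injective (by rw [← AlgEquiv.mul_apply, mul_inv_cancel, AlgEquiv.one_apply, ha])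
    ext x
    have hx : x ∈ S := (IntermediateField.mem_lift x).mp (hle x.2)
    exact congrArg Subtype.val (hx ⟨g, Subgroup.subset_closure rfl⟩)
  -- transitive
  have htrans : ∀ ψ φ : L →ₐ[K] N, ∃ g : N ≃ₐ[K] N, g.toAlgHom.comp ψ = φ := by
    intro ψ φ
    let i : ψ.fieldRange →ₐ[K] N :=
      φ.comp (AlgEquiv.ofInjectiveField ψ).symm.toAlgHom
    let χ := i.liftNormal N
    refine ⟨AlgEquiv.ofBijective χ (Algebra.IsAlgebraic.algHom_bijective χ), ?_⟩
    ext x
    have h := i.liftNormal_commutes N (AlgEquiv.ofInjectiveField ψ x)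
    refine congrArg Subtype.val (Eq.trans h ?_)
    show φ ((AlgEquiv.ofInjectiveField ψ).symm (AlgEquiv.ofInjectiveField ψ x)) = φ x
    rw [AlgEquiv.symm_apply_apply]
  let μhom : (N ≃ₐ[K] N) →* (ZMod p)ˣ :=
    { toFun := fun g => Units.mk0 (μ g) (hμ g)
      map_one' := Units.ext hone.1
      map_mul' := fun g h => Units.ext (hmul g h).1 }
  set T : Subgroup (N ≃ₐ[K] N) := μhom.ker with hT
  have hmemT : ∀ g, g ∈ T ↔ μ g = 1 := fun g => by
    rw [hT, MonoidHom.mem_ker, Units.ext_iff]; rfl
  have hψ₀ : Nonempty (L →ₐ[K] N) := ⟨e'.symm 0⟩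
  obtain ⟨ψ₀⟩ := hψ₀
  -- the translations form a proper subgroup
  have hTtop : T ≠ ⊤ := by
    intro htop
    have hall : ∀ g, μ g = 1 := fun g => (hmemT g).mp (htop ▸ Subgroup.mem_top g)
    have hfree : ∀ g : N ≃ₐ[K] N, g.toAlgHom.comp ψ₀ = ψ₀ → g = 1 := by
      intro g hg
      have hb : β g = 0 := by
        have h := haff' g ψ₀
        rw [hg, hall g, one_mul] at h
        exact left_eq_add.mp h
      refine hfaith g fun ψ => e'.injective ?_
      rw [haff', hall g, hb, one_mul, add_zero]
    have hsurj : ψ₀.fieldRange = ⊤ := by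
      rw [← IsGalois.fixedField_fixingSubgroup ψ₀.fieldRange]
      have : ψ₀.fieldRange.fixingSubgroup = ⊥ := by
        rw [eq_bot_iff]
        intro g hg
        rw [Subgroup.mem_bot]
        refine hfree g (AlgHom.ext fun x => ?_)
        exact (IntermediateField.mem_fixingSubgroup_iff _ _).mp hg _ ⟨x, rfl⟩
      rw [this, IntermediateField.fixedField_bot]
    let ε : L ≃ₐ[K] N := AlgEquiv.ofBijective ψ₀ ⟨ψ₀.injective, fun y => by
      have hy : y ∈ ψ₀.fieldRange := hsurj ▸ IntermediateField.mem_top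
      exact hy⟩
    have hgal : IsGalois K L := IsGalois.of_algEquiv ε.symm
    obtain ⟨σ, τ, hστ⟩ := hnab hgal
    apply hστ
    apply ε.autCongr.injective
    have hcomm : ∀ g h : N ≃ₐ[K] N, g * h = h * g := by
      intro g h
      refine eq_of_inv_mul_eq_one (hfaith _ fun ψ => e'.injective ?_)
      have e1 : e' (((g * h)⁻¹ * (h * g)).toAlgHom.comp ψ) = e' ψ + β ((g * h)⁻¹ * (h * g)) := by
        rw [haff', hall, one_mul]
      rw [e1]
      have e2 := (hmul (g * h) ((g * h)⁻¹ * (h * g))).2
      rw [mul_inv_cancel_left, hall, one_mul, (hmul h g).2, (hmul g h).2, hall, hall, one_mul,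
        one_mul] at e2
      have : β ((g * h)⁻¹ * (h * g)) = 0 := by linear_combination -e2
      rw [this, add_zero]
    rw [map_mul, map_mul, hcomm]
  -- the field
  set E₀ : IntermediateField K N := IntermediateField.fixedField T with hE₀
  let ι : E₀ ≃ₐ[K] IntermediateField.lift E₀ := IntermediateField.liftAlgEquiv E₀
  haveI hTn : T.Normal := MonoidHom.normal_ker μhom
  haveI : IsGalois K E₀ := IsGalois.of_fixedField_normal_subgroup T
  have hfinE : FiniteDimensional K (IntermediateField.lift E₀) := ι.toLinearEquiv.finiteDimensional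
  have hcyc₀ : IsCyclic (E₀ ≃ₐ[K] E₀) := by
    have q := IsGalois.normalAutEquivQuotient T
    have : IsCyclic ((N ≃ₐ[K] N) ⧸ T) := isCyclic_of_injective (QuotientGroup.kerLift μhom)
      (QuotientGroup.kerLift_injective μhom)
    exact isCyclic_of_surjective q q.surjective
  refine ⟨IntermediateField.lift E₀, IntermediateField.lift_le E₀, hfinE, IsGalois.of_algEquiv ι,
    isCyclic_of_surjective (AlgEquiv.autCongr ι) (AlgEquiv.autCongr ι).surjective, ?_, ?_⟩
  · by_contra hle
    apply hTtop
    have h1 : Module.finrank K E₀ = 1 := by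
      have : Module.finrank K E₀ = Module.finrank K (IntermediateField.lift E₀) :=
        ι.toLinearEquiv.finrank_eq
      have := Module.finrank_pos (R := K) (M := E₀)
      omega
    rw [← IntermediateField.fixingSubgroup_fixedField T, ← hE₀,
      IntermediateField.finrank_eq_one_iff.mp h1, IntermediateField.fixingSubgroup_bot]
  intro w hun
  obtain ⟨W, hW⟩ := (Ideal.nonempty_primesOver (S := NumberField.RingOfIntegers N) w.asIdeal).some
  haveI := hW.1
  haveI := hW.2
  have hW0 : W ≠ ⊥ := Ideal.ne_bot_of_liesOver_of_ne_bot w.ne_bot W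
  haveI : W.IsMaximal := Ideal.IsPrime.isMaximal inferInstance hW0
  by_cases hA : ∀ g : N ≃ₐ[K] N, g • W = W → μ g = 1
  · left
    obtain ⟨f⟩ := H1AffGal.exists_algHom_completion E₀.val w W (fun g hg x => by
      have hx : (x : N) ∈ IntermediateField.fixedField T := x.2
      exact hx ⟨g, (hmemT g).mpr (hA g hg)⟩)
    exact ⟨f.comp ι.symm.toAlgHom⟩
  right
  push Not at hA
  obtain ⟨g₀, hg₀, hμ₀⟩ := hA
  set ψ₁ := e'.symm (β g₀ / (1 - μ g₀)) with hψ₁
  have h1μ : (1 : ZMod p) - μ g₀ ≠ 0 := sub_ne_zero.mpr fun h => hμ₀ h.symm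
  have hfixiff : ∀ ψ : L →ₐ[K] N, g₀.toAlgHom.comp ψ = ψ ↔ ψ = ψ₁ := by
    intro ψ
    rw [hψ₁, Equiv.eq_symm_apply, eq_div_iff h1μ, ← e'.injective.eq_iff, haff']
    constructor <;> intro h <;> linear_combination -h
  by_cases hB : ∀ g : N ≃ₐ[K] N, g • W = W → g.toAlgHom.comp ψ₁ = ψ₁
  · exact H1AffGal.exists_algHom_completion ψ₁ w W (fun g hg x => AlgHom.congr_fun (hB g hg) x)
  exfalso
  push Not at hB
  obtain ⟨h, hh, hne⟩ := hB
  set c := h * g₀ * h⁻¹ * g₀⁻¹ with hc
  have hμc : μ c = 1 := by
    have : μhom c = 1 := by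
      rw [hc, map_mul, map_mul, map_mul, map_inv, map_inv, mul_comm (μhom h) (μhom g₀),
        mul_inv_cancel_right, mul_inv_cancel]
    simpa [μhom, Units.ext_iff] using this
  have hβc : β c ≠ 0 := by
    intro hb
    have hc1 : c = 1 := hfaith c fun ψ => e'.injective (by rw [haff', hμc, hb, one_mul, add_zero])
    have hcm : h * g₀ = g₀ * h := by
      rw [hc, mul_inv_eq_one, mul_inv_eq_iff_eq_mul] at hc1
      exact hc1
    apply hne
    rw [← hfixiff, ← hact_comp, ← hcm, hact_comp, (hfixiff ψ₁).mpr rfl]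
  have hpow : ∀ (n : ℕ) (ψ : L →ₐ[K] N),
      e' ((c ^ n).toAlgHom.comp ψ) = e' ψ + n * β c := by
    intro n
    induction n with
    | zero => intro ψ; simp [hact_one]
    | succ n ih =>
      intro ψ
      rw [pow_succ, hact_comp, ih, haff', hμc]
      push_cast
      ring
  have hcpow : ∀ (n : ℕ) (y : NumberField.RingOfIntegers N), (c ^ n) • y - y ∈ W := by
    intro n
    induction n with
    | zero => intro y; simp
    | succ n ih =>
      intro y
      rw [pow_succ', mul_smul, ← sub_add_sub_cancel _ ((c ^ n) • y) y]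
      exact add_mem (H1AffGal.commutator_sub_mem w W hW0 hg₀ hh _) (ih y)
  have hcong : ∀ φ : L →ₐ[K] N, ∀ x : NumberField.RingOfIntegers L,
      NumberField.RingOfIntegers.mapAlgHom φ x -
        NumberField.RingOfIntegers.mapAlgHom ψ₁ x ∈ W := by
    intro φ x
    have hφ : (c ^ ((e' φ - e' ψ₁) / β c).val).toAlgHom.comp ψ₁ = φ := by
      refine e'.injective ?_
      rw [hpow, ZMod.natCast_val, ZMod.cast_id, div_mul_cancel₀ _ hβc, add_sub_cancel]
    rw [← hφ]
    exact hcpow _ (NumberField.RingOfIntegers.mapAlgHom ψ₁ x)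
  have := H1AffGal.finrank_eq_one_of_congr w W hW0 ψ₁ hcong hun
  rw [hfinrank] at this
  exact hp.one_lt.ne' this

end Groth.Agent.S19284
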