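import Groth.Statements.S19290
import Groth.Agent.GmProperLib.TorusHom
import Groth.Agent.DSPtsLib.Basic
import Groth.Agent.WittEndoLib.Basic

set_option autoImplicit false
set_option backward.isDefEq.respectTransparency false
set_option backward.isDefEq.respectTransparency.types false
set_option maxHeartbeats 1000000
set_option linter.style.haveILetI false
universe u
open CategoryTheory CategoryTheory.Limits MonoidalCategory CartesianMonoidalCategory MonObj AlgebraicGeometry
open AbSch

namespace Groth.Agent.S19290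
open Groth.Agent

/-- Let S be a scheme, T an S-torus and A an abelian S-scheme (smooth, proper, with connected fibres).
Then the S-sheaf of homomorphisms from T to A is trivial: the internal Hom sheaf, on the big fppf
site of S, from the abelian sheaf of points of T to that of A is the zero sheaf. -/
theorem result {S : Scheme.{u}} (T A : Over S)
    [GrpObj T] [IsCommMonObj T] (hT : Red.IsTorus T)
    [GrpObj A] [IsCommMonObj A] [Smooth A.hom] [IsProper A.hom]
    (hA : ∀ s : S, ConnectedSpace ↥(A.hom.fiber s)) :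
    IsZero (HomSh.homSh (QuotSh.J Scheme.fppfPrecoverage S) (CGrpSh.pts Scheme.fppfPrecoverage T) (CGrpSh.pts Scheme.fppfPrecoverage A)) := by
  refine (Limits.IsZero.iff_id_eq_zero _).2 (Sheaf.hom_ext (NatTrans.ext (funext fun U₀ => ?_)))
  ext χ
  let U : Over S := U₀.unop
  let χ₁ : (CGrpSh.pts Scheme.fppfPrecoverage T).over U ⟶ (CGrpSh.pts Scheme.fppfPrecoverage A).over U := χ
  suffices h0 : χ₁ = 0 from h0
  let pr : ∀ W : Over U, (W.left ⟶ T) → (W.left ⟶ A) := fun W b =>
    Additive.toMul (ULift.down (χ₁.hom.app (Opposite.op W) (ULift.up (Additive.ofMul b))))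
  have pr_mul : ∀ W b b', pr W (b * b') = pr W b * pr W b' := fun W b b' =>
    congrArg (fun x => Additive.toMul (ULift.down x))
      (map_add (χ₁.hom.app (Opposite.op W)).hom (ULift.up (Additive.ofMul b)) (ULift.up (Additive.ofMul b')))
  have pr_res : ∀ {W W' : Over U} (φ : W' ⟶ W) (b : W.left ⟶ T), pr W' (φ.left ≫ b) = φ.left ≫ pr W b :=
    fun φ b => congrArg (fun x => Additive.toMul (ULift.down x))
      (ConcreteCategory.congr_hom (χ₁.hom.naturality φ.op) (ULift.up (Additive.ofMul b)))
  let Wo : Over U.left → Over U := fun Y =>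
    Over.mk (Over.homMk Y.hom rfl : (Over.map U.hom).obj Y ⟶ U)
  let T' := Red.bc U.hom T
  let A' := Red.bc U.hom A
  obtain ⟨g, hg⟩ := (DSPtsLib.theta_bijective U.hom (Y := T') (H := A)).2
    (pr (Wo T') (DSPtsLib.theta U.hom (𝟙 T')))
  have key : ∀ (Y : Over U.left) (a : Y ⟶ T'),
      DSPtsLib.theta U.hom (a ≫ g) = pr (Wo Y) (DSPtsLib.theta U.hom a) := fun Y a => by
    let φ : Wo Y ⟶ Wo T' := Over.homMk ((Over.map U.hom).map a) (Over.OverMorphism.ext (Over.w a))
    rw [DSPtsLib.theta_comp, hg]
    exact (pr_res φ (DSPtsLib.theta U.hom (𝟙 T'))).symm.trans (congrArg (pr (Wo Y))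
      ((DSPtsLib.theta_comp U.hom a (𝟙 T')).symm.trans (congrArg (DSPtsLib.theta U.hom) (Category.comp_id a))))
  haveI : IsMonHom g := WittEndoLib.isMonHom_of_mul g fun Y a b => by
    apply (DSPtsLib.theta_bijective U.hom).1
    rw [DSPtsLib.theta_mul, key, key, key, DSPtsLib.theta_mul, pr_mul]
  haveI : IsProper A'.hom := MorphismProperty.pullback_snd _ _ inferInstance
  haveI : LocallyOfFinitePresentation A'.hom := MorphismProperty.pullback_snd _ _ inferInstance
  have hg1 : g = 1 := GmProperLib.eq_one_torus (GmProperLib.isTorus_bc U.hom hT) g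
  have pr_one : ∀ (Y : Over U.left) (c : (Over.map U.hom).obj Y ⟶ T), pr (Wo Y) c = 1 := fun Y c => by
    obtain ⟨a, rfl⟩ := (DSPtsLib.theta_bijective U.hom).2 c
    rw [← key, hg1, MonObj.comp_one]
    have h := DSPtsLib.theta_mul U.hom (1 : Y ⟶ A') 1
    rw [_root_.mul_one] at h
    exact (left_eq_mul.1 h)
  refine Sheaf.hom_ext (NatTrans.ext (funext fun W => ?_))
  ext b
  let Y : Over U.left := Over.mk W.unop.hom.left
  let φ : Wo Y ⟶ W.unop := Over.homMk
    (Over.homMk (𝟙 _) (by
      show 𝟙 _ ≫ W.unop.left.hom = W.unop.hom.left ≫ U.hom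
      rw [Category.id_comp]; exact (Over.w W.unop.hom).symm) : (Over.map U.hom).obj Y ⟶ W.unop.left)
    (Over.OverMorphism.ext (Category.id_comp _))
  haveI : IsIso φ.left.left := inferInstanceAs (IsIso (𝟙 W.unop.left.left))
  have h1 : φ.left ≫ pr W.unop b.down.toMul = φ.left ≫ 1 := by
    rw [← pr_res, pr_one, MonObj.comp_one]
  have h2 : pr W.unop b.down.toMul = 1 :=
    Over.OverMorphism.ext ((cancel_epi φ.left.left).1 (congrArg (fun m => Over.Hom.left m) h1))
  exact congrArg (fun y => ULift.up (Additive.ofMul y)) h2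

end Groth.Agent.S19290
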