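import Groth.Statements.S19307
import Groth.Agent.SchTorsor.Props
import Groth.Agent.EtFound.Descent
import Groth.Agent.SmoothSecLib.Basic
import Groth.Agent.Hensel.SmoothLift
import Mathlib.RingTheory.Henselian
import Mathlib.RingTheory.AdicCompletion.Basic
import Mathlib.RingTheory.PowerSeries.Basic
import Mathlib.RingTheory.Flat.FaithfullyFlat.Algebra
import Mathlib.AlgebraicGeometry.Sites.Fpqc
import Mathlib.AlgebraicGeometry.Limits

set_option autoImplicit false
universe u
open CategoryTheory MonoidalCategory CartesianMonoidalCategory MonObj GrpObj AlgebraicGeometry PowerSeries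
open NonAbH1

namespace Groth.Agent.S19307

open PowerSeries in
theorem smodEq_iff {S : Type u} [CommRing S] {n : ℕ} {f g : S⟦X⟧} :
    f ≡ g [SMOD ((Ideal.span {(PowerSeries.X : S⟦X⟧)}) ^ n • ⊤ : Submodule S⟦X⟧ S⟦X⟧)] ↔
      ∀ m < n, coeff m f = coeff m g := by
  rw [SModEq.sub_mem, Ideal.smul_eq_mul, Ideal.mul_top, Ideal.span_singleton_pow, Ideal.mem_span_singleton,
    X_pow_dvd_iff]
  simp only [map_sub, sub_eq_zero]

open PowerSeries in
theorem isAdicComplete_X (S : Type u) [CommRing S] :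
    IsAdicComplete (Ideal.span {(PowerSeries.X : S⟦X⟧)}) S⟦X⟧ where
  haus' f hf := PowerSeries.ext fun m => (smodEq_iff.1 (hf (m + 1)) m m.lt_succ_self).trans (by simp)
  prec' f hf := ⟨PowerSeries.mk fun m => coeff m (f (m + 1)), fun n => smodEq_iff.2 fun m hm => by
    rw [coeff_mk]
    exact (smodEq_iff.1 (hf (Nat.succ_le_of_lt hm)) m m.lt_succ_self).symm⟩

/-- A smooth surjection onto an affine scheme has a section over an affine etale surjection. -/
theorem exists_affine_etale_section (R : Type u) [CommRing R] {T : Scheme.{u}} (q : T ⟶ Spec (CommRingCat.of R))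
    [Smooth q] [Surjective q] :
    ∃ (R' : Type u) (_ : CommRing R') (_ : Algebra R R'), Algebra.Etale R R' ∧ Module.FaithfullyFlat R R' ∧
      ∃ s : Spec (CommRingCat.of R') ⟶ T, s ≫ q = Spec.map (CommRingCat.ofHom (algebraMap R R')) := by
  classical
  choose x hx using q.surjective
  choose Y g y hY hg hgy h hh using fun p => SmoothSecLib.exists_etale_section_scheme q (x p)
  obtain ⟨F, hF⟩ := (isCompact_univ (X := ↥(Spec (CommRingCat.of R)))).elim_finite_subcover
    (fun p => Set.range (g p)) (fun p => (g p).isOpenMap.isOpen_range)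
    (fun p _ => Set.mem_iUnion.2 ⟨p, y p, (hgy p).trans (hx p)⟩)
  let Y' : F → Scheme.{u} := fun p => Y p
  haveI : ∀ p : F, IsAffine (Y' p) := fun p => hY p
  let G : Limits.sigmaObj Y' ⟶ Spec (CommRingCat.of R) := Limits.Sigma.desc fun p : F => g p
  haveI : Etale G := IsZariskiLocalAtSource.sigmaDesc fun p => hg p
  obtain ⟨φ, hφ⟩ : ∃ φ : CommRingCat.of R ⟶ Γ(Limits.sigmaObj Y', ⊤),
      Spec.map φ = (Limits.sigmaObj Y').isoSpec.inv ≫ G := ⟨_, Spec.map_preimage _⟩
  letI : Algebra R Γ(Limits.sigmaObj Y', ⊤) := φ.hom.toAlgebra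
  have het : Algebra.Etale R Γ(Limits.sigmaObj Y', ⊤) := by
    have h' : Etale (Spec.map φ) := by rw [hφ]; infer_instance
    rw [HasRingHomProperty.Spec_iff (P := @Etale)] at h'
    exact h'
  haveI := het
  refine ⟨Γ(Limits.sigmaObj Y', ⊤), inferInstance, inferInstance, het, ?_,
    (Limits.sigmaObj Y').isoSpec.inv ≫ Limits.Sigma.desc (fun p : F => h p), ?_⟩
  · refine Module.FaithfullyFlat.of_comap_surjective fun p => ?_
    obtain ⟨i, hi⟩ := Set.mem_iUnion.1 (hF (Set.mem_univ p))
    obtain ⟨hiF, z, hz⟩ := Set.mem_iUnion.1 hi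
    refine ⟨(Limits.sigmaObj Y').isoSpec.hom (Limits.Sigma.ι Y' ⟨i, hiF⟩ z), ?_⟩
    show Spec.map φ _ = p
    rw [hφ, ← Scheme.Hom.comp_apply, ← Scheme.Hom.comp_apply, Iso.hom_inv_id_assoc, Limits.Sigma.ι_desc]
    exact hz
  · rw [Category.assoc]
    refine Eq.trans ?_ hφ.symm
    congr 1
    exact Limits.Sigma.hom_ext _ _ fun p => by rw [Limits.Sigma.ι_desc_assoc, Limits.Sigma.ι_desc, hh]

/-- Let R be a commutative ring, G an affine smooth group scheme over the power series ring R⟦X⟧ and P a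
G-torsor over Spec R⟦X⟧ for the fpqc topology. Then there is an étale and faithfully flat R-algebra
R' such that P has a section over Spec R'⟦X⟧. (The published statement takes R an algebra over a
field and G the base change to R⟦X⟧ of a smooth affine group scheme over the power series ring of
that field; the statement here allows any affine smooth group scheme over R⟦X⟧, to which the
published proof applies unchanged.) -/
theorem result
    (R : Type u) [CommRing R]
    (G : Over (Spec (CommRingCat.of R⟦X⟧))) [GrpObj G] [IsAffine G.left] [Smooth G.hom]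
    (P : Over (Spec (CommRingCat.of R⟦X⟧))) (a : AlgGrp.Action G P)
    (hP : NonAbH1.IsTorsorFor Scheme.fpqcPrecoverage a) :
    ∃ (R' : Type u) (_ : CommRing R') (_ : Algebra R R'),
      Algebra.Etale R R' ∧ Module.FaithfullyFlat R R' ∧
      NonAbH1.HasSectionOver P (Spec.map (CommRingCat.ofHom (PowerSeries.map (algebraMap R R')))) := by
  haveI := EtFound.fpqc_isAffineHom.{u}
  haveI : IsAffineHom G.hom := isAffineHom_of_isAffine G.hom
  haveI : IsAffineHom P.hom := SchTorsor.torsor_property @IsAffineHom hP inferInstance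
  haveI : Smooth P.hom := SchTorsor.torsor_property @Smooth hP inferInstance
  haveI : Surjective P.hom := SchTorsor.surjective_hom hP
  haveI : IsAffine P.left := isAffine_of_isAffineHom P.hom
  let c : Spec (CommRingCat.of R) ⟶ Spec (CommRingCat.of R⟦X⟧) :=
    Spec.map (CommRingCat.ofHom (PowerSeries.constantCoeff (R := R)))
  obtain ⟨R', _, _, het, hff, z, hz⟩ := exists_affine_etale_section R (Limits.pullback.snd P.hom c)
  refine ⟨R', inferInstance, inferInstance, het, hff, ?_⟩
  obtain ⟨φ, hφ⟩ : ∃ φ : CommRingCat.of R⟦X⟧ ⟶ Γ(P.left, ⊤), Spec.map φ = P.left.isoSpec.inv ≫ P.hom :=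
    ⟨_, Spec.map_preimage _⟩
  have hsm : φ.hom.Smooth := by
    rw [← HasRingHomProperty.Spec_iff (P := @Smooth), hφ]
    infer_instance
  letI : Algebra R⟦X⟧ Γ(P.left, ⊤) := φ.hom.toAlgebra
  haveI : Algebra.Smooth R⟦X⟧ Γ(P.left, ⊤) := hsm
  letI : Algebra R⟦X⟧ R'⟦X⟧ := (PowerSeries.map (algebraMap R R')).toAlgebra
  obtain ⟨σ, hσ⟩ : ∃ σ : Γ(P.left, ⊤) ⟶ CommRingCat.of R',
      Spec.map σ = z ≫ Limits.pullback.fst P.hom c ≫ P.left.isoSpec.hom := ⟨_, Spec.map_preimage _⟩
  have hσφ : φ ≫ σ = CommRingCat.ofHom ((algebraMap R R').comp PowerSeries.constantCoeff) := by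
    apply Spec.map_injective
    rw [Spec.map_comp, hσ, hφ]
    simp only [Category.assoc, Iso.hom_inv_id_assoc]
    rw [Limits.pullback.condition, reassoc_of% hz, CommRingCat.ofHom_comp, Spec.map_comp]
  let I : Ideal R'⟦X⟧ := Ideal.span {PowerSeries.X}
  haveI : IsAdicComplete I R'⟦X⟧ := isAdicComplete_X R'
  let σ' : Γ(P.left, ⊤) →ₐ[R⟦X⟧] R'⟦X⟧ ⧸ I :=
    { (Ideal.Quotient.mk I).comp (PowerSeries.C.comp σ.hom) with
      commutes' := fun f => by
        show Ideal.Quotient.mk I (PowerSeries.C (σ.hom (φ.hom f))) = Ideal.Quotient.mk I (PowerSeries.map _ f)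
        rw [show σ.hom (φ.hom f) = algebraMap R R' (PowerSeries.constantCoeff f) from
          congrArg (fun h => h.hom f) hσφ, Ideal.Quotient.mk_eq_mk_iff_sub_mem, Ideal.mem_span_singleton,
          PowerSeries.X_dvd_iff]
        rw [map_sub, PowerSeries.constantCoeff_C, sub_eq_zero, ← PowerSeries.coeff_zero_eq_constantCoeff_apply (PowerSeries.map _ f),
          PowerSeries.coeff_map, PowerSeries.coeff_zero_eq_constantCoeff_apply] }
  obtain ⟨τ, -⟩ := Hensel.exists_smooth_lift (A := R'⟦X⟧) I (R := R⟦X⟧) σ'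
  refine ⟨Spec.map (CommRingCat.ofHom τ.toRingHom) ≫ P.left.isoSpec.inv, ?_⟩
  rw [Category.assoc, ← hφ, ← Spec.map_comp]
  congr 1
  exact CommRingCat.hom_ext (RingHom.ext fun r => τ.commutes r)

end Groth.Agent.S19307
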