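import Groth.Statements.S19309
import Mathlib.RingTheory.LaurentSeries

set_option autoImplicit false
universe u
open PowerSeries LaurentSeries
open CAlg

namespace Groth.Agent.S19309

/-- Let k be a field, R a commutative k-algebra, B a finitely presented R⟦X⟧-algebra (an affine scheme V
= Spec B of finite presentation over the disc D_R = Spec R⟦X⟧) and s : B → R((X)) an R⟦X⟧-algebra
map (a section of V over the punctured disc). Then there is an ideal I of R such that for every ring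
map φ : R → R', writing θ : R((X)) → R'((X)) for the ring map compatible with R⟦X⟧ → R'⟦X⟧, the
section s extends to a section over D_{R'} — an R⟦X⟧-algebra map s' : B → R'⟦X⟧ whose composite with
R'⟦X⟧ → R'((X)) is θ ∘ s — if and only if φ kills I. In other words the sub-presheaf of Spec R where
s extends over the disc is the closed subscheme defined by I. -/
theorem result
    (k : Type u) [Field k] (R : Type u) [CommRing R] [Algebra k R]
    (B : Type u) [CommRing B] [Algebra R⟦X⟧ B] [Algebra.FinitePresentation R⟦X⟧ B]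
    (s : B →ₐ[R⟦X⟧] R⸨X⸩) :
    ∃ I : Ideal R, ∀ (R' : Type u) [CommRing R'] (φ : R →+* R') (θ : R⸨X⸩ →+* R'⸨X⸩),
      θ.comp (algebraMap R⟦X⟧ R⸨X⸩) = (algebraMap R'⟦X⟧ R'⸨X⸩).comp (PowerSeries.map φ) →
      ((∃ s' : B →+* R'⟦X⟧, s'.comp (algebraMap R⟦X⟧ B) = PowerSeries.map φ ∧
          (algebraMap R'⟦X⟧ R'⸨X⸩).comp s' = θ.comp s.toRingHom) ↔ I ≤ RingHom.ker φ) := by
  classical
  obtain ⟨G, hG⟩ := (Algebra.FiniteType.out : (⊤ : Subalgebra R⟦X⟧ B).FG)
  have hsurj : ∀ b : B, ∃ p : R⟦X⟧ × ℕ, s b * algebraMap R⟦X⟧ R⸨X⸩ (PowerSeries.X ^ p.2) =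
      algebraMap R⟦X⟧ R⸨X⸩ p.1 := fun b => by
    obtain ⟨⟨h, ⟨_, n, rfl⟩⟩, hh⟩ := IsLocalization.surj (Submonoid.powers (PowerSeries.X : R⟦X⟧)) (s b)
    exact ⟨⟨h, n⟩, hh⟩
  choose p hp using hsurj
  refine ⟨Ideal.span {r | ∃ g ∈ G, ∃ i < (p g).2, PowerSeries.coeff i (p g).1 = r}, fun R' _ φ θ hθ => ?_⟩
  let ι := algebraMap R'⟦X⟧ R'⸨X⸩
  have hι : Function.Injective ι := HahnSeries.ofPowerSeries_injective
  have hθ' : ∀ h : R⟦X⟧, θ (algebraMap R⟦X⟧ R⸨X⸩ h) = ι (PowerSeries.map φ h) := fun h => DFunLike.congr_fun hθ h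
  have hu : ∀ n : ℕ, IsUnit (ι (PowerSeries.X ^ n)) := fun n =>
    IsLocalization.map_units R'⸨X⸩ (⟨_, n, rfl⟩ : Submonoid.powers (PowerSeries.X : R'⟦X⟧))
  have key : ∀ b : B, θ (s b) ∈ ι.range ↔ ∀ i < (p b).2, φ (PowerSeries.coeff i (p b).1) = 0 := by
    intro b
    have h1 : θ (s b) * ι (PowerSeries.X ^ (p b).2) = ι (PowerSeries.map φ (p b).1) := by
      rw [← hθ', ← hp b, map_mul, hθ', map_pow (PowerSeries.map φ), PowerSeries.map_X]
    constructor
    · rintro ⟨y, hy⟩ i hi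
      rw [← hy, ← map_mul] at h1
      rw [← PowerSeries.coeff_map, ← hι h1]
      exact PowerSeries.X_pow_dvd_iff.1 (Dvd.intro_left y rfl) i hi
    · intro h
      obtain ⟨y, hy⟩ := (PowerSeries.X_pow_dvd_iff (φ := PowerSeries.map φ (p b).1) (n := (p b).2)).2
        fun i hi => by rw [PowerSeries.coeff_map]; exact h i hi
      refine ⟨y, ((hu (p b).2).mul_left_inj).1 ?_⟩
      rw [← map_mul, mul_comm y, ← hy, h1]
  rw [Ideal.span_le]
  constructor
  · rintro ⟨s', -, hs'⟩ _ ⟨g, -, i, hi, rfl⟩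
    exact (key g).1 ⟨s' g, DFunLike.congr_fun hs' g⟩ i hi
  · intro hI
    have hall : ∀ b : B, θ (s b) ∈ ι.range := fun b => by
      have hb : b ∈ Algebra.adjoin R⟦X⟧ (G : Set B) := hG ▸ Algebra.mem_top
      induction hb using Algebra.adjoin_induction with
      | mem x hx => exact (key x).2 fun i hi => hI ⟨x, hx, i, hi, rfl⟩
      | algebraMap r => exact ⟨PowerSeries.map φ r, by rw [AlgHom.commutes, hθ']⟩
      | add x y _ _ hx hy => rw [map_add, map_add]; exact ι.range.add_mem hx hy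
      | mul x y _ _ hx hy => rw [map_mul, map_mul]; exact ι.range.mul_mem hx hy
    let s' : B →+* R'⟦X⟧ := (RingEquiv.ofLeftInverse (Function.leftInverse_invFun hι)).symm.toRingHom.comp
      ((θ.comp s.toRingHom).codRestrict ι.range hall)
    have hs' : ∀ b, ι (s' b) = θ (s b) := fun b => by
      obtain ⟨y, hy⟩ := hall b
      have : s' b = y := by
        show Function.invFun ι (θ (s b)) = y
        rw [← hy]
        exact Function.leftInverse_invFun hι y
      rw [this, hy]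
    refine ⟨s', RingHom.ext fun r => hι ?_, RingHom.ext hs'⟩
    show ι (s' (algebraMap R⟦X⟧ B r)) = ι (PowerSeries.map φ r)
    rw [hs', AlgHom.commutes, hθ']

end Groth.Agent.S19309
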