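import Groth.Statements.S19322
import Groth.Agent.S8355
import Groth.Agent.S14355
import Mathlib

set_option autoImplicit false
universe v u
open CategoryTheory CategoryTheory.Limits
open SpSeq

namespace Groth.Agent.S19322

/-- Let K be a field and E a cohomological spectral sequence of K-vector spaces, pages from r₀,
concentrated in the first quadrant on page r₀ and with all terms of page r₀ finite-dimensional, and
let H be abutment data for E whose filtration in degree n is finite, H n finite-dimensional. If the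
dimensions of the page-r₀ terms E^{s, n-s}, 0 ≤ s ≤ n, add up to the dimension of H n, then every
position of total degree n is stationary from page r₀ on: all differentials into and out of it
vanish on every page. (The printed statement takes r₀ a positive integer and n ≥ 0; neither
restriction is needed.) -/
theorem result
    {K : Type u} [Field K] {r₀ : ℤ}
    (E : CohomologicalSpectralSequence (ModuleCat.{v} K) r₀) (H : ℤ → ModuleCat.{v} K)
    (a : SpSeq.Abutment E H) (n : ℤ) (hfin : a.IsFinite n)
    (hquad : ∀ pq : ℤ × ℤ, pq.1 < 0 ∨ pq.2 < 0 → IsZero ((E.page r₀ le_rfl).X pq))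
    (hfd : ∀ pq : ℤ × ℤ, Module.Finite K ((E.page r₀ le_rfl).X pq))
    (hH : Module.Finite K (H n))
    (hsum : ∑ s ∈ Finset.Icc (0 : ℤ) n, Module.finrank K ((E.page r₀ le_rfl).X (s, n - s)) =
      Module.finrank K (H n)) :
    ∀ s : ℤ, SpSeq.StationaryAt E (s, n - s) r₀ := by
  classical
  have hfin' : (a.filObj n).IsFinite := hfin
  have hpage : ∀ (r : ℤ) (hr : r₀ ≤ r) (pq : ℤ × ℤ),
      Module.Finite K ((E.page r hr).X pq) ∧ ∀ (h1 : r₀ ≤ r + 1),
        Module.finrank K ((E.page (r + 1) h1).X pq) ≤ Module.finrank K ((E.page r hr).X pq) ∧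
        (Module.finrank K ((E.page (r + 1) h1).X pq) = Module.finrank K ((E.page r hr).X pq) →
          (E.page r hr).d (pq - (r, 1 - r)) pq = 0 ∧ (E.page r hr).d pq (pq + (r, 1 - r)) = 0) ∧
        (((E.page r hr).d (pq - (r, 1 - r)) pq = 0 ∧ (E.page r hr).d pq (pq + (r, 1 - r)) = 0) →
          Module.finrank K ((E.page (r + 1) h1).X pq) = Module.finrank K ((E.page r hr).X pq)) := by
    have step : ∀ (r : ℤ) (hr : r₀ ≤ r) (pq : ℤ × ℤ) [Module.Finite K ((E.page r hr).X pq)] (h1 : r₀ ≤ r + 1),
        Module.Finite K ((E.page (r + 1) h1).X pq) ∧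
        (Module.finrank K ((E.page (r + 1) h1).X pq) ≤ Module.finrank K ((E.page r hr).X pq) ∧
        (Module.finrank K ((E.page (r + 1) h1).X pq) = Module.finrank K ((E.page r hr).X pq) →
          (E.page r hr).d (pq - (r, 1 - r)) pq = 0 ∧ (E.page r hr).d pq (pq + (r, 1 - r)) = 0) ∧
        (((E.page r hr).d (pq - (r, 1 - r)) pq = 0 ∧ (E.page r hr).d pq (pq + (r, 1 - r)) = 0) →
          Module.finrank K ((E.page (r + 1) h1).X pq) = Module.finrank K ((E.page r hr).X pq))) := by
      intro r hr pq _ h1
      let c := ComplexShape.up' (⟨r, 1 - r⟩ : ℤ × ℤ)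
      have hprev : c.prev pq = pq - (r, 1 - r) := ComplexShape.prev_eq' _ (by simp [c])
      have hnext : c.next pq = pq + (r, 1 - r) := ComplexShape.next_eq' _ (by simp [c])
      let e := (((E.page r hr).isoSc' (pq - (r, 1 - r)) pq (pq + (r, 1 - r)) hprev hnext))
      let T := (E.page r hr).sc' (pq - (r, 1 - r)) pq (pq + (r, 1 - r))
      let eh : (E.page (r + 1) h1).X pq ≅ T.moduleCatLeftHomologyData.H :=
        (E.iso r (r + 1) pq rfl hr).symm ≪≫ ShortComplex.homologyMapIso e ≪≫ T.moduleCatHomologyIso
      haveI : Module.Finite K T.X₂ := inferInstanceAs (Module.Finite K ((E.page r hr).X pq))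
      let R := LinearMap.range T.moduleCatToCycles
      let q : (E.page (r + 1) h1).X pq ≃ₗ[K] (LinearMap.ker T.g.hom ⧸ R) := eh.toLinearEquiv
      have hR : Module.finrank K R = Module.finrank K (LinearMap.range T.f.hom) := by
        refine (Submodule.equivMapOfInjective (LinearMap.ker T.g.hom).subtype Subtype.val_injective R).finrank_eq.trans ?_
        rw [← LinearMap.range_comp]; rfl
      have hq := Submodule.finrank_quotient_add_finrank R
      rw [← q.finrank_eq, hR] at hq
      have hg := LinearMap.finrank_range_add_finrank_ker T.g.hom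
      have hX : Module.finrank K T.X₂ = Module.finrank K ((E.page r hr).X pq) := rfl
      rw [hX] at hg
      haveI : Module.Finite K (LinearMap.range T.g.hom) := Module.Finite.range _
      refine ⟨Module.Finite.equiv q.symm, by omega, fun h => ⟨?_, ?_⟩, fun ⟨hf0, hg0⟩ => ?_⟩
      · refine ModuleCat.hom_ext (LinearMap.range_eq_bot.1 (Submodule.finrank_eq_zero.1 (?_ :
          Module.finrank K (LinearMap.range T.f.hom) = 0)))
        omega
      · refine ModuleCat.hom_ext (LinearMap.range_eq_bot.1 (Submodule.finrank_eq_zero.1 (?_ :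
          Module.finrank K (LinearMap.range T.g.hom) = 0)))
        omega
      · have h1 : Module.finrank K (LinearMap.range T.f.hom) = 0 := by
          rw [show T.f.hom = 0 from congrArg ModuleCat.Hom.hom hf0, LinearMap.range_zero, finrank_bot]
        have h2 : Module.finrank K (LinearMap.range T.g.hom) = 0 := by
          rw [show T.g.hom = 0 from congrArg ModuleCat.Hom.hom hg0, LinearMap.range_zero, finrank_bot]
        omega
    have fin : ∀ (r : ℤ) (hr : r₀ ≤ r) (pq : ℤ × ℤ), Module.Finite K ((E.page r hr).X pq) := by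
      intro r hr
      induction r, hr using Int.le_induction with
      | base => exact hfd
      | succ r hr ih => exact fun pq => (haveI := ih pq; (step r hr pq _).1)
    exact fun r hr pq => ⟨fin r hr pq, fun h1 => (haveI := fin r hr pq; (step r hr pq h1).2)⟩
  let f : (r : ℤ) → r₀ ≤ r → ℤ × ℤ → ℕ := fun r hr pq => Module.finrank K ((E.page r hr).X pq)
  have anti : ∀ (pq : ℤ × ℤ) (r : ℤ) (hr : r₀ ≤ r) (r' : ℤ) (h : r ≤ r'), f r' (hr.trans h) pq ≤ f r hr pq := by
    intro pq r hr r' h
    induction r', h using Int.le_induction with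
    | base => exact le_rfl
    | succ r' h ih => exact ((hpage r' (hr.trans h) pq).2 _).1.trans ih
  have tail : ∀ (pq : ℤ × ℤ) (r : ℤ) (h : a.rk pq ≤ r),
      f r ((a.stat pq).1.trans h) pq = f (a.rk pq) (a.stat pq).1 pq := by
    intro pq r h
    induction r, h using Int.le_induction with
    | base => rfl
    | succ r h ih => exact (((hpage r ((a.stat pq).1.trans h) pq).2 _).2.2 ((a.stat pq).2 r _ h)).trans ih
  have stat : ∀ pq : ℤ × ℤ, f (a.rk pq) (a.stat pq).1 pq = f r₀ le_rfl pq → SpSeq.StationaryAt E pq r₀ := by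
    intro pq heq
    refine ⟨le_rfl, fun r hr _ => ?_⟩
    have h1 := anti pq r₀ le_rfl r hr
    have h2 : f (a.rk pq) (a.stat pq).1 pq ≤ f (r + 1) (by omega) pq := by
      have h3 := anti pq (r + 1) (by omega) (max (a.rk pq) (r + 1)) (le_max_right _ _)
      rw [tail pq _ (le_max_left _ _)] at h3
      exact h3
    exact ((hpage r hr pq).2 (by omega)).2.1 (le_antisymm ((hpage r hr pq).2 (by omega)).1 (h1.trans (heq ▸ h2)))
  intro s
  by_cases hs : s ∈ Finset.Icc (0 : ℤ) n
  swap
  · refine ⟨le_rfl, fun r hr _ => ?_⟩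
    have hz := (S8355.result E r₀ le_rfl (s, n - s) (hquad _ (by simp only [Finset.mem_Icc] at hs; show s < 0 ∨ n - s < 0; omega))).1 r hr
    exact ⟨hz.eq_of_tgt _ _, hz.eq_of_src _ _⟩
  have hgrz : ∀ p, p ∉ Finset.Icc (0 : ℤ) n → IsZero ((a.filObj n).gr p) := by
    intro p hp
    have h := (S8355.result E r₀ le_rfl (p, n - p) (hquad _ (by simp only [Finset.mem_Icc] at hp; show p < 0 ∨ n - p < 0; omega))).2 H a
    have key : ∀ m : ℤ, m = n → IsZero (SpSeq.grPiece (a.fil m) (a.anti m) p) → IsZero ((a.filObj n).gr p) := by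
      rintro m rfl h; exact h
    exact key _ (by show p + (n - p) = n; omega) h
  have hn : 0 ≤ n := by simp only [Finset.mem_Icc] at hs; omega
  obtain ⟨⟨x, hx⟩, ⟨y, hy⟩⟩ := hfin'
  have htop : (a.filObj n).fil 0 = ⊤ := by
    rcases le_or_gt x 0 with h | h
    · rw [S14355.fil_const (a.filObj n) x 0 h (fun i _ h2 => hgrz i (by simp; omega)), hx]
    · exact top_le_iff.1 (hx ▸ (a.filObj n).anti h.le)
  have hbot : (a.filObj n).fil (n + 1) = ⊥ := by
    rcases le_or_gt (n + 1) y with h | h
    · rw [← S14355.fil_const (a.filObj n) (n + 1) y h (fun i h1 _ => hgrz i (by simp; omega)), hy]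
    · exact le_bot_iff.1 (hy ▸ (a.filObj n).anti h.le)
  haveI : Module.Finite K (a.filObj n).obj := hH
  let d : ℤ → ℕ := fun p => Module.finrank K ((a.filObj n).step p)
  haveI hstep : ∀ p, Module.Finite K ((a.filObj n).step p) := fun p =>
    Module.Finite.of_injective ((a.filObj n).fil p).arrow.hom ((ModuleCat.mono_iff_injective _).1 inferInstance)
  have hgr : ∀ p, Module.finrank K ((a.filObj n).gr p) + d (p + 1) = d p := by
    intro p
    let i := ((a.filObj n).fil (p + 1)).ofLE ((a.filObj n).fil p) ((a.filObj n).anti (Int.le_add_one le_rfl))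
    have h := Submodule.finrank_quotient_add_finrank (LinearMap.range i.hom)
    rw [LinearMap.finrank_range_of_inj ((ModuleCat.mono_iff_injective i).1 inferInstance),
      ← (ModuleCat.cokernelIsoRangeQuotient i).toLinearEquiv.finrank_eq] at h
    exact h
  have hd0 : d 0 = Module.finrank K (H n) := by
    haveI : IsIso ((a.filObj n).fil 0).arrow := (Subobject.isIso_arrow_iff_eq_top _).2 htop
    exact (asIso ((a.filObj n).fil 0).arrow).toLinearEquiv.finrank_eq
  have hd1 : d (n + 1) = 0 := by
    have hz : IsZero ((a.filObj n).step (n + 1)) := by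
      unfold SpSeq.FilObj.step; rw [hbot]; exact (isZero_zero _).of_iso Subobject.botCoeIsoZero
    haveI := ModuleCat.subsingleton_of_isZero hz
    exact Module.finrank_zero_of_subsingleton
  have hβ : ∀ p, f (a.rk (p, n - p)) (a.stat (p, n - p)).1 (p, n - p) = Module.finrank K ((a.filObj n).gr p) := by
    intro p
    have key : ∀ m : ℤ, m = n →
        Module.finrank K (SpSeq.grPiece (a.fil m) (a.anti m) p : ModuleCat.{v} K) = Module.finrank K ((a.filObj n).gr p) := by
      rintro m rfl; rfl
    exact (a.β (p, n - p)).toLinearEquiv.finrank_eq.trans (key _ (by show p + (n - p) = n; omega))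
  have tele : ∀ m : ℤ, -1 ≤ m → ∑ p ∈ Finset.Icc (0 : ℤ) m, Module.finrank K ((a.filObj n).gr p) + d (m + 1) = d 0 := by
    intro m hm
    induction m, hm using Int.le_induction with
    | base => simp
    | succ m hm ih =>
      rw [← Finset.insert_Icc_right_eq_Icc_add_one (by omega), Finset.sum_insert (by simp)]
      have := hgr (m + 1)
      omega
  have hall : ∑ p ∈ Finset.Icc (0 : ℤ) n, f (a.rk (p, n - p)) (a.stat (p, n - p)).1 (p, n - p) =
      ∑ p ∈ Finset.Icc (0 : ℤ) n, f r₀ le_rfl (p, n - p) := by
    rw [Finset.sum_congr rfl (fun p _ => hβ p)]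
    have := tele n (by omega)
    show _ = ∑ p ∈ Finset.Icc (0 : ℤ) n, Module.finrank K ((E.page r₀ le_rfl).X (p, n - p))
    rw [hsum]
    omega
  exact stat _ ((Finset.sum_eq_sum_iff_of_le (fun p _ => anti (p, n - p) r₀ le_rfl _ (a.stat (p, n - p)).1)).1 hall s hs)

end Groth.Agent.S19322
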