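import Groth.Statements.S19323
import Groth.Agent.S8355

set_option autoImplicit false
universe v u
open CategoryTheory CategoryTheory.Limits
open SpSeq

namespace Groth.Agent.S19323

/-- In an abelian category let E and E' be first-quadrant E₂ cohomological spectral sequences and φ : E
⟶ E' a morphism of spectral sequences such that (i) every differential of E' leaving a position
whose first coordinate is nonzero vanishes, (ii) on every page the map φ at each position followed
by the outgoing differential of E' is zero, and (iii) φ is a monomorphism at every position of page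
2. Then E degenerates at page 2. -/
theorem result
    {C : Type u} [Category.{v} C] [Abelian C]
    (E E' : E₂CohomologicalSpectralSequence C) (φ : E ⟶ E')
    (hE : ∀ pq : ℤ × ℤ, pq.1 < 0 ∨ pq.2 < 0 → IsZero ((E.page 2 le_rfl).X pq))
    (hE' : ∀ pq : ℤ × ℤ, pq.1 < 0 ∨ pq.2 < 0 → IsZero ((E'.page 2 le_rfl).X pq))
    (hd' : ∀ (r : ℤ) (hr : 2 ≤ r) (pq : ℤ × ℤ), pq.1 ≠ 0 →
      (E'.page r hr).d pq (pq + (r, 1 - r)) = 0)
    (hφd : ∀ (r : ℤ) (hr : 2 ≤ r) (pq : ℤ × ℤ),
      (φ.hom r hr).f pq ≫ (E'.page r hr).d pq (pq + (r, 1 - r)) = 0)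
    (hmono : ∀ pq : ℤ × ℤ, Mono ((φ.hom 2 le_rfl).f pq)) :
    SpSeq.Degenerates E 2 := by
  have hup := fun (r : ℤ) (hr : 2 ≤ r) (pq : ℤ × ℤ) (h : pq.1 < 0 ∨ pq.2 < 0) =>
    ((S8355.result E 2 le_rfl pq (hE pq h)).1 r hr)
  have key : ∀ (r : ℤ) (hr : 2 ≤ r), ∀ pq : ℤ × ℤ, r ≤ pq.1 → Mono ((φ.hom r hr).f pq) →
      ∀ x : ℤ × ℤ, (E.page r hr).d x pq = 0 := by
    intro r hr pq hp hm x
    by_cases hx : (ComplexShape.up' (⟨r, 1 - r⟩ : ℤ × ℤ)).Rel x pq
    · have hxe : x + (r, 1 - r) = pq := hx
      haveI := hm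
      rw [← cancel_mono ((φ.hom r hr).f pq), ← HomologicalComplex.Hom.comm, zero_comp]
      subst hxe
      exact hφd r hr x
    · exact (E.page r hr).shape _ _ hx
  have mono : ∀ (r : ℤ) (hr : 2 ≤ r), ∀ pq : ℤ × ℤ, r ≤ pq.1 → Mono ((φ.hom r hr).f pq) := by
    intro r hr
    induction r, hr using Int.le_induction with
    | base => exact fun pq _ => hmono pq
    | succ r hr ih =>
      intro pq hp
      haveI := ih pq (by omega)
      have hK : (E.page r hr).d ((ComplexShape.up' (⟨r, 1 - r⟩ : ℤ × ℤ)).prev pq) pq = 0 :=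
        key r hr pq (by omega) inferInstance _
      have hL : (E'.page r hr).d ((ComplexShape.up' (⟨r, 1 - r⟩ : ℤ × ℤ)).prev pq) pq = 0 := by
        rw [ComplexShape.prev_eq' _ (show (ComplexShape.up' (⟨r, 1 - r⟩ : ℤ × ℤ)).Rel (pq - (r, 1 - r)) pq from
          sub_add_cancel _ _)]
        have h := hd' r hr (pq - (r, 1 - r)) (by simp only [Prod.fst_sub]; omega)
        rwa [sub_add_cancel] at h
      haveI := (E.page r hr).isIso_homologyπ _ pq rfl hK
      haveI := (E'.page r hr).isIso_homologyπ _ pq rfl hL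
      haveI : Mono (HomologicalComplex.cyclesMap (φ.hom r hr) pq) := by
        haveI : Mono (HomologicalComplex.cyclesMap (φ.hom r hr) pq ≫ (E'.page r hr).iCycles pq) := by
          rw [HomologicalComplex.cyclesMap_i]; infer_instance
        exact mono_of_mono _ ((E'.page r hr).iCycles pq)
      haveI : Mono (HomologicalComplex.homologyMap (φ.hom r hr) pq) := by
        haveI : Mono ((E.page r hr).homologyπ pq ≫ HomologicalComplex.homologyMap (φ.hom r hr) pq) := by
          rw [HomologicalComplex.homologyπ_naturality]; infer_instance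
        exact ((MorphismProperty.monomorphisms C).cancel_left_of_respectsIso _ _).1 this
      haveI : Mono ((E.iso r (r + 1) pq rfl hr).hom ≫ (φ.hom (r + 1) (by omega)).f pq) := by
        rw [← φ.comm r (r + 1) pq rfl hr]; infer_instance
      exact ((MorphismProperty.monomorphisms C).cancel_left_of_respectsIso _ _).1 this
  refine ⟨le_rfl, fun r hr _ x y => ?_⟩
  by_cases hxy : (ComplexShape.up' (⟨r, 1 - r⟩ : ℤ × ℤ)).Rel x y
  · by_cases hx : x.1 < 0
    · exact (hup r hr x (Or.inl hx)).eq_of_src _ _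
    · have hxe : x + (r, 1 - r) = y := hxy
      have hy : r ≤ y.1 := by rw [← hxe, Prod.fst_add]; dsimp only; omega
      exact key r hr y hy (mono r hr y hy) x
  · exact (E.page r hr).shape _ _ hxy

end Groth.Agent.S19323
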