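import Groth.Statements.S19336
import Groth.Agent.BlowSep.Wide
import Groth.Agent.BlowUpLib.Glue
import Groth.Agent.MorLib.IdealFG2
import Groth.Agent.ModPairLib.AmbProd
-- import your own Groth.Agent.* helpers here

set_option autoImplicit false
universe u
open CategoryTheory CategoryTheory.Limits AlgebraicGeometry TopologicalSpace
open ModPair Groth.Agent AlgebraicGeometry.Scheme

namespace Groth.Agent.S19336

/-- Let (S, I) be a modulus pair, i.e. a scheme S with the quasi-coherent ideal sheaf I of an effective
Cartier divisor, with S quasi-compact and quasi-separated and with interior U, and let (V_i) be a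
covering of U by quasi-compact open subsets. Then there are a quasi-coherent ideal sheaf F of finite
type on S whose support is disjoint from U, a blow-up b : Y ⟶ S of S in F (an admissible blow-up)
such that I.comap b is again the ideal sheaf of an effective Cartier divisor, and a covering of Y by
quasi-compact open subsets W_j such that each W_j ∩ b⁻¹(U) is contained in b⁻¹(V_i) for some i: the
Zariski covering of the interior extends, after an admissible blow-up, to a Zariski covering of the
total space. -/
theorem result {S : Scheme.{u}}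
    [CompactSpace S] [QuasiSeparatedSpace S] (I : S.IdealSheafData)
    (hI : BlowUp.IsEffCartierIdeal I) {ι : Type u} (V : ι → S.Opens)
    (hVU : ∀ i, V i ≤ ModPair.interior I) (hVqc : ∀ i, IsCompact (V i : Set S))
    (hcov : ModPair.interior I ≤ ⨆ i, V i) :
    ∃ (F : S.IdealSheafData) (Y : Scheme.{u}) (b : Y ⟶ S) (κ : Type u) (W : κ → Y.Opens),
      BlowUp.IsAdmissibleFor (ModPair.interior I) F ∧ BlowUp.IsBlowUp b F ∧
        BlowUp.IsEffCartierIdeal (I.comap b) ∧ (∀ k, IsCompact (W k : Set Y)) ∧
        (⨆ k, W k) = ⊤ ∧ ∀ k, ∃ i, W k ⊓ b ⁻¹ᵁ ModPair.interior I ≤ b ⁻¹ᵁ V i := by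
  classical
  have hIft : BlowUp.IsFiniteTypeIdeal I := fun U => ModPairLib.fg_of_isLocPrincipal (ModPairLib.isLocPrincipal_of_isEffCartier hI) U
  have hUc : IsCompact (ModPair.interior I : Set S) := BlowSep.isCompact_compl_support I hIft
  obtain ⟨t, ht⟩ := hUc.elim_finite_subcover (fun i => (V i : Set S)) (fun i => (V i).2)
    (fun x hx => by simpa using Opens.mem_iSup.1 (hcov hx))
  choose F hF hFs using fun i : t => BlowSep.exists_ft_support_eq ((V i : Set S)ᶜ) (V i).2.isClosed_compl
    (by rw [compl_compl]; exact hVqc i)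
  let G : S.IdealSheafData := ⨆ i : t, F i
  have hG : BlowUp.IsFiniteTypeIdeal G := by
    have : ∀ s : Finset t, MorLib.IdealFG.IsFG (⨆ i ∈ s, F i) := fun s => by
      induction s using Finset.induction_on with
      | empty => simpa using MorLib.IdealFG.isFG_bot
      | insert a s _ ih => rw [Finset.iSup_insert]; exact MorLib.IdealFG.isFG_sup (hF a) ih
    have h := this Finset.univ; simp only [Finset.mem_univ, iSup_pos] at h; exact h
  have hGU : Disjoint (G.support : Set S) (ModPair.interior I : Set S) := by
    refine Set.disjoint_left.2 fun x hx hxU => ?_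
    obtain ⟨i, hi, hxi⟩ := Set.mem_iUnion₂.1 (ht hxU)
    have : x ∈ ((F ⟨i, hi⟩).support : Set S) :=
      IdealSheafData.support_antitone (le_iSup F ⟨i, hi⟩) hx
    rw [hFs] at this
    exact this hxi
  obtain ⟨Y, b, hb⟩ := BlowUpLib.exists_blowUp (C := G)
  have hE : BlowUp.IsEffCartierIdeal (⨆ i : t, (F i).comap b) := by
    rw [← (IdealSheafData.map_gc b).l_iSup]
    exact hb.1
  choose j W hxW hW using BlowSep.exists_eq_of_iSup_isEffCartier _ hE
  refine ⟨G, Y, b, ↥Y, fun y => (W y).1, ⟨hG, hGU⟩, hb, ModPairLib.isEffCartier_comap_blowUp hb hI,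
    fun y => (W y).2.isCompact, eq_top_iff.2 fun y _ => Opens.mem_iSup.2 ⟨y, hxW y⟩,
    fun y => ⟨j y, fun z hz => ?_⟩⟩
  by_contra hne
  have h1 : z ∈ (((F (j y)).comap b).support : Set Y) := by
    rw [IdealSheafData.support_comap]
    show b z ∈ ((F (j y)).support : Set S)
    rw [hFs]
    exact hne
  have h2 : z ∈ ((⨆ i : t, (F i).comap b).support : Set Y) := by
    exact (BlowSep.support_congr (hW y) hz.1).1 h1
  rw [← (IdealSheafData.map_gc b).l_iSup, IdealSheafData.support_comap] at h2
  exact Set.disjoint_left.1 hGU h2 hz.2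

end Groth.Agent.S19336
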