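import Groth.Statements.S1936
import Groth.Agent.S1341
import Groth.Agent.S1342
import Groth.Agent.Triage.CMMor
import Groth.Agent.GrpdLib.Affine
import Groth.Agent.GrpdLib.DegDecomp
import Mathlib.AlgebraicGeometry.Morphisms.UniversallyOpen

set_option autoImplicit false
universe u
open CategoryTheory CategoryTheory.Limits AlgebraicGeometry
open Grpd

namespace Groth.Agent.S1936

set_option backward.isDefEq.respectTransparency false

theorem cm_iff {X Y : Scheme.{u}} (f : X ⟶ Y) (x : X) : Grpd.IsCMAt f x ↔ MoreMor.IsCMAt f x :=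
  (Triage.CMMor.isCMAt_iff f x).symm

/-- Let (U, R, s, t, c) be a groupoid scheme over S with s, t flat and locally of finite presentation.
There is an open U' ⊆ U such that t⁻¹(U') is exactly the set of points of R at which s is
Cohen–Macaulay, s⁻¹(U') is exactly the set of points at which t is Cohen–Macaulay, and both t
restricted to s⁻¹(U') and s restricted to t⁻¹(U') are surjective onto U. (Part (5), that the
restriction of R to U' is a groupoid with Cohen–Macaulay s', t', then follows and is not restated.)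
Cohen–Macaulay at a point: flat there with Cohen–Macaulay fibre local ring (Grpd.IsCMAt). (A
groupoid scheme carries U, R, s, t, c, e, i over S with the groupoid axioms on T-points; 'finite
locally free' is finite, flat and locally of finite presentation; C ⊂ Γ(U) is the ring of functions
a with s♯(a) = t♯(a) and M = Spec C.) -/
theorem result (S : Scheme.{u}) (G : Grpd.GroupoidScheme S) [Flat G.s] [LocallyOfFinitePresentation G.s] [Flat G.t] [LocallyOfFinitePresentation G.t] : ∃ U' : G.U.Opens, (G.t ⁻¹ᵁ U' : Set G.R) = {r | Grpd.IsCMAt G.s r} ∧ (G.s ⁻¹ᵁ U' : Set G.R) = {r | Grpd.IsCMAt G.t r} ∧ ⇑G.t '' (G.s ⁻¹ᵁ U' : Set G.R) = Set.univ ∧ ⇑G.s '' (G.t ⁻¹ᵁ U' : Set G.R) = Set.univ := by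
  simp only [cm_iff]
  haveI : IsIso G.i := ⟨G.i, GrpdLib.i_i G, GrpdLib.i_i G⟩
  let A : Set G.R := {r | MoreMor.IsCMAt G.s r}
  obtain ⟨hA, hdense⟩ := S1341.result G.s
  -- the Cohen–Macaulay locus of `pr₂`
  have h1 := S1342.result G.s (pullback.snd G.s G.t) (pullback.fst G.s G.t) G.t (IsPullback.of_hasPullback G.s G.t)
  have h2 := S1342.result G.s (pullback.snd G.s G.t) G.c G.s (GrpdLib.isPullback_snd_c G).flip
  have hw : ∀ w : ↑(pullback G.s G.t), pullback.fst G.s G.t w ∈ A ↔ G.c w ∈ A := fun w =>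
    (Set.ext_iff.1 h1 w).symm.trans (Set.ext_iff.1 h2 w)
  have hinv : ∀ r r' : G.R, G.t r = G.t r' → r ∈ A → r' ∈ A := by
    intro r r' h hr
    obtain ⟨z, hz₁, hz₂⟩ := Scheme.Pullback.exists_preimage_pullback (f := G.t) (g := G.t) r r' h
    let β := pullback.lift (f := G.s) (g := G.t) (pullback.fst G.t G.t ≫ G.i) (pullback.snd G.t G.t)
      (by rw [Category.assoc, G.i_s, pullback.condition]) ≫ G.c
    have hβt : pullback.fst G.t G.t ≫ G.s = β ≫ G.t := by
      rw [G.comp_t, Category.assoc, G.i_t]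
    let w := pullback.lift (f := G.s) (g := G.t) (pullback.fst G.t G.t) β hβt
    have hc : w ≫ G.c = pullback.snd G.t G.t := by
      show pullback.lift _ (pullback.lift _ _ _ ≫ G.c) _ ≫ G.c = _
      rw [← G.assoc (pullback.fst G.t G.t) (pullback.fst G.t G.t ≫ G.i) (pullback.snd G.t G.t)
        (by rw [Category.assoc, G.i_t]) (by rw [Category.assoc, G.i_s, pullback.condition])]
      refine (GrpdLib.c_congr G _ ?_ rfl).trans (G.e_comp _)
      rw [G.comp_i, ← Category.assoc, pullback.condition, Category.assoc]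
    have := (hw (w z)).1 (by
      rw [← Scheme.Hom.comp_apply, show w ≫ pullback.fst G.s G.t = pullback.fst G.t G.t from pullback.lift_fst _ _ _, hz₁]
      exact hr)
    rwa [← Scheme.Hom.comp_apply, hc, hz₂] at this
  have hopen : IsOpenMap G.t := G.t.isOpenMap
  let U' : G.U.Opens := ⟨G.t '' A, hopen A hA⟩
  have ht : ∀ r, G.t r ∈ U' ↔ r ∈ A := fun r =>
    ⟨fun ⟨r', hr', e⟩ => hinv r' r e hr', fun hr => ⟨r, hr, rfl⟩⟩
  have hs : ∀ r, G.s r ∈ U' ↔ G.i r ∈ A := fun r => by
    rw [← ht (G.i r), ← Scheme.Hom.comp_apply, G.i_t]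
  have hsurj : ∀ u, ∃ r ∈ A, G.s r = u := by
    intro u
    have hne : Nonempty ↥(G.s.fiber u) := by
      obtain ⟨x, hx⟩ : G.e u ∈ Set.range (G.s.fiberι u) := by
        rw [Scheme.Hom.range_fiberι]
        show G.s (G.e u) = u
        rw [← Scheme.Hom.comp_apply, G.e_s]; rfl
      exact ⟨x⟩
    obtain ⟨x, hx⟩ := (hdense u).nonempty
    refine ⟨G.s.fiberι u x, hx, ?_⟩
    have : G.s.fiberι u x ∈ Set.range (G.s.fiberι u) := ⟨x, rfl⟩
    rwa [Scheme.Hom.range_fiberι] at this
  refine ⟨U', Set.ext fun r => ht r, Set.ext fun r => ?_, Set.eq_univ_of_forall fun u => ?_,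
    Set.eq_univ_of_forall fun u => ?_⟩
  · refine (hs r).trans ?_
    exact (Set.ext_iff.1 (S1342.result G.s G.t G.i (𝟙 G.U) (IsPullback.of_horiz_isIso ⟨by rw [Category.comp_id, G.i_s]⟩)) r).symm
  · obtain ⟨r, hr, rfl⟩ := hsurj u
    have hii : G.i (G.i r) = r := by rw [← Scheme.Hom.comp_apply, GrpdLib.i_i]; rfl
    refine ⟨G.i r, (hs (G.i r)).2 (by rw [hii]; exact hr), ?_⟩
    show G.t (G.i r) = G.s r
    rw [← Scheme.Hom.comp_apply, G.i_t]
  · obtain ⟨r, hr, rfl⟩ := hsurj u
    exact ⟨r, (ht r).2 hr, rfl⟩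

end Groth.Agent.S1936
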