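import Groth.Statements.S19376
import Groth.Agent.Adic7.Lift
import Groth.Agent.S0544
import Mathlib.RingTheory.Smooth.AdicCompletion
import Mathlib.RingTheory.Smooth.Basic

set_option autoImplicit false
universe u
open EGA4

namespace Groth.Agent.S19376

theorem exists_finite_lift {R : Type u} [CommRing R] (hR : IsNoetherianRing R) (I : Ideal R)
    (A C : Type u) [CommRing A] [Algebra R A] [Algebra.Smooth R A] [CommRing C] [Algebra R C] [Algebra.Smooth R C]
    (φ₀ : (A ⧸ I.map (algebraMap R A)) →ₐ[R] (C ⧸ I.map (algebraMap R C))) (hφ₀ : φ₀.toRingHom.Finite) :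
    ∃ φ : AdicCompletion (I.map (algebraMap R A)) A →ₐ[R] AdicCompletion (I.map (algebraMap R C)) C,
      φ.toRingHom.Finite ∧
      (AdicCompletion.evalOneₐ (I.map (algebraMap R C))).toRingHom.comp φ.toRingHom =
        φ₀.toRingHom.comp (AdicCompletion.evalOneₐ (I.map (algebraMap R A))).toRingHom := by
  classical
  haveI := hR
  haveI : IsNoetherianRing A := Algebra.FiniteType.isNoetherianRing R A
  haveI : IsNoetherianRing C := Algebra.FiniteType.isNoetherianRing R C
  let JA : Ideal A := I.map (algebraMap R A)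
  let JC : Ideal C := I.map (algebraMap R C)
  have hfA : JA.FG := IsNoetherian.noetherian _
  have hfC : JC.FG := IsNoetherian.noetherian _
  let Ah := AdicCompletion JA A
  let Ch := AdicCompletion JC C
  let KA : Ideal Ah := JA.map (algebraMap A Ah)
  let KC : Ideal Ch := JC.map (algebraMap C Ch)
  haveI : IsAdicComplete KA Ah := Groth.Agent.Adic7.isAdicComplete_completion JA hfA
  haveI : IsAdicComplete KC Ch := Groth.Agent.Adic7.isAdicComplete_completion JC hfC
  have hKA : KA = I.map (algebraMap R Ah) := Groth.Agent.Adic7.map_map_completion I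
  have hKC : KC = I.map (algebraMap R Ch) := Groth.Agent.Adic7.map_map_completion I
  have hkerA : ∀ x, AdicCompletion.evalOneₐ JA x = 0 ↔ x ∈ KA := fun x => by
    rw [← RingHom.mem_ker, show KA = _ from (AdicCompletion.ker_evalOneₐ_eq_map JA hfA).symm]
    rfl
  have hkerC : ∀ x, AdicCompletion.evalOneₐ JC x = 0 ↔ x ∈ KC := fun x => by
    rw [← RingHom.mem_ker, show KC = _ from (AdicCompletion.ker_evalOneₐ_eq_map JC hfC).symm]
    rfl
  obtain ⟨g, hg⟩ := Algebra.FormallySmooth.exists_adicCompletionEvalOneₐ_comp_eq (R := R) (A := A)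
    (φ₀.comp (Ideal.Quotient.mkₐ R JA))
  have hgJ : JA.map g ≤ KC := by
    rw [hKC, show JA = I.map (algebraMap R A) from rfl, ← Ideal.map_coe (f := g), Ideal.map_map]
    exact le_of_eq (congrArg (Ideal.map · I) g.comp_algebraMap)
  obtain ⟨F, hF⟩ := Groth.Agent.Adic7.exists_lift_completion JA KC g hgJ
  have hFK : KA.map F.toRingHom = KC := by
    rw [hKA, hKC, Ideal.map_map]
    exact congrArg (Ideal.map · I) F.comp_algebraMap
  have hcomp : ∀ x, AdicCompletion.evalOneₐ JC (F x) = φ₀ (AdicCompletion.evalOneₐ JA x) := fun x => by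
    obtain ⟨a, ha⟩ := Groth.Agent.Adic7.exists_sub_algebraMap_mem JA hfA x 1
    rw [pow_one] at ha
    have h1 := (hkerA _).2 ha
    have h2 := (hkerC _).2 (hFK ▸ Ideal.mem_map_of_mem F.toRingHom ha)
    rw [map_sub, sub_eq_zero] at h1
    rw [show F.toRingHom (x - algebraMap A Ah a) = F x - g a by
      show F (x - algebraMap A Ah a) = _
      rw [map_sub, hF], map_sub, sub_eq_zero] at h2
    rw [h2, h1]
    exact congr($hg a)
  refine ⟨F, ?_, RingHom.ext hcomp⟩
  letI : Algebra Ah Ch := F.toRingHom.toAlgebra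
  show Module.Finite Ah Ch
  have hsmul : ∀ n : ℕ, ∀ x : Ch, x ∈ (KA ^ n • ⊤ : Submodule Ah Ch) ↔ x ∈ KC ^ n := fun n x => by
    rw [Ideal.smul_top_eq_map, Submodule.restrictScalars_mem, Ideal.map_pow,
      show algebraMap Ah Ch = F.toRingHom from rfl, hFK]
  haveI : IsHausdorff KA Ch := ⟨fun x hx => IsHausdorff.haus (I := KC) inferInstance x fun n => by
    have h := hx n
    rw [SModEq.zero, hsmul] at h
    rwa [SModEq.zero, Ideal.smul_eq_mul, Ideal.mul_top]⟩
  refine S0544.result Ah KA Ch ?_
  letI : Algebra (A ⧸ JA) (C ⧸ JC) := φ₀.toRingHom.toAlgebra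
  haveI : Module.Finite (A ⧸ JA) (C ⧸ JC) := hφ₀
  obtain ⟨k, c, hc⟩ := Module.Finite.exists_fin (R := A ⧸ JA) (M := C ⧸ JC)
  choose d hd using fun i => AdicCompletion.evalOneₐ_surjective JC (c i)
  refine ⟨⟨Finset.univ.image fun i => Submodule.mkQ (KA • ⊤ : Submodule Ah Ch) (d i), eq_top_iff.2 fun y _ => ?_⟩⟩
  obtain ⟨y, rfl⟩ := Submodule.mkQ_surjective _ y
  obtain ⟨l, hl⟩ := (Submodule.mem_span_range_iff_exists_fun (A ⧸ JA)).1
    (hc.ge (Submodule.mem_top (x := AdicCompletion.evalOneₐ JC y)))
  choose a ha using fun i => AdicCompletion.evalOneₐ_surjective JA (l i)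
  have hy : Submodule.mkQ (KA • ⊤ : Submodule Ah Ch) y = Submodule.mkQ _ (∑ i, a i • d i) := by
    rw [Submodule.mkQ_apply, Submodule.mkQ_apply, Submodule.Quotient.eq]
    have h1 := hsmul 1 (y - ∑ i, a i • d i)
    rw [pow_one, pow_one] at h1
    refine h1.2 ((hkerC _).1 ?_)
    rw [map_sub, map_sum, ← hl, sub_eq_zero]
    refine Finset.sum_congr rfl fun i _ => ?_
    rw [show a i • d i = F (a i) * d i from rfl, map_mul, hcomp, ha, hd]
    rfl
  rw [hy, map_sum]
  refine Submodule.sum_mem _ fun i _ => ?_
  rw [map_smul]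
  exact Submodule.smul_mem _ _ (Submodule.subset_span (by simp))

/-- Let V be an excellent normal ring with no additive torsion, I an ideal of V such that (V, I) is a
henselian pair, A and C smooth V-algebras, and φ₀ a V-algebra homomorphism from A/IA to C/IC which
is finite. Then φ₀ lifts to a finite V-algebra homomorphism φ from the IA-adic completion of A to
the IC-adic completion of C: composing φ with the projection onto C/IC equals the projection onto
A/IA followed by φ₀. (The published statement also treats finite flat, finite faithfully flat and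
finite étale maps, whose proofs are referred elsewhere; only the finite case is stated.) -/
theorem result
    (V : Type u) [CommRing V] [IsAddTorsionFree V]
    (hexc : EGA4.IsExcellent V) (hV : EGA4.IsNormalRing V)
    (I : Ideal V) [HenselianRing V I]
    (A C : Type u) [CommRing A] [Algebra V A] [Algebra.Smooth V A]
    [CommRing C] [Algebra V C] [Algebra.Smooth V C]
    (φ₀ : (A ⧸ I.map (algebraMap V A)) →ₐ[V] (C ⧸ I.map (algebraMap V C)))
    (hφ₀ : φ₀.toRingHom.Finite) :
    ∃ φ : AdicCompletion (I.map (algebraMap V A)) A →ₐ[V]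
        AdicCompletion (I.map (algebraMap V C)) C,
      φ.toRingHom.Finite ∧
      (AdicCompletion.evalOneₐ (I.map (algebraMap V C))).toRingHom.comp φ.toRingHom =
        φ₀.toRingHom.comp (AdicCompletion.evalOneₐ (I.map (algebraMap V A))).toRingHom := by
  exact exists_finite_lift (R := V) hexc.1 I A C φ₀ hφ₀

end Groth.Agent.S19376
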