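import Groth.Statements.S19378
import Groth.Agent.FormCat.OnePlus
import Groth.Agent.FlatLoc6.GeomComp

set_option autoImplicit false
universe u
open EGA4

namespace Groth.Agent.S19378

/-- Let A be a Noetherian ring, J a proper ideal of A, Â the J-adic completion and A_T the localization
of A at T = 1 + J. If the canonical map A → Â is a normal homomorphism (flat with geometrically
normal fibres), then A_T is a normal ring (all local rings integrally closed domains) if and only if
Â is. (The case of the henselization of the pair and of the weak completion is not stated here.) -/
theorem result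
    (A : Type u) [CommRing A] [IsNoetherianRing A] (J : Ideal A) (hJ : J ≠ ⊤)
    (hf : EGA4.IsNormalHom A (AdicCompletion J A))
    (T : Submonoid A) (hT : T = MonoidHom.mker (Ideal.Quotient.mk J)) :
    EGA4.IsNormalRing (Localization T) ↔ EGA4.IsNormalRing (AdicCompletion J A) := by
  obtain ⟨_, _, hff, ⟨e⟩⟩ := FormCat.exists_onePlus A J hJ T hT
  haveI := hff
  haveI : IsNoetherianRing (AdicCompletion J A) := FormalFib6.isNoetherianRing_adicCompletion A J
  haveI : IsNoetherianRing (Localization T) := IsLocalization.isNoetherianRing T _ inferInstance
  haveI : Algebra.EssFiniteType A (Localization T) := Algebra.EssFiniteType.of_isLocalization _ T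
  have hn := FormalFib6.isNormalHom_of_algEquiv e
    (FlatLoc6.isNormalHom_baseChange_ess A (AdicCompletion J A) (Localization T) hf)
  exact ⟨fun h => FlatLoc6.normal_of_isNormalHom _ _ hn h,
    fun h => FlatLoc6.isNormalRing_of_faithfullyFlat _ (AdicCompletion J A) h⟩

end Groth.Agent.S19378
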