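import Groth.Statements.S1938
import Groth.Agent.S9371
import Groth.Agent.S9372

set_option autoImplicit false
universe u
open CategoryTheory CategoryTheory.Limits AlgebraicGeometry
open Grpd

namespace Groth.Agent.S1938

set_option backward.isDefEq.respectTransparency false
set_option backward.isDefEq.respectTransparency.types false

/-- Let (U, R, s, t, c) be a groupoid scheme over S, e : U → R its identity and C_{U/R} the conormal
sheaf of the immersion e. View R as a scheme over U via t. Then there is an epimorphism of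
O_R-modules s^*C_{U/R} → Ω_{R/U}, and if s is flat there is an isomorphism s^*C_{U/R} ≅ Ω_{R/U}.
(The published statement has t^*C_{U/R} here; with R over U via t that version is false — for the
pair groupoid of the disjoint union of a point and the affine line over ℚ the two sheaves have
different supports — and the statement given here has s^*C_{U/R} instead.) Stated for t
quasi-separated, where the shared prelude's Ω_{R/U} (conormal sheaf of the diagonal of t through
Mathlib's kernel ideal sheaf) and conormal sheaf of the section e are the usual ones. (A groupoid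
scheme carries U, R, s, t, c, e, i over S with the groupoid axioms on T-points.) -/
theorem result (S : Scheme.{u}) (G : Grpd.GroupoidScheme S) [QuasiSeparated G.t] : (∃ φ : (Scheme.Modules.pullback G.s).obj (Omega.conormal G.e) ⟶ Omega.sheaf G.t, Epi φ) ∧ (Flat G.s → Nonempty ((Scheme.Modules.pullback G.s).obj (Omega.conormal G.e) ≅ Omega.sheaf G.t)) := by
  have he : G.e ≫ G.t = 𝟙 G.U := G.e_t
  haveI : IsImmersion (G.e ≫ G.t) := by rw [he]; infer_instance
  haveI : IsImmersion G.e := IsImmersion.of_comp G.e G.t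
  haveI : QuasiCompact (G.e ≫ G.t) := by rw [he]; infer_instance
  haveI : QuasiCompact G.e := QuasiCompact.of_comp G.e G.t
  let P := pullback G.t G.t
  let p₁ : P ⟶ G.R := pullback.fst G.t G.t
  let p₂ : P ⟶ G.R := pullback.snd G.t G.t
  have hw : p₁ ≫ G.t = p₂ ≫ G.t := pullback.condition
  let g : P ⟶ G.R := pullback.lift (p₁ ≫ G.i) p₂ (by rw [Category.assoc, G.i_s]; exact hw) ≫ G.c
  have congrc : ∀ {T : Scheme.{u}} {a b a' b' : T ⟶ G.R} (h : a ≫ G.s = b ≫ G.t) (h' : a' ≫ G.s = b' ≫ G.t),
      a = a' → b = b' → pullback.lift a b h ≫ G.c = pullback.lift a' b' h' ≫ G.c := by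
    intro T a b a' b' h h' ha hb
    subst ha
    subst hb
    rfl
  have hcomp : ∀ {T : Scheme.{u}} (x : T ⟶ P),
      x ≫ g = pullback.lift ((x ≫ p₁) ≫ G.i) (x ≫ p₂) (by
        rw [Category.assoc, G.i_s, Category.assoc, Category.assoc, hw]) ≫ G.c := by
    intro T x
    rw [show g = pullback.lift (p₁ ≫ G.i) p₂ (by rw [Category.assoc, G.i_s]; exact hw) ≫ G.c from rfl,
      ← Category.assoc]
    congr 1
    apply pullback.hom_ext
    · simp only [Category.assoc, pullback.lift_fst]
    · simp only [Category.assoc, pullback.lift_snd]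
  have hgt : p₁ ≫ G.s = g ≫ G.t := by
    rw [G.comp_t, Category.assoc, G.i_t]
  -- an arrow is recovered from the first factor and the quotient
  have hrec : ∀ {T : Scheme.{u}} (x : T ⟶ P) (h : (x ≫ p₁) ≫ G.s = (x ≫ g) ≫ G.t),
      pullback.lift (x ≫ p₁) (x ≫ g) h ≫ G.c = x ≫ p₂ := by
    intro T x h
    have h₁ : (x ≫ p₁) ≫ G.s = ((x ≫ p₁) ≫ G.i) ≫ G.t := by rw [Category.assoc (x ≫ p₁), G.i_t]
    have h₂ : ((x ≫ p₁) ≫ G.i) ≫ G.s = (x ≫ p₂) ≫ G.t := by
      rw [Category.assoc, G.i_s, Category.assoc, Category.assoc, hw]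
    refine (congrc h (h₁.trans (G.comp_t _ _ h₂).symm) rfl (hcomp x)).trans ?_
    rw [← G.assoc _ _ _ h₁ h₂]
    refine (congrc _ (by simp only [Category.assoc, G.e_s, Category.comp_id]) ?_ rfl).trans (G.e_comp (x ≫ p₂))
    rw [G.comp_i]
    simp only [Category.assoc]
    rw [reassoc_of% hw]
  have sqP : IsPullback p₁ g G.s G.t := by
    refine ⟨⟨hgt⟩, ⟨PullbackCone.IsLimit.mk _
      (fun c => pullback.lift c.fst (pullback.lift c.fst c.snd c.condition ≫ G.c) (G.comp_t _ _ c.condition).symm)
      (fun c => pullback.lift_fst _ _ _) (fun c => ?_) (fun c x h1 h2 => ?_)⟩⟩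
    · rw [hcomp]
      have h₁ : (c.fst ≫ G.i) ≫ G.s = c.fst ≫ G.t := by rw [Category.assoc, G.i_s]
      refine (congrc _ (h₁.trans (G.comp_t _ _ c.condition).symm)
        (by simp only [p₁, pullback.lift_fst]) (by simp only [p₂, pullback.lift_snd])).trans ?_
      rw [← G.assoc _ _ _ h₁ c.condition]
      refine (congrc _ (by rw [Category.assoc, Category.assoc, G.e_s, Category.comp_id]) ?_ rfl).trans (G.e_comp c.snd)
      rw [G.i_comp]
      exact (Category.assoc _ _ _).symm.trans ((congrArg (· ≫ G.e) c.condition).trans (Category.assoc _ _ _))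
    · apply pullback.hom_ext
      · rw [pullback.lift_fst]; exact h1
      · rw [pullback.lift_snd]
        refine (hrec x (by rw [Category.assoc, Category.assoc, hgt])).symm.trans ?_
        exact congrc _ c.condition h1 h2
  have hΔ : pullback.diagonal G.t ≫ g = G.s ≫ G.e := by
    rw [hcomp]
    have e₁ : pullback.diagonal G.t ≫ p₁ = 𝟙 G.R := pullback.diagonal_fst G.t
    have e₂ : pullback.diagonal G.t ≫ p₂ = 𝟙 G.R := pullback.diagonal_snd G.t
    refine (congrc _ (by rw [Category.assoc, G.i_s]) (by rw [e₁]) e₂).trans ((G.i_comp (𝟙 G.R)).trans ?_)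
    rw [Category.id_comp]
  have sqΔ : IsPullback (pullback.diagonal G.t) G.s g G.e := by
    refine ⟨⟨hΔ⟩, ⟨PullbackCone.IsLimit.mk _ (fun c => c.fst ≫ p₁) (fun c => ?_) (fun c => ?_) (fun c x h1 h2 => ?_)⟩⟩
    · have hc : c.fst ≫ g = c.snd ≫ G.e := c.condition
      have hu : (c.fst ≫ p₁) ≫ G.s = c.snd := by
        rw [Category.assoc, hgt, ← Category.assoc, hc, Category.assoc, G.e_t, Category.comp_id]
      have h2 : c.fst ≫ p₂ = c.fst ≫ p₁ := by
        refine (hrec c.fst (by rw [Category.assoc, Category.assoc, hgt])).symm.trans ?_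
        refine (congrc _ (by rw [Category.assoc _ _ G.t, Category.assoc _ _ G.t, G.e_t, Category.comp_id]) rfl ?_).trans
          (G.comp_e (c.fst ≫ p₁))
        rw [hc, ← hu, Category.assoc]
      apply pullback.hom_ext
      · rw [Category.assoc, pullback.diagonal_fst, Category.comp_id]
      · rw [Category.assoc, pullback.diagonal_snd, Category.comp_id]
        exact h2.symm
    · rw [Category.assoc, hgt, ← Category.assoc,
        show c.fst ≫ g = c.snd ≫ G.e from c.condition, Category.assoc, G.e_t, Category.comp_id]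
    · rw [← h1, Category.assoc, show pullback.diagonal G.t ≫ p₁ = 𝟙 G.R from pullback.diagonal_fst G.t,
        Category.comp_id]
  haveI : QuasiCompact (pullback.diagonal G.t) := inferInstance
  obtain ⟨φ, hφ, -⟩ := Groth.Agent.S9371.result (pullback.diagonal G.t) G.e g G.s hΔ.symm
  obtain ⟨hepi, hiso⟩ := Groth.Agent.S9372.result (pullback.diagonal G.t) G.e g G.s sqΔ φ hφ
  refine ⟨⟨φ, hepi⟩, fun hflat => ?_⟩
  have : Flat g := MorphismProperty.of_isPullback (P := @Flat) sqP hflat
  haveI : IsIso φ := hiso this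
  exact ⟨asIso φ⟩

end Groth.Agent.S1938
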