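import Groth.Statements.S19382
import Groth.Agent.FlatCpl.Scheme

set_option autoImplicit false
set_option synthInstance.maxHeartbeats 200000
attribute [-instance] CategoryTheory.catToReflQuiver
set_option backward.isDefEq.respectTransparency false
set_option backward.isDefEq.respectTransparency.types false
universe u
open CategoryTheory CategoryTheory.Limits AlgebraicGeometry
open FlatMor

namespace Groth.Agent.S19382

/-- Over a discrete valuation ring, let V be a henselian discrete valuation ring with maximal ideal 𝔪, A
a smooth V-algebra, Â the 𝔪A-adic completion of A, and h : X → Spec A a proper morphism with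
reduction h₀ over Spec(A/𝔪A). Then X is flat over V and h₀ is smooth if and only if the base change
of h to Spec Â is smooth. (As for the flat case, the published statement concerns an excellent
normal base ring with a henselian pair and the projective lift built from lifted equations, together
with the weak completion and the henselization; it is given here over a discrete valuation ring and
for an arbitrary proper h.) -/
theorem result
    (V : Type u) [CommRing V] [IsDomain V] [IsDiscreteValuationRing V] [HenselianLocalRing V]
    (A : Type u) [CommRing A] [Algebra V A] [Algebra.Smooth V A]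
    (X : Scheme.{u}) (h : X ⟶ Spec (.of A)) [IsProper h] :
    (Flat (h ≫ Spec.map (CommRingCat.ofHom (algebraMap V A))) ∧
        Smooth (pullback.snd h (Spec.map (CommRingCat.ofHom
          (Ideal.Quotient.mk ((IsLocalRing.maximalIdeal V).map (algebraMap V A))))))) ↔
      Smooth (pullback.snd h (Spec.map (CommRingCat.ofHom
          (algebraMap A (AdicCompletion ((IsLocalRing.maximalIdeal V).map (algebraMap V A)) A))))) := by
  obtain ⟨ϖ, hϖ⟩ := IsDiscreteValuationRing.exists_irreducible V
  have hI : (IsLocalRing.maximalIdeal V).map (algebraMap V A) = Ideal.span {algebraMap V A ϖ} := by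
    rw [hϖ.maximalIdeal_eq, Ideal.map_span, Set.image_singleton]
  rw [hI]
  have : IsNoetherianRing A := Algebra.FiniteType.isNoetherianRing V A
  have : LocallyOfFinitePresentation h := LocallyOfFinitePresentation.iff_locallyOfFiniteType.2 inferInstance
  constructor
  · rintro ⟨hV, h₀⟩
    have hfl : Flat (pullback.snd h (Spec.map (CommRingCat.ofHom (Ideal.Quotient.mk (Ideal.span {algebraMap V A ϖ}))))) :=
      inferInstance
    let G : X.Opens := ⟨_, FlatLocus.isOpen_flat_locus h⟩
    have hG : Flat (G.ι ≫ h) :=
      Flat.of_stalkMap _ fun z => (FibFlat.flat_stalk_open_comp G.ι h z).2 z.2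
    refine FlatCpl.smooth_completion_of_forall _ h fun x hx => ?_
    exact FlatCpl.mem_smoothLocus_of_smooth_pullback _ h G x hx
      (FlatCpl.flat_stalk_of_flat_quotient ϖ (IsSMulRegular.of_ne_zero hϖ.ne_zero) h hV hfl x
        (hx (Ideal.mem_span_singleton_self _)))
  · intro hC
    exact ⟨FlatCpl.flat_of_flat_completion ϖ hϖ h,
      FlatCpl.pullback_snd_quotient_of_completion (P := @Smooth) _ h hC⟩

end Groth.Agent.S19382
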