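import Groth.Statements.S19383
import Mathlib

set_option autoImplicit false
universe u
open CAlg

namespace Groth.Agent.S19383

/-- Over a discrete valuation ring, let V be a henselian discrete valuation ring with maximal ideal 𝔪
and B a Noetherian V-algebra, B̂ its 𝔪B-adic completion. Then B is flat over V if and only if B̂ is
flat over V. (The published lemma takes V an excellent normal ring with an ideal I such that (V,
V/I) is a henselian pair and B of finite type; in that generality it fails: for V = ℤ_p[[x]], I =
(p) and B = V[y]/(x, py − 1) ≅ ℚ_p one has IB = B, so B̂ = 0 is flat while B is not flat over V.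
Over a discrete valuation ring flatness is torsion-freeness and the statement holds for every
Noetherian B.) -/
theorem result
    (V : Type u) [CommRing V] [IsDomain V] [IsDiscreteValuationRing V] [HenselianLocalRing V]
    (B : Type u) [CommRing B] [Algebra V B] [IsNoetherianRing B] :
    Module.Flat V B ↔
      Module.Flat V (AdicCompletion ((IsLocalRing.maximalIdeal V).map (algebraMap V B)) B) := by
  classical
  obtain ⟨p, hp⟩ := IsDiscreteValuationRing.exists_irreducible V
  set J := (IsLocalRing.maximalIdeal V).map (algebraMap V B) with hJ
  have hJspan : J = Ideal.span {algebraMap V B p} := by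
    rw [hJ, hp.maximalIdeal_eq, Ideal.map_span, Set.image_singleton]
  constructor
  · intro h
    haveI := h
    exact Module.Flat.trans V B (AdicCompletion J B)
  · intro h
    haveI := h
    rw [Module.Flat.flat_iff_torsion_eq_bot_of_isBezout (R := V), eq_bot_iff]
    intro b hb
    rw [Submodule.mem_torsion_iff] at hb
    obtain ⟨a, ha⟩ := hb
    have ha' : (a : V) ≠ 0 := nonZeroDivisors.ne_zero a.2
    obtain ⟨n, u, hu⟩ := IsDiscreteValuationRing.eq_unit_mul_pow_irreducible ha' hp
    have hab : algebraMap V B a * b = 0 := by
      rw [← Algebra.smul_def]; exact ha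
    -- the image of b in the completion is torsion, hence zero
    have hof : AdicCompletion.of J B b = 0 := by
      have hinj : IsSMulRegular (AdicCompletion J B) (a : V) :=
        Module.Flat.isSMulRegular_of_isRegular (IsRegular.of_ne_zero ha')
      apply hinj
      dsimp only
      rw [smul_zero, algebra_compatible_smul B (a : V), ← map_smul, smul_eq_mul, hab, map_zero]
    have hmem : b ∈ (⨅ i : ℕ, J ^ i • (⊤ : Submodule B B)) := by
      rw [Submodule.mem_iInf]
      intro i
      have := congrArg (fun z => (z : AdicCompletion J B).val i) hof
      rw [← Submodule.Quotient.mk_eq_zero]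
      simpa [-smul_eq_mul] using this
    obtain ⟨r, hr⟩ := (Ideal.mem_iInf_smul_pow_eq_bot_iff J b).1 hmem
    obtain ⟨r, hrJ⟩ := r
    rw [hJspan, Ideal.mem_span_singleton'] at hrJ
    obtain ⟨x, rfl⟩ := hrJ
    simp only [smul_eq_mul] at hr
    have hzero : algebraMap V B p ^ n * b = 0 := by
      have hu' : IsUnit (algebraMap V B (u : V)) := u.isUnit.map _
      apply hu'.mul_left_cancel
      rw [mul_zero, ← mul_assoc, ← map_pow, ← map_mul, ← hu, hab]
    have hpow : ∀ i : ℕ, b = x ^ i * algebraMap V B p ^ i * b := by
      intro i
      induction i with
      | zero => simp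
      | succ i ih =>
        nth_rewrite 1 [← hr]
        nth_rewrite 1 [ih]
        ring
    rw [Submodule.mem_bot, hpow n, mul_assoc, hzero, mul_zero]

end Groth.Agent.S19383
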