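import Groth.Statements.S1943
import Groth.Agent.SamuelKoszul.Filtration
-- import your own Groth.Agent.* helpers here

set_option autoImplicit false
set_option backward.isDefEq.respectTransparency false
set_option backward.isDefEq.respectTransparency.types false
set_option linter.style.haveILetI false
set_option maxHeartbeats 1000000
universe u
open CategoryTheory
open IntMult

namespace Groth.Agent.S1943
open Groth.Agent

/-- Let A be a Noetherian local ring, f₁, …, f_r elements generating an ideal of definition I (𝔪^n ⊆ I ⊆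
𝔪 for some n) and M a finite A-module. Then r! · length_A(M/I^t M)/t^r tends, as t → ∞, to Σ_i
(−1)^i length_A H^i(K(f₁, …, f_r) ⊗_A M), the Euler characteristic of the Koszul complex tensored
with M (cohomological indexing, degrees −r, …, 0); that is, e_I(M, r) equals that alternating sum.
The Koszul complex is the shared prelude's mapping-cone model. -/
theorem result (A : Type u) [CommRing A] [IsNoetherianRing A] [IsLocalRing A] (r : ℕ) (f : Fin r → A) (hI : Ideal.span (Set.range f) ≤ IsLocalRing.maximalIdeal A ∧ ∃ n : ℕ, IsLocalRing.maximalIdeal A ^ n ≤ Ideal.span (Set.range f)) (M : Type u) [AddCommGroup M] [Module A M] [Module.Finite A M] : Filter.Tendsto (fun t : ℕ => (r.factorial : ℝ) * ((Module.length A (M ⧸ (Ideal.span (Set.range f) ^ t • (⊤ : Submodule A M)))).toNat : ℝ) / (t : ℝ) ^ r) Filter.atTop (nhds ((∑ᶠ i : ℤ, ((i.negOnePow : ℤˣ) : ℤ) * ((Module.length A ((DRing.tensorCx (Koszul.koszul A (List.ofFn f)) (ModuleCat.of A M)).homology i)).toNat : ℤ) : ℤ) : ℝ)) := by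
  obtain ⟨n, hn⟩ := hI.2
  have hfl : IsFiniteLength A (M ⧸ (Ideal.ofList (List.ofFn f) • ⊤ : Submodule A M)) := by
    rw [Groth.Agent.H1KoszulEuler.span_ofFn]
    refine Module.length_ne_top_iff.1 (Groth.Agent.HSLib.length_ne_top_of_forall_isMaximal fun p hp => ?_)
    rw [Module.support_quotient] at hp
    have h1 : IsLocalRing.maximalIdeal A ^ n ≤ p.asIdeal := hn.trans hp.2
    have h2 : IsLocalRing.maximalIdeal A ≤ p.asIdeal := by
      rcases Nat.eq_zero_or_pos n with rfl | hn'
      · exact absurd (top_le_iff.1 (by simpa using h1)) p.isPrime.ne_top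
      · exact (p.isPrime.pow_le_iff hn'.ne').1 h1
    exact (IsLocalRing.maximalIdeal.isMaximal A).eq_of_le p.isPrime.ne_top h2 ▸ IsLocalRing.maximalIdeal.isMaximal A
  have h := Groth.Agent.SamuelKoszul.tendsto_samuel M (List.ofFn f) hfl
  rw [List.length_ofFn, Groth.Agent.H1KoszulEuler.span_ofFn] at h
  rwa [Groth.Agent.H1KoszulEuler.chi_tensor_eq]

end Groth.Agent.S1943
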