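import Groth.Statements.S19430
import Groth.Agent.KPE7.Transfer

set_option autoImplicit false
set_option backward.isDefEq.respectTransparency false
set_option linter.style.haveILetI false
universe u
open SGA6

namespace Groth.Agent.S19430

attribute [local instance] HasDerivedCategory.standard
open CategoryTheory CategoryTheory.Limits AlgebraicGeometry
open scoped Groth.Agent.H23.PicMul
attribute [local instance] Groth.Agent.ExtPow7.Lam.commRing

variable {T P : Scheme.{u}}

theorem isEmpty_of_rank_zero {π : P ⟶ T} {E : T.Modules} {O1 : P.Modules}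
    {q : (Scheme.Modules.pullback π).obj E ⟶ O1} (hE : FlatMod.IsFinLocFreeOfRank 0 E)
    (hPB : KRR.IsProjBundle π E O1 q) : IsEmpty P := by
  have hfree : ∀ (Z : Scheme.{u}), IsZero (FlatMod.freeMod Z 0) := fun Z =>
    (IsZero.iff_id_eq_zero _).2 (Sigma.hom_ext _ _ fun i => i.elim0)
  have hE0 : IsZero E := by
    refine (IsZero.iff_id_eq_zero _).2 ?_
    haveI : IsIso (0 : E ⟶ E) := by
      refine RGLib.YBlow.isIso_of_restrict_cover _ fun x => ?_
      obtain ⟨U, hx, ⟨e⟩⟩ := hE x
      have hz := (hfree (U : Scheme.{u})).of_iso e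
      exact ⟨U, hx, ⟨⟨0, hz.eq_of_src _ _, hz.eq_of_src _ _⟩⟩⟩
    rw [← IsIso.hom_inv_id (0 : E ⟶ E), zero_comp]
  haveI : (Scheme.Modules.pullback π).Additive := Functor.additive_of_preserves_binary_products _
  haveI := hPB.epi
  have h1 : IsZero O1 := IsZero.of_epi q ((Scheme.Modules.pullback π).map_isZero hE0)
  refine ⟨fun x => ?_⟩
  obtain ⟨U, hx, ⟨e⟩⟩ := hPB.invertible x
  have hz : IsZero (Coh.structureModule (U : Scheme.{u})) :=
    (((Scheme.Modules.restrictFunctor U.ι).map_isZero h1)).of_iso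
      (e ≪≫ coproductUniqueIso fun _ : Fin 1 => Coh.structureModule (U : Scheme.{u})).symm
  haveI : Subsingleton Γ((U : Scheme.{u}), ⊤) := by
    refine subsingleton_of_zero_eq_one ?_
    have h := hz.eq_of_src (𝟙 _) 0
    exact (congrArg (fun f : Coh.structureModule (U : Scheme.{u}) ⟶ _ =>
      Scheme.Modules.Hom.app f ⊤ (1 : Γ((U : Scheme.{u}), ⊤))) h).symm
  have hne : IsUnit (((U : Scheme.{u}).presheaf.germ ⊤ ⟨x, hx⟩ trivial) 0) := by
    rw [Subsingleton.elim (0 : Γ((U : Scheme.{u}), ⊤)) 1, map_one]; exact isUnit_one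
  rw [map_zero] at hne
  exact not_isUnit_zero hne

theorem kvb_eq_zero (hP : IsEmpty P) (y : SGA6.Kvb P) : y = 0 := by
  refine DFunLike.congr_fun (KZ.K0sub_hom_ext (KRR.vbP P) (f := AddMonoidHom.id _) (g := 0) fun F hF => ?_) y
  refine KZ.clSub_isZero _ ((IsZero.iff_id_eq_zero _).2 ?_)
  haveI : IsIso (0 : F ⟶ F) := RGLib.YBlow.isIso_of_restrict_cover _ fun x => (hP.false x).elim
  rw [← IsIso.hom_inv_id (0 : F ⟶ F), zero_comp]

theorem bijective_of_Bd {π : P ⟶ T} {n : ℕ} {E : T.Modules} {O : ℤ → P.Modules}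
    {q : (Scheme.Modules.pullback π).obj E ⟶ O 1} (B : KPE7.Bd π n O E q) {O1 Oinv : P.Modules}
    (hinv : ClSub.IsInverseOf Oinv O1) (hOn : ∀ d : ℕ, O (d : ℤ) = CohB1.tensorPow O1 d)
    (G : Fin (n + 1) → (SGA6.Kvb T →+ SGA6.Kvb P))
    (hG : ∀ (i : Fin (n + 1)) (N : T.Modules), FlatMod.IsFinLocFree N →
      G i (KRR.cl T N) = KRR.cl P (CohB1.tensorMod (CohB1.tensorPow Oinv (i : ℕ)) ((Scheme.Modules.pullback π).obj N))) :
    Function.Bijective (fun a : Fin (n + 1) → SGA6.Kvb T => ∑ i, G i (a i)) := by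
  have hcl : ∀ i : ℕ, PicF.cl (CohB1.tensorPow Oinv i) = PicF.cl (O (-(i : ℤ))) := fun i => by
    refine left_inv_eq_right_inv (a := PicF.cl (O (i : ℤ))) ?_ ?_
    · rw [hOn, H23.PicMul.cl_tensorPow, H23.PicMul.cl_tensorPow, ← mul_pow,
        ← H23.PicMul.cl_tensor, H23.PicMul.cl_eq_iff.2 hinv, ← H23.PicMul.one_def, one_pow]
    · rw [B.add, add_neg_cancel, B.cl_zero]
  have hGe : ∀ i x, G i x = KPE7.pullK π x * ExtPow7.Lam.c (O (-((i : ℕ) : ℤ))) := fun i x => by
    refine DFunLike.congr_fun (KZ.K0sub_hom_ext (KRR.vbP T) (f := G i)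
      (g := (AddMonoidHom.mulRight (ExtPow7.Lam.c (O (-((i : ℕ) : ℤ))))).comp (KPE7.pullK π).toAddMonoidHom)
      fun N hN => ?_) x
    refine (hG i N hN).trans ?_
    show _ = KPE7.pullK π (ExtPow7.Lam.c N) * _
    have hPN := KFlatLib.isFinLocFree_pullback π hN
    rw [KPE7.pullK_c π hN, mul_comm, ← KPE7.c_tensor (B.flfO _) hPN]
    refine (KPE7.c_congr (B.flf_tw hPN _) ?_).symm
    show PicF.cl (CohB1.tensorMod _ _) = PicF.cl (CohB1.tensorMod _ _)
    rw [H23.PicMul.cl_tensor, H23.PicMul.cl_tensor, hcl]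
  let r : (Fin (n + 1) → SGA6.Kvb T) ≃ (Fin (n + 1) → SGA6.Kvb T) :=
    Equiv.arrowCongr Fin.revPerm (Equiv.refl _)
  have e : (fun a : Fin (n + 1) → SGA6.Kvb T => ∑ i, G i (a i)) = KPE7.window π n O (-(n : ℤ)) ∘ r := by
    funext a
    show _ = ∑ j : Fin (n + 1), _
    refine Fintype.sum_equiv Fin.revPerm _ _ fun i => ?_
    rw [hGe]
    simp only [r, Equiv.arrowCongr_apply, Function.comp, Equiv.refl_apply, Equiv.symm_apply_apply]
    congr 3
    simp only [Fin.revPerm_apply, Fin.val_rev]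
    omega
  rw [e]
  exact (B.bijective_window _).comp r.bijective


open CategoryTheory CategoryTheory.Limits AlgebraicGeometry in
/-- For Grothendieck groups of vector bundles (the degree-zero case of the statement), let T be a
quasi-compact scheme, E a finite locally free O_T-module of rank r, and (π : P ⟶ T, O(1), q) a
projective bundle P(E) of E, characterised by its universal property for invertible quotients of
pull-backs of E; let O(-1) be an inverse of the invertible module O(1). For each i < r let G_i be an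
additive map from K₀ of the finite locally free O_T-modules to K₀ of the finite locally free
O_P-modules with G_i [N] = [O(-1)^{⊗ i} ⊗ π^* N] for every finite locally free N (the K₀(T)-module
structure of K₀(P) through π^* and the powers of t = [O(-1)]). Then (a_0, …, a_{r-1}) ↦ Σ_i G_i
(a_i) is a bijection from K₀(T)^r onto K₀(P): K₀(P) is free over K₀(T) on 1, t, …, t^{r-1}. No
Noetherian or connectedness hypothesis on T. -/
theorem result (T P : Scheme.{u}) [CompactSpace T]
    (r : ℕ) (E : T.Modules) (hE : FlatMod.IsFinLocFreeOfRank r E)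
    (π : P ⟶ T) (O1 : P.Modules) (q : (Scheme.Modules.pullback π).obj E ⟶ O1) (hPB : KRR.IsProjBundle π E O1 q)
    (Oinv : P.Modules) (hinv : ClSub.IsInverseOf Oinv O1)
    (G : Fin r → (SGA6.Kvb T →+ SGA6.Kvb P))
    (hG : ∀ (i : Fin r) (N : T.Modules), FlatMod.IsFinLocFree N →
      G i (KRR.cl T N) = KRR.cl P (CohB1.tensorMod (CohB1.tensorPow Oinv (i : ℕ)) ((Scheme.Modules.pullback π).obj N))) :
    Function.Bijective (fun a : Fin r → SGA6.Kvb T => ∑ i : Fin r, G i (a i)) := by
  classical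
  cases r with
  | zero =>
    have hP := isEmpty_of_rank_zero hE hPB
    refine ⟨fun a b _ => funext fun i => i.elim0, fun y => ⟨fun i => i.elim0, ?_⟩⟩
    show ∑ i : Fin 0, _ = y
    rw [Finset.univ_eq_empty, Finset.sum_empty]
    exact (kvb_eq_zero hP y).symm
  | succ n =>
    obtain ⟨O, q', B, hOn⟩ := KPE7.exists_Bd hE hPB
    exact bijective_of_Bd B hinv hOn G hG

end Groth.Agent.S19430
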