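import Groth.Statements.S19437
import Mathlib

set_option autoImplicit false
universe u
open CAlg

namespace Groth.Agent.S19437

noncomputable section
open MvPowerSeries
variable (k : Type u) [Field k]

theorem cf (l l' : Fin 2) (i n : ℕ) (c : k) :
    coeff (Finsupp.single l i) (C c * X l' ^ n : MvPowerSeries (Fin 2) k) =
      if (l = l' ∧ i = n) ∨ (i = 0 ∧ n = 0) then c else 0 := by
  classical
  rw [coeff_C_mul, coeff_X_pow]
  simp only [Finsupp.single_eq_single_iff]
  split_ifs <;> simp

def monIdeal (A B : ℕ) : Ideal (MvPowerSeries (Fin 2) k) :=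
  Ideal.span {X 0 * X 1, X 0 ^ A, X 1 ^ B}

variable {k} in
theorem exists_split (G : MvPowerSeries (Fin 2) k) :
    ∃ P Q R : MvPowerSeries (Fin 2) k, G = P + Q + X 0 * X 1 * R ∧
      (∀ m, coeff m P = if m 1 = 0 then coeff m G else 0) ∧
      (∀ m, coeff m Q = if m 0 = 0 ∧ m 1 ≠ 0 then coeff m G else 0) := by
  classical
  let P : MvPowerSeries (Fin 2) k := fun m => if m 1 = 0 then coeff m G else 0
  let Q : MvPowerSeries (Fin 2) k := fun m => if m 0 = 0 ∧ m 1 ≠ 0 then coeff m G else 0
  let R : MvPowerSeries (Fin 2) k := fun m => coeff (Finsupp.single 0 1 + Finsupp.single 1 1 + m) G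
  refine ⟨P, Q, R, ?_, fun m => rfl, fun m => rfl⟩
  ext m
  rw [map_add, map_add, X, X, monomial_mul_monomial, one_mul, coeff_monomial_mul]
  change _ = (if m 1 = 0 then coeff m G else 0) + (if m 0 = 0 ∧ m 1 ≠ 0 then coeff m G else 0) + _
  by_cases h : Finsupp.single (0 : Fin 2) 1 + Finsupp.single 1 1 ≤ m
  · have h0 := h 0
    have h1 := h 1
    simp at h0 h1
    rw [if_pos h, if_neg (by omega), if_neg (by omega), one_mul]
    change _ = 0 + 0 + coeff (Finsupp.single 0 1 + Finsupp.single 1 1 + (m - _)) G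
    rw [add_tsub_cancel_of_le h]; simp
  · rw [if_neg h]
    have hz : m 0 = 0 ∨ m 1 = 0 := by
      by_contra hne
      push Not at hne
      apply h
      intro i
      fin_cases i <;> simp <;> omega
    by_cases h1 : m 1 = 0
    · simp [h1]
    · have h0 := hz.resolve_right h1
      simp [h0, h1]

theorem mem_monIdeal (A B : ℕ) (hA : 1 ≤ A) (hB : 1 ≤ B) (G : MvPowerSeries (Fin 2) k) :
    G ∈ monIdeal k A B ↔ (∀ i < A, coeff (Finsupp.single 0 i) G = 0) ∧
      (∀ j < B, coeff (Finsupp.single 1 j) G = 0) := by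
  classical
  constructor
  · intro h
    rw [monIdeal, Ideal.mem_span_insert] at h
    obtain ⟨a, z, hz, rfl⟩ := h
    obtain ⟨b, c, rfl⟩ := Ideal.mem_span_pair.1 hz
    refine ⟨fun i hi => ?_, fun j hj => ?_⟩
    all_goals
      rw [map_add, map_add, mul_comm a, mul_comm b, mul_comm c, X_pow_eq, X_pow_eq, X, X,
        monomial_mul_monomial, coeff_monomial_mul, coeff_monomial_mul, coeff_monomial_mul,
        if_neg, if_neg, if_neg] <;> simp [Finsupp.le_def, Fin.forall_fin_two] <;> omega
  · rintro ⟨h0, h1⟩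
    obtain ⟨P, Q, R, rfl, hP, hQ⟩ := exists_split G
    have hP' : X 0 ^ A ∣ P := by
      rw [X_pow_dvd_iff]
      intro m hm
      rw [hP]
      split_ifs with hm1
      · have e : m = Finsupp.single 0 (m 0) := by
          ext i; fin_cases i <;> simp [hm1]
        rw [e]; exact h0 _ hm
      · rfl
    have hQ' : X 1 ^ B ∣ Q := by
      rw [X_pow_dvd_iff]
      intro m hm
      rw [hQ]
      split_ifs with hm1
      · have e : m = Finsupp.single 1 (m 1) := by
          ext i; fin_cases i <;> simp [hm1.1]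
        rw [e]; exact h1 _ hm
      · rfl
    refine add_mem (add_mem ?_ ?_) (Ideal.mul_mem_right _ _ (Ideal.subset_span (Or.inl rfl)))
    · exact Ideal.mem_of_dvd _ hP' (Ideal.subset_span (Or.inr (Or.inl rfl)))
    · exact Ideal.mem_of_dvd _ hQ' (Ideal.subset_span (Or.inr (Or.inr rfl)))

theorem rank_monIdeal (A B : ℕ) (hA : 1 ≤ A) (hB : 1 ≤ B) :
    Module.Finite k (MvPowerSeries (Fin 2) k ⧸ monIdeal k A B) ∧
      Module.finrank k (MvPowerSeries (Fin 2) k ⧸ monIdeal k A B) = A + (B - 1) := by
  classical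
  let L : MvPowerSeries (Fin 2) k →ₗ[k] (Fin A → k) × (Fin (B - 1) → k) :=
    (LinearMap.pi fun i : Fin A => coeff (Finsupp.single 0 (i : ℕ))).prod
      (LinearMap.pi fun j : Fin (B - 1) => coeff (Finsupp.single 1 ((j : ℕ) + 1)))
  have hker : ∀ G, G ∈ LinearMap.ker L ↔ G ∈ (monIdeal k A B).restrictScalars k := by
    intro G
    rw [Submodule.restrictScalars_mem, mem_monIdeal k A B hA hB, LinearMap.mem_ker, Prod.ext_iff,
      funext_iff, funext_iff]
    change ((∀ i : Fin A, coeff (Finsupp.single 0 (i : ℕ)) G = 0) ∧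
      ∀ j : Fin (B - 1), coeff (Finsupp.single 1 ((j : ℕ) + 1)) G = 0) ↔ _
    constructor
    · rintro ⟨h1, h2⟩
      refine ⟨fun i hi => h1 ⟨i, hi⟩, fun j hj => ?_⟩
      rcases Nat.eq_zero_or_pos j with rfl | hj0
      · simpa using h1 ⟨0, hA⟩
      · have := h2 ⟨j - 1, by omega⟩
        simpa only [Nat.sub_add_cancel hj0] using this
    · rintro ⟨h1, h2⟩
      exact ⟨fun i => h1 _ i.2, fun j => h2 _ (by omega)⟩
  have hsurj : Function.Surjective L := by
    rintro ⟨u, v⟩
    refine ⟨∑ i : Fin A, C (u i) * X 0 ^ (i : ℕ) + ∑ j : Fin (B - 1), C (v j) * X 1 ^ ((j : ℕ) + 1), ?_⟩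
    have hL1 : ∀ (G : MvPowerSeries (Fin 2) k) (i : Fin A),
        (L G).1 i = coeff (Finsupp.single 0 (i : ℕ)) G := fun _ _ => rfl
    have hL2 : ∀ (G : MvPowerSeries (Fin 2) k) (j : Fin (B - 1)),
        (L G).2 j = coeff (Finsupp.single 1 ((j : ℕ) + 1)) G := fun _ _ => rfl
    refine Prod.ext (funext fun i => ?_) (funext fun j => ?_)
    · rw [hL1, map_add, map_sum, map_sum]
      simp only [cf]
      rw [Finset.sum_eq_single i, Finset.sum_eq_zero (fun j _ => if_neg (by simp))]
      · simp
      · exact fun b _ hb => if_neg (fun h => hb (Fin.ext (by rcases h with ⟨-, h⟩ | ⟨h, h'⟩ <;> omega)))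
      · simp
    · rw [hL2, map_add, map_sum, map_sum]
      simp only [cf]
      rw [Finset.sum_eq_zero (fun i _ => if_neg (by simp)), Finset.sum_eq_single j]
      · simp
      · exact fun b _ hb => if_neg (by simp; exact fun h => hb (Fin.ext h.symm))
      · simp
  have e : (MvPowerSeries (Fin 2) k ⧸ monIdeal k A B) ≃ₗ[k] (Fin A → k) × (Fin (B - 1) → k) :=
    (Submodule.Quotient.restrictScalarsEquiv k (monIdeal k A B)).symm ≪≫ₗ
      (Submodule.quotEquivOfEq _ _ (Submodule.ext hker).symm) ≪≫ₗ L.quotKerEquivOfSurjective hsurj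
  refine ⟨Module.Finite.equiv e.symm, ?_⟩
  rw [e.finrank_eq, Module.finrank_prod, Module.finrank_fin_fun, Module.finrank_fin_fun]

variable {k}

theorem exists_pow_mem (J : Ideal (MvPowerSeries (Fin 2) k)) [Module.Finite k (MvPowerSeries (Fin 2) k ⧸ J)]
    (l : Fin 2) : ∃ i, (X l : MvPowerSeries (Fin 2) k) ^ i ∈ J := by
  have : IsArtinianRing (MvPowerSeries (Fin 2) k ⧸ J) := IsArtinianRing.of_finite k _
  obtain ⟨i, hi⟩ := IsArtinian.monotone_stabilizes (R := MvPowerSeries (Fin 2) k ⧸ J)
    (M := MvPowerSeries (Fin 2) k ⧸ J)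
    ⟨fun i => (Ideal.span {Ideal.Quotient.mk J (X l) ^ i} : Ideal _),
      fun a b hab => Ideal.span_singleton_le_span_singleton.2 (pow_dvd_pow _ hab)⟩
  refine ⟨i, Ideal.Quotient.eq_zero_iff_mem.1 ?_⟩
  have h1 : Ideal.span {Ideal.Quotient.mk J (X l) ^ i} = Ideal.span {Ideal.Quotient.mk J (X l) ^ (i + 1)} :=
    hi (i + 1) (Nat.le_succ i)
  obtain ⟨c, hc⟩ := Ideal.mem_span_singleton'.1 (h1 ▸ Ideal.mem_span_singleton_self _ :
    Ideal.Quotient.mk J (X l) ^ i ∈ Ideal.span {Ideal.Quotient.mk J (X l) ^ (i + 1)})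
  obtain ⟨c, rfl⟩ := Ideal.Quotient.mk_surjective c
  have hu : IsUnit (1 - c * X l : MvPowerSeries (Fin 2) k) := by
    rw [isUnit_iff_constantCoeff]; simp
  apply (hu.map (Ideal.Quotient.mk J)).mul_left_cancel
  rw [mul_zero, map_sub, map_one, map_mul, map_pow, sub_mul, one_mul, mul_assoc, ← pow_succ', hc, sub_self]

theorem pow_mem_of_mem (J : Ideal (MvPowerSeries (Fin 2) k)) (hxy : X 0 * X 1 ∈ J)
    (G : MvPowerSeries (Fin 2) k) (hG : G ∈ J) (l : Fin 2) (i : ℕ) (hi : 0 < i)
    (hlow : ∀ j < i, coeff (Finsupp.single l j) G = 0) (hne : coeff (Finsupp.single l i) G ≠ 0) :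
    (X l : MvPowerSeries (Fin 2) k) ^ (i + 1) ∈ J := by
  classical
  -- the part of `G` on the `l`-axis
  let P : MvPowerSeries (Fin 2) k := fun m => if m (1 - l) = 0 then coeff m G else 0
  obtain ⟨W, hW⟩ : X (1 - l) ∣ G - P := by
    rw [X_dvd_iff]
    intro m hm
    rw [map_sub]
    change coeff m G - (if m (1 - l) = 0 then coeff m G else 0) = 0
    rw [if_pos hm, sub_self]
  obtain ⟨U, hU⟩ : X l ^ i ∣ P := by
    rw [X_pow_dvd_iff]
    intro m hm
    change (if m (1 - l) = 0 then coeff m G else 0) = 0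
    split_ifs with h
    · have e : m = Finsupp.single l (m l) := by
        ext a; fin_cases l <;> fin_cases a <;> simp at h ⊢ <;> exact h
      rw [e]; exact hlow _ hm
    · rfl
  have hUu : IsUnit U := by
    rw [isUnit_iff_constantCoeff, isUnit_iff_ne_zero]
    intro h0
    apply hne
    have h1 : coeff (Finsupp.single l i) P = 0 := by
      rw [hU, X_pow_eq, coeff_monomial_mul, if_pos le_rfl, tsub_self,
        coeff_zero_eq_constantCoeff_apply, h0, mul_zero]
    change (if (Finsupp.single l i) (1 - l) = 0 then _ else 0) = (0 : k) at h1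
    rwa [if_pos] at h1
    fin_cases l <;> simp
  have hxl : (X l * X (1 - l) : MvPowerSeries (Fin 2) k) ∈ J := by
    fin_cases l
    · exact hxy
    · simpa [mul_comm] using hxy
  apply (Ideal.mul_unit_mem_iff_mem J hUu).1
  have e : X l ^ (i + 1) * U = X l * G - X l * X (1 - l) * W := by
    rw [mul_assoc (X l), ← hW, hU]; ring
  rw [e]
  exact J.sub_mem (J.mul_mem_left _ hG) (J.mul_mem_right _ hxl)

end

/-- Ideals of colength n of the complete local ring of a node. Let k be a field and J an ideal of the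
power series ring k[[x,y]] in two variables x, y which contains xy and whose quotient is
finite-dimensional over k of dimension n ≥ 2. Then there are integers a, b ≥ 1 such that either a +
b = n + 1 and J is generated by xy, x^a, y^b, or a + b = n and J is generated by xy and x^a + α y^b
for some nonzero scalar α. -/
theorem result (k : Type u) [Field k]
    (J : Ideal (MvPowerSeries (Fin 2) k))
    (hxy : (MvPowerSeries.X 0 * MvPowerSeries.X 1 : MvPowerSeries (Fin 2) k) ∈ J)
    [Module.Finite k (MvPowerSeries (Fin 2) k ⧸ J)] (n : ℕ) (hn : Module.finrank k (MvPowerSeries (Fin 2) k ⧸ J) = n)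
    (h2 : 2 ≤ n) :
    ∃ a b : ℕ, 1 ≤ a ∧ 1 ≤ b ∧
      ((a + b = n + 1 ∧
        J = Ideal.span {MvPowerSeries.X 0 * MvPowerSeries.X 1, MvPowerSeries.X 0 ^ a, MvPowerSeries.X 1 ^ b}) ∨
       (a + b = n ∧ ∃ α : k, α ≠ 0 ∧
        J = Ideal.span {MvPowerSeries.X 0 * MvPowerSeries.X 1,
          MvPowerSeries.X 0 ^ a + MvPowerSeries.C α * MvPowerSeries.X 1 ^ b})) := by
  classical
  have hJ : J ≠ ⊤ := by
    rintro rfl
    haveI : Subsingleton (MvPowerSeries (Fin 2) k ⧸ (⊤ : Ideal (MvPowerSeries (Fin 2) k))) :=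
      Ideal.Quotient.subsingleton_iff.2 rfl
    rw [Module.finrank_zero_of_subsingleton] at hn
    omega
  have hpow : ∀ l : Fin 2, ∃ i, (MvPowerSeries.X l : MvPowerSeries (Fin 2) k) ^ i ∈ J :=
    fun l => exists_pow_mem J l
  let A := Nat.find (hpow 0)
  let B := Nat.find (hpow 1)
  have hA : (MvPowerSeries.X 0 : MvPowerSeries (Fin 2) k) ^ A ∈ J := Nat.find_spec (hpow 0)
  have hB : (MvPowerSeries.X 1 : MvPowerSeries (Fin 2) k) ^ B ∈ J := Nat.find_spec (hpow 1)
  have hA1 : 1 ≤ A := by
    by_contra h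
    rw [show A = 0 by omega, pow_zero] at hA
    exact hJ ((Ideal.eq_top_iff_one J).2 hA)
  have hB1 : 1 ≤ B := by
    by_contra h
    rw [show B = 0 by omega, pow_zero] at hB
    exact hJ ((Ideal.eq_top_iff_one J).2 hB)
  set I := monIdeal k A B with hI
  have hIJ : I ≤ J := by
    rw [hI, monIdeal, Ideal.span_le]
    rintro x (rfl | rfl | rfl) <;> assumption
  obtain ⟨hIfin, hrank⟩ := rank_monIdeal k A B hA1 hB1
  haveI := hIfin
  by_cases hEq : J ≤ I
  · have hJI : J = I := le_antisymm hEq hIJ
    refine ⟨A, B, hA1, hB1, Or.inl ⟨?_, hJI.trans hI⟩⟩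
    have h1 : Module.finrank k (MvPowerSeries (Fin 2) k ⧸ J) = A + (B - 1) :=
      (Ideal.quotientEquivAlgOfEq k hJI).toLinearEquiv.finrank_eq.trans hrank
    omega
  · obtain ⟨F, hFJ, hFI⟩ := SetLike.not_le_iff_exists.1 hEq
    -- normal form of an element of `J`
    have norm : ∀ G ∈ J, ∃ c d : k, (2 ≤ A ∨ c = 0) ∧ (2 ≤ B ∨ d = 0) ∧
        G - (MvPowerSeries.C c * MvPowerSeries.X 0 ^ (A - 1) +
          MvPowerSeries.C d * MvPowerSeries.X 1 ^ (B - 1)) ∈ I := by
      intro G hG
      have h0 : MvPowerSeries.constantCoeff G = 0 := by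
        by_contra h
        exact hJ (J.eq_top_of_isUnit_mem hG
          (MvPowerSeries.isUnit_iff_constantCoeff.2 (isUnit_iff_ne_zero.2 h)))
      have hlow : ∀ (l : Fin 2) (i : ℕ), i + 1 < Nat.find (hpow l) →
          MvPowerSeries.coeff (Finsupp.single l i) G = 0 := by
        intro l
        intro i
        induction i using Nat.strong_induction_on with
        | _ i ih =>
          intro hi
          rcases Nat.eq_zero_or_pos i with rfl | hi0
          · simpa using h0
          by_contra hne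
          apply Nat.find_min (hpow l) hi
          exact pow_mem_of_mem J hxy G hG l i hi0 (fun j hj => ih j hj (by omega)) hne
      refine ⟨if 2 ≤ A then MvPowerSeries.coeff (Finsupp.single 0 (A - 1)) G else 0,
        if 2 ≤ B then MvPowerSeries.coeff (Finsupp.single 1 (B - 1)) G else 0, ?_, ?_, ?_⟩
      · by_cases h : 2 ≤ A
        · exact Or.inl h
        · exact Or.inr (if_neg h)
      · by_cases h : 2 ≤ B
        · exact Or.inl h
        · exact Or.inr (if_neg h)
      rw [hI, mem_monIdeal k A B hA1 hB1]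
      refine ⟨fun i hi => ?_, fun j hj => ?_⟩
      · simp only [map_sub, map_add, cf, Fin.isValue, true_and, zero_ne_one, false_and, false_or]
        rcases Nat.eq_zero_or_pos i with rfl | hi0
        · rw [Finsupp.single_zero, MvPowerSeries.coeff_zero_eq_constantCoeff_apply, h0]
          split_ifs <;> simp_all <;> omega
        rcases Nat.lt_or_ge (i + 1) A with h | h
        · rw [hlow 0 i h]
          split_ifs <;> simp_all <;> omega
        · obtain rfl : i = A - 1 := by omega
          split_ifs <;> simp_all <;> omega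
      · simp only [map_sub, map_add, cf, Fin.isValue, true_and, one_ne_zero, false_and, false_or]
        rcases Nat.eq_zero_or_pos j with rfl | hj0
        · rw [Finsupp.single_zero, MvPowerSeries.coeff_zero_eq_constantCoeff_apply, h0]
          split_ifs <;> simp_all <;> omega
        rcases Nat.lt_or_ge (j + 1) B with h | h
        · rw [hlow 1 j h]
          split_ifs <;> simp_all <;> omega
        · obtain rfl : j = B - 1 := by omega
          split_ifs <;> simp_all <;> omega
    obtain ⟨c, d, hc2, hd2, hcd⟩ := norm F hFJ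
    have hrJ : MvPowerSeries.C c * MvPowerSeries.X 0 ^ (A - 1) +
        MvPowerSeries.C d * MvPowerSeries.X 1 ^ (B - 1) ∈ J := by
      have := J.sub_mem hFJ (hIJ hcd); simpa using this
    have hc0 : c ≠ 0 := by
      rintro rfl
      by_cases hd : d = 0
      · subst hd; simp at hcd; exact hFI hcd
      · rw [map_zero, zero_mul, zero_add] at hrJ
        exact Nat.find_min (hpow 1) (m := B - 1) (by omega)
          ((Ideal.unit_mul_mem_iff_mem _ ((isUnit_iff_ne_zero.2 hd).map _)).1 hrJ)
    have hd0 : d ≠ 0 := by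
      rintro rfl
      rw [map_zero, zero_mul, add_zero] at hrJ
      exact Nat.find_min (hpow 0) (m := A - 1) (by omega)
        ((Ideal.unit_mul_mem_iff_mem _ ((isUnit_iff_ne_zero.2 hc0).map _)).1 hrJ)
    have hA2 : 2 ≤ A := hc2.resolve_right hc0
    have hB2 : 2 ≤ B := hd2.resolve_right hd0
    set r : MvPowerSeries (Fin 2) k := MvPowerSeries.X 0 ^ (A - 1) +
      MvPowerSeries.C (d / c) * MvPowerSeries.X 1 ^ (B - 1) with hr
    have hrr : MvPowerSeries.C c * r = MvPowerSeries.C c * MvPowerSeries.X 0 ^ (A - 1) +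
        MvPowerSeries.C d * MvPowerSeries.X 1 ^ (B - 1) := by
      rw [hr, mul_add, ← mul_assoc, ← map_mul, mul_div_cancel₀ d hc0]
    have hrJ' : r ∈ J := (Ideal.unit_mul_mem_iff_mem _ ((isUnit_iff_ne_zero.2 hc0).map _)).1 (hrr ▸ hrJ)
    have hrI : r ∉ I := by
      intro h
      have := ((mem_monIdeal k A B hA1 hB1 r).1 h).1 (A - 1) (by omega)
      rw [hr, map_add, cf, MvPowerSeries.coeff_X_pow, if_pos rfl, if_neg (by simp; omega)] at this
      simp at this
    -- every element of `J` is a multiple of `r` modulo `I`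
    have hmul : ∀ G ∈ J, ∃ e : k, G - MvPowerSeries.C e * r ∈ I := by
      intro G hG
      obtain ⟨c', d', -, -, hcd'⟩ := norm G hG
      refine ⟨c', ?_⟩
      have hz : MvPowerSeries.C (d' - c' * (d / c)) * (MvPowerSeries.X 1 : MvPowerSeries (Fin 2) k) ^ (B - 1) ∈ J := by
        have h1 := J.sub_mem (J.sub_mem hG (hIJ hcd')) (J.mul_mem_left (MvPowerSeries.C c') hrJ')
        convert h1 using 1
        rw [hr, map_sub, map_mul]; ring
      have hz0 : d' - c' * (d / c) = 0 := by
        by_contra h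
        exact Nat.find_min (hpow 1) (m := B - 1) (by omega)
          ((Ideal.unit_mul_mem_iff_mem _ ((isUnit_iff_ne_zero.2 h).map _)).1 hz)
      convert hcd' using 1
      rw [hr, mul_add, ← mul_assoc, ← map_mul, ← sub_eq_zero.1 hz0]
    have hgen : J = Ideal.span {MvPowerSeries.X 0 * MvPowerSeries.X 1,
        MvPowerSeries.X 0 ^ (A - 1) + MvPowerSeries.C (d / c) * MvPowerSeries.X 1 ^ (B - 1)} := by
      refine le_antisymm (fun G hG => ?_) (Ideal.span_le.2 ?_)
      · obtain ⟨e, he⟩ := hmul G hG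
        have hIK : I ≤ Ideal.span {MvPowerSeries.X 0 * MvPowerSeries.X 1, r} := by
          rw [hI, monIdeal, Ideal.span_le]
          rintro x (rfl | rfl | rfl)
          · exact Ideal.subset_span (Or.inl rfl)
          · rw [SetLike.mem_coe, Ideal.mem_span_pair]
            refine ⟨-(MvPowerSeries.C (d / c) * MvPowerSeries.X 1 ^ (B - 2)), MvPowerSeries.X 0, ?_⟩
            rw [hr]
            conv_rhs => rw [show A = (A - 1) + 1 by omega, pow_succ]
            rw [show B - 1 = (B - 2) + 1 by omega, pow_succ]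
            ring
          · rw [SetLike.mem_coe, Ideal.mem_span_pair]
            refine ⟨-(MvPowerSeries.C (c / d) * MvPowerSeries.X 0 ^ (A - 2)),
              MvPowerSeries.C (c / d) * MvPowerSeries.X 1, ?_⟩
            have hone : MvPowerSeries.C (c / d) * (MvPowerSeries.C (d / c) : MvPowerSeries (Fin 2) k) = 1 := by
              rw [← map_mul, div_mul_div_comm, mul_comm c d, div_self (mul_ne_zero hd0 hc0), map_one]
            rw [hr]
            conv_rhs => rw [show B = (B - 1) + 1 by omega, pow_succ]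
            rw [show A - 1 = (A - 2) + 1 by omega, pow_succ]
            linear_combination ((MvPowerSeries.X 1 : MvPowerSeries (Fin 2) k) ^ (B - 1) * MvPowerSeries.X 1) * hone
        have := Ideal.add_mem _ (hIK he) (Ideal.mul_mem_left _ (MvPowerSeries.C e)
          (Ideal.subset_span (Or.inr rfl) : r ∈ Ideal.span {MvPowerSeries.X 0 * MvPowerSeries.X 1, r}))
        simpa using this
      · rintro x (rfl | rfl)
        · exact hxy
        · exact hrJ'
    refine ⟨A - 1, B - 1, by omega, by omega, Or.inr ⟨?_, d / c, div_ne_zero hd0 hc0, hgen⟩⟩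
    -- the colength
    let π : (MvPowerSeries (Fin 2) k ⧸ I) →ₗ[k] (MvPowerSeries (Fin 2) k ⧸ J) :=
      (Ideal.Quotient.factorₐ k hIJ).toLinearMap
    have hπ : Function.Surjective π := Ideal.Quotient.factor_surjective hIJ
    have hker : LinearMap.ker π = Submodule.span k {Ideal.Quotient.mk I r} := by
      refine le_antisymm (fun z hz => ?_) ((Submodule.span_singleton_le_iff_mem _ _).2 ?_)
      · obtain ⟨G, rfl⟩ := Ideal.Quotient.mk_surjective z
        have hG : G ∈ J := Ideal.Quotient.eq_zero_iff_mem.1 hz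
        obtain ⟨e, he⟩ := hmul G hG
        rw [Submodule.mem_span_singleton]
        refine ⟨e, ?_⟩
        have h2 := I.neg_mem he
        rw [neg_sub] at h2
        rw [← Ideal.Quotient.mk_eq_mk, ← Submodule.Quotient.mk_smul, Ideal.Quotient.mk_eq_mk,
          Ideal.Quotient.eq, MvPowerSeries.smul_eq_C_mul]
        exact h2
      · exact Ideal.Quotient.eq_zero_iff_mem.2 hrJ'
    have h1 := π.finrank_range_add_finrank_ker
    rw [LinearMap.range_eq_top.2 hπ, finrank_top, hn, hker,
      finrank_span_singleton (fun h => hrI (Ideal.Quotient.eq_zero_iff_mem.1 h)), hrank] at h1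
    omega

end Groth.Agent.S19437
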