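import Groth.Statements.S19438
import Mathlib

set_option autoImplicit false
universe u
open CAlg

namespace Groth.Agent.S19438

/-- First assertion: let A be a Noetherian local commutative algebra over a field k with maximal ideal
M, residue field k (the map from k to A/M is onto) and embedding dimension dim M/M^2 at least 2, and
let I be a proper ideal with A/I finite-dimensional over k. If A/I is generated as a k-algebra by
one element, then some element of I does not lie in M^2; that is, the finite closed subscheme
defined by I lies on a smooth hypersurface germ (it is curvilinear). (The published statement is for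
the local ring of a smooth surface at a closed point; only a Noetherian local algebra with residue
field k and embedding dimension at least 2 is assumed here, which is what the published argument
uses.) -/
theorem result (k : Type u) [Field k]
    (A : Type u) [CommRing A] [Algebra k A] [IsNoetherianRing A] [IsLocalRing A]
    (hres : Function.Surjective (algebraMap k (IsLocalRing.ResidueField A)))
    (hemb : 2 ≤ Module.finrank (IsLocalRing.ResidueField A) (IsLocalRing.CotangentSpace A))
    (I : Ideal A) (hI : I ≠ ⊤) [Module.Finite k (A ⧸ I)]
    (f : A ⧸ I) (hf : Algebra.adjoin k {f} = ⊤) :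
    ∃ g ∈ I, g ∉ IsLocalRing.maximalIdeal A ^ 2 := by
  classical
  by_contra hcon
  push Not at hcon
  obtain ⟨F, hF⟩ := Ideal.Quotient.mk_surjective f
  obtain ⟨c, hc⟩ := hres (IsLocalRing.residue A F)
  have hc' : F - algebraMap k A c ∈ IsLocalRing.maximalIdeal A := by
    rw [← IsLocalRing.residue_eq_zero_iff, map_sub, sub_eq_zero, ← hc,
      IsScalarTower.algebraMap_apply k A (IsLocalRing.ResidueField A)]
    rfl
  set m := F - algebraMap k A c with hm
  have hspan : Submodule.span (IsLocalRing.ResidueField A)
      {(IsLocalRing.maximalIdeal A).toCotangent ⟨m, hc'⟩} = ⊤ := by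
    rw [eq_top_iff]
    intro z _
    obtain ⟨⟨x, hx⟩, rfl⟩ := (IsLocalRing.maximalIdeal A).toCotangent_surjective z
    have hmem : Ideal.Quotient.mkₐ k I x ∈ Algebra.adjoin k {f} := by
      rw [hf]; exact Algebra.mem_top
    rw [Algebra.adjoin_singleton_eq_range_aeval] at hmem
    obtain ⟨q, hq⟩ := hmem
    have hI2 : x - Polynomial.aeval F q ∈ IsLocalRing.maximalIdeal A ^ 2 := by
      apply hcon
      rw [← Ideal.Quotient.eq]
      have : Ideal.Quotient.mkₐ k I (Polynomial.aeval F q) = Polynomial.aeval f q := by
        rw [← Polynomial.aeval_algHom_apply, Ideal.Quotient.mkₐ_eq_mk, hF]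
      have hh : Ideal.Quotient.mkₐ k I x = Ideal.Quotient.mkₐ k I (Polynomial.aeval F q) := by
        rw [this]; exact hq.symm
      exact hh
    obtain ⟨r, hr⟩ : ∃ r : A, Polynomial.aeval F q = algebraMap k A (q.eval c) + m * r := by
      have hd : F - algebraMap k A c ∣ (q.map (algebraMap k A)).eval F
          - (q.map (algebraMap k A)).eval (algebraMap k A c) :=
        Polynomial.sub_dvd_eval_sub F (algebraMap k A c) _
      obtain ⟨r, hr⟩ := hd
      refine ⟨r, ?_⟩
      rw [Polynomial.eval_map_algebraMap, Polynomial.eval_map_algebraMap,
        Polynomial.aeval_algebraMap_apply, Polynomial.coe_aeval_eq_eval, ← hm] at hr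
      rw [← hr]; ring
    have hq0 : q.eval c = 0 := by
      by_contra hne
      have hu : IsUnit (algebraMap k A (q.eval c)) := (isUnit_iff_ne_zero.2 hne).map _
      have : algebraMap k A (q.eval c) ∈ IsLocalRing.maximalIdeal A := by
        have e : algebraMap k A (q.eval c) = x - (x - Polynomial.aeval F q) - m * r := by
          rw [hr]; ring
        rw [e]
        exact Ideal.sub_mem _ (Ideal.sub_mem _ hx (Ideal.pow_le_self two_ne_zero hI2))
          (Ideal.mul_mem_right _ _ hc')
      exact this hu
    rw [hq0, map_zero, zero_add] at hr
    rw [Submodule.mem_span_singleton]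
    refine ⟨IsLocalRing.residue A r, ?_⟩
    have e : (IsLocalRing.maximalIdeal A).toCotangent ⟨x, hx⟩
        = (IsLocalRing.maximalIdeal A).toCotangent (r • ⟨m, hc'⟩) := by
      rw [Ideal.toCotangent_eq]
      have : x - r * m = x - Polynomial.aeval F q := by rw [hr]; ring
      show x - r * m ∈ _
      rw [this]; exact hI2
    rw [e, map_smul]
    rfl
  have h1 := finrank_le_one (R := IsLocalRing.ResidueField A)
    ((IsLocalRing.maximalIdeal A).toCotangent ⟨m, hc'⟩) (fun w => Submodule.mem_span_singleton.1
      (hspan ▸ Submodule.mem_top))
  exact absurd (le_trans hemb h1) (by norm_num)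

end Groth.Agent.S19438
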