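import Groth.Statements.S1944
import Groth.Agent.AffBundleCyc.Level
-- import your own Groth.Agent.* helpers here

set_option autoImplicit false
set_option backward.isDefEq.respectTransparency false
set_option backward.isDefEq.respectTransparency.types false
set_option linter.style.haveILetI false
set_option maxHeartbeats 1000000
universe u
open CategoryTheory AlgebraicGeometry
open Cyc

namespace Groth.Agent.S1944
open Groth.Agent

/-- Let f : X → Y be flat, locally of finite type, of relative dimension r, such that every point of Y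
has an open neighbourhood U over which f⁻¹(U) → U is isomorphic to affine r-space 𝔸^r_U → U. Then
f^* : CH_k(Y) → CH_{k+r}(X) is surjective: every (k + r)-cycle on X is rationally equivalent to the
flat pullback (taken coefficientwise) of some k-cycle on Y. A pair (X, δ) with Cyc.IsSetup plays the
role of a scheme locally of finite type over a fixed base with a dimension function (X locally
Noetherian with universally catenary local rings, δ a dimension function), and Cyc.DeltaCompat
records that the dimension function upstairs is the induced one. -/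
theorem result (X Y : Scheme.{u}) (δX : X → ℤ) (δY : Y → ℤ) (hX : Cyc.IsSetup X δX) (hY : Cyc.IsSetup Y δY) (f : X ⟶ Y) [Flat f] [LocallyOfFiniteType f] (r : ℕ) (hr : Cyc.HasRelDim f r) (hδ : Cyc.DeltaCompat f δX δY) (hloc : ∀ y : Y, ∃ U : Y.Opens, y ∈ U ∧ ∃ e : (↑(f ⁻¹ᵁ U) : Scheme.{u}) ≅ 𝔸(ULift.{u} (Fin r); (↑U : Scheme.{u})), e.hom ≫ (𝔸(ULift.{u} (Fin r); (↑U : Scheme.{u})) ↘ (↑U : Scheme.{u})) = f ∣_ U) (k : ℤ) (β : AlgebraicCycle X ℤ) (hβ : β ∈ Cyc.Zk X δX (k + r)) : ∃ (α : AlgebraicCycle Y ℤ) (β' : AlgebraicCycle X ℤ), α ∈ Cyc.Zk Y δY k ∧ ⇑β' = Cyc.pullFun f δX δY r ⇑α ∧ Cyc.RatEquiv δX (k + r) β β' := by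
  classical
  haveI := hX.1
  haveI := hY.1
  have hgood := Groth.Agent.AffBundleCyc.good_of_affineBundle f hY hδ r hloc
  haveI hqc : QuasiCompact f := by
    choose U hU e he using hloc
    have hcov : iSup U = ⊤ := TopologicalSpace.Opens.ext (Set.eq_univ_of_forall fun y => by
      rw [TopologicalSpace.Opens.coe_iSup]
      exact Set.mem_iUnion.2 ⟨y, hU y⟩)
    refine (IsZariskiLocalAtTarget.iff_of_iSup_eq_top (P := @QuasiCompact) U hcov).2 fun y => ?_
    rw [← he y]
    infer_instance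
  have hiter : ∀ n : ℕ, ∀ γ : AlgebraicCycle X ℤ, γ ∈ Cyc.Zk X δX (k + r) → (∀ x, γ x ≠ 0 → δY (f x) ≤ k + n) →
      ∃ γ' : AlgebraicCycle X ℤ, γ' ∈ Cyc.Zk X δX (k + r) ∧ (∀ x, γ' x ≠ 0 → δY (f x) ≤ k) ∧
        Cyc.RatEquivZero δX (k + r) (γ - γ') := by
    intro n
    induction n with
    | zero =>
      intro γ hγ hlev
      refine ⟨γ, hγ, fun x hx => by simpa using hlev x hx, ?_⟩
      rw [sub_self]
      exact ⟨PEmpty, PEmpty.elim, fun i => i.elim, fun i => i.elim, fun i => i.elim,
        fun x => ⟨Set.univ, isOpen_univ, trivial, Set.toFinite _⟩, fun x => (finsum_of_isEmpty _).symm⟩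
    | succ n ih =>
      intro γ hγ hlev
      obtain ⟨γ₁, h₁, hlev₁, he₁⟩ := Groth.Agent.AffBundleCyc.exists_ratEquiv_lower f hX.2.2 hY.2.2 hgood
        (k + r) (k + (n + 1 : ℕ)) (by omega) γ hγ hlev
      obtain ⟨γ₂, h₂, hlev₂, he₂⟩ := ih γ₁ h₁ fun x hx => by
        have := hlev₁ x hx
        push_cast at this ⊢
        omega
      refine ⟨γ₂, h₂, hlev₂, ?_⟩
      obtain ⟨ι₁, ξ₁, g₁, a₁, b₁, c₁, d₁⟩ := he₁
      obtain ⟨ι₂, ξ₂, g₂, a₂, b₂, c₂, d₂⟩ := he₂
      let Ξ : ι₁ ⊕ ι₂ → X := Sum.elim ξ₁ ξ₂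
      let Φ : ∀ t, X.residueField (Ξ t) := fun t => match t with
        | Sum.inl i => g₁ i
        | Sum.inr i => g₂ i
      refine ⟨ι₁ ⊕ ι₂, Ξ, Φ, Sum.rec a₁ a₂, Sum.rec b₁ b₂, fun x => ?_, fun x => ?_⟩
      · obtain ⟨U₁, hU₁, hx₁, hf₁⟩ := c₁ x
        obtain ⟨U₂, hU₂, hx₂, hf₂⟩ := c₂ x
        refine ⟨U₁ ∩ U₂, hU₁.inter hU₂, ⟨hx₁, hx₂⟩, ((hf₁.image Sum.inl).union (hf₂.image Sum.inr)).subset ?_⟩
        rintro (i | i) ⟨w, hw, hw1, hw2⟩
        · exact Or.inl ⟨i, ⟨w, hw, hw1⟩, rfl⟩
        · exact Or.inr ⟨i, ⟨w, hw, hw2⟩, rfl⟩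
      · have e1 := d₁ x
        have e2 := d₂ x
        change γ x - γ₁ x = _ at e1
        change γ₁ x - γ₂ x = _ at e2
        show γ x - γ₂ x = _
        have hs : (Function.support fun t => Cyc.divFun δX (Ξ t) (Φ t) x).Finite :=
          ((Groth.Agent.CycLib.finite_index (δ := δX) ξ₁ g₁ c₁ x).image Sum.inl).union
            ((Groth.Agent.CycLib.finite_index (δ := δX) ξ₂ g₂ c₂ x).image Sum.inr) |>.subset (by
            rintro (i | i) hi
            · exact Or.inl ⟨i, hi, rfl⟩
            · exact Or.inr ⟨i, hi, rfl⟩)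
        rw [← finsum_mem_univ (f := fun t => Cyc.divFun δX (Ξ t) (Φ t) x),
          show (Set.univ : Set (ι₁ ⊕ ι₂)) = Set.range Sum.inl ∪ Set.range Sum.inr from
            (Set.range_inl_union_range_inr).symm,
          finsum_mem_union' Set.isCompl_range_inl_range_inr.disjoint
            (hs.subset Set.inter_subset_right) (hs.subset Set.inter_subset_right),
          finsum_mem_range Sum.inl_injective, finsum_mem_range Sum.inr_injective]
        show _ = (∑ᶠ i, Cyc.divFun δX (ξ₁ i) (g₁ i) x) + ∑ᶠ i, Cyc.divFun δX (ξ₂ i) (g₂ i) x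
        rw [← e1, ← e2]
        ring
  have htop : ∀ x, β x ≠ 0 → δY (f x) ≤ k + r := fun x hx => by
    have h1 : δX x = k + r := by_contra fun h => hx (hβ x h)
    obtain ⟨n, -, e⟩ := hδ x
    omega
  obtain ⟨γ, hγ, hlev, hrat⟩ := hiter r β hβ htop
  let a : Y → ℤ := fun y =>
    if h : δY y = k ∧ ∃ x, f x = y ∧ δX x = δY y + r then γ h.2.choose else 0
  let α : AlgebraicCycle Y ℤ :=
    { toFun := a
      supportWithinDomain' := fun _ _ => trivial
      supportLocallyFiniteWithinDomain' := fun z _ => by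
        obtain ⟨V, hV, hzV, -⟩ := exists_isAffineOpen_mem_and_subset (x := z) (U := ⊤) trivial
        refine ⟨V, V.2.mem_nhds hzV,
          ((γ.locallyFiniteSupport.finite_inter_support_of_isCompact (f.isCompact_preimage hV.isCompact)).image
            (fun x => f x)).subset ?_⟩
        rintro y ⟨hyV, hy⟩
        change a y ≠ 0 at hy
        simp only [a] at hy
        split_ifs at hy with h
        · exact ⟨h.2.choose, ⟨show f h.2.choose ∈ V from h.2.choose_spec.1.symm ▸ hyV, hy⟩, h.2.choose_spec.1⟩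
        · exact absurd rfl hy }
  refine ⟨α, γ, fun y hy => dif_neg fun h => hy h.1, funext fun x => ?_, hrat⟩
  show γ x = _
  rw [Cyc.pullFun]
  show γ x = if δX x = δY (f x) + r then a (f x) * _ else 0
  split_ifs with hgen
  · have hlen := hgood.len x hgen
    rw [Groth.Agent.H23.FiniteFibreSum.fibreLen] at hlen
    rw [hlen]
    simp only [a]
    split_ifs with h
    · have : h.2.choose = x := hgood.uniq _ _ h.2.choose_spec.1 (by
        rw [h.2.choose_spec.1]; exact h.2.choose_spec.2) hgen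
      rw [this]
      simp
    · rw [zero_mul]
      refine hγ x fun he => h ⟨by omega, x, rfl, hgen⟩
  · by_contra hne
    have h1 : δX x = k + r := by_contra fun h => hne (hγ x h)
    have h2 := hlev x hne
    have h3 := hgood.le x
    omega

end Groth.Agent.S1944
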