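import Groth.Statements.S19448
import Mathlib.RingTheory.Filtration
import Mathlib.GroupTheory.OrderOfElement

set_option autoImplicit false
universe u
open CAlg

namespace Groth.Agent.S19448

/-- Let k be a field, A a Noetherian local k-algebra with maximal ideal M and residue field k, and G a
finite group with |G| ≠ 0 in k acting on A by k-algebra automorphisms. An element of G which acts
trivially on M/M^2 acts trivially on A; in other words the stabilizer acts faithfully on the
cotangent space whenever it acts faithfully on the local ring. -/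
theorem result (k : Type u) [Field k] (A : Type u) [CommRing A]
    [Algebra k A] [IsLocalRing A] [IsNoetherianRing A]
    (hres : Function.Surjective (algebraMap k (IsLocalRing.ResidueField A)))
    (G : Type u) [Group G] [Finite G] [MulSemiringAction G A] [SMulCommClass G k A]
    (hG : (Nat.card G : k) ≠ 0) (g : G)
    (hg : ∀ a ∈ IsLocalRing.maximalIdeal A, g • a - a ∈ IsLocalRing.maximalIdeal A ^ 2) (a : A) :
    g • a = a := by
  classical
  set M := IsLocalRing.maximalIdeal A with hM
  have hmaps : ∀ x ∈ M, g • x ∈ M := fun x hx => by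
    have h := add_mem (Ideal.pow_le_self two_ne_zero (hg x hx)) hx
    rwa [sub_add_cancel] at h
  have hshift : ∀ n, ∀ x ∈ M ^ (n + 1), g • x - x ∈ M ^ (n + 2) := by
    intro n
    induction n with
    | zero => intro x hx; exact hg x (by simpa using hx)
    | succ n ih =>
      intro x hx
      rw [pow_succ] at hx
      induction hx using Submodule.mul_induction_on' with
      | mem_mul_mem a ha b hb =>
        have e : g • (a * b) - a * b = (g • a - a) * (g • b) + a * (g • b - b) := by rw [smul_mul']; ring
        rw [e]
        refine add_mem ?_ ?_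
        · rw [show n + 1 + 2 = n + 2 + 1 by omega, pow_succ]
          exact Ideal.mul_mem_mul (ih a ha) (hmaps b hb)
        · rw [show n + 1 + 2 = (n + 1) + 2 by omega, pow_add]
          exact Ideal.mul_mem_mul ha (hg b hb)
      | add a _ b _ iha ihb =>
        rw [smul_add, add_sub_add_comm]; exact add_mem iha ihb
  obtain ⟨d, hd, hgd⟩ : ∃ d : ℕ, IsUnit (d : A) ∧ g ^ d = 1 := by
    refine ⟨orderOf g, ?_, pow_orderOf_eq_one g⟩
    have h : IsUnit (Nat.card G : k) := isUnit_iff_ne_zero.2 hG
    have h2 : (orderOf g : k) ∣ (Nat.card G : k) := Nat.cast_dvd_cast (orderOf_dvd_natCard g)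
    have := (isUnit_of_dvd_unit h2 h).map (algebraMap k A)
    rwa [map_natCast] at this
  have hstep : ∀ n, 1 ≤ n → (∀ b, g • b - b ∈ M ^ n) → ∀ b, g • b - b ∈ M ^ (n + 1) := by
    intro n hn ih b
    obtain ⟨n, rfl⟩ : ∃ m, n = m + 1 := ⟨n - 1, by omega⟩
    have hj : ∀ j : ℕ, g ^ j • b - b - (j : A) * (g • b - b) ∈ M ^ (n + 1 + 1) := by
      intro j
      induction j with
      | zero => simp
      | succ j ihj =>
        have e1 : g • (g ^ j • b - b) - (g ^ j • b - b) ∈ M ^ (n + 2) := by
          refine hshift n _ ?_
          have := add_mem (Ideal.pow_le_pow_right (Nat.le_succ (n + 1)) ihj) (Ideal.mul_mem_left _ (j : A) (ih b))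
          rwa [sub_add_cancel] at this
        have e : g ^ (j + 1) • b - b - ((j + 1 : ℕ) : A) * (g • b - b) =
            (g • (g ^ j • b - b) - (g ^ j • b - b)) + (g ^ j • b - b - (j : A) * (g • b - b)) := by
          rw [pow_succ', mul_smul, smul_sub]; push_cast; ring
        rw [e]; exact add_mem e1 ihj
    have h := hj d
    rw [hgd, one_smul, sub_self, zero_sub, neg_mem_iff] at h
    exact (Ideal.unit_mul_mem_iff_mem _ hd).1 h
  have hbase : ∀ b : A, g • b - b ∈ M ^ 1 := fun b => by
    obtain ⟨c, hc⟩ := hres (IsLocalRing.residue A b)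
    have hm : b - algebraMap k A c ∈ M := by
      rw [hM, ← IsLocalRing.residue_eq_zero_iff, map_sub, ← IsLocalRing.ResidueField.algebraMap_eq,
        ← IsScalarTower.algebraMap_apply, hc]
      exact sub_self _
    have h := sub_mem (hmaps _ hm) hm
    have hc' : g • algebraMap k A c = algebraMap k A c := by
      rw [Algebra.algebraMap_eq_smul_one, smul_comm, smul_one]
    rw [smul_sub, hc', sub_sub_sub_cancel_right] at h
    simpa using h
  have hall : ∀ n, ∀ b, g • b - b ∈ M ^ (n + 1) := fun n => by
    induction n with
    | zero => exact hbase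
    | succ n ih => exact hstep (n + 1) (by omega) ih
  have h0 : g • a - a ∈ ⨅ n, M ^ n := by
    rw [Ideal.mem_iInf]
    rintro (_ | n)
    · simp
    · exact hall n a
  rw [Ideal.iInf_pow_eq_bot_of_isLocalRing _ (IsLocalRing.maximalIdeal.isMaximal A).ne_top, Ideal.mem_bot, sub_eq_zero] at h0
  exact h0

end Groth.Agent.S19448
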