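import Groth.Statements.S19449
import Mathlib

set_option autoImplicit false
universe u
open SymRep

namespace Groth.Agent.S19449

/-- Over a field k of characteristic zero, let the symmetric group S_n act on the polynomial ring in the
2n variables x_i, y_i (i < n; the variable (i, 0) is x_i and (i, 1) is y_i) by permuting the index
i, and for an n-tuple p of pairs (p_j, q_j) of exponents let Δ_p be the determinant det(x_i^{p_j}
y_i^{q_j}). A polynomial is alternating — each permutation acts on it by its sign — exactly when it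
is a k-linear combination of the Δ_p; and the Δ_p for p strictly increasing in the lexicographic
order on pairs (one for each n-element set of exponent pairs) are linearly independent. Hence these
Δ_p form a basis of the space of alternating polynomials. -/
theorem result (k : Type u) [Field k] [CharZero k] (n : ℕ) :
    (∀ f : MvPolynomial (Fin n × Fin 2) k,
      (∀ σ : Equiv.Perm (Fin n),
          MvPolynomial.rename (fun v : Fin n × Fin 2 => (σ v.1, v.2)) f = ((Equiv.Perm.sign σ : ℤˣ) : ℤ) • f) ↔
        f ∈ Submodule.span k (Set.range fun p : Fin n → ℕ × ℕ =>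
          (Matrix.of fun i j : Fin n =>
            (MvPolynomial.X (i, 0) : MvPolynomial (Fin n × Fin 2) k) ^ (p j).1 * MvPolynomial.X (i, 1) ^ (p j).2).det)) ∧
    LinearIndependent k (fun p : {p : Fin n → ℕ ×ₗ ℕ // StrictMono p} =>
      (Matrix.of fun i j : Fin n =>
        (MvPolynomial.X (i, 0) : MvPolynomial (Fin n × Fin 2) k) ^ (ofLex (p.1 j)).1 *
          MvPolynomial.X (i, 1) ^ (ofLex (p.1 j)).2).det) := by
  classical
  let ρ : Equiv.Perm (Fin n) → (MvPolynomial (Fin n × Fin 2) k →ₐ[k] MvPolynomial (Fin n × Fin 2) k) :=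
    fun σ => MvPolynomial.rename (fun v => (σ v.1, v.2))
  let Δ : (Fin n → ℕ × ℕ) → MvPolynomial (Fin n × Fin 2) k := fun p =>
    (Matrix.of fun i j : Fin n => (MvPolynomial.X (i, 0) : MvPolynomial (Fin n × Fin 2) k) ^ (p j).1 * MvPolynomial.X (i, 1) ^ (p j).2).det
  let mon : (Fin n → ℕ × ℕ) → MvPolynomial (Fin n × Fin 2) k := fun p =>
    ∏ i, (MvPolynomial.X (i, 0) ^ (p i).1 * MvPolynomial.X (i, 1) ^ (p i).2)
  have hΔ : ∀ p, Δ p = ∑ σ : Equiv.Perm (Fin n), ((Equiv.Perm.sign σ : ℤˣ) : ℤ) • ρ σ (mon p) := by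
    intro p
    show Matrix.det _ = _
    rw [Matrix.det_apply]
    refine Finset.sum_congr rfl fun σ _ => ?_
    rw [Units.smul_def]
    simp [ρ, mon, map_prod, MvPolynomial.rename_X]
  have hρρ : ∀ σ τ f, ρ σ (ρ τ f) = ρ (σ * τ) f := fun σ τ f => MvPolynomial.rename_rename _ _ f
  have hmon : ∀ d : (Fin n × Fin 2) →₀ ℕ, MvPolynomial.monomial d (1 : k) = mon (fun i => (d (i, 0), d (i, 1))) := by
    intro d
    rw [MvPolynomial.monomial_eq, map_one, one_mul, Finsupp.prod_fintype _ _ (fun i => pow_zero _), Fintype.prod_prod_type]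
    exact Finset.prod_congr rfl fun i _ => by rw [Fin.prod_univ_two]
  refine ⟨fun f => ⟨fun h => ?_, fun h => ?_⟩, ?_⟩
  · have h1 : (n.factorial : k) • f = ∑ σ : Equiv.Perm (Fin n), ((Equiv.Perm.sign σ : ℤˣ) : ℤ) • ρ σ f := by
      have : ∀ σ : Equiv.Perm (Fin n), ((Equiv.Perm.sign σ : ℤˣ) : ℤ) • ρ σ f = f := fun σ => by
        rw [show ρ σ f = ((Equiv.Perm.sign σ : ℤˣ) : ℤ) • f from h σ, smul_smul, ← Units.val_mul, Int.units_mul_self, Units.val_one, one_smul]
      rw [Finset.sum_congr rfl (fun σ _ => this σ), Finset.sum_const, Finset.card_univ, Fintype.card_perm, Fintype.card_fin,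
        Nat.cast_smul_eq_nsmul]
    have h2 : ∑ σ : Equiv.Perm (Fin n), ((Equiv.Perm.sign σ : ℤˣ) : ℤ) • ρ σ f ∈
        Submodule.span k (Set.range Δ) := by
      rw [f.as_sum]
      simp only [map_sum, Finset.smul_sum]
      rw [Finset.sum_comm]
      refine Submodule.sum_mem _ fun d _ => ?_
      have : ∑ σ : Equiv.Perm (Fin n), ((Equiv.Perm.sign σ : ℤˣ) : ℤ) • ρ σ (MvPolynomial.monomial d (f.coeff d)) =
          f.coeff d • Δ (fun i => (d (i, 0), d (i, 1))) := by
        rw [hΔ, Finset.smul_sum]
        refine Finset.sum_congr rfl fun σ _ => ?_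
        rw [show MvPolynomial.monomial d (f.coeff d) = f.coeff d • MvPolynomial.monomial d (1 : k) by rw [MvPolynomial.smul_monomial, smul_eq_mul, mul_one],
          map_smul, hmon, smul_comm]
      rw [this]
      exact Submodule.smul_mem _ _ (Submodule.subset_span ⟨_, rfl⟩)
    rw [← h1] at h2
    have := Submodule.smul_mem _ ((n.factorial : k))⁻¹ h2
    rwa [smul_smul, inv_mul_cancel₀ (Nat.cast_ne_zero.2 n.factorial_ne_zero), one_smul] at this
  · intro σ
    show ρ σ f = _
    induction h using Submodule.span_induction with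
    | mem g hg =>
      obtain ⟨p, rfl⟩ := hg
      show ρ σ (Δ p) = _ • Δ p
      rw [hΔ, map_sum, Finset.smul_sum]
      refine Fintype.sum_equiv (Equiv.mulLeft σ) _ _ fun τ => ?_
      rw [map_zsmul, hρρ, Equiv.coe_mulLeft, smul_smul]
      congr 1
      rw [Equiv.Perm.sign_mul, Units.val_mul, ← mul_assoc, ← Units.val_mul, Int.units_mul_self, Units.val_one, one_mul]
    | zero => simp
    | add a b _ _ ha hb => rw [map_add, ha, hb, smul_add]
    | smul c a _ ha => rw [map_smul, ha, smul_comm]
  · rw [linearIndependent_iff']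
    intro s g hg p hp
    let e : (Fin n → ℕ × ℕ) → ((Fin n × Fin 2) →₀ ℕ) := fun q =>
      Finsupp.equivFunOnFinite.symm fun v => if v.2 = 0 then (q v.1).1 else (q v.1).2
    have he0 : ∀ q i, e q (i, 0) = (q i).1 := fun q i => by simp [e]
    have he1 : ∀ q i, e q (i, 1) = (q i).2 := fun q i => by simp [e]
    have hmone : ∀ q, mon q = MvPolynomial.monomial (e q) 1 := fun q => by
      rw [hmon]; simp only [he0, he1]
    let P : {p : Fin n → ℕ ×ₗ ℕ // StrictMono p} → (Fin n → ℕ × ℕ) := fun q j => ofLex (q.1 j)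
    have hcoef : ∀ q, (Δ (P q)).coeff (e (P p)) = if q = p then 1 else 0 := by
      intro q
      rw [hΔ, ← MvPolynomial.lcoeff_apply (R := k), map_sum]
      have hρe : ∀ σ : Equiv.Perm (Fin n), ρ σ (mon (P q)) = MvPolynomial.monomial (e (fun i => P q (σ⁻¹ i))) 1 := by
        intro σ
        refine Eq.trans ?_ (hmone (fun i => P q (σ⁻¹ i)))
        simp only [ρ, mon, map_prod, map_mul, map_pow, MvPolynomial.rename_X]
        exact Fintype.prod_equiv σ _ _ fun i => by simp
      have hkey : ∀ σ : Equiv.Perm (Fin n), e (fun i => P q (σ⁻¹ i)) = e (P p) → σ = 1 ∧ q = p := by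
        intro σ hσ
        have h1 : ∀ i, q.1 (σ⁻¹ i) = p.1 i := fun i => by
          apply ofLex.injective
          refine Prod.ext ?_ ?_
          · exact ((he0 (fun i => P q (σ⁻¹ i)) i).symm.trans (DFunLike.congr_fun hσ (i, 0))).trans (he0 (P p) i)
          · exact ((he1 (fun i => P q (σ⁻¹ i)) i).symm.trans (DFunLike.congr_fun hσ (i, 1))).trans (he1 (P p) i)
        have hmono : StrictMono (σ⁻¹ : Equiv.Perm (Fin n)) := fun a b hab =>
          q.2.lt_iff_lt.1 (by rw [h1, h1]; exact p.2 hab)
        have hid : (σ⁻¹ : Equiv.Perm (Fin n)) = 1 := Equiv.ext fun i => by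
          have := Fin.coe_orderIso_apply (hmono.orderIsoOfSurjective _ (σ⁻¹).surjective) i
          exact Fin.ext this
        refine ⟨inv_eq_one.1 hid, Subtype.ext (funext fun i => ?_)⟩
        have := h1 i
        rwa [hid] at this
      rw [Finset.sum_eq_single (1 : Equiv.Perm (Fin n))]
      · simp only [map_zsmul, MvPolynomial.lcoeff_apply, hρe, MvPolynomial.coeff_monomial]
        by_cases hqp : q = p
        · subst hqp; simp
        · rw [if_neg hqp, if_neg fun h => hqp (hkey 1 h).2, smul_zero]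
      · intro σ _ hσ
        rw [map_zsmul, MvPolynomial.lcoeff_apply, hρe, MvPolynomial.coeff_monomial, if_neg fun h => hσ (hkey σ h).1, smul_zero]
      · exact fun h => absurd (Finset.mem_univ _) h
    have := congrArg (fun x => MvPolynomial.coeff (e (P p)) x) hg
    simp only [MvPolynomial.coeff_sum, MvPolynomial.coeff_smul, MvPolynomial.coeff_zero] at this
    rw [Finset.sum_eq_single p] at this
    · have h3 := hcoef p
      rw [if_pos rfl] at h3
      rw [show (Matrix.of fun i j : Fin n => (MvPolynomial.X (i, 0) : MvPolynomial (Fin n × Fin 2) k) ^ (ofLex (p.1 j)).1 * MvPolynomial.X (i, 1) ^ (ofLex (p.1 j)).2).det = Δ (P p) from rfl, h3, smul_eq_mul, mul_one] at this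
      exact this
    · intro q _ hq
      rw [show (Matrix.of fun i j : Fin n => (MvPolynomial.X (i, 0) : MvPolynomial (Fin n × Fin 2) k) ^ (ofLex (q.1 j)).1 * MvPolynomial.X (i, 1) ^ (ofLex (q.1 j)).2).det = Δ (P q) from rfl, hcoef q, if_neg hq, smul_zero]
    · exact fun h => absurd hp h

end Groth.Agent.S19449
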