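import Groth.Statements.S19450
import Groth.Agent.SymSing.Main
import Groth.Agent.WQ7.Free
import Groth.Agent.H1Wild.Etale

set_option autoImplicit false
set_option maxHeartbeats 2000000
set_option backward.isDefEq.respectTransparency false
set_option backward.isDefEq.respectTransparency.types false
set_option maxHeartbeats 1000000
set_option linter.style.haveILetI false
universe u
open CategoryTheory CategoryTheory.Limits AlgebraicGeometry
open SymProd

namespace Groth.Agent.S19450
open Groth.Agent

/-- Let k be an algebraically closed field, X an irreducible smooth separated k-scheme of dimension d ≥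
2 in which every finite set of points lies in an affine open (as for X quasi-projective), n ≥ 2, and
q : X ×_k ⋯ ×_k X → Y (n factors) a symmetric product over k, i.e. a quotient by the symmetric group
permuting the factors. Then for a closed point z of the n-fold product, the local ring of Y at q(z)
is regular if and only if the n components of z are pairwise distinct points of X; that is, the
singular locus of the n-th symmetric power is the image of the big diagonal. -/
theorem result (k : Type u) [Field k] [IsAlgClosed k]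
    (X : Scheme.{u}) (f : X ⟶ Spec (CommRingCat.of k)) [Smooth f] [IsSeparated f]
    [IrreducibleSpace X]
    (d : ℕ) (hd : 2 ≤ d) (hdim : topologicalKrullDim X = d) (hAF : SymProd.IsAF f)
    (n : ℕ) (hn : 2 ≤ n) (Y : Scheme.{u}) (q : SymProd.fibPow f n ⟶ Y) (g : Y ⟶ Spec (CommRingCat.of k))
    (hY : SymProd.IsSymProd f n q g) (z : SymProd.fibPow f n) (hz : IsClosed ({z} : Set (SymProd.fibPow f n))) :
    IsRegularLocalRing (Y.presheaf.stalk (q.base z)) ↔
      Function.Injective (fun i : Fin n => (WidePullback.π (fun _ : Fin n => f) i).base z) := by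
  obtain ⟨W', hW', hzW', -⟩ := exists_isAffineOpen_mem_and_subset (x := q z) (U := ⊤) trivial
  haveI := hY.isQuot.affine
  haveI := HilbDLib.smooth_powBase f n
  haveI := SymSing.isIntegral_fibPow f n
  haveI hfin : IsFinite q := SGA1Q.isFinite_of_isQuot hY.isQuot hY.over inferInstance
  haveI : LocallyOfFiniteType g := SGA1Q.locallyOfFiniteType_of_isQuot hY.isQuot hY.over inferInstance
  haveI : IsLocallyNoetherian Y := LocallyOfFiniteType.isLocallyNoetherian g
  let W : (SymProd.fibPow f n).Opens := q ⁻¹ᵁ W'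
  have hW : IsAffineOpen W := hW'.preimage q
  have hzW : z ∈ W := hzW'
  haveI : Nonempty (W : Scheme.{u}) := ⟨⟨z, hzW⟩⟩
  haveI : IsNoetherianRing Γ(Y, W') := IsLocallyNoetherian.component_noetherian ⟨W', hW'⟩
  have hst : ∀ γ : ULift.{u} (Equiv.Perm (Fin n)), W ≤ (SymProd.permActU f n γ).hom ⁻¹ᵁ W :=
    fun γ => SGA1.preimage_le_of_inv _ q hY.isQuot.inv γ W'
  letI := SGA1Q.secAction (SymProd.permActU f n) W hst
  letI := (q.app W').hom.toAlgebra
  obtain ⟨hcomm, hinvar⟩ := SGA1Q.isInvariant_of_isQuot hY.isQuot W'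
  haveI : SMulCommClass (ULift.{u} (Equiv.Perm (Fin n))) Γ(Y, W') Γ(SymProd.fibPow f n, W) := hcomm
  haveI : Algebra.IsInvariant Γ(Y, W') Γ(SymProd.fibPow f n, W) (ULift.{u} (Equiv.Perm (Fin n))) := hinvar
  haveI : Module.Finite Γ(Y, W') Γ(SymProd.fibPow f n, W) := q.finite_app W' hW'
  haveI : Algebra.IsIntegral Γ(Y, W') Γ(SymProd.fibPow f n, W) := Algebra.IsIntegral.of_finite _ _
  haveI : IsDomain Γ(SymProd.fibPow f n, W) := inferInstance
  haveI : FaithfulSMul Γ(Y, W') Γ(SymProd.fibPow f n, W) :=
    (faithfulSMul_iff_algebraMap_injective _ _).2 (hY.isQuot.injective W')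
  -- points of primes
  have hptc : ∀ (Q : Ideal Γ(SymProd.fibPow f n, W)) (hQ : Q.IsPrime) (x : Spec (CommRingCat.of (_ ⧸ Q))),
      x.asIdeal.comap (Ideal.Quotient.mk Q) = Q → SymSing.pt f hW Q x = hW.fromSpec ⟨Q, hQ⟩ := fun Q hQ x hx => by
    rw [Scheme.Hom.comp_apply]
    exact congrArg hW.fromSpec (PrimeSpectrum.ext hx)
  have hfixg : ∀ (Q : Ideal Γ(SymProd.fibPow f n, W)) (γ : ULift.{u} (Equiv.Perm (Fin n))),
      γ ∈ Q.inertia (ULift.{u} (Equiv.Perm (Fin n))) ↔
        SymSing.pt f hW Q ≫ SymProd.permHom f n γ⁻¹.down = SymSing.pt f hW Q :=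
    fun Q γ => (SymSing.fix_iff f hW Q γ⁻¹.down (hst γ⁻¹)).symm
  let P : Ideal Γ(SymProd.fibPow f n, W) := (hW.primeIdealOf ⟨z, hzW⟩).asIdeal
  haveI hPmax : P.IsMaximal := hW.primeIdealOf_isMaximal_of_isClosed ⟨z, hzW⟩ hz
  let p : Ideal Γ(Y, W') := (hW'.primeIdealOf ⟨q z, hzW'⟩).asIdeal
  have hPp : P.comap (algebraMap Γ(Y, W') Γ(SymProd.fibPow f n, W)) = p := by
    have h := IsAffineOpen.comap_primeIdealOf_appLE (f := q) (x := z) W' hW' W hW le_rfl hzW
    rw [← Scheme.Hom.app_eq_appLE] at h
    exact congrArg PrimeSpectrum.asIdeal h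
  haveI : p.IsMaximal := hPp ▸ Ideal.isMaximal_comap_of_isIntegral_of_isMaximal P
  letI : Algebra Γ(Y, W') (Y.presheaf.stalk (q z)) := (Y.presheaf.germ W' (q z) hzW').hom.toAlgebra
  have hlocY := hW'.isLocalization_stalk ⟨q z, hzW'⟩
  let eY : Localization.AtPrime p ≃+* Y.presheaf.stalk (q z) :=
    (IsLocalization.algEquiv p.primeCompl (Localization.AtPrime p) (Y.presheaf.stalk (q z))).toRingEquiv
  constructor
  · -- a regular point has trivial inertia
    intro hreg
    haveI : IsRegularLocalRing (Localization.AtPrime p) := IsRegularLocalRing.of_ringEquiv eY.symm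
    haveI : IsIntegrallyClosed Γ(SymProd.fibPow f n, W) :=
      (isIntegrallyClosed_iff_isIntegrallyClosedIn (FractionRing Γ(SymProd.fibPow f n, W))).2
        (S6278.result _ (NeronHDLib.isNormalRing_sections
          (NeronHDLib.isNormalScheme_of_smooth (WidePullback.base fun _ : Fin n => f)
            (GrpSchLib.SmoothFgPoints.isNormalScheme_spec_field k)) hW))
    have hlow : ∀ Q : Ideal Γ(SymProd.fibPow f n, W), Q.IsPrime → Q.height ≤ 1 →
        Q.inertia (ULift.{u} (Equiv.Perm (Fin n))) = ⊥ := fun Q hQ hh => by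
      rw [Subgroup.eq_bot_iff_forall]
      intro γ hγ
      by_contra hne
      exact absurd (SymSing.height_lt f hW Q hdim hd γ⁻¹.down
        (fun h => hne (inv_eq_one.1 (ULift.ext _ _ h))) ((hfixg Q γ).1 hγ)) (not_lt.2 hh)
    haveI : FaithfulSMul (ULift.{u} (Equiv.Perm (Fin n))) Γ(SymProd.fibPow f n, W) := ⟨fun {γ γ'} e => by
      have h := (Subgroup.eq_bot_iff_forall _).1 (hlow ⊥ Ideal.isPrime_bot (by simp)) (γ'⁻¹ * γ)
        (fun b => show (γ'⁻¹ * γ) • b - b ∈ (⊥ : Ideal Γ(SymProd.fibPow f n, W)) by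
          rw [Ideal.mem_bot, mul_smul, e b, inv_smul_smul, sub_self])
      exact (inv_mul_eq_one.1 h).symm⟩
    have hbot := SymSing.inertia_eq_bot_of_regular (G := ULift.{u} (Equiv.Perm (Fin n)))
      Γ(SymProd.fibPow f n, W) p (fun Q hQ hh => hlow Q hQ (le_trans (by
        rw [(⟨Q, hQ⟩ : PrimeSpectrum Γ(SymProd.fibPow f n, W)).height_eq_orderHeight,
          (PrimeSpectrum.comap (algebraMap Γ(Y, W') Γ(SymProd.fibPow f n, W)) ⟨Q, hQ⟩).height_eq_orderHeight |>
            (fun h => show (Q.comap (algebraMap Γ(Y, W') Γ(SymProd.fibPow f n, W))).height = _ from h)]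
        exact Order.height_le_height_apply_of_strictMono _ VarDim.strictMono_comap_of_isIntegral _) hh))
      P inferInstance hPp
    intro i j hij
    by_contra hne
    let s : Equiv.Perm (Fin n) := Equiv.swap i j
    letI := Ideal.Quotient.field P
    let e : k →+* Γ(SymProd.fibPow f n, W) ⧸ P :=
      (Ideal.Quotient.mk P).comp (SmoothCrit.secAlg (WidePullback.base fun _ : Fin n => f) W).hom
    have he : Function.Surjective e := by
      letI := (SmoothCrit.secAlg (WidePullback.base fun _ : Fin n => f) W).hom.toAlgebra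
      haveI := SmoothCrit.finitePresentation_sec (WidePullback.base fun _ : Fin n => f) hW
      haveI : Algebra.FiniteType k (Γ(SymProd.fibPow f n, W) ⧸ P) :=
        Algebra.FiniteType.of_surjective (Ideal.Quotient.mkₐ k P) Ideal.Quotient.mk_surjective
      haveI : Module.Finite k (Γ(SymProd.fibPow f n, W) ⧸ P) :=
        finite_of_finite_type_of_isJacobsonRing k (Γ(SymProd.fibPow f n, W) ⧸ P)
      exact (IsAlgClosed.algebraMap_bijective_of_isIntegral (k := k) (K := Γ(SymProd.fibPow f n, W) ⧸ P)).2
    let c := SymSing.pt f hW P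
    have hcb : c ≫ (WidePullback.base fun _ : Fin n => f) = Spec.map (CommRingCat.ofHom e) := by
      rw [Category.assoc, ← SymSing.SpecMap_secAlg _ hW, ← Spec.map_comp]
      rfl
    have hcz : c (IsLocalRing.closedPoint _) = z := by
      rw [hptc P inferInstance _ ?_]
      · exact hW.fromSpec_primeIdealOf ⟨z, hzW⟩
      · show (IsLocalRing.maximalIdeal _).comap _ = P
        rw [IsLocalRing.maximalIdeal_eq_bot, ← RingHom.ker_eq_comap_bot, Ideal.mk_ker]
    have hfix : c ≫ SymProd.permHom f n s = c := by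
      refine WidePullback.hom_ext _ _ _ (fun l => ?_) (by rw [Category.assoc, SymProd.permHom_base])
      rw [Category.assoc, SymProd.permHom_π]
      refine SymSing.point_ext f _ _ e he (by rw [Category.assoc, WidePullback.π_arrow, hcb])
        (by rw [Category.assoc, WidePullback.π_arrow, hcb]) ?_
      show WidePullback.π (fun _ : Fin n => f) (s.symm l) (c _) = WidePullback.π (fun _ : Fin n => f) l (c _)
      rw [hcz, Equiv.symm_swap, Equiv.swap_apply_def]
      split_ifs with h1 h2
      · rw [h1]; exact hij.symm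
      · rw [h2]; exact hij
      · rfl
    have hs : (ULift.up s⁻¹ : ULift.{u} (Equiv.Perm (Fin n))) ∈ P.inertia (ULift.{u} (Equiv.Perm (Fin n))) := by
      refine (hfixg P _).2 ?_
      show c ≫ SymProd.permHom f n s⁻¹⁻¹ = c
      rw [inv_inv]; exact hfix
    have h1 : s⁻¹ = 1 := congrArg ULift.down ((Subgroup.eq_bot_iff_forall _).1 hbot _ hs)
    exact hne (Equiv.swap_eq_one_iff.1 (inv_eq_one.1 h1))
  · -- free points are regular
    intro hinj
    have htriv : ∀ Q : Ideal Γ(SymProd.fibPow f n, W), Q.IsPrime →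
        Q.comap (algebraMap Γ(Y, W') Γ(SymProd.fibPow f n, W)) = p →
        Q.inertia (ULift.{u} (Equiv.Perm (Fin n))) = ⊥ := fun Q hQ hQp => by
      let z' := hW.fromSpec ⟨Q, hQ⟩
      have hz'W : z' ∈ W := by
        rw [← SetLike.mem_coe, ← hW.range_fromSpec]
        exact ⟨_, rfl⟩
      have hqz : q z' = q z := by
        have e1 := congrArg (fun a => a.base ⟨Q, hQ⟩) (IsAffineOpen.SpecMap_appLE_fromSpec q hW' hW (le_refl W))
        refine e1.symm.trans (Eq.trans ?_ (hW'.fromSpec_primeIdealOf ⟨q z, hzW'⟩))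
        refine congrArg hW'.fromSpec (PrimeSpectrum.ext ?_)
        show Q.comap (q.appLE W' W (le_refl W)).hom = p
        rw [← hQp]
        exact congrArg (fun ψ => Ideal.comap (CommRingCat.Hom.hom ψ) Q) (Scheme.Hom.app_eq_appLE q).symm
      obtain ⟨τ, hτ⟩ := (SGA1Q.orbit_iff hY.isQuot z z').1 hqz.symm
      rw [Subgroup.eq_bot_iff_forall]
      intro γ hγ
      have h := (hfixg Q γ).1 hγ
      haveI : IsDomain (Γ(SymProd.fibPow f n, W) ⧸ Q) := Ideal.Quotient.isDomain Q
      have hc : SymSing.pt f hW Q (⟨⊥, Ideal.isPrime_bot⟩ : PrimeSpectrum (Γ(SymProd.fibPow f n, W) ⧸ Q)) = z' :=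
        hptc Q hQ _ (by rw [← RingHom.ker_eq_comap_bot, Ideal.mk_ker])
      have hperm : ∀ i, γ⁻¹.down.symm i = i := fun i => by
        have hi' := congrArg (fun a => a ≫ WidePullback.π (fun _ : Fin n => f) i) h
        simp only [Category.assoc, SymProd.permHom_π] at hi'
        have hi : WidePullback.π (fun _ : Fin n => f) (γ⁻¹.down.symm i) z' = WidePullback.π (fun _ : Fin n => f) i z' := by
          rw [← hc]
          have := congrArg (fun a => a.base (⟨⊥, Ideal.isPrime_bot⟩ : PrimeSpectrum (Γ(SymProd.fibPow f n, W) ⧸ Q))) hi'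
          exact this
        have hπ : ∀ l, WidePullback.π (fun _ : Fin n => f) l z' = WidePullback.π (fun _ : Fin n => f) (τ.down.symm l) z :=
          fun l => by rw [← hτ, SymProd.permActU_hom, ← Scheme.Hom.comp_apply, SymProd.permHom_π]
        rw [hπ, hπ] at hi
        exact τ.down.symm.injective (hinj hi)
      refine inv_eq_one.1 (ULift.ext _ _ (Equiv.ext fun i => ?_))
      exact ((Equiv.symm_apply_eq _).1 (hperm i)).symm
    obtain ⟨r, hr, hδ⟩ := WQ7.exists_delta (G := ULift.{u} (Equiv.Perm (Fin n))) p htriv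
    haveI := H1Wild.etale_away (G := ULift.{u} (Equiv.Perm (Fin n))) (r := r) hδ
    let B' := Localization.Away (algebraMap Γ(Y, W') Γ(SymProd.fibPow f n, W) r)
    let BP := Localization.AtPrime P
    haveI : IsRegularLocalRing BP := by
      haveI := GrpSchLib.isRegularLocalRing_stalk_of_smooth (WidePullback.base fun _ : Fin n => f) z
      letI : Algebra Γ(SymProd.fibPow f n, W) ((SymProd.fibPow f n).presheaf.stalk z) :=
        ((SymProd.fibPow f n).presheaf.germ W z hzW).hom.toAlgebra
      have := hW.isLocalization_stalk ⟨z, hzW⟩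
      exact IsRegularLocalRing.of_ringEquiv
        (IsLocalization.algEquiv P.primeCompl ((SymProd.fibPow f n).presheaf.stalk z) BP).toRingEquiv
    have hrP : algebraMap Γ(Y, W') Γ(SymProd.fibPow f n, W) r ∈ P.primeCompl := fun h => hr (hPp ▸ h)
    have hru : IsUnit (algebraMap Γ(SymProd.fibPow f n, W) BP (algebraMap Γ(Y, W') Γ(SymProd.fibPow f n, W) r)) :=
      IsLocalization.map_units BP ⟨_, hrP⟩
    letI : Algebra B' BP := (IsLocalization.Away.lift (algebraMap Γ(Y, W') Γ(SymProd.fibPow f n, W) r) hru).toAlgebra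
    haveI : IsScalarTower Γ(SymProd.fibPow f n, W) B' BP :=
      IsScalarTower.of_algebraMap_eq fun b => (IsLocalization.Away.lift_eq _ hru b).symm
    haveI : IsScalarTower Γ(Y, W') B' BP := IsScalarTower.of_algebraMap_eq fun a => by
      rw [IsScalarTower.algebraMap_apply Γ(Y, W') Γ(SymProd.fibPow f n, W) BP,
        IsScalarTower.algebraMap_apply Γ(Y, W') Γ(SymProd.fibPow f n, W) B',
        ← IsScalarTower.algebraMap_apply Γ(SymProd.fibPow f n, W) B' BP]
    haveI := IsLocalization.isLocalization_of_submonoid_le B' BP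
      (Submonoid.powers (algebraMap Γ(Y, W') Γ(SymProd.fibPow f n, W) r)) P.primeCompl
      (Submonoid.powers_le.2 hrP)
    haveI : Module.Flat B' BP :=
      IsLocalization.flat BP (P.primeCompl.map (algebraMap Γ(SymProd.fibPow f n, W) B'))
    haveI : Module.Flat Γ(Y, W') BP := Module.Flat.trans Γ(Y, W') B' BP
    letI : Algebra (Localization.AtPrime p) BP :=
      (Localization.localRingHom p P (algebraMap Γ(Y, W') Γ(SymProd.fibPow f n, W)) hPp.symm).toAlgebra
    haveI : IsScalarTower Γ(Y, W') (Localization.AtPrime p) BP := IsScalarTower.of_algebraMap_eq fun a => by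
      rw [IsScalarTower.algebraMap_apply Γ(Y, W') Γ(SymProd.fibPow f n, W) BP]
      exact (Localization.localRingHom_to_map _ _ _ _ a).symm
    haveI : Module.Flat (Localization.AtPrime p) BP :=
      (Module.flat_iff_of_isLocalization (Localization.AtPrime p) p.primeCompl BP).2 inferInstance
    haveI : IsLocalHom (algebraMap (Localization.AtPrime p) BP) := Localization.isLocalHom_localRingHom p P _ hPp.symm
    haveI := S0565.result (Localization.AtPrime p) BP
    exact IsRegularLocalRing.of_ringEquiv eY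

end Groth.Agent.S19450
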