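import Groth.Statements.S19453
import Mathlib

set_option autoImplicit false
universe u
open CAlg

namespace Groth.Agent.S19453

theorem exists_param (A : Type u) [CommRing A] [IsRegularLocalRing A] (hdim : ringKrullDim A = 2)
    (g : A) (hgm : g ∈ IsLocalRing.maximalIdeal A) (hg : g ∉ IsLocalRing.maximalIdeal A ^ 2) :
    ∃ t, IsLocalRing.maximalIdeal A = Ideal.span {g, t} := by
  classical
  have h2 : (IsLocalRing.maximalIdeal A).spanFinrank = 2 := by
    have h := IsRegularLocalRing.spanFinrank_maximalIdeal (R := A)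
    rw [hdim] at h
    exact_mod_cast h
  have hfg : (IsLocalRing.maximalIdeal A).FG := (isNoetherianRing_iff_ideal_fg A).1 inferInstance _
  have hc := Submodule.FG.generators_ncard hfg
  rw [h2] at hc
  obtain ⟨a, b, -, hab⟩ := Set.ncard_eq_two.1 hc
  have hsp : IsLocalRing.maximalIdeal A = Ideal.span {a, b} := by
    rw [← hab]; exact (Submodule.span_generators _).symm
  have ham : a ∈ IsLocalRing.maximalIdeal A := hsp ▸ Ideal.subset_span (by simp)
  have hbm : b ∈ IsLocalRing.maximalIdeal A := hsp ▸ Ideal.subset_span (by simp)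
  obtain ⟨u, v, huv⟩ := Ideal.mem_span_pair.1 (hsp ▸ hgm)
  have key : ∀ a b u v : A, IsLocalRing.maximalIdeal A = Ideal.span {a, b} → u * a + v * b = g → IsUnit u →
      IsLocalRing.maximalIdeal A = Ideal.span {g, b} := by
    intro a b u v hs he hu
    obtain ⟨w, hw⟩ := hu.exists_left_inv
    refine le_antisymm ?_ (Ideal.span_le.2 (by
      rintro x (rfl | rfl)
      · exact hgm
      · exact hs ▸ Ideal.subset_span (by simp)))
    rw [hs, Ideal.span_le]
    rintro x (rfl | rfl)
    · exact Ideal.mem_span_pair.2 ⟨w, -(w * v), by linear_combination -w * he + x * hw⟩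
    · exact Ideal.subset_span (by simp)
  by_cases hu : IsUnit u
  · exact ⟨b, key a b u v hsp huv hu⟩
  by_cases hv : IsUnit v
  · exact ⟨a, key b a v u (by rw [hsp, Set.pair_comm]) (by rw [← huv, add_comm]) hv⟩
  exfalso; apply hg
  rw [← huv, pow_two]
  exact add_mem (Ideal.mul_mem_mul hu ham) (Ideal.mul_mem_mul hv hbm)

/-- Converse direction: let k be a field, A a regular local k-algebra of Krull dimension 2 with maximal
ideal M and residue field k, and I an ideal with A/I of finite dimension n ≥ 1 over k. If some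
element of I does not lie in M^2, then A/I is isomorphic as a k-algebra to k[x]/(x^n): a cluster
lying on a smooth curve germ of a smooth surface is curvilinear, with coordinate ring generated by
one element. -/
theorem result (k : Type u) [Field k]
    (A : Type u) [CommRing A] [Algebra k A] [IsRegularLocalRing A] (hdim : ringKrullDim A = 2)
    (hres : Function.Surjective (algebraMap k (IsLocalRing.ResidueField A)))
    (I : Ideal A) [Module.Finite k (A ⧸ I)] (n : ℕ) (hn : Module.finrank k (A ⧸ I) = n) (h1 : 1 ≤ n)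
    (g : A) (hgI : g ∈ I) (hg : g ∉ IsLocalRing.maximalIdeal A ^ 2) :
    Nonempty ((A ⧸ I) ≃ₐ[k] (Polynomial k ⧸ Ideal.span {(Polynomial.X : Polynomial k) ^ n})) := by
  classical
  haveI : Nontrivial (A ⧸ I) := Module.nontrivial_of_finrank_pos (R := k) (by omega)
  have hItop : I ≠ ⊤ := fun h => by
    subst h
    exact not_subsingleton (A ⧸ (⊤ : Ideal A)) inferInstance
  have hIM : I ≤ IsLocalRing.maximalIdeal A := IsLocalRing.le_maximalIdeal hItop
  obtain ⟨t, ht⟩ := exists_param A hdim g (hIM hgI) hg
  haveI : IsLocalRing (A ⧸ I) :=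
    IsLocalRing.of_surjective' (Ideal.Quotient.mk I) Ideal.Quotient.mk_surjective
  haveI : IsArtinianRing (A ⧸ I) := isArtinian_of_tower k (inferInstance : IsArtinian k (A ⧸ I))
  have hmB : IsLocalRing.maximalIdeal (A ⧸ I) = Ideal.span {Ideal.Quotient.mk I t} := by
    rw [← IsLocalRing.map_maximalIdeal_of_surjective (Ideal.Quotient.mk I) Ideal.Quotient.mk_surjective,
      ht, Ideal.map_span, Set.image_pair, Ideal.Quotient.eq_zero_iff_mem.2 hgI, Ideal.span_insert_zero]
  obtain ⟨N, hN⟩ := IsArtinianRing.isNilpotent_jacobson_bot (R := A ⧸ I)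
  rw [IsLocalRing.jacobson_eq_maximalIdeal ⊥ bot_ne_top, hmB, Ideal.span_singleton_pow,
    Ideal.zero_eq_bot, Ideal.span_singleton_eq_bot] at hN
  let φ : Polynomial k →ₐ[k] A ⧸ I := Polynomial.aeval (Ideal.Quotient.mk I t)
  have hsurj : Function.Surjective φ := by
    intro b
    have H : ∀ (m : ℕ) (b : A ⧸ I), ∃ (p : Polynomial k) (r : A ⧸ I),
        b = φ p + Ideal.Quotient.mk I t ^ m * r := by
      intro m
      induction m with
      | zero => exact fun b => ⟨0, b, by simp⟩
      | succ m ih =>
        intro b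
        obtain ⟨p, r, hb⟩ := ih b
        obtain ⟨a, rfl⟩ := Ideal.Quotient.mk_surjective r
        obtain ⟨c, hc⟩ := hres (IsLocalRing.residue A a)
        rw [IsScalarTower.algebraMap_apply k A, IsLocalRing.ResidueField.algebraMap_eq] at hc
        have hm : a - algebraMap k A c ∈ IsLocalRing.maximalIdeal A := Ideal.Quotient.eq.1 hc.symm
        have hm' : Ideal.Quotient.mk I (a - algebraMap k A c) ∈ IsLocalRing.maximalIdeal (A ⧸ I) := by
          rw [← IsLocalRing.map_maximalIdeal_of_surjective (Ideal.Quotient.mk I) Ideal.Quotient.mk_surjective]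
          exact Ideal.mem_map_of_mem _ hm
        rw [hmB, Ideal.mem_span_singleton'] at hm'
        obtain ⟨r', hr'⟩ := hm'
        refine ⟨p + Polynomial.C c * Polynomial.X ^ m, r', ?_⟩
        rw [hb, map_add, map_mul, map_pow]
        simp only [φ, Polynomial.aeval_C, Polynomial.aeval_X]
        rw [map_sub, Ideal.Quotient.mk_algebraMap] at hr'
        linear_combination -(Ideal.Quotient.mk I t ^ m) * hr'
    obtain ⟨p, r, hb⟩ := H N b
    exact ⟨p, by rw [hb, hN, zero_mul, add_zero]⟩
  let f := Submodule.IsPrincipal.generator (RingHom.ker φ.toRingHom)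
  have hker : RingHom.ker φ.toRingHom = Ideal.span {f} :=
    (Ideal.span_singleton_generator _).symm
  have hdvd : f ∣ (Polynomial.X : Polynomial k) ^ N := by
    rw [← Ideal.mem_span_singleton, ← hker]
    show φ (Polynomial.X ^ N) = 0
    simp [φ, hN]
  obtain ⟨m, -, hm⟩ := (dvd_prime_pow Polynomial.prime_X N).1 hdvd
  have hker' : RingHom.ker φ = Ideal.span {(Polynomial.X : Polynomial k) ^ m} := by
    show RingHom.ker φ.toRingHom = _
    rw [hker]; exact Ideal.span_singleton_eq_span_singleton.2 hm
  let e : (Polynomial k ⧸ Ideal.span {(Polynomial.X : Polynomial k) ^ m}) ≃ₐ[k] A ⧸ I :=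
    (Ideal.quotientEquivAlgOfEq k hker'.symm).trans (Ideal.quotientKerAlgEquivOfSurjective hsurj)
  have hm' : m = n := by
    rw [← hn, ← e.toLinearEquiv.finrank_eq, finrank_quotient_span_eq_natDegree, Polynomial.natDegree_X_pow]
  subst hm'
  exact ⟨e.symm⟩

end Groth.Agent.S19453
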