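import Groth.Statements.S19460
import Groth.Agent.SmoothCrit.Sch
import Mathlib.AlgebraicGeometry.Morphisms.UniversallyOpen
import Mathlib.AlgebraicGeometry.Fiber
import Mathlib.AlgebraicGeometry.Noetherian
-- import your own Groth.Agent.* helpers here

set_option autoImplicit false
universe u
open CategoryTheory CategoryTheory.Limits AlgebraicGeometry
open Variety

namespace Groth.Agent.S19460

/-- Let k be an algebraically closed field, X and Y smooth irreducible varieties over k (integral,
separated, of finite type and smooth over k) of dimensions dX and dY, and f : X → Y a k-morphism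
which is smooth in the sense that at every closed point x of X the tangent map T_x X → T_{f(x)} Y is
surjective, equivalently the cotangent map m_{f(x)}/m_{f(x)}² → m_x/m_x² of the local rings is
injective. Then f is dominant, dY ≤ dX, and for every closed point y of Y in the image of f the
scheme-theoretic fibre X_y is smooth over the residue field κ(y) (which is k) and each of its
irreducible components has dimension dX − dY. (The published statement is for varieties in the
classical sense, with the fibre carrying its reduced structure, and it also identifies the tangent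
space of the fibre at each point with the kernel of the tangent map; that identification is not part
of this row.) -/
theorem result (k : Type u) [Field k] [IsAlgClosed k]
    {X Y : Scheme.{u}} (qX : X ⟶ Spec (CommRingCat.of k)) (qY : Y ⟶ Spec (CommRingCat.of k))
    [AlgebraicGeometry.IsIntegral X] [IsSeparated qX] [LocallyOfFiniteType qX] [QuasiCompact qX] [Smooth qX]
    [AlgebraicGeometry.IsIntegral Y] [IsSeparated qY] [LocallyOfFiniteType qY] [QuasiCompact qY] [Smooth qY]
    (f : X ⟶ Y) (hf : f ≫ qY = qX) (dX dY : ℕ) (hX : topologicalKrullDim ↥X = dX)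
    (hY : topologicalKrullDim ↥Y = dY)
    (hT : ∀ x : X, IsClosed ({x} : Set ↥X) → Function.Injective (FixPt.cotangentMapAt f x (f.base x) rfl)) :
    DenseRange f.base ∧ dY ≤ dX ∧
      ∀ y : Y, IsClosed ({y} : Set ↥Y) → y ∈ Set.range f.base →
        Smooth (f.fiberToSpecResidueField y) ∧
          ∀ Z ∈ irreducibleComponents ↥(f.fiber y),
            topologicalKrullDim ↥Z = ((dX - dY : ℕ) : WithBot ℕ∞) := by
  haveI : Smooth f := (SmoothCrit.smooth_iff qX qY f hf).2 hT
  haveI : UniversallyOpen f := UniversallyOpen.of_flat f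
  have hopen : IsOpen (Set.range f.base) := f.isOpenMap.isOpen_range
  have hdense : DenseRange f.base := by
    obtain ⟨x⟩ := (inferInstance : Nonempty X)
    have hg : genericPoint Y ∈ Set.range f.base :=
      ((genericPoint_spec Y).mem_open_set_iff hopen).2 ⟨f.base x, trivial, ⟨x, rfl⟩⟩
    refine dense_iff_closure_eq.2 (Set.eq_univ_of_univ_subset ?_)
    rw [← (genericPoint_spec Y).def]
    exact closure_mono (Set.singleton_subset_iff.2 hg)
  haveI := SmoothCrit.smoothOfRelativeDimension_dim qY dY hY
  have hle : dY ≤ dX := by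
    obtain ⟨x⟩ := (inferInstance : Nonempty X)
    obtain ⟨U, hU, V, hV, hxV, e, hs⟩ := Smooth.exists_isStandardSmooth f x
    obtain ⟨m, hm⟩ : ∃ m, (f.appLE U V e).hom.IsStandardSmoothOfRelativeDimension m := by
      algebraize [(f.appLE U V e).hom]
      obtain ⟨ι, σ, _, _, ⟨P⟩⟩ := Algebra.IsStandardSmooth.out (R := Γ(Y, U)) (S := Γ(X, V)) (self := hs)
      exact ⟨P.dimension, ι, σ, _, ‹_›, ⟨P, rfl⟩⟩
    haveI : IsAffine (V : Scheme.{u}) := hV
    haveI : IsAffine (U : Scheme.{u}) := hU
    haveI : SmoothOfRelativeDimension m (f.resLE U V e) := by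
      rw [HasRingHomProperty.iff_of_isAffine (P := @SmoothOfRelativeDimension m)]
      refine RingHom.locally_of RingHom.isStandardSmoothOfRelativeDimension_respectsIso _ ?_
      exact (RingHom.isStandardSmoothOfRelativeDimension_respectsIso.arrow_mk_iso_iff (arrowResLEAppIso f U V e)).2 hm
    haveI : SmoothOfRelativeDimension (m + (0 + dY)) (V.ι ≫ qX) := by
      rw [← hf, ← Category.assoc, ← Scheme.Hom.resLE_comp_ι f e, Category.assoc]
      infer_instance
    haveI : Nonempty (V : Scheme.{u}) := ⟨⟨x, hxV⟩⟩
    have h2 := SmoothCrit.eq_dim qX V.ι (m + (0 + dY))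
    rw [hX] at h2
    have h3 : dX = m + (0 + dY) := by exact_mod_cast h2
    omega
  refine ⟨hdense, hle, fun y hy _ => ?_⟩
  haveI : SmoothOfRelativeDimension (dX - dY) f := (SmoothCrit.smoothOfRelativeDimension_iff qX qY f hf (dX - dY) dY hY
    (by rw [hX]; congr 1; omega)).2 inferInstance
  haveI := smoothOfRelativeDimension_isStableUnderBaseChange (dX - dY)
  haveI hπ : SmoothOfRelativeDimension (dX - dY) (f.fiberToSpecResidueField y) :=
    MorphismProperty.pullback_snd (P := @SmoothOfRelativeDimension (dX - dY)) _ _ ‹_›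
  haveI : Smooth (f.fiberToSpecResidueField y) := SmoothOfRelativeDimension.smooth (dX - dY) _
  refine ⟨inferInstance, fun Z hZ => ?_⟩
  haveI : QuasiCompact f := by
    haveI : QuasiCompact (f ≫ qY) := by rw [hf]; infer_instance
    exact QuasiCompact.of_comp f qY
  haveI : LocallyOfFiniteType (f.fiberToSpecResidueField y) := inferInstance
  let π : f.fiber y ⟶ Spec (CommRingCat.of (Y.residueField y)) := f.fiberToSpecResidueField y
  haveI hπ1 : LocallyOfFiniteType π := ‹LocallyOfFiniteType (f.fiberToSpecResidueField y)›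
  haveI hπ2 : SmoothOfRelativeDimension (dX - dY) π := hπ
  haveI hπ3 : Smooth π := SmoothOfRelativeDimension.smooth (dX - dY) π
  haveI : IsLocallyNoetherian (f.fiber y) := LocallyOfFiniteType.isLocallyNoetherian (f.fiberToSpecResidueField y)
  haveI : IsNoetherian (f.fiber y) := ⟨⟩
  obtain ⟨o, ho, hne, hoZ⟩ := TopologicalSpace.NoetherianSpace.exists_isOpen_nonempty_subset_irreducibleComponent Z hZ
  obtain ⟨z, hz⟩ := hne
  obtain ⟨η, hη⟩ := QuasiSober.sober hZ.1 (isClosed_of_mem_irreducibleComponents Z hZ)
  have hηo : η ∈ o := (hη.specializes (hoZ hz)).mem_open ho hz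
  let W : (f.fiber y).Opens := ⟨o, ho⟩
  haveI : IrreducibleSpace (W : Scheme.{u}) := by
    show IrreducibleSpace o
    refine Subtype.irreducibleSpace ⟨⟨z, hz⟩, ?_⟩
    intro u v hu hv ⟨a, hao, hau⟩ ⟨b, hbo, hbv⟩
    exact ⟨η, hηo, (hη.specializes (hoZ hao)).mem_open hu hau, (hη.specializes (hoZ hbo)).mem_open hv hbv⟩
  haveI : Nonempty (W : Scheme.{u}) := ⟨⟨z, hz⟩⟩
  haveI : SmoothOfRelativeDimension (dX - dY) (𝟙 _ ≫ W.ι ≫ π) := by
    simpa using (inferInstance : SmoothOfRelativeDimension (0 + (dX - dY)) (W.ι ≫ π))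
  have h1 := SmoothCrit.eq_dim (W.ι ≫ π) (𝟙 _) (dX - dY)
  have h2 : topologicalKrullDim (W : Scheme.{u}) = topologicalKrullDim (W : Set (f.fiber y)) := rfl
  rw [h2, VarDim.topologicalKrullDim_opens_eq_iSup_deg π] at h1
  rw [← hη.def, VarDim.topologicalKrullDim_closure_singleton π, ← h1]
  refine le_antisymm (le_iSup_of_le ⟨η, hηo⟩ le_rfl) (iSup_le fun w => ?_)
  exact_mod_cast VarDim.deg_le_of_specializes _ (hη.specializes (hoZ w.2))

end Groth.Agent.S19460
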