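import Groth.Statements.S19461
import Groth.Agent.H1EssEt.NormCondition
import Mathlib

set_option autoImplicit false
universe u
open CAlg

namespace Groth.Agent.S19461

/-- The implication from isomorphic completions to flat and unramified. Let A → B be a local
homomorphism of Noetherian local rings and ψ a ring map from the completion of A at its maximal
ideal to that of B whose composite with A → A^ is A → B → B^. If ψ is bijective, then A → B is flat
and the maximal ideal of A generates the maximal ideal of B. (The published statement is the
implication, for a morphism of algebraic varieties over an algebraically closed field, from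
isomorphic induced maps of completed local rings at every point to flat and unramified; its proof is
this local-ring argument, valid for any Noetherian local rings. The converse implication is a
separate result.) -/
theorem result (A B : Type u) [CommRing A]
    [CommRing B] [IsLocalRing A] [IsLocalRing B] [IsNoetherianRing A] [IsNoetherianRing B]
    [Algebra A B] [IsLocalHom (algebraMap A B)]
    (ψ : AdicCompletion (IsLocalRing.maximalIdeal A) A →+* AdicCompletion (IsLocalRing.maximalIdeal B) B)
    (hψ : ψ.comp (algebraMap A (AdicCompletion (IsLocalRing.maximalIdeal A) A)) =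
      (algebraMap B (AdicCompletion (IsLocalRing.maximalIdeal B) B)).comp (algebraMap A B))
    (hbij : Function.Bijective ψ) :
    Module.Flat A B ∧
      Ideal.map (algebraMap A B) (IsLocalRing.maximalIdeal A) = IsLocalRing.maximalIdeal B := by
  let Ah := AdicCompletion (IsLocalRing.maximalIdeal A) A
  let Bh := AdicCompletion (IsLocalRing.maximalIdeal B) B
  haveI : IsScalarTower A B Bh := inferInstance
  haveI : Module.Flat A Ah := AdicCompletion.flat_of_isNoetherian (IsLocalRing.maximalIdeal A)
  haveI : Module.Flat B Bh := AdicCompletion.flat_of_isNoetherian (IsLocalRing.maximalIdeal B)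
  haveI : IsLocalHom (algebraMap B Bh) := AdicCompletion.algebraMap_isLocalHom_of_fg (IsNoetherian.noetherian _)
  haveI : Module.FaithfullyFlat B Bh := Module.FaithfullyFlat.of_flat_of_isLocalHom
  have hA : (algebraMap A Ah).Flat := RingHom.flat_algebraMap_iff.mpr inferInstance
  have hc : ((algebraMap B Bh).comp (algebraMap A B)).Flat := hψ ▸ hA.comp (RingHom.Flat.of_bijective hbij)
  haveI : Module.Flat A Bh := by
    rw [← IsScalarTower.algebraMap_eq] at hc
    exact RingHom.flat_algebraMap_iff.mp hc
  refine ⟨H1EssEt.flat_of_faithfullyFlat_top A B Bh, ?_⟩
  have hm : (IsLocalRing.maximalIdeal Ah).map ψ = IsLocalRing.maximalIdeal Bh := by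
    apply IsLocalRing.eq_maximalIdeal
    exact Ideal.IsMaximal.map_bijective ψ hbij inferInstance
  rw [AdicCompletion.maximalIdeal_eq_map, AdicCompletion.maximalIdeal_eq_map, Ideal.map_map, hψ, ← Ideal.map_map] at hm
  have h2 := congrArg (Ideal.comap (algebraMap B Bh)) hm
  rwa [Ideal.comap_map_eq_self_of_faithfullyFlat, Ideal.comap_map_eq_self_of_faithfullyFlat] at h2

end Groth.Agent.S19461
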