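import Groth.Statements.S19462
import Mathlib

set_option autoImplicit false
universe u
open GrNak

namespace Groth.Agent.S19462

/-- Let k be a field and R a commutative ℤ-graded k-algebra whose pieces of negative degree vanish and
whose degree-zero piece is the image of k, and let M be a finitely generated ℤ-graded R-module,
graded compatibly with R. Then M is a projective R-module if and only if M has an R-basis consisting
of homogeneous elements, i.e. M is a free graded module. (The published statement takes R a graded
quotient of a polynomial ring k[x_0, …, x_n] with its standard grading; stated here for any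
commutative graded k-algebra concentrated in non-negative degrees with degree-zero part k, to which
the same graded-Nakayama argument applies.) -/
theorem result {k : Type u} [Field k] {R : Type u} [CommRing R] [Algebra k R]
    {σ : Type u} [SetLike σ R] [AddSubmonoidClass σ R] (𝒜 : ℤ → σ) [GradedRing 𝒜]
    (hneg : ∀ i : ℤ, i < 0 → ∀ x ∈ 𝒜 i, x = 0)
    (hk : ∀ c : k, algebraMap k R c ∈ 𝒜 0) (h0 : ∀ x ∈ 𝒜 0, ∃ c : k, algebraMap k R c = x)
    {M : Type u} [AddCommGroup M] [Module R M] [Module.Finite R M]
    {τ : Type u} [SetLike τ M] [AddSubmonoidClass τ M] (ℳ : ℤ → τ) [DirectSum.Decomposition ℳ]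
    [SetLike.GradedSMul 𝒜 ℳ] :
    Module.Projective R M ↔
      ∃ (ι : Type u) (b : Module.Basis ι R M), ∀ i : ι, SetLike.IsHomogeneousElem ℳ (b i) := by
  classical
  constructor
  swap
  · rintro ⟨ι, b, -⟩
    exact Module.Projective.of_basis b
  intro hproj
  -- a finite homogeneous generating set
  obtain ⟨s, hs⟩ : ∃ s : Finset M, (∀ x ∈ s, SetLike.IsHomogeneousElem ℳ x) ∧
      Submodule.span R (s : Set M) = ⊤ := by
    obtain ⟨t, ht⟩ := Module.Finite.fg_top (R := R) (M := M)
    refine ⟨t.biUnion fun m => ((DirectSum.decompose ℳ m).support).image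
      fun i => (DirectSum.decompose ℳ m i : M), ?_, ?_⟩
    · intro x hx
      simp only [Finset.mem_biUnion, Finset.mem_image] at hx
      obtain ⟨m, -, i, -, rfl⟩ := hx
      exact ⟨i, SetLike.coe_mem _⟩
    · rw [eq_top_iff, ← ht, Submodule.span_le]
      intro m hm
      rw [SetLike.mem_coe, ← DirectSum.sum_support_decompose ℳ m]
      refine Submodule.sum_mem _ fun i hi => Submodule.subset_span ?_
      simp only [Finset.coe_biUnion, Finset.coe_image, Set.mem_iUnion, Set.mem_image]
      exact ⟨m, hm, i, hi, rfl⟩
  -- a minimal one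
  have hex : ∃ n, ∃ s : Finset M, s.card = n ∧ (∀ x ∈ s, SetLike.IsHomogeneousElem ℳ x) ∧
      Submodule.span R (s : Set M) = ⊤ := ⟨s.card, s, rfl, hs⟩
  obtain ⟨t, htc, hth, hts⟩ := Nat.find_spec hex
  have hmin : ∀ x ∈ t, Submodule.span R ((t.erase x : Finset M) : Set M) ≠ ⊤ := by
    intro x hx h
    have h1 := Nat.find_min' hex ⟨t.erase x, rfl,
      fun y hy => hth y (Finset.mem_of_mem_erase hy), h⟩
    have h2 := Finset.card_erase_lt_of_mem hx
    omega
  have hthc : ∀ x : t, ∃ d : ℤ, (x : M) ∈ ℳ d := fun x => hth x.1 x.2
  choose d hd using hthc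
  let φ : (t → R) →ₗ[R] M := Fintype.linearCombination R (fun x : t => (x : M))
  have hφ : Function.Surjective φ := by
    rw [← LinearMap.range_eq_top, Fintype.range_linearCombination, Subtype.range_coe_subtype]
    simpa using hts
  -- the degree zero part of a relation vanishes
  have hrel : ∀ a : t → R, φ a = 0 → ∀ j, (DirectSum.decompose 𝒜 (a j) 0 : R) = 0 := by
    intro a ha j
    by_contra hne
    obtain ⟨c, hc⟩ := h0 _ (SetLike.coe_mem (DirectSum.decompose 𝒜 (a j) 0))
    have hc0 : c ≠ 0 := by rintro rfl; rw [map_zero] at hc; exact hne hc.symm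
    apply hmin j.1 j.2
    rw [eq_top_iff, ← hts, Submodule.span_le]
    intro y hy
    by_cases hyj : y = j.1
    · subst hyj
      have hcomp : ∀ (r : R) (m : M) (e : ℤ), m ∈ ℳ e → ∀ g : ℤ,
          (DirectSum.decompose ℳ (r • m) g : M) = (DirectSum.decompose 𝒜 r (g - e) : R) • m := by
        intro r m e hm g
        conv_lhs => rw [← DirectSum.sum_support_decompose 𝒜 r]
        rw [Finset.sum_smul, DirectSum.decompose_sum, DFinsupp.finsetSum_apply,
          AddSubmonoidClass.coe_finsetSum]
        rw [Finset.sum_eq_single (g - e)]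
        · rw [DirectSum.decompose_of_mem_same]
          have := SetLike.GradedSMul.smul_mem (SetLike.coe_mem
            (DirectSum.decompose 𝒜 r (g - e))) hm
          simpa using this
        · intro i _ hi
          have h3 := SetLike.GradedSMul.smul_mem (SetLike.coe_mem
            (DirectSum.decompose 𝒜 r i)) hm
          exact DirectSum.decompose_of_mem_ne ℳ h3 (by rw [vadd_eq_add]; omega)
        · intro hns
          rw [DFinsupp.notMem_support_iff.1 hns]
          simp
      have hsum : ∑ x : t, (DirectSum.decompose 𝒜 (a x) (d j - d x) : R) • (x : M) = 0 := by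
        have h1 : φ a = ∑ x : t, a x • (x : M) := Fintype.linearCombination_apply R _ a
        have h2 := congrArg (fun z => (DirectSum.decompose ℳ z (d j) : M)) (h1.symm.trans ha)
        dsimp only at h2
        rw [DirectSum.decompose_sum, DFinsupp.finsetSum_apply,
          AddSubmonoidClass.coe_finsetSum, DirectSum.decompose_zero] at h2
        rw [Finset.sum_congr rfl (fun x _ => hcomp (a x) x (d x) (hd x) (d j))] at h2
        simpa using h2
      rw [← Finset.add_sum_erase Finset.univ _ (Finset.mem_univ j), sub_self, ← hc] at hsum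
      rw [SetLike.mem_coe]
      have hu : IsUnit (algebraMap k R c) := (isUnit_iff_ne_zero.2 hc0).map _
      have hj : algebraMap k R c • (j : M) ∈
          Submodule.span R ((t.erase j.1 : Finset M) : Set M) := by
        rw [eq_neg_of_add_eq_zero_left hsum]
        refine Submodule.neg_mem _ (Submodule.sum_mem _ fun x hx => Submodule.smul_mem _ _
          (Submodule.subset_span ?_))
        simp only [Finset.coe_erase, Set.mem_sdiff, Finset.mem_coe, Set.mem_singleton_iff]
        exact ⟨x.2, fun h => Finset.ne_of_mem_erase hx (Subtype.ext h)⟩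
      exact (Submodule.smul_mem_iff_of_isUnit _ hu).1 hj
    · exact Submodule.subset_span (by
        simp only [Finset.coe_erase, Set.mem_sdiff, Finset.mem_coe, Set.mem_singleton_iff]
        exact ⟨hy, hyj⟩)
  obtain ⟨g, hg⟩ := Module.projective_lifting_property φ LinearMap.id hφ
  have hinj : Function.Injective φ := by
    rw [injective_iff_map_eq_zero]
    intro x hx
    by_contra hx0
    have hker : ∀ i, φ (Pi.single i 1 - g (φ (Pi.single i 1))) = 0 := by
      intro i
      have := LinearMap.congr_fun hg (φ (Pi.single i 1))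
      simp only [LinearMap.comp_apply, LinearMap.id_apply] at this
      rw [map_sub, this, sub_self]
    have hxe : x = ∑ i, x i • (Pi.single i 1 - g (φ (Pi.single i 1)) : t → R) := by
      have e : ∑ i, x i • (Pi.single i 1 : t → R) = x := by
        funext j
        simp [Finset.sum_apply, Pi.single_apply, Finset.sum_ite_eq]
      simp only [smul_sub, Finset.sum_sub_distrib, ← map_smul, ← map_sum, e, hx, map_zero,
        sub_zero]
    -- least degree of a nonzero component of the entries of x
    have hne : ∃ n : ℤ, ∃ i, (DirectSum.decompose 𝒜 (x i) n : R) ≠ 0 := by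
      by_contra hall
      push Not at hall
      apply hx0
      funext i
      rw [← DirectSum.sum_support_decompose 𝒜 (x i)]
      exact Finset.sum_eq_zero fun n _ => hall n i
    obtain ⟨n, hn, hnmin⟩ := Int.exists_least_of_bdd
      (P := fun n => ∃ i, (DirectSum.decompose 𝒜 (x i) n : R) ≠ 0)
      ⟨0, fun n ⟨i, hi⟩ => le_of_not_gt fun hlt => hi (hneg n hlt _ (SetLike.coe_mem _))⟩ hne
    obtain ⟨i, hi⟩ := hn
    apply hi
    have hxi := congrFun hxe i
    rw [Finset.sum_apply] at hxi
    rw [hxi, DirectSum.decompose_sum, DFinsupp.finsetSum_apply,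
      AddSubmonoidClass.coe_finsetSum]
    refine Finset.sum_eq_zero fun l _ => ?_
    rw [Pi.smul_apply, smul_eq_mul]
    have hc := hrel _ (hker l) i
    generalize (Pi.single l 1 - g (φ (Pi.single l 1)) : t → R) i = c at hc ⊢
    conv_lhs => rw [← DirectSum.sum_support_decompose 𝒜 (x l), Finset.sum_mul]
    rw [DirectSum.decompose_sum, DFinsupp.finsetSum_apply, AddSubmonoidClass.coe_finsetSum]
    refine Finset.sum_eq_zero fun m hm => ?_
    rw [show (n : ℤ) = m + (n - m) by omega]
    rw [DirectSum.coe_decompose_mul_add_of_left_mem 𝒜 (SetLike.coe_mem _)]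
    have hnm : n ≤ m := by
      apply hnmin
      refine ⟨l, ?_⟩
      rw [DFinsupp.mem_support_iff] at hm
      simpa using hm
    rcases eq_or_lt_of_le hnm with rfl | hlt
    · rw [sub_self, hc, mul_zero]
    · rw [hneg (n - m) (by omega) _ (SetLike.coe_mem _), mul_zero]
  let e : (t → R) ≃ₗ[R] M := LinearEquiv.ofBijective φ ⟨hinj, hφ⟩
  refine ⟨t, (Pi.basisFun R t).map e, fun i => ?_⟩
  refine ⟨d i, ?_⟩
  have : ((Pi.basisFun R t).map e) i = (i : M) := by
    rw [Module.Basis.map_apply, Pi.basisFun_apply]
    show φ (Pi.single i 1) = _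
    simp [φ, Fintype.linearCombination_apply, Pi.single_apply, Finset.sum_ite_eq']
  rw [this]
  exact hd i

end Groth.Agent.S19462
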