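import Groth.Statements.S19463
import Groth.Agent.NormFieldX.Curve
import Groth.Agent.DimOne.Completion
import Groth.Agent.DimOne.Ample
import Groth.Agent.FlatLoc6.SerreNormal
import Groth.Agent.CurveCohLib.RegularCurve
import Groth.Agent.PnCoh.Chow.Proper
import Groth.Agent.SchTop.Closed
import Groth.Agent.NeronHDLib.NormalExtend
import Groth.Agent.S4808
-- import your own Groth.Agent.* helpers here

set_option autoImplicit false
universe u
open CategoryTheory CategoryTheory.Limits AlgebraicGeometry
open Curves

namespace Groth.Agent.S19463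

/-- The normalisation of an integral scheme in its own function field is birational. -/
theorem isIso_stalkMap_ν (Y : Scheme.{u}) [IsIntegral Y]
    [QuasiCompact (NormFieldX.pnt Y Y.functionField (RingHom.id _))]
    [QuasiSeparated (NormFieldX.pnt Y Y.functionField (RingHom.id _))] :
    IsIso ((NormFieldX.ν Y Y.functionField (RingHom.id _)).stalkMap
      (genericPoint (NormFieldX.norm Y Y.functionField (RingHom.id _)))) := by
  set φ := RingHom.id Y.functionField
  let ν := NormFieldX.ν Y Y.functionField φ
  rw [← NormFieldX.η_eq]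
  set η := NormFieldX.η Y Y.functionField φ
  obtain ⟨hcinj, hcr⟩ := NormFieldX.range_stalkClosedPointTo Y Y.functionField φ
  let c := (Scheme.stalkClosedPointTo (NormFieldX.pnt Y Y.functionField φ).toNormalization).hom
  have hνη : ν η = genericPoint Y := NormFieldX.ν_η Y Y.functionField φ
  let τ : Y.functionField →+* (NormFieldX.norm Y Y.functionField φ).presheaf.stalk η :=
    ((Y.presheaf.stalkCongr (Inseparable.of_eq hνη.symm)).hom ≫ ν.stalkMap η).hom
  have hτ : ∀ z, c (τ z) = z := fun z => by
    obtain ⟨U, hU, b, rfl⟩ := TopCat.Presheaf.exists_germ_eq Y.presheaf z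
    have hνU : ν η ∈ U := by rw [hνη]; exact hU
    refine Eq.trans ?_ (NormFieldX.evalK_app (φ := φ) hU b)
    show c (ν.stalkMap η ((Y.presheaf.stalkCongr (Inseparable.of_eq hνη.symm)).hom (Y.presheaf.germ U _ hU b))) = _
    rw [show (Y.presheaf.stalkCongr (Inseparable.of_eq hνη.symm)).hom (Y.presheaf.germ U _ hU b) =
      Y.presheaf.germ U (ν η) hνU b from by
        simp [TopCat.Presheaf.stalkCongr, TopCat.Presheaf.germ_stalkSpecializes_apply],
      Scheme.Hom.germ_stalkMap_apply]
    rfl
  have hτb : Function.Bijective τ := by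
    refine ⟨fun a b hab => by rw [← hτ a, ← hτ b, hab], fun z => ⟨c z, hcinj ?_⟩⟩
    exact hτ (c z)
  rw [ConcreteCategory.isIso_iff_bijective]
  have hiso : Function.Bijective (Y.presheaf.stalkCongr (Inseparable.of_eq hνη.symm)).hom :=
    ConcreteCategory.bijective_of_isIso _
  exact (Function.Bijective.of_comp_iff _ hiso).1 hτb

/-- Let k be an algebraically closed field and X a smooth curve over k (integral, separated, of finite
type and smooth over k, of dimension one). Then there are a smooth projective curve Y over k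
(integral, smooth over k, of dimension one, admitting a closed immersion over k into some P^n_k) and
an open immersion X → Y over k. -/
theorem result (k : Type u) [Field k] [IsAlgClosed k]
    (X : Scheme.{u}) [X.Over (Spec (CommRingCat.of k))] [IsIntegral X] [IsSeparated (X ↘ (Spec (CommRingCat.of k)))]
    [LocallyOfFiniteType (X ↘ (Spec (CommRingCat.of k)))] [QuasiCompact (X ↘ (Spec (CommRingCat.of k)))] [Smooth (X ↘ (Spec (CommRingCat.of k)))]
    (hdimX : topologicalKrullDim X = 1) :
    ∃ (Y : Scheme.{u}) (_ : Y.Over (Spec (CommRingCat.of k))) (j : X ⟶ Y), IsOpenImmersion j ∧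
      j ≫ (Y ↘ (Spec (CommRingCat.of k))) = X ↘ (Spec (CommRingCat.of k)) ∧ IsIntegral Y ∧ Smooth (Y ↘ (Spec (CommRingCat.of k))) ∧ topologicalKrullDim Y = 1 ∧
      ∃ (n : ℕ) (i : Y ⟶ CohB1.ProjSpace n k), IsClosedImmersion i ∧ i ≫ CohB1.ProjSpace.toSpec n k = Y ↘ (Spec (CommRingCat.of k)) := by
  set f := X ↘ Spec (CommRingCat.of k) with hf
  haveI : CompactSpace X := QuasiCompact.compactSpace_of_compactSpace f
  haveI : IsLocallyNoetherian X := LocallyOfFiniteType.isLocallyNoetherian f
  haveI : IsNoetherian X := ⟨⟩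
  haveI : X.IsSeparated := ⟨by rw [← Limits.terminal.comp_from f]; infer_instance⟩
  obtain ⟨L, hL⟩ := DimOne.exists_isAmple (X := X) hdimX.le
  obtain ⟨d, Y, cl, j, hcl, hj, hjf, hjd, hjsd, hYdim, -, -⟩ := DimOne.exists_completion k f hdimX.le hL
  haveI := hcl; haveI := hj; haveI := hjsd
  haveI : IsProper (CohB1.ProjSpace.toSpec d k) := PnCoh.Chow.isProper_toSpec d k
  let q : Y ⟶ Spec (CommRingCat.of k) := cl ≫ CohB1.ProjSpace.toSpec d k
  haveI : IsProper q := inferInstanceAs (IsProper (cl ≫ _))
  haveI : IrreducibleSpace Y := by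
    have h := (IrreducibleSpace.isIrreducible_univ X).image j j.continuous.continuousOn
    rw [Set.image_univ] at h
    have h2 := h.closure
    rw [hjd.closure_eq] at h2
    rw [irreducibleSpace_def, Set.top_eq_univ]
    exact h2
  haveI : IsReduced Y := IsSchemeTheoreticallyDominant.isReduced j
  haveI : IsIntegral Y := isIntegral_of_irreducibleSpace_of_isReduced Y
  haveI : IsLocallyNoetherian Y := LocallyOfFiniteType.isLocallyNoetherian q
  haveI : CompactSpace Y := QuasiCompact.compactSpace_of_compactSpace q
  let φ : Y.functionField →+* Y.functionField := RingHom.id _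
  haveI : QuasiCompact (NormFieldX.pnt Y Y.functionField φ) := inferInstance
  haveI : QuasiSeparated (NormFieldX.pnt Y Y.functionField φ) := inferInstance
  let N := NormFieldX.norm Y Y.functionField φ
  let ν := NormFieldX.ν Y Y.functionField φ
  haveI : IsFinite ν := NormFieldX.isFinite_ν k q (RingHom.Finite.id _)
  haveI : IsIntegral N := inferInstance
  -- the normalisation is unchanged over `X`
  let W : N.Opens := ν ⁻¹ᵁ j.opensRange
  let π : (W : Scheme.{u}) ⟶ X := (ν ∣_ j.opensRange) ≫ j.isoOpensRange.inv
  have hπ : π ≫ j = W.ι ≫ ν := by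
    rw [Category.assoc, Scheme.Hom.isoOpensRange_inv_comp, morphismRestrict_ι]
  have hgW : genericPoint N ∈ W := by
    show ν (genericPoint N) ∈ j.opensRange
    rw [← NormFieldX.η_eq, NormFieldX.ν_η]
    exact ((genericPoint_spec Y).mem_open_set_iff j.opensRange.isOpen).2
      ⟨j (genericPoint X), trivial, ⟨_, rfl⟩⟩
  haveI : Nonempty W := ⟨⟨_, hgW⟩⟩
  haveI : IsFinite π := inferInstance
  have hπg : π (genericPoint W) = genericPoint X := by
    apply j.isOpenEmbedding.injective
    rw [← Scheme.Hom.comp_apply, hπ, Scheme.Hom.comp_apply, genericPoint_eq_of_isOpenImmersion W.ι,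
      genericPoint_eq_of_isOpenImmersion j, ← NormFieldX.η_eq, NormFieldX.ν_η]
  have hXn : Pi1.IsNormalScheme X := NeronHDLib.isNormalScheme_of_smooth f fun z => by
    haveI : Subsingleton (Spec (CommRingCat.of k)) := inferInstanceAs (Subsingleton (PrimeSpectrum k))
    have hF : IsField ((Spec (CommRingCat.of k)).presheaf.stalk z) := by
      rw [Subsingleton.elim z (genericPoint (Spec (CommRingCat.of k)))]
      exact Field.toIsField (Spec (CommRingCat.of k)).functionField
    letI := hF.toField
    exact ⟨inferInstance, inferInstance⟩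
  have hbir : IsIso (π.stalkMap (genericPoint W)) := by
    haveI : IsIso (ν.stalkMap (W.ι (genericPoint W))) := by
      rw [genericPoint_eq_of_isOpenImmersion W.ι]
      exact isIso_stalkMap_ν Y
    have h1 : IsIso ((π ≫ j).stalkMap (genericPoint W)) := by
      rw [hπ, Scheme.Hom.stalkMap_comp]
      exact @IsIso.comp_isIso _ _ _ _ _ (ν.stalkMap (W.ι (genericPoint W))) (W.ι.stalkMap (genericPoint W)) ‹_› (by infer_instance)
    rw [Scheme.Hom.stalkMap_comp] at h1
    exact @IsIso.of_isIso_comp_left _ _ _ _ _ (j.stalkMap (π (genericPoint W))) _ (by infer_instance) h1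
  haveI : IsIso π := S4808.result (fun y => (hXn y).2) π hπg hbir
  let j' : X ⟶ N := inv π ≫ W.ι
  let g : N ⟶ Spec (CommRingCat.of k) := ν ≫ q
  haveI : IsProper g := inferInstanceAs (IsProper (ν ≫ q))
  haveI : IsLocallyNoetherian N := LocallyOfFiniteType.isLocallyNoetherian g
  have hj' : j' ≫ g = f := by
    rw [Category.assoc, IsIso.inv_comp_eq, ← reassoc_of% hπ, hjf]
  have hdimN : topologicalKrullDim N = 1 := by
    rw [VarDim.topologicalKrullDim_eq_deg_genericPoint g, ← genericPoint_eq_of_isOpenImmersion j', ← VarDim.deg_comp g j']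
    · rw [← hdimX, VarDim.topologicalKrullDim_eq_deg_genericPoint f]
      simp only [hj']
  haveI : Smooth g := by
    letI : N.Over (Spec (CommRingCat.of k)) := ⟨g⟩
    haveI : LocallyOfFiniteType (N ↘ Spec (CommRingCat.of k)) := inferInstanceAs (LocallyOfFiniteType g)
    exact CurveCohLib.RegularCurve.smooth_of_regular k (X := N) fun x _ => by
      obtain ⟨h1, h2⟩ := NormFieldX.isNormalScheme_norm (X := Y) (K := Y.functionField) (φ := φ) x
      haveI : IsDomain (N.presheaf.stalk x) := h1
      haveI : IsIntegrallyClosed (N.presheaf.stalk x) := h2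
      exact FlatLoc6.regular_of_normal (N.presheaf.stalk x) ((SchTop.ringKrullDim_stalk_le x).trans hdimN.le)
  haveI : CompactSpace N := QuasiCompact.compactSpace_of_compactSpace g
  haveI : IsNoetherian N := ⟨⟩
  haveI : N.IsSeparated := ⟨by rw [← Limits.terminal.comp_from g]; infer_instance⟩
  obtain ⟨L', hL'⟩ := DimOne.exists_isAmple (X := N) hdimN.le
  obtain ⟨n, Z, c', i, hc', hi, hif, hid, hisd, -, -, -⟩ := DimOne.exists_completion k g hdimN.le hL'
  haveI := hc'; haveI := hi
  haveI : IsProper (CohB1.ProjSpace.toSpec n k) := PnCoh.Chow.isProper_toSpec n k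
  haveI : IsProper (i ≫ c' ≫ CohB1.ProjSpace.toSpec n k) := by rw [hif]; infer_instance
  haveI : IsProper i := IsProper.of_comp i (c' ≫ CohB1.ProjSpace.toSpec n k)
  haveI : IsClosedImmersion i := IsClosedImmersion.of_isPreimmersion i (i.isClosedMap.isClosed_range)
  exact ⟨N, ⟨g⟩, j', inferInstance, hj', inferInstance, ‹Smooth g›, hdimN, n, i ≫ c', inferInstance,
    by rw [Category.assoc]; exact hif⟩

end Groth.Agent.S19463
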