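import Groth.Statements.S19466
import Groth.Agent.CohPullLib.LocRestrict
import Groth.Agent.CohPullLib.FibreVanish
import Groth.Agent.KFlatLib.Scheme.RpushQCoh

set_option autoImplicit false
set_option backward.isDefEq.respectTransparency false
set_option backward.isDefEq.respectTransparency.types false
universe u
open Coherent

namespace Groth.Agent.S19466

open AlgebraicGeometry CategoryTheory CategoryTheory.Limits in
/-- Let f : X → S be proper and of finite presentation, F an O_X-module of finite presentation which is
flat over S, and s a point of S such that the degree-0 base change map of the fibre square at s,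
from the pullback of f_* F to Spec κ(s) to the direct image of the restriction of F to the fibre X_s
(on global sections: f_* F ⊗ κ(s) → H^0(X_s, F_s)), is an epimorphism. Then there is an open
neighbourhood U of s such that f_* F restricted to U is finite locally free and, for every cartesian
square on a morphism g : T → S whose image lies in U, with projections f' : X' → T and g' : X' → X,
the base change map g^* f_* F → f'_* g'^* F is an isomorphism. (In degree 0 the surjectivity
condition on the comparison map one degree lower is empty, so both conclusions of the published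
statement hold; the statement for higher degrees is not part of this row.) -/
theorem result {X S : Scheme.{u}} (f : X ⟶ S)
    [IsProper f] [LocallyOfFinitePresentation f]
    (F : X.Modules) (hF : CohB1.IsFP F) (hfl : FlatMod.IsFlatOver f F) (s : S)
    (hs : Epi (CohBC.bc0 f (S.fromSpecResidueField s) (f.fiberToSpecResidueField s) (f.fiberι s)
      (f.fiber_fac s) F)) :
    ∃ U : S.Opens, s ∈ U ∧ FlatMod.IsFinLocFree (((Coh.push f).obj F).restrict U.ι) ∧
      ∀ (T X' : Scheme.{u}) (g : T ⟶ S) (f' : X' ⟶ T) (g' : X' ⟶ X) (hsq : IsPullback g' f' f g),
        Set.range g.base ⊆ (U : Set S) → IsIso (CohBC.bc0 f g f' g' hsq.w F) := by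
  have hq : Coh.IsQCoh F := Groth.Agent.QCoh.isQCoh_of_isFP hF
  haveI : HasInjectiveResolutions X.Modules := Groth.Agent.KFlatLib.hasInjectiveResolutions_modules
  have h := Groth.Agent.CohPullLib.exchAt_zero_of_epi_bc0 hq hF hfl hs
  let W : S.Opens := ⟨_, Groth.Agent.CohPullLib.isOpen_exchAt (f := f) (F := F) 0⟩
  obtain ⟨V, hsV, hVW, hlf⟩ := Groth.Agent.CohPullLib.exists_isFinLocFree_push_nhd (U := W) hq hF hfl h h
  exact ⟨V, hsV, hlf, fun T X' g f' g' hsq hg =>
    Groth.Agent.CohPullLib.isIso_bc0_of_exchAt hsq hq fun z => hVW (hg ⟨z, rfl⟩)⟩

end Groth.Agent.S19466
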