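import Groth.Statements.S19468
import Groth.Agent.Chevalley.FF.FinField
import Groth.Agent.GrpSchLib.AntiAffineQuot
import Groth.Agent.S19705
-- import your own Groth.Agent.* helpers here

set_option autoImplicit false
set_option backward.isDefEq.respectTransparency false
set_option maxHeartbeats 1000000
set_option linter.style.haveILetI false
universe u
open CategoryTheory MonoidalCategory CartesianMonoidalCategory MonObj GrpObj AlgebraicGeometry CategoryTheory.Limits
open AlgGrp

namespace Groth.Agent.S19468

/-- Let k be a finite field and G a smooth connected k-group scheme of finite type. Then there are a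
closed normal subgroup scheme l : L → G with L smooth, connected and affine, and a closed subgroup
scheme a : A → G with A an abelian variety (proper, smooth and connected over k), such that G = L ·
A, in the sense that the multiplication L × A → G is surjective, and L ∩ A (the fibre product of l
and a) is finite over k. (The published statement also asserts that such a decomposition is unique;
that part is not included here.) -/
theorem result (k : Type u) [Field k] [Finite k]
    (G : Over (Spec (CommRingCat.of k))) [GrpObj G] [Smooth G.hom] [QuasiCompact G.hom]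
    [ConnectedSpace ↥G.left] :
    ∃ (L : Over (Spec (CommRingCat.of k))) (_ : GrpObj L) (l : L ⟶ G) (A : Over (Spec (CommRingCat.of k)))
      (_ : GrpObj A) (a : A ⟶ G),
      IsMonHom l ∧ IsClosedImmersion l.left ∧ AlgGrp.IsNormalHom l ∧ Smooth L.hom ∧ ConnectedSpace ↥L.left ∧
        IsAffine L.left ∧
      IsMonHom a ∧ IsClosedImmersion a.left ∧ IsProper A.hom ∧ Smooth A.hom ∧ ConnectedSpace ↥A.left ∧
      Surjective ((l ⊗ₘ a) ≫ μ[G]).left ∧ IsFinite (pullback.fst l.left a.left ≫ L.hom) := by
  haveI := GrpSchLib.AntiAffine.isSeparated_grp G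
  obtain ⟨L, _, l, Q, _, q, hl, hq, hqs, hqf, hk, hQp, hQs, hQc⟩ := Chevalley.BC.exists_chevalley_perfect G
  haveI := hl.hom; haveI := hl.closed; haveI := hl.smooth; haveI := hl.conn; haveI : IsAffine L.left := hl.prop
  haveI := hq; haveI := hqs; haveI := hqf; haveI := hQp
  obtain ⟨I, _, p, K, _, κ, hp, hI, -, -, -, -, hκ, hκc, hkK, hK⟩ := GrpSchLib.Rosenlicht.exists_antiAffine_kernel G
  haveI := hp; haveI := hI; haveI := hκ; haveI := hκc
  haveI : LocallyOfFiniteType K.hom := by rw [← Over.w κ]; infer_instance
  haveI : QuasiCompact K.hom := by rw [← Over.w κ]; infer_instance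
  haveI : IsProper K.hom := Chevalley.FF.isProper_of_antiAffine K hK
  obtain ⟨hsur, -⟩ := S19705.result k G L l hl.normal Q q hk K κ
    ((GrpSchLib.AntiAffine.bijective_appTop_iff K.hom).mpr hK) fun M₁ _ _ _ j₁ _ _ hM₁ => by
      have h1 : j₁ ≫ p = toUnit M₁ ≫ η[I] := by
        rw [GrpSchLib.Rosenlicht.hom_affine_eq_one ((GrpSchLib.AntiAffine.bijective_appTop_iff M₁.hom).mp hM₁)
          (j₁ ≫ p), Hom.one_def]
      exact ⟨hkK.lift j₁ (toUnit M₁) h1, hkK.lift_fst _ _ _⟩
  refine ⟨L, inferInstance, l, K, inferInstance, κ, hl.hom, hl.closed, hl.normal, hl.smooth, hl.conn, hl.prop, hκ, hκc,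
    inferInstance, GrpSchLib.AntiAffineSmooth.smooth hK, GrpSchLib.AntiAffine.connectedSpace_of_bijective hK, hsur, ?_⟩
  haveI : IsAffine (pullback l.left κ.left) := isAffine_of_isAffineHom (pullback.fst l.left κ.left)
  haveI : IsProper (pullback.fst l.left κ.left ≫ L.hom) := by
    rw [show pullback.fst l.left κ.left ≫ L.hom = pullback.snd l.left κ.left ≫ K.hom by
      rw [← Over.w l, ← Over.w κ, pullback.condition_assoc]]
    infer_instance
  exact IsFinite.iff_isProper_and_isAffineHom.mpr ⟨inferInstance, inferInstance⟩

end Groth.Agent.S19468
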