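import Groth.Statements.S19498
import Groth.Agent.CanonTriv.Basic
import Groth.Agent.S16759
import Groth.Agent.AmpleVan.SpreadFibre
import Groth.Agent.PicClLib.Basic
import Groth.Agent.H23.PullPush
import Groth.Agent.H23.SeesawGlobal
import Groth.Agent.InvX.Tensor
import Groth.Agent.AmpleVan.LiftFibre

set_option autoImplicit false
universe u
open CategoryTheory CategoryTheory.Limits AlgebraicGeometry
open Canon

namespace Groth.Agent.S19498

/-- Let S be a locally Noetherian scheme and f : X ⟶ S a locally projective morphism, smooth of relative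
dimension n, whose fibres are non-empty and geometrically connected; let ω be an n-th exterior power
of the sheaf of relative differentials of f (the relative canonical sheaf K_{X/S}) and m ≥ 1 an
integer such that K^{⊗m} is trivial on fibres: for every point s of S the restriction of K^{⊗m} to
the fibre X_s is isomorphic to O_{X_s}. Assume H^1(X_s, O_{X_s}) = 0 for every point s of S. Then
the evaluation map f^* f_* K^{⊗m} ⟶ K^{⊗m}, the counit of the adjunction between pullback and
pushforward of modules, is an isomorphism. (The published statement has f projective and smooth of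
possibly varying relative dimension; here f is taken locally projective of constant relative
dimension n.) -/
theorem result
    {X S : Scheme.{u}} [IsLocallyNoetherian S] (f : X ⟶ S)
    (hproj : RedSub.IsLocallyProjective (Over.mk f))
    (n : ℕ) [SmoothOfRelativeDimension n f] [GeometricallyConnected f]
    (ω : X.Modules) (hω : Canon.IsTopDiff f n ω) (m : ℕ) (hm : 1 ≤ m)
    (htriv : ∀ s : ↥S, Nonempty ((Scheme.Modules.pullback (f.fiberι s)).obj (CohB1.tensorPow ω m) ≅
      Coh.structureModule (f.fiber s)))
    (hH1 : ∀ s : ↥S, Subsingleton (Coh.HH (f.fiber s) (Coh.structureModule (f.fiber s)) 1)) :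
    IsIso ((Scheme.Modules.pullbackPushforwardAdjunction f).counit.app (CohB1.tensorPow ω m)) := by
  haveI : Smooth f := SmoothOfRelativeDimension.smooth n f
  haveI : IsProper f := Groth.Agent.CanonTriv.isProper_of_isLocallyProjective f hproj
  have hω' : PicF.IsInvertible (CohB1.tensorPow ω m) := Groth.Agent.InvX.isInvertible_tensorPow
    (Groth.Agent.CanonTriv.isInvertible_of_isTopDiff f n hω) m
  have hO : PicF.IsInvertible (Coh.structureModule X) := fun _ => ⟨⊤, trivial,
    ⟨(Scheme.Modules.restrictFunctorIsoPullback (⊤ : X.Opens).ι).app _ ≪≫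
      (Groth.Agent.PicClLib.nonempty_pullback_structureModule (⊤ : X.Opens).ι).some⟩⟩
  refine (Groth.Agent.S16759.of_local f
    (Groth.Agent.S16759.bijective_app f fun s => Groth.Agent.CanonTriv.finrank_fibre_eq_one f s)
    (CohB1.tensorPow ω m) fun s => ?_).2
  obtain ⟨e₂⟩ := htriv s
  let e₁ := (Groth.Agent.PicClLib.nonempty_pullback_structureModule (f.fiberι s)).some
  let e : CohIII.fiberMod f (Coh.structureModule X) s ≅ CohIII.fiberMod f (CohB1.tensorPow ω m) s :=
    e₁ ≪≫ e₂.symm
  have h1 : Subsingleton (Coh.HH (f.fiber s) ((Groth.Agent.SheafHomX.hom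
      (CohIII.fiberMod f (Coh.structureModule X) s)).obj (CohIII.fiberMod f (CohB1.tensorPow ω m) s)) 1) := by
    let t : Groth.Agent.SheafHomX.hom (CohIII.fiberMod f (Coh.structureModule X) s) ≅ 𝟭 (f.fiber s).Modules :=
      (Groth.Agent.SheafHomX.adj _).rightAdjointUniq
          ((Groth.Agent.SheafHomX.adj (Coh.structureModule (f.fiber s))).ofNatIsoLeft
            ((DCoh.tensorBi (X := f.fiber s)).flip.mapIso e₁).symm) ≪≫
        Groth.Agent.SheafHomX.unitIso _
    exact Groth.Agent.AmpleVan.subsingleton_of_iso (t.app _ ≪≫ e₂).symm 1 (hH1 s)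
  obtain ⟨U, hs, ⟨φ⟩⟩ := Groth.Agent.AmpleVan.exists_iso_near_fibre f s (Coh.structureModule X)
    (CohB1.tensorPow ω m) (Groth.Agent.H23.PullPush.isFinLocFree_of_isInvertible hO)
    (Groth.Agent.H23.PullPush.isFinLocFree_of_isInvertible hω') e h1
  exact ⟨U, hs, Groth.Agent.H23.SeesawGlobal.exists_frame_of_triv.exists_frame_of_iso (f ⁻¹ᵁ U)
    ⟨φ.symm ≪≫ (Scheme.Modules.restrictFunctorIsoPullback (f ⁻¹ᵁ U).ι).app _ ≪≫
      (Groth.Agent.PicClLib.nonempty_pullback_structureModule (f ⁻¹ᵁ U).ι).some⟩⟩

end Groth.Agent.S19498
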