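import Groth.Statements.S19500
import Groth.Agent.CubicLib.TPoints

set_option autoImplicit false
universe u
open Cubic

namespace Groth.Agent.S19500

open MvPolynomial in
/-- the linear form attached to a functional -/
noncomputable def linForm {K : Type u} [Field K] (φ : (Fin 4 → K) →ₗ[K] K) : MvPolynomial (Fin 4) K :=
  ∑ i, C (φ (Pi.single i 1)) * X i

open MvPolynomial in
theorem eval_linForm {K : Type u} [Field K] (φ : (Fin 4 → K) →ₗ[K] K) (v : Fin 4 → K) :
    eval v (linForm φ) = φ v := by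
  conv_rhs => rw [pi_eq_sum_univ' v, map_sum]
  simp [linForm, mul_comm]

open MvPolynomial in
theorem mem_span_of_vanish {K : Type u} [Field K] [Infinite K] (φ : (Fin 4 → K) →ₗ[K] K) (w : Fin 4 → K)
    (hw : φ w = 1) (p : MvPolynomial (Fin 4) K) (hp : ∀ v, φ v = 0 → eval v p = 0) :
    p ∈ Ideal.span {linForm φ} := by
  let g : Fin 4 → MvPolynomial (Fin 4) K := fun i => X i - linForm φ * C (w i)
  have h0 : aeval g p = 0 := MvPolynomial.funext fun v => by
    have : (eval v).comp (aeval g).toRingHom = eval (v - φ v • w) := by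
      refine MvPolynomial.ringHom_ext (fun c => by simp) fun i => ?_
      simp [g, eval_linForm]
    rw [map_zero]
    show ((eval v).comp (aeval g).toRingHom) p = 0
    rw [this]
    exact hp _ (by rw [map_sub, map_smul, hw, smul_eq_mul, mul_one, sub_self])
  have hq : ((Ideal.Quotient.mk (Ideal.span {linForm φ})).comp (aeval g).toRingHom) =
      Ideal.Quotient.mk (Ideal.span {linForm φ}) := by
    refine MvPolynomial.ringHom_ext (fun c => by simp) fun i => ?_
    simp only [RingHom.comp_apply, AlgHom.toRingHom_eq_coe, RingHom.coe_coe, aeval_X]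
    rw [Ideal.Quotient.mk_eq_mk_iff_sub_mem, Ideal.mem_span_singleton]
    exact ⟨-C (w i), by simp [g]⟩
  rw [← Ideal.Quotient.eq_zero_iff_mem, ← hq]
  show Ideal.Quotient.mk _ (aeval g p) = 0
  rw [h0, map_zero]

theorem isHomogeneous_linForm {K : Type u} [Field K] (φ : (Fin 4 → K) →ₗ[K] K) : (linForm φ).IsHomogeneous 1 :=
  MvPolynomial.IsHomogeneous.sum _ _ _ fun _ _ => MvPolynomial.isHomogeneous_C_mul_X _ _

/-- Let K be an algebraically closed field of characteristic zero and S = V(F) ⊂ P^3_K a cubic surface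
(F homogeneous of degree 3) which is irreducible and not a cone (no nonzero vector v has Σ_i v_i
∂F/∂x_i = 0). For a nonzero vector b with F(b) = 0 write ℓ_b = Σ_i ∂F/∂x_i(b) · x_i for the linear
form of the tangent plane at b; call b a T-point when b is a smooth point of S (some ∂F/∂x_i(b) ≠ 0)
and F is congruent modulo ℓ_b to a product of three linear forms (the plane cubic T_b S ∩ S is
set-theoretically a union of lines). Let a be a smooth point of S which is not a T-point and H ⊂ K^4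
the hyperplane ℓ_a = 0 (the tangent plane T_a S). Then T_a S contains only finitely many T-points of
S: the set of one-dimensional subspaces U ≤ H all of whose nonzero vectors are T-points is finite. -/
theorem result (K : Type u) [Field K] [IsAlgClosed K]
    [CharZero K] (F : MvPolynomial (Fin 4) K) (hF : F.IsHomogeneous 3) (hirr : Irreducible F)
    (hcone : ¬ ∃ v : Fin 4 → K, v ≠ 0 ∧ ∑ i : Fin 4, v i • MvPolynomial.pderiv i F = 0)
    (tp : (Fin 4 → K) → Prop)
    (htp : ∀ b : Fin 4 → K, tp b ↔ (b ≠ 0 ∧ MvPolynomial.eval b F = 0 ∧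
      (∃ i : Fin 4, MvPolynomial.eval b (MvPolynomial.pderiv i F) ≠ 0) ∧
      ∃ L₁ L₂ L₃ : MvPolynomial (Fin 4) K, L₁.IsHomogeneous 1 ∧ L₂.IsHomogeneous 1 ∧ L₃.IsHomogeneous 1 ∧
        F - L₁ * L₂ * L₃ ∈ Ideal.span {∑ i : Fin 4,
          MvPolynomial.C (MvPolynomial.eval b (MvPolynomial.pderiv i F)) * MvPolynomial.X i}))
    (a : Fin 4 → K) (haF : MvPolynomial.eval a F = 0)
    (hsm : ∃ i : Fin 4, MvPolynomial.eval a (MvPolynomial.pderiv i F) ≠ 0) (ha : ¬ tp a)
    (H : Submodule K (Fin 4 → K))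
    (hH : ∀ x : Fin 4 → K, x ∈ H ↔ MvPolynomial.eval x (∑ i : Fin 4,
      MvPolynomial.C (MvPolynomial.eval a (MvPolynomial.pderiv i F)) * MvPolynomial.X i) = 0) :
    Set.Finite {U : Submodule K (Fin 4 → K) | Module.finrank K ↥U = 1 ∧ U ≤ H ∧
      ∀ b ∈ U, b ≠ 0 → tp b} := by
  classical
  obtain ⟨G, hG, hG', -⟩ := Groth.Agent.CubicLib.exists_cubic F hF
  have hnp := Groth.Agent.CubicLib.noPlane_of_irreducible F hG hirr
  -- the tangent form
  have hform : ∀ b : Fin 4 → K, (∑ i : Fin 4,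
      MvPolynomial.C (MvPolynomial.eval b (MvPolynomial.pderiv i F)) * MvPolynomial.X i) =
        linForm ((3 : K) • G.T b b) := fun b => by simp [linForm, hG']
  have hsmooth : ∀ b : Fin 4 → K,
      (∃ i : Fin 4, MvPolynomial.eval b (MvPolynomial.pderiv i F) ≠ 0) ↔ G.T b b ≠ 0 := fun b => by
    refine ⟨fun ⟨i, hi⟩ h0 => hi (by simp [hG', h0]), fun h => ?_⟩
    by_contra! hall
    refine h (LinearMap.ext fun v => ?_)
    rw [pi_eq_sum_univ' v, map_sum, LinearMap.zero_apply]
    refine Finset.sum_eq_zero fun i _ => ?_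
    have := hall i
    rw [hG', mul_eq_zero] at this
    simp [this.resolve_left (by norm_num)]
  have hto : ∀ b, tp b → Groth.Agent.CubicLib.IsTPt G b := by
    intro b hb
    obtain ⟨hb0, hFb, hbs, L₁, L₂, L₃, h₁, h₂, h₃, hmem⟩ := (htp b).1 hb
    obtain ⟨c₁, l₁, e₁⟩ := Groth.Agent.CubicLib.exists_affine L₁ h₁.totalDegree_le
    obtain ⟨c₂, l₂, e₂⟩ := Groth.Agent.CubicLib.exists_affine L₂ h₂.totalDegree_le
    obtain ⟨c₃, l₃, e₃⟩ := Groth.Agent.CubicLib.exists_affine L₃ h₃.totalDegree_le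
    have z : ∀ (L : MvPolynomial (Fin 4) K) (c : K) (l : (Fin 4 → K) →ₗ[K] K), L.IsHomogeneous 1 →
        (∀ v, MvPolynomial.eval v L = c + l v) → c = 0 := fun L c l hL e => by
      have h := e 0
      rw [map_zero, add_zero] at h
      rw [← h, MvPolynomial.eval_zero]
      exact hL.coeff_eq_zero (by simp)
    have z₁ := z L₁ c₁ l₁ h₁ e₁
    have z₂ := z L₂ c₂ l₂ h₂ e₂
    have z₃ := z L₃ c₃ l₃ h₃ e₃
    refine ⟨hb0, (hG b).symm.trans hFb, (hsmooth b).1 hbs, l₁, l₂, l₃, fun v hv => ?_⟩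
    rw [hform, Ideal.mem_span_singleton] at hmem
    obtain ⟨q, hq⟩ := hmem
    have hq := congrArg (MvPolynomial.eval v) hq
    rw [map_sub, map_mul, map_mul, map_mul, eval_linForm, hG, e₁, e₂, e₃, z₁, z₂, z₃,
      LinearMap.smul_apply, LinearMap.mem_ker.1 hv, smul_zero, zero_mul, sub_eq_zero] at hq
    simpa using hq
  have hha : G.T a a ≠ 0 := (hsmooth a).1 hsm
  have haT : G.T a a a = 0 := by
    have := hG a; rw [haF] at this; exact this.symm
  have ha0 : a ≠ 0 := fun h => hha (by simp [h])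
  have hnt : ¬ Groth.Agent.CubicLib.IsTriple G (LinearMap.ker (G.T a a)) := by
    rintro ⟨l₁, l₂, l₃, hl⟩
    refine ha ((htp a).2 ⟨ha0, haF, hsm, linForm l₁, linForm l₂, linForm l₃, isHomogeneous_linForm _,
      isHomogeneous_linForm _, isHomogeneous_linForm _, ?_⟩)
    obtain ⟨v, hv⟩ := LinearMap.surjective (smul_ne_zero (by norm_num : (3 : K) ≠ 0) hha) 1
    rw [hform]
    refine mem_span_of_vanish _ v hv _ fun x hx => ?_
    rw [map_sub, map_mul, map_mul, eval_linForm, eval_linForm, eval_linForm, hG, hl x ?_, sub_self]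
    simpa using hx
  have hHk : H = LinearMap.ker (G.T a a) := Submodule.ext fun x => by
    rw [hH, hform, eval_linForm, LinearMap.mem_ker, LinearMap.smul_apply, smul_eq_mul, mul_eq_zero]
    norm_num
  refine Set.Finite.subset (Groth.Agent.CubicLib.finite_TPts hnp haT hha hnt) ?_
  rintro U ⟨h1, h2, h3⟩
  exact ⟨h1, hHk ▸ h2, fun b hb hb0 => hto b (h3 b hb hb0)⟩

end Groth.Agent.S19500
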