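import Groth.Statements.S19502
import Mathlib.Analysis.Normed.Group.InfiniteSum
import Mathlib.Tactic.FieldSimp

set_option autoImplicit false
universe u
open W4c3ghconstell

namespace Groth.Agent.S19502

/-- Let ι index the irreducible representations, θ : ι → ℚ a weight which is negative exactly on the
finite set D₋, h h' : ι → ℕ with h' ≤ h pointwise (the isotypic dimensions of an object and of a
sub-object) and Σ_i θ_i h_i summable. For a finite set D of indices put S_D = Σ_{i ∉ D} θ_i h_i, d =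
#(D ∖ D₋) and θ̃_D = Σ_{i ∈ D} θ_i h'_i + (S_D / d) · Σ_{i ∈ D ∖ D₋} h'_i / h_i, the modified weight
attached to the parameters chosen for D (a quotient by zero is read as zero). Then for finite sets
D₋ ⊆ D ⊆ D̃ contained in the locus θ ≠ 0: (first error term) θ̃_{D̃} − θ̃_D = Σ_{τ ∈ D̃ ∖ D} (θ_τ
h_τ + S_{D̃}/d̃) · (h'_τ/h_τ − (1/d) Σ_{σ ∈ D ∖ D₋} h'_σ/h_σ); (second error term) Σ_i θ_i h'_i −
θ̃_D = Σ_{τ ∉ D} θ_τ h_τ · (h'_τ/h_τ − (1/d) Σ_{σ ∈ D ∖ D₋} h'_σ/h_σ). -/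
theorem result {ι : Type u} [DecidableEq ι]
    (θ : ι → ℚ) (h h' : ι → ℕ) (hle : ∀ i, h' i ≤ h i) (hfin : {i | θ i < 0}.Finite)
    (hsum : Summable (fun i => (θ i : ℝ) * (h i : ℝ))) (D D' : Finset ι)
    (hDm : hfin.toFinset ⊆ D) (hDD' : D ⊆ D') (hsupp : ∀ i ∈ D', θ i ≠ 0) :
    (((∑ i ∈ D', (θ i : ℝ) * (h' i : ℝ)) + ((∑' i, if i ∈ D' then (0 : ℝ) else (θ i : ℝ) * (h i : ℝ)) / ((D' \ hfin.toFinset).card : ℝ)) * (∑ σ ∈ D' \ hfin.toFinset, ((h' σ : ℝ) / (h σ : ℝ)))) - ((∑ i ∈ D, (θ i : ℝ) * (h' i : ℝ)) + ((∑' i, if i ∈ D then (0 : ℝ) else (θ i : ℝ) * (h i : ℝ)) / ((D \ hfin.toFinset).card : ℝ)) * (∑ σ ∈ D \ hfin.toFinset, ((h' σ : ℝ) / (h σ : ℝ)))) =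
      ∑ τ ∈ D' \ D, ((θ τ : ℝ) * (h τ : ℝ) + (∑' i, if i ∈ D' then (0 : ℝ) else (θ i : ℝ) * (h i : ℝ)) / ((D' \ hfin.toFinset).card : ℝ)) *
        (((h' τ : ℝ) / (h τ : ℝ)) - (1 / ((D \ hfin.toFinset).card : ℝ)) * (∑ σ ∈ D \ hfin.toFinset, ((h' σ : ℝ) / (h σ : ℝ))))) ∧
    ((∑' i, (θ i : ℝ) * (h' i : ℝ)) - ((∑ i ∈ D, (θ i : ℝ) * (h' i : ℝ)) + ((∑' i, if i ∈ D then (0 : ℝ) else (θ i : ℝ) * (h i : ℝ)) / ((D \ hfin.toFinset).card : ℝ)) * (∑ σ ∈ D \ hfin.toFinset, ((h' σ : ℝ) / (h σ : ℝ)))) =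
      ∑' τ, if τ ∈ D then (0 : ℝ) else (θ τ : ℝ) * (h τ : ℝ) *
        (((h' τ : ℝ) / (h τ : ℝ)) - (1 / ((D \ hfin.toFinset).card : ℝ)) * (∑ σ ∈ D \ hfin.toFinset, ((h' σ : ℝ) / (h σ : ℝ))))) := by
  have hsum' : Summable (fun i => (θ i : ℝ) * (h' i : ℝ)) := by
    refine Summable.of_norm_bounded hsum.abs fun i => ?_
    rw [Real.norm_eq_abs, abs_mul, abs_mul, Nat.abs_cast, Nat.abs_cast]
    exact mul_le_mul_of_nonneg_left (by exact_mod_cast hle i) (abs_nonneg _)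
  have hr : ∀ i, (θ i : ℝ) * (h' i : ℝ) = (θ i : ℝ) * (h i : ℝ) * ((h' i : ℝ) / (h i : ℝ)) := fun i => by
    rcases Nat.eq_zero_or_pos (h i) with h0 | h0
    · have h0' : h' i = 0 := Nat.eq_zero_of_le_zero (h0 ▸ hle i)
      simp [h0, h0']
    · have : (h i : ℝ) ≠ 0 := by positivity
      field_simp
  have htail : ∀ (f : ι → ℝ) (_ : Summable f) (E : Finset ι),
      HasSum (fun i => if i ∈ E then (0 : ℝ) else f i) ((∑' i, f i) - ∑ i ∈ E, f i) := fun f hf E => by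
    have hh := hasSum_sum_of_ne_finset_zero (s := E) (L := SummationFilter.unconditional ι)
      (f := fun i => if i ∈ E then f i else 0) (fun i hi => if_neg hi)
    rw [Finset.sum_congr rfl (fun i hi => if_pos hi)] at hh
    refine (hf.hasSum.sub hh).congr_fun fun i => ?_
    split_ifs <;> ring
  constructor
  · rw [(htail _ hsum D').tsum_eq, (htail _ hsum D).tsum_eq]
    simp only [hr, ← Finset.sum_sdiff hDD']
    have hsd : D' \ hfin.toFinset = (D' \ D) ∪ (D \ hfin.toFinset) := by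
      ext i
      simp only [Finset.mem_sdiff, Finset.mem_union]
      constructor
      · rintro ⟨a, b⟩
        by_cases c : i ∈ D
        · exact Or.inr ⟨c, b⟩
        · exact Or.inl ⟨a, c⟩
      · rintro (⟨a, b⟩ | ⟨a, b⟩)
        · exact ⟨a, fun c => b (hDm c)⟩
        · exact ⟨hDD' a, b⟩
    have hdisj : Disjoint (D' \ D) (D \ hfin.toFinset) :=
      Finset.disjoint_left.mpr fun i a b => (Finset.mem_sdiff.mp a).2 (Finset.mem_sdiff.mp b).1
    rw [hsd, Finset.card_union_of_disjoint hdisj, Finset.sum_union hdisj]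
    simp only [add_mul, mul_sub, Finset.sum_add_distrib, Finset.sum_sub_distrib, ← Finset.mul_sum,
      ← Finset.sum_mul, Finset.sum_const, nsmul_eq_mul, Nat.cast_add]
    set d : ℝ := ((D \ hfin.toFinset).card : ℝ) with hd
    set c : ℝ := ((D' \ D).card : ℝ) with hc
    rcases (Finset.card (D \ hfin.toFinset)).eq_zero_or_pos with h0 | h0
    · have hd0 : d = 0 := by simp [hd, h0]
      have hA : ∑ σ ∈ D \ hfin.toFinset, ((h' σ : ℝ) / (h σ : ℝ)) = 0 := by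
        rw [Finset.card_eq_zero.mp h0, Finset.sum_empty]
      simp only [hd0, hA]
      ring
    · have hd0 : 0 < d := by rw [hd]; exact_mod_cast h0
      have hc0 : 0 ≤ c := by rw [hc]; positivity
      have : c + d ≠ 0 := by positivity
      field_simp
      ring
  · rw [(htail _ hsum D).tsum_eq]
    set w : ℝ := (1 / ((D \ hfin.toFinset).card : ℝ)) * (∑ σ ∈ D \ hfin.toFinset, ((h' σ : ℝ) / (h σ : ℝ))) with hw
    have hh := (htail _ hsum' D).sub ((htail _ hsum D).mul_right w)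
    refine Eq.trans ?_ (hh.congr_fun fun i => ?_).tsum_eq.symm
    · rw [hw]; ring
    · split_ifs with hi
      · simp
      · rw [mul_sub, ← hr]

end Groth.Agent.S19502
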