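import Groth.Statements.S19503
import Groth.Agent.NefCurve.RelativeMult
import Groth.Agent.NefCurve.VeryAmple
import Groth.Agent.VAmple.Embed
import Groth.Agent.AmpleX.RelAffine

set_option autoImplicit false
set_option backward.isDefEq.respectTransparency false
set_option backward.isDefEq.respectTransparency.types false
set_option linter.style.haveILetI false
attribute [local instance] Groth.Agent.QCoh.hasFiniteBiproducts
universe u
open CategoryTheory CategoryTheory.Limits AlgebraicGeometry
open Curves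

namespace Groth.Agent.S19503
open Groth.Agent

/-- Let A be a Noetherian ring and f : X → Spec A a proper morphism such that H^1(X, O_X) = 0 and every
fibre of f has dimension at most one. If an O_X-module L is f-ample (f quasi-compact and L an ample
invertible module on the preimage of every affine open of Spec A), then L is f-very ample: for some
n there is an immersion i : X → Pⁿ over Spec A, compatible with f, such that L is isomorphic to the
pullback of O(1) along i. -/
theorem result (A : Type u) [CommRing A]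
    [IsNoetherianRing A] (X : Scheme.{u}) (f : X ⟶ Spec (CommRingCat.of A)) [IsProper f]
    (h1 : Subsingleton (Coh.HH X (Coh.structureModule X) 1))
    (hfib : ∀ y : ↥(Spec (CommRingCat.of A)), topologicalKrullDim ↥(f.fiber y) ≤ 1)
    (L : X.Modules) (hL : RelAmple.IsRelAmple f L) :
    RelAmple.IsRelVeryAmplePn f L := by
  classical
  letI : X.Over (Spec (CommRingCat.of A)) := ⟨f⟩
  haveI : IsProper (X ↘ Spec (CommRingCat.of A)) := ‹IsProper f›
  haveI := FibVanish.isNoetherian_of_proper A (X := X)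
  haveI : X.IsSeparated := ⟨by rw [← terminal.comp_from f]; infer_instance⟩
  have hA : CohB1.IsAmple L := (AmpleX.isRelAmple_iff_isAmple f L).1 hL
  have hfib' : NefCurve.Relative.FibLe A (X := X) := fun y _ =>
    ((f.fiberHomeo y).symm.isInducing.topologicalKrullDim_le).trans (hfib y)
  have hLc : Coh.IsCoh L := CurveDeg.isCoh_of_isInvertible hA.1
  have hLg := NefCurve.Relative.gen_of_isAmple' hfib' h1 hA
  obtain ⟨N, σ, hall, hp, -⟩ := NefCurve.Relative.exists_sections (A := A) hLc hLg
  let σ' : ULift.{u} (Fin (N + 1)) → Γ(L, ⊤) := fun l => if h : l.down.1 < N then σ ⟨⟨l.down.1, h⟩⟩ else 0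
  let emb : ULift.{u} (Fin N) → ULift.{u} (Fin (N + 1)) := fun l => ⟨Fin.castSucc l.down⟩
  have hσ' : ∀ l, σ' (emb l) = σ l := fun l => dif_pos l.down.2
  have hgen : ProjUP.GeneratedBy L (fun l : Fin N => σ ⟨l⟩) := by
    let p : (∐ fun _ : Fin N => Coh.structureModule X) ⟶ L := Sigma.desc fun l => QCoh.homOfTop (σ ⟨l⟩)
    haveI : Epi p := Preadditive.epi_of_cancel_zero _ fun {P} g hg => by
      haveI := hp
      refine (cancel_epi (biproduct.desc fun l => QCoh.homOfTop (σ l))).1 ?_
      rw [comp_zero]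
      refine biproduct.hom_ext' _ _ fun l => ?_
      rw [biproduct.ι_desc_assoc, comp_zero, show QCoh.homOfTop (σ l) =
        Sigma.ι (fun _ : Fin N => Coh.structureModule X) l.down ≫ p from
          (Sigma.ι_desc (fun l : Fin N => QCoh.homOfTop (σ ⟨l⟩)) l.down).symm, Category.assoc, hg, comp_zero]
    have h := S6578.generatedBy_of_epi p
    have e : (fun l => InvX.one (Sigma.ι (fun _ : Fin N => Coh.structureModule X) l ≫ p)) = fun l => σ ⟨l⟩ :=
      funext fun l => by
        rw [Sigma.ι_desc]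
        exact NefCurve.Relative.homOfTop_one (σ ⟨l⟩)
    rwa [e] at h
  refine VAmple.exists_immersion f hA.1 N σ' fun x => ?_
  obtain ⟨i₀, hi⟩ := NefCurve.exists_mem_locus hA.1 _ hgen x
  let i : ULift.{u} (Fin N) := ⟨i₀⟩
  have hUaff : IsAffineOpen (H23.TrivBasic.locus (σ i)) := AmpleEmbed.isAffineOpen_genLocus f hA _
  refine ⟨emb i, H23.TrivBasic.locus (σ i), hi, by rw [hσ']; exact (AmpleX.genLocus_eq_locus _).trans (by rw [InvX.one_ofSect]), hUaff, ?_⟩
  rw [hσ']
  let U := H23.TrivBasic.locus (σ i)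
  let S : Subring Γ(X, U) := Subring.closure (Set.range ((AModX.resR (le_top : U ≤ ⊤)).comp f.appTop.hom) ∪
        {v : Γ(X, U) | ∃ l, AModX.res _ (le_top : U ≤ ⊤) (σ' l) = v • AModX.res _ (le_top : U ≤ ⊤) (σ i)})
  show S = ⊤
  let el : Γ(L, U) := AModX.res L (le_top : U ≤ ⊤) (σ i)
  have hel : InvX.IsFrame el := H23.TrivBasic.isFrame_res_of_le_locus le_rfl
  have hconst : ∀ a : A, AModX.resR (le_top : U ≤ ⊤) (FFun.φsec (A := A) (X := X) ⊤ a) ∈ S := fun a => by
    refine Subring.subset_closure (Or.inl ⟨(Scheme.ΓSpecIso (CommRingCat.of A)).inv a, ?_⟩)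
    exact congrArg (AModX.resR (le_top : U ≤ ⊤)) (ConcreteCategory.congr_hom (X.presheaf.map_id _) _).symm
  have hcoord : ∀ (t : Γ(L, ⊤)) (c : Γ(X, U)), AModX.res L le_top t = c • el → c ∈ S := by
    intro t c hc
    obtain ⟨a, ha⟩ := hall t
    choose g hg using fun l => hel.exists_coord le_rfl (AModX.res L (le_top : U ≤ ⊤) (σ l))
    simp only [AModX.res_self] at hg
    have hc' : c = ∑ l, AModX.resR (le_top : U ≤ ⊤) (FFun.φsec (A := A) (X := X) ⊤ (a l)) * g l := by
      refine hel.coord_unique le_rfl ?_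
      simp only [AModX.res_self]
      rw [← hc, ha, map_sum, Finset.sum_smul]
      refine Finset.sum_congr rfl fun l _ => ?_
      rw [AModX.res_smul, hg l, mul_smul]
    rw [hc']
    exact S.sum_mem fun l _ => S.mul_mem (hconst _) (Subring.subset_closure (Or.inr ⟨emb l, by rw [hσ']; exact hg l⟩))
  have hfun : ∀ a : Γ(X, ⊤), AModX.resR (le_top : U ≤ ⊤) a ∈ S := fun a =>
    hcoord (a • σ i) _ (AModX.res_smul _ a (σ i))
  have hpow : ∀ (n : ℕ) (T : Γ(CohB1.tensorPow L n, ⊤)) (c : Γ(X, U)),
      AModX.res (CohB1.tensorPow L n) le_top T = c • AmpleX.powElt el n → c ∈ S := by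
    intro n
    induction n with
    | zero =>
      intro T c hc
      have h : AModX.resR (le_top : U ≤ ⊤) (show Γ(X, ⊤) from T) = c := hc.trans (mul_one c)
      exact h ▸ hfun _
    | succ n ih =>
      intro T c hc
      have hfr := AmpleX.isFrame_powElt hel (n + 1)
      have key : ∀ T' ∈ AddSubgroup.closure (Set.range fun ab : Γ(CohB1.tensorPow L n, ⊤) × Γ(L, ⊤) => InvX.tmul ab.1 ab.2),
          ∃ c' ∈ S, AModX.res (CohB1.tensorPow L (n + 1)) (le_top : U ≤ ⊤) T' = c' • AmpleX.powElt el (n + 1) := by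
        intro T' hT'
        induction hT' using AddSubgroup.closure_induction with
        | mem w hw =>
          obtain ⟨⟨a, t⟩, rfl⟩ := hw
          obtain ⟨ca, hca⟩ := (AmpleX.isFrame_powElt hel n).exists_coord le_rfl (AModX.res _ (le_top : U ≤ ⊤) a)
          obtain ⟨ct, hct⟩ := hel.exists_coord le_rfl (AModX.res L (le_top : U ≤ ⊤) t)
          rw [AModX.res_self] at hca hct
          refine ⟨ca * ct, S.mul_mem (ih a ca hca) (hcoord t ct hct), ?_⟩
          refine (InvX.res_tmul (le_top : U ≤ ⊤) a t).trans ?_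
          rw [hca, hct, InvX.tmul_smul_left, InvX.tmul_smul_right, ← mul_smul]
          rfl
        | zero => exact ⟨0, S.zero_mem, by rw [map_zero, zero_smul]⟩
        | add u v _ _ hu hv =>
          obtain ⟨cu, h1', h2'⟩ := hu
          obtain ⟨cv, h3', h4'⟩ := hv
          exact ⟨cu + cv, S.add_mem h1' h3', by rw [map_add, h2', h4', add_smul]⟩
        | neg u _ hu =>
          obtain ⟨cu, h1', h2'⟩ := hu
          exact ⟨-cu, S.neg_mem h1', by rw [map_neg, h2', neg_smul]⟩
      obtain ⟨c', hc'S, hc'⟩ := key T (NefCurve.Relative.closure_tensorPow' hfib' h1 hA n T)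
      have : c = c' := hfr.coord_unique le_rfl (by simp only [AModX.res_self]; exact hc.symm.trans hc')
      exact this ▸ hc'S
  refine top_le_iff.1 fun v _ => ?_
  obtain ⟨n₀, hn₀⟩ := AmpleX.exists_extend hLc.1 hA.1 (InvX.ofSect (σ i)) (v • el)
  obtain ⟨T, hT⟩ := hn₀ n₀ le_rfl
  have hone : InvX.one (InvX.ofSect (σ i)) = σ i := InvX.one_ofSect _
  rw [hone] at hT
  have hP := InvX.isInvertible_tensorPow hA.1 n₀
  have hmem := NefCurve.Relative.tmul_closure hfib' h1
    (fun y => let ⟨W, hy, he⟩ := InvEnd.isFinLocFreeOfRank_one hA.1 y; ⟨W, 1, hy, he⟩) hLc hLg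
    (CurveDeg.isCoh_of_isInvertible hP) (NefCurve.Relative.gen_tensorPow' hfib' h1 hA n₀) T
  have key : ∀ T' ∈ AddSubgroup.closure (Set.range fun ab : Γ(L, ⊤) × Γ(CohB1.tensorPow L n₀, ⊤) => InvX.tmul ab.1 ab.2),
      ∃ c' ∈ S, AModX.res (CohB1.tensorMod L (CohB1.tensorPow L n₀)) (le_top : U ≤ ⊤) T' =
        c' • InvX.tmul el (AmpleX.powElt el n₀) := by
    intro T' hT'
    induction hT' using AddSubgroup.closure_induction with
    | mem w hw =>
      obtain ⟨⟨t, a⟩, rfl⟩ := hw
      obtain ⟨ca, hca⟩ := (AmpleX.isFrame_powElt hel n₀).exists_coord le_rfl (AModX.res _ (le_top : U ≤ ⊤) a)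
      obtain ⟨ct, hct⟩ := hel.exists_coord le_rfl (AModX.res L (le_top : U ≤ ⊤) t)
      rw [AModX.res_self] at hca hct
      refine ⟨ct * ca, S.mul_mem (hcoord t ct hct) (hpow n₀ a ca hca), ?_⟩
      refine (InvX.res_tmul (le_top : U ≤ ⊤) t a).trans ?_
      rw [hca, hct, InvX.tmul_smul_left, InvX.tmul_smul_right, ← mul_smul]
    | zero => exact ⟨0, S.zero_mem, by rw [map_zero, zero_smul]⟩
    | add u v _ _ hu hv =>
      obtain ⟨cu, h1', h2'⟩ := hu
      obtain ⟨cv, h3', h4'⟩ := hv
      exact ⟨cu + cv, S.add_mem h1' h3', by rw [map_add, h2', h4', add_smul]⟩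
    | neg u _ hu =>
      obtain ⟨cu, h1', h2'⟩ := hu
      exact ⟨-cu, S.neg_mem h1', by rw [map_neg, h2', neg_smul]⟩
  obtain ⟨c, hcS, hc⟩ := key T hmem
  have heq : c = v := (InvX.isFrame_tmul hel (AmpleX.isFrame_powElt hel n₀)).coord_unique le_rfl (by
    simp only [AModX.res_self]
    refine hc.symm.trans (hT.trans ?_)
    exact InvX.tmul_smul_left v el (AmpleX.powElt el n₀))
  exact heq ▸ hcS

end Groth.Agent.S19503
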