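import Groth.Statements.S19506
import Groth.Agent.PSLib.Regular
import Groth.Agent.S11740
import Groth.Agent.SmoothCompl.Basic
import Groth.Agent.ArtFunLib.Hull.Ring
import Mathlib.Algebra.Module.SpanRankOperations

set_option autoImplicit false
universe u
open CAlg

namespace Groth.Agent.S19506

/-- (i) ⇔ (iii): let k be a field and A a complete local Noetherian k-algebra with residue field k (a
k-algebra map π : A → k with kernel the maximal ideal; A complete for the adic topology of its
maximal ideal). Then A is regular if and only if A satisfies the infinitesimal lifting criterion: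
for every Artinian local k-algebra R and every ideal J of R of square zero, every local k-algebra
homomorphism A → R/J (one carrying non-units to non-units) lifts to a k-algebra homomorphism A → R.
(The test algebras R range over one universe, that of A. The published criterion is worded for
arbitrary k-algebra homomorphisms A → R/J; it is stated here for local ones, the case the argument
establishes and the form in which the text itself restates the criterion afterwards. The published
statement lists a third equivalent condition, A ≅ k[[x_1, …, x_d]].) -/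
theorem result (k A : Type u) [Field k]
    [CommRing A] [Algebra k A] [IsLocalRing A] [IsNoetherianRing A]
    [IsAdicComplete (IsLocalRing.maximalIdeal A) A]
    (π : A →ₐ[k] k) (hπ : RingHom.ker π = IsLocalRing.maximalIdeal A) :
    IsRegularLocalRing A ↔
      ∀ (R : Type u) [CommRing R] [Algebra k R] [IsArtinianRing R] [IsLocalRing R] (J : Ideal R),
        J ^ 2 = ⊥ → ∀ f : A →ₐ[k] R ⧸ J, IsLocalHom (f : A →+* R ⧸ J) →
          ∃ g : A →ₐ[k] R, (Ideal.Quotient.mkₐ k J).comp g = f := by
  classical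
  have hR : Function.Surjective ((IsLocalRing.residue A).comp (algebraMap k A)) := fun z => by
    obtain ⟨a, rfl⟩ := IsLocalRing.residue_surjective z
    refine ⟨π a, ?_⟩
    rw [RingHom.comp_apply, ← sub_eq_zero, ← map_sub, IsLocalRing.residue_eq_zero_iff, ← hπ, RingHom.mem_ker,
      map_sub, π.commutes, Algebra.algebraMap_self_apply, sub_self]
  let bc := Module.finBasis (IsLocalRing.ResidueField A) (IsLocalRing.CotangentSpace A)
  choose x hx using fun i => Ideal.toCotangent_surjective (IsLocalRing.maximalIdeal A) (bc i)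
  obtain ⟨ψ, hψX⟩ := PSLib.exists_algHom (R := k) (IsLocalRing.maximalIdeal A) (fun i => (x i : A)) fun i => (x i).2
  have hψ : ∀ i, ψ (MvPowerSeries.X i) ∈ IsLocalRing.maximalIdeal A := fun i => by rw [hψX]; exact (x i).2
  have hfam : (fun i => (IsLocalRing.maximalIdeal A).toCotangent ⟨ψ (MvPowerSeries.X i), hψ i⟩) = ⇑bc :=
    funext fun i => (congrArg _ (Subtype.ext (hψX i))).trans (hx i)
  obtain ⟨hsurj, hker⟩ := S11740.result k A hR _ ψ hψ (hfam ▸ bc.linearIndependent) (hfam ▸ bc.span_eq)
  let M := IsLocalRing.maximalIdeal (MvPowerSeries (Fin (Module.finrank (IsLocalRing.ResidueField A) (IsLocalRing.CotangentSpace A))) k)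
  have hM : M = PSLib.vars _ k := PSLib.maximalIdeal_eq_vars _ _
  constructor
  · intro hreg R _ _ _ _ J _ f hf
    haveI := hreg
    have hdim : ringKrullDim A = (Module.finrank (IsLocalRing.ResidueField A) (IsLocalRing.CotangentSpace A) : ℕ) := by
      rw [← (isRegularLocalRing_iff A).1 hreg, IsLocalRing.spanFinrank_maximalIdeal_eq_finrank_cotangentSpace]
    let e := AlgEquiv.ofBijective ψ (PSLib.bijective_of_surjective _ _ ψ.toRingHom hsurj hdim)
    haveI := hf
    by_cases hJ : J = ⊤
    · haveI : Subsingleton (R ⧸ J) := Ideal.Quotient.subsingleton_iff.2 hJ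
      have h1 : IsUnit (0 : A) := IsLocalHom.map_nonunit (f := (f : A →+* R ⧸ J)) 0 (isUnit_of_subsingleton ((f : A →+* R ⧸ J) 0))
      exact absurd h1 not_isUnit_zero
    choose r hr using fun i => Ideal.Quotient.mk_surjective (f (x i : A))
    have hrm : ∀ i, r i ∈ IsLocalRing.maximalIdeal R := fun i hu => by
      have h1 : IsUnit (f (x i : A)) := hr i ▸ hu.map _
      exact (x i).2 (IsLocalHom.map_nonunit (f := (f : A →+* R ⧸ J)) _ h1)
    haveI : IsAdicComplete (IsLocalRing.maximalIdeal R) R := SmoothCompl.isAdicComplete_of_artinian R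
    obtain ⟨χ, hχ⟩ := PSLib.exists_algHom (R := k) (IsLocalRing.maximalIdeal R) r hrm
    haveI : Nontrivial (R ⧸ J) := Ideal.Quotient.nontrivial_iff.2 hJ
    haveI : IsLocalRing (R ⧸ J) := IsLocalRing.of_surjective' (Ideal.Quotient.mk J) Ideal.Quotient.mk_surjective
    haveI : IsArtinianRing (R ⧸ J) := Ideal.Quotient.mk_surjective.isArtinianRing
    haveI : IsAdicComplete (IsLocalRing.maximalIdeal (R ⧸ J)) (R ⧸ J) := SmoothCompl.isAdicComplete_of_artinian _
    have hcomp : (Ideal.Quotient.mkₐ k J).comp χ = f.comp ψ := by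
      refine PSLib.algHom_ext (I := IsLocalRing.maximalIdeal (R ⧸ J)) _ _ (fun i => ?_) fun i => ?_
      · show Ideal.Quotient.mk J (χ (MvPowerSeries.X i)) ∈ _
        rw [hχ, hr]
        exact fun hu => (x i).2 (IsLocalHom.map_nonunit (f := (f : A →+* R ⧸ J)) _ hu)
      · show Ideal.Quotient.mk J (χ (MvPowerSeries.X i)) = f (ψ (MvPowerSeries.X i))
        rw [hχ, hr, hψX]
    refine ⟨χ.comp e.symm.toAlgHom, AlgHom.ext fun a => ?_⟩
    obtain ⟨p, rfl⟩ := hsurj a
    show Ideal.Quotient.mk J (χ (e.symm (e p))) = f (ψ p)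
    rw [AlgEquiv.symm_apply_apply]
    exact AlgHom.congr_fun hcomp p
  · intro hlift
    let fac : ∀ {a b : ℕ}, b ≤ a → (MvPowerSeries (Fin _) k ⧸ M ^ a) →ₐ[k] (MvPowerSeries (Fin _) k ⧸ M ^ b) :=
      fun h => Ideal.Quotient.factorₐ k (Ideal.pow_le_pow_right h)
    have hff : ∀ {a b c : ℕ} (h : b ≤ a) (h' : c ≤ b) (z : MvPowerSeries (Fin _) k ⧸ M ^ a), fac h' (fac h z) = fac (h'.trans h) z := by
      intro a b c h h' z
      obtain ⟨q, rfl⟩ := Ideal.Quotient.mk_surjective z
      rfl
    have hinv : ∃ φ : A →ₐ[k] MvPowerSeries (Fin _) k ⧸ M ^ 2, ∀ p, φ (ψ p) = Ideal.Quotient.mk _ p := by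
      have hle : RingHom.ker ψ.toRingHom ≤ RingHom.ker (Ideal.Quotient.mkₐ k (M ^ 2)).toRingHom := by
        refine hker.trans (le_of_eq ?_)
        exact (Ideal.mk_ker (I := M ^ 2)).symm
      exact ⟨AlgHom.liftOfSurjective ψ hsurj (Ideal.Quotient.mkₐ k (M ^ 2)) hle,
        fun p => AlgHom.liftOfSurjective_apply ψ hsurj (Ideal.Quotient.mkₐ k (M ^ 2)) hle p⟩
    have hstep : ∀ n, ∀ φ : A →ₐ[k] MvPowerSeries (Fin _) k ⧸ M ^ (n + 2),
        (∀ p, fac (show 2 ≤ n + 2 by omega) (φ (ψ p)) = Ideal.Quotient.mk _ p) →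
        ∃ φ' : A →ₐ[k] MvPowerSeries (Fin _) k ⧸ M ^ (n + 3),
          (fac (show n + 2 ≤ n + 3 by omega)).comp φ' = φ := by
      intro n φ hφ
      haveI : M.IsMaximal := IsLocalRing.maximalIdeal.isMaximal _
      haveI := ArtFunLib.Hull.isArtinianRing_quotient_pow M (n + 3)
      haveI : Nontrivial (MvPowerSeries (Fin _) k ⧸ M ^ (n + 3)) := Ideal.Quotient.nontrivial_iff.2 fun h =>
        (IsLocalRing.maximalIdeal.isMaximal _).ne_top (top_le_iff.1 (h ▸ Ideal.pow_le_self (Nat.succ_ne_zero _)))
      haveI := IsLocalRing.of_surjective' (Ideal.Quotient.mk (M ^ (n + 3))) Ideal.Quotient.mk_surjective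
      let q := fac (show n + 2 ≤ n + 3 by omega)
      let J := RingHom.ker q
      have hqs : Function.Surjective q := Ideal.Quotient.factor_surjective (Ideal.pow_le_pow_right (by omega))
      have hJ2 : J ^ 2 = ⊥ := by
        have hJ : J ≤ (M ^ (n + 2)).map (Ideal.Quotient.mk (M ^ (n + 3))) := fun z hz => by
          obtain ⟨p, rfl⟩ := Ideal.Quotient.mk_surjective z
          exact Ideal.mem_map_of_mem _ (Ideal.Quotient.eq_zero_iff_mem.1 hz)
        rw [← le_bot_iff]
        refine (Ideal.pow_right_mono hJ 2).trans ?_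
        rw [← Ideal.map_pow, ← pow_mul]
        exact (Ideal.map_mono (Ideal.pow_le_pow_right (by omega))).trans (Ideal.map_quotient_self _).le
      let E := Ideal.quotientKerAlgEquivOfSurjective hqs
      let fE : A →ₐ[k] (MvPowerSeries (Fin _) k ⧸ M ^ (n + 3)) ⧸ J := E.symm.toAlgHom.comp φ
      have hloc : IsLocalHom (fE : A →+* (MvPowerSeries (Fin _) k ⧸ M ^ (n + 3)) ⧸ J) := ⟨fun a ha => by
        obtain ⟨p, rfl⟩ := hsurj a
        have h1 : IsUnit (φ (ψ p)) := by
          have := (show IsUnit (E.symm (φ (ψ p))) from ha).map E.toAlgHom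
          rwa [show E.toAlgHom (E.symm (φ (ψ p))) = φ (ψ p) from E.apply_symm_apply _] at this
        have h2 := h1.map (fac (show 2 ≤ n + 2 by omega))
        rw [hφ] at h2
        refine IsUnit.map ψ ?_
        by_contra hp
        obtain ⟨z, hz⟩ := h2.exists_right_inv
        obtain ⟨z', rfl⟩ := Ideal.Quotient.mk_surjective z
        rw [← map_mul, ← map_one (Ideal.Quotient.mk (M ^ 2)), Ideal.Quotient.eq] at hz
        have h3 := Ideal.sub_mem _ (Ideal.mul_mem_right z' M (show p ∈ M from hp)) (Ideal.pow_le_self two_ne_zero hz)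
        rw [sub_sub_cancel] at h3
        exact (IsLocalRing.maximalIdeal.isMaximal _).ne_top ((Ideal.eq_top_iff_one _).2 h3)⟩
      obtain ⟨g, hg⟩ := hlift _ J hJ2 fE hloc
      refine ⟨g, AlgHom.ext fun a => ?_⟩
      have h := congrArg E (AlgHom.congr_fun hg a)
      exact h.trans (E.apply_symm_apply _)
    obtain ⟨φ₂, hφ₂⟩ := hinv
    let T := fun n => {φ : A →ₐ[k] MvPowerSeries (Fin _) k ⧸ M ^ (n + 2) //
      ∀ p, fac (show 2 ≤ n + 2 by omega) (φ (ψ p)) = Ideal.Quotient.mk _ p}
    have hnext : ∀ n, ∀ t : T n, ∃ t' : T (n + 1), (fac (show n + 2 ≤ n + 3 by omega)).comp t'.1 = t.1 := by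
      intro n t
      obtain ⟨φ', hφ'⟩ := hstep n t.1 t.2
      refine ⟨⟨φ', fun p => ?_⟩, hφ'⟩
      rw [← t.2 p, ← AlgHom.congr_fun hφ' (ψ p)]
      exact (hff (show n + 2 ≤ n + 3 by omega) (show 2 ≤ n + 2 by omega) _).symm
    choose nx hnx using hnext
    let Φn : ∀ n, T n := fun n => Nat.rec (motive := T) ⟨φ₂, fun p => by
      show fac le_rfl (φ₂ (ψ p)) = _
      rw [hφ₂]; rfl⟩ nx n
    have hcompat : ∀ (m n : ℕ) (h : m ≤ n), (fac (show m + 2 ≤ n + 2 by omega)).comp (Φn n).1 = (Φn m).1 := by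
      intro m n h
      induction n, h using Nat.le_induction with
      | base => exact AlgHom.ext fun a => by
                  obtain ⟨p, hp⟩ := Ideal.Quotient.mk_surjective ((Φn m).1 a)
                  show fac le_rfl ((Φn m).1 a) = _
                  rw [← hp]; rfl
      | succ n hn ih =>
        refine AlgHom.ext fun a => ?_
        have h1 := AlgHom.congr_fun (hnx n (Φn n)) a
        rw [← AlgHom.congr_fun ih a]
        show fac (show m + 2 ≤ n + 1 + 2 by omega) ((Φn (n + 1)).1 a) = fac (show m + 2 ≤ n + 2 by omega) ((Φn n).1 a)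
        rw [show (Φn n).1 a = fac (show n + 2 ≤ n + 3 by omega) ((Φn (n + 1)).1 a) from h1.symm]
        exact (hff (show n + 2 ≤ n + 3 by omega) (show m + 2 ≤ n + 2 by omega) _).symm
    let fl : ∀ n, A →ₐ[k] MvPowerSeries (Fin _) k ⧸ M ^ n := fun n => (fac (show n ≤ n + 2 by omega)).comp (Φn n).1
    haveI : IsAdicComplete M (MvPowerSeries (Fin (Module.finrank (IsLocalRing.ResidueField A) (IsLocalRing.CotangentSpace A))) k) :=
      hM ▸ PSLib.isAdicComplete
    have hfl : ∀ {m n : ℕ} (h : m ≤ n), (Ideal.Quotient.factorₐ k (Ideal.pow_le_pow_right h)).comp (fl n) = fl m := by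
      intro m n h
      refine AlgHom.ext fun a => ?_
      show fac h (fac (show n ≤ n + 2 by omega) ((Φn n).1 a)) = fac (show m ≤ m + 2 by omega) ((Φn m).1 a)
      rw [← AlgHom.congr_fun (hcompat m n h) a]
      exact (hff (show n ≤ n + 2 by omega) h _).trans (hff (show m + 2 ≤ n + 2 by omega) (show m ≤ m + 2 by omega) _).symm
    let Φ := IsAdicComplete.liftAlgHom M fl hfl
    have hΦ2 : ∀ p, Φ (ψ p) - p ∈ M ^ 2 := by
      intro p
      rw [← Ideal.Quotient.eq, IsAdicComplete.mk_liftAlgHom]
      show fac (show 2 ≤ 2 + 2 by omega) ((Φn 2).1 (ψ p)) = _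
      exact (Φn 2).2 p
    have hvars : ∀ i, (Φ.comp ψ) (MvPowerSeries.X i) ∈ PSLib.vars _ k := fun i => by
      rw [← hM]
      have := Ideal.add_mem _ (Ideal.pow_le_self two_ne_zero (hΦ2 (MvPowerSeries.X i)))
        (show MvPowerSeries.X i ∈ M by rw [hM]; exact Ideal.subset_span ⟨i, rfl⟩)
      rwa [sub_add_cancel] at this
    have hbij := PSLib.bijective_of_first_order (Φ.comp ψ) hvars (fun j => by
      have h1 := hΦ2 (MvPowerSeries.X j)
      rw [hM] at h1
      rw [show MvPowerSeries.X j = (Φ.comp ψ) (MvPowerSeries.X j) - (Φ (ψ (MvPowerSeries.X j)) - MvPowerSeries.X j) by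
        rw [AlgHom.comp_apply, sub_sub_cancel]]
      exact Ideal.sub_mem _ (Ideal.mem_sup_left (Ideal.subset_span ⟨j, rfl⟩)) (Ideal.mem_sup_right h1))
    have hinj : Function.Injective ψ := fun a b h => hbij.1 (by rw [AlgHom.comp_apply, AlgHom.comp_apply, h])
    haveI := PSLib.isRegularLocalRing k (Module.finrank (IsLocalRing.ResidueField A) (IsLocalRing.CotangentSpace A))
    exact IsRegularLocalRing.of_ringEquiv (AlgEquiv.ofBijective ψ ⟨hinj, hsurj⟩).toRingEquiv

end Groth.Agent.S19506
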