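import Groth.Statements.S19515
import Groth.Agent.S19513
import Groth.Agent.ParaFX.TrivDesc
import Groth.Agent.PicClLib.Basic
-- import your own Groth.Agent.* helpers here

set_option autoImplicit false
set_option backward.isDefEq.respectTransparency false
set_option backward.isDefEq.respectTransparency.types false
set_option linter.style.haveILetI false
set_option maxHeartbeats 1000000
universe u
open CategoryTheory CategoryTheory.Limits AlgebraicGeometry
open Variety

namespace Groth.Agent.S19515
open Groth.Agent

/-- Let k be a field and f : X → Y a k-morphism between proper k-schemes which is a fibration, i.e. O_Y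
→ f_*O_X is an isomorphism (Γ(V, O_Y) → Γ(f⁻¹V, O_X) bijective for every open V ⊆ Y). If X is
geometrically normal, i.e. its base change to every algebraic closure of k has all local rings
integrally closed domains, then Y is geometrically normal in the same sense. -/
theorem result (k : Type u) [Field k] (X Y : Scheme.{u})
    [X.Over (Spec (CommRingCat.of k))] [Y.Over (Spec (CommRingCat.of k))] [IsProper (X ↘ Spec (CommRingCat.of k))] [IsProper (Y ↘ Spec (CommRingCat.of k))]
    (f : X ⟶ Y) (hf : f ≫ (Y ↘ Spec (CommRingCat.of k)) = X ↘ Spec (CommRingCat.of k)) (hfib : ∀ V : Y.Opens, IsIso (f.app V))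
    (hX : ∀ (K : Type u) [Field K] [Algebra k K] [IsAlgClosure k K],
      Pi1.IsNormalScheme (pullback (X ↘ Spec (CommRingCat.of k)) (Spec.map (CommRingCat.ofHom (algebraMap k K)))))
    (K : Type u) [Field K] [Algebra k K] [IsAlgClosure k K] :
    Pi1.IsNormalScheme (pullback (Y ↘ Spec (CommRingCat.of k)) (Spec.map (CommRingCat.ofHom (algebraMap k K)))) := by
  haveI : IsProper (f ≫ (Y ↘ Spec (CommRingCat.of k))) := hf ▸ ‹_›
  haveI : IsProper f := IsProper.of_comp f (Y ↘ Spec (CommRingCat.of k))
  let j := Spec.map (CommRingCat.ofHom (algebraMap k K))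
  let sX := X ↘ Spec (CommRingCat.of k)
  let sY := Y ↘ Spec (CommRingCat.of k)
  haveI : Flat j := by
    rw [HasRingHomProperty.Spec_iff (P := @Flat)]
    exact RingHom.flat_algebraMap_iff.2 inferInstance
  let g : pullback sY j ⟶ Y := pullback.fst sY j
  let g' : pullback sX j ⟶ X := pullback.fst sX j
  let f' : pullback sX j ⟶ pullback sY j := pullback.lift (g' ≫ f) (pullback.snd sX j)
    (by rw [Category.assoc, hf]; exact pullback.condition)
  have h1 : f' ≫ g = g' ≫ f := pullback.lift_fst _ _ _
  have hpb : IsPullback g' f' f g := by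
    have hout : IsPullback g' (f' ≫ pullback.snd sY j) (f ≫ sY) j := by
      rw [pullback.lift_snd, hf]
      exact IsPullback.of_hasPullback sX j
    exact IsPullback.of_bot hout h1.symm (IsPullback.of_hasPullback sY j)
  have hb : ∀ V : Y.Opens, Function.Bijective (f.app V) := fun V =>
    (ConcreteCategory.isIso_iff_bijective _).1 (hfib V)
  haveI : Coh.IsQCoh (Coh.structureModule X) := Groth.Agent.QCoh.isQCoh_structureModule
  haveI := Groth.Agent.ParaFX.isIso_bc0 f g g' f' hpb (Coh.structureModule X)
  obtain ⟨a⟩ := Groth.Agent.PicClLib.nonempty_pullback_structureModule g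
  obtain ⟨b⟩ := Groth.Agent.PicClLib.nonempty_pullback_structureModule g'
  obtain ⟨φ⟩ : Nonempty (Coh.structureModule (pullback sY j) ≅ (Scheme.Modules.pushforward f').obj (Coh.structureModule (pullback sX j))) :=
    ⟨a.symm ≪≫ (Scheme.Modules.pullback g).mapIso (Groth.Agent.H23.PullPush.structureModuleIsoPush f hb) ≪≫
      asIso (CohBC.bc0 f g f' g' hpb.w (Coh.structureModule X)) ≪≫ (Scheme.Modules.pushforward f').mapIso b⟩
  have hbij : ∀ V : (pullback sY j).Opens, Function.Bijective (f'.app V) := by
    let one' : ∀ W : (pullback sY j).Opens, Γ(pullback sX j, f' ⁻¹ᵁ W) := fun W =>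
      φ.hom.app W (show Γ(Coh.structureModule (pullback sY j), W) from (1 : Γ(pullback sY j, W)))
    have key : ∀ (W : (pullback sY j).Opens) (r : Γ(pullback sY j, W)),
        (show Γ(pullback sX j, f' ⁻¹ᵁ W) from φ.hom.app W (show Γ(Coh.structureModule (pullback sY j), W) from r)) =
          f'.app W r * one' W := fun W r => by
      have h := Scheme.Modules.Hom.app_smul φ.hom r (show Γ(Coh.structureModule (pullback sY j), W) from (1 : Γ(pullback sY j, W)))
      refine Eq.trans ?_ h
      exact congrArg (fun x : Γ(pullback sY j, W) => φ.hom.app W (show Γ(Coh.structureModule (pullback sY j), W) from x)) (mul_one r).symm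
    intro W
    have hW : Function.Bijective (φ.hom.app W) := (ConcreteCategory.isIso_iff_bijective _).1
      (Scheme.Modules.Hom.isIso_iff_isIso_app.1 inferInstance W)
    obtain ⟨r₁, hr₁⟩ := hW.2 (show Γ(pullback sX j, f' ⁻¹ᵁ W) from 1)
    have hu : IsUnit (one' W) := IsUnit.of_mul_eq_one_right _ ((key W r₁).symm.trans hr₁)
    refine ⟨fun r s hrs => hW.1 ?_, fun z => ?_⟩
    · exact ((key W r).trans (congrArg (· * one' W) hrs)).trans (key W s).symm
    · obtain ⟨r, hr⟩ := hW.2 (show Γ(pullback sX j, f' ⁻¹ᵁ W) from z * one' W)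
      exact ⟨r, hu.mul_right_cancel ((key W r).symm.trans hr)⟩
  letI : (pullback sX j).Over (Spec (CommRingCat.of K)) := ⟨pullback.snd sX j⟩
  letI : (pullback sY j).Over (Spec (CommRingCat.of K)) := ⟨pullback.snd sY j⟩
  haveI : IsProper ((pullback sX j) ↘ Spec (CommRingCat.of K)) := inferInstanceAs (IsProper (pullback.snd sX j))
  haveI : IsProper ((pullback sY j) ↘ Spec (CommRingCat.of K)) := inferInstanceAs (IsProper (pullback.snd sY j))
  exact Groth.Agent.S19513.result K (pullback sX j) (pullback sY j) f' (pullback.lift_snd _ _ _)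
    (fun V => (ConcreteCategory.isIso_iff_bijective _).2 (hbij V)) (hX K)

end Groth.Agent.S19515
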