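import Groth.Statements.S19534
import Groth.Agent.ASBunLib.Simple
import Groth.Agent.H23.MaxAbelian
-- import your own Groth.Agent.* helpers here

set_option autoImplicit false
set_option backward.isDefEq.respectTransparency false
set_option backward.isDefEq.respectTransparency.types false
set_option linter.style.haveILetI false
set_option maxHeartbeats 1000000
universe u
open CategoryTheory CategoryTheory.Limits AlgebraicGeometry
open ASBun

namespace Groth.Agent.S19534
open Groth.Agent

open W4c1astiltbs12 in
/-- Let X be a proper, geometrically integral scheme over a field k, K an algebraic closure of k with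
projection π : X_K → X, and E a nonzero finite locally free O_X-module which is absolutely
rank-one-isotypical: π^*E ≅ L^{⊕r} for some invertible O_{X_K}-module L and some natural number r.
Then the endomorphism ring of E (multiplication = composition) is a simple ring. (The published
statement says that this ring is a central simple algebra over k; centrality over k and
finite-dimensionality are not stated here, only simplicity as a ring. Non-vanishing of E is part of
the definition of rank-one-isotypical there, the direct sum having at least one summand.) -/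
theorem result (k : Type u) [Field k]
    {X : Scheme.{u}} (p : X ⟶ Spec (CommRingCat.of k)) [IsProper p] [GeometricallyIntegral p]
    (K : Type u) [Field K] [Algebra k K] [IsAlgClosure k K]
    (E : X.Modules) (hE : FlatMod.IsFinLocFree E) (hE0 : ¬ IsZero E)
    (L : (W4bk4gw11416.baseChange p K).Modules) (hL : PicF.IsInvertible L) (r : ℕ)
    (e : Nonempty (bcMod p K E ≅ pow L r)) :
    IsSimpleRing (CategoryTheory.End E) := by
  letI : X.Over (Spec (CommRingCat.of k)) := ⟨p⟩
  haveI : IsProper (X ↘ Spec (CommRingCat.of k)) := ‹IsProper p›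
  letI : (W4bk4gw11416.baseChange p K).Over (Spec (CommRingCat.of K)) := ⟨W4bk4gw11416.baseChangeTo p K⟩
  haveI : IsProper ((W4bk4gw11416.baseChange p K) ↘ Spec (CommRingCat.of K)) :=
    inferInstanceAs (IsProper (Limits.pullback.snd p (Spec.map (CommRingCat.ofHom (algebraMap k K)))))
  haveI : IsAlgClosed K := IsAlgClosure.isAlgClosed k
  haveI : AlgebraicGeometry.IsIntegral (W4bk4gw11416.baseChange p K) :=
    GeometricallyIntegral.isIntegral_of_subsingleton (Limits.pullback.snd p (Spec.map (CommRingCat.ofHom (algebraMap k K))))
  haveI := Groth.Agent.CurveCohLib.isNoetherian_of_proper (k := k) (X := X)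
  obtain ⟨e⟩ := e
  haveI : Nontrivial (CategoryTheory.End E) := ⟨⟨𝟙 E, 0, fun h => hE0 ((IsZero.iff_id_eq_zero E).2 h)⟩⟩
  refine IsSimpleRing.of_eq_bot_or_eq_top fun I => ?_
  by_cases hI : ∀ f ∈ I, f = 0
  · refine Or.inl (eq_bot_iff.2 fun f hf => ?_)
    rw [hI f hf]
    exact zero_mem _
  push Not at hI
  obtain ⟨f, hfI, hf⟩ := hI
  obtain ⟨ι, s, x, y, hs⟩ := Groth.Agent.ASBunLib.exists_unit_sum (k := k) (K := K) (IsPullback.of_hasPullback _ _)
    (Groth.Agent.CurveDeg.isCoh_of_isFinLocFree hE)
    (fun u hu => Groth.Agent.ASBunLib.isIso_of_ne_zero_invertible (K := K) hL u hu) r e f hf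
  refine Or.inr (top_le_iff.1 fun g _ => ?_)
  have h1 : (∑ i ∈ s, CategoryTheory.End.of (y i) * f * CategoryTheory.End.of (x i)) ∈ I :=
    sum_mem fun i _ => I.mul_mem_right _ _ (I.mul_mem_left _ _ hfI)
  have h2 : (∑ i ∈ s, CategoryTheory.End.of (y i) * f * CategoryTheory.End.of (x i)) = 1 := by
    refine (Finset.sum_congr rfl fun i _ => ?_).trans hs
    show x i ≫ (f ≫ y i) = _
    rfl
  rw [← mul_one g]
  exact I.mul_mem_left _ _ (h2 ▸ h1)

end Groth.Agent.S19534
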