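import Groth.Statements.S19535
import Groth.Agent.SmoothCrit.Omega
import Groth.Agent.SmoothCrit.Sch
import Groth.Agent.Lib.CurveDeg
import Groth.Agent.Lib.CurveDuality
import Groth.Agent.Synt29.OmegaAffine
import Groth.Agent.S5018
import Groth.Agent.S1488
import Groth.Agent.IdealSub.OfMono
import Groth.Agent.CurveBC.Geometry
import Groth.Agent.PicClLib.Basic
-- import your own Groth.Agent.* helpers here

set_option autoImplicit false
set_option backward.isDefEq.respectTransparency false
set_option backward.isDefEq.respectTransparency.types false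
set_option linter.style.haveILetI false
set_option maxHeartbeats 1000000
universe u
open CategoryTheory CategoryTheory.Limits AlgebraicGeometry TopologicalSpace
open Curves

namespace Groth.Agent.S19535
open Groth.Agent

/-- Dichotomy for the differential of a map of smooth curves: let k be a field, X and Y integral schemes
each smooth, separated and quasi-compact over Spec k and of dimension one, and φ : X → Y a morphism
over k. Let Ω_Y and Ω_X be sheaves of differentials of Y and of X over k, given as universal
derivations, and c : φ^*Ω_Y → Ω_X the compatible map dφ (sending the pullback of d_Y s to d_X(φ^♯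
s)). Then exactly one of two things happens, stated here as a disjunction: either c is the zero map,
or c is a monomorphism of O_X-modules and its cokernel (the sheaf of relative differentials Ω_{X/Y})
restricts to zero on some nonempty open subset of X, so that it is supported at finitely many closed
points. (The published statement is for smooth curves, which are in addition geometrically
connected; integrality of X and Y is what the argument uses.) -/
theorem result (k : Type u) [Field k] {X Y : Scheme.{u}}
    (pX : X ⟶ Spec (CommRingCat.of k)) (pY : Y ⟶ Spec (CommRingCat.of k)) (φ : X ⟶ Y) (w : φ ≫ pY = pX)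
    [IsIntegral X] [Smooth pX] [IsSeparated pX] [QuasiCompact pX] (hdX : topologicalKrullDim X = 1)
    [IsIntegral Y] [Smooth pY] [IsSeparated pY] [QuasiCompact pY] (hdY : topologicalKrullDim Y = 1)
    (ΩY : Y.Modules) (dY : OmegaSh.Der pY ΩY) (hY : OmegaSh.IsUniversal dY)
    (ΩX : X.Modules) (dX : OmegaSh.Der pX ΩX) (hX : OmegaSh.IsUniversal dX)
    (c : (Scheme.Modules.pullback φ).obj ΩY ⟶ ΩX) (hc : OmegaSh.IsDiffCompat φ dY dX c) :
    c = 0 ∨ (Mono c ∧ ∃ U : X.Opens, (U : Set X).Nonempty ∧ IsZero ((Scheme.Modules.pullback U.ι).obj (cokernel c))) := by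
  haveI : LocallyOfFiniteType pX := inferInstance
  haveI : LocallyOfFiniteType pY := inferInstance
  have hinv : ∀ {Z : Scheme.{u}} (p : Z ⟶ Spec (CommRingCat.of k)) [IsIntegral Z] [Smooth p] [IsSeparated p]
      (_ : topologicalKrullDim Z = 1) (Ω : Z.Modules) (d : OmegaSh.Der p Ω), OmegaSh.IsUniversal d →
      PicF.IsInvertible Ω := by
    intro Z p _ _ _ hd Ω d hu
    haveI : LocallyOfFiniteType p := inferInstance
    haveI : SmoothOfRelativeDimension 1 p := SmoothCrit.smoothOfRelativeDimension_dim (k := k) (X := Z) p 1 hd
    obtain ⟨i, -⟩ := Synt29.OmegaStalk.exists_iso_of_universal (OmegaUniv.isUniversal_dOmega p) hu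
    refine H23.PicMul.isInvertible_of_iso i (CurveDuality.isInvertible_of_rank_one fun x => ?_)
    obtain ⟨U, m, hxU, ⟨e⟩⟩ := S5018.result p ((S1488.result p).1 inferInstance).2 _ _ (OmegaUniv.isUniversal_dOmega p) x
    obtain rfl : 1 = m := (SmoothCrit.free_stalk_of_smooth p 1 x).2.2.symm.trans
      (SmoothCrit.free_stalk_of_restrict p e hxU).2.2
    exact ⟨U, hxU, ⟨e⟩⟩
  have hN := PicClLib.isInvertible_pullback φ (hinv pY hdY ΩY dY hY)
  have hL := hinv pX hdX ΩX dX hX
  by_cases h0 : c = 0
  · exact Or.inl h0
  refine Or.inr ⟨InvEnd.mono_of_ne_zero hN hL c h0, ?_⟩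
  obtain ⟨W, ⟨w⟩, hW⟩ := CurveDeg.exists_open_surjective hN hL c h0
  refine ⟨W, ⟨w.1, w.2⟩, ?_⟩
  haveI hres : Epi ((Scheme.Modules.restrictFunctor W.ι).map c) := IdealSub.epi_of_affine _ fun U => by
    exact hW (W.ι ''ᵁ U.1) (fun z hz => by obtain ⟨z', -, rfl⟩ := hz; exact z'.2)
  haveI : Epi ((Scheme.Modules.pullback W.ι).map c) := by
    rw [← NatIso.naturality_1 (Scheme.Modules.restrictFunctorIsoPullback W.ι) c]
    infer_instance
  exact (isZero_cokernel_of_epi _).of_iso (PreservesCokernel.iso (Scheme.Modules.pullback W.ι) c)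

end Groth.Agent.S19535
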