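import Groth.Statements.S1954
import Groth.Agent.IntMultCartier.Cycle
import Groth.Agent.GrpSchLib.SmoothRegular
-- import your own Groth.Agent.* helpers here

set_option autoImplicit false
set_option backward.isDefEq.respectTransparency false
set_option backward.isDefEq.respectTransparency.types false
set_option linter.style.haveILetI false
set_option maxHeartbeats 1000000
universe u
open CategoryTheory CategoryTheory.Limits AlgebraicGeometry
attribute [local instance] HasDerivedCategory.standard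
open IntMult

namespace Groth.Agent.S1954
open Groth.Agent

/-- Let Y, Z → X be closed immersions into a nonsingular variety with δ ≤ r on Y and δ ≤ s on Z, such
that [Y]_r and [Z]_s intersect properly, and let τ be a point of δ-dimension r + s − n lying under Y
and Z (the generic point of a component of the intersection of components of dimension r and s) at
which the scheme-theoretic intersection Y ×_X Z has multiplicity 1 (its local ring there has length
1). Then the coefficient of the closure of τ in [Y]_r · [Z]_s is 1, and the local rings of Y and Z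
at the points over τ are regular. (The published statement has further parts, not restated here.)
Here X is a nonsingular variety over the algebraically closed field K (smooth, separated,
quasi-compact, integral) with dimension function δ (transcendence degree) and n = dim X; cycles are
Mathlib AlgebraicCycles with Cyc.Zk membership, proper intersection is IntMult.IntersectProperly and
α · β is the Tor-formula intersection product on coefficient functions (IntMult.interProd), bundled
where needed as 'any cycle with these coefficients'. -/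
theorem result (K : Type u) [Field K] [IsAlgClosed K] (X : Scheme.{u}) (f : X ⟶ Spec (CommRingCat.of K)) [Smooth f] [IsSeparated f] [QuasiCompact f] [IsIntegral X] (δ : X → ℤ) (hX : Cyc.IsSetup X δ) (hδ : Cyc.DeltaCompat f δ (fun _ => 0)) (n : ℤ) (hn : δ (genericPoint X) = n) (Y Z : Scheme.{u}) (ιY : Y ⟶ X) (ιZ : Z ⟶ X) [IsClosedImmersion ιY] [IsClosedImmersion ιZ] (r s : ℤ) (hY : ∀ y : Y, δ (ιY y) ≤ r) (hZ : ∀ z : Z, δ (ιZ z) ≤ s) (hprop : IntMult.IntersectProperly δ n (Cyc.subschemeFun δ r ιY) (Cyc.subschemeFun δ s ιZ)) (τ : X) (hτ : δ τ = r + s - n) (hξ : ∃ ξ η : X, Cyc.subschemeFun δ r ιY ξ ≠ 0 ∧ Cyc.subschemeFun δ s ιZ η ≠ 0 ∧ ξ ⤳ τ ∧ η ⤳ τ) (hmult : Cyc.subschemeFun δ (r + s - n) (pullback.fst ιY ιZ ≫ ιY) τ = 1) : IntMult.interProd δ n (Cyc.subschemeFun δ r ιY) (Cyc.subschemeFun δ s ιZ) τ = 1 ∧ (∀ y : Y, ιY y = τ → IsRegularLocalRing (Y.presheaf.stalk y)) ∧ (∀ z : Z, ιZ z = τ → IsRegularLocalRing (Z.presheaf.stalk z)) := by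
  classical
  haveI : IsLocallyNoetherian X := LocallyOfFiniteType.isLocallyNoetherian f
  haveI : IsLocallyNoetherian Y := LocallyOfFiniteType.isLocallyNoetherian ιY
  haveI : IsLocallyNoetherian Z := LocallyOfFiniteType.isLocallyNoetherian ιZ
  obtain ⟨-, w, hw⟩ := Groth.Agent.IntMultCartier.eq_of_subschemeFun_ne_zero (δ := δ) (pullback.fst ιY ιZ ≫ ιY)
    (k := r + s - n) (x := τ) (by rw [hmult]; exact one_ne_zero)
  set y := pullback.fst ιY ιZ w with hy
  set z := pullback.snd ιY ιZ w with hz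
  have e : ιY y = ιZ z := Groth.Agent.H23.GysinPb.apply_fst_eq ιY ιZ w
  obtain rfl : ιZ z = τ := e.symm.trans hw
  haveI hA : IsRegularLocalRing (X.presheaf.stalk (ιZ z)) :=
    Groth.Agent.GrpSchLib.isRegularLocalRing_stalk_of_smooth f _
  have hd := hX.2.2
  -- the intersection is reduced at the point
  rw [← hw, Groth.Agent.IntMultCartier.subschemeFun_apply (pullback.fst ιY ιZ ≫ ιY) (hw.symm ▸ hτ)] at hmult
  have hlen : Module.length ((pullback ιY ιZ).presheaf.stalk w) ((pullback ιY ιZ).presheaf.stalk w) = 1 := by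
    generalize Module.length ((pullback ιY ιZ).presheaf.stalk w) ((pullback ιY ιZ).presheaf.stalk w) = L at hmult
    cases L with
    | top => simp at hmult
    | coe L =>
      have : (L : ℤ) = 1 := by simpa using hmult
      exact_mod_cast this
  have hbot : (⊥ : Ideal ((pullback ιY ιZ).presheaf.stalk w)).IsMaximal :=
    ⟨by
      haveI : IsSimpleModule _ _ := Module.length_eq_one_iff.1 hlen
      exact isCoatom_bot⟩
  have hsur : Function.Surjective ((pullback.fst ιY ιZ).stalkMap w).hom := (pullback.fst ιY ιZ).stalkMap_surjective w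
  haveI := hbot
  have hkmax : RingHom.ker ((pullback.fst ιY ιZ).stalkMap w).hom = IsLocalRing.maximalIdeal _ :=
    IsLocalRing.eq_maximalIdeal (Ideal.comap_isMaximal_of_surjective _ hsur)
  rw [Groth.Agent.H23.GysinPb.ker_stalkMap_fst] at hkmax
  let σ := X.presheaf.stalkSpecializes (specializes_of_eq e)
  let β : X.presheaf.stalk (ιZ z) →+* Y.presheaf.stalk y := (σ ≫ ιY.stalkMap y).hom
  change Ideal.map β (RingHom.ker (ιZ.stalkMap z).hom) = _ at hkmax
  have hσ : Function.Bijective σ.hom := by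
    haveI : IsIso σ := by
      show IsIso (X.presheaf.stalkCongr (.of_eq e.symm)).hom
      infer_instance
    exact (asIso σ).commRingCatIsoToRingEquiv.bijective
  have hβ : Function.Surjective β := (ιY.stalkMap_surjective y).comp hσ.2
  have hζ : Function.Surjective (ιZ.stalkMap z).hom := ιZ.stalkMap_surjective z
  have hsup : RingHom.ker β ⊔ RingHom.ker (ιZ.stalkMap z).hom = IsLocalRing.maximalIdeal _ := by
    haveI := IsLocalRing.maximalIdeal.isMaximal (Y.presheaf.stalk y)
    rw [← IsLocalRing.eq_maximalIdeal (Ideal.comap_isMaximal_of_surjective β hβ (K := IsLocalRing.maximalIdeal _)),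
      ← hkmax, Ideal.comap_map_of_surjective β hβ, ← RingHom.ker_eq_comap_bot, sup_comm]
  -- dimensions
  obtain ⟨ξ, η, hξ0, hη0, hξτ, hητ⟩ := hξ
  obtain ⟨hξr, y', rfl⟩ := Groth.Agent.IntMultCartier.eq_of_subschemeFun_ne_zero ιY hξ0
  obtain ⟨hηs, z', rfl⟩ := Groth.Agent.IntMultCartier.eq_of_subschemeFun_ne_zero ιZ hη0
  have hyy : y' ⤳ y := ιY.isEmbedding.isInducing.specializes_iff.1 (hξτ.trans (specializes_of_eq e.symm))
  have hzz : z' ⤳ z := ιZ.isEmbedding.isInducing.specializes_iff.1 hητ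
  have hdY := Groth.Agent.IntMultCartier.dim_stalk_closed ιY hd hY hyy hξr
  have hdZ := Groth.Agent.IntMultCartier.dim_stalk_closed ιZ hd hZ hzz hηs
  have hdX := Groth.Agent.CycLib.ringKrullDim_stalk_eq hd (ιZ z)
  rw [hn] at hdX
  rw [e] at hdY
  have hle1 : δ (ιZ z) ≤ r := by
    rcases eq_or_ne (ιY y') (ιZ z) with h | h
    · rw [← h, hξr]
    · exact (hξr ▸ (hd _ _ hξτ h).1).le
  have hle2 : δ (ιZ z) ≤ s := by
    rcases eq_or_ne (ιZ z') (ιZ z) with h | h
    · rw [← h, hηs]
    · exact (hηs ▸ (hd _ _ hητ h).1).le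
  have eY := RingHom.quotientKerEquivOfSurjective hβ
  have eZ := RingHom.quotientKerEquivOfSurjective hζ
  rw [← ringKrullDim_eq_of_ringEquiv eY] at hdY
  rw [← ringKrullDim_eq_of_ringEquiv eZ] at hdZ
  obtain ⟨hrY, hrZ⟩ := Groth.Agent.IntMultCartier.regular_pair _ _ hsup hdX hdY hdZ (by omega)
  haveI hrY' : IsRegularLocalRing (Y.presheaf.stalk y) := IsRegularLocalRing.of_ringEquiv eY
  haveI hrZ' : IsRegularLocalRing (Z.presheaf.stalk z) := IsRegularLocalRing.of_ringEquiv eZ
  haveI : IsDomain (Y.presheaf.stalk y) := Groth.Agent.RegLoc6.isDomain_of_isRegularLocalRing _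
  haveI : IsDomain (Z.presheaf.stalk z) := Groth.Agent.RegLoc6.isDomain_of_isRegularLocalRing _
  haveI : (RingHom.ker β).IsPrime := RingHom.ker_isPrime _
  haveI : (RingHom.ker (ιZ.stalkMap z).hom).IsPrime := RingHom.ker_isPrime _
  refine ⟨?_, fun y₁ h => by rw [ιY.isEmbedding.injective (h.trans e.symm)]; exact hrY',
    fun z₁ h => by rw [ιZ.isEmbedding.injective h]; exact hrZ'⟩
  obtain ⟨gY, hgY, hpY, hcY, huY⟩ := Groth.Agent.IntMultCartier.generic_data ιY hd hY (y := y) ⟨y', hyy, hξr⟩
  obtain ⟨gZ, hgZ, hpZ, hcZ, huZ⟩ := Groth.Agent.IntMultCartier.generic_data ιZ hd hZ (y := z) ⟨z', hzz, hηs⟩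
  have hgr : δ (ιY gY) = r := (Groth.Agent.IntMultCartier.eq_of_subschemeFun_ne_zero ιY (by rw [hcY]; exact one_ne_zero)).1
  have hgs : δ (ιZ gZ) = s := (Groth.Agent.IntMultCartier.eq_of_subschemeFun_ne_zero ιZ (by rw [hcZ]; exact one_ne_zero)).1
  have hgY' : ιY gY ⤳ ιZ z := hgY.trans (specializes_of_eq e)
  rw [IntMult.interProd, finsum_eq_single _ ⟨(ιY gY, ιZ gZ), hgY', hgZ, by rw [hgr, hgs, hτ]⟩ ?_]
  · show Cyc.subschemeFun δ r ιY (ιY gY) * Cyc.subschemeFun δ s ιZ (ιZ gZ) * _ = 1
    rw [hcY, hcZ, one_mul, one_mul]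
    unfold IntMult.mult
    rw [Groth.Agent.IntMultCartier.stalkIdeal_ptIdeal hgY', Groth.Agent.IntMultCartier.stalkIdeal_ptIdeal hgZ, hpZ,
      ← Groth.Agent.IntMultCartier.comap_primeOf_eqToHom e hgY, hpY]
    have hP : Ideal.comap σ.hom (RingHom.ker (ιY.stalkMap y).hom) = RingHom.ker β := by
      rw [RingHom.comap_ker]
      rfl
    rw [show Ideal.comap (X.presheaf.stalkSpecializes (specializes_of_eq e)).hom (RingHom.ker (ιY.stalkMap y).hom) =
      RingHom.ker β from hP]
    have hP' := Groth.Agent.FormCat.height_add_ringKrullDim_quotient_regular _ (RingHom.ker β) Ideal.IsPrime.ne_top'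
    have hQ' := Groth.Agent.FormCat.height_add_ringKrullDim_quotient_regular _ (RingHom.ker (ιZ.stalkMap z).hom) Ideal.IsPrime.ne_top'
    rw [hdY, hdX] at hP'
    rw [hdZ, hdX] at hQ'
    obtain ⟨a, ha⟩ : ∃ a : ℕ, (RingHom.ker β).height = a :=
      ⟨_, (ENat.coe_toNat (Ideal.height_ne_top_of_isPrime)).symm⟩
    obtain ⟨b, hb⟩ : ∃ b : ℕ, (RingHom.ker (ιZ.stalkMap z).hom).height = b :=
      ⟨_, (ENat.coe_toNat (Ideal.height_ne_top_of_isPrime)).symm⟩
    rw [ha] at hP'
    rw [hb] at hQ'
    have hP2 : (r - δ (ιZ z)).toNat + a = (n - δ (ιZ z)).toNat := by exact_mod_cast hP'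
    have hQ2 : (s - δ (ιZ z)).toNat + b = (n - δ (ιZ z)).toNat := by exact_mod_cast hQ'
    exact (Groth.Agent.IntMultCartier.transversal _ _ hsup ha hb
      (by rw [hdX]; exact_mod_cast (show a + b ≤ (n - δ (ιZ z)).toNat by omega))).2.2
  · rintro ⟨⟨a, b⟩, haτ, hbτ, hab⟩ hne
    by_contra h0
    obtain ⟨⟨ha0, hb0⟩, -⟩ := (by simpa only [mul_ne_zero_iff] using h0 : (Cyc.subschemeFun δ r ιY a ≠ 0 ∧ Cyc.subschemeFun δ s ιZ b ≠ 0) ∧ _)
    exact hne (Subtype.ext (Prod.ext (huY a (haτ.trans (specializes_of_eq e.symm)) ha0) (huZ b hbτ hb0)))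

end Groth.Agent.S1954
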