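import Groth.Statements.S1955
import Groth.Agent.CycK.Class

set_option autoImplicit false
set_option linter.style.haveILetI false
universe u
open CategoryTheory AlgebraicGeometry CategoryTheory.Limits
open Cyc

namespace Groth.Agent.S1955

open Groth.Agent.CycK

/-- The assignment F ↦ [F]_k induces an isomorphism from K_0(Coh_{≤k}(X)/Coh_{≤k−1}(X)) onto the group
Z_k(X) of k-cycles: there is an additive map ψ to coefficient functions with ψ[F] = [F]_k for every
coherent F with support of δ-dimension ≤ k, which is injective with image exactly the coefficient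
functions of k-cycles. K_0 of the Serre quotient is modelled as K_0(Coh_{≤k}) modulo the classes of
Coh_{≤k−1} (Cyc.K0CohQuot). Here a pair (X, δ) with Cyc.IsSetup plays the role of a scheme locally
of finite type over a fixed base with a dimension function (X locally Noetherian with universally
catenary local rings, δ a dimension function). -/
theorem result (X : Scheme.{u}) (δ : X → ℤ) (hX : Cyc.IsSetup X δ) (k : ℤ) : ∃ ψ : Cyc.K0CohQuot δ k (k - 1) →+ (X → ℤ), (∀ F : X.Modules, Cyc.CohLe δ k F → ψ (Cyc.toK0CohQuot δ k (k - 1) F) = Cyc.sheafFun δ k F) ∧ Function.Injective ψ ∧ Set.range ψ = {a | ∃ α : AlgebraicCycle X ℤ, α ∈ Cyc.Zk X δ k ∧ ⇑α = a} := by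
  haveI := hX.1
  have hd := hX.2.2
  obtain ⟨ψ, hψ⟩ := exists_hom (δ := δ) (a := k) (b := k - 1) (fun F => Cyc.sheafFun δ k F)
    (fun S hS h₁ h₂ h₃ => CycLib.sheafFun_shortExact hd hS h₁.1 h₂.1 h₃.1 h₂.2)
    (fun F hF hF' => funext fun x => by
      simp only [Cyc.sheafFun, Pi.zero_apply]
      split_ifs with hx
      · haveI := subsingleton_stalk_of hF' (x := x) (by omega)
        rw [Module.length_eq_zero_iff.2 ‹_›]; rfl
      · rfl)
  let f := fun F => Cyc.toK0CohQuot δ k (k - 1) F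
  have hsurj : ∀ c, ∃ F G, Cyc.CohLe δ k F ∧ Cyc.CohLe δ k G ∧ c = f F - f G := fun c => by
    obtain ⟨c, rfl⟩ := QuotientAddGroup.mk_surjective c
    obtain ⟨c, rfl⟩ := QuotientAddGroup.mk_surjective c
    induction c using FreeAbelianGroup.induction_on with
    | zero => exact ⟨_, _, cohLe_zero, cohLe_zero, (sub_self _).symm⟩
    | of M => exact ⟨M.1, _, M.2, cohLe_zero, by
        rw [show f _ = 0 from eq_zero_of_small cohLe_zero, sub_zero]
        exact (congrArg QuotientAddGroup.mk (KZ.clSub_of_prop _ M.2)).symm⟩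
    | neg M h =>
      obtain ⟨F, G, hF, hG, e⟩ := h
      exact ⟨G, F, hG, hF, by rw [QuotientAddGroup.mk_neg, QuotientAddGroup.mk_neg, e, neg_sub]⟩
    | add a b ha hb =>
      obtain ⟨F, G, hF, hG, e⟩ := ha
      obtain ⟨F', G', hF', hG', e'⟩ := hb
      refine ⟨F ⊞ F', G ⊞ G', cohLe_biprod hF hF', cohLe_biprod hG hG', ?_⟩
      rw [QuotientAddGroup.mk_add, QuotientAddGroup.mk_add, e, e']
      simp only [f, biprod_eq hF hF', biprod_eq hG hG']
      abel
  refine ⟨ψ, hψ, (injective_iff_map_eq_zero _).2 fun c hc => ?_, Set.ext fun a => ⟨?_, ?_⟩⟩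
  · obtain ⟨F, G, hF, hG, rfl⟩ := hsurj c
    rw [map_sub, hψ F hF, hψ G hG, sub_eq_zero] at hc
    exact sub_eq_zero.2 (class_congr hd hF hG le_rfl le_rfl hc)
  · rintro ⟨c, rfl⟩
    obtain ⟨F, G, hF, hG, rfl⟩ := hsurj c
    rw [map_sub, hψ F hF, hψ G hG]
    let α : AlgebraicCycle X ℤ :=
      { toFun := Cyc.sheafFun δ k F - Cyc.sheafFun δ k G
        supportWithinDomain' := fun _ _ => trivial
        supportLocallyFiniteWithinDomain' := fun z _ => by
          obtain ⟨U, hU, hz, hfin⟩ := lf_sheafFun hd hF z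
          obtain ⟨V, hV, hz', hfin'⟩ := lf_sheafFun hd hG z
          refine ⟨U ∩ V, Filter.inter_mem (hU.mem_nhds hz) (hV.mem_nhds hz'), (hfin.union hfin').subset ?_⟩
          rintro x ⟨⟨hxU, hxV⟩, hx⟩
          by_cases h : Cyc.sheafFun δ k F x = 0
          · exact Or.inr ⟨hxV, fun h' => hx (by simp [h, h'])⟩
          · exact Or.inl ⟨hxU, h⟩ }
    exact ⟨α, fun x hx => by
      show Cyc.sheafFun δ k F x - Cyc.sheafFun δ k G x = 0
      simp [Cyc.sheafFun, hx], rfl⟩
  · rintro ⟨α, hα, rfl⟩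
    have hl := lf_cycle α
    have hk : ∀ ζ, α ζ ≠ 0 → δ ζ = k := fun ζ h => by_contra fun hne => h (hα ζ hne)
    have hl' : LF (-⇑α) := fun x => by
      obtain ⟨U, hU, hx, hfin⟩ := hl x
      exact ⟨U, hU, hx, hfin.subset fun ζ hζ => ⟨hζ.1, fun e => hζ.2 (by simp [e])⟩⟩
    have hk' : ∀ ζ, (-⇑α) ζ ≠ 0 → δ ζ = k := fun ζ h => hk ζ fun e => h (by simp [e])
    refine ⟨f (Cyc.cycleSheafPos ⇑α) - f (Cyc.cycleSheafNeg ⇑α), ?_⟩
    rw [map_sub, hψ _ (cohLe_pos hd hl fun ζ h => (hk ζ h.ne').le), Cyc.cycleSheafNeg,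
      hψ _ (cohLe_pos hd hl' fun ζ h => (hk' ζ h.ne').le), sheafFun_pos hd hl hk, sheafFun_pos hd hl' hk']
    funext x
    simp only [Pi.sub_apply, Pi.neg_apply]
    omega

end Groth.Agent.S1955
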