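import Groth.Statements.S19558
import Groth.Agent.NeronHDLib.EtaleCodim
import Groth.Agent.NeronHDLib.EtaleExtend

set_option backward.isDefEq.respectTransparency false
set_option backward.isDefEq.respectTransparency.types false

set_option autoImplicit false
universe u
open CategoryTheory CategoryTheory.Limits MonoidalCategory CartesianMonoidalCategory MonObj GrpObj AlgebraicGeometry
open NeronHD

namespace Groth.Agent.S19558

/-- Let S be a locally Noetherian scheme over a field of characteristic 0 which satisfies Serre's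
condition (S₂), i.e. every local ring O_{S,x} has depth at least min(2, dim O_{S,x}), and let S₁ ⊆ S
be a scheme-theoretically dense open whose complement has codimension at least 2 (dim O_{S,x} ≥ 2
for every point x outside S₁). Let G and H be smooth S-group schemes (group objects in the cartesian
monoidal category of S-schemes), H having the Néron mapping property for S₁ ⊆ S (restriction to S₁
of S-morphisms from smooth S-schemes into H is bijective), and let f : G → H be a homomorphism of
S-group schemes whose restriction G|S₁ → H|S₁ is étale. Then f is étale. (So the Néron extension of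
an étale homomorphism G|S₁ → H|S₁ is étale. Case of schemes, with smooth test schemes, of a
statement about group algebraic spaces.) -/
theorem result {k : Type u} [Field k] [CharZero k] {S : Scheme.{u}} (σ : S ⟶ Spec (CommRingCat.of k)) [IsLocallyNoetherian S]
    (hS2 : ∀ x : S, min (2 : WithBot ℕ∞) (ringKrullDim (S.presheaf.stalk x)) ≤ ((LocCoh.depth (S.presheaf.stalk x) (S.presheaf.stalk x) : ℕ∞) : WithBot ℕ∞))
    (S₁ : S.Opens) (hS₁ : CInt.IsSchematicallyDense S₁)
    (hcodim : ∀ x : S, x ∉ S₁ → (2 : WithBot ℕ∞) ≤ ringKrullDim (S.presheaf.stalk x))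
    (G H : Over S) [GrpObj G] [GrpObj H] [Smooth G.hom] [Smooth H.hom]
    (hH : ∀ Z : Over S, Smooth Z.hom → Function.Bijective (fun g : Z ⟶ H => (Over.pullback S₁.ι).map g))
    (f : G ⟶ H) [IsMonHom f] [Etale ((Over.pullback S₁.ι).map f).left] :
    Etale f.left := by
  -- `f` is étale over `S₁`
  have hO : Etale ((G.hom ⁻¹ᵁ S₁).ι ≫ f.left) := by
    have h : Limits.pullback.fst G.hom S₁.ι ≫ f.left =
        ((Over.pullback S₁.ι).map f).left ≫ Limits.pullback.fst H.hom S₁.ι := by
      simp [Over.pullback]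
    have : Etale (Limits.pullback.fst G.hom S₁.ι ≫ f.left) := by
      rw [h]
      exact MorphismProperty.comp_mem _ _ _ ‹_› inferInstance
    rw [← (isPullback_morphismRestrict G.hom S₁).flip.isoPullback_hom_fst, Category.assoc]
    infer_instance
  rw [HasRingHomProperty.iff_exists_appLE (P := (@Etale : MorphismProperty Scheme.{u}))
    (fun R S T _ _ _ _ r _ g hg => RingHom.Etale.stableUnderComposition _ _
      (RingHom.etale_algebraMap.2 (Algebra.Etale.of_isLocalizationAway r)) hg)]
  intro g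
  obtain ⟨U, hU, hgU, -⟩ := exists_isAffineOpen_mem_and_subset (x := G.hom g) (U := ⊤) trivial
  have hgU' : f.left g ∈ H.hom ⁻¹ᵁ U := by
    show H.hom (f.left g) ∈ U
    rw [← Scheme.Hom.comp_apply, Over.w f]
    exact hgU
  obtain ⟨V, hV, hgV, hVU⟩ := exists_isAffineOpen_mem_and_subset hgU'
  obtain ⟨W, hW, hgW, hWV⟩ := exists_isAffineOpen_mem_and_subset (show g ∈ f.left ⁻¹ᵁ V from hgV)
  refine ⟨⟨V, hV⟩, ⟨W, hW⟩, hgW, hWV, ?_⟩
  have hWU : W ≤ G.hom ⁻¹ᵁ U := fun x hx => by
    show G.hom x ∈ U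
    rw [← Over.w f]
    exact hVU (hWV hx)
  have hWU' : W ≤ (f.left ≫ H.hom) ⁻¹ᵁ U := fun x hx => hVU (hWV hx)
  have : IsNoetherianRing Γ(S, U) := IsLocallyNoetherian.component_noetherian ⟨U, hU⟩
  let _ := (H.hom.appLE U V hVU).hom.toAlgebra
  let _ := (G.hom.appLE U W hWU).hom.toAlgebra
  let _ := (f.left.appLE V W hWV).hom.toAlgebra
  have : IsScalarTower Γ(S, U) Γ(H.left, V) Γ(G.left, W) := IsScalarTower.of_algebraMap_eq' (by
    show (G.hom.appLE U W hWU).hom = (f.left.appLE V W hWV).hom.comp (H.hom.appLE U V hVU).hom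
    rw [← CommRingCat.hom_comp, Scheme.Hom.appLE_comp_appLE _ _ _ _ _ hVU hWV]
    simp only [Over.w f])
  have : Algebra.Smooth Γ(S, U) Γ(H.left, V) :=
    HasRingHomProperty.appLE (P := @Smooth) H.hom ‹_› ⟨U, hU⟩ ⟨V, hV⟩ hVU
  have : Algebra.Smooth Γ(S, U) Γ(G.left, W) :=
    HasRingHomProperty.appLE (P := @Smooth) G.hom ‹_› ⟨U, hU⟩ ⟨W, hW⟩ hWU
  show Algebra.Etale Γ(H.left, V) Γ(G.left, W)
  refine NeronHDLib.etale_of_etale_height_le_one (R := Γ(S, U)) fun P _ hP => ?_
  let x : G.left := hW.fromSpec ⟨P, inferInstance⟩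
  have hxW : x ∈ W := by
    have : x ∈ Set.range hW.fromSpec := ⟨_, rfl⟩
    rwa [hW.range_fromSpec] at this
  have hxP : hW.primeIdealOf ⟨x, hxW⟩ = ⟨P, inferInstance⟩ :=
    hW.fromSpec.isOpenEmbedding.injective (hW.fromSpec_primeIdealOf ⟨x, hxW⟩)
  have hxS : G.hom x ∈ S₁ := by
    by_contra h
    have h2 := hcodim _ h
    let _ := TopCat.Presheaf.algebra_section_stalk S.presheaf ⟨G.hom x, hWU hxW⟩
    have := hU.isLocalization_stalk ⟨G.hom x, hWU hxW⟩
    have hp : (hU.primeIdealOf ⟨G.hom x, hWU hxW⟩).asIdeal = P.comap (algebraMap Γ(S, U) Γ(G.left, W)) := by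
      have := congrArg PrimeSpectrum.asIdeal (IsAffineOpen.comap_primeIdealOf_appLE U hU W hW hWU hxW)
      rw [hxP] at this
      exact this.symm
    rw [IsLocalization.AtPrime.ringKrullDim_eq_height (hU.primeIdealOf ⟨G.hom x, hWU hxW⟩).asIdeal,
      hp] at h2
    exact absurd (WithBot.coe_le_coe.1 h2) (not_le.2 (lt_of_le_of_lt hP (by decide)))
  obtain ⟨a, ha, hxa⟩ := hW.exists_basicOpen_le ⟨x, (show x ∈ G.hom ⁻¹ᵁ S₁ from hxS)⟩ hxW
  have : Etale ((G.left.basicOpen a).ι ≫ f.left) := by
    rw [show (G.left.basicOpen a).ι = G.left.homOfLE ha ≫ (G.hom ⁻¹ᵁ S₁).ι from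
      (Scheme.homOfLE_ι _ _).symm, Category.assoc]
    infer_instance
  have het := NeronHDLib.etale_appLE_of_etale_ι_comp f.left hV (hW.basicOpen a)
    ((G.left.basicOpen_le a).trans hWV)
  let _ := (G.left.presheaf.map (homOfLE (G.left.basicOpen_le a)).op).hom.toAlgebra
  let _ := (f.left.appLE V (G.left.basicOpen a) ((G.left.basicOpen_le a).trans hWV)).hom.toAlgebra
  have : IsScalarTower Γ(H.left, V) Γ(G.left, W) Γ(G.left, G.left.basicOpen a) :=
    IsScalarTower.of_algebraMap_eq' (congrArg CommRingCat.Hom.hom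
      (Scheme.Hom.appLE_map f.left hWV (homOfLE (G.left.basicOpen_le a)).op).symm)
  have : IsLocalization.Away a Γ(G.left, G.left.basicOpen a) := hW.isLocalization_basicOpen a
  have : Algebra.Etale Γ(H.left, V) Γ(G.left, G.left.basicOpen a) := het
  have : Algebra.Etale Γ(H.left, V) (Localization.Away a) := Algebra.Etale.of_equiv
    ((IsLocalization.algEquiv (Submonoid.powers a) Γ(G.left, G.left.basicOpen a)
      (Localization.Away a)).restrictScalars Γ(H.left, V))
  have hPa : (⟨P, inferInstance⟩ : PrimeSpectrum Γ(G.left, W)) ∈ PrimeSpectrum.basicOpen a := by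
    have h := hW.fromSpec_preimage_basicOpen a
    exact h.le (show hW.fromSpec ⟨P, inferInstance⟩ ∈ G.left.basicOpen a from hxa)
  exact Algebra.basicOpen_subset_etaleLocus_iff.2 inferInstance hPa

end Groth.Agent.S19558
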