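import Groth.Statements.S1956
import Groth.Agent.CycK.Twist
import Groth.Agent.H23.UnitSec
import Groth.Agent.InvX.Tensor

set_option autoImplicit false
set_option linter.style.haveILetI false
set_option backward.isDefEq.respectTransparency false
set_option backward.isDefEq.respectTransparency.types false
universe u
open CategoryTheory AlgebraicGeometry
open Cyc

namespace Groth.Agent.S1956

open CategoryTheory.Limits Groth.Agent Groth.Agent.CycK

/-- For a k-cycle α = Σ n_Z [Z] on X rationally equivalent to zero, the classes of ⊕_{n_Z>0} O_Z^{n_Z}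
and ⊕_{n_Z<0} O_Z^{−n_Z} agree in K_0(Coh_{≤k+1}(X)/Coh_{≤k−1}(X)); that is, Z_k(X) →
K_0(Coh_{≤k+1}/Coh_{≤k−1}) factors through CH_k(X). Here O_Z is the structure sheaf of the reduced
closure of the generic point pushed forward to X, and K_0 of the Serre quotient is modelled as in
Cyc.K0CohQuot. Here a pair (X, δ) with Cyc.IsSetup plays the role of a scheme locally of finite type
over a fixed base with a dimension function (X locally Noetherian with universally catenary local
rings, δ a dimension function). -/
theorem result (X : Scheme.{u}) (δ : X → ℤ) (hX : Cyc.IsSetup X δ) (k : ℤ) (α : AlgebraicCycle X ℤ) (hα : α ∈ Cyc.Zk X δ k) (h0 : Cyc.RatEquivZero δ k α) : Cyc.toK0CohQuot δ (k + 1) (k - 1) (Cyc.cycleSheafPos ⇑α) = Cyc.toK0CohQuot δ (k + 1) (k - 1) (Cyc.cycleSheafNeg ⇑α) := by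
  haveI := hX.1
  have hd := hX.2.2
  obtain ⟨ι, ξ, f, hξ, hf, hlf, hα'⟩ := h0
  choose φ hφ using fun i => IsLocalRing.residue_surjective (R := X.presheaf.stalk (ξ i)) (f i)
  let s := fun i => (Submodule.Quotient.mk (φ i • H23.UnitSec.one (ξ i)) : Cyc.secFibre (Coh.structureModule X) (ξ i))
  have hs : ∀ i, s i ≠ 0 := fun i h => hf i (by
    have h' : (Submodule.Quotient.mk (φ i • H23.UnitSec.one (ξ i)) : Cyc.secFibre (Coh.structureModule X) (ξ i)) =
        Submodule.Quotient.mk ((0 : X.presheaf.stalk (ξ i)) • H23.UnitSec.one (ξ i)) := by rw [zero_smul]; exact h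
    have := H23.UnitSec.residue_eq_of_mk_eq h'
    rw [map_zero] at this
    rw [← hφ i]; exact this)
  have := graph_family hd ξ hlf hξ InvX.isInvertible_structureModule s hs (lf_cycle α)
    (fun x hx => by_contra fun hne => hx (hα x hne)) fun x _ => (hα' x).trans (finsum_congr fun i => by
      rw [H23.UnitSec.secDivFun_eq_divFun hd (hs i) (φ := φ i) rfl,
        show X.residue (ξ i) (φ i) = f i from hφ i])
  let e : (∐ fun i => CohB1.tensorMod (Cyc.closureStructureSheaf (ξ i)) (Coh.structureModule X)) ≅
      ∐ fun i => Cyc.closureStructureSheaf (ξ i) :=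
    Limits.Sigma.mapIso fun i => AmpleVan.twUnit.app (Cyc.closureStructureSheaf (ξ i))
  rw [CycK.iso (a := k + 1) (b := k - 1) e (cohLe_sigma (lfin_of_closure ξ hlf fun i y hy =>
      nontrivial_closureStructureSheaf ((nontrivial_tensor_iff InvX.isInvertible_structureModule y).1 hy))
      fun i => cohLe_tensor InvX.isInvertible_structureModule (cohLe_closureStructureSheaf hd (hξ i).le))] at this
  exact sub_eq_zero.1 (this.symm.trans (sub_self _))

end Groth.Agent.S1956
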