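import Groth.Statements.S19566
import Groth.Agent.StCntLib.Count
import Groth.Agent.StCntLib.FrobPts

set_option autoImplicit false
set_option backward.isDefEq.respectTransparency false
set_option backward.isDefEq.respectTransparency.types false
universe u
open CategoryTheory CategoryTheory.Limits AlgebraicGeometry
open AlgSt

namespace Groth.Agent.S19566

open MonoidalCategory CartesianMonoidalCategory MonObj GrpObj Groth.Agent Groth.Agent.StCntLib

variable {F : Type u} [Field F] [Finite F] {X G : Over (Spec (CommRingCat.of F))} [GrpObj G]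
  {aX : AlgGrp.Action G X}

/-- Every torsor over a finite field under a connected smooth affine group has a section. -/
theorem exists_section [Smooth G.hom] [IsAffineHom G.hom] [ConnectedSpace ↥G.left]
    (A : (QuotObj.forget Scheme.fppfPrecoverage G aX).Fiber (Over.mk (𝟙 (Spec (CommRingCat.of F))))) :
    ∃ t : Over.mk (𝟙 (Spec (CommRingCat.of F))) ⟶ A.1.P, t ≫ A.1.π = eqToHom A.2.symm := by
  obtain ⟨⟨base, P, act, π, cart, ⟨R, hR, hsec⟩, φ, eqv⟩, hA⟩ := A
  change base = _ at hA
  subst hA
  show ∃ t : Over.mk (𝟙 (Spec (CommRingCat.of F))) ⟶ P, t ≫ π = 𝟙 _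
  have huniq : ∀ {Y : Over (Spec (CommRingCat.of F))} (a b : Y ⟶ Over.mk (𝟙 (Spec (CommRingCat.of F)))), a = b :=
    fun a b => (Over.mkIdTerminal (X := Spec (CommRingCat.of F))).hom_ext a b
  -- a geometric point
  obtain ⟨J, W, c, rfl⟩ := R.exists_eq_ofArrows
  obtain ⟨hsurj, hc⟩ := (Scheme.ofArrows_mem_precoverage_iff (@Flat ⊓ @LocallyOfFinitePresentation)).1 hR
  obtain ⟨j, w, -⟩ := hsurj (IsLocalRing.closedPoint F)
  let f : W j ⟶ Spec (CommRingCat.of F) := c j
  obtain ⟨s, hs⟩ := hsec (c j) ⟨j⟩
  haveI : LocallyOfFinitePresentation f := (hc j).2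
  haveI : Nonempty (W j) := ⟨w⟩
  haveI : Surjective f := ⟨fun y => ⟨w, Subsingleton.elim _ _⟩⟩
  obtain ⟨x', hx'⟩ := H23.QCCrit.exists_geomPoint_lift f (AlgebraicClosure F)
    (Spec.map (CommRingCat.ofHom (algebraMap F (AlgebraicClosure F))))
  have hs' : s ≫ P.hom = f := by
    rw [← Over.w π]
    show s ≫ π.left ≫ 𝟙 _ = f
    rw [Category.comp_id]
    exact hs
  let x : SGA7.pt (K := F) (AlgebraicClosure F) ⟶ P := Over.homMk (x' ≫ s) (by
    rw [Category.assoc, hs']
    exact hx')
  -- move it to a fixed point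
  obtain ⟨Fr, σ, hnat, hpow, hσ, hσF⟩ := exists_frob (k := F)
  have hsw : ∀ {Y : Over (Spec (CommRingCat.of F))} (y : SGA7.pt (K := F) (AlgebraicClosure F) ⟶ Y),
      SGA7.specAut σ ≫ y = y ≫ Fr Y := fun y => by rw [hσF]; exact hnat y
  let l := cart.lift (SGA7.specAut σ ≫ x) x (huniq _ _)
  have hl : lift (l ≫ fst G P) x ≫ act.act = SGA7.specAut σ ≫ x := by
    have h2 : l ≫ snd G P = x := cart.lift_snd _ _ _
    rw [show lift (l ≫ fst G P) x = l from by
      apply CartesianMonoidalCategory.hom_ext
      · rw [lift_fst]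
      · rw [lift_snd, h2]]
    exact cart.lift_fst _ _ _
  obtain ⟨h, hh⟩ := exists_coboundary G (l ≫ fst G P) σ (Fr G) (hpow G) (fun h => hsw h)
  have hfix : SGA7.specAut σ ≫ lift h x ≫ act.act = lift h x ≫ act.act := by
    rw [comp_lift_assoc, ← hl, ← AlgGrp.Action.lift_mul_act, ← hh, mul_inv_cancel_left]
  obtain ⟨t, -⟩ := exists_rat_of_fixed (lift h x ≫ act.act) σ hσ hfix
  exact ⟨t, huniq _ _⟩

/-- Let F be a finite field, X a smooth F-scheme of finite type, and G a smooth affine connected F-group
scheme acting on X. Form the quotient stack [X/G] as the category over F-schemes whose objects over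
T are fppf G-torsors P → T (as schemes) with a G-equivariant map P → X, and take its fibre category
over Spec F itself. Then the isomorphism classes of this fibre are finite in number, each of its
objects has a finite automorphism group, and the mass Σ_{[ξ]} 1/#Aut(ξ) over the isomorphism classes
equals #X(F) / #G(F), the number of F-points of X divided by the order of the finite group G(F).
(The published statement allows X to be a smooth Deligne–Mumford stack, with 1/#Aut(x) weights on
the right as well, and G any connected algebraic group; this row is the case of a scheme X and a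
smooth affine G, where F-points of X have no automorphisms.) -/
theorem result
    {F : Type u} [Field F] [Finite F]
    (X G : Over (Spec (CommRingCat.of F))) [GrpObj G] (aX : AlgGrp.Action G X)
    [Smooth X.hom] [QuasiCompact X.hom] [Smooth G.hom] [IsAffineHom G.hom] [ConnectedSpace ↥G.left] :
    Finite (Quotient (isIsomorphicSetoid ((AlgSt.QuotSt Scheme.fppfPrecoverage G aX).p.Fiber (Over.mk (𝟙 (Spec (CommRingCat.of F))))))) ∧
      (∀ ξ : ((AlgSt.QuotSt Scheme.fppfPrecoverage G aX).p.Fiber (Over.mk (𝟙 (Spec (CommRingCat.of F))))), Finite (Aut ξ)) ∧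
      ∑ᶠ c : Quotient (isIsomorphicSetoid ((AlgSt.QuotSt Scheme.fppfPrecoverage G aX).p.Fiber (Over.mk (𝟙 (Spec (CommRingCat.of F)))))), ((Nat.card (Aut c.out) : ℚ))⁻¹ =
        (Nat.card (Over.mk (𝟙 (Spec (CommRingCat.of F))) ⟶ X) : ℚ) /
          (Nat.card (Over.mk (𝟙 (Spec (CommRingCat.of F))) ⟶ G) : ℚ) := by
  haveI : QuasiCompact G.hom := inferInstance
  haveI := finite_ratPts G
  haveI := finite_ratPts X
  exact StCntLib.count fun A => exists_section A

end Groth.Agent.S19566
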