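import Groth.Statements.S19569
import Mathlib
import Groth.Agent.DirColim.Descend

set_option autoImplicit false
universe u
open CAlg

namespace Groth.Agent.S19569

open TensorProduct in
/-- Let A be the colimit of a directed system of rings (A_i), given by compatible ring maps A_i → A
which are jointly surjective and such that an element of some A_i mapping to zero in A already maps
to zero in some later A_j, and let B be an étale A-algebra. Then for some index i there is an étale
A_i-algebra B_i such that B is isomorphic, as an A-algebra, to the base change A ⊗_{A_i} B_i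
(existence of an isomorphism). (Stated for a system indexed by a directed preordered set.) -/
theorem result {ι : Type u} [Preorder ι] [IsDirected ι (· ≤ ·)] [Nonempty ι]
    (G : ι → Type u) [∀ i, CommRing (G i)] (f : ∀ i j, i ≤ j → (G i →+* G j))
    (A : Type u) [CommRing A] (g : ∀ i, G i →+* A) (hg : ∀ i j (h : i ≤ j), (g j).comp (f i j h) = g i)
    (hsurj : ∀ a : A, ∃ i, ∃ x : G i, g i x = a)
    (hker : ∀ i (x : G i), g i x = 0 → ∃ j, ∃ h : i ≤ j, f i j h x = 0)
    (B : Type u) [CommRing B] [Algebra A B] [Algebra.Etale A B] :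
    ∃ (i : ι) (Bi : Type u) (_ : CommRing Bi) (_ : Algebra (G i) Bi), Algebra.Etale (G i) Bi ∧
      letI : Algebra (G i) A := (g i).toAlgebra
      Nonempty (B ≃ₐ[A] A ⊗[G i] Bi) := by
  classical
  let P := Algebra.Presentation.ofFinitePresentation A B
  let c : Set A := P.coeffs
  have hcfin : c.Finite := P.finite_coeffs
  haveI : Fintype c := hcfin.fintype
  let R₀ := MvPolynomial c ℤ
  letI algA : Algebra R₀ A := (MvPolynomial.aeval (R := ℤ) (fun a : c => (a : A))).toRingHom.toAlgebra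
  letI algB : Algebra R₀ B := ((algebraMap A B).comp (algebraMap R₀ A)).toAlgebra
  haveI : IsScalarTower R₀ A B := IsScalarTower.of_algebraMap_eq fun _ => rfl
  haveI : P.HasCoeffs R₀ := ⟨fun a ha => ⟨MvPolynomial.X ⟨a, ha⟩, by
    show MvPolynomial.aeval (R := ℤ) (fun a : c => (a : A)) (MvPolynomial.X ⟨a, ha⟩) = a
    exact MvPolynomial.aeval_X _ _⟩⟩
  let C := P.ModelOfHasCoeffs R₀
  let e : A ⊗[R₀] C ≃ₐ[A] B := P.tensorModelOfHasCoeffsEquiv R₀
  haveI hEtA : Algebra.Etale A (A ⊗[R₀] C) := Algebra.Etale.of_equiv e.symm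
  have hcol : DirColim.IsColim (fun i => (g i).toIntAlgHom) := DirColim.IsColim.of_system
    (fun i j h => (f i j h).toIntAlgHom) _
    (fun i j h => AlgHom.ext fun x => RingHom.congr_fun (hg i j h) x) hsurj hker
  let J := Σ j : ι, {x : c → G j // ∀ a, g j (x a) = (a : A)}
  letI algG : ∀ j : J, Algebra R₀ (G j.1) := fun j =>
    (MvPolynomial.aeval (R := ℤ) j.2.1).toRingHom.toAlgebra
  have hcomm : ∀ (j : J) (p : R₀), g j.1 (algebraMap R₀ (G j.1) p) = algebraMap R₀ A p := by
    intro j p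
    show g j.1 (MvPolynomial.aeval (R := ℤ) j.2.1 p) = MvPolynomial.aeval (R := ℤ) (fun a : c => (a : A)) p
    rw [show MvPolynomial.aeval (R := ℤ) (fun a : c => (a : A)) =
      ((g j.1).toIntAlgHom).comp (MvPolynomial.aeval (R := ℤ) j.2.1) from
      MvPolynomial.algHom_ext fun a => by simp [j.2.2 a]]
    rfl
  let g' : ∀ j : J, G j.1 →ₐ[R₀] A := fun j => { g j.1 with commutes' := hcomm j }
  have mkTrans : ∀ (j k : J) (φ : G j.1 →+* G k.1), (g k.1).comp φ = g j.1 →
      (∀ a, φ (j.2.1 a) = k.2.1 a) →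
      ∃ ψ : DirColim.Trans g' j k, ∀ x, ψ.1 x = φ x := by
    intro j k φ h1 h2
    have hc : ∀ p : R₀, φ (algebraMap R₀ (G j.1) p) = algebraMap R₀ (G k.1) p := by
      intro p
      show φ (MvPolynomial.aeval (R := ℤ) j.2.1 p) = MvPolynomial.aeval (R := ℤ) k.2.1 p
      rw [show MvPolynomial.aeval (R := ℤ) k.2.1 = φ.toIntAlgHom.comp (MvPolynomial.aeval (R := ℤ) j.2.1) from
        MvPolynomial.algHom_ext fun a => by simp [h2 a]]
      rfl
    exact ⟨⟨{ φ with commutes' := hc }, AlgHom.ext fun x => RingHom.congr_fun h1 x⟩, fun x => rfl⟩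
  have hlift : ∀ (i : ι), ∃ j : J, Nonempty (DirColim.Trans (fun i => (g i).toIntAlgHom) i j.1) := by
    intro i
    obtain ⟨l, y, hy⟩ := hcol.surj_fintype (fun a : c => (a : A))
    obtain ⟨k, ⟨φ⟩, ⟨ψ⟩⟩ := hcol.directed i l
    refine ⟨⟨k, fun a => ψ.1 (y a), fun a => ?_⟩, ⟨φ⟩⟩
    exact (ψ.apply (y a)).trans (hy a)
  have hcol' : DirColim.IsColim g' := by
    refine ⟨fun a => ?_, fun j k => ?_, fun j x hx => ?_⟩
    · obtain ⟨i, x, hx⟩ := hsurj a
      obtain ⟨j, ⟨φ⟩⟩ := hlift i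
      exact ⟨j, φ.1 x, (φ.apply x).trans hx⟩
    · obtain ⟨l, ⟨φ⟩, ⟨ψ⟩⟩ := hcol.directed j.1 k.1
      obtain ⟨m, χ, hχ⟩ := hcol.ker_finset Finset.univ l (fun a : c => φ.1 (j.2.1 a) - ψ.1 (k.2.1 a))
        (fun a _ => by
          rw [map_sub, φ.apply, ψ.apply]
          show g j.1 _ - g k.1 _ = 0
          rw [j.2.2, k.2.2, sub_self])
      let n : J := ⟨m, fun a => χ.1 (φ.1 (j.2.1 a)), fun a => by
        refine (χ.apply _).trans ((φ.apply _).trans ?_)
        exact j.2.2 a⟩
      obtain ⟨t1, -⟩ := mkTrans j n (χ.1.toRingHom.comp φ.1.toRingHom)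
        (RingHom.ext fun x => (χ.apply _).trans (φ.apply x)) (fun a => rfl)
      obtain ⟨t2, -⟩ := mkTrans k n (χ.1.toRingHom.comp ψ.1.toRingHom)
        (RingHom.ext fun x => (χ.apply _).trans (ψ.apply x)) (fun a => by
          have := hχ a (Finset.mem_univ a)
          rw [map_sub, sub_eq_zero] at this
          exact this.symm)
      exact ⟨n, ⟨t1⟩, ⟨t2⟩⟩
    · obtain ⟨m, χ, hχ⟩ := hcol.ker j.1 x hx
      let n : J := ⟨m, fun a => χ.1 (j.2.1 a), fun a => (χ.apply _).trans (j.2.2 a)⟩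
      obtain ⟨t, ht⟩ := mkTrans j n χ.1.toRingHom (RingHom.ext fun x => χ.apply x) (fun a => rfl)
      exact ⟨n, t, (ht x).trans hχ⟩
  obtain ⟨j, hj⟩ := DirColim.exists_etale (C := C) hcol' hEtA
  refine ⟨j.1, G j.1 ⊗[R₀] C, inferInstance, inferInstance, hj, ?_⟩
  letI : Algebra (G j.1) A := (g j.1).toAlgebra
  haveI : IsScalarTower R₀ (G j.1) A := IsScalarTower.of_algebraMap_eq fun p => (hcomm j p).symm
  exact ⟨e.symm.trans (Algebra.TensorProduct.cancelBaseChange R₀ (G j.1) A A C).symm⟩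

end Groth.Agent.S19569
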