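import Groth.Statements.S19579
import Groth.Agent.H23.CubeConn
import Groth.Agent.SeesawGen.ProductPic

set_option autoImplicit false
set_option backward.isDefEq.respectTransparency false
set_option backward.isDefEq.respectTransparency.types false
set_option maxHeartbeats 1000000
set_option linter.style.haveILetI false
universe u
open CategoryTheory CategoryTheory.Limits MonoidalCategory CartesianMonoidalCategory MonObj AlgebraicGeometry
open AbVar

namespace Groth.Agent.S19579
open Groth.Agent
open scoped Groth.Agent.H23.PicMul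

/-- The implication from triviality of the Mumford bundle on one fibre to its triviality relative to the
base, with the identification of the descended bundle. Let X be an abelian variety over a field k
(proper, geometrically integral k-group scheme with multiplication m and unit e), T a connected
locally Noetherian k-scheme and L an invertible module on X ×_k T. On X ×_k X ×_k T let m_T, p_13,
p_23 be the maps to X ×_k T induced by m and by the two projections X × X → X, π the projection to
T, and e_T : T → X ×_k T the unit section. If there is a point t of T over whose fibre X × X × Spec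
k(t) the modules m_T^*L and p_13^*L ⊗ p_23^*L become isomorphic (equivalently the Mumford bundle
Λ(L) = m_T^*L ⊗ p_13^*L⁻¹ ⊗ p_23^*L⁻¹ is trivial on one fibre), then m_T^*L ⊗ π^*(e_T^*L) and
p_13^*L ⊗ p_23^*L are isomorphic on all of X × X × T, i.e. Λ(L) ≅ π^*N with N = e_T^*L⁻¹ (existence
of an isomorphism). -/
theorem result (k : Type u) [Field k]
    (X T : Over (Spec (CommRingCat.of k)))
    [GrpObj X] [IsProper X.hom] [GeometricallyIntegral X.hom]
    [IsLocallyNoetherian T.left] [ConnectedSpace ↥T.left]
    (L : (X ⊗ T).left.Modules) (hL : PicF.IsInvertible L)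
    (t : ↥T.left)
    (ht : Nonempty
      ((Scheme.Modules.pullback (pullback.fst (snd (X ⊗ X) T).left
          (T.left.fromSpecResidueField t))).obj
          ((Scheme.Modules.pullback (μ[X] ▷ T).left).obj L) ≅
       (Scheme.Modules.pullback (pullback.fst (snd (X ⊗ X) T).left
          (T.left.fromSpecResidueField t))).obj
          (CohB1.tensorMod ((Scheme.Modules.pullback (fst X X ▷ T).left).obj L)
            ((Scheme.Modules.pullback (snd X X ▷ T).left).obj L)))) :
    Nonempty
      (CohB1.tensorMod ((Scheme.Modules.pullback (μ[X] ▷ T).left).obj L)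
          ((Scheme.Modules.pullback (snd (X ⊗ X) T).left).obj
            ((Scheme.Modules.pullback (CartesianMonoidalCategory.lift (toUnit T ≫ η[X]) (𝟙 T)).left).obj L)) ≅
        CohB1.tensorMod ((Scheme.Modules.pullback (fst X X ▷ T).left).obj L)
          ((Scheme.Modules.pullback (snd X X ▷ T).left).obj L)) := by
  let σT := (CartesianMonoidalCategory.lift (toUnit T ≫ η[X]) (𝟙 T))
  let N := (Scheme.Modules.pullback σT.left).obj L
  let A := CohB1.tensorMod ((Scheme.Modules.pullback (μ[X] ▷ T).left).obj L)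
    ((Scheme.Modules.pullback (snd (X ⊗ X) T).left).obj N)
  let B := CohB1.tensorMod ((Scheme.Modules.pullback (fst X X ▷ T).left).obj L)
    ((Scheme.Modules.pullback (snd X X ▷ T).left).obj L)
  have hB : PicF.IsInvertible B :=
    InvX.isInvertible_tensorMod (PicClLib.isInvertible_pullback _ hL) (PicClLib.isInvertible_pullback _ hL)
  obtain ⟨D, hD, eD⟩ := H23.PicInv.exists_inverse hB
  have hBD : PicF.cl B * PicF.cl D = 1 := (PicGrp.cl_eq_cl_iff _ _).2 eD
  let M := CohB1.tensorMod A D
  have hM : PicF.IsInvertible M := InvX.isInvertible_tensorMod (InvX.isInvertible_tensorMod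
    (PicClLib.isInvertible_pullback _ hL) (PicClLib.isInvertible_pullback _ (PicClLib.isInvertible_pullback _ hL))) hD
  -- a test for triviality of `M` after a pullback
  have test : ∀ {Z : Scheme.{u}} (g : Z ⟶ ((X ⊗ X) ⊗ T).left),
      PicF.pullCl g (PicF.cl A) = PicF.pullCl g (PicF.cl B) → H23.TrivBasic.Triv ((Scheme.Modules.pullback g).obj M) := by
    intro Z g h
    refine (PicGrp.cl_eq_cl_iff _ _).1 ?_
    show PicF.pullCl g (PicF.cl A * PicF.cl D) = 1
    rw [H23.PicMul.pullCl_mul, h, ← H23.PicMul.pullCl_mul, hBD, H23.PicMul.pullCl_one]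
  have hpull : ∀ {U V W : Over (Spec (CommRingCat.of k))} (g : U ⟶ V) (g' : V ⟶ W) (h : U ⟶ W) (c : PicF.Cl W.left),
      g ≫ g' = h → PicF.pullCl g.left (PicF.pullCl g'.left c) = PicF.pullCl h.left c := fun g g' h c e => by
    rw [PicClLib.pullCl_comp, ← Over.comp_left, e]
  have hclA : PicF.cl A = PicF.pullCl (μ[X] ▷ T).left (PicF.cl L) *
      PicF.pullCl (snd (X ⊗ X) T).left (PicF.pullCl σT.left (PicF.cl L)) := rfl
  have hclB : PicF.cl B = PicF.pullCl (fst X X ▷ T).left (PicF.cl L) * PicF.pullCl (snd X X ▷ T).left (PicF.cl L) := rfl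
  have hX := H23.Rigid.bijective_appTop X.hom
  have hMain : H23.TrivBasic.Triv M := by
    refine H23.CubeConn.cube X X hX hX η[X] η[X] T M hM (test _ ?_) (test _ ?_) t
      ((H23.SeesawGlobal.fieldTriv_iff_residueField _).2 (test _ ?_))
    · let σ := CartesianMonoidalCategory.lift (toUnit X ≫ η[X]) (𝟙 X)
      have hm : σ ≫ μ[X] = 𝟙 X := by
        show CartesianMonoidalCategory.lift (toUnit X ≫ η[X]) (𝟙 X) ≫ μ[X] = 𝟙 X
        simp [MonObj.lift_comp_one_left]
      rw [hclA, hclB, H23.PicMul.pullCl_mul, H23.PicMul.pullCl_mul,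
        hpull (σ ▷ T) (μ[X] ▷ T) (𝟙 _) _ (by rw [← comp_whiskerRight, hm, id_whiskerRight]),
        hpull (σ ▷ T) (snd (X ⊗ X) T) (snd X T) _ (whiskerRight_snd _ _),
        hpull (σ ▷ T) (fst X X ▷ T) (snd X T ≫ σT) _ (by
          rw [← comp_whiskerRight, lift_fst]
          ext <;> simp [σT, comp_toUnit_assoc]),
        hpull (σ ▷ T) (snd X X ▷ T) (𝟙 _) _ (by rw [← comp_whiskerRight, lift_snd, id_whiskerRight]),
        hpull (snd X T) σT (snd X T ≫ σT) _ rfl]
      exact mul_comm _ _
    · let σ := CartesianMonoidalCategory.lift (𝟙 X) (toUnit X ≫ η[X])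
      have hm : σ ≫ μ[X] = 𝟙 X := by
        show CartesianMonoidalCategory.lift (𝟙 X) (toUnit X ≫ η[X]) ≫ μ[X] = 𝟙 X
        simp [MonObj.lift_comp_one_right]
      rw [hclA, hclB, H23.PicMul.pullCl_mul, H23.PicMul.pullCl_mul,
        hpull (σ ▷ T) (μ[X] ▷ T) (𝟙 _) _ (by rw [← comp_whiskerRight, hm, id_whiskerRight]),
        hpull (σ ▷ T) (snd (X ⊗ X) T) (snd X T) _ (whiskerRight_snd _ _),
        hpull (σ ▷ T) (fst X X ▷ T) (𝟙 _) _ (by rw [← comp_whiskerRight, lift_fst, id_whiskerRight]),
        hpull (σ ▷ T) (snd X X ▷ T) (snd X T ≫ σT) _ (by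
          rw [← comp_whiskerRight, lift_snd]
          ext <;> simp [σT, comp_toUnit_assoc]),
        hpull (snd X T) σT (snd X T ≫ σT) _ rfl]
    · have h := (PicGrp.cl_eq_cl_iff _ _).2 ht
      have h1 : PicF.pullCl (pullback.fst (snd (X ⊗ X) T).left (T.left.fromSpecResidueField t))
          (PicF.pullCl (snd (X ⊗ X) T).left (PicF.pullCl σT.left (PicF.cl L))) = 1 := by
        rw [PicClLib.pullCl_comp, pullback.condition, ← PicClLib.pullCl_comp,
          SeesawGen.cl_eq_one_of_field (PicClLib.isInvertibleCl_pullCl _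
            (PicClLib.isInvertibleCl_pullCl _ ⟨L, rfl, hL⟩)), H23.PicMul.pullCl_one]
      rw [hclA, H23.PicMul.pullCl_mul, h1, _root_.mul_one]
      exact h
  refine (PicGrp.cl_eq_cl_iff _ _).1 ?_
  show PicF.cl A = PicF.cl B
  have h : PicF.cl A * PicF.cl D = 1 := (PicGrp.cl_eq_cl_iff _ _).2 hMain
  calc PicF.cl A = PicF.cl A * (PicF.cl B * PicF.cl D) := by rw [hBD, _root_.mul_one]
    _ = PicF.cl B := by rw [mul_left_comm, h, _root_.mul_one]

end Groth.Agent.S19579
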