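import Groth.Statements.S19593
import Groth.Agent.SymX.ImmPoint
import Groth.Agent.AmpleX.Locus
import Groth.Agent.InvX.Tensor

set_option autoImplicit false
set_option backward.isDefEq.respectTransparency false
set_option backward.isDefEq.respectTransparency.types false
set_option maxHeartbeats 1000000
set_option linter.style.haveILetI false
universe u
open CategoryTheory AlgebraicGeometry
open PicF

namespace Groth.Agent.S19593

open Groth.Agent

/-- Let k be an infinite field, Y a scheme proper over k with a relatively very ample O_Y-module A (the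
pullback of O(1) along an immersion of Y into the Proj of a symmetric algebra over k), and y_1, …,
y_m finitely many points of Y. Then some global section of A generates A at every y_i. (The
published statement takes Y projective over k and A a very ample line bundle; here Y is proper over
k and A very ample relative to Y → Spec k, which makes Y projective.) -/
theorem result
    (k : Type u) [Field k] [Infinite k] (Y : Scheme.{u}) (f : Y ⟶ Spec (CommRingCat.of k)) [IsProper f]
    (A : Y.Modules) (hA : RelProj.IsRelVeryAmple f A)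
    (ι : Type) [Finite ι] (y : ι → ↥Y) :
    ∃ s : Coh.structureModule Y ⟶ A, ∀ i : ι, y i ∈ CohB1.genLocus A s := by
  classical
  cases nonempty_fintype ι
  obtain ⟨hAi, hgen⟩ : PicF.IsInvertible A ∧ ∀ x : Y, ∃ a : Γ(A, ⊤), x ∈ AmpleX.locus a := by
    obtain ⟨E, hE, θ, hθ⟩ := SymX.exists_immPoints_of_isRelVeryAmple hA
    have h : ∀ x : Y, ∃ a : Γ(A, ⊤), x ∈ AmpleX.locus a := fun x => by
      obtain ⟨U, hU, e, hy⟩ := hθ.gen x
      have hUy : x ∈ f ⁻¹ᵁ U := AmpleX.locus_le _ hy
      obtain rfl : U = ⊤ := eq_top_iff.2 fun z _ => Subsingleton.elim (f x) z ▸ hUy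
      exact ⟨_, hy⟩
    refine ⟨InvX.isInvertible_of_frames fun x => ?_, h⟩
    obtain ⟨a, ha⟩ := h x
    exact ⟨_, ha, _, AmpleX.isFrame_res_locus a⟩
  let φ : k →+* Γ(Y, ⊤) := f.appTop.hom.comp (Scheme.ΓSpecIso (CommRingCat.of k)).inv.hom
  obtain ⟨m, ⟨en⟩⟩ := Finite.exists_equiv_fin ι
  have hfr := fun i => InvX.exists_frame hAi (y i)
  choose U hyU e he using hfr
  have hco : ∀ i, ∀ a : Γ(A, ⊤), ∃ c, AModX.res A (le_top : U i ≤ ⊤) a = c • e i := fun i a => by
    obtain ⟨c, hc⟩ := (he i).exists_coord le_rfl (AModX.res A (le_top : U i ≤ ⊤) a)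
    rw [AModX.res_self] at hc
    exact ⟨c, hc⟩
  choose c hc using hco
  choose t ht using fun j : Fin m => hgen (y (en.symm j))
  let ev : ∀ i, Γ(Y, U i) →+* Y.residueField (y i) := fun i => (Y.evaluation (U i) (y i) (hyU i)).hom
  let ψ : ∀ i, k →+* Y.residueField (y i) := fun i => (ev i).comp ((AModX.resR le_top).comp φ)
  let p : ∀ i, Polynomial (Y.residueField (y i)) := fun i =>
    ∑ j : Fin m, Polynomial.C (ev i (c i (t j))) * Polynomial.X ^ (j : ℕ)
  have hp : ∀ i, p i ≠ 0 := fun i h0 => by
    have h1 := congrArg (fun q => Polynomial.coeff q (en i : ℕ)) h0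
    simp only [p, Polynomial.finsetSum_coeff, Polynomial.coeff_C_mul_X_pow, Polynomial.coeff_zero] at h1
    rw [Finset.sum_eq_single (en i) (fun j _ hj => if_neg fun h => hj (Fin.ext h.symm))
      (fun h => absurd (Finset.mem_univ _) h), if_pos rfl] at h1
    have h2 := ht (en i)
    rw [en.symm_apply_apply] at h2
    have h3 : y i ∈ AmpleX.locus (t (en i)) ⊓ U i := ⟨h2, hyU i⟩
    rw [AmpleX.locus_inf _ le_top (he i) (hc i _)] at h3
    exact (Y.evaluation_eq_zero_iff_notMem_basicOpen _ _ _).1 h1 h3
  have hfin : (⋃ i, ψ i ⁻¹' {x | (p i).eval x = 0}).Finite :=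
    Set.finite_iUnion fun i => Set.Finite.preimage (ψ i).injective.injOn
      (Polynomial.finite_setOf_isRoot (hp i))
  obtain ⟨l, hl⟩ := hfin.infinite_compl.nonempty
  let a : Γ(A, ⊤) := ∑ j : Fin m, φ (l ^ (j : ℕ)) • t j
  refine ⟨InvX.ofSect a, fun i => ?_⟩
  rw [AmpleX.genLocus_eq_locus, InvX.one_ofSect]
  have hca : AModX.res A (le_top : U i ≤ ⊤) a =
      (∑ j : Fin m, AModX.resR le_top (φ (l ^ (j : ℕ))) * c i (t j)) • e i := by
    rw [map_sum, Finset.sum_smul]
    exact Finset.sum_congr rfl fun j _ => by rw [AModX.res_smul, hc i (t j), mul_smul]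
  have h4 : y i ∈ AmpleX.locus a ⊓ U i := by
    rw [AmpleX.locus_inf a le_top (he i) hca]
    by_contra hnot
    have h5 := (Y.evaluation_eq_zero_iff_notMem_basicOpen _ (hyU i) _).2 hnot
    refine hl (Set.mem_iUnion.2 ⟨i, ?_⟩)
    show (p i).eval (ψ i l) = 0
    rw [← h5]
    show _ = ev i _
    simp only [p, Polynomial.eval_finsetSum, Polynomial.eval_mul, Polynomial.eval_C, Polynomial.eval_pow,
      Polynomial.eval_X, map_sum, map_mul, ψ, RingHom.comp_apply, map_pow]
    exact Finset.sum_congr rfl fun j _ => mul_comm _ _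
  exact h4.1

end Groth.Agent.S19593
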