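import Groth.Statements.S19618
import Groth.Agent.VBPnX.ProperMeet

set_option autoImplicit false
universe u
open CategoryTheory CategoryTheory.Limits AlgebraicGeometry Opposite TopologicalSpace
open BlowUp

namespace Groth.Agent.S19618

/-- Let X be a locally Noetherian scheme, Y an effective Cartier divisor on X (a quasi-coherent ideal
sheaf which, near every point, is generated on some affine open by one nonzerodivisor; Y is its
support) and Z a closed integral subscheme (a closed immersion i from an integral scheme with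
generic point ξ). If Y and Z intersect properly — every point ζ of Y ∩ Z which is maximal under
generization inside Y ∩ Z satisfies dim O_{X,ζ} = codim(Y,X) + codim(Z,X), where codim(Y,X) is the
infimum over y ∈ Y of dim O_{X,y} and codim(Z,X) = dim O_{X,i(ξ)} — then Z is not contained in Y. -/
theorem result {X Z : Scheme.{u}}
    [IsLocallyNoetherian X] (𝓘 : X.IdealSheafData) (hY : BlowUp.IsEffCartierIdeal 𝓘)
    (i : Z ⟶ X) [IsClosedImmersion i] [IsIntegral Z]
    (hprop : ∀ ζ : ↥X, ζ ∈ (𝓘.support : Set ↥X) ∩ Set.range i.base →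
        (∀ ζ' : ↥X, ζ' ∈ (𝓘.support : Set ↥X) ∩ Set.range i.base → ζ' ⤳ ζ → ζ' = ζ) →
        ringKrullDim ↑(X.presheaf.stalk ζ) =
          (⨅ y : (𝓘.support : Set ↥X), ringKrullDim ↑(X.presheaf.stalk y.1)) +
            ringKrullDim ↑(X.presheaf.stalk (i (genericPoint ↥Z)))) :
    ¬ Set.range i.base ⊆ (𝓘.support : Set ↥X) := by
  intro hsub
  set η := i (genericPoint ↥Z) with hη
  have hηS : η ∈ (𝓘.support : Set ↥X) := hsub ⟨_, rfl⟩
  have hmin : ∀ ζ' : ↥X, ζ' ∈ (𝓘.support : Set ↥X) ∩ Set.range i.base → ζ' ⤳ η → ζ' = η := by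
    rintro ζ' ⟨-, z, rfl⟩ hz
    exact (hz.antisymm ((genericPoint_specializes z).map i.continuous)).eq
  have h := hprop η ⟨hηS, _, rfl⟩ hmin
  have h1 : (1 : WithBot ℕ∞) ≤ ⨅ y : (𝓘.support : Set ↥X), ringKrullDim ↑(X.presheaf.stalk y.1) := by
    refine le_iInf fun y => ?_
    rw [ringKrullDim_stalk_eq_coheight y.1]
    exact_mod_cast VBPnX.ProperMeet.one_le_coheight hY y.2
  haveI : IsNoetherianRing (X.presheaf.stalk η) := inferInstance
  obtain ⟨d, hd⟩ : ∃ d : ℕ, ringKrullDim ↑(X.presheaf.stalk η) = (d : WithBot ℕ∞) := by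
    have h2 := IsLocalRing.maximalIdeal_height_eq_ringKrullDim (R := X.presheaf.stalk η)
    have h3 := Ideal.height_ne_top (I := IsLocalRing.maximalIdeal (X.presheaf.stalk η))
      (IsLocalRing.maximalIdeal.isMaximal _).ne_top
    obtain ⟨d, hd⟩ := WithTop.ne_top_iff_exists.1 h3
    exact ⟨d, by rw [← h2, ← hd]; rfl⟩
  have h4 : (1 : WithBot ℕ∞) + d ≤ d := by
    calc (1 : WithBot ℕ∞) + d ≤ (⨅ y : (𝓘.support : Set ↥X), ringKrullDim ↑(X.presheaf.stalk y.1)) + d :=
          add_le_add_left h1 _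
      _ = d := by rw [← hd]; exact h.symm
  have h5 : 1 + d ≤ d := by exact_mod_cast h4
  omega

end Groth.Agent.S19618
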