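import Groth.Statements.S19625
import Groth.Agent.IntSym.CurveSurface
import Groth.Agent.GrpSchLib.SmoothRegular
import Groth.Agent.PnCoh.Chow.Proper
import Groth.Agent.DepthTwist.Connected
-- import your own Groth.Agent.* helpers here

set_option autoImplicit false
set_option linter.style.haveILetI false
set_option backward.isDefEq.respectTransparency false
set_option backward.isDefEq.respectTransparency.types false
set_option maxHeartbeats 800000
universe u
open CategoryTheory CategoryTheory.Limits AlgebraicGeometry
open Surf

open Groth.Agent.H23.PicMul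
open scoped Groth.Agent.H23.PicMul

namespace Groth.Agent.S19625


/-- Let k be a field and S an integral surface (dimension two) which is smooth over k and projective (a
closed immersion into some P^n_k over k). Let i : C → S be the closed immersion of an integral curve
(dimension one) all of whose local rings are regular, with ideal sheaf I ⊆ O_S, and let N =
Hom(i^*I, O_C) be the normal sheaf of C in S, the dual of the conormal sheaf i^*I (the sheaf Hom,
assumed to exist as the right adjoint of tensoring with i^*I). Then the self-intersection number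
C·C, namely the intersection number of O_S(C) with itself computed as the alternating sum χ(O_S) −
2χ(I) + χ(I ⊗ I) with the inverse I = O_S(−C) of O_S(C) (packaged as FGA.intNum), equals the degree
of N on C, the degree of a module M on C being χ(M) − χ(O_C). -/
theorem result (k : Type u) [Field k] (S : Scheme.{u}) [S.Over (Spec (CommRingCat.of k))]
    [IsIntegral S] (hdim : topologicalKrullDim S = 2) [Smooth (S ↘ (Spec (CommRingCat.of k)))]
    (hproj : ∃ (n : ℕ) (ι : S ⟶ CohB1.ProjSpace n k), IsClosedImmersion ι ∧ ι ≫ CohB1.ProjSpace.toSpec n k = (S ↘ (Spec (CommRingCat.of k))))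
    (C : Scheme.{u}) (i : C ⟶ S) [IsClosedImmersion i] [IsIntegral C] (hC : topologicalKrullDim C = 1)
    (hCreg : ∀ c : C, IsRegularLocalRing (C.presheaf.stalk c))
    [DCoh.HasSheafHom (Omega.conormal i)] :
    letI : C.Over (Spec (CommRingCat.of k)) := ⟨i ≫ (S ↘ (Spec (CommRingCat.of k)))⟩
    FGA.intNum k S 2 ![ClSub.idealMod i.ker, ClSub.idealMod i.ker] (Coh.structureModule S) =
      Curv2.deg k C ((DCoh.sheafHom (Omega.conormal i)).obj (Coh.structureModule C)) 1 := by
  obtain ⟨n, ι, hι, hιk⟩ := hproj
  haveI := hι
  haveI : IsProper (CohB1.ProjSpace.toSpec n k) := PnCoh.Chow.isProper_toSpec n k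
  haveI : IsProper (S ↘ Spec (CommRingCat.of k)) := by rw [← hιk]; infer_instance
  haveI := CurveCohLib.isNoetherian_of_proper (k := k) (X := S)
  letI : C.Over (Spec (CommRingCat.of k)) := ⟨i ≫ (S ↘ (Spec (CommRingCat.of k)))⟩
  have hd : topologicalKrullDim S = ((2 : ℕ) : WithBot ℕ∞) := hdim
  have hC' : topologicalKrullDim C = ((1 : ℕ) : WithBot ℕ∞) := hC
  have hreg : ∀ x : S, IsRegularLocalRing (S.presheaf.stalk x) :=
    GrpSchLib.isRegularLocalRing_stalk_of_smooth (S ↘ Spec (CommRingCat.of k))
  have hdeg : ∀ M : S.Modules, PicF.IsInvertible M → Curv2.deg k C ((Scheme.Modules.pullback i).obj M) 1 =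
      IntSym.sym k [M] ((Coh.push i).obj (Coh.structureModule C)) := fun M hM => by
    rw [IntNum.deg_pullback_closed k i rfl (AmpleVan.isCoh_invertible hM).1 1, Nat.cast_one, _root_.one_mul,
      IntSym.sym_singleton]
  have hI := (S8914.result i.ker).2 (IntSym.CurveSurface.isEffCartier_ker k hd hreg i hC')
  obtain ⟨L, hL, ⟨u⟩⟩ := H23.PicInv.exists_inverse hI
  let u' : CohB1.tensorMod L (ClSub.idealMod i.ker) ≅ Coh.structureModule S :=
    CurveTensor.commIso L (ClSub.idealMod i.ker) ≪≫ u
  obtain ⟨e⟩ : Nonempty ((DCoh.sheafHom (Omega.conormal i)).obj (Coh.structureModule C) ≅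
      (Scheme.Modules.pullback i).obj L) := by
    have hE : PicF.IsInvertible (Omega.conormal i) := PicClLib.isInvertible_pullback i hI
    haveI := DepthTwist.isEquivalence_tensorLeft hE
    let c := (DCoh.sheafHomAdj (Omega.conormal i)).counit.app (Coh.structureModule C)
    let a : CohB1.tensorMod (Omega.conormal i) ((Scheme.Modules.pullback i).obj L) ≅ Coh.structureModule C :=
      (IntNum.pullTensor i (ClSub.idealMod i.ker) L).symm ≪≫ (Scheme.Modules.pullback i).mapIso u ≪≫ CurveBC.unitIso i
    exact ⟨(DCoh.tensorBi.obj (Omega.conormal i)).preimageIso (asIso c ≪≫ a.symm)⟩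
  rw [IntSym.CurveSurface.intNum_curve k hd hreg i hC' hL u', ← hdeg L hL]
  unfold Curv2.deg
  rw [CurveCohLib.euler_congr (k := k) e]

end Groth.Agent.S19625
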