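import Groth.Statements.S19642
import Groth.Agent.QuotLib.BGChart
import Groth.Agent.QuotLib.AtlasProps
import Groth.Agent.AlgStLib.FppfImage
import Groth.Agent.AlgStLib.SepUnivClosed
import Groth.Agent.AlgStLib.Substack
import Groth.Agent.S12795

set_option backward.isDefEq.respectTransparency false
set_option backward.isDefEq.respectTransparency.types false

set_option autoImplicit false
universe u
open CategoryTheory AlgebraicGeometry MonoidalCategory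
open AlgSt

namespace Groth.Agent.S19642

open Groth.Agent.FibBase Groth.Agent.IsoNatLib Groth.Agent.QuotLib Groth.Agent.AlgStLib
open CategoryTheory.Functor

/-- Being locally a value of the point. -/
def LocVal {S : Scheme.{u}} {𝒳 : AlgSt.Cat S} (x : FibCat.overCat (Over.mk (𝟙 S)) ⥤ᵇ 𝒳) : ObjectProperty 𝒳.obj :=
  fun A => ∃ R ∈ QuotSh.J Scheme.fppfPrecoverage S (𝒳.p.obj A), ∀ ⦃V : Over S⦄ (f : V ⟶ 𝒳.p.obj A), R f →
    ∃ φ : x.obj (BGChart.toId V) ⟶ A, 𝒳.p.IsHomLift f φ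

theorem locVal_of_hom {S : Scheme.{u}} {𝒳 : AlgSt.Cat S} (hX : FibCat.IsFibGrpd 𝒳.p)
    (x : FibCat.overCat (Over.mk (𝟙 S)) ⥤ᵇ 𝒳) {B A : 𝒳.obj} (φ : B ⟶ A) (h : LocVal x A) : LocVal x B := by
  obtain ⟨R, hR, hR'⟩ := h
  refine ⟨R.pullback (𝒳.p.map φ), (QuotSh.J Scheme.fppfPrecoverage S).pullback_stable _ hR, fun V f hf => ?_⟩
  obtain ⟨ψ, hψ⟩ := hR' _ hf
  have := hX.isStronglyCartesian φ
  obtain ⟨t, ⟨ht, -⟩, -⟩ := IsStronglyCartesian.universal_property 𝒳.p (𝒳.p.map φ) φ f (f ≫ 𝒳.p.map φ) rfl ψ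
  exact ⟨t, ht⟩

theorem locVal_value {S : Scheme.{u}} {𝒳 : AlgSt.Cat S} (x : FibCat.overCat (Over.mk (𝟙 S)) ⥤ᵇ 𝒳) (T : Over S) :
    LocVal x (x.obj (BGChart.toId T)) := by
  refine ⟨⊤, (QuotSh.J Scheme.fppfPrecoverage S).top_mem _, fun V f _ => ?_⟩
  have e : 𝒳.p.obj (x.obj (BGChart.toId T)) = T := x.w_obj _
  have hl : 𝒳.p.IsHomLift (f ≫ eqToHom e) (x.map (BGChart.toIdMap (f ≫ eqToHom e))) :=
    overMap_isHomLift x (BGChart.toIdMap (f ≫ eqToHom e))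
  refine ⟨x.map (BGChart.toIdMap (f ≫ eqToHom e)), IsHomLift.of_fac' _ f _ (x.w_obj _) rfl ?_⟩
  rw [IsHomLift.fac' 𝒳.p (f ≫ eqToHom e) (x.map (BGChart.toIdMap (f ≫ eqToHom e)))]
  simp

theorem isStack_locVal {S : Scheme.{u}} {𝒳 : AlgSt.Cat S} (hX : Stk.IsStack (QuotSh.J Scheme.fppfPrecoverage S) 𝒳)
    (x : FibCat.overCat (Over.mk (𝟙 S)) ⥤ᵇ 𝒳) :
    Stk.IsStack (QuotSh.J Scheme.fppfPrecoverage S) (AlgSt.fullSub 𝒳 (LocVal x)) := by
  refine Groth.Agent.S12795.result (QuotSh.J Scheme.fppfPrecoverage S) hX (LocVal x)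
    (fun B A φ h => ⟨B, Iso.refl B, locVal_of_hom hX.1 x φ h, IsHomLift.id rfl⟩) fun U R hR A hA H => ?_
  subst hA
  let T : Sieve (𝒳.p.obj A) :=
    { arrows := fun V f => ∃ φ : x.obj (BGChart.toId V) ⟶ A, 𝒳.p.IsHomLift f φ
      downward_closed := by
        rintro V W f ⟨φ, hφ⟩ g
        have := overMap_isHomLift x (BGChart.toIdMap g)
        have : 𝒳.p.IsHomLift g (x.map (BGChart.toIdMap g)) := this
        exact ⟨x.map (BGChart.toIdMap g) ≫ φ, inferInstance⟩ }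
  refine ⟨A, Iso.refl A, ⟨T, (QuotSh.J Scheme.fppfPrecoverage S).transitive hR T fun V f hf => ?_, fun V f hf => hf⟩,
    IsHomLift.id rfl⟩
  obtain ⟨B, φ, hφ⟩ := hX.1.exists_lift (x := A) f
  obtain ⟨B', i, ⟨R', hR', hR''⟩, hi⟩ := H f hf B φ hφ
  obtain rfl : 𝒳.p.obj B' = V := IsHomLift.codomain_eq 𝒳.p (𝟙 V) i.hom
  refine (QuotSh.J Scheme.fppfPrecoverage S).superset_covering (fun W g hg => ?_) hR'
  obtain ⟨ψ, hψ⟩ := hR'' g hg
  have := IsHomLift.lift_id_inv 𝒳.p (𝒳.p.obj B') i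
  have : 𝒳.p.IsHomLift f (i.inv ≫ φ) := IsHomLift.comp_lift_id_left' 𝒳.p (𝒳.p.obj B') i.inv f φ
  exact ⟨ψ ≫ i.inv ≫ φ, inferInstance⟩

/-- In the case of a point over the base itself with affine fppf stabilizer, let `S` be a scheme, `𝒳` an
algebraic stack over `(Sch/S)` for the fppf topology, `x : (Sch/S) ⟶ 𝒳` a functor over `(Sch/S)` (an
`S`-point of `𝒳`), and `G` a group scheme over `S` which is affine, flat and locally of finite
presentation over `S` and represents the automorphism presheaf of `x` (group isomorphisms `G(T) ≅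
Aut_T(x_T)` natural in the scheme `T` over `S`; `G` is the stabilizer of `x`). Then there is a
functor `ι : BG ⟶ 𝒳` over `(Sch/S)`, where `BG` is the classifying stack of fppf `G`-torsors that
are schemes, which is a monomorphism (representable by algebraic spaces and a monomorphism after
every base change to a scheme) and whose composite with the canonical `S ⟶ BG` (the trivial torsor)
is isomorphic, as a functor over `(Sch/S)`, to `x`. (The source states this for a point with values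
in any scheme `T` over `S`, with target `𝒳 ×_S T`, and for the stabilizer any fppf group algebraic
space; its proof reduces to `T = S`, the case stated here, with the stabilizer an affine group
scheme, the case in which the classifying stack of scheme torsors is the whole classifying stack.) -/
theorem result
    (S : Scheme.{u}) (𝒳 : AlgSt.Cat S) (h𝒳 : AlgSt.IsAlgStack Scheme.fppfPrecoverage 𝒳)
    (x : FibCat.overCat (Over.mk (𝟙 S)) ⥤ᵇ 𝒳)
    (G : Over S) [GrpObj G] [IsAffineHom G.hom] [Flat G.hom] [LocallyOfFinitePresentation G.hom]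
    (r : Gerb.AutRep x (Gerb.ptsGrp (Over.mk (𝟙 S)) G)) :
    ∃ ι : AlgSt.BG Scheme.fppfPrecoverage G ⥤ᵇ 𝒳,
      AlgSt.IsMono ι ∧
      Nonempty (BasedFunctor.comp (AlgSt.quotMap Scheme.fppfPrecoverage G (AlgSt.trivAction G)) ι ≅
        BasedFunctor.comp (AlgSt.toOverCat (Over.mk (𝟙 S))) x) := by
  open Groth.Agent.FibBase Groth.Agent.QuotLib Groth.Agent.AlgStLib Groth.Agent.IsoNatLib CategoryTheory.Functor in
  have hX := h𝒳.isStack.1
  let 𝒴 := AlgSt.fullSub 𝒳 (LocVal x)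
  let j₀ := BGChart.chartX r
  let j : BalProd.𝒜 (AlgSt.trivAction G) ⥤ᵇ 𝒴 :=
    { toFunctor := ObjectProperty.lift _ j₀.toFunctor fun c => locVal_value x c.T
      w := j₀.w }
  haveI := BGChart.chartX_full r
  haveI := BGChart.chartX_faithful r
  haveI : j.toFunctor.Full :=
    ⟨fun {c c'} m => ⟨j₀.toFunctor.preimage m.hom, ObjectProperty.hom_ext _ (j₀.toFunctor.map_preimage m.hom)⟩⟩
  haveI : j.toFunctor.Faithful :=
    ⟨fun {c c'} m m' h => j₀.toFunctor.map_injective (congrArg (fun k => k.hom) h)⟩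
  haveI : (BalProd.chartH (AlgSt.trivAction G)).toFunctor.Full := InducedCategory.full _
  haveI : (BalProd.chartH (AlgSt.trivAction G)).toFunctor.Faithful := InducedCategory.faithful _
  have hBG : Stk.IsStack (QuotSh.J Scheme.fppfPrecoverage S) (AlgSt.BG Scheme.fppfPrecoverage G) :=
    (Groth.Agent.StkLib.isStack_iff_of_isEquivOver _ Groth.Agent.AlgStLib.ToSp.toSp_isEquivOver).2
      Groth.Agent.AlgStLib.SpQuot.isStack
  have hcov : Covers (QuotSh.J Scheme.fppfPrecoverage S) j := fun A => by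
    obtain ⟨R, hR, hR'⟩ := A.property
    refine ⟨R, hR, fun V f hf => ?_⟩
    obtain ⟨φ, hφ⟩ := hR' f hf
    exact ⟨⟨V, CartesianMonoidalCategory.toUnit V⟩, ObjectProperty.homMk φ, (isHomLift_fullSub_iff _ _).2 hφ⟩
  obtain ⟨e, he, hec⟩ := exists_equiv_of_span_compat (J := QuotSh.J Scheme.fppfPrecoverage S)
    (i := BalProd.chartH (AlgSt.trivAction G)) (j := j) hBG (isStack_locVal h𝒳.isStack x) BalProd.hasLifts
    BalProd.covers_chartH hcov
  let ι : AlgSt.BG Scheme.fppfPrecoverage G ⥤ᵇ 𝒳 := BasedFunctor.comp e (AlgSt.subIncl 𝒳 (LocVal x))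
  haveI := full_of_isEquivOver he
  haveI := faithful_of_isEquivOver he
  haveI : (AlgSt.subIncl 𝒳 (LocVal x)).toFunctor.Full := inferInstanceAs (ObjectProperty.ι (LocVal x)).Full
  haveI : (AlgSt.subIncl 𝒳 (LocVal x)).toFunctor.Faithful := inferInstanceAs (ObjectProperty.ι (LocVal x)).Faithful
  haveI : ι.toFunctor.Full := inferInstanceAs (e.toFunctor ⋙ (AlgSt.subIncl 𝒳 (LocVal x)).toFunctor).Full
  haveI : ι.toFunctor.Faithful := inferInstanceAs (e.toFunctor ⋙ (AlgSt.subIncl 𝒳 (LocVal x)).toFunctor).Faithful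
  obtain ⟨hq₁, hq₂, hq₃⟩ := quot_flat_lfp_surjective (G := G) (aX := AlgSt.trivAction G)
  let q := quotOver Scheme.fppfPrecoverage G (AlgSt.trivAction G)
  refine ⟨ι, isMono_of_full_faithful_of_fppf_cover h𝒳 hBG (isFibGrpd_overCat _) ι q
    (repByAlgSpWith_and (stableBC_inf stableBC_isSurjectiveMor stableBC_locP)
      (repByAlgSpWith_and stableBC_isSurjectiveMor hq₃ hq₁) hq₂)
    (repByAlgSp1_of_diag hX h𝒳.diag _ _), ?_⟩
  let X₁ : Over S := 𝟙_ (Over S)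
  let c₁ : BalProd.Pt X₁ := ⟨X₁, 𝟙 X₁⟩
  obtain ⟨ψ, hψ⟩ := hec ((BalProd.chartH (AlgSt.trivAction G)).obj c₁) c₁ (𝟙 _)
  let u₀ : Over (Over.mk (𝟙 S)) := Over.mk (𝟙 (Over.mk (𝟙 S)))
  let t₀ : x.obj u₀ ⟶ ι.obj (q.obj (Over.mk (𝟙 X₁))) :=
    x.map (Over.homMk (𝟙 (Over.mk (𝟙 S))) (Over.mkIdTerminal.hom_ext _ _) : u₀ ⟶ BGChart.toId X₁) ≫ ψ.hom
  have hψ' : 𝒳.p.IsHomLift (𝟙 X₁) ψ.hom := isHomLift_id_of_map_eq
    (show 𝒳.p.obj (j.obj c₁).obj = X₁ from x.w_obj (BGChart.toId X₁))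
    (show 𝒳.p.obj (ι.obj ((BalProd.chartH (AlgSt.trivAction G)).obj c₁)) = X₁ from ι.w_obj _) (by
    refine hψ.trans ?_
    rw [(AlgSt.BG Scheme.fppfPrecoverage G).p.map_id]
    simp)
  have hl : 𝒳.p.IsHomLift (𝟙 X₁)
      (x.map (Over.homMk (𝟙 (Over.mk (𝟙 S))) (Over.mkIdTerminal.hom_ext _ _) : u₀ ⟶ BGChart.toId X₁)) :=
    overMap_isHomLift x (Over.homMk (𝟙 (Over.mk (𝟙 S))) (Over.mkIdTerminal.hom_ext _ _) : u₀ ⟶ BGChart.toId X₁)
  have ht₀ : 𝒳.p.IsHomLift (𝟙 (Over.mk (𝟙 S))) t₀ :=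
    IsHomLift.comp_lift_id_right' 𝒳.p (𝟙 X₁)
      (x.map (Over.homMk (𝟙 (Over.mk (𝟙 S))) (Over.mkIdTerminal.hom_ext _ _) : u₀ ⟶ BGChart.toId X₁)) X₁ ψ.hom
  haveI : IsIso t₀ := Groth.Agent.FibBase.isIso_of_lift (p := 𝒳.p) (hp := hX) (𝟙 (Over.mk (𝟙 S))) t₀
  haveI := evalAtId_isEquivalence (𝒳 := 𝒳) hX (Over.mk (𝟙 S))
  let k : x ≅ BasedFunctor.comp q ι := (FibCat.evalAtId 𝒳 (Over.mk (𝟙 S))).preimageIso
    (fiberIsoMk (a := ⟨x.obj u₀, x.w_obj _⟩) (b := ⟨ι.obj (q.obj (Over.mk (𝟙 X₁))), (ι.w_obj _).trans (q.w_obj _)⟩)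
      (asIso t₀) ht₀)
  exact ⟨(whiskerRightIso (toOverCatIso X₁) (BasedFunctor.comp (AlgSt.quotMap Scheme.fppfPrecoverage G
    (AlgSt.trivAction G)) ι)).symm ≪≫ (whiskerLeftIso (AlgSt.toOverCat (Over.mk (𝟙 S))) k).symm⟩

end Groth.Agent.S19642
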