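import Groth.Statements.S19653
import Groth.Agent.H1ProperGen.Basic

set_option autoImplicit false
universe u
open AlgebraicGeometry CategoryTheory CategoryTheory.Limits
open EGA43

namespace Groth.Agent.S19653

/-- Let R be a discrete valuation ring and f : X → Spec R a flat, separated morphism of finite type
whose closed fibre is nonempty and proper over the residue field and whose generic fibre is
geometrically connected. Then f is proper, and its closed fibre is geometrically connected too. (The
published statement does not require the closed fibre to be nonempty; the affine line over the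
fraction field, viewed over R, has empty closed fibre and satisfies the other hypotheses without
being proper, and the published proof uses a point of the closed fibre, so nonemptiness is assumed
here.) -/
theorem result
    (R : Type u) [CommRing R] [IsDomain R] [IsDiscreteValuationRing R]
    (X : Scheme.{u}) (f : X ⟶ Spec (CommRingCat.of R))
    [Flat f] [IsSeparated f] [LocallyOfFiniteType f] [QuasiCompact f]
    [IsProper (f.fiberToSpecResidueField (IsLocalRing.closedPoint R))]
    [Nonempty ↥(f.fiber (IsLocalRing.closedPoint R))]
    [GeometricallyConnected (f.fiberToSpecResidueField (genericPoint ↥(Spec (CommRingCat.of R))))] :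
    IsProper f ∧ GeometricallyConnected (f.fiberToSpecResidueField (IsLocalRing.closedPoint R)) := by
  have hne : ∃ x, f x = IsLocalRing.closedPoint R := by
    obtain ⟨w⟩ := ‹Nonempty ↥(f.fiber (IsLocalRing.closedPoint R))›
    exact ⟨f.fiberι _ w, (f.range_fiberι _).le ⟨w, rfl⟩⟩
  obtain ⟨U, hsU, hU⟩ := H1ProperGen.exists_isProper_restrict f (IsLocalRing.closedPoint R) inferInstance hne
    fun η hη _ => by
      rw [← hη _ (genericPoint_specializes η)]
      infer_instance
  haveI : IsProper f := by
    refine IsZariskiLocalAtTarget.of_iSup_eq_top (P := @IsProper) (fun _ : PUnit.{1} => U) ?_ fun _ => hU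
    rw [iSup_const, eq_top_iff]
    intro z _
    exact (IsLocalRing.specializes_closedPoint z).mem_open U.2 hsU
  refine ⟨inferInstance, H1ProperGen.geometricallyConnected_fibre f _ (H1ProperGen.nGeomConnComp_closed f hne ?_)⟩
  have h : H1Proper.gpt R = genericPoint ↥(Spec (CommRingCat.of R)) :=
    (genericPoint_eq_bot_of_affine (CommRingCat.of R)).symm
  rw [h]
  infer_instance

end Groth.Agent.S19653
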