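import Groth.Statements.S19655
import Groth.Agent.WeilExt.Dedekind
import Groth.Agent.SchDenseLib.Hom
import Groth.Agent.GrpFieldLib.SmoothDense

set_option autoImplicit false
set_option backward.isDefEq.respectTransparency false
set_option backward.isDefEq.respectTransparency.types false
set_option maxHeartbeats 1000000
set_option linter.style.haveILetI false
universe u
open CategoryTheory CategoryTheory.Limits MonoidalCategory CartesianMonoidalCategory AlgebraicGeometry
open Neron

namespace Groth.Agent.S19655

/-- Let R be a Dedekind domain with fraction field K, A an abelian variety over K (a proper smooth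
geometrically connected K-group scheme) and N a Néron model of A over Spec R. Then for every smooth
R-scheme Y, every K-morphism to A defined on a dense open subscheme of the generic fibre of Y is the
restriction of exactly one R-morphism Y → N: K-rational maps from smooth R-schemes to A extend
uniquely to the Néron model. (The text works over a connected Dedekind scheme; the affine case is
stated.) -/
theorem result
    (R : Type u) [CommRing R] [IsDedekindDomain R]
    (N : Over (Spec (CommRingCat.of R))) (A : Over (Spec (CommRingCat.of (FractionRing R))))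
    (e : (Neron.genericFibre R).obj N ≅ A) (hN : Neron.IsNeronModelOf R N A e)
    [GrpObj A] [IsProper A.hom] [Smooth A.hom] [GeometricallyConnected A.hom]
    (Y : Over (Spec (CommRingCat.of R))) [Smooth Y.hom]
    (W : ((Neron.genericFibre R).obj Y).left.Opens) (hW : Dense (W : Set ↥((Neron.genericFibre R).obj Y).left))
    (g : (W : Scheme.{u}) ⟶ A.left) (hg : g ≫ A.hom = W.ι ≫ ((Neron.genericFibre R).obj Y).hom) :
    ∃! h : Y ⟶ N, W.ι ≫ ((Neron.genericFibre R).map h ≫ e.hom).left = g := by
  haveI : Smooth ((Neron.genericFibre R).obj Y).hom := by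
    change Smooth (pullback.snd _ _)
    infer_instance
  let K := CommRingCat.of (FractionRing R)
  have hS : ∀ s : Spec K, IsRegularLocalRing ((Spec K).presheaf.stalk s) := fun s =>
    Groth.Agent.WeilExt.isRegularLocalRing_stalk_spec (R := FractionRing R) s
  obtain ⟨V, hWV, g₁, hg₁, hg₁W, hV⟩ :=
    Groth.Agent.WeilExt.exists_extension_codimTwo hS (X := (Neron.genericFibre R).obj Y) (Y := A) W hW g hg
  haveI : IsLocallyNoetherian ((Neron.genericFibre R).obj Y).left :=
    LocallyOfFiniteType.isLocallyNoetherian ((Neron.genericFibre R).obj Y).hom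
  obtain ⟨g₂, ⟨hg₂, hg₂V⟩, -⟩ :=
    Groth.Agent.WeilExt.existsUnique_extension hS (X := (Neron.genericFibre R).obj Y) (G := A) V hV
      (fun x => by
        obtain ⟨z, hz, hzV⟩ := Groth.Agent.WeilExt.exists_generization_mem V
          (hW.mono hWV) x
        exact ⟨z, hz, Subsingleton.elim _ _, hzV⟩) g₁ hg₁
  obtain ⟨h, hh⟩ := (hN.2.2.2.2 Y inferInstance).2 (Over.homMk g₂ hg₂)
  have hsd : CInt.IsSchematicallyDense W := by
    haveI := Groth.Agent.WeilExt.isReduced_smooth hS ((Neron.genericFibre R).obj Y).hom
    exact Groth.Agent.GrpFieldLib.SmoothDense.isSchematicallyDense_of_dense W hW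
  refine ⟨h, ?_, fun h' hh' => ?_⟩
  · change W.ι ≫ ((Neron.genericFibre R).map h ≫ e.hom).left = g
    rw [show (Neron.genericFibre R).map h ≫ e.hom = Over.homMk g₂ hg₂ from hh]
    change W.ι ≫ g₂ = g
    rw [← hg₁W, ← hg₂V, Scheme.homOfLE_ι_assoc]
  · apply (hN.2.2.2.2 Y inferInstance).1
    refine (Over.OverMorphism.ext ?_ : _ = _).trans hh.symm
    refine Groth.Agent.SchDenseLib.hom_ext hsd A.hom _ _ ?_ ?_
    · exact (Over.w ((Neron.genericFibre R).map h' ≫ e.hom)).trans
        (Over.w (Over.homMk g₂ hg₂ : (Neron.genericFibre R).obj Y ⟶ A)).symm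
    · refine hh'.trans ?_
      change g = W.ι ≫ g₂
      rw [← hg₁W, ← hg₂V, Scheme.homOfLE_ι_assoc]

end Groth.Agent.S19655
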