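import Groth.Statements.S19658
import Groth.Agent.SmoothGrpTors.EtalePow
import Groth.Agent.S17448

set_option autoImplicit false
set_option backward.isDefEq.respectTransparency false
set_option backward.isDefEq.respectTransparency.types false
set_option maxHeartbeats 1000000
set_option linter.style.haveILetI false
universe u
open CategoryTheory CategoryTheory.Limits MonoidalCategory CartesianMonoidalCategory AlgebraicGeometry
open MonoidalCategory CartesianMonoidalCategory MonObj
open Neron

namespace Groth.Agent.S19658

open Groth.Agent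

/-- The first display of the lemma, in the generality its argument gives. Let R be a henselian local
ring with residue field k, G a commutative group scheme over Spec R that is smooth, separated and
quasi-compact, and N a natural number which is a unit in R. Then every k-valued point of G killed by
N lifts to exactly one R-valued point of G killed by N; that is, reduction G(R)[N] → G(k)[N] is a
bijection on N-torsion. (The text applies this to the Néron model of an abelian variety over a
henselian discrete valuation ring, where G(R) = A(K).) -/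
theorem result
    (R : Type u) [CommRing R] [HenselianLocalRing R]
    (G : Over (Spec (CommRingCat.of R))) [GrpObj G] [IsCommMonObj G]
    [Smooth G.hom] [IsSeparated G.hom] [QuasiCompact G.hom]
    (N : ℕ) (hN : IsUnit (N : R))
    (τ : Over.mk (Spec.map (CommRingCat.ofHom (IsLocalRing.residue R))) ⟶ G)
    (hτ : τ ∈ AbDual.torsPts G N (Over.mk (Spec.map (CommRingCat.ofHom (IsLocalRing.residue R))))) :
    ∃! σ : Over.mk (𝟙 (Spec (CommRingCat.of R))) ⟶ G,
      σ ∈ AbDual.torsPts G N (Over.mk (𝟙 (Spec (CommRingCat.of R)))) ∧
        Over.homMk (Spec.map (CommRingCat.ofHom (IsLocalRing.residue R))) (Category.comp_id _) ≫ σ = τ := by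
  have hNΓ : IsUnit (N : Γ(Spec (CommRingCat.of R), ⊤)) := by
    have h := hN.map (Scheme.ΓSpecIso (CommRingCat.of R)).inv.hom
    rwa [map_natCast] at h
  let φ : G ⟶ G := 𝟙 G ^ N
  haveI : Etale φ.left := SmoothGrpTors.etale_pow N hNΓ
  haveI : IsSeparated φ.left := by
    haveI : IsSeparated (φ.left ≫ G.hom) := by rw [Over.w]; infer_instance
    exact IsSeparated.of_comp φ.left G.hom
  haveI : QuasiCompact φ.left := by
    haveI : QuasiCompact (φ.left ≫ G.hom) := by rw [Over.w]; infer_instance
    exact QuasiCompact.of_comp φ.left G.hom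
  let e : Spec (CommRingCat.of R) ⟶ G.left := η[G].left
  have he : e ≫ G.hom = 𝟙 _ := Over.w η[G]
  let K := pullback φ.left e
  let f : K ⟶ Spec (CommRingCat.of R) := pullback.snd φ.left e
  haveI : Etale f := MorphismProperty.pullback_snd (P := @Etale) φ.left e inferInstance
  haveI : IsSeparated f := MorphismProperty.pullback_snd (P := @IsSeparated) φ.left e inferInstance
  haveI : QuasiCompact f := MorphismProperty.pullback_snd (P := @QuasiCompact) φ.left e inferInstance
  have hone : ∀ T : Over (Spec (CommRingCat.of R)), (1 : T ⟶ G).left = T.hom ≫ e := fun T => rfl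
  have hpow : ∀ {T : Over (Spec (CommRingCat.of R))} (x : T ⟶ G), x ≫ φ = x ^ N := fun x => by
    rw [MonObj.comp_pow, Category.comp_id]
  have hmem : ∀ {T : Over (Spec (CommRingCat.of R))} (x : T ⟶ G),
      x ∈ AbDual.torsPts G N T ↔ x.left ≫ φ.left = T.hom ≫ e := fun {T} x => by
    rw [AbDual.mem_torsPts, ← hpow, ← hone T, ← Over.comp_left]
    exact ⟨congrArg CommaMorphism.left, Over.OverMorphism.ext⟩
  let t : Spec (CommRingCat.of (IsLocalRing.ResidueField R)) ⟶ K :=
    pullback.lift τ.left (Spec.map (CommRingCat.ofHom (IsLocalRing.residue R))) ((hmem τ).1 hτ)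
  obtain ⟨s, ⟨hs, hst⟩, huniq⟩ := S17448.result R f t (pullback.lift_snd _ _ _)
  have hsG : (s ≫ pullback.fst φ.left e) ≫ G.hom = 𝟙 _ := by
    have h := congrArg (· ≫ G.hom) (pullback.condition (f := φ.left) (g := e))
    simp only [Category.assoc, he, Over.w φ, Category.comp_id] at h
    rw [Category.assoc, h]; exact hs
  refine ⟨Over.homMk (s ≫ pullback.fst φ.left e) hsG, ⟨(hmem _).2 ?_, Over.OverMorphism.ext ?_⟩, fun σ' hσ' => ?_⟩
  · show (s ≫ pullback.fst φ.left e) ≫ φ.left = 𝟙 _ ≫ e
    rw [Category.assoc, pullback.condition, ← Category.assoc, hs]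
  · show Spec.map (CommRingCat.ofHom (IsLocalRing.residue R)) ≫ s ≫ pullback.fst φ.left e = τ.left
    rw [← Category.assoc, hst]; exact pullback.lift_fst _ _ _
  · let s' : Spec (CommRingCat.of R) ⟶ K := pullback.lift σ'.left (𝟙 _) ((hmem σ').1 hσ'.1)
    have h1 : s' = s := huniq s' ⟨pullback.lift_snd _ _ _, by
      apply pullback.hom_ext
      · rw [Category.assoc, pullback.lift_fst, pullback.lift_fst]
        exact congrArg CommaMorphism.left hσ'.2
      · rw [Category.assoc, pullback.lift_snd, pullback.lift_snd, Category.comp_id]⟩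
    apply Over.OverMorphism.ext
    show σ'.left = s ≫ pullback.fst φ.left e
    rw [← h1, pullback.lift_fst]

end Groth.Agent.S19658
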