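import Groth.Statements.S19683
import Groth.Agent.BiextDiv.Basic
import Mathlib.CategoryTheory.Sites.LocallySurjective
import Mathlib.CategoryTheory.Sites.EpiMono

set_option autoImplicit false
set_option backward.isDefEq.respectTransparency false
set_option backward.isDefEq.respectTransparency.types false
set_option maxHeartbeats 1000000
set_option linter.style.haveILetI false
universe u
open CategoryTheory CategoryTheory.Limits MonoidalCategory CartesianMonoidalCategory MonObj AlgebraicGeometry
open AbSch

namespace Groth.Agent.S19683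

open Groth.Agent

/-- Let S be a scheme, P, Q and G commutative S-group schemes with P and Q divisible (multiplication by
every non-zero integer is an epimorphism of their sheaves of points on the big fppf site), and n, m
non-zero integers. Then the pull-back map on isomorphism classes of biextensions of (P, Q) by G
along (n, m) : P × Q → P × Q has trivial kernel: if B is a biextension of (P, Q) by G on the big
fppf site of all S-schemes, B' a biextension of (P, Q) by G with a morphism of biextensions B' → B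
lying over multiplication by n on P, multiplication by m on Q and the identity of G (so that B' is
the inverse image of B by (n, m)), and B' is trivial, then B is trivial. -/
theorem result {S : Scheme.{u}} (P Q G : Over S)
    [GrpObj P] [IsCommMonObj P] [GrpObj Q] [IsCommMonObj Q] [GrpObj G] [IsCommMonObj G]
    (hP : ∀ k : ℤ, k ≠ 0 → Epi (k • 𝟙 (CGrpSh.pts Scheme.fppfPrecoverage P)))
    (hQ : ∀ k : ℤ, k ≠ 0 → Epi (k • 𝟙 (CGrpSh.pts Scheme.fppfPrecoverage Q)))
    (n m : ℤ) (hn : n ≠ 0) (hm : m ≠ 0)
    (B B' : Biext (QuotSh.J Scheme.fppfPrecoverage S) (CGrpSh.pts Scheme.fppfPrecoverage P) (CGrpSh.pts Scheme.fppfPrecoverage Q) (CGrpSh.pts Scheme.fppfPrecoverage G))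
    (φ : Biext.HomOver (QuotSh.J Scheme.fppfPrecoverage S) (n • 𝟙 (CGrpSh.pts Scheme.fppfPrecoverage P)) (m • 𝟙 (CGrpSh.pts Scheme.fppfPrecoverage Q)) (𝟙 (CGrpSh.pts Scheme.fppfPrecoverage G)) B' B)
    (hB' : Biext.IsTrivial (QuotSh.J Scheme.fppfPrecoverage S) B') :
    Biext.IsTrivial (QuotSh.J Scheme.fppfPrecoverage S) B := by
  have e1 : ∀ (M : CategoryTheory.Sheaf (QuotSh.J Scheme.fppfPrecoverage S) AddCommGrpCat.{u + 1}) (k : ℤ) (T : Over S)
      (x : M.obj.obj (Opposite.op T)), (k • 𝟙 M : M ⟶ M).hom.app (Opposite.op T) x = k • x := by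
    intro M k T x
    let ev : (M ⟶ M) →+ (M.obj.obj (Opposite.op T) →+ M.obj.obj (Opposite.op T)) :=
      { toFun := fun f => (f.hom.app (Opposite.op T)).hom
        map_zero' := rfl
        map_add' := fun _ _ => rfl }
    exact DFunLike.congr_fun (map_zsmul ev k (𝟙 M)) x
  have hd : ∀ (M : CategoryTheory.Sheaf (QuotSh.J Scheme.fppfPrecoverage S) AddCommGrpCat.{u + 1}),
      (∀ k : ℤ, k ≠ 0 → Epi (k • 𝟙 M)) → ∀ k : ℤ, k ≠ 0 → BiextDiv.LocDiv M k := by
    intro M hM k hk T p
    haveI := hM k hk
    haveI := (Sheaf.isLocallySurjective_iff_epi' AddCommGrpCat.{u + 1} (k • 𝟙 M)).2 inferInstance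
    refine ⟨_, Presheaf.imageSieve_mem _ (k • 𝟙 M : M ⟶ M).hom p, fun T' f hf => ?_⟩
    obtain ⟨a, ha⟩ := hf
    exact ⟨a, (e1 M k T' a).symm.trans ha⟩
  exact BiextDiv.isTrivial_of_homOver (n := n) (m := m) B B' φ (fun T p => e1 _ n T p) (fun T q => e1 _ m T q)
    (hd _ hP n hn) (hd _ hP m hm) (hd _ hQ n hn) (hd _ hQ m hm) hB'

end Groth.Agent.S19683
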