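import Groth.Statements.S1969
import Mathlib.RingTheory.Flat.TorsionFree
import Mathlib.RingTheory.Flat.Localization
import Mathlib.RingTheory.LocalRing.Module
import Mathlib.RingTheory.Localization.Module
import Mathlib.RingTheory.Valuation.ValuationRing

set_option autoImplicit false
universe u
open EtAlg

namespace Groth.Agent.S1969

/-- For a commutative ring A these are equivalent — all ideals are flat A-modules; all finitely
generated ideals are flat; flatness passes to submodules of flat modules; each localization at a
prime is a valuation ring (in particular a domain). Condition (1), weak dimension at most one, is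
not stated. -/
theorem result (A : Type u) [CommRing A] :
    List.TFAE [∀ I : Ideal A, Module.Flat A I,
      ∀ I : Ideal A, I.FG → Module.Flat A I,
      ∀ (M : Type u) [AddCommGroup M] [Module A M], Module.Flat A M → ∀ N : Submodule A M, Module.Flat A N,
      ∀ (p : Ideal A) [p.IsPrime], ∃ _ : IsDomain (Localization.AtPrime p), ValuationRing (Localization.AtPrime p)] := by
  tfae_have 1 → 2 := fun h I _ => h I
  tfae_have 3 → 1 := fun h I => h A inferInstance I
  tfae_have 2 → 4 := by
    intro h p hp
    let R := Localization.AtPrime p
    have hprin : ∀ J : Ideal R, J.FG → ∃ x : R, J = Ideal.span {x} ∧ (J = ⊥ ∨ x ∈ nonZeroDivisors R) := by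
      intro J hJ
      obtain ⟨t, ht⟩ := hJ
      classical
      choose f s hfs using fun x : R => IsLocalization.exists_mk'_eq p.primeCompl x
      let I : Ideal A := Ideal.span (f '' (t : Set R))
      have hIJ : I.map (algebraMap A R) = J := by
        rw [Ideal.map_span, ← ht]
        apply le_antisymm
        · refine Ideal.span_le.2 ?_
          rintro _ ⟨_, ⟨x, hx, rfl⟩, rfl⟩
          have : algebraMap A R (f x) = algebraMap A R (s x) * x := by
            have := IsLocalization.mk'_spec R (f x) (s x)
            rw [hfs x] at this
            rw [mul_comm, this]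
          rw [this]; exact Ideal.mul_mem_left _ _ (Submodule.subset_span hx)
        · refine Ideal.span_le.2 fun x hx => ?_
          have : x = algebraMap A R (f x) * IsLocalization.mk' R 1 (s x) := by
            rw [IsLocalization.mul_mk'_eq_mk'_of_mul, mul_one, hfs x]
          rw [this]; exact Ideal.mul_mem_right _ _ (Submodule.subset_span ⟨_, ⟨x, hx, rfl⟩, rfl⟩)
      haveI : Module.Flat A I := h I ⟨t.image f, by simp [I]⟩
      haveI : Module.Flat R J := hIJ ▸ Module.Flat.of_isLocalizedModule R p.primeCompl
        (Algebra.idealMap R I)
      haveI : Module.Finite R J := Module.Finite.of_fg ⟨t, ht⟩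
      haveI : Module.Free R J := Module.free_of_flat_of_isLocalRing
      let b := Module.Free.chooseBasis R J
      have hone : ∀ i j : Module.Free.ChooseBasisIndex R J, i = j := by
        intro i j
        by_contra hij
        have e : ((b i : J) : R) • b j = ((b j : J) : R) • b i := Subtype.ext (mul_comm _ _)
        have h1 := congrArg (fun v => b.repr v j) e
        simp [Finsupp.single_eq_of_ne (Ne.symm hij)] at h1
        exact b.ne_zero i h1
      rcases isEmpty_or_nonempty (Module.Free.ChooseBasisIndex R J) with he | ⟨⟨i⟩⟩
      · have : J = ⊥ := (Submodule.eq_bot_iff _).2 fun x hx => by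
          haveI : Subsingleton J := b.repr.toEquiv.subsingleton
          exact congrArg Subtype.val (Subsingleton.elim (⟨x, hx⟩ : J) 0)
        exact ⟨0, by simp [this], Or.inl this⟩
      · haveI : Unique (Module.Free.ChooseBasisIndex R J) := ⟨⟨i⟩, fun j => hone j i⟩
        refine ⟨((b i : J) : R), le_antisymm (fun x hx => ?_)
          ((Ideal.span_singleton_le_iff_mem _).2 (b i).2), Or.inr ?_⟩
        · have := congrArg Subtype.val (b.sum_repr ⟨x, hx⟩)
          rw [Fintype.sum_unique, show (default : Module.Free.ChooseBasisIndex R J) = i from hone _ _] at this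
          exact Ideal.mem_span_singleton'.2 ⟨_, this⟩
        · rw [mem_nonZeroDivisors_iff_right]
          intro r hr
          have h1 := congrArg (fun v => b.repr v i) (Subtype.ext hr : r • b i = 0)
          simpa using h1
    haveI : IsDomain R := by
      haveI : NoZeroDivisors R := ⟨fun {a b} hab => by
        by_contra! hne
        obtain ⟨x, hx, hx'⟩ := hprin (Ideal.span {a}) ⟨{a}, by simp⟩
        rcases hx' with h0 | h0
        · exact hne.1 (by simpa using h0)
        · obtain ⟨c, hc⟩ := Ideal.mem_span_singleton'.1 (hx ▸ Ideal.mem_span_singleton_self x : x ∈ Ideal.span {a})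
          refine hne.2 ((mem_nonZeroDivisors_iff_right.1 h0) b ?_)
          rw [← hc, mul_comm b, mul_assoc, hab, mul_zero]⟩
      exact NoZeroDivisors.to_isDomain R
    haveI : IsBezout R := ⟨fun I hI => by
      obtain ⟨x, hx, -⟩ := hprin I hI
      exact ⟨⟨x, hx⟩⟩⟩
    exact ⟨inferInstance, ValuationRing.iff_local_bezout_domain.2 ⟨inferInstance, inferInstance⟩⟩
  tfae_have 4 → 3 := by
    intro h M _ _ _ N
    apply Module.flat_of_localized_maximal
    intro P hP
    obtain ⟨_, _⟩ := h P
    rw [← Module.flat_iff_of_isLocalization (Localization.AtPrime P) P.primeCompl,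
      Module.Flat.flat_iff_torsion_eq_bot_of_isBezout, Submodule.eq_bot_iff]
    rintro m ⟨⟨r, hr⟩, hrm⟩
    let ι := LocalizedModule.map P.primeCompl N.subtype
    have hι : Function.Injective ι := LocalizedModule.map_injective _ _ N.injective_subtype
    haveI : Module.Flat (Localization.AtPrime P) (LocalizedModule P.primeCompl M) := inferInstance
    apply hι
    rw [map_zero]
    refine Module.Flat.isSMulRegular_of_nonZeroDivisors (M := LocalizedModule P.primeCompl M) hr ?_
    show r • ι m = r • (0 : LocalizedModule P.primeCompl M)
    rw [smul_zero, ← map_smul, show r • m = 0 from hrm, map_zero]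
  tfae_finish

end Groth.Agent.S1969
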