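import Groth.Statements.S19690
import Groth.Agent.OneMotFF.Lattice
-- import your own Groth.Agent.* helpers here

set_option autoImplicit false
set_option backward.isDefEq.respectTransparency false
set_option maxHeartbeats 1000000
set_option linter.style.haveILetI false
set_option backward.isDefEq.respectTransparency false
set_option backward.isDefEq.respectTransparency.types false
set_option linter.style.haveILetI false
universe u
open CategoryTheory CategoryTheory.Limits MonoidalCategory CartesianMonoidalCategory MonObj AlgebraicGeometry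
open OneMot

namespace Groth.Agent.S19690

/-- Let k be an algebraically closed field of characteristic zero, M and N 1-motives over k, and f, g
morphisms of 1-motives from M to N. If for every integer m ≥ 1 the homomorphisms induced by f and by
g on the torsion realizations of level m, computed on k-points, are equal, then f = g. (The source
states that the realization functor to the inverse limit over all m is faithful; equality at every
finite level implies equality on the limit.) -/
theorem result (k : Type u) [Field k] [IsAlgClosed k] [CharZero k]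
    (M N : OneMot.Motive (Spec (CommRingCat.of k))) (f g : OneMot.Motive.Hom M N)
    (h : ∀ m : ℕ, 1 ≤ m → OneMot.tzMap m (Over.mk (𝟙 (Spec (CommRingCat.of k)))) f = OneMot.tzMap m (Over.mk (𝟙 (Spec (CommRingCat.of k)))) g) :
    f = g := by
  let P : Over (Spec (CommRingCat.of k)) := 𝟙_ (Over (Spec (CommRingCat.of k)))
  have key : ∀ (m : ℕ), 1 ≤ m → ∀ (x : P ⟶ M.L) (a : P ⟶ M.G), x ≫ M.u = (a ^ m)⁻¹ →
      ∃ y : P ⟶ N.L, y ^ m = (x ≫ f.fL) / (x ≫ g.fL) ∧ (y ≫ N.u)⁻¹ = (a ≫ f.fG) / (a ≫ g.fG) := by
    intro m hm x a hxa
    let p : OneMot.tzPairs M m P := ⟨(Additive.ofMul x, Additive.ofMul a), congrArg Additive.ofMul hxa⟩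
    have h1 : OneMot.tzMap m P f (QuotientAddGroup.mk p) = OneMot.tzMap m P g (QuotientAddGroup.mk p) :=
      DFunLike.congr_fun (h m hm) _
    rw [OneMot.tzMap, OneMot.tzMap, QuotientAddGroup.map_mk, QuotientAddGroup.map_mk,
      QuotientAddGroup.eq_iff_sub_mem] at h1
    obtain ⟨y, hy⟩ := h1
    exact ⟨y.toMul, congrArg (fun q => Additive.toMul (Prod.fst q)) hy, congrArg (fun q => Additive.toMul (Prod.snd q)) hy⟩
  haveI : IsSeparated N.L.hom := GrpSchLib.AntiAffine.isSeparated_grp _
  have hL : f.fL = g.fL := by
    refine (OneMotFF.lattice_props M.lattice).2 _ _ fun x => ?_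
    refine div_eq_one.mp (OneMotFF.eq_one_of_forall_pow N.lattice _ fun m hm => ?_)
    obtain ⟨a, ha⟩ := OneMotFF.divisible M.semiAb hm (x ≫ M.u)⁻¹
    obtain ⟨y, hy, -⟩ := key m hm x a (by rw [ha, inv_inv])
    exact ⟨y, hy⟩
  have hG : f.fG = g.fG := by
    haveI : IsMonHom (f.fG / g.fG) := LargeNormal.isMonHom_of_mul _ fun T a b => by
      simp only [GrpObj.comp_div, MonObj.mul_comp]
      exact mul_div_mul_comm _ _ _ _
    refine div_eq_one.mp (OneMotFF.eq_one_of_semiAb M.semiAb _ fun n a hn ha => ?_)
    obtain ⟨y, hy, hy'⟩ := key n hn 1 a (by rw [MonObj.one_comp, ha, inv_one])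
    rw [MonObj.one_comp, MonObj.one_comp, div_self'] at hy
    rw [OneMotFF.eq_one_of_pow_eq_one N.lattice y hn hy, MonObj.one_comp, inv_one] at hy'
    rw [GrpObj.comp_div, ← hy']
  exact OneMot.Motive.Hom.ext' hL hG


end Groth.Agent.S19690
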