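import Groth.Statements.S19691
import Groth.Agent.OneMotFF.Kernel
import Groth.Agent.OneMotFF.LatticeIso
import Groth.Agent.GrpSchLib.ImageFactor
import Groth.Agent.GrpSchLib.CommCat
-- import your own Groth.Agent.* helpers here

set_option autoImplicit false
set_option backward.isDefEq.respectTransparency false
set_option maxHeartbeats 1000000
set_option linter.style.haveILetI false
set_option backward.isDefEq.respectTransparency false
set_option backward.isDefEq.respectTransparency.types false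
set_option linter.style.haveILetI false
set_option maxHeartbeats 1000000
universe u
open CategoryTheory CategoryTheory.Limits MonoidalCategory CartesianMonoidalCategory MonObj AlgebraicGeometry
open OneMot

namespace Groth.Agent.S19691

/-- Let k be an algebraically closed field of characteristic zero, M and N 1-motives over k, and f a
morphism of 1-motives from M to N. If for every integer m ≥ 1 the homomorphism induced by f on the
torsion realizations of level m, computed on k-points, is bijective, then f is an isomorphism: its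
components on the lattices and on the semi-abelian group schemes are isomorphisms. (The source
states this for the realization in the inverse limit over all m; bijectivity at every finite level
implies bijectivity on the limit. In positive characteristic the statement fails, the Frobenius of
the multiplicative group being bijective on all these realizations.) -/
theorem result (k : Type u) [Field k] [IsAlgClosed k] [CharZero k]
    (M N : OneMot.Motive (Spec (CommRingCat.of k))) (f : OneMot.Motive.Hom M N)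
    (h : ∀ m : ℕ, 1 ≤ m → Function.Bijective (OneMot.tzMap m (Over.mk (𝟙 (Spec (CommRingCat.of k)))) f)) :
    f.IsIso := by
  let P : Over (Spec (CommRingCat.of k)) := 𝟙_ (Over (Spec (CommRingCat.of k)))
  haveI : IsSeparated N.L.hom := GrpSchLib.AntiAffine.isSeparated_grp _
  have surj : ∀ (m : ℕ), 1 ≤ m → ∀ (y : P ⟶ N.L) (b : P ⟶ N.G), y ≫ N.u = (b ^ m)⁻¹ →
      ∃ (x : P ⟶ M.L) (a : P ⟶ M.G) (z : P ⟶ N.L), x ≫ M.u = (a ^ m)⁻¹ ∧
        z ^ m = (x ≫ f.fL) / y ∧ (z ≫ N.u)⁻¹ = (a ≫ f.fG) / b := by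
    intro m hm y b hyb
    let q : OneMot.tzPairs N m P := ⟨(Additive.ofMul y, Additive.ofMul b), congrArg Additive.ofMul hyb⟩
    obtain ⟨p, hp⟩ := (h m hm).2 (QuotientAddGroup.mk q)
    obtain ⟨⟨⟨x, a⟩, hxa⟩, rfl⟩ := QuotientAddGroup.mk_surjective p
    rw [OneMot.tzMap, QuotientAddGroup.map_mk, QuotientAddGroup.eq_iff_sub_mem] at hp
    obtain ⟨z, hz⟩ := hp
    exact ⟨x.toMul, a.toMul, z.toMul, congrArg Additive.toMul hxa,
      congrArg (fun q => Additive.toMul (Prod.fst q)) hz, congrArg (fun q => Additive.toMul (Prod.snd q)) hz⟩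
  have inj : ∀ (m : ℕ), 1 ≤ m → ∀ (x : P ⟶ M.L) (a : P ⟶ M.G), x ≫ M.u = (a ^ m)⁻¹ → x ≫ f.fL = 1 →
      a ≫ f.fG = 1 → ∃ z : P ⟶ M.L, z ^ m = x ∧ (z ≫ M.u)⁻¹ = a := by
    intro m hm x a hxa hx ha
    let p : OneMot.tzPairs M m P := ⟨(Additive.ofMul x, Additive.ofMul a), congrArg Additive.ofMul hxa⟩
    have h1 : OneMot.tzMap m P f (QuotientAddGroup.mk p) = 0 := by
      rw [OneMot.tzMap, QuotientAddGroup.map_mk, QuotientAddGroup.eq_zero_iff]
      refine ⟨0, ?_⟩
      show (m • (0 : Additive (P ⟶ N.L)), -Additive.ofMul ((1 : P ⟶ N.L) ≫ N.u)) =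
        (Additive.ofMul (x ≫ f.fL), Additive.ofMul (a ≫ f.fG))
      rw [smul_zero, MonObj.one_comp, hx, ha]
      exact Prod.ext rfl neg_zero
    have h2 : (QuotientAddGroup.mk p : OneMot.TZMod M m P) = 0 :=
      (h m hm).1 (h1.trans (map_zero _).symm)
    obtain ⟨z, hz⟩ := (QuotientAddGroup.eq_zero_iff p).1 h2
    exact ⟨z.toMul, congrArg (fun q => Additive.toMul (Prod.fst q)) hz,
      congrArg (fun q => Additive.toMul (Prod.snd q)) hz⟩
  obtain ⟨_, _, -, -, -, hM⟩ := OneMotFF.isSA M.semiAb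
  obtain ⟨_, _, -, -, -, -⟩ := OneMotFF.isSA N.semiAb
  haveI : Mono f.fG := OneMotFF.mono_of_torsion hM f.fG fun n a hn ha hfa => by
    obtain ⟨z, hz, hza⟩ := inj n hn 1 a (by rw [MonObj.one_comp, ha, inv_one]) (MonObj.one_comp _) hfa
    rw [← hza, OneMotFF.eq_one_of_pow_eq_one M.lattice z hn hz, MonObj.one_comp, inv_one]
  have hLinj : ∀ x : P ⟶ M.L, x ≫ f.fL = 1 → x = 1 := fun x hx => by
    have hu : x ≫ M.u = 1 := by
      rw [← cancel_mono f.fG, Category.assoc, f.comm, ← Category.assoc, hx, MonObj.one_comp, MonObj.one_comp]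
    refine OneMotFF.eq_one_of_forall_pow M.lattice x fun m hm => ?_
    obtain ⟨z, hz, -⟩ := inj m hm x 1 (by rw [hu, one_pow, inv_one]) hx (MonObj.one_comp _)
    exact ⟨z, hz⟩
  let φ : (P ⟶ M.L) →* (P ⟶ N.L) := MonoidHom.mk' (fun x => x ≫ f.fL) fun a b => MonObj.mul_comp a b f.fL
  have hLsurj : Function.Surjective φ := fun y => OneMotFF.lattice_eq_top N.lattice φ.range (fun y m hm => by
    obtain ⟨b, hb⟩ := OneMotFF.divisible N.semiAb hm (y ≫ N.u)⁻¹
    obtain ⟨x, a, z, -, hz, -⟩ := surj m hm y b (by rw [hb, inv_inv])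
    exact ⟨z⁻¹, x, by show x ≫ f.fL = _; rw [inv_pow, hz, inv_div, div_div_cancel]⟩) y
  have hLiso : IsIso f.fL := OneMotFF.lattice_isIso M.lattice N.lattice f.fL
    ⟨(injective_iff_map_eq_one φ).2 hLinj, hLsurj⟩
  have htor : ∀ (n : ℕ) (b : P ⟶ N.G), 0 < n → b ^ n = 1 → ∃ a : P ⟶ M.G, a ≫ f.fG = b := by
    intro n b hn hb
    obtain ⟨x, a, z, -, hz, hzb⟩ := surj n hn 1 b (by rw [MonObj.one_comp, hb, inv_one])
    obtain ⟨z₀, rfl⟩ := hLsurj z
    refine ⟨a * (z₀ ≫ M.u), ?_⟩
    rw [MonObj.mul_comp, Category.assoc, f.comm, ← Category.assoc]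
    have e : a ≫ f.fG = (φ z₀ ≫ N.u)⁻¹ * b := by rw [hzb, div_mul_cancel]
    rw [e, _root_.mul_comm (φ z₀ ≫ N.u)⁻¹ b, _root_.mul_assoc]
    exact (congrArg (b * ·) (inv_mul_cancel _)).trans (_root_.mul_one b)
  obtain ⟨I, _, p, i, _, _, hpi, _, _, _, _, _⟩ := GrpSchLib.ImageFactor.exists_image f.fG
  obtain ⟨Q, _, q, _, _, _, hk, _, _⟩ :=
    Chevalley.CommAff.exists_quot i (Chevalley.CommAff.isNormal_of_comm i)
  haveI : IsCommMonObj Q := GrpSchLib.CommCat.isCommMonObj_of_flat_surjective q
  have hi : i ≫ q = 1 := hk.w.trans Hom.one_def.symm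
  have hq : q = 1 := OneMotFF.eq_one_of_semiAb N.semiAb q fun n b hn hb => by
    obtain ⟨a, ha⟩ := htor n b hn hb
    rw [← ha, ← hpi, Category.assoc, Category.assoc, hi, MonObj.comp_one, MonObj.comp_one]
  have hid : 𝟙 N.G ≫ q = toUnit N.G ≫ η[Q] := by rw [Category.id_comp, hq, Hom.one_def]
  haveI : Mono i := Over.mono_of_mono_left _
  haveI : IsIso i := by
    refine ⟨hk.lift (𝟙 N.G) (toUnit N.G) hid, ?_, hk.lift_fst _ _ _⟩
    rw [← cancel_mono i, Category.assoc, hk.lift_fst, Category.comp_id, Category.id_comp]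
  haveI : IsIso i.left := inferInstanceAs (IsIso ((Over.forget _).map i))
  haveI : Flat f.fG.left := by rw [← hpi, Over.comp_left]; infer_instance
  haveI : Surjective f.fG.left := by rw [← hpi, Over.comp_left]; infer_instance
  haveI : LocallyOfFinitePresentation f.fG.left := by
    haveI : LocallyOfFiniteType (f.fG.left ≫ N.G.hom) := by rw [Over.w f.fG]; infer_instance
    haveI : LocallyOfFiniteType f.fG.left := locallyOfFiniteType_of_comp f.fG.left N.G.hom
    haveI : IsLocallyNoetherian N.G.left := LocallyOfFiniteType.isLocallyNoetherian N.G.hom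
    infer_instance
  exact ⟨hLiso, OneMotFF.isIso_of_flat_mono f.fG⟩


end Groth.Agent.S19691
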