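import Groth.Statements.S19704
import Groth.Agent.Chevalley.CommAff.AntiAffTools
import Groth.Agent.Chevalley.CommAff.TorusImage
import Groth.Agent.Chevalley.CommAff.CharKill
-- import your own Groth.Agent.* helpers here

set_option autoImplicit false
set_option backward.isDefEq.respectTransparency false
set_option maxHeartbeats 1000000
set_option linter.style.haveILetI false
universe u
open CategoryTheory MonoidalCategory CartesianMonoidalCategory MonObj GrpObj AlgebraicGeometry CategoryTheory.Limits
open AlgGrp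

namespace Groth.Agent.S19704

/-- Let k be a field of characteristic 0 and G a connected commutative algebraic group over k whose
largest connected affine algebraic subgroup G_aff = N is the direct product T × U of a torus T and a
connected unipotent (vector) group U: homomorphisms t : T → N and u : U → N with multiplication T ×
U → N an isomorphism. Let q_s : G → G_s = G/U and q_u : G → G_u = G/T be flat surjective
homomorphisms of k-group schemes of finite type with kernels U and T. Then O(G) = k (G is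
anti-affine) exactly when both quotients G_s = G/U and G_u = G/T have only constant global
functions, O(G_s) = k and O(G_u) = k. Here k is any field of characteristic 0, not necessarily
algebraically closed. -/
theorem result (k : Type u) [Field k] [CharZero k]
    (G : Over (Spec (CommRingCat.of k))) [GrpObj G] [Smooth G.hom] [QuasiCompact G.hom] [ConnectedSpace ↥G.left] [IsCommMonObj G]
    (N : Over (Spec (CommRingCat.of k))) [GrpObj N] (i : N ⟶ G) [IsMonHom i] [IsClosedImmersion i.left]
    [Smooth N.hom] [ConnectedSpace ↥N.left] [IsAffine N.left] (hN : AlgGrp.IsNormalHom i)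
    (hNmax : ∀ (N' : Over (Spec (CommRingCat.of k))) [GrpObj N'] (i' : N' ⟶ G) [IsMonHom i'] [IsClosedImmersion i'.left]
      [Smooth N'.hom] [ConnectedSpace ↥N'.left] [IsAffine N'.left], AlgGrp.IsNormalHom i' → ∃ f : N' ⟶ N, f ≫ i = i')
    (T U : Over (Spec (CommRingCat.of k))) [GrpObj T] [GrpObj U] (t : T ⟶ N) (u : U ⟶ N) [IsMonHom t] [IsMonHom u]
    (hT : Red.IsTorus T)
    [Smooth U.hom] [ConnectedSpace ↥U.left] [IsAffine U.left] (hU : Red.HasNoSubtorus k U)
    (hTU : IsIso ((t ⊗ₘ u) ≫ μ[N]))
    (Gs Gu : Over (Spec (CommRingCat.of k))) [GrpObj Gs] [GrpObj Gu] [LocallyOfFiniteType Gs.hom] [QuasiCompact Gs.hom]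
    [LocallyOfFiniteType Gu.hom] [QuasiCompact Gu.hom]
    (qs : G ⟶ Gs) [IsMonHom qs] [Surjective qs.left] [Flat qs.left] (hs : AlgGrp.IsKernel (u ≫ i) qs)
    (qu : G ⟶ Gu) [IsMonHom qu] [Surjective qu.left] [Flat qu.left] (hu : AlgGrp.IsKernel (t ≫ i) qu) :
    Function.Bijective ((Scheme.ΓSpecIso (CommRingCat.of k)).inv ≫ G.hom.appTop).hom ↔
      Function.Bijective ((Scheme.ΓSpecIso (CommRingCat.of k)).inv ≫ Gs.hom.appTop).hom ∧
      Function.Bijective ((Scheme.ΓSpecIso (CommRingCat.of k)).inv ≫ Gu.hom.appTop).hom := by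
  haveI := GrpSchLib.AntiAffine.isSeparated_grp G
  haveI := GrpSchLib.AntiAffine.isSeparated_grp Gs
  haveI := GrpSchLib.AntiAffine.isSeparated_grp Gu
  have toB : ∀ (X : Over (Spec (CommRingCat.of k))), Function.Bijective X.hom.appTop →
      Function.Bijective ((Scheme.ΓSpecIso (CommRingCat.of k)).inv ≫ X.hom.appTop).hom := fun X h => by
    rw [CommRingCat.hom_comp, RingHom.coe_comp]
    exact h.comp (ConcreteCategory.bijective_of_isIso (Scheme.ΓSpecIso (CommRingCat.of k)).inv)
  have hqc : ∀ {X Y : Over (Spec (CommRingCat.of k))} (f : X ⟶ Y) [QuasiCompact X.hom] [IsSeparated Y.hom],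
      QuasiCompact f.left := by
    intro X Y f _ _
    haveI : QuasiCompact (f.left ≫ Y.hom) := by rw [Over.w f]; infer_instance
    exact QuasiCompact.of_comp f.left Y.hom
  constructor
  · intro hG
    have hG' := Chevalley.CommAff.appTop_bijective hG
    haveI := hqc qs; haveI := hqc qu
    haveI : Epi qs.left := Flat.epi_of_flat_of_surjective _
    haveI : Epi qu.left := Flat.epi_of_flat_of_surjective _
    exact ⟨toB _ (GrpSchLib.Rosenlicht.bijective_of_comp qs hG'), toB _ (GrpSchLib.Rosenlicht.bijective_of_comp qu hG')⟩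
  rintro ⟨hGs, hGu⟩
  have hGs' := Chevalley.CommAff.appTop_bijective hGs
  have hGu' := Chevalley.CommAff.appTop_bijective hGu
  obtain ⟨I, _, p, K, _, κ, hp, hIa, hIl, hIq, hpf, hps, hκ, hκc, hk, hK⟩ :=
    GrpSchLib.Rosenlicht.exists_antiAffine_kernel G
  haveI := hp; haveI := hIa; haveI := hIl; haveI := hIq; haveI := hpf; haveI := hps; haveI := hκ; haveI := hκc
  haveI := GrpSchLib.AntiAffine.isSeparated_grp I
  haveI := hqc p
  haveI : Epi p.left := Flat.epi_of_flat_of_surjective _
  haveI : Epi p := Over.epi_of_epi_left _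
  haveI : IsCommMonObj I := Chevalley.CommAff.isCommMonObj_of_cover p
  have key : ∀ {X Gq : Over (Spec (CommRingCat.of k))} [GrpObj X] [GrpObj Gq] [LocallyOfFiniteType Gq.hom]
      [QuasiCompact Gq.hom] [LocallyOfFiniteType X.hom] [QuasiCompact X.hom] (v : X ⟶ G) [IsMonHom v] (q : G ⟶ Gq)
      [IsMonHom q] [Flat q.left] [Surjective q.left], AlgGrp.IsKernel v q → Function.Bijective Gq.hom.appTop →
      Surjective (v ≫ p).left := by
    intro X Gq _ _ _ _ _ _ v _ q _ _ _ hvq hGq
    obtain ⟨J, _, p₁, b, hp₁, hb, hpb, hbc, hp₁f, hp₁s, hJl, hJq⟩ := GrpSchLib.ImageFactor.exists_image (v ≫ p)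
    haveI := hp₁; haveI := hb; haveI := hbc; haveI := hp₁s; haveI := hJl; haveI := hJq
    obtain ⟨C, _, c, hc, hcf, hcs, hck, hCl, hCq⟩ :=
      Chevalley.CommAff.exists_quot b (Chevalley.CommAff.isNormal_of_comm _)
    haveI := hc; haveI := hcf; haveI := hcs; haveI := hCl; haveI := hCq
    haveI : IsAffine C.left := GrpSchLib.isAffine_of_quotient c
    obtain ⟨w, -, hw, -⟩ := S3280.result k G X Gq C q v hvq (p ≫ c) (by
      rw [← Category.assoc, ← hpb, Category.assoc, hck.w, ← Category.assoc, comp_toUnit])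
    have hw1 : w = 1 := by
      rw [GrpSchLib.AntiAffine.eq_const_of_isAffine hGq w η[Gq], ← IsMonHom.one_hom q, Category.assoc, hw,
        ← Category.assoc η[G], IsMonHom.one_hom p, IsMonHom.one_hom c, ← Hom.one_def]
    have hc1 : c = 1 := by
      rw [← cancel_epi p, ← hw, hw1, MonObj.comp_one, MonObj.comp_one]
    haveI : Mono b := Over.mono_of_mono_left _
    haveI : IsSplitEpi b := ⟨⟨⟨hck.lift (𝟙 I) (toUnit I) (by rw [Category.id_comp, hc1, Hom.one_def]), hck.lift_fst _ _ _⟩⟩⟩
    haveI : IsIso b := isIso_of_mono_of_isSplitEpi b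
    haveI : IsIso b.left := inferInstanceAs (IsIso ((Over.forget _).map b))
    rw [← hpb, Over.comp_left]
    infer_instance
  have hTt : Red.IsTorus T := hT
  obtain ⟨hT1, hT2, hT3, hT4, hT5⟩ := Chevalley.CommAff.torus_props hTt
  haveI := hT1; haveI := hT5
  haveI : QuasiCompact U.hom := inferInstance
  haveI := key (t ≫ i) qu hu hGu'
  haveI := key (u ≫ i) qs hs hGs'
  haveI : AlgebraicGeometry.IsReduced I.left :=
    @GrpSchLib.isReduced_of_smooth_field k _ _ I.hom (GrpSchLib.smooth_of_quotient p)
  haveI := hqc ((t ≫ i) ≫ p)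
  haveI := GrpSchLib.flat_of_surjective_hom ((t ≫ i) ≫ p)
  have hI : Red.IsTorus I := Chevalley.CommAff.isTorus_image hTt ((t ≫ i) ≫ p)
  haveI := hTU
  haveI : IsMonHom ((u ≫ i) ≫ p) := inferInstance
  haveI : IsCommMonObj U := by
    haveI : IsClosedImmersion (u ≫ i).left := by
      have hp' := hs.map (Over.forget (Spec (CommRingCat.of k)))
      haveI : IsClosedImmersion η[Gs].left := isClosedImmersion_of_comp_eq_id (f := Gs.hom) _ (Over.w η[Gs])
      exact MorphismProperty.of_isPullback (P := @IsClosedImmersion) hp'.flip (show IsClosedImmersion η[Gs].left from inferInstance)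
    haveI : Mono (u ≫ i) := Over.mono_of_mono_left _
    exact Chevalley.CommAff.isCommMonObj_sub (u ≫ i)
  obtain ⟨M, hM0, hM⟩ := Chevalley.CommAff.pow_eq_one_of_kills_tori hI ((u ≫ i) ≫ p) fun T' _ i' _ hT' => by
    obtain ⟨hT1', hT2', hT3', hT4', hT5'⟩ := Chevalley.CommAff.torus_props hT'
    haveI := hT1'; haveI := hT5'
    obtain ⟨J, _, p₁, b, hp₁, hb, hpb, hbc, hp₁f, hp₁s, hJl, hJq⟩ := GrpSchLib.ImageFactor.exists_image i'
    haveI := hp₁; haveI := hb; haveI := hbc; haveI := hp₁f; haveI := hp₁s; haveI := hJl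
    haveI : IsAffine J.left := isAffine_of_isAffineHom b.left
    haveI : Mono b := Over.mono_of_mono_left _
    have h1 := Chevalley.CommAff.id_eq_one_of_isTrivialGrp (hU J b (Chevalley.CommAff.isTorus_image hT' p₁))
    rw [← hpb, ← Category.id_comp b, h1, MonObj.one_comp, MonObj.comp_one, MonObj.one_comp]
  obtain ⟨hI1, hI2, hI3, hI4, hI5⟩ := Chevalley.CommAff.torus_props hI
  haveI := hI1; haveI := hI3
  haveI := (Chevalley.CommAff.pow_torus_props hI hM0).1
  have hsub : Subsingleton I.left := by
    have h2 : ((u ≫ i) ≫ p) ≫ ((𝟙 I) ^ M) = toUnit U ≫ η[I] := by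
      rw [Chevalley.BC.comp_pow, Category.comp_id, hM, Hom.one_def]
    haveI : Surjective (toUnit U ≫ η[I]).left := by rw [← h2, Over.comp_left]; infer_instance
    haveI : Surjective ((toUnit U).left ≫ η[I].left) := by rw [← Over.comp_left]; infer_instance
    haveI : Surjective η[I].left := Surjective.of_comp (toUnit U).left η[I].left
    haveI : Subsingleton ↥(𝟙_ (Over (Spec (CommRingCat.of k)))).left := FibDim.subsingleton_spec_field k
    exact η[I].left.surjective.subsingleton
  haveI := hsub
  have hI0 := Chevalley.CommAff.isTrivial_of_subsingleton I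
  haveI : IsSplitEpi κ := ⟨⟨⟨hk.lift (𝟙 G) (toUnit G) (by
    rw [Category.id_comp, ← Category.comp_id p, hI0, MonObj.comp_one, Hom.one_def]), hk.lift_fst _ _ _⟩⟩⟩
  haveI : Mono κ := Over.mono_of_mono_left _
  haveI : IsIso κ := isIso_of_mono_of_isSplitEpi κ
  haveI : IsIso κ.left := inferInstanceAs (IsIso ((Over.forget _).map κ))
  refine toB G ?_
  haveI : Epi κ.left := inferInstance
  exact GrpSchLib.Rosenlicht.bijective_of_comp κ hK

end Groth.Agent.S19704
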