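import Groth.Statements.S19733
import Groth.Agent.SurfCone.Cones
-- import your own Groth.Agent.* helpers here

set_option autoImplicit false
set_option backward.isDefEq.respectTransparency false
set_option backward.isDefEq.respectTransparency.types false
set_option linter.style.haveILetI false
set_option maxHeartbeats 1000000
universe u
open CategoryTheory CategoryTheory.Limits AlgebraicGeometry TopologicalSpace
open Surf

namespace Groth.Agent.S19733
open Groth.Agent

/-- Let k be an algebraically closed field of characteristic zero and X a smooth projective surface over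
k (integral, proper and smooth over k, of dimension 2, with an ample invertible module); the notes
work over the complex numbers. Fix a group law on the Picard set of X, and let B be the intersection
form on N¹(X)_ℝ = ℝ ⊗ (Pic X modulo numerical equivalence), the real bilinear form whose value on
the classes of invertible modules L, M is (L·M) = χ(O_X) − χ(L) − χ(M) + χ(L ⊗ M). Real divisors are
finite real combinations of integral curves on X (quasi-coherent ideals with integral closed
subscheme of one-dimensional support and invertible ideal module); such a real divisor is ample when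
it is a combination with positive real coefficients of integral divisors E_i whose Picard classes
[O_X(E_i)] are classes of ample invertible modules, and numerically trivial when its class pairs to
zero under B with the class of every integral divisor. If D is an ample real divisor and D′ is a
real divisor with D′ − D numerically trivial, then D′ is ample. -/
theorem result (k : Type u) [Field k] [IsAlgClosed k] [CharZero k]
    (X : Scheme.{u}) [X.Over (Spec (CommRingCat.of k))] [IsProper (X ↘ (Spec (CommRingCat.of k)))]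
    [Smooth (X ↘ (Spec (CommRingCat.of k)))] [AlgebraicGeometry.IsIntegral X] (hdim : topologicalKrullDim X = 2)
    (hproj : ∃ H : X.Modules, CohB1.IsAmple H) [PicGrp.Law X]
    (B : NumR.N1R k X →ₗ[ℝ] NumR.N1R k X →ₗ[ℝ] ℝ) (hB : NumR.IsIntForm₂ k X B)
    (D D' : NumR.CDivR X) (hD : NumR.IsAmpleRDiv X D) (h : NumR.IsNumTrivialRDiv k X B (D' - D)) :
    NumR.IsAmpleRDiv X D' := by
  have hd : topologicalKrullDim X = ((2 : ℕ) : WithBot ℕ∞) := by rw [hdim]; rfl
  haveI := CurveCohLib.isNoetherian_of_proper (k := k) (X := X)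
  classical
  obtain ⟨n, E, t, hn, ht, hE, hDE⟩ := hD
  have hcur : ∀ C : NumR.Curve X, NumR.divClR k X (NumR.CDiv.toR X (Finsupp.single C 1)) =
      NumR.curveCl k X C.1 C.2.2.2 := fun C => by
    rw [show NumR.CDiv.toR X (Finsupp.single C 1) = Finsupp.single C (1 : ℝ) by simp [NumR.CDiv.toR],
      NumR.divClR, Finsupp.linearCombination_single, one_smul]
  have key : ∀ (A : X.Modules) (hA : CohB1.IsAmple A) (E₀ N : NumR.CDiv X),
      Additive.ofMul (PicGrp.cls A hA.1) = NumR.divCl X E₀ →
      (∀ C : NumR.Curve X, B (NumR.divClR k X (NumR.CDiv.toR X N)) (NumR.curveCl k X C.1 C.2.2.2) = 0) →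
      ∃ (L : X.Modules) (hL : PicF.IsInvertible L), CohB1.IsAmple L ∧
        Additive.ofMul (PicGrp.cls L hL) = NumR.divCl X (E₀ + N) := by
    intro A hA E₀ N he hN
    obtain ⟨P, hP, hPe⟩ := PicGrp.exists_eq_cls (Additive.toMul (NumR.divCl X N))
    have hPcl : NumR.clR k X P hP = NumR.divClR k X (NumR.CDiv.toR X N) := by
      rw [NumR.divClR_toR, NumR.clR_def, ← NumR.toN1_ofMul_cls, ← hPe, ofMul_toMul]
    have hnef : BigMono.NefC k P := SurfRR.nef_of_curves k hP fun C hC hC1 => by
      have hI := (S8914.result C).2 (SurfRR.isEffCartier_curve k hd hC hC1 (SurfRR.regular_of_smooth k))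
      rw [SurfRR.eulerDiff_eq_neg_pair k hd (SurfRR.regular_of_smooth k) hC hC1 hP]
      have h := hN ⟨C, hC, hC1, hI⟩
      rw [← hPcl, SurfCone.B_curveCl hd hB, SurfCone.B_clR hd hB, SurfRR.pair_comm k hP hI, neg_eq_zero] at h
      have h' : SurfRR.pair k (ClSub.idealMod C) P = 0 := by exact_mod_cast h
      rw [h', neg_zero]
    have hamp := BigMono.isAmple_nef_tensor k hP hnef hA (p := 1) (q := 1) one_pos one_pos
    refine ⟨_, hamp.1, hamp, ?_⟩
    have h1 : PicGrp.cls _ hamp.1 = PicGrp.cls P hP ^ 1 * PicGrp.cls A hA.1 ^ 1 := Subtype.ext (by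
      rw [PicGrp.mul_val, PicGrp.cls_pow_val, PicGrp.cls_pow_val]; rfl)
    rw [h1, pow_one, pow_one, ofMul_mul, he, ← hPe, ofMul_toMul, map_add, add_comm]
  let e := (D' - D).support.equivFin.symm
  obtain ⟨m, w, d, hw, hv⟩ := SurfCone.exists_int_kernel
    (fun i (C : NumR.Curve X) => SurfRR.pair k (ClSub.idealMod (e i).1.1) (ClSub.idealMod C.1))
    (fun i => (D' - D) (e i).1) fun C => by
      have h0 := h (Finsupp.single C 1)
      rw [hcur, NumR.divClR, Finsupp.linearCombination_apply, Finsupp.sum, ← Finset.sum_coe_sort,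
        ← e.sum_comp] at h0
      simp only [map_sum, LinearMap.sum_apply, map_smul, LinearMap.smul_apply, smul_eq_mul] at h0
      rw [← h0]
      refine Finset.sum_congr rfl fun i _ => ?_
      rw [show B (NumR.curveCl k X (e i).1.1 (e i).1.2.2.2) (NumR.curveCl k X C.1 C.2.2.2) =
        (SurfRR.pair k (ClSub.idealMod (e i).1.1) (ClSub.idealMod C.1) : ℝ) by
          rw [SurfCone.B_curveCl hd hB, SurfCone.B_comm hd hB, SurfCone.B_curveCl hd hB, neg_neg, SurfCone.B_clR hd hB,
            SurfRR.pair_comm k C.2.2.2 (e i).1.2.2.2]]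
  let N : Fin m → NumR.CDiv X := fun j => ∑ i, Finsupp.single (e i).1 (w j i)
  have hNR : ∀ j, NumR.CDiv.toR X (N j) = ∑ i, Finsupp.single (e i).1 (w j i : ℝ) := fun j => by
    simp [N, NumR.CDiv.toR]
  have hN0 : ∀ j (z : ℤ) (C : NumR.Curve X),
      B (NumR.divClR k X (NumR.CDiv.toR X (z • N j))) (NumR.curveCl k X C.1 C.2.2.2) = 0 := fun j z C => by
    rw [map_zsmul, map_zsmul, map_zsmul, LinearMap.smul_apply, hNR, NumR.divClR]
    simp only [map_sum, Finsupp.linearCombination_single, LinearMap.sum_apply, map_smul, LinearMap.smul_apply,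
      smul_eq_mul, NumR.curveCl, map_neg, LinearMap.neg_apply, mul_neg, Finset.sum_neg_distrib, neg_neg, SurfCone.B_clR hd hB]
    rw [show (∑ i, (w j i : ℝ) * (SurfRR.pair k (ClSub.idealMod (e i).1.1) (ClSub.idealMod C.1) : ℝ)) = 0 by
      exact_mod_cast hw j C, smul_zero]
  have hdec : D' - D = ∑ j, d j • NumR.CDiv.toR X (N j) := by
    have h1 : D' - D = ∑ i, Finsupp.single (e i).1 ((D' - D) (e i).1) := by
      conv_lhs => rw [← Finsupp.sum_single (D' - D), Finsupp.sum, ← Finset.sum_coe_sort, ← e.sum_comp]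
    rw [h1]
    simp only [hNR, Finset.smul_sum, Finsupp.smul_single, smul_eq_mul]
    rw [Finset.sum_comm]
    exact Finset.sum_congr rfl fun i _ => by rw [hv i, Finsupp.single_finsetSum]
  let i₀ : Fin n := ⟨0, hn⟩
  set a : Fin m → ℝ := fun j => |d j| + 1 with ha
  set b : Fin m → ℝ := fun j => |d j| + 1 - d j with hb
  have ha0 : ∀ j, 0 < a j := fun j => by positivity
  have hb0 : ∀ j, 0 < b j := fun j => by simp only [hb]; linarith [le_abs_self (d j)]
  obtain ⟨M, hM⟩ := exists_nat_gt ((∑ j, (a j + b j)) / t i₀)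
  have hsum0 : 0 ≤ ∑ j, (a j + b j) := Finset.sum_nonneg fun j _ => (add_pos (ha0 j) (hb0 j)).le
  have hM0 : (0 : ℝ) < M := (div_nonneg hsum0 (ht i₀).le).trans_lt hM
  have hlt : (∑ j, (a j + b j)) / M < t i₀ := by
    rw [div_lt_iff₀ hM0]
    rw [div_lt_iff₀ (ht i₀)] at hM
    linarith
  let F : Fin n ⊕ (Fin m ⊕ Fin m) → NumR.CDiv X :=
    Sum.elim E (Sum.elim (fun j => E i₀ + (M : ℤ) • N j) (fun j => E i₀ + (-(M : ℤ)) • N j))
  let s : Fin n ⊕ (Fin m ⊕ Fin m) → ℝ :=
    Sum.elim (fun i => if i = i₀ then t i₀ - (∑ j, (a j + b j)) / M else t i)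
      (Sum.elim (fun j => a j / M) (fun j => b j / M))
  let q := (Fintype.equivFin (Fin n ⊕ (Fin m ⊕ Fin m))).symm
  refine ⟨_, fun i => F (q i), fun i => s (q i), Fintype.card_pos_iff.2 ⟨Sum.inl i₀⟩, fun i => ?_, fun i => ?_, ?_⟩
  · show 0 < s (q i)
    rcases q i with l | l | l
    · show 0 < ite _ _ _
      split_ifs
      · linarith
      · exact ht l
    · exact div_pos (ha0 l) hM0
    · exact div_pos (hb0 l) hM0
  · obtain ⟨A, hA1, hA, hAe⟩ := hE i₀
    show ∃ (L : X.Modules) (hL : PicF.IsInvertible L), CohB1.IsAmple L ∧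
      Additive.ofMul (PicGrp.cls L hL) = NumR.divCl X (F (q i))
    rcases q i with l | l | l
    · exact hE l
    · exact key A hA _ _ hAe (hN0 l _)
    · exact key A hA _ _ hAe (hN0 l _)
  · rw [q.sum_comp (fun x => s x • NumR.CDiv.toR X (F x)), Fintype.sum_sum_type, Fintype.sum_sum_type,
      ← sub_add_cancel D' D, hdec, hDE]
    simp only [F, s, Sum.elim_inl, Sum.elim_inr, map_add, map_zsmul, smul_add, Finset.sum_add_distrib]
    generalize hS : (∑ j, a j + ∑ j, b j) / (M : ℝ) = S
    have e1 : ∀ x, (if x = i₀ then t i₀ - S else t x) • NumR.CDiv.toR X (E x) =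
        t x • NumR.CDiv.toR X (E x) - (if x = i₀ then S • NumR.CDiv.toR X (E i₀) else 0) := fun x => by
      split_ifs with hx
      · rw [hx, sub_smul]
      · rw [sub_zero]
    simp only [e1, Finset.sum_sub_distrib, Finset.sum_ite_eq', Finset.mem_univ, if_true]
    have e2 : ∀ j, d j • NumR.CDiv.toR X (N j) = (a j / (M : ℝ)) • ((M : ℤ) • NumR.CDiv.toR X (N j)) +
        (b j / (M : ℝ)) • ((-(M : ℤ)) • NumR.CDiv.toR X (N j)) := fun j => by
      rw [← Int.cast_smul_eq_zsmul ℝ, ← Int.cast_smul_eq_zsmul ℝ, smul_smul, smul_smul, ← add_smul]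
      congr 1
      push_cast
      rw [div_mul_cancel₀ _ hM0.ne', mul_neg, div_mul_cancel₀ _ hM0.ne']
      simp only [ha, hb]; ring
    have e3 : S • NumR.CDiv.toR X (E i₀) = ∑ j, (a j / (M : ℝ)) • NumR.CDiv.toR X (E i₀) +
        ∑ j, (b j / (M : ℝ)) • NumR.CDiv.toR X (E i₀) := by
      rw [← hS, ← Finset.sum_add_distrib, Finset.sum_div, Finset.sum_smul, ← Finset.sum_add_distrib]
      exact Finset.sum_congr rfl fun j _ => by rw [add_div, add_smul]
    rw [e3, Finset.sum_congr rfl fun j _ => e2 j, Finset.sum_add_distrib]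
    abel

end Groth.Agent.S19733
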