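import Groth.Statements.S19736
import Groth.Agent.SurfCone.Cones
-- import your own Groth.Agent.* helpers here

set_option autoImplicit false
set_option backward.isDefEq.respectTransparency false
set_option backward.isDefEq.respectTransparency.types false
set_option linter.style.haveILetI false
set_option maxHeartbeats 1000000
universe u
open CategoryTheory CategoryTheory.Limits AlgebraicGeometry TopologicalSpace
open Surf

namespace Groth.Agent.S19736
open Groth.Agent

/-- Let k be an algebraically closed field of characteristic zero and X a smooth projective surface over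
k (integral, proper and smooth over k, of dimension 2, with an ample invertible module); the notes
work over the complex numbers. Fix a group law on the Picard set of X, and let B be the intersection
form on N¹(X)_ℝ = ℝ ⊗ (Pic X modulo numerical equivalence), the real bilinear form whose value on
the classes of invertible modules L, M is (L·M) = χ(O_X) − χ(L) − χ(M) + χ(L ⊗ M); assume N¹(X)_ℝ is
finite-dimensional, of dimension the Picard number ρ. If C_1, …, C_r are pairwise distinct integral
curves on X (quasi-coherent ideals I_i with integral closed subscheme of one-dimensional support and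
invertible ideal module) spanning a negative definite sublattice, Σ_{i,j} a_i a_j (I_i·I_j) < 0 for
every nonzero integer vector a with (I_i·I_j) = χ(O_X) − χ(I_i) − χ(I_j) + χ(I_i ⊗ I_j), then r ≤ ρ
− 1. (The published corollary adds that the walls of curves of negative self-intersection form a
locally finite family along the closure of the ample cone in the positive cone; no argument is given
for that clause and it is not restated.) -/
theorem result (k : Type u) [Field k] [IsAlgClosed k] [CharZero k]
    (X : Scheme.{u}) [X.Over (Spec (CommRingCat.of k))] [IsProper (X ↘ (Spec (CommRingCat.of k)))]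
    [Smooth (X ↘ (Spec (CommRingCat.of k)))] [AlgebraicGeometry.IsIntegral X] (hdim : topologicalKrullDim X = 2)
    (hproj : ∃ H : X.Modules, CohB1.IsAmple H) [PicGrp.Law X] [Module.Finite ℝ (NumR.N1R k X)]
    (B : NumR.N1R k X →ₗ[ℝ] NumR.N1R k X →ₗ[ℝ] ℝ) (hB : NumR.IsIntForm₂ k X B)
    (r : ℕ) (C : Fin r → X.IdealSheafData) (hC : Function.Injective C)
    (hCi : ∀ i, AlgebraicGeometry.IsIntegral (C i).subscheme) (hCd : ∀ i, topologicalKrullDim ((C i).support : Set X) = 1)
    (hCinv : ∀ i, PicF.IsInvertible (ClSub.idealMod (C i)))
    (hneg : ∀ a : Fin r → ℤ, a ≠ 0 →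
      ∑ i, ∑ j, a i * a j * FGA.intNum k X 2 ![(ClSub.idealMod (C i)), (ClSub.idealMod (C j))] (Coh.structureModule X) < 0) :
    r + 1 ≤ Module.finrank ℝ (NumR.N1R k X) := by
  have hd : topologicalKrullDim X = ((2 : ℕ) : WithBot ℕ∞) := by rw [hdim]; rfl
  obtain ⟨H, hH⟩ := hproj
  set c : Fin r → NumR.N1R k X := fun i => NumR.clR k X (ClSub.idealMod (C i)) (hCinv i) with hc
  set G : Fin r → Fin r → ℝ := fun i j => B (c i) (c j) with hG
  have hGi : ∀ i j, G i j = ((SurfRR.pair k (ClSub.idealMod (C i)) (ClSub.idealMod (C j)) : ℤ) : ℝ) := fun i j =>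
    SurfCone.B_clR hd hB (hCinv i) (hCinv j)
  simp only [fun i j => SurfRR.intNum_two k hd.le (hCinv i) (hCinv j)] at hneg
  have hsemi : ∀ v : Fin r → ℝ, ∑ i, ∑ j, v i * v j * G i j ≤ 0 := SurfCone.nonpos_real G fun a => by
    simp only [hGi]
    by_cases ha : a = 0
    · simp [ha]
    · exact_mod_cast (hneg a ha).le
  have hrad : ∀ v : Fin r → ℝ, (∀ j, ∑ i, v i * G i j = 0) → v = 0 := fun v hv => by
    obtain ⟨m, w, d, hw, hvw⟩ := SurfCone.exists_int_kernel
      (fun i j => SurfRR.pair k (ClSub.idealMod (C i)) (ClSub.idealMod (C j))) v (fun j => by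
        simp only [← hGi]; exact hv j)
    have hw0 : ∀ j, w j = 0 := fun j => by_contra fun h => by
      refine (hneg (w j) h).ne ?_
      rw [Finset.sum_comm]
      refine Finset.sum_eq_zero fun l _ => ?_
      calc _ = w j l * ∑ i, w j i * SurfRR.pair k (ClSub.idealMod (C i)) (ClSub.idealMod (C l)) := by
            rw [Finset.mul_sum]; exact Finset.sum_congr rfl fun i _ => by ring
        _ = 0 := by rw [hw j l, mul_zero]
    funext i
    rw [hvw i]
    exact Finset.sum_eq_zero fun j _ => by rw [hw0 j]; simp
  let f : Option (Fin r) → NumR.N1R k X := fun o => o.elim (NumR.clR k X H hH.1) c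
  have hind : LinearIndependent ℝ f := by
    refine Fintype.linearIndependent_iff.2 fun g hg => ?_
    rw [Fintype.sum_option] at hg
    set a := g none
    set v : Fin r → ℝ := fun i => g (some i)
    have hg' : a • NumR.clR k X H hH.1 + ∑ i, v i • c i = 0 := hg
    have ha : a = 0 := by
      have h1 : a • NumR.clR k X H hH.1 = - ∑ i, v i • c i := eq_neg_of_add_eq_zero_left hg'
      have h2 : a * (a * B (NumR.clR k X H hH.1) (NumR.clR k X H hH.1)) = ∑ i, ∑ j, v i * v j * G i j := by
        rw [← smul_eq_mul a (B _ _), ← map_smul, ← smul_eq_mul, ← LinearMap.smul_apply, ← map_smul, h1]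
        simp only [map_neg, LinearMap.neg_apply, map_sum, LinearMap.sum_apply, map_smul, LinearMap.smul_apply,
          smul_eq_mul, Finset.mul_sum, mul_neg, Finset.sum_neg_distrib, neg_neg, hG]
        rw [Finset.sum_comm]
        exact Finset.sum_congr rfl fun i _ => Finset.sum_congr rfl fun j _ => by ring
      by_contra ha
      have h3 := mul_pos (mul_self_pos.2 ha) (SurfCone.B_self_pos hd hB hH)
      have h4 := hsemi v
      rw [← h2, ← mul_assoc] at h4
      exact not_lt.2 h4 h3
    rw [ha, zero_smul, zero_add] at hg'
    have hv := hrad v fun j => by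
      have := congrArg (fun z => B z (c j)) hg'
      simpa [map_sum, LinearMap.sum_apply, map_smul, LinearMap.smul_apply, smul_eq_mul, hG] using this
    rintro (_ | i)
    · exact ha
    · exact congrFun hv i
  have h := hind.fintype_card_le_finrank
  rwa [Fintype.card_option, Fintype.card_fin] at h

end Groth.Agent.S19736
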