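import Groth.Statements.S19772
import Groth.Agent.AVRoots.KL

set_option autoImplicit false
set_option backward.isDefEq.respectTransparency false
set_option backward.isDefEq.respectTransparency.types false
set_option maxHeartbeats 1000000
set_option linter.style.haveILetI false
universe u
open CategoryTheory MonoidalCategory CartesianMonoidalCategory MonObj GrpObj AlgebraicGeometry
open AbVar

namespace Groth.Agent.S19772
open Groth.Agent CategoryTheory AlgebraicGeometry
open scoped Groth.Agent.H23.PicMul
set_option backward.isDefEq.respectTransparency false
set_option backward.isDefEq.respectTransparency.types false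

/-- Let X be an abelian variety over a field k (a proper, geometrically integral k-group scheme), L an
invertible O_X-module, H an ample invertible O_X-module, and Φ the Hilbert polynomial of L with
respect to H: the rational polynomial with Φ(n) = χ(X, L ⊗ H^{⊗ n}) for every natural number n. Let
i : K → X be a closed immersion exhibiting K as K(L) (the maximal closed subscheme over which the
Mumford bundle m^*L ⊗ p_1^*L⁻¹ ⊗ p_2^*L⁻¹, restricted to X ×_k K, is the inverse image of an
invertible module on K, with its universal property). Then the dimension of K (the Krull dimension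
of its underlying space) equals the root multiplicity of Φ at 0. -/
theorem result (k : Type u) [Field k] (X : Over (Spec (CommRingCat.of k)))
    [GrpObj X] [IsProper X.hom] [GeometricallyIntegral X.hom] (L : X.left.Modules) (hL : PicF.IsInvertible L)
    (K : Over (Spec (CommRingCat.of k))) (i : K ⟶ X) (hK : ThetaGrp.IsKL X L i)
    (H : X.left.Modules) (hH : CohB1.IsAmple H) (Φ : Polynomial ℚ)
    (hΦ : ∀ n : ℕ, Φ.eval (n : ℚ) =
      (@Curv2.euler k _ X.left ⟨X.hom⟩ (CohB1.tensorMod L (CohB1.tensorPow H n)) : ℚ)) :
    topologicalKrullDim ↥K.left = ((Φ.rootMultiplicity 0 : ℕ) : WithBot ℕ∞) := by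
  let ps := AVIndex.clMap k
  haveI : IsProper (Red.bc ps X).hom := (H23.BcComp.isAV_bc ps X).1
  haveI : GeometricallyIntegral (Red.bc ps X).hom := (H23.BcComp.isAV_bc ps X).2
  haveI : IsClosedImmersion i.left := hK.closed
  haveI : LocallyOfFiniteType K.hom := by rw [← Over.w i]; infer_instance
  obtain ⟨g, hg, hH', hΦ'⟩ := AVRoots.bar_data hL hH hΦ
  have hL' : PicF.IsInvertible _ := PicClLib.isInvertible_pullback (AVDualCx.prj ps X) hL
  haveI : IsClosedImmersion ((Over.pullback ps).map i).left := MorphismProperty.of_isPullback
    (P := @IsClosedImmersion)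
    (IsPullback.of_bot (by
      show IsPullback (Limits.pullback.fst K.hom ps) (((Over.pullback ps).map i).left ≫ Limits.pullback.snd X.hom ps)
        (i.left ≫ X.hom) ps
      rw [show ((Over.pullback ps).map i).left ≫ Limits.pullback.snd X.hom ps = Limits.pullback.snd K.hom ps from
        Limits.pullback.lift_snd _ _ _, Over.w i]
      exact IsPullback.of_hasPullback K.hom ps) (Limits.pullback.lift_fst _ _ _).symm
      (IsPullback.of_hasPullback X.hom ps)) inferInstance
  haveI : Subsingleton ↥(Spec (CommRingCat.of k)) := inferInstanceAs (Subsingleton (PrimeSpectrum k))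
  haveI : Subsingleton ↥(Spec (CommRingCat.of (AlgebraicClosure k))) :=
    inferInstanceAs (Subsingleton (PrimeSpectrum (AlgebraicClosure k)))
  rw [← FibDim.topologicalKrullDim_baseChange (IsPullback.of_hasPullback K.hom ps),
    ← AVRoots.dim_stab_eq hL' hH' hg hΦ' (((Over.pullback ps).map i).left.isClosedEmbedding.isClosed_range)
      fun a => AVRoots.mem_range_bc_iff hL K i hK a]
  exact IsHomeomorph.topologicalKrullDim_eq _
    ((Over.pullback ps).map i).left.isClosedEmbedding.isEmbedding.toHomeomorph.isHomeomorph

end Groth.Agent.S19772
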