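import Groth.Statements.S19778
import Groth.Agent.H1Approx.Idempotent

set_option autoImplicit false
universe u
open TensorProduct
open CAlg

namespace Groth.Agent.S19778

/-- For general linear groups, in the case A[1/t] → Â[1/t], let A be a commutative ring and t ∈ A with
(A, tA) a Henselian pair and the t-power torsion of A bounded, let Â be the t-adic completion and
give Â[1/t] the A[1/t]-algebra structure of the canonical map. Then every finitely generated
projective Â[1/t]-module is the base change of a finitely generated projective A[1/t]-module. (The
published statement is the bijection H¹(A[1/t], G) ≅ H¹(Â[1/t], G) for every quasi-affine smooth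
group G; this row is the case of the general linear groups, stated as essential surjectivity of base
change on finitely generated projective modules of arbitrary rank.) -/
theorem result (A : Type u) [CommRing A]
    (t : A) [HenselianRing A (Ideal.span {t})]
    (hbd : ∃ N : ℕ, ∀ a : A, (∃ m : ℕ, t ^ m * a = 0) → t ^ N * a = 0)
    [Algebra (Localization.Away t) (Localization.Away (algebraMap A (AdicCompletion (Ideal.span {t}) A) t))]
    (halg : algebraMap (Localization.Away t) (Localization.Away (algebraMap A (AdicCompletion (Ideal.span {t}) A) t)) = Localization.awayMap (algebraMap A (AdicCompletion (Ideal.span {t}) A)) t)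
    (M' : Type u) [AddCommGroup M'] [Module (Localization.Away (algebraMap A (AdicCompletion (Ideal.span {t}) A) t)) M']
    [Module.Finite (Localization.Away (algebraMap A (AdicCompletion (Ideal.span {t}) A) t)) M'] [Module.Projective (Localization.Away (algebraMap A (AdicCompletion (Ideal.span {t}) A) t)) M'] :
    ∃ (M : Type u) (_ : AddCommGroup M) (_ : Module (Localization.Away t) M),
      Module.Finite (Localization.Away t) M ∧ Module.Projective (Localization.Away t) M ∧
      Nonempty ((Localization.Away (algebraMap A (AdicCompletion (Ideal.span {t}) A) t)) ⊗[Localization.Away t] M ≃ₗ[Localization.Away (algebraMap A (AdicCompletion (Ideal.span {t}) A) t)] M') := by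
  have ht : t ∈ (⊥ : Ideal A).jacobson :=
    HenselianRing.jac (I := Ideal.span {t}) (Ideal.mem_span_singleton_self t)
  obtain ⟨n, π, hπ⟩ := Module.Finite.exists_fin' (Localization.Away (algebraMap A (AdicCompletion (Ideal.span {t}) A) t)) M'
  obtain ⟨s, hs⟩ := Module.projective_lifting_property π LinearMap.id hπ
  let em := (H1Approx.stdB (L := Localization.Away t) (Localization.Away (algebraMap A (AdicCompletion (Ideal.span {t}) A) t)) n).equivFun
  let π' := π ∘ₗ em.toLinearMap
  let ι' := em.symm.toLinearMap ∘ₗ s
  have hπι : π' ∘ₗ ι' = LinearMap.id := LinearMap.ext fun x => by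
    simpa [π', ι'] using LinearMap.congr_fun hs x
  have hee : H1Approx.mat (ι' ∘ₗ π') * H1Approx.mat (ι' ∘ₗ π') = H1Approx.mat (ι' ∘ₗ π') := by
    rw [← LinearMap.toMatrix_comp, LinearMap.comp_assoc, ← LinearMap.comp_assoc π' ι' π', hπι, LinearMap.id_comp]
  obtain ⟨E, hE, hnear⟩ := H1Approx.exists_idempotent_near t hbd ht halg _ hee
  refine (H1Approx.completionSetting t ht halg).exists_model_of_idempotent π' ι' hπι
    (fun k => Matrix.toLin (Pi.basisFun (Localization.Away t) (Fin n)) (Pi.basisFun (Localization.Away t) (Fin n)) (E k))
    (fun k => by rw [← Matrix.toLin_mul, hE]) ?_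
  unfold H1Approx.Setting.LNear
  simp only [H1Approx.mat, LinearMap.toMatrix_baseChange, LinearMap.toMatrix_toLin]
  exact hnear

end Groth.Agent.S19778
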