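import Groth.Statements.S19799
import Mathlib

set_option autoImplicit false
universe u v w
open scoped TensorProduct
open CAlg

namespace Groth.Agent.S19799

/-- Let k be an algebraically closed field and A, B commutative k-algebras, each finite-dimensional as a
k-vector space. Then reduction commutes with tensor products: the kernel of the canonical surjection
A ⊗_k B ⟶ (A/nilradical A) ⊗_k (B/nilradical B) equals the nilradical of A ⊗_k B, so that this
surjection induces an isomorphism (A ⊗_k B)_red ≅ A_red ⊗_k B_red and in particular A_red ⊗_k B_red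
is reduced. -/
theorem result (k : Type u) [Field k]
    [IsAlgClosed k] (A : Type v) [CommRing A] [Algebra k A] [Module.Finite k A]
    (B : Type w) [CommRing B] [Algebra k B] [Module.Finite k B] :
    RingHom.ker (Algebra.TensorProduct.map (Ideal.Quotient.mkₐ k (nilradical A))
      (Ideal.Quotient.mkₐ k (nilradical B))).toRingHom = nilradical (A ⊗[k] B) := by
  have key : ∀ {C : Type v} [CommRing C] [Algebra k C] [Module.Finite k C] [IsReduced C], Algebra.FormallyUnramified k C := by
    intro C _ _ _ _
    haveI : IsArtinianRing C := IsArtinianRing.of_finite k C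
    haveI : ∀ m : MaximalSpectrum C, Algebra.FormallyUnramified k (C ⧸ m.asIdeal) := fun m => by
      letI := Ideal.Quotient.field m.asIdeal
      have hs : Function.Surjective (algebraMap k (C ⧸ m.asIdeal)) :=
        IsAlgClosed.algebraMap_bijective_of_isIntegral.2
      exact Algebra.FormallyUnramified.of_surjective (Algebra.ofId k (C ⧸ m.asIdeal)) hs
    let e : C ≃ₐ[k] ((m : MaximalSpectrum C) → C ⧸ m.asIdeal) :=
      AlgEquiv.ofRingEquiv (f := IsArtinianRing.equivPi C) fun x => rfl
    exact Algebra.FormallyUnramified.of_equiv e.symm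
  have key' : ∀ {C : Type w} [CommRing C] [Algebra k C] [Module.Finite k C] [IsReduced C], Algebra.FormallyUnramified k C := by
    intro C _ _ _ _
    haveI : IsArtinianRing C := IsArtinianRing.of_finite k C
    haveI : ∀ m : MaximalSpectrum C, Algebra.FormallyUnramified k (C ⧸ m.asIdeal) := fun m => by
      letI := Ideal.Quotient.field m.asIdeal
      have hs : Function.Surjective (algebraMap k (C ⧸ m.asIdeal)) :=
        IsAlgClosed.algebraMap_bijective_of_isIntegral.2
      exact Algebra.FormallyUnramified.of_surjective (Algebra.ofId k (C ⧸ m.asIdeal)) hs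
    let e : C ≃ₐ[k] ((m : MaximalSpectrum C) → C ⧸ m.asIdeal) :=
      AlgEquiv.ofRingEquiv (f := IsArtinianRing.equivPi C) fun x => rfl
    exact Algebra.FormallyUnramified.of_equiv e.symm
  haveI : IsReduced (A ⧸ nilradical A) := (Ideal.isRadical_iff_quotient_reduced _).mp (Ideal.radical_isRadical _)
  haveI : IsReduced (B ⧸ nilradical B) := (Ideal.isRadical_iff_quotient_reduced _).mp (Ideal.radical_isRadical _)
  haveI := key (C := A ⧸ nilradical A)
  haveI := key' (C := B ⧸ nilradical B)
  haveI : Algebra.FormallyUnramified k ((A ⧸ nilradical A) ⊗[k] (B ⧸ nilradical B)) :=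
    Algebra.FormallyUnramified.comp k (A ⧸ nilradical A) _
  haveI : IsReduced ((A ⧸ nilradical A) ⊗[k] (B ⧸ nilradical B)) := Algebra.FormallyUnramified.isReduced_of_field k _
  refine le_antisymm ?_ fun x hx => RingHom.mem_ker.mpr ((mem_nilradical.mp hx).map _).eq_zero
  rw [AlgHom.toRingHom_eq_coe]
  refine (Algebra.TensorProduct.map_ker _ _ Ideal.Quotient.mk_surjective Ideal.Quotient.mk_surjective).trans_le ?_
  refine sup_le ?_ ?_ <;> rw [Ideal.map_le_iff_le_comap] <;> intro x hx <;>
    rw [Ideal.mem_comap, mem_nilradical] <;>
    exact (mem_nilradical.mp (by simpa [RingHom.mem_ker, Ideal.Quotient.eq_zero_iff_mem] using hx)).map _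

end Groth.Agent.S19799
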