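import Groth.Statements.S19805
import Mathlib
import Groth.Agent.VolLib.Basic
-- import your own Groth.Agent.* helpers here

set_option autoImplicit false
universe u
open CategoryTheory CategoryTheory.Limits AlgebraicGeometry
open scoped ENNReal
open Variety

open Groth.Agent.H23.PicMul

namespace Groth.Agent.S19805

open Filter Topology in
/-- The asymptotic computation. -/
theorem limsup_multiples (h : ℕ → ℕ) (a : ℕ) (ha : 0 < a) (d : ℕ)
    (hmono : ∀ n j, 0 < h j → h n ≤ h (n + j)) (hmul : ∀ j t, 0 < h j → 0 < h (t * j)) :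
    limsup (fun m : ℕ => (h (a * m) : ℝ≥0∞) / (m : ℝ≥0∞) ^ d) atTop =
      (a : ℝ≥0∞) ^ d * limsup (fun n : ℕ => (h n : ℝ≥0∞) / (n : ℝ≥0∞) ^ d) atTop := by
  classical
  set f := fun n : ℕ => (h n : ℝ≥0∞) / (n : ℝ≥0∞) ^ d with hf
  have had : (a : ℝ≥0∞) ^ d ≠ 0 := by positivity
  have hadt : (a : ℝ≥0∞) ^ d ≠ ⊤ := ENNReal.pow_ne_top (ENNReal.natCast_ne_top a)
  have hg : ∀ m, (h (a * m) : ℝ≥0∞) / (m : ℝ≥0∞) ^ d = (a : ℝ≥0∞) ^ d * f (a * m) := fun m => by
    rw [hf]
    dsimp only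
    rw [Nat.cast_mul, mul_pow, ← mul_div_assoc, ENNReal.mul_div_mul_left _ _ had hadt]
  rw [← ENNReal.limsup_const_mul_of_ne_top hadt]
  refine le_antisymm ?_ ?_
  · simp only [hg]
    have ht : Tendsto (fun m : ℕ => a * m) atTop atTop :=
      tendsto_atTop_mono (fun m => Nat.le_mul_of_pos_left m ha) tendsto_id
    exact (Filter.limsup_comp (fun n => (a : ℝ≥0∞) ^ d * f n) (fun m => a * m) atTop).trans_le
      (limsup_le_limsup_of_le ht)
  · refine le_of_forall_gt_imp_ge_of_dense fun b hb => ?_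
    obtain ⟨N, hN⟩ := eventually_atTop.1 (eventually_lt_of_limsup_lt hb)
    -- a shift bringing each class with sections to multiples of `a`
    let P : ℕ → Prop := fun r => ∃ j, 0 < h j ∧ j % a = r
    let sh : ℕ → ℕ := fun r => if hr : P r then (a - 1) * hr.choose else 0
    obtain ⟨C, hC⟩ : ∃ C, ∀ r < a, sh r ≤ C :=
      ⟨(Finset.range a).sup sh, fun r hr => Finset.le_sup (f := sh) (Finset.mem_range.2 hr)⟩
    have key : ∀ n, a * N < n → (a : ℝ≥0∞) ^ d * f n ≤ b * (1 + (C : ℝ≥0∞) * (n : ℝ≥0∞)⁻¹) ^ d := by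
      intro n hn
      rcases Nat.eq_zero_or_pos (h n) with h0 | hpos
      · simp [hf, h0]
      have hr : P (n % a) := ⟨n, hpos, rfl⟩
      set j := sh (n % a) with hj
      have hjc : j = (a - 1) * hr.choose := dif_pos hr
      obtain ⟨hjpos, hjmod⟩ := hr.choose_spec
      have hdvd : a ∣ n + j := by
        rw [hjc]
        generalize hr.choose = j₀ at hjmod ⊢
        obtain ⟨a', rfl⟩ : ∃ a', a = a' + 1 := ⟨a - 1, (Nat.succ_pred_eq_of_pos ha).symm⟩
        rw [Nat.add_sub_cancel, Nat.dvd_iff_mod_eq_zero, Nat.add_mod, ← hjmod, ← Nat.add_mod,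
          show j₀ + a' * j₀ = (a' + 1) * j₀ by ring, Nat.mul_mod_right]
      obtain ⟨q, hq⟩ := hdvd
      have hle : h n ≤ h (a * q) := by
        rw [← hq]
        exact hmono n j (hjc ▸ hmul _ _ hjpos)
      have hjC : j ≤ C := hC _ (Nat.mod_lt n ha)
      have hNq : N ≤ q := Nat.le_of_mul_le_mul_left (by omega) ha
      have hq0 : (q : ℝ≥0∞) ^ d ≠ 0 := by
        have : 0 < q := Nat.pos_of_mul_pos_left (show 0 < a * q by omega)
        positivity
      have hqt : (q : ℝ≥0∞) ^ d ≠ ⊤ := ENNReal.pow_ne_top (ENNReal.natCast_ne_top q)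
      have hb' : (h (a * q) : ℝ≥0∞) ≤ b * (q : ℝ≥0∞) ^ d :=
        (ENNReal.div_le_iff hq0 hqt).1 (hN q hNq).le
      have hn0 : (n : ℝ≥0∞) ≠ 0 := by exact_mod_cast (show n ≠ 0 by omega)
      have hn1 : (1 : ℝ≥0∞) + (C : ℝ≥0∞) * (n : ℝ≥0∞)⁻¹ = ((n + C : ℕ) : ℝ≥0∞) / n := by
        rw [Nat.cast_add n C, ENNReal.add_div, ENNReal.div_self hn0 (ENNReal.natCast_ne_top n),
          div_eq_mul_inv]
      rw [hn1, div_eq_mul_inv, mul_pow, ← mul_assoc, ← ENNReal.inv_pow, ← div_eq_mul_inv, hf]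
      dsimp only
      rw [← mul_div_assoc]
      refine ENNReal.div_le_div_right ?_ _
      calc (a : ℝ≥0∞) ^ d * (h n : ℝ≥0∞) ≤ (a : ℝ≥0∞) ^ d * (b * (q : ℝ≥0∞) ^ d) := by
            gcongr
            exact (Nat.cast_le.2 hle).trans hb'
        _ = b * ((a * q : ℕ) : ℝ≥0∞) ^ d := by rw [Nat.cast_mul, mul_pow]; ring
        _ ≤ b * ((n + C : ℕ) : ℝ≥0∞) ^ d := by
            gcongr
            exact_mod_cast (show a * q ≤ n + C by omega)
    have ht : Tendsto (fun n : ℕ => b * (1 + (C : ℝ≥0∞) * (n : ℝ≥0∞)⁻¹) ^ d) atTop (𝓝 b) := by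
      have h1 : Tendsto (fun n : ℕ => 1 + (C : ℝ≥0∞) * (n : ℝ≥0∞)⁻¹) atTop (𝓝 (1 + (C : ℝ≥0∞) * 0)) :=
        Tendsto.add tendsto_const_nhds
          (ENNReal.Tendsto.const_mul ENNReal.tendsto_inv_nat_nhds_zero (Or.inr (ENNReal.natCast_ne_top C)))
      rw [mul_zero, add_zero] at h1
      have h2 := (ENNReal.continuous_pow d).continuousAt.tendsto.comp h1
      rw [one_pow] at h2
      have h3 := ENNReal.Tendsto.const_mul (a := b) h2 (Or.inl one_ne_zero)
      rw [mul_one] at h3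
      exact h3
    calc limsup (fun n => (a : ℝ≥0∞) ^ d * f n) atTop
        ≤ limsup (fun n : ℕ => b * (1 + (C : ℝ≥0∞) * (n : ℝ≥0∞)⁻¹) ^ d) atTop :=
          limsup_le_limsup (eventually_atTop.2 ⟨a * N + 1, fun n hn => key n hn⟩)
      _ = b := ht.limsup_eq

/-- Let X be a projective variety of dimension d over a field k (a geometrically integral scheme, proper
over k, admitting an ample invertible module, with dim X = d) and L an invertible O_X-module; write
vol(L) for the upper limit of dim_k H^0(X, L^m) / m^d as m → ∞, taken in the extended non-negative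
reals (the volume of L up to the factor d!). Then for every integer a ≥ 1 the volume is homogeneous
of degree d: vol(L^a) = a^d · vol(L). -/
theorem result (k : Type u) [Field k] (X : Scheme.{u})
    [X.Over (Spec (CommRingCat.of k))] [IsIntegral X] [GeometricallyIntegral (X ↘ Spec (CommRingCat.of k))]
    [IsProper (X ↘ Spec (CommRingCat.of k))]
    (hproj : ∃ A : X.Modules, CohB1.IsAmple A) (d : ℕ) (hd : topologicalKrullDim X = d)
    (L : X.Modules) (hL : PicF.IsInvertible L) (a : ℕ) (ha : 0 < a) :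
    Filter.limsup (fun m : ℕ => (Module.finrank k (Coh.HH X (CohB1.tensorPow (CohB1.tensorPow L a) m) 0) : ℝ≥0∞) /
        (m : ℝ≥0∞) ^ d) Filter.atTop =
      (a : ℝ≥0∞) ^ d * Filter.limsup (fun m : ℕ => (Module.finrank k (Coh.HH X (CohB1.tensorPow L m) 0) : ℝ≥0∞) /
        (m : ℝ≥0∞) ^ d) Filter.atTop := by
  let h : ℕ → ℕ := fun n => Module.finrank k (Coh.HH X (CohB1.tensorPow L n) 0)
  have e : ∀ m, Module.finrank k (Coh.HH X (CohB1.tensorPow (CohB1.tensorPow L a) m) 0) = h (a * m) := fun m =>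
    VolLib.finrank_congr_cl (by rw [H23.PicMul.cl_tensorPow, H23.PicMul.cl_tensorPow, H23.PicMul.cl_tensorPow,
      ← pow_mul])
  simp only [e]
  refine limsup_multiples h a ha d (fun n j hj => ?_) fun j t hj => ?_
  · obtain ⟨τ, hτ⟩ := VolLib.exists_section_of_pos hj
    refine (VolLib.finrank_le_tensor (VolLib.isFinLocFree_inv (InvX.isInvertible_tensorPow hL n))
      (VolLib.isFinLocFree_inv (InvX.isInvertible_tensorPow hL j)) τ hτ).trans_eq ?_
    exact VolLib.finrank_congr_cl (by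
      rw [H23.PicMul.cl_tensor, H23.PicMul.cl_tensorPow, H23.PicMul.cl_tensorPow, H23.PicMul.cl_tensorPow, pow_add])
  · obtain ⟨τ, hτ⟩ := VolLib.exists_section_of_pos hj
    obtain ⟨σ, hσ⟩ := VolLib.exists_pow_ne_zero (InvX.isInvertible_tensorPow hL j) τ hτ t
    have h1 : 0 < Module.finrank k (Coh.HH X (CohB1.tensorPow (CohB1.tensorPow L j) t) 0) := by
      haveI := CurveCohLib.isNoetherian_of_proper (k := k) (X := X)
      haveI := CurveCohLib.finite_HH (k := k) (CurveDeg.isCoh_of_isFinLocFree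
        (VolLib.isFinLocFree_inv (InvX.isInvertible_tensorPow (InvX.isInvertible_tensorPow hL j) t))) 0
      refine Module.finrank_pos_iff_exists_ne_zero.2
        ⟨(Sheaf.H.equiv₀ (Coh.toAb (CohB1.tensorPow (CohB1.tensorPow L j) t)) isTerminalTop).symm σ, fun h0 => hσ ?_⟩
      have := congrArg (Sheaf.H.equiv₀ (Coh.toAb (CohB1.tensorPow (CohB1.tensorPow L j) t)) isTerminalTop) h0
      rw [AddEquiv.apply_symm_apply, map_zero] at this
      exact this
    exact h1.trans_eq (VolLib.finrank_congr_cl (by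
      rw [H23.PicMul.cl_tensorPow, H23.PicMul.cl_tensorPow, H23.PicMul.cl_tensorPow, ← pow_mul, mul_comm]))

end Groth.Agent.S19805
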