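import Groth.Statements.S19806
import Mathlib
import Groth.Agent.VolLib.Kodaira
-- import your own Groth.Agent.* helpers here

set_option autoImplicit false
universe u
open CategoryTheory CategoryTheory.Limits AlgebraicGeometry
open scoped ENNReal
open Variety

namespace Groth.Agent.S19806

/-- Let X be a projective variety of dimension d over a field k (a geometrically integral scheme, proper
over k, admitting an ample invertible module, with dim X = d) and L an invertible O_X-module; write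
vol(L) for the upper limit of dim_k H^0(X, L^m) / m^d as m → ∞, taken in the extended non-negative
reals (the volume of L up to the factor d!). Call L big when the lower limit of dim_k H^0(X, L^m) /
m^d is positive. Then L is big if and only if vol(L) is positive. -/
theorem result (k : Type u) [Field k] (X : Scheme.{u})
    [X.Over (Spec (CommRingCat.of k))] [IsIntegral X] [GeometricallyIntegral (X ↘ Spec (CommRingCat.of k))]
    [IsProper (X ↘ Spec (CommRingCat.of k))]
    (hproj : ∃ A : X.Modules, CohB1.IsAmple A) (d : ℕ) (hd : topologicalKrullDim X = d)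
    (L : X.Modules) (hL : PicF.IsInvertible L) :
    0 < Filter.liminf (fun m : ℕ => (Module.finrank k (Coh.HH X (CohB1.tensorPow L m) 0) : ℝ≥0∞) /
        (m : ℝ≥0∞) ^ d) Filter.atTop ↔
      0 < Filter.limsup (fun m : ℕ => (Module.finrank k (Coh.HH X (CohB1.tensorPow L m) 0) : ℝ≥0∞) /
        (m : ℝ≥0∞) ^ d) Filter.atTop := by
  refine ⟨fun h => lt_of_lt_of_le h Filter.liminf_le_limsup, fun h => ?_⟩
  obtain ⟨A, hA⟩ := hproj
  obtain ⟨A', hA', ⟨e₀⟩⟩ := H23.PicInv.exists_inverse hA.1
  have e : CohB1.tensorMod A' A ≅ Coh.structureModule X := CurveTensor.commIso A' A ≪≫ e₀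
  have hbig : ∀ C m₀ : ℕ, ∃ m, m₀ ≤ m ∧ C * m ^ d < Module.finrank k (Coh.HH X (CohB1.tensorPow L m) 0) * m := by
    by_contra hc
    push Not at hc
    obtain ⟨C, m₀, hc⟩ := hc
    refine h.ne' (le_antisymm ?_ bot_le)
    have ht : Filter.Tendsto (fun m : ℕ => (C : ℝ≥0∞) * (m : ℝ≥0∞)⁻¹) Filter.atTop (nhds 0) := by
      have := ENNReal.Tendsto.const_mul ENNReal.tendsto_inv_nat_nhds_zero (Or.inr (ENNReal.natCast_ne_top C))
      rwa [mul_zero] at this
    refine le_trans (Filter.limsup_le_limsup (Filter.eventually_atTop.2 ⟨max m₀ 1, fun m hm => ?_⟩)) ht.limsup_eq.le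
    have hm1 : 1 ≤ m := le_of_max_le_right hm
    have h1 : (Module.finrank k (Coh.HH X (CohB1.tensorPow L m) 0) : ℝ≥0∞) * m ≤ (C : ℝ≥0∞) * (m : ℝ≥0∞) ^ d := by
      exact_mod_cast hc m (le_of_max_le_left hm)
    have hm0 : (m : ℝ≥0∞) ≠ 0 := by exact_mod_cast (show m ≠ 0 by omega)
    refine ENNReal.div_le_of_le_mul ?_
    rw [← div_eq_mul_inv, ← ENNReal.mul_div_right_comm, ENNReal.le_div_iff_mul_le (Or.inl hm0) (Or.inl (ENNReal.natCast_ne_top m))]
    exact h1
  obtain ⟨m₀, hm₀, τ, hτ⟩ := VolLib.exists_kodaira (k := k) hA e hL hd hbig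
  obtain ⟨D, N, hD⟩ := VolLib.exists_lower_bound (k := k) hA e hL hd hm₀ hτ
  refine lt_of_lt_of_le (ENNReal.inv_pos.2 (ENNReal.natCast_ne_top (D + 1))) (Filter.le_liminf_of_le (by isBoundedDefault) ?_)
  refine Filter.eventually_atTop.2 ⟨max N 1, fun m hm => ?_⟩
  have hm1 : 1 ≤ m := le_of_max_le_right hm
  have hm0 : (m : ℝ≥0∞) ^ d ≠ 0 := by
    have : (m : ℝ≥0∞) ≠ 0 := by exact_mod_cast (show m ≠ 0 by omega)
    positivity
  rw [ENNReal.le_div_iff_mul_le (Or.inl hm0) (Or.inl (ENNReal.pow_ne_top (ENNReal.natCast_ne_top m))),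
    mul_comm, ← div_eq_mul_inv]
  refine ENNReal.div_le_of_le_mul ?_
  have h2 : m ^ d ≤ Module.finrank k (Coh.HH X (CohB1.tensorPow L m) 0) * (D + 1) := by
    have := hD m (le_of_max_le_left hm)
    nlinarith
  exact_mod_cast h2

end Groth.Agent.S19806
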