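import Groth.Statements.S19807
import Mathlib
import Groth.Agent.VolLib.Basic
-- import your own Groth.Agent.* helpers here

set_option autoImplicit false
universe u
open CategoryTheory CategoryTheory.Limits AlgebraicGeometry
open scoped ENNReal
open Variety

open Groth.Agent.H23.PicMul

namespace Groth.Agent.S19807

/-- Let X be a projective variety of dimension d over a field k (a geometrically integral scheme, proper
over k, admitting an ample invertible module, with dim X = d) and L an invertible O_X-module; write
vol(L) for the upper limit of dim_k H^0(X, L^m) / m^d as m → ∞, taken in the extended non-negative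
reals (the volume of L up to the factor d!). If E is an invertible O_X-module admitting a nonzero
global section (an effective Cartier divisor), then vol(L) ≤ vol(L ⊗ E): the volume increases in
effective directions. -/
theorem result (k : Type u) [Field k] (X : Scheme.{u})
    [X.Over (Spec (CommRingCat.of k))] [IsIntegral X] [GeometricallyIntegral (X ↘ Spec (CommRingCat.of k))]
    [IsProper (X ↘ Spec (CommRingCat.of k))]
    (hproj : ∃ A : X.Modules, CohB1.IsAmple A) (d : ℕ) (hd : topologicalKrullDim X = d)
    (L : X.Modules) (hL : PicF.IsInvertible L)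
    (E : X.Modules) (hE : PicF.IsInvertible E) (s : Coh.structureModule X ⟶ E) (hs : s ≠ 0) :
    Filter.limsup (fun m : ℕ => (Module.finrank k (Coh.HH X (CohB1.tensorPow L m) 0) : ℝ≥0∞) /
        (m : ℝ≥0∞) ^ d) Filter.atTop ≤
      Filter.limsup (fun m : ℕ => (Module.finrank k (Coh.HH X (CohB1.tensorPow (CohB1.tensorMod L E) m) 0) : ℝ≥0∞) /
        (m : ℝ≥0∞) ^ d) Filter.atTop := by
  refine Filter.limsup_le_limsup (Filter.Eventually.of_forall fun m => ?_)
  dsimp only
  refine ENNReal.div_le_div_right ?_ _
  have hτ : InvX.one s ≠ 0 := fun h => hs (CurveRR.hom_ext_one (φ := s) (ψ := 0) h)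
  obtain ⟨σ, hσ⟩ := VolLib.exists_pow_ne_zero hE (InvX.one s) hτ m
  refine Nat.cast_le.2 ((VolLib.finrank_le_tensor (VolLib.isFinLocFree_inv (InvX.isInvertible_tensorPow hL m))
    (VolLib.isFinLocFree_inv (InvX.isInvertible_tensorPow hE m)) σ hσ).trans_eq ?_)
  refine VolLib.finrank_congr_cl ?_
  rw [H23.PicMul.cl_tensor, H23.PicMul.cl_tensorPow, H23.PicMul.cl_tensorPow, H23.PicMul.cl_tensorPow,
    H23.PicMul.cl_tensor, mul_pow]

end Groth.Agent.S19807
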