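import Groth.Statements.S19809
import Groth.Agent.BinForms.Basic
import Groth.Agent.CubicLib.LinForm

set_option autoImplicit false
universe u
open RatCurv

namespace Groth.Agent.S19809

/-- A smooth rational quintic curve C ⊂ P^3 has a one-parameter family of 3-secant lines. Stated, as for
the nondegenerate case, through binary forms: C is the image of P^1 under a 4-dimensional linear
series V of binary quintic forms which separates every length-2 subscheme of P^1 (for every nonzero
quadratic form e, the forms of V together with the multiples of e span all quintic forms), so that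
P^1 → P(V^*) = P^3 is a closed embedding; the linear forms on P^3 are the elements of V, a line L ⊂
P^3 is the 2-dimensional space of linear forms vanishing on it, and L ∩ C has length at least 3
exactly when that space is contained in g · K[s,t]_2 for a cubic form g. The conclusion: there are
infinitely many pairwise non-proportional nonzero cubic forms g with dim (V ∩ g · K[s,t]_2) ≥ 2,
i.e. for every finite set of cubics there is such a g proportional to none of them. (The ground
field is algebraically closed of characteristic zero in place of the complex numbers; the third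
printed assertion, on curves all of whose 3-secants are 4-secant, is not stated.) -/
theorem result (K : Type u) [Field K] [IsAlgClosed K]
    [CharZero K] (V : Submodule K (MvPolynomial (Fin 2) K))
    (hV : V ≤ MvPolynomial.homogeneousSubmodule (Fin 2) K 5) (hdim : Module.finrank K ↥V = 4)
    (hsep : ∀ e ∈ MvPolynomial.homogeneousSubmodule (Fin 2) K 2, e ≠ 0 →
      ∀ F ∈ MvPolynomial.homogeneousSubmodule (Fin 2) K 5, ∃ v ∈ V,
        ∃ h ∈ MvPolynomial.homogeneousSubmodule (Fin 2) K 3, F = v + e * h)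
    (F : Finset (MvPolynomial (Fin 2) K)) :
    ∃ g ∈ MvPolynomial.homogeneousSubmodule (Fin 2) K 3, g ≠ 0 ∧
      2 ≤ Module.finrank K ↥(V ⊓ (MvPolynomial.homogeneousSubmodule (Fin 2) K 2).map (LinearMap.mulLeft K g)) ∧
      ∀ g' ∈ F, ∀ c : K, g ≠ c • g' := by
  classical
  set S₅ := MvPolynomial.homogeneousSubmodule (Fin 2) K 5 with hS₅
  set W := V.comap S₅.subtype with hW
  have hW4 : Module.finrank K W = 4 := (Submodule.comapSubtypeEquivOfLe hV).finrank_eq.trans hdim
  have hmemW : ∀ x : S₅, x ∈ W ↔ (x : MvPolynomial (Fin 2) K) ∈ V := fun x => Iff.rfl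
  have hS : Module.finrank K S₅ = 6 := Groth.Agent.BinForms.finrank_homogeneous K 5
  have hQ : Module.finrank K (S₅ ⧸ W) = 2 := by
    have := W.finrank_quotient_add_finrank
    rw [hW4, hS] at this
    omega
  let bQ := Module.finBasisOfFinrankEq K (S₅ ⧸ W) hQ
  set φ₀ : S₅ →ₗ[K] K := (bQ.coord 0).comp W.mkQ with hφ₀
  set φ₁ : S₅ →ₗ[K] K := (bQ.coord 1).comp W.mkQ with hφ₁
  have hmemA : ∀ x : S₅, φ₀ x = 0 → φ₁ x = 0 → x ∈ W := fun x h0 h1 => by
    rw [← Submodule.Quotient.mk_eq_zero, ← bQ.forall_coord_eq_zero_iff]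
    intro i; fin_cases i
    · exact h0
    · exact h1
  let m := Groth.Agent.BinForms.mulHom K 3 2
  have minj : ∀ g, g ≠ 0 → Function.Injective (m g) := by
    intro g hg a b h
    refine Subtype.ext (mul_left_cancel₀ (fun h0 => hg (Subtype.ext h0)) ?_)
    exact congrArg Subtype.val h
  -- no cubic form divides a net in the series
  have hno : ∀ g : MvPolynomial.homogeneousSubmodule (Fin 2) K 3, g ≠ 0 → ∃ h, m g h ∉ W := by
    intro g hg
    by_contra! hall
    obtain ⟨c, hc⟩ := (Groth.Agent.BinForms.range_bin K 3).ge g.2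
    obtain ⟨p₁, q₁, p₂, q₂, p₃, q₃, hfac⟩ := Groth.Agent.CubicLib.factor_cubic (c 3) (c 2) (c 1) (c 0)
    let l : K → K → MvPolynomial (Fin 2) K := fun p q =>
      MvPolynomial.C p * MvPolynomial.X 0 + MvPolynomial.C q * MvPolynomial.X 1
    have hl : ∀ p q, (l p q).IsHomogeneous 1 := fun p q =>
      (MvPolynomial.isHomogeneous_C_mul_X _ _).add (MvPolynomial.isHomogeneous_C_mul_X _ _)
    have hge : g.1 = l p₁ q₁ * (l p₂ q₂ * l p₃ q₃) := by
      refine MvPolynomial.funext fun v => ?_
      have hf := hfac (v 0) (v 1)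
      rw [← hc, Groth.Agent.BinForms.bin_apply]
      simp [Fin.sum_univ_four, Groth.Agent.BinForms.expo, MvPolynomial.eval_monomial, Finsupp.prod_fintype,
        Fin.prod_univ_two, l]
      linear_combination hf
    set e := l p₂ q₂ * l p₃ q₃
    have he2 : e.IsHomogeneous 2 := (hl _ _).mul (hl _ _)
    have he0 : e ≠ 0 := fun h => hg (Subtype.ext (by rw [hge, h, mul_zero]; rfl))
    let E : MvPolynomial.homogeneousSubmodule (Fin 2) K 3 →ₗ[K] S₅ := m.flip ⟨e, he2⟩
    have htop : W ⊔ LinearMap.range E = ⊤ := by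
      refine eq_top_iff.2 fun x _ => ?_
      obtain ⟨v, hv, h, hh, hx⟩ := hsep e he2 he0 x.1 x.2
      refine Submodule.mem_sup.2 ⟨⟨v, hV hv⟩, hv, E ⟨h, hh⟩, ⟨_, rfl⟩, Subtype.ext ?_⟩
      show v + h * e = x.1
      rw [hx, mul_comm h e]
    have hinf : LinearMap.range (m g) ≤ W ⊓ LinearMap.range E := by
      rintro _ ⟨h, rfl⟩
      refine ⟨hall h, ⟨⟨l p₁ q₁ * h.1, (hl _ _).mul h.2⟩, Subtype.ext ?_⟩⟩
      show l p₁ q₁ * h.1 * e = g.1 * h.1
      rw [hge]; ring
    have h1 := Submodule.finrank_sup_add_finrank_inf_eq W (LinearMap.range E)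
    have h2 := Submodule.finrank_mono hinf
    have h3 := LinearMap.finrank_range_le E
    rw [htop, finrank_top, hW4, hS] at h1
    rw [LinearMap.finrank_range_of_inj (minj g hg), Groth.Agent.BinForms.finrank_homogeneous] at h2
    rw [Groth.Agent.BinForms.finrank_homogeneous] at h3
    have h1' : 6 + Module.finrank K ↥(W ⊓ LinearMap.range E) = 4 + Module.finrank K ↥(LinearMap.range E) := h1
    have h2' : 3 ≤ Module.finrank K ↥(W ⊓ LinearMap.range E) := h2
    have h3' : Module.finrank K ↥(LinearMap.range E) ≤ 4 := h3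
    omega
  -- each member of the pencil of functionals gives a trisecant
  have hex : ∀ t : K, ∃ g : MvPolynomial.homogeneousSubmodule (Fin 2) K 3, g ≠ 0 ∧
      ∀ h, φ₀ (m g h) + t * φ₁ (m g h) = 0 := by
    intro t
    obtain ⟨g, hg, hg0⟩ := (Submodule.ne_bot_iff (LinearMap.ker (m.compr₂ (φ₀ + t • φ₁)))).1 fun hb => by
      have h1 := LinearMap.finrank_range_add_finrank_ker (m.compr₂ (φ₀ + t • φ₁))
      have h2 := Submodule.finrank_le (LinearMap.range (m.compr₂ (φ₀ + t • φ₁)))
      rw [hb, finrank_bot, Groth.Agent.BinForms.finrank_homogeneous] at h1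
      rw [Subspace.dual_finrank_eq, Groth.Agent.BinForms.finrank_homogeneous] at h2
      omega
    exact ⟨g, hg0, fun h => by simpa using LinearMap.congr_fun hg h⟩
  choose g hg0 hg using hex
  have htwo : ∀ t, 2 ≤ Module.finrank K
      ↥(V ⊓ (MvPolynomial.homogeneousSubmodule (Fin 2) K 2).map (LinearMap.mulLeft K (g t).1)) := by
    intro t
    let χ : MvPolynomial.homogeneousSubmodule (Fin 2) K 2 →ₗ[K] K × K := (φ₀.prod φ₁).comp (m (g t))
    have hrange : LinearMap.range χ ≤ Submodule.span K {((-t, 1) : K × K)} := by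
      rintro _ ⟨h, rfl⟩
      refine Submodule.mem_span_singleton.2 ⟨φ₁ (m (g t) h), Prod.ext ?_ ?_⟩
      · show φ₁ (m (g t) h) • (-t) = φ₀ (m (g t) h)
        rw [smul_eq_mul]; linear_combination -(hg t h)
      · show φ₁ (m (g t) h) • (1 : K) = φ₁ (m (g t) h)
        rw [smul_eq_mul, mul_one]
    have h1 := LinearMap.finrank_range_add_finrank_ker χ
    have h2 := Submodule.finrank_mono hrange
    rw [finrank_span_singleton (by simp)] at h2
    rw [Groth.Agent.BinForms.finrank_homogeneous] at h1
    let j := S₅.subtype.comp ((m (g t)).comp (LinearMap.ker χ).subtype)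
    have hj : Function.Injective j := Subtype.val_injective.comp ((minj (g t) (hg0 t)).comp Subtype.val_injective)
    haveI : FiniteDimensional K ↥V := FiniteDimensional.of_finrank_eq_succ hdim
    haveI : FiniteDimensional K
        ↥(V ⊓ (MvPolynomial.homogeneousSubmodule (Fin 2) K 2).map (LinearMap.mulLeft K (g t).1)) :=
      Submodule.finiteDimensional_of_le inf_le_left
    have h4 : LinearMap.range j ≤
        V ⊓ (MvPolynomial.homogeneousSubmodule (Fin 2) K 2).map (LinearMap.mulLeft K (g t).1) := by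
      rintro _ ⟨⟨h, hh⟩, rfl⟩
      exact ⟨(hmemW _).1 (hmemA _ (congrArg Prod.fst (LinearMap.mem_ker.1 hh))
        (congrArg Prod.snd (LinearMap.mem_ker.1 hh))), h.1, h.2, rfl⟩
    have h5 := Submodule.finrank_mono h4
    rw [LinearMap.finrank_range_of_inj hj] at h5
    omega
  by_contra! hbad
  have hF : ∀ t, ∃ g' ∈ F, ∃ c : K, (g t : MvPolynomial (Fin 2) K) = c • g' := fun t =>
    hbad _ (g t).2 (fun h => hg0 t (Subtype.ext h)) (htwo t)
  choose f hfF c hc using hF
  obtain ⟨t, t', htt, hff⟩ : ∃ t t' : K, t ≠ t' ∧ f t = f t' := by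
    obtain ⟨t, -, t', -, h1, h2⟩ := Set.infinite_univ.exists_ne_map_eq_of_mapsTo
      (f := f) (fun t _ => Finset.mem_coe.2 (hfF t)) F.finite_toSet
    exact ⟨t, t', h1, h2⟩
  have hct : c t' ≠ 0 := fun h => hg0 t' (Subtype.ext (by rw [hc, h, zero_smul]; rfl))
  have hgg : g t = (c t / c t') • g t' := Subtype.ext (by
    rw [Submodule.coe_smul, hc, hc, hff, smul_smul, div_mul_cancel₀ _ hct])
  have hr : c t / c t' ≠ 0 := fun h => hg0 t (by rw [hgg, h, zero_smul])
  obtain ⟨h, hh⟩ := hno (g t') (hg0 t')
  have e1 : φ₀ (m (g t') h) + t' * φ₁ (m (g t') h) = 0 := hg t' h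
  have e2 : φ₀ (m (g t') h) + t * φ₁ (m (g t') h) = 0 := by
    have := hg t h
    rw [hgg, map_smul, LinearMap.smul_apply, map_smul, map_smul, smul_eq_mul, smul_eq_mul] at this
    refine (mul_eq_zero.1 (?_ : (c t / c t') * _ = 0)).resolve_left hr
    linear_combination this
  have hb1 : φ₁ (m (g t') h) = 0 :=
    (mul_eq_zero.1 (by linear_combination e2 - e1 : (t - t') * φ₁ (m (g t') h) = 0)).resolve_left
      (sub_ne_zero.2 htt)
  exact hh (hmemA _ (by simpa [hb1] using e1) hb1)

end Groth.Agent.S19809
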