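import Groth.Statements.S19816
import Groth.Agent.NoriLib.Finite

set_option autoImplicit false
universe u
open CategoryTheory CategoryTheory.Limits MonoidalCategory CartesianMonoidalCategory MonObj GrpObj AlgebraicGeometry
open NoriFGS

namespace Groth.Agent.S19816

/-- Let X be a quasi-compact scheme over a field k with a rational point x which possesses a fundamental
group scheme with its universal pointed torsor. Let G, G₁, G₂ be finite group schemes over k with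
homomorphisms φ₁ : G₁ → G and φ₂ : G₂ → G, and let T, T₁, T₂ be torsors over X (locally trivial for
the fpqc topology) under the base changes to X of G, G₁, G₂, each pointed by a k-point lying over x;
let f₁ : T₁ → T and f₂ : T₂ → T be morphisms of pointed torsors along φ₁ and φ₂. Let Q be the fibre
product group scheme G₁ ×_G G₂ with its projections π₁, π₂. Then the fibre product T₁ ×_T T₂ carries
an action of the base change of Q for which both projections to T₁ and T₂ are equivariant (along π₁,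
π₂) and which makes it a torsor over X, locally trivial for the fpqc topology: the category of
pointed finite torsors over X is closed under fibre products. (The published statement is an
equivalence; this row is the implication from possessing a fundamental group scheme. The source's
standing convention for that chapter assumes the base field has characteristic p > 0; the printed
proof uses no characteristic hypothesis, so the row states it for any field.) -/
theorem result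
    (k : Type u) [Field k] (X : Scheme.{u}) [X.Over (Spec (CommRingCat.of k))]
    (x : Spec (CommRingCat.of k) ⟶ X) (hx : x ≫ (X ↘ Spec (CommRingCat.of k)) = 𝟙 _)
    (πN : Over (Spec (CommRingCat.of k))) [GrpObj πN] (P : Over X)
    (a : AlgGrp.Action (Red.bc (X ↘ Spec (CommRingCat.of k)) πN) P) (p : Spec (CommRingCat.of k) ⟶ P.left)
    (hP : NoriFGS.IsFGS x πN a p) [CompactSpace X]
    (G G₁ G₂ : Over (Spec (CommRingCat.of k))) [GrpObj G] [GrpObj G₁] [GrpObj G₂]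
    [IsFinite G.hom] [IsFinite G₁.hom] [IsFinite G₂.hom]
    (φ₁ : G₁ ⟶ G) (φ₂ : G₂ ⟶ G) [IsMonHom φ₁] [IsMonHom φ₂]
    (T T₁ T₂ : Over X)
    (b : AlgGrp.Action (Red.bc (X ↘ Spec (CommRingCat.of k)) G) T)
    (b₁ : AlgGrp.Action (Red.bc (X ↘ Spec (CommRingCat.of k)) G₁) T₁)
    (b₂ : AlgGrp.Action (Red.bc (X ↘ Spec (CommRingCat.of k)) G₂) T₂)
    (hT : NonAbH1.IsTorsorFor Scheme.fpqcPrecoverage b)
    (hT₁ : NonAbH1.IsTorsorFor Scheme.fpqcPrecoverage b₁)
    (hT₂ : NonAbH1.IsTorsorFor Scheme.fpqcPrecoverage b₂)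
    (t : Spec (CommRingCat.of k) ⟶ T.left) (t₁ : Spec (CommRingCat.of k) ⟶ T₁.left) (t₂ : Spec (CommRingCat.of k) ⟶ T₂.left)
    (ht : t ≫ T.hom = x) (ht₁ : t₁ ≫ T₁.hom = x) (ht₂ : t₂ ≫ T₂.hom = x)
    (f₁ : T₁ ⟶ T) (f₂ : T₂ ⟶ T)
    (hf₁ : NoriFGS.IsPtTorsorHom b₁ t₁ b t φ₁ f₁) (hf₂ : NoriFGS.IsPtTorsorHom b₂ t₂ b t φ₂ f₂)
    (Q : Over (Spec (CommRingCat.of k))) [GrpObj Q] (π₁ : Q ⟶ G₁) (π₂ : Q ⟶ G₂) [IsMonHom π₁] [IsMonHom π₂]
    (hQ : IsPullback π₁ π₂ φ₁ φ₂) :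
    ∃ c : AlgGrp.Action (Red.bc (X ↘ Spec (CommRingCat.of k)) Q) (pullback f₁ f₂),
      AlgGrp.Action.IsEquivariant c (b₁.restrict ((Over.pullback (X ↘ Spec (CommRingCat.of k))).map π₁)) (pullback.fst f₁ f₂) ∧
      AlgGrp.Action.IsEquivariant c (b₂.restrict ((Over.pullback (X ↘ Spec (CommRingCat.of k))).map π₂)) (pullback.snd f₁ f₂) ∧
      NonAbH1.IsTorsorFor Scheme.fpqcPrecoverage c := by
  let s₀ := X ↘ Spec (CommRingCat.of k)
  obtain ⟨c, h₁, h₂, h₃⟩ := NoriLib.exists_action (hQ.map (Over.pullback s₀)) hT.1 hT₁.1 hT₂.1 hf₁.1 hf₂.1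
  refine ⟨c, h₁, h₂, h₃, ?_⟩
  obtain ⟨-, hPt, -, huniv⟩ := hP
  obtain ⟨ψ₁, _, g₁, hg₁, -⟩ := huniv G₁ T₁ b₁ t₁ hT₁ ht₁
  obtain ⟨ψ₂, _, g₂, hg₂, -⟩ := huniv G₂ T₂ b₂ t₂ hT₂ ht₂
  obtain ⟨ψ, _, g, -, huniq⟩ := huniv G T b t hT ht
  have hcomp : ∀ {K : Over (Spec (CommRingCat.of k))} [GrpObj K] {U : Over X}
      {d : AlgGrp.Action (Red.bc s₀ K) U} {u : Spec (CommRingCat.of k) ⟶ U.left} (θ : πN ⟶ K) [IsMonHom θ]
      (h : P ⟶ U) (φ : K ⟶ G) [IsMonHom φ] (f : U ⟶ T),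
      NoriFGS.IsPtTorsorHom a p d u θ h → NoriFGS.IsPtTorsorHom d u b t φ f →
        NoriFGS.IsPtTorsorHom a p b t (θ ≫ φ) (h ≫ f) := by
    intro K _ U d u θ _ h φ _ f hh hf
    refine ⟨?_, by rw [Over.comp_left, ← Category.assoc, hh.2, hf.2]⟩
    apply AlgGrp.Action.hom_ext_lift₂
    intro Y y z
    have e₁ := NoriLib.equiv_pt hh.1 y z
    have e₂ := NoriLib.equiv_pt hf.1 (y ≫ (Over.pullback s₀).map θ) (z ≫ h)
    simp only [AlgGrp.Action.restrict_act, lift_whiskerLeft_assoc, lift_whiskerRight_assoc, Functor.map_comp]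
    rw [← Category.assoc (lift y z), ← Category.assoc (lift y z ≫ a.act), e₁, e₂]
    simp only [Category.assoc]
    rfl
  have e : g₁ ≫ f₁ = g₂ ≫ f₂ :=
    (huniq (ψ₁ ≫ φ₁) _ (hcomp ψ₁ g₁ φ₁ f₁ hg₁ hf₁)).2.trans
      (huniq (ψ₂ ≫ φ₂) _ (hcomp ψ₂ g₂ φ₂ f₂ hg₂ hf₂)).2.symm
  obtain ⟨R, hR, hsec⟩ := hPt.2
  refine ⟨R, hR, fun S' f hf => ?_⟩
  obtain ⟨s, hs⟩ := hsec f hf
  exact ⟨s ≫ (pullback.lift g₁ g₂ e).left, by rw [Category.assoc, Over.w, hs]⟩

end Groth.Agent.S19816
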