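import Groth.Statements.S1984
import Groth.Agent.H1Ram.TotRam

set_option autoImplicit false
universe u
open EtAlg

namespace Groth.Agent.S1984

open TensorProduct in
/-- Let A -> B be a weakly unramified extension of discrete valuation rings with fraction fields K ⊂ L,
and K₁/K a finite separable extension which is totally ramified with respect to A. Then L ⊗_K K₁ is
a field and K₁ is a weak solution for A -> B (the valuation ring of L ⊗_K K₁ over B is weakly
unramified over that of K₁ over A). -/
theorem result (A B K L : Type u) [CommRing A] [IsDomain A] [IsDiscreteValuationRing A]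
    [CommRing B] [IsDomain B] [IsDiscreteValuationRing B] [Algebra A B] [IsLocalHom (algebraMap A B)]
    (hinj : Function.Injective (algebraMap A B))
    [Field K] [Field L] [Algebra A K] [IsFractionRing A K] [Algebra B L] [IsFractionRing B L]
    [Algebra K L] [Algebra A L] [IsScalarTower A K L] [IsScalarTower A B L]
    (hw : EtRam.IsWeaklyUnramified A B) (K₁ : Type u) [Field K₁] [Algebra K K₁] [FiniteDimensional K K₁]
    [Algebra.IsSeparable K K₁] (ht : EtRam.IsTotallyRamified A ((algebraMap K K₁).comp (algebraMap A K))) :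
    IsField (L ⊗[K] K₁) ∧ EtRam.IsWeakSolution B K L K₁ := by
  have hne : ∀ J : Ideal (L ⊗[K] K₁), J.IsMaximal → J = ⊥ := by
    intro J hJ
    letI := Ideal.Quotient.field J
    letI : Algebra K₁ ((L ⊗[K] K₁) ⧸ J) :=
      ((Ideal.Quotient.mk J).comp (Algebra.TensorProduct.includeRight (R := K) (A := L) (B := K₁)).toRingHom).toAlgebra
    haveI : IsScalarTower K K₁ ((L ⊗[K] K₁) ⧸ J) := IsScalarTower.of_algebraMap_eq fun k => by
      show _ = Ideal.Quotient.mk J (Algebra.TensorProduct.includeRight (R := K) (A := L) (algebraMap K K₁ k))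
      rw [AlgHom.commutes]; rfl
    have hgen : Algebra.adjoin L (Set.range (algebraMap K₁ ((L ⊗[K] K₁) ⧸ J))) = ⊤ := by
      rw [eq_top_iff]
      rintro x -
      obtain ⟨y, rfl⟩ := Ideal.Quotient.mk_surjective x
      induction y using TensorProduct.induction_on with
      | zero => simp
      | add u v hu hv => rw [map_add]; exact add_mem hu hv
      | tmul l k =>
        rw [show l ⊗ₜ[K] k = l • ((1 : L) ⊗ₜ[K] k) by rw [TensorProduct.smul_tmul', smul_eq_mul, mul_one]]
        rw [← Ideal.Quotient.mkₐ_eq_mk L, map_smul]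
        exact Subalgebra.smul_mem _ (Algebra.subset_adjoin (Set.mem_range.2 ⟨k, rfl⟩)) l
    obtain ⟨W, hW1, hloc⟩ := IsLocalRing.exists_factor_valuationRing
      ((algebraMap L ((L ⊗[K] K₁) ⧸ J)).comp (algebraMap B L))
    have hW : EtRam.Dominates B ((algebraMap L ((L ⊗[K] K₁) ⧸ J)).comp (algebraMap B L)) W :=
      ⟨hW1, fun b hb => (W.valuation_lt_one_iff ⟨_, hW1 b⟩).1 (((IsLocalRing.mem_maximalIdeal _).2 fun hu =>
        (IsLocalRing.mem_maximalIdeal _).1 hb (hloc.map_nonunit b hu)))⟩
    have hle := (H1Ram.weakSolution_core hw ht hgen W hW).2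
    have heq : Module.finrank L (L ⊗[K] K₁) = Module.finrank K K₁ := Module.finrank_baseChange
    have hinj : Function.Injective (Ideal.Quotient.mkₐ L J).toLinearMap := by
      refine (LinearMap.injective_iff_surjective_of_finrank_eq_finrank ?_).2 (Ideal.Quotient.mkₐ_surjective L J)
      have := LinearMap.finrank_range_le (Ideal.Quotient.mkₐ L J).toLinearMap
      rw [(LinearMap.range_eq_top (f := (Ideal.Quotient.mkₐ L J).toLinearMap)).2 (Ideal.Quotient.mkₐ_surjective L J),
        finrank_top] at this
      exact le_antisymm (heq.trans_le hle) this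
    rw [eq_bot_iff]
    intro x hx
    exact hinj ((Ideal.Quotient.eq_zero_iff_mem.2 hx).trans (map_zero (Ideal.Quotient.mkₐ L J).toLinearMap).symm)
  refine ⟨?_, fun M _ _ _ _ _ _ hgen W hW => (H1Ram.weakSolution_core hw ht hgen W hW).1⟩
  haveI : Nontrivial (L ⊗[K] K₁) := Module.nontrivial_of_finrank_pos (R := L)
    (by rw [Module.finrank_baseChange]; exact Module.finrank_pos)
  by_contra hnf
  obtain ⟨J, hJ, hJm⟩ := Ring.not_isField_iff_exists_prime.1 hnf
  obtain ⟨J', hJ', hle⟩ := Ideal.exists_le_maximal J hJm.ne_top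
  exact hJ (le_bot_iff.1 (hne J' hJ' ▸ hle))

end Groth.Agent.S1984
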