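import Groth.Statements.S19849
import Groth.Agent.AcycHyper7.Pieces
import Groth.Agent.AcycHyper7.DeRham
import Groth.Agent.ExtLoc7.QCoh
import Groth.Agent.QCoh.Support
import Groth.Agent.OmegaUniv.Unram
import Groth.Agent.S0002

set_option autoImplicit false
universe u
open DeRhamSh

namespace Groth.Agent.S19849

open CategoryTheory AlgebraicGeometry TopologicalSpace in
theorem finite_omega_sections {A : Type u} [CommRing A] {X : Scheme.{u}} (f : X ⟶ Spec (CommRingCat.of A))
    [LocallyOfFiniteType f] [QuasiSeparated f] (U : X.affineOpens) :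
    Module.Finite Γ(X, U.1) Γ(Omega.sheaf f, U.1) := by
  have e : U.1 ≤ f ⁻¹ᵁ ⊤ := le_top
  letI := (f.appLE ⊤ U.1 e).hom.toAlgebra
  have hft : (f.appLE ⊤ U.1 e).hom.FiniteType :=
    LocallyOfFiniteType.finiteType_appLE f (isAffineOpen_top _) U.2 e
  haveI : Algebra.FiniteType Γ(Spec (CommRingCat.of A), ⊤) Γ(X, U.1) := hft
  let l : Ω[Γ(X, U.1)⁄Γ(Spec (CommRingCat.of A), ⊤)] →ₗ[Γ(X, U.1)] Γ(Omega.sheaf f, U.1) :=
    (OmAff.toSect f ⊤ U.1 e).hom
  exact Module.Finite.of_surjective l
    (OmegaUniv.toSect_bijective f U.2 (isAffineOpen_top _) e).2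

open CategoryTheory AlgebraicGeometry TopologicalSpace in
theorem isCoh_term {A : Type u} [CommRing A] {X : Scheme.{u}} (f : X ⟶ Spec (CommRingCat.of A))
    [LocallyOfFiniteType f] [QuasiSeparated f] (D : DeRhamSh.OmegaCx f) (p : ℕ) :
    Coh.IsCoh (D.term p) :=
  QCoh.isCoh_iff.2 ⟨ExtLoc7.isQCoh_of_isExtPow (OmegaUniv.isQCoh_omega f) (D.isExtPow p), fun U => by
    haveI := finite_omega_sections f U
    exact Module.Finite.equiv (D.loc p U).symm⟩


open CategoryTheory AlgebraicGeometry TopologicalSpace in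
/-- Let A be a Noetherian ring and f : X → Spec A a proper morphism; let D be a de Rham complex of the
sheaf of differentials of f whose differentials are A-linear for the action of A through f. Then for
every integer i the algebraic de Rham cohomology H^i_dR(X/A) = H^i(X, D), as an A-module, is
finitely generated. (The A-linearity of the differentials holds for the de Rham complex and is
carried as a hypothesis because the complex is given by its characterising data.) -/
theorem result (A : Type u) [CommRing A] [IsNoetherianRing A] (X : Scheme.{u})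
    (f : X ⟶ Spec (CommRingCat.of A)) [IsProper f]
    (D : DeRhamSh.OmegaCx f)
    (h : KLinDR.TermwiseLinear (Coh.toGlobal f) D.K D.term D.iso)
    [HasDerivedCategory.{u} (Sheaf (Opens.grothendieckTopology X) AddCommGrpCat.{u})] (i : ℤ) :
    Module.Finite A (KLinDR.HdR (Coh.toGlobal f) D h i) := by
  letI : X.Over (Spec (CommRingCat.of A)) := ⟨f⟩
  haveI : IsProper (X ↘ Spec (CommRingCat.of A)) := inferInstanceAs (IsProper f)
  haveI := Groth.Agent.AcycHyper7.isStrictlyGE_KZ D
  refine Groth.Agent.AcycHyper7.Dev.finite_HTρ (Groth.Agent.AcycHyper7.Dev.Ttop X) 0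
    (KLinDR.scalar (c := Coh.toGlobal f) h : A →+* End D.KZ) i fun p hp hpi => ?_
  obtain ⟨q, rfl⟩ := Int.eq_ofNat_of_zero_le hp
  obtain ⟨m, hm⟩ := Int.le.dest hpi
  haveI := Groth.Agent.S0002.result A X (D.term q) (isCoh_term f D q) m
  exact Module.Finite.equiv
    (Groth.Agent.AcycHyper7.Dev.grLinearEquiv D _ h (p := q) (m := m) i hm fun _ _ => rfl).symm

end Groth.Agent.S19849
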