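import Groth.Statements.S19856
import Mathlib

set_option autoImplicit false
universe u v
open CAlg

namespace Groth.Agent.S19856

/-- Ring-level form: let O be a discrete valuation ring and G a finite group acting faithfully on O by
ring automorphisms, such that every element of G acts trivially on the residue field of O (that is,
g • a - a lies in the maximal ideal for all a) and such that the order of G is nonzero in the
residue field of O. Then G is cyclic. (The source states this for a finite group of order invertible
in an algebraically closed field k acting faithfully on a smooth connected k-variety and the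
subgroup of elements fixing pointwise a codimension-one irreducible component of the ramification
locus, applied to the local ring at the generic point of that component; it is stated here for an
arbitrary discrete valuation ring with a faithful action. The source also shows that this subgroup
is nontrivial; that geometric part is not stated.) -/
theorem result
    (O : Type u) [CommRing O] [IsDomain O] [IsDiscreteValuationRing O]
    (G : Type v) [Group G] [Finite G] [MulSemiringAction G O] [FaithfulSMul G O]
    (htriv : ∀ (g : G) (a : O), g • a - a ∈ IsLocalRing.maximalIdeal O)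
    (hcard : ((Nat.card G : ℕ) : IsLocalRing.ResidueField O) ≠ 0) :
    IsCyclic G := by
  classical
  obtain ⟨p, hp⟩ := IsDiscreteValuationRing.exists_irreducible O
  have hmax : IsLocalRing.maximalIdeal O = Ideal.span {p} := hp.maximalIdeal_eq
  have hmem : ∀ a : O, a ∈ IsLocalRing.maximalIdeal O ↔ p ∣ a := fun a => by
    rw [hmax, Ideal.mem_span_singleton]
  have hg : ∀ g : G, ∃ u : O, g • p = u * p := by
    intro g
    have h := htriv g p
    have : p ∣ g • p - p := (hmem _).1 h
    obtain ⟨w, hw⟩ := this
    exact ⟨w + 1, by rw [add_mul, mul_comm w p, ← hw, one_mul, sub_add_cancel]⟩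
  choose u hu using hg
  have hp0 : p ≠ 0 := hp.ne_zero
  have hres : ∀ (g : G) (a : O), IsLocalRing.residue O (g • a) = IsLocalRing.residue O a := by
    intro g a
    have h := htriv g a
    rw [← IsLocalRing.residue_eq_zero_iff, map_sub, sub_eq_zero] at h
    exact h
  have hu1 : u 1 = 1 := by
    apply mul_right_cancel₀ hp0
    rw [← hu 1, one_smul, one_mul]
  have humul : ∀ g h : G, u (g * h) = g • u h * u g := by
    intro g h
    apply mul_right_cancel₀ hp0
    rw [← hu (g * h), mul_smul, hu h, smul_mul', hu g, mul_assoc]
  let θ : G →* IsLocalRing.ResidueField O :=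
    { toFun := fun g => IsLocalRing.residue O (u g)
      map_one' := by rw [hu1, map_one]
      map_mul' := fun g h => by
        rw [humul, map_mul, hres, mul_comm] }
  refine isCyclic_of_injective_ringHom θ ?_
  rw [injective_iff_map_eq_one]
  intro g hθ
  have hug : u g - 1 ∈ IsLocalRing.maximalIdeal O := by
    rw [← IsLocalRing.residue_eq_zero_iff, map_sub, map_one, sub_eq_zero]
    exact hθ
  obtain ⟨n, hn0, hgn, hnu⟩ : ∃ n : ℕ, 0 < n ∧ g ^ n = 1 ∧ IsUnit (n : O) := by
    refine ⟨Nat.card G, Nat.card_pos, pow_card_eq_one', ?_⟩
    by_contra hu'
    apply hcard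
    have : ((Nat.card G : ℕ) : O) ∈ IsLocalRing.maximalIdeal O := hu'
    have h2 := (IsLocalRing.residue_eq_zero_iff _).2 this
    rw [map_natCast] at h2
    exact h2
  have key : ∀ i : ℕ, ∀ a : O, p ^ i ∣ g • a - a := by
    intro i
    induction i with
    | zero => intro a; rw [pow_zero]; exact one_dvd _
    | succ i ih =>
      intro a
      have hfix : ∀ c : O, p ^ (i + 1) ∣ g • (c * p ^ i) - c * p ^ i := by
        intro c
        have h1 : p ∣ g • c * u g ^ i - c := by
          rw [← hmem, ← IsLocalRing.residue_eq_zero_iff, map_sub, map_mul, map_pow, hres]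
          have : IsLocalRing.residue O (u g) = 1 := hθ
          rw [this, one_pow, mul_one, sub_self]
        have h2 : g • (c * p ^ i) - c * p ^ i = (g • c * u g ^ i - c) * p ^ i := by
          rw [smul_mul', smul_pow', hu g, mul_pow]; ring
        rw [h2, pow_succ']
        exact mul_dvd_mul_right h1 _
      have hj : ∀ j : ℕ, p ^ (i + 1) ∣ g ^ j • a - (a + (j : O) * (g • a - a)) := by
        intro j
        induction j with
        | zero => simp
        | succ j ihj =>
          obtain ⟨c, hc⟩ := ih a
          have h1 : p ^ (i + 1) ∣ g • (g • a - a) - (g • a - a) := by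
            rw [hc, mul_comm (p ^ i) c]; exact hfix c
          obtain ⟨w, hw⟩ := ihj
          have h2 : p ^ (i + 1) ∣ g • (p ^ (i + 1) * w) := by
            rw [smul_mul', smul_pow', hu g, mul_pow, mul_assoc, mul_left_comm]
            exact dvd_mul_right _ _
          have e : g ^ j • a = a + (j : O) * (g • a - a) + p ^ (i + 1) * w := by
            rw [← hw]; ring
          have hjfix : g • ((j : O)) = (j : O) := map_natCast (MulSemiringAction.toRingHom G O g) j
          rw [pow_succ' g j, mul_smul, e, smul_add, smul_add, smul_mul' g (j : O), hjfix]
          have e2 : g • a + (j : O) * g • (g • a - a) + g • (p ^ (i + 1) * w)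
              - (a + ((j + 1 : ℕ) : O) * (g • a - a))
              = (j : O) * (g • (g • a - a) - (g • a - a)) + g • (p ^ (i + 1) * w) := by
            push_cast; ring
          rw [e2]
          exact dvd_add (dvd_mul_of_dvd_right h1 _) h2
      have hn := hj n
      rw [hgn, one_smul, sub_add_cancel_left, dvd_neg] at hn
      exact (hnu.dvd_mul_left).1 hn
  apply FaithfulSMul.eq_of_smul_eq_smul (α := O)
  intro a
  rw [one_smul, ← sub_eq_zero]
  have hinf : (g • a - a) ∈ (⨅ i : ℕ, IsLocalRing.maximalIdeal O ^ i) := by
    rw [Ideal.mem_iInf]
    intro i
    rw [hmax, Ideal.span_singleton_pow, Ideal.mem_span_singleton]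
    exact key i a
  rw [Ideal.iInf_pow_eq_bot_of_isLocalRing _ (IsLocalRing.maximalIdeal.isMaximal O).ne_top] at hinf
  exact hinf

end Groth.Agent.S19856
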