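import Groth.Statements.S19880
import Groth.Agent.JacSepPts.Points

set_option autoImplicit false
set_option backward.isDefEq.respectTransparency false
set_option backward.isDefEq.respectTransparency.types false
set_option maxHeartbeats 1000000
set_option linter.style.haveILetI false
universe u
open CategoryTheory CategoryTheory.Limits AlgebraicGeometry
open JacVar

namespace Groth.Agent.S19880

open Groth.Agent Groth.Agent.H23

/-- Let k be a separably closed field, C a smooth proper geometrically connected curve of genus g > 0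
over k with a k-rational point, and r > 2g an integer. Then for every effective divisor D of degree
r on C there is an (r − g)-tuple γ = (P_1, …, P_{r−g}) of k-rational points of C with h⁰(D − P_1 − ⋯
− P_{r−g}) = 1; since every invertible module L of degree r > 2g − 2 is of the form O(D) with D
effective, this is stated as: for every invertible module L of degree r on C there are k-rational
points P_1, …, P_{r−g} with h⁰(C, L ⊗ I_{P_1} ⊗ ⋯ ⊗ I_{P_{r−g}}) = 1. (In the source this is the
statement that the symmetric power C^(r) is the union of the open pieces C^γ.) -/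
theorem result (k : Type u) [Field k] [IsSepClosed k]
    (C : Scheme.{u}) [C.Over (Spec (CommRingCat.of k))]
    [IsProper (C ↘ Spec (CommRingCat.of k))] [Smooth (C ↘ Spec (CommRingCat.of k))] [GeometricallyConnected (C ↘ Spec (CommRingCat.of k))]
    (hdim : topologicalKrullDim ↥C = 1)
    (g : ℕ) (hg : Curv2.genus k C = g) (hg0 : 0 < g)
    (σ₀ : Spec (CommRingCat.of k) ⟶ C) (hσ₀ : σ₀ ≫ (C ↘ Spec (CommRingCat.of k)) = 𝟙 _)
    (r : ℕ) (hr : 2 * g < r)
    (L : C.Modules) (hL : PicF.IsInvertible L) (hLdeg : Curv2.deg k C L 1 = (r : ℤ)) :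
    ∃ σ : Fin (r - g) → (Spec (CommRingCat.of k) ⟶ C), (∀ t, σ t ≫ (C ↘ Spec (CommRingCat.of k)) = 𝟙 _) ∧
      Module.finrank k (Coh.HH C (CohB1.tensorMod L (FGA.tensorList (List.ofFn fun t : Fin (r - g) =>
        ClSub.idealMod (σ t).ker))) 0) = 1 := by
  have hO := CurveBC.finrank_h0_of_geometricallyConnected k C
  haveI := CurveBC.isIntegral_of_h0 k C hO
  haveI := CurveCohLib.isNoetherian_of_proper (k := k) (X := C)
  haveI : IsIso (Spec.map (CommRingCat.ofHom (algebraMap k k))) := by
    rw [show CommRingCat.ofHom (algebraMap k k) = 𝟙 _ from rfl, Spec.map_id]; infer_instance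
  have hpb : IsPullback (𝟙 C) (C ↘ Spec (CommRingCat.of k)) (C ↘ Spec (CommRingCat.of k))
      (Spec.map (CommRingCat.ofHom (algebraMap k k))) :=
    IsPullback.of_horiz_isIso ⟨by
      rw [show CommRingCat.ofHom (algebraMap k k) = 𝟙 _ from rfl, Spec.map_id, Category.comp_id, Category.id_comp]⟩
  have hχ0 := CurveDuality.euler_structure k hO hdim
  haveI h1 : Subsingleton (Coh.HH C L 1) := CurveDuality.subsingleton_HH_one_of_deg_ge k hdim hL (by
    rw [hχ0, hLdeg, hg]; omega)
  have hn : Module.finrank k (Coh.HH C L 0) = (r - g) + 1 := by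
    have hχ := CurveRR.euler_eq_h0_sub_h1 k hdim.le (CurveDeg.isCoh_of_isInvertible hL).1
    rw [Module.finrank_zero_of_subsingleton (M := Coh.HH C L 1)] at hχ
    unfold Curv2.deg at hLdeg
    rw [hg] at hχ0
    push_cast at hχ hLdeg
    omega
  obtain ⟨σ, hσ, -, hR0, -⟩ := JacSepPts.exists_sections_drop k hpb hdim hdim (r - g) L hL h1 hn
  refine ⟨σ, hσ, ?_⟩
  let ε : CohB1.tensorMod L ((Scheme.Modules.pullback (𝟙 C)).obj (FGA.tensorList (List.ofFn fun t => ClSub.idealMod (σ t).ker))) ≅
      CohB1.tensorMod L (FGA.tensorList (List.ofFn fun t => ClSub.idealMod (σ t).ker)) :=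
    (DCoh.tensorBi.obj L).mapIso ((Scheme.Modules.pullbackId C).app _)
  exact ((CurveCohLib.hhEquiv (k := k) ε 0).finrank_eq).symm.trans hR0

end Groth.Agent.S19880
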