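import Groth.Statements.S19881
import Groth.Agent.H1PolyArt.Basic

set_option autoImplicit false
universe u
open GrLC

namespace Groth.Agent.S19881

/-- Let R = ⊕_{n ≥ 0} R_n be a (Noetherian) positively ℤ-graded ring which is standard graded
(irrelevant ideal generated by R_1), with R_0 Artinian, *local with unique homogeneous maximal ideal
m, Cohen–Macaulay of Krull dimension d, and with infinite residue field R/m. If the a-invariant of R
equals −d, i.e. the end (largest nonzero degree) of the graded local cohomology module H^d_m(R),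
computed from any *injective resolution of R in the graded category, is −d, then R is a polynomial
ring over R_0 in d variables of degree one: there is an R_0-algebra isomorphism R_0[T_1, …, T_d] ≅ R
mapping every variable into R_1. (The published statement asserts the equivalence of a(R) = −d with
R ≅ R_0[T_1, …, T_d] without the residue-field hypothesis; its argument treats the case of an
infinite residue field, which is the case stated here, and only the forward implication is stated.) -/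
theorem result (R : Type u) [CommRing R]
    [LocCoh.IsCohenMacaulayRing R] (𝒜 : ℤ → AddSubgroup R) [GradedRing 𝒜]
    (hpos : ∀ n : ℤ, n < 0 → 𝒜 n = ⊥)
    (hstd : Ideal.span (⋃ n ∈ Set.Ioi (0 : ℤ), (𝒜 n : Set R)) = Ideal.span ((𝒜 1 : AddSubgroup R) : Set R))
    [IsArtinianRing (GrLC.deg0 𝒜)] (m : HomogeneousIdeal 𝒜) (hm : GrLC.IsStarLocal 𝒜 m)
    (hinf : Infinite (R ⧸ m.toIdeal)) (d : ℕ) (hd : ringKrullDim R = d) (I : GrLC.StarInjRes 𝒜 𝒜)
    (ha : GrLC.endDeg (I.Hgr m d) = (((-(d : ℤ) : ℤ) : WithTop ℤ) : WithBot (WithTop ℤ))) :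
    ∃ e : MvPolynomial (Fin d) (GrLC.deg0 𝒜) ≃ₐ[GrLC.deg0 𝒜] R, ∀ t : Fin d, e (MvPolynomial.X t) ∈ 𝒜 1 := by
  classical
  let X := GrLib8.gmodPieces 𝒜 𝒜
  haveI : Module.Finite R X.carrier := inferInstanceAs (Module.Finite R R)
  obtain ⟨k, hk⟩ := GrLib8.exists_pow_le_irrel hpos hm
  have hle := GrLib8.irrel_le_of_isStarLocal hpos hm
  have hirr : (GrSyz.irrel 𝒜).toIdeal = Ideal.span ((𝒜 1 : AddSubgroup R) : Set R) :=
    GrLib8.irrel_toIdeal_eq.trans hstd
  have htr : ∀ Y : GrLC.GMod.{u} 𝒜, GrLC.gam m.toIdeal Y.carrier = GrLC.gam (GrSyz.irrel 𝒜).toIdeal Y.carrier :=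
    fun Y => GrLib8.gam_eq_of_pow_le hle hk Y.carrier
  have hvan : ∀ i, i ≠ d → ∀ g, GrLib8.HVan (GrSyz.irrel 𝒜) X i g := fun i hi g =>
    GrLib8.hVan_of_gam_eq (fun Y => (htr Y).symm)
      ((GrLib8.hVan_of_pieces_res I).2 (GrLib8.Hcomp_eq_bot_of_ne hpos hm hd hi I g))
  obtain ⟨l, hlen, hl, hreg, htors⟩ := H1PolyArt.exists_regular_linear hpos hm hle hk hirr hinf d X
    (fun i hi g => hvan i (by omega) g)
    ((show Module.supportDim R X.carrier = ringKrullDim R from Module.supportDim_self_eq_ringKrullDim R).trans hd).le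
  let J : Ideal R := Ideal.ofList l
  have hJm : J ≤ m.toIdeal := Ideal.span_le.2 fun y hy => hle (GrLib8.mem_irrel_of_pos 𝒜 one_pos (hl y hy))
  have hJ : ∀ z : R, z ∈ J • (⊤ : Submodule R R) ↔ z ∈ J := fun z => by rw [smul_eq_mul, Ideal.mul_top]
  obtain ⟨k₀, hk₀⟩ := htors (1 : R)
  obtain ⟨D, hD⟩ := GrLib8.exists_deg_bound 𝒜 (GrLib8.nonneg_of_bot hpos)
  obtain ⟨c, ⟨z, hz, hzJ⟩, hc⟩ := Int.exists_greatest_of_bdd (P := fun g => ∃ z ∈ 𝒜 g, z ∉ J)
    ⟨((k₀ * D : ℕ) : ℤ), fun g ⟨z, hz, hzJ⟩ => by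
      by_contra hg
      refine hzJ ((hJ z).1 ?_)
      have h2 : z * 1 ∈ J • (⊤ : Submodule R R) := hk₀ z (hD k₀ g (by omega) z hz)
      rwa [mul_one] at h2⟩
    ⟨0, 1, SetLike.one_mem_graded 𝒜, fun h => (GrLib8.isMaximal_of_isStarLocal hpos hm).ne_top
      ((Ideal.eq_top_iff_one _).2 (hJm h))⟩
  let l' := l.map fun p => (p, (1 : ℤ))
  have hfst : l'.map Prod.fst = l := by simp [l', Function.comp_def]
  have hsum : (l'.map Prod.snd).sum = (d : ℤ) := by simp [l', Function.comp_def, hlen]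
  obtain ⟨-, h2, h3⟩ := GrLib8.hVan_regular_top (a := GrSyz.irrel 𝒜) l' X
    (fun p hp => by
      obtain ⟨q, hq, rfl⟩ := List.mem_map.1 hp
      exact ⟨hl q hq, zero_le_one, GrLib8.mem_irrel_of_pos 𝒜 one_pos (hl q hq)⟩)
    (hfst.symm ▸ hreg) (hfst.symm ▸ htors) c
    (fun g hg y hy => by rw [hfst]; exact (hJ y).2 (by_contra fun h => absurd (hc g ⟨y, hy, h⟩) (by omega)))
    ⟨z, hz, fun h => hzJ ((hJ z).1 (by rw [hfst] at h; exact h))⟩
  rw [show l'.length = d by simp [l', hlen], hsum] at h2 h3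
  have hc0 : c = 0 := by
    have := (GrLib8.PolyChar.endDeg_eq_iff I (m := m)
      (fun g hg => GrLib8.hVan_of_gam_eq htr (h2 g hg))
      (fun h => h3 (GrLib8.hVan_of_gam_eq (fun Y => (htr Y).symm) h)) _).1 ha
    omega
  subst hlen
  have hJy : J = Ideal.span (Set.range fun i : Fin l.length => l.get i) := by
    show Ideal.span _ = _
    congr 1
    ext y
    simp [List.mem_iff_get]
  exact H1PolyArt.exists_equiv_of_regular hpos l.length (fun i => l.get i) (fun i => hl _ (l.get_mem i))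
    (by rw [List.ofFn_get]; exact hreg)
    (fun g hg r hr => hJy ▸ (by_contra fun h => absurd (hc g ⟨r, hr, h⟩) (by omega) : r ∈ J))

end Groth.Agent.S19881
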