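import Groth.Statements.S1989
import Groth.Statements.S1989
import Groth.Agent.H1Ram.Tower

set_option autoImplicit false
universe u
open EtAlg

namespace Groth.Agent.S1989

/-- Let K be the fraction field of a discrete valuation ring A, and K ⊂ L ⊂ M finite separable
extensions. If M is tamely ramified, respectively unramified, with respect to A, then so is L. -/
theorem result (A K : Type u) [CommRing A] [IsDomain A] [IsDiscreteValuationRing A] [Field K] [Algebra A K] [IsFractionRing A K] (L M : Type u) [Field L] [Field M]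
    [Algebra K L] [Algebra K M] [Algebra L M] [IsScalarTower K L M] [FiniteDimensional K M] [Algebra.IsSeparable K M] :
    (EtRam.IsTamelyRamified A ((algebraMap K M).comp (algebraMap A K)) →
      EtRam.IsTamelyRamified A ((algebraMap K L).comp (algebraMap A K))) ∧
    (EtRam.IsUnramifiedExt A ((algebraMap K M).comp (algebraMap A K)) →
      EtRam.IsUnramifiedExt A ((algebraMap K L).comp (algebraMap A K))) := by
  have hext : ∀ (V : ValuationSubring L),
      EtRam.Dominates A ((algebraMap K L).comp (algebraMap A K)) V →
      ∃ W : ValuationSubring M, EtRam.Dominates A ((algebraMap K M).comp (algebraMap A K)) W ∧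
        V = W.comap (algebraMap L M) := by
    intro V hV
    obtain ⟨W, hW⟩ := AlgSpVal.exists_comap_eq (algebraMap L M) V
    refine ⟨W, ⟨fun a => ?_, fun a ha => ?_⟩, hW.symm⟩
    · have h1 := hV.1 a
      rw [← hW, ValuationSubring.mem_comap, RingHom.comp_apply, ← IsScalarTower.algebraMap_apply] at h1
      exact h1
    · subst hW
      have hmem := hV.1 a
      have hnu : ¬ IsUnit (EtRam.inclOfComap W (algebraMap L M) ⟨_, hmem⟩) := fun hu =>
        (IsLocalRing.mem_maximalIdeal _).1 (((W.comap (algebraMap L M)).valuation_lt_one_iff ⟨_, hmem⟩).2 (hV.2 a ha))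
          ((isUnit_map_iff _ _).1 hu)
      have h2 := (W.valuation_lt_one_iff _).1 ((IsLocalRing.mem_maximalIdeal _).2 hnu)
      rw [EtRam.inclOfComap_apply_coe] at h2
      rwa [RingHom.comp_apply, IsScalarTower.algebraMap_apply K L M]
  refine ⟨fun hM V hV => ?_, fun hM V hV => ?_⟩
  all_goals
    obtain ⟨W, hW, rfl⟩ := hext V hV
    letI : Algebra A W := (RingHom.codRestrict ((algebraMap K M).comp (algebraMap A K)) W hW.1).toAlgebra
    letI : Algebra A (W.comap (algebraMap L M)) :=
      (RingHom.codRestrict ((algebraMap K L).comp (algebraMap A K)) (W.comap (algebraMap L M)) hV.1).toAlgebra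
    letI : Algebra (W.comap (algebraMap L M)) W :=
      (RingHom.codRestrict ((algebraMap L M).comp (W.comap (algebraMap L M)).subtype) W
        (H1Ram.dominates_subtype (L := L) W).1).toAlgebra
    intro hloc
    haveI : IsLocalHom (algebraMap A W) := ⟨fun a ha => by
      by_contra hna
      exact (IsLocalRing.mem_maximalIdeal _).1
        ((W.valuation_lt_one_iff _).2 (hW.2 a ((IsLocalRing.mem_maximalIdeal a).2 hna))) ha⟩
    haveI : IsLocalHom (algebraMap (W.comap (algebraMap L M)) W) := EtRam.isLocalHom_inclOfComap W _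
    obtain ⟨hT, a, b, ha, hb, h1, h2, h3, i1, i2, i3⟩ := H1Ram.tower (L := L) W hW hV
    haveI := hT
  · obtain ⟨hs, hp⟩ := hM W hW
    refine ⟨?_, fun p hp' hc hdvd => hp p hp' hc (?_)⟩
    · haveI := hs
      exact Algebra.isSeparable_tower_bot_of_isSeparable _ _ (IsLocalRing.ResidueField W)
    · rw [h3]; rw [h1] at hdvd; exact hdvd.mul_right b
  · obtain ⟨hw, hs⟩ := hM W hW
    refine ⟨i1.2 (Nat.eq_one_of_mul_eq_one_right (i3.1 hw)), ?_⟩
    haveI := hs
    exact Algebra.isSeparable_tower_bot_of_isSeparable _ _ (IsLocalRing.ResidueField W)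

end Groth.Agent.S1989
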