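import Groth.Statements.S19893
import Groth.Agent.PseudoAbTate.Main
import Groth.Agent.AVHomForm.Rep

set_option autoImplicit false
set_option backward.isDefEq.respectTransparency false
set_option backward.isDefEq.respectTransparency.types false
set_option maxHeartbeats 1000000
set_option linter.style.haveILetI false
universe u
open CategoryTheory CategoryTheory.Limits MonoidalCategory CartesianMonoidalCategory AlgebraicGeometry MonObj
open Neron

namespace Groth.Agent.S19893
open Groth.Agent

/-- Let k be a field and P a pseudo-abelian variety over k, that is a smooth connected commutative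
k-group scheme of finite type all of whose smooth connected affine closed subgroup schemes are
trivial. Suppose P is an extension 0 → E → P → V → 0 with E → P a closed immersion that is the
kernel of a surjective homomorphism P → V, where E is an abelian variety over k (proper, smooth,
geometrically integral) and V is a smooth connected affine k-group whose base change to an algebraic
closure of k contains no non-trivial subtorus. Suppose L is a finite, purely inseparable field
extension of k such that the base change P_L is likewise an extension 0 → H → P_L → A → 0 with H a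
smooth connected affine L-group having no non-trivial subtorus over an algebraic closure of L and A
an abelian variety over L of dimension g (so that g is the virtual abelian rank of P). Then the
dimension of E equals g. (Both extensions are taken as data: their existence is a result of the
literature that the source quotes. The second assertion of the proposition, on good reduction, is
not part of this statement. The source works over the fraction field of an excellent discrete
valuation ring of characteristic p > 0; the assertion and its argument use only the field, so k is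
an arbitrary field here.) -/
theorem result
    (k : Type u) [Field k]
    (P : Over (Spec (CommRingCat.of k))) [GrpObj P] [IsCommMonObj P]
    [Smooth P.hom] [LocallyOfFiniteType P.hom] [QuasiCompact P.hom] [ConnectedSpace ↥P.left]
    (hP : ∀ (H : Over (Spec (CommRingCat.of k))) [GrpObj H] (j : H ⟶ P) [IsMonHom j],
      IsClosedImmersion j.left → Smooth H.hom → ConnectedSpace ↥H.left → IsAffine H.left → IsIso η[H])
    (E V : Over (Spec (CommRingCat.of k))) [GrpObj E] [GrpObj V]
    (iE : E ⟶ P) [IsMonHom iE] (q : P ⟶ V) [IsMonHom q]
    (hiE : IsClosedImmersion iE.left) (hkerE : AlgGrp.IsKernel iE q) (hq : Surjective q.left)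
    [IsProper E.hom] [Smooth E.hom] [GeometricallyIntegral E.hom]
    [Smooth V.hom] [ConnectedSpace ↥V.left] [IsAffine V.left]
    (hV : Red.HasNoSubtorus (AlgebraicClosure k)
      (Red.bc (Spec.map (CommRingCat.ofHom (algebraMap k (AlgebraicClosure k)))) V))
    (L : Type u) [Field L] [Algebra k L] [FiniteDimensional k L] [IsPurelyInseparable k L]
    (H A : Over (Spec (CommRingCat.of L))) [GrpObj H] [GrpObj A]
    (i : H ⟶ Red.bc (Spec.map (CommRingCat.ofHom (algebraMap k L))) P) [IsMonHom i] (π : Red.bc (Spec.map (CommRingCat.ofHom (algebraMap k L))) P ⟶ A) [IsMonHom π]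
    (hi : IsClosedImmersion i.left) (hker : AlgGrp.IsKernel i π) (hπ : Surjective π.left)
    [Smooth H.hom] [ConnectedSpace ↥H.left] [IsAffine H.left]
    (hH : Red.HasNoSubtorus (AlgebraicClosure L) (Red.bc (Spec.map (CommRingCat.ofHom (algebraMap L (AlgebraicClosure L)))) H))
    [IsProper A.hom] [Smooth A.hom] [GeometricallyIntegral A.hom]
    (g : ℕ) (hg : topologicalKrullDim ↥A.left = g) :
    topologicalKrullDim ↥E.left = g := by
  classical
  obtain ⟨d, hd⟩ := TorsPtsLib.exists_dim E
  obtain ⟨l, hlp, hl⟩ := AVHomForm.exists_prime_ne_zero (k := k)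
  haveI := hlp
  have hlP : l.Prime := hlp.out
  let Ω := SeparableClosure k
  let K₁ := AlgebraicClosure L
  let K₂ := AlgebraicClosure k
  haveI : Mono iE := Over.mono_of_mono_left iE
  haveI : Mono i := Over.mono_of_mono_left i
  let PL := Red.bc (Spec.map (CommRingCat.ofHom (algebraMap k L))) P
  haveI : IsCommMonObj PL := PseudoAbTate.isCommMonObj_pullback _ P
  haveI : Smooth PL.hom := MorphismProperty.pullback_snd _ _ inferInstance
  haveI : QuasiCompact PL.hom := MorphismProperty.pullback_snd _ _ inferInstance
  haveI : ConnectedSpace PL.left := GrpSchLib.AntiAffine.connectedSpace_bc P (algebraMap k L)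
  haveI : IsCommMonObj A := isCommMonObj_of_isProper_of_geometricallyIntegral _
  haveI : IsCommMonObj E := isCommMonObj_of_isProper_of_geometricallyIntegral _
  haveI : IsCommMonObj H := ⟨by
    rw [← cancel_mono i, Category.assoc, IsMonHom.mul_hom, ← BraidedCategory.braiding_naturality_assoc,
      IsCommMonObj.mul_comm]⟩
  have hlK₁ : (l : K₁) ≠ 0 := by rw [← map_natCast (algebraMap k K₁)]; exact (map_ne_zero _).mpr hl
  have hlK₂ : (l : K₂) ≠ 0 := by rw [← map_natCast (algebraMap k K₂)]; exact (map_ne_zero _).mpr hl
  have hσ : Spec.map (CommRingCat.ofHom (algebraMap k K₁)) =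
      Spec.map (CommRingCat.ofHom (algebraMap L K₁)) ≫ Spec.map (CommRingCat.ofHom (algebraMap k L)) := by
    rw [IsScalarTower.algebraMap_eq k L K₁, CommRingCat.ofHom_comp, Spec.map_comp]
  have hA : Nat.card (AbDual.torsPts P l (Over.mk (Spec.map (CommRingCat.ofHom (algebraMap k K₁))))) =
      l ^ (2 * g) := by
    let fL := Spec.map (CommRingCat.ofHom (algebraMap k L))
    let gL := Spec.map (CommRingCat.ofHom (algebraMap L K₁))
    have e : Nat.card (AbDual.torsPts P l (Over.mk (gL ≫ fL))) =
        Nat.card (AbDual.torsPts PL l (Over.mk gL)) :=
      Nat.card_congr (Equiv.subtypeEquiv (PseudoAbTate.ptsBC fL gL P).toEquiv fun a => by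
        show a ^ l = 1 ↔ PseudoAbTate.ptsBC fL gL P a ^ l = 1
        rw [← map_pow, MulEquiv.map_eq_one_iff])
    rw [hσ, e, PseudoAbTate.geom_card (algebraMap L K₁) i π hker hH hlK₁]
    exact (TorsPtsLib.geom_points _ A hg).2.1 _ hlK₁
  have hE : Nat.card (AbDual.torsPts P l (Over.mk (Spec.map (CommRingCat.ofHom (algebraMap k K₂))))) =
      l ^ (2 * d) := by
    rw [← PseudoAbTate.geom_card_sub (algebraMap k K₂) iE q hkerE hV hlK₂]
    exact (TorsPtsLib.geom_points _ E hd).2.1 _ hlK₂
  have h1 := PseudoAbTate.card_tors_sep (IsAlgClosed.lift : Ω →ₐ[k] K₁) P hl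
  have h2 := PseudoAbTate.card_tors_sep (IsAlgClosed.lift : Ω →ₐ[k] K₂) P hl
  rw [hA] at h1
  rw [hE, h1] at h2
  have := Nat.pow_right_injective hlP.two_le h2
  rw [hd]
  exact_mod_cast (show d = g by omega)

end Groth.Agent.S19893
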