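import Groth.Statements.S1990
import Groth.Statements.S1990
import Groth.Agent.H1Ram.Tower

set_option autoImplicit false
universe u
open EtAlg

namespace Groth.Agent.S1990

/-- Let K be the fraction field of a discrete valuation ring A, and K ⊂ L ⊂ M finite separable
extensions. If L/K is tamely ramified (resp. unramified) with respect to A and M/L is tamely
ramified (resp. unramified) with respect to every valuation subring of L dominating A, then M/K is
tamely ramified (resp. unramified) with respect to A. -/
theorem result (A K : Type u) [CommRing A] [IsDomain A] [IsDiscreteValuationRing A] [Field K] [Algebra A K] [IsFractionRing A K] (L M : Type u) [Field L] [Field M]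
    [Algebra K L] [Algebra K M] [Algebra L M] [IsScalarTower K L M] [FiniteDimensional K M] [Algebra.IsSeparable K M] :
    (EtRam.IsTamelyRamified A ((algebraMap K L).comp (algebraMap A K)) →
      (∀ (V : ValuationSubring L), EtRam.Dominates A ((algebraMap K L).comp (algebraMap A K)) V →
        EtRam.IsTamelyRamified V ((algebraMap L M).comp V.subtype)) →
      EtRam.IsTamelyRamified A ((algebraMap K M).comp (algebraMap A K))) ∧
    (EtRam.IsUnramifiedExt A ((algebraMap K L).comp (algebraMap A K)) →
      (∀ (V : ValuationSubring L), EtRam.Dominates A ((algebraMap K L).comp (algebraMap A K)) V →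
        EtRam.IsUnramifiedExt V ((algebraMap L M).comp V.subtype)) →
      EtRam.IsUnramifiedExt A ((algebraMap K M).comp (algebraMap A K))) := by
  refine ⟨fun hL hM W hW => ?_, fun hL hM W hW => ?_⟩
  all_goals
    have hV := H1Ram.dominates_comap (L := L) W hW
    letI : Algebra A W := (RingHom.codRestrict ((algebraMap K M).comp (algebraMap A K)) W hW.1).toAlgebra
    letI : Algebra A (W.comap (algebraMap L M)) :=
      (RingHom.codRestrict ((algebraMap K L).comp (algebraMap A K)) (W.comap (algebraMap L M)) hV.1).toAlgebra
    letI : Algebra (W.comap (algebraMap L M)) W :=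
      (RingHom.codRestrict ((algebraMap L M).comp (W.comap (algebraMap L M)).subtype) W
        (H1Ram.dominates_subtype (L := L) W).1).toAlgebra
    intro hloc
    haveI : IsLocalHom (algebraMap A (W.comap (algebraMap L M))) := ⟨fun a ha => by
      by_contra hna
      exact (IsLocalRing.mem_maximalIdeal _).1 (((W.comap (algebraMap L M)).valuation_lt_one_iff _).2
        (hV.2 a ((IsLocalRing.mem_maximalIdeal a).2 hna))) ha⟩
    haveI : IsLocalHom (algebraMap (W.comap (algebraMap L M)) W) := EtRam.isLocalHom_inclOfComap W _
    obtain ⟨hT, a, b, ha, hb, h1, h2, h3, i1, i2, i3⟩ := H1Ram.tower (L := L) W hW hV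
    haveI := hT
  · obtain ⟨hs1, hp1⟩ := hL _ hV
    obtain ⟨hs2, hp2⟩ := hM _ hV W (H1Ram.dominates_subtype (L := L) W)
    refine ⟨?_, fun p hp' hc hdvd => ?_⟩
    · haveI := hs1; haveI := hs2
      exact Algebra.IsSeparable.trans _ (IsLocalRing.ResidueField (W.comap (algebraMap L M))) _
    · rw [h3] at hdvd
      rcases hp'.dvd_mul.1 hdvd with h | h
      · exact hp1 p hp' hc (by rw [h1]; exact h)
      · haveI := hc
        exact hp2 p hp' (charP_of_injective_ringHom
          (algebraMap (IsLocalRing.ResidueField A) (IsLocalRing.ResidueField (W.comap (algebraMap L M)))).injective p)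
          (by rw [h2]; exact h)
  · obtain ⟨hw1, hs1⟩ := hL _ hV
    obtain ⟨hw2, hs2⟩ := hM _ hV W (H1Ram.dominates_subtype (L := L) W)
    refine ⟨i3.2 (by rw [i1.1 hw1, i2.1 hw2]), ?_⟩
    haveI := hs1; haveI := hs2
    exact Algebra.IsSeparable.trans _ (IsLocalRing.ResidueField (W.comap (algebraMap L M))) _

end Groth.Agent.S1990
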