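import Groth.Statements.S19900
import Groth.Agent.AlgStLib.SepUnivClosed
import Groth.Agent.AlgStLib.DiagLFT
import Groth.Agent.AlgStLib.Small
import Groth.Agent.AlgStLib.UnivInj
import Groth.Agent.AlgStLib.LocQCalc
import Groth.Agent.S9925
import Groth.Agent.S9926
import Groth.Agent.S10279

set_option linter.style.haveILetI false
set_option backward.isDefEq.respectTransparency false
set_option backward.isDefEq.respectTransparency.types false

set_option autoImplicit false
universe u
open CategoryTheory AlgebraicGeometry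
open AlgSt

namespace Groth.Agent.S19900

/-- Let f : 𝒳 → 𝒴 and g : 𝒴 → 𝒵 be morphisms of algebraic stacks with composite h : 𝒳 → 𝒵. If f is flat,
surjective, universally injective and locally of finite presentation, the diagonal of f is
universally closed and h is separated, then g is separated. (The published statement does not ask
the diagonal of f to be universally closed, and without it the statement fails: over the affine line
T over a field let G be the constant group scheme with two elements, H the etale group scheme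
obtained from G by gluing its two sections over the complement of the origin, and f the morphism
from the classifying stack of G to that of H induced by the quotient map; then f is flat,
surjective, universally injective and locally of finite presentation, the classifying stack of G is
separated over T since G is finite, and that of H is not since H is not separated. The published
argument uses that the diagonal of f is universally closed.) -/
theorem result
    (S : Scheme.{u}) (𝒳 : AlgSt.Cat S) (𝒴 : AlgSt.Cat S) (𝒵 : AlgSt.Cat S)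
    (h𝒳 : AlgSt.IsAlgStack Scheme.fppfPrecoverage 𝒳)
    (h𝒴 : AlgSt.IsAlgStack Scheme.fppfPrecoverage 𝒴)
    (h𝒵 : AlgSt.IsAlgStack Scheme.fppfPrecoverage 𝒵)
    (f : 𝒳 ⥤ᵇ 𝒴) (g : 𝒴 ⥤ᵇ 𝒵)
    (hf₁ : AlgSt.IsSurjective f) (hf₂ : AlgSt.LocQ (AlgSp.LocP @Flat) f)
    (hf₃ : AlgSt.LocQ (AlgSp.LocP @LocallyOfFinitePresentation) f)
    (hf₄ : AlgSt.IsUnivInjective Scheme.fppfPrecoverage f)
    (hf₅ : AlgSt.RepByAlgSpWith AlgSp.IsUnivClosedMor (FibCat.diag f))
    (hh : AlgSt.IsSeparatedMor (BasedFunctor.comp f g)) :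
    AlgSt.IsSeparatedMor g := by
  open CategoryTheory Groth.Agent.FibBase Groth.Agent.AlgStLib Groth.Agent.AlgSpLib AlgSp in
  have hX := h𝒳.isStack.1
  have hY := h𝒴.isStack.1
  have hff := fp_isFibGrpd (F := f) (G := f) hX hX hY
  have hds : AlgSt.IsSurjective (FibCat.diag f) :=
    (isUnivInjective_iff_isSurjective_diag h𝒳 hY f).1 hf₄
  have hd : AlgSt.RepByAlgSp1 (FibCat.diag g) := repByAlgSp1_diag h𝒴.diag h𝒵.diag g
  have he : AlgSt.RepByAlgSpWith AlgSp.IsProperMor (BasedFunctor.comp (FibCat.diag f) (weaken f f g)) :=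
    repByAlgSpWith_of_iso (diagCompIso f g).symm hh
  have hw : AlgSt.RepByAlgSpWith AlgSp.IsProperMor (weaken f f g) := fun U y => by
    obtain ⟨F, eB, heB, hlB⟩ := repByAlgSpWith_weaken f f g (repByAlgSpWith_lft_diag h𝒴 h𝒵 g) U y
    let b := AlgSt.spMapOfOver (BasedFunctor.comp eB (FibCat.fpFst y (weaken f f g)))
    let z := BasedFunctor.comp eB (FibCat.fpSnd y (weaken f f g))
    obtain ⟨V, a, eA, heA, ⟨ia⟩, hca⟩ := exists_space_fp stableBC_isUnivClosedMor
      (isLocalOnBase_fppf_of_fpqc isLocalOnBase_fpqc_isUnivClosedMor) hX hff hf₅ F z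
    have hsa : AlgSp.IsSurjectiveMor a.hom := fun q => by
      obtain ⟨w, rfl⟩ := spPt_bijective.2 q
      obtain ⟨p, hp⟩ := pts_surjective_fpFst hX hff (Stk.isFibGrpd_ofPsh _) z hds w
      obtain ⟨v, rfl⟩ := (pts_bijective_of_isEquivOver heA).2 p
      refine ⟨spPt v, ?_⟩
      rw [← spPt_map_ofSpMap, ← pts_map_congr ia, pts_map_comp, hp]
    have : (BasedFunctor.id (FibCat.fp f f)).toFunctor.Full := inferInstanceAs (𝟭 _).Full
    have : (BasedFunctor.id (FibCat.fp f f)).toFunctor.Faithful := inferInstanceAs (𝟭 _).Faithful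
    let m := fpMap (F := FibCat.fpSnd y (weaken f f g)) (G := FibCat.diag f) (F' := z) (G' := FibCat.diag f)
      (a := eB) (b := BasedFunctor.id _) (c := BasedFunctor.id _) (Iso.refl _) (Iso.refl _)
    let E := BasedFunctor.comp eA (BasedFunctor.comp m (pasteHor y (FibCat.diag f) (weaken f f g)))
    have hE : FibCat.IsEquivOver E := isEquivOver_comp heA
      (isEquivOver_comp (fpMap_isEquivOver _ _ heB isEquivOver_id) (pasteHor_isEquivOver _ _ _))
    obtain ⟨-, hp⟩ := RepOver.property_of_stableBC stableBC_isProperMor (he U y) E hE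
    let j : BasedFunctor.comp E (FibCat.fpFst y (BasedFunctor.comp (FibCat.diag f) (weaken f f g))) ≅
        BasedFunctor.comp (AlgSt.ofSpMap a.hom) (BasedFunctor.comp eB (FibCat.fpFst y (weaken f f g))) :=
      whiskerRightIso ia (BasedFunctor.comp eB (FibCat.fpFst y (weaken f f g)))
    have hab : AlgSt.spMapOfOver (BasedFunctor.comp E
        (FibCat.fpFst y (BasedFunctor.comp (FibCat.diag f) (weaken f f g)))) = a.hom ≫ b := by
      rw [spMapOfOver_congr j, spMapOfOver_comp, spHom_ofSpMap]
    rw [hab] at hp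
    let B : AlgSp.Space S := ⟨_, IsAlgSpace.yon_obj U⟩
    let p₀ : V ⟶ B := ObjectProperty.homMk (a.hom ≫ b)
    let q₀ : F ⟶ B := ObjectProperty.homMk b
    have hc : a ≫ q₀ = p₀ := rfl
    have hu : AlgSp.IsUnivClosedMor b := Groth.Agent.S10279.result a p₀ q₀ hc hp.2.2 hsa
    exact ⟨F, eB, heB, (Groth.Agent.S9926.result a p₀ q₀ hc hsa hca).2 hp.1,
      ⟨hlB, Groth.Agent.S9925.result q₀ hu⟩, hu⟩
  exact repByAlgSpWith_of_locEssSurj stableBC_isProperMor isLocalOnBase_isProperMor hd
    (locEssSurj_pairMap g (locEssSurj_of_locQ h𝒳 h𝒴 hf₂ hf₃ hf₁) (locEssSurj_of_locQ h𝒳 h𝒴 hf₂ hf₃ hf₁))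
    ((repByAlgSpWith_iff_of_square (f' := weaken f f g)
      (f := FibCat.fpFst (pairMap f f g) (FibCat.diag g))
      (a := diagComparison f f g) (b := BasedFunctor.id _)
      (diagComparison_isEquivOver f f g) isEquivOver_id (Iso.refl _)).2 hw)

end Groth.Agent.S19900
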