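import Groth.Statements.S19901
import Groth.Agent.LciSmooth.Basic
import Groth.Agent.AlgStLib.LocQCalc
import Groth.Agent.AlgSpLib.SmoothLocalInst
import Groth.Agent.S10666

set_option autoImplicit false
set_option backward.isDefEq.respectTransparency false
set_option backward.isDefEq.respectTransparency.types false
universe u
open CategoryTheory AlgebraicGeometry
open AlgSt

namespace Groth.Agent.S19901

/-- Let f : 𝒳 → 𝒴, q : 𝒴 → 𝒵 and p : 𝒳 → 𝒵 be morphisms of algebraic stacks forming a 2-commutative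
triangle (a 2-isomorphism between q ∘ f and p is given). If q is smooth and p is a local complete
intersection morphism (Koszul), then f is a local complete intersection morphism. Smooth and local
complete intersection morphisms of algebraic stacks are read on one square of smooth scheme charts. -/
theorem result
    (S : Scheme.{u}) (𝒳 : AlgSt.Cat S) (𝒴 : AlgSt.Cat S) (𝒵 : AlgSt.Cat S)
    (h𝒳 : AlgSt.IsAlgStack Scheme.fppfPrecoverage 𝒳)
    (h𝒴 : AlgSt.IsAlgStack Scheme.fppfPrecoverage 𝒴)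
    (h𝒵 : AlgSt.IsAlgStack Scheme.fppfPrecoverage 𝒵)
    (f : 𝒳 ⥤ᵇ 𝒴) (q : 𝒴 ⥤ᵇ 𝒵) (p : 𝒳 ⥤ᵇ 𝒵) (e : BasedFunctor.comp f q ≅ p)
    (hq : AlgSt.LocQ (AlgSp.LocP @Smooth) q) (hp : AlgSt.LocQ AlgSp.IsLCIMor p) :
    AlgSt.LocQ AlgSp.IsLCIMor f := by
  have hP := Groth.Agent.LciSmooth.isSmoothLocalST_lci (S := S)
  have hp' : AlgSt.LocQ AlgSp.IsLCIMor (BasedFunctor.comp f q) := by
    obtain ⟨U, V, x, y, h, α, hr⟩ := hp
    exact ⟨U, V, x, y, h, Groth.Agent.FibBase.whiskerLeftIso x e ≪≫ α, hr⟩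
  obtain ⟨U, V, W, z, d, c, hz, hd, hc, hy⟩ := Groth.Agent.AlgStLib.exists_charts_comp h𝒳 h𝒴 h𝒵 f q
  obtain ⟨c', ec, hs, hs'⟩ := Groth.Agent.AlgStLib.exists_chart_comp h𝒳.isStack.1 h𝒴.isStack.1 h𝒵.isStack.1 d c
  refine Groth.Agent.AlgStLib.locQ_of_chart hP h𝒳 h𝒴 hy.1 hy.2 hc.1 hc.2 ?_
  have h1 := (Groth.Agent.AlgStLib.locQ_iff_locQS hP h𝒳 h𝒵 (BasedFunctor.comp f q)).1 hp' U W z c' hz.1
    (hs hc.1 hd.1)
  rw [ec] at h1
  have h2 := (Groth.Agent.AlgStLib.locQ_iff_locQS (Groth.Agent.AlgSpLib.isSmoothLocalST_smooth (S := S))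
    h𝒴 h𝒵 q).1 hq V W z d hz.1 hd.1
  exact Groth.Agent.S10666.result (S := S) (X := U) (Y := V) (Z := W) (ObjectProperty.homMk _)
    (ObjectProperty.homMk _) (ObjectProperty.homMk _) rfl h2 h1

end Groth.Agent.S19901
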