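import Groth.Statements.S19902
import Groth.Agent.AlgStLib.SmoothSubstack

set_option autoImplicit false
set_option backward.isDefEq.respectTransparency false
set_option backward.isDefEq.respectTransparency.types false
universe u
open CategoryTheory AlgebraicGeometry
open AlgSt

namespace Groth.Agent.S19902

/-- Let f : 𝒳 → 𝒴 be a morphism of algebraic stacks and 𝒰 ⊂ 𝒳 the largest open substack on which f is
smooth. Formation of 𝒰 commutes with precomposing by smooth morphisms: for a smooth g : 𝒳' → 𝒳, the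
inverse image of 𝒰 in 𝒳' is the largest open substack of 𝒳' on which f ∘ g is smooth. Open substacks
are given by their object predicates, the inverse image by composing the predicate with g on
objects, and smoothness is read on one square of smooth scheme charts. -/
theorem result
    (S : Scheme.{u}) (𝒳' : AlgSt.Cat S) (𝒳 : AlgSt.Cat S) (𝒴 : AlgSt.Cat S)
    (h𝒳' : AlgSt.IsAlgStack Scheme.fppfPrecoverage 𝒳')
    (h𝒳 : AlgSt.IsAlgStack Scheme.fppfPrecoverage 𝒳)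
    (h𝒴 : AlgSt.IsAlgStack Scheme.fppfPrecoverage 𝒴)
    (g : 𝒳' ⥤ᵇ 𝒳) (hg : AlgSt.LocQ (AlgSp.LocP @Smooth) g) (f : 𝒳 ⥤ᵇ 𝒴)
    (Q : 𝒳.obj → Prop) (hQ₁ : AlgSt.IsOpenSubstack 𝒳 Q Scheme.fppfPrecoverage)
    (hQ₂ : AlgSt.LocQ (AlgSp.LocP @Smooth) (BasedFunctor.comp (AlgSt.subIncl 𝒳 Q) f))
    (hQ₃ : ∀ Q' : 𝒳.obj → Prop, AlgSt.IsOpenSubstack 𝒳 Q' Scheme.fppfPrecoverage →
      AlgSt.LocQ (AlgSp.LocP @Smooth) (BasedFunctor.comp (AlgSt.subIncl 𝒳 Q') f) → ∀ a, Q' a → Q a) :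
    AlgSt.IsOpenSubstack 𝒳' (fun a ↦ Q (g.obj a)) Scheme.fppfPrecoverage ∧
      AlgSt.LocQ (AlgSp.LocP @Smooth)
        (BasedFunctor.comp (AlgSt.subIncl 𝒳' (fun a ↦ Q (g.obj a))) (BasedFunctor.comp g f)) ∧
      ∀ Q' : 𝒳'.obj → Prop, AlgSt.IsOpenSubstack 𝒳' Q' Scheme.fppfPrecoverage →
        AlgSt.LocQ (AlgSp.LocP @Smooth) (BasedFunctor.comp (AlgSt.subIncl 𝒳' Q') (BasedFunctor.comp g f)) →
        ∀ a, Q' a → Q (g.obj a) := by
  have hQ := AlgStLib.eq_ptsIn_range h𝒳 hQ₁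
  have hT := (AlgStLib.bijOn_openSubstack h𝒳).1.mapsTo hQ₁
  have hQg : (fun a => Q (g.obj a)) = AlgStLib.PtsIn
      (AlgSt.Points.map g ⁻¹' Set.range (AlgSt.Points.map (AlgSt.subIncl 𝒳 Q))) :=
    funext fun a => propext ((iff_of_eq (congrFun hQ (g.obj a))).trans
      (AlgStLib.ptsIn_comap_iff h𝒳'.isStack.1 h𝒳.isStack.1 g _ a))
  obtain ⟨ho, hsm, hmax⟩ := AlgStLib.largest_smooth_comp h𝒳' h𝒳 h𝒴 hg hT (hQ ▸ hQ₂)
  refine ⟨hQg ▸ AlgStLib.isOpenSubstack_ptsIn h𝒳' ho, hQg ▸ hsm, fun Q' hQ' hs a ha => ?_⟩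
  have hQ'eq := AlgStLib.eq_ptsIn_range h𝒳' hQ'
  obtain ⟨T₁, ho₁, hsub, hs₁⟩ := hmax _ ((AlgStLib.bijOn_openSubstack h𝒳').1.mapsTo hQ') (hQ'eq ▸ hs)
  refine hQ₃ _ (AlgStLib.isOpenSubstack_ptsIn h𝒳 ho₁) hs₁ _
    ((AlgStLib.ptsIn_comap_iff h𝒳'.isStack.1 h𝒳.isStack.1 g T₁ a).2 (AlgStLib.ptsIn_mono hsub ?_))
  exact iff_of_eq (congrFun hQ'eq a) |>.1 ha

end Groth.Agent.S19902
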