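import Groth.Statements.S19903
import Groth.Agent.AlgStLib.SepDiag
import Groth.Agent.AlgStLib.DiagLFT

set_option autoImplicit false
universe u
open CategoryTheory AlgebraicGeometry
open AlgSt

set_option backward.isDefEq.respectTransparency false
set_option backward.isDefEq.respectTransparency.types false

namespace Groth.Agent.S19903

/-- For a morphism f : 𝒳 → 𝒴 of algebraic stacks, if the relative inertia 𝓘_{𝒳/𝒴} → 𝒳 is locally
separated then the neutral section e : 𝒳 → 𝓘_{𝒳/𝒴} (the second diagonal of f) is an immersion, and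
likewise if the diagonal of f is locally separated. The inertia and the diagonal are representable
by algebraic spaces and local separatedness is the property of such morphisms. (The published
statement asserts the equivalence of the three conditions: inertia locally separated, diagonal
locally separated, neutral section an immersion; only the two implications towards the last
condition are stated here.) -/
theorem result
    (S : Scheme.{u}) (𝒳 : AlgSt.Cat S) (𝒴 : AlgSt.Cat S)
    (h𝒳 : AlgSt.IsAlgStack Scheme.fppfPrecoverage 𝒳)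
    (h𝒴 : AlgSt.IsAlgStack Scheme.fppfPrecoverage 𝒴)
    (f : 𝒳 ⥤ᵇ 𝒴) :
    (AlgSt.RepByAlgSpWith AlgSp.IsLocallySeparatedMor (FibCat.inertiaToBase f) →
        AlgSt.IsImm (FibCat.inertiaNeutral f)) ∧
      (AlgSt.RepByAlgSpWith AlgSp.IsLocallySeparatedMor (FibCat.diag f) →
        AlgSt.IsImm (FibCat.inertiaNeutral f)) := by
  have key := fun h => Groth.Agent.AlgStLib.inertia_tfae f
    (P := AlgSp.RepWith @AlgebraicGeometry.IsImmersion) (D := AlgSp.IsLocallySeparatedMor)
    Groth.Agent.AlgStLib.stableBC_of
    (fun _ _ _ _ _ _ _ _ _ _ _ _ sq h => CategoryTheory.MorphismProperty.of_isPullback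
      (P := (AlgSp.RepWith (S := S) @AlgebraicGeometry.IsImmersion).diagonal) sq h)
    (fun _ _ a ha => Groth.Agent.AlgStLib.repWith_of_repBySpWith a ha) (fun _ _ _ => Iff.rfl) h
  have hd : AlgSt.RepByAlgSp1 (FibCat.diag f) := Groth.Agent.AlgStLib.repByAlgSp1_iff_top.2
    (Groth.Agent.AlgStLib.repByAlgSpWith_mono le_top (Groth.Agent.AlgStLib.repByAlgSpWith_lft_diag h𝒳 h𝒴 f))
  exact ⟨fun h => ((key hd).out 0 2).1 h, fun h => ((key hd).out 1 2).1 h⟩

end Groth.Agent.S19903
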