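import Groth.Statements.S19907
import Mathlib.RingTheory.Kaehler.JacobiZariski
import Mathlib.RingTheory.Etale.Kaehler
import Mathlib.RingTheory.Etale.Field
import Mathlib.RingTheory.AdjoinRoot
import Mathlib.FieldTheory.PrimitiveElement
-- import your own Groth.Agent.* helpers here

set_option autoImplicit false
universe u
open CategoryTheory TensorProduct
open ArtFun

namespace Groth.Agent.S19907

open TensorProduct Algebra Polynomial

section
variable {R S : Type u} [CommRing R] [CommRing S] [Algebra R S]

theorem formallySmooth_self (R S : Type u) [CommRing R] [CommRing S] [Algebra R S] :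
    FormallySmooth R (Generators.self R S).toExtension.Ring :=
  inferInstanceAs (FormallySmooth R (MvPolynomial S R))

set_option backward.isDefEq.respectTransparency false in
set_option backward.defeqAttrib.useBackward true in
noncomputable def selfHom (Q : Extension.{u} R S) : (Generators.self R S).toExtension.Hom Q where
  toRingHom := (MvPolynomial.aeval Q.σ).toRingHom
  toRingHom_algebraMap := (MvPolynomial.aeval Q.σ).commutes
  algebraMap_toRingHom := by
    have : (IsScalarTower.toAlgHom R Q.Ring S).comp (MvPolynomial.aeval Q.σ) =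
        IsScalarTower.toAlgHom _ (Generators.self R S).toExtension.Ring _ := by
      ext i
      change _ = algebraMap (Generators.self R S).Ring _ (.X i)
      simp
    exact DFunLike.congr_fun this

end

section
variable {Λ K' K : Type u} [CommRing Λ] [Field K'] [Field K] [Algebra Λ K'] [Algebra Λ K]
  [Algebra K' K] [IsScalarTower Λ K' K] [FiniteDimensional K' K] [Algebra.IsSeparable K' K]

/-- the lift of `K` over `Λ` -/
theorem exists_lift (hs : Function.Surjective (algebraMap Λ K')) :
    ∃ (B : Type u) (_ : CommRing B) (_ : Algebra Λ B) (_ : Module.Free Λ B) (φ : B →ₐ[Λ] K),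
      Function.Surjective φ ∧
        RingHom.ker φ.toRingHom = (RingHom.ker (algebraMap Λ K')).map (algebraMap Λ B) := by
  obtain ⟨α, hα⟩ := Field.exists_primitive_element K' K
  have hint : IsIntegral K' α := Algebra.IsIntegral.isIntegral α
  obtain ⟨g, hg, hdeg, hmon⟩ := lifts_and_natDegree_eq_and_monic
    (f := algebraMap Λ K') (p := minpoly K' α)
    ((mem_lifts _).2 (map_surjective _ hs _)) (minpoly.monic hint)
  have haev : ∀ p : Λ[X], aeval α p = aeval α (p.map (algebraMap Λ K')) := fun p =>
    (aeval_map_algebraMap K' α p).symm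
  let φ : AdjoinRoot g →ₐ[Λ] K := AdjoinRoot.liftAlgHom g (Algebra.ofId Λ K) α (by
    show g.eval₂ (algebraMap Λ K) α = 0
    rw [← aeval_def, haev, hg, minpoly.aeval])
  have hφ : ∀ p : Λ[X], φ (AdjoinRoot.mk g p) = aeval α p := fun p => by
    simp only [φ]
    rw [AdjoinRoot.liftAlgHom_mk, aeval_def]
    rfl
  refine ⟨AdjoinRoot g, inferInstance, inferInstance, hmon.free_adjoinRoot, φ, fun y => ?_, ?_⟩
  · have hy : y ∈ Algebra.adjoin K' {α} := by
      rw [← IntermediateField.adjoin_simple_toSubalgebra_of_isAlgebraic hint.isAlgebraic, hα]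
      trivial
    rw [Algebra.adjoin_singleton_eq_range_aeval] at hy
    obtain ⟨q, rfl⟩ := hy
    obtain ⟨p, rfl⟩ := map_surjective (algebraMap Λ K') hs q
    exact ⟨AdjoinRoot.mk g p, (hφ p).trans (haev p)⟩
  · refine le_antisymm (fun b hb => ?_) ?_
    · obtain ⟨p, rfl⟩ := AdjoinRoot.mk_surjective b
      have hb : φ (AdjoinRoot.mk g p) = 0 := hb
      have hp : AdjoinRoot.mk g (p %ₘ g) = AdjoinRoot.mk g p := by
        conv_rhs => rw [← modByMonic_add_div p g]
        simp
      rw [← hp] at hb ⊢
      rw [hφ, haev, Polynomial.map_modByMonic _ hmon, hg] at hb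
      have h0 : p.map (algebraMap Λ K') %ₘ minpoly K' α = 0 := by
        by_contra hne
        refine absurd (minpoly.degree_le_of_ne_zero K' α hne hb) (not_le.2 ?_)
        exact degree_modByMonic_lt _ (minpoly.monic hint)
      have hcoef : p %ₘ g ∈ (RingHom.ker (algebraMap Λ K')).map (C : Λ →+* Λ[X]) := by
        rw [Ideal.mem_map_C_iff]
        intro n
        rw [RingHom.mem_ker, ← coeff_map, Polynomial.map_modByMonic _ hmon, hg, h0, coeff_zero]
      have := Ideal.mem_map_of_mem (AdjoinRoot.mk g) hcoef
      rwa [Ideal.map_map] at this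
    · rw [Ideal.map_le_iff_le_comap]
      intro a ha
      show φ (algebraMap Λ _ a) = 0
      rw [φ.commutes, IsScalarTower.algebraMap_apply Λ K' K, RingHom.mem_ker.1 ha, map_zero]

theorem injective_liftBaseChange (hs : Function.Surjective (algebraMap Λ K')) :
    Function.Injective ((Algebra.H1Cotangent.map Λ Λ K' K).liftBaseChange K) := by
  obtain ⟨B, _, _, _, φ, hφ, hker⟩ := exists_lift (K := K) hs
  let P : Extension.{u} Λ K' := Extension.ofSurjective (Algebra.ofId Λ K') hs
  let Q : Extension.{u} Λ K := Extension.ofSurjective φ hφ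
  let f : P.Hom Q :=
    { toRingHom := algebraMap Λ B
      toRingHom_algebraMap := fun x => rfl
      algebraMap_toRingHom := fun x => by
        show φ (algebraMap Λ B x) = algebraMap K' K (algebraMap Λ K' x)
        rw [φ.commutes, ← IsScalarTower.algebraMap_apply] }
  letI alg : Algebra P.Ring Q.Ring := ‹Algebra Λ B›
  have halg : algebraMap P.Ring Q.Ring = f.toRingHom := rfl
  haveI : Module.Flat P.Ring Q.Ring := (inferInstance : Module.Flat Λ B)
  have H : Function.Bijective ((f.mapKer halg).liftBaseChange Q.Ring) := by
    constructor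
    · have e : ((Submodule.subtype Q.ker).restrictScalars Q.Ring) ∘ₗ
          (f.mapKer halg).liftBaseChange Q.Ring =
          (TensorProduct.AlgebraTensorModule.rid P.Ring Q.Ring Q.Ring).toLinearMap ∘ₗ
            (Submodule.subtype P.ker).baseChange Q.Ring := by
        ext a
        simp [Extension.Hom.mapKer, ← halg, Algebra.smul_def]
      have hinj : Function.Injective ((TensorProduct.AlgebraTensorModule.rid P.Ring Q.Ring Q.Ring).toLinearMap ∘ₗ
            (Submodule.subtype P.ker).baseChange Q.Ring) :=
        (TensorProduct.AlgebraTensorModule.rid P.Ring Q.Ring Q.Ring).injective.comp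
          (Module.Flat.lTensor_preserves_injective_linearMap (M := Q.Ring)
            (Submodule.subtype P.ker) Subtype.val_injective)
      rw [← e, LinearMap.coe_comp] at hinj
      exact Function.Injective.of_comp hinj
    · rintro ⟨b, hb⟩
      have hb' : b ∈ (RingHom.ker (algebraMap Λ K')).map (algebraMap Λ B) := hker ▸ hb
      have : ∀ c ∈ (RingHom.ker (algebraMap Λ K')).map (algebraMap Λ B),
          ∃ z, (((f.mapKer halg).liftBaseChange Q.Ring z : Q.ker) : Q.Ring) = c := by
        intro c hc
        induction hc using Submodule.span_induction with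
        | mem c hc =>
          obtain ⟨a, ha, rfl⟩ := hc
          exact ⟨(1 : Q.Ring) ⊗ₜ (⟨a, ha⟩ : P.ker), by simp [Extension.Hom.mapKer]; rfl⟩
        | zero => exact ⟨0, by simp; rfl⟩
        | add c d _ _ hc hd =>
          obtain ⟨z, hz⟩ := hc
          obtain ⟨w, hw⟩ := hd
          exact ⟨z + w, by rw [map_add, Submodule.coe_add, hz, hw]; rfl⟩
        | smul r c _ hc =>
          obtain ⟨z, hz⟩ := hc
          exact ⟨(show Q.Ring from r) • z, by rw [map_smul, Submodule.coe_smul, hz]; rfl⟩
      obtain ⟨z, hz⟩ := this b hb'
      exact ⟨z, Subtype.ext hz⟩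
  haveI : FormallySmooth Λ P.Ring := inferInstanceAs (FormallySmooth Λ Λ)
  haveI := formallySmooth_self Λ K'
  let e := Extension.H1Cotangent.equivOfFormallySmooth (Generators.self Λ K').toExtension P
  let g₀ : (Generators.self Λ K').toExtension.Hom P := selfHom P
  let g₁ : (Generators.self Λ K).toExtension.Hom Q := selfHom Q
  let L : K ⊗[K'] Algebra.H1Cotangent Λ K' →ₗ[K] K ⊗[K'] P.Cotangent :=
    (Extension.h1Cotangentι ∘ₗ e.toLinearMap).baseChange K
  have hL : Function.Injective L :=
    Module.Flat.lTensor_preserves_injective_linearMap _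
      (Extension.h1Cotangentι_injective.comp e.injective)
  have hsq : (Extension.h1Cotangentι ∘ₗ Extension.H1Cotangent.map g₁) ∘ₗ
      (Algebra.H1Cotangent.map Λ Λ K' K).liftBaseChange K =
      (Extension.tensorCotangent f halg H).toLinearMap ∘ₗ L := by
    refine TensorProduct.AlgebraTensorModule.ext fun c x => ?_
    simp only [LinearMap.comp_apply, LinearMap.liftBaseChange_tmul, map_smul, L,
      LinearMap.baseChange_tmul, LinearEquiv.coe_coe]
    rw [show (Extension.tensorCotangent f halg H) (c ⊗ₜ Extension.h1Cotangentι (e x)) =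
      c • Extension.Cotangent.map f (Extension.h1Cotangentι (e x)) from
        LinearMap.liftBaseChange_tmul _ _ _ _,
      show e x = Extension.H1Cotangent.map g₀ x from
        Extension.H1Cotangent.equivOfFormallySmooth_apply g₀ x]
    congr 1
    have h1 := Extension.H1Cotangent.map_eq
      (g₁.comp (Generators.defaultHom (Generators.self Λ K') (Generators.self Λ K)).toExtensionHom)
      (f.comp g₀)
    rw [Extension.H1Cotangent.map_comp, Extension.H1Cotangent.map_comp] at h1
    exact congrArg (fun q => Extension.h1Cotangentι q) (LinearMap.congr_fun h1 x)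
  intro x y hxy
  apply hL
  apply (Extension.tensorCotangent f halg H).injective
  have := congrArg (fun z => (Extension.h1Cotangentι ∘ₗ Extension.H1Cotangent.map g₁) z) hxy
  exact (LinearMap.congr_fun hsq x).symm.trans (this.trans (LinearMap.congr_fun hsq y))

theorem bijective_liftBaseChange (hs : Function.Surjective (algebraMap Λ K')) :
    Function.Bijective ((Algebra.H1Cotangent.map Λ Λ K' K).liftBaseChange K) := by
  refine ⟨injective_liftBaseChange hs, fun x => ?_⟩
  haveI : Algebra.FormallyEtale K' K := Algebra.FormallyEtale.of_isSeparable K' K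
  haveI : Subsingleton (Algebra.H1Cotangent K' K) := inferInstance
  exact (Algebra.H1Cotangent.exact_liftBaseChange_map_of_flat Λ K' K x).1 (Subsingleton.elim _ _)

end

/-- Let Λ be a Noetherian ring with a finite ring map to a field k, let k' ⊂ k be the image of Λ and m_Λ
the kernel, so that m_Λ/m_Λ² = H₁(L_{k'/Λ}) (Λ → k' being surjective with kernel m_Λ). If k is
separable over k', the canonical map m_Λ/m_Λ² ⊗_{k'} k → H₁(L_{k/Λ}) is an isomorphism. Stated for
H₁(L_{k'/Λ}) in place of m_Λ/m_Λ²: the k-linear base change of the functoriality map H₁(L_{k'/Λ}) →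
H₁(L_{k/Λ}) is bijective. (The general construction of the map and the case k = k' are the other
assertions of the source; only the separable case is stated here.) -/
theorem result {Λ : Type u} {k : Type u} [CommRing Λ] [Field k] [Algebra Λ k]
    [IsNoetherianRing Λ] [Module.Finite Λ k]
    [Algebra.IsSeparable (↥(algebraMap Λ k).range) k] :
    letI : Algebra Λ (↥(algebraMap Λ k).range) := (algebraMap Λ k).rangeRestrict.toAlgebra
    letI : IsScalarTower Λ (↥(algebraMap Λ k).range) k := IsScalarTower.of_algebraMap_eq (fun _ ↦ rfl)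
    Function.Bijective ((Algebra.H1Cotangent.map Λ Λ (↥(algebraMap Λ k).range) k).liftBaseChange k) := by
  letI alg : Algebra Λ (↥(algebraMap Λ k).range) := (algebraMap Λ k).rangeRestrict.toAlgebra
  haveI tow : IsScalarTower Λ (↥(algebraMap Λ k).range) k :=
    IsScalarTower.of_algebraMap_eq (fun _ ↦ rfl)
  haveI : Module.Finite (↥(algebraMap Λ k).range) k := Module.Finite.of_restrictScalars_finite Λ _ k
  haveI : Algebra.IsIntegral (↥(algebraMap Λ k).range) k := Algebra.IsIntegral.of_finite _ _
  have hF : IsField ↥(algebraMap Λ k).range :=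
    isField_of_isIntegral_of_isField (S := k) Subtype.val_injective (Field.toIsField k)
  letI := hF.toField
  exact bijective_liftBaseChange (algebraMap Λ k).rangeRestrict_surjective

end Groth.Agent.S19907
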