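import Groth.Statements.S19909
import Groth.Agent.AlgStLib.SmoothSubstackBC

set_option autoImplicit false
set_option backward.isDefEq.respectTransparency false
set_option backward.isDefEq.respectTransparency.types false
universe u
open CategoryTheory AlgebraicGeometry
open AlgSt

namespace Groth.Agent.S19909

/-- Let f : 𝒳 → 𝒴 be a morphism of algebraic stacks and 𝒰 ⊂ 𝒳 the largest open substack on which f is
smooth. Formation of 𝒰 commutes with base change along y : 𝒴' → 𝒴 when y is flat and locally of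
finite presentation, or when y is flat and f is locally of finite presentation: the inverse image of
𝒰 in 𝒴' ×_𝒴 𝒳 is the largest open substack on which the projection to 𝒴' is smooth. Open substacks
are given by their object predicates, the inverse image by reading the predicate on the second
component, and flat, locally of finite presentation and smooth are read on one square of smooth
scheme charts. -/
theorem result
    (S : Scheme.{u}) (𝒳 : AlgSt.Cat S) (𝒴 : AlgSt.Cat S) (𝒴' : AlgSt.Cat S)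
    (h𝒳 : AlgSt.IsAlgStack Scheme.fppfPrecoverage 𝒳)
    (h𝒴 : AlgSt.IsAlgStack Scheme.fppfPrecoverage 𝒴)
    (h𝒴' : AlgSt.IsAlgStack Scheme.fppfPrecoverage 𝒴')
    (f : 𝒳 ⥤ᵇ 𝒴) (y : 𝒴' ⥤ᵇ 𝒴) (hy : AlgSt.LocQ (AlgSp.LocP @Flat) y)
    (hfp : AlgSt.LocQ (AlgSp.LocP @LocallyOfFinitePresentation) y ∨
      AlgSt.LocQ (AlgSp.LocP @LocallyOfFinitePresentation) f)
    (Q : 𝒳.obj → Prop) (hQ₁ : AlgSt.IsOpenSubstack 𝒳 Q Scheme.fppfPrecoverage)
    (hQ₂ : AlgSt.LocQ (AlgSp.LocP @Smooth) (BasedFunctor.comp (AlgSt.subIncl 𝒳 Q) f))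
    (hQ₃ : ∀ Q' : 𝒳.obj → Prop, AlgSt.IsOpenSubstack 𝒳 Q' Scheme.fppfPrecoverage →
      AlgSt.LocQ (AlgSp.LocP @Smooth) (BasedFunctor.comp (AlgSt.subIncl 𝒳 Q') f) → ∀ a, Q' a → Q a) :
    AlgSt.IsOpenSubstack (FibCat.fp y f) (fun b ↦ Q b.obj.snd) Scheme.fppfPrecoverage ∧
      AlgSt.LocQ (AlgSp.LocP @Smooth)
        (BasedFunctor.comp (AlgSt.subIncl (FibCat.fp y f) fun b ↦ Q b.obj.snd) (FibCat.fpFst y f)) ∧
      ∀ Q' : (FibCat.fp y f).obj → Prop, AlgSt.IsOpenSubstack (FibCat.fp y f) Q' Scheme.fppfPrecoverage →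
        AlgSt.LocQ (AlgSp.LocP @Smooth) (BasedFunctor.comp (AlgSt.subIncl (FibCat.fp y f) Q') (FibCat.fpFst y f)) →
        ∀ b, Q' b → Q b.obj.snd := by
  have hQ := AlgStLib.eq_ptsIn_range h𝒳 hQ₁
  have hT := (AlgStLib.bijOn_openSubstack h𝒳).1.mapsTo hQ₁
  have hP := AlgStLib.isAlgStack_fp h𝒴' h𝒳 h𝒴.isStack h𝒴.diag y f
  have hQg : (fun b : (FibCat.fp y f).obj => Q b.obj.snd) = AlgStLib.PtsIn
      (AlgSt.Points.map (FibCat.fpSnd y f) ⁻¹' Set.range (AlgSt.Points.map (AlgSt.subIncl 𝒳 Q))) :=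
    funext fun a => propext ((iff_of_eq (congrFun hQ a.obj.snd)).trans
      (AlgStLib.ptsIn_comap_iff hP.isStack.1 h𝒳.isStack.1 (FibCat.fpSnd y f) _ a))
  have hmaxT : AlgStLib.smoothPts f ⊆ Set.range (AlgSt.Points.map (AlgSt.subIncl 𝒳 Q)) := by
    have hle := hQ₃ _ (AlgStLib.isOpenSubstack_ptsIn h𝒳 (AlgStLib.isOpen_smoothPts h𝒳 f))
      (AlgStLib.locQ_smooth_smoothPts h𝒳 h𝒴 f)
    have := ((AlgStLib.bijOn_openSubstack h𝒳).2 _ _
      (AlgStLib.isOpenSubstack_ptsIn h𝒳 (AlgStLib.isOpen_smoothPts h𝒳 f)) hQ₁).1 hle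
    rwa [AlgStLib.range_subIncl_ptsIn] at this
  obtain ⟨ho, hsm, hmax⟩ := AlgStLib.largest_smooth_fp h𝒳 h𝒴 h𝒴' hy hfp hT (hQ ▸ hQ₂)
  refine ⟨hQg ▸ AlgStLib.isOpenSubstack_ptsIn hP ho, hQg ▸ hsm, fun Q' hQ' hs b hb => ?_⟩
  have hQ'eq := AlgStLib.eq_ptsIn_range hP hQ'
  have hsub := hmax _ ((AlgStLib.bijOn_openSubstack hP).1.mapsTo hQ') (hQ'eq ▸ hs)
  exact (iff_of_eq (congrFun hQg b)).2 (AlgStLib.ptsIn_mono (hsub.trans (Set.preimage_mono hmaxT))
    ((iff_of_eq (congrFun hQ'eq b)).1 hb))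

end Groth.Agent.S19909
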