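import Groth.Statements.S1991
import Groth.Agent.H1Ram.TameComp
import Groth.Agent.S1989

set_option autoImplicit false
universe u
open EtAlg

namespace Groth.Agent.S1991

section helpers

variable {K : Type u} [Field K] {P : ∀ (F : Type u) [Field F] [Algebra K F], Prop}

theorem range_mem
    (down : ∀ (F G : Type u) [Field F] [Field G] [Algebra K F] [Algebra K G] [FiniteDimensional K G]
      [Algebra.IsSeparable K G], (F →ₐ[K] G) → P G → P F)
    (L : Type u) [Field L] [Algebra K L] [FiniteDimensional K L] [Algebra.IsSeparable K L]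
    (f : L →ₐ[K] AlgebraicClosure K) (h : P L) :
    FiniteDimensional K f.fieldRange ∧ Algebra.IsSeparable K f.fieldRange ∧ P f.fieldRange := by
  let e : L ≃ₐ[K] f.fieldRange := AlgEquiv.ofInjectiveField f
  haveI : FiniteDimensional K f.fieldRange := e.toLinearEquiv.finiteDimensional
  haveI : Algebra.IsSeparable K f.fieldRange := AlgEquiv.Algebra.isSeparable e
  exact ⟨inferInstance, inferInstance, down f.fieldRange L e.symm.toAlgHom h⟩

theorem compositum
    (hsup : ∀ (E₁ E₂ : IntermediateField K (AlgebraicClosure K)) [FiniteDimensional K E₁] [FiniteDimensional K E₂]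
      [Algebra.IsSeparable K E₁] [Algebra.IsSeparable K E₂], P E₁ → P E₂ →
      ∃ E : IntermediateField K (AlgebraicClosure K), FiniteDimensional K E ∧ Algebra.IsSeparable K E ∧
        E₁ ⊔ E₂ ≤ E ∧ P E)
    (down : ∀ (F G : Type u) [Field F] [Field G] [Algebra K F] [Algebra K G] [FiniteDimensional K G]
      [Algebra.IsSeparable K G], (F →ₐ[K] G) → P G → P F)
    (L₁ L₂ : Type u) [Field L₁] [Field L₂] [Algebra K L₁] [Algebra K L₂] [FiniteDimensional K L₁]
    [FiniteDimensional K L₂] [Algebra.IsSeparable K L₁] [Algebra.IsSeparable K L₂] (h₁ : P L₁) (h₂ : P L₂) :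
    ∃ (M : Type u) (_ : Field M) (_ : Algebra K M) (_ : FiniteDimensional K M) (_ : Algebra.IsSeparable K M)
      (_ : L₁ →ₐ[K] M) (_ : L₂ →ₐ[K] M), P M := by
  let f₁ : L₁ →ₐ[K] AlgebraicClosure K := IsAlgClosed.lift
  let f₂ : L₂ →ₐ[K] AlgebraicClosure K := IsAlgClosed.lift
  obtain ⟨_, _, p₁⟩ := range_mem down L₁ f₁ h₁
  obtain ⟨_, _, p₂⟩ := range_mem down L₂ f₂ h₂
  obtain ⟨E, _, _, hle, hP⟩ := hsup _ _ p₁ p₂
  exact ⟨E, inferInstance, inferInstance, inferInstance, inferInstance,
    (IntermediateField.inclusion (le_sup_left.trans hle)).comp (AlgEquiv.ofInjectiveField f₁).toAlgHom,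
    (IntermediateField.inclusion (le_sup_right.trans hle)).comp (AlgEquiv.ofInjectiveField f₂).toAlgHom, hP⟩

theorem galoisClosure
    (hsup : ∀ (E₁ E₂ : IntermediateField K (AlgebraicClosure K)) [FiniteDimensional K E₁] [FiniteDimensional K E₂]
      [Algebra.IsSeparable K E₁] [Algebra.IsSeparable K E₂], P E₁ → P E₂ →
      ∃ E : IntermediateField K (AlgebraicClosure K), FiniteDimensional K E ∧ Algebra.IsSeparable K E ∧
        E₁ ⊔ E₂ ≤ E ∧ P E)
    (down : ∀ (F G : Type u) [Field F] [Field G] [Algebra K F] [Algebra K G] [FiniteDimensional K G]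
      [Algebra.IsSeparable K G], (F →ₐ[K] G) → P G → P F)
    (L : Type u) [Field L] [Algebra K L] [FiniteDimensional K L] [Algebra.IsSeparable K L] (h : P L) :
    ∃ (M : Type u) (_ : Field M) (_ : Algebra K M) (_ : FiniteDimensional K M) (_ : IsGalois K M) (_ : L →ₐ[K] M),
      P M := by
  classical
  let f₀ : L →ₐ[K] AlgebraicClosure K := IsAlgClosed.lift
  have hall : ∀ s : Finset (L →ₐ[K] AlgebraicClosure K),
      ∃ E : IntermediateField K (AlgebraicClosure K), FiniteDimensional K E ∧ Algebra.IsSeparable K E ∧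
        f₀.fieldRange ≤ E ∧ (∀ f ∈ s, f.fieldRange ≤ E) ∧ P E := by
    intro s
    induction s using Finset.induction with
    | empty =>
      obtain ⟨i₁, i₂, hp⟩ := range_mem down L f₀ h
      exact ⟨_, i₁, i₂, le_rfl, by simp, hp⟩
    | insert f s _ ih =>
      obtain ⟨E, _, _, h0, hs, hP⟩ := ih
      obtain ⟨_, _, hp⟩ := range_mem down L f h
      obtain ⟨E', i₁, i₂, hle, hP'⟩ := hsup _ _ hP hp
      refine ⟨E', i₁, i₂, (h0.trans le_sup_left).trans hle, fun g hg => ?_, hP'⟩
      rcases Finset.mem_insert.1 hg with rfl | hg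
      · exact le_sup_right.trans hle
      · exact ((hs g hg).trans le_sup_left).trans hle
  obtain ⟨E, _, _, h0, hs, hP⟩ := hall Finset.univ
  let N : IntermediateField K (AlgebraicClosure K) := IntermediateField.normalClosure K L (AlgebraicClosure K)
  have hNE : N ≤ E := iSup_le fun f => hs f (Finset.mem_univ f)
  haveI : Algebra.IsSeparable K N := Algebra.IsSeparable.of_algHom K E (IntermediateField.inclusion hNE)
  haveI : FiniteDimensional K N :=
    FiniteDimensional.of_injective (IntermediateField.inclusion hNE).toLinearMap (IntermediateField.inclusion hNE).injective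
  haveI : IsGalois K N := ⟨⟩
  exact ⟨N, inferInstance, inferInstance, inferInstance, inferInstance,
    (IntermediateField.inclusion (le_iSup (fun f : L →ₐ[K] AlgebraicClosure K => f.fieldRange) f₀)).comp
      (AlgEquiv.ofInjectiveField f₀).toAlgHom, down N E (IntermediateField.inclusion hNE) hP⟩

end helpers

/-- Let A be a discrete valuation ring with fraction field K. A finite separable extension L/K that is
unramified (resp. tamely ramified) with respect to A embeds over K into a finite Galois extension of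
K that is unramified (resp. tamely ramified) with respect to A; and two finite separable extensions
of K that are unramified (resp. tamely ramified) with respect to A embed over K into a common finite
separable extension with the same property. -/
theorem result (A K : Type u) [CommRing A] [IsDomain A] [IsDiscreteValuationRing A] [Field K] [Algebra A K] [IsFractionRing A K] :
    (∀ (L : Type u) [Field L] [Algebra K L] [FiniteDimensional K L] [Algebra.IsSeparable K L],
      (EtRam.IsUnramifiedExt A ((algebraMap K L).comp (algebraMap A K)) →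
        ∃ (M : Type u) (_ : Field M) (_ : Algebra K M) (_ : FiniteDimensional K M) (_ : IsGalois K M) (_ : L →ₐ[K] M),
          EtRam.IsUnramifiedExt A ((algebraMap K M).comp (algebraMap A K))) ∧
      (EtRam.IsTamelyRamified A ((algebraMap K L).comp (algebraMap A K)) →
        ∃ (M : Type u) (_ : Field M) (_ : Algebra K M) (_ : FiniteDimensional K M) (_ : IsGalois K M) (_ : L →ₐ[K] M),
          EtRam.IsTamelyRamified A ((algebraMap K M).comp (algebraMap A K)))) ∧
    (∀ (L₁ L₂ : Type u) [Field L₁] [Field L₂] [Algebra K L₁] [Algebra K L₂] [FiniteDimensional K L₁] [FiniteDimensional K L₂]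
      [Algebra.IsSeparable K L₁] [Algebra.IsSeparable K L₂],
      (EtRam.IsUnramifiedExt A ((algebraMap K L₁).comp (algebraMap A K)) →
        EtRam.IsUnramifiedExt A ((algebraMap K L₂).comp (algebraMap A K)) →
        ∃ (M : Type u) (_ : Field M) (_ : Algebra K M) (_ : FiniteDimensional K M) (_ : Algebra.IsSeparable K M)
          (_ : L₁ →ₐ[K] M) (_ : L₂ →ₐ[K] M), EtRam.IsUnramifiedExt A ((algebraMap K M).comp (algebraMap A K))) ∧
      (EtRam.IsTamelyRamified A ((algebraMap K L₁).comp (algebraMap A K)) →
        EtRam.IsTamelyRamified A ((algebraMap K L₂).comp (algebraMap A K)) →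
        ∃ (M : Type u) (_ : Field M) (_ : Algebra K M) (_ : FiniteDimensional K M) (_ : Algebra.IsSeparable K M)
          (_ : L₁ →ₐ[K] M) (_ : L₂ →ₐ[K] M), EtRam.IsTamelyRamified A ((algebraMap K M).comp (algebraMap A K)))) := by
  have hU : ∀ (E₁ E₂ : IntermediateField K (AlgebraicClosure K)) [FiniteDimensional K E₁] [FiniteDimensional K E₂]
      [Algebra.IsSeparable K E₁] [Algebra.IsSeparable K E₂],
      EtRam.IsUnramifiedExt A ((algebraMap K E₁).comp (algebraMap A K)) →
      EtRam.IsUnramifiedExt A ((algebraMap K E₂).comp (algebraMap A K)) →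
      ∃ E : IntermediateField K (AlgebraicClosure K), FiniteDimensional K E ∧ Algebra.IsSeparable K E ∧
        E₁ ⊔ E₂ ≤ E ∧ EtRam.IsUnramifiedExt A ((algebraMap K E).comp (algebraMap A K)) :=
    fun E₁ E₂ _ _ _ _ h₁ h₂ => ⟨E₁ ⊔ E₂, inferInstance, inferInstance, le_rfl, H1Ram.unramified_sup h₁ h₂⟩
  have downT : ∀ (F G : Type u) [Field F] [Field G] [Algebra K F] [Algebra K G] [FiniteDimensional K G]
      [Algebra.IsSeparable K G], (F →ₐ[K] G) →
      EtRam.IsTamelyRamified A ((algebraMap K G).comp (algebraMap A K)) →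
      EtRam.IsTamelyRamified A ((algebraMap K F).comp (algebraMap A K)) := by
    intro F G _ _ _ _ _ _ f
    letI : Algebra F G := f.toRingHom.toAlgebra
    haveI : IsScalarTower K F G := IsScalarTower.of_algebraMap_eq fun k => (f.commutes k).symm
    exact (S1989.result A K F G).1
  have downU : ∀ (F G : Type u) [Field F] [Field G] [Algebra K F] [Algebra K G] [FiniteDimensional K G]
      [Algebra.IsSeparable K G], (F →ₐ[K] G) →
      EtRam.IsUnramifiedExt A ((algebraMap K G).comp (algebraMap A K)) →
      EtRam.IsUnramifiedExt A ((algebraMap K F).comp (algebraMap A K)) := by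
    intro F G _ _ _ _ _ _ f
    letI : Algebra F G := f.toRingHom.toAlgebra
    haveI : IsScalarTower K F G := IsScalarTower.of_algebraMap_eq fun k => (f.commutes k).symm
    exact (S1989.result A K F G).2
  refine ⟨fun L _ _ _ _ => ⟨fun h => ?_, fun h => ?_⟩,
    fun L₁ L₂ _ _ _ _ _ _ _ _ => ⟨fun h₁ h₂ => ?_, fun h₁ h₂ => ?_⟩⟩
  · exact galoisClosure (P := fun F _ _ => EtRam.IsUnramifiedExt A ((algebraMap K F).comp (algebraMap A K))) hU downU L h
  · exact galoisClosure (P := fun F _ _ => EtRam.IsTamelyRamified A ((algebraMap K F).comp (algebraMap A K)))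
      (fun E₁ E₂ _ _ _ _ h₁ h₂ => H1Ram.tame_sup h₁ h₂) downT L h
  · exact compositum (P := fun F _ _ => EtRam.IsUnramifiedExt A ((algebraMap K F).comp (algebraMap A K))) hU downU L₁ L₂ h₁ h₂
  · exact compositum (P := fun F _ _ => EtRam.IsTamelyRamified A ((algebraMap K F).comp (algebraMap A K)))
      (fun E₁ E₂ _ _ _ _ h₁ h₂ => H1Ram.tame_sup h₁ h₂) downT L₁ L₂ h₁ h₂

end Groth.Agent.S1991
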