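import Groth.Statements.S19910
import Groth.Agent.BranchCount.StalkInj

set_option autoImplicit false
set_option backward.isDefEq.respectTransparency false
set_option backward.isDefEq.respectTransparency false
set_option backward.isDefEq.respectTransparency.types false
set_option maxHeartbeats 1000000
set_option linter.style.haveILetI false
universe u
open CategoryTheory CategoryTheory.Limits AlgebraicGeometry
open Models

namespace Groth.Agent.S19910
open Groth.Agent

/-- Let R be a complete discrete valuation ring with algebraically closed residue field, W and Z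
integral normal schemes which are flat, of finite type and of dimension 2 over Spec R, and ψ : W ->
Z a finite surjective R-morphism. Let z be a closed point of Z in the special fibre, w a point of W
with ψ(w) = z, Δ an irreducible component of the special fibre of Z containing z, and E the union of
the irreducible components of the special fibre of W which contain w and whose image under ψ is Δ.
For a curve C over the residue field and a closed point c, write m(C, c) for the number of points
over c in the normalization of the reduction of C, that is, the number of branches of C at c. Then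
m(E, w) ≥ m(Δ, z). Here Δ and E are given arbitrary closed-subscheme structures D and E' (the
numbers of branches depend only on the underlying reduced schemes). (The published statement asks W
and Z only to be normal; they are taken integral as well here.) -/
theorem result
    (R : Type u) [CommRing R] [IsDomain R] [IsDiscreteValuationRing R]
    [IsAdicComplete (IsLocalRing.maximalIdeal R) R] (hk : IsAlgClosed (IsLocalRing.ResidueField R))
    (W Z : Over (Spec (CommRingCat.of R))) [IsIntegral W.left] [IsIntegral Z.left]
    (hWn : Pi1.IsNormalScheme W.left) (hZn : Pi1.IsNormalScheme Z.left)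
    [Flat W.hom] [LocallyOfFiniteType W.hom] [QuasiCompact W.hom]
    [Flat Z.hom] [LocallyOfFiniteType Z.hom] [QuasiCompact Z.hom]
    (hdW : topologicalKrullDim W.left = 2) (hdZ : topologicalKrullDim Z.left = 2)
    (ψ : W ⟶ Z) [IsFinite ψ.left] [Surjective ψ.left]
    (z : Z.left) (hzc : IsClosed ({z} : Set Z.left)) (hz : z ∈ Models.specialFibreSet R Z)
    (w : W.left) (hw : ψ.left.base w = z)
    (Δ : Set Z.left) (hΔ : Δ ∈ Models.fibreComponents R Z) (hzΔ : z ∈ Δ)
    (D : Scheme.{u}) (ιD : D ⟶ Z.left) [IsClosedImmersion ιD] (hD : Set.range ιD.base = Δ)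
    (d : D) (hd : ιD.base d = z)
    (E' : Scheme.{u}) (ιE : E' ⟶ W.left) [IsClosedImmersion ιE]
    (hE : Set.range ιE.base = ⋃₀ {Γ | Γ ∈ Models.fibreComponents R W ∧ w ∈ Γ ∧ ψ.left.base '' Γ = Δ})
    (e : E') (he : ιE.base e = w) :
    Brnch.numBranchesAt D d ≤ Brnch.numBranchesAt E' e := by
  obtain ⟨⟨hΔi, hΔs⟩, hΔmax⟩ := hΔ
  have hΔc : IsClosed Δ := by
    rw [← hD]; exact ιD.isClosedEmbedding.isClosed_range
  obtain ⟨η, hη⟩ := QuasiSober.sober hΔi hΔc
  have hsf : ∀ v : W.left, v ∈ Models.specialFibreSet R W ↔ ψ.left v ∈ Models.specialFibreSet R Z := by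
    intro v
    simp only [Models.specialFibreSet, Set.mem_preimage, Set.mem_singleton_iff]
    rw [← Scheme.Hom.comp_apply, Over.w ψ]
  have comp : ∀ γ : W.left, ψ.left γ = η → closure {γ} ∈ Models.fibreComponents R W ∧ ψ.left.base '' closure {γ} = Δ := by
    intro γ hγ
    have hγs : γ ∈ Models.specialFibreSet R W := by
      rw [hsf, hγ]; exact hΔs hη.mem
    refine ⟨⟨⟨isIrreducible_singleton.closure,
      closure_minimal (Set.singleton_subset_iff.mpr hγs) (Models.isClosed_specialFibreSet R W)⟩, ?_⟩, ?_⟩
    · rintro S ⟨hSi, hSs⟩ hle
      obtain ⟨γ', hγ'⟩ := QuasiSober.sober hSi.closure isClosed_closure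
      have hs : γ' ⤳ γ := hγ'.specializes (subset_closure (hle (subset_closure rfl)))
      have hγ's : γ' ∈ Models.specialFibreSet R W :=
        closure_minimal hSs (Models.isClosed_specialFibreSet R W) hγ'.mem
      have h1 : ψ.left γ' = η := by
        have h2 : ψ.left γ' ⤳ η := hγ ▸ hs.map ψ.left.continuous
        have h3 : closure {ψ.left γ'} ⊆ Δ := hΔmax
          ⟨isIrreducible_singleton.closure, closure_minimal (Set.singleton_subset_iff.mpr ((hsf γ').mp hγ's))
            (Models.isClosed_specialFibreSet R Z)⟩
          (by rw [← hη.def]; exact h2.closure_subset)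
        have h4 : η ⤳ ψ.left γ' := hη.specializes (h3 (subset_closure rfl))
        exact h2.antisymm h4 |>.eq
      have h5 : γ' = γ := by
        by_contra hne
        have := (ψ.left.isDiscrete_preimage_singleton η).eq_of_specializes hs (by exact h1) (by exact hγ)
        exact hne this
      subst h5
      exact subset_closure.trans hγ'.def.ge
    · rw [← ψ.left.isClosedMap.closure_image_eq_of_continuous ψ.left.continuous, Set.image_singleton, hγ]
      exact hη
  subst hw
  haveI : IsNoetherianRing (CommRingCat.of R) := inferInstanceAs (IsNoetherianRing R)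
  haveI : IsLocallyNoetherian Z.left := LocallyOfFiniteType.isLocallyNoetherian Z.hom
  obtain ⟨hdom, hnorm⟩ := hZn (ψ.left w)
  refine BranchCount.numBranchesAt_closedSub_le ψ.left w (ψ.left.quasiFiniteAt w) hdom hnorm
    (BranchCount.stalkMap_injective_of_surjective ψ.left w) ιD ιE d hd e he ?_ ?_
  · rintro γ hγ
    rw [hE] at hγ
    obtain ⟨Γ, ⟨-, -, hΓΔ⟩, hγΓ⟩ := hγ
    rw [hD, ← hΓΔ]
    exact ⟨γ, hγΓ, rfl⟩
  · intro γ hγw hγD hmin
    rw [hE]
    rw [hD] at hγD hmin
    have hγη : ψ.left γ = η := (hmin η hη.mem (hη.specializes hγD)).symm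
    exact ⟨closure {γ}, ⟨(comp γ hγη).1, hγw.mem_closure, (comp γ hγη).2⟩, subset_closure rfl⟩

end Groth.Agent.S19910
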