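import Groth.Statements.S19911
import Groth.Agent.BranchCount.Nodal

set_option autoImplicit false
set_option backward.isDefEq.respectTransparency false
set_option backward.isDefEq.respectTransparency.types false
set_option maxHeartbeats 1000000
set_option linter.style.haveILetI false
universe u
open CategoryTheory CategoryTheory.Limits AlgebraicGeometry
open Models

namespace Groth.Agent.S19911
open Groth.Agent

/-- Let R be a discrete valuation ring with fraction field K, X and Y smooth proper curves over K with
H^0(X, O_X) = K = H^0(Y, O_Y) and dim_K H^1(Y, O_Y) ≥ 2, and f : X -> Y a finite K-morphism. Let XR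
and YR be stable models of X and Y over R: proper over Spec R with structure morphisms that are
at-worst-nodal families of curves, such that no geometric fibre has an irreducible component which
is (the image of a closed immersion of) a projective line carrying at most two non-smooth points of
the fibre, and with generic fibres identified with X and Y through iX and iY. Let φ : XR -> YR be an
R-morphism extending f. If y is a point of the special fibre of YR which is a singular point of that
fibre (the structure morphism of YR is not smooth at y) and the set φ⁻¹(y) is finite, then φ⁻¹(y) is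
contained in the singular locus of the special fibre of XR (the structure morphism of XR is smooth
at no point of φ⁻¹(y)). -/
theorem result
    (R : Type u) [CommRing R] [IsDomain R] [IsDiscreteValuationRing R]
    (X Y : Scheme.{u}) (fX : X ⟶ Spec (CommRingCat.of (FractionRing R))) (fY : Y ⟶ Spec (CommRingCat.of (FractionRing R)))
    (hX : Curve.IsSmoothProperCurve (FractionRing R) X fX) (hX0 : IsIso fX.appTop)
    (hY : Curve.IsSmoothProperCurve (FractionRing R) Y fY) (hY0 : IsIso fY.appTop)
    (hg : 2 ≤ Models.curveGenus (FractionRing R) Y fY)
    (f : X ⟶ Y) [IsFinite f] (hf : f ≫ fY = fX)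
    (XR : Scheme.{u}) (p : XR ⟶ Spec (CommRingCat.of R)) [IsProper p] (hp : Curv2.IsNodalFamily p)
    (hps : SSMod.NoExcComp (𝟙 (Spec (CommRingCat.of R))) (Scheme.emptyTo XR) p)
    (iX : X ⟶ XR) (hiX : IsPullback iX fX p (Spec.map (CommRingCat.ofHom (algebraMap R (FractionRing R)))))
    (YR : Scheme.{u}) (q : YR ⟶ Spec (CommRingCat.of R)) [IsProper q] (hq : Curv2.IsNodalFamily q)
    (hqs : SSMod.NoExcComp (𝟙 (Spec (CommRingCat.of R))) (Scheme.emptyTo YR) q)
    (iY : Y ⟶ YR) (hiY : IsPullback iY fY q (Spec.map (CommRingCat.ofHom (algebraMap R (FractionRing R)))))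
    (φ : XR ⟶ YR) (hφ : φ ≫ q = p) (hφf : iX ≫ φ = f ≫ iY)
    (y : YR) (hys : q.base y = IsLocalRing.closedPoint R) (hy : y ∈ DualGr.nonsmoothPts q)
    (hfin : (φ.base ⁻¹' ({y} : Set YR)).Finite) :
    φ.base ⁻¹' ({y} : Set YR) ⊆ DualGr.nonsmoothPts p := by
  subst hφ
  intro x hx
  have hxy : φ x = y := hx
  subst hxy
  exact BranchCount.preimage_subset_nonsmoothPts hX hY f φ q hp hq hiX hiY hφf x hy hfin

end Groth.Agent.S19911
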