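import Groth.Statements.S19918
import Groth.Agent.MdlInter.Combo

set_option autoImplicit false
set_option backward.isDefEq.respectTransparency false
set_option backward.isDefEq.respectTransparency.types false
set_option maxHeartbeats 1000000
set_option linter.style.haveILetI false
universe u
open CategoryTheory CategoryTheory.Limits AlgebraicGeometry
open Models

namespace Groth.Agent.S19918
open scoped Groth.Agent.H23.PicMul

/-- Kernel of Pic(X)[n] → Pic(C)[n]: let R be a discrete valuation ring with fraction field K, C a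
smooth proper curve over K with H^0(C, O_C) = K, X a regular proper model of C with generic-fibre
inclusion g : C → X, Γ_1, …, Γ_n the irreducible components of the closed fibre with multiplicities
m_1, …, m_n, d = gcd(m_1, …, m_n), and L_i invertible O_X-modules with L_i ⊗ I(Γ_i) ≅ O_X (that is,
L_i = O_X(Γ_i)). Let h ≥ 1 and put e = gcd(h, d). If M is an invertible O_X-module with M^{⊗h} ≅ O_X
whose pullback to C is trivial, then there is exactly one natural number k < e with M ≅ L_1^{k
m_1/e} ⊗ ⋯ ⊗ L_n^{k m_n/e} = O_X(k·(1/e)·X_s). In other words the kernel of Pic(X)[h] → Pic(C)[h] is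
cyclic of order gcd(h, d), generated by the class of O_X((1/e)·X_s). -/
theorem result (R : Type u) [CommRing R] [IsDomain R] [IsDiscreteValuationRing R]
    (C X : Scheme.{u}) (f : C ⟶ Spec (CommRingCat.of (FractionRing R))) (p : X ⟶ Spec (CommRingCat.of R))
    (hC : Curve.IsSmoothProperCurve (FractionRing R) C f) (hH0 : IsIso f.appTop)
    (hX : Models.IsRegularProperModel R X p C f)
    {n : ℕ} (Γ : Fin n → ArSurf.VertComp R (Over.mk p)) (hΓ : Models.IsComponentList R (Over.mk p) Γ)
    (g : C ⟶ X) (hg : IsPullback g f p (Spec.map (CommRingCat.ofHom (algebraMap R (FractionRing R)))))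
    (L : Fin n → X.Modules) (hL : ∀ i, ClSub.IsInverseOf (L i) (ClSub.idealMod (Γ i).ι.ker))
    (h : ℕ) (hh : 0 < h)
    (M : X.Modules) (hM : PicF.IsInvertible M)
    (htors : Nonempty (CohB1.tensorPow M h ≅ Coh.structureModule X))
    (htriv : Nonempty ((Scheme.Modules.pullback g).obj M ≅ Coh.structureModule C)) :
    ∃! k : ℕ, k < Nat.gcd h (Models.multGcd R (Over.mk p) Γ) ∧
      Nonempty (M ≅ FGA.multiTwist L (fun i => k * (Models.mult R (Over.mk p) (Γ i) / Nat.gcd h (Models.multGcd R (Over.mk p) Γ)))) := by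
  classical
  haveI := hX.2.1
  have S := MdlInter.setting_of_model hX hΓ
  have hglob := MdlInter.bijective_toGlobal hH0 hX
  obtain ⟨v, hv⟩ := S.exists_comboCl L hL g hg hM htriv
  let d := Models.multGcd R (Over.mk p) Γ
  let G := Nat.gcd h d
  have hG : 0 < G := Nat.gcd_pos_of_pos_left _ hh
  let h' := h / G
  let d' := d / G
  have hh' : (h : ℤ) = (G : ℤ) * h' := by exact_mod_cast (Nat.mul_div_cancel' (Nat.gcd_dvd_left h d)).symm
  have hd' : (d : ℤ) = (G : ℤ) * d' := by exact_mod_cast (Nat.mul_div_cancel' (Nat.gcd_dvd_right h d)).symm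
  have hcop : Nat.Coprime h' d' := Nat.coprime_div_gcd_div_gcd hG
  have hv1 : S.comboCl L hL v ^ h = 1 := Units.ext (by
    rw [Units.val_pow_eq_pow_val, ← hv, ← H23.PicMul.cl_tensorPow, Units.val_one, H23.PicMul.one_def]
    exact H23.PicMul.cl_eq_iff.2 htors)
  obtain ⟨t, c, ht, htc⟩ := MdlInter.torsion_combo hC hH0 hX hΓ L hL v h hh hv1
  have htc' : (h' : ℤ) * t = c * d' := by
    rw [hh', hd'] at htc
    refine mul_left_cancel₀ (a := (G : ℤ)) (by exact_mod_cast hG.ne') ?_
    rw [← mul_assoc, htc]; ring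
  obtain ⟨s, hs⟩ : (d' : ℤ) ∣ t :=
    (Nat.isCoprime_iff_coprime.2 hcop.symm).dvd_of_dvd_mul_left ⟨c, by rw [htc', mul_comm]⟩
  have hmG : ∀ i, ((Models.mult R (Over.mk p) (Γ i) / G : ℕ) : ℤ) = (d' : ℤ) * MdlInter.Setting.redMult Γ i := by
    intro i
    have h1 : (G : ℤ) * ((Models.mult R (Over.mk p) (Γ i) / G : ℕ) : ℤ) = (Models.mult R (Over.mk p) (Γ i) : ℤ) := by
      exact_mod_cast Nat.mul_div_cancel' ((Nat.gcd_dvd_right h d).trans
        (Finset.gcd_dvd (f := fun i => Models.mult R (Over.mk p) (Γ i)) (Finset.mem_univ i)))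
    refine mul_left_cancel₀ (a := (G : ℤ)) (by exact_mod_cast hG.ne') ?_
    rw [h1, MdlInter.Setting.mult_eq, hd', mul_assoc]
  have key : ∀ k : ℕ, Nonempty (M ≅ FGA.multiTwist L (fun i => k * (Models.mult R (Over.mk p) (Γ i) / G))) ↔
      ∃ q : ℤ, s - k = q * G := by
    intro k
    rw [← H23.PicMul.cl_eq_iff, ← S.comboCl_natCast L hL, hv, Units.val_inj]
    constructor
    · intro h0
      have h1 : S.comboCl L hL (fun i => v i - ((k * (Models.mult R (Over.mk p) (Γ i) / G) : ℕ) : ℤ)) = 1 := by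
        refine mul_right_cancel (b := S.comboCl L hL fun i => ((k * (Models.mult R (Over.mk p) (Γ i) / G) : ℕ) : ℤ))
          (Eq.trans ?_ (one_mul _).symm)
        rw [← S.comboCl_add]
        refine Eq.trans (congrArg (S.comboCl L hL) (funext fun i => ?_)) h0
        simp
      obtain ⟨q, hq⟩ := (S.comboCl_eq_one_iff L hL hglob _).1 h1
      obtain ⟨i₀⟩ := MdlInter.exists_index hH0 hX hΓ
      refine ⟨q, ?_⟩
      have h2 := hq i₀
      rw [Nat.cast_mul, hmG, ht i₀, MdlInter.Setting.mult_eq, hs, hd'] at h2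
      refine mul_right_cancel₀ (b := (d' : ℤ) * MdlInter.Setting.redMult Γ i₀) ?_ (by linear_combination h2)
      intro h0
      have h3 := MdlInter.Setting.mult_eq (Γ := Γ) i₀
      rw [hd', mul_assoc, h0, mul_zero] at h3
      exact (S.mult_pos i₀).ne' (by exact_mod_cast h3)
    · rintro ⟨q, hq⟩
      rw [show v = (fun i => ((k * (Models.mult R (Over.mk p) (Γ i) / G) : ℕ) : ℤ)) +
          (fun i => q * (Models.mult R (Over.mk p) (Γ i) : ℤ)) from funext fun i => by
        rw [Pi.add_apply, Nat.cast_mul, hmG, ht i, MdlInter.Setting.mult_eq, hs, hd']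
        linear_combination (d' : ℤ) * MdlInter.Setting.redMult Γ i * hq,
        S.comboCl_add, (S.comboCl_eq_one_iff L hL hglob (fun i => q * (Models.mult R (Over.mk p) (Γ i) : ℤ))).2 ⟨q, fun i => rfl⟩, mul_one]
  have hk0 : ((s % (G : ℤ)).toNat : ℤ) = s % G := Int.toNat_of_nonneg (Int.emod_nonneg _ (by exact_mod_cast hG.ne'))
  refine ⟨(s % (G : ℤ)).toNat, ⟨?_, (key _).2 ⟨s / G, ?_⟩⟩, fun k ⟨hk, hk'⟩ => ?_⟩
  · have := Int.emod_lt_of_pos s (show (0 : ℤ) < G by exact_mod_cast hG)
    show (s % (G : ℤ)).toNat < G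
    omega
  · rw [hk0]
    linarith [Int.emod_add_mul_ediv s (G : ℤ)]
  · obtain ⟨q, hq⟩ := (key k).1 hk'
    have : (s % (G : ℤ)) = (k : ℤ) := by
      rw [show s = (k : ℤ) + q * G by linarith, Int.add_mul_emod_self_right]
      exact Int.emod_eq_of_lt (Int.natCast_nonneg k) (by exact_mod_cast hk)
    omega

end Groth.Agent.S19918
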