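import Groth.Statements.S19924
import Groth.Agent.MdlInter.Combo

set_option autoImplicit false
set_option backward.isDefEq.respectTransparency false
set_option backward.isDefEq.respectTransparency.types false
set_option maxHeartbeats 1000000
set_option linter.style.haveILetI false
universe u
open CategoryTheory CategoryTheory.Limits AlgebraicGeometry
open Models

namespace Groth.Agent.S19924
open scoped Groth.Agent.H23.PicMul

/-- Let R be a discrete valuation ring with fraction field K, C a smooth proper curve over K with H^0(C,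
O_C) = K, X a regular proper model of C with generic-fibre inclusion g : C → X, Γ_1, …, Γ_n the
irreducible components of the closed fibre with multiplicities m_1, …, m_n, and L_i invertible
O_X-modules with L_i ⊗ I(Γ_i) ≅ O_X. Let h ≥ 1, let N be an invertible O_C-module with N^{⊗h} ≅ O_C,
let M be an invertible O_X-module whose pullback to C is N, and let a, b be exponent vectors with
M^{⊗h} ⊗ L_1^{a_1} ⊗ ⋯ ⊗ L_n^{a_n} ≅ L_1^{b_1} ⊗ ⋯ ⊗ L_n^{b_n}, i.e. M^{⊗h} ≅ O_X(Σ (b_i − a_i)
Γ_i). Then N is the pullback of some invertible O_X-module M' with M'^{⊗h} ≅ O_X if and only if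
there are integers c_1, …, c_n and e with b_i − a_i = h c_i + e m_i for all i: the class of Σ (b_i −
a_i) Γ_i modulo h ℤ^n + ℤ·(m_1, …, m_n) is the obstruction to lifting the h-torsion class N to an
h-torsion class on X. -/
theorem result (R : Type u) [CommRing R] [IsDomain R] [IsDiscreteValuationRing R]
    (C X : Scheme.{u}) (f : C ⟶ Spec (CommRingCat.of (FractionRing R))) (p : X ⟶ Spec (CommRingCat.of R))
    (hC : Curve.IsSmoothProperCurve (FractionRing R) C f) (hH0 : IsIso f.appTop)
    (hX : Models.IsRegularProperModel R X p C f)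
    {n : ℕ} (Γ : Fin n → ArSurf.VertComp R (Over.mk p)) (hΓ : Models.IsComponentList R (Over.mk p) Γ)
    (g : C ⟶ X) (hg : IsPullback g f p (Spec.map (CommRingCat.ofHom (algebraMap R (FractionRing R)))))
    (L : Fin n → X.Modules) (hL : ∀ i, ClSub.IsInverseOf (L i) (ClSub.idealMod (Γ i).ι.ker))
    (h : ℕ) (hh : 0 < h)
    (N : C.Modules) (hN : PicF.IsInvertible N) (hNt : Nonempty (CohB1.tensorPow N h ≅ Coh.structureModule C))
    (M : X.Modules) (hM : PicF.IsInvertible M) (hMN : Nonempty ((Scheme.Modules.pullback g).obj M ≅ N))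
    (a b : Fin n → ℕ)
    (hab : Nonempty (CohB1.tensorMod (CohB1.tensorPow M h) (FGA.multiTwist L a) ≅ FGA.multiTwist L b)) :
    (∃ M' : X.Modules, PicF.IsInvertible M' ∧ Nonempty (CohB1.tensorPow M' h ≅ Coh.structureModule X) ∧
        Nonempty ((Scheme.Modules.pullback g).obj M' ≅ N)) ↔
      ∃ (c : Fin n → ℤ) (e : ℤ), ∀ i, ((b i : ℤ) - (a i : ℤ)) = (h : ℤ) * c i + e * (Models.mult R (Over.mk p) (Γ i) : ℤ) := by
  classical
  haveI := hX.2.1
  have S := MdlInter.setting_of_model hX hΓ
  have hglob := MdlInter.bijective_toGlobal hH0 hX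
  have hMh := MdlInter.cl_eq_of_comboCl_sub S L hL h a b hab
  constructor
  · rintro ⟨M', hM', htor, hN'⟩
    obtain ⟨D, hD, hDe⟩ := H23.PicInv.exists_inverse hM
    have hD1 : PicF.cl M * PicF.cl D = 1 := by
      rw [← H23.PicMul.cl_tensor, H23.PicMul.one_def]; exact H23.PicMul.cl_eq_iff.2 hDe
    obtain ⟨w, hw⟩ := S.exists_comboCl L hL g hg (InvX.isInvertible_tensorMod hM' hD) (H23.PicMul.cl_eq_iff.1 (by
      show H23.PicMul.pullHom g (PicF.cl (CohB1.tensorMod M' D)) = _
      rw [H23.PicMul.cl_tensor, map_mul, ← H23.PicMul.one_def, ← map_one (H23.PicMul.pullHom g), ← hD1, map_mul]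
      congr 1
      exact (H23.PicMul.cl_eq_iff.2 hN').trans (H23.PicMul.cl_eq_iff.2 hMN).symm))
    have hM'' : PicF.cl M' = PicF.cl M * S.comboCl L hL w := by
      rw [← hw, H23.PicMul.cl_tensor, mul_left_comm, hD1, mul_one]
    have h1 := H23.PicMul.cl_eq_iff.2 htor
    rw [H23.PicMul.cl_tensorPow, hM'', mul_pow, hMh, ← H23.PicMul.one_def, ← Units.val_pow_eq_pow_val,
      ← Units.val_mul, ← zpow_natCast, ← S.comboCl_smul, ← S.comboCl_add, ← Units.val_one, Units.val_inj] at h1
    obtain ⟨c, hc⟩ := (S.comboCl_eq_one_iff L hL hglob _).1 h1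
    refine ⟨fun i => -w i, c, fun i => ?_⟩
    have := hc i
    rw [Pi.add_apply] at this
    linarith
  · rintro ⟨c, e, hce⟩
    obtain ⟨M', hM', hcl⟩ := S.exists_module L hL hM (fun i => -c i)
    refine ⟨M', hM', H23.PicMul.cl_eq_iff.1 ?_, H23.PicMul.cl_eq_iff.1 ?_⟩
    · rw [H23.PicMul.cl_tensorPow, hcl, mul_pow, hMh, ← H23.PicMul.one_def, ← Units.val_pow_eq_pow_val,
        ← Units.val_mul, ← zpow_natCast, ← S.comboCl_smul, ← S.comboCl_add, ← Units.val_one]
      refine congrArg Units.val ((S.comboCl_eq_one_iff L hL hglob _).2 ⟨e, fun i => ?_⟩)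
      rw [Pi.add_apply, hce i]
      ring
    · show H23.PicMul.pullHom g (PicF.cl M') = _
      rw [hcl, map_mul, S.pullCl_comboCl L hL g hg, mul_one]
      exact H23.PicMul.cl_eq_iff.2 hMN

end Groth.Agent.S19924
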