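import Groth.Statements.S19926
import Groth.Agent.VarDim.Proj

set_option autoImplicit false
universe u
open ProjDeg

namespace Groth.Agent.S19926

/-- Let k be a field, n ≥ 0, S = k[X_0, …, X_n] graded by degree, and p a homogeneous prime ideal of S
which does not contain the irrelevant ideal S_+, so that X = V_+(p) is a nonempty integral closed
subscheme of P^n_k (every such subscheme arises this way); its affine cone C(X) ⊆ A^{n+1}_k, the
closure of the preimage of X under the projection from A^{n+1} minus the origin, is the closed
subset V(p), with coordinate ring S/p. Then dim C(X) = dim X + 1: the Krull dimension of S/p is the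
topological Krull dimension of the closed subset V_+(p) of Proj S plus one. -/
theorem result (k : Type u) [Field k] (n : ℕ)
    (p : Ideal (MvPolynomial (Fin (n + 1)) k)) [p.IsPrime] (hph : p.IsHomogeneous (CohB1.polyGrading n k))
    (hrel : ¬ (HomogeneousIdeal.irrelevant (CohB1.polyGrading n k)).toIdeal ≤ p) :
    ringKrullDim (MvPolynomial (Fin (n + 1)) k ⧸ p) =
      topologicalKrullDim ↥(ProjectiveSpectrum.zeroLocus (CohB1.polyGrading n k) (p : Set (MvPolynomial (Fin (n + 1)) k))) + 1 := by
  obtain ⟨x, hx⟩ := Groth.Agent.VarDim.ProjN.exists_point (k := k) (n := n) ‹p.IsPrime› hph (fun h => hrel (by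
    rw [Groth.Agent.VarDim.ProjN.irrelevant_eq_vertex, h]))
  have hz : ProjectiveSpectrum.zeroLocus (CohB1.polyGrading n k) (p : Set (MvPolynomial (Fin (n + 1)) k)) =
      closure {x} := by
    ext y
    rw [ProjectiveSpectrum.mem_zeroLocus, ← ProjectiveSpectrum.le_iff_mem_closure,
      ← Groth.Agent.VarDim.ProjN.pp_le_pp, hx]
    exact Iff.rfl
  rw [hz, Groth.Agent.VarDim.ProjN.topologicalKrullDim_closure_singleton,
    show p = (Groth.Agent.VarDim.ProjN.pp x).asIdeal from hx.symm,
    ← Groth.Agent.VarDim.coheight_eq_ringKrullDim_quotient,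
    Groth.Agent.VarDim.ProjN.coheight_pp_eq]
  norm_cast

end Groth.Agent.S19926
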