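import Groth.Statements.S19952
import Groth.Agent.ThetaLib.GrpFT
import Groth.Agent.ThetaLib.LineDescent
import Groth.Agent.GrpQuotLib.Group
import Groth.Agent.AVQuotLib.Quotient

set_option autoImplicit false
set_option backward.isDefEq.respectTransparency false
set_option backward.isDefEq.respectTransparency.types false
set_option maxHeartbeats 1000000
set_option linter.style.haveILetI false
universe u
open CategoryTheory MonoidalCategory CartesianMonoidalCategory MonObj GrpObj AlgebraicGeometry
open ThetaGrp

namespace Groth.Agent.S19952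

/-- Let X be an abelian variety over a field k (a proper, geometrically integral, commutative k-group
scheme), L an invertible O_X-module, and G a k-group scheme with a point u ∈ G(L)(G) representing
the theta group of L (every point of G(L)(T) is the base change of u along a unique T → G,
multiplicatively). Let j : H → G be a level subgroup — H a k-group scheme, j a homomorphism of group
schemes and an immersion, such that a point of H whose image lies over the identity translation is
trivial — and let i_H : H → X be the morphism it lies over: for every k-scheme T and T-valued point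
h of H the base change of u along j(h) lies over the translation by i_H(h). Then there are an
abelian variety Y over k (proper, geometrically integral k-group scheme), a surjective homomorphism
f : X → Y whose kernel is i_H (i_H and f form a cartesian square with the unit section of Y), and an
invertible O_Y-module M with f^*M ≅ L. (The source states a bijection between level subgroups and
isomorphism classes of such pairs (f, M); this row is the existence of a pair for a given level
subgroup.) -/
theorem result (k : Type u) [Field k]
    (A : Over (Spec (CommRingCat.of k))) [GrpObj A] [IsCommMonObj A] [IsProper A.hom] [GeometricallyIntegral A.hom]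
    (L : A.left.Modules) (hL : PicF.IsInvertible L)
    (G : Over (Spec (CommRingCat.of k))) [GrpObj G] (u : ThetaGrp.thetaPts A L G)
    (hG : ThetaGrp.IsThetaGrpSch A L G u)
    (H : Over (Spec (CommRingCat.of k))) [GrpObj H] (j : H ⟶ G) (hj : ThetaGrp.IsLevelSubgrp u j)
    (iH : H ⟶ A)
    (hover : ∀ (T : Over (Spec (CommRingCat.of k))) (h : T ⟶ H) (β : ThetaGrp.thetaPts A L T),
      ThetaGrp.IsBaseChange β (h ≫ j) u → ThetaGrp.IsOverPt β (h ≫ iH)) :
    ∃ (B : Over (Spec (CommRingCat.of k))) (_ : GrpObj B) (f : A ⟶ B),
      IsProper B.hom ∧ GeometricallyIntegral B.hom ∧ IsMonHom f ∧ Surjective f.left ∧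
      AlgGrp.IsKernel iH f ∧
      ∃ M : B.left.Modules, PicF.IsInvertible M ∧ Nonempty ((Scheme.Modules.pullback f.left).obj M ≅ L) := by
  haveI := hj.1
  haveI := hj.2.1
  obtain ⟨K, iK, hK⟩ := ThetaLib.exists_isKL A L hL
  haveI := hK.closed
  have hA := ThetaLib.gammaSnd_of_abelian A
  haveI : LocallyOfFiniteType K.hom := by
    rw [← Over.w iK]
    infer_instance
  haveI : CompactSpace A.left := QuasiCompact.compactSpace_of_compactSpace A.hom
  haveI : CompactSpace K.left := QuasiCompact.compactSpace_of_compactSpace iK.left
  haveI : LocallyOfFiniteType G.hom := ThetaLib.locallyOfFiniteType_thetaGrp hL hA hK hG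
  haveI : CompactSpace G.left := ThetaLib.compactSpace_thetaGrp hL hA hK hG
  haveI : LocallyOfFiniteType H.hom := by
    rw [← Over.w j]
    infer_instance
  haveI : IsLocallyNoetherian G.left := LocallyOfFiniteType.isLocallyNoetherian G.hom
  haveI : IsNoetherian G.left := ⟨⟩
  haveI : TopologicalSpace.NoetherianSpace H.left := j.left.isEmbedding.toIsInducing.noetherianSpace
  haveI : CompactSpace H.left := inferInstance
  have hpt : ∀ (T : Over (Spec (CommRingCat.of k))) (h : T ⟶ H), h ≫ iH = ThetaLib.pt (ThetaLib.bc (h ≫ j) u) :=
    fun T h => (ThetaLib.isOverPt_iff.1 (hover T h _ (ThetaLib.isBaseChange_bc _ u))).symm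
  have hmul : ∀ (T : Over (Spec (CommRingCat.of k))) (x y : T ⟶ H), (x * y) ≫ iH = (x ≫ iH) * (y ≫ iH) :=
    fun T x y => by
      have h := hG.mul T _ _ _ _ (ThetaLib.isBaseChange_bc (x ≫ j) u) (ThetaLib.isBaseChange_bc (y ≫ j) u)
      rw [hpt T x, hpt T y, hpt T (x * y), MonObj.mul_comp, ← ThetaLib.eq_bc h, ThetaLib.pt_mul, mul_comm]
  haveI hom : IsMonHom iH := by
    refine ⟨?_, ?_⟩
    · have e := hmul (𝟙_ (Over (Spec (CommRingCat.of k)))) 1 1
      rw [_root_.one_mul] at e
      have e' := left_eq_mul.1 e
      rw [Hom.one_def, Hom.one_def, toUnit_unique (toUnit (𝟙_ (Over (Spec (CommRingCat.of k))))) (𝟙 _),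
        Category.id_comp, Category.id_comp] at e'
      exact e'
    · have e := hmul (H ⊗ H) (fst H H) (snd H H)
      rw [Hom.mul_def, Hom.mul_def, lift_fst_snd, Category.id_comp, ← lift_map, lift_fst_snd, Category.id_comp] at e
      exact e
  haveI : Mono iH := ⟨fun {T} x y h => by
    have h1 : (x⁻¹ * y) ≫ iH = 1 := by
      rw [MonObj.mul_comp, GrpObj.inv_comp, h, inv_mul_cancel]
    have h2 := hj.2.2 T (x⁻¹ * y) _ (ThetaLib.isBaseChange_bc _ u)
      (ThetaLib.isOverPt_iff.2 (by rw [← hpt, h1]))
    exact inv_mul_eq_one.1 h2⟩
  haveI : QuasiCompact iH.left := quasiCompact_of_compactSpace iH.left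
  obtain ⟨Q, sQ, q, hq, hflat, hsurj, hlfp, hlft, -, hker⟩ := GrpQuotLib.exists_quotientGrp iH
    (fun T g n => ⟨n, mul_inv_eq_iff_eq_mul.2 (mul_comm _ _)⟩)
  haveI := hq
  haveI := hflat
  haveI := hsurj
  haveI := hlfp
  haveI := hlft
  haveI : IsSeparated Q.hom := GrpSchLib.AntiAffine.isSeparated_grp Q
  haveI : UniversallyClosed (q.left ≫ Q.hom) := by
    rw [Over.w q]
    infer_instance
  haveI : UniversallyClosed Q.hom := UniversallyClosed.of_comp_surjective (f := q.left) (g := Q.hom)
  haveI : IsProper Q.hom := ⟨⟩
  refine ⟨Q, sQ, q, inferInstance, AVQuotLib.geometricallyIntegral_of_flat_surjective q, hq, hsurj, hker,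
    ThetaLib.exists_descent_of_lift (ThetaLib.KerLift.ofHom hG j hover) hker hL⟩

end Groth.Agent.S19952
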