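import Groth.Statements.S19955
import Groth.Agent.ThetaLib.MumfordLift

set_option autoImplicit false
set_option backward.isDefEq.respectTransparency false
set_option backward.isDefEq.respectTransparency.types false
set_option maxHeartbeats 1000000
set_option linter.style.haveILetI false
universe u
open CategoryTheory MonoidalCategory CartesianMonoidalCategory MonObj GrpObj AlgebraicGeometry
open ThetaGrp

namespace Groth.Agent.S19955

/-- Let A be an abelian variety over a field k (a proper, geometrically integral, commutative k-group
scheme), L an invertible O_A-module, and Λ an invertible module on A ×_k A which is the Mumford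
bundle of L, stated without inverses: Λ ⊗ p_1^*L ⊗ p_2^*L ≅ m^*L for the group law m and the
projections p_1, p_2. Let i : K → A be a closed subgroup scheme exhibiting K as K(L) (the maximal
closed subscheme of A over which Λ, restricted to A ×_k K, is the inverse image of an invertible
module on K, with its universal property), and let G be a k-group scheme with a point u ∈ G(Λ)(G)
representing the theta group of Λ on the k-group scheme A ×_k A (every point of G(Λ)(T) — a T-valued
point z of A × A with an isomorphism Λ_T ≅ t_z^*Λ_T — is the base change of u along a unique T → G,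
multiplicatively). Then the action of K × {e} on A × A by translations lifts to Λ compatibly with
the group law of K: there is a homomorphism of group schemes j : K → G such that for every k-scheme
T and every T-valued point y of K, the base change of u along j(y) lies over the translation by the
point (i(y), e) of A × A. (In the source L is a fixed ample invertible module and the equivariant
structure is moreover shown to be unique once an isomorphism of the fibre of L at e with k is fixed;
the argument for existence uses only that L is invertible, and the uniqueness is not part of this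
statement.) -/
theorem result (k : Type u) [Field k]
    (A : Over (Spec (CommRingCat.of k))) [GrpObj A] [IsCommMonObj A] [IsProper A.hom] [GeometricallyIntegral A.hom]
    (L : A.left.Modules) (hL : PicF.IsInvertible L)
    (Λ : (A ⊗ A).left.Modules) (hΛi : PicF.IsInvertible Λ)
    (hΛ : AgPol.IsLambdaSheaf μ[A].left (fst A A).left (snd A A).left L Λ)
    (K : Over (Spec (CommRingCat.of k))) [GrpObj K] (iK : K ⟶ A) [IsMonHom iK] (hK : ThetaGrp.IsKL A L iK)
    (G : Over (Spec (CommRingCat.of k))) [GrpObj G] (u : ThetaGrp.thetaPts (A ⊗ A) Λ G)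
    (hG : ThetaGrp.IsThetaGrpSch (A ⊗ A) Λ G u) :
    ∃ j : K ⟶ G, IsMonHom j ∧
      ∀ (T : Over (Spec (CommRingCat.of k))) (y : T ⟶ K) (β : ThetaGrp.thetaPts (A ⊗ A) Λ T),
        ThetaGrp.IsBaseChange β (y ≫ j) u → ThetaGrp.IsOverPt β (y ≫ lift iK (1 : K ⟶ A)) := by
  open scoped Groth.Agent.H23.PicMul in
  · haveI : Subsingleton (Spec (CommRingCat.of k)) := inferInstanceAs (Subsingleton (PrimeSpectrum k))
    haveI : Nonempty (Spec (CommRingCat.of k)) := inferInstanceAs (Nonempty (PrimeSpectrum k))
    have hA := ThetaLib.gammaSnd_of_abelian A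
    have h1 : PicF.cl ((Scheme.Modules.pullback (ThetaLib.axis A).left).obj Λ) =
        PicF.cl ((Scheme.Modules.pullback A.hom).obj (Coh.structureModule (Spec (CommRingCat.of k)))) :=
      (ThetaLib.cl_axis_eq_one hL hΛ).trans (H23.PicMul.pullCl_one A.hom).symm
    obtain ⟨e⟩ := (PicGrp.cl_eq_cl_iff _ _).1 h1
    let ψ : ThetaLib.axisPr A Λ ⟶
        (⟨Spec (CommRingCat.of k), Coh.structureModule (Spec (CommRingCat.of k))⟩ : ThetaLib.Pr.{u}) :=
      ThetaLib.mkH A.hom e.hom
    haveI : CategoryTheory.IsIso (ThetaLib.fib ψ) := inferInstanceAs (CategoryTheory.IsIso e.hom)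
    obtain ⟨β₁, hβ₁⟩ := ThetaLib.exists_normLift (ψ := ψ) hL hΛi hΛ hA rfl iK
      ((hK.univ K iK).2 ⟨𝟙 K, Category.id_comp _⟩)
    obtain ⟨j, hj, -⟩ := hG.univ K β₁
    have key : ∀ (T : Over (Spec (CommRingCat.of k))) (y : T ⟶ K),
        ThetaGrp.IsBaseChange (ThetaLib.bc y β₁) (y ≫ j) u := fun T y =>
      ThetaLib.baseChange_comp (ThetaLib.isBaseChange_bc y β₁) hj
    have hmul : ∀ (T : Over (Spec (CommRingCat.of k))) (x y : T ⟶ K), (x * y) ≫ j = (x ≫ j) * (y ≫ j) :=
      fun T x y => by
        have h2 := hG.mul T _ _ _ _ (key T x) (key T y)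
        have h3 : ThetaLib.bc x β₁ * ThetaLib.bc y β₁ = ThetaLib.bc (x * y) β₁ := by
          refine ThetaLib.IsNormLift.unique hΛi hA ((hβ₁.bc x).mul (hβ₁.bc y)) ?_
          rw [← MonObj.mul_comp]
          exact hβ₁.bc (x * y)
        rw [h3] at h2
        exact (hG.univ T _).unique (key T _) h2
    refine ⟨j, ⟨?_, ?_⟩, fun T y β hβ => ?_⟩
    · have e := hmul (𝟙_ (Over (Spec (CommRingCat.of k)))) 1 1
      rw [_root_.one_mul] at e
      have e' := left_eq_mul.1 e
      rw [Hom.one_def, Hom.one_def, toUnit_unique (toUnit (𝟙_ (Over (Spec (CommRingCat.of k))))) (𝟙 _),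
        Category.id_comp, Category.id_comp] at e'
      exact e'
    · have e := hmul (K ⊗ K) (fst K K) (snd K K)
      rw [Hom.mul_def, Hom.mul_def, lift_fst_snd, Category.id_comp, ← lift_map, lift_fst_snd, Category.id_comp] at e
      exact e
    · refine ThetaLib.isOverPt_iff.2 ?_
      rw [ThetaLib.baseChange_unique hβ (key T y), (hβ₁.bc y).1, ThetaLib.axis_comp, comp_lift, MonObj.comp_one]

end Groth.Agent.S19955
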