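import Groth.Statements.S19956
import Groth.Agent.ThetaLib.Descend

set_option autoImplicit false
set_option backward.isDefEq.respectTransparency false
set_option backward.isDefEq.respectTransparency.types false
set_option maxHeartbeats 1000000
set_option linter.style.haveILetI false
universe u
open CategoryTheory MonoidalCategory CartesianMonoidalCategory MonObj GrpObj AlgebraicGeometry
open ThetaGrp

namespace Groth.Agent.S19956

/-- Let f : X → Y be a surjective homomorphism of abelian varieties over a field k (proper,
geometrically integral, commutative k-group schemes), i : N → X its kernel (a homomorphism forming a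
cartesian square with the unit section of Y), M an invertible O_Y-module and L = f^*M. Let G be a
k-group scheme with a point u ∈ G(L)(G) representing the theta group of L (every point of G(L)(T) is
the base change of u along a unique T → G, multiplicatively), and j : N → G a level subgroup lying
over i: a homomorphism of group schemes and an immersion such that a point of N whose image lies
over the identity translation is trivial, and such that for every T-valued point n of N the base
change of u along j(n) lies over the translation by i(n). Let i_M : K_M → Y be a closed immersion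
exhibiting K_M as K(M) (the maximal closed subscheme of Y over which the Mumford bundle of M,
restricted to Y ×_k K_M, is the inverse image of an invertible module on K_M, with its universal
property). For a k-scheme T, a T-valued point g of G and the T-valued point x of X under it (the
base change of u along g lies over the translation by x): g lies in the centralizer of j(N) — for
every T' → T and every T'-valued point n of N, the restriction of g commutes with j(n) in the group
G(T') — if and only if f(x) factors through i_M. (The source states this for the level subgroup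
attached to the descent M; by the source's description of f⁻¹(K(M)) as Ker(f)^⊥ both sides depend
only on Ker(f), so it is stated for any level structure over i. The identification of G(M) with the
centralizer modulo j(N) is not part of this statement.) -/
theorem result (k : Type u) [Field k]
    (A : Over (Spec (CommRingCat.of k))) [GrpObj A] [IsCommMonObj A] [IsProper A.hom] [GeometricallyIntegral A.hom]
    (B : Over (Spec (CommRingCat.of k))) [GrpObj B] [IsCommMonObj B] [IsProper B.hom] [GeometricallyIntegral B.hom]
    (f : A ⟶ B) [IsMonHom f] (hf : Surjective f.left)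
    (N : Over (Spec (CommRingCat.of k))) [GrpObj N] (i : N ⟶ A) [IsMonHom i] (hN : AlgGrp.IsKernel i f)
    (M : B.left.Modules) (hM : PicF.IsInvertible M)
    (G : Over (Spec (CommRingCat.of k))) [GrpObj G]
    (u : ThetaGrp.thetaPts A ((Scheme.Modules.pullback f.left).obj M) G)
    (hG : ThetaGrp.IsThetaGrpSch A ((Scheme.Modules.pullback f.left).obj M) G u)
    (j : N ⟶ G) [IsMonHom j] (hj : ThetaGrp.IsLevelSubgrp u j)
    (hover : ∀ (T : Over (Spec (CommRingCat.of k))) (n : T ⟶ N)
      (β : ThetaGrp.thetaPts A ((Scheme.Modules.pullback f.left).obj M) T),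
      ThetaGrp.IsBaseChange β (n ≫ j) u → ThetaGrp.IsOverPt β (n ≫ i))
    (KM : Over (Spec (CommRingCat.of k))) (iM : KM ⟶ B) (hKM : ThetaGrp.IsKL B M iM)
    (T : Over (Spec (CommRingCat.of k))) (g : T ⟶ G) (x : T ⟶ A)
    (β : ThetaGrp.thetaPts A ((Scheme.Modules.pullback f.left).obj M) T)
    (hβ : ThetaGrp.IsBaseChange β g u) (hx : ThetaGrp.IsOverPt β x) :
    (∀ (T' : Over (Spec (CommRingCat.of k))) (t : T' ⟶ T) (n : T' ⟶ N),
        (t ≫ g) * (n ≫ j) = (n ≫ j) * (t ≫ g)) ↔
      ∃ y : T ⟶ KM, y ≫ iM = x ≫ f := by
  have hL : PicF.IsInvertible ((Scheme.Modules.pullback f.left).obj M) := PicClLib.isInvertible_pullback _ hM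
  haveI := hf
  obtain ⟨hfl, hfp⟩ := ThetaLib.flat_lfp f
  haveI := hfl
  haveI := hfp
  have hA := ThetaLib.gammaSnd_of_abelian A
  have hptx : ThetaLib.pt β = x := ThetaLib.isOverPt_iff.1 hx
  have hbase : ∀ (T' : Over (Spec (CommRingCat.of k))) (t : T' ⟶ T),
      ThetaGrp.IsBaseChange (ThetaLib.bc t β) (t ≫ g) u := fun T' t =>
    ThetaLib.baseChange_comp (ThetaLib.isBaseChange_bc t β) hβ
  constructor
  · intro hc
    obtain ⟨w, hw⟩ := ThetaLib.exists_push hN hM β fun T' t n => by
      obtain ⟨δ, hδ, -⟩ := hG.exists_bc T' (n ≫ j)
      have h1 := hG.mul T' _ _ _ _ (hbase T' t) hδ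
      have h2 := hG.mul T' _ _ _ _ hδ (hbase T' t)
      rw [hc T' t n] at h1
      have h3 : ThetaLib.bc t β * δ = δ * ThetaLib.bc t β := (hG.exists_bc T' _).unique h1 h2
      rw [← commutatorElement_eq_one_iff_mul_comm, ThetaLib.comm_congr₂ hL hA rfl
        (show ThetaLib.pt (ThetaLib.kerPt hN n) = ThetaLib.pt δ by
          rw [ThetaLib.pt_kerPt, ThetaLib.isOverPt_iff.1 (hover T' n δ hδ)])]
      exact commutatorElement_eq_one_iff_mul_comm.2 h3
    exact (hKM.univ T _).1 (ThetaLib.mumford_of_overPt hM w (ThetaLib.isOverPt_iff.2 (by rw [hw, hptx])))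
  · rintro ⟨y, hy⟩ T' t n
    obtain ⟨δ, hδ, -⟩ := hG.exists_bc T' (n ≫ j)
    have hcomm := ThetaLib.comm_of_mumford hN hM hA (t ≫ x) ((hKM.univ T' _).2 ⟨t ≫ y, by simp [hy]⟩) n
      (β₁ := ThetaLib.bc t β) (β₂ := δ) (by rw [ThetaLib.pt_bc, hptx])
      (ThetaLib.isOverPt_iff.1 (hover T' n δ hδ))
    have h1 := hG.mul T' _ _ _ _ (hbase T' t) hδ
    rw [hcomm] at h1
    exact (hG.univ T' (δ * ThetaLib.bc t β)).unique h1 (hG.mul T' _ _ _ _ hδ (hbase T' t))

end Groth.Agent.S19956
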