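import Groth.Statements.S19985
import Groth.Agent.ConeX.FibreCone

set_option autoImplicit false
set_option backward.isDefEq.respectTransparency false
set_option backward.isDefEq.respectTransparency.types false
universe u
open CategoryTheory CategoryTheory.Limits AlgebraicGeometry Opposite TopologicalSpace
open scoped HomogeneousIdeal
noncomputable section
open EGA2
open Groth.Agent HomogeneousLocalization

namespace Groth.Agent.S19985

/-- Let 𝒮 be a quasi-coherent positively graded O_Y-algebra with 𝒮_0 = O_Y which is generated by 𝒮_1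
(over every affine open U the ring 𝒮(U) is generated by its degree-0 and degree-1 parts), Ŝ = 𝒮[z]
(graded homomorphism ι : 𝒮 → Ŝ and a degree-one global section z, polynomial over affine opens), C =
Spec(𝒮), X = Proj(𝒮) and Ĉ = Proj(Ŝ) with their charts, E ⊆ C and Ê ⊆ Ĉ the pointed cones, i : C → Ĉ
the canonical open immersion and p : Ê → X the canonical retraction (the morphism which on each
affine piece Spec Ŝ(U)_(ι f), f ∈ 𝒮(U) homogeneous of positive degree, is Spec of 𝒮(U)_(f) → Ŝ(U)_(ι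
f) followed by the chart of X). Then p is of finite type (locally of finite type and quasi-compact)
and for every point x of X the fibre p⁻¹(x) = Ê ×_X Spec k(x) is isomorphic over k(x) to the affine
line Spec k(x)[T]; and for every factorisation i' : E → Ê of i restricted to E, the composite π = p
∘ i' : E → X is of finite type and its fibre at every x is isomorphic over k(x) to Spec k(x)[T,
T⁻¹]. -/
theorem result {Y PC P : Scheme.{u}} (𝒮 𝒮h : RelProj.QCGrAlg Y) (h0 : RelCone.StrZeroBij 𝒮)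
    (hgen : 𝒮.IsGenDegOne)
    (ι : 𝒮.toQCAlg ⟶ 𝒮h.toQCAlg) (z : 𝒮h.presheaf.obj (op ⊤)) (hz : RelCone.IsPolyOver 𝒮 𝒮h ι z)
    (pC : PC ⟶ Y)
    (chartC : ∀ (U : Y.Opens) (hU : IsAffineOpen U), (((pC ⁻¹ᵁ U : PC.Opens) : Scheme.{u}) ≅ Proj (𝒮h.deg U hU)))
    (hPC : RelProj.IsRelProj 𝒮h pC chartC)
    (p : P ⟶ Y)
    (chart : ∀ (U : Y.Opens) (hU : IsAffineOpen U), (((p ⁻¹ᵁ U : P.Opens) : Scheme.{u}) ≅ Proj (𝒮.deg U hU)))
    (hP : RelProj.IsRelProj 𝒮 p chart)
    (i : 𝒮.toQCAlg.spec ⟶ PC) (hi : RelCone.IsConeImm 𝒮 hz pC chartC i)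
    (r : ((RelCone.pointedProjCone 𝒮 hz pC chartC : PC.Opens) : Scheme.{u}) ⟶ P)
    (hr : (∀ (U : Y.Opens) (hU : IsAffineOpen U) (d : ℕ) (hd : 0 < d) (f : 𝒮.presheaf.obj (op U)) (hf : f ∈ 𝒮.deg U hU d)
        (g : Spec (CommRingCat.of (HomogeneousLocalization.Away (𝒮h.deg U hU) ((RelProj.gradedHomAt ι hz.graded U hU) f))) ⟶
          ((RelCone.pointedProjCone 𝒮 hz pC chartC : PC.Opens) : Scheme.{u})),
        g ≫ (RelCone.pointedProjCone 𝒮 hz pC chartC).ι =
            Proj.awayι (𝒮h.deg U hU) ((RelProj.gradedHomAt ι hz.graded U hU) f) ((RelProj.gradedHomAt ι hz.graded U hU).2 hf) hd ≫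
              RelProj.emb pC chartC U hU →
          g ≫ r =
            Spec.map (CommRingCat.ofHom (HomogeneousLocalization.Away.map (RelProj.gradedHomAt ι hz.graded U hU) f)) ≫
              Proj.awayι (𝒮.deg U hU) f hf hd ≫ RelProj.emb p chart U hU)) :
    (LocallyOfFiniteType r ∧ QuasiCompact r ∧
        ∀ x : ↥P, ∃ e : pullback r (P.fromSpecResidueField x) ≅ Spec (CommRingCat.of (Polynomial (P.residueField x))),
          e.hom ≫ Spec.map (CommRingCat.ofHom (algebraMap (P.residueField x) (Polynomial (P.residueField x)))) =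
            pullback.snd r (P.fromSpecResidueField x)) ∧
      ∀ i' : ((RelCone.pointedCone 𝒮 : 𝒮.toQCAlg.spec.Opens) : Scheme.{u}) ⟶
          ((RelCone.pointedProjCone 𝒮 hz pC chartC : PC.Opens) : Scheme.{u}),
        i' ≫ (RelCone.pointedProjCone 𝒮 hz pC chartC).ι = (RelCone.pointedCone 𝒮).ι ≫ i →
          LocallyOfFiniteType (i' ≫ r) ∧ QuasiCompact (i' ≫ r) ∧
        ∀ x : ↥P, ∃ e : pullback (i' ≫ r) (P.fromSpecResidueField x) ≅ Spec (CommRingCat.of (LaurentPolynomial (P.residueField x))),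
          e.hom ≫ Spec.map (CommRingCat.ofHom (algebraMap (P.residueField x) (LaurentPolynomial (P.residueField x)))) =
            pullback.snd (i' ≫ r) (P.fromSpecResidueField x) := by
  have hW := ConeX.pointed_eq_domQ hz hPC
  have H : ∀ y : P, ∃ (U : Y.Opens) (hU : IsAffineOpen U) (f : 𝒮.presheaf.obj (op U)) (hf : f ∈ 𝒮.deg U hU 1),
      y ∈ Set.range (Proj.awayι (𝒮.deg U hU) f hf one_pos ≫ RelProj.emb p chart U hU) := by
    intro y
    obtain ⟨_, ⟨U, hU, rfl⟩, hyU, -⟩ := Y.isBasis_affineOpens.exists_subset_of_mem_open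
      (Set.mem_univ (p y)) isOpen_univ
    obtain ⟨w, rfl⟩ := (Proj16.opensRange_emb (p := p) (chart := chart) U hU).ge hyU
    obtain ⟨f, hf, hfw⟩ := ConeX.exists_degOne_notMem (hgen U hU) w
    obtain ⟨t, ht⟩ := (Proj.opensRange_awayι _ f hf one_pos).ge hfw
    exact ⟨U, hU, f, hf, t, by rw [Scheme.Hom.comp_apply, ht]⟩
  have L : ∀ (U : Y.Opens) (hU : IsAffineOpen U) (f : 𝒮.presheaf.obj (op U)) (hf : f ∈ 𝒮.deg U hU 1),
      ∃ c : Spec (CommRingCat.of (Polynomial (Away (𝒮.deg U hU) f))) ⟶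
        ((RelCone.pointedProjCone 𝒮 hz pC chartC : PC.Opens) : Scheme.{u}),
        IsPullback c (Spec.map (CommRingCat.ofHom (algebraMap (Away (𝒮.deg U hU) f) (Polynomial (Away (𝒮.deg U hU) f)))))
          r (Proj.awayι (𝒮.deg U hU) f hf one_pos ≫ RelProj.emb p chart U hU) := by
    intro U hU f hf
    obtain ⟨c₀, hc₀, -, hc₂, hrange⟩ := ConeX.exists_lineChart hz hPC hP _ hW r hr U hU f hf
    let φ := RelProj.gradedHomAt ι hz.graded U hU
    haveI : IsIso (CommRingCat.ofHom (ConeX.linePiece φ (RelCone.restrictTop 𝒮h z U) (hz.deg_z U hU) f hf)) :=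
      (ConcreteCategory.isIso_iff_bijective (CommRingCat.ofHom (ConeX.linePiece φ _ (hz.deg_z U hU) f hf))).mpr
        (ConeX.bijective_linePiece φ _ (hz.deg_z U hU) (ConeX.bij_eval hz U hU) f hf)
    refine ⟨inv (Spec.map (CommRingCat.ofHom (ConeX.linePiece φ (RelCone.restrictTop 𝒮h z U) (hz.deg_z U hU) f hf))) ≫ c₀,
      ConeX.isPullback_of_range_eq r _ _ _ ?_ ?_⟩
    · rw [Category.assoc, hc₂, IsIso.inv_comp_eq, ← Spec.map_comp_assoc, ← CommRingCat.ofHom_comp]
      congr 3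
      refine RingHom.ext fun q => ?_
      simp [ConeX.linePiece, φ]
    · rw [Scheme.Hom.comp_base, TopCat.coe_comp, Set.range_comp, Set.range_eq_univ.mpr (Scheme.Hom.surjective _),
        Set.image_univ]
      exact hrange
  refine ⟨?_, fun i' hi' => ?_⟩
  · have hft := ConeX.finiteType_of_charts r fun y => by
      obtain ⟨U, hU, f, hf, hy⟩ := H y
      obtain ⟨c, sq⟩ := L U hU f hf
      exact ⟨_, _, _, _, c, inferInstance, hy, (RingHom.finiteType_algebraMap).mpr
        (inferInstanceAs (Algebra.FiniteType (Away (𝒮.deg U hU) f) (Polynomial (Away (𝒮.deg U hU) f)))), sq⟩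
    refine ⟨hft.1, hft.2, fun x => ?_⟩
    obtain ⟨U, hU, f, hf, hy⟩ := H x
    obtain ⟨c, sq⟩ := L U hU f hf
    exact ConeX.exists_fibre_iso r (Proj.awayι (𝒮.deg U hU) f hf one_pos ≫ RelProj.emb p chart U hU) x hy _ c sq _
      (fun χ => CommRingCat.ofHom (Polynomial.mapRingHom χ.hom)) fun χ => ConeX.isPushout_poly χ.hom
  have L' : ∀ (U : Y.Opens) (hU : IsAffineOpen U) (f : 𝒮.presheaf.obj (op U)) (hf : f ∈ 𝒮.deg U hU 1),
      ∃ c : Spec (CommRingCat.of (LaurentPolynomial (Away (𝒮.deg U hU) f))) ⟶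
        ((RelCone.pointedCone 𝒮 : 𝒮.toQCAlg.spec.Opens) : Scheme.{u}),
        IsPullback c (Spec.map (CommRingCat.ofHom (algebraMap (Away (𝒮.deg U hU) f) (LaurentPolynomial (Away (𝒮.deg U hU) f)))))
          (i' ≫ r) (Proj.awayι (𝒮.deg U hU) f hf one_pos ≫ RelProj.emb p chart U hU) := by
    intro U hU f hf
    obtain ⟨c₀, hc₀, hc₂, hrange⟩ := ConeX.exists_puncturedChart hz hPC hP _ hW r hr hi i' hi' U hU f hf
    haveI : IsIso (CommRingCat.ofHom (ConeX.laurentPiece (𝒜 := 𝒮.deg U hU) f)) :=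
      (ConcreteCategory.isIso_iff_bijective (CommRingCat.ofHom (ConeX.laurentPiece (𝒜 := 𝒮.deg U hU) f))).mpr
        (ConeX.bijective_laurentPiece f hf)
    refine ⟨inv (Spec.map (CommRingCat.ofHom (ConeX.laurentPiece (𝒜 := 𝒮.deg U hU) f))) ≫ c₀,
      ConeX.isPullback_of_range_eq _ _ _ _ ?_ ?_⟩
    · rw [Category.assoc, hc₂, IsIso.inv_comp_eq, ← Spec.map_comp_assoc, ← CommRingCat.ofHom_comp]
      congr 3
      refine RingHom.ext fun q => ?_
      simp [ConeX.laurentPiece, ← LaurentPolynomial.C_eq_algebraMap]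
    · rw [Scheme.Hom.comp_base, TopCat.coe_comp, Set.range_comp, Set.range_eq_univ.mpr (Scheme.Hom.surjective _),
        Set.image_univ]
      exact hrange
  have hft := ConeX.finiteType_of_charts (i' ≫ r) fun y => by
    obtain ⟨U, hU, f, hf, hy⟩ := H y
    obtain ⟨c, sq⟩ := L' U hU f hf
    exact ⟨_, _, _, _, c, inferInstance, hy, (RingHom.finiteType_algebraMap).mpr
      (ConeX.finiteType_laurent (Away (𝒮.deg U hU) f)), sq⟩
  refine ⟨hft.1, hft.2, fun x => ?_⟩
  obtain ⟨U, hU, f, hf, hy⟩ := H x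
  obtain ⟨c, sq⟩ := L' U hU f hf
  exact ConeX.exists_fibre_iso (i' ≫ r) (Proj.awayι (𝒮.deg U hU) f hf one_pos ≫ RelProj.emb p chart U hU) x hy _ c sq _
    (fun χ => CommRingCat.ofHom (ConeX.lmap χ.hom)) fun χ => ConeX.isPushout_laurent χ.hom

end Groth.Agent.S19985
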