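import Groth.Statements.S19995
import Groth.Agent.Hartogs.Basic
import Groth.Agent.SkDesc.Basic
import Mathlib.AlgebraicGeometry.Morphisms.QuasiFinite

set_option autoImplicit false
set_option linter.style.haveILetI false
universe u
open CategoryTheory AlgebraicGeometry
open WildQuot

namespace Groth.Agent.S19995

/-- Flat finite morphisms preserve the depth of local rings. -/
theorem depth_stalk_eq_of_finite {G S : Scheme.{u}} [IsLocallyNoetherian S] [IsLocallyNoetherian G]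
    (f : G ⟶ S) [IsFinite f] [Flat f] (x : G) :
    LocCoh.depth (G.presheaf.stalk x) (G.presheaf.stalk x) =
      LocCoh.depth (S.presheaf.stalk (f x)) (S.presheaf.stalk (f x)) := by
  letI : Algebra (S.presheaf.stalk (f x)) (G.presheaf.stalk x) := (f.stalkMap x).hom.toAlgebra
  haveI : IsLocalHom (algebraMap (S.presheaf.stalk (f x)) (G.presheaf.stalk x)) :=
    inferInstanceAs <| IsLocalHom (f.stalkMap x).hom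
  haveI : Module.Flat (S.presheaf.stalk (f x)) (G.presheaf.stalk x) := Flat.stalkMap f x
  refine Groth.Agent.SkDesc.depth_eq (R := S.presheaf.stalk (f x)) (G.presheaf.stalk x) fun P hP hle => ?_
  let ι := G.fromSpecStalk x
  let p : Spec (G.presheaf.stalk x) := ⟨P, hP⟩
  have hspec : ι p ⤳ x := by
    have h := Set.mem_range_self (f := (ι : _ → G)) p
    rwa [Scheme.range_fromSpecStalk] at h
  have hfib : f (ι p) = f x := by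
    rw [← Scheme.Hom.comp_apply, ← Scheme.SpecMap_stalkMap_fromSpecStalk, Scheme.Hom.comp_apply]
    have hc : Spec.map (f.stalkMap x) p = IsLocalRing.closedPoint (S.presheaf.stalk (f x)) :=
      PrimeSpectrum.ext (Eq.symm ((IsLocalRing.maximalIdeal.isMaximal _).eq_of_le
        (PrimeSpectrum.isPrime _).ne_top (Ideal.map_le_iff_le_comap.1 hle)))
    rw [hc]
    exact Scheme.fromSpecStalk_closedPoint
  have hd : DiscreteTopology (f ⁻¹' {f x} : Set G) := (f.isDiscrete_preimage_singleton (f x)).to_subtype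
  have hw : (⟨ι p, hfib⟩ : (f ⁻¹' {f x} : Set G)) = ⟨x, rfl⟩ :=
    specializes_iff_eq.1 ((subtype_specializes_iff _ _).2 hspec)
  have h2 : ι p = ι (IsLocalRing.closedPoint (G.presheaf.stalk x)) :=
    (congrArg Subtype.val hw).trans Scheme.fromSpecStalk_closedPoint.symm
  exact congrArg PrimeSpectrum.asIdeal ((G.fromSpecStalk x).isEmbedding.injective h2)

/-- Depth only depends on the ring. -/
theorem depth_congr_ringEquiv {R R' : Type u} [CommRing R] [IsLocalRing R] [CommRing R'] [IsLocalRing R']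
    (e : R ≃+* R') : LocCoh.depth R R = LocCoh.depth R' R' :=
  Groth.Agent.Alg6.depth_eq_of_semilinear e.toRingHom e.surjective e.toAddEquiv fun r z => map_mul e r z

section

variable {S G₁ G₂ : Scheme.{u}} (f₁ : G₁ ⟶ S) (f₂ : G₂ ⟶ S) (U : S.Opens)
  (φU : ((f₁ ⁻¹ᵁ U : G₁.Opens) : Scheme.{u}) ⟶ ((f₂ ⁻¹ᵁ U : G₂.Opens) : Scheme.{u}))

/-- Partial extensions. -/
def IsExt (W : S.Opens) (h : ((f₁ ⁻¹ᵁ W : G₁.Opens) : Scheme.{u}) ⟶ G₂) : Prop :=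
  h ≫ f₂ = (f₁ ⁻¹ᵁ W).ι ≫ f₁ ∧ ∀ (T : Scheme.{u}) (a : T ⟶ f₁ ⁻¹ᵁ W) (b : T ⟶ f₁ ⁻¹ᵁ U),
    a ≫ (f₁ ⁻¹ᵁ W).ι = b ≫ (f₁ ⁻¹ᵁ U).ι → a ≫ h = b ≫ φU ≫ (f₂ ⁻¹ᵁ U).ι

theorem IsExt.restrict {f₁ : G₁ ⟶ S} {f₂ : G₂ ⟶ S} {U : S.Opens}
    {φU : ((f₁ ⁻¹ᵁ U : G₁.Opens) : Scheme.{u}) ⟶ ((f₂ ⁻¹ᵁ U : G₂.Opens) : Scheme.{u})}
    {W W' : S.Opens} {h : ((f₁ ⁻¹ᵁ W : G₁.Opens) : Scheme.{u}) ⟶ G₂} (hh : IsExt f₁ f₂ U φU W h) (e : W' ≤ W) :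
    IsExt f₁ f₂ U φU W' (G₁.homOfLE (f₁.preimage_mono e) ≫ h) := by
  refine ⟨by rw [Category.assoc, hh.1, Scheme.homOfLE_ι_assoc], fun T a b hab => ?_⟩
  rw [← Category.assoc]
  exact hh.2 T _ b (by rw [Category.assoc, Scheme.homOfLE_ι, hab])

variable [IsLocallyNoetherian G₁]
  (hdep : ∀ x : G₁, x ∉ f₁ ⁻¹ᵁ U → (2 : ℕ∞) ≤ LocCoh.depth (G₁.presheaf.stalk x) (G₁.presheaf.stalk x))

include hdep in
theorem hartogs_local (W : S.Opens) {Y : Scheme.{u}} [IsAffine Y]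
    (g : (((f₁ ⁻¹ᵁ W).ι ⁻¹ᵁ (f₁ ⁻¹ᵁ U) : (f₁ ⁻¹ᵁ W).toScheme.Opens) : Scheme.{u}) ⟶ Y) :
    ∃! h : ((f₁ ⁻¹ᵁ W : G₁.Opens) : Scheme.{u}) ⟶ Y, ((f₁ ⁻¹ᵁ W).ι ⁻¹ᵁ (f₁ ⁻¹ᵁ U)).ι ≫ h = g := by
  refine Groth.Agent.Hartogs.existsUnique_extension _ (fun x hx => ?_) g
  refine (hdep _ hx).trans (le_of_eq ?_)
  exact depth_congr_ringEquiv (asIso ((f₁ ⁻¹ᵁ W).ι.stalkMap x)).commRingCatIsoToRingEquiv

variable [IsFinite f₂]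

include hdep in
theorem ext_unique_affine (W : S.Opens) (hW : IsAffineOpen W) {h h' : ((f₁ ⁻¹ᵁ W : G₁.Opens) : Scheme.{u}) ⟶ G₂}
    (hh : IsExt f₁ f₂ U φU W h) (hh' : IsExt f₁ f₂ U φU W h') : h = h' := by
  haveI : IsAffine (f₂ ⁻¹ᵁ W : G₂.Opens) := hW.preimage f₂
  have hr : ∀ k, IsExt f₁ f₂ U φU W k → Set.range k ⊆ Set.range (f₂ ⁻¹ᵁ W).ι := fun k hk => by
    rintro _ ⟨y, rfl⟩
    rw [Scheme.Opens.range_ι]
    show f₂ _ ∈ W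
    rw [← Scheme.Hom.comp_apply, hk.1]
    exact y.2
  let U' := (f₁ ⁻¹ᵁ W).ι ⁻¹ᵁ (f₁ ⁻¹ᵁ U)
  have hb : Set.range (U'.ι ≫ (f₁ ⁻¹ᵁ W).ι) ⊆ Set.range (f₁ ⁻¹ᵁ U).ι := by
    rintro _ ⟨y, rfl⟩
    rw [Scheme.Opens.range_ι]
    exact y.2
  have hβ := (IsOpenImmersion.lift_fac (f₁ ⁻¹ᵁ U).ι _ hb).symm
  have e : IsOpenImmersion.lift (f₂ ⁻¹ᵁ W).ι h (hr h hh) = IsOpenImmersion.lift (f₂ ⁻¹ᵁ W).ι h' (hr h' hh') := by
    refine (hartogs_local f₁ U hdep W (U'.ι ≫ IsOpenImmersion.lift (f₂ ⁻¹ᵁ W).ι h' (hr h' hh'))).unique ?_ rfl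
    rw [← cancel_mono (f₂ ⁻¹ᵁ W).ι, Category.assoc, Category.assoc, IsOpenImmersion.lift_fac,
      IsOpenImmersion.lift_fac, hh.2 _ _ _ hβ, hh'.2 _ _ _ hβ]
  simpa using congrArg (· ≫ (f₂ ⁻¹ᵁ W).ι) e

include hdep in
theorem ext_unique (W : S.Opens) {h h' : ((f₁ ⁻¹ᵁ W : G₁.Opens) : Scheme.{u}) ⟶ G₂}
    (hh : IsExt f₁ f₂ U φU W h) (hh' : IsExt f₁ f₂ U φU W h') : h = h' := by
  let 𝒱 : (f₁ ⁻¹ᵁ W : G₁.Opens).toScheme.OpenCover := Scheme.Cover.mkOfCovers {V : S.affineOpens // V.1 ≤ W}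
    (fun V => (f₁ ⁻¹ᵁ V.1.1 : G₁.Opens).toScheme) (fun V => G₁.homOfLE (f₁.preimage_mono V.2)) (fun x => by
      obtain ⟨_, ⟨V, hV, rfl⟩, hxV, hVW⟩ := S.isBasis_affineOpens.exists_subset_of_mem_open
        (show f₁ x.1 ∈ W from x.2) W.2
      exact ⟨⟨⟨V, hV⟩, hVW⟩, ⟨x.1, hxV⟩, Subtype.ext (Scheme.homOfLE_apply _ _)⟩)
  refine 𝒱.hom_ext _ _ fun V => ?_
  exact ext_unique_affine f₁ f₂ U φU hdep _ V.1.2 (hh.restrict V.2) (hh'.restrict V.2)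

include hdep in
theorem exists_ext (hφU : φU ≫ (f₂ ⁻¹ᵁ U).ι ≫ f₂ = (f₁ ⁻¹ᵁ U).ι ≫ f₁) (W : S.Opens) (hW : IsAffineOpen W) :
    ∃ h, IsExt f₁ f₂ U φU W h := by
  haveI : IsAffine (f₂ ⁻¹ᵁ W : G₂.Opens) := hW.preimage f₂
  haveI : IsAffine (W : Scheme.{u}) := hW
  let U' := (f₁ ⁻¹ᵁ W).ι ⁻¹ᵁ (f₁ ⁻¹ᵁ U)
  have hb : Set.range (U'.ι ≫ (f₁ ⁻¹ᵁ W).ι) ⊆ Set.range (f₁ ⁻¹ᵁ U).ι := by
    rintro _ ⟨y, rfl⟩
    rw [Scheme.Opens.range_ι]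
    exact y.2
  let β := IsOpenImmersion.lift (f₁ ⁻¹ᵁ U).ι _ hb
  have hβ : β ≫ (f₁ ⁻¹ᵁ U).ι = U'.ι ≫ (f₁ ⁻¹ᵁ W).ι := IsOpenImmersion.lift_fac _ _ hb
  have e : (β ≫ φU ≫ (f₂ ⁻¹ᵁ U).ι) ≫ f₂ = U'.ι ≫ (f₁ ⁻¹ᵁ W).ι ≫ f₁ := by
    simp only [Category.assoc, hφU]
    rw [← Category.assoc, hβ, Category.assoc]
  have hr : Set.range (β ≫ φU ≫ (f₂ ⁻¹ᵁ U).ι) ⊆ Set.range (f₂ ⁻¹ᵁ W).ι := by
    rintro _ ⟨y, rfl⟩
    rw [Scheme.Opens.range_ι]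
    show f₂ _ ∈ W
    rw [← Scheme.Hom.comp_apply, e]
    exact (U'.ι y).2
  obtain ⟨g, hg, -⟩ := hartogs_local f₁ U hdep W (IsOpenImmersion.lift (f₂ ⁻¹ᵁ W).ι _ hr)
  refine ⟨g ≫ (f₂ ⁻¹ᵁ W).ι, ?_, fun T a b hab => ?_⟩
  · have h2 := (hartogs_local f₁ U hdep W (U'.ι ≫ f₁.resLE W (f₁ ⁻¹ᵁ W) le_rfl)).unique
      (y₁ := g ≫ f₂.resLE W (f₂ ⁻¹ᵁ W) le_rfl) (y₂ := f₁.resLE W (f₁ ⁻¹ᵁ W) le_rfl) ?_ rfl
    · simpa using congrArg (· ≫ W.ι) h2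
    · rw [← cancel_mono W.ι]
      simp only [Category.assoc, Scheme.Hom.resLE_comp_ι]
      rw [← Category.assoc U'.ι g, hg, IsOpenImmersion.lift_fac_assoc, e]
  · have hra : Set.range a ⊆ Set.range U'.ι := by
      rintro _ ⟨y, rfl⟩
      rw [Scheme.Opens.range_ι]
      show (a ≫ (f₁ ⁻¹ᵁ W).ι) y ∈ (f₁ ⁻¹ᵁ U)
      rw [hab]
      exact (b y).2
    let c := IsOpenImmersion.lift U'.ι a hra
    have hc : c ≫ U'.ι = a := IsOpenImmersion.lift_fac _ _ hra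
    have hcb : c ≫ β = b := by
      rw [← cancel_mono (f₁ ⁻¹ᵁ U).ι, Category.assoc, hβ, ← Category.assoc, hc, hab]
    rw [← hc, Category.assoc, ← Category.assoc U'.ι g, hg, IsOpenImmersion.lift_fac, ← Category.assoc, hcb]

end

/-- Let `S` be a Noetherian scheme, `f_1 : G_1 → S` and `f_2 : G_2 → S` finite flat morphisms, and `U ⊆
S` an open subset such that at every point of `S` outside `U` the local ring of `S` has depth at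
least `2` (equivalently, for Noetherian `S`: `U` contains every point of codimension at most `1` and
every point at which `S` fails Serre's condition `S_2`). Then every morphism `f_1⁻¹(U) → f_2⁻¹(U)`
over `U` is the restriction of exactly one `S`-morphism `G_1 → G_2`. (The published statements draw
this conclusion for homomorphisms of finite flat group schemes and for group-scheme actions on
finite flat schemes; this row states the underlying extension property of morphisms of finite flat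
`S`-schemes, from which those follow by uniqueness.) -/
theorem result
    (S G₁ G₂ : Scheme.{u}) [AlgebraicGeometry.IsNoetherian S] (f₁ : G₁ ⟶ S) (f₂ : G₂ ⟶ S)
    [AlgebraicGeometry.IsFinite f₁] [AlgebraicGeometry.Flat f₁]
    [AlgebraicGeometry.IsFinite f₂] [AlgebraicGeometry.Flat f₂]
    (U : S.Opens)
    (hU : ∀ s : S, s ∉ U → (2 : ℕ∞) ≤ LocCoh.depth (S.presheaf.stalk s) (S.presheaf.stalk s))
    (φU : ((f₁ ⁻¹ᵁ U : G₁.Opens) : Scheme.{u}) ⟶ ((f₂ ⁻¹ᵁ U : G₂.Opens) : Scheme.{u}))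
    (hφU : φU ≫ (f₂ ⁻¹ᵁ U).ι ≫ f₂ = (f₁ ⁻¹ᵁ U).ι ≫ f₁) :
    ∃! φ : G₁ ⟶ G₂, φ ≫ f₂ = f₁ ∧ (f₁ ⁻¹ᵁ U).ι ≫ φ = φU ≫ (f₂ ⁻¹ᵁ U).ι := by
  haveI : IsLocallyNoetherian G₁ := LocallyOfFiniteType.isLocallyNoetherian f₁
  have hdep : ∀ x : G₁, x ∉ f₁ ⁻¹ᵁ U → (2 : ℕ∞) ≤ LocCoh.depth (G₁.presheaf.stalk x) (G₁.presheaf.stalk x) :=
    fun x hx => (hU (f₁ x) hx).trans (depth_stalk_eq_of_finite f₁ x).ge
  -- existence over affine opens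
  have hex : ∀ V : S.affineOpens, ∃ h, IsExt f₁ f₂ U φU V.1 h := fun V => exists_ext f₁ f₂ U φU hdep hφU V.1 V.2
  choose h hh using hex
  let 𝒰 : G₁.OpenCover := G₁.openCoverOfIsOpenCover (fun V : S.affineOpens => f₁ ⁻¹ᵁ V.1) (by
    refine top_le_iff.mp fun x _ => ?_
    obtain ⟨_, ⟨V, hV, rfl⟩, hxV, -⟩ := S.isBasis_affineOpens.exists_subset_of_mem_open
      (TopologicalSpace.Opens.mem_top (f₁ x)) isOpen_univ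
    exact TopologicalSpace.Opens.mem_iSup.mpr ⟨⟨V, hV⟩, hxV⟩)
  have hcompat : ∀ V V' : S.affineOpens, Limits.pullback.fst (f₁ ⁻¹ᵁ V.1).ι (f₁ ⁻¹ᵁ V'.1).ι ≫ h V =
      Limits.pullback.snd (f₁ ⁻¹ᵁ V.1).ι (f₁ ⁻¹ᵁ V'.1).ι ≫ h V' := by
    intro V V'
    have hr : Set.range (Limits.pullback.fst (f₁ ⁻¹ᵁ V.1).ι (f₁ ⁻¹ᵁ V'.1).ι ≫ (f₁ ⁻¹ᵁ V.1).ι) ⊆
        Set.range (f₁ ⁻¹ᵁ (V.1 ⊓ V'.1)).ι := by
      rintro _ ⟨y, rfl⟩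
      rw [Scheme.Opens.range_ι]
      refine ⟨?_, ?_⟩
      · exact (Limits.pullback.fst (f₁ ⁻¹ᵁ V.1).ι (f₁ ⁻¹ᵁ V'.1).ι y).2
      · show f₁ _ ∈ V'.1
        rw [Limits.pullback.condition]
        exact (Limits.pullback.snd (f₁ ⁻¹ᵁ V.1).ι (f₁ ⁻¹ᵁ V'.1).ι y).2
    let c := IsOpenImmersion.lift (f₁ ⁻¹ᵁ (V.1 ⊓ V'.1)).ι _ hr
    have e1 : c ≫ G₁.homOfLE (f₁.preimage_mono (inf_le_left : V.1 ⊓ V'.1 ≤ V.1)) =
        Limits.pullback.fst (f₁ ⁻¹ᵁ V.1).ι (f₁ ⁻¹ᵁ V'.1).ι := by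
      rw [← cancel_mono (f₁ ⁻¹ᵁ V.1).ι, Category.assoc, Scheme.homOfLE_ι, IsOpenImmersion.lift_fac]
    have e2 : c ≫ G₁.homOfLE (f₁.preimage_mono (inf_le_right : V.1 ⊓ V'.1 ≤ V'.1)) =
        Limits.pullback.snd (f₁ ⁻¹ᵁ V.1).ι (f₁ ⁻¹ᵁ V'.1).ι := by
      rw [← cancel_mono (f₁ ⁻¹ᵁ V'.1).ι, Category.assoc, Scheme.homOfLE_ι, IsOpenImmersion.lift_fac,
        Limits.pullback.condition]
    rw [← e1, ← e2, Category.assoc, Category.assoc]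
    exact congrArg (c ≫ ·) (ext_unique f₁ f₂ U φU hdep _ ((hh V).restrict inf_le_left) ((hh V').restrict inf_le_right))
  let φ : G₁ ⟶ G₂ := 𝒰.glueMorphisms h hcompat
  have hφ : ∀ V : S.affineOpens, (f₁ ⁻¹ᵁ V.1).ι ≫ φ = h V := fun V => 𝒰.ι_glueMorphisms h hcompat V
  refine ⟨φ, ⟨𝒰.hom_ext _ _ fun V => ?_, ?_⟩, fun ψ hψ => 𝒰.hom_ext _ _ fun V => ?_⟩
  · show (f₁ ⁻¹ᵁ V.1).ι ≫ φ ≫ f₂ = (f₁ ⁻¹ᵁ V.1).ι ≫ f₁
    exact (Category.assoc _ _ _).symm.trans ((congrArg (· ≫ f₂) (hφ V)).trans (hh V).1)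
  · refine Scheme.Cover.hom_ext (𝒰.pullback₁ (f₁ ⁻¹ᵁ U).ι) _ _ fun (V : S.affineOpens) => ?_
    show Limits.pullback.fst (f₁ ⁻¹ᵁ U).ι (f₁ ⁻¹ᵁ V.1).ι ≫ (f₁ ⁻¹ᵁ U).ι ≫ φ =
      Limits.pullback.fst (f₁ ⁻¹ᵁ U).ι (f₁ ⁻¹ᵁ V.1).ι ≫ φU ≫ (f₂ ⁻¹ᵁ U).ι
    refine ((reassoc_of% (Limits.pullback.condition (f := (f₁ ⁻¹ᵁ U).ι) (g := (f₁ ⁻¹ᵁ V.1).ι))) φ).trans ?_
    refine (congrArg (_ ≫ ·) (hφ V)).trans ?_
    exact ((hh V).2 _ _ _ Limits.pullback.condition.symm)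
  · show (f₁ ⁻¹ᵁ V.1).ι ≫ ψ = (f₁ ⁻¹ᵁ V.1).ι ≫ φ
    refine Eq.trans ?_ (hφ V).symm
    refine ext_unique f₁ f₂ U φU hdep _ ⟨?_, fun T a b hab => ?_⟩ (hh V)
    · rw [Category.assoc, hψ.1]
    · rw [← Category.assoc, hab, Category.assoc, hψ.2]

end Groth.Agent.S19995
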