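import Groth.Statements.S20000
import Groth.Agent.GaSectLib.Section

set_option autoImplicit false
set_option backward.isDefEq.respectTransparency false
set_option backward.isDefEq.respectTransparency.types false
set_option maxHeartbeats 1000000
set_option linter.style.haveILetI false
universe u
open Neron

namespace Groth.Agent.S20000

open CategoryTheory CategoryTheory.Limits MonoidalCategory CartesianMonoidalCategory MonObj AlgebraicGeometry

open CategoryTheory AlgebraicGeometry in
/-- Let `κ` be an arbitrary field and `G`, `G''` smooth connected commutative group schemes of finite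
type over `κ`. Let `q : G → G''` be a homomorphism which is flat and surjective, and `i : 𝔾_a → G` a
homomorphism exhibiting the additive group as the kernel of `q` (so `0 → 𝔾_a → G → G'' → 0` is exact
in the fppf topology). If `G''` is unirational, i.e. admits a dominant `κ`-morphism from a nonempty
open subscheme of an affine space over `κ`, then so does `G`. (The published statement allows the
kernel to be any repeated extension of copies of `𝔾_a`; this row is the case of a single copy, from
which the general case follows by induction on the length.) -/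
theorem result
    (κ : Type u) [Field κ]
    (G G'' : Over (Spec (CommRingCat.of κ))) [GrpObj G] [IsCommMonObj G] [GrpObj G''] [IsCommMonObj G'']
    [Smooth G.hom] [LocallyOfFiniteType G.hom] [QuasiCompact G.hom] [ConnectedSpace G.left]
    [Smooth G''.hom] [LocallyOfFiniteType G''.hom] [QuasiCompact G''.hom] [ConnectedSpace G''.left]
    (q : G ⟶ G'') [IsMonHom q] [Flat q.left] (hq : Function.Surjective q.left.base)
    (i : Red.Ga (Spec (CommRingCat.of κ)) ⟶ G) [IsMonHom i] (hker : AlgGrp.IsKernel i q)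
    (huni : ∃ (n : ℕ) (V : (AffineSpace (ULift.{u} (Fin n)) (Spec (CommRingCat.of κ))).Opens)
        (ψ : (V : Scheme.{u}) ⟶ G''.left),
      (V : Set (AffineSpace (ULift.{u} (Fin n)) (Spec (CommRingCat.of κ)))).Nonempty ∧ DenseRange ψ.base ∧
      ψ ≫ G''.hom = V.ι ≫ (AffineSpace (ULift.{u} (Fin n)) (Spec (CommRingCat.of κ)) ↘ Spec (CommRingCat.of κ))) :
    ∃ (n : ℕ) (V : (AffineSpace (ULift.{u} (Fin n)) (Spec (CommRingCat.of κ))).Opens)
        (ψ : (V : Scheme.{u}) ⟶ G.left),
      (V : Set (AffineSpace (ULift.{u} (Fin n)) (Spec (CommRingCat.of κ)))).Nonempty ∧ DenseRange ψ.base ∧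
      ψ ≫ G.hom = V.ι ≫ (AffineSpace (ULift.{u} (Fin n)) (Spec (CommRingCat.of κ)) ↘ Spec (CommRingCat.of κ)) := by
  classical
  obtain ⟨n, V, ψ, ⟨x₀, hx₀⟩, hψd, hψ⟩ := huni
  let K := Spec (CommRingCat.of κ)
  let An := AffineSpace (ULift.{u} (Fin n)) K
  let An1 := AffineSpace (ULift.{u} (Fin (n + 1))) K
  haveI : IsLocallyNoetherian G''.left := LocallyOfFiniteType.isLocallyNoetherian G''.hom
  haveI : QuasiCompact (q.left ≫ G''.hom) := by rw [Over.w q]; infer_instance
  haveI : QuasiCompact q.left := QuasiCompact.of_comp q.left G''.hom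
  haveI : LocallyOfFiniteType (q.left ≫ G''.hom) := by rw [Over.w q]; infer_instance
  haveI : LocallyOfFiniteType q.left := locallyOfFiniteType_of_comp q.left G''.hom
  haveI : Surjective q.left := ⟨hq⟩
  obtain ⟨A, hA, hxA, hAV⟩ := exists_isAffineOpen_mem_and_subset hx₀
  let H : Over K := Over.mk (A.ι ≫ (An ↘ K))
  haveI : IsAffine H.left := hA
  let v : H ⟶ G'' := Over.homMk (An.homOfLE hAV ≫ ψ) (by
    rw [Category.assoc, hψ, ← Category.assoc, Scheme.homOfLE_ι]; rfl)
  obtain ⟨σ, hσ⟩ := Groth.Agent.GaSectLib.exists_section hker v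
  let r : An1 ⟶ An := AffineSpace.reindex (fun j : ULift.{u} (Fin n) => ULift.up j.down.succ) K
  let W : An1.Opens := r ⁻¹ᵁ A
  let T : Over K := Over.mk (W.ι ≫ (An1 ↘ K))
  let rA : T ⟶ H := Over.homMk (r ∣_ A) (by
    show (r ∣_ A) ≫ A.ι ≫ (An ↘ K) = W.ι ≫ (An1 ↘ K)
    rw [← Category.assoc, morphismRestrict_ι, Category.assoc, AffineSpace.reindex_over])
  let c : T ⟶ Red.Ga K :=
    Groth.Agent.GrpSchLib.GaPts.ptOfFn (W.ι.appTop (AffineSpace.coord K (ULift.up (0 : Fin (n + 1)))))
  let Φ : T ⟶ G := (c ≫ i) * (rA ≫ σ)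
  have hr : Function.Surjective r := by
    intro a
    let s : An ⟶ An1 := AffineSpace.homOfVector (An ↘ K)
      (fun j => Fin.cases (0 : Γ(An, ⊤)) (fun l => AffineSpace.coord K (ULift.up l)) j.down)
    have hs : s ≫ r = 𝟙 An := by
      refine AffineSpace.hom_ext (by rw [Category.assoc, AffineSpace.reindex_over, AffineSpace.homOfVector_over, Category.id_comp]) fun j => ?_
      rw [Scheme.Hom.comp_appTop, CommRingCat.comp_apply, AffineSpace.reindex_appTop_coord,
        AffineSpace.homOfVector_appTop_coord]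
      rfl
    exact ⟨s a, by rw [← Scheme.Hom.comp_apply, hs]; rfl⟩
  refine ⟨n + 1, W, Φ.left, ?_, ?_, Over.w Φ⟩
  · obtain ⟨y, hy⟩ := hr x₀
    exact ⟨y, show r y ∈ A from hy.symm ▸ hxA⟩
  have hsub : q.left.base ⁻¹' Set.range v.left.base ⊆ Set.range Φ.left.base := by
    rintro g ⟨a, ha⟩
    obtain ⟨z, hz, -⟩ := Scheme.Pullback.exists_preimage_pullback (f := q.left) (g := v.left) g a ha.symm
    let P : Over K := Over.mk (pullback.snd q.left v.left ≫ H.hom)
    let γ : P ⟶ G := Over.homMk (pullback.fst q.left v.left) (by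
      show _ = pullback.snd q.left v.left ≫ H.hom
      rw [← Over.w q, ← Over.w v, pullback.condition_assoc])
    let ν : P ⟶ H := Over.homMk (pullback.snd q.left v.left) rfl
    have hγν : γ ≫ q = ν ≫ v := Over.OverMorphism.ext pullback.condition
    obtain ⟨t, ht⟩ := Groth.Agent.GaSectLib.exists_diff hker (ν ≫ σ) γ (by rw [Category.assoc, hσ, hγν])
    let m0 : P.left ⟶ An1 := AffineSpace.homOfVector P.hom
      (fun j => Fin.cases (Red.gaFn t) (fun l => (ν.left ≫ A.ι).appTop (AffineSpace.coord K (ULift.up l))) j.down)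
    have hm0 : m0 ≫ r = ν.left ≫ A.ι := by
      refine AffineSpace.hom_ext ?_ fun j => ?_
      · rw [Category.assoc, AffineSpace.reindex_over, AffineSpace.homOfVector_over, Category.assoc]
        exact (Over.w ν).symm
      · rw [Scheme.Hom.comp_appTop m0 r, CommRingCat.comp_apply, AffineSpace.reindex_appTop_coord,
          AffineSpace.homOfVector_appTop_coord]
        rfl
    have hrange : Set.range m0 ⊆ Set.range W.ι := by
      rw [Scheme.Opens.range_ι]
      rintro _ ⟨p, rfl⟩
      show (m0 ≫ r) p ∈ A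
      rw [hm0]
      exact (ν.left p).2
    let m1 : P.left ⟶ (W : Scheme.{u}) := IsOpenImmersion.lift W.ι m0 hrange
    have hm1 : m1 ≫ W.ι = m0 := IsOpenImmersion.lift_fac _ _ _
    let m : P ⟶ T := Over.homMk m1 (by
      show m1 ≫ W.ι ≫ (An1 ↘ K) = P.hom
      rw [← Category.assoc, hm1, AffineSpace.homOfVector_over])
    have hmr : m ≫ rA = ν := Over.OverMorphism.ext ((cancel_mono A.ι).1 (by
      show (m1 ≫ (r ∣_ A)) ≫ A.ι = ν.left ≫ A.ι
      rw [Category.assoc, morphismRestrict_ι, ← Category.assoc, hm1, hm0]))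
    have hmc : m ≫ c = t := by
      apply Groth.Agent.GrpSchLib.GaPts.gaFn_injective
      show Red.gaFn (m ≫ c) = Red.gaFn t
      rw [Groth.Agent.GrpSchLib.GaPts.gaFn_comp, Groth.Agent.GrpSchLib.GaPts.gaFn_ptOfFn]
      show (W.ι.appTop ≫ m1.appTop) (AffineSpace.coord K (ULift.up (0 : Fin (n + 1)))) = _
      rw [← Scheme.Hom.comp_appTop, hm1, AffineSpace.homOfVector_appTop_coord]
      rfl
    have hmΦ : m ≫ Φ = γ := by
      rw [MonObj.comp_mul, ← Category.assoc, ← Category.assoc, hmc, hmr, ht, _root_.mul_comm]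
      exact mul_inv_cancel_left _ _
    refine ⟨m.left z, ?_⟩
    rw [← hz]
    show (m ≫ Φ).left z = γ.left z
    rw [hmΦ]
  have hdense : Dense (Set.range v.left.base) := by
    have hop : IsOpen ((V.ι.base) ⁻¹' (A : Set An)) := A.2.preimage V.ι.continuous
    haveI : IrreducibleSpace (V : Scheme.{u}) :=
      haveI : Nonempty (V : Scheme.{u}) := ⟨⟨x₀, hx₀⟩⟩
      inferInstance
    have h1 : Dense ((V.ι.base) ⁻¹' (A : Set An)) := hop.dense ⟨⟨x₀, hx₀⟩, hxA⟩
    refine Dense.mono ?_ (hψd.dense_image ψ.continuous h1)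
    rintro _ ⟨⟨a, haV⟩, haA, rfl⟩
    exact ⟨(⟨a, haA⟩ : (A : Scheme.{u})), congrArg ψ.base (Subtype.ext (congrArg (fun g : (A : Scheme.{u}) ⟶ An => g (⟨a, haA⟩ : (A : Scheme.{u}))) (An.homOfLE_ι hAV)))⟩
  exact Dense.mono hsub (hdense.preimage q.left.isOpenMap)

end Groth.Agent.S20000
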