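import Groth.Statements.S20014
import Groth.Agent.CurveEmbed.Equiv
import Groth.Agent.NeronHDLib.IntClosureNormal
import Groth.Agent.H23.GeomConnGamma
import Groth.Agent.S9821

set_option autoImplicit false
set_option backward.isDefEq.respectTransparency false
set_option backward.isDefEq.respectTransparency.types false
set_option linter.style.haveILetI false
universe u
open CategoryTheory CategoryTheory.Limits AlgebraicGeometry
open RatSing

namespace Groth.Agent.S20014
open Groth.Agent

/-- Let k be a field, X an integral k-scheme which is separated and of finite type over k, and f : X̃ →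
X a proper morphism of k-schemes which is birational — an isomorphism over some nonempty open subset
of X — and for which O_X → f_*O_X̃ is an isomorphism (Γ(V, O_X) → Γ(f⁻¹V, O_X̃) bijective for every
open V of X). If X̃ is normal (every local ring an integrally closed domain), then X is normal. (In
the text this is the last clause of a lemma whose other hypotheses — X̃ Cohen–Macaulay, vanishing of
the higher direct images of O_X̃ and of the dualizing sheaf — and whose standing assumption that k
is perfect of positive characteristic play no role in this clause; they are omitted here.) -/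
theorem result (k : Type u) [Field k]
    (X Xt : Scheme.{u}) [X.Over (Spec (CommRingCat.of k))] [Xt.Over (Spec (CommRingCat.of k))]
    [IsIntegral X] [IsSeparated (X ↘ Spec (CommRingCat.of k))]
    [LocallyOfFiniteType (X ↘ Spec (CommRingCat.of k))] [QuasiCompact (X ↘ Spec (CommRingCat.of k))]
    (f : Xt ⟶ X) (hf : f ≫ (X ↘ Spec (CommRingCat.of k)) = Xt ↘ Spec (CommRingCat.of k)) [IsProper f]
    (U : X.Opens) (hU : (U : Set X).Nonempty) (hbir : IsIso (f ∣_ U))
    (hfib : ∀ V : X.Opens, IsIso (f.app V))
    (hXt : Pi1.IsNormalScheme Xt) : Pi1.IsNormalScheme X := by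
  haveI : IsLocallyNoetherian X := LocallyOfFiniteType.isLocallyNoetherian (X ↘ Spec (CommRingCat.of k))
  haveI : CompactSpace X := QuasiCompact.compactSpace_of_compactSpace (X ↘ Spec (CommRingCat.of k))
  haveI : IsNoetherian X := {}
  haveI : IsLocallyNoetherian Xt := LocallyOfFiniteType.isLocallyNoetherian f
  haveI : CompactSpace Xt := QuasiCompact.compactSpace_of_compactSpace f
  haveI : IsNoetherian Xt := {}
  haveI := hfib ⊤
  let e : Γ(X, ⊤) ≃+* Γ(Xt, f ⁻¹ᵁ ⊤) := (asIso (f.app ⊤)).commRingCatIsoToRingEquiv
  haveI : IsDomain Γ(Xt, ⊤) := (show Γ(Xt, ⊤) ≃+* Γ(X, ⊤) from e.symm).toMulEquiv.isDomain _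
  haveI : ConnectedSpace Xt := Groth.Agent.H23.GeomConnGamma.connectedSpace_of_idem fun a ha => by
    rcases IsIdempotentElem.iff_eq_zero_or_one.1 ha with h | h
    · exact Or.inl h
    · exact Or.inr h
  haveI : IsIntegral Xt := Groth.Agent.CurveEmbed.isIntegral_of_normal_connected hXt
  refine (Groth.Agent.S9821.result X).2 fun V hne hV => ?_
  haveI := hfib V
  let eV : Γ(X, V) ≃+* Γ(Xt, f ⁻¹ᵁ V) := (asIso (f.app V)).commRingCatIsoToRingEquiv
  haveI : IsDomain Γ(Xt, f ⁻¹ᵁ V) := eV.symm.toMulEquiv.isDomain _
  haveI : Nonempty ↥(f ⁻¹ᵁ V).toScheme := by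
    by_contra h
    rw [not_nonempty_iff] at h
    have hbot : (f ⁻¹ᵁ V) = ⊥ := TopologicalSpace.Opens.ext (Set.eq_empty_iff_forall_notMem.2 fun z hz => h.false ⟨z, hz⟩)
    haveI : Subsingleton Γ(Xt, f ⁻¹ᵁ V) := by rw [hbot]; infer_instance
    exact not_subsingleton Γ(Xt, f ⁻¹ᵁ V) inferInstance
  haveI : IsIntegral (f ⁻¹ᵁ V).toScheme := isIntegral_of_isOpenImmersion (f ⁻¹ᵁ V).ι
  haveI := Groth.Agent.NeronHDLib.isIntegrallyClosed_sections hXt (f ⁻¹ᵁ V)
  exact IsIntegrallyClosed.of_equiv eV.symm

end Groth.Agent.S20014
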