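import Groth.Statements.S20017
import Groth.Agent.FinTorsor.Main
-- import your own Groth.Agent.* helpers here

set_option autoImplicit false
set_option backward.isDefEq.respectTransparency false
set_option maxHeartbeats 1000000
set_option linter.style.haveILetI false
universe u
open CategoryTheory AlgebraicGeometry
open NonAbH1

namespace Groth.Agent.S20017

/-- Let X be a normal integral scheme (integral, with every local ring integrally closed), G a group
scheme over X whose structure morphism is finite and flat, and U ⊆ X a dense open subscheme. Then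
the restriction map H¹(X, G) → H¹(U, G|_U) on classes of fppf G-torsors — X-schemes with a G-action
which are pseudo-torsors and acquire sections on the members of some fppf covering family, up to
equivariant isomorphism — given by base change along the open immersion U → X, is injective. (G is
not assumed commutative; injectivity is that of a map of pointed sets.) -/
theorem result
    (X : Scheme.{u}) [AlgebraicGeometry.IsIntegral X] (hX : Pi1.IsNormalScheme X)
    (G : Over X) [GrpObj G] [IsFinite G.hom] [Flat G.hom]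
    (U : X.Opens) (hU : Dense (U : Set X)) :
    Function.Injective (NonAbH1.H1Sch.bcMap U.ι G Scheme.fppfPrecoverage) := by
  intro c d hcd
  induction c using Quot.ind with | _ P => ?_
  induction d using Quot.ind with | _ Q => ?_
  change Quot.mk _ (P.bc U.ι) = Quot.mk _ (Q.bc U.ι) at hcd
  have hrel : Nonempty (NonAbH1.EquivIso (P.bc U.ι).act (Q.bc U.ι).act) := by
    refine Equivalence.eqvGen_iff ?_ |>.1 (Quot.eqvGen_exact hcd)
    refine ⟨fun T => ⟨⟨Iso.refl _, ?_⟩⟩, fun {T U} ⟨e⟩ => ⟨⟨e.iso.symm, ?_⟩⟩, fun {T U V} ⟨e⟩ ⟨e'⟩ => ⟨⟨e.iso.trans e'.iso, ?_⟩⟩⟩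
    · simp
    · rw [Iso.symm_hom, ← cancel_mono e.iso.hom]
      simp only [Category.assoc, Iso.inv_hom_id, Category.comp_id]
      rw [e.comm, ← MonoidalCategory.whiskerLeft_comp_assoc, Iso.inv_hom_id, MonoidalCategory.whiskerLeft_id,
        Category.id_comp]
    · rw [Iso.trans_hom, reassoc_of% e.comm, e'.comm, MonoidalCategory.whiskerLeft_comp_assoc]
  obtain ⟨e⟩ := hrel
  haveI : Nonempty U := by
    obtain ⟨x, hx⟩ := hU.nonempty
    exact ⟨⟨x, hx⟩⟩
  have hfpqc : ∀ R : NonAbH1.TorsorSch G Scheme.fppfPrecoverage, NonAbH1.IsTorsorFor Scheme.fpqcPrecoverage R.act :=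
    fun R => ⟨R.isTorsor.1, R.isTorsor.2.choose,
      Scheme.fppfPrecoverage_le_fpqcPrecoverage _ R.isTorsor.2.choose_spec.1, R.isTorsor.2.choose_spec.2⟩
  obtain ⟨f, hf⟩ := FinTorsor.exists_hom e hX (hfpqc P) (hfpqc Q)
  haveI := SchTorsor.isIso_of_equivariant (hfpqc P) Q.isTorsor.1 f hf
  exact Quot.sound ⟨⟨asIso f, hf⟩⟩

end Groth.Agent.S20017
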