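import Groth.Statements.S20025
import Mathlib

set_option autoImplicit false
universe u
open InvQ

namespace Groth.Agent.S20025

/-- A linear form attached to a root point. -/
noncomputable def lin {k : Type u} [CommRing k] (a b : k) : MvPolynomial (Fin 2) k :=
  MvPolynomial.C b * MvPolynomial.X 0 - MvPolynomial.C a * MvPolynomial.X 1

theorem subst_adjugate {k : Type u} [CommRing k] (M : Matrix (Fin 2) (Fin 2) k) (i : Fin 2) :
    W4c6intromoduli.subst M.adjugate (W4c6intromoduli.subst M (MvPolynomial.X i)) = MvPolynomial.C M.det * MvPolynomial.X i := by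
  fin_cases i <;> simp [W4c6intromoduli.subst, Fin.sum_univ_two, Matrix.adjugate_fin_two, Matrix.det_fin_two] <;> ring

theorem not_both {k : Type u} [Field k] (M M' : Matrix (Fin 2) (Fin 2) k) (c c' : k) (hM : IsUnit M.det) (hc : c ≠ 0) (hc' : c' ≠ 0)
    (h : MvPolynomial.C c * W4c6intromoduli.subst M
        (MvPolynomial.X 0 ^ 2 * MvPolynomial.X 1 * (MvPolynomial.X 0 - MvPolynomial.X 1)) =
      MvPolynomial.C c' * W4c6intromoduli.subst M' (MvPolynomial.X 0 ^ 2 * MvPolynomial.X 1 ^ 2)) : False := by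
  let φ : MvPolynomial (Fin 2) k →ₐ[k] Polynomial k := MvPolynomial.aeval ![1, Polynomial.X]
  let H := φ (W4c6intromoduli.subst M.adjugate (W4c6intromoduli.subst M' (MvPolynomial.X 0 * MvPolynomial.X 1)))
  have h2 := congrArg (fun p => φ (W4c6intromoduli.subst M.adjugate p)) h
  have hC : ∀ x : k, W4c6intromoduli.subst M.adjugate (MvPolynomial.C x) = MvPolynomial.C x := fun x => by
    simp [W4c6intromoduli.subst]
  simp only [map_mul, map_pow, map_sub, subst_adjugate, hC] at h2
  have hφC : ∀ x : k, φ (MvPolynomial.C x) = Polynomial.C x := fun x => by simp [φ]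
  have hφ0 : φ (MvPolynomial.X 0) = 1 := by simp [φ]
  have hφ1 : φ (MvPolynomial.X 1) = Polynomial.X := by simp [φ]
  simp only [hφC, hφ0, hφ1] at h2
  have h3 : Polynomial.C (c * M.det ^ 4) * (Polynomial.X * (1 - Polynomial.X)) = Polynomial.C c' * H ^ 2 := by
    simp only [H, map_mul, map_pow]
    linear_combination h2
  have hX : Polynomial.X ∣ H := by
    refine Polynomial.prime_X.dvd_of_dvd_pow (n := 2) ?_
    have hd : Polynomial.X ∣ Polynomial.C c' * H ^ 2 := by
      rw [← h3]; exact dvd_mul_of_dvd_right (dvd_mul_right _ _) _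
    exact (Polynomial.prime_X.dvd_or_dvd hd).resolve_left (fun hd' => hc' (by
      rw [Polynomial.X_dvd_iff, Polynomial.coeff_C_zero] at hd'; exact hd'))
  obtain ⟨H', hH'⟩ := hX
  rw [hH'] at h3
  have h4 := congrArg (fun p => Polynomial.coeff p 1) h3
  have e : Polynomial.C c' * (Polynomial.X * H') ^ 2 = Polynomial.C c' * H' ^ 2 * Polynomial.X ^ 2 := by ring
  simp only [e, Polynomial.coeff_mul_X_pow', Polynomial.coeff_C_mul] at h4
  simp [Polynomial.coeff_X_mul, Polynomial.coeff_one, Polynomial.coeff_X] at h4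
  exact h4.elim hc (fun h0 => hM.ne_zero (by simpa using h0))

/-- For the special fibre of the invariant map, over a field in which 2 and 3 are nonzero, consider a
split binary quartic f = ∏_i (μ_i X₀ − λ_i X₁) given by four root points (λ_i, μ_i) ≠ (0, 0), with a
double zero (vanishing discriminant ∏_{i<j} (λ_j μ_i − λ_i μ_j)²) and no triple zero (no three root
points pairwise proportional); these are the forms of the fibre over the special point P³/Q² = 6 of
the invariant map. Then exactly one of the two alternatives holds: f is a nonzero constant times the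
form X₀² X₁ (X₀ − X₁) after an invertible linear substitution of the variables, or f is a nonzero
constant times X₀² X₁² after such a substitution. So this fibre consists of exactly two classes
under substitutions and scalars (one double zero and two simple zeros; two double zeros). (The
dimensions of the two orbits and which of them is open or closed in the fibre are not part of this
row; stated for split forms over any such field.) -/
theorem result (k : Type u) [Field k]
    (h2 : (2 : k) ≠ 0) (h3 : (3 : k) ≠ 0) (la mu : Fin 4 → k)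
    (hne : ∀ i, la i ≠ 0 ∨ mu i ≠ 0) (hd : W4c6intromoduli.disc la mu = 0)
    (h3z : ∀ i j l : Fin 4, i ≠ j → j ≠ l → i ≠ l →
      ¬ (la i * mu j = la j * mu i ∧ la j * mu l = la l * mu j)) :
    Xor
      (∃ (M : Matrix (Fin 2) (Fin 2) k) (c : k), IsUnit M.det ∧ c ≠ 0 ∧
        W4c6intromoduli.binForm la mu =
          MvPolynomial.C c * W4c6intromoduli.subst M
            (MvPolynomial.X 0 ^ 2 * MvPolynomial.X 1 * (MvPolynomial.X 0 - MvPolynomial.X 1)))
      (∃ (M : Matrix (Fin 2) (Fin 2) k) (c : k), IsUnit M.det ∧ c ≠ 0 ∧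
        W4c6intromoduli.binForm la mu =
          MvPolynomial.C c * W4c6intromoduli.subst M
            (MvPolynomial.X 0 ^ 2 * MvPolynomial.X 1 ^ 2)) := by
  classical
  obtain ⟨i, j, hij, hp⟩ : ∃ i j : Fin 4, i ≠ j ∧ la j * mu i = la i * mu j := by
    rw [W4c6intromoduli.disc, Finset.prod_eq_zero_iff] at hd
    obtain ⟨p, hp, h⟩ := hd
    exact ⟨p.1, p.2, (Finset.mem_filter.1 hp).2.ne, sub_eq_zero.1 ((pow_eq_zero_iff two_ne_zero).1 h)⟩
  obtain ⟨e, he0, he1⟩ : ∃ e : Equiv.Perm (Fin 4), e 0 = i ∧ e 1 = j := by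
    revert hij; clear hp
    revert i j; decide
  have hform : W4c6intromoduli.binForm la mu = lin (la (e 0)) (mu (e 0)) * lin (la (e 1)) (mu (e 1)) * lin (la (e 2)) (mu (e 2)) * lin (la (e 3)) (mu (e 3)) := by
    rw [W4c6intromoduli.binForm, ← Equiv.prod_comp e, Fin.prod_univ_four]; rfl
  -- the proportional pair
  obtain ⟨t, ht, hla, hmu⟩ : ∃ t : k, t ≠ 0 ∧ la (e 1) = t * la (e 0) ∧ mu (e 1) = t * mu (e 0) := by
    rw [he0, he1]
    rcases hne i with h | h
    · refine ⟨la j / la i, fun h0 => ?_, (div_mul_cancel₀ _ h).symm, ?_⟩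
      · have hla0 : la j = 0 := (div_eq_zero_iff.1 h0).resolve_right h
        rw [hla0, zero_mul] at hp
        exact (hne j).elim (fun h' => h' hla0) (fun h' => h' ((mul_eq_zero.1 hp.symm).resolve_left h))
      · field_simp; linear_combination -hp
    · refine ⟨mu j / mu i, fun h0 => ?_, ?_, (div_mul_cancel₀ _ h).symm⟩
      · have hmu0 : mu j = 0 := (div_eq_zero_iff.1 h0).resolve_right h
        rw [hmu0, mul_zero] at hp
        exact (hne j).elim (fun h' => h' ((mul_eq_zero.1 hp).resolve_right h)) (fun h' => h' hmu0)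
      · field_simp; linear_combination hp
  -- no triple zero
  have hnp : ∀ l : Fin 4, l ≠ 0 → l ≠ 1 → la (e l) * mu (e 0) - la (e 0) * mu (e l) ≠ 0 := by
    intro l hl0 hl1 h
    refine h3z (e 1) (e 0) (e l) (e.injective.ne (by decide)) (e.injective.ne hl0.symm) (e.injective.ne hl1.symm) ⟨?_, ?_⟩
    · rw [hla, hmu]; ring
    · linear_combination -h
  set d02 := la (e 2) * mu (e 0) - la (e 0) * mu (e 2) with hd02
  set d03 := la (e 3) * mu (e 0) - la (e 0) * mu (e 3) with hd03
  set d23 := la (e 3) * mu (e 2) - la (e 2) * mu (e 3) with hd23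
  have h02 : d02 ≠ 0 := hnp 2 (by decide) (by decide)
  have h03 : d03 ≠ 0 := hnp 3 (by decide) (by decide)
  rw [xor_iff_or_and_not_and]
  refine ⟨?_, fun ⟨⟨M, c, hM, hc, h⟩, ⟨M', c', hM', hc', h'⟩⟩ => not_both M M' c c' hM hc hc' (h.symm.trans h')⟩
  by_cases h23 : d23 = 0
  · obtain ⟨s, hs, hla3, hmu3⟩ : ∃ s : k, s ≠ 0 ∧ la (e 3) = s * la (e 2) ∧ mu (e 3) = s * mu (e 2) := by
      refine ⟨d03 / d02, div_ne_zero h03 h02, ?_, ?_⟩ <;> field_simp
      · linear_combination (-la (e 0)) * h23
      · linear_combination (-mu (e 0)) * h23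
    refine Or.inr ⟨!![mu (e 0), -la (e 0); mu (e 2), -la (e 2)], t * s, ?_, mul_ne_zero ht hs, ?_⟩
    · rw [Matrix.det_fin_two_of, isUnit_iff_ne_zero]
      intro h; apply h02; rw [hd02]; linear_combination -h
    · rw [hform, hla, hmu, hla3, hmu3]
      simp [lin, W4c6intromoduli.subst, Fin.sum_univ_two]
      ring
  · have hα : -d23 / d02 ≠ 0 := div_ne_zero (neg_ne_zero.2 h23) h02
    have hβ : d03 / d02 ≠ 0 := div_ne_zero h03 h02
    set α := -d23 / d02 with hαd
    set β := d03 / d02 with hβd
    have e3l : la (e 3) = α * la (e 0) + β * la (e 2) := by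
      rw [hαd, hβd]; field_simp; simp only [d02, d03, d23]; ring
    have e3m : mu (e 3) = α * mu (e 0) + β * mu (e 2) := by
      rw [hαd, hβd]; field_simp; simp only [d02, d03, d23]; ring
    have hc0 : -(α ^ 2 * β) ≠ 0 := neg_ne_zero.2 (mul_ne_zero (pow_ne_zero _ hα) hβ)
    refine Or.inl ⟨!![α * mu (e 0), -(α * la (e 0)); -(β * mu (e 2)), β * la (e 2)], t * (-(α ^ 2 * β))⁻¹, ?_,
      mul_ne_zero ht (inv_ne_zero hc0), ?_⟩
    · rw [Matrix.det_fin_two_of, isUnit_iff_ne_zero]
      intro h; apply mul_ne_zero (mul_ne_zero hα hβ) h02; rw [hd02]; linear_combination h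
    · rw [hform, hla, hmu, e3l, e3m]
      have hci : MvPolynomial.C (σ := Fin 2) ((-(α ^ 2 * β))⁻¹) * -(MvPolynomial.C α ^ 2 * MvPolynomial.C β) = 1 := by
        rw [← map_pow, ← map_mul, ← map_neg, ← map_mul, inv_mul_cancel₀ hc0, map_one]
      simp [lin, W4c6intromoduli.subst, Fin.sum_univ_two] at hci ⊢
      linear_combination (-(MvPolynomial.C t * (MvPolynomial.C (mu (e 0)) * MvPolynomial.X 0 - MvPolynomial.C (la (e 0)) * MvPolynomial.X 1) ^ 2 *
        (MvPolynomial.C (mu (e 2)) * MvPolynomial.X 0 - MvPolynomial.C (la (e 2)) * MvPolynomial.X 1) *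
        ((MvPolynomial.C α * MvPolynomial.C (mu (e 0)) + MvPolynomial.C β * MvPolynomial.C (mu (e 2))) * MvPolynomial.X 0 -
        (MvPolynomial.C α * MvPolynomial.C (la (e 0)) + MvPolynomial.C β * MvPolynomial.C (la (e 2))) * MvPolynomial.X 1))) * hci

end Groth.Agent.S20025
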