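import Groth.Statements.S20026
import Groth.Agent.NodePush7.Setup
import Groth.Agent.SimpleTwo.Line

set_option autoImplicit false
set_option linter.style.haveILetI false
set_option maxHeartbeats 1000000
set_option synthInstance.maxHeartbeats 400000
set_option backward.isDefEq.respectTransparency false
set_option backward.isDefEq.respectTransparency.types false
universe u
open CategoryTheory CategoryTheory.Limits AlgebraicGeometry
open TFNodal

namespace Groth.Agent.S20026

/-- Let k be algebraically closed of characteristic zero, X a connected proper curve over k (dimension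
one) whose closed points are smooth points or nodes, and π : Y → X its normalization, given as a
finite morphism from a smooth k-scheme that is an isomorphism over the complement U of the nodes
with dense preimage of U; let F be a coherent O_X-module, torsion free of rank r with type a(x) at
each node x (stalk free of rank r off the nodes, isomorphic to O_x^{a(x)} ⊕ m_x^{r − a(x)} at a node
x). Let p : π^*F → E₀ be an epimorphism onto a locally free O_Y-module of rank r, β : F → π_*E₀ the
composite of the unit with π_*p, and let i : F → π_*E be a monomorphism into the direct image of a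
locally free O_Y-module E of rank r, factored as i = β ≫ π_*λ with λ : E₀ → E. Then at every node x
the stalk of coker(i) has length a(x) plus the length of the stalk of coker(π_*λ), and at every
other point the two stalks have the same length (lengths over the local ring O_{X,x}, valued in ℕ∞).
The published statement compares only the total lengths (that of coker(i) exceeds that of
coker(π_*λ) by the sum of the types a(x) over the nodes); the statement here gives the comparison at
each point. -/
theorem result (k : Type u) [Field k] [IsAlgClosed k] [CharZero k]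
    (X : Scheme.{u}) [X.Over (Spec (CommRingCat.of k))] [IsProper (X ↘ Spec (CommRingCat.of k))]
    [ConnectedSpace X] (hdim : topologicalKrullDim X = 1) (hnod : Curv2.AtWorstNodal k X)
    (Y : Scheme.{u}) (π : Y ⟶ X) [IsFinite π] [Smooth (π ≫ (X ↘ Spec (CommRingCat.of k)))]
    (U : X.Opens) (hU : ∀ x : X, x ∈ U ↔ ¬ Curv2.IsNode k X x) (hUiso : IsIso (π ∣_ U))
    (hUd : Dense ((π ⁻¹ᵁ U : Y.Opens) : Set Y))
    (r : ℕ) (F : X.Modules) (hF : Coh.IsCoh F) (a : X → ℕ)
    (hfree : ∀ x : X, ¬ Curv2.IsNode k X x →
      Nonempty (F.presheaf.stalk x ≃ₗ[X.presheaf.stalk x] (Fin r → X.presheaf.stalk x)))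
    (htype : ∀ x : X, Curv2.IsNode k X x → a x ≤ r ∧
      Nonempty (F.presheaf.stalk x ≃ₗ[X.presheaf.stalk x]
        ((Fin (a x) → X.presheaf.stalk x) × (Fin (r - a x) → IsLocalRing.maximalIdeal (X.presheaf.stalk x)))))
    (E₀ : Y.Modules) (hE₀ : FlatMod.IsFinLocFreeOfRank r E₀)
    (p : (Scheme.Modules.pullback π).obj F ⟶ E₀) [Epi p]
    (E : Y.Modules) (hE : FlatMod.IsFinLocFreeOfRank r E)
    (i : F ⟶ (Scheme.Modules.pushforward π).obj E) [Mono i]
    (lam : E₀ ⟶ E) (hlam : (Scheme.Modules.pullbackPushforwardAdjunction π).unit.app F ≫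
      (Scheme.Modules.pushforward π).map p ≫ (Scheme.Modules.pushforward π).map lam = i) :
    (∀ x : X, Curv2.IsNode k X x →
      Module.length (X.presheaf.stalk x) ((cokernel i).presheaf.stalk x) =
        (a x : ℕ∞) + Module.length (X.presheaf.stalk x)
          ((cokernel ((Scheme.Modules.pushforward π).map lam)).presheaf.stalk x)) ∧
    (∀ x : X, ¬ Curv2.IsNode k X x →
      Module.length (X.presheaf.stalk x) ((cokernel i).presheaf.stalk x) =
        Module.length (X.presheaf.stalk x)
          ((cokernel ((Scheme.Modules.pushforward π).map lam)).presheaf.stalk x)) := by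
  haveI := hUiso
  obtain ⟨_, _, _, hUdense, hoff, hnode⟩ := Groth.Agent.NodePush7.setup hdim hnod π U hU hUd
  subst hlam
  have hlen : ∀ x, ∀ (a' c' : ℕ) (hr : a' + c' = r)
      (e : F.presheaf.stalk x ≃ₗ[X.presheaf.stalk x] Groth.Agent.NodePush7.TF (X.presheaf.stalk x) a' c'),
      (0 < c' → Module.length (X.presheaf.stalk x) ((cokernel (ClSub.unitToPush π)).presheaf.stalk x) = 1 ∧
        ∃ z ∈ IsLocalRing.maximalIdeal (X.presheaf.stalk x), ∀ w : X.presheaf.stalk x, z * w = 0 → w = 0) →
      Module.length (X.presheaf.stalk x) ((cokernel ((Scheme.Modules.pullbackPushforwardAdjunction π).unit.app F ≫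
        (Scheme.Modules.pushforward π).map p ≫ (Scheme.Modules.pushforward π).map lam)).presheaf.stalk x) =
      a' * Module.length (X.presheaf.stalk x) ((cokernel (ClSub.unitToPush π)).presheaf.stalk x) +
        Module.length (X.presheaf.stalk x)
          ((cokernel ((Scheme.Modules.pushforward π).map lam)).presheaf.stalk x) := fun x a' c' hr e hc => by
    obtain ⟨-, hb, hinj⟩ := Groth.Agent.NodePush7.beta_stalk π hUdense hUd hF.1 x hr e hE₀ hE p lam hc
    have hi := Groth.Agent.SimpleTwo.injective_stalkMapₗ ((Scheme.Modules.pullbackPushforwardAdjunction π).unit.app F ≫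
        (Scheme.Modules.pushforward π).map p ≫ (Scheme.Modules.pushforward π).map lam) x
    rw [← hb, Groth.Agent.NodePush7.length_coker_stalk, Groth.Agent.NodePush7.length_coker_stalk,
      Groth.Agent.NodePush7.length_coker_stalk ((Scheme.Modules.pushforward π).map lam) x]
    rw [← Category.assoc, Groth.Agent.HomShX.stalkMapₗ_comp] at hi ⊢
    exact Groth.Agent.NodePush7.length_coker_comp _ _ (hinj hi)
  refine ⟨fun x hx => ?_, fun x hx => ?_⟩
  · obtain ⟨ha, ⟨e⟩⟩ := htype x hx
    rw [hlen x _ _ (Nat.add_sub_cancel' ha) e (fun _ => ⟨(hnode x hx).1, (hnode x hx).2.1⟩), (hnode x hx).1, mul_one]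
  · obtain ⟨e⟩ := hfree x hx
    rw [hlen x _ _ (Nat.add_zero r) (Groth.Agent.NodePush7.tfOfFree e) (fun h => absurd h (lt_irrefl 0)),
      hoff x hx, mul_zero, zero_add]

end Groth.Agent.S20026
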