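import Groth.Statements.S20027
import Groth.Agent.S18655
import Groth.Agent.GrLib8.PolyChar
import Groth.Agent.GrLib8.GrCMField
import Groth.Agent.GrLib8.StdLen
import Groth.Agent.ComodLib.GradedAug
import Groth.Agent.AlgSpDec.GorComp
import Groth.Agent.LC.GorLCI

set_option autoImplicit false
universe u
open GrLC

namespace Groth.Agent.S20027

/-- Let k be a field, s ≥ 1, d ≥ 1, and R = k[X_1, …, X_s] graded with every variable in degree 1.
Present the Veronese subring R^(d) = ⊕_j R_{jd} as a commutative ring R' with an injective ring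
homomorphism φ : R' → R whose image is the set of polynomials whose homogeneous components in all
degrees not divisible by d are zero, and let m' be the maximal ideal of R' that is the preimage of
the ideal of polynomials with zero constant term (the irrelevant ideal of R^(d)). Let n be the least
integer such that n ≥ s and d divides n. Then the type of R^(d), namely the Bass number μ_s(m', R')
= dim over the residue field of Ext^s over the local ring R'_{m'} from its residue field to R'_{m'}
(here s = dim R'), equals the binomial coefficient (n − 1 choose s − 1). -/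
theorem result (k : Type u) [Field k] (s d : ℕ) (hs : 1 ≤ s)
    (hd : 1 ≤ d) (R' : Type u) [CommRing R'] (φ : R' →+* MvPolynomial (Fin s) k)
    (hφ : Function.Injective φ)
    (hrange : ∀ p : MvPolynomial (Fin s) k, p ∈ φ.range ↔
      ∀ j : ℕ, ¬ d ∣ j → MvPolynomial.homogeneousComponent j p = 0)
    (m' : Ideal R') [m'.IsMaximal]
    (hm' : m' = Ideal.comap φ (RingHom.ker (MvPolynomial.constantCoeff : MvPolynomial (Fin s) k →+* k)))
    (n : ℕ) (hsn : s ≤ n) (hdn : d ∣ n) (hmin : ∀ n' : ℕ, s ≤ n' → d ∣ n' → n ≤ n') :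
    GrLC.bassNum m' R' s = (Nat.choose (n - 1) (s - 1) : ℕ∞) := by
  classical
  haveI := AlgSpDec.GorComp.gorensteinRing_field k
  haveI : LocCoh.IsGorensteinRing (MvPolynomial (Fin s) k) := LC.gorensteinRing_mvPolynomial_fin k s
  let std := GrSyz.stdGr k (Fin s)
  let 𝒜 := GrLib8.addPieces std
  have hmem : ∀ (g : ℤ) (p : MvPolynomial (Fin s) k),
      p ∈ std g ↔ ∀ e, MvPolynomial.coeff e p ≠ 0 → (e.degree : ℤ) = g := by
    intro g p
    have hw : ∀ e : Fin s →₀ ℕ, Finsupp.weight (fun _ : Fin s => (1 : ℤ)) e = (e.degree : ℤ) := fun e => by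
      rw [Finsupp.weight_apply, Finsupp.degree_apply, Nat.cast_sum]
      exact Finset.sum_congr rfl fun i _ => by simp
    exact ⟨fun h e he => (hw e).symm.trans (h he), fun h e he => (hw e).trans (h e he)⟩
  have hstdC : ∀ c : k, MvPolynomial.C c ∈ std 0 := GrLib8.C_mem_stdGr_zero k s
  have hpos : ∀ j : ℤ, j < 0 → 𝒜 j = ⊥ := fun j hj => (AddSubgroup.eq_bot_iff_forall _).2 fun p hp => by
    refine MvPolynomial.ext _ _ fun e => ?_
    rw [MvPolynomial.coeff_zero]
    by_contra he
    have h1 := (hmem j p).1 hp e he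
    omega
  have h00 : std 0 = Submodule.span k {(1 : MvPolynomial (Fin s) k)} := by
    refine le_antisymm (fun p hp => ?_) (Submodule.span_le.2 ?_)
    · rw [GrLib8.eq_C_of_stdGr_zero k (Fin s) p hp, ← MvPolynomial.algebraMap_eq, Algebra.algebraMap_eq_smul_one]
      exact Submodule.smul_mem _ _ (Submodule.subset_span rfl)
    · rintro _ rfl
      exact SetLike.one_mem_graded std
  have h0 : IsField (GrLC.deg0 𝒜) := GrLib8.isField_deg0_add std h00
  let m := GrSyz.irrel 𝒜
  have hm : GrLC.IsStarLocal 𝒜 m := GrLib8.isStarLocal_irrel hpos h0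
  have hmsp : m.toIdeal = Ideal.span (⋃ j ∈ Set.Ioi (0 : ℤ), (𝒜 j : Set (MvPolynomial (Fin s) k))) :=
    GrLib8.irrel_toIdeal_eq
  have hXstd : ∀ i, MvPolynomial.X i ∈ std 1 := fun i => MvPolynomial.isWeightedHomogeneous_X _ _ i
  have hX : RingHom.ker (MvPolynomial.constantCoeff : MvPolynomial (Fin s) k →+* k) ≤
      Ideal.span (Set.range MvPolynomial.X) := by
    intro p hp
    rw [← Set.image_univ, MvPolynomial.mem_ideal_span_X_image]
    intro e he
    obtain ⟨i, hi⟩ : ∃ i, e i ≠ 0 := by
      by_contra h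
      push Not at h
      have h' : e = 0 := Finsupp.ext h
      subst h'
      exact (MvPolynomial.mem_support_iff.1 he) hp
    exact ⟨i, trivial, hi⟩
  have hker : m.toIdeal = RingHom.ker (MvPolynomial.constantCoeff : MvPolynomial (Fin s) k →+* k) := by
    refine le_antisymm ?_ ?_
    · rw [hmsp, Ideal.span_le]
      intro p hp
      simp only [Set.mem_iUnion] at hp
      obtain ⟨j, hj, hp⟩ := hp
      show MvPolynomial.coeff 0 p = 0
      by_contra h
      have h1 := (hmem j p).1 hp 0 h
      simp only [map_zero, Nat.cast_zero] at h1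
      exact (ne_of_gt (Set.mem_Ioi.1 hj)) h1.symm
    · refine le_trans hX ?_
      rw [Ideal.span_le]
      rintro _ ⟨i, rfl⟩
      rw [hmsp]
      exact Ideal.subset_span (Set.mem_biUnion (Set.mem_Ioi.2 one_pos) (hXstd i))
  have hstd : Ideal.span (⋃ j ∈ Set.Ioi (0 : ℤ), (𝒜 j : Set (MvPolynomial (Fin s) k))) =
      Ideal.span ((𝒜 1 : AddSubgroup (MvPolynomial (Fin s) k)) : Set (MvPolynomial (Fin s) k)) := by
    refine le_antisymm ?_ (Ideal.span_mono fun p hp => Set.mem_biUnion (Set.mem_Ioi.2 one_pos) hp)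
    rw [← hmsp, hker]
    refine le_trans hX ?_
    rw [Ideal.span_le]
    rintro _ ⟨i, rfl⟩
    exact Ideal.subset_span (hXstd i)
  have hdim : ringKrullDim (MvPolynomial (Fin s) k) = s := by
    rw [MvPolynomial.ringKrullDim_of_isNoetherianRing, ringKrullDim_eq_zero_of_field]; simp
  let I := GrLib8.starRes (𝒜 := 𝒜) 𝒜
  let ι' : k →+* GrLC.deg0 𝒜 :=
    (MvPolynomial.C (σ := Fin s) (R := k)).codRestrict (GrLC.deg0 𝒜) (fun c => hstdC c)
  have hι' : Function.Bijective ι' := by
    refine ⟨ι'.injective, fun z => ⟨MvPolynomial.coeff 0 (z : MvPolynomial (Fin s) k), Subtype.ext ?_⟩⟩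
    exact (GrLib8.eq_C_of_stdGr_zero k (Fin s) z z.2).symm
  have ha : GrLC.endDeg (I.Hgr m s) = (((-(s : ℤ) : ℤ) : WithTop ℤ) : WithBot (WithTop ℤ)) :=
    GrLib8.PolyChar.endDeg_of_equiv hpos h0 hstd hm hmsp s hdim I
      ⟨MvPolynomial.mapEquiv _ (RingEquiv.ofBijective ι' hι')⟩
  -- the grading of the Veronese ring
  let 𝒜' : ℤ → AddSubgroup R' := fun j => (𝒜 (j * d)).comap (φ : R' →+ MvPolynomial (Fin s) k)
  have hd0 : (d : ℤ) ≠ 0 := by exact_mod_cast (show d ≠ 0 by omega)
  have hcomp : ∀ (g : ℤ) (p : MvPolynomial (Fin s) k), p ∈ std g → ∀ j : ℕ, (j : ℤ) ≠ g →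
      MvPolynomial.homogeneousComponent j p = 0 := by
    intro g p hp j hj
    refine MvPolynomial.ext _ _ fun e => ?_
    rw [MvPolynomial.coeff_homogeneousComponent, MvPolynomial.coeff_zero]
    split_ifs with he
    · by_contra hne
      exact hj (by rw [← (hmem g p).1 hp e hne, he])
    · rfl
  have hin : ∀ (j : ℤ) (p : MvPolynomial (Fin s) k), p ∈ std (j * d) → p ∈ φ.range := fun j p hp =>
    (hrange p).2 fun i hi => hcomp _ p hp i fun h => hi (Int.natCast_dvd_natCast.1 ⟨j, by rw [h, mul_comm]⟩)
  have hind : GrLib8.GIndep 𝒜' := by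
    intro t c hc hsum g hg
    have h1 : ∑ i ∈ t, φ (c i) = 0 := by rw [← map_sum, hsum, map_zero]
    have h2 := congrArg (fun p => (DirectSum.decompose std p (g * d) : MvPolynomial (Fin s) k)) h1
    simp only [DirectSum.decompose_zero, DirectSum.zero_apply, ZeroMemClass.coe_zero, DirectSum.decompose_sum,
      map_sum] at h2
    have hsum' : ∀ u : Finset ℤ, (((∑ i ∈ u, DirectSum.decompose std (φ (c i))) (g * d) : std (g * d)) :
        MvPolynomial (Fin s) k) = ∑ i ∈ u, (DirectSum.decompose std (φ (c i)) (g * d) : MvPolynomial (Fin s) k) := by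
      intro u
      induction u using Finset.induction_on with
      | empty => simp
      | insert a u ha ih => rw [Finset.sum_insert ha, Finset.sum_insert ha, DirectSum.add_apply, Submodule.coe_add, ih]
    rw [hsum'] at h2
    have hc' : ∀ i ∈ t, φ (c i) ∈ std (i * d) := hc
    rw [Finset.sum_eq_single g (fun i hi hne => DirectSum.decompose_of_mem_ne std (hc' i hi)
        (fun h => hne (mul_right_cancel₀ hd0 h))) (fun h => absurd hg h),
      DirectSum.decompose_of_mem_same std (hc' g hg)] at h2
    exact hφ (h2.trans (map_zero φ).symm)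
  have hspan : ∀ x : R', x ∈ ⨆ g, 𝒜' g := by
    intro x
    have hdecmem : ∀ g, (DirectSum.decompose std (φ x) g : MvPolynomial (Fin s) k) ∈
        (⨆ g, 𝒜' g).map (φ : R' →+ MvPolynomial (Fin s) k) := by
      intro g
      have hz : (DirectSum.decompose std (φ x) g : MvPolynomial (Fin s) k) ∈ std g := SetLike.coe_mem _
      by_cases hg : ∃ j : ℤ, g = j * d
      · obtain ⟨j, rfl⟩ := hg
        obtain ⟨y, hy⟩ := hin j _ hz
        exact ⟨y, AddSubgroup.mem_iSup_of_mem j (show φ y ∈ std (j * d) by rw [hy]; exact hz), hy⟩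
      · have h0' : (DirectSum.decompose std (φ x) g : MvPolynomial (Fin s) k) = 0 := by
          refine MvPolynomial.ext _ _ fun e => ?_
          rw [MvPolynomial.coeff_zero]
          by_contra hne
          have he : (e.degree : ℤ) = g := (hmem g _).1 hz e hne
          have h3 : MvPolynomial.coeff e (φ x) = 0 := by
            have h4 := congrArg (MvPolynomial.coeff e) ((hrange (φ x)).1 ⟨x, rfl⟩ e.degree (fun ⟨c, hc⟩ => hg ⟨c, by
              rw [← he, hc]; push_cast; ring⟩))
            rwa [MvPolynomial.coeff_homogeneousComponent, if_pos rfl, MvPolynomial.coeff_zero] at h4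
          have h5 := congrArg (MvPolynomial.coeff e) (DirectSum.sum_support_decompose std (φ x))
          rw [MvPolynomial.coeff_sum, h3, Finset.sum_eq_single g] at h5
          · exact hne h5
          · intro i _ hig
            by_contra hne'
            exact hig (((hmem i _).1 (SetLike.coe_mem _) e hne').symm.trans he)
          · intro hns
            rw [DFinsupp.notMem_support_iff.1 hns]
            simp
        exact ⟨0, zero_mem _, (map_zero φ).trans h0'.symm⟩
    have h1 : φ x ∈ (⨆ g, 𝒜' g).map (φ : R' →+ MvPolynomial (Fin s) k) := by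
      rw [← DirectSum.sum_support_decompose std (φ x)]
      exact AddSubgroup.sum_mem _ fun g _ => hdecmem g
    obtain ⟨y, hy, hyx⟩ := h1
    rwa [← hφ hyx]
  letI : DirectSum.Decomposition 𝒜' := GrLib8.decompositionOf 𝒜' hspan hind
  letI : GradedRing 𝒜' :=
    { (inferInstance : DirectSum.Decomposition 𝒜') with
      one_mem := by
        show φ 1 ∈ std (0 * (d : ℤ))
        rw [map_one, zero_mul]
        exact SetLike.one_mem_graded std
      mul_mem := fun i j a b ha hb => by
        show φ (a * b) ∈ std ((i + j) * (d : ℤ))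
        rw [map_mul, add_mul]
        exact SetLike.mul_mem_graded ha hb }
  have hdeg : ∀ j : ℤ, (𝒜' j).map (φ : R' →+ MvPolynomial (Fin s) k) = 𝒜 (j * d) := fun j =>
    AddSubgroup.map_comap_eq_self fun p hp => by
      obtain ⟨y, hy⟩ := hin j p hp
      exact ⟨y, hy⟩
  let mh := GrSyz.irrel 𝒜'
  have hmh : mh.toIdeal = m' := by
    refine le_antisymm ?_ fun x hx => ?_
    · rw [GrLib8.irrel_toIdeal_eq, hm', Ideal.span_le]
      intro x hx
      simp only [Set.mem_iUnion] at hx
      obtain ⟨j, hj, hx⟩ := hx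
      show φ x ∈ RingHom.ker (MvPolynomial.constantCoeff : MvPolynomial (Fin s) k →+* k)
      rw [← hker, hmsp]
      exact Ideal.subset_span (Set.mem_biUnion
        (Set.mem_Ioi.2 (mul_pos (Set.mem_Ioi.1 hj) (by exact_mod_cast (show 0 < d by omega)))) hx)
    · have hsum := DirectSum.sum_support_decompose 𝒜' x
      rw [← hsum]
      refine Ideal.sum_mem _ fun j _ => ?_
      have hzj : φ (DirectSum.decompose 𝒜' x j : R') ∈ std (j * d) := (DirectSum.decompose 𝒜' x j).2
      rcases lt_trichotomy j 0 with hj | hj | hj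
      · have h0' : φ (DirectSum.decompose 𝒜' x j : R') = 0 :=
          (AddSubgroup.eq_bot_iff_forall _).1
            (hpos (j * d) (mul_neg_of_neg_of_pos hj (by exact_mod_cast (show 0 < d by omega)))) _ hzj
        rw [hφ (h0'.trans (map_zero φ).symm)]
        exact zero_mem _
      · subst hj
        rw [zero_mul] at hzj
        have hx0 : MvPolynomial.coeff 0 (φ x) = 0 := by
          rw [hm'] at hx; exact hx
        have h5 : MvPolynomial.coeff 0 (φ x) = MvPolynomial.coeff 0 (φ (DirectSum.decompose 𝒜' x 0 : R')) := by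
          conv_lhs => rw [← hsum, map_sum, MvPolynomial.coeff_sum]
          refine Finset.sum_eq_single 0 (fun i _ hi => ?_) (fun hns => ?_)
          · by_contra hne
            have h6 := (hmem _ _).1 (DirectSum.decompose 𝒜' x i).2 0 hne
            simp only [map_zero, Nat.cast_zero] at h6
            exact hi ((mul_eq_zero.1 h6.symm).resolve_right hd0)
          · rw [DFinsupp.notMem_support_iff.1 hns]
            simp
        rw [hφ (show φ (DirectSum.decompose 𝒜' x 0 : R') = φ 0 by
          rw [GrLib8.eq_C_of_stdGr_zero k (Fin s) _ hzj, ← h5, hx0, map_zero, map_zero])]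
        exact zero_mem _
      · rw [GrLib8.irrel_toIdeal_eq]
        exact Ideal.subset_span (Set.mem_biUnion (Set.mem_Ioi.2 hj) (DirectSum.decompose 𝒜' x j).2)
  subst hmh
  have hρ : n - s < d := by
    by_contra h
    push Not at h
    have := hmin (n - d) (by omega) (Nat.dvd_sub hdn dvd_rfl)
    omega
  rw [S18655.result (MvPolynomial (Fin s) k) 𝒜 hpos h0 m hm hmsp hstd s hdim I (-(s : ℤ)) ha d (by omega) R' 𝒜' φ
    hφ hdeg mh GrLib8.irrel_toIdeal_eq ((n - s : ℕ) : ℤ) (Int.natCast_nonneg _) (by exact_mod_cast hρ)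
    (by
      obtain ⟨c, hc⟩ := hdn
      refine ⟨-(c : ℤ), ?_⟩
      rw [Nat.cast_sub hsn, hc]
      push_cast
      ring)]
  have hrk : Module.finrank (GrLC.deg0 𝒜) (GrLC.comp 𝒜 𝒜 ((n - s : ℕ) : ℤ)) =
      Module.finrank k (MvPolynomial.homogeneousSubmodule (Fin s) k (n - s)) := by
    have hiff : ∀ p : MvPolynomial (Fin s) k,
        p ∈ MvPolynomial.homogeneousSubmodule (Fin s) k (n - s) ↔ p ∈ std ((n - s : ℕ) : ℤ) := by
      intro p
      rw [hmem, MvPolynomial.mem_homogeneousSubmodule]
      have hw : ∀ e : Fin s →₀ ℕ, Finsupp.weight (1 : Fin s → ℕ) e = e.degree := fun e => by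
        simp [Finsupp.weight_apply, Finsupp.degree_apply, Finsupp.sum]
      refine ⟨fun (h : MvPolynomial.IsWeightedHomogeneous (1 : Fin s → ℕ) p (n - s)) e he => ?_, fun h => fun e he => ?_⟩
      · rw [← hw e, h he]
      · exact (hw e).trans (by exact_mod_cast h e he)
    let j : MvPolynomial.homogeneousSubmodule (Fin s) k (n - s) ≃+ GrLC.comp 𝒜 𝒜 ((n - s : ℕ) : ℤ) :=
      { toFun := fun p => ⟨p.1, (hiff p.1).1 p.2⟩
        invFun := fun p => ⟨p.1, (hiff p.1).2 p.2⟩
        left_inv := fun _ => rfl
        right_inv := fun _ => rfl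
        map_add' := fun _ _ => rfl }
    have h := rank_eq_of_equiv_equiv (R := k) (R' := GrLC.deg0 𝒜) ι' j hι' fun c p => Subtype.ext (by
      show c • (p : MvPolynomial (Fin s) k) = (MvPolynomial.C c) * (p : MvPolynomial (Fin s) k)
      rw [MvPolynomial.smul_eq_C_mul])
    exact (congrArg Cardinal.toNat h).symm
  have hfr := (ComodLib.GradedAug.finrank_homogeneous (k := k) s (n - s)).2
  rw [hrk, hfr, show s + (n - s) - 1 = n - 1 by omega,
    Nat.choose_symm_of_eq_add (show n - 1 = (n - s) + (s - 1) by omega)]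

end Groth.Agent.S20027
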