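import Groth.Statements.S2048
import Mathlib
import Groth.Agent.H1DerP.Family
import Groth.Agent.H1JacAbs.Nec
import Groth.Agent.CplFib6.Quot

set_option autoImplicit false
universe u
open CAlg

namespace Groth.Agent.S2048

/-- Let `p` be a prime and `B` a domain of characteristic `p`, finitely generated as an algebra over
some complete Noetherian local ring. If `f ∈ B` has no `p`-th root in the fraction field of `B`,
then some derivation `D : B → B` has `D(f) ≠ 0`. -/
theorem result {R B : Type u} [CommRing R] [IsLocalRing R]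
    [IsNoetherianRing R] [IsAdicComplete (IsLocalRing.maximalIdeal R) R] [CommRing B] [IsDomain B]
    [Algebra R B] [Algebra.FiniteType R B] (p : ℕ) [Fact p.Prime] [CharP B p] (f : B)
    (hf : ∀ x : FractionRing B, x ^ p ≠ algebraMap B (FractionRing B) f) :
    ∃ D : Derivation ℤ B B, D f ≠ 0 := by
  classical
  let P := RingHom.ker (algebraMap R B)
  haveI : P.IsPrime := RingHom.ker_isPrime _
  haveI : Nontrivial (R ⧸ P) := Ideal.Quotient.nontrivial_iff.2 (Ideal.IsPrime.ne_top inferInstance)
  haveI : IsLocalRing (R ⧸ P) := .of_surjective' _ Ideal.Quotient.mk_surjective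
  haveI := Groth.Agent.CplFib6.isAdicComplete_quot P
  let L := FractionRing B
  let j : R ⧸ P →+* B := Ideal.Quotient.lift P (algebraMap R B) fun a ha => ha
  have hj : Function.Injective j := RingHom.kerLift_injective (algebraMap R B)
  haveI : CharP (R ⧸ P) p := (RingHom.charP_iff j hj p).2 inferInstance
  letI : Algebra (ZMod p) (R ⧸ P) := ZMod.algebra _ p
  obtain ⟨K, _, σ, hσ⟩ : ∃ (K : Type u) (_ : Field K) (σ : K →+* R ⧸ P),
      Function.Surjective ((IsLocalRing.residue (R ⧸ P)).comp σ) := by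
    obtain ⟨σ, hσ⟩ := Groth.Agent.CoeffField.exists_ringHom_section (ZMod p) (R ⧸ P)
    exact ⟨_, inferInstance, σ, fun y => ⟨y, hσ y⟩⟩
  letI : Algebra K (R ⧸ P) := σ.toAlgebra
  haveI : Module.Finite K (IsLocalRing.ResidueField (R ⧸ P)) :=
    Module.Finite.of_surjective (Algebra.linearMap K _) hσ
  haveI : CharP K p := (RingHom.charP_iff σ σ.injective p).2 inferInstance
  obtain ⟨s, w, hwinj, -, hwfin⟩ := Groth.Agent.Cohen4.exists_normalization (k₀ := K) (A := R ⧸ P)
  let C := MvPowerSeries (Fin s) K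
  haveI : IsDomain C := NoZeroDivisors.to_isDomain _
  let g₀ : C →+* L := (algebraMap B L).comp (j.comp w.toRingHom)
  have hg₀ : Function.Injective g₀ := (IsFractionRing.injective B L).comp (hj.comp hwinj)
  let M0 := FractionRing C
  let φ : M0 →+* L := IsFractionRing.lift hg₀
  have hφ : ∀ g, φ (algebraMap C M0 g) = g₀ g := fun g => IsFractionRing.lift_algebraMap hg₀ g
  haveI : CharP L p := charP_of_injective_algebraMap (IsFractionRing.injective B L) p
  haveI : CharP M0 p := charP_of_injective_ringHom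
    (f := (algebraMap C M0).comp (MvPowerSeries.C (σ := Fin s) (R := K)))
    ((IsFractionRing.injective C M0).comp MvPowerSeries.C_injective) p
  haveI : ExpChar K p := .prime Fact.out
  obtain ⟨ι, _, F, hdirF, hfinF, hpF, hinfF⟩ := Groth.Agent.H1PS.exists_family p K
  let ser : ι → Set C := fun i =>
    (Groth.Agent.H1PS.ser (F i) {m : Fin s →₀ ℕ | ∀ i, p ∣ m i} (Groth.Agent.H1PS.isExpSet_dvd p) : Set C)
  let G : ι → Subfield L := fun i => (Subfield.closure (algebraMap C M0 '' ser i)).map φ
  have hpser : ∀ (g : C) i, g ^ p ∈ ser i := fun g i => by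
    simpa [ser] using Groth.Agent.H1PS.pow_mem_ser 1 p (F i) (by simpa using hpF i) g
  have hsep : H1DerP.IsSep p φ.fieldRange G := by
    refine ⟨fun a b => ?_, fun i => ?_, ?_, ?_⟩
    · obtain ⟨c, hc⟩ := hdirF a b
      refine ⟨c, le_inf ?_ ?_⟩ <;> refine ((Subfield.gc_map_comap φ).monotone_l (Subfield.closure_mono (Set.image_mono ?_)))
      · exact fun g hg n => ⟨(hc (hg n).1).1, (hg n).2⟩
      · exact fun g hg n => ⟨(hc (hg n).1).2, (hg n).2⟩
    · rintro _ ⟨x, -, rfl⟩
      exact ⟨x, rfl⟩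
    · rintro i _ ⟨x, rfl⟩
      obtain ⟨a, b, -, rfl⟩ := IsFractionRing.div_surjective C x
      have hm : ∀ g : C, algebraMap C M0 (g ^ p) ∈ Subfield.closure (algebraMap C M0 '' ser i) :=
        fun g => Subfield.subset_closure ⟨_, hpser g i, rfl⟩
      refine ⟨_, div_mem (hm a) (hm b), ?_⟩
      rw [← map_pow φ, div_pow, map_pow, map_pow]
    · intro z hz
      obtain ⟨y, -, rfl⟩ := hz (Classical.arbitrary ι)
      have hy : ∀ i, y ∈ Subfield.closure (algebraMap C M0 '' ser i) := by
        intro i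
        obtain ⟨y', hy', he'⟩ := hz i
        rwa [φ.injective he'] at hy'
      obtain ⟨h, g, hh, rfl⟩ := Groth.Agent.H1PS.exists_rep F _ _ p (Fact.out : p.Prime).ne_zero
        (fun g i => hpser g i) hy
      obtain ⟨h', rfl⟩ := H1JacAbs.exists_root p h (fun n => hinfF _ fun i => (hh i n).1)
        (fun n hn => (hh (Classical.arbitrary ι) n).2 hn)
      refine ⟨φ (algebraMap _ _ h' / algebraMap _ _ g), ⟨_, rfl⟩, ?_⟩
      rw [← map_pow φ, div_pow, map_pow, map_pow]
  obtain ⟨n, gR, hgR⟩ : ∃ (n : ℕ) (gR : Fin n → R ⧸ P),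
      ∀ x : R ⧸ P, ∃ c : Fin n → C, ∑ l, w (c l) * gR l = x := by
    letI : Algebra C (R ⧸ P) := w.toRingHom.toAlgebra
    haveI : Module.Finite C (R ⧸ P) := hwfin
    obtain ⟨n, gR, hg⟩ := Module.Finite.exists_fin (R := C) (M := R ⧸ P)
    refine ⟨n, gR, fun x => ?_⟩
    obtain ⟨c, hc⟩ := (Submodule.mem_span_range_iff_exists_fun C).1 (show x ∈ Submodule.span C (Set.range gR) by rw [hg]; exact Submodule.mem_top)
    exact ⟨c, hc⟩
  obtain ⟨t, ht⟩ := Algebra.FiniteType.out (R := R) (A := B)
  let gens : Finset B := t ∪ Finset.univ.image (fun l => j (gR l))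
  obtain ⟨M', G', hsep', hMM', hgens, hGG'⟩ :=
    H1DerP.exists_adjoin_list p hsep (gens.toList.map (algebraMap B L))
  have hgen' : ∀ z ∈ gens, algebraMap B L z ∈ M' := fun z hz =>
    hgens _ (List.mem_map.2 ⟨z, Finset.mem_toList.2 hz, rfl⟩)
  -- a subring of `B` containing the restricted series and the generators is everything
  have key : ∀ S : Subring B, (∀ c : C, j (w c) ∈ S) → (∀ z ∈ gens, z ∈ S) → ∀ b, b ∈ S := by
    intro S hC hz b
    have hR : ∀ r : R, algebraMap R B r ∈ S := fun r => by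
      obtain ⟨c, hc⟩ := hgR (Ideal.Quotient.mk P r)
      have : algebraMap R B r = j (∑ l, w (c l) * gR l) := by rw [hc]; rfl
      rw [this, map_sum]
      refine sum_mem fun l _ => ?_
      rw [map_mul]
      exact mul_mem (hC _) (hz _ (Finset.mem_union_right _ (Finset.mem_image_of_mem _ (Finset.mem_univ l))))
    have hb : b ∈ Algebra.adjoin R (t : Set B) := ht ▸ trivial
    induction hb using Algebra.adjoin_induction with
    | mem z hzt => exact hz z (Finset.mem_union_left _ hzt)
    | algebraMap r => exact hR r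
    | add _ _ _ _ h1 h2 => exact add_mem h1 h2
    | mul _ _ _ _ h1 h2 => exact mul_mem h1 h2
  have hBM : ∀ b, algebraMap B L b ∈ M' :=
    key (M'.toSubring.comap (algebraMap B L)) (fun c => hMM' ⟨algebraMap C M0 c, hφ c⟩) hgen'
  have htop : ∀ x : L, x ∈ M' := fun x => by
    obtain ⟨a, b, -, rfl⟩ := IsFractionRing.div_surjective B x
    exact div_mem (hBM a) (hBM b)
  obtain ⟨i, hi⟩ : ∃ i, algebraMap B L f ∉ G' i := by
    by_contra h
    push Not at h
    obtain ⟨a, -, ha⟩ := hsep'.inter _ h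
    exact hf a ha
  obtain ⟨δ, hδ⟩ := H1JacAbs.exists_derivation_one p (G' i)
    (fun a => ⟨⟨a ^ p, hsep'.pow_mem i a (htop a)⟩, rfl⟩) (algebraMap B L f)
    (by rintro ⟨a, ha⟩; exact hi (ha ▸ a.2))
  haveI := hfinF i
  let bK := Module.finBasis (F i) K
  let mon : (Fin s → Fin p) × Fin (Module.finrank (F i) K) → C := fun x =>
    MvPowerSeries.monomial (Finsupp.equivFunOnFinite.symm fun i => (x.1 i : ℕ)) (bK x.2)
  let U : Finset B := gens ∪ Finset.univ.image (fun x => j (w (mon x)))
  obtain ⟨d, hd⟩ := IsLocalization.exist_integer_multiples (nonZeroDivisors B) U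
    (fun z => δ (algebraMap B L z))
  have hd' : ∀ z ∈ U, ∃ b', algebraMap B L b' = algebraMap B L d * δ (algebraMap B L z) := fun z hz => by
    obtain ⟨b', hb'⟩ := hd z hz
    exact ⟨b', by rw [hb', Algebra.smul_def]⟩
  let S : Subring B :=
    { carrier := {b | ∃ b', algebraMap B L b' = algebraMap B L d * δ (algebraMap B L b)}
      zero_mem' := ⟨0, by simp⟩
      one_mem' := ⟨0, by simp⟩
      add_mem' := by
        rintro x y ⟨a, ha⟩ ⟨c, hc⟩
        exact ⟨a + c, by rw [map_add, ha, hc, map_add, map_add, mul_add]⟩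
      neg_mem' := by
        rintro x ⟨a, ha⟩
        exact ⟨-a, by rw [map_neg, ha, map_neg, map_neg, mul_neg]⟩
      mul_mem' := by
        rintro x y ⟨a, ha⟩ ⟨c, hc⟩
        refine ⟨x * c + y * a, ?_⟩
        rw [map_add, map_mul, map_mul, ha, hc, map_mul, Derivation.leibniz, smul_eq_mul, smul_eq_mul]
        ring }
  have hS : ∀ b, b ∈ S := by
    refine key S (fun c => ?_) fun z hz => hd' z (Finset.mem_union_left _ hz)
    obtain ⟨Gc, hGc, hcG⟩ := H1JacAbs.exists_decomp p (F i) (fun l => bK l)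
      (fun y => ⟨fun l => (bK.repr y l : K), fun l => (bK.repr y l).2, bK.sum_repr y⟩) c
    rw [hcG, map_sum, map_sum]
    refine sum_mem fun x _ => ?_
    rw [map_mul, map_mul]
    refine mul_mem (hd' _ (Finset.mem_union_right _ (Finset.mem_image_of_mem _ (Finset.mem_univ x)))) ?_
    refine ⟨0, ?_⟩
    have hmem : algebraMap B L (j (w (Gc x))) ∈ G' i :=
      hGG' i ⟨algebraMap C M0 (Gc x), Subfield.subset_closure ⟨_, hGc x, rfl⟩, hφ _⟩
    rw [show δ (algebraMap B L (j (w (Gc x)))) = 0 from δ.map_algebraMap ⟨_, hmem⟩, map_zero, mul_zero]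
  choose Db hDb using hS
  have hinjB := IsFractionRing.injective B L
  let D : Derivation ℤ B B := Derivation.mk' (AddMonoidHom.mk' Db fun a b => hinjB (by
      rw [map_add, hDb, hDb, hDb, map_add, map_add, mul_add])).toIntLinearMap fun a b => hinjB (by
      show algebraMap B L (Db (a * b)) = algebraMap B L (a * Db b + b * Db a)
      rw [map_add, map_mul, map_mul, hDb, hDb, hDb, map_mul, Derivation.leibniz, smul_eq_mul, smul_eq_mul]
      ring)
  refine ⟨D, fun h0 => ?_⟩
  have h1 := hDb f
  rw [hδ, show Db f = 0 from h0, map_zero, mul_one] at h1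
  exact nonZeroDivisors.ne_zero d.2 (hinjB (h1.symm.trans (map_zero _).symm))

end Groth.Agent.S2048
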