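import Groth.Statements.S2058
import Groth.Agent.Alg6.AssDepth
import Mathlib.RingTheory.DiscreteValuationRing.TFAE
import Mathlib.RingTheory.RegularLocalRing.Defs
import Mathlib.RingTheory.Artinian.Ring
import Mathlib.RingTheory.Localization.FractionRing

set_option autoImplicit false
universe u
open CAlg

namespace Groth.Agent.S2058

/-- Let R be a Noetherian local ring which is not Artinian, is not a regular local ring of dimension
one, and has depth at most one. Then there is a finite ring map R → R' with R' ≠ 0, not bijective,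
whose kernel and cokernel are killed by a power of the maximal ideal of R, such that the maximal
ideal of R is not an associated prime of the R-module R'. (This says that the four cases for a
Noetherian local ring — Artinian, regular of dimension one, depth at least two, or admitting such a
map — cover everything; that they are mutually exclusive is not asserted.) -/
theorem result {R : Type u} [CommRing R] [IsLocalRing R] [IsNoetherianRing R]
    (h1 : ¬ IsArtinianRing R) (h2 : ¬ (IsRegularLocalRing R ∧ ringKrullDim R = 1))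
    (h3 : LocCoh.depth R R ≤ 1) :
    ∃ (R' : Type u) (_ : CommRing R') (_ : Algebra R R'), Nontrivial R' ∧ Module.Finite R R' ∧
      ¬ Function.Bijective (algebraMap R R') ∧
      (∃ n : ℕ, (∀ x : R, algebraMap R R' x = 0 → ∀ a ∈ IsLocalRing.maximalIdeal R ^ n, a * x = 0) ∧
        (∀ y : R', ∀ a ∈ IsLocalRing.maximalIdeal R ^ n, a • y ∈ Set.range (algebraMap R R'))) ∧
      IsLocalRing.maximalIdeal R ∉ associatedPrimes R R' := by
  classical
  set m := IsLocalRing.maximalIdeal R with hmdef
  by_cases hass : m ∈ associatedPrimes R R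
  · -- depth zero: kill the power torsion
    let H : ℕ →o Ideal R := ⟨fun n => Submodule.colon (⊥ : Ideal R) ((m ^ n : Ideal R) : Set R), fun a b hab x hx => by
      rw [Submodule.mem_colon] at hx ⊢
      exact fun z hz => hx z (Ideal.pow_le_pow_right hab hz)⟩
    have hH : ∀ n x, x ∈ H n ↔ ∀ z ∈ m ^ n, x * z = 0 := fun n x => by
      show x ∈ Submodule.colon (⊥ : Ideal R) ((m ^ n : Ideal R) : Set R) ↔ _
      simp [Submodule.mem_colon, Submodule.mem_annihilator]
    obtain ⟨N, hN⟩ := monotone_stabilizes_iff_noetherian.mpr (inferInstance : IsNoetherian R R) H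
    obtain ⟨-, z, hz⟩ := Alg6.mem_ass_iff.mp hass
    have hz0 : z ≠ 0 := fun h => (IsLocalRing.maximalIdeal.isMaximal R).ne_top
      ((Ideal.eq_top_iff_one _).2 ((hz 1).2 (by rw [h, smul_zero])))
    have hz1 : z ∈ H (N + 1) := (hH _ _).2 fun a ha => by
      rw [mul_comm]; exact (hz a).1 (Ideal.pow_le_self N.succ_ne_zero ha)
    have hzN : z ∈ H N := by rw [hN (N + 1) N.le_succ]; exact hz1
    have hne : H N ≠ ⊤ := fun h => h1 (by
      rw [isArtinianRing_iff_isNilpotent_maximalIdeal]
      refine ⟨N, ?_⟩
      rw [Ideal.zero_eq_bot, eq_bot_iff]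
      intro a ha
      have h1' : (1 : R) ∈ H N := h ▸ Submodule.mem_top
      simpa using (hH _ _).1 h1' a ha)
    refine ⟨R ⧸ H N, inferInstance, inferInstance, Ideal.Quotient.nontrivial_iff.2 hne,
      Module.Finite.of_surjective (Algebra.linearMap R (R ⧸ H N)) Ideal.Quotient.mk_surjective, fun hb => hz0 ?_, ⟨N, ?_, ?_⟩, ?_⟩
    · refine hb.1 ?_
      rw [map_zero]
      exact Ideal.Quotient.eq_zero_iff_mem.2 hzN
    · intro x hx a ha
      rw [mul_comm]
      exact (hH _ _).1 (Ideal.Quotient.eq_zero_iff_mem.1 hx) a ha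
    · exact fun y a _ => Ideal.Quotient.mk_surjective _
    · intro hmem
      obtain ⟨hp, y, hy⟩ := Alg6.mem_ass_iff.mp hmem
      obtain ⟨y, rfl⟩ := Ideal.Quotient.mk_surjective y
      have hyN : y ∈ H (N + 1) := (hH _ _).2 fun a ha => by
        rw [pow_succ'] at ha
        refine Submodule.mul_induction_on ha ?_ ?_
        · intro b hb c hc
          have hby : b * y ∈ H N := by
            rw [← Ideal.Quotient.eq_zero_iff_mem, map_mul]
            exact (hy b).1 hb
          linear_combination (hH _ _).1 hby c hc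
        · intro u v hu hv
          rw [mul_add, hu, hv, add_zero]
      rw [← hN (N + 1) N.le_succ] at hyN
      exact hp.ne_top ((Ideal.eq_top_iff_one _).2 ((hy 1).2 (by rw [one_smul]; exact Ideal.Quotient.eq_zero_iff_mem.2 hyN)))
  -- depth one
  obtain ⟨x, hxm, hxreg⟩ := (Alg6.exists_isSMulRegular_mem_iff (M := R) m).mpr
    (fun p hp hle => hass (by rwa [← (IsLocalRing.maximalIdeal.isMaximal R).eq_of_le (IsAssociatedPrime.isPrime hp).ne_top hle] at hp))
  have hqa : m ∈ associatedPrimes R (QuotSMulTop x R) := by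
    by_contra h
    have h2' := ((Alg6.two_le_depth_iff (M := R) hxm hxreg).2 h).trans h3
    exact absurd h2' (by decide)
  obtain ⟨-, bq, hbq⟩ := Alg6.mem_ass_iff.mp hqa
  obtain ⟨b, rfl⟩ := Submodule.Quotient.mk_surjective _ bq
  have hb : ∀ a : R, a ∈ m ↔ ∃ w, x * w = a * b := fun a => by
    rw [hbq a, ← Submodule.Quotient.mk_smul, Alg6.mem_pointwise_smul_top_iff]; rfl
  have hbne : ¬ ∃ w, x * w = b := fun ⟨w, hw⟩ => (IsLocalRing.maximalIdeal.isMaximal R).ne_top
    ((Ideal.eq_top_iff_one _).2 ((hb 1).2 ⟨w, by rw [one_mul]; exact hw⟩))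
  let Q := FractionRing R
  have hinj : Function.Injective (algebraMap R Q) := IsFractionRing.injective R Q
  have hxnzd : x ∈ nonZeroDivisors R := mem_nonZeroDivisors_iff_right.2 fun c hc => hxreg (by
    show x * c = x * 0
    rw [mul_zero, mul_comm, hc])
  obtain ⟨u, hu⟩ := IsLocalization.map_units Q (⟨x, hxnzd⟩ : nonZeroDivisors R)
  have hu : (u : Q) = algebraMap R Q x := hu
  have hux : algebraMap R Q x * ↑u⁻¹ = 1 := by rw [← hu, Units.mul_inv]
  let S : Subalgebra R Q :=
    { carrier := {y | ∀ z ∈ m, ∃ w ∈ m, y * algebraMap R Q z = algebraMap R Q w}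
      one_mem' := fun z hz => ⟨z, hz, one_mul _⟩
      mul_mem' := fun {y y'} hy hy' z hz => by
        obtain ⟨w, hw, e⟩ := hy' z hz
        obtain ⟨w', hw', e'⟩ := hy w hw
        exact ⟨w', hw', by rw [mul_assoc, e, e']⟩
      zero_mem' := fun z hz => ⟨0, zero_mem _, by simp⟩
      add_mem' := fun {y y'} hy hy' z hz => by
        obtain ⟨w, hw, e⟩ := hy z hz
        obtain ⟨w', hw', e'⟩ := hy' z hz
        exact ⟨w + w', add_mem hw hw', by rw [add_mul, e, e', map_add]⟩
      algebraMap_mem' := fun r z hz => ⟨r * z, m.mul_mem_left r hz, (map_mul _ _ _).symm⟩ }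
  have hSinj : Function.Injective (algebraMap R S) := fun a c h => hinj (congrArg Subtype.val h)
  haveI : Nontrivial S := hSinj.nontrivial
  have hwit : ∀ y : S, ∃ w, (y : Q) * algebraMap R Q x = algebraMap R Q w := fun y =>
    let ⟨w, _, e⟩ := y.2 x hxm
    ⟨w, e⟩
  choose f hf using hwit
  let fl : S →ₗ[R] R :=
    { toFun := f
      map_add' := fun y y' => hinj (by rw [map_add, ← hf, ← hf, ← hf, Subalgebra.coe_add, add_mul])
      map_smul' := fun r y => hinj (by
        rw [RingHom.id_apply, smul_eq_mul, map_mul, ← hf, ← hf, Subalgebra.coe_smul, Algebra.smul_def, mul_assoc]) }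
  haveI : Module.Finite R S := Module.Finite.of_injective fl fun y y' h => Subtype.ext (by
    have h' : f y = f y' := h
    have := (hf y).trans ((congrArg (algebraMap R Q) h').trans (hf y').symm)
    have h'' := congrArg (· * (↑u⁻¹ : Q)) this
    simpa [mul_assoc, hux] using h'')
  -- the witness outside `R`
  have hbS : algebraMap R Q b * (↑u⁻¹ : Q) ∈ S := by
    intro z hz
    obtain ⟨w, hw⟩ := (hb z).1 hz
    have he : algebraMap R Q b * ↑u⁻¹ * algebraMap R Q z = algebraMap R Q w := by
      have := congrArg (algebraMap R Q) hw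
      rw [map_mul, map_mul] at this
      linear_combination (-(↑u⁻¹ : Q)) * this + algebraMap R Q w * hux
    refine ⟨w, ?_, he⟩
    by_contra hwm
    -- otherwise the maximal ideal is principal, generated by a regular element
    refine h2 ?_
    have hwu : IsUnit w := IsLocalRing.notMem_maximalIdeal.1 hwm
    have hreg : IsSMulRegular R z := by
      refine isSMulRegular_iff_right_eq_zero_of_smul.2 fun c hc => hxreg ?_
      show x * c = x * 0
      rw [mul_zero]
      apply hwu.mul_left_cancel
      rw [smul_eq_mul] at hc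
      rw [mul_zero]
      calc w * (x * c) = (x * w) * c := by ring
        _ = b * (z * c) := by rw [hw]; ring
        _ = 0 := by rw [hc, mul_zero]
    have hprin : m = Ideal.span {z} := by
      refine le_antisymm (fun a ha => ?_) ((Ideal.span_singleton_le_iff_mem _).2 hz)
      obtain ⟨w', hw'⟩ := (hb a).1 ha
      obtain ⟨v, hv⟩ := hwu.exists_right_inv
      refine Ideal.mem_span_singleton.2 ⟨w' * v, hxreg ?_⟩
      show x * a = x * (z * (w' * v))
      linear_combination (-(z * v)) * hw' + (a * v) * hw - (x * a) * hv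
    have hdim : ringKrullDim R = 1 := by
      refine le_antisymm ?_ ?_
      · have h := ringKrullDim_le_spanFinrank_maximalIdeal R
        rw [← hmdef, hprin] at h
        refine h.trans ?_
        exact_mod_cast (Submodule.spanFinrank_span_le_ncard_of_finite (Set.finite_singleton z)).trans (Set.ncard_singleton z).le
      · by_contra hlt
        apply h1
        haveI : Ring.KrullDimLE 0 R := Ring.krullDimLE_zero_iff.mpr fun J hJ => by
          by_contra hJm
          have hlt' : J < m := lt_of_le_of_ne (IsLocalRing.le_maximalIdeal hJ.ne_top) fun e => hJm (e ▸ IsLocalRing.maximalIdeal.isMaximal R)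
          have hlt'' : (⟨J, hJ⟩ : PrimeSpectrum R) < ⟨m, (IsLocalRing.maximalIdeal.isMaximal R).isPrime⟩ := hlt'
          exact hlt (le_trans (by simp) (Order.LTSeries.length_le_krullDim ((RelSeries.singleton _ (⟨J, hJ⟩ : PrimeSpectrum R)).snoc _ hlt'')))
        exact IsNoetherianRing.isArtinianRing_of_krullDimLE_zero
    refine ⟨IsRegularLocalRing.of_spanFinrank_maximalIdeal_le R ?_, hdim⟩
    rw [hdim, ← hmdef, hprin]
    exact_mod_cast (Submodule.spanFinrank_span_le_ncard_of_finite (Set.finite_singleton z)).trans (Set.ncard_singleton z).le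
  refine ⟨S, inferInstance, inferInstance, inferInstance, inferInstance, fun hbij => hbne ?_, ⟨1, fun y hy a _ => ?_, fun y a ha => ?_⟩, ?_⟩
  · obtain ⟨c, hc⟩ := hbij.2 ⟨_, hbS⟩
    refine ⟨c, hinj ?_⟩
    have hc' : algebraMap R Q c = algebraMap R Q b * ↑u⁻¹ := congrArg Subtype.val hc
    rw [map_mul, hc']
    linear_combination algebraMap R Q b * hux
  · rw [hSinj (hy.trans (map_zero _).symm), mul_zero]
  · rw [pow_one] at ha
    obtain ⟨w, -, e⟩ := y.2 a ha
    exact ⟨w, Subtype.ext (by
      rw [Subalgebra.coe_smul, Algebra.smul_def, mul_comm, e]; rfl)⟩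
  · intro hmem
    obtain ⟨hp, y, hy⟩ := Alg6.mem_ass_iff.mp hmem
    have h0 : (y : Q) * algebraMap R Q x = 0 := by
      have := congrArg Subtype.val ((hy x).1 hxm)
      rw [Subalgebra.coe_smul, Algebra.smul_def, mul_comm] at this
      exact this
    have hy0 : y = 0 := Subtype.ext (by
      have h'' := congrArg (· * (↑u⁻¹ : Q)) h0
      simpa [mul_assoc, hux] using h'')
    exact hp.ne_top ((Ideal.eq_top_iff_one _).2 ((hy 1).2 (by rw [hy0, smul_zero])))

end Groth.Agent.S2058
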