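import Groth.Statements.S2060
import Groth.Agent.S9268
import Groth.Agent.AdicSmooth.SmallExt

set_option autoImplicit false
set_option linter.style.haveILetI false
universe u
open CAlg

namespace Groth.Agent.S2060

/-- Let `R` be Noetherian, `S` of finite type over `R` and `𝔮` a prime of `S`. Then `R → S` is smooth at
`𝔮` if and only if for every surjection `B' → B` of Artinian local `R`-algebras whose kernel is
principal and killed by the maximal ideal of `B'`, every `R`-algebra map `S → B` under which the
maximal ideal pulls back to `𝔮` lifts to `B'`. -/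
theorem result {R S : Type u} [CommRing R] [IsNoetherianRing R]
    [CommRing S] [Algebra R S] [Algebra.FiniteType R S] (q : Ideal S) [q.IsPrime] :
    Algebra.IsSmoothAt R q ↔
      ∀ (B' B : Type u) [CommRing B'] [CommRing B] [IsLocalRing B'] [IsLocalRing B]
        [IsArtinianRing B'] [IsArtinianRing B] [Algebra R B'] [Algebra R B] (π : B' →ₐ[R] B),
        Function.Surjective π →
        (∃ t : B', RingHom.ker π.toRingHom = Ideal.span {t} ∧
          ∀ a ∈ IsLocalRing.maximalIdeal B', a * t = 0) →
        ∀ g : S →ₐ[R] B, (IsLocalRing.maximalIdeal B).comap g = q →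
          ∃ g' : S →ₐ[R] B', π.comp g' = g := by
  constructor
  · intro hsm B' B _ _ _ _ _ _ _ _ π hπ ⟨t, ht, htm⟩ g hg
    have hu : ∀ y : q.primeCompl, IsUnit (g y) := fun y => by
      by_contra hy
      exact y.2 (hg.le hy)
    let gq : Localization.AtPrime q →ₐ[R] B := IsLocalization.liftAlgHom (M := q.primeCompl) hu
    have hgq : ∀ s, gq (algebraMap S (Localization.AtPrime q) s) = g s := fun s =>
      IsLocalization.lift_eq _ s
    have htm' : t ∈ IsLocalRing.maximalIdeal B' := by
      have h1 : t ∈ RingHom.ker π.toRingHom := ht.ge (Ideal.mem_span_singleton_self t)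
      exact fun hu => (hu.map π.toRingHom).ne_zero h1
    have hnil : IsNilpotent (RingHom.ker π) := by
      refine ⟨2, ?_⟩
      have : RingHom.ker π = Ideal.span {t} := ht
      rw [this, Ideal.span_singleton_pow, pow_two, htm t htm']
      simp
    refine ⟨(Algebra.FormallySmooth.liftOfSurjective gq π hπ hnil).comp
      (IsScalarTower.toAlgHom R S (Localization.AtPrime q)), AlgHom.ext fun s => ?_⟩
    show π (Algebra.FormallySmooth.liftOfSurjective gq π hπ hnil _) = g s
    rw [← hgq s]
    exact AlgHom.congr_fun (Algebra.FormallySmooth.comp_liftOfSurjective gq π hπ hnil) _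
  · intro H
    let p := Ideal.comap (algebraMap R S) q
    haveI : IsNoetherianRing S := Algebra.FiniteType.isNoetherianRing R S
    letI := (Localization.localRingHom p q (algebraMap R S) rfl).toAlgebra
    haveI : IsScalarTower R (Localization.AtPrime p) (Localization.AtPrime q) :=
      .of_algebraMap_eq fun a => by
        rw [IsScalarTower.algebraMap_apply R S (Localization.AtPrime q)]
        exact (Localization.localRingHom_to_map _ _ _ _ a).symm
    haveI : IsLocalHom (algebraMap (Localization.AtPrime p) (Localization.AtPrime q)) :=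
      Localization.isLocalHom_localRingHom p q (algebraMap R S) rfl
    refine Groth.Agent.S9268.formallySmooth_atPrime R S q
      (Groth.Agent.S9268.adic_of_adic_atPrime R S p q
        (Groth.Agent.AdicSmooth.isAdicFormallySmooth_of_smallLift ?_))
    intro A _ _ _ _ _ J hJ hlen _ ψ _ _
    letI : Algebra R A := Algebra.compHom A (algebraMap R (Localization.AtPrime p))
    haveI : IsScalarTower R (Localization.AtPrime p) A := .of_algebraMap_eq fun _ => rfl
    haveI : IsScalarTower R (Localization.AtPrime p) (A ⧸ J) := .of_algebraMap_eq fun _ => rfl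
    haveI : IsSimpleModule A J := Module.length_eq_one_iff.1 hlen
    haveI : IsArtinianRing (A ⧸ J) := Ideal.Quotient.mk_surjective.isArtinianRing
    have hJm : ∀ a ∈ IsLocalRing.maximalIdeal A, ∀ x ∈ J, a * x = 0 := fun a ha x hx => by
      have hann := IsSimpleModule.annihilator_isMaximal (R := A) (M := J)
      have : a ∈ Module.annihilator A J := by rw [IsLocalRing.eq_maximalIdeal hann]; exact ha
      exact congrArg Subtype.val (Module.mem_annihilator.1 this ⟨x, hx⟩)
    obtain ⟨t, ht⟩ : ∃ t : A, J = Ideal.span {t} := by
      haveI := IsSimpleModule.nontrivial A J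
      obtain ⟨⟨x, hx⟩, hx0⟩ := exists_ne (0 : J)
      refine ⟨x, le_antisymm (fun y hy => ?_) ((Ideal.span_singleton_le_iff_mem _).2 hx)⟩
      have := IsSimpleModule.span_singleton_eq_top A hx0
      obtain ⟨c, hc⟩ := Submodule.mem_span_singleton.1 (this.ge (Submodule.mem_top (x := (⟨y, hy⟩ : J))))
      exact Ideal.mem_span_singleton'.2 ⟨c, congrArg Subtype.val hc⟩
    let g : S →ₐ[R] A ⧸ J := (ψ.restrictScalars R).comp (IsScalarTower.toAlgHom R S (Localization.AtPrime q))
    have hgq : (IsLocalRing.maximalIdeal (A ⧸ J)).comap g = q := by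
      have h1 : (IsLocalRing.maximalIdeal (A ⧸ J)).comap ψ.toRingHom =
          IsLocalRing.maximalIdeal (Localization.AtPrime q) :=
        IsLocalRing.maximalIdeal_comap ψ.toRingHom
      conv_rhs => rw [← IsLocalization.AtPrime.under_maximalIdeal (Localization.AtPrime q) q, Ideal.under, ← h1, Ideal.comap_comap]
      rfl
    obtain ⟨g', hg'⟩ := H A (A ⧸ J) (Ideal.Quotient.mkₐ R J) Ideal.Quotient.mk_surjective
      ⟨t, by
        rw [show RingHom.ker (Ideal.Quotient.mkₐ R J).toRingHom = J from Ideal.mk_ker]; exact ht,
       fun a ha => hJm a ha t (ht.ge (Ideal.mem_span_singleton_self t))⟩ g hgq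
    have hu : ∀ y : q.primeCompl, IsUnit (g' y) := fun y => by
      by_contra hy
      refine y.2 (hgq.le (fun hu => ?_))
      have he : g y = Ideal.Quotient.mk J (g' y) := (AlgHom.congr_fun hg' y).symm
      rw [show (g : S → A ⧸ J) y = Ideal.Quotient.mk J (g' y) from he] at hu
      exact hy ((IsNilpotent.isUnit_quotient_mk_iff (I := J) ⟨2, hJ⟩).1 hu)
    let χ₀ : Localization.AtPrime q →ₐ[R] A := IsLocalization.liftAlgHom (M := q.primeCompl) hu
    have hcomp : χ₀.toRingHom.comp (algebraMap (Localization.AtPrime p) (Localization.AtPrime q)) =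
        algebraMap (Localization.AtPrime p) A := by
      apply IsLocalization.ringHom_ext p.primeCompl
      ext a
      show χ₀ (algebraMap (Localization.AtPrime p) (Localization.AtPrime q) (algebraMap R _ a)) = _
      rw [← IsScalarTower.algebraMap_apply, χ₀.commutes]
      rfl
    refine ⟨{ χ₀.toRingHom with commutes' := RingHom.congr_fun hcomp }, ?_⟩
    apply AlgHom.coe_ringHom_injective
    apply IsLocalization.ringHom_ext q.primeCompl
    ext s
    show Ideal.Quotient.mk J (χ₀ (algebraMap S (Localization.AtPrime q) s)) = ψ (algebraMap S _ s)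
    rw [show χ₀ (algebraMap S (Localization.AtPrime q) s) = g' s from IsLocalization.lift_eq _ s]
    exact AlgHom.congr_fun hg' s

end Groth.Agent.S2060
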