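import Groth.Statements.S2063
import Groth.Agent.S2820
import Groth.Agent.NormalUnib.Basic

set_option autoImplicit false
universe u
open CAlg

namespace Groth.Agent.S2063

open TensorProduct in
/-- Let `S` be of finite type over a field `k` and `𝔮` a prime of `S`. Smoothness of `S` over `k` at `𝔮`
holds exactly when the `κ(𝔮)`-dimension of `Ω_{S/k} ⊗ κ(𝔮)` is at most the local dimension of `Spec
S` at `𝔮`. -/
theorem result {k S : Type u} [Field k] [CommRing S] [Algebra k S]
    [Algebra.FiniteType k S] (q : Ideal S) [q.IsPrime] :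
    Algebra.IsSmoothAt k q ↔
      ((Module.finrank q.ResidueField (q.ResidueField ⊗[S] Ω[S⁄k]) : ℕ∞) : WithBot ℕ∞) ≤
        FlatMor.localDim (PrimeSpectrum S) ⟨q, inferInstance⟩ := by
  haveI : Algebra.FinitePresentation k S := Algebra.FinitePresentation.of_finiteType.1 inferInstance
  have hA : CAlg2.IsGeomUnibranch k := Groth.Agent.NormalUnib.isGeomUnibranch_of_normal k
  have hq : q.comap (algebraMap k S) = IsLocalRing.maximalIdeal k := by
    rw [IsLocalRing.maximalIdeal_eq_bot]
    exact (Ideal.eq_bot_or_top _).resolve_right (Ideal.IsPrime.comap _).ne_top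
  rw [Groth.Agent.S2820.result k S hA q hq]
  let e : S ≃+* (FractionRing k) ⊗[k] S :=
    ((Algebra.TensorProduct.lid k S).symm.trans (Algebra.TensorProduct.congr
      (IsLocalization.atUnits k (nonZeroDivisors k) (fun x hx => isUnit_iff_ne_zero.2 (nonZeroDivisors.ne_zero hx))) AlgEquiv.refl)).toRingEquiv
  have he : ∀ x, e x = Algebra.TensorProduct.includeRight x := fun x => by
    show Algebra.TensorProduct.congr _ AlgEquiv.refl ((Algebra.TensorProduct.lid k S).symm x) = _
    rw [Algebra.TensorProduct.lid_symm_apply, Algebra.TensorProduct.congr_apply, Algebra.TensorProduct.map_tmul]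
    simp
  let h : PrimeSpectrum ((FractionRing k) ⊗[k] S) ≃ₜ PrimeSpectrum S := PrimeSpectrum.homeomorphOfRingEquiv e.symm
  constructor
  · rintro ⟨Q', hQ', hle⟩
    have hQ'' : (h Q').asIdeal ≤ q := fun x hx => hQ' (by
      show Algebra.TensorProduct.includeRight x ∈ Q'.asIdeal
      rw [← he]; exact hx)
    have h1 : FlatMor.localDim (PrimeSpectrum ((FractionRing k) ⊗[k] S)) Q' ≤
        FlatMor.localDim (PrimeSpectrum S) ⟨q, inferInstance⟩ := by
      refine le_iInf fun U => ?_
      have hmem : h Q' ∈ U.1 := ((PrimeSpectrum.le_iff_specializes (h Q') ⟨q, inferInstance⟩).1 hQ'').mem_open U.1.2 U.2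
      refine iInf_le_of_le ⟨⟨h ⁻¹' U.1, U.1.2.preimage h.continuous⟩, hmem⟩ ?_
      exact le_of_eq (IsHomeomorph.topologicalKrullDim_eq _ (h.sets (rfl : h ⁻¹' (U.1 : Set (PrimeSpectrum S)) = _)).isHomeomorph)
    exact hle.trans h1
  · intro hle
    refine ⟨h.symm ⟨q, inferInstance⟩, ?_, ?_⟩
    · intro x hx
      have : x ∈ (h (h.symm ⟨q, inferInstance⟩)).asIdeal := by
        show e x ∈ (h.symm ⟨q, inferInstance⟩).asIdeal
        rw [he]; exact hx
      rwa [h.apply_symm_apply] at this
    · refine hle.trans (le_iInf fun U => ?_)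
      refine iInf_le_of_le ⟨⟨h.symm ⁻¹' U.1, U.1.2.preimage h.symm.continuous⟩, U.2⟩ ?_
      exact le_of_eq (IsHomeomorph.topologicalKrullDim_eq _ (h.symm.sets (rfl : h.symm ⁻¹' (U.1 : Set _) = _)).isHomeomorph)

end Groth.Agent.S2063
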