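import Groth.Statements.S2065
import Groth.Agent.H1BE.Basic
import Groth.Agent.S19962

set_option autoImplicit false
universe u
open CAlg

namespace Groth.Agent.S2065

/-- Let `R` be a Noetherian local ring and `0 → R^{n_e} → … → R^{n_1} → R^{n_0}` a complex of finite
free modules, the map `R^{n_{i+1}} → R^{n_i}` being given by the matrix `A i`. The complex is exact
at `R^{n_e}, …, R^{n_1}` if and only if for each `1 ≤ j ≤ e` the matrix of `R^{n_j} → R^{n_{j-1}}`
has rank `n_j - n_{j+1} + … ± n_e` and its ideal of minors of that size is the unit ideal or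
contains a regular sequence of length `j`. -/
theorem result {R : Type u} [CommRing R] [IsLocalRing R] [IsNoetherianRing R]
    (e : ℕ) (he : 1 ≤ e) (n : ℕ → ℕ) (A : (i : ℕ) → Matrix (Fin (n i)) (Fin (n (i + 1))) R)
    (hA : ∀ i, i + 2 ≤ e → A i * A (i + 1) = 0) :
    (LinearMap.ker (A (e - 1)).mulVecLin = ⊥ ∧
        ∀ i, i + 2 ≤ e → LinearMap.ker (A i).mulVecLin = LinearMap.range (A (i + 1)).mulVecLin) ↔
      ∀ j, 1 ≤ j → j ≤ e →
        (CAlgX.matrixRank (A (j - 1)) : ℤ) = ∑ t ∈ Finset.Icc j e, (-1 : ℤ) ^ (t - j) * (n t : ℤ) ∧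
          (CAlgX.detIdeal (A (j - 1)) = ⊤ ∨
            ∃ rs : List R, rs.length = j ∧ (∀ r ∈ rs, r ∈ CAlgX.detIdeal (A (j - 1))) ∧
              RingTheory.Sequence.IsRegular R rs) := by
  classical
  refine ⟨fun h => ?_, fun h => Groth.Agent.S19962.result e he n A hA (fun j h1 h2 => (h j h1 h2).1) fun j h1 h2 => (h j h1 h2).2⟩
  obtain ⟨hinj, hexA⟩ := h
  let A' : (i : ℕ) → Matrix (Fin (n i)) (Fin (n (i + 1))) R := fun i => if i < e then A i else 0
  have hA' : ∀ i, i < e → A' i = A i := fun i hi => if_pos hi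
  have htop : A' e = 0 := if_neg (lt_irrefl e)
  have hex : ∀ i, i < e → LinearMap.ker (A' i).mulVecLin = LinearMap.range (A' (i + 1)).mulVecLin := by
    intro i hi
    rw [hA' i hi]
    by_cases h2 : i + 2 ≤ e
    · rw [hA' (i + 1) (by omega), hexA i h2]
    · obtain rfl : e = i + 1 := by omega
      rw [htop, Matrix.mulVecLin_zero, LinearMap.range_zero]
      exact hinj
  -- the local picture at a prime
  have hloc : ∀ (p : Ideal R) [p.IsPrime] (k : ℕ), k < e →
      LocCoh.depth (Localization.AtPrime p) (Localization.AtPrime p) ≤ (k : ℕ∞) →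
      ∃ r : ℕ, (r : ℤ) = H1BE.expRank n e k ∧
        (CAlgX.minorIdeal (A k) r).map (algebraMap R (Localization.AtPrime p)) = ⊤ ∧
        ∀ s, r < s → (CAlgX.minorIdeal (A k) s).map (algebraMap R (Localization.AtPrime p)) = ⊥ := by
    intro p _ k hk hd
    have hex' : ∀ i, i < e →
        LinearMap.ker ((A' i).map (algebraMap R (Localization.AtPrime p))).mulVecLin =
          LinearMap.range ((A' (i + 1)).map (algebraMap R (Localization.AtPrime p))).mulVecLin := fun i hi =>
      McCoy.exact_map p.primeCompl _ _ (hex i hi)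
    obtain ⟨r, h1, h2, h3⟩ := H1BE.minors_of_depth_le
      (fun i => (A' i).map (algebraMap R (Localization.AtPrime p))) hex'
      (by show (A' e).map (algebraMap R (Localization.AtPrime p)) = 0
          rw [htop, Matrix.map_zero _ (map_zero _)]) hd hk.le
    refine ⟨r, h1, ?_, fun s hs => ?_⟩
    · rw [← H1BE.minorIdeal_map, ← hA' k hk]; exact h2
    · rw [← H1BE.minorIdeal_map, ← hA' k hk]; exact h3 s hs
  -- the associated primes
  have hass : ∀ (p : Ideal R) [p.IsPrime], p ∈ associatedPrimes R R → ∀ k : ℕ,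
      LocCoh.depth (Localization.AtPrime p) (Localization.AtPrime p) ≤ (k : ℕ∞) := by
    intro p _ hp k
    have h := (not_iff_not.mpr (Alg6.one_le_depth_atPrime_iff (R := R) (M := R) p)).mpr (not_not.mpr hp)
    obtain ⟨ε⟩ : Nonempty (LocalizedModule p.primeCompl R ≃ₗ[Localization.AtPrime p] Localization.AtPrime p) :=
      ⟨LinearEquiv.refl _ _⟩
    have h0 : LocCoh.depth (Localization.AtPrime p) (LocalizedModule p.primeCompl R) = 0 := by
      rw [not_le, ENat.lt_one_iff_eq_zero] at h; exact h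
    have : LocCoh.depth (Localization.AtPrime p) (Localization.AtPrime p) = 0 := h0
    rw [this]; exact zero_le
  obtain ⟨p₀, hp₀⟩ := associatedPrimes.nonempty R R
  intro j hj1 hje
  obtain ⟨k, rfl⟩ : ∃ k, j = k + 1 := ⟨j - 1, by omega⟩
  suffices h : ((CAlgX.matrixRank (A k) : ℕ) : ℤ) = H1BE.expRank n e k ∧ (CAlgX.detIdeal (A k) = ⊤ ∨
      ∃ rs : List R, rs.length = k + 1 ∧ (∀ r ∈ rs, r ∈ CAlgX.detIdeal (A k)) ∧
        RingTheory.Sequence.IsRegular R rs) from h
  have hk : k < e := by omega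
  haveI := IsAssociatedPrime.isPrime hp₀
  obtain ⟨r, hr, hrtop, -⟩ := hloc p₀ k hk (hass p₀ hp₀ k)
  have hbot : ∀ s, r < s → CAlgX.minorIdeal (A k) s = ⊥ := by
    intro s hs
    rw [eq_bot_iff]
    intro x hx
    rw [Ideal.mem_bot]
    by_contra hx0
    obtain ⟨p, hp, hle⟩ := exists_le_isAssociatedPrime_of_isNoetherianRing R x hx0
    haveI := IsAssociatedPrime.isPrime hp
    obtain ⟨r', hr', -, hb⟩ := hloc p k hk (hass p hp k)
    have : algebraMap R (Localization.AtPrime p) x = 0 := by
      rw [← Ideal.mem_bot, ← hb s (by omega)]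
      exact Ideal.mem_map_of_mem _ hx
    obtain ⟨c, hc⟩ := (IsLocalization.map_eq_zero_iff p.primeCompl _ x).1 this
    exact c.2 (hle (by rw [Submodule.mem_colon_singleton, Submodule.mem_bot, smul_eq_mul]; exact hc))
  have hne : CAlgX.minorIdeal (A k) r ≠ ⊥ := fun h0 => by
    rw [h0, Ideal.map_bot] at hrtop
    exact bot_ne_top hrtop
  have hrank : CAlgX.matrixRank (A k) = r := by
    have hle : ∀ s ∈ {r : ℕ | CAlgX.minorIdeal (A k) r ≠ ⊥}, s ≤ r := fun s hs => by
      by_contra h; exact hs (hbot s (by omega))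
    exact le_antisymm (csSup_le ⟨r, hne⟩ hle) (le_csSup ⟨r, hle⟩ hne)
  refine ⟨by rw [hrank]; exact hr, ?_⟩
  rw [CAlgX.detIdeal, hrank]
  by_cases htopI : CAlgX.minorIdeal (A k) r = ⊤
  · exact Or.inl htopI
  refine Or.inr ?_
  let I := CAlgX.minorIdeal (A k) r
  have hdepth : ((k + 1 : ℕ) : ℕ∞) ≤ LocCoh.idealDepth I R := by
    rw [LC.idealDepth_eq_iInf_depth]
    refine le_iInf₂ fun q hq => ?_
    by_contra hlt
    obtain ⟨r', hr', ht', -⟩ := hloc q.asIdeal k hk (by
      rw [not_le] at hlt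
      have hlt' : LocCoh.depth (Localization.AtPrime q.asIdeal) (Localization.AtPrime q.asIdeal) <
          ((k + 1 : ℕ) : ℕ∞) := hlt
      push_cast at hlt'
      exact Order.le_of_lt_add_one hlt')
    obtain rfl : r' = r := by omega
    have hle : Ideal.map (algebraMap R (Localization.AtPrime q.asIdeal)) I ≤
        IsLocalRing.maximalIdeal (Localization.AtPrime q.asIdeal) := by
      rw [← Localization.AtPrime.map_eq_maximalIdeal]; exact Ideal.map_mono hq
    exact (IsLocalRing.maximalIdeal.isMaximal _).ne_top (top_le_iff.mp (ht'.ge.trans hle))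
  obtain ⟨rs, hws, hmem, hlen⟩ := Alg6.exists_length_ge_of_le_idealDepth
    (by rw [smul_eq_mul, Ideal.mul_top]; exact htopI) hdepth
  refine ⟨rs.take (k + 1), by simp; omega, fun x hx => hmem x (List.mem_of_mem_take hx), ?_⟩
  refine (IsLocalRing.isRegular_iff_isWeaklyRegular_of_subset_maximalIdeal fun x hx =>
    IsLocalRing.le_maximalIdeal htopI (hmem x (List.mem_of_mem_take hx))).mpr ?_
  rw [← List.take_append_drop (k + 1) rs, RingTheory.Sequence.isWeaklyRegular_append_iff] at hws
  exact hws.1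

end Groth.Agent.S2065
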