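import Groth.Statements.S2099
import Groth.Agent.H1Sect.Levels
import Mathlib.RingTheory.MvPowerSeries.Equiv

set_option autoImplicit false
universe u
open CAlg

namespace Groth.Agent.S2099

/-- Let `R → S` be smooth with an `R`-algebra retraction `σ : S → R` and `I = ker σ`. If `I/I²` is free
of rank `d` over `R`, then the `I`-adic completion of `S` is isomorphic as an `R`-algebra to the
power series ring in `d` variables over `R`. -/
theorem result {R S : Type u} [CommRing R] [CommRing S] [Algebra R S]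
    [Algebra.Smooth R S] (σ : S →ₐ[R] R) (d : ℕ)
    (e : (RingHom.ker σ.toRingHom).Cotangent ≃ₗ[R] (Fin d → R)) :
    Nonempty (AdicCompletion (RingHom.ker σ.toRingHom) S ≃ₐ[R] MvPowerSeries (Fin d) R) := by
  classical
  choose x hx using fun i : Fin d => Ideal.toCotangent_surjective _ (e.symm (Pi.single i 1))
  have hxσ : ∀ i, σ (x i : S) = 0 := fun i => (x i).2
  have hcot : ∀ c : Fin d → R, ∀ h : ∑ i, c i • (x i : S) ∈ RingHom.ker σ.toRingHom,
      e ((RingHom.ker σ.toRingHom).toCotangent ⟨∑ i, c i • (x i : S), h⟩) = c := by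
    intro c h
    have h1 : (⟨∑ i, c i • (x i : S), h⟩ : RingHom.ker σ.toRingHom) = ∑ i, algebraMap R S (c i) • x i :=
      Subtype.ext (by
        rw [Submodule.coe_sum]
        show ∑ i, c i • (x i : S) = _
        exact Finset.sum_congr rfl fun i _ => (Algebra.smul_def (c i) (x i : S)))
    rw [h1, map_sum, map_sum]
    funext j
    rw [Finset.sum_apply, Finset.sum_eq_single j]
    · rw [map_smul, hx, algebraMap_smul, map_smul, LinearEquiv.apply_symm_apply, Pi.smul_apply, Pi.single_eq_same,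
        smul_eq_mul, mul_one]
    · intro b _ hb
      rw [map_smul, hx, algebraMap_smul, map_smul, LinearEquiv.apply_symm_apply, Pi.smul_apply,
        Pi.single_eq_of_ne (Ne.symm hb), smul_zero]
    · simp
  have hmem : ∀ c : Fin d → R, ∑ i, c i • (x i : S) ∈ RingHom.ker σ.toRingHom := fun c => by
    show σ (∑ i, c i • (x i : S)) = 0
    simp [map_sum, map_smul, hxσ]
  have hspan : ∀ y : S, σ y = 0 → ∃ c : Fin d → R, y - ∑ i, c i • (x i : S) ∈ RingHom.ker σ.toRingHom ^ 2 := by
    intro y hy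
    refine ⟨e ((RingHom.ker σ.toRingHom).toCotangent ⟨y, hy⟩), ?_⟩
    exact (Ideal.toCotangent_eq (x := ⟨y, hy⟩) (y := ⟨_, hmem _⟩) _).1 (e.injective (hcot _ (hmem _)).symm)
  have hindep : ∀ c : Fin d → R, ∑ i, c i • (x i : S) ∈ RingHom.ker σ.toRingHom ^ 2 → c = 0 := fun c hc => by
    have h := (Ideal.toCotangent_eq_zero _ ⟨_, hmem c⟩).2 hc
    rw [← hcot c (hmem c), h, map_zero]
  have hα : MvPolynomial.idealOfVars (Fin d) R ≤
      (RingHom.ker σ.toRingHom).comap (MvPolynomial.aeval fun i => (x i : S)) := by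
    refine Ideal.span_le.2 ?_
    rintro _ ⟨i, rfl⟩
    show σ (MvPolynomial.aeval (fun i => (x i : S)) (MvPolynomial.X i)) = 0
    rw [MvPolynomial.aeval_X]; exact hxσ i
  obtain ⟨E⟩ := H1Sect.equiv_of_levels (MvPolynomial.idealOfVars (Fin d) R) (RingHom.ker σ.toRingHom) _ hα
    fun n => H1Sect.bijective_lev σ _ hxσ hspan hindep hα n
  exact ⟨E.symm.trans ((MvPowerSeries.toAdicCompletionAlgEquiv (Fin d) R).symm.restrictScalars R)⟩

end Groth.Agent.S2099
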