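import Groth.Statements.S2100
import Mathlib
import Groth.Agent.S12439

set_option autoImplicit false
universe u
open CAlg

namespace Groth.Agent.S2100

/-- Let `k` be a field, `𝔮` a prime of `k[x_1, …, x_n]` and `r` the transcendence degree of `κ(𝔮)` over
`k`. Then there is a finite `k`-algebra map `φ : k[y_1, …, y_n] → k[x_1, …, x_n]` with `φ⁻¹(𝔮) =
(y_{r+1}, …, y_n)`. -/
theorem result {k : Type u} [Field k] (n r : ℕ) (q : Ideal (MvPolynomial (Fin n) k))
    [q.IsPrime] (hr : Algebra.trdeg k q.ResidueField = r) :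
    ∃ φ : MvPolynomial (Fin n) k →ₐ[k] MvPolynomial (Fin n) k, φ.toRingHom.Finite ∧
      q.comap φ = Ideal.span (Set.range fun i : {i : Fin n // r ≤ (i : ℕ)} => MvPolynomial.X (i : Fin n)) := by
  classical
  obtain ⟨φ, hφ, hinj, hc⟩ := NoetherNormZ.exists_adapted n (fun _ : Unit => q) (fun _ => Ideal.IsPrime.ne_top ‹_›)
    fun _ _ => Or.inl le_rfl
  obtain ⟨h, hh, hc⟩ := hc ()
  -- the height of the coordinate subspace
  let ψ : (MvPolynomial (Fin n) k ⧸ NoetherNormZ.initIdeal k n h) →+* MvPolynomial (Fin n) k ⧸ q :=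
    Ideal.quotientMap _ φ.toRingHom (le_of_eq hc.symm)
  letI := ψ.toAlgebra
  haveI : FaithfulSMul (MvPolynomial (Fin n) k ⧸ NoetherNormZ.initIdeal k n h) (MvPolynomial (Fin n) k ⧸ q) :=
    (faithfulSMul_iff_algebraMap_injective _ _).2 (Ideal.quotientMap_injective' (le_of_eq hc))
  haveI : Algebra.IsIntegral (MvPolynomial (Fin n) k ⧸ NoetherNormZ.initIdeal k n h) (MvPolynomial (Fin n) k ⧸ q) :=
    ⟨(RingHom.IsIntegral.tower_top (Ideal.Quotient.mk _) ψ (by
      rw [Ideal.quotientMap_comp_mk]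
      exact hφ.trans _ _ (RingHom.isIntegral_of_surjective _ Ideal.Quotient.mk_surjective)))⟩
  have h1 := VarDim.ringKrullDim_eq_of_isIntegral (R := MvPolynomial (Fin n) k ⧸ NoetherNormZ.initIdeal k n h)
    (S := MvPolynomial (Fin n) k ⧸ q)
  rw [S12439.ringKrullDim_quotInit k n h hh] at h1
  obtain ⟨m, hm, htr⟩ := VarDim.exists_dim_eq_trdeg k (MvPolynomial (Fin n) k ⧸ q)
  have hmh : m = n - h := by
    rw [hm] at h1
    exact_mod_cast h1
  have h2 := lift_trdeg_add_eq k (MvPolynomial (Fin n) k ⧸ q) q.ResidueField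
  haveI : Algebra.IsAlgebraic (MvPolynomial (Fin n) k ⧸ q) q.ResidueField :=
    IsLocalization.isAlgebraic _ (nonZeroDivisors _)
  rw [trdeg_eq_zero (R := MvPolynomial (Fin n) k ⧸ q), htr, hr] at h2
  have hrm : r = m := by simpa using h2.symm
  -- reverse the variables
  let rev : MvPolynomial (Fin n) k ≃ₐ[k] MvPolynomial (Fin n) k := MvPolynomial.renameEquiv k Fin.revPerm
  let revH : MvPolynomial (Fin n) k →ₐ[k] MvPolynomial (Fin n) k := rev.toAlgHom
  refine ⟨φ.comp revH, NoetherNormZ.finite_of_isIntegral (φ := φ.comp revH)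
    ((RingHom.isIntegral_of_surjective _ rev.surjective).trans _ _ hφ), ?_⟩
  have hmap : (NoetherNormZ.initIdeal k n h).map revH =
      Ideal.span (Set.range fun i : {i : Fin n // r ≤ (i : ℕ)} => MvPolynomial.X (i : Fin n)) := by
    rw [NoetherNormZ.initIdeal, Ideal.map_span]
    refine congrArg _ (Set.ext fun p => ⟨?_, ?_⟩)
    · rintro ⟨_, ⟨l, hl, rfl⟩, rfl⟩
      refine ⟨⟨l.rev, ?_⟩, by simp [rev, revH]⟩
      have hl' : (l : ℕ) < h := hl
      rw [Fin.val_rev]
      omega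
    · rintro ⟨⟨i, hi⟩, rfl⟩
      refine ⟨MvPolynomial.X i.rev, ⟨i.rev, ?_, rfl⟩, by simp [rev, revH]⟩
      show (i.rev : ℕ) < h
      have := i.isLt
      rw [Fin.val_rev]
      omega
  rw [← hmap, ← hc]
  have hinv : ∀ p, rev (rev p) = p := fun p => by
    show MvPolynomial.rename _ (MvPolynomial.rename _ p) = p
    rw [MvPolynomial.rename_rename, show (⇑(Fin.revPerm : Equiv.Perm (Fin n)) ∘ ⇑(Fin.revPerm : Equiv.Perm (Fin n))) = id from
      funext fun x => by simp, MvPolynomial.rename_id_apply]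
  ext p
  refine ⟨fun hp => ?_, fun hp => ?_⟩
  · rw [← hinv p]
    exact Ideal.mem_map_of_mem revH hp
  · obtain ⟨y, hy, rfl⟩ := (Ideal.mem_map_iff_of_surjective revH rev.surjective).1 hp
    show φ (rev (rev y)) ∈ q
    rw [hinv]
    exact hy

end Groth.Agent.S2100
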