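import Groth.Statements.S2101
import Mathlib

set_option autoImplicit false
universe u
open CAlg

namespace Groth.Agent.S2101

/-- For elements `f_1, …, f_r` generating a proper ideal, all reorderings are regular sequences in `R`
if and only if the products `f_i x_i` form a regular sequence in `R[x_1, …, x_r]`. -/
theorem result {R : Type u} [CommRing R] {r : ℕ} (f : Fin r → R)
    (hf : Ideal.span (Set.range f) ≠ ⊤) :
    (∀ σ : Equiv.Perm (Fin r), RingTheory.Sequence.IsRegular R (List.ofFn (f ∘ σ))) ↔
      RingTheory.Sequence.IsRegular (MvPolynomial (Fin r) R)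
        (List.ofFn fun i => MvPolynomial.C (f i) * MvPolynomial.X i) := by
  classical
  have key : ∀ {A : Type u} [CommRing A] (g : Fin r → A),
      RingTheory.Sequence.IsWeaklyRegular A (List.ofFn g) ↔
        ∀ (i : Fin r) (x : A), g i * x ∈ Ideal.span (g '' {j | j < i}) → x ∈ Ideal.span (g '' {j | j < i}) := by
    intro A _ g
    have hI : ∀ (i : ℕ) (hi : i < r), (Ideal.ofList ((List.ofFn g).take i) • ⊤ : Submodule A A) =
        Ideal.span (g '' {j | j < (⟨i, hi⟩ : Fin r)}) := by
      intro i hi
      rw [smul_eq_mul, Ideal.mul_top, Ideal.ofList]
      congr 1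
      ext x
      simp only [List.mem_take_iff_getElem, List.length_ofFn, List.getElem_ofFn, Set.mem_setOf_eq, Set.mem_image]
      constructor
      · rintro ⟨j, hj, rfl⟩
        exact ⟨⟨j, by omega⟩, by show j < i; omega, rfl⟩
      · rintro ⟨j, hj, rfl⟩
        exact ⟨j.1, by have : j.1 < i := hj; omega, rfl⟩
    constructor
    · intro h i x hx
      have := isSMulRegular_on_quot_iff_lsmul_comap_le _ _ |>.mp (h.regular_mod_prev i.1 (by simp))
      rw [hI i.1 i.2, List.getElem_ofFn] at this
      exact this hx
    · intro h
      refine ⟨fun i hi => (isSMulRegular_on_quot_iff_lsmul_comap_le _ _).mpr fun x hx => ?_⟩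
      have hi' : i < r := by simpa using hi
      rw [hI i hi', List.getElem_ofFn] at hx
      rw [hI i hi']
      exact h ⟨i, hi'⟩ x hx
  let C : Fin r → Finset (Fin r) → Prop := fun i S =>
    ∀ x : R, f i * x ∈ Ideal.span (f '' S) → x ∈ Ideal.span (f '' S)
  constructor
  · intro h
    have hC : ∀ (i : Fin r) (S : Finset (Fin r)), i ∉ S → C i S := by
      intro i S hiS
      let L : List (Fin r) := S.toList ++ (i :: (Finset.univ \ insert i S).toList)
      have hmem : ∀ a, a ∈ L := fun a => by
        simp only [L, List.mem_append, List.mem_cons, Finset.mem_toList, Finset.mem_sdiff, Finset.mem_univ, true_and,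
          Finset.mem_insert]
        tauto
      have hnd : L.Nodup := by
        simp only [L, List.nodup_append', Finset.nodup_toList, List.nodup_cons, Finset.mem_toList,
          Finset.mem_sdiff, Finset.mem_insert, List.disjoint_left, List.mem_cons, true_or, not_true, and_false,
          not_false_eq_true, true_and]
        intro a ha hor
        rcases hor with rfl | ⟨-, hn⟩
        · exact hiS ha
        · exact hn (Or.inr ha)
      let eL := List.Nodup.getEquivOfForallMemList L hnd hmem
      have hlen : L.length = r := by simpa using Fintype.card_congr eL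
      let σ : Equiv.Perm (Fin r) := (finCongr hlen.symm).trans eL
      have hk : S.card < r := by
        refine lt_of_lt_of_eq ?_ hlen
        simp [L]
      have hσ : ∀ j : Fin r, σ j = L[j.1]'(by rw [hlen]; exact j.2) := fun j => rfl
      have hσi : σ ⟨S.card, hk⟩ = i := by
        rw [hσ]
        simp [L]
      have himg : σ '' {j | j < (⟨S.card, hk⟩ : Fin r)} = (S : Set (Fin r)) := by
        ext a
        constructor
        · rintro ⟨j, hj, rfl⟩
          have hj' : j.1 < S.toList.length := by
            have h' : j.1 < S.card := hj
            simpa using h'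
          rw [hσ, List.getElem_append_left hj', Finset.mem_coe, ← Finset.mem_toList]
          exact List.getElem_mem _
        · intro ha
          obtain ⟨j, hj, rfl⟩ := List.mem_iff_getElem.mp (Finset.mem_toList.mpr ha)
          have hj' : j < S.card := by simpa using hj
          exact ⟨⟨j, lt_trans hj' hk⟩, hj', by rw [hσ, List.getElem_append_left hj]⟩
      intro x hx
      have := (key (f ∘ σ)).mp (h σ).toIsWeaklyRegular ⟨S.card, hk⟩ x
      rw [Set.image_comp, himg, Function.comp_apply, hσi] at this
      exact this hx
    have hR : Nontrivial R := by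
      refine (subsingleton_or_nontrivial R).resolve_left fun hsub => hf ?_
      exact Subsingleton.elim _ _
    refine ⟨(key _).mpr fun i p hp => ?_, ?_⟩
    · let g : Fin r → MvPolynomial (Fin r) R := fun i => MvPolynomial.C (f i) * MvPolynomial.X i
      have hcoeff : ∀ q ∈ Ideal.span (g '' {j | j < i}), ∀ a : Fin r →₀ ℕ,
          MvPolynomial.coeff a q ∈ Ideal.span (f '' ↑(a.support.filter (· < i))) := by
        intro q hq
        induction hq using Submodule.span_induction with
        | mem q hq =>
          obtain ⟨j, hj, rfl⟩ := hq
          intro a
          simp only [g]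
          rw [MvPolynomial.coeff_C_mul, MvPolynomial.coeff_X']
          split_ifs with he
          · subst he
            rw [mul_one]
            exact Ideal.subset_span ⟨j, by simp [Finsupp.support_single_ne_zero, show j < i from hj], rfl⟩
          · rw [mul_zero]; exact Submodule.zero_mem _
        | zero => intro a; simp
        | add u v _ _ hu hv => intro a; rw [MvPolynomial.coeff_add]; exact add_mem (hu a) (hv a)
        | smul c u _ hu =>
          intro a
          rw [smul_eq_mul, MvPolynomial.coeff_mul]
          refine sum_mem fun b hb => Ideal.mul_mem_left _ _ ?_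
          have hb' := Finset.HasAntidiagonal.mem_antidiagonal.mp hb
          refine Ideal.span_mono (Set.image_mono ?_) (hu b.2)
          intro j hj
          simp only [Finset.coe_filter, Set.mem_setOf_eq, Finsupp.mem_support_iff] at hj ⊢
          refine ⟨?_, hj.2⟩
          rw [← hb', Finsupp.add_apply]
          have := hj.1
          omega
      have hmem : ∀ (a : Fin r →₀ ℕ) (c : R), c ∈ Ideal.span (f '' ↑(a.support.filter (· < i))) →
          MvPolynomial.monomial a c ∈ Ideal.span (g '' {j | j < i}) := by
        intro a c hc
        induction hc using Submodule.span_induction with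
        | mem c hc =>
          obtain ⟨j, hj, rfl⟩ := hc
          simp only [Finset.coe_filter, Set.mem_setOf_eq, Finsupp.mem_support_iff] at hj
          have ha : a = (a - Finsupp.single j 1) + Finsupp.single j 1 := by
            ext l
            by_cases hl : l = j
            · subst hl; simp; omega
            · simp [Finsupp.single_eq_of_ne hl]
          have hX : MvPolynomial.monomial a (f j) = MvPolynomial.monomial (a - Finsupp.single j 1) (1 : R) * g j := by
            simp only [g, MvPolynomial.C_mul_X_eq_monomial]
            rw [MvPolynomial.monomial_mul, one_mul, ← ha]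
          rw [hX]
          exact Ideal.mul_mem_left _ _ (Ideal.subset_span ⟨j, hj.2, rfl⟩)
        | zero => simp
        | add u v _ _ hu hv => rw [map_add]; exact add_mem hu hv
        | smul c u _ hu =>
          rw [smul_eq_mul, ← MvPolynomial.C_mul_monomial]
          exact Ideal.mul_mem_left _ _ hu
      show p ∈ Ideal.span (g '' {j | j < i})
      rw [MvPolynomial.as_sum p]
      refine sum_mem fun a _ => hmem a _ ?_
      refine hC i _ (by simp) _ ?_
      have h1 := hcoeff _ hp (a + Finsupp.single i 1)
      have hsupp : (a + Finsupp.single i 1).support.filter (· < i) = a.support.filter (· < i) := by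
        ext j
        simp only [Finset.mem_filter, Finsupp.mem_support_iff, Finsupp.add_apply]
        constructor
        · rintro ⟨h1, h2⟩
          rw [Finsupp.single_eq_of_ne (ne_of_lt h2), add_zero] at h1
          exact ⟨h1, h2⟩
        · rintro ⟨h1, h2⟩
          exact ⟨by omega, h2⟩
      rw [hsupp, mul_assoc, MvPolynomial.coeff_C_mul, mul_comm (MvPolynomial.X i), MvPolynomial.coeff_mul_X] at h1
      exact h1
    · rw [smul_eq_mul, Ideal.mul_top]
      intro htop
      have h1 : (1 : MvPolynomial (Fin r) R) ∈ Ideal.ofList (List.ofFn fun i => MvPolynomial.C (f i) * MvPolynomial.X i) :=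
        htop ▸ Submodule.mem_top
      have hle : Ideal.ofList (List.ofFn fun i => MvPolynomial.C (f i) * MvPolynomial.X i) ≤
          RingHom.ker (MvPolynomial.constantCoeff : MvPolynomial (Fin r) R →+* R) := by
        rw [Ideal.ofList, Ideal.span_le]
        rintro _ hx
        obtain ⟨j, rfl⟩ := List.mem_ofFn.mp hx
        simp
      exact one_ne_zero ((map_one MvPolynomial.constantCoeff).symm.trans (hle h1))
  · intro h σ
    let g : Fin r → MvPolynomial (Fin r) R := fun i => MvPolynomial.C (f i) * MvPolynomial.X i
    have h0 : ∀ (i : Fin r) (S : Finset (Fin r)), (∀ j ∈ S, j < i) → C i S := by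
      intro i S hS x hx
      let e : Fin r →₀ ℕ := ∑ j ∈ S, Finsupp.single j 1
      have he : ∀ j, e j = if j ∈ S then 1 else 0 := fun j => by
        simp [e, Finsupp.finsetSum_apply, Finsupp.single_apply]
      have hmul : ∀ c ∈ Ideal.span (f '' S),
          MvPolynomial.monomial e c ∈ Ideal.span (g '' {j | j < i}) := by
        intro c hc
        induction hc using Submodule.span_induction with
        | mem c hc =>
          obtain ⟨j, hj, rfl⟩ := hc
          have hj' : e = (e - Finsupp.single j 1) + Finsupp.single j 1 := by
            ext l
            by_cases hl : l = j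
            · subst hl; simp [he, Finset.mem_coe.mp hj]
            · simp [Finsupp.single_eq_of_ne hl]
          have hX : MvPolynomial.monomial e (f j) = MvPolynomial.monomial (e - Finsupp.single j 1) (1 : R) * g j := by
            simp only [g, MvPolynomial.C_mul_X_eq_monomial]
            rw [MvPolynomial.monomial_mul, one_mul, ← hj']
          rw [hX]
          exact Ideal.mul_mem_left _ _ (Ideal.subset_span ⟨j, hS j hj, rfl⟩)
        | zero => simp
        | add u v _ _ hu hv => rw [map_add]; exact add_mem hu hv
        | smul c u _ hu =>
          rw [smul_eq_mul, ← MvPolynomial.C_mul_monomial]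
          exact Ideal.mul_mem_left _ _ hu
      have h2 : g i * MvPolynomial.monomial e x ∈ Ideal.span (g '' {j | j < i}) := by
        have h3 : g i * MvPolynomial.monomial e x = MvPolynomial.X i * MvPolynomial.monomial e (f i * x) := by
          simp only [g]
          rw [← MvPolynomial.C_mul_monomial]
          ring
        rw [h3]
        exact Ideal.mul_mem_left _ _ (hmul _ hx)
      have h4 := (key g).mp h.toIsWeaklyRegular i _ h2
      have hcoeff : ∀ q ∈ Ideal.span (g '' {j | j < i}), ∀ a : Fin r →₀ ℕ, (∀ j, a j ≠ 0 → j ∈ S) →
          MvPolynomial.coeff a q ∈ Ideal.span (f '' S) := by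
        intro q hq
        induction hq using Submodule.span_induction with
        | mem q hq =>
          obtain ⟨j, hj, rfl⟩ := hq
          intro a ha
          simp only [g]
          rw [MvPolynomial.coeff_C_mul, MvPolynomial.coeff_X']
          split_ifs with he'
          · subst he'
            rw [mul_one]
            exact Ideal.subset_span ⟨j, ha j (by simp), rfl⟩
          · rw [mul_zero]; exact Submodule.zero_mem _
        | zero => intro a _; simp
        | add u v _ _ hu hv => intro a ha; rw [MvPolynomial.coeff_add]; exact add_mem (hu a ha) (hv a ha)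
        | smul c u _ hu =>
          intro a ha
          rw [smul_eq_mul, MvPolynomial.coeff_mul]
          refine sum_mem fun b hb => Ideal.mul_mem_left _ _ (hu b.2 fun j hj => ha j ?_)
          have hb' := Finset.HasAntidiagonal.mem_antidiagonal.mp hb
          rw [← hb', Finsupp.add_apply]
          omega
      have h5 := hcoeff _ h4 e (fun j hj => by
        by_contra hn
        rw [he, if_neg hn] at hj
        exact hj rfl)
      rwa [MvPolynomial.coeff_monomial, if_pos rfl] at h5
    have hC : ∀ (S : Finset (Fin r)) (i : Fin r), i ∉ S → C i S := by
      intro S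
      induction S using Finset.strongInduction with
      | _ S ih =>
        intro i hiS
        by_cases hall : ∀ j ∈ S, j < i
        · exact h0 i S hall
        · obtain ⟨j, hjS, hji⟩ : ∃ j ∈ S, ¬ j < i := by simpa using hall
          obtain ⟨m, hm, hmax⟩ : ∃ m ∈ S, ∀ l ∈ S, l ≤ m :=
            ⟨S.max' ⟨j, hjS⟩, S.max'_mem _, fun l hl => S.le_max' l hl⟩
          have him : i < m := by
            have h1 : i ≠ j := fun e => hiS (e ▸ hjS)
            exact lt_of_lt_of_le (lt_of_le_of_ne (not_lt.mp hji) h1) (hmax j hjS)
          let S' := S.erase m
          have hS : f '' S = insert (f m) (f '' S') := by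
            rw [← Set.image_insert_eq, ← Finset.coe_insert, Finset.insert_erase hm]
          have hlt : ∀ l ∈ S', l < m := fun l hl =>
            lt_of_le_of_ne (hmax l (Finset.mem_of_mem_erase hl)) (Finset.ne_of_mem_erase hl)
          have hi' := ih S' (Finset.erase_ssubset hm) i (fun e => hiS (Finset.mem_of_mem_erase e))
          have hm' : C m (insert i S') := h0 m _ (fun l hl => by
            rcases Finset.mem_insert.mp hl with rfl | hl
            · exact him
            · exact hlt l hl)
          intro x hx
          rw [hS, Ideal.span_insert, Submodule.mem_sup] at hx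
          obtain ⟨_, hy, z, hz, hxy⟩ := hx
          obtain ⟨b, rfl⟩ := Ideal.mem_span_singleton'.mp hy
          have hb : b ∈ Ideal.span (f '' ↑(insert i S')) := hm' b (by
            rw [Finset.coe_insert, Set.image_insert_eq, Ideal.span_insert]
            refine Submodule.mem_sup.mpr ⟨x * f i, Ideal.mem_span_singleton'.mpr ⟨x, rfl⟩, -z, neg_mem hz, ?_⟩
            linear_combination -hxy)
          rw [Finset.coe_insert, Set.image_insert_eq, Ideal.span_insert, Submodule.mem_sup] at hb
          obtain ⟨_, hy', w, hw, hbw⟩ := hb
          obtain ⟨c, rfl⟩ := Ideal.mem_span_singleton'.mp hy'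
          have hd : x - f m * c ∈ Ideal.span (f '' S') := hi' _ (by
            have : f i * (x - f m * c) = f m * w + z := by linear_combination -hxy - f m * hbw
            rw [this]
            exact add_mem (Ideal.mul_mem_left _ _ hw) hz)
          rw [hS, Ideal.span_insert, Submodule.mem_sup]
          exact ⟨f m * c, Ideal.mem_span_singleton'.mpr ⟨c, mul_comm _ _⟩, _, hd, by ring⟩
    refine ⟨(key _).mpr fun i x hx => ?_, ?_⟩
    · have himg : (f ∘ σ) '' {j | j < i} = f '' ↑((Finset.univ.filter (· < i)).image σ) := by
        rw [Set.image_comp]
        congr 1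
        ext; simp
      rw [himg] at hx ⊢
      exact hC _ _ (by simp) x hx
    · rw [smul_eq_mul, Ideal.mul_top]
      intro htop
      refine hf ?_
      rw [htop, Ideal.ofList]
      congr 1
      ext x
      simp only [List.mem_ofFn, Set.mem_setOf_eq, Set.mem_range, Function.comp_apply]
      constructor
      · rintro ⟨j, rfl⟩; exact ⟨σ.symm j, by simp⟩
      · rintro ⟨j, rfl⟩; exact ⟨σ j, rfl⟩

end Groth.Agent.S2101
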