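import Groth.Statements.S2106
import Groth.Agent.H1EssFP.Ker
import Groth.Agent.H1EssFP.Fibre
import Groth.Agent.H1EssFP.Descend
set_option backward.isDefEq.respectTransparency false
set_option backward.isDefEq.respectTransparency.types false
set_option maxHeartbeats 2000000
set_option linter.style.haveILetI false
open TensorProduct

set_option autoImplicit false
universe u
open CAlg

namespace Groth.Agent.S2106

/-- Let `R → S → S'` be local homomorphisms of local rings with `S` and `S'` essentially of finite
presentation over `R`, and `M` a nonzero finitely presented `S'`-module which is flat over `R` and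
such that `M/𝔪_R M` is flat over `S/𝔪_R S`. Then `S` is flat over `R` and `M` is flat over `S`. -/
theorem result {R S S' M : Type u} [CommRing R] [CommRing S] [CommRing S']
    [IsLocalRing R] [IsLocalRing S] [IsLocalRing S'] [Algebra R S] [Algebra S S'] [Algebra R S'] [IsScalarTower R S S']
    [IsLocalHom (algebraMap R S)] [IsLocalHom (algebraMap S S')]
    (hS : CAlgX.IsEssFinitePresentation R S) (hS' : CAlgX.IsEssFinitePresentation R S')
    [AddCommGroup M] [Module S' M] [Module S M] [Module R M] [IsScalarTower S S' M] [IsScalarTower R S' M]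
    [IsScalarTower R S M] [Module.FinitePresentation S' M] [Nontrivial M] [Module.Flat R M]
    (hfib : Module.Flat (S ⧸ (IsLocalRing.maximalIdeal R).map (algebraMap R S))
      (M ⧸ (IsLocalRing.maximalIdeal R).map (algebraMap R S) • (⊤ : Submodule S M))) :
    Module.Flat R S ∧ Module.Flat S M := by
  classical
  suffices hflat : Module.Flat S M by
    refine ⟨?_, hflat⟩
    -- `M` is faithfully flat over `S` by Nakayama over `S'`
    have : Module.FaithfullyFlat S M := by
      refine ⟨fun m hm htop => ?_⟩
      obtain rfl := IsLocalRing.eq_maximalIdeal hm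
      have h1 : (IsLocalRing.maximalIdeal S').jacobson = IsLocalRing.maximalIdeal S' :=
        IsLocalRing.jacobson_eq_maximalIdeal _ Ideal.IsPrime.ne_top'
      have h2 : (⊤ : Submodule S' M) ≤ IsLocalRing.maximalIdeal S' • ⊤ := by
        intro x _
        have hx : x ∈ IsLocalRing.maximalIdeal S • (⊤ : Submodule S M) := by rw [htop]; trivial
        induction hx using Submodule.smul_induction_on' with
        | smul a ha y _ =>
          rw [← IsScalarTower.algebraMap_smul S' a y]
          exact Submodule.smul_mem_smul (by simpa using ha) Submodule.mem_top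
        | add p _ q _ hp hq => exact add_mem (hp trivial) (hq trivial)
      have : (⊤ : Submodule S' M) = ⊥ :=
        Submodule.eq_bot_of_le_smul_of_le_jacobson_bot _ _ Module.Finite.fg_top h2
          (IsLocalRing.maximalIdeal_le_jacobson _)
      exact not_subsingleton M ((Submodule.subsingleton_iff S').mp (subsingleton_of_bot_eq_top this.symm))
    rw [Module.Flat.iff_lTensor_preserves_injective_linearMap]
    intro N N' _ _ _ _ f hf
    let g : S ⊗[R] N →ₗ[S] S ⊗[R] N' := f.baseChange S
    suffices Function.Injective g from this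
    refine (Module.FaithfullyFlat.lTensor_injective_iff_injective S M g).mp ?_
    let e : ∀ (P : Type u) [AddCommGroup P] [Module R P], M ⊗[S] (S ⊗[R] P) ≃ₗ[S] M ⊗[R] P :=
      fun P _ _ => AlgebraTensorModule.cancelBaseChange R S S M P
    have h2 : ∀ x, e N' (g.lTensor M x) = f.lTensor M (e N x) := by
      intro x
      induction x using TensorProduct.induction_on with
      | zero => simp
      | add x y hx hy => simp only [map_add, hx, hy]
      | tmul m y =>
        induction y using TensorProduct.induction_on with
        | zero => simp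
        | add y z hy hz => simp only [tmul_add, map_add, hy, hz]
        | tmul c n => simp [e, g]
    intro x y hxy
    have := congrArg (e N') hxy
    rw [h2, h2] at this
    exact (e N).injective (Module.Flat.lTensor_preserves_injective_linearMap f hf this)
  obtain ⟨S₀, _, _, _, _, P₀, hfp₀, hloc₀⟩ := hS
  obtain ⟨C, _, _, _, _, P₁, hfp₁, hloc₁⟩ := hS'
  let p : Ideal S₀ := (IsLocalRing.maximalIdeal S).comap (algebraMap S₀ S)
  haveI : IsLocalization p.primeCompl S := by
    refine IsLocalization.of_le P₀ _ (fun x hx h => ?_) (fun x hx => ?_)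
    · exact (IsLocalRing.mem_maximalIdeal _).1 h (IsLocalization.map_units S ⟨x, hx⟩)
    · by_contra h
      exact hx ((IsLocalRing.mem_maximalIdeal _).2 h)
  letI : Algebra S₀ S' := ((algebraMap S S').comp (algebraMap S₀ S)).toAlgebra
  haveI : IsScalarTower S₀ S S' := IsScalarTower.of_algebraMap_eq fun _ => rfl
  haveI : IsScalarTower R S₀ S' := IsScalarTower.of_algebraMap_eq fun r => by
    rw [IsScalarTower.algebraMap_apply S₀ S S', ← IsScalarTower.algebraMap_apply R S₀ S, ← IsScalarTower.algebraMap_apply R S S']
  obtain ⟨n, f, hf, -⟩ := Algebra.FinitePresentation.out (R := R) (A := C)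
  let B₀ := MvPolynomial (Fin n) S₀
  let ψ : B₀ →ₐ[S₀] S' := MvPolynomial.aeval fun i => algebraMap C S' (f (MvPolynomial.X i))
  have hψC : ∀ c : C, ∃ b : B₀, ψ b = algebraMap C S' c := fun c => by
    obtain ⟨z, rfl⟩ := hf c
    refine ⟨MvPolynomial.map (algebraMap R S₀) z, ?_⟩
    have h : (ψ.toRingHom).comp (MvPolynomial.map (algebraMap R S₀)) = (algebraMap C S').comp f.toRingHom :=
      MvPolynomial.ringHom_ext (fun r => by
        show ψ (MvPolynomial.map _ (MvPolynomial.C r)) = algebraMap C S' (f (MvPolynomial.C r))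
        rw [MvPolynomial.map_C, ← MvPolynomial.algebraMap_eq, ψ.commutes, ← IsScalarTower.algebraMap_apply R S₀ S',
          ← MvPolynomial.algebraMap_eq, f.commutes, ← IsScalarTower.algebraMap_apply R C S'])
        (fun i => by
          show ψ (MvPolynomial.map _ (MvPolynomial.X i)) = _
          rw [MvPolynomial.map_X, MvPolynomial.aeval_X]
          rfl)
    exact RingHom.congr_fun h z
  let q₀ : Ideal B₀ := (IsLocalRing.maximalIdeal S').comap ψ.toRingHom
  have hψu : ∀ b : B₀, b ∉ q₀ ↔ IsUnit (ψ b) := fun b =>
    ⟨fun h => by_contra fun h' => h ((IsLocalRing.mem_maximalIdeal _).2 h'),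
      fun h h' => (IsLocalRing.mem_maximalIdeal _).1 h' h⟩
  let L := Localization.AtPrime q₀
  haveI : IsScalarTower R S₀ B₀ := IsScalarTower.of_algebraMap_eq fun _ => rfl
  haveI : Algebra.FinitePresentation R B₀ := Algebra.FinitePresentation.trans R S₀ B₀
  let π₀ : L →+* S' := IsLocalization.lift (M := q₀.primeCompl) (g := ψ.toRingHom) fun b => (hψu b).1 b.2
  have hπb : ∀ b, π₀ (algebraMap B₀ L b) = ψ b := fun b => IsLocalization.lift_eq _ b
  let π : L →ₐ[R] S' := AlgHom.mk π₀ (fun r => by
    show π₀ (algebraMap R L r) = _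
    rw [IsScalarTower.algebraMap_apply R B₀ L, hπb, IsScalarTower.algebraMap_apply R S₀ B₀, ψ.commutes,
      ← IsScalarTower.algebraMap_apply R S₀ S'])
  haveI : IsLocalHom (π : L →+* S') := ⟨fun z hz => by
    obtain ⟨b, s, rfl⟩ := IsLocalization.exists_mk'_eq q₀.primeCompl z
    rw [IsLocalization.AtPrime.isUnit_mk'_iff]
    refine (hψu b).2 ?_
    have h1 : IsUnit (π₀ (IsLocalization.mk' L b s) * π₀ (algebraMap B₀ L s)) :=
      hz.mul (by rw [hπb]; exact (hψu s).1 s.2)
    rwa [← map_mul, IsLocalization.mk'_spec, hπb] at h1⟩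
  have hπ : Function.Surjective π := fun y => by
    obtain ⟨⟨c, d⟩, hcd⟩ := IsLocalization.surj P₁ y
    obtain ⟨b, hb⟩ := hψC c
    obtain ⟨b', hb'⟩ := hψC d
    have hd : IsUnit (algebraMap C S' (d : C)) := IsLocalization.map_units S' d
    refine ⟨IsLocalization.mk' L b (⟨b', (hψu b').2 (hb' ▸ hd)⟩ : q₀.primeCompl), ?_⟩
    refine hd.mul_right_cancel ?_
    rw [hcd]
    show π₀ (IsLocalization.mk' L b (⟨b', (hψu b').2 (hb' ▸ hd)⟩ : q₀.primeCompl)) * algebraMap C S' (d : C) = algebraMap C S' c
    refine (congrArg₂ (· * ·) rfl ((hπb b').trans hb').symm).trans ?_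
    refine Eq.trans ?_ ((hπb b).trans hb)
    exact (map_mul π₀ _ _).symm.trans (congrArg π₀ (IsLocalization.mk'_spec L b ⟨b', (hψu b').2 (hb' ▸ hd)⟩))
  have hker := H1EssFP.ker_fg (R := R) (B := B₀) q₀.primeCompl P₁ π hπ
  letI : Algebra L S' := π.toRingHom.toAlgebra
  haveI : Module.FinitePresentation L S' :=
    Module.finitePresentation_of_surjective (Algebra.linearMap L S') hπ (by
      rwa [show LinearMap.ker (Algebra.linearMap L S') = RingHom.ker (π : L →+* S') from
        Submodule.ext fun _ => Iff.rfl])
  letI : Module L M := Module.compHom M π.toRingHom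
  haveI : IsScalarTower L S' M := IsScalarTower.of_algebraMap_smul fun _ _ => rfl
  haveI := Module.FinitePresentation.trans L M S'
  haveI : IsScalarTower R L M := IsScalarTower.of_algebraMap_smul fun r m => by
    show π (algebraMap R L r) • m = r • m
    rw [π.commutes, algebraMap_smul]
  have hp : q₀.comap (algebraMap S₀ B₀) = p := by
    show ((IsLocalRing.maximalIdeal S').comap ψ.toRingHom).comap _ = _
    rw [Ideal.comap_comap, show ψ.toRingHom.comp (algebraMap S₀ B₀) = algebraMap S₀ S' from AlgHom.comp_algebraMap ψ,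
      IsScalarTower.algebraMap_eq S₀ S S', ← Ideal.comap_comap,
      (((IsLocalRing.local_hom_TFAE (algebraMap S S')).out 0 4).1 ‹IsLocalHom (algebraMap S S')› :
        (IsLocalRing.maximalIdeal S').comap (algebraMap S S') = IsLocalRing.maximalIdeal S)]
  haveI : IsLocalization (q₀.comap (algebraMap S₀ B₀)).primeCompl S := by
    simp only [hp]; infer_instance
  refine H1EssFP.flat_descend (R := R) (S₀ := S₀) (B := B₀) (L := L) q₀ (IsLocalRing.maximalIdeal S)
    (IsLocalRing.maximalIdeal R) (by rw [hp]; exact IsLocalization.AtPrime.map_eq_maximalIdeal p S)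
    (IsLocalRing.map_maximalIdeal_le (algebraMap R S)) (fun x m => ?_) hfib
  show π₀ (algebraMap S₀ L x) • m = algebraMap S₀ S x • m
  rw [IsScalarTower.algebraMap_apply S₀ B₀ L, hπb, ψ.commutes, IsScalarTower.algebraMap_apply S₀ S S', algebraMap_smul]

end Groth.Agent.S2106
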