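import Groth.Statements.S2107
import Groth.Agent.H1FibInj.General
import Groth.Agent.H1EssFP.Model
set_option backward.isDefEq.respectTransparency false
set_option backward.isDefEq.respectTransparency.types false
set_option maxHeartbeats 1000000

set_option autoImplicit false
universe u
open CAlg

namespace Groth.Agent.S2107

/-- Let `R → S` be a local homomorphism of local rings with `S` essentially of finite presentation over
`R`, `M`, `N` finitely presented `S`-modules with `N` flat over `R`, and `u : M → N` an `S`-linear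
map which is injective modulo `𝔪_R`. Then `u` is injective and its cokernel is flat over `R`. -/
theorem result {R S M N : Type u} [CommRing R] [CommRing S] [IsLocalRing R]
    [IsLocalRing S] [Algebra R S] [IsLocalHom (algebraMap R S)] (hS : CAlgX.IsEssFinitePresentation R S)
    [AddCommGroup M] [Module S M] [Module R M] [IsScalarTower R S M] [Module.FinitePresentation S M]
    [AddCommGroup N] [Module S N] [Module R N] [IsScalarTower R S N] [Module.FinitePresentation S N] [Module.Flat R N]
    (u : M →ₗ[S] N)
    (hu : ∀ x : M, u x ∈ (IsLocalRing.maximalIdeal R).map (algebraMap R S) • (⊤ : Submodule S N) →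
      x ∈ (IsLocalRing.maximalIdeal R).map (algebraMap R S) • (⊤ : Submodule S M)) :
    Function.Injective u ∧ Module.Flat R (N ⧸ LinearMap.range u) := by
  classical
  obtain ⟨S₀, _, _, _, _, P, hfp, hloc⟩ := hS
  let q : PrimeSpectrum S₀ := ⟨(IsLocalRing.maximalIdeal S).comap (algebraMap S₀ S), inferInstance⟩
  haveI : IsLocalization q.asIdeal.primeCompl S := by
    refine IsLocalization.of_le P _ (fun x hx h => ?_) (fun x hx => ?_)
    · exact (IsLocalRing.mem_maximalIdeal _).1 h (IsLocalization.map_units S ⟨x, hx⟩)
    · by_contra h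
      exact hx ((IsLocalRing.mem_maximalIdeal _).2 h)
  letI : Module S₀ M := Module.compHom M (algebraMap S₀ S)
  letI : Module S₀ N := Module.compHom N (algebraMap S₀ S)
  haveI : IsScalarTower S₀ S M := IsScalarTower.of_algebraMap_smul fun _ _ => rfl
  haveI : IsScalarTower S₀ S N := IsScalarTower.of_algebraMap_smul fun _ _ => rfl
  haveI : IsScalarTower R S₀ M := IsScalarTower.of_algebraMap_smul fun a x => by
    rw [← algebraMap_smul S (algebraMap R S₀ a) x, ← IsScalarTower.algebraMap_apply, algebraMap_smul]
  haveI : IsScalarTower R S₀ N := IsScalarTower.of_algebraMap_smul fun a x => by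
    rw [← algebraMap_smul S (algebraMap R S₀ a) x, ← IsScalarTower.algebraMap_apply, algebraMap_smul]
  obtain ⟨M₀, _, _, fM, hM₀, hfM⟩ := H1EssFP.exists_model (S := S) q.asIdeal.primeCompl M
  obtain ⟨N₀, _, _, fN, hN₀, hfN⟩ := H1EssFP.exists_model (S := S) q.asIdeal.primeCompl N
  obtain ⟨u₀, s, hs⟩ := Module.FinitePresentation.exists_lift_of_isLocalizedModule q.asIdeal.primeCompl fN
    (u.restrictScalars S₀ ∘ₗ fM)
  obtain ⟨c, hc⟩ := IsLocalization.map_units S s
  let u' : M →ₗ[S₀] N := (s : S₀) • u.restrictScalars S₀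
  have hu' : ∀ x, u' x = (c : S) • u x := fun x => by
    show (s : S₀) • u x = _
    rw [← algebraMap_smul S (s : S₀) (u x), hc]
  have hcomp : u' ∘ₗ fM = fN ∘ₗ u₀ := by
    rw [hs]
    exact LinearMap.ext fun _ => rfl
  have hp : q.asIdeal.comap (algebraMap R S₀) = IsLocalRing.maximalIdeal R := by
    show ((IsLocalRing.maximalIdeal S).comap _).comap _ = _
    rw [Ideal.comap_comap, ← IsScalarTower.algebraMap_eq]
    exact ((IsLocalRing.local_hom_TFAE (algebraMap R S)).out 0 4).1 ‹IsLocalHom (algebraMap R S)›
  have key : ∀ {X : Type u} [AddCommGroup X] [Module S X] [Module R X] [IsScalarTower R S X] (x : X),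
      x ∈ (IsLocalRing.maximalIdeal R).map (algebraMap R S) • (⊤ : Submodule S X) ↔
        x ∈ IsLocalRing.maximalIdeal R • (⊤ : Submodule R X) := fun {X} _ _ _ _ x => by
    rw [← Submodule.restrictScalars_top R S, ← Ideal.smul_restrictScalars, Submodule.restrictScalars_mem]
  have main := H1FibInj.criterion (A := R) u₀ q fM fN u' hcomp fun x hx => by
    rw [hp] at hx ⊢
    refine (key x).1 (hu x ?_)
    rw [← inv_smul_smul c (u x)]
    refine Submodule.smul_mem _ _ ?_
    rw [key]
    exact (hu' x) ▸ hx
  refine ⟨fun x y h => main.1 (by rw [hu', hu', h]), ?_⟩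
  haveI := main.2
  let E : (N ⧸ LinearMap.range u') ≃ₗ[R] N ⧸ LinearMap.range u :=
    (Submodule.quotEquivOfEq _ ((LinearMap.range u).restrictScalars S₀) (by
      ext y
      simp only [LinearMap.mem_range, Submodule.restrictScalars_mem]
      constructor
      · rintro ⟨x, rfl⟩; exact ⟨(c : S) • x, by rw [hu', map_smul]⟩
      · rintro ⟨x, rfl⟩; exact ⟨(↑c⁻¹ : S) • x, by rw [hu', map_smul, smul_smul, Units.mul_inv, one_smul]⟩) ≪≫ₗ
      Submodule.Quotient.restrictScalarsEquiv S₀ (LinearMap.range u)).restrictScalars R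
  exact Module.Flat.of_linearEquiv E.symm

end Groth.Agent.S2107
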