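import Groth.Statements.S2129
import Groth.Agent.H1Branch.Main

set_option autoImplicit false
universe u
open CAlg

namespace Groth.Agent.S2129

/-- Let `R → S` be a smooth ring map, `𝔮` a prime of `S` over `𝔭`, and `A = R_𝔭 → B = S_𝔮` the induced
local homomorphism. Then strict henselizations of `A` and `B` have the same number of minimal prime
ideals (the same number of geometric branches, counted in ℕ∞, infinite counting as ∞). -/
theorem result {R S Ash Bsh : Type u} [CommRing R] [CommRing S] [Algebra R S]
    [Algebra.Smooth R S] (q : Ideal S) [q.IsPrime] (p : Ideal R) [p.IsPrime] [q.LiesOver p]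
    [CommRing Ash] [IsLocalRing Ash] [Algebra (Localization.AtPrime p) Ash]
    [IsLocalHom (algebraMap (Localization.AtPrime p) Ash)] [Hensel.IsStrictHenselization (Localization.AtPrime p) Ash]
    [CommRing Bsh] [IsLocalRing Bsh] [Algebra (Localization.AtPrime q) Bsh]
    [IsLocalHom (algebraMap (Localization.AtPrime q) Bsh)] [Hensel.IsStrictHenselization (Localization.AtPrime q) Bsh] :
    (minimalPrimes Ash).encard = (minimalPrimes Bsh).encard := by
  let A := Localization.AtPrime p
  let B := Localization.AtPrime q
  let ρ : A →+* B := Localization.localRingHom p q (algebraMap R S) (q.over_def p)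
  haveI hρ : IsLocalHom ρ := Localization.isLocalHom_localRingHom p q (algebraMap R S) (q.over_def p)
  letI : Algebra A B := ρ.toAlgebra
  haveI : IsLocalHom (algebraMap A B) := hρ
  haveI hA : Hensel.IsStrictHenselization A Ash := inferInstance
  haveI hB : Hensel.IsStrictHenselization B Bsh := inferInstance
  haveI := hA.henselian
  haveI := hB.henselian
  haveI : IsSepClosed (IsLocalRing.ResidueField Bsh) := hB.isSepClosure.1
  haveI : IsSepClosed (IsLocalRing.ResidueField Ash) := hA.isSepClosure.1
  haveI : Algebra.IsSeparable (IsLocalRing.ResidueField A) (IsLocalRing.ResidueField Ash) := hA.isSepClosure.2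
  let f : A →+* Bsh := (algebraMap B Bsh).comp ρ
  letI : Algebra (IsLocalRing.ResidueField A) (IsLocalRing.ResidueField Bsh) :=
    (IsLocalRing.ResidueField.map f).toAlgebra
  let τ : IsLocalRing.ResidueField Ash →ₐ[IsLocalRing.ResidueField A] IsLocalRing.ResidueField Bsh :=
    IsSepClosed.lift
  obtain ⟨ψ, ⟨hψ, hψr⟩, -⟩ := hA.universal Bsh f τ.toRingHom (RingHom.ext fun x => τ.commutes x)
  haveI : IsLocalHom ψ := ⟨fun x hx => by
    by_contra hne
    have h0 : IsLocalRing.residue Bsh (ψ x) = 0 := by
      rw [hψr, (IsLocalRing.residue_eq_zero_iff x).2 hne, map_zero]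
    exact (IsLocalRing.residue_eq_zero_iff _).1 h0 hx⟩
  obtain ⟨C, _, _, _, _, _, _, iB, hflat, hn, h1, h2, h3, hgen⟩ :=
    H1Branch.exists_middle q p Ash Bsh ψ hψ
  haveI := hflat
  haveI := H1Branch.isStrictHenselization_tower (A := A) (A' := Ash) (B := B) (C := C) (B' := Bsh)
    (algebraMap Ash C) iB h3 h2 hgen
  letI : Algebra Ash Bsh := ψ.toAlgebra
  haveI : IsLocalHom (algebraMap Ash Bsh) := ‹IsLocalHom ψ›
  haveI : Module.Flat Ash Bsh := by
    haveI : Module.FaithfullyFlat C Bsh :=
      (Hensel.isHenzLike_of_isStrictHenselization C Bsh).faithfullyFlat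
    haveI : IsScalarTower Ash C Bsh := IsScalarTower.of_algebraMap_eq' h1.symm
    exact Module.Flat.trans Ash C Bsh
  refine H1Branch.encard_minimalPrimes_eq Ash Bsh fun P hP => ?_
  haveI := hP.1.1
  have := H1Branch.isPrime_map_strict Ash C Bsh hn P
  rwa [h1] at this

end Groth.Agent.S2129
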