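import Groth.Statements.S2130
import Groth.Agent.H1Branch.Main

set_option autoImplicit false
universe u
open CAlg

namespace Groth.Agent.S2130

/-- Let `R → S` be smooth, `𝔮` a prime of `S` over `𝔭` with `κ(𝔮)/κ(𝔭)` purely inseparable, and `A = R_𝔭
→ B = S_𝔮`. Then henselizations of `A` and `B` have the same number of minimal prime ideals (the
same number of branches). -/
theorem result {R S Ah Bh : Type u} [CommRing R] [CommRing S]
    [Algebra R S] [Algebra.Smooth R S] (q : Ideal S) [q.IsPrime] (p : Ideal R) [p.IsPrime] [q.LiesOver p]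
    (hpi : @IsPurelyInseparable p.ResidueField q.ResidueField _ _
      (Ideal.ResidueField.mapₐ p q (Algebra.ofId R S) (q.over_def p)).toRingHom.toAlgebra)
    [CommRing Ah] [IsLocalRing Ah] [Algebra (Localization.AtPrime p) Ah]
    [IsLocalHom (algebraMap (Localization.AtPrime p) Ah)] [Hensel.IsHenselization (Localization.AtPrime p) Ah]
    [CommRing Bh] [IsLocalRing Bh] [Algebra (Localization.AtPrime q) Bh]
    [IsLocalHom (algebraMap (Localization.AtPrime q) Bh)] [Hensel.IsHenselization (Localization.AtPrime q) Bh] :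
    (minimalPrimes Ah).encard = (minimalPrimes Bh).encard := by
  let A := Localization.AtPrime p
  let B := Localization.AtPrime q
  let ρ : A →+* B := Localization.localRingHom p q (algebraMap R S) (q.over_def p)
  haveI hρ : IsLocalHom ρ := Localization.isLocalHom_localRingHom p q (algebraMap R S) (q.over_def p)
  letI : Algebra A B := ρ.toAlgebra
  haveI : IsLocalHom (algebraMap A B) := hρ
  haveI hA : Hensel.IsHenselization A Ah := inferInstance
  haveI hB : Hensel.IsHenselization B Bh := inferInstance
  haveI := hA.henselian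
  haveI := hB.henselian
  let f : A →+* Bh := (algebraMap B Bh).comp ρ
  obtain ⟨ψ, hψ, -⟩ := hA.universal Bh f inferInstance
  haveI : IsLocalHom ψ := by
    refine ((IsLocalRing.local_hom_TFAE ψ).out 0 2).mpr ?_
    rw [← Hensel.map_maximalIdeal_of_isHenselization A Ah, Ideal.map_map, hψ, Ideal.map_le_iff_le_comap]
    exact fun a ha => map_nonunit f a ha
  obtain ⟨C, _, _, _, _, _, _, iB, hflat, hn, h1, h2, h3, hgen⟩ :=
    H1Branch.exists_middle q p Ah Bh ψ hψ
  haveI := hflat
  haveI := H1Branch.isHenselization_tower (A := A) (A' := Ah) (B := B) (C := C) (B' := Bh)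
    (algebraMap Ah C) iB h3 h2 hgen
  letI : Algebra Ah Bh := ψ.toAlgebra
  haveI : IsLocalHom (algebraMap Ah Bh) := ‹IsLocalHom ψ›
  haveI : Module.Flat Ah Bh := by
    haveI : Module.FaithfullyFlat C Bh :=
      (Hensel.isHenzLike_of_isHenselization C Bh).faithfullyFlat
    haveI : IsScalarTower Ah C Bh := IsScalarTower.of_algebraMap_eq' h1.symm
    exact Module.Flat.trans Ah C Bh
  haveI := ringExpChar.expChar (IsLocalRing.ResidueField A)
  haveI : ExpChar (IsLocalRing.ResidueField Ah) (ringExpChar (IsLocalRing.ResidueField A)) :=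
    expChar_of_injective_ringHom (IsLocalRing.ResidueField.map (algebraMap A Ah)).injective _
  have hres : ∀ c : C, ∃ (n : ℕ) (r : Ah),
      c ^ ringExpChar (IsLocalRing.ResidueField Ah) ^ n - algebraMap Ah C r ∈ IsLocalRing.maximalIdeal C := by
    intro c
    rw [ringExpChar.eq _ (ringExpChar (IsLocalRing.ResidueField A))]
    obtain ⟨x, hx⟩ := (Hensel.bijective_residueFieldMap_of_isHenselization B Bh).2
      (IsLocalRing.residue Bh (algebraMap C Bh c))
    letI := (Ideal.ResidueField.mapₐ p q (Algebra.ofId R S) (q.over_def p)).toRingHom.toAlgebra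
    haveI : IsPurelyInseparable p.ResidueField q.ResidueField := hpi
    obtain ⟨n, y, hy⟩ := IsPurelyInseparable.pow_mem p.ResidueField (ringExpChar p.ResidueField) x
    obtain ⟨a, rfl⟩ := IsLocalRing.residue_surjective y
    refine ⟨n, algebraMap A Ah a, fun hu => ?_⟩
    have hu' := (hu.map (algebraMap C Bh)).map (IsLocalRing.residue Bh)
    rw [map_sub, map_pow, ← RingHom.comp_apply (algebraMap C Bh) (algebraMap Ah C), h1,
      ← RingHom.comp_apply ψ, hψ, map_sub, map_pow, ← hx] at hu'
    refine hu'.ne_zero ?_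
    rw [← map_pow, ← hy]
    exact sub_eq_zero.2 rfl
  refine H1Branch.encard_minimalPrimes_eq Ah Bh fun P hP => ?_
  haveI := hP.1.1
  have := H1Branch.isPrime_map_henselization Ah C Bh hn hres P
  rwa [h1] at this

end Groth.Agent.S2130
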