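import Groth.Statements.S2218
import Mathlib

set_option autoImplicit false
universe u v
open Disc

namespace Groth.Agent.S2218

theorem exists_base_mul {D : Type u} {E : Type v} [CommRing D] [IsDomain D] [CommRing E] [IsDomain E] [Algebra D E]
    {b : E} (hb : b ≠ 0) (hint : IsIntegral D b) : ∃ c : D, c ≠ 0 ∧ b ∣ algebraMap D E c := by
  obtain ⟨f, hf, hf0⟩ := hint
  have : ∀ (n : ℕ) (f : Polynomial D), f.natDegree ≤ n → f ≠ 0 → Polynomial.aeval b f = 0 →
      ∃ c : D, c ≠ 0 ∧ b ∣ algebraMap D E c := by
    intro n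
    induction n with
    | zero =>
      intro f hd hf hz
      rw [Polynomial.eq_C_of_natDegree_le_zero hd, Polynomial.aeval_C] at hz
      exact ⟨f.coeff 0, fun h => hf (by rw [Polynomial.eq_C_of_natDegree_le_zero hd, h, Polynomial.C_0]), hz ▸ dvd_zero b⟩
    | succ n ih =>
      intro f hd hf hz
      have hsplit : f = Polynomial.X * f.divX + Polynomial.C (f.coeff 0) := (Polynomial.X_mul_divX_add f).symm
      rw [hsplit, map_add, map_mul, Polynomial.aeval_X, Polynomial.aeval_C] at hz
      by_cases h0 : f.coeff 0 = 0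
      · rw [h0, map_zero, add_zero] at hz
        refine ih f.divX (by have := Polynomial.natDegree_divX_eq_natDegree_tsub_one (p := f); omega) ?_ ((mul_eq_zero.1 hz).resolve_left hb)
        intro h
        exact hf (by rw [hsplit, h, h0, mul_zero, Polynomial.C_0, add_zero])
      · exact ⟨f.coeff 0, h0, -Polynomial.aeval b f.divX, by linear_combination hz⟩
  exact this f.natDegree f le_rfl hf.ne_zero hf0

open TensorProduct in
theorem exists_functional (D : Type u) (E : Type v) [CommRing D] [IsDomain D] [CommRing E] [IsDomain E] [Algebra D E]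
    [Module.Finite D E] (hinj : Function.Injective (algebraMap D E)) : ∃ θ : E →ₗ[D] D, θ 1 ≠ 0 := by
  let K := FractionRing D
  have h1 : (1 : K) ⊗ₜ[D] (1 : E) ≠ 0 := by
    intro h0
    have hi : Function.Injective ((Algebra.linearMap D E).lTensor K) :=
      Module.Flat.lTensor_preserves_injective_linearMap _ hinj
    have h2 : (Algebra.linearMap D E).lTensor K ((1 : K) ⊗ₜ[D] (1 : D)) = 0 := by simpa using h0
    have h3 := congrArg (TensorProduct.rid D K) (hi (h2.trans (map_zero _).symm))
    simp at h3
  obtain ⟨φ, hφ⟩ : ∃ φ : Module.Dual K (K ⊗[D] E), φ ((1 : K) ⊗ₜ[D] (1 : E)) ≠ 0 := by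
    by_contra hc
    push_neg at hc
    exact h1 ((Module.forall_dual_apply_eq_zero_iff K _).1 hc)
  let f : E →ₗ[D] K := (φ.restrictScalars D).comp (TensorProduct.mk D K E 1)
  obtain ⟨t, ht⟩ := (inferInstance : Module.Finite D E).fg_top
  obtain ⟨s, hs⟩ := IsLocalization.exist_integer_multiples (nonZeroDivisors D) t f
  have hr : ∀ x, (s : D) • f x ∈ LinearMap.range (Algebra.linearMap D K) := by
    have hle : Submodule.span D (t : Set E) ≤
        (LinearMap.range (Algebra.linearMap D K)).comap ((s : D) • f) := by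
      refine Submodule.span_le.2 fun x hx => ?_
      obtain ⟨r, hr⟩ := hs x hx
      exact ⟨r, hr⟩
    intro x
    exact hle (ht ▸ Submodule.mem_top)
  refine ⟨(LinearEquiv.ofInjective (Algebra.linearMap D K) (IsFractionRing.injective D K)).symm.toLinearMap.comp
    (((s : D) • f).codRestrict _ hr), fun h => ?_⟩
  rw [LinearMap.comp_apply, LinearEquiv.coe_coe, LinearEquiv.map_eq_zero_iff] at h
  have h4 : (s : D) • f 1 = 0 := congrArg Subtype.val h
  rcases smul_eq_zero.1 h4 with h5 | h5
  · exact nonZeroDivisors.coe_ne_zero s h5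
  · exact hφ h5

/-- Special case: A -> B finite (the source allows quasi-finite maps). For a finite map of Noetherian
rings and omega = Hom_A(B, A) with its B-module structure through the argument, the associated
primes of the B-module omega are exactly the primes of B whose contraction to A is an associated
prime of A. -/
theorem result {A : Type u} {B : Type v} [CommRing A] [CommRing B]
    [Algebra A B] [IsNoetherianRing A] [IsNoetherianRing B] [Module.Finite A B] :
    associatedPrimes B (Disc.Omega A B) =
      {q : Ideal B | q.IsPrime ∧ q.comap (algebraMap A B) ∈ associatedPrimes A A} := by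
  classical
  have hiff : ∀ (φ : Disc.Omega A B) (b : B), b • φ = 0 ↔ ∀ x, φ.toLinearMap (b * x) = 0 := fun φ b =>
    ⟨fun h x => congrArg (fun ψ : Disc.Omega A B => ψ.toLinearMap x) h, fun h => Disc.Omega.ext (LinearMap.ext h)⟩
  ext q
  constructor
  · intro hq
    change IsAssociatedPrime q (Disc.Omega A B) at hq
    obtain ⟨hqp, f, hf⟩ := (isAssociatedPrime_iff_exists_injective_linearMap _ _).1 hq
    let φ : Disc.Omega A B := f 1
    have hφ : ∀ b : B, b ∈ q ↔ b • φ = 0 := fun b => by
      show b ∈ q ↔ b • f 1 = 0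
      rw [← map_smul, map_eq_zero_iff _ hf, ← Ideal.Quotient.eq_zero_iff_mem, Algebra.smul_def, mul_one]
      rfl
    refine ⟨hqp, ?_⟩
    obtain ⟨t, ht⟩ := (inferInstance : Module.Finite A B).fg_top
    let p := q.comap (algebraMap A B)
    have hp : ∀ a : A, a ∈ p ↔ ∀ x ∈ t, a * φ.toLinearMap x = 0 := by
      intro a
      rw [Ideal.mem_comap, hφ, hiff]
      constructor
      · intro h x _
        rw [← smul_eq_mul, ← map_smul, Algebra.smul_def]; exact h x
      · intro h x
        have hx : x ∈ Submodule.span A (t : Set B) := ht ▸ Submodule.mem_top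
        rw [← Algebra.smul_def, map_smul, smul_eq_mul]
        induction hx using Submodule.span_induction with
        | mem y hy => exact h y hy
        | zero => simp
        | add y z _ _ h1 h2 => rw [map_add, mul_add, h1, h2, add_zero]
        | smul r y _ h1 => rw [map_smul, smul_eq_mul, mul_left_comm, h1, mul_zero]
    have hex : ∃ x ∈ t, ∀ a, a * φ.toLinearMap x = 0 → a ∈ p := by
      by_contra hno
      push_neg at hno
      choose! a ha ha' using hno
      have hm : (∏ x ∈ t, a x) ∈ p := (hp _).2 fun x hx => by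
        rw [← Finset.prod_erase_mul _ _ hx, mul_assoc, ha x hx, mul_zero]
      obtain ⟨x, hx, hxp⟩ := (Ideal.IsPrime.prod_mem_iff (hp := (inferInstance : p.IsPrime))).1 hm
      exact ha' x hx hxp
    obtain ⟨x, hx, hxp⟩ := hex
    show IsAssociatedPrime p A
    rw [isAssociatedPrime_iff_exists_injective_linearMap _ _]
    refine ⟨inferInstance, Submodule.liftQ p (LinearMap.toSpanSingleton A A (φ.toLinearMap x))
      (fun a ha => LinearMap.mem_ker.2 ((hp a).1 ha x hx)), ?_⟩
    rw [← LinearMap.ker_eq_bot, Submodule.ker_liftQ_eq_bot']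
    exact le_antisymm (fun a ha => LinearMap.mem_ker.2 ((hp a).1 ha x hx)) (fun a ha => hxp a (LinearMap.mem_ker.1 ha))
  · rintro ⟨hqp, hass⟩
    change IsAssociatedPrime _ A at hass
    rw [isAssociatedPrime_iff_exists_injective_linearMap _ _] at hass
    obtain ⟨hpp, g, hg⟩ := hass
    let p := q.comap (algebraMap A B)
    letI : Algebra (A ⧸ p) (B ⧸ q) := (Ideal.quotientMap q (algebraMap A B) le_rfl).toAlgebra
    haveI : IsScalarTower A (A ⧸ p) (B ⧸ q) := IsScalarTower.of_algebraMap_eq fun _ => rfl
    haveI : Module.Finite (A ⧸ p) (B ⧸ q) := Module.Finite.of_restrictScalars_finite A _ _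
    obtain ⟨θ, hθ⟩ := exists_functional (A ⧸ p) (B ⧸ q) Ideal.quotientMap_injective
    let φ : Disc.Omega A B := ⟨g ∘ₗ θ.restrictScalars A ∘ₗ (Ideal.Quotient.mkₐ A q).toLinearMap⟩
    show IsAssociatedPrime q (Disc.Omega A B)
    rw [isAssociatedPrime_iff_exists_injective_linearMap _ _]
    have hann : ∀ b : B, b • φ = 0 ↔ b ∈ q := by
      intro b
      rw [hiff]
      constructor
      · intro h
        by_contra hb
        have hb' : Ideal.Quotient.mk q b ≠ 0 := fun h0 => hb (Ideal.Quotient.eq_zero_iff_mem.1 h0)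
        have hint : IsIntegral (A ⧸ p) (Ideal.Quotient.mk q b) := Algebra.IsIntegral.isIntegral _
        obtain ⟨c, hc, hcb⟩ := exists_base_mul hb' hint
        obtain ⟨r, hr⟩ := hcb
        obtain ⟨r, rfl⟩ := Ideal.Quotient.mk_surjective r
        have h2 : θ (Ideal.Quotient.mk q b * Ideal.Quotient.mk q r) = 0 :=
          hg ((h r).trans (map_zero g).symm)
        rw [← hr, ← mul_one (algebraMap _ _ c), ← Algebra.smul_def, map_smul, smul_eq_mul] at h2
        exact (mul_ne_zero hc hθ) h2
      · intro hb x
        show g (θ (Ideal.Quotient.mk q (b * x))) = 0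
        rw [map_mul, Ideal.Quotient.eq_zero_iff_mem.2 hb, zero_mul, map_zero, map_zero]
    refine ⟨hqp, Submodule.liftQ q (LinearMap.toSpanSingleton B _ φ) (fun b hb => LinearMap.mem_ker.2 ((hann b).2 hb)), ?_⟩
    rw [← LinearMap.ker_eq_bot, Submodule.ker_liftQ_eq_bot']
    exact le_antisymm (fun b hb => LinearMap.mem_ker.2 ((hann b).2 hb)) (fun b hb => (hann b).1 (LinearMap.mem_ker.1 hb))

end Groth.Agent.S2218
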