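import Groth.Statements.S2219
import Mathlib
import Groth.Agent.S11566

set_option autoImplicit false
universe u
open Disc

namespace Groth.Agent.S2219

/-- Equivalence of (1) and (3): let k be a field and A a finite-dimensional local k-algebra with residue
field k'. Then the trace map Tr_{A/k} is not identically zero if and only if k' is separable over k
and the length of A as a module over itself is not divisible by the characteristic of k (no
condition in characteristic zero). -/
theorem result (k A : Type u) [Field k] [CommRing A]
    [Algebra k A] [FiniteDimensional k A] [IsLocalRing A] :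
    Algebra.trace k A ≠ 0 ↔
      (Algebra.IsSeparable k (IsLocalRing.ResidueField A) ∧
        ∀ p : ℕ, p.Prime → CharP k p → ¬ p ∣ (Module.length A A).toNat) := by
  classical
  have hiff := Groth.Agent.S11566.result k A
  have h1 : Algebra.trace k A ≠ 0 ↔ Function.Surjective (Algebra.trace k A) :=
    ⟨fun h => LinearMap.surjective_of_ne_zero h, fun h h0 => by
      obtain ⟨x, hx⟩ := h 1
      rw [h0] at hx
      exact zero_ne_one hx⟩
  rw [h1, hiff]
  refine and_congr_right fun _ => ⟨fun h p hp hc hd => h (by haveI := hc; exact (CharP.cast_eq_zero_iff k p _).2 hd), fun h h0 => ?_⟩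
  obtain ⟨p, hp⟩ := CharP.exists k
  rcases CharP.char_is_prime_or_zero k p with h' | rfl
  · exact h p h' hp ((CharP.cast_eq_zero_iff k p _).1 h0)
  · haveI := CharP.charP_to_charZero k
    have h2 : (Module.length A A).toNat = 0 := Nat.cast_eq_zero.1 h0
    obtain ⟨q, hq⟩ := Nat.exists_infinite_primes 2
    rcases ENat.toNat_eq_zero.1 h2 with h3 | h3
    · exact not_subsingleton A (Module.length_eq_zero_iff.1 h3)
    · exact Module.length_ne_top_iff.2 (isFiniteLength_iff_isNoetherian_isArtinian.2
        ⟨isNoetherian_of_tower k inferInstance, isArtinian_of_tower k inferInstance⟩) h3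

end Groth.Agent.S2219
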