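import Groth.Statements.S2224
import Groth.Agent.PerfGen7.FlatOverTensor
import Groth.Agent.PerfGen7.RpushCoh
import Groth.Agent.PerfGen7.RpushCohBound
import Groth.Agent.AmpleVan.Vanish
import Groth.Agent.Lib.CurveTensor
import Groth.Agent.QCoh.ProperOver
import Groth.Agent.QCoh.SupportFT
import Groth.Agent.ZClosLib.CohDescent

set_option backward.isDefEq.respectTransparency false
set_option linter.style.haveILetI false

set_option autoImplicit false
universe u
open CategoryTheory AlgebraicGeometry
attribute [local instance] HasDerivedCategory.standard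
open QCohCat

namespace Groth.Agent.S2224

open Groth.Agent Groth.Agent.KFlatLib Groth.Agent.PerfGen7
open AlgebraicGeometry CategoryTheory Limits

attribute [local instance] HasDerivedCategory.standard

/-- `L f^*E ⊗^L G` for `G` flat over the base, through the exact functor `f^*(-) ⊗ G`. -/
theorem nonempty_hd_iso {X S : Scheme.{u}} (f : X ⟶ S) [DCoh.HasLpull f] {G : X.Modules}
    [DCoh.HasLTensorMod G] (hG : FlatMod.IsFlatOver f G) (E : DCoh.D S) (i : ℤ) :
    Nonempty (DCoh.HD ((DCoh.LTensorMod G).obj ((DCoh.Lpull f).obj E)) i ≅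
      (pullTensor f G).obj (DCoh.HD E i)) := by
  let R := (kRes S).obj (DerivedCategory.Q.objPreimage E)
  have hR : DCoh.IsKFlat R := isKFlat_kRes _
  let e : DCoh.toD S R ≅ E := (resQIso S).app _ ≪≫ DerivedCategory.Q.objObjPreimageIso E
  haveI := isIso_ltensorModComparison G (isKFlat_pullback f hR)
  haveI := preservesHomology_pullTensor f hG
  let C := ((pullTensor f G).mapHomologicalComplex (ComplexShape.up ℤ)).obj R
  let e1 : (DCoh.LTensorMod G).obj ((DCoh.Lpull f).obj E) ≅ DCoh.toD X C :=
    (DCoh.LTensorMod G).mapIso ((DCoh.Lpull f).mapIso e.symm ≪≫ lpullIso f hR) ≪≫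
      asIso ((ltensorModComparison G).app ((pullCx f).obj R))
  exact ⟨(DerivedCategory.homologyFunctor X.Modules i).mapIso e1 ≪≫
    (DerivedCategory.homologyFunctorFactors X.Modules i).app C ≪≫
    (R.sc i).mapHomologyIso (pullTensor f G) ≪≫
    (pullTensor f G).mapIso (((DerivedCategory.homologyFunctorFactors S.Modules i).app R).symm ≪≫
      (DerivedCategory.homologyFunctor S.Modules i).mapIso e)⟩


/-- Case (2) with the kernel a single coherent module: let S be a Noetherian scheme, X -> S and Y -> S
of finite type, and K a coherent module on X x_S Y which is flat over X and whose support is proper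
over Y. Assuming the derived functors L pr_1^*, - tensor^L K and R pr_2,* exist (assumed as unproved
hypotheses), the Fourier-Mukai transform R pr_2,* (L pr_1^* M tensor^L K) of any bounded object M of
D(O_X) with coherent cohomology sheaves is a bounded object of D(O_Y) with coherent cohomology
sheaves. -/
theorem result {S X Y : Scheme.{u}} [IsNoetherian S]
    (a : X ⟶ S) (b : Y ⟶ S) [LocallyOfFiniteType a] [QuasiCompact a] [LocallyOfFiniteType b]
    [QuasiCompact b] (K : (Limits.pullback a b).Modules) (hK : Coh.IsCoh K)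
    (hflat : FlatMod.IsFlatOver (Limits.pullback.fst a b) K)
    (hsupp : ClSub.IsProperOver (Limits.pullback.snd a b) (CohB1.support K))
    [DCoh.HasLpull (Limits.pullback.fst a b)] [DCoh.HasLTensorMod K]
    [DCoh.HasRpush (Limits.pullback.snd a b)]
    (M : DCoh.D X) (hM : DCoh.IsCohD M) (m n : ℤ) (hMge : DerivedCategory.IsGE M m)
    (hMle : DerivedCategory.IsLE M n) :
    DCoh.IsCohD ((DCoh.Rpush (Limits.pullback.snd a b)).obj
        ((DCoh.LTensorMod K).obj ((DCoh.Lpull (Limits.pullback.fst a b)).obj M))) ∧
      ∃ m' n' : ℤ, DerivedCategory.IsGE ((DCoh.Rpush (Limits.pullback.snd a b)).obj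
          ((DCoh.LTensorMod K).obj ((DCoh.Lpull (Limits.pullback.fst a b)).obj M))) m' ∧
        DerivedCategory.IsLE ((DCoh.Rpush (Limits.pullback.snd a b)).obj
          ((DCoh.LTensorMod K).obj ((DCoh.Lpull (Limits.pullback.fst a b)).obj M))) n' := by
  let p := Limits.pullback.fst a b
  let q := Limits.pullback.snd a b
  let E := (DCoh.LTensorMod K).obj ((DCoh.Lpull p).obj M)
  haveI : LocallyOfFiniteType q := inferInstance
  haveI : IsLocallyNoetherian X := LocallyOfFiniteType.isLocallyNoetherian a
  haveI : IsLocallyNoetherian Y := LocallyOfFiniteType.isLocallyNoetherian b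
  haveI : CompactSpace X := QuasiCompact.compactSpace_of_compactSpace a
  haveI : CompactSpace Y := QuasiCompact.compactSpace_of_compactSpace b
  haveI : IsNoetherian Y := {}
  haveI : IsLocallyNoetherian (Limits.pullback a b) := LocallyOfFiniteType.isLocallyNoetherian q
  haveI : CompactSpace ↥(Limits.pullback a b) := QuasiCompact.compactSpace_of_compactSpace q
  have he : ∀ i, Nonempty (DCoh.HD E i ≅ (pullTensor p K).obj (DCoh.HD M i)) := fun i => nonempty_hd_iso p hflat M i
  haveI := preservesHomology_pullTensor p hflat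
  have hzero : ∀ i, IsZero (DCoh.HD M i) → IsZero (DCoh.HD E i) := fun i hi =>
    ((pullTensor p K).map_isZero hi).of_iso (he i).some
  haveI hEge : E.IsGE m := by
    rw [DerivedCategory.isGE_iff]
    exact fun i hi => hzero i (DerivedCategory.isZero_of_isGE M m i hi)
  haveI hEle : E.IsLE n := by
    rw [DerivedCategory.isLE_iff]
    exact fun i hi => hzero i (DerivedCategory.isZero_of_isLE M n i hi)
  have hc : ∀ i, Coh.IsCoh ((pullTensor p K).obj (DCoh.HD M i)) := fun i =>
    AmpleVan.isCoh_tensor (ZClosLib.isCoh_pullback p (hM i)) hK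
  have hEc : DCoh.IsCohD E := fun i => isCoh_of_iso (he i).some.symm (hc i)
  have hK' : IsClosed (CohB1.support K) := hsupp.choose
  have hsub : ∀ i, CohB1.support (DCoh.HD E i) ⊆ CohB1.support K := fun i => by
    rw [QCoh.support_iso (he i).some (hEc i).1]
    exact CurveTensor.support_tensor_subset
  have hgood : ∀ i, GoodMod q (DCoh.HD E i) := fun i => by
    refine ⟨hEc i, Or.inr ?_⟩
    obtain ⟨h, hp⟩ := hsupp
    haveI := hp
    exact QCoh.isProperOver_of_subset (f := q) (Scheme.IdealSheafData.vanishingIdeal ⟨_, h⟩).subschemeι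
      (QCoh.isClosed_support_of_ft (hEc i).2)
      ((hsub i).trans (QCoh.range_vanishing h).ge)
  obtain ⟨n', hn'⟩ := exists_isLE_rpush_of_support q E (isCohD_isQCohD hEc) n _ hK'
    hK'.isCompact hsub
  exact ⟨isCohD_rpush_of_isGE q E m hgood, m, n', isGE_rpush q E m, hn'⟩

end Groth.Agent.S2224
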