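import Groth.Statements.S2225
import Groth.Agent.S0342
import Groth.Agent.LC.GorQuot
import Groth.Agent.H23.GysinPb
import Groth.Agent.FlatDvr.FibreStalk

set_option autoImplicit false
set_option backward.isDefEq.respectTransparency false
set_option backward.isDefEq.respectTransparency.types false
set_option maxHeartbeats 1000000
set_option linter.style.haveILetI false
universe u
open CategoryTheory AlgebraicGeometry
open Models

namespace Groth.Agent.S2225
open Groth.Agent

/-- Part (1), for the closed fibre: let R be a discrete valuation ring with fraction field K, C a smooth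
proper curve over K and X a regular model of C over R (flat, of finite type, all local rings
regular). Then every local ring of the special fibre X_k is a Gorenstein local ring; together with
flatness and regularity of the generic fibre this says X -> Spec R is a Gorenstein morphism. -/
theorem result (R : Type u) [CommRing R] [IsDomain R]
    [IsDiscreteValuationRing R] (C X : Scheme.{u})
    (f : C ⟶ Spec (CommRingCat.of (FractionRing R))) (p : X ⟶ Spec (CommRingCat.of R))
    (hC : Curve.IsSmoothProperCurve (FractionRing R) C f) (hX : Models.IsModel R X p C f)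
    (hreg : Models.IsRegularScheme X) (x : ↥(Models.specialFibre R X p)) :
    LocCoh.IsGorensteinLocalRing ((Models.specialFibre R X p).presheaf.stalk x) := by
  obtain ⟨hflat, -, -, -⟩ := hX
  haveI := hflat
  let S : CommRingCat.{u} := CommRingCat.of R
  let ρ : S ⟶ CommRingCat.of (IsLocalRing.ResidueField R) :=
    CommRingCat.ofHom (algebraMap R (IsLocalRing.ResidueField R))
  haveI : IsClosedImmersion (Spec.map ρ) := IsClosedImmersion.spec_of_surjective _ IsLocalRing.residue_surjective
  let i := Spec.map ρ
  let d := Limits.pullback.snd p i x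
  let s : Spec S := i d
  letI : Algebra R ((Spec S).presheaf.stalk s) := StructureSheaf.stalkAlgebra S s
  letI : Algebra S ((Spec S).presheaf.stalk s) := StructureSheaf.stalkAlgebra S s
  haveI : IsLocalization.AtPrime ((Spec S).presheaf.stalk s) s.asIdeal := StructureSheaf.IsLocalization.to_stalk S s
  obtain ⟨π, hπ⟩ := IsDiscreteValuationRing.exists_irreducible R
  have hsI : s.asIdeal = IsLocalRing.maximalIdeal R := by
    have h1 : s.asIdeal = d.asIdeal.comap ρ.hom := rfl
    refine ((IsLocalRing.maximalIdeal.isMaximal R).eq_of_le s.isPrime.ne_top ?_).symm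
    rw [h1]
    intro a ha
    show ρ.hom a ∈ d.asIdeal
    rw [show ρ.hom a = 0 from (IsLocalRing.residue_eq_zero_iff a).2 ha]
    exact zero_mem _
  let t : (Spec S).presheaf.stalk s := algebraMap R ((Spec S).presheaf.stalk s) π
  have hmax : IsLocalRing.maximalIdeal ((Spec S).presheaf.stalk s) = Ideal.span {t} := by
    rw [← IsLocalization.AtPrime.map_eq_maximalIdeal s.asIdeal ((Spec S).presheaf.stalk s), hsI,
      hπ.maximalIdeal_eq, Ideal.map_span, Set.image_singleton]
  have hker : RingHom.ker (i.stalkMap d).hom = Ideal.span {t} := by
    rw [← hmax]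
    refine le_antisymm (IsLocalRing.le_maximalIdeal (RingHom.ker_ne_top _)) fun a ha => ?_
    rcases FlatDvr.eq_zero_or_isUnit_stalk_field (IsLocalRing.ResidueField R) d ((i.stalkMap d).hom a) with h | h
    · exact h
    · exact absurd (isUnit_of_map_unit _ a h) ha
  have hK : RingHom.ker ((Limits.pullback.fst p i).stalkMap x).hom =
      Ideal.span {(H23.GysinPb.baseMap p i x).hom t} := by
    rw [H23.GysinPb.ker_stalkMap_fst p i x, hker, Ideal.map_span, Set.image_singleton]
  haveI : IsDomain ((Spec S).presheaf.stalk s) :=
    IsLocalization.isDomain_of_le_nonZeroDivisors (R := R) (M := s.asIdeal.primeCompl) ((Spec S).presheaf.stalk s)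
      s.asIdeal.primeCompl_le_nonZeroDivisors
  have htne : t ≠ 0 := fun h => hπ.ne_zero
    (IsLocalization.injective ((Spec S).presheaf.stalk s) s.asIdeal.primeCompl_le_nonZeroDivisors
      (h.trans (map_zero _).symm))
  have hfl : (H23.GysinPb.baseMap p i x).hom.Flat := by
    haveI : IsIso ((Spec S).presheaf.stalkSpecializes (specializes_of_eq (H23.GysinPb.apply_fst_eq p i x))) :=
      inferInstanceAs (IsIso ((Spec S).presheaf.stalkCongr (Inseparable.of_eq (H23.GysinPb.apply_fst_eq p i x).symm)).hom)
    rw [H23.GysinPb.baseMap, CommRingCat.hom_comp]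
    exact RingHom.Flat.comp (RingHom.Flat.of_bijective (ConcreteCategory.bijective_of_isIso _)) (Flat.stalkMap p _)
  have hreg' : IsSMulRegular (X.presheaf.stalk (Limits.pullback.fst p i x)) ((H23.GysinPb.baseMap p i x).hom t) := by
    letI := (H23.GysinPb.baseMap p i x).hom.toAlgebra
    haveI : Module.Flat ((Spec S).presheaf.stalk s) (X.presheaf.stalk (Limits.pullback.fst p i x)) := hfl
    have h1 := Module.Flat.isSMulRegular_of_nonZeroDivisors (M := X.presheaf.stalk (Limits.pullback.fst p i x))
      (mem_nonZeroDivisors_of_ne_zero htne)
    exact fun a b hab => h1 (by simpa [Algebra.smul_def, RingHom.algebraMap_toAlgebra] using hab)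
  haveI := hreg (Limits.pullback.fst p i x)
  haveI := S0342.result (X.presheaf.stalk (Limits.pullback.fst p i x))
  have hmem : (H23.GysinPb.baseMap p i x).hom t ∈ IsLocalRing.maximalIdeal (X.presheaf.stalk (Limits.pullback.fst p i x)) := by
    refine IsLocalRing.le_maximalIdeal (RingHom.ker_ne_top ((Limits.pullback.fst p i).stalkMap x).hom) ?_
    rw [hK]
    exact Ideal.mem_span_singleton_self _
  haveI : IsNoetherianRing ((Models.specialFibre R X p).presheaf.stalk x) :=
    isNoetherianRing_of_surjective _ _ ((Limits.pullback.fst p i).stalkMap x).hom ((Limits.pullback.fst p i).stalkMap_surjective x)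
  exact LC.gorenstein_of_surjective_span_singleton ((Limits.pullback.fst p i).stalkMap x).hom
    ((Limits.pullback.fst p i).stalkMap_surjective x) hmem hreg' hK

end Groth.Agent.S2225
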