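import Groth.Statements.S2231
import Groth.Agent.S1002
import Groth.Agent.KFlatLib.Scheme.QCohDerived
import Groth.Agent.KFlatLib.Scheme.ProjFormula
import Groth.Agent.KFlatLib.Perfect.Basic

set_option autoImplicit false
universe u
open CategoryTheory AlgebraicGeometry
attribute [local instance] HasDerivedCategory.standard
open QCohCat

namespace Groth.Agent.S2231

/-- Case (3): let X -> S be proper, flat and of finite presentation, Y -> S arbitrary, and K a complex
of modules on X x_S Y which is perfect. Assuming the derived functors L pr_1^*, - tensor^L K and R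
pr_2,* exist (unproved hypotheses carried as binders), the Fourier-Mukai transform of a perfect
object of D(O_X) is a perfect object of D(O_Y). -/
theorem result {S X Y : Scheme.{u}} (a : X ⟶ S)
    (b : Y ⟶ S) [IsProper a] [Flat a] [LocallyOfFinitePresentation a]
    (K : CochainComplex (Limits.pullback a b).Modules ℤ)
    (hK : DCoh.IsPerfect (DCoh.toD (Limits.pullback a b) K))
    [DCoh.HasLpull (Limits.pullback.fst a b)] [DCoh.HasLTensorCx K]
    [DCoh.HasRpush (Limits.pullback.snd a b)] (M : DCoh.D X) (hM : DCoh.IsPerfect M) :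
    DCoh.IsPerfect ((DCoh.Rpush (Limits.pullback.snd a b)).obj
        ((DCoh.LTensorCx K).obj ((DCoh.Lpull (Limits.pullback.fst a b)).obj M))) := by
  let P := Limits.pullback a b
  haveI := (KFlatLib.flatCover P).quasiIso_ψ K
  let K' := (KFlatLib.kRes P).obj K
  haveI : DCoh.HasLTensorCx K' := KFlatLib.hasLTensorCx K'
  let g : K' ⟶ K := (KFlatLib.flatCover P).ψ.app K
  haveI : QuasiIso g := (KFlatLib.flatCover P).quasiIso_ψ K
  obtain ⟨e⟩ := KFlatLib.nonempty_LTensorCx_congr g
  haveI : IsIso (DerivedCategory.Q.map g) :=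
    (DerivedCategory.isIso_Q_map_iff_quasiIso _ _).2 inferInstance
  have hK' : DCoh.IsPerfect (DerivedCategory.Q.obj K') :=
    (KFlatLib.isPerfect_iff _).2 (((KFlatLib.isPerfect_iff _).1 hK).of_iso
      (asIso (DerivedCategory.Q.map g)).symm)
  refine Groth.Agent.DerBC7.isPerfect_rpush _ ?_
  exact (KFlatLib.isPerfect_iff _).2 (((KFlatLib.isPerfect_iff _).1 (KFlatLib.isPerfect_ltensor K'
    (KFlatLib.isKFlat_kRes K) hK' (KFlatLib.isPerfect_lpull _ hM))).of_iso (e.app _))

end Groth.Agent.S2231
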