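import Groth.Statements.S2232
import Groth.Agent.PerfGen7.TensorCoh
import Groth.Agent.PerfGen7.RpushCoh
import Groth.Agent.PerfGen7.RpushCohBound
import Groth.Agent.PerfGen7.RpushFlatOver
import Groth.Agent.HTorCoh.Main
import Groth.Agent.KZ.RegPerf
import Groth.Agent.QCoh.ProperOver
import Groth.Agent.QCoh.SupportFT
import Groth.Agent.S0791

set_option backward.isDefEq.respectTransparency false
set_option linter.style.haveILetI false

set_option autoImplicit false
universe u
open CategoryTheory AlgebraicGeometry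
attribute [local instance] HasDerivedCategory.standard
open QCohCat

namespace Groth.Agent.S2232

open Groth.Agent Groth.Agent.KFlatLib Groth.Agent.PerfGen7
open AlgebraicGeometry CategoryTheory Limits
open scoped ZeroObject

attribute [local instance] HasDerivedCategory.standard

theorem isZero_tensorCx_X' {X : Scheme.{u}} {R S : CochainComplex X.Modules ℤ} {a b c d : ℤ}
    (hR : DCoh.VanishesOutside R a b) (hS : DCoh.VanishesOutside S c d) (n : ℤ)
    (hn : n < a + c ∨ b + d < n) : IsZero (((DCoh.tensorCx.obj R).obj S).X n) := by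
  rw [IsZero.iff_id_eq_zero]
  refine HomologicalComplex.mapBifunctor.hom_ext fun p q h => ?_
  change p + q = n at h
  by_cases hq : q < c ∨ d < q
  · exact (((DCoh.tensorBi (X := X)).obj (R.X p)).map_isZero (hS q hq)).eq_of_src _ _
  · exact ((((DCoh.tensorBi (X := X)).flip.obj (S.X q)).map_isZero (hR p (by omega))).eq_of_src _ _)

theorem hd_ltensor_bound {X : Scheme.{u}} (K : CochainComplex X.Modules ℤ) [DCoh.HasLTensorCx K] (c d : ℤ)
    [(DCoh.toD X K).IsGE c] [(DCoh.toD X K).IsLE d] {E : DCoh.D X} {a b : ℤ}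
    (hE : DCoh.HasFlatAmplitudeIn a b E) (i : ℤ) (hi : i < a + c ∨ b + d < i) :
    IsZero (DCoh.HD ((DCoh.LTensorCx K).obj E) i) := by
  obtain ⟨R, hv, hflat, ⟨eR⟩⟩ := hE
  obtain ⟨S, hSge, hSle, ⟨eS⟩⟩ := DerivedCategory.exists_iso_Q_obj_of_isGE_of_isLE (DCoh.toD X K) c d
  have hS : DCoh.VanishesOutside S c d := fun j hj => by
    rcases hj with h | h
    · exact CochainComplex.isZero_of_isStrictlyGE S c j h
    · exact CochainComplex.isZero_of_isStrictlyLE S d j h
  haveI := hasLTensorCx S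
  obtain ⟨e⟩ := nonempty_LTensorCx_congr_D eS
  refine IsZero.of_iso ?_ ((DerivedCategory.homologyFunctor X.Modules i).mapIso
    (e.app E ≪≫ (DCoh.LTensorCx S).mapIso eR.symm ≪≫
      ltensorCxIso S (isKFlat_of_vanishesOutside hv hflat)) ≪≫
    (DerivedCategory.homologyFunctorFactors X.Modules i).app _)
  exact ShortComplex.isZero_homology_of_isZero_X₂ _ (isZero_tensorCx_X' hv hS i hi)

theorem hd_ltensor_support {X : Scheme.{u}} (K : CochainComplex X.Modules ℤ) [DCoh.HasLTensorCx K]
    (T : Set X) (hT : IsClosed T) (hK : ∀ i, CohB1.support (DCoh.HD (DCoh.toD X K) i) ⊆ T)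
    (E : DCoh.D X) (i : ℤ) : CohB1.support (DCoh.HD ((DCoh.LTensorCx K).obj E) i) ⊆ T := by
  intro x hx
  by_contra hxT
  let U : X.Opens := ⟨Tᶜ, hT.isOpen_compl⟩
  let j : (U : Scheme.{u}) ⟶ X := U.ι
  obtain ⟨R, hR, ⟨eR⟩⟩ := exists_kFlat_rep E
  let K' := (rCx j).obj K
  have hzero : ∀ k, IsZero (K'.homology k) := fun k => by
    refine IsZero.of_iso (isZero_of_stalk ((DCoh.HD (DCoh.toD X K) k).restrict j) fun z => ?_)
      ((K.sc k).mapHomologyIso (Scheme.Modules.restrictFunctor j) ≪≫
        (Scheme.Modules.restrictFunctor j).mapIso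
          ((DerivedCategory.homologyFunctorFactors X.Modules k).app K).symm)
    by_contra hz
    exact z.2 (hK k (mem_support_of_restrict j _ z fun hs => by
      haveI : Subsingleton ((DerSch.stalkFunctor _ z).obj ((DCoh.HD (DCoh.toD X K) k).restrict j) : Type u) := hs
      exact hz (ModuleCat.isZero_of_subsingleton _)))
  let O : CochainComplex (U : Scheme.{u}).Modules ℤ := (degZero (0 : (U : Scheme.{u}).Modules))
  have hO : IsZero O := Functor.map_isZero _ (isZero_zero _)
  have hQ : IsZero (DerivedCategory.Q.obj K') := by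
    refine (DerivedCategory.Q.map_isZero hO).of_iso ?_
    haveI : QuasiIso (0 : K' ⟶ O) := ⟨fun k => by
      rw [quasiIsoAt_iff_isIso_homologyMap]
      exact (hzero k).isIso (Functor.map_isZero (HomologicalComplex.homologyFunctor _ _ k) hO) _⟩
    haveI := isIso_Q_map (0 : K' ⟶ O) inferInstance
    exact asIso (DerivedCategory.Q.map (0 : K' ⟶ O))
  haveI := hasLTensorCx K'
  haveI := hasLTensorCx O
  obtain ⟨eK⟩ := nonempty_LTensorCx_congr_D (hQ.iso (DerivedCategory.Q.map_isZero hO))
  let c := restrictPullCxIso j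
  have hR' := isKFlat_restrict j hR
  let eC : (rCx j).obj ((DCoh.tensorCx.obj R).obj K) ≅ (DCoh.tensorCx.obj ((rCx j).obj R)).obj K' :=
    c.app _ ≪≫ (pullTensorCxIso j R K).symm ≪≫ (DCoh.tensorCx.mapIso (c.app R).symm).app _ ≪≫
      (DCoh.tensorCx.obj ((rCx j).obj R)).mapIso (c.app K).symm
  have hz2 : IsZero ((rho j).obj ((DCoh.LTensorCx K).obj E)) := by
    refine IsZero.of_iso ?_ ((rho j).mapIso ((DCoh.LTensorCx K).mapIso eR.symm ≪≫ ltensorCxIso K hR) ≪≫
      (rhoQ j).app _ ≪≫ DerivedCategory.Q.mapIso eC ≪≫ (ltensorCxIso K' hR').symm ≪≫ eK.app _ ≪≫ ltensorCxIso O hR')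
    exact DerivedCategory.Q.map_isZero (((DCoh.tensorCx (X := (U : Scheme.{u}))).obj ((rCx j).obj R)).map_isZero hO)
  have hz3 : IsZero ((DCoh.HD ((DCoh.LTensorCx K).obj E) i).restrict j) :=
    ((DerivedCategory.homologyFunctor (U : Scheme.{u}).Modules i).map_isZero hz2).of_iso
      (restrictHDIso j ((DCoh.LTensorCx K).obj E) i).symm
  obtain ⟨e, -⟩ := AssLib.exists_semilinear_restrict j (DCoh.HD ((DCoh.LTensorCx K).obj E) i) ⟨x, hxT⟩
  have hs := ModuleCat.subsingleton_of_isZero ((DerSch.stalkFunctor _ (⟨x, hxT⟩ : U)).map_isZero hz3)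
  exact hx ⟨fun u v => e.symm.injective (hs.elim _ _)⟩


/-- Case (3): let S be Noetherian, X -> S and Y -> S of finite type with all local rings of X regular,
and K a bounded complex of modules on X x_S Y with coherent cohomology sheaves whose supports are
proper over Y. Assuming the derived functors L pr_1^*, - tensor^L K and R pr_2,* exist (unproved
hypotheses carried as binders), the Fourier-Mukai transform of a bounded object of D(O_X) with
coherent cohomology sheaves is a bounded object of D(O_Y) with coherent cohomology sheaves. -/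
theorem result {S X Y : Scheme.{u}} [IsNoetherian S]
    (a : X ⟶ S) (b : Y ⟶ S) [LocallyOfFiniteType a] [QuasiCompact a] [LocallyOfFiniteType b]
    [QuasiCompact b] (hreg : Models.IsRegularScheme X)
    (K : CochainComplex (Limits.pullback a b).Modules ℤ)
    (hKcoh : DCoh.IsCohD (DCoh.toD (Limits.pullback a b) K)) (kₗ kᵤ : ℤ)
    (hKge : DerivedCategory.IsGE (DCoh.toD (Limits.pullback a b) K) kₗ)
    (hKle : DerivedCategory.IsLE (DCoh.toD (Limits.pullback a b) K) kᵤ)
    (hsupp : ∀ i : ℤ, ClSub.IsProperOver (Limits.pullback.snd a b)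
      (CohB1.support (DCoh.HD (DCoh.toD (Limits.pullback a b) K) i)))
    [DCoh.HasLpull (Limits.pullback.fst a b)] [DCoh.HasLTensorCx K]
    [DCoh.HasRpush (Limits.pullback.snd a b)]
    (M : DCoh.D X) (hM : DCoh.IsCohD M) (m n : ℤ) (hMge : DerivedCategory.IsGE M m)
    (hMle : DerivedCategory.IsLE M n) :
    DCoh.IsCohD ((DCoh.Rpush (Limits.pullback.snd a b)).obj
        ((DCoh.LTensorCx K).obj ((DCoh.Lpull (Limits.pullback.fst a b)).obj M))) ∧
      ∃ m' n' : ℤ, DerivedCategory.IsGE ((DCoh.Rpush (Limits.pullback.snd a b)).obj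
        ((DCoh.LTensorCx K).obj ((DCoh.Lpull (Limits.pullback.fst a b)).obj M))) m' ∧
        DerivedCategory.IsLE ((DCoh.Rpush (Limits.pullback.snd a b)).obj
        ((DCoh.LTensorCx K).obj ((DCoh.Lpull (Limits.pullback.fst a b)).obj M))) n' := by
  let p := Limits.pullback.fst a b
  let q := Limits.pullback.snd a b
  haveI : LocallyOfFiniteType q := inferInstance
  haveI : IsLocallyNoetherian X := LocallyOfFiniteType.isLocallyNoetherian a
  haveI : IsLocallyNoetherian Y := LocallyOfFiniteType.isLocallyNoetherian b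
  haveI : CompactSpace X := QuasiCompact.compactSpace_of_compactSpace a
  haveI : CompactSpace Y := QuasiCompact.compactSpace_of_compactSpace b
  haveI : IsNoetherian X := {}
  haveI : IsNoetherian Y := {}
  haveI : IsLocallyNoetherian (Limits.pullback a b) := LocallyOfFiniteType.isLocallyNoetherian q
  haveI : CompactSpace ↥(Limits.pullback a b) := QuasiCompact.compactSpace_of_compactSpace q
  haveI := hMge
  haveI := hMle
  haveI := hKge
  haveI := hKle
  have hMp : DCoh.IsPerfect M := (KZ.isPerfect_iff_of_regular hreg M).2 ⟨hM, m, n, hMge, hMle⟩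
  obtain ⟨α, β, -, hamp⟩ := exists_flatAmplitude_of_perfect (isPerfect_lpull p hMp)
  let E := (DCoh.LTensorCx K).obj ((DCoh.Lpull p).obj M)
  have hEc : DCoh.IsCohD E := HTorCoh.isCohD_ltensor_lpull p M hM n K hKcoh kᵤ
  haveI hEge : E.IsGE (α + kₗ) := by
    rw [DerivedCategory.isGE_iff]
    exact fun i hi => hd_ltensor_bound K kₗ kᵤ hamp i (Or.inl hi)
  haveI hEle : E.IsLE (β + kᵤ) := by
    rw [DerivedCategory.isLE_iff]
    exact fun i hi => hd_ltensor_bound K kₗ kᵤ hamp i (Or.inr hi)
  let Z : Fin (kᵤ + 1 - kₗ).toNat → Set ↥(Limits.pullback a b) := fun k =>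
    CohB1.support (DCoh.HD (DCoh.toD (Limits.pullback a b) K) (kₗ + k))
  have hT : ClSub.IsProperOver q (Set.iUnion Z) := S0791.result q _ Z fun k => hsupp _
  have hKs : ∀ i, CohB1.support (DCoh.HD (DCoh.toD (Limits.pullback a b) K) i) ⊆ Set.iUnion Z := by
    intro i x hx
    by_cases h : i < kₗ ∨ kᵤ < i
    · exfalso
      have hz : IsZero (DCoh.HD (DCoh.toD (Limits.pullback a b) K) i) := by
        rcases h with h | h
        · exact DerivedCategory.isZero_of_isGE _ kₗ i h
        · exact DerivedCategory.isZero_of_isLE _ kᵤ i h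
      exact hx (ModuleCat.subsingleton_of_isZero ((DerSch.stalkFunctor _ x).map_isZero hz))
    · refine Set.mem_iUnion.2 ⟨⟨(i - kₗ).toNat, by omega⟩, ?_⟩
      show x ∈ CohB1.support (DCoh.HD (DCoh.toD (Limits.pullback a b) K) (kₗ + ((i - kₗ).toNat : ℕ)))
      rwa [show kₗ + (((i - kₗ).toNat : ℕ) : ℤ) = i by omega]
  obtain ⟨hTc, hTp⟩ := hT
  have hgood : ∀ i, GoodMod q (DCoh.HD E i) := fun i => by
    refine ⟨hEc i, Or.inr ?_⟩
    haveI := hTp
    exact QCoh.isProperOver_of_subset (f := q) (Scheme.IdealSheafData.vanishingIdeal ⟨_, hTc⟩).subschemeι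
      (QCoh.isClosed_support_of_ft (hEc i).2)
      ((hd_ltensor_support K _ hTc hKs _ i).trans (QCoh.range_vanishing hTc).ge)
  obtain ⟨n', hn'⟩ := exists_isLE_rpush_of_support q E (isCohD_isQCohD hEc) (β + kᵤ) _ hTc
    hTc.isCompact (fun i => hd_ltensor_support K _ hTc hKs _ i)
  exact ⟨isCohD_rpush_of_isGE q E (α + kₗ) hgood, _, n', isGE_rpush q E (α + kₗ), hn'⟩

end Groth.Agent.S2232
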