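import Groth.Statements.S2330
import Groth.Agent.VAmple.Embed
import Groth.Agent.AmpleX.BaseChange
import Groth.Agent.AmpleX.Comp
import Groth.Agent.AmpleX.Proj
import Groth.Agent.AmpleX.RelAffine

set_option autoImplicit false
universe u
open CategoryTheory CategoryTheory.Limits AlgebraicGeometry
open EGA2

namespace Groth.Agent.S2330

/-- Let Y be affine, q : X → Y separated and of finite type, and L an invertible O_X-module. Then L is
ample if and only if some L^{⊗n} (n > 0) is very ample relative to q, in the sense that it is the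
pullback of O(1) along an immersion of X into some P^m_Y over Y; moreover, if L is ample this holds
for all n beyond some n₀. ('Very ample relative to q' in general means this with P(E) for a
quasi-coherent O_Y-module E in place of P^m_Y; for q of finite type over an affine base the two
agree, and the P^m_Y form is the one used here.) -/
theorem result {X Y : Scheme.{u}} [IsAffine Y] (q : X ⟶ Y) [IsSeparated q]
    [QuasiCompact q] [LocallyOfFiniteType q] (L : X.Modules) (hL : PicF.IsInvertible L) :
    (CohB1.IsAmple L ↔ ∃ n : ℕ, 0 < n ∧ RelAmple.IsRelVeryAmplePn q (CohB1.tensorPow L n)) ∧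
      (CohB1.IsAmple L → ∃ n₀ : ℕ, ∀ n, n₀ ≤ n → RelAmple.IsRelVeryAmplePn q (CohB1.tensorPow L n)) := by
  haveI : X.IsSeparated := ⟨by
    rw [show terminal.from X = q ≫ terminal.from Y from terminal.hom_ext _ _]
    infer_instance⟩
  haveI : CompactSpace X := QuasiCompact.compactSpace_of_compactSpace q
  have key : CohB1.IsAmple L → ∃ n₀ : ℕ, ∀ n, n₀ ≤ n → RelAmple.IsRelVeryAmplePn q (CohB1.tensorPow L n) := by
    intro hA
    obtain ⟨n₀, h⟩ := VAmple.exists_sections (q ≫ Y.isoSpec.hom) hA
    refine ⟨n₀, fun n hn => ?_⟩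
    obtain ⟨κ, hκ, s, hs⟩ := h n hn
    let e : ULift.{u} (Fin (Fintype.card κ + 1)) ≃ Option κ :=
      Equiv.ulift.trans ((finCongr Fintype.card_option.symm).trans (Fintype.equivFin (Option κ)).symm)
    refine VAmple.exists_immersion q (InvX.isInvertible_tensorPow hL n) (Fintype.card κ)
      (fun i => (e i).elim 0 s) fun x => ?_
    obtain ⟨l, V, hxV, hVeq, hV, hcl⟩ := hs x
    refine ⟨e.symm (some l), V, hxV, ?_, hV, ?_⟩
    · simp only [Equiv.apply_symm_apply]
      exact hVeq
    · rw [eq_top_iff, ← hcl, Subring.closure_le]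
      rintro v (⟨c, rfl⟩ | ⟨i, hi⟩)
      · refine Subring.subset_closure (Or.inl ⟨Y.isoSpec.hom.appTop ((Scheme.ΓSpecIso (CommRingCat.of Γ(Y, ⊤))).inv c), ?_⟩)
        rfl
      · refine Subring.subset_closure (Or.inr ⟨e.symm (some i), ?_⟩)
        simp only [Equiv.apply_symm_apply]
        exact hi
  refine ⟨⟨fun hA => ?_, ?_⟩, key⟩
  · obtain ⟨n₀, hn₀⟩ := key hA
    exact ⟨n₀ + 1, Nat.succ_pos _, hn₀ _ (Nat.le_succ _)⟩
  · rintro ⟨n, hn, N, i, hi, hiq, ⟨τ⟩⟩
    refine AmpleX.isAmple_of_tensorPow hL hn (AmpleX.isAmple_of_iso τ.symm ((AmpleX.isRelAmple_iff_isAmple q _).1 ?_))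
    let p : CohB1.ProjSpace N (ULift.{u} ℤ) ⟶ _ := CohB1.ProjSpace.toSpec N (ULift.{u} ℤ)
    let f2 : pullback p (specULiftZIsTerminal.from Y) ⟶ Y := pullback.snd _ _
    haveI : IsProper p := PnCoh.Chow.isProper_toSpec N _
    haveI : IsSeparated f2 := inferInstanceAs (IsSeparated (pullback.snd p (specULiftZIsTerminal.from Y)))
    haveI : QuasiSeparated f2 := inferInstanceAs (QuasiSeparated (pullback.snd p (specULiftZIsTerminal.from Y)))
    let i' : X ⟶ pullback p (specULiftZIsTerminal.from Y) := i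
    haveI : IsImmersion i' := hi
    haveI : QuasiCompact (i' ≫ f2) := by rw [show i' ≫ f2 = q from hiq]; infer_instance
    haveI : QuasiCompact i' := QuasiCompact.of_comp i' f2
    have hamp : CohB1.IsAmple (Twist.twistProjSpace N (ULift.{u} ℤ) 1) := by
      classical
      refine AmpleX.isAmple_twist_one _ (Finset.univ.image fun j : Fin (N + 1) => MvPolynomial.X j) ?_ ?_
      · intro g hg
        obtain ⟨j, -, rfl⟩ := Finset.mem_image.1 hg
        exact ProjPt.X_mem j
      · refine eq_top_iff.2 fun y _ => ?_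
        obtain ⟨j, hj⟩ := PnCoh.Chow.cov_coord _ y
        exact TopologicalSpace.Opens.mem_iSup.2 ⟨⟨_, Finset.mem_image_of_mem _ (Finset.mem_univ j.down)⟩, hj⟩
    have h1 : RelAmple.IsRelAmple f2 (Twist.twistOver N Y 1) :=
      AmpleX.isRelAmple_baseChange p (specULiftZIsTerminal.from Y) ((AmpleX.isRelAmple_iff_isAmple p _).2 hamp)
    rw [← show i' ≫ f2 = q from hiq]
    exact AmpleX.isRelAmple_pullback_embedding f2 i' (Scheme.Hom.isEmbedding i') h1

end Groth.Agent.S2330
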