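import Groth.Statements.S2344
import Groth.Agent.S4440

set_option autoImplicit false
set_option backward.isDefEq.respectTransparency false
set_option backward.isDefEq.respectTransparency.types false
universe u
open CategoryTheory CategoryTheory.Limits AlgebraicGeometry
open EGA2

namespace Groth.Agent.S2344

/-- Let X be a normal algebraic curve over k (separated, of finite type, nonempty, local rings at closed
points of dimension one, all local rings integrally closed domains), Y proper over k, U a dense open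
of X and g : U → Y a k-morphism. Then g extends uniquely to a k-morphism X → Y. -/
theorem result (k : Type u) [Field k] (X Y : Scheme.{u}) [X.Over (Spec (CommRingCat.of k))] [Y.Over (Spec (CommRingCat.of k))]
    [LocallyOfFiniteType (X ↘ (Spec (CommRingCat.of k)))] [QuasiCompact (X ↘ (Spec (CommRingCat.of k)))] [IsSeparated (X ↘ (Spec (CommRingCat.of k)))] [Nonempty X] (hcurve : (∀ x : X, IsClosed ({x} : Set X) → ringKrullDim (X.presheaf.stalk x) = 1)) (hnorm : Pi1.IsNormalScheme X)
    [IsProper (Y ↘ (Spec (CommRingCat.of k)))] (U : X.Opens) (hU : Dense (U : Set X)) (g : (U : Scheme.{u}) ⟶ Y)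
    (hg : g ≫ (Y ↘ (Spec (CommRingCat.of k))) = U.ι ≫ (X ↘ (Spec (CommRingCat.of k)))) :
    ∃! g' : X ⟶ Y, U.ι ≫ g' = g ∧ g' ≫ (Y ↘ (Spec (CommRingCat.of k))) = X ↘ (Spec (CommRingCat.of k)) := by
  haveI : IsLocallyNoetherian X := LocallyOfFiniteType.isLocallyNoetherian (X ↘ Spec (CommRingCat.of k))
  haveI : IsReduced X := by
    haveI : ∀ x : X, _root_.IsReduced (X.presheaf.stalk x) := fun x => by
      haveI := (hnorm x).1
      infer_instance
    exact isReduced_of_isReduced_stalk X
  haveI : CompactSpace X := QuasiCompact.compactSpace_of_compactSpace (X ↘ Spec (CommRingCat.of k))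
  haveI : JacobsonSpace X := LocallyOfFiniteType.jacobsonSpace (X ↘ Spec (CommRingCat.of k))
  have hdim : ∀ x : X, ringKrullDim (X.presheaf.stalk x) ≤ 1 := fun x => by
    obtain ⟨c, hc, hcc⟩ := nonempty_inter_closedPoints (X := X) (Z := closure {x}) ⟨x, subset_closure rfl⟩
      isClosed_closure.isLocallyClosed
    have h1 := hcurve c hcc
    rw [ringKrullDim_stalk_eq_coheight] at h1 ⊢
    rw [← h1]
    exact WithBot.coe_le_coe.2 (Order.coheight_anti (specializes_iff_mem_closure.2 hc : x ⤳ c))
  have hreg : ∀ x : X, ringKrullDim (X.presheaf.stalk x) ≤ 1 → IsRegularLocalRing (X.presheaf.stalk x) := fun x _ => by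
    haveI := (hnorm x).1
    haveI := (hnorm x).2
    haveI : Ring.KrullDimLE 1 (X.presheaf.stalk x) := Ring.krullDimLE_iff.2 (by exact_mod_cast hdim x)
    haveI : IsPrincipalIdealRing (X.presheaf.stalk x) :=
      ((tfae_of_isNoetherianRing_of_isLocalRing_of_isDomain (X.presheaf.stalk x)).out (a := IsPrincipalIdealRing (X.presheaf.stalk x)) (b := IsIntegrallyClosed (X.presheaf.stalk x) ∧ ∀ P : Ideal (X.presheaf.stalk x), P ≠ ⊥ → P.IsPrime → P = IsLocalRing.maximalIdeal (X.presheaf.stalk x)) 0 3).mpr ⟨inferInstance,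
        fun P hP hP' => IsLocalRing.eq_maximalIdeal (Ring.krullDimLE_one_iff_of_noZeroDivisors.1 ‹_› P hP hP')⟩
    infer_instance
  obtain ⟨W, hUW, g', hg', hgU, hW⟩ := Groth.Agent.S4440.result (Y ↘ Spec (CommRingCat.of k))
    (X ↘ Spec (CommRingCat.of k)) hreg U hU g hg
  obtain rfl : W = ⊤ := top_unique fun x _ => hW x (hdim x)
  refine ⟨(Scheme.topIso X).inv ≫ g', ⟨?_, ?_⟩, fun h hh => ?_⟩
  · rw [← Category.assoc]
    refine Eq.trans ?_ hgU
    congr 1
    rw [← cancel_mono (Scheme.topIso X).hom, Category.assoc, Iso.inv_hom_id, Category.comp_id, Scheme.topIso_hom,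
      Scheme.homOfLE_ι]
  · rw [Category.assoc, hg', ← Scheme.topIso_hom, Iso.inv_hom_id_assoc]
  · haveI : IsDominant U.ι := ⟨by rw [DenseRange, Scheme.Opens.range_ι]; exact hU⟩
    refine ext_of_isDominant_of_isSeparated (Y ↘ Spec (CommRingCat.of k)) ?_ U.ι ?_
    · rw [hh.2, Category.assoc, hg', ← Scheme.topIso_hom, Iso.inv_hom_id_assoc]
    · rw [hh.1, ← Category.assoc]
      refine hgU.symm.trans ?_
      congr 1
      rw [← cancel_mono (Scheme.topIso X).hom, Category.assoc, Iso.inv_hom_id, Category.comp_id, Scheme.topIso_hom,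
        Scheme.homOfLE_ι]

end Groth.Agent.S2344
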