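import Groth.Statements.S3523
import Groth.Agent.KunnethFil.Final
import Groth.Agent.S3527
-- import your own Groth.Agent.* helpers here

set_option autoImplicit false
universe u
attribute [local instance] HasDerivedCategory.standard
open HTor

namespace Groth.Agent.S3523

open CategoryTheory CategoryTheory.Limits in
/-- (Cochain indexing.) Let A be a ring and L, M complexes of A-modules vanishing in large degrees, with
every term of L flat and every cohomology module H^i(L) flat. Then for every n there is a Künneth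
map ⊕_{i+j=n} H^i(L) ⊗_A H^j(M) → H^n(L ⊗_A M), sending [z] ⊗ [z'] to the class of z ⊗ z', and it is
bijective. -/
theorem result (A : Type u) [CommRing A] (L M : DRing.Cx A)
    (hL : DRing.TermwiseFlat L) (bL : ∃ b : ℤ, DRing.VanishesAbove L b)
    (bM : ∃ b : ℤ, DRing.VanishesAbove M b) (hH : ∀ i : ℤ, Module.Flat A (L.homology i)) (n : ℤ) :
    ∃ Φ : HTor.KunnethSum L M n →ₗ[A] (HTor.tensorCx L M).homology n,
      HTor.IsKunnethMap L M n Φ ∧ Function.Bijective Φ := by
  obtain ⟨bL, hbL⟩ := bL
  obtain ⟨b, hb⟩ := bM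
  have hT : ∀ (K : DRing.Cx A) (m : ℤ) (p : ℕ), Subsingleton (HTor.TorSum L K m (p + 1)) := fun K m p => by
    haveI : ∀ ij : {ij : ℤ × ℤ // ij.1 + ij.2 - ((p + 1 : ℕ) : ℤ) = m},
        Subsingleton (DRing.Tor A (p + 1) (L.homology ij.1.1) (K.homology ij.1.2)) := fun ij =>
      haveI := hH ij.1.1
      (Groth.Agent.S3527.result A (L.homology ij.1.1) (K.homology ij.1.2) (p + 1) (Nat.succ_pos p)).1
    exact DFunLike.coe_injective.subsingleton
  exact ⟨Groth.Agent.KunnethFil.kun L M n, Groth.Agent.KunnethFil.isKunnethMap_kun L M n,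
    Groth.Agent.KunnethFil.kun_injective_of_surjective hL hbL n
      (Groth.Agent.KunnethFil.kun_surjective_of_torSum hL hbL (Groth.Agent.KunnethFil.vanishesAbove_Kc hb) n
        fun p => hT _ n p),
    Groth.Agent.KunnethFil.kun_surjective_of_torSum hL hbL hb n fun p => hT M n p⟩

end Groth.Agent.S3523
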