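import Groth.Statements.S2474
import Groth.Agent.H1Norm.Semilocal

set_option autoImplicit false
universe u
open EGA41

namespace Groth.Agent.S2474

open IsLocalRing in
/-- Let A be a Noetherian local domain with fraction field K, K' a finite extension of K and A' the
integral closure of A in K'. Then A' has only finitely many maximal ideals, and for every maximal
ideal 𝔪' of A' the field A'/𝔪' is a finite extension of the residue field of A (equivalently a
finite A-module). -/
theorem result {A K' : Type u} [CommRing A] [IsDomain A] [IsLocalRing A] [IsNoetherianRing A]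
    [Field K'] [Algebra A K'] [Algebra (FractionRing A) K'] [IsScalarTower A (FractionRing A) K'] [FiniteDimensional (FractionRing A) K'] :
    {m : Ideal (integralClosure A K') | m.IsMaximal}.Finite ∧
      ∀ (m : Ideal (integralClosure A K')), m.IsMaximal → Module.Finite A (integralClosure A K' ⧸ m) := by
  classical
  obtain ⟨s, bs, hbs⟩ := FiniteDimensional.exists_is_basis_integral A (FractionRing A) K'
  let C₀ : Subalgebra A K' := Algebra.adjoin A (Set.range bs)
  haveI : Module.Finite A C₀ :=
    Module.Finite.iff_fg.mpr (fg_adjoin_of_finite (Set.finite_range bs)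
      (by rintro _ ⟨i, rfl⟩; exact hbs i))
  haveI : IsNoetherianRing C₀ := IsNoetherianRing.of_finite A C₀
  haveI : IsFractionRing C₀ K' := by
    refine IsFractionRing.of_field C₀ K' fun x => ?_
    obtain ⟨⟨d, hd⟩, hd'⟩ := IsLocalization.exist_integer_multiples_of_finset
      (nonZeroDivisors A) (Finset.univ.image fun i => bs.repr x i)
    have hmem : x * algebraMap A K' d ∈ C₀ := by
      rw [← bs.sum_repr x, Finset.sum_mul]
      refine sum_mem fun i _ => ?_
      obtain ⟨a, ha⟩ := hd' (bs.repr x i) (Finset.mem_image_of_mem _ (Finset.mem_univ i))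
      have : bs.repr x i • bs i * algebraMap A K' d = algebraMap A K' a * bs i := by
        rw [IsScalarTower.algebraMap_apply A (FractionRing A) K' a, ha, Algebra.smul_def d,
          map_mul, ← IsScalarTower.algebraMap_apply, Algebra.smul_def]
        ring
      rw [this]
      exact mul_mem (C₀.algebraMap_mem _) (Algebra.subset_adjoin ⟨i, rfl⟩)
    refine ⟨⟨_, hmem⟩, ⟨_, C₀.algebraMap_mem d⟩, ?_⟩
    show x = x * algebraMap A K' d / algebraMap A K' d
    rw [mul_div_cancel_right₀]
    rw [IsScalarTower.algebraMap_apply A (FractionRing A) K', ne_eq, map_eq_zero,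
      IsFractionRing.to_map_eq_zero_iff]
    exact nonZeroDivisors.ne_zero hd
  have hle : C₀ ≤ integralClosure A K' := Algebra.adjoin_le (by rintro _ ⟨i, rfl⟩; exact hbs i)
  letI : Algebra C₀ (integralClosure A K') := (Subalgebra.inclusion hle).toRingHom.toAlgebra
  haveI : IsScalarTower A C₀ (integralClosure A K') := IsScalarTower.of_algebraMap_eq fun a => rfl
  haveI : IsScalarTower C₀ (integralClosure A K') K' := IsScalarTower.of_algebraMap_eq fun a => rfl
  haveI : IsIntegralClosure (integralClosure A K') C₀ K' :=
    { algebraMap_injective := Subtype.val_injective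
      isIntegral_iff := fun {x} => ⟨fun hx => ⟨⟨x, isIntegral_trans x hx⟩, rfl⟩,
        fun ⟨y, hy⟩ => hy ▸ IsIntegral.tower_top (R := A) y.2⟩ }
  have hmaxfin : {n : Ideal C₀ | n.IsMaximal}.Finite := by
    refine (Ideal.finite_minimalPrimes_of_isNoetherianRing C₀
      ((IsLocalRing.maximalIdeal A).map (algebraMap A C₀))).subset fun n hn => ?_
    haveI : n.IsMaximal := hn
    have hm : n.comap (algebraMap A C₀) = IsLocalRing.maximalIdeal A :=
      IsLocalRing.eq_maximalIdeal (Ideal.isMaximal_comap_of_isIntegral_of_isMaximal (R := A) n)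
    refine ⟨⟨inferInstance, Ideal.map_le_iff_le_comap.mpr hm.ge⟩, ?_⟩
    rintro P ⟨hP, hPm⟩ hPn
    haveI := hP
    have hPmax : P.IsMaximal := Ideal.isMaximal_of_isIntegral_of_isMaximal_comap (R := A) P (by
      have hmP := Ideal.map_le_iff_le_comap.mp hPm
      rw [← (IsLocalRing.maximalIdeal.isMaximal A).eq_of_le (Ideal.IsPrime.ne_top (Ideal.comap_isPrime _ _)) hmP]
      infer_instance)
    exact (hPmax.eq_of_le (Ideal.IsPrime.ne_top inferInstance) hPn).ge
  refine ⟨?_, fun M hM => ?_⟩
  · refine (hmaxfin.biUnion fun n hn =>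
      haveI : n.IsMaximal := hn
      UnibConn.finite_primes_over C₀ K' (integralClosure A K') n).subset fun M hM => ?_
    haveI : M.IsMaximal := hM
    haveI : Algebra.IsIntegral C₀ (integralClosure A K') :=
      IsIntegralClosure.isIntegral_algebra C₀ K'
    exact Set.mem_biUnion (Ideal.isMaximal_comap_of_isIntegral_of_isMaximal (R := C₀) M)
      ⟨inferInstance, rfl⟩
  · haveI := hM
    haveI := Groth.Agent.H1Norm.finite_residue_over C₀ K' (integralClosure A K') M
    exact Module.Finite.trans C₀ _

end Groth.Agent.S2474
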