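import Groth.Statements.S2476
import Groth.Agent.H1CplK.FreeLift
import Groth.Agent.H1CplK.Rank
import Groth.Agent.S4540
import Groth.Agent.S4537
import Groth.Agent.S4571
import Groth.Agent.RegFS6.Field
import Groth.Agent.S2469

set_option autoImplicit false
universe u
open EGA41

namespace Groth.Agent.S2476

open IsLocalRing in
open scoped TensorProduct in
/-- Let k₀ be a field and A a complete Noetherian local k₀-algebra, formally smooth over k₀ for the adic
topology, whose residue field K is a finitely generated extension of k₀. Then the 𝔪-adic completion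
Ω̂_{A/k₀} of Ω_{A/k₀} is a free A-module of rank dim A + trdeg_{k₀} K. -/
theorem result {k₀ A : Type u} [Field k₀] [CommRing A] [IsLocalRing A] [IsNoetherianRing A] [Algebra k₀ A]
    [IsAdicComplete (maximalIdeal A) A] (hfs : CAlgX.IsAdicFormallySmooth k₀ A (maximalIdeal A))
    [Algebra.EssFiniteType k₀ (ResidueField A)] :
    Module.Finite A (AdicCompletion (maximalIdeal A) (Ω[A⁄k₀])) ∧ Module.Free A (AdicCompletion (maximalIdeal A) (Ω[A⁄k₀])) ∧
      (Module.finrank A (AdicCompletion (maximalIdeal A) (Ω[A⁄k₀])) : WithBot ℕ∞) =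
        ringKrullDim A + (Cardinal.toNat (Algebra.trdeg k₀ (ResidueField A)) : WithBot ℕ∞) := by
  classical
  haveI hreg : IsRegularLocalRing A :=
    haveI := FlatLoc6.isRegularRing_of_geometricallyRegular (RegFS6.geometricallyRegular_of_fs hfs)
    IsRegularLocalRing.of_isRegularRing_of_isLocalRing A
  obtain ⟨-, hinj⟩ := Groth.Agent.S4571.result.mp hfs
  obtain ⟨σ, hσ⟩ := CoeffField.exists_ringHom_section k₀ A
  obtain ⟨hfinΩ, hfinΥ, htr⟩ := Groth.Agent.S2469.result (K := k₀) (L := ResidueField A)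
  haveI := hfinΩ
  obtain ⟨hQ, heq⟩ := H1CplK.finrank_tensor_kaehler hinj σ hσ
  haveI := hQ
  let b := Module.finBasis (ResidueField A) (ResidueField A ⊗[A] Ω[A⁄k₀])
  choose v hv using fun i => TensorProduct.mk_surjective A (Ω[A⁄k₀]) (ResidueField A) residue_surjective (b i)
  simp only [TensorProduct.mk_apply] at hv
  have key : ∀ m : Ω[A⁄k₀], (1 : ResidueField A) ⊗ₜ[A] m = 0 ↔ m ∈ (maximalIdeal A • ⊤ : Submodule A (Ω[A⁄k₀])) := by
    intro m
    have hmk : (TensorProduct.quotTensorEquivQuotSMul (Ω[A⁄k₀]) (maximalIdeal A)) ((1 : ResidueField A) ⊗ₜ[A] m) =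
        Submodule.Quotient.mk m :=
      (TensorProduct.quotTensorEquivQuotSMul_mk_tmul (maximalIdeal A) 1 m).trans (by rw [one_smul])
    rw [← Submodule.Quotient.mk_eq_zero, ← hmk]
    exact (LinearEquiv.map_eq_zero_iff _).symm
  have hsum : ∀ c : Fin (Module.finrank (ResidueField A) (ResidueField A ⊗[A] Ω[A⁄k₀])) → A,
      (1 : ResidueField A) ⊗ₜ[A] (∑ i, c i • v i) = ∑ i, residue A (c i) • b i := by
    intro c
    rw [TensorProduct.tmul_sum]
    refine Finset.sum_congr rfl fun i _ => ?_
    rw [TensorProduct.tmul_smul, hv, ← IsLocalRing.ResidueField.algebraMap_eq, algebraMap_smul]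
  have hspan : Submodule.span A (Set.range v) ⊔ maximalIdeal A • ⊤ = ⊤ := by
    refine eq_top_iff.mpr fun m _ => ?_
    choose c hc using fun i => residue_surjective (b.repr ((1 : ResidueField A) ⊗ₜ[A] m) i)
    refine Submodule.mem_sup.mpr ⟨∑ i, c i • v i, Submodule.sum_mem _ fun i _ =>
      Submodule.smul_mem _ _ (Submodule.subset_span ⟨i, rfl⟩), m - ∑ i, c i • v i, (key _).mp ?_, by abel⟩
    rw [TensorProduct.tmul_sub, hsum]
    simp [hc, b.sum_repr]
  have hind : ∀ c : Fin _ → A, ∑ i, c i • v i ∈ (maximalIdeal A • ⊤ : Submodule A (Ω[A⁄k₀])) →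
      ∀ i, c i ∈ maximalIdeal A := by
    intro c hc i
    have := (key _).mpr hc
    rw [hsum] at this
    exact (residue_eq_zero_iff _).mp (Fintype.linearIndependent_iff.mp b.linearIndependent _ this i)
  haveI : IsLocalHom (algebraMap k₀ A) := ⟨fun a ha => by
    rw [isUnit_iff_ne_zero]
    rintro rfl
    rw [map_zero] at ha
    exact not_isUnit_zero ha⟩
  have hfs' : EGA41.IsFormallySmoothAdic k₀ (maximalIdeal k₀) A (maximalIdeal A) := by
    rw [IsLocalRing.maximalIdeal_eq_bot]
    exact (Groth.Agent.S4537.result _).mp hfs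
  obtain ⟨B⟩ := H1CplK.exists_basis v hspan hind fun n hn => by
    haveI := Groth.Agent.S4540.result hfs' (maximalIdeal A ^ n) (Ideal.pow_le_self hn) ⟨n, le_rfl⟩
    infer_instance
  refine ⟨Module.Finite.of_basis B, Module.Free.of_basis B, ?_⟩
  rw [Module.finrank_eq_card_basis B, Fintype.card_fin]
  have hnat : Module.finrank (ResidueField A) (ResidueField A ⊗[A] Ω[A⁄k₀]) =
      Module.finrank (ResidueField A) (CotangentSpace A) + Cardinal.toNat (Algebra.trdeg k₀ (ResidueField A)) := by
    have gen : ∀ q d c o t : ℕ, q + d = c + o → (o : ℤ) - d = t → q = c + t := fun q d c o t h1 h2 => by omega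
    exact gen _ _ _ _ _ heq htr
  rw [hnat, Nat.cast_add, ← hreg.spanFinrank_maximalIdeal,
    spanFinrank_maximalIdeal_eq_finrank_cotangentSpace]

end Groth.Agent.S2476
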