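import Groth.Statements.S2568
import Groth.Agent.GUOpen.Scheme

set_option autoImplicit false
open CategoryTheory AlgebraicGeometry
universe u
open EGA43

namespace Groth.Agent.S2568

/-- Chevalley's criterion in the case of irreducible source and base: let X and Y be irreducible
schemes, all local rings of Y geometrically unibranch, and f : X ⟶ Y a dominant morphism locally of
finite type such that for every point x the local dimension at x of the fibre through x equals the
dimension of the generic fibre (the fibre over the image of the generic point of X). Then f is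
universally open. -/
theorem result {X Y : Scheme.{u}} [IrreducibleSpace X] [IrreducibleSpace Y]
    (hY : ∀ y : Y, CAlg2.IsGeomUnibranch (Y.presheaf.stalk y)) (f : X ⟶ Y) [LocallyOfFiniteType f] [IsDominant f]
    (h : ∀ x : X, FlatMor.fibreDimAt f x = topologicalKrullDim ↥(f.fiber (f.base (genericPoint X)))) :
    UniversallyOpen f := by
  refine (Groth.Agent.UnivOpen.universallyOpen_iff_forall f).2 fun x => ?_
  let S : TopologicalSpace.Closeds X := ⊤
  let j := (Scheme.IdealSheafData.vanishingIdeal S).subschemeι
  have hrange : Set.range j = Set.univ := Groth.Agent.DimFormula.range_vanishingIdeal S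
  haveI : IsReduced (Scheme.IdealSheafData.vanishingIdeal S).subscheme :=
    Groth.Agent.H23.RedSub.isReduced_vanishingIdeal S
  have hsurj : Function.Surjective j := Set.range_eq_univ.1 hrange
  let e' := j.isClosedEmbedding.isEmbedding.toHomeomorphOfSurjective hsurj
  haveI : IrreducibleSpace ↥(Scheme.IdealSheafData.vanishingIdeal S).subscheme :=
    e'.symm.surjective.irreducibleSpace e'.symm.continuous
  haveI : IsIntegral (Scheme.IdealSheafData.vanishingIdeal S).subscheme :=
    isIntegral_of_irreducibleSpace_of_isReduced _
  obtain ⟨w, rfl⟩ := hsurj x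
  have hη : f (genericPoint X) = genericPoint Y := by
    refine IsGenericPoint.eq ?_ (genericPoint_spec Y)
    have h1 := (genericPoint_spec X).image f.continuous
    rwa [Set.image_univ, f.denseRange.closure_range] at h1
  have hd : topologicalKrullDim ↥(f.fiber (f.base (genericPoint X))) =
      ((Groth.Agent.FibDim.rd f (genericPoint X) : ℕ) : WithBot ℕ∞) := by
    rw [Groth.Agent.FibDim.topologicalKrullDim_fiber f]
    refine le_antisymm (iSup_le fun z => ?_) (le_iSup_of_le ⟨genericPoint X, rfl⟩ le_rfl)
    exact_mod_cast Groth.Agent.FibDim.rd_le_of_specializes f (genericPoint_specializes z.1) z.2.symm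
  have heq : EGA43.IsEquidimAt (j ≫ f) w := by
    refine (Groth.Agent.FibDim.isEquidimAt_iff (j ≫ f) w).2
      ⟨Groth.Agent.FibDim.rd f (genericPoint X), ⊤, trivial, fun η _ hmax => ?_, fun z _ hz => ?_⟩
    · have h1 : f (j η) = genericPoint Y := by
        obtain ⟨a, ha⟩ := hsurj (genericPoint X)
        obtain rfl : a = η := hmax a (j.isClosedEmbedding.isInducing.specializes_iff.1
          (ha ▸ genericPoint_specializes _))
        rw [ha, hη]
      rw [Scheme.Hom.comp_apply, h1]
      exact ⟨fun y hy => (hy.antisymm (genericPoint_specializes y)).eq, genericPoint_specializes _⟩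
    · rw [Groth.Agent.DimFormula.rd_closedSub]
      have hm : Groth.Agent.FibDim.FibMax f (j z) := fun y hy hfy => by
        obtain ⟨a, rfl⟩ := hsurj y
        exact congrArg j (hz a (j.isClosedEmbedding.isInducing.specializes_iff.1 hy) hfy)
      have h1 := h (j z)
      rw [Groth.Agent.FibDim.fibreDimAt_eq_rd f hm, hd] at h1
      exact_mod_cast h1
  exact Groth.Agent.QHomeo.univOpenAt_of_comp (Groth.Agent.GUOpen.isUnivOpenAt_of_isEquidimAt hY
    (j ≫ f) w heq ⊤ (IrreducibleSpace.isIrreducible_univ _) trivial)

end Groth.Agent.S2568
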