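import Groth.Statements.S2571
import Groth.Agent.S2570
import Groth.Agent.ChevAffine.Main
import Groth.Agent.MorLib.Descend

set_option autoImplicit false
open CategoryTheory AlgebraicGeometry
universe u
open EGA43

namespace Groth.Agent.S2571

set_option backward.isDefEq.respectTransparency false
set_option backward.isDefEq.respectTransparency.types false


open CategoryTheory.Limits in
/-- Let Y be locally Noetherian, f : X ⟶ Y locally of finite type, and g : Y' ⟶ Y locally of finite
type, universally open and surjective. If the base change X ×_Y Y' ⟶ Y' is an affine morphism, then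
f is affine. -/
theorem result {X Y Y' : Scheme.{u}} [IsLocallyNoetherian Y]
    (f : X ⟶ Y) [LocallyOfFiniteType f] (g : Y' ⟶ Y) [LocallyOfFiniteType g] [UniversallyOpen g] [Surjective g]
    [IsAffineHom (pullback.snd f g)] : IsAffineHom f := by
  refine ⟨fun V hV => ?_⟩
  haveI : IsAffine V.toScheme := hV
  haveI : IsNoetherianRing Γ(Y, V) := IsLocallyNoetherian.component_noetherian ⟨V, hV⟩
  haveI : IsLocallyNoetherian V.toScheme := LocallyOfFiniteType.isLocallyNoetherian V.ι
  haveI : CompactSpace V.toScheme := isCompact_iff_compactSpace.1 hV.isCompact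
  haveI : IsNoetherian V.toScheme := ⟨⟩
  let gV := pullback.snd g V.ι
  haveI : UniversallyOpen gV := MorphismProperty.pullback_snd _ _ ‹_›
  haveI : Surjective gV := MorphismProperty.pullback_snd _ _ ‹_›
  haveI : LocallyOfFiniteType gV := MorphismProperty.pullback_snd _ _ ‹_›
  obtain ⟨W, q, hq, hqs, hloc⟩ := Groth.Agent.S2570.result gV
  let m := q ≫ V.ι
  have hm : IsAffineHom (pullback.snd f m) := by
    choose O hO s hs using hloc
    refine IsZariskiLocalAtTarget.of_iSup_eq_top (P := @IsAffineHom) O
      (top_unique fun w _ => TopologicalSpace.Opens.mem_iSup.2 ⟨w, hO w⟩) fun w => ?_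
    let a : (O w).toScheme ⟶ Y' := s w ≫ pullback.fst gV q ≫ pullback.fst g V.ι
    have ha : a ≫ g = (O w).ι ≫ m := by
      show (s w ≫ pullback.fst gV q ≫ pullback.fst g V.ι) ≫ g = _
      simp only [Category.assoc, m, pullback.condition, gV]
      rw [pullback.condition_assoc, reassoc_of% (hs w)]
    have hd : IsAffineHom (pullback.snd f ((O w).ι ≫ m)) := by
      rw [← ha]
      have sq : IsPullback (pullback.lift (pullback.fst f (a ≫ g)) (pullback.snd f (a ≫ g) ≫ a)
          (by rw [pullback.condition, Category.assoc]; simp only [a, Category.assoc])) (pullback.snd f (a ≫ g)) (pullback.snd f g) a := by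
        refine IsPullback.of_right ?_ (pullback.lift_snd _ _ _) (IsPullback.of_hasPullback f g)
        rw [pullback.lift_fst]
        exact IsPullback.of_hasPullback f (a ≫ g)
      exact MorphismProperty.of_isPullback sq ‹IsAffineHom (pullback.snd f g)›
    exact Groth.Agent.MorLib.Desc.of_two @IsAffineHom (IsPullback.of_hasPullback f ((O w).ι ≫ m))
      ((isPullback_morphismRestrict (pullback.snd f m) (O w)).flip.paste_horiz (IsPullback.of_hasPullback f m)) hd
  haveI : IsAffine W := isAffine_of_isAffineHom q
  haveI : IsAffine (pullback f m) := isAffine_of_isAffineHom (pullback.snd f m)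
  let fV := f ∣_ V
  have sqV : IsPullback (f ⁻¹ᵁ V).ι fV f V.ι := (isPullback_morphismRestrict f V).flip
  let p : pullback f m ⟶ (f ⁻¹ᵁ V).toScheme :=
    sqV.lift (pullback.fst f m) (pullback.snd f m ≫ q) (by rw [pullback.condition, Category.assoc])
  have sqp : IsPullback p (pullback.snd f m) fV q :=
    IsPullback.of_right (by rw [IsPullback.lift_fst]; exact IsPullback.of_hasPullback f m)
      (sqV.lift_snd _ _ _) sqV
  haveI : IsFinite p := MorphismProperty.of_isPullback sqp.flip hq
  haveI : Surjective p := MorphismProperty.of_isPullback sqp.flip hqs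
  haveI : LocallyOfFiniteType fV := MorphismProperty.of_isPullback sqV ‹LocallyOfFiniteType f›
  haveI : IsLocallyNoetherian (f ⁻¹ᵁ V).toScheme := LocallyOfFiniteType.isLocallyNoetherian fV
  haveI : CompactSpace (f ⁻¹ᵁ V).toScheme := p.surjective.compactSpace p.continuous
  haveI : IsNoetherian (f ⁻¹ᵁ V).toScheme := ⟨⟩
  exact Groth.Agent.ChevAffine.isAffine_of_finite_surjective p

end Groth.Agent.S2571
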