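import Groth.Statements.S2586
import Groth.Agent.H1FibInj.Regular
set_option backward.isDefEq.respectTransparency false
set_option backward.isDefEq.respectTransparency.types false
set_option maxHeartbeats 1000000

set_option autoImplicit false
open TensorProduct
universe u
open EGA43

namespace Groth.Agent.S2586

/-- Let A ⟶ B be a ring map with B finitely presented over A, M a finitely presented B-module, q a prime
of B with contraction p, and g₁, …, gₙ elements of q. Suppose the localization M_q is flat over A
and the gᵢ form a regular sequence on the localization at q of the fibre module M ⊗_A κ(p). Then the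
gᵢ form a regular sequence on M_q, and for every i the localization at q of M/(g₁, …, gᵢ)M is flat
over A. -/
theorem result {A B : Type u} [CommRing A] [CommRing B] [Algebra A B]
    [Algebra.FinitePresentation A B] (M : Type u) [AddCommGroup M] [Module B M] [Module A M] [IsScalarTower A B M]
    [Module.FinitePresentation B M] (q : Ideal B) [q.IsPrime] (g : List B) (hg : ∀ b ∈ g, b ∈ q)
    (hflat : Module.Flat A (LocalizedModule q.primeCompl M))
    (hreg : RingTheory.Sequence.IsRegular
      (LocalizedModule q.primeCompl (M ⊗[A] (q.comap (algebraMap A B)).ResidueField)) g) :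
    RingTheory.Sequence.IsRegular (LocalizedModule q.primeCompl M) g ∧
      ∀ i ≤ g.length, Module.Flat A
        (LocalizedModule q.primeCompl (M ⧸ (Ideal.span {b | b ∈ g.take i} • (⊤ : Submodule B M)))) := by
  classical
  let k := (q.comap (algebraMap A B)).ResidueField
  let Mq := LocalizedModule q.primeCompl M
  let fM : M →ₗ[B] Mq := LocalizedModule.mkLinearMap q.primeCompl M
  let eY : LocalizedModule q.primeCompl (M ⊗[A] k) ≃ₗ[B] Mq ⊗[A] k :=
    IsLocalizedModule.iso q.primeCompl (AlgebraTensorModule.rTensor A k fM)
  have hY : RingTheory.Sequence.IsRegular (Mq ⊗[A] k) g := (eY.isRegular_congr g).1 hreg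
  have key : ∀ i, i ≤ g.length →
      Module.Flat A (Mq ⧸ Ideal.ofList (g.take i) • (⊤ : Submodule B Mq)) := by
    intro i
    induction i with
    | zero =>
      intro _
      haveI := hflat
      exact Module.Flat.of_linearEquiv (M := Mq)
        ((Submodule.quotEquivOfEqBot (Ideal.ofList (g.take 0) • (⊤ : Submodule B Mq)) (by simp)).restrictScalars A)
    | succ i ih =>
      intro hi
      obtain ⟨-, hf⟩ := H1FibInj.step (M := M) q (Ideal.ofList (g.take i))
        (Submodule.fg_span (List.finite_toSet _)) (g[i]'(by omega)) (ih (by omega))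
        (hY.regular_mod_prev i (by omega))
      haveI := hf
      have he : Ideal.ofList (g.take (i + 1)) = Ideal.ofList (g[i]'(by omega) :: g.take i) := by
        rw [List.take_succ_eq_append_getElem (by omega : i < g.length), Ideal.ofList_append, Ideal.ofList_singleton,
          Ideal.ofList_cons, sup_comm]
      exact Module.Flat.of_linearEquiv (M := QuotSMulTop (g[i]'(by omega)) (Mq ⧸ Ideal.ofList (g.take i) • (⊤ : Submodule B Mq)))
        ((Submodule.quotEquivOfEq _ _ (by rw [he]) ≪≫ₗ
          Submodule.quotOfListConsSMulTopEquivQuotSMulTopOuter Mq _ _).restrictScalars A)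
  refine ⟨⟨⟨fun i hi => (H1FibInj.step (M := M) q (Ideal.ofList (g.take i))
    (Submodule.fg_span (List.finite_toSet _)) (g[i]'hi) (key i hi.le) (hY.regular_mod_prev i hi)).1⟩, ?_⟩,
    fun i hi => ?_⟩
  · intro h
    refine hY.top_ne_smul ?_
    rw [eq_comm, ← Submodule.Quotient.subsingleton_iff] at h ⊢
    haveI := h
    haveI : Subsingleton ((Mq ⧸ Ideal.ofList g • (⊤ : Submodule B Mq)) ⊗[A] k) := inferInstance
    exact (H1FibInj.quotTensorEquiv (A := A) (Ideal.ofList g) Mq k).symm.subsingleton
  · haveI := key i hi
    let I := Ideal.ofList (g.take i)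
    let f₁ : (M ⧸ I • (⊤ : Submodule B M)) →ₗ[B] Mq ⧸ I • (⊤ : Submodule B Mq) :=
      ((TensorProduct.tensorQuotEquivQuotSMul Mq I).toLinearMap ∘ₗ AlgebraTensorModule.rTensor B (B ⧸ I) fM) ∘ₗ
        (TensorProduct.tensorQuotEquivQuotSMul M I).symm.toLinearMap
    haveI : IsLocalizedModule q.primeCompl f₁ := by
      haveI : IsLocalizedModule q.primeCompl
          ((TensorProduct.tensorQuotEquivQuotSMul Mq I).toLinearMap ∘ₗ AlgebraTensorModule.rTensor B (B ⧸ I) fM) :=
        IsLocalizedModule.of_linearEquiv _ _ _
      exact IsLocalizedModule.of_linearEquiv_right _ _ _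
    exact Module.Flat.of_linearEquiv ((IsLocalizedModule.iso q.primeCompl f₁).restrictScalars A)

end Groth.Agent.S2586
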