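import Groth.Statements.S2595
import Groth.Agent.H1CMDim.Nhd
import Groth.Agent.FibDim.Basic
set_option backward.isDefEq.respectTransparency false
set_option backward.isDefEq.respectTransparency.types false
set_option maxHeartbeats 1000000

set_option autoImplicit false
open CategoryTheory AlgebraicGeometry
universe u
open EGA43

namespace Groth.Agent.S2595

/-- Let Y be locally Noetherian, f : X ⟶ Y locally of finite type and x a point of X. If O_{Y,f x} ⟶
O_{X,x} is flat and the local ring at x of the fibre through x is Cohen–Macaulay, then f is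
equidimensional at x. -/
theorem result {X Y : Scheme.{u}} [IsLocallyNoetherian Y] (f : X ⟶ Y)
    [LocallyOfFiniteType f] (x : X) (hflat : (f.stalkMap x).hom.Flat)
    (hCM : LocCoh.IsCohenMacaulayLocalRing ((f.fiber (f.base x)).presheaf.stalk (f.asFiber x))) :
    EGA43.IsEquidimAt f x := by
  haveI : IsLocallyNoetherian X := LocallyOfFiniteType.isLocallyNoetherian f
  haveI : LocallyOfFinitePresentation f := LocallyOfFinitePresentation.iff_locallyOfFiniteType.2 inferInstance
  obtain ⟨e, U, hxU, hcm, hrd⟩ := H1CMDim.exists_nhd_rd f x ⟨hflat, hCM⟩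
  obtain ⟨V, hxV, hV⟩ := FibDim.exists_nhd_generizing (Z := (Set.univ : Set X)) isClosed_univ x
  refine (FibDim.isEquidimAt_iff f x).2 ⟨e, U ⊓ V, ⟨hxU, hxV⟩, fun η hη hmax => ⟨fun y hy => ?_, ?_⟩,
    fun z hz hm => hrd z hz.1 hm⟩
  · obtain ⟨ζ, hζ, rfl⟩ := FibDim.lifts_of_flat_stalk f (hcm η hη.1).1 (specializes_refl η) hy
    rw [hmax ζ hζ]
  · obtain ⟨η', -, hx', hη'⟩ := hV η hη.2 trivial
    rw [hmax η' hη'] at hx'
    exact hx'.map f.continuous

end Groth.Agent.S2595
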