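import Groth.Statements.S2903
import Groth.Agent.EtDescX.Proper

set_option autoImplicit false
open CategoryTheory CategoryTheory.Limits AlgebraicGeometry Opposite
universe u
open SGA1

namespace Groth.Agent.S2903

/-- Let g : S' ⟶ S be proper, surjective and locally of finite presentation. Then every descent datum
relative to g whose underlying scheme is a finite etale cover of S' is isomorphic to the canonical
descent datum of a finite etale cover of S. (Descent data relative to g are taken in
functor-of-points form.) -/
theorem result {S' S : Scheme.{u}} (g : S' ⟶ S) [IsProper g] [Surjective g]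
    [LocallyOfFinitePresentation g] (D : Desc.SchDD g) [IsFinite D.obj.hom] [Etale D.obj.hom] :
    ∃ U : Over S, IsFinite U.hom ∧ Etale U.hom ∧ Nonempty ((Desc.toDD g).obj U ≅ D) := by
  obtain ⟨U, hq, hs, he, ⟨i⟩⟩ := EtDescX.exists_effective_of_proper (p := g) D
  refine ⟨U, ?_, he, ⟨i⟩⟩
  let w : pullback g U.hom ⟶ D.obj.left := i.hom.hom.left
  have hiso : IsIso w := ⟨i.inv.hom.left, congrArg (fun z : (Desc.toDD g).obj U ⟶ (Desc.toDD g).obj U => z.hom.left) i.hom_inv_id,
    congrArg (fun z : D ⟶ D => z.hom.left) i.inv_hom_id⟩
  have hc : pullback.snd g U.hom ≫ U.hom = w ≫ D.obj.hom ≫ g := by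
    rw [← pullback.condition, ← Category.assoc]
    exact congrArg (· ≫ g) (Over.w i.hom.hom).symm
  have : UniversallyClosed (pullback.snd g U.hom ≫ U.hom) := by rw [hc]; infer_instance
  have : UniversallyClosed U.hom := UniversallyClosed.of_comp_surjective (pullback.snd g U.hom) U.hom
  have : IsProper U.hom := ⟨⟩
  exact IsFinite.of_isProper_of_locallyQuasiFinite U.hom

end Groth.Agent.S2903
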