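import Groth.Statements.S2904
import Groth.Agent.EtDescX.Comp
import Groth.Agent.EtDescX.Descend
import Groth.Agent.UnivOpenSec.LocNoeth

set_option autoImplicit false
open CategoryTheory CategoryTheory.Limits AlgebraicGeometry Opposite
universe u
open SGA1

namespace Groth.Agent.S2904

/-- Let S be locally Noetherian and g : S' ⟶ S of finite type, surjective and universally open. Then
every descent datum relative to g whose underlying scheme is etale, separated and quasi-compact over
S' is isomorphic to the canonical descent datum of a scheme etale, separated and quasi-compact over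
S. (Descent data relative to g are taken in functor-of-points form.) -/
theorem result {S' S : Scheme.{u}} [IsLocallyNoetherian S] (g : S' ⟶ S)
    [LocallyOfFiniteType g] [QuasiCompact g] [Surjective g] [UniversallyOpen g]
    (D : Desc.SchDD g) [QuasiCompact D.obj.hom] [IsSeparated D.obj.hom] [Etale D.obj.hom] :
    ∃ U : Over S, QuasiCompact U.hom ∧ IsSeparated U.hom ∧ Etale U.hom ∧ Nonempty ((Desc.toDD g).obj U ≅ D) := by
  obtain ⟨Z, ν, hν, hνs, hloc⟩ := UnivOpenSec.exists_integral_local_sections' g
  choose V hzV s hs using hloc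
  let π : (∐ fun z => (V z : Scheme.{u})) ⟶ Z := Sigma.desc fun z => (V z).ι
  let h : (∐ fun z => (V z : Scheme.{u})) ⟶ S' := Sigma.desc s
  have : Etale π := IsZariskiLocalAtSource.sigmaDesc fun z => inferInstanceAs (Etale (V z).ι)
  have : Surjective π := ⟨fun z => ⟨Sigma.ι (fun z => (V z : Scheme.{u})) z ⟨z, hzV z⟩, by
    rw [← Scheme.Hom.comp_apply, Sigma.ι_desc]
    rfl⟩⟩
  have hq : h ≫ g = π ≫ ν := Sigma.hom_ext _ _ fun z => by
    rw [Sigma.ι_desc_assoc, Sigma.ι_desc_assoc, hs]
  have hqs : SGA1.UnivSubmersive (π ≫ ν) := MorphismProperty.comp_mem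
    (MorphismProperty.universally (topologically fun f => Topology.IsQuotientMap f)) π ν
    (EtDescX.univSubmersive_of_universallyOpen π) (EtDescX.univSubmersive_of_universallyClosed ν)
  obtain ⟨U, h₁, h₂, h₃, h₄⟩ := EtDescX.exists_effective_of_hasCharts D
    (EtDescX.univSubmersive_of_universallyOpen g)
    (EtDescX.hasCharts_of_refine h hq D hqs (EtDescX.hasCharts_of_etale_integral π ν rfl _))
  exact ⟨U, h₃ inferInstance inferInstance, h₁, h₂, h₄⟩

end Groth.Agent.S2904
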