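import Groth.Statements.S2905
import Groth.Agent.EtDescX.Local
import Groth.Agent.S1482
import Groth.Agent.FibDim.Comp
import Groth.Agent.MorLib.NagataCurve
import Groth.Agent.HTopUS.Main
import Groth.Agent.SGA1Q.SigmaFinite

set_option autoImplicit false
open CategoryTheory CategoryTheory.Limits AlgebraicGeometry Opposite
universe u
open SGA1

namespace Groth.Agent.S2905

/-- Let S be locally Noetherian and g : S' ⟶ S universally submersive, of finite type and quasi-finite.
Then every descent datum relative to g whose underlying scheme is etale, separated and quasi-compact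
over S' is isomorphic to the canonical descent datum of a scheme etale, separated and quasi-compact
over S. (Descent data relative to g are taken in functor-of-points form.) -/
theorem result {S' S : Scheme.{u}} [IsLocallyNoetherian S] (g : S' ⟶ S)
    (hg : SGA1.UnivSubmersive g) [LocallyOfFiniteType g] [QuasiCompact g] [LocallyQuasiFinite g]
    (D : Desc.SchDD g) [QuasiCompact D.obj.hom] [IsSeparated D.obj.hom] [Etale D.obj.hom] :
    ∃ U : Over S, QuasiCompact U.hom ∧ IsSeparated U.hom ∧ Etale U.hom ∧ Nonempty ((Desc.toDD g).obj U ≅ D) := by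
  have := EtDescX.surjective_of_univSubmersive hg
  have key : EtDescX.HasCharts D := by
    refine EtDescX.hasCharts_of_local D fun s => ?_
    have hfin : (g ⁻¹' {s}).Finite := g.finite_preimage_singleton s
    obtain ⟨n, ⟨e⟩⟩ := (Set.finite_coe_iff.2 hfin).exists_equiv_fin
    let x : Fin n → S' := fun i => (e.symm i).1
    obtain ⟨U, ν, u, hν, hνu, J, hJ, O, v, hv, -, hcov⟩ := S1482.result g s x
      (Subtype.val_injective.comp e.symm.injective) (fun i => (e.symm i).2) (fun i => by
        have : x i ∈ g.quasiFiniteLocus := by rw [g.quasiFiniteLocus_eq_top]; trivial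
        simpa using this)
    have := hν
    have hUn : IsLocallyNoetherian U := LocallyOfFiniteType.isLocallyNoetherian ν
    let K := ULift.{u} (Σ i, J i)
    have : ∀ i, Finite (J i) := hJ
    let F : K → Scheme.{u} := fun k => O k.down.1 k.down.2
    let e₁ : (∐ F) ⟶ pullback g ν := Sigma.desc fun k => (O k.down.1 k.down.2).ι
    let r : (∐ F) ⟶ U := e₁ ≫ pullback.snd g ν
    have : IsIntegralHom r := by
      have : r = Sigma.desc fun k : K => (O k.down.1 k.down.2).ι ≫ pullback.snd g ν :=
        Sigma.hom_ext _ _ fun k => by rw [Sigma.ι_desc, Sigma.ι_desc_assoc]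
      rw [this]
      refine SGA1Q.isIntegralHom_sigmaDesc _ fun k => ?_
      have := (hv k.down.1 k.down.2).2.1
      infer_instance
    have hC : IsClosed (Set.range r) := r.isClosedMap.isClosed_range
    have hnhd : Set.range r ∈ nhds u := by
      refine FibDim.mem_nhds_of_generizations (MorLib.NagataCurve.isLocallyConstructible_of_isClosed hC) fun z hz => ?_
      have hgU : SGA1.UnivSubmersive (pullback.snd g ν) :=
        SGA1Q.univSubmersive_of_isPullback hg (IsPullback.of_hasPullback g ν).flip
      obtain ⟨q, p, hqp, hq, hp⟩ := HTopUS.exists_lift_specializes (pullback.snd g ν) hgU (𝟙 U) hz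
      let π := pullback.snd (𝟙 U) (pullback.snd g ν)
      have hπ : ∀ a, pullback.snd g ν (π a) = pullback.fst (𝟙 U) (pullback.snd g ν) a := fun a => by
        rw [← Scheme.Hom.comp_apply, ← pullback.condition, Category.comp_id]
      have hgp : g (pullback.fst g ν (π p)) = s := by
        rw [← Scheme.Hom.comp_apply, pullback.condition, Scheme.Hom.comp_apply, hπ, hp, hνu]
      obtain ⟨j, hj⟩ := hcov (π p) (e ⟨_, hgp⟩) ((hπ p).trans hp) (by
        show _ = (e.symm (e ⟨_, hgp⟩)).1
        rw [Equiv.symm_apply_apply])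
      have hpO : π p ∈ O (e ⟨_, hgp⟩) j := Set.mem_of_eq_of_mem (s := (O (e ⟨_, hgp⟩) j : Set ↥(pullback g ν))) hj (hv _ j).1
      have hqO : π q ∈ O (e ⟨_, hgp⟩) j := (hqp.map π.continuous).mem_open (O _ j).isOpen hpO
      refine ⟨Sigma.ι F ⟨⟨e ⟨_, hgp⟩, j⟩⟩ ⟨π q, hqO⟩, ?_⟩
      rw [← Scheme.Hom.comp_apply, Sigma.ι_desc_assoc]
      exact ((Scheme.Hom.comp_apply _ _ _).trans (hπ q)).trans hq
    obtain ⟨N, hN, hNo, hNu⟩ := mem_nhds_iff.1 hnhd
    let W : U.Opens := ⟨N, hNo⟩
    let ν' : (W : Scheme.{u}) ⟶ S := W.ι ≫ ν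
    refine ⟨_, ν', inferInstance, ⟨⟨u, hNu⟩, (Scheme.Hom.comp_apply _ _ _).trans hνu⟩, ?_⟩
    let q' : pullback r W.ι ⟶ W := pullback.snd r W.ι
    have : Surjective q' := ⟨fun w => by
      obtain ⟨f, hf⟩ := hN w.2
      obtain ⟨z, -, hz⟩ := Scheme.Pullback.exists_preimage_pullback (f := r) (g := W.ι) f w hf
      exact ⟨z, hz⟩⟩
    let h : pullback r W.ι ⟶ pullback g ν' :=
      pullback.lift (pullback.fst r W.ι ≫ e₁ ≫ pullback.fst g ν) q' (by
        simp only [Category.assoc, pullback.condition]
        rw [← Category.assoc e₁, ← Category.assoc (pullback.fst r W.ι), pullback.condition, Category.assoc])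
    exact EtDescX.hasCharts_of_refine h (pullback.lift_snd _ _ _) _
      (EtDescX.univSubmersive_of_universallyClosed q') (EtDescX.hasCharts_of_integral _)
  obtain ⟨U, h₁, h₂, h₃, h₄⟩ := EtDescX.exists_effective_of_hasCharts D hg key
  exact ⟨U, h₃ inferInstance inferInstance, h₁, h₂, h₄⟩

end Groth.Agent.S2905
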