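import Groth.Statements.S2911
import Groth.Agent.EtaleQuot.Scheme
import Groth.Agent.SrcDescent.Scheme
import Groth.Agent.S2909
import Mathlib.AlgebraicGeometry.Morphisms.Proper

set_option autoImplicit false
open CategoryTheory CategoryTheory.Limits AlgebraicGeometry
universe u
open SGA1

namespace Groth.Agent.S2911

/-- With the existence of the quotient taken as a hypothesis: Let Y be locally Noetherian, f : X ⟶ Y
etale, separated and quasi-compact, G a finite group acting on X by Y-automorphisms, p : X ⟶ X' a
quotient of X by G and q : X' ⟶ Y the induced morphism. Then p and q are etale, and if f is finite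
then q is finite. -/
theorem result {X X' Y : Scheme.{u}} {G : Type u} [Group G] [Finite G] (ρ : G →* Aut X)
    [IsLocallyNoetherian Y] (f : X ⟶ Y) [Etale f] [IsSeparated f] [QuasiCompact f] (hρ : ∀ g : G, (ρ g).hom ≫ f = f)
    (p : X ⟶ X') (hp : SGA1.IsQuot ρ p) (q : X' ⟶ Y) (hq : p ≫ q = f) :
    Etale p ∧ Etale q ∧ (IsFinite f → IsFinite q) := by
  haveI hp' : Etale p := Groth.Agent.EtaleQuot.etale_of_isQuot hp hq
  haveI : Surjective p := ⟨SGA1Q.surjective hp⟩
  haveI hq' : Etale q := Groth.Agent.SrcDescent.etale_of_etale_comp p q (by rw [hq]; infer_instance)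
  refine ⟨hp', hq', fun hf => ?_⟩
  obtain ⟨haff, hsep, -, hft⟩ := Groth.Agent.S2909.result ρ p hp f q hq hρ
  obtain ⟨hlft, hqc⟩ := hft ‹_› inferInstance inferInstance
  haveI := hsep.1 inferInstance
  haveI := haff.1 inferInstance
  haveI : UniversallyClosed (p ≫ q) := by rw [hq]; infer_instance
  haveI : UniversallyClosed q := UniversallyClosed.of_comp_surjective p q
  exact IsFinite.iff_isProper_and_isAffineHom.2 ⟨⟨⟩, inferInstance⟩

end Groth.Agent.S2911
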