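import Groth.Statements.S2912
import Groth.Agent.DescLib.DescFinite

set_option backward.isDefEq.respectTransparency false
set_option backward.isDefEq.respectTransparency.types false

set_option autoImplicit false
open CategoryTheory CategoryTheory.Limits AlgebraicGeometry Opposite
universe u
open SGA1

namespace Groth.Agent.S2912

/-- Let g : S' ⟶ S be flat, surjective, quasi-compact and universally injective. Then every descent
datum relative to g (on an arbitrary S'-scheme) is isomorphic to the canonical descent datum of some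
S-scheme. (Descent data relative to g are taken in functor-of-points form.) -/
theorem result {S' S : Scheme.{u}} (g : S' ⟶ S) [Flat g] [Surjective g] [QuasiCompact g]
    [UniversallyInjective g] (D : Desc.SchDD g) : ∃ U : Over S, Nonempty ((Desc.toDD g).obj U ≅ D) := by
  refine Groth.Agent.DescLib.effective_of_locally_effective g D fun v => ?_
  obtain ⟨X', hX', hvX, -⟩ := exists_isAffineOpen_mem_and_subset (x := D.obj.hom v) (U := ⊤) trivial
  obtain ⟨O, hO, hvO, hOX⟩ :=
    exists_isAffineOpen_mem_and_subset (x := v) (U := D.obj.hom ⁻¹ᵁ X') hvX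
  -- as `g` is radicial, every open is stable
  let σ : D.obj.left ⟶ pullback (Groth.Agent.DescLib.IndQA.sv g D) g :=
    pullback.lift (𝟙 _) D.obj.hom (Category.id_comp _)
  have hσ : σ ≫ pullback.fst _ _ = 𝟙 _ := pullback.lift_fst _ _ _
  have hσ' : σ ≫ Groth.Agent.DescLib.IndQA.d₁ g D = 𝟙 _ :=
    (Groth.Agent.DescLib.IndQA.lift_d₁ g D _ _ _).trans
      (Groth.Agent.DescLib.IndQA.tr_self g D _ _ (Category.id_comp _) _)
  haveI : UniversallyInjective (pullback.fst (Groth.Agent.DescLib.IndQA.sv g D) g) :=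
    MorphismProperty.pullback_fst _ _ inferInstance
  have hpt : ∀ r : (pullback (Groth.Agent.DescLib.IndQA.sv g D) g : Scheme.{u}),
      Groth.Agent.DescLib.IndQA.d₁ g D r = pullback.fst (Groth.Agent.DescLib.IndQA.sv g D) g r := by
    intro r
    have hr : σ (pullback.fst (Groth.Agent.DescLib.IndQA.sv g D) g r) = r :=
      (pullback.fst (Groth.Agent.DescLib.IndQA.sv g D) g).injective (by
        rw [← Scheme.Hom.comp_apply σ, hσ]; rfl)
    conv_lhs => rw [← hr]
    rw [← Scheme.Hom.comp_apply, hσ']
    rfl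
  obtain ⟨D', j, hj, hr⟩ := Groth.Agent.DescLib.exists_subDatum g D O (by
    ext r
    show pullback.fst (Groth.Agent.DescLib.IndQA.sv g D) g r ∈ O ↔
      Groth.Agent.DescLib.IndQA.d₁ g D r ∈ O
    rw [hpt r])
  refine ⟨D', j, hj, (show v ∈ Set.range j.hom.left by rw [hr]; exact hvO), ?_⟩
  haveI := hj
  haveI : IsAffine (O : Scheme.{u}) := hO
  haveI : IsAffine D'.obj.left :=
    .of_isIso (IsOpenImmersion.isoOfRangeEq j.hom.left O.ι (hr.trans O.range_ι.symm)).hom
  haveI : IsAffine (X' : Scheme.{u}) := hX'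
  have hrange : Set.range D'.obj.hom ⊆ Set.range X'.ι := by
    rw [X'.range_ι]
    rintro _ ⟨w, rfl⟩
    show D'.obj.hom w ∈ X'
    rw [← Over.w j.hom, Scheme.Hom.comp_apply]
    exact hOX (show j.hom.left w ∈ (O : Set D.obj.left) by rw [← hr]; exact ⟨w, rfl⟩)
  let a : D'.obj.left ⟶ X'.toScheme := IsOpenImmersion.lift X'.ι D'.obj.hom hrange
  have hq : Groth.Agent.DescLib.IndQA.indQA D'.obj.hom := by
    rw [← show a ≫ X'.ι = D'.obj.hom from IsOpenImmersion.lift_fac _ _ _]
    exact Groth.Agent.MorLib.IQA.indQA_comp a X'.ι (Groth.Agent.DescLib.indQA_of_isAffineHom a)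
      (Groth.Agent.MorLib.IQA.indQA_of_isImmersion _)
  exact Groth.Agent.DescLib.effective_single Groth.Agent.DescLib.IndQA.indQA
    (fun _ _ p _ _ _ _ D h => Groth.Agent.DescLib.IndQA.effective_indQA_hom p D h) g D' hq

end Groth.Agent.S2912
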