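import Groth.Statements.S2921
import Groth.Agent.RGLib.Kummer

set_option autoImplicit false
universe u
open IsLocalRing
open SGA1

namespace Groth.Agent.S2921

/-- Regularity and etaleness; the tameness assertion is not stated: Let A be a regular local ring, f_1,
…, f_r elements of the maximal ideal whose images in the cotangent space are linearly independent
(part of a regular system of parameters), and n_1, …, n_r ≥ 1. Then A' = A[T_1, …, T_r]/(T_i^{n_i} −
f_i) is a regular local ring; and if each n_i is invertible in the residue field of A, then A'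
becomes etale over A after inverting f_1 ⋯ f_r. -/
theorem result (A : Type u) [CommRing A] [IsRegularLocalRing A] (r : ℕ) (f : Fin r → A)
    (hm : ∀ i, f i ∈ maximalIdeal A)
    (hf : LinearIndependent (ResidueField A) (fun i => (maximalIdeal A).toCotangent ⟨f i, hm i⟩))
    (n : Fin r → ℕ) (hn : ∀ i, 1 ≤ n i) :
    IsRegularLocalRing (SGA1.kummerAlg A f n) ∧
    ((∀ i, IsUnit ((n i : ℕ) : ResidueField A)) →
      letI := (Localization.awayMap (algebraMap A (SGA1.kummerAlg A f n)) (∏ i, f i)).toAlgebra
      Algebra.Etale (Localization.Away (∏ i, f i)) (Localization.Away (algebraMap A (SGA1.kummerAlg A f n) (∏ i, f i)))) := by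
  refine ⟨Groth.Agent.RGLib.Kummer.isRegularLocalRing f n hn hm hf, fun hu => ?_⟩
  letI := (Localization.awayMap (algebraMap A (SGA1.kummerAlg A f n)) (∏ i, f i)).toAlgebra
  haveI : IsScalarTower A (Localization.Away (∏ i, f i))
      (Localization.Away (algebraMap A (SGA1.kummerAlg A f n) (∏ i, f i))) :=
    .of_algebraMap_eq fun a => by
      refine (IsScalarTower.algebraMap_apply A (SGA1.kummerAlg A f n) _ a).trans ?_
      exact (IsLocalization.map_eq (S := Localization.Away (∏ i, f i))
        (Q := Localization.Away (algebraMap A (SGA1.kummerAlg A f n) (∏ i, f i)))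
        (g := algebraMap A (SGA1.kummerAlg A f n))
        (M := Submonoid.powers (∏ i, f i))
        (T := Submonoid.powers (algebraMap A (SGA1.kummerAlg A f n) (∏ i, f i)))
        (by
          rintro x ⟨k, rfl⟩
          exact ⟨k, (map_pow _ _ k).symm⟩) a).symm
  haveI : IsNoetherianRing (Localization.Away (∏ i, f i)) :=
    IsLocalization.isNoetherianRing (Submonoid.powers (∏ i, f i)) _ inferInstance
  haveI : Algebra.FiniteType (Localization.Away (∏ i, f i))
      (Localization.Away (algebraMap A (SGA1.kummerAlg A f n) (∏ i, f i))) := by
    haveI : Algebra.FiniteType (SGA1.kummerAlg A f n)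
        (Localization.Away (algebraMap A (SGA1.kummerAlg A f n) (∏ i, f i))) :=
      IsLocalization.finiteType_of_monoid_fg (Submonoid.powers (algebraMap A (SGA1.kummerAlg A f n) (∏ i, f i))) _
    haveI : Algebra.FiniteType A (SGA1.kummerAlg A f n) := inferInstance
    haveI : Algebra.FiniteType A (Localization.Away (algebraMap A (SGA1.kummerAlg A f n) (∏ i, f i))) :=
      Algebra.FiniteType.trans (R := A) (S := SGA1.kummerAlg A f n) inferInstance inferInstance
    exact Algebra.FiniteType.of_restrictScalars_finiteType A _ _
  refine ⟨Groth.Agent.RGLib.Kummer.formallyEtale_away f n hn (∏ i, f i)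
    (fun i => Finset.dvd_prod_of_mem f (Finset.mem_univ i)) (fun i => ?_) _ _, ?_⟩
  · exact isUnit_of_map_unit (IsLocalRing.residue A) _ (by rw [map_natCast]; exact hu i)
  · exact Algebra.FinitePresentation.of_finiteType.1 inferInstance

end Groth.Agent.S2921
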