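import Groth.Statements.S2924
import Groth.Agent.RGLib.KummerTame

set_option autoImplicit false
universe u
open IsLocalRing
open SGA1

namespace Groth.Agent.S2924

/-- Let A be a regular local ring, f_1, …, f_r part of a regular system of parameters and n_i ≥ 1
invertible in the residue field. Then the Kummer algebra A[T_1, …, T_r]/(T_i^{n_i} − f_i) is tamely
ramified along each f_i (at every point of its generic fibre, with respect to the discrete valuation
rings A_{(f_i)}). -/
theorem result (A : Type u) [CommRing A] [IsRegularLocalRing A] [IsDomain A] (r : ℕ) (f : Fin r → A)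
    (hm : ∀ i, f i ∈ maximalIdeal A)
    (hf : LinearIndependent (ResidueField A) (fun i => (maximalIdeal A).toCotangent ⟨f i, hm i⟩))
    [∀ i, (Ideal.span {f i}).IsPrime] (n : Fin r → ℕ) (hn : ∀ i, 1 ≤ n i) (hu : ∀ i, IsUnit ((n i : ℕ) : ResidueField A)) :
    SGA1.IsTameAlong f (algebraMap A (SGA1.kummerAlg A f n)) := by
  classical
  intro i q _ hq
  let P : Ideal A := Ideal.span {f i}
  let g := SGA1.genericResidueMap (algebraMap A (SGA1.kummerAlg A f n)) P q hq
  have hg : ∀ a : A, g (algebraMap A (Localization.AtPrime P) a) =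
      algebraMap (SGA1.kummerAlg A f n) q.ResidueField (algebraMap A (SGA1.kummerAlg A f n) a) :=
    fun a => IsLocalization.lift_eq _ a
  have hfj : ∀ j, j ≠ i → f j ∉ P := fun j hji hmem => by
    obtain ⟨c, hc⟩ := Ideal.mem_span_singleton.1 hmem
    have h1 := linearIndependent_iff'.1 hf {j, i} (fun k => if k = j then 1 else -IsLocalRing.residue A c) (by
      rw [Finset.sum_pair hji, if_pos rfl, if_neg (Ne.symm hji), one_smul, neg_smul, add_neg_eq_zero]
      show _ = c • (maximalIdeal A).toCotangent ⟨f i, hm i⟩
      rw [← map_smul]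
      exact congrArg _ (Subtype.ext (by show f j = c * f i; rw [hc, mul_comm]))) j (by simp)
    simp at h1
  have hfi : f i ≠ 0 := fun e => hf.ne_zero i (by
    show (maximalIdeal A).toCotangent ⟨f i, hm i⟩ = 0
    rw [show (⟨f i, hm i⟩ : maximalIdeal A) = 0 from Subtype.ext e, map_zero])
  have hmax : maximalIdeal (Localization.AtPrime P) = Ideal.span {algebraMap A (Localization.AtPrime P) (f i)} := by
    rw [← Localization.AtPrime.map_eq_maximalIdeal, Ideal.map_span, Set.image_singleton]
  haveI : IsNoetherianRing (Localization.AtPrime P) :=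
    IsLocalization.isNoetherianRing P.primeCompl _ inferInstance
  refine Groth.Agent.RGLib.KummerTame.tame g (algebraMap A (Localization.AtPrime P) (f i)) hmax ?_ i
    (fun j => algebraMap (SGA1.kummerAlg A f n) q.ResidueField (Groth.Agent.RGLib.Kummer.T f n j))
    (fun j => algebraMap A (Localization.AtPrime P) (f j)) n rfl
    (fun j hj => IsLocalization.map_units (M := P.primeCompl) (Localization.AtPrime P) ⟨f j, hfj j hj⟩) hn
    (fun j => ?_) (fun j => ?_) ?_
  · rw [hg]
    intro e
    rw [← RingHom.mem_ker, Ideal.ker_algebraMap_residueField] at e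
    have h2 : f i ∈ Ideal.comap (algebraMap A (SGA1.kummerAlg A f n)) q := e
    rw [hq, Ideal.mem_bot] at h2
    exact hfi h2
  · have h2 := (isUnit_of_map_unit (IsLocalRing.residue A) _
      (by rw [map_natCast]; exact hu j : IsUnit (IsLocalRing.residue A ((n j : ℕ) : A)))).map
      ((IsLocalRing.residue (Localization.AtPrime P)).comp (algebraMap A (Localization.AtPrime P)))
    rwa [map_natCast] at h2
  · rw [← map_pow, Groth.Agent.RGLib.Kummer.T_pow, hg]
  · intro x
    letI := g.toAlgebra
    have hmem : ∀ b : SGA1.kummerAlg A f n, algebraMap (SGA1.kummerAlg A f n) q.ResidueField b ∈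
        Algebra.adjoin (Localization.AtPrime P) (Set.range fun j =>
          algebraMap (SGA1.kummerAlg A f n) q.ResidueField (Groth.Agent.RGLib.Kummer.T f n j)) := by
      intro b
      have hb : b ∈ Algebra.adjoin A (Set.range (Groth.Agent.RGLib.Kummer.T f n)) := by
        rw [Groth.Agent.RGLib.Kummer.adjoin_T]; trivial
      induction hb using Algebra.adjoin_induction with
      | mem x hx => obtain ⟨j, rfl⟩ := hx; exact Algebra.subset_adjoin ⟨j, rfl⟩
      | algebraMap r => rw [← hg]; exact Subalgebra.algebraMap_mem _ _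
      | add x y _ _ hx hy => rw [map_add]; exact add_mem hx hy
      | mul x y _ _ hx hy => rw [map_mul]; exact mul_mem hx hy
    obtain ⟨a, b, hb, hx⟩ := IsFractionRing.div_surjective (SGA1.kummerAlg A f n ⧸ q) x
    obtain ⟨a', rfl⟩ := Ideal.Quotient.mk_surjective a
    obtain ⟨b', rfl⟩ := Ideal.Quotient.mk_surjective b
    refine ⟨_, hmem a', _, hmem b', fun e => nonZeroDivisors.ne_zero hb ?_, hx.symm⟩
    exact IsFractionRing.injective (SGA1.kummerAlg A f n ⧸ q) q.ResidueField (by rw [map_zero]; exact e)

end Groth.Agent.S2924
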