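import Groth.Statements.S2929
import Groth.Statements.S2929
import Groth.Agent.H1LCFin.Main
import Groth.Agent.LC.FiniteCrit
import Groth.Agent.LC.CohAcyclic
import Groth.Agent.LC.DualLocal

set_option backward.isDefEq.respectTransparency false
set_option linter.style.haveILetI false
open CategoryTheory IsLocalRing
attribute [local instance] HasDerivedCategory.standard

set_option autoImplicit false
universe u
open LocCoh

namespace Groth.Agent.S2929

/-- Let A be a Noetherian ring which is a quotient of a regular ring, I an ideal, M a finite A-module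
and i ≥ 0. For a prime p write c(p) for the codimension of V(p) ∩ V(I) in V(p). Suppose that for
every prime p not containing I with c(p) finite, the local cohomology H^{i−c(p)} of M_p with support
in the maximal ideal of A_p vanishes (no condition when c(p) > i). Then the local cohomology module
H^i_I(M) is a finite A-module. -/
theorem result (R : Type u) [CommRing R] [IsRegularRing R] (A : Type u) [CommRing A] [IsNoetherianRing A] (π : R →+* A) (hπ : Function.Surjective π) (I : Ideal A) (M : Type u) [AddCommGroup M] [Module A M] [Module.Finite A M] (i : ℕ) (h : ∀ p : PrimeSpectrum A, ¬ I ≤ p.asIdeal → ∀ (c j : ℕ), SGA2.relCodim I p = c → j + c = i → Subsingleton (LocCoh.H (IsLocalRing.maximalIdeal (Localization.AtPrime p.asIdeal)) j (LocalizedModule p.asIdeal.primeCompl M))) : Module.Finite A (LocCoh.H I i M) := by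
  rcases Nat.eq_zero_or_pos i with rfl | hi
  · exact Groth.Agent.LC.finite_H0 I M
  letI : Algebra R A := π.toAlgebra
  letI : Module R M := Module.compHom M π
  haveI : IsScalarTower R A M := IsScalarTower.of_algebraMap_smul fun _ _ => rfl
  haveI : Module.Finite R A := Module.Finite.of_surjective (Algebra.linearMap R A) hπ
  haveI : Module.Finite R M := Module.Finite.trans A M
  let J := I.comap π
  have hJI : J.map (algebraMap R A) = I := Ideal.map_comap_of_surjective π hπ I
  suffices hfin : Module.Finite R (LocCoh.H J i M) by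
    obtain ⟨φ, hφ⟩ := Groth.Agent.LC.exists_indep (R := R) (R' := A) J i M
    rw [← hJI]
    obtain ⟨k, v, hv⟩ := Module.Finite.exists_fin (R := R) (M := LocCoh.H J i M)
    refine ⟨Submodule.fg_def.2 ⟨Set.range (fun l => φ.symm (v l)), Set.finite_range _, ?_⟩⟩
    refine eq_top_iff.2 fun z _ => ?_
    obtain ⟨x, rfl⟩ := φ.symm.surjective z
    have hx : x ∈ Submodule.span R (Set.range v) := hv.symm ▸ trivial
    induction hx using Submodule.span_induction with
    | mem y hy =>
      obtain ⟨l, rfl⟩ := hy
      exact Submodule.subset_span ⟨l, rfl⟩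
    | zero => rw [map_zero]; exact zero_mem _
    | add y w _ _ hy hw => rw [map_add]; exact add_mem (hy trivial) (hw trivial)
    | smul c y _ hy =>
      rw [show φ.symm (c • y) = algebraMap R A c • φ.symm y from φ.injective (by rw [φ.apply_symm_apply]; exact ((hφ c _).trans (congrArg (c • ·) (φ.apply_symm_apply y))).symm)]
      exact Submodule.smul_mem _ _ (hy trivial)
  refine Groth.Agent.H1LCFin.finite_H_of_dual_support J M i fun c p q hJp hJq hpq hp n hn hq => ?_
  by_cases hc : c < 0
  · haveI : ((Dual.inD R R)⟦c⟧).IsGE (-c) :=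
      DerivedCategory.TStructure.t.isGE_shift (Dual.inD R R) 0 c (-c) (by omega)
    haveI : Subsingleton (Dual.inD R M ⟶ (Dual.inD R R)⟦c⟧) :=
      ⟨fun f g => (DerivedCategory.TStructure.t.zero f 0 (-c) (by omega)).trans
        (DerivedCategory.TStructure.t.zero g 0 (-c) (by omega)).symm⟩
    exact absurd hp (by rw [Module.notMem_support_iff']; exact fun x => ⟨1, p.asIdeal.primeCompl.one_mem, Subsingleton.elim _ _⟩)
  obtain ⟨m, rfl⟩ := Int.eq_ofNat_of_zero_le (not_lt.1 hc)
  obtain rfl : n = i + m := by omega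
  replace hp : p ∈ Module.support R (Abelian.Ext (ModuleCat.of R M) (ModuleCat.of R R) m) :=
    Module.support_subset_of_injective
      (Abelian.Ext.homLinearEquiv (R := R) (X := ModuleCat.of R M) (Y := ModuleCat.of R R) (n := m)).symm.toLinearMap
      (LinearEquiv.injective _) hp
  -- a maximal prime off `V(J)` between `p` and `q`
  obtain ⟨P, ⟨hpP, hPq, hJP⟩, hmax⟩ := (InvImage.wf PrimeSpectrum.asIdeal (wellFounded_gt (α := Ideal R))).has_min
    {P : PrimeSpectrum R | p ≤ P ∧ P < q ∧ ¬ J ≤ P.asIdeal}
    ⟨p, le_rfl, lt_of_le_of_ne hpq fun e => hJp (e ▸ hJq), hJp⟩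
  obtain ⟨a, haJ, haP⟩ := SetLike.not_le_iff_exists.1 hJP
  have hbig : ¬ 1 < (q.asIdeal.map (Ideal.Quotient.mk P.asIdeal)).height := fun h1 => by
    obtain ⟨t, ht, hPt, htq, hat⟩ := Groth.Agent.LC.exists_prime_between P.asIdeal q.asIdeal hPq h1 (hJq haJ) haP
    exact hmax ⟨t, ht⟩ ⟨hpP.trans hPt.le, htq, fun hle => hat (hle haJ)⟩ hPt
  have hsum := Groth.Agent.LC.height_add_height_quotient_eq P.asIdeal q.asIdeal hPq.le
  obtain ⟨hP', hhP⟩ := ENat.ne_top_iff_exists.1 (Ideal.height_ne_top (I := P.asIdeal) P.isPrime.ne_top)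
  have hlt : P.asIdeal.height < q.asIdeal.height := Ideal.height_strict_mono_of_isPrime hPq
  rw [hq, ← hhP] at hlt hsum
  obtain ⟨e, he⟩ := ENat.ne_top_iff_exists.1 (ne_top_of_le_ne_top (ENat.natCast_ne_top 1) (not_lt.1 hbig))
  rw [← he] at hsum hbig
  have hlt' : hP' < i + m := by exact_mod_cast hlt
  have hsum' : hP' + e = i + m := by exact_mod_cast hsum
  have he1 : e ≤ 1 := by exact_mod_cast (not_lt.1 hbig)
  have hPht : hP' = i + m - 1 := by omega
  -- the corresponding prime of `A`
  have hker : RingHom.ker π ≤ P.asIdeal := fun x hx => by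
    by_contra hxP
    refine Module.notMem_support_iff'.2 (fun y => ⟨x, hxP, ?_⟩) (Module.mem_support_mono hpP hp)
    refine Groth.Agent.LC.smul_ext_eq_zero_of_smul (fun z => ?_) y
    show π x • (z : M) = 0
    rw [RingHom.mem_ker.1 hx, zero_smul]
  haveI : (P.asIdeal.map π).IsPrime := Ideal.map_isPrime_of_surjective hπ hker
  let PA : PrimeSpectrum A := ⟨P.asIdeal.map π, inferInstance⟩
  have hcomap : PA.asIdeal.comap π = P.asIdeal := by
    show (P.asIdeal.map π).comap π = _
    rw [Ideal.comap_map_of_surjective π hπ]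
    exact sup_eq_left.2 hker
  have hkq : RingHom.ker π ≤ q.asIdeal := hker.trans hPq.le
  haveI : (q.asIdeal.map π).IsPrime := Ideal.map_isPrime_of_surjective hπ hkq
  let qA : PrimeSpectrum A := ⟨q.asIdeal.map π, inferInstance⟩
  have hcomapq : qA.asIdeal.comap π = q.asIdeal := by
    show (q.asIdeal.map π).comap π = _
    rw [Ideal.comap_map_of_surjective π hπ]
    exact sup_eq_left.2 hkq
  have hIP : ¬ I ≤ PA.asIdeal := fun hle => hJP (le_trans (Ideal.comap_mono hle) hcomap.le)
  have hIq : I ≤ qA.asIdeal := hJI.symm.le.trans (Ideal.map_mono hJq)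
  have hinj : Function.Injective (Ideal.comap π) := Ideal.comap_injective_of_surjective π hπ
  have hcov : PA ⋖ qA := by
    have hlt0 : PA < qA := lt_of_le_of_ne (Ideal.map_mono hPq.le) fun e' => hPq.ne
      (PrimeSpectrum.ext (hcomap.symm.trans ((congrArg (fun w : PrimeSpectrum A => w.asIdeal.comap π) e').trans hcomapq)))
    refine ⟨hlt0, fun t hPt htq => ?_⟩
    haveI : (t.asIdeal.comap π).IsPrime := Ideal.IsPrime.comap π
    have h1 : P.asIdeal < t.asIdeal.comap π :=
      lt_of_le_of_ne (hcomap.symm.le.trans (Ideal.comap_mono hPt.le)) fun e' =>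
        hPt.ne (PrimeSpectrum.ext (hinj (hcomap.trans e')))
    have h2 : t.asIdeal.comap π < q.asIdeal :=
      lt_of_le_of_ne ((Ideal.comap_mono htq.le).trans hcomapq.le) fun e' =>
        htq.ne (PrimeSpectrum.ext (hinj (e'.trans hcomapq.symm)))
    have h3 := Ideal.height_strict_mono_of_isPrime h1
    have h4 := Ideal.height_strict_mono_of_isPrime h2
    rw [← hhP] at h3
    rw [hq] at h4
    obtain ⟨ht', hht⟩ := ENat.ne_top_iff_exists.1 (ne_top_of_lt h4)
    rw [← hht] at h3 h4
    have h3' : hP' < ht' := by exact_mod_cast h3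
    have h4' : ht' < i + m := by exact_mod_cast h4
    omega
  have hsub := h PA hIP 1 (i - 1) ((Groth.Agent.LC.covBy_iff_relCodim I PA hIP).1 ⟨qA, hIq, hcov⟩) (by omega)
  rw [← Groth.Agent.LC.subsingleton_H_localized_comap (S := R) (M := M) hπ PA.asIdeal (i - 1)] at hsub
  have key : ∀ (Q : Ideal R) [Q.IsPrime], Q = P.asIdeal →
      Subsingleton (LocCoh.H (maximalIdeal (Localization.AtPrime Q)) (i - 1) (LocalizedModule Q.primeCompl M)) → False := by
    intro Q _ hQ hs
    subst hQ
    let B := Localization.AtPrime P.asIdeal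
    haveI := Groth.Agent.LC.gorenstein_of_isRegularLocalRing (R := B)
    haveI : Module.Finite B (LocalizedModule P.asIdeal.primeCompl M) :=
      Module.Finite.of_isLocalizedModule P.asIdeal.primeCompl (LocalizedModule.mkLinearMap P.asIdeal.primeCompl M)
    have hd : ringKrullDim B = ((i - 1 + m : ℕ) : WithBot ℕ∞) := by
      rw [IsLocalization.AtPrime.ringKrullDim_eq_height P.asIdeal B, ← hhP]
      exact congrArg (fun x : ℕ => ((x : ℕ∞) : WithBot ℕ∞)) (by omega : hP' = i - 1 + m)
    obtain ⟨E, _, _, fE, hE⟩ := Groth.Agent.LC.exists_injectiveHull B (ResidueField B)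
    obtain ⟨χ⟩ := Groth.Agent.LC.exists_localDuality_gorenstein (R := B) (i - 1 + m) hd E hE
      (LocalizedModule P.asIdeal.primeCompl M) m (i - 1) rfl
    haveI := hs
    haveI := (Groth.Agent.LC.subsingleton_iff_dual hE _).1 χ.symm.toEquiv.subsingleton
    obtain ⟨ψ⟩ := Groth.Agent.LC.exists_extLoc_ring P.asIdeal.primeCompl M m
    refine (Module.notMem_support_iff.2 ?_) (Module.mem_support_mono hpP hp)
    exact ψ.toEquiv.subsingleton
  exact key _ hcomap hsub

end Groth.Agent.S2929
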