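import Groth.Statements.S2932
import Groth.Agent.S3353
import Groth.Agent.S2824
import Groth.Agent.S2823
import Groth.Agent.S0564
import Groth.Agent.ParaExt.Local

set_option autoImplicit false
set_option backward.isDefEq.respectTransparency false
set_option backward.isDefEq.respectTransparency.types false
set_option maxHeartbeats 1000000
set_option linter.style.haveILetI false
universe u
open ParaF

namespace Groth.Agent.S2932
open Groth.Agent AlgebraicGeometry

/-- Let A be a Noetherian local ring which is a complete intersection (a quotient of a regular local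
ring by a regular sequence) and which is factorial in codimension ≤ 3: for every prime p with dim
A_p ≤ 3 the local ring A_p is a factorial domain. Then A is a factorial domain. -/
theorem result (A : Type u) [CommRing A] [IsLocalRing A] [IsNoetherianRing A] (hA : SGA2.IsAbsCompleteIntersection A) (h : ∀ p : PrimeSpectrum A, ringKrullDim (Localization.AtPrime p.asIdeal) ≤ 3 → IsDomain (Localization.AtPrime p.asIdeal) ∧ UniqueFactorizationMonoid (Localization.AtPrime p.asIdeal)) : IsDomain A ∧ UniqueFactorizationMonoid A := by
  suffices key : ∀ (n : ℕ) (A : Type u) [CommRing A] [IsLocalRing A] [IsNoetherianRing A],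
      SGA2.IsAbsCompleteIntersection A → ringKrullDim A < (n : WithBot ℕ∞) →
      (∀ p : PrimeSpectrum A, ringKrullDim (Localization.AtPrime p.asIdeal) ≤ 3 →
        IsDomain (Localization.AtPrime p.asIdeal) ∧ UniqueFactorizationMonoid (Localization.AtPrime p.asIdeal)) →
      IsDomain A ∧ UniqueFactorizationMonoid A by
    obtain ⟨d, hd⟩ := ENat.ne_top_iff_exists.1 (Ideal.height_ne_top_of_isPrime (I := IsLocalRing.maximalIdeal A))
    refine key (d + 1) A hA ?_ h
    rw [← IsLocalRing.maximalIdeal_height_eq_ringKrullDim, ← hd]
    exact WithBot.coe_lt_coe.2 (by exact_mod_cast Nat.lt_succ_self d)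
  intro n
  induction n with
  | zero => exact fun A _ _ _ _ hd _ => absurd hd (not_lt.2 ringKrullDim_nonneg_of_nontrivial)
  | succ n ih =>
    intro A _ _ _ hA hd h
    by_cases h3 : ringKrullDim A ≤ 3
    · let m : PrimeSpectrum A := IsLocalRing.closedPoint A
      let e : A ≃+* Localization.AtPrime m.asIdeal :=
        (IsLocalization.atUnits A m.asIdeal.primeCompl (fun x hx => show IsUnit x by
          simpa [m, IsLocalRing.closedPoint] using hx)).toRingEquiv
      obtain ⟨h1, h2⟩ := h m (le_of_eq_of_le (ringKrullDim_eq_of_ringEquiv e).symm h3)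
      exact ⟨e.toMulEquiv.isDomain, e.symm.toMulEquiv.uniqueFactorizationMonoid h2⟩
    have h4 : (4 : WithBot ℕ∞) ≤ ringKrullDim A := by
      revert h3
      generalize ringKrullDim A = w
      intro h3
      rcases w with _ | _ | a
      · exact absurd bot_le h3
      · exact WithBot.coe_le_coe.2 le_top
      · change ¬ ((a : ℕ∞) : WithBot ℕ∞) ≤ _ at h3
        have ha : 4 ≤ a := by
          by_contra hh
          exact h3 (WithBot.coe_le_coe.2 (by exact_mod_cast (show a ≤ 3 by omega)))
        exact WithBot.coe_le_coe.2 (show (4 : ℕ∞) ≤ (a : ℕ∞) by exact_mod_cast ha)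
    have hpara := S3353.result A hA h4
    obtain ⟨hb, hpic⟩ := (S2824.result A).1 hpara
    refine (S2823.result A (le_trans (by norm_num) h4)).2
      ⟨hpic, (ParaExt.bijective_punctured_iff A).1 hb, fun y hy => ?_⟩
    let p : Ideal A := (show PrimeSpectrum A from y).asIdeal
    letI : Algebra A ((Spec (CommRingCat.of A)).presheaf.stalk y) := StructureSheaf.stalkAlgebra A y
    haveI : IsLocalization.AtPrime ((Spec (CommRingCat.of A)).presheaf.stalk y) p :=
      StructureSheaf.IsLocalization.to_stalk A y
    let Ap := Localization.AtPrime p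
    obtain ⟨hAd, hAu⟩ : IsDomain Ap ∧ UniqueFactorizationMonoid Ap := by
      refine ih Ap ?_ ?_ fun r hr => ?_
      · obtain ⟨B, _, _, rs, hmem, hreg, ⟨e⟩⟩ := hA
        let π : B →+* A := e.symm.toRingHom.comp (Ideal.Quotient.mk _)
        have hπ : Function.Surjective π := e.symm.surjective.comp Ideal.Quotient.mk_surjective
        have hker : RingHom.ker π = Ideal.span {r | r ∈ rs} := by
          ext z
          simp [π, RingHom.mem_ker, Ideal.Quotient.eq_zero_iff_mem]
        let P : Ideal B := p.comap π
        haveI : P.IsPrime := Ideal.IsPrime.comap π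
        haveI := S0564.result B P
        have hsub : ∀ r ∈ rs, r ∈ P := fun r hr => by
          show π r ∈ p
          rw [show π r = 0 from hker.ge (Ideal.subset_span hr)]
          exact zero_mem _
        have hT : Submonoid.map π P.primeCompl = p.primeCompl := by
          ext a
          refine ⟨?_, fun ha => ?_⟩
          · rintro ⟨b, hb, rfl⟩; exact hb
          · obtain ⟨b, rfl⟩ := hπ a
            exact ⟨b, ha, rfl⟩
        let φ : Localization.AtPrime P →+* Ap :=
          IsLocalization.map Ap π (hT.symm ▸ P.primeCompl.le_comap_map)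
        have hφ : Function.Surjective φ := by
          intro z
          obtain ⟨a, t, rfl⟩ := IsLocalization.exists_mk'_eq p.primeCompl z
          obtain ⟨b, rfl⟩ := hπ a
          obtain ⟨s, hs⟩ := hπ t
          exact ⟨IsLocalization.mk' _ b (⟨s, show π s ∉ p from hs ▸ t.2⟩ : P.primeCompl), by
            simp [φ, IsLocalization.map_mk', hs]⟩
        refine ⟨Localization.AtPrime P, inferInstance, inferInstance, rs.map (algebraMap B _), ?_,
          hreg.toIsWeaklyRegular.isRegular_of_isLocalization_of_mem _ P hsub, ⟨?_⟩⟩
        · intro r hr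
          obtain ⟨b, hb, rfl⟩ := List.mem_map.1 hr
          exact (IsLocalization.AtPrime.to_map_mem_maximal_iff _ P b).2 (hsub b hb)
        · refine (RingHom.quotientKerEquivOfSurjective hφ).symm.trans (Ideal.quotEquivOfEq ?_)
          rw [IsLocalization.ker_map (g := π) Ap hT, hker, Ideal.map_span]
          congr 1
          ext z
          simp [List.mem_map]
      · rw [IsLocalization.AtPrime.ringKrullDim_eq_height p Ap]
        rw [← IsLocalRing.maximalIdeal_height_eq_ringKrullDim] at hd
        have hp : p ≠ IsLocalRing.maximalIdeal A := fun hp => hy (PrimeSpectrum.ext hp)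
        have hlt : p.height < (IsLocalRing.maximalIdeal A).height :=
          Ideal.height_strict_mono_of_isPrime_of_isPrime
            (lt_of_le_of_ne (IsLocalRing.le_maximalIdeal (Ideal.IsPrime.ne_top inferInstance)) hp)
        have hd' : (IsLocalRing.maximalIdeal A).height < ((n + 1 : ℕ) : ℕ∞) := WithBot.coe_lt_coe.1 hd
        obtain ⟨a, ha⟩ := ENat.ne_top_iff_exists.1
          (Ideal.height_ne_top_of_isPrime (I := IsLocalRing.maximalIdeal A))
        obtain ⟨c, hc⟩ := ENat.ne_top_iff_exists.1 (Ideal.height_ne_top_of_isPrime (I := p))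
        rw [← ha] at hlt hd'
        rw [← hc] at hlt ⊢
        norm_cast at hlt hd'
        exact WithBot.coe_lt_coe.2 (by exact_mod_cast (show c < n by omega))
      · let q : PrimeSpectrum A := ⟨r.asIdeal.comap (algebraMap A Ap), Ideal.IsPrime.comap _⟩
        haveI := IsLocalization.isLocalization_isLocalization_atPrime_isLocalization p.primeCompl
          (Localization.AtPrime r.asIdeal) r.asIdeal
        let e : Localization.AtPrime q.asIdeal ≃+* Localization.AtPrime r.asIdeal :=
          (IsLocalization.algEquiv q.asIdeal.primeCompl _ _).toRingEquiv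
        obtain ⟨h1, h2⟩ := h q (le_of_eq_of_le (ringKrullDim_eq_of_ringEquiv e) hr)
        exact ⟨e.symm.toMulEquiv.isDomain, e.toMulEquiv.uniqueFactorizationMonoid h2⟩
    let e := (IsLocalization.algEquiv p.primeCompl Ap ((Spec (CommRingCat.of A)).presheaf.stalk y)).toRingEquiv
    exact ⟨e.symm.toMulEquiv.isDomain, e.toMulEquiv.uniqueFactorizationMonoid hAu⟩

end Groth.Agent.S2932
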