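import Groth.Statements.S2933
import Groth.Agent.S4721

set_option autoImplicit false
universe u
open LocCoh

namespace Groth.Agent.S2933

/-- Let A be a Noetherian ring with connected spectrum and d ≥ 1 an integer such that every prime p with
dim A_p ≥ d has depth A_p ≥ 2. Then for any two minimal primes p', p'' of A there is a finite
sequence of minimal primes starting at p' and ending at p'' such that any two consecutive members
are both contained in some prime of height at most d − 1 (Spec A is connected in codimension d − 1). -/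
theorem result (A : Type u) [CommRing A] [IsNoetherianRing A] [ConnectedSpace (PrimeSpectrum A)] (d : ℕ) (hd : 1 ≤ d) (h : ∀ p : PrimeSpectrum A, (d : ℕ∞) ≤ p.asIdeal.height → (2 : ℕ∞) ≤ LocCoh.depth (Localization.AtPrime p.asIdeal) (Localization.AtPrime p.asIdeal)) (p' p'' : PrimeSpectrum A) (hp' : p'.asIdeal ∈ minimalPrimes A) (hp'' : p''.asIdeal ∈ minimalPrimes A) : ∃ l : List (PrimeSpectrum A), l.head? = some p' ∧ l.getLast? = some p'' ∧ (∀ p ∈ l, p.asIdeal ∈ minimalPrimes A) ∧ List.IsChain (fun p q => ∃ r : PrimeSpectrum A, p ≤ r ∧ q ≤ r ∧ r.asIdeal.height ≤ (d - 1 : ℕ)) l := by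
  by_cases hne : p'.asIdeal = p''.asIdeal
  · obtain rfl := PrimeSpectrum.ext hne
    exact ⟨[p'], rfl, rfl, fun p hp => by rw [List.mem_singleton] at hp; rw [hp]; exact hp',
      List.isChain_singleton _⟩
  obtain ⟨n, c, h0, hl, hmin, hc⟩ := Groth.Agent.S4721.result A d
    (fun p _ hh => h ⟨p, inferInstance⟩ hh) _ _ hp' hp'' hne
  let c' : Fin (n + 1) → PrimeSpectrum A := fun i => ⟨c i, Ideal.minimalPrimes_isPrime (hmin i)⟩
  refine ⟨List.ofFn c', ?_, ?_, ?_, ?_⟩
  · rw [List.head?_eq_getElem?, List.getElem?_ofFn]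
    simp only [Nat.zero_lt_succ, ↓reduceDIte]
    exact congrArg some (PrimeSpectrum.ext h0)
  · rw [List.getLast?_eq_getElem?, List.getElem?_ofFn]
    simp only [List.length_ofFn, Nat.add_sub_cancel, Nat.lt_succ_self, ↓reduceDIte]
    exact congrArg some (PrimeSpectrum.ext hl)
  · intro p hp
    rw [List.mem_ofFn'] at hp
    obtain ⟨i, rfl⟩ := hp
    exact hmin i
  · rw [List.isChain_iff_getElem]
    intro i hi
    rw [List.length_ofFn] at hi
    obtain ⟨q, hq, h1, h2, h3⟩ := hc ⟨i, by omega⟩
    refine ⟨⟨q, hq⟩, ?_, ?_, ?_⟩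
    · rw [List.getElem_ofFn]; exact h1
    · rw [List.getElem_ofFn]; exact h2
    · show q.height ≤ ((d - 1 : ℕ) : ℕ∞)
      rw [ENat.coe_sub, Nat.cast_one]
      exact ENat.le_sub_of_add_le_right (by simp) h3

end Groth.Agent.S2933
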