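import Groth.Statements.S2937
import Groth.Agent.PurDesc.Global
import Groth.Agent.S0005
import Groth.Agent.Pi1Ext.EtalePure

set_option linter.style.haveILetI false
set_option backward.isDefEq.respectTransparency false
set_option backward.isDefEq.respectTransparency.types false

set_option autoImplicit false
universe u
open CategoryTheory AlgebraicGeometry
open Pi1

namespace Groth.Agent.S2937

/-- The range of the inclusion of an intersection. -/
theorem range_homOfLE_inf {X : Scheme.{u}} (O U : X.Opens) :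
    Set.range (X.homOfLE (inf_le_left : O ⊓ U ≤ O)) = O.ι ⁻¹' (U : Set X) := by
  ext v
  constructor
  · rintro ⟨x, rfl⟩
    have e : O.ι (X.homOfLE (inf_le_left : O ⊓ U ≤ O) x) = (O ⊓ U).ι x := by
      rw [← Scheme.Hom.comp_apply, Scheme.homOfLE_ι]
    show O.ι _ ∈ U
    rw [e]
    exact x.2.2
  · intro hv
    refine ⟨⟨O.ι v, v.2, hv⟩, O.ι.isOpenEmbedding.injective ?_⟩
    rw [← Scheme.Hom.comp_apply, Scheme.homOfLE_ι]
    rfl

open Limits TopologicalSpace in
/-- An open containing all points of depth zero is dense. -/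
theorem dense_of_depth {X : Scheme.{u}} [IsLocallyNoetherian X] (U : X.Opens)
    (hU : ∀ x : X, x ∉ U → (2 : ℕ∞) ≤ LocCoh.depth (X.presheaf.stalk x) (X.presheaf.stalk x)) :
    Dense (U : Set X) :=
  Groth.Agent.S0005.dense_of_dim U fun x hx =>
    Groth.Agent.Pi1Ext.dim_ge_of_depth_ge (hU x hx)

/-- Let X be a locally Noetherian scheme and U an open subscheme such that O_X → i_*O_U is an
isomorphism, equivalently, every local ring of X at a point outside U has depth ≥ 2. Let f : X_1 → X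
be faithfully flat and quasi-compact. If the pair (X_1, X_1 − f⁻¹U) is pure (restriction of finite
étale covers from every open V to V ∩ f⁻¹U is an equivalence), then so is (X, X − U). -/
theorem result (X X₁ : Scheme.{u}) [IsLocallyNoetherian X] (U : X.Opens) (hU : ∀ x : X, x ∉ U → (2 : ℕ∞) ≤ LocCoh.depth (X.presheaf.stalk x) (X.presheaf.stalk x)) (f : X₁ ⟶ X) [Flat f] [Surjective f] [QuasiCompact f] (h : SGA2.IsPurePair X₁ (f ⁻¹ᵁ U)) : SGA2.IsPurePair X U := by
  intro V
  let f' := f ∣_ V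
  haveI : Surjective f' := IsZariskiLocalAtTarget.restrict ‹Surjective f› V
  haveI : Flat f' := IsZariskiLocalAtTarget.restrict ‹Flat f› V
  haveI : QuasiCompact f' := IsZariskiLocalAtTarget.restrict ‹QuasiCompact f› V
  let U' : V.toScheme.Opens := V.ι ⁻¹ᵁ U
  have hU' : ∀ x : V.toScheme, x ∉ U' → (2 : ℕ∞) ≤ LocCoh.depth (V.toScheme.presheaf.stalk x)
      (V.toScheme.presheaf.stalk x) :=
    fun x hx => (hU (V.ι x) hx).trans (Groth.Agent.Pi1X.depth_stalk_le V.ι x)
  have hj : Set.range (X.homOfLE (inf_le_left : V ⊓ U ≤ V)) = U' := range_homOfLE_inf V U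
  have hC : ∀ C : Set V.toScheme, IsClopen C → C.Nonempty →
      (C ∩ Set.range (X.homOfLE (inf_le_left : V ⊓ U ≤ V))).Nonempty := fun C hC hne => by
    rw [hj]
    exact (dense_of_depth U' hU').inter_open_nonempty C hC.2 hne
  haveI : (FEt.restrict (X.homOfLE (inf_le_left : V ⊓ U ≤ V))).Faithful :=
    Groth.Agent.Pi1X.restrict_faithful _ hC
  haveI : (FEt.restrict (X.homOfLE (inf_le_left : V ⊓ U ≤ V))).Full := by
    refine Groth.Agent.Pi1X.restrict_full _ hC fun W C hWC => ?_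
    haveI : Etale W.hom := W.prop.2
    let g : W.left ⟶ V.toScheme := W.hom
    haveI : Etale g := W.prop.2
    haveI : IsLocallyNoetherian W.left := LocallyOfFiniteType.isLocallyNoetherian g
    refine Groth.Agent.Pi1X.exists_isClopen_preimage _
      (Groth.Agent.Pi1X.appTop_bijective_of_depth _ fun w hw => ?_) C hWC
    rw [Scheme.Pullback.range_fst] at hw
    have hw' : g w ∉ U' := fun hmem => hw (show g w ∈ Set.range _ from hj ▸ hmem)
    exact (hU' (g w) hw').trans (Groth.Agent.Pi1X.depth_stalk_le g w)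
  haveI : (FEt.restrict (X.homOfLE (inf_le_left : V ⊓ U ≤ V))).EssSurj := by
    refine Groth.Agent.PurDesc.essSurj_descend U' f' hU' (fun O => ?_) _ hj
    have hO : (FEt.restrict (X₁.homOfLE
        (inf_le_left : (f ⁻¹ᵁ V).ι ''ᵁ O ⊓ f ⁻¹ᵁ U ≤ (f ⁻¹ᵁ V).ι ''ᵁ O))).EssSurj := by
      haveI := h ((f ⁻¹ᵁ V).ι ''ᵁ O)
      infer_instance
    refine Groth.Agent.PurDesc.essSurj_transport _ hO ((f ⁻¹ᵁ V).ι.isoImage O) _ ?_
    rw [range_homOfLE_inf, Scheme.Hom.comp_base, TopCat.coe_comp, Set.range_comp, range_homOfLE_inf]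
    ext y
    obtain ⟨z, rfl⟩ := ((f ⁻¹ᵁ V).ι.isoImage O).hom.homeomorph.surjective y
    change _ ↔ (((f ⁻¹ᵁ V).ι ''ᵁ O).ι (((f ⁻¹ᵁ V).ι.isoImage O).hom z)) ∈ f ⁻¹ᵁ U
    have e : ((f ⁻¹ᵁ V).ι ''ᵁ O).ι (((f ⁻¹ᵁ V).ι.isoImage O).hom z) = (f ⁻¹ᵁ V).ι (O.ι z) := by
      rw [← Scheme.Hom.comp_apply, Scheme.Hom.isoImage_hom_ι, Scheme.Hom.comp_apply]
    have e' : V.ι (f' (O.ι z)) = f ((f ⁻¹ᵁ V).ι (O.ι z)) := by
      rw [← Scheme.Hom.comp_apply, morphismRestrict_ι, Scheme.Hom.comp_apply]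
    rw [e]
    constructor
    · rintro ⟨z', hz', hzz⟩
      obtain rfl : z' = z := ((f ⁻¹ᵁ V).ι.isoImage O).hom.homeomorph.injective hzz
      show f _ ∈ U
      rw [← e']
      exact hz'
    · intro hz
      refine ⟨z, ?_, rfl⟩
      show V.ι (f' (O.ι z)) ∈ U
      rw [e']
      exact hz
  exact { }

end Groth.Agent.S2937
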