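import Groth.Statements.S2942
import Groth.Agent.DepthTwist.General
import Groth.Agent.DepthTwist.IdealPow
import Groth.Agent.QCoh.HHExact

set_option autoImplicit false
universe u
open CategoryTheory AlgebraicGeometry
open Lef

namespace Groth.Agent.S2942

open Groth.Agent Groth.Agent.H23.PicMul

/-- Over a field and for the structure sheaf. Let k be a field and X a proper k-scheme; let 𝓘 be a
quasi-coherent ideal sheaf whose ideal module is invertible with an ample inverse L (so 𝓘 defines an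
effective Cartier divisor Y with O_X(Y) = L ample), and suppose that at every closed point x the
local ring O_{X,x} has depth greater than n. Then there is m₀ such that for all m ≥ m₀ the map
H^i(X, O_X) → H^i(X, O_X/𝓘^{m+1}) induced by the quotient map is bijective for every i < n and
injective for i = n. -/
theorem result (k : Type u) [Field k] (X : Scheme.{u}) [X.Over (Spec (CommRingCat.of k))] [IsProper (X ↘ (Spec (CommRingCat.of k)))] (𝓘 : X.IdealSheafData) (L : X.Modules) (hL : ClSub.IsInverseOf L (ClSub.idealMod 𝓘)) (hamp : CohB1.IsAmple L) (n : ℕ) (hdepth : ∀ x : X, IsClosed ({x} : Set X) → (n : ℕ∞) < LocCoh.depth (X.presheaf.stalk x) (X.presheaf.stalk x)) : ∃ m₀ : ℕ, ∀ m : ℕ, m₀ ≤ m → (∀ i : ℕ, i < n → Function.Bijective (Sheaf.H.map ((SheafOfModules.toSheaf X.ringCatSheaf).map (ClSub.toSubscheme (𝓘 ^ (m + 1)))) i)) ∧ Function.Injective (Sheaf.H.map ((SheafOfModules.toSheaf X.ringCatSheaf).map (ClSub.toSubscheme (𝓘 ^ (m + 1)))) n) := by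
  haveI : IsLocallyNoetherian X := LocallyOfFiniteType.isLocallyNoetherian (X ↘ Spec (CommRingCat.of k))
  obtain ⟨D, hD, ⟨eD⟩⟩ := H23.PicInv.exists_inverse hamp.1
  have hLD : PicF.cl L * PicF.cl D = 1 := by
    rw [← cl_tensor, H23.PicMul.one_def]; exact cl_eq_iff.2 ⟨eD⟩
  have hLI : PicF.cl L * PicF.cl (ClSub.idealMod 𝓘) = 1 := by
    rw [← cl_tensor, H23.PicMul.one_def]; exact cl_eq_iff.2 hL
  have hI : PicF.IsInvertible (ClSub.idealMod 𝓘) := by
    obtain ⟨e⟩ : Nonempty (D ≅ ClSub.idealMod 𝓘) :=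
      cl_eq_iff.1 (left_inv_eq_right_inv (by rw [mul_comm]; exact hLD) hLI)
    exact H23.PicMul.isInvertible_of_iso e hD
  obtain ⟨m₀, hm₀⟩ := DepthTwist.exists_vanishing_le k hamp hL (Coh.structureModule X)
    (CurveDeg.isCoh_of_isInvertible H23.InvStalk.isInvertible_structureModule) n fun x hx => by
      obtain ⟨e⟩ := AssLib.nonempty_stalkUnitEquiv x
      have h1 : ((n + 1 : ℕ) : ℕ∞) ≤ LocCoh.depth (X.presheaf.stalk x) (X.presheaf.stalk x) := by
        rw [Nat.cast_succ]; exact Order.add_one_le_of_lt (hdepth x hx)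
      exact h1.trans (Alg6.depth_eq_of_semilinear (RingHom.id (X.presheaf.stalk x))
        (fun a => ⟨a, rfl⟩) e.toAddEquiv (fun r v => map_smul e r v)).le
  refine ⟨m₀, fun m hm => ?_⟩
  have hvan : ∀ i, i ≤ n → Subsingleton (Coh.HH X (ClSub.idealMod (𝓘 ^ (m + 1))) i) := fun i hi => by
    obtain ⟨-, hcl⟩ := DepthTwist.cl_idealMod_pow 𝓘 hI m
    obtain ⟨u⟩ : Nonempty (CohB1.tensorMod (Coh.structureModule X) (CohB1.tensorPow (ClSub.idealMod 𝓘) (m + 1)) ≅
        ClSub.idealMod (𝓘 ^ (m + 1))) := cl_eq_iff.1 (by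
      rw [cl_tensor, ← H23.PicMul.one_def, one_mul, cl_tensorPow, hcl])
    exact QCoh.subsingleton_HH_of_iso u i (hm₀ (m + 1) (by omega) i hi)
  have hS := QCoh.toAb_shortExact (IntSym.shortExact_toSubscheme (𝓘 ^ (m + 1)))
  have hinj : ∀ i, i ≤ n → Function.Injective
      (Sheaf.H.map ((SheafOfModules.toSheaf X.ringCatSheaf).map (ClSub.toSubscheme (𝓘 ^ (m + 1)))) i) :=
    fun i hi => (injective_iff_map_eq_zero _).mpr fun x hx => by
      obtain ⟨z, hz⟩ := Abelian.Ext.covariant_sequence_exact₂ _ hS x hx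
      rw [← hz, (hvan i hi).elim z 0]
      exact Abelian.Ext.zero_comp _ _ _ _ _
  refine ⟨fun i hi => ⟨hinj i hi.le, fun y => ?_⟩, hinj n le_rfl⟩
  obtain ⟨x, hx⟩ := Abelian.Ext.covariant_sequence_exact₃ _ hS y rfl ((hvan (i + 1) hi).elim _ _)
  exact ⟨x, hx⟩

end Groth.Agent.S2942
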