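import Groth.Statements.S2944
import Groth.Agent.LefLib.Formal
import Groth.Agent.LefLib.Restrict
import Groth.Agent.S18372

set_option autoImplicit false
universe u
open CategoryTheory CategoryTheory.Limits AlgebraicGeometry
open Lef

namespace Groth.Agent.S2944

open Groth.Agent Groth.Agent.H23.PicMul

/-- Case 'resp.', over S = Spec k: Let k be a field, X a proper k-scheme and 𝓘 a quasi-coherent ideal
sheaf whose ideal module is invertible with an ample inverse L (𝓘 defines an effective Cartier
divisor Y with O_X(Y) ample). If O_{X,x} has depth ≥ 2 at every closed point x, then Lef(X, Y)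
holds: for every open U ⊇ Y and every finite locally free O_U-module D, the map Hom(D, O_U) → lim_n
Hom(D, O_U/𝓘^{n+1}) is bijective (equivalently Γ(U, E) ≅ Γ(X̂, Ê) for every finite locally free E on
U). -/
theorem result (k : Type u) [Field k] (X : Scheme.{u}) [X.Over (Spec (CommRingCat.of k))] [IsProper (X ↘ (Spec (CommRingCat.of k)))] (𝓘 : X.IdealSheafData) (L : X.Modules) (hL : ClSub.IsInverseOf L (ClSub.idealMod 𝓘)) (hamp : CohB1.IsAmple L) (hdepth : ∀ x : X, IsClosed ({x} : Set X) → (2 : ℕ∞) ≤ LocCoh.depth (X.presheaf.stalk x) (X.presheaf.stalk x)) : Lef.LefCond X 𝓘 := by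
  haveI : IsLocallyNoetherian X := LocallyOfFiniteType.isLocallyNoetherian (X ↘ Spec (CommRingCat.of k))
  haveI := CurveCohLib.isNoetherian_of_proper (k := k) (X := X)
  obtain ⟨L', hL', ⟨eL⟩⟩ := H23.PicInv.exists_inverse hamp.1
  have hLI : PicF.cl L * PicF.cl (ClSub.idealMod 𝓘) = 1 := by
    rw [← cl_tensor, H23.PicMul.one_def]; exact cl_eq_iff.2 hL
  have hLL' : PicF.cl L * PicF.cl L' = 1 := by
    rw [← cl_tensor, H23.PicMul.one_def]; exact cl_eq_iff.2 ⟨eL⟩
  have hI : PicF.IsInvertible (ClSub.idealMod 𝓘) := by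
    obtain ⟨e⟩ : Nonempty (L' ≅ ClSub.idealMod 𝓘) :=
      cl_eq_iff.1 (left_inv_eq_right_inv (by rw [mul_comm]; exact hLL') hLI)
    exact H23.PicMul.isInvertible_of_iso e hL'
  let ι' := (DCoh.tensorBi.obj L).map (ClSub.idealModι 𝓘) ≫ (KFlatLib.tensorUnitIso L).hom
  obtain ⟨e⟩ := hL
  let s : Coh.structureModule X ⟶ L := e.inv ≫ ι'
  have hcompl : ∀ y : X, y ∉ 𝓘.support → y ∈ CohB1.genLocus L s := fun y hy => by
    obtain ⟨ε⟩ := H23.InvStalk.exists_stalk_equiv hamp.1 y
    refine (DepthTwist.surjective_stalk_iff hamp.1 s y).1 ?_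
    have hS := (IntSym.shortExact_toSubscheme 𝓘).map_of_exact (DerSch.stalkFunctor X y)
    have hsurj : Function.Surjective ((DerSch.stalkFunctor X y).map (ClSub.idealModι 𝓘)) := fun v => by
      haveI : Subsingleton ((DerSch.stalkFunctor X y).obj (ClSub.quotMod 𝓘)) :=
        ParShLib.subsingleton_stalk_quotMod 𝓘 hy
      exact (ShortComplex.moduleCat_exact_iff _).1 hS.exact v
        (Subsingleton.elim (α := ((DerSch.stalkFunctor X y).obj (ClSub.quotMod 𝓘) : Type u)) _ _)
    have ha := ConcreteCategory.bijective_of_isIso ((DerSch.stalkFunctor X y).map e.inv)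
    have hb := ConcreteCategory.bijective_of_isIso ((DerSch.stalkFunctor X y).map (KFlatLib.tensorUnitIso L).hom)
    show Function.Surjective ((DerSch.stalkFunctor X y).map
      (e.inv ≫ (DCoh.tensorBi.obj L).map (ClSub.idealModι 𝓘) ≫ (KFlatLib.tensorUnitIso L).hom))
    rw [Functor.map_comp, Functor.map_comp]
    exact (hb.2.comp ((H23.InvStalk.stalk_tensor_map_surjective_iff _ y ε).2 hsurj)).comp ha.2
  have hO : ∀ U : X.Opens, (𝓘.support : Set X) ⊆ U →
      ∀ y : X, y ∉ U → (2 : ℕ∞) ≤ LocCoh.depth (X.presheaf.stalk y) (X.presheaf.stalk y) := fun U hU y hy => by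
    haveI : JacobsonSpace X := LocallyOfFiniteType.jacobsonSpace (X ↘ Spec (CommRingCat.of k))
    refine hdepth y ?_
    have hfin := S18372.finite_of_closed_affine (X ↘ Spec (CommRingCat.of k))
      (AmpleEmbed.isAffineOpen_genLocus (X ↘ Spec (CommRingCat.of k)) hamp s)
      (isClosed_closure (s := ({y} : Set X))) (fun z hz => hcompl z fun hzI =>
        (U.isOpen.isClosed_compl.closure_subset_iff.2 (Set.singleton_subset_iff.2 hy)) hz (hU hzI))
    by_contra hne
    have hsub : closure ({y} : Set X) ⊆ closedPoints X := fun z hz => by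
      haveI : Finite (closure ({y} : Set X)) := hfin.to_subtype
      haveI : JacobsonSpace (closure ({y} : Set X)) := .of_isClosedEmbedding isClosed_closure.isClosedEmbedding_subtypeVal
      haveI : DiscreteTopology (closure ({y} : Set X)) := inferInstance
      refine mem_closedPoints_iff.2 ?_
      have := (isClosed_discrete ({⟨z, hz⟩} : Set (closure ({y} : Set X))))
      simpa using isClosed_closure.isClosedEmbedding_subtypeVal.isClosedMap _ this
    exact hne (mem_closedPoints_iff.1 (hsub (subset_closure rfl)))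
  intro U hU D hD
  exact LefLib.homToFormal_restrict 𝓘 U hU (hO U hU)
    (fun G hG => LefLib.homToFormal_coh k hI ⟨e⟩ hamp hdepth hG) D (CurveDeg.isCoh_of_isFinLocFree hD)

end Groth.Agent.S2944
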