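import Groth.Statements.S2945
import Groth.Agent.LefPunct2.Lef
import Groth.Agent.LefLib.Restrict
import Groth.Agent.PunctAlg.PicSurjPara
import Groth.Agent.S2930
import Groth.Agent.RegLoc6.Serre
import Groth.Agent.Alg6.LocLoc

set_option autoImplicit false
universe u
open CategoryTheory CategoryTheory.Limits AlgebraicGeometry
open Lef

namespace Groth.Agent.S2945

open Groth.Agent

theorem depth_localized_self {A : Type u} [CommRing A] (p : Ideal A) [p.IsPrime] :
    LocCoh.depth (Localization.AtPrime p) (LocalizedModule p.primeCompl A) =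
      LocCoh.depth (Localization.AtPrime p) (Localization.AtPrime p) := by
  let e : Localization.AtPrime p ≃ₗ[Localization.AtPrime p] LocalizedModule p.primeCompl A := LinearEquiv.refl _ _
  exact (Alg6.depth_eq_of_semilinear (RingHom.id (Localization.AtPrime p)) (fun r => ⟨r, rfl⟩) e.toAddEquiv
    fun r v => map_smul e r v).symm

/-- The stalk of the punctured spectrum at a point is a localization. -/
theorem depth_stalk {A : Type u} [CommRing A] (U : (Spec (CommRingCat.of A)).Opens) (y : U.toScheme) :
    LocCoh.depth (Localization.AtPrime (U.ι y).asIdeal) (Localization.AtPrime (U.ι y).asIdeal) ≤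
      LocCoh.depth (U.toScheme.presheaf.stalk y) (U.toScheme.presheaf.stalk y) := by
  let x : Spec (CommRingCat.of A) := U.ι y
  let e : Localization.AtPrime x.asIdeal ≃+* U.toScheme.presheaf.stalk y :=
    (StructureSheaf.stalkIso A x).toRingEquiv.trans (U.stalkIso y).symm.commRingCatIsoToRingEquiv
  exact (Alg6.depth_eq_of_semilinear e.toRingHom e.surjective e.toAddEquiv fun r v => map_mul e r v).le

/-- Let A be a Noetherian local ring which is a quotient of a regular local ring, t an A-regular element
of the maximal ideal such that A is complete for the t-adic topology, X the punctured spectrum of A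
and Y = V(t) ∩ X. If A_p has depth ≥ 2 for every prime p with dim A/p = 1 (the closed points of X),
then Lef(X, Y) holds: for every open U ⊇ Y of X and every finite locally free O_U-module D, Hom(D,
O_U) → lim_n Hom(D, O_U/t^{n+1}O_U) is bijective. -/
theorem result (R : Type u) [CommRing R] [IsRegularLocalRing R] (A : Type u) [CommRing A] [IsLocalRing A] [IsNoetherianRing A] (π : R →+* A) (hπ : Function.Surjective π) (t : A) (ht : t ∈ IsLocalRing.maximalIdeal A) (hreg : IsSMulRegular A t) [IsAdicComplete (Ideal.span {t}) A] (hdepth : ∀ p : PrimeSpectrum A, ringKrullDim (A ⧸ p.asIdeal) = 1 → (2 : ℕ∞) ≤ LocCoh.depth (Localization.AtPrime p.asIdeal) (Localization.AtPrime p.asIdeal)) : Lef.LefCond (↑(FEt.puncturedSpec A) : Scheme.{u}) ((Spec.map (CommRingCat.ofHom (Ideal.Quotient.mk (Ideal.span {t})))).ker.comap (FEt.puncturedSpec A).ι) := by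
  haveI : IsRegularRing R := RegLoc6.isRegularRing_of_isRegularLocalRing R
  have hfin := (S2930.result R A π hπ (IsLocalRing.maximalIdeal A) A 2).2 fun p q hp hq hpq => by
    have hqm : q.asIdeal = IsLocalRing.maximalIdeal A :=
      ((IsLocalRing.maximalIdeal.isMaximal A).eq_of_le q.isPrime.ne_top hq).symm
    have hne : p.asIdeal ≠ IsLocalRing.maximalIdeal A := fun h => hp h.ge
    have hdim : ringKrullDim (A ⧸ p.asIdeal) = 1 := by
      have h1 : ∀ r : PrimeSpectrum A, p < r → r = q := fun r hr => by
        have hrq : r ≤ q := show r.asIdeal ≤ q.asIdeal from hqm ▸ IsLocalRing.le_maximalIdeal r.isPrime.ne_top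
        exact (lt_or_eq_of_le hrq).resolve_left fun h => hpq.2 hr h
      haveI := p.isPrime
      obtain ⟨s, hs, hsp⟩ := SetLike.not_le_iff_exists.1 hp
      refine PunctAlg.ringKrullDim_quot_eq_one s hs p.asIdeal hsp fun q' hq' hle hsq' => ?_
      by_contra hne'
      have h2 := h1 ⟨q', hq'⟩ (lt_of_le_of_ne hle fun h => hne' (congrArg PrimeSpectrum.asIdeal h).symm)
      have h3 : q' = IsLocalRing.maximalIdeal A := (congrArg PrimeSpectrum.asIdeal h2).trans hqm
      exact hsq' (by rw [h3]; exact hs)
    exact (hdepth p hdim).trans_eq (depth_localized_self p.asIdeal).symm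
  have h1 := hfin 1 one_le_two
  have h2 := hfin 2 le_rfl
  let P := FEt.puncturedSpec A
  let 𝓘 : P.toScheme.IdealSheafData := (Spec.map (CommRingCat.ofHom (Ideal.Quotient.mk (Ideal.span {t})))).ker.comap P.ι
  haveI : IsNoetherianRing (CommRingCat.of A) := inferInstanceAs (IsNoetherianRing A)
  haveI : IsNoetherian (Spec (CommRingCat.of A)) := inferInstance
  haveI : CompactSpace P.toScheme :=
    isCompact_iff_compactSpace.1 (TopologicalSpace.NoetherianSpace.isCompact (P : Set (Spec (CommRingCat.of A))))
  haveI : IsNoetherian P.toScheme := ⟨⟩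
  have hcoh : ∀ G : P.toScheme.Modules, Coh.IsCoh G → Lef.HomToFormalBijective 𝓘 G := by
    have hc : ∀ Q : (Spec (CommRingCat.of A)).Opens, Q = LocCoh.puncturedOpen A (IsLocalRing.maximalIdeal A) →
        ∀ G : Q.toScheme.Modules, Coh.IsCoh G →
          Lef.HomToFormalBijective (PunctAlg.idOn Q (Ideal.span {t})) G := by
      rintro Q rfl G hG
      exact LefPunct2.homToFormal_coh _ t ht hreg h1 h2 hG
    exact hc P (PunctAlg.puncturedSpec_eq_pU A)
  intro U hU D hD
  refine LefLib.homToFormal_restrict 𝓘 U hU (fun y hy => ?_) hcoh D (CurveDeg.isCoh_of_isFinLocFree hD)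
  refine le_trans ?_ (depth_stalk P y)
  refine hdepth _ ?_
  have hy2 := y.2
  have hne : (P.ι y).asIdeal ≠ IsLocalRing.maximalIdeal A := fun h => hy2 (PrimeSpectrum.ext h)
  have hmin : ∀ r : Ideal A, r.IsPrime → (P.ι y).asIdeal ≤ r → t ∈ r → r = IsLocalRing.maximalIdeal A := by
    intro r hr hle htr
    by_contra hrm
    let x : P.toScheme := ⟨⟨r, hr⟩, fun h => hrm (congrArg PrimeSpectrum.asIdeal (Set.mem_singleton_iff.1 h))⟩
    have hxs : x ∈ (𝓘.support : Set P.toScheme) := by
      rw [Scheme.IdealSheafData.support_comap]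
      show P.ι x ∈ ((Spec.map (CommRingCat.ofHom (Ideal.Quotient.mk (Ideal.span {t})))).ker.support :
        Set (Spec (CommRingCat.of A)))
      rw [Scheme.Hom.support_ker]
      refine subset_closure ?_
      haveI : (r.map (Ideal.Quotient.mk (Ideal.span {t}))).IsPrime :=
        Ideal.map_isPrime_of_surjective Ideal.Quotient.mk_surjective
          (by rw [Ideal.mk_ker, Ideal.span_singleton_le_iff_mem]; exact htr)
      refine ⟨(⟨r.map (Ideal.Quotient.mk (Ideal.span {t})), inferInstance⟩ : PrimeSpectrum (A ⧸ Ideal.span {t})),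
        PrimeSpectrum.ext ?_⟩
      show (r.map (Ideal.Quotient.mk (Ideal.span {t}))).comap (Ideal.Quotient.mk (Ideal.span {t})) = r
      rw [Ideal.comap_map_of_surjective _ Ideal.Quotient.mk_surjective, ← RingHom.ker_eq_comap_bot, Ideal.mk_ker,
        sup_eq_left.2 ((Ideal.span_singleton_le_iff_mem _).2 htr)]
    have hspec : y ⤳ x := P.ι.isOpenEmbedding.isInducing.specializes_iff.1
      ((PrimeSpectrum.le_iff_specializes (P.ι y) (P.ι x)).1 hle)
    exact hy (hspec.mem_open U.isOpen (hU hxs))
  haveI := (P.ι y).isPrime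
  have htq : t ∉ (P.ι y).asIdeal := fun h => hne (hmin _ (P.ι y).isPrime le_rfl h)
  refine PunctAlg.ringKrullDim_quot_eq_one t ht _ htq fun q' hq' hle htq' => ?_
  haveI := hq'
  exact (PunctAlg.eq_of_le_of_forall t ht _ q' hle (fun h => htq' (h ▸ ht)) hmin).symm
end Groth.Agent.S2945
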