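import Groth.Statements.S2946
import Groth.Agent.LefLib.Connected

set_option autoImplicit false
universe u
open CategoryTheory CategoryTheory.Limits AlgebraicGeometry
open Lef

namespace Groth.Agent.S2946

open Groth.Agent

/-- Let X be a locally Noetherian scheme and 𝓘 a quasi-coherent ideal sheaf with Y = V(𝓘), and suppose
Lef(X, Y) holds (this prelude's Lef.LefCond). Then for every open U of X containing Y, Y is
connected if and only if U is connected. -/
theorem result (X : Scheme.{u}) [IsLocallyNoetherian X] (𝓘 : X.IdealSheafData) (h : Lef.LefCond X 𝓘) (U : X.Opens) (hU : (𝓘.support : Set X) ⊆ (U : Set X)) : ConnectedSpace (𝓘.support : Set X) ↔ ConnectedSpace U := by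
  let 𝓙 := 𝓘.comap U.ι
  have hB : Lef.HomToFormalBijective 𝓙 (Coh.structureModule U.toScheme) :=
    h U hU _ LefLib.isFinLocFree_structureModule
  have hs : (U.ι '' (𝓙.support : Set U.toScheme)) = (𝓘.support : Set X) := by
    rw [Scheme.IdealSheafData.support_comap]
    show U.ι '' (U.ι ⁻¹' (𝓘.support : Set X)) = _
    rw [Set.image_preimage_eq_inter_range, Scheme.Opens.range_ι, Set.inter_eq_left.2 hU]
  have hconn : _root_.IsConnected (𝓙.support : Set U.toScheme) ↔ ConnectedSpace (𝓘.support : Set X) := by
    rw [← isConnected_iff_connectedSpace, ← hs]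
    refine ⟨fun hc => hc.image _ U.ι.continuous.continuousOn, fun hc => ⟨Set.image_nonempty.1 hc.nonempty, ?_⟩⟩
    exact U.ι.isOpenEmbedding.isInducing.isPreconnected_image.1 hc.isPreconnected
  rw [← hconn]
  exact ⟨fun hc => LefLib.connectedSpace_of_support hB hc, fun hc => by
    haveI : ConnectedSpace U.toScheme := hc
    exact LefLib.isConnected_support hB⟩

end Groth.Agent.S2946
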