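import Groth.Statements.S2948
import Groth.Agent.LefLib.PicThick

set_option autoImplicit false
universe u
open CategoryTheory CategoryTheory.Limits AlgebraicGeometry
open Lef

namespace Groth.Agent.S2948

open Groth.Agent Groth.Agent.H23.PicMul AlgebraicGeometry CategoryTheory CategoryTheory.Limits

/-- Let X be a locally Noetherian scheme, 𝓘 a quasi-coherent ideal sheaf with Y = V(𝓘), and p ≥ 0;
suppose Lef(X, Y) holds and H^1(X, 𝓘^{n+1}/𝓘^{n+2}) = 0 for every n ≥ p (these are the groups H^1(Y,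
P_n) of the source, P_n being supported on Y). Then for every open U ⊇ Y and every n ≥ p, if two
invertible O_U-modules have isomorphic pullbacks to the closed subscheme Y_n ∩ U = V(𝓘^{n+1}) ∩ U,
they are isomorphic. -/
theorem result (X : Scheme.{u}) [IsLocallyNoetherian X] (𝓘 : X.IdealSheafData) (h : Lef.LefCond X 𝓘) (p : ℕ) (hH1 : ∀ n : ℕ, p ≤ n → Subsingleton (Coh.HH X (kernel (Lef.quotMap (Lef.pow_succ_le 𝓘 n))) 1)) (U : X.Opens) (hU : (𝓘.support : Set X) ⊆ (U : Set X)) (n : ℕ) (hn : p ≤ n) (L L' : (U : Scheme.{u}).Modules) (hL : PicF.IsInvertible L) (hL' : PicF.IsInvertible L') (e : Nonempty ((Scheme.Modules.pullback (((𝓘.comap U.ι) ^ (n + 1)).subschemeι)).obj L ≅ (Scheme.Modules.pullback (((𝓘.comap U.ι) ^ (n + 1)).subschemeι)).obj L')) : Nonempty (L ≅ L') := by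
  let J := 𝓘.comap U.ι
  obtain ⟨D', hD', ⟨eD⟩⟩ := H23.PicInv.exists_inverse hL'
  obtain ⟨D, hD, ⟨eD₀⟩⟩ := H23.PicInv.exists_inverse hL
  have hLD : PicF.cl L * PicF.cl D = 1 := by rw [← cl_tensor, H23.PicMul.one_def]; exact cl_eq_iff.2 ⟨eD₀⟩
  have hLD' : PicF.cl L' * PicF.cl D' = 1 := by rw [← cl_tensor, H23.PicMul.one_def]; exact cl_eq_iff.2 ⟨eD⟩
  let M := CohB1.tensorMod L D'
  let M' := CohB1.tensorMod L' D
  have hM : PicF.IsInvertible M := InvX.isInvertible_tensorMod hL hD'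
  have hM' : PicF.IsInvertible M' := InvX.isInvertible_tensorMod hL' hD
  have hinv : PicF.cl M * PicF.cl M' = 1 := by
    rw [cl_tensor, cl_tensor, mul_comm (PicF.cl L') (PicF.cl D), mul_mul_mul_comm,
      mul_comm (PicF.cl D') (PicF.cl L'), hLD, hLD', one_mul]
  let ι := (J ^ (n + 1)).subschemeι
  have hp : PicF.pullCl ι (PicF.cl M) = 1 := by
    rw [cl_tensor, pullCl_mul, show PicF.pullCl ι (PicF.cl L) = PicF.pullCl ι (PicF.cl L') from cl_eq_iff.2 e,
      ← pullCl_mul, hLD', pullCl_one]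
  have htriv : PicF.cl (ClSub.quotMod (J ^ (n + 1))) * PicF.cl M = PicF.cl (ClSub.quotMod (J ^ (n + 1))) := by
    obtain ⟨t⟩ : Nonempty ((Scheme.Modules.pullback ι).obj M ≅ Coh.structureModule _) := cl_eq_iff.1 (by
      rw [← H23.PicMul.one_def]; exact hp)
    obtain ⟨u⟩ : Nonempty (CohB1.tensorMod (Coh.structureModule (J ^ (n + 1)).subscheme)
        ((Scheme.Modules.pullback ι).obj M) ≅ Coh.structureModule _) := cl_eq_iff.1 (by
      rw [cl_tensor, ← H23.PicMul.one_def, one_mul, cl_eq_iff.2 ⟨t⟩, ← H23.PicMul.one_def])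
    have hi := KFlatLib.isIso_projMod_of_isClosedImmersion ι (Coh.structureModule (J ^ (n + 1)).subscheme) M
    rw [← cl_tensor]
    exact cl_eq_iff.2 ⟨@asIso _ _ _ _ (KFlatLib.projMod ι (Coh.structureModule (J ^ (n + 1)).subscheme) M) hi ≪≫
      (Scheme.Modules.pushforward ι).mapIso u⟩
  have hH : ∀ m, n ≤ m → Subsingleton (Coh.HH U.toScheme
      (kernel (Lef.quotMap (I := J ^ (m + 1 + 1)) (J := J ^ (m + 1)) (Lef.pow_succ_le J m))) 1) := fun m hm => by
    let R := Scheme.Modules.restrictFunctor U.ι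
    choose κ hκ using fun k : ℕ => LefLib.exists_restrict_iso U.ι (𝓘 ^ (k + 1)) (J ^ (k + 1))
      (FComplLib.comap_pow U.ι 𝓘 (k + 1))
    let q := Lef.quotMap (I := 𝓘 ^ (m + 1 + 1)) (J := 𝓘 ^ (m + 1)) (Lef.pow_succ_le 𝓘 m)
    have hκq : R.map q ≫ (κ m).hom =
        (κ (m + 1)).hom ≫ Lef.quotMap (I := J ^ (m + 1 + 1)) (J := J ^ (m + 1)) (Lef.pow_succ_le J m) := by
      haveI := CurvePoint.epi_toSubscheme (𝓘 ^ (m + 1 + 1))
      rw [← cancel_epi (R.map (ClSub.toSubscheme (𝓘 ^ (m + 1 + 1)))), ← Category.assoc, ← Functor.map_comp,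
        LefLib.toSubscheme_quotMap, hκ m, ← Category.assoc, hκ (m + 1), Category.assoc, LefLib.toSubscheme_quotMap]
    haveI : PreservesLimit (parallelPair q 0) R := inferInstance
    let u : R.obj (kernel q) ≅ kernel (Lef.quotMap (I := J ^ (m + 1 + 1)) (J := J ^ (m + 1)) (Lef.pow_succ_le J m)) :=
      PreservesKernel.iso R q ≪≫ kernel.mapIso _ _ (κ (m + 1)) (κ m) hκq
    refine QCoh.subsingleton_HH_of_iso u 1 (LefLib.subsingleton_HH_one_restrict U (kernel q) _
      𝓘.support.isClosed (fun z hz => ?_) hU (hH1 m (by omega)))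
    haveI : Subsingleton ((DerSch.stalkFunctor X z).obj (ClSub.quotMod (𝓘 ^ (m + 1 + 1)))) :=
      LefLib.subsingleton_stalk (𝓙 := 𝓘) (m + 1) (x := z) hz
    exact ((ModuleCat.mono_iff_injective ((DerSch.stalkFunctor X z).map (kernel.ι q))).1 inferInstance).subsingleton
  obtain ⟨w⟩ := LefLib.trivial_of_thick J (fun D hD => h U hU D hD) hM hM' hinv n hH htriv
  exact cl_eq_iff.1 (by
    have h1 : PicF.cl L * PicF.cl D' = 1 := by
      rw [← cl_tensor, H23.PicMul.one_def]; exact cl_eq_iff.2 ⟨w⟩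
    exact left_inv_eq_right_inv h1 (by rw [mul_comm]; exact hLD'))

end Groth.Agent.S2948
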