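import Groth.Statements.S2949
import Groth.Agent.FormalAlg.Algebraize
import Groth.Agent.FormalAlg.Extension
import Groth.Agent.LefLib.Formal
import Groth.Agent.LefLib.PicThick
import Groth.Agent.S2944

set_option autoImplicit false
universe u
open CategoryTheory CategoryTheory.Limits AlgebraicGeometry
open Lef

namespace Groth.Agent.S2949

open Groth.Agent Groth.Agent.H23.PicMul AlgebraicGeometry CategoryTheory CategoryTheory.Limits TopologicalSpace

/-- Case 'resp.' with the parafactoriality hypothesis. Let k be a field, X a proper k-scheme, 𝓘 a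
quasi-coherent ideal sheaf whose ideal module 𝓘O_X is invertible with ample inverse L (so X₀ = V(𝓘)
is an effective Cartier divisor with O_X(X₀) = L ample and X is projective), and let ι : X₀ → X be
the closed immersion. Assume: every closed point of X has depth O_{X,x} ≥ 2; H^i(X, (𝓘O_X)^{⊗m} ⊗
O_X/𝓘) = 0 for all m ≥ 1 and i = 1, 2 (these are the groups H^i(X₀, O_{X₀}(−m))); and for every
closed point x ∉ X₀ every invertible module on the punctured spectrum of O_{X,x} is trivial (O_{X,x}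
parafactorial). Then pullback along ι induces a bijection on isomorphism classes of invertible
modules: invertible M, M' on X with ι^*M ≅ ι^*M' are isomorphic, and every invertible O_{X₀}-module
is isomorphic to ι^*M for some invertible M on X. -/
theorem result (k : Type u) [Field k] (X : Scheme.{u}) [X.Over (Spec (CommRingCat.of k))] [IsProper (X ↘ (Spec (CommRingCat.of k)))] (𝓘 : X.IdealSheafData) (L : X.Modules) (hL : ClSub.IsInverseOf L (ClSub.idealMod 𝓘)) (hamp : CohB1.IsAmple L) (hdepth : ∀ x : X, IsClosed ({x} : Set X) → (2 : ℕ∞) ≤ LocCoh.depth (X.presheaf.stalk x) (X.presheaf.stalk x)) (hH : ∀ m : ℕ, 1 ≤ m → ∀ i : ℕ, (i = 1 ∨ i = 2) → Subsingleton (Coh.HH X ((DCoh.tensorBi.obj (CohB1.tensorPow (ClSub.idealMod 𝓘) m)).obj (ClSub.quotMod 𝓘)) i)) (hpf : ∀ x : X, IsClosed ({x} : Set X) → x ∉ (𝓘.support : Set X) → ∀ N : (↑(FEt.puncturedSpec (X.presheaf.stalk x)) : Scheme.{u}).Modules, PicF.IsInvertible N → Nonempty (N ≅ Coh.structureModule _)) : (∀ M M' :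 X.Modules, PicF.IsInvertible M → PicF.IsInvertible M' → Nonempty ((Scheme.Modules.pullback 𝓘.subschemeι).obj M ≅ (Scheme.Modules.pullback 𝓘.subschemeι).obj M') → Nonempty (M ≅ M')) ∧ ∀ N : (𝓘.subscheme).Modules, PicF.IsInvertible N → ∃ M : X.Modules, PicF.IsInvertible M ∧ Nonempty ((Scheme.Modules.pullback 𝓘.subschemeι).obj M ≅ N) := by
  haveI : IsLocallyNoetherian X := LocallyOfFiniteType.isLocallyNoetherian (X ↘ Spec (CommRingCat.of k))
  haveI := CurveCohLib.isNoetherian_of_proper (k := k) (X := X)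
  haveI : JacobsonSpace X := LocallyOfFiniteType.jacobsonSpace (X ↘ Spec (CommRingCat.of k))
  obtain ⟨L', hL', ⟨eL⟩⟩ := H23.PicInv.exists_inverse hamp.1
  have hLI : PicF.cl L * PicF.cl (ClSub.idealMod 𝓘) = 1 := by
    rw [← cl_tensor, H23.PicMul.one_def]; exact cl_eq_iff.2 hL
  have hLL' : PicF.cl L * PicF.cl L' = 1 := by
    rw [← cl_tensor, H23.PicMul.one_def]; exact cl_eq_iff.2 ⟨eL⟩
  have hI : PicF.IsInvertible (ClSub.idealMod 𝓘) := by
    obtain ⟨e⟩ : Nonempty (L' ≅ ClSub.idealMod 𝓘) :=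
      cl_eq_iff.1 (left_inv_eq_right_inv (by rw [mul_comm]; exact hLL') hLI)
    exact H23.PicMul.isInvertible_of_iso e hL'
  have hlef : ∀ G : X.Modules, Coh.IsCoh G → Lef.HomToFormalBijective 𝓘 G := fun G hG =>
    LefLib.homToFormal_coh k hI hL hamp hdepth hG
  let a := PicF.cl (ClSub.idealMod 𝓘)
  have hclq : ∀ m, PicF.cl ((DCoh.tensorBi.obj (CohB1.tensorPow (ClSub.idealMod 𝓘) m)).obj (ClSub.quotMod 𝓘)) =
      PicF.cl (ClSub.quotMod 𝓘) * a ^ m := fun m => by
    rw [show PicF.cl ((DCoh.tensorBi.obj (CohB1.tensorPow (ClSub.idealMod 𝓘) m)).obj (ClSub.quotMod 𝓘)) =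
      PicF.cl (CohB1.tensorPow (ClSub.idealMod 𝓘) m) * PicF.cl (ClSub.quotMod 𝓘) from cl_tensor _ _,
      cl_tensorPow, mul_comm]
  have hvan : ∀ m, 1 ≤ m → ∀ i, (i = 1 ∨ i = 2) → FormalAlg.Van i (PicF.cl (ClSub.quotMod 𝓘) * a ^ m) :=
    fun m hm i hi => FormalAlg.van_of i _ (hH m hm i hi) (hclq m)
  have hker : ∀ i, (i = 1 ∨ i = 2) → ∀ m : ℕ, Subsingleton (Coh.HH X
      (kernel (Lef.quotMap (I := 𝓘 ^ (m + 1 + 1)) (J := 𝓘 ^ (m + 1)) (Lef.pow_succ_le 𝓘 m))) i) := fun i hi m =>
    hvan (m + 1) (by omega) i hi _ (FormalAlg.cl_kernel_quotMap 𝓘 hI m)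
  refine ⟨fun M M' hM hM' hpull => ?_, ?_⟩
  · -- injectivity
    obtain ⟨D', hD', ⟨eD⟩⟩ := H23.PicInv.exists_inverse hM'
    obtain ⟨D, hD, ⟨eD₀⟩⟩ := H23.PicInv.exists_inverse hM
    have hLD : PicF.cl M * PicF.cl D = 1 := by rw [← cl_tensor, H23.PicMul.one_def]; exact cl_eq_iff.2 ⟨eD₀⟩
    have hLD' : PicF.cl M' * PicF.cl D' = 1 := by rw [← cl_tensor, H23.PicMul.one_def]; exact cl_eq_iff.2 ⟨eD⟩
    let P := CohB1.tensorMod M D'
    let P' := CohB1.tensorMod M' D
    have hP : PicF.IsInvertible P := InvX.isInvertible_tensorMod hM hD'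
    have hinv : PicF.cl P * PicF.cl P' = 1 := by
      rw [cl_tensor, cl_tensor, mul_comm (PicF.cl M') (PicF.cl D), mul_mul_mul_comm,
        mul_comm (PicF.cl D') (PicF.cl M'), hLD, hLD', one_mul]
    let ι := 𝓘.subschemeι
    have hp : PicF.pullCl ι (PicF.cl P) = 1 := by
      rw [cl_tensor, pullCl_mul, show PicF.pullCl ι (PicF.cl M) = PicF.pullCl ι (PicF.cl M') from cl_eq_iff.2 hpull,
        ← pullCl_mul, hLD', pullCl_one]
    have htriv : PicF.cl (ClSub.quotMod 𝓘) * PicF.cl P = PicF.cl (ClSub.quotMod 𝓘) := by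
      obtain ⟨u⟩ : Nonempty (CohB1.tensorMod (Coh.structureModule 𝓘.subscheme)
          ((Scheme.Modules.pullback ι).obj P) ≅ Coh.structureModule _) := cl_eq_iff.1 (by
        rw [cl_tensor, ← H23.PicMul.one_def, one_mul]
        exact hp)
      have hi := KFlatLib.isIso_projMod_of_isClosedImmersion ι (Coh.structureModule 𝓘.subscheme) P
      rw [← cl_tensor]
      exact cl_eq_iff.2 ⟨@asIso _ _ _ _ (KFlatLib.projMod ι (Coh.structureModule 𝓘.subscheme) P) hi ≪≫
        (Scheme.Modules.pushforward ι).mapIso u⟩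
    obtain ⟨w⟩ := LefLib.trivial_of_thick 𝓘 (fun E hE => hlef E (CurveDeg.isCoh_of_isFinLocFree hE)) hP
      (InvX.isInvertible_tensorMod hM' hD) hinv 0 (fun m _ => hker 1 (Or.inl rfl) m)
      (by rw [zero_add, pow_one]; exact htriv)
    exact cl_eq_iff.1 (by
      have h1 : PicF.cl M * PicF.cl D' = 1 := by
        rw [← cl_tensor, H23.PicMul.one_def]; exact cl_eq_iff.2 ⟨w⟩
      exact left_inv_eq_right_inv h1 (by rw [mul_comm]; exact hLD'))
  -- surjectivity
  have key : ∀ K : X.IdealSheafData, K = 𝓘 ^ (0 + 1) → ∀ N : K.subscheme.Modules, PicF.IsInvertible N →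
      ∃ M : X.Modules, PicF.IsInvertible M ∧ Nonempty ((Scheme.Modules.pullback K.subschemeι).obj M ≅ N) := by
    rintro _ rfl N hN
    let Y := (𝓘 ^ (0 + 1)).subscheme
    let ι := (𝓘 ^ (0 + 1)).subschemeι
    obtain ⟨𝔐, h𝔐, hN0⟩ := LefLib.exists_system 𝓘 0 (fun m _ => hker 2 (Or.inr rfl) m) 0 le_rfl N hN
    haveI : IsLocallyNoetherian Y := LocallyOfFiniteType.isLocallyNoetherian ι
    haveI : CompactSpace Y := ι.isClosedEmbedding.compactSpace
    have hq0 : ∀ i, PicF.cl (ClSub.quotMod 𝓘) * a ^ i =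
        PicF.cl ((Scheme.Modules.pushforward ι).obj (Coh.structureModule Y)) * PicF.cl (CohB1.tensorPow (ClSub.idealMod 𝓘) i) := fun i => by
      rw [cl_tensorPow]
      refine congrArg (· * _) ?_
      show _ = PicF.cl (ClSub.quotMod (𝓘 ^ (0 + 1)))
      rw [zero_add, pow_one]
    let M₀ := (Scheme.Modules.pullback ι).obj (ClSub.idealMod 𝓘)
    have hM₀ : PicF.IsInvertible M₀ := PicClLib.isInvertible_pullback ι hI
    have hclP : ∀ j, PicF.pullCl ι (PicF.cl (CohB1.tensorPow (ClSub.idealMod 𝓘) j)) = PicF.cl M₀ ^ j := fun j => by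
      rw [cl_tensorPow, pullCl_pow]; rfl
    -- degree zero vanishing from the depth of `X`
    obtain ⟨m₀, hm₀⟩ := DepthTwist.exists_vanishing_le k hamp hL (Coh.structureModule X)
      (CurveDeg.isCoh_of_isInvertible InvX.isInvertible_structureModule) 1 fun x hx => by
        obtain ⟨ε⟩ := H23.InvStalk.exists_stalk_equiv (InvX.isInvertible_structureModule (X := X)) x
        exact (hdepth x hx).trans (Alg6.depth_eq_of_semilinear (RingHom.id (X.presheaf.stalk x))
          (fun a => ⟨a, rfl⟩) ε.toAddEquiv (fun r v => map_smul ε r v)).ge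
    have hX : ∀ i, i ≤ 1 → ∀ m, m₀ ≤ m → FormalAlg.Van i (a ^ m) := fun i hi m hm =>
      FormalAlg.van_of i _ (hm₀ m hm i hi) (by rw [cl_tensor, cl_tensorPow, ← H23.PicMul.one_def, one_mul])
    have h0 : ∀ m, m₀ ≤ m → FormalAlg.Van 0 (PicF.cl (ClSub.quotMod 𝓘) * a ^ m) := fun m hm => by
      let T := AmpleVan.tw (CohB1.tensorPow (ClSub.idealMod 𝓘) m)
      haveI := AmpleVan.isEquivalence_tw (InvX.isInvertible_tensorPow hI m)
      have hS := (IntSym.shortExact_toSubscheme 𝓘).map_of_exact T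
      refine FormalAlg.van_of 0 (T.obj (ClSub.quotMod 𝓘)) ?_ (by rw [FormalAlg.cl_tw, cl_tensorPow])
      have h₂ : Subsingleton (Coh.HH X (T.obj (Coh.structureModule X)) 0) :=
        hX 0 (by omega) m hm _ (by rw [FormalAlg.cl_tw, cl_tensorPow, ← H23.PicMul.one_def, one_mul])
      have h₁ : Subsingleton (Coh.HH X (T.obj (ClSub.idealMod 𝓘)) 1) :=
        hX 1 le_rfl (m + 1) (by omega) _ (by rw [FormalAlg.cl_tw, cl_tensorPow, pow_succ, mul_comm])
      refine ⟨fun z z' => ?_⟩
      obtain ⟨y, rfl⟩ := (QCoh.Ab.connecting_eq_zero_iff (X := X.toPresheafedSpace.carrier)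
        (QCoh.toAb_shortExact hS) 0 z).1 (h₁.elim _ _)
      obtain ⟨y', rfl⟩ := (QCoh.Ab.connecting_eq_zero_iff (X := X.toPresheafedSpace.carrier)
        (QCoh.toAb_shortExact hS) 0 z').1 (h₁.elim _ _)
      rw [show y = y' from h₂.elim y y']
    have hY : ∀ i, i ≤ 1 → ∃ j₀, ∀ j, j₀ ≤ j → FormalAlg.Van i (PicF.cl M₀ ^ j) := fun i hi =>
      ⟨m₀ + 1, fun j hj => by
        have h := FormalAlg.van_push ι (N := Coh.structureModule Y)
          (ProjUPX.isQCoh_of_isInvertible InvX.isInvertible_structureModule) (InvX.isInvertible_tensorPow hI j) i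
        rw [← H23.PicMul.one_def, one_mul, hclP] at h
        refine h.1 ?_
        rw [← hq0 j]
        interval_cases i
        · exact h0 j (by omega)
        · exact hvan j (by omega) 1 (Or.inl rfl)⟩
    have hampY : CohB1.IsAmple ((Scheme.Modules.pullback ι).obj L) :=
      AmpleVan.isAmple_pullback_of_isEmbedding ι ι.isClosedEmbedding.isEmbedding hamp
    have hLM : PicF.cl ((Scheme.Modules.pullback ι).obj L) * PicF.cl M₀ = 1 := by
      show PicF.pullCl ι (PicF.cl L) * PicF.pullCl ι (PicF.cl (ClSub.idealMod 𝓘)) = 1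
      rw [← pullCl_mul, hLI, pullCl_one]
    have hG : ∀ i, i ≤ 1 → ∃ j₀, ∀ j, j₀ ≤ j → FormalAlg.Van i
        (PicF.cl ((Scheme.Modules.pushforward ι).obj (show Y.Modules from 𝔐.F 0)) * PicF.cl (ClSub.idealMod 𝓘) ^ j) :=
      fun i hi => by
        obtain ⟨j₀, hj₀⟩ := FormalAlg.van_invertible hampY hM₀ hLM hY i hi (show Y.Modules from 𝔐.F 0) (h𝔐 0)
        refine ⟨j₀, fun j hj => ?_⟩
        rw [← cl_tensorPow]
        refine (FormalAlg.van_push ι (ProjUPX.isQCoh_of_isInvertible (h𝔐 0)) (InvX.isInvertible_tensorPow hI j) i).2 ?_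
        rw [hclP]
        exact hj₀ j hj
    have hflf : ∀ n, FlatMod.IsFinLocFree (𝔐.F n) := fun n => H23.PullPush.isFinLocFree_of_isInvertible (h𝔐 n)
    obtain ⟨M, q, hM, hq, hs, hk⟩ := (FormalAlg.ofModSys hI 𝔐 hflf).exists_algebraization k hI hamp hLI hlef
      ⟨1, fun j hj => hvan j hj 1 (Or.inl rfl)⟩ (hG 0 (by omega)) (hG 1 le_rfl)
    obtain ⟨iso⟩ := FormalAlg.nonempty_iso_of_quotient hI 𝔐 hflf hM.1 q hq hs hk
    obtain ⟨U, hU, hMU⟩ := FormalAlg.exists_open_invertible 𝓘 hM 𝔐 h𝔐 ⟨iso⟩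
    -- the complement of `U` is a finite set of closed points
    let ι' := (DCoh.tensorBi.obj L).map (ClSub.idealModι 𝓘) ≫ (KFlatLib.tensorUnitIso L).hom
    obtain ⟨e⟩ := hL
    let s : Coh.structureModule X ⟶ L := e.inv ≫ ι'
    have hcompl : ∀ y : X, y ∉ 𝓘.support → y ∈ CohB1.genLocus L s := fun y hy => by
      obtain ⟨ε⟩ := H23.InvStalk.exists_stalk_equiv hamp.1 y
      refine (DepthTwist.surjective_stalk_iff hamp.1 s y).1 ?_
      have hS := (IntSym.shortExact_toSubscheme 𝓘).map_of_exact (DerSch.stalkFunctor X y)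
      have hsurj : Function.Surjective ((DerSch.stalkFunctor X y).map (ClSub.idealModι 𝓘)) := fun v => by
        haveI : Subsingleton ((DerSch.stalkFunctor X y).obj (ClSub.quotMod 𝓘)) :=
          ParShLib.subsingleton_stalk_quotMod 𝓘 hy
        exact (ShortComplex.moduleCat_exact_iff _).1 hS.exact v
          (Subsingleton.elim (α := ((DerSch.stalkFunctor X y).obj (ClSub.quotMod 𝓘) : Type u)) _ _)
      have ha := ConcreteCategory.bijective_of_isIso ((DerSch.stalkFunctor X y).map e.inv)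
      have hb := ConcreteCategory.bijective_of_isIso ((DerSch.stalkFunctor X y).map (KFlatLib.tensorUnitIso L).hom)
      show Function.Surjective ((DerSch.stalkFunctor X y).map
        (e.inv ≫ (DCoh.tensorBi.obj L).map (ClSub.idealModι 𝓘) ≫ (KFlatLib.tensorUnitIso L).hom))
      rw [Functor.map_comp, Functor.map_comp]
      exact (hb.2.comp ((H23.InvStalk.stalk_tensor_map_surjective_iff _ y ε).2 hsurj)).comp ha.2
    have hclosed : ∀ y : X, y ∉ U → IsClosed ({y} : Set X) := fun y hy => by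
      have hfin := S18372.finite_of_closed_affine (X ↘ Spec (CommRingCat.of k))
        (AmpleEmbed.isAffineOpen_genLocus (X ↘ Spec (CommRingCat.of k)) hamp s)
        (isClosed_closure (s := ({y} : Set X))) (fun z hz => hcompl z fun hzI =>
          (U.isOpen.isClosed_compl.closure_subset_iff.2 (Set.singleton_subset_iff.2 hy)) hz (hU hzI))
      by_contra hne
      have hsub : closure ({y} : Set X) ⊆ closedPoints X := fun z hz => by
        haveI : Finite (closure ({y} : Set X)) := hfin.to_subtype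
        haveI : JacobsonSpace (closure ({y} : Set X)) := .of_isClosedEmbedding isClosed_closure.isClosedEmbedding_subtypeVal
        haveI : DiscreteTopology (closure ({y} : Set X)) := inferInstance
        refine mem_closedPoints_iff.2 ?_
        have := (isClosed_discrete ({⟨z, hz⟩} : Set (closure ({y} : Set X))))
        simpa using isClosed_closure.isClosedEmbedding_subtypeVal.isClosedMap _ this
      exact hne (mem_closedPoints_iff.1 (hsub (subset_closure rfl)))
    let Z : Closeds X := U.compl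
    have hZ : ParaF.IsParafactorialPair X Z := (ParaExt.isParafactorialPair_iff_stalks Z).2 fun y hy =>
      (ParaFX.isParafactorialLocalRing_iff _).2 ⟨(ParaExt.bijective_punctured_iff _).2 (hdepth y (hclosed y hy)),
        hpf y (hclosed y hy) fun hyI => hy (hU hyI)⟩
    have good : ParaFX.Good U.ι := by
      refine ParaFX.good_of_openImmersion Z hZ (𝟙 X) U.ι ?_
      rw [Scheme.Opens.opensRange_ι]
      ext x
      exact ⟨fun hx hx' => hx' hx, fun hx => not_not.1 hx⟩
    refine ⟨_, good.push (M.restrict U.ι) hMU, cl_eq_iff.1 ?_⟩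
    have hrange : Set.range ι ⊆ Set.range U.ι := by
      rw [Scheme.Opens.range_ι, Scheme.IdealSheafData.range_subschemeι, Scheme.IdealSheafData.support_pow_succ]
      exact hU
    let g := IsOpenImmersion.lift U.ι ι hrange
    have hg : g ≫ U.ι = ι := IsOpenImmersion.lift_fac _ _ _
    show PicF.pullCl ι (PicF.cl _) = _
    rw [← hg, ← PicClLib.pullCl_comp, ← ParaExt.cl_restrict',
      cl_eq_iff.2 ⟨ParaFX.restrictPushforward U.ι (M.restrict U.ι)⟩, ParaExt.cl_restrict', PicClLib.pullCl_comp, hg,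
      ← hN0]
    exact cl_eq_iff.2 ⟨⟨iso.hom.app 0, iso.inv.app 0, congrArg (fun f => FSch.ModSys.Hom.app f 0) iso.hom_inv_id,
      congrArg (fun f => FSch.ModSys.Hom.app f 0) iso.inv_hom_id⟩⟩
  exact fun N hN => key 𝓘 (by rw [zero_add, pow_one]) N hN

end Groth.Agent.S2949
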