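import Groth.Statements.S2956
import Groth.Agent.RootData.Matsumoto

set_option autoImplicit false
open RootPairing
open scoped Pointwise
universe u
open RootD

set_option backward.isDefEq.respectTransparency false
set_option backward.isDefEq.respectTransparency.types false

namespace Groth.Agent.S2956

/-- For a finite crystallographic reduced root pairing with a base b: the Weyl group is presented by the
simple reflections s_i (i in the base) subject to the relations (s_i s_j)^{n_{ij}} = 1, where n_{ij}
is the order of s_i s_j; i.e. it carries a Coxeter system whose simple reflections are the s_i and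
whose Coxeter matrix is (n_{ij}). -/
theorem result {ι R M N : Type*} [CommRing R] [CharZero R] [IsDomain R] [AddCommGroup M] [Module R M]
    [AddCommGroup N] [Module R N] (P : RootPairing ι R M N) [Finite ι] [P.IsCrystallographic] [P.IsReduced]
    (b : P.Base) :
    ∃ (C : CoxeterMatrix ↥b.support) (cs : CoxeterSystem C P.weylGroup),
      (∀ j : ↥b.support, ((cs.simple j : P.weylGroup) : P.Aut) = Equiv.reflection P (j : ι)) ∧
      ∀ j k : ↥b.support, C.M j k = orderOf (Equiv.reflection P (j : ι) * Equiv.reflection P (k : ι)) := by
    classical
    have := Fintype.ofFinite ι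
    have hΔ : Groth.Agent.RootData.Simple P (b.support : Set ι) := Groth.Agent.RootData.Simple.of_base b
    let s : ι → P.Aut := fun x => Equiv.reflection P x
    have hord1 : ∀ j k : ↥b.support, j ≠ k → orderOf (s j * s k) ≠ 1 := fun j k hjk h => by
      rw [orderOf_eq_one_iff] at h
      have e : s j = s k := by
        have h' := congrArg (· * s k) h
        simp only [mul_assoc, s, Groth.Agent.RootData.refl_mul_self, mul_one, one_mul] at h'
        exact h'
      have hne : (k : ι) ≠ j := fun e' => hjk (Subtype.ext e'.symm)
      have h1 := (hΔ.refl_pos_ne Groth.Agent.RootData.isIndiv_of_reduced j.2 (hΔ.subset_posOf k.2) hne).1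
      have h2 : P.reflectionPerm (j : ι) (k : ι) = P.reflectionPerm (k : ι) (k : ι) := by
        have := congrArg (fun g : P.Aut => g • (k : ι)) e
        simpa only [s, Groth.Agent.RootData.refl_smul_idx] using this
      exact hΔ.refl_self_notMem k.2 (h2 ▸ h1)
    let C : CoxeterMatrix ↥b.support :=
      { M := Matrix.of fun j k : ↥b.support => orderOf (s j * s k)
        isSymm := by
          ext j k
          show orderOf (s k * s j) = orderOf (s j * s k)
          rw [← orderOf_inv, mul_inv_rev, inv_eq_of_mul_eq_one_left (Groth.Agent.RootData.refl_mul_self (P := P) (j : ι)),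
            inv_eq_of_mul_eq_one_left (Groth.Agent.RootData.refl_mul_self (P := P) (k : ι))]
        diagonal := fun j => by
          show orderOf (s j * s j) = 1
          simp only [s, Groth.Agent.RootData.refl_mul_self, orderOf_one]
        off_diagonal := hord1 }
    let cs := C.toCoxeterSystem
    let sW : ↥b.support → P.weylGroup := fun j => ⟨s j, P.reflection_mem_weylGroup j⟩
    have hlift : C.IsLiftable sW := fun j k => Subtype.ext (pow_orderOf_eq_one (s j * s k))
    let φ : C.Group →* P.weylGroup := cs.lift ⟨sW, hlift⟩
    have hφ : ∀ j, φ (cs.simple j) = sW j := fun j => cs.lift_apply_simple hlift j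
    have hword : ∀ l : List ↥b.support, ((φ (cs.wordProd l) : P.weylGroup) : P.Aut) =
        Groth.Agent.RootData.word P (l.map Subtype.val) := by
      intro l
      induction l with
      | nil => simp [Groth.Agent.RootData.word]
      | cons j t ih =>
        rw [cs.wordProd_cons, map_mul, Subgroup.coe_mul, ih, hφ, List.map_cons, Groth.Agent.RootData.word_cons]
    have hsurj : Function.Surjective φ := by
      rintro ⟨g, hg⟩
      rw [← hΔ.gen_eq_weylGroup] at hg
      obtain ⟨l, hl, rfl⟩ := Groth.Agent.RootData.exists_word hg
      refine ⟨cs.wordProd (l.attachWith _ hl), Subtype.ext ?_⟩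
      rw [hword]
      simp
    have hinj : Function.Injective φ := by
      rw [injective_iff_map_eq_one]
      intro g hg
      obtain ⟨l, rfl⟩ := cs.wordProd_surjective g
      let f : ι → C.Group := fun x => if h : x ∈ b.support then cs.simple ⟨x, h⟩ else 1
      have hprod : ∀ l : List ↥b.support, ((l.map Subtype.val).map f).prod = cs.wordProd l := fun l => by
        rw [List.map_map]
        refine congrArg List.prod (List.map_congr_left fun j _ => ?_)
        simp [f]
      have h := hΔ.prod_eq_of_coxeter f (fun x hx => by simp only [f, dif_pos (Finset.mem_coe.mp hx)]; exact cs.simple_mul_simple_self _)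
        (fun x hx y hy _ => by
          simp only [f, dif_pos (Finset.mem_coe.mp hx), dif_pos (Finset.mem_coe.mp hy)]
          exact cs.simple_mul_simple_pow ⟨x, hx⟩ ⟨y, hy⟩)
        (l := l.map Subtype.val) (l' := []) (fun x hx => by
          obtain ⟨j, -, rfl⟩ := List.mem_map.mp hx
          exact j.2) (by simp) (by
          rw [← hword, hg]
          simp [Groth.Agent.RootData.word])
      rw [hprod] at h
      simpa using h
    let e : C.Group ≃* P.weylGroup := MulEquiv.ofBijective φ ⟨hinj, hsurj⟩
    refine ⟨C, cs.map e, fun j => ?_, fun j k => rfl⟩
    rw [CoxeterSystem.map_simple]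
    exact congrArg Subtype.val (hφ j)

end Groth.Agent.S2956
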