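import Groth.Statements.S3002
import Groth.Agent.RedOpenLib.Nbhd

set_option autoImplicit false
universe u
open CategoryTheory MonoidalCategory CartesianMonoidalCategory MonObj GrpObj AlgebraicGeometry
open Red

set_option backward.isDefEq.respectTransparency false
set_option backward.isDefEq.respectTransparency.types false

namespace Groth.Agent.S3002

/-- The reductivity assertion of (i) and the split maximal torus of (ii): Let S be a scheme, G an
S-group scheme which is affine, of finite presentation and flat over S (the source assumes flatness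
only at the unit section over s₀), with connected fibres, and let s₀ ∈ S be a point whose geometric
fibre G_{s̄₀} is reductive. Then there are an affine open neighbourhood u : Spec A → S of s₀ over
which G is reductive, and an étale surjective morphism v : Spec B → Spec A such that the base change
of G to Spec B has a maximal torus which is split (isomorphic to D(ℤ^r) for some r). (The source
also gives constancy of the reductive and semisimple ranks over U and finiteness of the Weyl group
over S'.) -/
theorem result (S : Scheme.{u}) (G : Over S) [GrpObj G] [IsAffineHom G.hom] [LocallyOfFinitePresentation G.hom] [Flat G.hom] (hconn : ∀ s : S, _root_.IsConnected (G.hom.base ⁻¹' {s})) (s₀ : S) (h₀ : Red.IsReductiveOver (AlgebraicClosure (S.residueField s₀)) (Red.geomFibre s₀ G)) : ∃ (A : Type u) (_ : CommRing A) (u : Spec (CommRingCat.of A) ⟶ S), IsOpenImmersion u ∧ s₀ ∈ Set.range u.base ∧ Red.IsReductive (Red.bc u G) ∧ ∃ (B : Type u) (_ : CommRing B) (v : Spec (CommRingCat.of B) ⟶ Spec (CommRingCat.of A)),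 Etale v ∧ Surjective v ∧ ∃ (T : Over (Spec (CommRingCat.of B))) (_ : GrpObj T) (i : T ⟶ Red.bc (v ≫ u) G), Red.IsMaximalTorus i ∧ ∃ r : ℕ, Red.IsSplitTorusWith (Fin r → ℤ) T := by
    obtain ⟨A₁, _, w, hw, hs₀, hG₁⟩ := Groth.Agent.RedOpenLib.exists_reductive_affine G hconn s₀ h₀
    haveI := hw
    obtain ⟨y₀, hy₀⟩ := hs₀
    haveI := hG₁.1; haveI := hG₁.2.1
    obtain ⟨T₀, _, i₀, hT₀, hi₀⟩ := GModLib.exists_selfCentralizing_of_isReductive hG₁ y₀
    obtain ⟨B, _, v, r, T, _, t, hv, hy, hT, ht, -⟩ := GModLib.exists_etale_split_selfCentralizing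
      (fun s => GModLib.isConnected_fibre_of_isReductive hG₁ s) (Red.geomPt y₀) i₀ hT₀ hi₀
    rw [Groth.Agent.RedOpenLib.geomPt_closedPoint] at hy
    haveI := hv
    obtain ⟨A, B', _, _, j, q, v', hj, hyj, hv', hv's, hsq⟩ := Groth.Agent.RedOpenLib.exists_away_surjective v hy
    haveI := hj
    obtain ⟨x, hx⟩ := hyj
    obtain ⟨e₁⟩ := GrpSchLib.MultTypeBC.bc_bc j w G
    refine ⟨A, inferInstance, j ≫ w, inferInstance, ⟨x, ?_⟩,
      Groth.Agent.RedOpenLib.isReductive_of_iso e₁ (Groth.Agent.RedOpenLib.isReductive_bc j hG₁),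
      B', inferInstance, v', hv', hv's, ?_⟩
    · exact (Scheme.Hom.comp_apply j w x).trans ((congrArg w hx).trans hy₀)
    · obtain ⟨e₂⟩ := GrpSchLib.MultTypeBC.bc_bc q v (Red.bc w G)
      obtain ⟨e₃⟩ := GrpSchLib.MultTypeBC.bc_congr hsq.symm (Red.bc w G)
      obtain ⟨e₄⟩ := GrpSchLib.MultTypeBC.bc_bc (v' ≫ j) w G
      obtain ⟨e₅⟩ := GrpSchLib.MultTypeBC.bc_congr (Category.assoc v' j w) G
      haveI : Smooth (Red.bc v (Red.bc w G)).hom := MorphismProperty.pullback_snd (Red.bc w G).hom v hG₁.2.1
      haveI : IsAffineHom (Red.bc v (Red.bc w G)).hom := MorphismProperty.pullback_snd (Red.bc w G).hom v hG₁.1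
      obtain ⟨T', _, i, hi, hT'⟩ := Groth.Agent.RedOpenLib.exists_maximal_split q (e₂ ≪≫ e₃ ≪≫ e₄ ≪≫ e₅) t hT ht
      exact ⟨T', inferInstance, i, hi, r, hT'⟩

end Groth.Agent.S3002
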