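import Groth.Statements.S3009
import Groth.Agent.RedOpenLib.RankOne

set_option autoImplicit false
universe u
open CategoryTheory MonoidalCategory CartesianMonoidalCategory MonObj GrpObj AlgebraicGeometry
open Red

set_option backward.isDefEq.respectTransparency false
set_option backward.isDefEq.respectTransparency.types false

namespace Groth.Agent.S3009

/-- Let S be a scheme, G an S-group scheme smooth and affine over S with connected fibres, and i : T → G
a closed subgroup scheme which is a torus. Then the set of points s ∈ S such that the geometric
fibre G_{s̄} is reductive, T_{s̄} is a maximal torus of it, and G_{s̄} has semisimple rank 1 —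
written as dim G_{s̄} = dim T_{s̄} + 2 — is open in S. -/
theorem result (S : Scheme.{u}) (G T : Over S) [GrpObj G] [GrpObj T] [IsAffineHom G.hom] [Smooth G.hom] (hconn : ∀ s : S, _root_.IsConnected (G.hom.base ⁻¹' {s})) (i : T ⟶ G) [IsMonHom i] (hi : IsClosedImmersion i.left) (hT : Red.IsTorus T) : IsOpen {s : S | Red.IsReductiveOver (AlgebraicClosure (S.residueField s)) (Red.geomFibre s G) ∧ Red.IsMaximalTorus ((Over.pullback (Red.geomPt s)).map i) ∧ topologicalKrullDim ↥(Red.geomFibre s G).left = topologicalKrullDim ↥(Red.geomFibre s T).left + 2} := by
    haveI := hi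
    exact Groth.Agent.RedOpenLib.isOpen_rankOne G T hconn i hT

end Groth.Agent.S3009
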