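import Groth.Statements.S3014
import Groth.Agent.GrpPtDesc.Basic
-- import your own Groth.Agent.* helpers here

set_option autoImplicit false
universe u
open CategoryTheory MonoidalCategory CartesianMonoidalCategory MonObj GrpObj AlgebraicGeometry
open Red

set_option backward.isDefEq.respectTransparency false

namespace Groth.Agent.S3014

/-- (i)⇒(ii): Let G and G' be reductive S-groups and f : S' → S a surjective morphism such that the base
changes of G and G' to S' are isomorphic as group schemes. Then for every s ∈ S the geometric fibres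
G_{s̄} and G'_{s̄} are isomorphic. -/
theorem result (S : Scheme.{u}) (G G' : Over S) [GrpObj G] [GrpObj G'] (hG : Red.IsReductive G) (hG' : Red.IsReductive G') (S' : Scheme.{u}) (f : S' ⟶ S) [Surjective f] (hiso : Nonempty (Grp.mk (Red.bc f G) ≅ Grp.mk (Red.bc f G'))) (s : S) : Nonempty (Grp.mk (Red.geomFibre s G) ≅ Grp.mk (Red.geomFibre s G')) := by
  obtain ⟨s', rfl⟩ := f.surjective s
  let k := AlgebraicClosure (S.residueField (f s'))
  let K := AlgebraicClosure (S'.residueField s')
  let c : Spec (CommRingCat.of k) ⟶ S :=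
    Spec.map (CommRingCat.ofHom (algebraMap (S.residueField (f s')) k)) ≫ S.fromSpecResidueField (f s')
  let c' : Spec (CommRingCat.of K) ⟶ S' :=
    Spec.map (CommRingCat.ofHom (algebraMap (S'.residueField s') K)) ≫ S'.fromSpecResidueField s'
  letI : Algebra (S.residueField (f s')) (S'.residueField s') := (f.residueFieldMap s').hom.toAlgebra
  letI : Algebra (S.residueField (f s')) K :=
    ((algebraMap (S'.residueField s') K).comp (f.residueFieldMap s').hom).toAlgebra
  let j : k →ₐ[S.residueField (f s')] K := IsAlgClosed.lift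
  letI : Algebra k K := j.toRingHom.toAlgebra
  let u := Spec.map (CommRingCat.ofHom (algebraMap k K))
  have hu : u ≫ c = c' ≫ f := by
    have h1 : (algebraMap k K).comp (algebraMap (S.residueField (f s')) k) =
        (algebraMap (S'.residueField s') K).comp (f.residueFieldMap s').hom := j.comp_algebraMap
    show Spec.map _ ≫ Spec.map _ ≫ _ = (Spec.map _ ≫ _) ≫ f
    rw [← Spec.map_comp_assoc, ← CommRingCat.ofHom_comp, h1, Category.assoc,
      ← Scheme.Hom.SpecMap_residueFieldMap_fromSpecResidueField, ← Spec.map_comp_assoc]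
    rfl
  obtain ⟨e⟩ := hiso
  haveI := e.hom.hom.isMonHom_hom
  haveI : Smooth G.hom := hG.2.1
  haveI : Smooth G'.hom := hG'.2.1
  let ψ : Red.bc f G ≅ Red.bc f G' :=
    ⟨e.hom.hom.hom, e.inv.hom.hom, congrArg (fun m => m.hom.hom) e.hom_inv_id,
      congrArg (fun m => m.hom.hom) e.inv_hom_id⟩
  haveI : IsMonHom ψ.hom := e.hom.hom.isMonHom_hom
  exact GrpPtDesc.exists_iso_of_square c c' f hu G G' (hG.2.2 (f s')).1 (hG'.2.2 (f s')).1 ψ

end Groth.Agent.S3014
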