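import Groth.Statements.S3031
import Groth.Agent.GenSub.Main

set_option autoImplicit false
universe u
open CategoryTheory MonoidalCategory CartesianMonoidalCategory MonObj GrpObj AlgebraicGeometry TensorProduct
open SGA3

namespace Groth.Agent.S3031

/-- With X connected and possessing a rational point over the identity, a case of 'geometrically
connected with e ∈ f(X)': let G be a group scheme over a field k, X a connected, geometrically
reduced k-scheme, x a k-point of X and f : X → G a k-morphism with f(x) the identity. Then the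
smallest closed subgroup scheme of G through which f factors is connected. -/
theorem result (k : Type u) [Field k] (G X : Over (Spec (CommRingCat.of k))) [GrpObj G]
    [GeometricallyReduced X.hom] [ConnectedSpace X.left] (x : 𝟙_ (Over (Spec (CommRingCat.of k))) ⟶ X) (f : X ⟶ G)
    (hx : x ≫ f = η[G])
    (Γ : Over (Spec (CommRingCat.of k))) [GrpObj Γ] (i : Γ ⟶ G) [IsMonHom i] [IsClosedImmersion i.left]
    (hf : ∃ f' : X ⟶ Γ, f' ≫ i = f)
    (hmin : ∀ (Γ' : Over (Spec (CommRingCat.of k))) (_ : GrpObj Γ') (i' : Γ' ⟶ G), IsMonHom i' → IsClosedImmersion i'.left →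
        (∃ f'' : X ⟶ Γ', f'' ≫ i' = f) → ∃ j : Γ ⟶ Γ', j ≫ i' = i) :
    ConnectedSpace Γ.left := by
  obtain ⟨f', rfl⟩ := hf
  obtain ⟨str, h1, h2, -, -⟩ := GenSub.exists_generated (f' ≫ i)
  haveI := GenSub.connected_gen (f' ≫ i) x hx
  letI := str
  obtain ⟨j, hj⟩ := hmin (GenSub.gen _) str (GenSub.genι _) h1 inferInstance h2
  haveI : AlgebraicGeometry.IsReduced (GenSub.gen (f' ≫ i)).left := inferInstance
  obtain ⟨j', hj'⟩ : ∃ j', j' ≫ i = GenSub.genι (f' ≫ i) := by
    obtain ⟨_, _, _, _, h5⟩ := GenSub.exists_generated (f' ≫ i)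
    exact h5 Γ ‹_› i ‹_› ‹_› ⟨f', rfl⟩
  haveI : Mono i := (Over.forget _).mono_of_mono_map (inferInstanceAs (Mono i.left))
  have e : j ≫ j' = 𝟙 Γ := by rw [← cancel_mono i, Category.assoc, hj', hj, Category.id_comp]
  refine Function.Surjective.connectedSpace (f := j'.left) (fun z => ⟨j.left z, ?_⟩) j'.left.continuous
  rw [← GrpSchLib.left_comp_apply, e]
  rfl

end Groth.Agent.S3031
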