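import Groth.Statements.S3034
import Groth.Agent.GrpSchLib.ArtinImage
import Groth.Agent.S3036

set_option autoImplicit false
universe u
open CategoryTheory MonoidalCategory CartesianMonoidalCategory MonObj GrpObj AlgebraicGeometry TensorProduct
open SGA3

namespace Groth.Agent.S3034

/-- Let A be a local artinian ring and u : G → H a quasi-compact homomorphism between group schemes
locally of finite type over A, with G flat over A and the kernel of u flat over A. Then u factors as
a homomorphism p : G → C which is faithfully flat and locally of finite presentation followed by a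
homomorphism i : C → H which is a closed immersion. (Stated here for G flat over A; the published
statement also covers non-flat G.) -/
theorem result (A : Type u) [CommRing A] [IsArtinianRing A] [IsLocalRing A]
    (G H : Over (Spec (CommRingCat.of A))) [GrpObj G] [GrpObj H] [LocallyOfFiniteType G.hom] [LocallyOfFiniteType H.hom]
    [Flat G.hom] (u : G ⟶ H) [IsMonHom u] [QuasiCompact u.left]
    (hN : Flat (Limits.pullback.snd u.left (η[H] : 𝟙_ (Over (Spec (CommRingCat.of A))) ⟶ H).left)) :
    ∃ (C : Over (Spec (CommRingCat.of A))) (_ : GrpObj C) (p : G ⟶ C) (i : C ⟶ H), IsMonHom p ∧ IsMonHom i ∧ p ≫ i = u ∧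
      Flat p.left ∧ Surjective p.left ∧ LocallyOfFinitePresentation p.left ∧ IsClosedImmersion i.left := by
  obtain ⟨C, str, p, i, hp, hi, hpi, hmono, hs, hf, hlfp, hC⟩ := Groth.Agent.GrpSchLib.ArtinImage.exists_factor u hN
  haveI : QuasiCompact i.left := by
    rw [quasiCompact_iff_forall_isAffineOpen]
    intro U hU
    have hc : IsCompact (u.left ⁻¹ᵁ U : Set G.left) :=
      (quasiCompact_iff_forall_isAffineOpen.mp inferInstance) U hU
    have he : (i.left ⁻¹ᵁ U : Set C.left) = p.left '' (u.left ⁻¹ᵁ U : Set G.left) := by
      rw [show u.left = p.left ≫ i.left from by rw [← Over.comp_left, hpi]]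
      exact (Set.image_preimage_eq (f := p.left) (i.left ⁻¹' (U : Set H.left)) hs.surj).symm
    rw [he]
    exact hc.image p.left.continuous
  exact ⟨C, str, p, i, hp, hi, hpi, hf, hs, hlfp, S3036.result A C H i⟩

end Groth.Agent.S3034
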