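import Groth.Statements.S3041
import Groth.Agent.GrpFieldLib.SmoothWeil

set_option autoImplicit false
universe u
open CategoryTheory MonoidalCategory CartesianMonoidalCategory MonObj GrpObj AlgebraicGeometry TensorProduct
open SGA3

namespace Groth.Agent.S3041

/-- Let f : X → S be a smooth morphism whose fibres are geometrically irreducible and j : Y → X a closed
immersion. Then there is a closed immersion t : T → S such that a morphism g : S' → S factors
through T exactly when the closed immersion Y ×_X X_{S'} → X_{S'} obtained by base change is an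
isomorphism; if j is of finite presentation then so is t. -/
theorem result (S X Y : Scheme.{u}) (f : X ⟶ S) [Smooth f]
    [GeometricallyIrreducible f] (j : Y ⟶ X) [IsClosedImmersion j] :
    ∃ (T : Scheme.{u}) (t : T ⟶ S), IsClosedImmersion t ∧
      (∀ (S' : Scheme.{u}) (g : S' ⟶ S),
        (∃ g' : S' ⟶ T, g' ≫ t = g) ↔ IsIso (Limits.pullback.snd j (Limits.pullback.fst f g))) ∧
      (LocallyOfFinitePresentation j → LocallyOfFinitePresentation t) := by
  obtain ⟨T, t, ht, hT, hfp⟩ := GrpFieldLib.SmoothWeil.exists_weilRestriction_smooth f j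
  refine ⟨T, t, ht, fun S' g => (hT S' g).trans ⟨?_, fun h => ?_⟩, hfp⟩
  · rintro ⟨l, hl⟩
    let q := Limits.pullback.snd j (Limits.pullback.fst f g)
    let r := (Limits.pullbackSymmetry f g).hom ≫ l
    have hr : r ≫ j = Limits.pullback.fst f g := by
      rw [Category.assoc, hl]; exact Limits.pullbackSymmetry_hom_comp_snd _ _
    haveI : IsSplitEpi q := IsSplitEpi.mk'
      ⟨Limits.pullback.lift r (𝟙 _) (by rw [hr, Category.id_comp]), Limits.pullback.lift_snd _ _ _⟩
    exact isIso_of_mono_of_isSplitEpi q
  · refine ⟨(Limits.pullbackSymmetry g f).hom ≫ inv (Limits.pullback.snd j (Limits.pullback.fst f g)) ≫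
      Limits.pullback.fst _ _, ?_⟩
    rw [Category.assoc, Category.assoc, Limits.pullback.condition, IsIso.inv_hom_id_assoc]
    exact Limits.pullbackSymmetry_hom_comp_fst _ _

end Groth.Agent.S3041
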