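import Groth.Statements.S3113
import Groth.Agent.EtPBCq.ShriekSquare
import Groth.Agent.EtPBCq.RpushSingle

set_option autoImplicit false
universe u
open CategoryTheory CategoryTheory.Limits AlgebraicGeometry Opposite
open EtDual

set_option backward.isDefEq.respectTransparency false
set_option backward.isDefEq.respectTransparency.types false
set_option maxHeartbeats 1000000
attribute [local instance] HasDerivedCategory.standard

namespace Groth.Agent.S3113

/-- Let j₁ : U -> X and j₂ : V -> Y be open immersions and g : U -> V, f : X -> Y proper morphisms with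
j₁ ≫ f = g ≫ j₂. Then for every abelian sheaf F on the small etale site of U killed by some n > 0
and every q, the sheaves j₂! (R^q g_* F) and R^q f_* (j₁! F) are isomorphic. (The source's statement
is that a canonical arrow between total derived functors is an isomorphism, for complexes of modules
over a torsion ring, under a bound on the fibre dimension needed for unbounded complexes; it is
stated here degree by degree, as the existence of an isomorphism, without the dimension bound.) -/
theorem result {U V X Y : Scheme.{u}} (j₁ : U ⟶ X) [IsOpenImmersion j₁] (j₂ : V ⟶ Y)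
    [IsOpenImmersion j₂] (g : U ⟶ V) [IsProper g] [EtCoh.BCCont g] (f : X ⟶ Y) [IsProper f] [EtCoh.BCCont f]
    (w : j₁ ≫ f = g ≫ j₂) (n : ℕ) (hn : 0 < n) (F : EtCoh.Ab U) (hF : EtCoh.KilledBy n F) (q : ℕ) :
    Nonempty ((EtShriek.extZero j₂).obj ((EtCoh.Rpush g q).obj F) ≅
      (EtCoh.Rpush f q).obj ((EtShriek.extZero j₁).obj F)) := by
  have hT : EtCoh.IsTorsion F := Groth.Agent.GalTorLib.isTorsion_of_nsmul_id F n hn
    ((Groth.Agent.EtFound.killedBy_iff_nsmul n F).1 hF)
  haveI := Groth.Agent.EtFound.extZero_preservesFiniteLimits j₁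
  haveI := Groth.Agent.EtFound.extZero_preservesFiniteLimits j₂
  haveI := Groth.Agent.EtPBCq.hasRpushEt g
  haveI := Groth.Agent.EtPBCq.hasRpushEt f
  let K := (DerivedCategory.singleFunctor (EtCoh.Ab U) 0).obj F
  obtain ⟨e⟩ := Groth.Agent.EtPBCq.nonempty_extZeroD_Rpush_iso j₁ j₂ g f w K 0
    (fun m hm => DerivedCategory.isZero_of_isGE K 0 m hm) (fun m => by
      rcases eq_or_ne m 0 with rfl | hm
      · exact Groth.Agent.EtPBCq.isTorsion_of_iso ((DerivedCategory.singleFunctorCompHomologyFunctorIso _ 0).app F).symm hT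
      · refine Groth.Agent.GalTorLib.isTorsion_of_nsmul_id _ 1 one_pos (IsZero.eq_of_src ?_ _ _)
        rcases lt_or_gt_of_ne hm with h | h
        · exact DerivedCategory.isZero_of_isGE K 0 m h
        · exact DerivedCategory.isZero_of_isLE K 0 m h)
  obtain ⟨e₁⟩ := Groth.Agent.EtPBCq.nonempty_HDEt_RpushEt_single f ((EtShriek.extZero j₁).obj F) q
  obtain ⟨e₂⟩ := Groth.Agent.EtPBCq.nonempty_HDEt_RpushEt_single g F q
  obtain ⟨e₃⟩ := Groth.Agent.EtPBCq.nonempty_homology_mapDerivedCategory (EtShriek.extZero j₂)
    ((DCoh.RpushEt U g).obj K) (q : ℤ)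
  exact ⟨(EtShriek.extZero j₂).mapIso e₂.symm ≪≫ e₃.symm ≪≫
    (DerivedCategory.homologyFunctor _ (q : ℤ)).mapIso (e.symm ≪≫
      (DCoh.RpushEt X f).mapIso (((EtShriek.extZero j₁).mapDerivedCategorySingleFunctor 0).app F)) ≪≫ e₁⟩

end Groth.Agent.S3113
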