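import Groth.Statements.S3195
import Groth.Agent.KoszTor7.Basic
import Groth.Agent.H1KoszPerm.Split

set_option autoImplicit false
set_option backward.isDefEq.respectTransparency false
set_option backward.isDefEq.respectTransparency.types false
set_option linter.style.haveILetI false
set_option maxHeartbeats 1000000
universe u
open CategoryTheory
open SGA6

namespace Groth.Agent.S3195

open CategoryTheory CategoryTheory.Limits CochainComplex
open Groth.Agent.H1KoszulEuler Groth.Agent.SamuelKoszul

noncomputable section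

theorem nonempty_extPower (A : Type u) [CommRing A] (K : Ideal A) (r i : ℕ) (hi : 1 ≤ i) :
    Nonempty ((⋀[A]^i (Fin r → A ⧸ K)) ≃ₗ[A] (Fin (r.choose i) → A ⧸ K)) := by
  classical
  let bA := Pi.basisFun A (Fin r)
  let bQ := Pi.basisFun (A ⧸ K) (Fin r)
  let q : (Fin r → A) →ₗ[A] (Fin r → A ⧸ K) :=
    LinearMap.pi fun j => (Submodule.mkQ K).comp (LinearMap.proj j)
  have hq : Function.Surjective q := fun c => by
    choose a ha using fun j => Submodule.mkQ_surjective K (c j)
    exact ⟨a, funext fun j => ha j⟩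
  have hqb : ∀ j, q (bA j) = bQ j := fun j => funext fun j' => by
    show (Submodule.mkQ K) (bA j j') = bQ j j'
    rw [show bA j = Pi.single j 1 from Pi.basisFun_apply A (Fin r) j,
      show bQ j = Pi.single j 1 from Pi.basisFun_apply (A ⧸ K) (Fin r) j]
    rcases eq_or_ne j j' with rfl | h
    · simp
    · simp [Pi.single_eq_of_ne (Ne.symm h)]
  let S := Set.powersetCard (Fin r) i
  let e : S → ⋀[A]^i (Fin r → A ⧸ K) := fun t => exteriorPower.ιMulti_family A i bQ t
  let gm : S → (Fin r → A ⧸ K) [⋀^Fin i]→ₗ[A] (A ⧸ K) := fun s =>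
    { toMultilinearMap := (((exteriorPower.ιMultiDual (A ⧸ K) i bQ s).compAlternatingMap
        (exteriorPower.ιMulti (A ⧸ K) i)).toMultilinearMap).restrictScalars A
      map_eq_zero_of_eq' := fun v a b h hab => ((exteriorPower.ιMultiDual (A ⧸ K) i bQ s).compAlternatingMap
        (exteriorPower.ιMulti (A ⧸ K) i)).map_eq_zero_of_eq v h hab }
  let g : (⋀[A]^i (Fin r → A ⧸ K)) →ₗ[A] (S → A ⧸ K) :=
    LinearMap.pi fun s => exteriorPower.alternatingMapLinearEquiv (gm s)
  have hge : ∀ s t, g (e t) s = if s = t then 1 else 0 := fun s t => by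
    show exteriorPower.alternatingMapLinearEquiv (gm s) (exteriorPower.ιMulti A i _) = _
    rw [exteriorPower.alternatingMapLinearEquiv_apply_ιMulti]
    show exteriorPower.ιMultiDual (A ⧸ K) i bQ s (exteriorPower.ιMulti_family (A ⧸ K) i bQ t) = _
    rcases eq_or_ne s t with rfl | h
    · rw [if_pos rfl]; exact exteriorPower.ιMultiDual_apply_diag (A ⧸ K) i bQ s
    · rw [if_neg h]; exact exteriorPower.ιMultiDual_apply_nondiag (A ⧸ K) i bQ s t h
  have hkill : ∀ a ∈ K, ∀ x : ⋀[A]^i (Fin r → A ⧸ K), a • x = 0 := by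
    intro a ha x
    have hx : x ∈ Submodule.span A (Set.range (exteriorPower.ιMulti A i (M := Fin r → A ⧸ K))) := by
      rw [exteriorPower.ιMulti_span]; trivial
    induction hx using Submodule.span_induction with
    | mem v hv =>
      obtain ⟨v, rfl⟩ := hv
      let i0 : Fin i := ⟨0, hi⟩
      have h0 : a • v i0 = 0 := funext fun j => by
        obtain ⟨b, hb⟩ := Submodule.mkQ_surjective K (v i0 j)
        show a • v i0 j = 0
        rw [← hb, ← map_smul]
        exact (Submodule.Quotient.mk_eq_zero K).2 (K.mul_mem_right b ha)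
      conv_lhs => rw [← Function.update_eq_self i0 v]
      rw [← AlternatingMap.map_update_smul, h0, AlternatingMap.map_update_zero]
    | zero => exact smul_zero a
    | add x y _ _ hx hy => rw [smul_add, hx, hy, add_zero]
    | smul c x _ hx => rw [smul_comm, hx, smul_zero]
  let ψ : (S → A ⧸ K) →ₗ[A] ⋀[A]^i (Fin r → A ⧸ K) :=
    ∑ t : S, (Submodule.liftQ K (LinearMap.toSpanSingleton A _ (e t)) fun a ha => hkill a ha (e t)).comp
      (LinearMap.proj t)
  have hψ : ∀ t, ψ (Pi.single t 1) = e t := fun t => by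
    simp only [ψ, LinearMap.sum_apply, LinearMap.comp_apply, LinearMap.proj_apply]
    rw [Finset.sum_eq_single t]
    · rw [Pi.single_eq_same]
      show (Submodule.liftQ K _ _) (Submodule.mkQ K (1 : A)) = _
      rw [Submodule.mkQ_apply, Submodule.liftQ_apply]
      exact one_smul A (e t)
    · intro b _ hb
      rw [Pi.single_eq_of_ne hb, map_zero]
    · exact fun h => absurd (Finset.mem_univ t) h
  have hsurj : Function.Surjective ψ := by
    rw [← LinearMap.range_eq_top]
    refine eq_top_iff.2 fun x hx0 => ?_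
    clear hx0
    obtain ⟨y, rfl⟩ := exteriorPower.map_surjective (n := i) hq x
    have hy : y ∈ Submodule.span A (Set.range (exteriorPower.ιMulti_family A i bA)) := by
      rw [exteriorPower.ιMulti_family_span_of_span A bA.span_eq]; trivial
    induction hy using Submodule.span_induction with
    | mem v hv =>
      obtain ⟨t, rfl⟩ := hv
      refine ⟨Pi.single t 1, ?_⟩
      rw [hψ, exteriorPower.map_apply_ιMulti_family]
      exact congrArg (fun f => exteriorPower.ιMulti_family A i f t) (funext fun j => (hqb j).symm)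
    | zero => rw [map_zero]; exact zero_mem _
    | add x y _ _ hx hy => rw [map_add]; exact add_mem hx hy
    | smul c x _ hx => rw [map_smul]; exact Submodule.smul_mem _ c hx
  have hgψ : g.comp ψ = LinearMap.id := by
    refine LinearMap.pi_ext fun t c => ?_
    obtain ⟨a, rfl⟩ := Submodule.mkQ_surjective K c
    have h1 : (Pi.single t (Submodule.mkQ K a) : S → A ⧸ K) = a • Pi.single t 1 := by
      rw [← Pi.single_smul]
      congr 1
      show Submodule.mkQ K a = a • Submodule.mkQ K (1 : A)
      rw [← map_smul, smul_eq_mul, mul_one]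
    rw [h1, map_smul, map_smul]
    congr 1
    refine funext fun s => ?_
    show g (ψ (Pi.single t 1)) s = (Pi.single t 1 : S → A ⧸ K) s
    rw [hψ, hge, Pi.single_apply]
  haveI : Finite S := inferInstance
  refine ⟨(LinearEquiv.ofBijective g ⟨fun a b hab => ?_, fun c => ⟨ψ c, LinearMap.congr_fun hgψ c⟩⟩).trans
    (LinearEquiv.funCongrLeft A (A ⧸ K) (Finite.equivFinOfCardEq (?_ : Nat.card S = r.choose i)).symm)⟩
  · obtain ⟨a, rfl⟩ := hsurj a
    obtain ⟨b, rfl⟩ := hsurj b
    have h1 := LinearMap.congr_fun hgψ a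
    have h2 := LinearMap.congr_fun hgψ b
    simp only [LinearMap.comp_apply, LinearMap.id_apply] at h1 h2
    rw [← h1, ← h2, hab]
  · rw [Set.powersetCard.card, Nat.card_fin]

variable {A : Type u} [CommRing A]

theorem smul_koszulCx_eq_zero (M : ModuleCat.{u} A) {y : A} (h : y • 𝟙 M = 0) :
    ∀ l : List A, y • 𝟙 (CohIII.koszulCx M l) = 0
  | [] => by
    show y • 𝟙 ((HomologicalComplex.single (ModuleCat.{u} A) (ComplexShape.up ℤ) 0).obj M) = 0
    refine HomologicalComplex.to_single_hom_ext ?_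
    rw [HomologicalComplex.smul_f_apply, HomologicalComplex.id_f, HomologicalComplex.zero_f]
    rw [← cancel_epi (HomologicalComplex.singleObjXSelf (ComplexShape.up ℤ) 0 M).inv, comp_zero, Linear.comp_smul, Category.comp_id]
    rw [← Category.id_comp (HomologicalComplex.singleObjXSelf (ComplexShape.up ℤ) 0 M).inv, ← Linear.smul_comp, h, zero_comp]
  | f :: l => by
    have ih := smul_koszulCx_eq_zero M h l
    show y • 𝟙 (mappingCone (f • 𝟙 (CohIII.koszulCx M l))) = 0
    ext p : 1
    have h0 : ∀ n, y • 𝟙 ((CohIII.koszulCx M l).X n) = 0 := fun n => congrArg (fun φ => HomologicalComplex.Hom.f φ n) ih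
    rw [mappingCone.ext_from_iff _ (p + 1) p rfl]
    constructor
    · have := congrArg (· ≫ (mappingCone.inl (f • 𝟙 (CohIII.koszulCx M l))).v (p + 1) p (by omega)) (h0 (p + 1))
      simpa [Linear.smul_comp, Linear.comp_smul] using this
    · have := congrArg (· ≫ (mappingCone.inr (f • 𝟙 (CohIII.koszulCx M l))).f p) (h0 p)
      simpa [Linear.smul_comp, Linear.comp_smul] using this

open H1KoszPerm in
theorem nonempty_homology_append_zero (M : ModuleCat.{u} A) (xs : List A) :
    ∀ (ys : List A), (∀ y ∈ ys, y • 𝟙 M = 0) → ∀ m : ℤ,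
      Nonempty ((CohIII.koszulCx M (ys ++ xs)).homology m ≃ₗ[A]
        ((i : Idx ys.length) → (CohIII.koszulCx M xs).homology (m + deg ys.length i)))
  | [], _, m => by
    refine ⟨?_ ≪≫ₗ (LinearEquiv.funUnique Unit A ((CohIII.koszulCx M xs).homology (m + (0 : ℕ)))).symm⟩
    exact ((CategoryTheory.eqToIso (congrArg (fun k => (CohIII.koszulCx M xs).homology k) (by simp :
      m = m + ((0 : ℕ) : ℤ))))).toLinearEquiv
  | y :: ys, hy, m => by
    obtain ⟨e₀⟩ := nonempty_homology_append_zero M xs ys (fun z hz => hy z (List.mem_cons_of_mem _ hz)) m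
    obtain ⟨e₁⟩ := nonempty_homology_append_zero M xs ys (fun z hz => hy z (List.mem_cons_of_mem _ hz)) (m + 1)
    have hnull : Null y (CohIII.koszulCx M (ys ++ xs)) := by
      refine ⟨0, ?_⟩
      rw [smul_koszulCx_eq_zero M (hy y List.mem_cons_self), HomComplex.Cochain.ofHom_zero, HomComplex.δ_zero]
    obtain ⟨c⟩ := nonempty_homology_cone _ hnull m
    refine ⟨c ≪≫ₗ e₀.prodCongr e₁ ≪≫ₗ ?_ ≪≫ₗ
      (LinearEquiv.sumPiEquivProdPi A (Idx ys.length) (Idx ys.length)
        (fun i => (CohIII.koszulCx M xs).homology (m + deg (ys.length + 1) i))).symm⟩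
    exact (LinearEquiv.refl A _).prodCongr (LinearEquiv.piCongrRight fun i =>
      (CategoryTheory.eqToIso (congrArg (fun k => (CohIII.koszulCx M xs).homology k)
        (show m + 1 + (deg ys.length i : ℤ) = m + ((deg ys.length i + 1 : ℕ) : ℤ) by push_cast; ring))).toLinearEquiv)

open H1KoszPerm in
theorem nonempty_homology_concentrated (M : ModuleCat.{u} A) (xs ys : List A) (hy : ∀ y ∈ ys, y • 𝟙 M = 0)
    (hx : ∀ m : ℤ, m ≠ 0 → IsZero ((CohIII.koszulCx M xs).homology m)) (n : ℕ) :
    Nonempty ((CohIII.koszulCx M (ys ++ xs)).homology (-n : ℤ) ≃ₗ[A]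
      (Fin (ys.length.choose n) → (CohIII.koszulCx M xs).homology 0)) := by
  classical
  obtain ⟨e⟩ := nonempty_homology_append_zero M xs ys hy (-n : ℤ)
  let P : Idx ys.length → ModuleCat.{u} A := fun i => (CohIII.koszulCx M xs).homology (-(n : ℤ) + deg ys.length i)
  let T := {i : Idx ys.length // deg ys.length i = n}
  have hT : ∀ i : T, P i.1 = (CohIII.koszulCx M xs).homology 0 := fun i => by
    show (CohIII.koszulCx M xs).homology _ = _
    rw [i.2, neg_add_cancel]
  let pr : ((i : Idx ys.length) → P i) →ₗ[A] (T → (CohIII.koszulCx M xs).homology 0) :=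
    LinearMap.pi fun i => (CategoryTheory.eqToIso (hT i)).toLinearEquiv.toLinearMap.comp (LinearMap.proj i.1)
  have hsub : ∀ i, deg ys.length i ≠ n → Subsingleton (P i) := fun i hi =>
    ModuleCat.subsingleton_of_isZero (hx _ (by omega))
  have hb : Function.Bijective pr := by
    constructor
    · intro a b hab
      funext i
      by_cases hi : deg ys.length i = n
      · exact (CategoryTheory.eqToIso (hT ⟨i, hi⟩)).toLinearEquiv.injective (congrFun hab ⟨i, hi⟩)
      · exact (hsub i hi).elim _ _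
    · intro c
      refine ⟨fun i => if hi : deg ys.length i = n then
        (CategoryTheory.eqToIso (hT ⟨i, hi⟩)).toLinearEquiv.symm (c ⟨i, hi⟩) else 0, funext fun i => ?_⟩
      show (CategoryTheory.eqToIso (hT i)).toLinearEquiv (dite _ _ _) = c i
      rw [dif_pos i.2, LinearEquiv.apply_symm_apply]
  exact ⟨e ≪≫ₗ LinearEquiv.ofBijective pr hb ≪≫ₗ LinearEquiv.funCongrLeft A _
    (Finite.equivFinOfCardEq (card_deg ys.length n)).symm⟩

theorem exists_quasiIso_append (l : List A) (hl : LCI.IsKoszulRegularSeq A l) :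
    ∀ g : List A, ∃ ψ : CohIII.koszulCx (ModuleCat.of A A) (g ++ l) ⟶
      CohIII.koszulCx (ModuleCat.of A (A ⧸ Ideal.ofList l)) g, QuasiIso ψ
  | [] => KoszTor7.exists_quasiIso l hl
  | z :: g => by
    obtain ⟨ψ, hψ⟩ := exists_quasiIso_append l hl g
    letI := HasDerivedCategory.standard (ModuleCat.{u} A)
    let φ₁ := z • 𝟙 (CohIII.koszulCx (ModuleCat.of A A) (g ++ l))
    let φ₂ := z • 𝟙 (CohIII.koszulCx (ModuleCat.of A (A ⧸ Ideal.ofList l)) g)
    have hc : φ₁ ≫ ψ = ψ ≫ φ₂ := by simp [φ₁, φ₂]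
    let m : mappingCone φ₁ ⟶ mappingCone φ₂ := mappingCone.map φ₁ φ₂ ψ ψ hc
    refine ⟨m, ?_⟩
    rw [← DerivedCategory.isIso_Q_map_iff_quasiIso (ModuleCat.{u} A)]
    haveI : IsIso (DerivedCategory.Q.map ψ) := (DerivedCategory.isIso_Q_map_iff_quasiIso (ModuleCat.{u} A) ψ).2 hψ
    exact Pretriangulated.isIso₃_of_isIso₁₂
      (DerivedCategory.Q.mapTriangle.map (mappingCone.triangleMap φ₁ φ₂ ψ ψ hc))
      (DerivedCategory.mappingCone_triangle_distinguished φ₁) (DerivedCategory.mappingCone_triangle_distinguished φ₂)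
      (inferInstanceAs (IsIso (DerivedCategory.Q.map ψ))) (inferInstanceAs (IsIso (DerivedCategory.Q.map ψ)))

end


/-- Let A be a commutative ring and f, g, h finite sequences of elements of A such that the
concatenations f ++ g, f ++ h and f ++ g ++ h are Koszul-regular (their Koszul complexes are
resolutions of the quotients); put I = (f, g) and J = (f, h). Then for every i ≥ 1 the A-module
Tor_i^A(A/I, A/J) (Mathlib's Tor, left-derived in the second variable) is isomorphic to the i-th
exterior power over A of Tor_1^A(A/I, A/J). (The source takes exterior powers over O_T = A/(I+J),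
which for i ≥ 1 gives the same module since Tor_1 is killed by I + J; over A the case i = 0 would
give A instead of Tor_0 = A/(I+J), so it is left out. The source states this for closed subschemes
of a scheme locally of this form and identifies Tor_1 with the excess conormal bundle.) -/
theorem result (A : Type u) [CommRing A] (f g h : List A)
    (hfg : LCI.IsKoszulRegularSeq A (f ++ g)) (hfh : LCI.IsKoszulRegularSeq A (f ++ h)) (hfgh : LCI.IsKoszulRegularSeq A (f ++ g ++ h)) (i : ℕ) (hi : 1 ≤ i) :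
    Nonempty (((CategoryTheory.Tor (ModuleCat.{u} A) i).obj (ModuleCat.of A (A ⧸ Ideal.span {x | x ∈ f ++ g}))).obj (ModuleCat.of A (A ⧸ Ideal.span {x | x ∈ f ++ h})) ≅
      ModuleCat.of A (⋀[A]^i (((CategoryTheory.Tor (ModuleCat.{u} A) 1).obj (ModuleCat.of A (A ⧸ Ideal.span {x | x ∈ f ++ g}))).obj (ModuleCat.of A (A ⧸ Ideal.span {x | x ∈ f ++ h}))))) := by
  classical
  let l := f ++ h
  let N : ModuleCat.{u} A := ModuleCat.of A (A ⧸ Ideal.ofList l)
  have hgl : ∀ m : ℤ, m ≠ 0 → IsZero ((CohIII.koszulCx N g).homology m) := fun m hm => by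
    obtain ⟨ψ, hψ⟩ := exists_quasiIso_append l hfh g
    haveI := hψ
    refine IsZero.of_iso ?_ (asIso (HomologicalComplex.homologyMap ψ m)).symm
    have hperm : (g ++ l).Perm (f ++ g ++ h) := by
      rw [← List.append_assoc]
      exact List.perm_append_comm.append_right h
    obtain ⟨p⟩ := H1KoszPerm.koszulCx_perm (ModuleCat.of A A) hperm
    refine IsZero.of_iso ?_ (HomologicalComplex.homologyMapIso p m)
    have := hfgh m hm
    rw [← HomologicalComplex.exactAt_iff_isZero_homology, Groth.Agent.Synt29.koszul_eq,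
      HomologicalComplex.exactAt_iff_isZero_homology] at this
    exact this
  have hf : ∀ y ∈ f, y • 𝟙 N = 0 := fun y hy => by
    refine ModuleCat.hom_ext (LinearMap.ext fun x => ?_)
    obtain ⟨a, rfl⟩ := Submodule.mkQ_surjective (Ideal.ofList l) x
    show y • Submodule.mkQ (Ideal.ofList l) a = 0
    rw [← map_smul]
    exact (Submodule.Quotient.mk_eq_zero _).2
      (Ideal.mul_mem_right a _ (Ideal.subset_span (List.mem_append_left h hy)))
  let Kq : Ideal A := Ideal.ofList g ⊔ Ideal.ofList l
  obtain ⟨e0⟩ := Groth.Agent.Koszul15.nonempty_top_equiv g N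
  let q : A →ₗ[A] (A ⧸ Ideal.ofList l) ⧸ (Ideal.ofList g • (⊤ : Submodule A (A ⧸ Ideal.ofList l))) :=
    (Submodule.mkQ _).comp (Submodule.mkQ _)
  have hq : Function.Surjective q := (Submodule.mkQ_surjective _).comp (Submodule.mkQ_surjective _)
  have hker : LinearMap.ker q = Kq := by
    rw [LinearMap.ker_comp, Submodule.ker_mkQ,
      show Ideal.ofList g • (⊤ : Submodule A (A ⧸ Ideal.ofList l)) = Submodule.map (Submodule.mkQ (Ideal.ofList l)) (Ideal.ofList g) by
        rw [← Submodule.range_mkQ (Ideal.ofList l), ← Submodule.map_top, ← Submodule.map_smul'', Ideal.smul_eq_mul, Ideal.mul_top],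
      Submodule.comap_map_mkQ, sup_comm]
  let eQ : (CohIII.koszulCx N g).homology 0 ≃ₗ[A] A ⧸ Kq :=
    e0 ≪≫ₗ (LinearMap.quotKerEquivOfSurjective q hq).symm ≪≫ₗ Submodule.quotEquivOfEq _ _ hker
  have hT : ∀ n : ℕ, Nonempty (((CategoryTheory.Tor (ModuleCat.{u} A) n).obj (ModuleCat.of A (A ⧸ Ideal.span {x | x ∈ f ++ g}))).obj (ModuleCat.of A (A ⧸ Ideal.span {x | x ∈ f ++ h})) ≃ₗ[A]
      (Fin (f.length.choose n) → A ⧸ Kq)) := fun n => by
    obtain ⟨e⟩ := KoszTor7.nonempty_tor_iso (f ++ g) hfg N n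
    obtain ⟨e₁⟩ := H1KoszulEuler.nonempty_tensor_iso N (f ++ g)
    rw [Groth.Agent.Synt29.koszul_eq] at e₁
    obtain ⟨e₂⟩ := nonempty_homology_concentrated N g f hf hgl n
    exact ⟨(e ≪≫ HomologicalComplex.homologyMapIso e₁ _).toLinearEquiv ≪≫ₗ e₂ ≪≫ₗ
      LinearEquiv.piCongrRight fun _ => eQ⟩
  obtain ⟨t₁⟩ := hT 1
  obtain ⟨ti⟩ := hT i
  obtain ⟨x⟩ := nonempty_extPower A Kq f.length i hi
  let w : (((CategoryTheory.Tor (ModuleCat.{u} A) 1).obj (ModuleCat.of A (A ⧸ Ideal.span {x | x ∈ f ++ g}))).obj (ModuleCat.of A (A ⧸ Ideal.span {x | x ∈ f ++ h}))) ≃ₗ[A]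
      (Fin f.length → A ⧸ Kq) := t₁ ≪≫ₗ LinearEquiv.funCongrLeft A _ (finCongr (Nat.choose_one_right f.length).symm)
  refine ⟨(ti ≪≫ₗ x.symm ≪≫ₗ (LinearEquiv.ofLinear (exteriorPower.map i w.toLinearMap) (exteriorPower.map i w.symm.toLinearMap) ?_ ?_).symm).toModuleIso⟩
  · rw [← exteriorPower.map_comp, LinearEquiv.comp_coe, LinearEquiv.symm_trans_self, LinearEquiv.refl_toLinearMap, exteriorPower.map_id]
  · rw [← exteriorPower.map_comp, LinearEquiv.comp_coe, LinearEquiv.self_trans_symm, LinearEquiv.refl_toLinearMap, exteriorPower.map_id]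

end Groth.Agent.S3195
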