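import Groth.Statements.S3196
import Groth.Agent.KoszTor7.Basic
import Groth.Agent.S2103
import Groth.Agent.KRegLib.Kinds
import Groth.Agent.QRegBC.Basic
import Groth.Agent.TorBridge.LES
import Groth.Agent.H9Misc.DRingTorDim
import Mathlib

set_option autoImplicit false
set_option backward.isDefEq.respectTransparency false
set_option backward.isDefEq.respectTransparency.types false
universe u
open CategoryTheory CategoryTheory.Limits
open SGA6

namespace Groth.Agent.S3196

/-- Let A be a commutative ring, fs a Koszul-regular sequence in A generating the ideal J, and A' a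
commutative A-algebra in which the image of fs is again Koszul-regular. Then for every n ≥ 0 and i ≥
1, Tor_i^A(Jⁿ, A') = 0 and Tor_i^A(Jⁿ/Jⁿ⁺¹, A') = 0 (Mathlib's Tor on A-modules). (The source also
derives Jⁿ ⊗_A A' ≅ J'ⁿ and Jⁿ/Jⁿ⁺¹ ⊗_A A' ≅ J'ⁿ/J'ⁿ⁺¹ for J' = JA', and works with a regular
homomorphism from any finite projective module.) -/
theorem result (A : Type u) [CommRing A] (A' : Type u) [CommRing A'] [Algebra A A']
    (fs : List A) (hfs : LCI.IsKoszulRegularSeq A fs) (hfs' : LCI.IsKoszulRegularSeq A' (fs.map (algebraMap A A')))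
    (n : ℕ) (i : ℕ) (hi : 1 ≤ i) :
    IsZero (((Tor (ModuleCat.{u} A) i).obj (ModuleCat.of A ↥(Ideal.span {x | x ∈ fs} ^ n))).obj (ModuleCat.of A A')) ∧
    IsZero (((Tor (ModuleCat.{u} A) i).obj (ModuleCat.of A
      (↥(Ideal.span {x | x ∈ fs} ^ n) ⧸ Submodule.comap (Ideal.span {x | x ∈ fs} ^ n).subtype (Ideal.span {x | x ∈ fs} ^ (n + 1))))).obj (ModuleCat.of A A')) := by
  obtain ⟨k, rfl⟩ : ∃ j, i = j + 1 := ⟨i - 1, by omega⟩
  let f : Fin fs.length → A := fs.get
  have hr : Set.range f = {x | x ∈ fs} := by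
    ext y
    simp [f, List.mem_iff_get]
  have hq : CAlgX.IsQuasiRegular f :=
    Groth.Agent.S2103.result _ (Groth.Agent.KRegLib.h1_of_koszul fs hfs)
  rw [← hr]
  have h0 : ∀ m : ℕ, IsZero (((Tor (ModuleCat.{u} A) (m + 1)).obj
      (ModuleCat.of A (A ⧸ Ideal.span (Set.range f)))).obj (ModuleCat.of A A')) := by
    rw [hr]
    exact Groth.Agent.KoszTor7.isZero_tor_succ fs hfs hfs'
  let gr : ℕ → Type u := fun m => ↥(Ideal.span (Set.range f) ^ m) ⧸
    Submodule.comap (Ideal.span (Set.range f) ^ m).subtype (Ideal.span (Set.range f) ^ (m + 1))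
  have hgr : ∀ m j : ℕ, IsZero (((Tor (ModuleCat.{u} A) (j + 1)).obj
      (ModuleCat.of A (gr m))).obj (ModuleCat.of A A')) := by
    intro m j
    let L : ↥(Ideal.span (Set.range f) ^ m) →ₗ[A] A ⧸ Ideal.span (Set.range f) ^ (m + 1) :=
      (Submodule.mkQ _).comp (Submodule.subtype _)
    have hk : LinearMap.ker L = Submodule.comap (Ideal.span (Set.range f) ^ m).subtype
        (Ideal.span (Set.range f) ^ (m + 1)) := by
      simp only [L]
      rw [LinearMap.ker_comp, Submodule.ker_mkQ]
    have hL : LinearMap.range L = LinearMap.range (Groth.Agent.QRegBC.iota f m hq) := by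
      rw [← (LinearMap.exact_iff.1 (Groth.Agent.QRegBC.iota_exact f m hq))]
      simp only [L]
      rw [LinearMap.range_comp, Submodule.range_subtype]
      ext y
      obtain ⟨b, rfl⟩ := Submodule.Quotient.mk_surjective _ y
      constructor
      · rintro ⟨z, hz, hzb⟩
        rw [← hzb]
        exact (Submodule.Quotient.mk_eq_zero _).2 hz
      · intro hb
        exact Submodule.mem_map_of_mem (f := Submodule.mkQ _) ((Submodule.Quotient.mk_eq_zero _).1 hb)
    let e : gr m ≃ₗ[A] (Groth.Agent.QRegBC.Mon fs.length m → A ⧸ Ideal.span (Set.range f)) :=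
      (Submodule.quotEquivOfEq _ _ hk.symm).trans (L.quotKerEquivRange.trans
        ((LinearEquiv.ofEq _ _ hL).trans
          (LinearEquiv.ofInjective _ (Groth.Agent.QRegBC.iota_injective f m hq)).symm))
    exact IsZero.of_iso (Groth.Agent.KoszTor7.isZero_tor_pi _ _ _ (h0 j) _)
      (((Tor (ModuleCat.{u} A) (j + 1)).mapIso e.toModuleIso).app _)
  refine ⟨?_, hgr n k⟩
  suffices h : ∀ m j : ℕ, IsZero (((Tor (ModuleCat.{u} A) (j + 1)).obj
      (ModuleCat.of A ↥(Ideal.span (Set.range f) ^ m))).obj (ModuleCat.of A A')) from h n k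
  intro m
  induction m with
  | zero =>
    intro j
    haveI : Module.Flat A ↥(Ideal.span (Set.range f) ^ 0) :=
      Module.Flat.of_linearEquiv ((LinearEquiv.ofEq _ ⊤ (by rw [pow_zero, Ideal.one_eq_top])).trans
        Submodule.topEquiv)
    exact Groth.Agent.TorBridge.isZero_tor_succ_of_flat _ _ j
  | succ m ih =>
    intro j
    let incl : ↥(Ideal.span (Set.range f) ^ (m + 1)) →ₗ[A] ↥(Ideal.span (Set.range f) ^ m) :=
      Submodule.inclusion (Ideal.pow_le_pow_right (Nat.le_succ m))
    let pr : ↥(Ideal.span (Set.range f) ^ m) →ₗ[A] gr m := Submodule.mkQ _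
    have hex : Function.Exact incl pr := by
      intro x
      constructor
      · intro hx
        exact ⟨⟨x.1, ((Submodule.Quotient.mk_eq_zero _).1 hx : x ∈ Submodule.comap _ _)⟩, Subtype.ext rfl⟩
      · rintro ⟨y, rfl⟩
        exact (Submodule.Quotient.mk_eq_zero _).2 y.2
    let S : ShortComplex (ModuleCat.{u} A) := ShortComplex.mk (ModuleCat.ofHom incl) (ModuleCat.ofHom pr)
      (ModuleCat.hom_ext (LinearMap.ext fun v => (hex _).2 ⟨v, rfl⟩))
    have hS : S.ShortExact :=
      { exact := (ShortComplex.ShortExact.moduleCat_exact_iff_function_exact _).2 hex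
        mono_f := (ModuleCat.mono_iff_injective _).2 (Submodule.inclusion_injective (Ideal.pow_le_pow_right (Nat.le_succ m)))
        epi_g := (ModuleCat.epi_iff_surjective _).2 (Submodule.mkQ_surjective _) }
    exact Groth.Agent.H9Misc.DRingTor.isZero_tor_first hS _ (j + 1) (ih j) (hgr m (j + 1))

end Groth.Agent.S3196
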