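import Groth.Statements.S3197
import Groth.Agent.KPE7.PnData

set_option autoImplicit false
universe u
open CategoryTheory CategoryTheory.Limits AlgebraicGeometry
attribute [local instance] HasDerivedCategory.standard
open SGA6

namespace Groth.Agent.S3197

theorem mapSub_clSub {A : Type*} [Category A] [Abelian A] {B : Type*} [Category B] [Abelian B]
    (F : A ⥤ B) [F.Additive] [PreservesFiniteLimits F] [PreservesFiniteColimits F]
    (P : ObjectProperty A) (Q : ObjectProperty B) (h : ∀ X, P X → Q (F.obj X)) {X : A} (hX : P X) :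
    SGA6.mapSub F P Q h (KZero.clSub P X) = KZero.clSub Q (F.obj X) := by
  rw [Groth.Agent.KZ.clSub_of_prop P hX, Groth.Agent.KZ.clSub_of_prop Q (h X hX)]
  simp [SGA6.mapSub, FreeAbelianGroup.map_of_apply, SGA6.objMap]


/-- For the trivial bundle E = O_S^{r+1}: let S be a quasi-compact scheme, P = P^r_S with structure
morphism f : P ⟶ S, and K^•(−) = K₀ of finite locally free modules. Pullback along the flat morphism
f and tensoring with the invertible modules O_P(i) are exact (carried as instance hypotheses) and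
preserve finite locally free modules (hypotheses hf, ht), so induce additive maps f^* : K^•(S) ⟶
K^•(P) and (− · [O_P(i)]) : K^•(P) ⟶ K^•(P). Then K^•(P) is free over K^•(S) with basis the classes
of O_P(i), 0 ≤ i ≤ r: the map (x_0, …, x_r) ↦ Σ_i f^*(x_i)·[O_P(i)] from K^•(S)^{r+1} to K^•(P) is
bijective. (The source treats P(E) for any locally free E of rank r + 1.) -/
theorem result (S : Scheme.{u}) [CompactSpace ↥S] (r : ℕ)
    [(Scheme.Modules.pullback (CohB1.ProjSpaceOver.toBase r S)).Additive] [PreservesFiniteLimits (Scheme.Modules.pullback (CohB1.ProjSpaceOver.toBase r S))]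
    [PreservesFiniteColimits (Scheme.Modules.pullback (CohB1.ProjSpaceOver.toBase r S))]
    (hf : ∀ M : S.Modules, FlatMod.IsFinLocFree M → FlatMod.IsFinLocFree ((Scheme.Modules.pullback (CohB1.ProjSpaceOver.toBase r S)).obj M))
    [∀ i : ℕ, PreservesFiniteLimits ((DCoh.tensorBi (X := CohB1.ProjSpaceOver r S)).obj (Twist.twistOver r S (i : ℤ)))]
    [∀ i : ℕ, PreservesFiniteColimits ((DCoh.tensorBi (X := CohB1.ProjSpaceOver r S)).obj (Twist.twistOver r S (i : ℤ)))]
    (ht : ∀ (i : ℕ) (M : (CohB1.ProjSpaceOver r S).Modules), FlatMod.IsFinLocFree M →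
      FlatMod.IsFinLocFree (((DCoh.tensorBi (X := CohB1.ProjSpaceOver r S)).obj (Twist.twistOver r S (i : ℤ))).obj M)) :
    Function.Bijective (fun x : Fin (r + 1) → SGA6.Kvb S =>
      ∑ i : Fin (r + 1), (SGA6.mapSub ((DCoh.tensorBi (X := CohB1.ProjSpaceOver r S)).obj (Twist.twistOver r S ((i : ℕ) : ℤ))) (fun M : (CohB1.ProjSpaceOver r S).Modules => FlatMod.IsFinLocFree M) (fun M : (CohB1.ProjSpaceOver r S).Modules => FlatMod.IsFinLocFree M) (ht i))
        ((SGA6.mapSub (Scheme.Modules.pullback (CohB1.ProjSpaceOver.toBase r S)) (fun M : (S).Modules => FlatMod.IsFinLocFree M) (fun M : (CohB1.ProjSpaceOver r S).Modules => FlatMod.IsFinLocFree M) hf) (x i))) := by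
  let P := fun M : S.Modules => FlatMod.IsFinLocFree M
  letI := ExtPow7.Lam.commRing S
  letI := ExtPow7.Lam.commRing (CohB1.ProjSpaceOver r S)
  obtain ⟨q, B⟩ := KPE7.bd_pr r S
  refine (congrArg Function.Bijective (funext fun x => ?_)).mpr (B.bijective_window 0)
  show _ = ∑ i : Fin (r + 1), _
  refine Finset.sum_congr rfl fun i _ => ?_
  rw [show (0 : ℤ) + ((i : ℕ) : ℤ) = ((i : ℕ) : ℤ) from zero_add _]
  have h1 : ∀ y, SGA6.mapSub (Scheme.Modules.pullback (CohB1.ProjSpaceOver.toBase r S))
      (fun M : (S).Modules => FlatMod.IsFinLocFree M) (fun M : (CohB1.ProjSpaceOver r S).Modules => FlatMod.IsFinLocFree M) hf y =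
      KPE7.pullK (KRR.pr r S) y := fun y => by
    refine DFunLike.congr_fun (KZ.K0sub_hom_ext _ (g := (KPE7.pullK (KRR.pr r S)).toAddMonoidHom) fun N hN => ?_) y
    exact (mapSub_clSub _ _ _ hf hN).trans (KPE7.pullK_c (KRR.pr r S) hN).symm
  rw [h1]
  generalize KPE7.pullK (KRR.pr r S) (x i) = y
  refine (DFunLike.congr_fun (KZ.K0sub_hom_ext _ (g := AddMonoidHom.mulLeft
    (ExtPow7.Lam.c (Twist.twistOver r S ((i : ℕ) : ℤ)))) fun M hM => ?_) y).trans (mul_comm _ _)
  exact (mapSub_clSub _ _ _ (ht i) hM).trans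
    (KPE7.c_tensor (KPE7.flf_inv (RegSheaf7.isInvertible_twistOver _)) hM)

end Groth.Agent.S3197
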