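import Groth.Statements.S3206
-- import your own Groth.Agent.* helpers here

set_option autoImplicit false
open SGA7

namespace Groth.Agent.S3206

open Finsupp MvPowerSeries

variable {k : Type} [Field k] {n : ℕ}

/-- all coefficients in degree `< d` vanish -/
def V (d : ℕ) (g : MvPowerSeries (Fin n) k) : Prop :=
  ∀ m : Fin n →₀ ℕ, m.degree < d → coeff m g = 0

theorem V.zero {d} : V d (0 : MvPowerSeries (Fin n) k) := fun _ _ => map_zero _
theorem V.mono {a b} {g : MvPowerSeries (Fin n) k} (h : V a g) (hab : b ≤ a) : V b g :=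
  fun m hm => h m (lt_of_lt_of_le hm hab)
theorem V.add {d} {g h : MvPowerSeries (Fin n) k} (hg : V d g) (hh : V d h) : V d (g + h) :=
  fun m hm => by rw [map_add, hg m hm, hh m hm, add_zero]
theorem V.neg {d} {g : MvPowerSeries (Fin n) k} (hg : V d g) : V d (-g) :=
  fun m hm => by rw [map_neg, hg m hm, neg_zero]
theorem V.sub {d} {g h : MvPowerSeries (Fin n) k} (hg : V d g) (hh : V d h) : V d (g - h) := by
  rw [sub_eq_add_neg]; exact hg.add hh.neg
theorem V.sum {d} {ι : Type} (s : Finset ι) {g : ι → MvPowerSeries (Fin n) k}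
    (hg : ∀ i ∈ s, V d (g i)) : V d (∑ i ∈ s, g i) :=
  fun m hm => by rw [map_sum]; exact Finset.sum_eq_zero fun i hi => hg i hi m hm
theorem V.mul {a b} {g h : MvPowerSeries (Fin n) k} (hg : V a g) (hh : V b h) :
    V (a + b) (g * h) := by
  classical
  intro m hm
  rw [coeff_mul]
  refine Finset.sum_eq_zero fun p hp => ?_
  have hd : p.1.degree + p.2.degree = m.degree := by
    rw [← map_add, Finset.mem_antidiagonal.1 hp]
  by_cases h1 : p.1.degree < a
  · rw [hg _ h1, zero_mul]
  · rw [hh _ (by omega), mul_zero]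
theorem V.C_mul {d} {g : MvPowerSeries (Fin n) k} (c : k) (hg : V d g) : V d (C c * g) :=
  fun m hm => by rw [coeff_C_mul, hg m hm, mul_zero]

theorem exists_single_of_degree_succ {d : ℕ} (m : Fin n →₀ ℕ) (h : m.degree = d + 1) :
    ∃ a m', m = Finsupp.single a 1 + m' ∧ m'.degree = d := by
  classical
  have hne : m ≠ 0 := fun h0 => by simp [h0] at h
  obtain ⟨a, ha⟩ := Finsupp.support_nonempty_iff.2 hne
  have hle : Finsupp.single a 1 ≤ m := by
    rw [Finsupp.single_le_iff]; exact Nat.one_le_iff_ne_zero.2 (Finsupp.mem_support_iff.1 ha)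
  refine ⟨a, m - Finsupp.single a 1, (add_tsub_cancel_of_le hle).symm, ?_⟩
  have := congrArg Finsupp.degree (add_tsub_cancel_of_le hle)
  rw [map_add, h, Finsupp.degree_single] at this
  omega

theorem exists_single_of_degree_one (m : Fin n →₀ ℕ) (h : m.degree = 1) :
    ∃ a, m = Finsupp.single a 1 := by
  obtain ⟨a, m', rfl, hm'⟩ := exists_single_of_degree_succ m h
  exact ⟨a, by rw [(Finsupp.degree_eq_zero_iff m').1 hm', add_zero]⟩

theorem exists_single_of_degree_two (m : Fin n →₀ ℕ) (h : m.degree = 2) :
    ∃ a b, m = Finsupp.single a 1 + Finsupp.single b 1 := by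
  obtain ⟨a, m', rfl, hm'⟩ := exists_single_of_degree_succ m h
  obtain ⟨b, rfl⟩ := exists_single_of_degree_one m' hm'
  exact ⟨a, b, rfl⟩

/-- the `j`-th component in the decomposition `g = ∑ X j * split g j` -/
noncomputable def split (g : MvPowerSeries (Fin n) k) (j : Fin n) : MvPowerSeries (Fin n) k :=
  fun m => if ∀ a < j, m a = 0 then coeff (m + Finsupp.single j 1) g else 0

theorem coeff_split (g : MvPowerSeries (Fin n) k) (j : Fin n) (m : Fin n →₀ ℕ) :
    coeff m (split g j) = if ∀ a < j, m a = 0 then coeff (m + Finsupp.single j 1) g else 0 := rfl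

theorem split_sub (g h : MvPowerSeries (Fin n) k) (j : Fin n) :
    split (g - h) j = split g j - split h j := by
  ext m
  simp only [coeff_split, map_sub]
  split_ifs <;> simp

theorem V.split {d} {g : MvPowerSeries (Fin n) k} (hg : V (d + 1) g) (j : Fin n) :
    V d (S3206.split g j) := fun m hm => by
  rw [coeff_split]
  split_ifs
  · exact hg _ (by rw [map_add, Finsupp.degree_single]; omega)
  · rfl

theorem sum_X_mul_split {g : MvPowerSeries (Fin n) k} (hg : V 1 g) :
    ∑ j, X j * split g j = g := by
  classical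
  ext M
  rw [map_sum]
  simp only [X, coeff_monomial_mul, one_mul]
  rcases eq_or_ne M 0 with rfl | hM
  · rw [hg 0 (by simp)]
    refine Finset.sum_eq_zero fun j _ => if_neg ?_
    rw [Finsupp.single_le_iff]
    simp
  · have hne : M.support.Nonempty := Finsupp.support_nonempty_iff.2 hM
    let j0 := M.support.min' hne
    have hj0 : M j0 ≠ 0 := Finsupp.mem_support_iff.1 (M.support.min'_mem hne)
    have hmin : ∀ a, M a ≠ 0 → j0 ≤ a := fun a ha =>
      M.support.min'_le a (Finsupp.mem_support_iff.2 ha)
    have hle : Finsupp.single j0 1 ≤ M := by rw [Finsupp.single_le_iff]; omega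
    rw [Finset.sum_eq_single j0 ?_ (fun h => absurd (Finset.mem_univ _) h), if_pos hle, coeff_split,
      if_pos, tsub_add_cancel_of_le hle]
    · intro a ha
      by_contra hc
      refine absurd (hmin a ?_) (not_le.2 ha)
      intro h0
      apply hc
      rw [Finsupp.tsub_apply, h0, Nat.zero_sub]
    · intro j _ hj
      split_ifs with hle'
      · rw [coeff_split, if_neg]
        intro hall
        rw [Finsupp.single_le_iff] at hle'
        have hlt : j0 < j := lt_of_le_of_ne (hmin j (by omega)) (Ne.symm hj)
        have := hall j0 hlt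
        rw [Finsupp.tsub_apply, Finsupp.single_eq_of_ne (ne_of_lt hlt), tsub_zero] at this
        exact hj0 this
      · rfl

theorem coeff_single_mul (a b : MvPowerSeries (Fin n) k) (hb : constantCoeff b = 0) (l : Fin n) :
    coeff (Finsupp.single l 1) (a * b) = constantCoeff a * coeff (Finsupp.single l 1) b := by
  classical
  rw [coeff_mul, ← coeff_zero_eq_constantCoeff_apply]
  refine Finset.sum_eq_single ((0 : Fin n →₀ ℕ), Finsupp.single l 1) ?_ ?_
  · intro p hp hne
    have hp' : p.1 + p.2 = Finsupp.single l 1 := Finset.mem_antidiagonal.1 hp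
    have hd : p.1.degree + p.2.degree = 1 := by rw [← map_add, hp', Finsupp.degree_single]
    have h2 : p.2.degree = 0 := by
      by_contra h2
      have h1 : p.1 = 0 := (Finsupp.degree_eq_zero_iff _).1 (by omega)
      rw [h1, zero_add] at hp'
      exact hne (Prod.ext h1 hp')
    rw [(Finsupp.degree_eq_zero_iff _).1 h2, coeff_zero_eq_constantCoeff_apply, hb, mul_zero]
  · intro h
    exact absurd (Finset.mem_antidiagonal.2 (zero_add _)) h

/-- quadratic identity -/
theorem aeval_add_of_deg_two {ι : Type} (s : Finset ι) (c : ι → k) (a b : ι → Fin n)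
    (e : Fin n → MvPowerSeries (Fin n) k) :
    MvPolynomial.aeval (fun i => X i + e i)
        (∑ t ∈ s, MvPolynomial.C (c t) * (MvPolynomial.X (a t) * MvPolynomial.X (b t))) =
      ((∑ t ∈ s, MvPolynomial.C (c t) * (MvPolynomial.X (a t) * MvPolynomial.X (b t)) :
          MvPolynomial (Fin n) k) : MvPowerSeries (Fin n) k) +
      ∑ i, e i * ((MvPolynomial.pderiv i
        (∑ t ∈ s, MvPolynomial.C (c t) * (MvPolynomial.X (a t) * MvPolynomial.X (b t))) :
          MvPolynomial (Fin n) k) : MvPowerSeries (Fin n) k) +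
      MvPolynomial.aeval e
        (∑ t ∈ s, MvPolynomial.C (c t) * (MvPolynomial.X (a t) * MvPolynomial.X (b t))) := by
  classical
  induction s using Finset.induction_on with
  | empty => simp
  | @insert t s hts ih =>
    simp only [Finset.sum_insert hts, map_add, MvPolynomial.coe_add, mul_add,
      Finset.sum_add_distrib, ih]
    have h : ∑ i, e i * ((MvPolynomial.pderiv i
        (MvPolynomial.C (c t) * (MvPolynomial.X (a t) * MvPolynomial.X (b t))) :
          MvPolynomial (Fin n) k) : MvPowerSeries (Fin n) k) =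
        C (c t) * (e (a t) * X (b t)) + C (c t) * (X (a t) * e (b t)) := by
      simp only [MvPolynomial.pderiv_C_mul, MvPolynomial.pderiv_mul, MvPolynomial.pderiv_X]
      simp [Pi.single_apply, mul_add, Finset.sum_add_distrib, ite_mul, mul_ite,
        apply_ite (fun p : MvPolynomial (Fin n) k => (p : MvPowerSeries (Fin n) k))]
      ring
    rw [h]
    simp [MvPowerSeries.algebraMap_apply]
    ring

theorem core (q : MvPolynomial (Fin n) k) (S : Finset (Fin n →₀ ℕ))
    (c : (Fin n →₀ ℕ) → k) (a b : (Fin n →₀ ℕ) → Fin n)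
    (hq : q = ∑ t ∈ S, MvPolynomial.C (c t) * (MvPolynomial.X (a t) * MvPolynomial.X (b t)))
    (G : MvPowerSeries (Fin n) k) (hG : V 3 G) (M : Matrix (Fin n) (Fin n) k)
    (L : Fin n → MvPowerSeries (Fin n) k)
    (hL : ∀ j, ∑ i, C (M j i) * L i = X j) :
    (∀ i, ((MvPolynomial.pderiv i q : MvPolynomial (Fin n) k) : MvPowerSeries (Fin n) k) = L i) →
    ∃ e : Fin n → MvPowerSeries (Fin n) k, (∀ i, V 2 (e i)) ∧
      MvPolynomial.aeval (fun i => X i + e i) q = (q : MvPowerSeries (Fin n) k) + G := by
  intro hpd
  let Q : (Fin n → MvPowerSeries (Fin n) k) → MvPowerSeries (Fin n) k :=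
    fun e => MvPolynomial.aeval e q
  let T : (Fin n → MvPowerSeries (Fin n) k) → Fin n → MvPowerSeries (Fin n) k :=
    fun e i => ∑ j, C (M j i) * split (G - Q e) j
  have hQ2 : ∀ e, (∀ i, V 2 (e i)) → V 4 (Q e) := by
    intro e he
    simp only [Q, hq, map_sum, map_mul, MvPolynomial.aeval_C, MvPolynomial.aeval_X,
      MvPowerSeries.algebraMap_apply, Algebra.algebraMap_self, RingHom.id_apply]
    exact V.sum S fun t _ => V.C_mul _ ((he _).mul (he _))
  have hQd : ∀ e e' d, (∀ i, V 2 (e i)) → (∀ i, V 2 (e' i)) → (∀ i, V d (e i - e' i)) →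
      V (d + 2) (Q e - Q e') := by
    intro e e' d he he' hd
    simp only [Q, hq, map_sum, map_mul, MvPolynomial.aeval_C, MvPolynomial.aeval_X,
      MvPowerSeries.algebraMap_apply, Algebra.algebraMap_self, RingHom.id_apply,
      ← Finset.sum_sub_distrib, ← mul_sub]
    refine V.sum S fun t _ => V.C_mul _ ?_
    have : e (a t) * e (b t) - e' (a t) * e' (b t) =
        (e (a t) - e' (a t)) * e (b t) + e' (a t) * (e (b t) - e' (b t)) := by ring
    rw [this]
    exact ((hd _).mul (he _)).add (((he' _).mul (hd _)).mono (by omega))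
  have hT2 : ∀ e, (∀ i, V 2 (e i)) → ∀ i, V 2 (T e i) := fun e he i =>
    V.sum _ fun j _ => V.C_mul _ (V.split (hG.sub ((hQ2 e he).mono (by omega))) j)
  have hTd : ∀ e e' d, (∀ i, V 2 (e i)) → (∀ i, V 2 (e' i)) → (∀ i, V d (e i - e' i)) →
      ∀ i, V (d + 1) (T e i - T e' i) := by
    intro e e' d he he' hd i
    simp only [T, ← Finset.sum_sub_distrib, ← mul_sub, ← split_sub]
    refine V.sum _ fun j _ => V.C_mul _ (V.split ?_ j)
    rw [show G - Q e - (G - Q e') = -(Q e - Q e') by ring]
    exact (hQd e e' d he he' hd).neg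
  let E : ℕ → Fin n → MvPowerSeries (Fin n) k := fun N => T^[N] 0
  have hE2 : ∀ N i, V 2 (E N i) := by
    intro N
    induction N with
    | zero => exact fun i => V.zero
    | succ N ih => simp only [E, Function.iterate_succ_apply']; exact hT2 _ ih
  have hEd : ∀ N i, V (N + 2) (E (N + 1) i - E N i) := by
    intro N
    induction N with
    | zero => exact fun i => (hE2 1 i).sub (hE2 0 i)
    | succ N ih =>
      intro i
      simp only [E, Function.iterate_succ_apply']
      exact hTd _ _ (N + 2) (hT2 _ (hE2 N)) (hE2 N) (by simpa [E, Function.iterate_succ_apply'] using ih) i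
  have hstab : ∀ N r i, V (N + 2) (E (N + r) i - E N i) := by
    intro N r i
    induction r with
    | zero => simpa using V.zero
    | succ r ih =>
      have := ((hEd (N + r) i).mono (b := N + 2) (by omega)).add ih
      simpa [← add_assoc] using this
  let e : Fin n → MvPowerSeries (Fin n) k := fun i m => coeff m (E m.degree i)
  have hlim : ∀ N i, V (N + 2) (e i - E N i) := by
    intro N i m hm
    rw [map_sub, sub_eq_zero]
    change coeff m (E m.degree i) = _
    rcases le_or_gt m.degree N with h | h
    · obtain ⟨r, hr⟩ := Nat.exists_eq_add_of_le h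
      have := hstab m.degree r i m (by omega)
      rw [map_sub, sub_eq_zero, ← hr] at this
      exact this.symm
    · obtain ⟨r, hr⟩ := Nat.exists_eq_add_of_le h.le
      have := hstab N r i m hm
      rw [map_sub, sub_eq_zero, ← hr] at this
      exact this
  have he2 : ∀ i, V 2 (e i) := fun i => by
    have := (hlim 0 i).add (hE2 0 i)
    simpa using this
  have hfix : ∀ i, T e i = e i := by
    intro i
    ext m
    have h1 := hTd e (E m.degree) (m.degree + 2) he2 (hE2 _) (hlim m.degree) i m (by omega)
    have h2 := hlim (m.degree + 1) i m (by omega)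
    rw [map_sub, sub_eq_zero] at h1 h2
    rw [h1, h2]
    simp only [E, Function.iterate_succ_apply']
  refine ⟨e, he2, ?_⟩
  have hsum : ∑ i, e i * L i = G - Q e := by
    calc ∑ i, e i * L i = ∑ i, (∑ j, C (M j i) * split (G - Q e) j) * L i := by
          refine Finset.sum_congr rfl fun i _ => ?_
          exact congrArg (· * L i) (hfix i).symm
      _ = ∑ j, split (G - Q e) j * ∑ i, C (M j i) * L i := by
          simp only [Finset.sum_mul, Finset.mul_sum]
          rw [Finset.sum_comm]
          exact Finset.sum_congr rfl fun j _ => Finset.sum_congr rfl fun i _ => by ring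
      _ = ∑ j, X j * split (G - Q e) j := Finset.sum_congr rfl fun j _ => by rw [hL, mul_comm]
      _ = _ := sum_X_mul_split ((hG.sub ((hQ2 e he2).mono (by omega))).mono (by omega))
  have := aeval_add_of_deg_two S c a b e
  rw [← hq] at this
  rw [this]
  simp only [hpd, hsum, Q]
  ring

/-- Let k be a field and f a formal power series in n variables over k without constant term whose
partial derivatives ∂f/∂x_1, …, ∂f/∂x_n generate the maximal ideal of k[[x_1, …, x_n]]. Then there
are power series ε_1, …, ε_n with no terms of degree < 2 and a quadratic form q such that f = q(x_1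
+ ε_1, …, x_n + ε_n). -/
theorem result (k : Type) [Field k] (n : ℕ) (f : MvPowerSeries (Fin n) k)
    (hf0 : MvPowerSeries.constantCoeff f = 0)
    (hJ : Ideal.span (Set.range fun i : Fin n => MvPowerSeries.pderiv k i f) = IsLocalRing.maximalIdeal (MvPowerSeries (Fin n) k)) :
    ∃ (ε : Fin n → MvPowerSeries (Fin n) k) (_ : ∀ i (m : Fin n →₀ ℕ), m.degree < 2 → MvPowerSeries.coeff m (ε i) = 0)
      (q : MvPolynomial (Fin n) k) (_ : q.IsHomogeneous 2)
      (_ : MvPowerSeries.HasSubst (fun i : Fin n => MvPowerSeries.X i + ε i)),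
      f = MvPowerSeries.subst (fun i : Fin n => MvPowerSeries.X i + ε i) (q : MvPowerSeries (Fin n) k) := by
  classical
  have h0 : ∀ i, MvPowerSeries.constantCoeff (MvPowerSeries.pderiv k i f) = 0 := fun i => by
    have hm : MvPowerSeries.pderiv k i f ∈ IsLocalRing.maximalIdeal (MvPowerSeries (Fin n) k) :=
      hJ ▸ Ideal.subset_span ⟨i, rfl⟩
    rw [IsLocalRing.mem_maximalIdeal, mem_nonunits_iff, MvPowerSeries.isUnit_iff_constantCoeff,
      isUnit_iff_ne_zero, not_not] at hm
    exact hm
  have hlin : ∀ i, coeff (Finsupp.single i 1) f = 0 := fun i => by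
    have := h0 i
    rw [← coeff_zero_eq_constantCoeff_apply, coeff_pderiv] at this
    simpa using this
  have hex : ∀ j, ∃ c : Fin n → MvPowerSeries (Fin n) k,
      ∑ i, c i * MvPowerSeries.pderiv k i f = X j := fun j => by
    have hm : (X j : MvPowerSeries (Fin n) k) ∈ Ideal.span
        (Set.range fun i : Fin n => MvPowerSeries.pderiv k i f) := by
      rw [hJ, IsLocalRing.mem_maximalIdeal, mem_nonunits_iff, MvPowerSeries.isUnit_iff_constantCoeff]
      simp
    exact Ideal.mem_span_range_iff_exists_fun.1 hm
  choose cc hcc using hex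
  let M : Matrix (Fin n) (Fin n) k := fun j i => constantCoeff (cc j i)
  have hMH : ∀ j l, ∑ i, M j i * coeff (Finsupp.single l 1) (MvPowerSeries.pderiv k i f) =
      if l = j then 1 else 0 := fun j l => by
    have := congrArg (coeff (Finsupp.single l 1)) (hcc j)
    rw [map_sum, coeff_X] at this
    simp only [coeff_single_mul _ _ (h0 _), Finsupp.single_left_inj one_ne_zero] at this
    exact this
  have hfin : {m : Fin n →₀ ℕ | m.degree = 2}.Finite :=
    (Set.finite_Iic (Finsupp.equivFunOnFinite.symm fun _ : Fin n => 2)).subset fun m hm a => by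
      have : m a ≤ m.degree := Finsupp.le_degree a m
      simp only [Set.mem_ofPred_eq] at hm
      change m a ≤ 2
      omega
  let S := hfin.toFinset
  have hS : ∀ m, m ∈ S ↔ m.degree = 2 := fun m => by simp [S]
  rcases isEmpty_or_nonempty (Fin n) with hn | hn
  · refine ⟨fun i => 0, fun i => isEmptyElim i, 0, MvPolynomial.isHomogeneous_zero _ _ _,
      MvPowerSeries.hasSubst_of_constantCoeff_zero fun i => isEmptyElim i, ?_⟩
    rw [subst_coe, map_zero]
    ext m
    rw [show m = 0 from Finsupp.ext fun i => isEmptyElim i, coeff_zero_eq_constantCoeff_apply, hf0,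
      map_zero]
  have hab : ∀ m : Fin n →₀ ℕ, ∃ ab : Fin n × Fin n, m.degree = 2 →
      m = Finsupp.single ab.1 1 + Finsupp.single ab.2 1 := fun m => by
    by_cases h : m.degree = 2
    · obtain ⟨a, b, e⟩ := exists_single_of_degree_two m h
      exact ⟨(a, b), fun _ => e⟩
    · exact ⟨Classical.arbitrary _, fun h' => absurd h' h⟩
  choose ab hab using hab
  let q : MvPolynomial (Fin n) k := ∑ t ∈ S, MvPolynomial.C (coeff t f) *
    (MvPolynomial.X (ab t).1 * MvPolynomial.X (ab t).2)
  have hcq : ∀ m, MvPolynomial.coeff m q = if m.degree = 2 then coeff m f else 0 := fun m => by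
    have hmon : ∀ t ∈ S, MvPolynomial.C (coeff t f) *
        (MvPolynomial.X (ab t).1 * MvPolynomial.X (ab t).2) =
          MvPolynomial.monomial t (coeff t f) := fun t ht => by
      conv_rhs => rw [hab t ((hS t).1 ht)]
      rw [MvPolynomial.X, MvPolynomial.X, MvPolynomial.monomial_mul, MvPolynomial.C_mul_monomial,
        mul_one, mul_one]
      conv_lhs => rw [← hab t ((hS t).1 ht)]
      rw [← hab t ((hS t).1 ht)]
    change MvPolynomial.coeff m (∑ t ∈ S, _) = _
    rw [Finset.sum_congr rfl hmon, MvPolynomial.coeff_sum]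
    simp only [MvPolynomial.coeff_monomial, Finset.sum_ite_eq', hS]
  have hhom : q.IsHomogeneous 2 := fun m hm => by
    rw [hcq] at hm
    split_ifs at hm with h
    · rw [← h, Finsupp.degree_eq_weight_one]
      rfl
    · exact absurd rfl hm
  have hG : V 3 (f - (q : MvPowerSeries (Fin n) k)) := fun m hm => by
    rw [map_sub, MvPolynomial.coeff_coe, hcq]
    by_cases h2 : m.degree = 2
    · rw [if_pos h2, sub_self]
    · rw [if_neg h2, sub_zero]
      by_cases h1 : m.degree = 1
      · obtain ⟨l, rfl⟩ := exists_single_of_degree_one m h1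
        exact hlin l
      · rw [(Finsupp.degree_eq_zero_iff m).1 (by omega), coeff_zero_eq_constantCoeff_apply, hf0]
  let L : Fin n → MvPowerSeries (Fin n) k := fun i =>
    ∑ l, C (coeff (Finsupp.single l 1) (MvPowerSeries.pderiv k i f)) * X l
  have hL : ∀ j, ∑ i, C (M j i) * L i = X j := fun j => by
    simp only [L, Finset.mul_sum, ← mul_assoc, ← map_mul]
    rw [Finset.sum_comm]
    simp only [← Finset.sum_mul, ← map_sum, hMH]
    simp
  have hcL : ∀ i m, coeff m (L i) =
      if m.degree = 1 then coeff m (MvPowerSeries.pderiv k i f) else 0 := fun i m => by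
    simp only [L, map_sum, coeff_C_mul, coeff_X]
    by_cases h : m.degree = 1
    · obtain ⟨a, rfl⟩ := exists_single_of_degree_one m h
      rw [if_pos h]
      simp [Finsupp.single_left_inj one_ne_zero]
    · rw [if_neg h]
      refine Finset.sum_eq_zero fun l _ => ?_
      rw [if_neg (by rintro rfl; simp at h), mul_zero]
  obtain ⟨e, he, heq⟩ := core q S (fun t => coeff t f) (fun t => (ab t).1) (fun t => (ab t).2) rfl
    (f - (q : MvPowerSeries (Fin n) k)) hG M L hL (fun i => by
      ext m
      rw [MvPolynomial.coeff_coe, MvPolynomial.coeff_pderiv, hcq, hcL, coeff_pderiv, map_add,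
        Finsupp.degree_single]
      by_cases h : m.degree = 1
      · rw [if_pos h, if_pos (by omega)]
      · rw [if_neg h, if_neg (by omega), zero_mul])
  refine ⟨e, fun i m hm => he i m hm, q, hhom,
    MvPowerSeries.hasSubst_of_constantCoeff_zero fun i => ?_, ?_⟩
  · rw [map_add, constantCoeff_X, zero_add, ← coeff_zero_eq_constantCoeff_apply]
    exact he i 0 (by simp)
  · rw [subst_coe, heq, add_sub_cancel]
end Groth.Agent.S3206
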