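import Groth.Statements.S3207
import Groth.Agent.S2759
import Mathlib

set_option autoImplicit false
universe u
open CategoryTheory CategoryTheory.Limits AlgebraicGeometry
open SGA7

namespace Groth.Agent.S3207

open scoped TensorProduct

set_option linter.style.haveILetI false
set_option backward.isDefEq.respectTransparency false
set_option backward.isDefEq.respectTransparency.types false

/-- A flat algebra over a valuation ring with generic fibre of rank at most one and a prime over the maximal
ideal is trivial. -/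
theorem bijective_algebraMap_of_rank_le_one {V A K : Type u} [CommRing V] [IsDomain V] [ValuationRing V]
    [Field K] [Algebra V K] [IsFractionRing V K] [CommRing A] [Algebra V A] [Module.Flat V A]
    (hK : Function.Bijective (Algebra.TensorProduct.includeLeftRingHom : K →+* K ⊗[V] A))
    (q : Ideal A) (hq : q.IsPrime) (hqm : IsLocalRing.maximalIdeal V ≤ q.comap (algebraMap V A)) :
    Function.Bijective (algebraMap V A) := by
  let e := RingEquiv.ofBijective _ hK
  let ι : A →+* K := e.symm.toRingHom.comp (Algebra.TensorProduct.includeRight : A →ₐ[V] K ⊗[V] A).toRingHom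
  have hι : Function.Injective ι :=
    e.symm.injective.comp (Algebra.TensorProduct.includeRight_injective (IsFractionRing.injective V K))
  have hcomm : ∀ v : V, ι (algebraMap V A v) = algebraMap V K v := fun v => by
    apply e.injective
    show e (e.symm _) = (algebraMap V K v) ⊗ₜ[V] (1 : A)
    rw [RingEquiv.apply_symm_apply]
    exact (Algebra.TensorProduct.includeRight : A →ₐ[V] K ⊗[V] A).commutes v
  refine ⟨fun v w h => IsFractionRing.injective V K (by rw [← hcomm, ← hcomm, h]), fun a => ?_⟩
  obtain ⟨x, y, hy, hxy⟩ := IsFractionRing.div_surjective V (ι a)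
  have hy0 : algebraMap V K y ≠ 0 := IsFractionRing.to_map_ne_zero_of_mem_nonZeroDivisors hy
  obtain ⟨c, hc | hc⟩ := ValuationRing.cond x y
  · -- `y = x c`
    by_cases hu : IsUnit c
    · obtain ⟨u, rfl⟩ := hu
      refine ⟨↑u⁻¹, hι ?_⟩
      rw [hcomm, ← hxy, eq_div_iff hy0, ← map_mul, ← hc, mul_comm x, ← mul_assoc, Units.inv_mul, one_mul]
    · exfalso
      have hcm : c ∈ IsLocalRing.maximalIdeal V := (IsLocalRing.mem_maximalIdeal c).2 hu
      have h1 : a * algebraMap V A c = 1 := hι (by
        rw [map_mul, map_one, hcomm, ← hxy, div_mul_eq_mul_div, ← map_mul, hc, div_self hy0])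
      exact hq.ne_top ((Ideal.eq_top_iff_one q).2 (h1 ▸ q.mul_mem_left a (hqm hcm)))
  · refine ⟨c, hι ?_⟩
    rw [hcomm, ← hxy, ← hc, map_mul, mul_div_assoc, mul_comm]
    field_simp

theorem isOpenImmersion_snd_comp {T S A B : Scheme.{u}} (g : T ⟶ S) (v : B ⟶ S) (a : A ⟶ B) (w : A ⟶ S)
    (e : a ≫ v = w) [IsOpenImmersion (pullback.snd g v)] : IsOpenImmersion (pullback.snd g w) := by
  subst e
  rw [← pullbackLeftPullbackSndIso_inv_snd_snd g v a]
  infer_instance

theorem isOpenImmersion_snd_iff {T S A B : Scheme.{u}} (g : T ⟶ S) (v : B ⟶ S) (a : A ⟶ B) :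
    IsOpenImmersion (pullback.snd (pullback.snd g v) a) ↔ IsOpenImmersion (pullback.snd g (a ≫ v)) := by
  rw [← pullbackLeftPullbackSndIso_inv_snd_snd g v a,
    MorphismProperty.cancel_left_of_respectsIso (P := @IsOpenImmersion)]

section

variable {V : Type u} [CommRing V] [IsDomain V] [ValuationRing V] {T : Scheme.{u}}
  (π : T ⟶ Spec (CommRingCat.of V)) [Flat π] (K : Type u) [Field K] [Algebra V K] [IsFractionRing V K]

/-- An affine open meeting the closed fibre maps isomorphically to the base. -/
theorem isIso_of_mem_closed [IsOpenImmersion (pullback.snd π (Spec.map (CommRingCat.ofHom (algebraMap V K))))]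
    {A : CommRingCat.{u}} (k : Spec A ⟶ T) [IsOpenImmersion k] (u : PrimeSpectrum A)
    (hu : π (k u) = IsLocalRing.closedPoint V) : IsIso (k ≫ π) := by
  obtain ⟨φ, hφ⟩ := Spec.map_surjective (k ≫ π)
  letI : Algebra V A := φ.hom.toAlgebra
  haveI : Flat (Spec.map φ) := hφ ▸ inferInstance
  haveI : Module.Flat V A := (HasRingHomProperty.Spec_iff (P := @Flat)).1 ‹Flat (Spec.map φ)›
  let η := Spec.map (CommRingCat.ofHom (algebraMap V K))
  let l := Spec.map (CommRingCat.ofHom (Algebra.TensorProduct.includeLeftRingHom : K →+* K ⊗[V] A))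
  have h₁ : IsPullback l (Spec.map (CommRingCat.ofHom
      (Algebra.TensorProduct.includeRight : (A : Type u) →ₐ[V] K ⊗[V] A).toRingHom)) η (Spec.map φ) :=
    isPullback_SpecMap_of_isPushout _ _ _ _ (CommRingCat.isPushout_tensorProduct V K A)
  have h₂ := (IsPullback.of_hasPullback k (pullback.fst π η)).paste_vert (IsPullback.of_hasPullback π η)
  rw [← hφ] at h₂
  haveI : IsOpenImmersion l := by
    rw [← h₁.flip.isoIsPullback_hom_snd _ _ h₂]
    infer_instance
  have hbij : Function.Bijective (Algebra.TensorProduct.includeLeftRingHom : K →+* K ⊗[V] A) := by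
    have hne : Nonempty ↥(Spec (CommRingCat.of (K ⊗[V] A))) := by
      haveI : Nontrivial A := ⟨⟨0, 1, fun h => u.isPrime.ne_top ((Ideal.eq_top_iff_one _).2 (h ▸ zero_mem _))⟩⟩
      haveI : Nontrivial (K ⊗[V] A) := (Algebra.TensorProduct.includeRight_injective (R := V) (A := K) (B := A)
        (IsFractionRing.injective V K)).nontrivial
      exact inferInstanceAs (Nonempty (PrimeSpectrum (K ⊗[V] A)))
    haveI : Surjective l := ⟨fun y => ⟨hne.some, Subsingleton.elim (α := PrimeSpectrum K) _ _⟩⟩
    haveI : IsIso l := (isIso_iff_isOpenImmersion_and_epi_base _).2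
      ⟨inferInstance, (TopCat.epi_iff_surjective _).2 l.surjective⟩
    haveI : IsIso (Scheme.Spec.map (CommRingCat.ofHom
      (Algebra.TensorProduct.includeLeftRingHom : K →+* K ⊗[V] A)).op) := ‹IsIso l›
    haveI := isIso_of_reflects_iso (CommRingCat.ofHom
      (Algebra.TensorProduct.includeLeftRingHom : K →+* K ⊗[V] A)).op Scheme.Spec
    haveI := isIso_of_op (CommRingCat.ofHom (Algebra.TensorProduct.includeLeftRingHom : K →+* K ⊗[V] A))
    exact ConcreteCategory.bijective_of_isIso (CommRingCat.ofHom
      (Algebra.TensorProduct.includeLeftRingHom : K →+* K ⊗[V] A))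
  have hu' : (Spec.map φ) u = IsLocalRing.closedPoint V := by
    rw [hφ, Scheme.Hom.comp_apply]
    exact hu
  have hb := bijective_algebraMap_of_rank_le_one hbij u.asIdeal u.isPrime
    (congrArg PrimeSpectrum.asIdeal hu').ge
  haveI : IsIso φ := (ConcreteCategory.isIso_iff_bijective φ).2 hb
  rw [← hφ]
  infer_instance

/-- The closed fibre of a flat separated scheme over a valuation ring with generic fibre of rank at most one. -/
theorem isOpenImmersion_closedFibre [IsSeparated π]
    [IsOpenImmersion (pullback.snd π (Spec.map (CommRingCat.ofHom (algebraMap V K))))] :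
    IsOpenImmersion (pullback.snd π (Spec.map (CommRingCat.ofHom (IsLocalRing.residue V)))) := by
  let η := Spec.map (CommRingCat.ofHom (algebraMap V K))
  let c := Spec.map (CommRingCat.ofHom (IsLocalRing.residue V))
  have hc : ∀ z, c z = IsLocalRing.closedPoint V := fun z => by
    haveI : IsLocalHom (IsLocalRing.residue V) := IsLocalHom.of_surjective _ IsLocalRing.residue_surjective
    rw [Subsingleton.elim (α := PrimeSpectrum (IsLocalRing.ResidueField V)) z
      (IsLocalRing.closedPoint (IsLocalRing.ResidueField V))]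
    exact IsLocalRing.comap_closedPoint (IsLocalRing.residue V)
  have hp : ∀ p : ↥(pullback π c), π (pullback.fst π c p) = IsLocalRing.closedPoint V := fun p => by
    rw [← Scheme.Hom.comp_apply, pullback.condition, Scheme.Hom.comp_apply]
    exact hc _
  rcases isEmpty_or_nonempty ↥(pullback π c) with h | ⟨⟨p₀⟩⟩
  · infer_instance
  obtain ⟨U, hU, hpU, -⟩ := exists_isAffineOpen_mem_and_subset (U := (⊤ : T.Opens)) (x := pullback.fst π c p₀) trivial
  let k := hU.fromSpec
  have hsec : ∀ (U' : T.Opens) (hU' : IsAffineOpen U') (t : T), t ∈ U' → π t = IsLocalRing.closedPoint V →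
      ∃ σ : Spec (CommRingCat.of V) ⟶ T, σ ≫ π = 𝟙 _ ∧ σ (IsLocalRing.closedPoint V) = t ∧
        Set.range σ ⊆ Set.range hU'.fromSpec := fun U' hU' t ht htc => by
    obtain ⟨u, hu⟩ : t ∈ Set.range hU'.fromSpec := by rw [hU'.range_fromSpec]; exact ht
    haveI := isIso_of_mem_closed π K hU'.fromSpec u (by rw [hu, htc])
    refine ⟨inv (hU'.fromSpec ≫ π) ≫ hU'.fromSpec, by simp, ?_, ?_⟩
    · have e : (hU'.fromSpec ≫ π) u = IsLocalRing.closedPoint V := by rw [Scheme.Hom.comp_apply, hu, htc]
      rw [← e, ← Scheme.Hom.comp_apply, IsIso.hom_inv_id_assoc, hu]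
    · rintro _ ⟨y, rfl⟩
      exact ⟨_, (Scheme.Hom.comp_apply _ _ _).symm⟩
  obtain ⟨σ, hσ, -, hσr⟩ := hsec U hU _ hpU (hp p₀)
  have huniq : ∀ p : ↥(pullback π c), pullback.fst π c p ∈ Set.range k := fun p => by
    obtain ⟨U', hU', hpU', -⟩ := exists_isAffineOpen_mem_and_subset (U := (⊤ : T.Opens)) (x := pullback.fst π c p) trivial
    obtain ⟨σ', hσ', hσ't, -⟩ := hsec U' hU' _ hpU' (hp p)
    haveI : IsDominant η := ⟨PrimeSpectrum.denseRange_comap_iff_ker_le_nilRadical _ |>.2 (by
      show RingHom.ker (algebraMap V K) ≤ nilradical V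
      rw [(RingHom.injective_iff_ker_eq_bot _).1 (IsFractionRing.injective V K)]
      exact bot_le)⟩
    have heq : σ = σ' := ext_of_isDominant_of_isSeparated π (hσ.trans hσ'.symm) η (by
      have h1 : pullback.lift (η ≫ σ) (𝟙 _) (by rw [Category.assoc, hσ, Category.comp_id, Category.id_comp]) =
          pullback.lift (η ≫ σ') (𝟙 _) (by rw [Category.assoc, hσ', Category.comp_id, Category.id_comp]) := by
        rw [← cancel_mono (pullback.snd π η), pullback.lift_snd, pullback.lift_snd]
      simpa using congrArg (· ≫ pullback.fst π η) h1)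
    rw [← hσ't, ← heq]
    exact hσr ⟨_, rfl⟩
  obtain ⟨u₀, hu₀⟩ := huniq p₀
  haveI := isIso_of_mem_closed π K k u₀ (by rw [hu₀]; exact hp p₀)
  let r := pullback.snd k (pullback.fst π c)
  haveI : IsIso r := (isIso_iff_isOpenImmersion_and_epi_base _).2 ⟨inferInstance, (TopCat.epi_iff_surjective _).2
    fun p => by
      have hr : p ∈ Set.range r := by
        rw [IsOpenImmersion.range_pullbackSnd]
        exact huniq p
      exact hr⟩
  have h2 := (IsPullback.of_hasPullback k (pullback.fst π c)).paste_vert (IsPullback.of_hasPullback π c)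
  haveI : IsIso (r ≫ pullback.snd π c) := by
    rw [← h2.isoPullback_hom_snd]
    infer_instance
  haveI : IsIso (pullback.snd π c) := IsIso.of_isIso_comp_left r _
  infer_instance

end

theorem isOpenImmersion_fibre {T S : Scheme.{u}} (g : T ⟶ S) [Flat g] [IsSeparated g]
    (h : ∀ s : S, (∀ t : S, t ⤳ s → t = s) → IsOpenImmersion (pullback.snd g (S.fromSpecResidueField s))) (s : S) :
    IsOpenImmersion (pullback.snd g (S.fromSpecResidueField s)) := by
  let O := S.presheaf.stalk s
  obtain ⟨p, hp, -⟩ := Ideal.exists_minimalPrimes_le (I := (⊥ : Ideal O)) (J := IsLocalRing.maximalIdeal O) bot_le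
  haveI hpp : p.IsPrime := hp.1.1
  let pt : PrimeSpectrum O := ⟨p, hpp⟩
  let K := p.ResidueField
  obtain ⟨W, hW, hloc⟩ := IsLocalRing.exists_factor_valuationRing (algebraMap O K)
  let f : O →+* W := (algebraMap O K).codRestrict W.toSubring hW
  haveI : IsLocalHom f := hloc
  let v : Spec (CommRingCat.of W) ⟶ S := Spec.map (CommRingCat.ofHom f) ≫ S.fromSpecStalk s
  let η := Spec.map (CommRingCat.ofHom (algebraMap W K))
  let c := Spec.map (CommRingCat.ofHom (IsLocalRing.residue W))
  let s₀ := S.fromSpecStalk s pt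
  have hmin : ∀ t : S, t ⤳ s₀ → t = s₀ := fun t ht => by
    have hts : t ⤳ s := ht.trans (by
      have : s₀ ∈ Set.range (S.fromSpecStalk s) := ⟨pt, rfl⟩
      rw [Scheme.range_fromSpecStalk] at this
      exact this)
    obtain ⟨q, rfl⟩ : t ∈ Set.range (S.fromSpecStalk s) := by rw [Scheme.range_fromSpecStalk]; exact hts
    have hq : q ⤳ pt := (S.fromSpecStalk s).isEmbedding.isInducing.specializes_iff.1 ht
    have hle : q.asIdeal ≤ p := (PrimeSpectrum.le_iff_specializes q pt).2 hq
    exact congrArg (S.fromSpecStalk s) (PrimeSpectrum.ext (le_antisymm hle (hp.2 ⟨q.isPrime, bot_le⟩ hle)))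
  let x := η ≫ v
  have hgen : IsOpenImmersion (pullback.snd g x) := by
    have hx : x (IsLocalRing.closedPoint K) = s₀ := by
      show (η ≫ Spec.map (CommRingCat.ofHom f) ≫ S.fromSpecStalk s) _ = _
      rw [← Category.assoc, ← Spec.map_comp, Scheme.Hom.comp_apply]
      refine congrArg (S.fromSpecStalk s) (PrimeSpectrum.ext (Ideal.ext fun r => ?_))
      show algebraMap O K r ∈ IsLocalRing.maximalIdeal K ↔ r ∈ p
      rw [IsLocalRing.maximalIdeal_eq_bot, Ideal.mem_bot, Ideal.algebraMap_residueField_eq_zero]
    haveI := h (x (IsLocalRing.closedPoint K)) (fun t ht => by rw [hx] at ht ⊢; exact hmin t ht)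
    exact isOpenImmersion_snd_comp g _ _ _
      (Scheme.descResidueField_stalkClosedPointTo_fromSpecResidueField (CommRingCat.of K) S x)
  haveI : IsOpenImmersion (pullback.snd (pullback.snd g v) η) := (isOpenImmersion_snd_iff g v η).2 hgen
  have hc := isOpenImmersion_closedFibre (pullback.snd g v) K
  rw [isOpenImmersion_snd_iff] at hc
  let b := Spec.map (CommRingCat.ofHom (IsLocalRing.ResidueField.map f))
  have hb : c ≫ v = b ≫ S.fromSpecResidueField s := by
    show _ ≫ _ ≫ _ = _ ≫ Spec.map (S.residue s) ≫ _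
    rw [← Category.assoc, ← Category.assoc, ← Spec.map_comp, ← Spec.map_comp]
    rfl
  rw [hb, ← isOpenImmersion_snd_iff] at hc
  let u := pullback.fst (pullback.snd g (S.fromSpecResidueField s)) b
  haveI : Surjective b := ⟨fun y => ⟨IsLocalRing.closedPoint _, Subsingleton.elim (α := PrimeSpectrum (IsLocalRing.ResidueField O)) _ _⟩⟩
  haveI : Flat b := (HasRingHomProperty.Spec_iff (P := @Flat)).mpr (by
    letI := (IsLocalRing.ResidueField.map f).toAlgebra
    haveI := Module.Free.of_divisionRing (IsLocalRing.ResidueField O) (IsLocalRing.ResidueField W)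
    exact Module.Flat.of_free)
  exact MorphismProperty.of_pullback_snd_of_descendsAlong (P := @IsOpenImmersion)
    (Q := @Surjective ⊓ @Flat ⊓ @QuasiCompact) ⟨⟨inferInstance, inferInstance⟩, inferInstance⟩ hc

/-- Let g : T -> S be locally quasi-finite, of finite presentation, separated and flat. If for every
maximal point s of S (a point with no proper generization) the fibre of g over s is either empty or
mapped isomorphically onto Spec κ(s) (rank at most 1), then g is an open immersion. -/
theorem result {T S : Scheme.{u}} (g : T ⟶ S) [LocallyQuasiFinite g]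
    [LocallyOfFinitePresentation g] [QuasiCompact g] [IsSeparated g] [Flat g]
    (h : ∀ s : S, (∀ t : S, t ⤳ s → t = s) →
      IsEmpty ↑(pullback g (S.fromSpecResidueField s)) ∨ IsIso (pullback.snd g (S.fromSpecResidueField s))) :
    IsOpenImmersion g := by
  have h' := isOpenImmersion_fibre g fun s hs => (h s hs).elim (fun h => inferInstance) (fun h => inferInstance)
  refine (Groth.Agent.S2759.result (𝟙 S) g g (Category.comp_id g)).1.2 fun s => ?_
  haveI := h' s
  refine isOpenImmersion_snd_comp g (S.fromSpecResidueField s) (pullback.snd (𝟙 S) (S.fromSpecResidueField s)) _ ?_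
  exact (pullback.condition (f := 𝟙 S) (g := S.fromSpecResidueField s)).symm.trans (Category.comp_id _)

end Groth.Agent.S3207
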