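import Groth.Statements.S3210
import Mathlib
import Groth.Agent.NeronGrp.Transfer
import Groth.Agent.NeronGrp.TorsExt
import Groth.Agent.S18483

set_option autoImplicit false
universe u
open CategoryTheory CategoryTheory.Limits AlgebraicGeometry MonObj
open SGA7 MonoidalCategory CartesianMonoidalCategory Groth.Agent

namespace Groth.Agent.S3210

/-- Direction (i) ⇒ (v bis) of the Néron–Ogg–Chafarévitch criterion (only this direction of the
criterion is stated): let R be a discrete valuation ring with fraction field K and residue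
characteristic different from the prime ℓ, Ω a separable closure of K, W a valuation subring of Ω
lying over R, and A an abelian variety over K (a proper, geometrically integral group scheme). If A
extends to an abelian scheme over R (a proper smooth group scheme over Spec R with connected
geometric fibres whose generic fibre is K-isomorphic to A), then for every ν every element of the
inertia group at W fixes all the ℓ^ν-torsion Ω-points of A. -/
theorem result (R K Ω : Type u) [CommRing R] [IsDomain R] [IsDiscreteValuationRing R] [Field K]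
    [Algebra R K] [IsFractionRing R K] [Field Ω] [Algebra K Ω] [IsSepClosure K Ω]
    (W : ValuationSubring Ω) (hW : SGA7.LiesOver K R W) (ℓ : ℕ) (hℓ : ℓ.Prime) (hℓp : (ℓ : IsLocalRing.ResidueField R) ≠ 0)
    (A : Over (Spec (CommRingCat.of K))) [GrpObj A] [IsProper A.hom] [GeometricallyIntegral A.hom]
    (hgood : (∃ (B : Over (Spec (CommRingCat.of R))) (_ : GrpObj B), IsProper B.hom ∧ Smooth B.hom ∧
        (∀ (k' : Type u) [Field k'] (t : Spec (CommRingCat.of k') ⟶ Spec (CommRingCat.of R)), ConnectedSpace ↑(pullback B.hom t)) ∧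
        Nonempty ((Over.pullback (Spec.map (CommRingCat.ofHom (algebraMap R K)))).obj B ≅ A))) :
    ∀ (ν : ℕ) (σ : Ω ≃ₐ[K] Ω), SGA7.IsInertia W σ → ∀ x : SGA7.Pts Ω A, x ^ (ℓ ^ ν) = 1 → SGA7.galAct σ x = x := by
  obtain ⟨B, hBG, hBp, hBs, -, ⟨e⟩⟩ := hgood
  have := hBp
  have := hBs
  have := isCommMonObj_of_isProper_of_geometricallyIntegral A
  let jK := Spec.map (CommRingCat.ofHom (algebraMap R K))
  let α : K ≃ₐ[R] FractionRing R := (FractionRing.algEquiv R K).symm
  let iK : Spec (CommRingCat.of K) ⟶ Spec (CommRingCat.of (FractionRing R)) :=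
    Spec.map (CommRingCat.ofHom α.symm.toRingEquiv.toRingHom)
  have : IsIso iK := by
    have : IsIso (CommRingCat.ofHom α.symm.toRingEquiv.toRingHom) :=
      (ConcreteCategory.isIso_iff_bijective _).2 α.symm.bijective
    infer_instance
  have hjK : iK ≫ Neron.genPt R = jK := by
    simp only [iK, jK, Neron.genPt, ← Spec.map_comp, ← CommRingCat.ofHom_comp]
    congr 2
    exact RingHom.ext α.symm.commutes
  have hN := (Groth.Agent.S18483.result R B).2.2.2.2
  have hext : ∀ Y : Over (Spec (CommRingCat.of R)), Smooth Y.hom →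
      Function.Bijective (fun g : Y ⟶ B => (Over.pullback jK).map g ≫ e.hom) := fun Y hY => by
    refine ((Iso.homToEquiv e (Z := (Over.pullback jK).obj Y)).bijective).comp
      (NeronGrp.bijective_pullback_of_isIso iK (Neron.genPt R) jK hjK Y B ?_)
    simpa using hN Y hY
  obtain ⟨G, hmul, hone, hcomm⟩ := NeronGrp.exists_grpObj jK A B e hBs hext
  clear hBG
  let := G
  have := hcomm inferInstance
  intro ν σ hσ x hx
  -- points of the generic fibre
  let jΩ : Spec (CommRingCat.of Ω) ⟶ Spec (CommRingCat.of K) := Spec.map (CommRingCat.ofHom (algebraMap K Ω))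
  let TΩ : Over (Spec (CommRingCat.of R)) := Over.mk (jΩ ≫ jK)
  let s : SGA7.pt Ω ⟶ (Over.pullback jK).obj TΩ :=
    Over.homMk (pullback.lift (𝟙 _) jΩ (Category.id_comp _)) (pullback.lift_snd _ _ _)
  let Φ : (TΩ ⟶ B) → SGA7.Pts Ω A := fun a => s ≫ (Over.pullback jK).map a ≫ e.hom
  have hΦmul : ∀ a b, Φ (a * b) = Φ a * Φ b := fun a b => by
    simp only [Φ, Hom.mul_def a b, hmul, MonObj.comp_mul]
  have hΦone : Φ 1 = 1 := by
    simp only [Φ, Hom.one_def (M := B), hone, MonObj.comp_one]
  have hΦpow : ∀ a (n : ℕ), Φ (a ^ n) = Φ a ^ n := fun a n => by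
    induction n with
    | zero => rw [pow_zero, pow_zero, hΦone]
    | succ n ih => rw [pow_succ, pow_succ, hΦmul, ih]
  have hΦleft : ∀ a : TΩ ⟶ B, (Φ a ≫ e.inv).left ≫ pullback.fst B.hom jK = a.left := fun a => by
    simp only [Φ, Category.assoc, Iso.hom_inv_id, Category.comp_id, Over.comp_left]
    simp [s, Over.pullback]
    refine (congrArg (_ ≫ ·) (pullback.lift_fst _ _ _)).trans ((Category.assoc _ _ _).symm.trans ?_)
    exact (congrArg (· ≫ a.left) (pullback.lift_fst _ _ _)).trans (Category.id_comp _)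
  have hΦinj : Function.Injective Φ := fun a b h => by
    ext
    rw [← hΦleft a, h, hΦleft b]
  let x₀ : TΩ ⟶ B := Over.homMk ((x ≫ e.inv).left ≫ pullback.fst B.hom jK) (by
    rw [Category.assoc, pullback.condition, ← Category.assoc]
    exact congrArg (· ≫ jK) (Over.w (x ≫ e.inv)))
  have hx₀ : Φ x₀ = x := by
    rw [← cancel_mono e.inv]
    ext
    apply pullback.hom_ext
    · exact hΦleft x₀
    · exact (Over.w (Φ x₀ ≫ e.inv)).trans (Over.w (x ≫ e.inv)).symm
  have hx₀m : x₀ ^ (ℓ ^ ν) = 1 := hΦinj (by rw [hΦpow, hx₀, hx, hΦone])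
  -- the valuation ring
  let aW : R →+* W := ((algebraMap K Ω).comp (algebraMap R K)).codRestrict W hW.1
  let TW : Over (Spec (CommRingCat.of R)) := Over.mk (Spec.map (CommRingCat.ofHom aW))
  let j : TΩ ⟶ TW := Over.homMk (Spec.map (CommRingCat.ofHom W.subtype)) (by
    show Spec.map (CommRingCat.ofHom W.subtype) ≫ Spec.map (CommRingCat.ofHom aW) = jΩ ≫ jK
    simp only [jΩ, jK, ← Spec.map_comp]
    rfl)
  let sq : ValuativeCommSq B.hom :=
    { R := W, K := Ω, i₁ := x₀.left, i₂ := TW.hom, commSq := ⟨(Over.w x₀).trans (Over.w j).symm⟩ }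
  have hval : ValuativeCriterion B.hom := (IsProper.eq_valuativeCriterion.le _ _ B.hom inferInstance).1.1.1
  obtain ⟨⟨l, hl₁, hl₂⟩⟩ := (hval.existence sq).exists_lift
  let xW : TW ⟶ B := Over.homMk l hl₂
  have hjinj : ∀ a b : TW ⟶ B, j ≫ a = j ≫ b → a = b := by
    intro a b hab
    ext
    let sq' : ValuativeCommSq B.hom :=
      { R := W, K := Ω, i₁ := j.left ≫ a.left, i₂ := TW.hom,
        commSq := ⟨(Category.assoc _ _ _).trans (congrArg (j.left ≫ ·) (Over.w a))⟩ }
    exact congrArg CommSq.LiftStruct.l ((hval.uniqueness sq').elim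
      ⟨a.left, rfl, Over.w a⟩ ⟨b.left, (congrArg CommaMorphism.left hab).symm, Over.w b⟩)
  have hjx : j ≫ xW = x₀ := by ext; exact hl₁
  have hxW : xW ^ (ℓ ^ ν) = 1 := hjinj _ _ (by rw [MonObj.comp_pow, hjx, hx₀m, MonObj.comp_one])
  -- the Galois automorphism
  let σW : W →+* W := ((σ : Ω →+* Ω).comp W.subtype).codRestrict W fun w => (hσ w w.2).1
  let gW : TW ⟶ TW := Over.homMk (Spec.map (CommRingCat.ofHom σW)) (by
    show Spec.map (CommRingCat.ofHom σW) ≫ Spec.map (CommRingCat.ofHom aW) = Spec.map (CommRingCat.ofHom aW)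
    rw [← Spec.map_comp, ← CommRingCat.ofHom_comp]
    congr 2
    exact RingHom.ext fun r => Subtype.ext (σ.commutes _))
  have hu : IsUnit ((ℓ ^ ν : ℕ) : Γ(Spec (CommRingCat.of R), ⊤)) := by
    have h0 : IsUnit ((ℓ : ℕ) : R) := by
      rw [← IsLocalRing.residue_ne_zero_iff_isUnit, map_natCast]
      exact hℓp
    have h1 := (h0.pow ν).map (Scheme.ΓSpecIso (CommRingCat.of R)).inv.hom
    rw [map_pow, map_natCast] at h1
    simpa using h1
  let κ := IsLocalRing.ResidueField W
  have hres : CommRingCat.ofHom σW ≫ CommRingCat.ofHom (IsLocalRing.residue W) =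
      CommRingCat.ofHom (IsLocalRing.residue W) := by
    refine CommRingCat.hom_ext (RingHom.ext fun w => ?_)
    show IsLocalRing.residue W (σW w) = IsLocalRing.residue W w
    rw [← sub_eq_zero, ← map_sub, IsLocalRing.residue_eq_zero_iff, W.valuation_lt_one_iff]
    exact (hσ w w.2).2
  have hkey : gW ≫ xW = xW := by
    refine NeronGrp.eq_of_pow_eq_one (ℓ ^ ν) hu _ _ (by rw [← MonObj.comp_pow, hxW, MonObj.comp_one]) hxW
      (IsLocalRing.closedPoint W) (fun U hU => top_le_iff.1 fun p _ =>
        (IsLocalRing.specializes_closedPoint p).mem_open U.2 hU)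
      κ (Spec.map (CommRingCat.ofHom (IsLocalRing.residue W))) (IsLocalRing.comap_closedPoint (IsLocalRing.residue W)) ?_
    change Spec.map (CommRingCat.ofHom (IsLocalRing.residue W)) ≫ Spec.map (CommRingCat.ofHom σW) ≫ xW.left = _
    rw [← Spec.map_comp_assoc, hres]
  -- back to the points
  ext
  show (Spec.map (CommRingCat.ofHom (σ : Ω →+* Ω))) ≫ x.left = x.left
  have h1 : Spec.map (CommRingCat.ofHom (σ : Ω →+* Ω)) ≫ x₀.left = x₀.left := by
    have h2 : Spec.map (CommRingCat.ofHom (σ : Ω →+* Ω)) ≫ j.left = j.left ≫ gW.left := by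
      simp only [j, gW, Over.homMk_left, ← Spec.map_comp]
      rfl
    rw [← hjx, Over.comp_left, ← Category.assoc, h2, Category.assoc, show gW.left ≫ xW.left = xW.left from congrArg CommaMorphism.left hkey]
  rw [← cancel_mono e.inv.left, Category.assoc, ← Over.comp_left]
  apply pullback.hom_ext
  · rw [Category.assoc]; exact h1
  · rw [Category.assoc, show (x ≫ e.inv).left ≫ pullback.snd B.hom jK = jΩ from Over.w (x ≫ e.inv)]
    exact SGA7.spec_map_algEquiv_comp σ

end Groth.Agent.S3210
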