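import Groth.Statements.S3211
import Mathlib
import Groth.Agent.S4058
import Groth.Agent.S11098
import Groth.Agent.S18483
import Groth.Agent.S17449

set_option autoImplicit false
universe u
open CategoryTheory CategoryTheory.Limits AlgebraicGeometry MonObj
open SGA7 MonoidalCategory CartesianMonoidalCategory

namespace Groth.Agent.S3211

open MonoidalCategory CartesianMonoidalCategory in
theorem nonempty_grpObj (R : Type u) [CommRing R] [IsDomain R]
    (A : Over (Spec (CommRingCat.of (FractionRing R)))) [GrpObj A]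
    (N : Over (Spec (CommRingCat.of R))) (e : (Neron.genericFibre R).obj N ≅ A)
    (hN : Neron.IsNeronModelOf R N A e) : Nonempty (GrpObj N) := by
  obtain ⟨hsm, -, -, -, hext⟩ := hN
  haveI := hsm
  let F := Neron.genericFibre R
  let r : ∀ {Y : Over (Spec (CommRingCat.of R))}, (Y ⟶ N) → (F.obj Y ⟶ A) := fun g => F.map g ≫ e.hom
  have rcomp : ∀ {Y Z : Over (Spec (CommRingCat.of R))} (a : Y ⟶ Z) (g : Z ⟶ N), r (a ≫ g) = F.map a ≫ r g :=
    fun a g => by simp [r]
  have h1 : Smooth (𝟙_ (Over (Spec (CommRingCat.of R)))).hom :=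
    inferInstanceAs (Smooth (𝟙 (Spec (CommRingCat.of R))))
  have hprod : ∀ X Y : Over (Spec (CommRingCat.of R)), Smooth X.hom → Smooth Y.hom → Smooth (X ⊗ Y).hom := by
    intro X Y hX hY
    exact inferInstanceAs (Smooth (pullback.fst X.hom Y.hom ≫ X.hom))
  obtain ⟨m, hm⟩ := (hext (N ⊗ N) (hprod _ _ hsm hsm)).2 (r (fst N N) * r (snd N N))
  obtain ⟨o, ho⟩ := (hext (𝟙_ _) h1).2 1
  obtain ⟨i, hi⟩ := (hext N hsm).2 (r (𝟙 N))⁻¹
  replace hm : r m = r (fst N N) * r (snd N N) := hm
  replace ho : r o = 1 := ho
  replace hi : r i = (r (𝟙 N))⁻¹ := hi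
  have hmul : ∀ {Y : Over (Spec (CommRingCat.of R))} (a b : Y ⟶ N), r (lift a b ≫ m) = r a * r b := by
    intro Y a b
    rw [rcomp, hm, MonObj.comp_mul, ← rcomp, ← rcomp, lift_fst, lift_snd]
  have hone : ∀ {Y : Over (Spec (CommRingCat.of R))}, r (toUnit Y ≫ o) = 1 := fun {Y} => by
    rw [rcomp, ho, MonObj.comp_one]
  have hinv : ∀ {Y : Over (Spec (CommRingCat.of R))} (a : Y ⟶ N), r (a ≫ i) = (r a)⁻¹ := by
    intro Y a
    rw [rcomp, hi, GrpObj.comp_inv, ← rcomp, Category.comp_id]
  have hinj : ∀ {Y : Over (Spec (CommRingCat.of R))} (_ : Smooth Y.hom) (a b : Y ⟶ N), r a = r b → a = b :=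
    fun hY a b h => (hext _ hY).1 h
  refine ⟨{ one := o, mul := m, inv := i, one_mul := ?_, mul_one := ?_, mul_assoc := ?_, left_inv := ?_, right_inv := ?_ }⟩
  · refine hinj (hprod _ _ h1 hsm) _ _ ?_
    rw [show o ▷ N = lift (toUnit (𝟙_ _ ⊗ N) ≫ o) (snd _ _) by
      apply CartesianMonoidalCategory.hom_ext <;> simp [toUnit_unique (fst (𝟙_ _) N) (toUnit _)],
      hmul, hone, _root_.one_mul, leftUnitor_hom]
  · refine hinj (hprod _ _ hsm h1) _ _ ?_
    rw [show N ◁ o = lift (fst _ _) (toUnit (N ⊗ 𝟙_ _) ≫ o) by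
      apply CartesianMonoidalCategory.hom_ext <;> simp [toUnit_unique (snd N (𝟙_ _)) (toUnit _)],
      hmul, hone, _root_.mul_one, rightUnitor_hom]
  · refine hinj (hprod _ _ (hprod _ _ hsm hsm) hsm) _ _ ?_
    rw [show m ▷ N = lift (lift (fst _ _ ≫ fst N N) (fst _ _ ≫ snd N N) ≫ m) (snd _ _) by
        apply CartesianMonoidalCategory.hom_ext
        · simp [← comp_lift, lift_fst_snd]
        · simp,
      hmul, hmul]
    rw [← Category.assoc, show (α_ N N N).hom ≫ (N ◁ m) = lift (fst _ _ ≫ fst N N) (lift (fst _ _ ≫ snd N N) (snd _ _) ≫ m) by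
        apply CartesianMonoidalCategory.hom_ext
        · simp
        · rw [Category.assoc, whiskerLeft_snd, lift_snd, ← Category.assoc]
          congr 1
          apply CartesianMonoidalCategory.hom_ext <;> simp,
      hmul, hmul, _root_.mul_assoc]
  · exact hinj hsm _ _ (by rw [hmul, hone, hi, inv_mul_cancel])
  · exact hinj hsm _ _ (by rw [hmul, hone, hi, _root_.mul_inv_cancel])

/-- (i) ⟺ (iv): let R be a discrete valuation ring with fraction field K, A an abelian variety over K (a
proper, geometrically integral group scheme) and N a Néron model of A over Spec R. Then A extends to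
an abelian scheme over R (a proper smooth group scheme with connected geometric fibres and generic
fibre K-isomorphic to A) if and only if N is proper over Spec R. -/
theorem result (R : Type u) [CommRing R] [IsDomain R] [IsDiscreteValuationRing R]
    (A : Over (Spec (CommRingCat.of (FractionRing R)))) [GrpObj A] [IsProper A.hom] [GeometricallyIntegral A.hom]
    (N : Over (Spec (CommRingCat.of R))) (e : (Neron.genericFibre R).obj N ≅ A) (hN : Neron.IsNeronModelOf R N A e) :
    (∃ (B : Over (Spec (CommRingCat.of R))) (_ : GrpObj B), IsProper B.hom ∧ Smooth B.hom ∧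
        (∀ (k' : Type u) [Field k'] (t : Spec (CommRingCat.of k') ⟶ Spec (CommRingCat.of R)), ConnectedSpace ↑(pullback B.hom t)) ∧
        Nonempty ((Over.pullback (Spec.map (CommRingCat.ofHom (algebraMap R (FractionRing R))))).obj B ≅ A)) ↔ IsProper N.hom := by
  constructor
  · rintro ⟨B, _, hBp, hBs, -, ⟨e'⟩⟩
    haveI := hBp
    haveI := hBs
    obtain ⟨a, b, c, d, hB⟩ := Groth.Agent.S18483.result R B
    have hB' : Neron.IsNeronModelOf R B A e' := by
      refine ⟨a, b, c, d, fun Y hY => ?_⟩
      have h := (Iso.homToEquiv e' (Z := (Neron.genericFibre R).obj Y)).bijective.comp (hB Y hY)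
      convert h using 1
      ext g
      simp
    obtain ⟨⟨ψ, hψ, -⟩, hiso⟩ := Groth.Agent.S11098.result R A N B e e' hN hB'
    haveI := hiso ψ hψ
    haveI : IsIso ψ.left := inferInstanceAs (IsIso ((Over.forget _).map ψ))
    rw [← Over.w ψ]
    infer_instance
  · intro hp
    haveI := hp
    obtain ⟨hG⟩ := nonempty_grpObj R A N e hN
    haveI : Smooth N.hom := hN.1
    refine ⟨N, hG, hp, hN.1, fun k' _ t => ?_, ⟨e⟩⟩
    haveI : Surjective N.hom :=
      ⟨fun y => ⟨η[N].left y, S4070.apply_of_comp_eq (Over.w η[N]) y⟩⟩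
    haveI : IsPreimmersion (Neron.genPt R) :=
      IsPreimmersion.of_isLocalization (R := R) (S := FractionRing R) (nonZeroDivisors R)
    haveI : GeometricallyConnected A.hom := S4058.geometricallyConnected_of_irreducible A.hom
    have hgen : GeometricallyConnected (pullback.snd N.hom (Neron.genPt R)) := by
      haveI : MorphismProperty.RespectsIso (@GeometricallyConnected.{u}) :=
        MorphismProperty.IsStableUnderBaseChange.respectsIso
      rw [show pullback.snd N.hom (Neron.genPt R) = e.hom.left ≫ A.hom from (Over.w e.hom).symm]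
      haveI : IsIso e.hom.left := inferInstanceAs (IsIso ((Over.forget _).map e.hom))
      exact (MorphismProperty.cancel_left_of_respectsIso @GeometricallyConnected e.hom.left _).2 ‹_›
    have hgc : GeometricallyConnected N.hom := by
      refine Groth.Agent.S17449.result N.hom fun Z η₀ hZ hη₀ => ?_
      have hη' : η₀ = Neron.genPt R (IsLocalRing.closedPoint (FractionRing R)) := by
        rw [irreducibleComponents_eq_singleton] at hZ
        obtain rfl : Z = Set.univ := hZ
        refine hη₀.eq ?_
        have hgp : Neron.genPt R (IsLocalRing.closedPoint (FractionRing R)) =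
            (⟨⊥, Ideal.isPrime_bot⟩ : PrimeSpectrum R) := by
          refine PrimeSpectrum.ext ?_
          change Ideal.comap (algebraMap R (FractionRing R)) _ = ⊥
          rw [show (IsLocalRing.closedPoint (FractionRing R)).asIdeal = ⊥ from IsLocalRing.maximalIdeal_eq_bot]
          exact Ideal.comap_bot_of_injective _ (IsFractionRing.injective R _)
        rw [hgp]
        refine Set.eq_univ_of_forall fun y => specializes_iff_mem_closure.1 ?_
        exact (PrimeSpectrum.le_iff_specializes _ _).1 (bot_le : (⊥ : Ideal R) ≤ _)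
      rw [hη']
      exact ⟨S4058.fibre_of_field_point @GeometricallyConnected N.hom _ (Neron.genPt R) hgen,
        inferInstanceAs (Smooth (pullback.snd _ _))⟩
    exact hgc.geometrically_connectedSpace t _ _ (IsPullback.of_hasPullback _ _)

end Groth.Agent.S3211
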