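import Groth.Statements.S3254
import Groth.Agent.ArSurfContract.Basic
import Groth.Agent.PointBlowUp.Pic

set_option autoImplicit false
set_option backward.isDefEq.respectTransparency false
set_option backward.isDefEq.respectTransparency.types false
set_option maxHeartbeats 1000000
set_option linter.style.haveILetI false
universe u
open AlgebraicGeometry CategoryTheory CategoryTheory.Limits
open ArSurf
open scoped Groth.Agent.H23.PicMul

namespace Groth.Agent.S3254

/-- Castelnuovo's criterion, existence of the contraction: let R be a discrete valuation ring with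
residue field k, X an arithmetic surface over Spec R, and E a vertical prime divisor of X over the
closed point such that, for some finite field extension k' of k, E is k-isomorphic to the projective
line over k', and E · E = −[k' : k], where E · E = deg_k(L|_E) for an invertible L with L ⊗ I(E) ≅
O_X. Then there are an arithmetic surface Y over Spec R, an R-morphism f : X → Y and a closed point
y of Y such that f maps E onto y, the inverse image of Y minus y is exactly X minus E, and f
restricts to an isomorphism from X minus E onto Y minus y. -/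
theorem result (R : Type u) [CommRing R] [IsDomain R] [IsDiscreteValuationRing R]
    (X : Over (Spec (CommRingCat.of R))) (hX : ArSurf.IsArithSurface R X) (E : ArSurf.VertComp R X)
    (k' : Type u) [Field k'] [Algebra (IsLocalRing.ResidueField R) k'] [FiniteDimensional (IsLocalRing.ResidueField R) k']
    (e : E.curve.left ≅ CohB1.ProjSpace 1 k')
    (he : e.hom ≫ (CohB1.ProjSpace 1 k' ↘ Spec (CommRingCat.of k')) ≫
      Spec.map (CommRingCat.ofHom (algebraMap (IsLocalRing.ResidueField R) k')) = E.curve.hom)
    (L : X.left.Modules) (hL : ClSub.IsInverseOf L (ClSub.idealMod E.ι.ker))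
    (hself : ArSurf.inter R X L E = -(Module.finrank (IsLocalRing.ResidueField R) k' : ℤ)) :
    ∃ (Y : Over (Spec (CommRingCat.of R))) (f : X ⟶ Y) (y : Y.left) (hy : IsClosed ({y} : Set Y.left)),
      ArSurf.IsArithSurface R Y ∧ Set.range (E.ι ≫ f.left) = {y} ∧
      (f.left ⁻¹ᵁ (⟨{y}ᶜ, hy.isOpen_compl⟩ : Y.left.Opens) : Set X.left) = (Set.range E.ι)ᶜ ∧
      IsIso (f.left ∣_ (⟨{y}ᶜ, hy.isOpen_compl⟩ : Y.left.Opens)) := by
  haveI := E.isClosedImmersion
  haveI := E.isIntegral
  haveI hp : IsProper X.hom := ArSurfInter.isProper_hom hX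
  let k := IsLocalRing.ResidueField R
  let φ : k →+* k' := algebraMap k k'
  letI : E.curve.left.Over (Spec (CommRingCat.of k')) := ⟨e.hom ≫ CohB1.ProjSpace.toSpec 1 k'⟩
  haveI : IsProper (CohB1.ProjSpace.toSpec 1 k') := PnCoh.Chow.isProper_toSpec 1 k'
  haveI : IsProper (E.curve.left ↘ Spec (CommRingCat.of k')) :=
    inferInstanceAs (IsProper (e.hom ≫ CohB1.ProjSpace.toSpec 1 k'))
  have hline : e.symm.hom ≫ (E.curve.left ↘ Spec (CommRingCat.of k')) = CohB1.ProjSpace.toSpec 1 k' :=
    e.inv_hom_id_assoc _
  obtain ⟨a0, a1, -⟩ := MdlInter.line_structure k' e.symm hline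
  have hφ : (E.curve.left ↘ Spec (CommRingCat.of k)) =
      (E.curve.left ↘ Spec (CommRingCat.of k')) ≫ Spec.map (CommRingCat.ofHom φ) := by
    show E.curve.hom = (e.hom ≫ CohB1.ProjSpace.toSpec 1 k') ≫ _
    rw [Category.assoc]
    exact he.symm
  have hd : MdlInter.extDeg φ = Module.finrank k k' := by
    show @Module.finrank k k' _ _ φ.toAlgebra.toModule = _
    have halg : φ.toAlgebra = (inferInstance : Algebra k k') := Algebra.algebra_ext _ _ fun _ => rfl
    rw [halg]
  have hw : Models.wdeg R X E = Module.finrank k k' := by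
    show Module.finrank k (Coh.HH E.curve.left (Coh.structureModule E.curve.left) 0) = _
    rw [MdlInter.finrank_HH_change φ hφ, a0, mul_one, hd]
  have hh : Models.h1 R X E = 0 := by
    show Module.finrank k (Coh.HH E.curve.left (Coh.structureModule E.curve.left) 1) = _
    rw [MdlInter.finrank_HH_change φ hφ, a1, mul_zero]
  have hI := ArSurfInter.isEffCartier_ker hX E
  have hIi : PicF.IsInvertible (ClSub.idealMod E.ι.ker) := (S8914.result _).2 hI
  have hcl : PicF.cl L * PicF.cl (ClSub.idealMod E.ι.ker) = 1 := (PicGrp.cl_eq_cl_iff _ _).2 hL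
  have hexc : Models.IsExcCurve E.ι :=
    (MdlInter.exc_iff (p := X.hom) E L (PointBlowUp.isInvertible_of_cl_mul hIi hcl) hI hcl).2
      ⟨hh, by rw [show Models.wdeg R (Over.mk X.hom) E = Module.finrank k k' from hw]; exact hself⟩
  obtain ⟨Y, f, y, hy, hY, -, -, hr, hpre, hiso⟩ := ArSurfContract.exists_contraction hX E hexc
  exact ⟨Y, f, y, hy, hY, hr, hpre, hiso⟩

end Groth.Agent.S3254
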