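import Groth.Statements.S3314
import Groth.Agent.MdlInter.Twist

set_option autoImplicit false
set_option backward.isDefEq.respectTransparency false
set_option backward.isDefEq.respectTransparency.types false
set_option maxHeartbeats 1000000
set_option linter.style.haveILetI false
universe u
open CategoryTheory CategoryTheory.Limits AlgebraicGeometry
open Models

namespace Groth.Agent.S3314
open scoped Groth.Agent.H23.PicMul

/-- Let R be a discrete valuation ring with fraction field K, C a smooth proper curve over K with H⁰(C,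
O_C) = K, X a regular proper model of C over R, Γ_1, …, Γ_n the irreducible components of the closed
fibre with multiplicities m_i, and L_i invertible O_X-modules with L_i ⊗ I(Γ_i) ≅ O_X (that is, L_i
= O_X(Γ_i)). For exponent vectors a, b with natural-number entries, the modules L_1^{a_1} ⊗ ⋯ ⊗
L_n^{a_n} and L_1^{b_1} ⊗ ⋯ ⊗ L_n^{b_n} are isomorphic if and only if a − b is an integer multiple
of (m_1, …, m_n). (Equivalently: the kernel of ℤⁿ → Pic(X), e_i ↦ [O_X(Γ_i)], is generated by (m_1,
…, m_n).) -/
theorem result (R : Type u) [CommRing R] [IsDomain R] [IsDiscreteValuationRing R]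
    (C X : Scheme.{u}) (f : C ⟶ Spec (CommRingCat.of (FractionRing R))) (p : X ⟶ Spec (CommRingCat.of R))
    (hC : Curve.IsSmoothProperCurve (FractionRing R) C f) (hH0 : IsIso f.appTop)
    (hX : Models.IsRegularProperModel R X p C f)
    {n : ℕ} (Γ : Fin n → ArSurf.VertComp R (Over.mk p)) (hΓ : Models.IsComponentList R (Over.mk p) Γ)
    (L : Fin n → X.Modules) (hL : ∀ i, ClSub.IsInverseOf (L i) (ClSub.idealMod (Γ i).ι.ker)) (a b : Fin n → ℕ) :
    Nonempty (FGA.multiTwist L a ≅ FGA.multiTwist L b) ↔
      ∃ c : ℤ, ∀ i, (a i : ℤ) - (b i : ℤ) = c * (Models.mult R (Over.mk p) (Γ i) : ℤ) := by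
  classical
  haveI := hX.2.1
  have S := MdlInter.setting_of_model hX hΓ
  obtain ⟨⟨-, -, -, g, hg⟩, -, hreg⟩ := id hX
  haveI := hX.1.1
  have hglob := MdlInter.bijective_toGlobal_of_model f p hreg g hg (ConcreteCategory.bijective_of_isIso f.appTop)
  rw [← H23.PicMul.cl_eq_iff, IntSym.cl_multiTwist, IntSym.cl_multiTwist]
  constructor
  · intro h
    have h1 := S.prod_cl_L L hL a
    have h2 := S.prod_cl_L L hL b
    rw [h] at h1
    have h3 : PicF.cl (ClSub.idealMod (∏ i, MdlInter.comp Γ i ^ a i)) =
        PicF.cl (ClSub.idealMod (∏ i, MdlInter.comp Γ i ^ b i)) := by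
      rw [S.cl_idealMod_prod, S.cl_idealMod_prod]
      exact (IsUnit.of_mul_eq_one _ h2).mul_left_cancel (h1.trans h2.symm)
    exact S.exponents_of_iso hglob (H23.PicMul.cl_eq_iff.1 h3).some
  · rintro ⟨c, hc⟩
    have hone : ∏ i, PicF.cl (L i) ^ Models.mult R (Over.mk p) (Γ i) = 1 := by
      rw [← IntSym.cl_multiTwist]
      exact S.cl_multiTwist_mult L hL
    obtain ⟨d, rfl | rfl⟩ := c.eq_nat_or_neg
    · have ha : ∀ i, a i = b i + d * Models.mult R (Over.mk p) (Γ i) := fun i => by
        have := hc i
        exact_mod_cast (show (a i : ℤ) = b i + d * Models.mult R (Over.mk p) (Γ i) by linarith)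
      simp only [ha, pow_add, Finset.prod_mul_distrib, pow_mul']
      rw [Finset.prod_pow, hone, one_pow, mul_one]
    · have hb : ∀ i, b i = a i + d * Models.mult R (Over.mk p) (Γ i) := fun i => by
        have := hc i
        exact_mod_cast (show (b i : ℤ) = a i + d * Models.mult R (Over.mk p) (Γ i) by linarith)
      simp only [hb, pow_add, Finset.prod_mul_distrib, pow_mul']
      rw [Finset.prod_pow, hone, one_pow, mul_one]

end Groth.Agent.S3314
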