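import Groth.Statements.S3322
import Groth.Agent.MdlInter.NumType

set_option autoImplicit false
set_option backward.isDefEq.respectTransparency false
set_option backward.isDefEq.respectTransparency.types false
set_option maxHeartbeats 1000000
set_option linter.style.haveILetI false
universe u
open CategoryTheory CategoryTheory.Limits AlgebraicGeometry
open Models

namespace Groth.Agent.S3322

/-- In the following situation (R a discrete valuation ring with residue field k, C a smooth proper
curve over its fraction field K with H^0(C, O_C) = K, X a regular proper model, Γ_1, …, Γ_n the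
irreducible components of the closed fibre with multiplicities m_i, L_i ⊗ I(Γ_i) ≅ O_X) the data n,
m_i, a_ij = (Γ_i · Γ_j) = deg_k(L_j|Γ_i), w_i = dim_k H^0(Γ_i, O) and g_i with w_i g_i = dim_k
H^1(Γ_i, O) is a numerical type (n > 0, m_i > 0, (a_ij) symmetric with non-negative off-diagonal
entries, connected, killing m, w_i | a_ij, g_i ≥ 0), and its genus is the genus dim_K H^1(C, O_C) of
C. -/
theorem result (R : Type u) [CommRing R] [IsDomain R] [IsDiscreteValuationRing R]
    (C X : Scheme.{u}) (f : C ⟶ Spec (CommRingCat.of (FractionRing R))) (p : X ⟶ Spec (CommRingCat.of R))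
    (hC : Curve.IsSmoothProperCurve (FractionRing R) C f) (hH0 : IsIso f.appTop)
    (hX : Models.IsRegularProperModel R X p C f)
    {n : ℕ} (Γ : Fin n → ArSurf.VertComp R (Over.mk p)) (hΓ : Models.IsComponentList R (Over.mk p) Γ)
    (L : Fin n → X.Modules) (hL : ∀ i, ClSub.IsInverseOf (L i) (ClSub.idealMod (Γ i).ι.ker)) :
    ∃ T : Models.NumericalType n,
      (∀ i, T.m i = (Models.mult R (Over.mk p) (Γ i) : ℤ)) ∧ (∀ i j, T.a i j = ArSurf.inter R (Over.mk p) (L j) (Γ i)) ∧
      (∀ i, T.w i = (Models.wdeg R (Over.mk p) (Γ i) : ℤ)) ∧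
      (∀ i, T.w i * T.g i = (Models.h1 R (Over.mk p) (Γ i) : ℤ)) ∧
      T.genus = (Models.curveGenus (FractionRing R) C f : ℤ) := by
  classical
  haveI := hX.2.1
  have S := MdlInter.setting_of_model hX hΓ
  have hn : 0 < n := by
    obtain ⟨-, y, hy⟩ := MdlInter.isPreconnected_specialFibreSet hH0 hX
    obtain ⟨i, -⟩ := S.exists_gp hy
    exact i.pos
  have hw : ∀ i, 0 < Models.wdeg R (Over.mk p) (Γ i) := fun i => MdlInter.wdeg_pos (Γ i)
  have hg : ∀ i, (Models.wdeg R (Over.mk p) (Γ i) : ℤ) * ((Models.h1 R (Over.mk p) (Γ i) : ℤ) / (Models.wdeg R (Over.mk p) (Γ i) : ℤ)) =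
      (Models.h1 R (Over.mk p) (Γ i) : ℤ) := fun i =>
    Int.mul_ediv_cancel' (Int.natCast_dvd_natCast.2 (MdlInter.wdeg_dvd_h1 (Γ i)))
  refine ⟨{ m := fun i => (Models.mult R (Over.mk p) (Γ i) : ℤ)
            a := fun i j => ArSurf.inter R (Over.mk p) (L j) (Γ i)
            w := fun i => (Models.wdeg R (Over.mk p) (Γ i) : ℤ)
            g := fun i => (Models.h1 R (Over.mk p) (Γ i) : ℤ) / (Models.wdeg R (Over.mk p) (Γ i) : ℤ)
            pos := hn
            m_pos := fun i => by exact_mod_cast S.mult_pos i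
            w_pos := fun i => by exact_mod_cast hw i
            g_nonneg := fun i => Int.ediv_nonneg (Int.natCast_nonneg _) (Int.natCast_nonneg _)
            symm := Matrix.IsSymm.ext fun i j => (S.inter_comm L hL i j).symm
            offDiag_nonneg := fun i j hij => S.inter_nonneg L hL hij
            connected := fun I hI hI' => MdlInter.exists_meeting hH0 hX hΓ L hL I hI hI'
            mulVec_m := funext fun i => ?_
            w_dvd := fun i j => MdlInter.wdeg_dvd_inter (L j) (Γ i) },
    fun _ => rfl, fun _ _ => rfl, fun _ => rfl, hg, ?_⟩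
  · refine Eq.trans ?_ (S.sum_mult_inter L hL i)
    show ∑ j, ArSurf.inter R (Over.mk p) (L j) (Γ i) * (Models.mult R (Over.mk p) (Γ j) : ℤ) = _
    exact Finset.sum_congr rfl fun j _ => mul_comm _ _
  · have h := MdlInter.genus_formula hC hH0 hX hΓ L hL
    have e : ∀ i, (Models.mult R (Over.mk p) (Γ i) : ℤ) * (ArSurf.inter R (Over.mk p) (L i) (Γ i) +
        2 * MdlInter.chiK (Γ i) (Coh.structureModule (Γ i).curve.left)) =
      (Models.mult R (Over.mk p) (Γ i) : ℤ) * ArSurf.inter R (Over.mk p) (L i) (Γ i) -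
        2 * ((Models.mult R (Over.mk p) (Γ i) : ℤ) * (Models.wdeg R (Over.mk p) (Γ i) : ℤ) *
          ((Models.h1 R (Over.mk p) (Γ i) : ℤ) / (Models.wdeg R (Over.mk p) (Γ i) : ℤ) - 1)) := fun i => by
      rw [mul_sub (_ * _) _ 1, mul_one, mul_assoc _ (Models.wdeg R (Over.mk p) (Γ i) : ℤ), hg i]
      simp [MdlInter.chiK, FGA.eulerCharLE, Finset.sum_range_succ, Models.wdeg, Models.h1]
      ring
    rw [Finset.sum_congr rfl fun i _ => e i, Finset.sum_sub_distrib, ← Finset.mul_sum] at h
    simp only [Models.NumericalType.genus]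
    omega

end Groth.Agent.S3322
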