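import Groth.Statements.S3334
import Groth.Agent.SepPoint.Conic
import Groth.Agent.CurveEmbed.Conic
import Groth.Agent.CurveBC.Geometry
import Groth.Agent.MdlInter.Genus
import Groth.Agent.GeomConn5.Point
import Groth.Agent.S7806

set_option autoImplicit false
set_option backward.isDefEq.respectTransparency false
set_option backward.isDefEq.respectTransparency.types false
set_option maxHeartbeats 1000000
set_option linter.style.haveILetI false
universe u
open CategoryTheory CategoryTheory.Limits AlgebraicGeometry
open Models

namespace Groth.Agent.S3334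

/-- Let R be a discrete valuation ring with fraction field K and C a smooth proper curve over K with
H^0(C, O_C) = K and genus dim_K H^1(C, O_C) = 0. Then there is a finite separable field extension K
→ K' of degree at most 2 such that C_{K'} is K'-isomorphic to the projective line over K' (so that
C_{K'} is the generic fibre of the projective line over the integral closure of R in K'). The
printed statement says degree 2; the argument produces an extension of degree at most 2, which is
what is asserted here. -/
theorem result (R : Type u) [CommRing R] [IsDomain R] [IsDiscreteValuationRing R]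
    (C : Scheme.{u}) (f : C ⟶ Spec (CommRingCat.of (FractionRing R)))
    (hC : Curve.IsSmoothProperCurve (FractionRing R) C f) (hH0 : IsIso f.appTop)
    (hg : Models.curveGenus (FractionRing R) C f = 0) :
    ∃ (K' : Type u) (_ : Field K') (ψ : FractionRing R →+* K'),
      Models.IsFiniteSeparable ψ ∧ Models.homDegree ψ ≤ 2 ∧
      ∃ e : (pullback f (Spec.map (CommRingCat.ofHom ψ))) ≅ CohB1.ProjSpace 1 K',
        e.hom ≫ CohB1.ProjSpace.toSpec 1 K' = (pullback.snd f (Spec.map (CommRingCat.ofHom ψ))) := by
  obtain ⟨hpr, hsm, hint, hdim⟩ := hC
  letI : C.Over (Spec (CommRingCat.of (FractionRing R))) := ⟨f⟩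
  haveI : IsProper (C ↘ Spec (CommRingCat.of (FractionRing R))) := hpr
  haveI : Smooth (C ↘ Spec (CommRingCat.of (FractionRing R))) := hsm
  haveI := hint
  have h0 := Groth.Agent.MdlInter.finrank_h0_of_isIso f hH0
  have hg0 : Curv2.genus (FractionRing R) C = 0 := hg
  obtain ⟨x, hxc, hxs, hxd, hxf⟩ :=
    Groth.Agent.SepPoint.exists_separable_point_genus_zero (FractionRing R) C hdim h0 hg0
  let ψ := Curv2.resMap (FractionRing R) C x
  refine ⟨C.residueField x, inferInstance, ψ, ⟨hxf, hxs⟩, hxd, ?_⟩
  letI : Algebra (FractionRing R) (C.residueField x) := ψ.toAlgebra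
  let σ := Spec.map (CommRingCat.ofHom ψ)
  let C' := pullback f σ
  letI : C'.Over (Spec (CommRingCat.of (C.residueField x))) := ⟨pullback.snd f σ⟩
  have hpb : IsPullback (pullback.fst f σ) (C' ↘ Spec (CommRingCat.of (C.residueField x)))
      (C ↘ Spec (CommRingCat.of (FractionRing R)))
      (Spec.map (CommRingCat.ofHom (algebraMap (FractionRing R) (C.residueField x)))) := IsPullback.of_hasPullback f σ
  haveI := Groth.Agent.CurveBC.isProper (FractionRing R) (C.residueField x) _ hpb
  haveI := Groth.Agent.CurveBC.smooth (FractionRing R) (C.residueField x) _ hpb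
  haveI := Groth.Agent.CurveBC.isIntegral (FractionRing R) (C.residueField x) _ hpb h0
  have hdim' := Groth.Agent.CurveBC.topologicalKrullDim_eq (FractionRing R) (C.residueField x) _ hpb hdim
  haveI := quasiSeparatedSpace_of_quasiSeparated (C ↘ Spec (CommRingCat.of (FractionRing R)))
  haveI := QuasiCompact.compactSpace_of_compactSpace (C ↘ Spec (CommRingCat.of (FractionRing R)))
  have hg' : Curv2.genus (C.residueField x) C' = 0 :=
    (Groth.Agent.CurveBC.genus_eq (FractionRing R) (C.residueField x) _ hpb).trans hg0
  haveI := Groth.Agent.CurveCohLib.isNoetherian_of_proper (k := C.residueField x) (X := C')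
  haveI := Groth.Agent.CurveCohLib.finite_HH (k := C.residueField x)
    (Groth.Agent.QCoh.isCoh_structureModule' (X := C')) 1
  have h1 : Subsingleton (Coh.HH C' (Coh.structureModule C') 1) :=
    Module.finrank_zero_iff.1 (show Module.finrank (C.residueField x) (Coh.HH C' (Coh.structureModule C') 1) = 0 from hg')
  let s : Spec (CommRingCat.of (C.residueField x)) ⟶ C' := pullback.lift (C.fromSpecResidueField x) (𝟙 _)
    (by rw [Category.id_comp]; exact Groth.Agent.GeomConn5.spec_resMap (k := FractionRing R) x)
  have hs : s ≫ (C' ↘ Spec (CommRingCat.of (C.residueField x))) = 𝟙 _ := pullback.lift_snd _ _ _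
  let pt : C' := s (IsLocalRing.closedPoint (C.residueField x))
  haveI : IsClosedImmersion s := by
    haveI : IsClosedImmersion (s ≫ (C' ↘ Spec (CommRingCat.of (C.residueField x)))) := by rw [hs]; infer_instance
    exact IsClosedImmersion.of_comp s (C' ↘ Spec (CommRingCat.of (C.residueField x)))
  have hpt : IsClosed ({pt} : Set C') := by
    rw [← Set.image_singleton]
    refine s.isClosedEmbedding.isClosedMap _ ?_
    exact IsLocalRing.isClosed_singleton_closedPoint _
  refine Groth.Agent.CurveEmbed.exists_iso_line_of_point (C.residueField x) hdim' h1 hpt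
    (by rw [Scheme.Hom.smoothLocus_eq_top]; trivial) ?_
  exact Groth.Agent.S7806.resMap_surjective (W := Over.mk (C' ↘ Spec (CommRingCat.of (C.residueField x))))
    (Over.homMk s hs) rfl

end Groth.Agent.S3334
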