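import Groth.Statements.S3338
import Groth.Agent.SmoothMinimal.Basic
import Groth.Agent.FibIso.Dvr
import Groth.Agent.CurveCohLib.SmoothCurve
import Groth.Agent.S2209
import Groth.Agent.S4921
import Groth.Agent.CharCycDim.Basic
import Groth.Agent.ModPairLib.Basic
import Groth.Agent.FComplLib.Spf
import Groth.Agent.DvrPushIso

set_option autoImplicit false
set_option backward.isDefEq.respectTransparency false
set_option backward.isDefEq.respectTransparency.types false
set_option maxHeartbeats 1000000
set_option linter.style.haveILetI false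
universe u
open CategoryTheory CategoryTheory.Limits AlgebraicGeometry
open Models

namespace Groth.Agent.S3338

open Groth.Agent CategoryTheory.Limits Groth.Agent.FibDim

/-- The step (1) implies (2) as proved there: let R be a discrete valuation ring with fraction field K,
C a smooth proper curve over K with H^0(C, O_C) = K, and X a proper smooth model of C over R. Then X
is a minimal model (regular, proper, with no exceptional curve of the first kind in its closed
fibre). -/
theorem result (R : Type u) [CommRing R] [IsDomain R] [IsDiscreteValuationRing R]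
    (C X : Scheme.{u}) (f : C ⟶ Spec (CommRingCat.of (FractionRing R))) (p : X ⟶ Spec (CommRingCat.of R))
    (hC : Curve.IsSmoothProperCurve (FractionRing R) C f) (hH0 : IsIso f.appTop)
    (hX : Models.IsModel R X p C f) [IsProper p] [Smooth p] :
    Models.IsMinimalModel R X p C f := by
  obtain ⟨-, -, -, g, hg⟩ := id hX
  have hreg : Models.IsRegularScheme X := fun x => FibIso.isRegularLocalRing_stalk_of_smooth p x
  refine ⟨⟨hX, inferInstance, hreg⟩, fun Γ hexc => ?_⟩
  obtain ⟨hcart, k', _, e, ⟨φ⟩⟩ := hexc
  have hdimC := hC.2.2.2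
  let i : Spec (CommRingCat.of (IsLocalRing.ResidueField R)) ⟶ Spec (CommRingCat.of R) :=
    Spec.map (CommRingCat.ofHom (IsLocalRing.residue R))
  let iK : Spec (CommRingCat.of (FractionRing R)) ⟶ Spec (CommRingCat.of R) :=
    Spec.map (CommRingCat.ofHom (algebraMap R (FractionRing R)))
  haveI : IsClosedImmersion i := IsClosedImmersion.spec_of_surjective _ IsLocalRing.residue_surjective
  haveI : IsPreimmersion iK := IsPreimmersion.of_isLocalization (nonZeroDivisors R)
  let Xs := pullback p i
  let q := pullback.snd p i
  haveI : ConnectedSpace ↥Xs := S2209.result R C X f p hC hH0 ⟨hX, inferInstance, hreg⟩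
  haveI : CompactSpace ↥Xs := QuasiCompact.compactSpace_of_compactSpace q
  haveI : IsIntegral Xs := CurveCohLib.isIntegral_of_smooth_connected q
  -- fibre dimensions
  have hcl : ∀ y, i y = IsLocalRing.closedPoint R := fun y => by
    rw [show y = IsLocalRing.closedPoint (IsLocalRing.ResidueField R) from
      Subsingleton.elim (α := PrimeSpectrum (IsLocalRing.ResidueField R)) _ _]
    exact IsLocalRing.comap_closedPoint (IsLocalRing.residue R)
  let η : PrimeSpectrum R := ⟨⊥, Ideal.isPrime_bot⟩
  have hgen : ∀ y, iK y = η := fun y => by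
    rw [show y = IsLocalRing.closedPoint (FractionRing R) from
      Subsingleton.elim (α := PrimeSpectrum (FractionRing R)) _ _]
    refine PrimeSpectrum.ext ?_
    show Ideal.comap (algebraMap R (FractionRing R)) (IsLocalRing.closedPoint (FractionRing R)).asIdeal = ⊥
    rw [show (IsLocalRing.closedPoint (FractionRing R)).asIdeal = ⊥ from IsLocalRing.maximalIdeal_eq_bot]
    exact Ideal.comap_bot_of_injective _ (IsFractionRing.injective R (FractionRing R))
  have hdim_eq : ∀ {T U : Scheme.{u}} (j : U ⟶ Spec (CommRingCat.of R)) (a : T ⟶ X) (b : T ⟶ U) [IsPreimmersion j]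
      (_ : IsPullback a b p j) [Nonempty U] (y : ↥(Spec (CommRingCat.of R))) (_ : ∀ z, j z = y),
      topologicalKrullDim ↥(p.fiber y) = topologicalKrullDim ↥T := by
    intro T U j a b _ hab _ y hy
    haveI : IsPreimmersion a := MorphismProperty.of_isPullback (P := @IsPreimmersion) hab.flip inferInstance
    have hr : Set.range a = p ⁻¹' {y} := by
      rw [← hab.isoPullback_hom_fst, Scheme.Hom.comp_base, TopCat.coe_comp,
        Set.range_comp, (Set.range_eq_univ.2 hab.isoPullback.hom.surjective), Set.image_univ, Scheme.Pullback.range_fst]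
      congr 1
      ext w
      exact ⟨fun ⟨z, hz⟩ => hz ▸ hy z, fun hw => ⟨Classical.arbitrary _, (hy _).trans hw.symm⟩⟩
    rw [(p.fiberHomeo y).isHomeomorph.topologicalKrullDim_eq,
      (a.isEmbedding.toHomeomorph.trans (Homeomorph.setCongr hr)).isHomeomorph.topologicalKrullDim_eq]
  have hdimXs : topologicalKrullDim ↥Xs = 1 := by
    obtain ⟨V, hV, hVd⟩ := S4921.result p (IsLocalRing.closedPoint R) fun x _ V hV =>
      p.isOpenMap.image_mem_nhds hV
    have hη : η ∈ V := by
      obtain ⟨O, hOV, hO, hcO⟩ := mem_nhds_iff.1 hV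
      exact hOV (((IsLocalRing.specializes_closedPoint (R := R) η)).mem_open hO hcO)
    rw [← hdim_eq i (pullback.fst p i) q (IsPullback.of_hasPullback p i) _ hcl, ← hVd _ hη,
      hdim_eq iK g f hg _ hgen, hdimC]
  -- the component is the whole special fibre
  let j : Γ.curve.left ⟶ Xs := pullback.lift Γ.ι Γ.curve.hom Γ.w
  have hj : j ≫ pullback.fst p i = Γ.ι := pullback.lift_fst _ _ _
  haveI : IsClosedImmersion j := by
    haveI : IsClosedImmersion (j ≫ pullback.fst p i) := by rw [hj]; exact Γ.isClosedImmersion
    exact IsClosedImmersion.of_comp j (pullback.fst p i)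
  haveI : Surjective j := by
    have hrd : rd q (genericPoint ↥Xs) ≤ rd q (j (genericPoint ↥Γ.curve.left)) := by
      rw [← CharCycDim.rd_immersion q j]
      have h1 := (CharCycDim.dim_le_iff' q 1).1 hdimXs.le (genericPoint ↥Xs)
      refine h1.trans ?_
      by_contra hlt
      have h0 : topologicalKrullDim ↥Γ.curve.left ≤ ((0 : ℕ) : WithBot ℕ∞) :=
        (CharCycDim.dim_le_iff' (j ≫ q) 0).2 fun z =>
          (CharCycDim.rd_le_of_specializes' (j ≫ q) ((genericPoint_spec _).specializes (Set.mem_univ z))).trans
            (by omega)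
      rw [Γ.dim_eq] at h0
      exact absurd h0 (by decide)
    have heq := CharCycDim.eq_of_specializes_of_rd_le q
      ((genericPoint_spec ↥Xs).specializes (Set.mem_univ (j (genericPoint ↥Γ.curve.left)))) hrd
    refine ⟨fun z => ?_⟩
    have : (Set.univ : Set ↥Xs) ⊆ Set.range j := by
      rw [← (genericPoint_spec ↥Xs).def]
      exact (j.isClosedEmbedding.isClosed_range).closure_subset_iff.2
        (Set.singleton_subset_iff.2 ⟨_, heq.symm⟩)
    exact this (Set.mem_univ z)
  haveI : IsIso j := isIso_of_isClosedImmersion_of_surjective j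
  -- its ideal is generated by a uniformizer
  obtain ⟨ϖ, hϖ⟩ := IsDiscreteValuationRing.exists_irreducible R
  have hideal : ∀ U : X.affineOpens, Γ.ι.ker.ideal U =
      Ideal.span {X.presheaf.map (homOfLE le_top).op (DvrPushIso.str p ⊤ ϖ)} := by
    intro U
    rw [← hj, Scheme.Hom.ker_comp_of_isIso, Scheme.IdealSheafData.ker_fst_of_isClosedImmersion,
      ModPairLib.ideal_comap _ p ⟨⊤, isAffineOpen_top _⟩ U le_top,
      FComplLib.ker_specMap_ideal _ IsLocalRing.residue_surjective, IsLocalRing.ker_residue, hϖ.maximalIdeal_eq,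
      Ideal.map_span, Ideal.map_span, Set.image_singleton, Set.image_singleton, DvrPushIso.str_res]
    rfl
  have htriv := (SmoothMinimal.triv_idealMod _ hcart _ hideal).pullback (e.hom ≫ Γ.ι)
  haveI : Nonempty ↥(CohB1.ProjSpace 1 k') := ⟨e.inv (genericPoint ↥Γ.curve.left)⟩
  haveI : IsIntegral (CohB1.ProjSpace 1 k') := isIntegral_of_isOpenImmersion e.hom
  exact SmoothMinimal.not_triv_twist_one k' (htriv.of_iso φ)

end Groth.Agent.S3338
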