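import Groth.Statements.S3340
import Groth.Agent.MdlInter.Combo

set_option autoImplicit false
set_option backward.isDefEq.respectTransparency false
set_option backward.isDefEq.respectTransparency.types false
set_option maxHeartbeats 1000000
set_option linter.style.haveILetI false
universe u
open CategoryTheory CategoryTheory.Limits AlgebraicGeometry
open Models

namespace Groth.Agent.S3340
open scoped Groth.Agent.H23.PicMul

/-- In the following situation (R a discrete valuation ring, C a smooth proper curve over its fraction
field K with H^0(C, O_C) = K, X a regular proper model with generic-fibre inclusion g, Γ_1, …, Γ_n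
the irreducible components of the closed fibre with multiplicities m_i) let d = gcd(m_1, …, m_n). If
M is an invertible O_X-module whose pullback to C is trivial and whose degree on each Γ_i is zero,
then the d-th tensor power of M is trivial. -/
theorem result (R : Type u) [CommRing R] [IsDomain R] [IsDiscreteValuationRing R]
    (C X : Scheme.{u}) (f : C ⟶ Spec (CommRingCat.of (FractionRing R))) (p : X ⟶ Spec (CommRingCat.of R))
    (hC : Curve.IsSmoothProperCurve (FractionRing R) C f) (hH0 : IsIso f.appTop)
    (hX : Models.IsRegularProperModel R X p C f)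
    {n : ℕ} (Γ : Fin n → ArSurf.VertComp R (Over.mk p)) (hΓ : Models.IsComponentList R (Over.mk p) Γ)
    (g : C ⟶ X) (hg : IsPullback g f p (Spec.map (CommRingCat.ofHom (algebraMap R (FractionRing R))))) (M : X.Modules) (hM : PicF.IsInvertible M)
    (htriv : Nonempty ((Scheme.Modules.pullback g).obj M ≅ Coh.structureModule C))
    (hdeg : ∀ i, ArSurf.inter R (Over.mk p) M (Γ i) = 0) :
    Nonempty (CohB1.tensorPow M (Models.multGcd R (Over.mk p) Γ) ≅ Coh.structureModule X) := by
  classical
  haveI := hX.2.1
  have S := MdlInter.setting_of_model hX hΓ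
  have hglob := MdlInter.bijective_toGlobal hH0 hX
  choose L hinv hL' using fun i => H23.PicInv.exists_inverse ((S8914.result _).2 (S.isEffCartier i))
  have hL : ∀ i, ClSub.IsInverseOf (L i) (ClSub.idealMod (MdlInter.comp Γ i)) := fun i =>
    H23.PicMul.cl_eq_iff.1 (by
      rw [H23.PicMul.cl_tensor, mul_comm, ← H23.PicMul.cl_tensor]; exact H23.PicMul.cl_eq_iff.2 (hL' i))
  obtain ⟨v, hv⟩ := S.exists_comboCl L hL g hg hM htriv
  obtain ⟨t, ht⟩ := S.ker_inter L hL hH0 hX v fun i => by
    have h := S.inter_eq L hL hM CurveDeg.isInvertible_structureModule v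
      (by rw [← H23.PicMul.one_def, one_mul, hv]) i
    rw [hdeg i, MdlInter.inter_structure, zero_add] at h
    exact h.symm
  refine H23.PicMul.cl_eq_iff.1 ?_
  rw [H23.PicMul.cl_tensorPow, ← H23.PicMul.one_def, hv, ← Units.val_pow_eq_pow_val, ← Units.val_one,
    ← zpow_natCast, ← S.comboCl_smul]
  refine congrArg Units.val ((S.comboCl_eq_one_iff L hL hglob _).2 ⟨t, fun i => ?_⟩)
  rw [ht i, MdlInter.Setting.mult_eq]
  ring

end Groth.Agent.S3340
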