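import Groth.Statements.S3341
import Groth.Agent.MdlInter.Combo
import Groth.Agent.S19918

set_option autoImplicit false
set_option backward.isDefEq.respectTransparency false
set_option backward.isDefEq.respectTransparency.types false
set_option maxHeartbeats 1000000
set_option linter.style.haveILetI false
universe u
open CategoryTheory CategoryTheory.Limits AlgebraicGeometry
open Models

namespace Groth.Agent.S3341
open scoped Groth.Agent.H23.PicMul

/-- In the following situation (R a discrete valuation ring, C a smooth proper curve over its fraction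
field K with H^0(C, O_C) = K, X a regular proper model with generic-fibre inclusion g, Γ_1, …, Γ_n
the irreducible components of the closed fibre with multiplicities m_i) let d = gcd(m_1, …, m_n) and
let h ≥ 1 be prime to d. If M is an invertible O_X-module with M^{⊗h} ≅ O_X whose pullback to C is
trivial, then M ≅ O_X: the map Pic(X)[h] → Pic(C)[h] is injective. -/
theorem result (R : Type u) [CommRing R] [IsDomain R] [IsDiscreteValuationRing R]
    (C X : Scheme.{u}) (f : C ⟶ Spec (CommRingCat.of (FractionRing R))) (p : X ⟶ Spec (CommRingCat.of R))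
    (hC : Curve.IsSmoothProperCurve (FractionRing R) C f) (hH0 : IsIso f.appTop)
    (hX : Models.IsRegularProperModel R X p C f)
    {n : ℕ} (Γ : Fin n → ArSurf.VertComp R (Over.mk p)) (hΓ : Models.IsComponentList R (Over.mk p) Γ)
    (g : C ⟶ X) (hg : IsPullback g f p (Spec.map (CommRingCat.ofHom (algebraMap R (FractionRing R))))) (h : ℕ) (hh : 0 < h) (hcop : Nat.Coprime h (Models.multGcd R (Over.mk p) Γ))
    (M : X.Modules) (hM : PicF.IsInvertible M)
    (htors : Nonempty (CohB1.tensorPow M h ≅ Coh.structureModule X))
    (htriv : Nonempty ((Scheme.Modules.pullback g).obj M ≅ Coh.structureModule C)) :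
    Nonempty (M ≅ Coh.structureModule X) := by
  classical
  haveI := hX.2.1
  have S := MdlInter.setting_of_model hX hΓ
  have hglob := MdlInter.bijective_toGlobal hH0 hX
  choose L hinv hL' using fun i => H23.PicInv.exists_inverse ((S8914.result _).2 (S.isEffCartier i))
  have hL : ∀ i, ClSub.IsInverseOf (L i) (ClSub.idealMod (MdlInter.comp Γ i)) := fun i =>
    H23.PicMul.cl_eq_iff.1 (by
      rw [H23.PicMul.cl_tensor, mul_comm, ← H23.PicMul.cl_tensor]; exact H23.PicMul.cl_eq_iff.2 (hL' i))
  obtain ⟨k, ⟨hk, hk'⟩, -⟩ := S19918.result R C X f p hC hH0 hX Γ hΓ g hg L hL h hh M hM htors htriv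
  rw [show Nat.gcd h (Models.multGcd R (Over.mk p) Γ) = 1 from hcop] at hk hk'
  obtain rfl : k = 0 := by omega
  refine H23.PicMul.cl_eq_iff.1 ((H23.PicMul.cl_eq_iff.2 hk').trans ?_)
  rw [IntSym.cl_multiTwist, ← H23.PicMul.one_def]
  simp

end Groth.Agent.S3341
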