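import Groth.Statements.S3342
import Groth.Agent.MdlInter.Combo

set_option autoImplicit false
set_option backward.isDefEq.respectTransparency false
set_option backward.isDefEq.respectTransparency.types false
set_option maxHeartbeats 1000000
set_option linter.style.haveILetI false
universe u
open CategoryTheory CategoryTheory.Limits AlgebraicGeometry
open Models

namespace Groth.Agent.S3342
open scoped Groth.Agent.H23.PicMul

/-- In the following situation (R a discrete valuation ring with residue field k, C a smooth proper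
curve over its fraction field K with H^0(C, O_C) = K, X a regular proper model with generic-fibre
inclusion g, Γ_1, …, Γ_n the irreducible components of the closed fibre with multiplicities m_i, L_j
⊗ I(Γ_j) ≅ O_X, a_ij = deg_k(L_j|Γ_i), w_i = dim_k H^0(Γ_i, O)) let d = gcd(m_i) and h ≥ 1 prime to
d. Let N be an invertible O_C-module with N^{⊗h} ≅ O_C which is the restriction of an invertible
O_X-module M whose degree vector (deg_k(M|Γ_i) / w_i)_i lies in the image of the matrix (a_ij / w_i)
(that is, the class of N maps to zero in the Picard group of the numerical type). Then N is the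
restriction of an invertible O_X-module M' with M'^{⊗h} ≅ O_X. -/
theorem result (R : Type u) [CommRing R] [IsDomain R] [IsDiscreteValuationRing R]
    (C X : Scheme.{u}) (f : C ⟶ Spec (CommRingCat.of (FractionRing R))) (p : X ⟶ Spec (CommRingCat.of R))
    (hC : Curve.IsSmoothProperCurve (FractionRing R) C f) (hH0 : IsIso f.appTop)
    (hX : Models.IsRegularProperModel R X p C f)
    {n : ℕ} (Γ : Fin n → ArSurf.VertComp R (Over.mk p)) (hΓ : Models.IsComponentList R (Over.mk p) Γ)
    (g : C ⟶ X) (hg : IsPullback g f p (Spec.map (CommRingCat.ofHom (algebraMap R (FractionRing R))))) (L : Fin n → X.Modules) (hL : ∀ i, ClSub.IsInverseOf (L i) (ClSub.idealMod (Γ i).ι.ker))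
    (h : ℕ) (hh : 0 < h) (hcop : Nat.Coprime h (Models.multGcd R (Over.mk p) Γ))
    (N : C.Modules) (hN : PicF.IsInvertible N) (hNt : Nonempty (CohB1.tensorPow N h ≅ Coh.structureModule C))
    (M : X.Modules) (hM : PicF.IsInvertible M) (hMN : Nonempty ((Scheme.Modules.pullback g).obj M ≅ N))
    (v : Fin n → ℤ)
    (hv : ∀ i, ArSurf.inter R (Over.mk p) M (Γ i) = ∑ j, ArSurf.inter R (Over.mk p) (L j) (Γ i) * v j) :
    ∃ M' : X.Modules, PicF.IsInvertible M' ∧ Nonempty (CohB1.tensorPow M' h ≅ Coh.structureModule X) ∧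
      Nonempty ((Scheme.Modules.pullback g).obj M' ≅ N) := by
  classical
  haveI := hX.2.1
  have S := MdlInter.setting_of_model hX hΓ
  have hglob := MdlInter.bijective_toGlobal hH0 hX
  obtain ⟨M₁, hM₁, hcl⟩ := S.exists_module L hL hM (fun j => -v j)
  have hdeg : ∀ i, ArSurf.inter R (Over.mk p) M₁ (Γ i) = 0 := fun i => by
    rw [S.inter_eq L hL hM₁ hM _ hcl i, hv i, ← Finset.sum_add_distrib]
    exact Finset.sum_eq_zero fun j _ => by ring
  have hpull : H23.PicMul.pullHom g (PicF.cl M₁) = PicF.cl N := by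
    rw [hcl, map_mul, S.pullCl_comboCl L hL g hg, mul_one]
    exact H23.PicMul.cl_eq_iff.2 hMN
  obtain ⟨w, hw⟩ := S.exists_comboCl L hL g hg (InvX.isInvertible_tensorPow hM₁ h) (H23.PicMul.cl_eq_iff.1 (by
    show H23.PicMul.pullHom g (PicF.cl (CohB1.tensorPow M₁ h)) = _
    rw [H23.PicMul.cl_tensorPow, map_pow, hpull, ← H23.PicMul.cl_tensorPow]
    exact H23.PicMul.cl_eq_iff.2 hNt))
  obtain ⟨t, ht⟩ := S.ker_inter L hL hH0 hX w fun i => by
    have h1 := S.inter_eq L hL (InvX.isInvertible_tensorPow hM₁ h) CurveDeg.isInvertible_structureModule w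
      (by rw [← H23.PicMul.one_def, one_mul, hw]) i
    rw [MdlInter.inter_tensorPow (Γ i) hM₁ h, hdeg i, mul_zero, MdlInter.inter_structure, zero_add] at h1
    exact h1.symm
  let d := Models.multGcd R (Over.mk p) Γ
  obtain ⟨x, y, hxy⟩ : ∃ x y : ℤ, x * h + y * d = 1 := Int.isCoprime_iff_nat_coprime.2 (by simpa using hcop)
  obtain ⟨M', hM', hcl'⟩ := S.exists_module L hL hM₁ (fun i => -t * x * MdlInter.Setting.redMult Γ i)
  refine ⟨M', hM', H23.PicMul.cl_eq_iff.1 ?_, H23.PicMul.cl_eq_iff.1 ?_⟩
  · rw [H23.PicMul.cl_tensorPow, hcl', mul_pow, ← H23.PicMul.cl_tensorPow, hw, ← H23.PicMul.one_def,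
      ← Units.val_pow_eq_pow_val, ← Units.val_mul, ← zpow_natCast, ← S.comboCl_smul, ← S.comboCl_add,
      ← Units.val_one]
    refine congrArg Units.val ((S.comboCl_eq_one_iff L hL hglob _).2 ⟨t * y, fun i => ?_⟩)
    rw [Pi.add_apply, ht i, MdlInter.Setting.mult_eq]
    linear_combination -(t * MdlInter.Setting.redMult Γ i) * hxy
  · show H23.PicMul.pullHom g (PicF.cl M') = _
    rw [hcl', map_mul, hpull, S.pullCl_comboCl L hL g hg, mul_one]

end Groth.Agent.S3342
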