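import Groth.Statements.S3348
import Groth.Agent.MdlInter.Combo

set_option autoImplicit false
set_option backward.isDefEq.respectTransparency false
set_option backward.isDefEq.respectTransparency.types false
set_option maxHeartbeats 1000000
set_option linter.style.haveILetI false
universe u
open CategoryTheory CategoryTheory.Limits AlgebraicGeometry
open Models

namespace Groth.Agent.S3348
open scoped Groth.Agent.H23.PicMul

/-- In the following situation (R a discrete valuation ring with residue field k, C a smooth proper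
curve over its fraction field K with H^0(C, O_C) = K, X a regular proper model with generic-fibre
inclusion g, Γ_1, …, Γ_n the irreducible components of the closed fibre, L_j ⊗ I(Γ_j) ≅ O_X, a_ij =
deg_k(L_j|Γ_i), w_i = dim_k H^0(Γ_i, O)) let N be an invertible O_C-module and M an invertible
O_X-module restricting to N. Then the degree vector (deg_k(M|Γ_i))_i is of the form (Σ_j a_ij v_j)_i
for an integer vector v (the class (deg_k(M|Γ_i)/w_i)_i vanishes in the Picard group of the
numerical type, which does not depend on the choice of M) if and only if N is the restriction of an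
invertible O_X-module M' with deg_k(M'|Γ_i) = 0 for all i. -/
theorem result (R : Type u) [CommRing R] [IsDomain R] [IsDiscreteValuationRing R]
    (C X : Scheme.{u}) (f : C ⟶ Spec (CommRingCat.of (FractionRing R))) (p : X ⟶ Spec (CommRingCat.of R))
    (hC : Curve.IsSmoothProperCurve (FractionRing R) C f) (hH0 : IsIso f.appTop)
    (hX : Models.IsRegularProperModel R X p C f)
    {n : ℕ} (Γ : Fin n → ArSurf.VertComp R (Over.mk p)) (hΓ : Models.IsComponentList R (Over.mk p) Γ)
    (g : C ⟶ X) (hg : IsPullback g f p (Spec.map (CommRingCat.ofHom (algebraMap R (FractionRing R))))) (L : Fin n → X.Modules) (hL : ∀ i, ClSub.IsInverseOf (L i) (ClSub.idealMod (Γ i).ι.ker))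
    (N : C.Modules) (hN : PicF.IsInvertible N)
    (M : X.Modules) (hM : PicF.IsInvertible M) (hMN : Nonempty ((Scheme.Modules.pullback g).obj M ≅ N)) :
    (∃ v : Fin n → ℤ, ∀ i, ArSurf.inter R (Over.mk p) M (Γ i) = ∑ j, ArSurf.inter R (Over.mk p) (L j) (Γ i) * v j) ↔
      ∃ M' : X.Modules, PicF.IsInvertible M' ∧ Nonempty ((Scheme.Modules.pullback g).obj M' ≅ N) ∧
        ∀ i, ArSurf.inter R (Over.mk p) M' (Γ i) = 0 := by
  classical
  haveI := hX.2.1
  have S := MdlInter.setting_of_model hX hΓ
  have hglob := MdlInter.bijective_toGlobal hH0 hX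
  constructor
  · rintro ⟨v, hv⟩
    obtain ⟨M', hM', hcl⟩ := S.exists_module L hL hM (fun j => -v j)
    refine ⟨M', hM', H23.PicMul.cl_eq_iff.1 ?_, fun i => ?_⟩
    · show H23.PicMul.pullHom g (PicF.cl M') = _
      rw [hcl, map_mul, S.pullCl_comboCl L hL g hg, mul_one]
      exact H23.PicMul.cl_eq_iff.2 hMN
    · rw [S.inter_eq L hL hM' hM _ hcl i, hv i, ← Finset.sum_add_distrib]
      exact Finset.sum_eq_zero fun j _ => by ring
  · rintro ⟨M', hM', hN', hdeg⟩
    obtain ⟨D, hD, hDe⟩ := H23.PicInv.exists_inverse hM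
    have hD1 : PicF.cl M * PicF.cl D = 1 := by
      rw [← H23.PicMul.cl_tensor, H23.PicMul.one_def]; exact H23.PicMul.cl_eq_iff.2 hDe
    obtain ⟨w, hw⟩ := S.exists_comboCl L hL g hg (InvX.isInvertible_tensorMod hM' hD) (H23.PicMul.cl_eq_iff.1 (by
      show H23.PicMul.pullHom g (PicF.cl (CohB1.tensorMod M' D)) = _
      rw [H23.PicMul.cl_tensor, map_mul, ← H23.PicMul.one_def, ← map_one (H23.PicMul.pullHom g), ← hD1, map_mul]
      congr 1
      exact (H23.PicMul.cl_eq_iff.2 hN').trans (H23.PicMul.cl_eq_iff.2 hMN).symm))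
    refine ⟨fun j => -w j, fun i => ?_⟩
    have h1 := S.inter_eq L hL hM' hM w (by
      rw [← hw, H23.PicMul.cl_tensor, mul_left_comm, hD1, mul_one]) i
    rw [hdeg i] at h1
    have h2 : ∑ j, ArSurf.inter R (Over.mk p) (L j) (Γ i) * -w j =
        -∑ j, w j * ArSurf.inter R (Over.mk p) (L j) (Γ i) := by
      rw [← Finset.sum_neg_distrib]; exact Finset.sum_congr rfl fun j _ => by ring
    rw [h2]
    linarith

end Groth.Agent.S3348
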