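import Groth.Statements.S3358
import Groth.Agent.LefLib.Algebraize
import Groth.Agent.S2948

set_option autoImplicit false
universe u
open CategoryTheory CategoryTheory.Limits AlgebraicGeometry
open LefX

namespace Groth.Agent.S3358

open Groth.Agent Groth.Agent.H23.PicMul AlgebraicGeometry CategoryTheory CategoryTheory.Limits

/-- Let X be a locally Noetherian scheme, 𝓘 a quasi-coherent ideal with Y = V(𝓘), Y_n the closed
subscheme defined by 𝓘^(n+1) with its closed immersion ι_n into X, and p ≥ 0. Assume Leff(X, Y) and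
H^i(X, 𝓘^(n+1)/𝓘^(n+2)) = 0 for i = 1, 2 and all n ≥ p. Then for n ≥ p the map colim_U Pic(U) →
Pic(Y_n), U running over the open neighbourhoods of Y, is bijective: every invertible O_{Y_n}-module
is the pull-back of an invertible module on some open U ⊇ Y along the factorisation of ι_n through
U, and an invertible module on an open U ⊇ Y whose pull-back to Y_n is trivial becomes trivial on
some smaller open neighbourhood of Y. -/
theorem result (X : Scheme.{u}) [IsLocallyNoetherian X] (𝓘 : X.IdealSheafData) (p : ℕ) (h1 : LefX.LeffCond X 𝓘) (h2 : (∀ n : ℕ, p ≤ n → ∀ i : ℕ, (i = 1 ∨ i = 2) → Subsingleton (Coh.HH X (kernel (Lef.quotMap (Lef.pow_succ_le 𝓘 n))) i))) (n : ℕ) (hn : p ≤ n) : (∀ N : ((𝓘 ^ (n + 1)).subscheme).Modules, PicF.IsInvertible N → ∃ (U : X.Opens) (L : (U : Scheme.{u}).Modules) (g : (𝓘 ^ (n + 1)).subscheme ⟶ U), (𝓘.support : Set X) ⊆ (U : Set X) ∧ g ≫ U.ι = (𝓘 ^ (n + 1)).subschemeι ∧ PicF.IsInvertible L ∧ Nonempty ((Scheme.Modules.pullback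 g).obj L ≅ N)) ∧ (∀ (U : X.Opens) (L : (U : Scheme.{u}).Modules) (g : (𝓘 ^ (n + 1)).subscheme ⟶ U), (𝓘.support : Set X) ⊆ (U : Set X) → g ≫ U.ι = (𝓘 ^ (n + 1)).subschemeι → PicF.IsInvertible L → Nonempty ((Scheme.Modules.pullback g).obj L ≅ Coh.structureModule _) → ∃ (V : X.Opens) (hVU : V ≤ U), (𝓘.support : Set X) ⊆ (V : Set X) ∧ Nonempty ((Scheme.Modules.pullback (X.homOfLE hVU)).obj L ≅ Coh.structureModule _)) := by
  refine ⟨fun N hN => LefLib.exists_extension 𝓘 h1 p (fun m hm => h2 m hm 2 (Or.inr rfl)) n hn N hN, ?_⟩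
  intro U L g hU hg hL ⟨t⟩
  refine ⟨U, le_rfl, hU, ?_⟩
  let J := 𝓘.comap U.ι
  let ιJ := (J ^ (n + 1)).subschemeι
  have hker : (𝓘 ^ (n + 1)).subschemeι.ker ≤ (ιJ ≫ U.ι).ker := by
    rw [Scheme.IdealSheafData.ker_subschemeι, Scheme.Hom.ker, Scheme.IdealSheafData.le_ofIdeals_iff]
    intro W
    have h := Scheme.IdealSheafData.le_map_comap (f := ιJ ≫ U.ι) (J := 𝓘 ^ (n + 1))
    rw [Scheme.IdealSheafData.comap_comp, FComplLib.comap_pow U.ι, DescLib.comap_subschemeι,
      Scheme.IdealSheafData.map_bot] at h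
    exact le_trans (h W) ((ιJ ≫ U.ι).ker_apply W).le
  let k := IsClosedImmersion.lift (𝓘 ^ (n + 1)).subschemeι (ιJ ≫ U.ι) hker
  have hk : k ≫ g = ιJ := by
    rw [← cancel_mono U.ι, Category.assoc, hg, IsClosedImmersion.lift_fac]
  have e : Nonempty ((Scheme.Modules.pullback ιJ).obj L ≅ (Scheme.Modules.pullback ιJ).obj (Coh.structureModule U.toScheme)) := by
    refine cl_eq_iff.1 ?_
    show PicF.pullCl ιJ (PicF.cl L) = PicF.pullCl ιJ (PicF.cl (Coh.structureModule U.toScheme))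
    rw [← H23.PicMul.one_def, pullCl_one, ← hk, ← PicClLib.pullCl_comp,
      show PicF.pullCl g (PicF.cl L) = 1 from (H23.PicMul.one_def).trans (cl_eq_iff.2 ⟨t⟩).symm |>.symm, pullCl_one]
  obtain ⟨w⟩ := Groth.Agent.S2948.result X 𝓘 h1.1 p (fun m hm => h2 m hm 1 (Or.inl rfl)) U hU n hn L _ hL
    InvX.isInvertible_structureModule e
  refine cl_eq_iff.1 ?_
  show PicF.pullCl (X.homOfLE le_rfl) (PicF.cl L) = PicF.cl (Coh.structureModule _)
  rw [cl_eq_iff.2 ⟨w⟩, ← H23.PicMul.one_def, pullCl_one, H23.PicMul.one_def]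

end Groth.Agent.S3358
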