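import Groth.Statements.S3356
import Groth.Agent.S3358
import Groth.Agent.ParaExt.Local

set_option autoImplicit false
universe u
open CategoryTheory CategoryTheory.Limits AlgebraicGeometry
open LefX

namespace Groth.Agent.S3356

open Groth.Agent Groth.Agent.H23.PicMul AlgebraicGeometry CategoryTheory CategoryTheory.Limits TopologicalSpace

/-- Let X be a locally Noetherian scheme, 𝓘 a quasi-coherent ideal with Y = V(𝓘), X_n the closed
subscheme defined by 𝓘^(n+1), and p ≥ 0. Assume: (1) the effective Lefschetz condition Leff(X, Y)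
holds; (2) H^i(X, 𝓘^(n+1)/𝓘^(n+2)) = 0 for i = 1, 2 and every n ≥ p; (3) for every open
neighbourhood U of Y and every point x outside U, the local ring O_{X,x} is parafactorial. Then for
every n ≥ p and every open U ⊇ Y the pull-back maps Pic(X) → Pic(U) and Pic(X) → Pic(X_n) are
bijective (trivial kernel and surjective on isomorphism classes). -/
theorem result (X : Scheme.{u}) [IsLocallyNoetherian X] (𝓘 : X.IdealSheafData) (p : ℕ) (h1 : LefX.LeffCond X 𝓘) (h2 : (∀ n : ℕ, p ≤ n → ∀ i : ℕ, (i = 1 ∨ i = 2) → Subsingleton (Coh.HH X (kernel (Lef.quotMap (Lef.pow_succ_le 𝓘 n))) i))) (h3 : ∀ U : X.Opens, (𝓘.support : Set X) ⊆ (U : Set X) → ∀ x : X, x ∉ U → ParaF.IsParafactorialLocalRing (X.presheaf.stalk x)) (n : ℕ) (hn : p ≤ n) (U : X.Opens) (hU : (𝓘.support : Set X) ⊆ (U : Set X)) : (Formal2.PicPullbackInjective U.ι ∧ Formal2.PicPullbackSurjective U.ι) ∧ (Formal2.PicPullbackInjective (𝓘 ^ (n + 1)).subschemeι ∧ Formal2.PicPullbackSurjective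 (𝓘 ^ (n + 1)).subschemeι) := by
  have good : ∀ V : X.Opens, (𝓘.support : Set X) ⊆ (V : Set X) → ParaFX.Good V.ι := fun V hV => by
    let Y : Closeds X := V.compl
    have hY : ParaF.IsParafactorialPair X Y := (ParaExt.isParafactorialPair_iff_stalks Y).2 fun y hy =>
      h3 V hV y hy
    refine ParaFX.good_of_openImmersion Y hY (𝟙 X) V.ι ?_
    rw [Scheme.Opens.opensRange_ι]
    ext x
    exact ⟨fun hx hx' => hx' hx, fun hx => not_not.1 hx⟩
  have rest : ∀ (V : X.Opens) (M : X.Modules), PicF.cl (M.restrict V.ι) = PicF.pullCl V.ι (PicF.cl M) :=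
    fun V M => ParaExt.cl_restrict' V.ι M
  have inj : ∀ V : X.Opens, (𝓘.support : Set X) ⊆ (V : Set X) → ∀ L : X.Modules, PicF.IsInvertible L →
      PicF.pullCl V.ι (PicF.cl L) = 1 → Nonempty (L ≅ Coh.structureModule X) := fun V hV L hL he => by
    obtain ⟨e⟩ : Nonempty (L.restrict V.ι ≅ (Coh.structureModule X).restrict V.ι) := cl_eq_iff.1 (by
      rw [rest, rest, he, ← H23.PicMul.one_def, pullCl_one])
    exact ParaFX.nonempty_iso_of_restrict V.ι ((good V hV).closed L hL)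
      ((good V hV).closed _ InvX.isInvertible_structureModule) e
  have surj : ∀ V : X.Opens, (𝓘.support : Set X) ⊆ (V : Set X) → ∀ L : (V : Scheme.{u}).Modules,
      PicF.IsInvertible L → ∃ M : X.Modules, PicF.IsInvertible M ∧ PicF.pullCl V.ι (PicF.cl M) = PicF.cl L :=
    fun V hV L hL => ⟨_, (good V hV).push L hL, by
      rw [← rest]; exact cl_eq_iff.2 ⟨ParaFX.restrictPushforward V.ι L⟩⟩
  obtain ⟨hext, htriv⟩ := Groth.Agent.S3358.result X 𝓘 p h1 h2 n hn
  refine ⟨⟨fun L hL ⟨e⟩ => inj U hU L hL ?_, fun L hL => ?_⟩, fun L hL ⟨e⟩ => ?_, fun N hN => ?_⟩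
  · rw [H23.PicMul.one_def]; exact cl_eq_iff.2 ⟨e⟩
  · obtain ⟨M, hM, he⟩ := surj U hU L hL
    exact ⟨M, hM, cl_eq_iff.1 he⟩
  · let g : (𝓘 ^ (n + 1)).subscheme ⟶ (⊤ : X.Opens) := (𝓘 ^ (n + 1)).subschemeι ≫ X.topIso.inv
    have hg : g ≫ (⊤ : X.Opens).ι = (𝓘 ^ (n + 1)).subschemeι := by
      rw [Category.assoc, ← Scheme.topIso_hom, Iso.inv_hom_id, Category.comp_id]
    have e' : Nonempty ((Scheme.Modules.pullback g).obj ((Scheme.Modules.pullback (⊤ : X.Opens).ι).obj L) ≅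
        Coh.structureModule _) := cl_eq_iff.1 (by
      show PicF.pullCl g (PicF.pullCl (⊤ : X.Opens).ι (PicF.cl L)) = _
      rw [PicClLib.pullCl_comp, hg]
      exact cl_eq_iff.2 ⟨e⟩)
    obtain ⟨V, hV, hYV, ⟨eV⟩⟩ := htriv ⊤ _ g (by simp) hg (PicClLib.isInvertible_pullback _ hL) e'
    refine inj V hYV L hL ?_
    rw [← Scheme.homOfLE_ι X hV, ← PicClLib.pullCl_comp, H23.PicMul.one_def]
    exact cl_eq_iff.2 ⟨eV⟩
  · obtain ⟨V, L, g, hV, hg, hL, ⟨e⟩⟩ := hext N hN
    obtain ⟨M, hM, he⟩ := surj V hV L hL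
    refine ⟨M, hM, cl_eq_iff.1 ?_⟩
    show PicF.pullCl _ (PicF.cl M) = _
    rw [← hg, ← PicClLib.pullCl_comp, he]
    exact cl_eq_iff.2 ⟨e⟩

end Groth.Agent.S3356
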