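import Groth.Statements.S3357
import Groth.Agent.S3356
import Groth.Agent.S3353
import Groth.Agent.PunctAlg.CI

set_option autoImplicit false
universe u
open CategoryTheory CategoryTheory.Limits AlgebraicGeometry
open LefX

namespace Groth.Agent.S3357

open Groth.Agent Groth.Agent.H23.PicMul AlgebraicGeometry CategoryTheory CategoryTheory.Limits

/-- Let X be a locally Noetherian scheme, 𝓘 a coherent ideal with Y = V(𝓘), Y_p the closed subscheme
defined by 𝓘^(p+1), and n ≥ 0. Assume: (i) Leff(X, Y) holds; (ii) H^i(X, 𝓘^(p+1)/𝓘^(p+2)) = 0 for i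
= 1, 2 and every p ≥ n; (iii) for every open U ⊇ Y and every x outside U, the local ring O_{X,x} is
either regular of dimension ≥ 2 or a complete intersection (quotient of a regular local ring by a
regular sequence) of dimension ≥ 4. Then for every open U ⊇ Y and every p ≥ n the pull-back maps
Pic(X) → Pic(U) and Pic(U) → Pic(Y_p) are bijective. -/
theorem result (X : Scheme.{u}) [IsLocallyNoetherian X] (𝓘 : X.IdealSheafData) (n : ℕ) (h1 : LefX.LeffCond X 𝓘) (h2 : (∀ q : ℕ, n ≤ q → ∀ i : ℕ, (i = 1 ∨ i = 2) → Subsingleton (Coh.HH X (kernel (Lef.quotMap (Lef.pow_succ_le 𝓘 q))) i))) (h3 : ∀ U : X.Opens, (𝓘.support : Set X) ⊆ (U : Set X) → ∀ x : X, x ∉ U → (IsRegularLocalRing (X.presheaf.stalk x) ∧ (2 : WithBot ℕ∞) ≤ ringKrullDim (X.presheaf.stalk x)) ∨ (SGA2.IsAbsCompleteIntersection (X.presheaf.stalk x) ∧ (4 : WithBot ℕ∞) ≤ ringKrullDim (X.presheaf.stalk x))) (U : X.Opens) (hU : (𝓘.support : Set X) ⊆ (U : Set X)) (p : ℕ) (hp : n ≤ p)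 : (Formal2.PicPullbackInjective U.ι ∧ Formal2.PicPullbackSurjective U.ι) ∧ (Formal2.PicPullbackInjective ((𝓘.comap U.ι) ^ (p + 1)).subschemeι ∧ Formal2.PicPullbackSurjective ((𝓘.comap U.ι) ^ (p + 1)).subschemeι) := by
  have hpara : ∀ V : X.Opens, (𝓘.support : Set X) ⊆ (V : Set X) → ∀ x : X, x ∉ V →
      ParaF.IsParafactorialLocalRing (X.presheaf.stalk x) := fun V hV x hx => by
    rcases h3 V hV x hx with ⟨hreg, hd⟩ | ⟨hci, hd⟩
    · haveI := hreg
      exact PunctAlg.isParafactorial_regular _ hd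
    · exact Groth.Agent.S3353.result _ hci hd
  obtain ⟨hUbij, hinj, hsurj⟩ := Groth.Agent.S3356.result X 𝓘 n h1 h2 hpara p hp U hU
  refine ⟨hUbij, ?_⟩
  let ι := (𝓘 ^ (p + 1)).subschemeι
  let J := 𝓘.comap U.ι
  let ιJ := (J ^ (p + 1)).subschemeι
  have hr : Set.range ι ⊆ Set.range U.ι := by
    rw [Scheme.Opens.range_ι, Scheme.IdealSheafData.range_subschemeι, Scheme.IdealSheafData.support_pow_succ]
    exact hU
  let g := IsOpenImmersion.lift U.ι ι hr
  have hg : g ≫ U.ι = ι := IsOpenImmersion.lift_fac _ _ _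
  have hker1 : (𝓘 ^ (p + 1)).subschemeι.ker ≤ (ιJ ≫ U.ι).ker := by
    rw [Scheme.IdealSheafData.ker_subschemeι, Scheme.Hom.ker, Scheme.IdealSheafData.le_ofIdeals_iff]
    intro W
    have h := Scheme.IdealSheafData.le_map_comap (f := ιJ ≫ U.ι) (J := 𝓘 ^ (p + 1))
    rw [Scheme.IdealSheafData.comap_comp, FComplLib.comap_pow U.ι, DescLib.comap_subschemeι,
      Scheme.IdealSheafData.map_bot] at h
    exact le_trans (h W) ((ιJ ≫ U.ι).ker_apply W).le
  haveI : IsClosedImmersion g := by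
    haveI : IsClosedImmersion (g ≫ U.ι) := by rw [hg]; infer_instance
    exact IsClosedImmersion.of_comp g U.ι
  have hker2 : ιJ.ker ≤ g.ker := by
    rw [Scheme.IdealSheafData.ker_subschemeι, Scheme.Hom.ker, Scheme.IdealSheafData.le_ofIdeals_iff]
    intro W
    have h := Scheme.IdealSheafData.le_map_comap (f := g) (J := J ^ (p + 1))
    rw [← FComplLib.comap_pow U.ι, ← Scheme.IdealSheafData.comap_comp, hg, DescLib.comap_subschemeι,
      Scheme.IdealSheafData.map_bot] at h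
    rw [FComplLib.comap_pow U.ι] at h
    exact le_trans (h W) (g.ker_apply W).le
  let k := IsClosedImmersion.lift ι (ιJ ≫ U.ι) hker1
  let m := IsClosedImmersion.lift ιJ g hker2
  have hk : k ≫ ι = ιJ ≫ U.ι := IsClosedImmersion.lift_fac _ _ _
  have hm : m ≫ ιJ = g := IsClosedImmersion.lift_fac _ _ _
  have hkm : k ≫ m = 𝟙 _ := by
    rw [← cancel_mono ιJ, Category.assoc, hm, ← cancel_mono U.ι, Category.assoc, hg, hk, Category.id_comp]
  refine ⟨fun L hL ⟨e⟩ => ?_, fun N hN => ?_⟩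
  · obtain ⟨M, hM, ⟨eM⟩⟩ := hUbij.2 L hL
    have h0 : PicF.pullCl ι (PicF.cl M) = 1 := by
      rw [← hg, ← PicClLib.pullCl_comp, show PicF.pullCl U.ι (PicF.cl M) = PicF.cl L from cl_eq_iff.2 ⟨eM⟩,
        ← hm, ← PicClLib.pullCl_comp, show PicF.pullCl ιJ (PicF.cl L) = 1 from
          (cl_eq_iff.2 ⟨e⟩).trans H23.PicMul.one_def.symm, pullCl_one]
    obtain ⟨eO⟩ := hinj M hM (cl_eq_iff.1 (h0.trans H23.PicMul.one_def))
    exact ⟨eM.symm ≪≫ (Scheme.Modules.pullback U.ι).mapIso eO ≪≫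
      (PicClLib.nonempty_pullback_structureModule U.ι).some⟩
  · obtain ⟨M, hM, ⟨eM⟩⟩ := hsurj ((Scheme.Modules.pullback m).obj N) (PicClLib.isInvertible_pullback m hN)
    refine ⟨(Scheme.Modules.pullback U.ι).obj M, PicClLib.isInvertible_pullback _ hM, cl_eq_iff.1 ?_⟩
    show PicF.pullCl ιJ (PicF.pullCl U.ι (PicF.cl M)) = PicF.cl N
    rw [PicClLib.pullCl_comp, ← hk, ← PicClLib.pullCl_comp,
      show PicF.pullCl ι (PicF.cl M) = PicF.pullCl m (PicF.cl N) from cl_eq_iff.2 ⟨eM⟩,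
      PicClLib.pullCl_comp, hkm, PicClLib.pullCl_id]

end Groth.Agent.S3357
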