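import Groth.Statements.S3359
import Groth.Agent.DepthRel.Fibres
import Groth.Agent.DepthRel.Cohomology
import Groth.Agent.LefLib.Connected

set_option autoImplicit false
universe u
open CategoryTheory CategoryTheory.Limits AlgebraicGeometry
open Lef

namespace Groth.Agent.S3359

open Groth.Agent Groth.Agent.H23.PicMul AlgebraicGeometry CategoryTheory CategoryTheory.Limits

/-- Let A be a Noetherian ring, X a proper flat A-scheme and 𝓘 a quasi-coherent ideal of O_X whose ideal
module is invertible with ample inverse L (so 𝓘 is the ideal of the zero scheme Y of a regular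
section of the ample invertible module L, and X is projective over A). Let n ≥ 0 and assume that for
every point s of Spec A the fibre X_s has depth > n at each of its closed points. Then the canonical
map from H^i(X, O_X) to the inverse limit over m of the H^i(X, O_X/𝓘^{m+1}), the transition maps
being induced by the quotient maps, is injective for i ≤ n and surjective for i < n. The published
statement factors this map through the cohomology of the formal completion of X along Y and is over
a general base and for a coherent module flat over it, rather than over Spec A and for O_X; the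
depth hypothesis is read here at the points that are closed in their fibre. -/
theorem result (A : Type u) [CommRing A] [IsNoetherianRing A] (X : Scheme.{u}) [X.Over (Spec (CommRingCat.of A))] [IsProper (X ↘ Spec (CommRingCat.of A))] [Flat (X ↘ Spec (CommRingCat.of A))] (𝓘 : X.IdealSheafData) (L : X.Modules) (hL : ClSub.IsInverseOf L (ClSub.idealMod 𝓘)) (hamp : CohB1.IsAmple L) (n : ℕ) (hdepth : ∀ x : X, IsClosed ({((X ↘ Spec (CommRingCat.of A))).asFiber x} : Set ↥(((X ↘ Spec (CommRingCat.of A))).fiber (((X ↘ Spec (CommRingCat.of A))).base x))) → (n : ℕ∞) < LocCoh.depth ↑(CInt.fiberStalk (X ↘ Spec (CommRingCat.of A)) x) ↑(CInt.fiberStalk (X ↘ Spec (CommRingCat.of A)) x)) (i : ℕ) : (i ≤ n → ∀ x : Coh.HH X (Coh.structureModule X) i, (∀ m : ℕ, Sheaf.H.map ((SheafOfModules.toSheaf X.ringCatSheaf).map (ClSub.toSubscheme (𝓘 ^ (m + 1)))) i x = 0) → x = 0) ∧ (i < n → ∀ y : (∀ m : ℕ, Coh.HH X (ClSub.quotMod (𝓘 ^ (m + 1))) i), (∀ m : ℕ, Sheaf.H.map ((SheafOfModules.toSheaf X.ringCatSheaf).map (Lef.quotMap (Lef.pow_succ_le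 𝓘 m))) i (y (m + 1)) = y m) → ∃ x : Coh.HH X (Coh.structureModule X) i, ∀ m : ℕ, Sheaf.H.map ((SheafOfModules.toSheaf X.ringCatSheaf).map (ClSub.toSubscheme (𝓘 ^ (m + 1)))) i x = y m) := by
  haveI : IsLocallyNoetherian X := LocallyOfFiniteType.isLocallyNoetherian (X ↘ Spec (CommRingCat.of A))
  haveI : CompactSpace X := hamp.2.1
  obtain ⟨D, hD, ⟨eD⟩⟩ := H23.PicInv.exists_inverse hamp.1
  have hLD : PicF.cl L * PicF.cl D = 1 := by
    rw [← cl_tensor, H23.PicMul.one_def]; exact cl_eq_iff.2 ⟨eD⟩
  have hLI : PicF.cl L * PicF.cl (ClSub.idealMod 𝓘) = 1 := by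
    rw [← cl_tensor, H23.PicMul.one_def]; exact cl_eq_iff.2 hL
  have hI : PicF.IsInvertible (ClSub.idealMod 𝓘) := by
    obtain ⟨e⟩ : Nonempty (D ≅ ClSub.idealMod 𝓘) :=
      cl_eq_iff.1 (left_inv_eq_right_inv (by rw [mul_comm]; exact hLD) hLI)
    exact H23.PicMul.isInvertible_of_iso e hD
  obtain ⟨m₀, hm₀⟩ := DepthRel.exists_vanishing A hamp hL (Coh.structureModule X)
    (CurveDeg.isCoh_of_isInvertible H23.InvStalk.isInvertible_structureModule)
    (PerfLocus7.isFlatOver_of_isFinLocFree _ LefLib.isFinLocFree_structureModule) n fun x hx => by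
      rw [DepthRel.fibDepth_unit, Nat.cast_succ]
      exact Order.add_one_le_of_lt (hdepth x (DepthRel.isClosed_asFiber_of_isClosed _ hx))
  refine DepthRel.cohomology_limit 𝓘 (T := 𝟭 X.Modules) n m₀ (fun m w => IntSym.shortExact_toSubscheme (𝓘 ^ (m + 1)))
    (fun m hm j hj => ?_) i
  obtain ⟨-, hcl⟩ := DepthTwist.cl_idealMod_pow 𝓘 hI m
  obtain ⟨u⟩ : Nonempty (CohB1.tensorMod (Coh.structureModule X) (CohB1.tensorPow (ClSub.idealMod 𝓘) (m + 1)) ≅
      ClSub.idealMod (𝓘 ^ (m + 1))) := cl_eq_iff.1 (by
    rw [cl_tensor, ← H23.PicMul.one_def, one_mul, cl_tensorPow, hcl])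
  exact QCoh.subsingleton_HH_of_iso u j (hm₀ (m + 1) (by omega) j hj)

end Groth.Agent.S3359
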