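import Groth.Statements.S3360
import Groth.Agent.DepthRel.Lef
import Groth.Agent.FibVanish.Basic

set_option autoImplicit false
universe u
open CategoryTheory CategoryTheory.Limits AlgebraicGeometry
open Lef

namespace Groth.Agent.S3360

open Groth.Agent Groth.Agent.H23.PicMul AlgebraicGeometry CategoryTheory CategoryTheory.Limits

/-- Case 'resp.', over an affine base. Let A be a Noetherian ring, X a proper flat A-scheme, 𝓘 a
quasi-coherent ideal whose ideal module is invertible with ample inverse L (𝓘 is cut out by a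
regular section of L; X is projective over A), Y = V(𝓘). If every fibre X_s has depth ≥ 2 at each of
its closed points, then Lef(X, Y) holds: for every open U ⊇ Y and every finite locally free
O_U-module D, Hom(D, O_U) → lim_n Hom(D, O_U/𝓘^(n+1)) is bijective. -/
theorem result (A : Type u) [CommRing A] [IsNoetherianRing A] (X : Scheme.{u}) [X.Over (Spec (CommRingCat.of A))] [IsProper (X ↘ Spec (CommRingCat.of A))] [Flat (X ↘ Spec (CommRingCat.of A))] (𝓘 : X.IdealSheafData) (L : X.Modules) (hL : ClSub.IsInverseOf L (ClSub.idealMod 𝓘)) (hamp : CohB1.IsAmple L) (hdepth : ∀ x : X, IsClosed ({((X ↘ Spec (CommRingCat.of A))).asFiber x} : Set ↥(((X ↘ Spec (CommRingCat.of A))).fiber (((X ↘ Spec (CommRingCat.of A))).base x))) → (2 : ℕ∞) ≤ LocCoh.depth ↑(CInt.fiberStalk (X ↘ Spec (CommRingCat.of A)) x) ↑(CInt.fiberStalk (X ↘ Spec (CommRingCat.of A)) x)) : Lef.LefCond X 𝓘 := by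
  haveI : IsLocallyNoetherian X := LocallyOfFiniteType.isLocallyNoetherian (X ↘ Spec (CommRingCat.of A))
  haveI := FibVanish.isNoetherian_of_proper A (X := X)
  obtain ⟨L', hL', ⟨eL⟩⟩ := H23.PicInv.exists_inverse hamp.1
  have hLI : PicF.cl L * PicF.cl (ClSub.idealMod 𝓘) = 1 := by
    rw [← cl_tensor, H23.PicMul.one_def]; exact cl_eq_iff.2 hL
  have hLL' : PicF.cl L * PicF.cl L' = 1 := by
    rw [← cl_tensor, H23.PicMul.one_def]; exact cl_eq_iff.2 ⟨eL⟩
  have hI : PicF.IsInvertible (ClSub.idealMod 𝓘) := by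
    obtain ⟨e⟩ : Nonempty (L' ≅ ClSub.idealMod 𝓘) :=
      cl_eq_iff.1 (left_inv_eq_right_inv (by rw [mul_comm]; exact hLL') hLI)
    exact H23.PicMul.isInvertible_of_iso e hL'
  have hvan : ∀ Q : X.Modules, PicF.IsInvertible Q → ∃ m₀, ∀ m, m₀ ≤ m → ∀ i, i ≤ 1 →
      Subsingleton (Coh.HH X (CohB1.tensorMod Q (CohB1.tensorPow (ClSub.idealMod 𝓘) m)) i) := fun Q hQ => by
    refine DepthRel.exists_vanishing A hamp hL Q (CurveDeg.isCoh_of_isInvertible hQ)
      (PerfLocus7.isFlatOver_of_isFinLocFree _ (H23.PullPush.isFinLocFree_of_isInvertible hQ)) 1 fun x hx => ?_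
    obtain ⟨ε⟩ := H23.InvStalk.exists_stalk_equiv hQ x
    obtain ⟨u⟩ : Nonempty (CohB1.tensorMod (Coh.structureModule X) Q ≅ Q) := cl_eq_iff.1 (by
      rw [cl_tensor, ← H23.PicMul.one_def, one_mul])
    rw [← DepthRel.fibDepth_of_iso _ u x, DepthRel.fibDepth_twist _ _ hQ, DepthRel.fibDepth_unit]
    exact hdepth x (DepthRel.isClosed_asFiber_of_isClosed _ hx)
  intro U hU D hD
  refine LefLib.homToFormal_restrict 𝓘 U hU (fun y hy => ?_)
    (fun G hG => DepthRel.homToFormal_coh hI hL hamp hvan hG) D (CurveDeg.isCoh_of_isFinLocFree hD)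
  have hdis : Disjoint ((U : Set X)ᶜ) (𝓘.support : Set X) :=
    Set.disjoint_left.2 fun z hz hzI => hz (hU hzI)
  exact S14104.result (X ↘ Spec (CommRingCat.of A)) _ U.isOpen.isClosed_compl 2 (fun z hz => hdepth z
    (DepthRel.isClosed_asFiber_of_disjoint _ 𝓘 hL hamp U.isOpen.isClosed_compl hdis hz)) y hy

end Groth.Agent.S3360
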