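import Groth.Statements.S3361
import Groth.Agent.FormalAlg.Relative
import Groth.Agent.FormalAlg.Completion
import Groth.Agent.S3360

set_option autoImplicit false
universe u
open CategoryTheory CategoryTheory.Limits AlgebraicGeometry
open LefX

namespace Groth.Agent.S3361

open Groth.Agent Groth.Agent.H23.PicMul AlgebraicGeometry CategoryTheory CategoryTheory.Limits TopologicalSpace

/-- Over an affine base. Let A be a Noetherian ring, X a proper flat A-scheme, 𝓘 a quasi-coherent ideal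
whose ideal module is invertible with ample inverse L, such that the closed subscheme X_0 = V(𝓘) is
also flat over A (so 𝓘 is cut out by a section t of L whose restriction to every fibre is regular).
Assume that for every s the fibre (X_0)_s has depth ≥ 2 at its closed points and the fibre X_s has
depth ≥ 2 at its closed points. Then the effective Lefschetz condition Leff(X, X_0) holds: Lef(X,
X_0), and every levelwise finite locally free system of modules on the completion of X along X_0 is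
the completion of a finite locally free module defined on an open neighbourhood of X_0. -/
theorem result (A : Type u) [CommRing A] [IsNoetherianRing A] (X : Scheme.{u}) [X.Over (Spec (CommRingCat.of A))] [IsProper (X ↘ Spec (CommRingCat.of A))] [Flat (X ↘ Spec (CommRingCat.of A))] (𝓘 : X.IdealSheafData) (L : X.Modules) (hL : ClSub.IsInverseOf L (ClSub.idealMod 𝓘)) (hamp : CohB1.IsAmple L) [Flat (𝓘.subschemeι ≫ (X ↘ Spec (CommRingCat.of A)))] (hdepth0 : ∀ y : ↥(𝓘.subscheme), IsClosed ({((𝓘.subschemeι ≫ (X ↘ Spec (CommRingCat.of A)))).asFiber y} : Set ↥(((𝓘.subschemeι ≫ (X ↘ Spec (CommRingCat.of A)))).fiber (((𝓘.subschemeι ≫ (X ↘ Spec (CommRingCat.of A)))).base y))) → (2 : ℕ∞) ≤ LocCoh.depth ↑(CInt.fiberStalk (𝓘.subschemeι ≫ (X ↘ Spec (CommRingCat.of A))) y) ↑(CInt.fiberStalk (𝓘.subschemeι ≫ (X ↘ Spec (CommRingCat.of A))) y)) (hdepth : ∀ x : X, IsClosed ({((X ↘ Spec (CommRingCat.of A))).asFiber x} : Set ↥(((X ↘ Spec (CommRingCat.of A))).fiber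 (((X ↘ Spec (CommRingCat.of A))).base x))) → (2 : ℕ∞) ≤ LocCoh.depth ↑(CInt.fiberStalk (X ↘ Spec (CommRingCat.of A)) x) ↑(CInt.fiberStalk (X ↘ Spec (CommRingCat.of A)) x)) : LefX.LeffCond X 𝓘 := by
  haveI : IsLocallyNoetherian X := LocallyOfFiniteType.isLocallyNoetherian (X ↘ Spec (CommRingCat.of A))
  haveI := FibVanish.isNoetherian_of_proper A (X := X)
  obtain ⟨L', hL', ⟨eL⟩⟩ := H23.PicInv.exists_inverse hamp.1
  have hLI : PicF.cl L * PicF.cl (ClSub.idealMod 𝓘) = 1 := by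
    rw [← cl_tensor, H23.PicMul.one_def]; exact cl_eq_iff.2 hL
  have hLL' : PicF.cl L * PicF.cl L' = 1 := by
    rw [← cl_tensor, H23.PicMul.one_def]; exact cl_eq_iff.2 ⟨eL⟩
  have hI : PicF.IsInvertible (ClSub.idealMod 𝓘) := by
    obtain ⟨e⟩ : Nonempty (L' ≅ ClSub.idealMod 𝓘) :=
      cl_eq_iff.1 (left_inv_eq_right_inv (by rw [mul_comm]; exact hLL') hLI)
    exact H23.PicMul.isInvertible_of_iso e hL'
  have hvan : ∀ Q : X.Modules, PicF.IsInvertible Q → ∃ m₀, ∀ m, m₀ ≤ m → ∀ i, i ≤ 1 →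
      Subsingleton (Coh.HH X (CohB1.tensorMod Q (CohB1.tensorPow (ClSub.idealMod 𝓘) m)) i) := fun Q hQ => by
    refine DepthRel.exists_vanishing A hamp hL Q (CurveDeg.isCoh_of_isInvertible hQ)
      (PerfLocus7.isFlatOver_of_isFinLocFree _ (H23.PullPush.isFinLocFree_of_isInvertible hQ)) 1 fun x hx => ?_
    refine le_trans ?_ (FormalAlg.le_fibDepth_of_isFinLocFree _ (H23.PullPush.isFinLocFree_of_isInvertible hQ) x)
    rw [DepthRel.fibDepth_unit]
    exact hdepth x (DepthRel.isClosed_asFiber_of_isClosed _ hx)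
  refine ⟨Groth.Agent.S3360.result A X 𝓘 L hL hamp hdepth, fun 𝔐 h𝔐 => ?_⟩
  let a := PicF.cl (ClSub.idealMod 𝓘)
  let P : X.IdealSheafData → Prop := fun K => ∀ F : K.subscheme.Modules, FlatMod.IsFinLocFree F → ∀ i, i ≤ 1 →
    ∃ j₀, ∀ j, j₀ ≤ j → FormalAlg.Van i (PicF.cl ((Scheme.Modules.pushforward K.subschemeι).obj F) * a ^ j)
  have hP : P 𝓘 := fun F hF =>
    FormalAlg.exists_van_locFree A 𝓘.subschemeι (X ↘ Spec (CommRingCat.of A)) hamp hI hLI hdepth0 hF
  have hP' : P (𝓘 ^ (0 + 1)) := by rw [zero_add, pow_one]; exact hP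
  obtain ⟨M, q, hM, hq, hs, hk⟩ := (FormalAlg.ofModSys hI 𝔐 h𝔐).exists_algebraization A hI hamp hLI
    (fun G hG => DepthRel.homToFormal_coh hI hL hamp hvan hG)
    (hP (Coh.structureModule _) (H23.PullPush.isFinLocFree_of_isInvertible InvX.isInvertible_structureModule) 1 le_rfl)
    (hP' (𝔐.F 0) (h𝔐 0) 0 (by omega)) (hP' (𝔐.F 0) (h𝔐 0) 1 le_rfl)
  obtain ⟨iso⟩ := FormalAlg.nonempty_iso_of_quotient hI 𝔐 h𝔐 hM.1 q hq hs hk
  obtain ⟨U, hU, hMU⟩ := FormalAlg.exists_open_locFree hI 𝔐 h𝔐 hM q hs hk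
  obtain ⟨e⟩ := FormalAlg.nonempty_completionMod_restrict 𝓘 U hU M
  exact ⟨U, M.restrict U.ι, hU, hMU, ⟨e ≪≫ iso⟩⟩

end Groth.Agent.S3361
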