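import Groth.Statements.S5190
import Groth.Agent.GradExt.Compl
import Groth.Agent.GradExt.Principal
import Groth.Agent.LC.FiniteCrit
import Groth.Agent.S2930

set_option autoImplicit false
universe u
open CategoryTheory CategoryTheory.Limits AlgebraicGeometry
open Formal

namespace Groth.Agent.S5190

open Groth.Agent CategoryTheory AlgebraicGeometry in
theorem finite_HH (R : Type u) [CommRing R] [IsRegularRing R] {A : Type u} [CommRing A] [IsNoetherianRing A]
    (π : R →+* A) (hπ : Function.Surjective π) (a : Ideal A) (U : (Spec (CommRingCat.of A)).Opens)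
    (hU : U = LocCoh.puncturedOpen A a) (F : U.toScheme.Modules) (hF : Coh.IsCoh F) (n : ℕ)
    (hdepth : ∀ x : U.toScheme, SGA2.relCodim a (U.ι.base x) = 1 →
      ((n + 1 : ℕ) : ℕ∞) ≤ LocCoh.depth (U.toScheme.presheaf.stalk x) (F.presheaf.stalk x)) :
    ∀ i ≤ n, Module.Finite A (Coh.HH U.toScheme F i) := by
  subst hU
  haveI : IsNoetherianRing (CommRingCat.of A) := inferInstanceAs (IsNoetherianRing A)
  let U : (Spec (CommRingCat.of A)).Opens := LocCoh.puncturedOpen A a
  obtain ⟨N, hN, ⟨e⟩⟩ := PunctAlg.exists_PhiU a F hF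
  have hfin := (S2930.result R A π hπ a N (n + 1)).2 fun p q hp hq hpq => by
    let x : U.toScheme := ⟨p, hp⟩
    refine le_trans (b := LocCoh.depth (U.toScheme.presheaf.stalk x)
      ((DerSch.stalkFunctor U.toScheme x).obj (PunctAlg.phi U N))) ?_ (LefPunct2.depth_stalk_phi U N x).le
    let Φ := ((DerSch.stalkFunctor U.toScheme x).mapIso e).toLinearEquiv
    refine le_trans ?_ (Alg6.depth_eq_of_semilinear (RingHom.id (U.toScheme.presheaf.stalk x))
      (fun r => ⟨r, rfl⟩) Φ.toAddEquiv fun r v => map_smul Φ r v).ge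
    exact hdepth x ((LC.covBy_iff_relCodim a p hp).1 ⟨q, hq, hpq⟩)
  intro i hi
  suffices h : Module.Finite A (Coh.HH U.toScheme (PunctAlg.PhiU a N) i) by
    haveI := h
    exact Module.Finite.of_surjective (PnCoh.Finite.mapLin A e.hom i) fun z =>
      ⟨PnCoh.Finite.mapLin A e.inv i z, by
        refine (FFun.mapLin_comp _ _ i z).trans ((FFun.mapLin_congr e.inv_hom_id i z).trans ?_)
        show Sheaf.H.map ((QCoh.toAbFunctor U.toScheme).map (𝟙 F)) i z = z
        rw [CategoryTheory.Functor.map_id, Sheaf.H.map_id_apply]⟩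
  cases i with
  | zero =>
    haveI := PunctAlg.finite_secF a N (hfin 1 (by omega))
    exact Module.Finite.equiv (PunctAlg.h0 U (PunctAlg.PhiU a N)).symm
  | succ k => exact GradExt.finite_HH_succ a k N (hfin (k + 2) (by omega))

/-- For a general closed subset T of Spec A. Let A be a Noetherian ring which is a quotient of a regular
ring, t an element of A such that A is separated and complete for the t-adic topology, I an ideal
with T = V(I), X = Spec A − T (the union of the basic opens D(f), f ∈ I), and F a coherent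
O_X-module on which multiplication by t is injective. Assume that for every point x of X such that
codim(cl(x) ∩ T, cl(x)) = 1, closures taken in Spec A, the stalk F_x has depth ≥ n + 1 over O_{X,x}.
Then the canonical map H^i(X, F) → lim_k H^i(X, F/t^(k+1)F) is bijective for i < n and injective for
i = n. -/
theorem result (R : Type u) [CommRing R] [IsRegularRing R] (A : Type u) [CommRing A] [IsNoetherianRing A] (π : R →+* A) (hπ : Function.Surjective π) (t : A) [IsAdicComplete (Ideal.span {t}) A] (I : Ideal A) (F : (↑(⨆ f : ↥I, (Spec (CommRingCat.of A)).basicOpen ((Scheme.ΓSpecIso (CommRingCat.of A)).inv f.1)) : Scheme.{u}).Modules) (hF : Coh.IsCoh F) (hreg : Mono (Formal.smulMod A F t)) (n : ℕ) (hdepth : ∀ x : (↑(⨆ f : ↥I, (Spec (CommRingCat.of A)).basicOpen ((Scheme.ΓSpecIso (CommRingCat.of A)).inv f.1)) : Scheme.{u}), SGA2.relCodim I ((⨆ f : ↥I, (Spec (CommRingCat.of A)).basicOpen ((Scheme.ΓSpecIso (CommRingCat.of A)).inv f.1)).ι.base x) = 1 → ((n + 1 : ℕ) : ℕ∞) ≤ LocCoh.depth ((↑(⨆ f : ↥I, (Spec (CommRingCat.of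 A)).basicOpen ((Scheme.ΓSpecIso (CommRingCat.of A)).inv f.1)) : Scheme.{u}).presheaf.stalk x) (F.presheaf.stalk x)) (i : ℕ) : (i < n → Function.Bijective (Formal.toHHlim (Ideal.span {t}) F i)) ∧ (i = n → Function.Injective (Formal.toHHlim (Ideal.span {t}) F i)) := by
  haveI : IsNoetherianRing (CommRingCat.of A) := inferInstanceAs (IsNoetherianRing A)
  have hfin := finite_HH R π hπ I _ (Groth.Agent.GradExt.iSup_basicOpen_eq I) F hF n hdepth
  haveI := hreg
  refine ⟨fun hi => ?_, fun hi => ?_⟩
  · haveI := hfin i hi.le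
    haveI := hfin (i + 1) hi
    exact ⟨Groth.Agent.GradExt.toHHlim_injective i, Groth.Agent.GradExt.toHHlim_surjective i⟩
  · haveI := hfin i hi.le
    exact Groth.Agent.GradExt.toHHlim_injective i

end Groth.Agent.S5190
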