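import Groth.Statements.S3372
import Groth.Agent.S5190
import Groth.Agent.PunctAlg.PicExtend

set_option autoImplicit false
universe u
open CategoryTheory CategoryTheory.Limits AlgebraicGeometry
open Formal

namespace Groth.Agent.S3372

/-- Let A be a Noetherian local ring which is a quotient of a regular ring, and t a member of the
maximal ideal for which A is separated and complete in the t-adic topology; let X be the punctured
spectrum of A and F a coherent O_X-module on which multiplication by t is injective. Let n be a
natural number and assume that for every closed point x of X (the primes p with dim A/p = 1) the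
stalk F_x has depth ≥ n + 1 over O_{X,x}. Then the canonical map H^i(X, F) → lim_k H^i(X,
F/t^(k+1)F) is bijective for i < n and injective for i = n. -/
theorem result (R : Type u) [CommRing R] [IsRegularRing R] (A : Type u) [CommRing A] [IsLocalRing A] [IsNoetherianRing A] (π : R →+* A) (hπ : Function.Surjective π) (t : A) (ht : t ∈ IsLocalRing.maximalIdeal A) [IsAdicComplete (Ideal.span {t}) A] (F : (↑(FEt.puncturedSpec A) : Scheme.{u}).Modules) (hF : Coh.IsCoh F) (hreg : Mono (Formal.smulMod A F t)) (n : ℕ) (hdepth : ∀ x : (↑(FEt.puncturedSpec A) : Scheme.{u}), IsClosed ({x} : Set (↑(FEt.puncturedSpec A) : Scheme.{u})) → ((n + 1 : ℕ) : ℕ∞) ≤ LocCoh.depth ((↑(FEt.puncturedSpec A) : Scheme.{u}).presheaf.stalk x) (F.presheaf.stalk x)) (i : ℕ) : (i < n → Function.Bijective (Formal.toHHlim (Ideal.span {t}) F i)) ∧ (i = n → Function.Injective (Formal.toHHlim (Ideal.span {t}) F i)) := by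
  haveI : IsNoetherianRing (CommRingCat.of A) := inferInstanceAs (IsNoetherianRing A)
  let U := FEt.puncturedSpec A
  let a := IsLocalRing.maximalIdeal A
  have hfin := Groth.Agent.S5190.finite_HH R π hπ a U (Groth.Agent.PunctAlg.puncturedSpec_eq_pU A) F hF n
    fun x hx => hdepth x (by
      let p : PrimeSpectrum A := U.ι.base x
      have hp : ¬ a ≤ p.asIdeal := fun h => x.2 (PrimeSpectrum.ext
        ((IsLocalRing.maximalIdeal.isMaximal A).eq_of_le p.isPrime.ne_top h).symm)
      obtain ⟨q, hq, hcov⟩ := (Groth.Agent.LC.covBy_iff_relCodim a p hp).2 hx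
      refine closure_subset_iff_isClosed.1 fun z' hz' => ?_
      let p' : PrimeSpectrum A := U.ι.base z'
      have hle : p ≤ p' := (PrimeSpectrum.le_iff_specializes p p').2
        ((specializes_iff_mem_closure.2 hz').map U.ι.continuous)
      have hne : p'.asIdeal ≠ a := fun h => z'.2 (PrimeSpectrum.ext h)
      have hp'q : p' ≤ q := show p'.asIdeal ≤ q.asIdeal from
        (IsLocalRing.le_maximalIdeal p'.isPrime.ne_top).trans hq
      have hp'q' : p' < q := lt_of_le_of_ne hp'q fun h => hne (by
        rw [h]; exact le_antisymm (IsLocalRing.le_maximalIdeal q.isPrime.ne_top) hq)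
      exact (U.ι.isOpenEmbedding.injective ((eq_or_lt_of_le hle).resolve_right fun h => hcov.2 h hp'q')).symm)
  haveI := hreg
  refine ⟨fun hi => ?_, fun hi => ?_⟩
  · haveI := hfin i hi.le
    haveI := hfin (i + 1) hi
    exact ⟨Groth.Agent.GradExt.toHHlim_injective i, Groth.Agent.GradExt.toHHlim_surjective i⟩
  · haveI := hfin i hi.le
    exact Groth.Agent.GradExt.toHHlim_injective i

end Groth.Agent.S3372
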