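import Groth.Statements.S3373
import Groth.Agent.GradExt.Principal
import Groth.Agent.PunctAlg.PicExtend
import Groth.Agent.LC.FiniteCrit

set_option autoImplicit false
universe u
open CategoryTheory CategoryTheory.Limits AlgebraicGeometry
open FSch

namespace Groth.Agent.S3373

/-- Let A be a Noetherian local ring which is a quotient of a regular ring, t a member of the maximal
ideal for which A is separated and complete in the t-adic topology, X the punctured spectrum of A,
and 𝔉 a coherent module on the formal completion of X along V(t) ∩ X, given as a system (F_N) of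
coherent modules on the closed subschemes X_N = V(t^(N+1)) ∩ X with F_{N+1}|_{X_N} ≅ F_N. Assume (1)
t is 𝔉-regular, expressed on the system by: for every N ≥ 1 the kernel of multiplication by t^N on
F_N equals the image of multiplication by t; and (2) for every closed point y of X_0 the stalk of
F_0 at y has depth ≥ 2 over O_{X_0,y}. Then there is a coherent O_X-module F whose completion along
V(t) ∩ X is isomorphic to 𝔉. -/
theorem result (R : Type u) [CommRing R] [IsRegularRing R] (A : Type u) [CommRing A] [IsLocalRing A] [IsNoetherianRing A] (π : R →+* A) (hπ : Function.Surjective π) (t : A) (ht : t ∈ IsLocalRing.maximalIdeal A) [IsAdicComplete (Ideal.span {t}) A] (𝔐 : FSch.ModSys (FSch.completionAlong (↑(FEt.puncturedSpec A) : Scheme.{u}) ((Spec.map (CommRingCat.ofHom (Ideal.Quotient.mk (Ideal.span {t})))).ker.comap (FEt.puncturedSpec A).ι))) (hcoh : 𝔐.IsCoh) (hreg : ∀ N : ℕ, 1 ≤ N → kernelSubobject (Formal.smulModΓ (𝔐.F N) ((((FSch.completionToX (↑(FEt.puncturedSpec A) : Scheme.{u}) ((Spec.map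 (CommRingCat.ofHom (Ideal.Quotient.mk (Ideal.span {t})))).ker.comap (FEt.puncturedSpec A).ι) N) ≫ (FEt.puncturedSpec A).ι).appTop.hom ((Scheme.ΓSpecIso (CommRingCat.of A)).inv t)) ^ N)) = imageSubobject (Formal.smulModΓ (𝔐.F N) (((FSch.completionToX (↑(FEt.puncturedSpec A) : Scheme.{u}) ((Spec.map (CommRingCat.ofHom (Ideal.Quotient.mk (Ideal.span {t})))).ker.comap (FEt.puncturedSpec A).ι) N) ≫ (FEt.puncturedSpec A).ι).appTop.hom ((Scheme.ΓSpecIso (CommRingCat.of A)).inv t)))) (hdepth : ∀ y : ↥((FSch.completionAlong (↑(FEt.puncturedSpec A) : Scheme.{u}) ((Spec.map (CommRingCat.ofHom (Ideal.Quotient.mk (Ideal.span {t})))).ker.comap (FEt.puncturedSpec A).ι)).X 0), IsClosed ({y} : Set ↥((FSch.completionAlong (↑(FEt.puncturedSpec A) : Scheme.{u}) ((Spec.map (CommRingCat.ofHom (Ideal.Quotient.mk (Ideal.span {t})))).ker.comap (FEt.puncturedSpec A).ι)).X 0)) → (2 : ℕ∞) ≤ LocCoh.depth (((FSch.completionAlong (↑(FEt.puncturedSpec A) : Scheme.{u}) ((Spec.map (CommRingCat.ofHom (Ideal.Quotient.mk (Ideal.span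 {t})))).ker.comap (FEt.puncturedSpec A).ι)).X 0).presheaf.stalk y) ((𝔐.F 0).presheaf.stalk y)) : ∃ F : (↑(FEt.puncturedSpec A) : Scheme.{u}).Modules, Coh.IsCoh F ∧ Nonempty (FSch.completionMod ((Spec.map (CommRingCat.ofHom (Ideal.Quotient.mk (Ideal.span {t})))).ker.comap (FEt.puncturedSpec A).ι) F ≅ 𝔐) := by
  haveI : IsNoetherianRing (CommRingCat.of A) := inferInstanceAs (IsNoetherianRing A)
  refine Groth.Agent.GradExt.exists_completionMod_iso_regular (FEt.puncturedSpec A) t 𝔐 hcoh R π hπ
    (IsLocalRing.maximalIdeal A) (Groth.Agent.PunctAlg.puncturedSpec_eq_pU A) hreg fun z ⟨q, hq, hcov⟩ => hdepth z ?_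
  let U := FEt.puncturedSpec A
  let i := (Groth.Agent.PunctAlg.idOn U (Ideal.span {t}) ^ (0 + 1)).subschemeι
  have hemb : Topology.IsEmbedding (i ≫ U.ι).base :=
    Scheme.Hom.isEmbedding (i ≫ U.ι)
  refine closure_subset_iff_isClosed.1 fun z' hz' => ?_
  have hspec : z ⤳ z' := specializes_iff_mem_closure.2 hz'
  have h1 : ((i ≫ U.ι).base z) ⤳ ((i ≫ U.ι).base z') := hspec.map hemb.continuous
  let p : PrimeSpectrum A := (i ≫ U.ι).base z
  let p' : PrimeSpectrum A := (i ≫ U.ι).base z'
  have hle : p ≤ p' := (PrimeSpectrum.le_iff_specializes p p').2 h1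
  have hne : p'.asIdeal ≠ IsLocalRing.maximalIdeal A := fun h =>
    (i.base z').2 (PrimeSpectrum.ext h)
  have hp'q : p' ≤ q := by
    show p'.asIdeal ≤ q.asIdeal
    exact (IsLocalRing.le_maximalIdeal p'.isPrime.ne_top).trans hq
  have hp'q' : p' < q := lt_of_le_of_ne hp'q fun h => hne (by
    rw [h]; exact (le_antisymm (IsLocalRing.le_maximalIdeal q.isPrime.ne_top) hq))
  have heq : p = p' := (eq_or_lt_of_le hle).resolve_right fun h => hcov.2 h hp'q'
  exact (hemb.injective heq).symm

end Groth.Agent.S3373
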