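import Groth.Statements.S3374
import Groth.Agent.GradExt.Vanish
import Groth.Agent.PunctAlg.PicExtend

set_option autoImplicit false
universe u
open CategoryTheory CategoryTheory.Limits AlgebraicGeometry
open LefX

namespace Groth.Agent.S3374

/-- Let A be a Noetherian local ring, J a proper ideal such that (i) A/J has depth ≥ 3, (ii) every
J^n/J^(n+1) is a free A/J-module (gr_J(A) is free over A/J), (iii) A is separated and complete for
the J-adic topology. Let U be the punctured spectrum of A, U_0 = U ∩ V(J) and Û the completion of U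
along U_0. Then (a) for every finite locally free O_U-module D the map Hom(D, O_U) → lim_n Hom(D,
O_U/J^(n+1)O_U) is bijective (the completion functor is fully faithful on finite locally free
modules), and (b) every levelwise finite locally free system of coherent modules on Û is isomorphic
to the completion of a coherent (not necessarily locally free) O_U-module. -/
theorem result (A : Type u) [CommRing A] [IsLocalRing A] [IsNoetherianRing A] (J : Ideal A) (hJ : J ≠ ⊤) [IsLocalRing (A ⧸ J)] (hd : (3 : ℕ∞) ≤ LocCoh.depth (A ⧸ J) (A ⧸ J)) (hgr : ∀ n : ℕ, Module.Free (A ⧸ J) (↥(J ^ n) ⧸ (J • (⊤ : Submodule A ↥(J ^ n))))) [IsAdicComplete J A] : (∀ D : (↑(FEt.puncturedSpec A) : Scheme.{u}).Modules, FlatMod.IsFinLocFree D → Lef.HomToFormalBijective ((Spec.map (CommRingCat.ofHom (Ideal.Quotient.mk J))).ker.comap (FEt.puncturedSpec A).ι) D) ∧ (∀ 𝔐 : FSch.ModSys (FSch.completionAlong (↑(FEt.puncturedSpec A) : Scheme.{u}) ((Spec.map (CommRingCat.ofHom (Ideal.Quotient.mk J))).ker.comap (FEt.puncturedSpec A).ι)),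 LefX.LevelwiseFinLocFree 𝔐 → ∃ F : (↑(FEt.puncturedSpec A) : Scheme.{u}).Modules, Coh.IsCoh F ∧ Nonempty (FSch.completionMod ((Spec.map (CommRingCat.ofHom (Ideal.Quotient.mk J))).ker.comap (FEt.puncturedSpec A).ι) F ≅ 𝔐)) := by
  classical
  let a : Ideal A := IsLocalRing.maximalIdeal A
  have hdep : ((3 : ℕ) : ℕ∞) ≤ LocCoh.idealDepth a (A ⧸ J) := by
    have e : LocCoh.depth A (A ⧸ J) = LocCoh.depth (A ⧸ J) (A ⧸ J) :=
      Groth.Agent.Alg6.depth_eq_of_semilinear (Ideal.Quotient.mk J) Ideal.Quotient.mk_surjective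
        (AddEquiv.refl (A ⧸ J)) fun r v => rfl
    exact hd.trans_eq e.symm
  have hvan := (Groth.Agent.LC.le_idealDepth_iff_H a (A ⧸ J) 3).1 hdep
  have hgr' : ∀ n, Module.Projective (A ⧸ J) (↥(J ^ (n + 1)) ⧸ (J • (⊤ : Submodule A ↥(J ^ (n + 1))))) :=
    fun n => haveI := hgr (n + 1); inferInstance
  exact Groth.Agent.GradExt.lef_and_algebraization a J hgr' (fun i hi => hvan i (by omega))
    (fun i hi => haveI : Subsingleton (LocCoh.H a i (A ⧸ J)) := hvan i (by omega); inferInstance)
    (FEt.puncturedSpec A) (Groth.Agent.PunctAlg.puncturedSpec_eq_pU A)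

end Groth.Agent.S3374
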