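import Groth.Statements.S3418
import Groth.Agent.H1Near.Points

set_option autoImplicit false
open CategoryTheory AlgebraicGeometry
universe u
open EGA43

namespace Groth.Agent.S3418

/-- Let f : X ⟶ Y be flat, locally of finite presentation, separated and quasi-finite, and let n(y) be
the geometric number of points of the fibre over y. Then n is lower semicontinuous on Y, and if n is
constant on a neighbourhood of a point y₀ then f is proper over some open neighbourhood of y₀. -/
theorem result {X Y : Scheme.{u}} (f : X ⟶ Y) [Flat f]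
    [LocallyOfFinitePresentation f] [IsSeparated f] [LocallyQuasiFinite f] [QuasiCompact f] :
    LowerSemicontinuous (fun z : Y => MoreMor.nGeomConnComp f z) ∧
      ∀ y₀ : Y, (∃ V ∈ nhds y₀, ∀ z ∈ V, MoreMor.nGeomConnComp f z = MoreMor.nGeomConnComp f y₀) →
        ∃ U : Y.Opens, y₀ ∈ U ∧ IsProper (f ∣_ U) := by
  haveI : UniversallyOpen f := inferInstance
  refine ⟨fun y a ha => ?_, fun y₀ ⟨V, hV, hVc⟩ => ?_⟩
  · obtain ⟨m, hm⟩ := ENat.ne_top_iff_exists.1 (Groth.Agent.H1Near.nGeomConnComp_lt_top f y).ne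
    filter_upwards [Groth.Agent.H1Near.le_nGeomConnComp_mem_nhds m f y
      (fun x _ => Groth.Agent.H1Near.isUnivOpenAt_of_universallyOpen f x) hm.le] with z hz
    exact lt_of_lt_of_le (ha.trans_eq hm.symm) hz
  · obtain ⟨V', hV', hV'o, hyV'⟩ := mem_nhds_iff.1 hV
    exact ⟨⟨V', hV'o⟩, hyV', Groth.Agent.H1Near.exists_proper_nhd_of_const f _
      (fun x _ => Groth.Agent.H1Near.isUnivOpenAt_of_universallyOpen f x)
      (fun z hz z' hz' => ((hVc z (hV' hz)).trans (hVc z' (hV' hz')).symm).le)⟩

end Groth.Agent.S3418
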