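import Groth.Statements.S3430
import Groth.Agent.DimOne.Completion
import Groth.Agent.GrpQuotLib.DenseAffine
import Groth.Agent.EGA41Lib.IntDim
import Groth.Agent.VarDim.Fibre

set_option backward.isDefEq.respectTransparency false
set_option backward.isDefEq.respectTransparency.types false
set_option linter.style.haveILetI false
set_option maxHeartbeats 1000000
open TopologicalSpace Opposite Groth.Agent

set_option autoImplicit false
open CategoryTheory AlgebraicGeometry
universe u
open EGA42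

namespace Groth.Agent.S3430

theorem topologicalKrullDim_spec (R : Type u) [CommRing R] :
    topologicalKrullDim ↥(Spec (CommRingCat.of R)) = ringKrullDim R :=
  PrimeSpectrum.topologicalKrullDim_eq_ringKrullDim R

theorem ringKrullDim_poly (k : Type u) [Field k] (ι : Type u) [Finite ι] :
    ringKrullDim (MvPolynomial ι k) = Nat.card ι := by
  rw [MvPolynomial.ringKrullDim_of_isNoetherianRing, ringKrullDim_eq_zero_of_field, zero_add]

/-- An injective integral map is surjective on spectra. -/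
theorem comap_surjective {A B : Type u} [CommRing A] [CommRing B] (φ : A →+* B) (hi : Function.Injective φ)
    (hf : φ.IsIntegral) : Function.Surjective (PrimeSpectrum.comap φ) := fun p => by
  letI := φ.toAlgebra
  haveI : Algebra.IsIntegral A B := ⟨hf⟩
  obtain ⟨Q, -, hQ, hQp⟩ := Ideal.exists_ideal_over_prime_of_isIntegral (S := B) p.asIdeal ⊥
    (by rw [← RingHom.ker_eq_comap_bot, RingHom.algebraMap_toAlgebra, (RingHom.injective_iff_ker_eq_bot _).mp hi]; exact bot_le)
  exact ⟨⟨Q, hQ⟩, PrimeSpectrum.ext hQp⟩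

theorem isFinite_spec {A B : Type u} [CommRing A] [CommRing B] (φ : A →+* B) (h : φ.Finite) :
    IsFinite (Spec.map (CommRingCat.ofHom φ)) :=
  (IsFinite.SpecMap_iff _).2 h

/-- The dimension of affine space. -/
theorem dim_affineSpace (k : Type u) [Field k] (n : ℕ) :
    topologicalKrullDim ↥(𝔸(ULift.{u} (Fin n); Spec (CommRingCat.of k))) = n := by
  rw [(Scheme.homeoOfIso (AffineSpace.SpecIso (ULift.{u} (Fin n)) (CommRingCat.of k))).isHomeomorph.topologicalKrullDim_eq,
    topologicalKrullDim_spec, ringKrullDim_poly, Nat.card_eq_fintype_card]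
  simp

/-- Maps from a dense affine open to affine space. -/
theorem exists_map (k : Type u) [Field k] {X : Scheme.{u}}
    (f : X ⟶ Spec (CommRingCat.of k)) [LocallyOfFiniteType f] [NoetherianSpace X] (n : ℕ) :
    ∃ (U : X.Opens) (g : (U : Scheme.{u}) ⟶ 𝔸(ULift.{u} (Fin n); Spec (CommRingCat.of k))),
      Dense (U : Set X) ∧
      g ≫ (𝔸(ULift.{u} (Fin n); Spec (CommRingCat.of k)) ↘ Spec (CommRingCat.of k)) = U.ι ≫ f ∧
      (topologicalKrullDim X ≤ n → IsFinite g) ∧
      ((n : WithBot ℕ∞) ≤ topologicalKrullDim X → Function.Surjective g.base) := by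
  classical
  obtain ⟨U, hU, hd⟩ := GrpQuotLib.exists_dense_affineOpen X
  haveI : IsAffine U := hU
  let ψ : CommRingCat.of k ⟶ Γ(X, U) := Spec.preimage (hU.isoSpec.inv ≫ U.ι ≫ f)
  have hψ : Spec.map ψ = hU.isoSpec.inv ≫ U.ι ≫ f := Spec.map_preimage _
  letI : Algebra k Γ(X, U) := ψ.hom.toAlgebra
  haveI : Algebra.FiniteType k Γ(X, U) := by
    have h : LocallyOfFiniteType (Spec.map ψ) := by rw [hψ]; infer_instance
    exact (HasRingHomProperty.Spec_iff (P := @LocallyOfFiniteType)).1 h
  have hdim : topologicalKrullDim X = ringKrullDim Γ(X, U) := by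
    refine Eq.trans ?_ (((Scheme.homeoOfIso hU.isoSpec).isHomeomorph.topologicalKrullDim_eq).trans
      (topologicalKrullDim_spec Γ(X, U)))
    refine le_antisymm (DimOne.topologicalKrullDim_le_of_dense k f U.ι (by rwa [Scheme.Opens.range_ι])) ?_
    exact topologicalKrullDim_subspace_le _ _
  obtain ⟨φ, h1, h2⟩ : ∃ φ : MvPolynomial (ULift.{u} (Fin n)) k →ₐ[k] Γ(X, U),
      (ringKrullDim Γ(X, U) ≤ n → φ.toRingHom.Finite) ∧
      ((n : WithBot ℕ∞) ≤ ringKrullDim Γ(X, U) → Function.Surjective (PrimeSpectrum.comap φ.toRingHom)) := by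
    rcases subsingleton_or_nontrivial Γ(X, U) with hR | hR
    · refine ⟨MvPolynomial.aeval fun _ => 0, fun _ => RingHom.Finite.of_surjective _ fun r => ⟨0, Subsingleton.elim _ _⟩,
        fun h => ?_⟩
      rw [ringKrullDim_eq_bot_of_subsingleton] at h
      simp at h
    · obtain ⟨s, g₀, hg₀, hfin⟩ := exists_finite_inj_algHom_of_fg k Γ(X, U)
      have hs : ringKrullDim Γ(X, U) = s := by
        letI := g₀.toRingHom.toAlgebra
        haveI : Module.Finite (MvPolynomial (Fin s) k) Γ(X, U) := hfin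
        rw [EGA41Lib.ringKrullDim_eq_of_integral hg₀, MvPolynomial.ringKrullDim_of_isNoetherianRing,
          ringKrullDim_eq_zero_of_field, zero_add, Nat.card_eq_fintype_card, Fintype.card_fin]
      let r : MvPolynomial (ULift.{u} (Fin n)) k →ₐ[k] MvPolynomial (Fin s) k :=
        MvPolynomial.aeval fun i => if h : (i.down : ℕ) < s then MvPolynomial.X ⟨i.down, h⟩ else 0
      refine ⟨g₀.comp r, fun h => hfin.comp ?_, fun h => ?_⟩
      · have hsn : s ≤ n := by rw [hs] at h; exact_mod_cast h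
        refine RingHom.Finite.of_surjective _ fun p => ?_
        induction p using MvPolynomial.induction_on with
        | C a => exact ⟨MvPolynomial.C a, by simp [r]⟩
        | add p q hp hq =>
          obtain ⟨p', rfl⟩ := hp
          obtain ⟨q', rfl⟩ := hq
          exact ⟨p' + q', map_add _ _ _⟩
        | mul_X p i hp =>
          obtain ⟨p', rfl⟩ := hp
          refine ⟨p' * MvPolynomial.X ⟨Fin.castLE hsn i⟩, ?_⟩
          simp [r, i.2]
      · have hns : n ≤ s := by rw [hs] at h; exact_mod_cast h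
        let q : MvPolynomial (Fin s) k →ₐ[k] MvPolynomial (ULift.{u} (Fin n)) k :=
          MvPolynomial.aeval fun i => if h : (i : ℕ) < n then MvPolynomial.X ⟨⟨i, h⟩⟩ else 0
        have hqr : q.comp r = AlgHom.id k _ := MvPolynomial.algHom_ext fun i => by
          have hi : (i.down : ℕ) < s := lt_of_lt_of_le i.down.2 hns
          simp [q, r, hi]
        intro p
        have hq : PrimeSpectrum.comap r.toRingHom (PrimeSpectrum.comap q.toRingHom p) = p := by
          refine PrimeSpectrum.ext (Ideal.ext fun x => ?_)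
          show (q.comp r) x ∈ p.asIdeal ↔ x ∈ p.asIdeal
          rw [hqr]
          rfl
        obtain ⟨P, hP⟩ := comap_surjective g₀.toRingHom hg₀ (RingHom.Finite.to_isIntegral hfin) (PrimeSpectrum.comap q.toRingHom p)
        refine ⟨P, ?_⟩
        show PrimeSpectrum.comap r.toRingHom (PrimeSpectrum.comap g₀.toRingHom P) = p
        rw [hP, hq]
  refine ⟨U, hU.isoSpec.hom ≫ Spec.map (CommRingCat.ofHom φ.toRingHom) ≫
    (AffineSpace.SpecIso (ULift.{u} (Fin n)) (CommRingCat.of k)).inv, hd, ?_, fun h => ?_, fun h => ?_⟩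
  · simp only [Category.assoc, AffineSpace.SpecIso_inv_over, ← Spec.map_comp]
    rw [← Iso.eq_inv_comp, ← hψ]
    congr 1
    ext1
    exact φ.comp_algebraMap
  · haveI := isFinite_spec φ.toRingHom (h1 (hdim ▸ h))
    infer_instance
  · intro y
    obtain ⟨z, hz⟩ := h2 (hdim ▸ h) ((AffineSpace.SpecIso (ULift.{u} (Fin n)) (CommRingCat.of k)).hom y)
    refine ⟨hU.isoSpec.inv z, ?_⟩
    show (hU.isoSpec.inv ≫ hU.isoSpec.hom ≫ Spec.map (CommRingCat.ofHom φ.toRingHom) ≫
      (AffineSpace.SpecIso (ULift.{u} (Fin n)) (CommRingCat.of k)).inv) z = y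
    rw [Iso.inv_hom_id_assoc]
    show (AffineSpace.SpecIso (ULift.{u} (Fin n)) (CommRingCat.of k)).inv (PrimeSpectrum.comap φ.toRingHom z) = y
    rw [hz, ← Scheme.Hom.comp_apply, Iso.hom_inv_id]
    rfl

theorem dim_le_of_finite (k : Type u) [Field k] {X : Scheme.{u}}
    (f : X ⟶ Spec (CommRingCat.of k)) [LocallyOfFiniteType f] [NoetherianSpace X] {n : ℕ} (U : X.Opens)
    (hd : Dense (U : Set X)) (g : (U : Scheme.{u}) ⟶ 𝔸(ULift.{u} (Fin n); Spec (CommRingCat.of k))) [IsFinite g] :
    topologicalKrullDim X ≤ n := by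
  refine (DimOne.topologicalKrullDim_le_of_dense k f U.ι (by rwa [Scheme.Opens.range_ι])).trans ?_
  haveI : IsAffine 𝔸(ULift.{u} (Fin n); Spec (CommRingCat.of k)) :=
    IsAffine.of_isIso (AffineSpace.SpecIso (ULift.{u} (Fin n)) (CommRingCat.of k)).hom
  haveI : IsAffine U := isAffine_of_isAffineHom g
  let g' : Spec (CommRingCat.of Γ((U : Scheme.{u}), ⊤)) ⟶ Spec (CommRingCat.of (MvPolynomial (ULift.{u} (Fin n)) k)) :=
    (U : Scheme.{u}).isoSpec.inv ≫ g ≫ (AffineSpace.SpecIso (ULift.{u} (Fin n)) (CommRingCat.of k)).hom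
  have hfin : (Spec.preimage g').hom.Finite :=
    (IsFinite.SpecMap_iff (Spec.preimage g')).1 (by rw [Spec.map_preimage]; infer_instance)
  rw [(Scheme.homeoOfIso (U : Scheme.{u}).isoSpec).isHomeomorph.topologicalKrullDim_eq,
    topologicalKrullDim_spec]
  letI := (Spec.preimage g').hom.toAlgebra
  haveI : Module.Finite (MvPolynomial (ULift.{u} (Fin n)) k) Γ((U : Scheme.{u}), ⊤) := hfin
  refine (EGA41Lib.ringKrullDim_le_of_integral (A := MvPolynomial (ULift.{u} (Fin n)) k)).trans (le_of_eq ?_)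
  rw [ringKrullDim_poly]
  simp

theorem le_dim_of_surjective (k : Type u) [Field k] {X : Scheme.{u}}
    (f : X ⟶ Spec (CommRingCat.of k)) [LocallyOfFiniteType f] {n : ℕ} (U : X.Opens)
    (g : (U : Scheme.{u}) ⟶ 𝔸(ULift.{u} (Fin n); Spec (CommRingCat.of k)))
    (hg : g ≫ (𝔸(ULift.{u} (Fin n); Spec (CommRingCat.of k)) ↘ Spec (CommRingCat.of k)) = U.ι ≫ f)
    (hs : Function.Surjective g.base) : (n : WithBot ℕ∞) ≤ topologicalKrullDim X := by
  refine le_trans ?_ (topologicalKrullDim_subspace_le (X : Type u) (U : Set X))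
  show _ ≤ topologicalKrullDim U.toScheme
  haveI : LocallyOfFiniteType (𝔸(ULift.{u} (Fin n); Spec (CommRingCat.of k)) ↘ Spec (CommRingCat.of k)) := inferInstance
  rw [← dim_affineSpace k n, VarDim.topologicalKrullDim_eq_iSup_deg
      (𝔸(ULift.{u} (Fin n); Spec (CommRingCat.of k)) ↘ Spec (CommRingCat.of k)),
    VarDim.topologicalKrullDim_eq_iSup_deg (U.ι ≫ f)]
  refine iSup_le fun t => ?_
  obtain ⟨u', rfl⟩ := hs t
  refine le_iSup_of_le u' ?_
  exact_mod_cast VarDim.deg_map_le g _ hg u'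

/-- Let X be a scheme of finite type over a field k and n a natural number. Then: dim X ≥ n if and only
if there are a dense open subscheme U of X and a surjective k-morphism from U to affine n-space over
k; dim X ≤ n if and only if there are such U and g with g finite; dim X = n if and only if there are
such U and g with g finite and surjective. -/
theorem result (k : Type u) [Field k] {X : Scheme.{u}}
    (f : X ⟶ Spec (CommRingCat.of k)) [LocallyOfFiniteType f] [QuasiCompact f] (n : ℕ) :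
    ((n : WithBot ℕ∞) ≤ topologicalKrullDim (X : Type u) ↔
      ∃ (U : X.Opens) (g : (U : Scheme.{u}) ⟶ 𝔸(ULift.{u} (Fin n); Spec (CommRingCat.of k))),
        Dense (U : Set X) ∧ g ≫ (𝔸(ULift.{u} (Fin n); Spec (CommRingCat.of k)) ↘ Spec (CommRingCat.of k)) = U.ι ≫ f ∧ Function.Surjective g.base) ∧
    (topologicalKrullDim (X : Type u) ≤ n ↔
      ∃ (U : X.Opens) (g : (U : Scheme.{u}) ⟶ 𝔸(ULift.{u} (Fin n); Spec (CommRingCat.of k))),
        Dense (U : Set X) ∧ g ≫ (𝔸(ULift.{u} (Fin n); Spec (CommRingCat.of k)) ↘ Spec (CommRingCat.of k)) = U.ι ≫ f ∧ IsFinite g) ∧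
    (topologicalKrullDim (X : Type u) = n ↔
      ∃ (U : X.Opens) (g : (U : Scheme.{u}) ⟶ 𝔸(ULift.{u} (Fin n); Spec (CommRingCat.of k))),
        Dense (U : Set X) ∧ g ≫ (𝔸(ULift.{u} (Fin n); Spec (CommRingCat.of k)) ↘ Spec (CommRingCat.of k)) = U.ι ≫ f ∧ IsFinite g ∧ Function.Surjective g.base) := by
  haveI : IsLocallyNoetherian X := LocallyOfFiniteType.isLocallyNoetherian f
  haveI : CompactSpace X := QuasiCompact.compactSpace_of_compactSpace f
  haveI : IsNoetherian X := {}
  obtain ⟨U, g, hd, hg, hf, hs⟩ := exists_map k f n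
  refine ⟨⟨fun h => ⟨U, g, hd, hg, hs h⟩, ?_⟩, ⟨fun h => ⟨U, g, hd, hg, hf h⟩, ?_⟩,
    ⟨fun h => ⟨U, g, hd, hg, hf h.le, hs h.ge⟩, ?_⟩⟩
  · rintro ⟨U', g', -, hg', hs'⟩
    exact le_dim_of_surjective k f U' g' hg' hs'
  · rintro ⟨U', g', hd', -, hf'⟩
    haveI := hf'
    exact dim_le_of_finite k f U' hd' g'
  · rintro ⟨U', g', hd', hg', hf', hs'⟩
    haveI := hf'
    exact le_antisymm (dim_le_of_finite k f U' hd' g') (le_dim_of_surjective k f U' g' hg' hs')

end Groth.Agent.S3430
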