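import Groth.Statements.S3440
import Groth.Agent.FlatDvr.DimFibre
import Groth.Agent.FlatLoc6.Miracle
import Groth.Agent.FlatLocus.Basic
import Groth.Agent.Triage.CMMor
import Groth.Agent.LC.ExtDim
import Groth.Agent.LC.DepthFlatFibre
import Groth.Agent.S2559
import Mathlib.RingTheory.Regular.Flat

set_option autoImplicit false
open CategoryTheory AlgebraicGeometry
universe u
open EGA43

namespace Groth.Agent.S3440

lemma isCM_quot_map {A B : Type u} [CommRing A] [IsLocalRing A] [CommRing B] [IsLocalRing B] [IsNoetherianRing B]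
    [Algebra A B] [IsLocalHom (algebraMap A B)] (hflat : Module.Flat A B)
    (hB : LocCoh.IsCohenMacaulayModule B B) (rs : List A) (hrs : RingTheory.Sequence.IsWeaklyRegular A rs)
    (hm : Ideal.ofList rs = IsLocalRing.maximalIdeal A) :
    LocCoh.IsCohenMacaulayLocalRing (B ⧸ (IsLocalRing.maximalIdeal A).map (algebraMap A B)) := by
  set J := (IsLocalRing.maximalIdeal A).map (algebraMap A B) with hJ
  have hle : J ≤ IsLocalRing.maximalIdeal B := IsLocalRing.map_maximalIdeal_le (algebraMap A B)
  haveI : Nontrivial (B ⧸ J) := Ideal.Quotient.nontrivial_iff.2 fun h =>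
    (IsLocalRing.maximalIdeal.isMaximal B).ne_top (top_le_iff.1 (h ▸ hle))
  haveI : IsLocalRing (B ⧸ J) := IsLocalRing.of_surjective' (Ideal.Quotient.mk J) Ideal.Quotient.mk_surjective
  have hl : J = Ideal.ofList (rs.map (algebraMap A B)) := by rw [← Ideal.map_ofList, hm]
  have hq : LocCoh.IsCohenMacaulayModule B (B ⧸ (Ideal.ofList (rs.map (algebraMap A B)) • ⊤ : Submodule B B)) :=
    LC.isCM_quot_ofList B hB (RingTheory.Sequence.IsWeaklyRegular.of_flat hrs) fun r hr => by
      obtain ⟨a, ha, rfl⟩ := List.mem_map.1 hr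
      exact map_nonunit (algebraMap A B) a (hm ▸ Ideal.subset_span ha)
  let q : (B ⧸ J) ≃ₗ[B] B ⧸ (Ideal.ofList (rs.map (algebraMap A B)) • ⊤ : Submodule B B) :=
    Submodule.quotEquivOfEq _ _ (by rw [smul_eq_mul, Ideal.mul_top]; exact hl)
  refine { supportDim_eq_depth := ?_ }
  have h1 : Module.supportDim B (B ⧸ J) = ((LocCoh.depth B (B ⧸ J) : ℕ∞) : WithBot ℕ∞) := by
    have h2 : LocCoh.depth B (B ⧸ J) = LocCoh.depth B (B ⧸ (Ideal.ofList (rs.map (algebraMap A B)) • ⊤ : Submodule B B)) :=
      LC.idealDepth_congr _ q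
    rw [h2, Module.supportDim_eq_of_equiv q]
    exact hq
  rw [Module.supportDim_quotient_eq_ringKrullDim] at h1
  rw [Module.supportDim_self_eq_ringKrullDim, h1, LocCoh.depth, LocCoh.depth, LC.idealDepth_quot_self_le,
    IsLocalRing.map_maximalIdeal_of_surjective _ Ideal.Quotient.mk_surjective]

/-- Let Y be locally Noetherian, f : X ⟶ Y locally of finite type, x a point of X and y = f x; suppose
O_{Y,y} is regular and O_{X,x} is Cohen–Macaulay. The following are equivalent: a) O_{Y,y} ⟶ O_{X,x}
is flat and the local ring of X_y at x is Cohen–Macaulay; b) O_{Y,y} ⟶ O_{X,x} is flat; c) the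
restriction of f to some open neighbourhood of x is universally open; d) f is open at the generic
point of every irreducible component of X_y through x; e') dim O_{X,x} = dim O_{Y,y} + dim
O_{X_y,x}. -/
theorem result {X Y : Scheme.{u}} [IsLocallyNoetherian Y] (f : X ⟶ Y)
    [LocallyOfFiniteType f] (x : X) (hreg : IsRegularLocalRing (Y.presheaf.stalk (f.base x)))
    (hCM : LocCoh.IsCohenMacaulayLocalRing (X.presheaf.stalk x)) :
    List.TFAE [
      (f.stalkMap x).hom.Flat ∧ LocCoh.IsCohenMacaulayLocalRing ((f.fiber (f.base x)).presheaf.stalk (f.asFiber x)),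
      (f.stalkMap x).hom.Flat,
      ∃ U : X.Opens, x ∈ U ∧ UniversallyOpen (U.ι ≫ f),
      (∀ z : ↥(f.fiber (f.base x)), f.asFiber x ∈ closure {z} →
          (∀ z' : ↥(f.fiber (f.base x)), z ∈ closure {z'} → z' = z) →
          EGA43.IsOpenAt f.base ((f.fiberι (f.base x)).base z)),
      ringKrullDim (X.presheaf.stalk x) =
        ringKrullDim (Y.presheaf.stalk (f.base x)) + ringKrullDim ((f.fiber (f.base x)).presheaf.stalk (f.asFiber x)) ] := by
  haveI : IsLocallyNoetherian X := LocallyOfFiniteType.isLocallyNoetherian f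
  haveI : LocallyOfFinitePresentation f := inferInstance
  haveI := hreg
  haveI := hCM
  letI : Algebra (Y.presheaf.stalk (f.base x)) (X.presheaf.stalk x) := (f.stalkMap x).hom.toAlgebra
  haveI : IsLocalHom (algebraMap (Y.presheaf.stalk (f.base x)) (X.presheaf.stalk x)) :=
    (inferInstance : IsLocalHom (f.stalkMap x).hom)
  obtain ⟨e⟩ := Triage.CMMor.exists_equiv_fibre_stalk f x
  tfae_have 1 → 2 := fun h => h.1
  tfae_have 2 → 3 := by
    intro h
    let U : X.Opens := ⟨{w : X | (f.stalkMap w).hom.Flat}, FlatLocus.isOpen_flat_locus f⟩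
    refine ⟨U, h, ?_⟩
    haveI : Flat (U.ι ≫ f) := by
      rw [Flat.iff_flat_stalkMap]
      intro u
      rw [Scheme.Hom.stalkMap_comp]
      exact (FlatLocus.flat_comp_isIso _ _).2 u.2
    infer_instance
  tfae_have 3 → 4 := by
    rintro ⟨U, hxU, hU⟩ z hz -
    intro W hW
    have hsp : (f.fiberι (f.base x)).base z ⤳ x := by
      have h := (specializes_iff_mem_closure.2 hz).map (f.fiberι (f.base x)).continuous
      rwa [Scheme.Hom.fiberι_asFiber] at h
    let w : (U : Scheme.{u}) := ⟨_, hsp.mem_open U.isOpen hxU⟩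
    have hopen : IsOpenMap (U.ι ≫ f).base := (U.ι ≫ f).isOpenMap
    have h1 : U.ι.base ⁻¹' W ∈ nhds w := U.ι.continuous.continuousAt.preimage_mem_nhds hW
    refine Filter.mem_of_superset (hopen.image_mem_nhds h1) ?_
    rintro _ ⟨v, hv, rfl⟩
    exact ⟨U.ι.base v, hv, rfl⟩
  tfae_have 4 → 5 := fun h => S2559.result f x h
  tfae_have 5 → 1 := by
    intro h
    have hB : LocCoh.IsCohenMacaulayModule (X.presheaf.stalk x) (X.presheaf.stalk x) := hCM.supportDim_eq_depth
    have hJ : FlatLoc6.mN (Y.presheaf.stalk (f.base x)) (X.presheaf.stalk x) (X.presheaf.stalk x) =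
        (IsLocalRing.maximalIdeal (Y.presheaf.stalk (f.base x))).map (f.stalkMap x).hom := by
      show _ • (⊤ : Submodule _ _) = _
      rw [smul_eq_mul, Ideal.mul_top]
      rfl
    have hdim : ringKrullDim ((f.fiber (f.base x)).presheaf.stalk (f.asFiber x)) =
        Module.supportDim (X.presheaf.stalk x)
          (X.presheaf.stalk x ⧸ FlatLoc6.mN (Y.presheaf.stalk (f.base x)) (X.presheaf.stalk x) (X.presheaf.stalk x)) := by
      rw [Module.supportDim_eq_of_equiv (Submodule.quotEquivOfEq _ _ hJ),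
        Module.supportDim_quotient_eq_ringKrullDim, ringKrullDim_eq_of_ringEquiv e]
    rw [hdim, ← Module.supportDim_self_eq_ringKrullDim (R := X.presheaf.stalk x)] at h
    have hflat : Module.Flat (Y.presheaf.stalk (f.base x)) (X.presheaf.stalk x) := FlatLoc6.flat_of_isCM hB h
    refine ⟨hflat, ?_⟩
    obtain ⟨rs, hrs, hm⟩ := RegLoc6.exists_regularSequence_maximalIdeal (Y.presheaf.stalk (f.base x))
    exact Triage.CMMor.isCM_of_equiv e (isCM_quot_map hflat hB rs hrs.toIsWeaklyRegular hm)
  tfae_finish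

end Groth.Agent.S3440
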