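import Groth.Statements.S3459
import Groth.Agent.H1PtInt.Admissible

set_option autoImplicit false
open CategoryTheory AlgebraicGeometry
universe u
open EGA43

namespace Groth.Agent.S3459

/-- Let Y be an irreducible locally Noetherian scheme with generic point η, f : X ⟶ Y locally of finite
type, x a point of X and y = f x. Suppose (1) x lies on exactly one irreducible component Z of the
fibre X_y, and (2) X_y is geometrically reduced at the generic point of Z. Call an irreducible
component X' of X containing x admissible when the local dimension at x of X' ∩ f⁻¹(y) equals that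
of f⁻¹(y) and the restriction of f to X' (with its reduced structure) is universally open at the
generic points of the irreducible components of X' ∩ f⁻¹(y) containing x. Then there is at most one
admissible X'; and if X' is admissible, the fibre X_η is geometrically reduced at the generic point
of X'. -/
theorem result {X Y : Scheme.{u}} [IrreducibleSpace Y]
    [IsLocallyNoetherian Y] (f : X ⟶ Y) [LocallyOfFiniteType f] (x : X)
    (h1 : ∃! Zc : Set ↥(f.fiber (f.base x)), Zc ∈ irreducibleComponents (↥(f.fiber (f.base x)) : Type u) ∧ f.asFiber x ∈ Zc)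
    (h2 : ∀ z : ↥(f.fiber (f.base x)), f.asFiber x ∈ closure {z} →
      (∀ z' : ↥(f.fiber (f.base x)), z ∈ closure {z'} → z' = z) →
      FBase.IsGeomReducedAt (f.fiberToSpecResidueField (f.base x)) z) :
    letI adm : TopologicalSpace.Closeds X → Prop := fun X' =>
      (X' : Set X) ∈ irreducibleComponents (X : Type u) ∧ ∃ hx : x ∈ X',
        FlatMor.localDim ↥((X' : Set X) ∩ f.base ⁻¹' {f.base x}) ⟨x, ⟨hx, Set.mem_singleton (f.base x)⟩⟩ =
          FlatMor.fibreDimAt f x ∧
        ∀ w : ↥(Scheme.IdealSheafData.vanishingIdeal X').subscheme,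
          f.base ((Scheme.IdealSheafData.vanishingIdeal X').subschemeι.base w) = f.base x →
          x ∈ closure {(Scheme.IdealSheafData.vanishingIdeal X').subschemeι.base w} →
          (∀ t : X, t ∈ (X' : Set X) → f.base t = f.base x →
              (Scheme.IdealSheafData.vanishingIdeal X').subschemeι.base w ∈ closure {t} →
              t = (Scheme.IdealSheafData.vanishingIdeal X').subschemeι.base w) →
          EGA43.IsUnivOpenAt ((Scheme.IdealSheafData.vanishingIdeal X').subschemeι ≫ f) w
    {X' : TopologicalSpace.Closeds X | adm X'}.Subsingleton ∧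
      ∀ X' : TopologicalSpace.Closeds X, adm X' →
        ∀ ζ : ↥(f.fiber (genericPoint Y)), closure {(f.fiberι (genericPoint Y)).base ζ} = (X' : Set X) →
          FBase.IsGeomReducedAt (f.fiberToSpecResidueField (genericPoint Y)) ζ := by
  obtain ⟨Zc, ⟨hZc, hxZc⟩, huniq⟩ := h1
  let F := f.fiber (f.base x)
  let ι := f.fiberι (f.base x)
  obtain ⟨z, rfl, hzmax⟩ := FDescent.exists_maximal_of_mem_irreducibleComponents hZc
  have hle : ∀ v : F, v ⤳ f.asFiber x → z ⤳ v := fun v hv => by
    have hW := irreducibleComponent_mem_irreducibleComponents v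
    have hxW : f.asFiber x ∈ irreducibleComponent v :=
      hv.mem_closed isClosed_irreducibleComponent mem_irreducibleComponent
    have hvz : v ∈ closure ({z} : Set F) := huniq _ ⟨hW, hxW⟩ ▸ mem_irreducibleComponent
    exact specializes_iff_mem_closure.2 hvz
  let z₀ : X := ι.base z
  have hfib : ∀ v : F, f.base (ι.base v) = f.base x := fun v => by
    have : ι.base v ∈ f ⁻¹' {f.base x} := by rw [← f.range_fiberι]; exact ⟨v, rfl⟩
    exact this
  have hfz₀ : f.base z₀ = f.base x := hfib z
  have hzx : z₀ ⤳ x := by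
    have := (specializes_iff_mem_closure.2 hxZc).map ι.continuous
    rwa [show ι (f.asFiber x) = x from f.fiberι_asFiber x] at this
  have hlift : ∀ v : X, v ⤳ x → f.base v = f.base x → ∃ v' : F, ι.base v' = v ∧ v' ⤳ f.asFiber x := by
    intro v hv hfv
    obtain ⟨v', hv'⟩ : v ∈ Set.range ι.base := by rw [f.range_fiberι]; exact hfv
    refine ⟨v', hv', ι.isEmbedding.isInducing.specializes_iff.1 ?_⟩
    show ι.base v' ⤳ ι.base (f.asFiber x)
    rw [hv', show ι.base (f.asFiber x) = x from f.fiberι_asFiber x]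
    exact hv
  have hm : ∀ v : X, v ⤳ z₀ → f.base v = f.base z₀ → v = z₀ := by
    intro v hv hfv
    obtain ⟨v', rfl, -⟩ := hlift v (hv.trans hzx) (hfv.trans hfz₀)
    rw [hzmax v' (ι.isEmbedding.isInducing.specializes_iff.1 hv)]
  have hgen : ∀ v : X, v ⤳ x → f.base v = f.base x → z₀ ⤳ v := by
    intro v hv hfv
    obtain ⟨v', rfl, hv'⟩ := hlift v hv hfv
    exact (hle v' hv').map ι.continuous
  have hE : GeomRedFlat5.E f z₀ := (H1PtInt.isGeomReducedAt_fiber_iff f z).1
    (h2 z hxZc fun z' hz' => hzmax z' (specializes_iff_mem_closure.2 hz'))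
  have main : ∀ (X' : TopologicalSpace.Closeds X) (hx : x ∈ X'),
      FlatMor.localDim ↥((X' : Set X) ∩ f.base ⁻¹' {f.base x}) ⟨x, ⟨hx, Set.mem_singleton (f.base x)⟩⟩ =
        FlatMor.fibreDimAt f x →
      (∀ w : ↥(Scheme.IdealSheafData.vanishingIdeal X').subscheme,
          f.base ((Scheme.IdealSheafData.vanishingIdeal X').subschemeι.base w) = f.base x →
          x ∈ closure {(Scheme.IdealSheafData.vanishingIdeal X').subschemeι.base w} →
          (∀ t : X, t ∈ (X' : Set X) → f.base t = f.base x →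
              (Scheme.IdealSheafData.vanishingIdeal X').subschemeι.base w ∈ closure {t} →
              t = (Scheme.IdealSheafData.vanishingIdeal X').subschemeι.base w) →
          EGA43.IsUnivOpenAt ((Scheme.IdealSheafData.vanishingIdeal X').subschemeι ≫ f) w) →
      z₀ ∈ X' ∧ ∀ v : X, v ⤳ z₀ → v ∈ X' ∧ GeomRedFlat5.E f v := by
    intro X' hx hdim hw
    obtain ⟨v, hvX', hvx, hfv, hv, -⟩ := FibDim.exists_localDim_inter_eq f X'.isClosed x hx
    obtain ⟨v₁, hv₁x, hfv₁, hv₁, hmax₁⟩ := FibDim.exists_fibreDimAt_eq f x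
    have e : FibDim.rd f v = FibDim.rd f v₁ := by
      have h := (hv.symm.trans hdim).trans hv₁
      exact_mod_cast h
    have hvz : v = z₀ := by
      by_contra hne
      have h3 := FibDim.rd_lt f (hgen v hvx hfv) (Ne.symm hne) (hfz₀.trans hfv.symm)
      have h4 := hmax₁ z₀ hzx hfz₀
      omega
    rw [hvz] at hvX'
    refine ⟨hvX', H1PtInt.admissible f x z₀ hzx hfz₀ hm hE X' hvX' fun w hwz => ?_⟩
    refine hw w (hwz ▸ hfz₀) (hwz ▸ specializes_iff_mem_closure.1 hzx) fun t ht hft htw => ?_
    rw [hwz] at htw ⊢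
    exact hm t (specializes_iff_mem_closure.2 htw) (hft.trans hfz₀.symm)
  refine ⟨?_, ?_⟩
  · rintro X₁ ⟨hc₁, hx₁, hd₁, hw₁⟩ X₂ ⟨hc₂, hx₂, hd₂, hw₂⟩
    obtain ⟨η, hη, -⟩ := FDescent.exists_maximal_of_mem_irreducibleComponents hc₂
    have hη2 : η ⤳ z₀ := specializes_iff_mem_closure.2 (hη ▸ (show z₀ ∈ (X₂ : Set X) from (main X₂ hx₂ hd₂ hw₂).1))
    have h3 : closure ({η} : Set X) ⊆ (X₁ : Set X) :=
      closure_minimal (Set.singleton_subset_iff.2 ((main X₁ hx₁ hd₁ hw₁).2 η hη2).1) X₁.isClosed
    rw [← hη] at h3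
    exact TopologicalSpace.Closeds.ext ((h3.antisymm (hc₂.2 hc₁.1 h3)).symm)
  · rintro X' ⟨hc, hx, hd, hw⟩ ζ hζ
    have h3 : (f.fiberι (genericPoint Y)).base ζ ⤳ z₀ :=
      specializes_iff_mem_closure.2 (hζ.symm ▸ (show z₀ ∈ (X' : Set X) from (main X' hx hd hw).1))
    exact (H1PtInt.isGeomReducedAt_fiber_iff f ζ).2 ((main X' hx hd hw).2 _ h3).2

end Groth.Agent.S3459
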