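import Groth.Statements.S3462
import Groth.Agent.EtPBCD.Main
-- import your own Groth.Agent.* helpers here

set_option autoImplicit false
universe u
open CategoryTheory CategoryTheory.Limits AlgebraicGeometry Opposite
attribute [local instance] HasDerivedCategory.standard
open EtBC

namespace Groth.Agent.S3462

/-- Let X' = X ×_S S' be a cartesian square of schemes with f : X → S proper, projections f' : X' → S'
and g' : X' → X over g : S' → S, and let F be a torsion abelian sheaf on the small etale site of X.
Then the base change morphism g⁻¹ Rf_* F → Rf'_* g'⁻¹ F in the derived category of abelian etale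
sheaves on S' (F in degree zero; the morphism is the transpose, under an adjunction g⁻¹ ⊣ Rg_* of
the derived functors, of Rf_* F → Rg_* Rf'_* g'⁻¹ F) is an isomorphism; on cohomology sheaves this
says that g⁻¹ R^q f_* F → R^q f'_* g'⁻¹ F is bijective for every q. -/
theorem result {X S X' S' : Scheme.{u}} (f : X ⟶ S) (g : S' ⟶ S)
    (f' : X' ⟶ S') (g' : X' ⟶ X) (h : IsPullback g' f' f g) [IsProper f]
    [PreservesFiniteLimits (EtCoh.pull g)] [PreservesFiniteLimits (EtCoh.pull g')]
    [DCoh.HasRpushEt X f] [DCoh.HasRpushEt X' f'] [DCoh.HasRpushEt S' g]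
    (adj : EtBC.pullD g ⊣ DCoh.RpushEt S' g) (F : EtCoh.Ab X) (hF : EtCoh.IsTorsion F) :
    IsIso (EtBC.bcMap f g f' g' h.w adj (EtBC.single X F)) := by
  exact Groth.Agent.EtPBCD.isIso_bcMap_proper f g f' g' h adj (EtBC.single X F) 0 (fun i => by
    rcases eq_or_ne i 0 with rfl | hi
    · exact CurveCd.isTorsion_of_mono ((DerivedCategory.singleFunctorCompHomologyFunctorIso _ 0).app F).hom hF
    · rcases hi.lt_or_gt with hi | hi
      · exact Groth.Agent.EtPBCD.isTorsion_of_isZero _ (DerivedCategory.isZero_of_isGE _ 0 i hi)
      · exact Groth.Agent.EtPBCD.isTorsion_of_isZero _ (DerivedCategory.isZero_of_isLE _ 0 i hi))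

end Groth.Agent.S3462
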