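import Groth.Statements.S3501
import Groth.Agent.PicLift.Curve
import Groth.Agent.EtH0Lib.Components

set_option autoImplicit false
universe u
open CategoryTheory CategoryTheory.Limits AlgebraicGeometry Opposite
open EtCd

namespace Groth.Agent.S3501

/-- Let A be a Noetherian henselian local ring, f : X → Spec A a proper morphism all of whose fibres
have dimension at most 1, and i : X₀' → X a closed immersion whose image is exactly the closed fibre
of f. Then Pic(X) → Pic(X₀') is surjective: every invertible module on X₀' is isomorphic to the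
pullback of an invertible module on X. -/
theorem result (A : Type u) [CommRing A] [IsNoetherianRing A]
    [HenselianLocalRing A] (X : Scheme.{u}) (f : X ⟶ Spec (CommRingCat.of A)) [IsProper f]
    (hrel : ∀ s : Spec (CommRingCat.of A),
      topologicalKrullDim ↥(pullback f ((Spec (CommRingCat.of A)).fromSpecResidueField s)) ≤ 1)
    (X₀' : Scheme.{u}) (i : X₀' ⟶ X) [IsClosedImmersion i]
    (hi : Set.range i.base = f.base ⁻¹' {IsLocalRing.closedPoint A})
    (c : PicF.Cl X₀') (hc : PicF.IsInvertibleCl c) :
    ∃ d : PicF.Cl X, PicF.IsInvertibleCl d ∧ PicF.pullCl i d = c := by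
  obtain ⟨L, rfl, hL⟩ := hc
  haveI : IsLocallyNoetherian X := LocallyOfFiniteType.isLocallyNoetherian f
  haveI : CompactSpace X := QuasiCompact.compactSpace_of_compactSpace f
  haveI : AlgebraicGeometry.IsNoetherian X := {}
  have hcl : IsClosed ({IsLocalRing.closedPoint A} : Set ↥(Spec (CommRingCat.of A))) :=
    (PrimeSpectrum.isClosed_singleton_iff_isMaximal (IsLocalRing.closedPoint A)).2
      (IsLocalRing.maximalIdeal.isMaximal A)
  -- the dimension of the closed fibre
  have hdim : topologicalKrullDim X₀' ≤ 1 := by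
    refine le_trans ?_ (hrel (IsLocalRing.closedPoint A))
    let q := Limits.pullback.fst f ((Spec (CommRingCat.of A)).fromSpecResidueField (IsLocalRing.closedPoint A))
    have hq : Set.range q = Set.range i.base := by
      rw [hi, Scheme.Pullback.range_fst, Scheme.range_fromSpecResidueField]
      rfl
    have hqe : Topology.IsEmbedding q := q.isEmbedding
    have hee : Topology.IsClosedEmbedding (i.base : X₀' → X) := i.isClosedEmbedding
    let e := hee.isEmbedding.toHomeomorph.trans ((Homeomorph.setCongr hq.symm).trans hqe.toHomeomorph.symm)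
    exact e.isInducing.topologicalKrullDim_le
  refine (fun ⟨N, hN, ⟨e⟩⟩ => ⟨PicF.cl N, ⟨N, rfl, hN⟩, Quot.sound ⟨e⟩⟩ : (∃ N : X.Modules, PicF.IsInvertible N ∧
    Nonempty ((Scheme.Modules.pullback i).obj N ≅ L)) → _) (Groth.Agent.PicLift.exists_lift i hdim (fun Y hY hYne hYc => ?_) hL)
  let Z := Scheme.IdealSheafData.vanishingIdeal (X := X) ⟨Y, hY⟩
  have hZ : Set.range Z.subschemeι = Y := by
    rw [Scheme.IdealSheafData.range_subschemeι, Scheme.IdealSheafData.coe_support_vanishingIdeal]
    rfl
  let g : Z.subscheme ⟶ Spec (CommRingCat.of A) := Z.subschemeι ≫ f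
  haveI : ConnectedSpace ↥Z.subscheme := by
    haveI : ConnectedSpace ↥(Set.range Z.subschemeι) := isConnected_iff_connectedSpace.1 (hZ.symm ▸ hYc)
    exact Z.subschemeι.isClosedEmbedding.isEmbedding.toHomeomorph.symm.surjective.connectedSpace
      Z.subschemeι.isClosedEmbedding.isEmbedding.toHomeomorph.symm.continuous
  let T : Set ↥Z.subscheme := Groth.Agent.EtH0Lib.Zof g (IsLocalRing.maximalIdeal A)
  have hTeq : T = g ⁻¹' {IsLocalRing.closedPoint A} := by
    show g ⁻¹' PrimeSpectrum.zeroLocus (IsLocalRing.maximalIdeal A : Set A) = _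
    congr 1
    exact (PrimeSpectrum.zeroLocus_eq_singleton _)
  have hT : IsClosed T := hTeq ▸ hcl.preimage g.continuous
  let Z₀ := Scheme.IdealSheafData.vanishingIdeal (X := Z.subscheme) ⟨T, hT⟩
  have hZ₀ : Set.range Z₀.subschemeι = T := by
    rw [Scheme.IdealSheafData.range_subschemeι, Scheme.IdealSheafData.coe_support_vanishingIdeal]
    rfl
  haveI : IsSeparated f := inferInstance
  haveI : QuasiSeparatedSpace ↥X := quasiSeparatedSpace_of_quasiSeparated f
  haveI : IsLocallyNoetherian Z₀.subscheme := LocallyOfFiniteType.isLocallyNoetherian (Z₀.subschemeι ≫ g)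
  haveI : QuasiSeparatedSpace ↥Z₀.subscheme := inferInstance
  have hb := Groth.Agent.EtH0Lib.bijective_components (IsLocalRing.maximalIdeal A) g Z₀.subschemeι
    Z₀.subschemeι.isClosedEmbedding hZ₀
  haveI : ConnectedSpace ↥Z₀.subscheme :=
    (Groth.Agent.EtH0Lib.connectedSpace_iff_of_bijective Z₀.subschemeι.continuous hb).1 inferInstance
  have key : Set.range (Z₀.subschemeι ≫ Z.subschemeι) = Y ∩ Set.range i.base := by
    rw [show Set.range (Z₀.subschemeι ≫ Z.subschemeι) = Z.subschemeι '' Set.range Z₀.subschemeι from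
      Set.range_comp Z.subschemeι Z₀.subschemeι, hZ₀, hTeq, hi]
    ext x
    constructor
    · rintro ⟨z, hz, rfl⟩
      exact ⟨hZ ▸ ⟨z, rfl⟩, hz⟩
    · rintro ⟨hx, hx'⟩
      obtain ⟨z, rfl⟩ := hZ.ge hx
      exact ⟨z, hx', rfl⟩
  have hc' : _root_.IsConnected (Y ∩ Set.range i.base) :=
    key ▸ isConnected_range (Z₀.subschemeι ≫ Z.subschemeι).continuous
  exact ⟨hc'.nonempty, hc'⟩

end Groth.Agent.S3501
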