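import Groth.Statements.S3540
import Groth.Agent.CechFil.Concrete
import Mathlib.Algebra.Homology.Factorizations.CM5a

set_option autoImplicit false
universe u
open CechTot

namespace Groth.Agent.S3540

set_option backward.isDefEq.respectTransparency false
set_option backward.isDefEq.respectTransparency.types false


open CategoryTheory CategoryTheory.Limits TopologicalSpace in
/-- For abelian sheaves and a complex bounded below (the biregular case), stated through the finite
filtration the spectral sequence induces on its abutment and its edge (the source's graded pieces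
are the E∞ terms, which is stronger). Let U = (U_i) be an open cover of X and K a complex of abelian
sheaves with K^i = 0 for i < a. For q ∈ ℤ let h^q(K) be the presheaf V ↦ H^q(V, K) of
hypercohomology groups and Ȟ^p(U, h^q(K)) its Čech cohomology for the cover. Then for every n the
group H^n(X, K) carries a decreasing sequence of subgroups G_0 ≥ G_1 ≥ … with G_0 everything, G_1
the kernel of the restriction map H^n(X, K) → ∏_i H^n(U_i, K), and G_N = 0 for some N, such that
every quotient G_p/G_{p+1} is isomorphic to a subquotient of Ȟ^p(U, h^{n-p}(K)). -/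
theorem result {X : TopCat.{u}}
    [HasDerivedCategory.{u} (CohTop.Ab X)] {ι : Type u} (U : ι → Opens X) (hcov : iSup U = ⊤)
    (K : CochainComplex (CohTop.Ab X) ℤ) (a : ℤ) (ha : ∀ i : ℤ, i < a → IsZero (K.X i)) (n : ℤ) :
    ∃ (N : ℕ) (G : ℕ → Submodule ℤ (CohCx.HDU (DerivedCategory.Q.obj K) n (⊤ : Opens X))),
      Antitone G ∧ G 0 = ⊤ ∧ G N = ⊥ ∧
      G 1 = ⨅ i, AddSubgroup.toIntSubmodule
        (CohCx.HDUres (DerivedCategory.Q.obj K) n (homOfLE le_top : U i ⟶ (⊤ : Opens X))).ker ∧
      ∀ p : ℕ, HTor.IsSubquotient ℤ (HTor.grDesc G p)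
        (CohB1.cechHTop U (CohCx.HDUPresheaf (DerivedCategory.Q.obj K) (n - p)) p) := by
  open CategoryTheory CategoryTheory.Limits Opposite TopologicalSpace Groth.Agent in
  exact by
    haveI : CochainComplex.IsStrictlyGE K a := (CochainComplex.isStrictlyGE_iff K a).2 ha
    obtain ⟨I, s, -, hs, hI, hGE⟩ := CochainComplex.Plus.modelCategoryQuillen.exists_mono_quasiIso_injective K (a - 1) a (by lia)
    haveI : ∀ r, Injective (I.X r) := hI
    haveI : CochainComplex.IsKInjective I := CochainComplex.isKInjective_of_injective I (a - 1)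
    haveI := hs
    let e : DerivedCategory.Q.obj K ≅ DerivedCategory.Q.obj I := asIso (DerivedCategory.Q.map s)
    let θ : ∀ r : ℤ, CohCx.HDUPresheaf (DerivedCategory.Q.obj K) r ≅ CohCx.HDUPresheaf (DerivedCategory.Q.obj I) r :=
      fun r => Functor.isoWhiskerLeft _ (preadditiveYoneda.mapIso ((shiftFunctor _ r).mapIso e))
    let φ : CohCx.HDU (DerivedCategory.Q.obj K) n (⊤ : Opens X) ≃ₗ[ℤ] CohCx.HDU (DerivedCategory.Q.obj I) n (⊤ : Opens X) :=
      AddEquiv.toIntLinearEquiv (((θ n).app (op ⊤)).addCommGroupIsoToAddEquiv)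
    obtain ⟨N, G, hG, h0, hN, h1, hgr⟩ := CechFil.main I U hcov hI n (a - 1)
      (fun r hr => CochainComplex.isZero_of_isStrictlyGE I (a - 1) r hr)
    refine ⟨N, fun p => (G p).comap φ.toLinearMap, fun p q hpq => Submodule.comap_mono (hG hpq), ?_, ?_, ?_, fun p => ?_⟩
    · show (G 0).comap φ.toLinearMap = ⊤
      rw [h0, Submodule.comap_top]
    · show (G N).comap φ.toLinearMap = ⊥
      rw [hN, Submodule.comap_bot]
      exact LinearMap.ker_eq_bot.2 φ.injective
    · show (G 1).comap φ.toLinearMap = _
      rw [h1]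
      ext x
      simp only [Submodule.mem_comap, Submodule.mem_iInf]
      refine forall_congr' fun i => ?_
      let ψ := ((θ n).app (op (U i))).addCommGroupIsoToAddEquiv
      have nat : CohCx.HDUres (DerivedCategory.Q.obj I) n (homOfLE le_top : U i ⟶ ⊤) (φ x) =
          ψ (CohCx.HDUres (DerivedCategory.Q.obj K) n (homOfLE le_top : U i ⟶ ⊤) x) :=
        (congrArg (fun t => t.hom x) ((θ n).hom.naturality (homOfLE le_top : U i ⟶ ⊤).op)).symm
      show CohCx.HDUres (DerivedCategory.Q.obj I) n (homOfLE le_top : U i ⟶ ⊤) (φ x) = 0 ↔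
        CohCx.HDUres (DerivedCategory.Q.obj K) n (homOfLE le_top : U i ⟶ ⊤) x = 0
      exact ⟨fun h => ψ.map_eq_zero_iff.1 (nat.symm.trans h), fun h => nat.trans (by rw [h, map_zero])⟩
    · refine CechFil.isSubquotient_congr ?_
        (((HomologicalComplex.homologyFunctor _ _ p).mapIso
          ((cechComplexFunctor (A := AddCommGrpCat.{u}) U).mapIso (θ (n - p)).symm)).addCommGroupIsoToAddEquiv.toIntLinearEquiv)
        (hgr p)
      let E : ↥((G p).comap φ.toLinearMap) ≃ₗ[ℤ] ↥(G p) :=
        φ.ofSubmodules _ _ (Submodule.map_comap_eq_of_surjective φ.surjective _)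
      refine Submodule.Quotient.equiv _ _ E ?_
      ext ⟨y, hy⟩
      constructor
      · rintro ⟨⟨x, hx⟩, hx', hxy⟩
        have : φ x = y := congrArg Subtype.val hxy
        show y ∈ G (p + 1)
        rw [← this]
        exact hx'
      · intro hy'
        refine ⟨E.symm ⟨y, hy⟩, ?_, E.apply_symm_apply _⟩
        show φ (E.symm ⟨y, hy⟩).1 ∈ G (p + 1)
        have : φ (E.symm ⟨y, hy⟩).1 = y := congrArg Subtype.val (E.apply_symm_apply ⟨y, hy⟩)
        rw [this]
        exact hy'

end Groth.Agent.S3540
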