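import Groth.Statements.S3544
import Mathlib
import Groth.Agent.PerfGen7.EulerShape

set_option autoImplicit false
universe u
open HomAlg3

namespace Groth.Agent.S3544

open CategoryTheory CategoryTheory.Limits in
/-- Let E be a cohomological spectral sequence of modules over a ring A, starting at page 2, such that
the E₂ terms have finite length and only finitely many of them (all inside the finite set s of
bidegrees) are nonzero. Then for every r ≥ 2 the Euler–Poincaré characteristic of page r, the
alternating sum over s of (-1)^{p+q} times the length of E_r^{pq}, equals that of page 2. -/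
theorem result {A : Type u} [Ring A]
    (E : E₂CohomologicalSpectralSequence (ModuleCat.{u} A)) (s : Finset (ℤ × ℤ))
    (hs : ∀ pq : ℤ × ℤ, pq ∉ s → IsZero ((E.page 2).X pq))
    (hfl : ∀ pq : ℤ × ℤ, IsFiniteLength A ((E.page 2).X pq)) (r : ℤ) (hr : 2 ≤ r) :
    (s.sum fun pq => (((pq.1 + pq.2).negOnePow : ℤˣ) : ℤ) * ((Module.length A ((E.page r hr).X pq)).toNat : ℤ)) =
      s.sum fun pq => (((pq.1 + pq.2).negOnePow : ℤˣ) : ℤ) * ((Module.length A ((E.page 2).X pq)).toNat : ℤ) := by
  classical
  suffices H : ∀ (n : ℕ) (r : ℤ) (hr : 2 ≤ r), r = 2 + n →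
      (∀ pq, pq ∉ s → IsZero ((E.page r hr).X pq)) ∧
      (∀ pq, IsFiniteLength A ((E.page r hr).X pq)) ∧
      (s.sum fun pq => (((pq.1 + pq.2).negOnePow : ℤˣ) : ℤ) * ((Module.length A ((E.page r hr).X pq)).toNat : ℤ)) =
        s.sum fun pq => (((pq.1 + pq.2).negOnePow : ℤˣ) : ℤ) * ((Module.length A ((E.page 2).X pq)).toNat : ℤ) from
    (H (r - 2).toNat r hr (by omega)).2.2
  intro n
  induction n with
  | zero =>
    intro r hr h
    obtain rfl : r = 2 := by omega
    exact ⟨hs, hfl, rfl⟩
  | succ n ih =>
    intro r hr h
    obtain ⟨hs', hfl', heq⟩ := ih (r - 1) (by omega) (by omega)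
    have key := Groth.Agent.PerfGen7.EulerShape.euler (C := ModuleCat.{u} A)
      ((r - 1, 1 - (r - 1)) : ℤ × ℤ)
      (fun X => ((Module.length A X).toNat : ℤ)) (fun X => IsFiniteLength A X)
      (fun S hS h2 => ?_) (fun X hX => ?_) (E.page (r - 1) (by omega)) hfl' s hs'
      (fun i => (((i.1 + i.2).negOnePow : ℤˣ) : ℤ)) (fun i => ?_)
    · have e := fun pq => E.iso (r - 1) r pq (by omega) (by omega)
      have hlen : ∀ pq, Module.length A ((E.page r hr).X pq) =
          Module.length A ((E.page (r - 1) (by omega)).homology pq) :=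
        fun pq => ((e pq).toLinearEquiv.length_eq).symm
      refine ⟨fun pq hpq => ?_, fun pq => ?_, ?_⟩
      · exact IsZero.of_iso ((HomologicalComplex.exactAt_iff_isZero_homology _ _).1
          (ShortComplex.exact_of_isZero_X₂ _ (hs' pq hpq))) (e pq).symm
      · rw [← Module.length_ne_top_iff, hlen pq]
        refine ne_top_of_le_ne_top (Module.length_ne_top_iff.2 (hfl' pq)) ?_
        exact (Module.length_le_of_surjective _ ((ModuleCat.epi_iff_surjective
          ((E.page (r - 1) (by omega)).homologyπ pq)).1 inferInstance)).trans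
          (Module.length_le_of_injective _ ((ModuleCat.mono_iff_injective
          ((E.page (r - 1) (by omega)).iCycles pq)).1 inferInstance))
      · rw [← heq]
        simp only [hlen]
        simpa [smul_eq_mul] using key.symm
    · have hl := Module.length_eq_add_of_exact S.f.hom S.g.hom hS.moduleCat_injective_f
        hS.moduleCat_surjective_g ((ShortComplex.ShortExact.moduleCat_exact_iff_function_exact _).1 hS.exact)
      have hne := Module.length_ne_top_iff.2 h2
      rw [hl] at hne
      obtain ⟨n1, n3⟩ := WithTop.add_ne_top.1 hne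
      refine ⟨?_, Module.length_ne_top_iff.1 n1, Module.length_ne_top_iff.1 n3⟩
      rw [hl, ENat.toNat_add n1 n3]
      push_cast
      rfl
    · have : Subsingleton X := ModuleCat.subsingleton_of_isZero hX
      simp [Module.length_eq_zero]
    · simp only [Prod.fst_add, Prod.snd_add]
      rw [show i.1 + (r - 1) + (i.2 + (1 - (r - 1))) = (i.1 + i.2) + 1 by ring, Int.negOnePow_succ]
      simp

end Groth.Agent.S3544
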