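import Groth.Statements.S3575
import Groth.Agent.Proj16.ConeData

set_option autoImplicit false
set_option backward.isDefEq.respectTransparency false
set_option backward.isDefEq.respectTransparency.types false
universe u
open CategoryTheory CategoryTheory.Limits AlgebraicGeometry
open EGA2

namespace Groth.Agent.S3575

open HomogeneousLocalization in
theorem coneData_preimage {R A : Type u} [CommRing R] [CommRing A] [Algebra R A] (𝒜 : ℕ → Submodule R A)
    [GradedAlgebra 𝒜] {d : ℕ} {f : A} (hf : f ∈ 𝒜 d) (hd : 0 < d) :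
    (Proj16.coneData 𝒜).map ⁻¹ᵁ Proj.basicOpen 𝒜 f = ((Proj16.coneData 𝒜).chart hf hd).opensRange := by
  refine Proj16.ToProjData.preimage_basicOpen _ (fun {d e f g} hf hd hg he z hz ↦ ?_) hf hd
  refine (Proj16.cone_range_chart 𝒜 hf hd).ge ?_
  have hι : (Cone.pointed 𝒜).ι (Cone.chart hg he z) =
      Spec.map (CommRingCat.ofHom (algebraMap A (Localization.Away g))) z := by
    rw [← Scheme.Hom.comp_apply]
    exact congrArg (fun k : Spec (CommRingCat.of (Localization.Away g)) ⟶ Spec (CommRingCat.of A) ↦ k z)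
      (IsOpenImmersion.lift_fac _ _ _)
  show (Cone.pointed 𝒜).ι (Cone.chart hg he z) ∈ PrimeSpectrum.basicOpen f
  rw [hι]
  intro hmem
  refine hz ?_
  show algebraMap (Away 𝒜 g) (Localization.Away g) (Away.isLocalizationElem hg hf) ∈ z.asIdeal
  rw [HomogeneousLocalization.algebraMap_apply, Away.isLocalizationElem, Away.val_mk,
    Localization.mk_eq_mk', IsLocalization.mk'_eq_mul_mk'_one, map_pow]
  exact z.asIdeal.mul_mem_right _ (z.asIdeal.pow_mem_of_mem hmem _ he)

/-- Let S be a commutative ℕ-graded R-algebra, E the pointed affine cone (the open complement of the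
vertex V(S_+) in Spec S) and X = Proj S, and let π : E → X be the canonical retraction,
characterised (hypothesis hπ) by its agreement on each chart Spec S_f → E, f homogeneous of positive
degree, with Spec of S_(f) → S_f followed by the standard open immersion Spec S_(f) → X. Then π is
an affine and surjective morphism; the inverse image under π of D_+(f) is the open D(f) ∩ E = D(f)
of E for every homogeneous f of positive degree; and π sends a point of E, a prime p of S not
containing S_+, to the homogeneous prime whose homogeneous elements are those of p. -/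
theorem result {R A : Type u} [CommRing R] [CommRing A] [Algebra R A] (𝒜 : ℕ → Submodule R A) [GradedAlgebra 𝒜]
    (π : (Cone.pointed 𝒜 : Scheme.{u}) ⟶ Proj 𝒜)
    (hπ : ∀ (d : ℕ) (f : A) (hd : 0 < d) (hf : f ∈ 𝒜 d),
        Cone.chart hf hd ≫ π =
          Spec.map (CommRingCat.ofHom (algebraMap (HomogeneousLocalization.Away 𝒜 f) (Localization.Away f))) ≫
            Proj.awayι 𝒜 f hf hd) :
    IsAffineHom π ∧ Surjective π ∧
      (∀ (d : ℕ) (f : A), 0 < d → f ∈ 𝒜 d →
        π ⁻¹ᵁ Proj.basicOpen 𝒜 f = (Cone.pointed 𝒜).ι ⁻¹ᵁ Cone.coneOpen f) ∧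
      ∀ p : (Cone.pointed 𝒜 : Scheme.{u}),
        (π.base p).asHomogeneousIdeal = (((Cone.pointed 𝒜).ι.base p).asIdeal).homogeneousCore 𝒜 := by
  have hπ' := (Proj16.coneData 𝒜).eq_map hπ
  have hpre : ∀ (d : ℕ) (f : A), 0 < d → f ∈ 𝒜 d →
      π ⁻¹ᵁ Proj.basicOpen 𝒜 f = (Cone.pointed 𝒜).ι ⁻¹ᵁ Cone.coneOpen f := fun d f hd hf => by
    rw [hπ', coneData_preimage 𝒜 hf hd]
    exact TopologicalSpace.Opens.ext (Proj16.cone_range_chart 𝒜 hf hd)
  have hpt : ∀ p : (Cone.pointed 𝒜 : Scheme.{u}),
      (π.base p).asHomogeneousIdeal = (((Cone.pointed 𝒜).ι.base p).asIdeal).homogeneousCore 𝒜 := by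
    intro p
    let q := ((Cone.pointed 𝒜).ι.base p).asIdeal
    have hq : q.IsPrime := ((Cone.pointed 𝒜).ι.base p).isPrime
    have key : ∀ (d : ℕ) (f : A), 0 < d → f ∈ 𝒜 d → (f ∈ (π.base p).asHomogeneousIdeal ↔ f ∈ q) := by
      intro d f hd hf
      have h := SetLike.ext_iff.1 (hpre d f hd hf) p
      exact not_iff_not.1 h
    obtain ⟨e, g, he, hg, hgq⟩ := Proj16.exists_homogeneous_notMem 𝒜 (I := q) fun h ↦ p.2 h
    refine HomogeneousIdeal.ext' fun i x hx => ?_
    have h1 : x ∈ q.homogeneousCore 𝒜 ↔ x ∈ q :=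
      ⟨fun h => Ideal.toIdeal_homogeneousCore_le 𝒜 q h,
        Ideal.mem_homogeneousCore_of_homogeneous_of_mem ⟨i, hx⟩⟩
    rw [h1]
    have h2 := key (i + e) (x * g) (Nat.add_pos_right i he) (SetLike.mul_mem_graded hx hg)
    constructor
    · intro hxp
      exact (hq.mem_or_mem (h2.1 ((π.base p).asHomogeneousIdeal.toIdeal.mul_mem_right g hxp))).resolve_right hgq
    · intro hxq
      exact ((π.base p).isPrime.mem_or_mem (h2.2 (q.mul_mem_right g hxq))).resolve_right
        (fun h => hgq ((key e g he hg).1 h))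
  refine ⟨?_, ⟨fun x => ?_⟩, hpre, hpt⟩
  · rw [hπ']
    exact Proj16.ToProjData.map_of_charts (P := @IsAffineHom) _ (fun hf hd => coneData_preimage 𝒜 hf hd)
      fun _ _ _ _ => inferInstance
  · let p : (Cone.pointed 𝒜 : Scheme.{u}) := ⟨⟨x.asHomogeneousIdeal.toIdeal, x.isPrime⟩, x.not_irrelevant_le⟩
    refine ⟨p, ProjectiveSpectrum.ext ?_⟩
    exact (hpt p).trans x.asHomogeneousIdeal.toIdeal_homogeneousCore_eq_self

end Groth.Agent.S3575
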