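import Groth.Statements.S3576
import Groth.Agent.ConeX.FibreCharts
import Groth.Agent.S3575

set_option autoImplicit false
set_option backward.isDefEq.respectTransparency false
set_option backward.isDefEq.respectTransparency.types false
universe u
open CategoryTheory CategoryTheory.Limits AlgebraicGeometry
open EGA2
open Groth.Agent HomogeneousLocalization

namespace Groth.Agent.S3576

/-- Over an affine base Spec R: let S be a graded R-algebra whose irrelevant ideal is generated by its
degree-one elements, E the pointed affine cone of S and π : E → X = Proj S the canonical retraction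
(the morphism restricting on each chart D(f), f homogeneous of positive degree, to Spec S_f → Spec
S_(f) → Proj S). Then π is of finite type, and for every point x of X the fibre of π at x is
isomorphic over the residue field κ(x) to Spec κ(x)[T, T⁻¹]. -/
theorem result {R A : Type u} [CommRing R] [CommRing A] [Algebra R A] (𝒜 : ℕ → Submodule R A) [GradedAlgebra 𝒜]
    (hgen : (HomogeneousIdeal.irrelevant 𝒜).toIdeal = Ideal.span (𝒜 1 : Set A))
    (π : (Cone.pointed 𝒜 : Scheme.{u}) ⟶ Proj 𝒜)
    (hπ : ∀ (d : ℕ) (f : A) (hd : 0 < d) (hf : f ∈ 𝒜 d),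
        Cone.chart hf hd ≫ π =
          Spec.map (CommRingCat.ofHom (algebraMap (HomogeneousLocalization.Away 𝒜 f) (Localization.Away f))) ≫
            Proj.awayι 𝒜 f hf hd)
    (x : Proj 𝒜) :
    LocallyOfFiniteType π ∧ QuasiCompact π ∧
      ∃ e : pullback π ((Proj 𝒜).fromSpecResidueField x) ≅
          Spec (CommRingCat.of (LaurentPolynomial ((Proj 𝒜).residueField x))),
        e.hom ≫ Spec.map (CommRingCat.ofHom (algebraMap ((Proj 𝒜).residueField x)
          (LaurentPolynomial ((Proj 𝒜).residueField x)))) = pullback.snd π ((Proj 𝒜).fromSpecResidueField x) := by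
  have hπ' := (Proj16.coneData 𝒜).eq_map hπ
  have H : ∀ y : Proj 𝒜, ∃ (f : A) (hf : f ∈ 𝒜 1) (c : Spec (CommRingCat.of (LaurentPolynomial (Away 𝒜 f))) ⟶ (Cone.pointed 𝒜 : Scheme.{u})),
      y ∈ Set.range (Proj.awayι 𝒜 f hf one_pos) ∧
      IsPullback c (Spec.map (CommRingCat.ofHom (algebraMap (Away 𝒜 f) (LaurentPolynomial (Away 𝒜 f))))) π
        (Proj.awayι 𝒜 f hf one_pos) := by
    intro y
    obtain ⟨f, hf, hfy⟩ : ∃ f ∈ 𝒜 1, y ∈ Proj.basicOpen 𝒜 f := by
      by_contra! H
      refine y.not_irrelevant_le ?_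
      show (HomogeneousIdeal.irrelevant 𝒜).toIdeal ≤ y.asHomogeneousIdeal.toIdeal
      rw [hgen, Ideal.span_le]
      exact fun f hf => not_not.mp fun h' => H f hf h'
    haveI : IsOpenImmersion (Cone.chart hf one_pos) := (Proj16.coneData 𝒜).isOpenImmersion hf one_pos
    haveI : IsIso (CommRingCat.ofHom (ConeX.laurentPiece (𝒜 := 𝒜) f)) :=
      (ConcreteCategory.isIso_iff_bijective (CommRingCat.ofHom (ConeX.laurentPiece (𝒜 := 𝒜) f))).mpr
        (ConeX.bijective_laurentPiece f hf)
    let c : Spec (CommRingCat.of (LaurentPolynomial (Away 𝒜 f))) ⟶ (Cone.pointed 𝒜 : Scheme.{u}) :=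
      inv (Spec.map (CommRingCat.ofHom (ConeX.laurentPiece (𝒜 := 𝒜) f))) ≫ Cone.chart hf one_pos
    refine ⟨f, hf, c, (Proj.opensRange_awayι 𝒜 f hf one_pos).ge hfy, ?_⟩
    refine ConeX.isPullback_of_range_eq π c _ _ ?_ ?_
    · rw [Category.assoc, hπ 1 f one_pos hf, IsIso.inv_comp_eq, ← Spec.map_comp_assoc, ← CommRingCat.ofHom_comp]
      congr 3
      refine RingHom.ext fun q => ?_
      simp [ConeX.laurentPiece, ← LaurentPolynomial.C_eq_algebraMap]
    · rw [Scheme.Hom.comp_base, TopCat.coe_comp, Set.range_comp, Set.range_eq_univ.mpr (Scheme.Hom.surjective _),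
        Set.image_univ, hπ']
      refine Eq.trans ?_ (congrArg _ (congrArg SetLike.coe (Proj.opensRange_awayι 𝒜 f hf one_pos))).symm
      exact congrArg SetLike.coe (S3575.coneData_preimage 𝒜 hf one_pos).symm
  have hft := ConeX.finiteType_of_charts π fun y => by
    obtain ⟨f, hf, c, hy, sq⟩ := H y
    exact ⟨_, _, _, _, c, inferInstance, hy,
      (RingHom.finiteType_algebraMap).mpr (ConeX.finiteType_laurent (Away 𝒜 f)), sq⟩
  obtain ⟨f, hf, c, hy, sq⟩ := H x
  exact ⟨hft.1, hft.2, ConeX.exists_fibre_iso π (Proj.awayι 𝒜 f hf one_pos) x hy _ c sq _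
    (fun χ => CommRingCat.ofHom (ConeX.lmap χ.hom)) fun χ => ConeX.isPushout_laurent χ.hom⟩

end Groth.Agent.S3576
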