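import Groth.Statements.S3597
import Groth.Agent.Proj16.ConeData

set_option autoImplicit false
set_option backward.isDefEq.respectTransparency false
set_option backward.isDefEq.respectTransparency.types false
set_option backward.isDefEq.respectTransparency false
set_option backward.isDefEq.respectTransparency.types false
universe u
open CategoryTheory CategoryTheory.Limits AlgebraicGeometry
open EGA2

namespace Groth.Agent.S3597

/-- Let S be a graded algebra over a ring and Ŝ = S[z] the graded S-algebra obtained by adjoining a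
variable z in degree 1 (an S-algebra with an element z of degree 1 such that S[T] → Ŝ, T ↦ z, is
bijective), with φ : S → Ŝ the graded structure map and ψ : Ŝ → S the graded retraction with ψ ∘ φ =
id and ψ(z) = 0 (the irrelevant-ideal containment needed to define Proj(ψ) on all of X = Proj S
carried as a hypothesis). Let Ê ⊆ Ĉ = Proj Ŝ be the pointed projective cone, the open union of the
D_+(φ f) for f ∈ S homogeneous of positive degree, and p : Ê → X a morphism which on each chart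
D_+(φ f) = Spec Ŝ_{(φ f)} is induced by S_{(f)} → Ŝ_{(φ f)} (the canonical retraction). Then p is
surjective, and the closed immersion j = Proj(ψ) : X → Ĉ factors through Ê with p ∘ j = id_X. -/
theorem result {R A : Type u} [CommRing R] [CommRing A] [Algebra R A] (𝒜 : ℕ → Submodule R A) [GradedAlgebra 𝒜]
    {B : Type u} [CommRing B] [Algebra R B] (ℬ : ℕ → Submodule R B) [GradedAlgebra ℬ]
    [Algebra A B] [IsScalarTower R A B] (φ : 𝒜 →+*ᵍ ℬ) (hφ : ∀ a : A, φ a = algebraMap A B a)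
    (z : B) (hz : z ∈ ℬ 1) (hhat : Function.Bijective (Polynomial.aeval (R := A) z))
    (ψ : ℬ →+*ᵍ 𝒜) (hψφ : ∀ a : A, ψ (φ a) = a) (hψz : ψ z = 0)
    (hψ : HomogeneousIdeal.irrelevant 𝒜 ≤ (HomogeneousIdeal.irrelevant ℬ).map ψ)
    (p : (PCone.dom φ : Scheme.{u}) ⟶ Proj 𝒜) (hp : ∀ (d : ℕ) (f : A) (hd : 0 < d) (hf : f ∈ 𝒜 d),
        PCone.chart φ hf hd ≫ p =
          Spec.map (CommRingCat.ofHom (HomogeneousLocalization.Away.map φ f)) ≫ Proj.awayι 𝒜 f hf hd) :
    Surjective p ∧ ∃ j : Proj 𝒜 ⟶ (PCone.dom φ : Scheme.{u}), j ≫ (PCone.dom φ).ι = Proj.map ψ hψ ∧ j ≫ p = 𝟙 (Proj 𝒜) := by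
  have hrange : Set.range (Proj.map ψ hψ) ⊆ Set.range (PCone.dom φ).ι := by
    rintro _ ⟨x, rfl⟩
    rw [Scheme.Opens.range_ι]
    obtain ⟨d, f, hd, hf, hfx⟩ := Proj16.exists_homogeneous_notMem 𝒜 (I := x.asHomogeneousIdeal.toIdeal)
      x.not_irrelevant_le
    refine TopologicalSpace.Opens.mem_iSup.2 ⟨⟨f, d, hd, hf⟩, ?_⟩
    show x ∈ Proj.map ψ hψ ⁻¹ᵁ Proj.basicOpen ℬ (φ f)
    rw [Proj.map_preimage_basicOpen, hψφ f]
    exact hfx
  let j : Proj 𝒜 ⟶ (PCone.dom φ : Scheme.{u}) := IsOpenImmersion.lift (PCone.dom φ).ι (Proj.map ψ hψ) hrange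
  have hj : j ≫ (PCone.dom φ).ι = Proj.map ψ hψ := IsOpenImmersion.lift_fac _ _ _
  have hid : ψ.comp φ = GradedRingHom.id 𝒜 := by
    ext a
    exact hψφ a
  have hjp : j ≫ p = 𝟙 (Proj 𝒜) := by
    refine (Proj.affineOpenCover 𝒜).openCover.hom_ext _ _ fun i => ?_
    show Proj.awayι 𝒜 (i.2 : A) i.2.2 i.1.2 ≫ j ≫ p = Proj.awayι 𝒜 (i.2 : A) i.2.2 i.1.2 ≫ 𝟙 _
    rw [Category.comp_id]
    obtain ⟨⟨d, hd⟩, ⟨f, hf⟩⟩ := i
    have key : ∀ (f' : A) (hf' : f' ∈ 𝒜 d), f' = ψ (φ f) →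
        Proj.awayι 𝒜 f' hf' hd ≫ j ≫ p = Proj.awayι 𝒜 f' hf' hd := by
      rintro f' hf' rfl
      have h1 : Proj.awayι 𝒜 (ψ (φ f)) hf' hd ≫ j =
          Spec.map (CommRingCat.ofHom (HomogeneousLocalization.Away.map ψ (φ f))) ≫ PCone.chart φ hf hd := by
        rw [← cancel_mono (PCone.dom φ).ι, Category.assoc, Category.assoc, hj, PCone.chart,
          IsOpenImmersion.lift_fac]
        exact Proj.awayι_comp_map ψ hψ hd (φ f) (φ.2 hf)
      rw [← Category.assoc, h1, Category.assoc, hp d f hd hf, ← Spec.map_comp_assoc]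
      have hirr : HomogeneousIdeal.irrelevant 𝒜 ≤ (HomogeneousIdeal.irrelevant 𝒜).map (ψ.comp φ) := by
        rw [hid]; simp
      have h3 : Proj.map (ψ.comp φ) hirr = 𝟙 _ := by
        have : ∀ (g : 𝒜 →+*ᵍ 𝒜) (h : HomogeneousIdeal.irrelevant 𝒜 ≤ (HomogeneousIdeal.irrelevant 𝒜).map g),
            g = GradedRingHom.id 𝒜 → Proj.map g h = 𝟙 _ := by
          rintro g h rfl
          exact Proj.map_id
        exact this _ _ hid
      have h4 := Proj.awayι_comp_map (ψ.comp φ) hirr hd f hf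
      rw [h3, Category.comp_id] at h4
      refine Eq.trans ?_ h4.symm
      congr 2
      refine CommRingCat.hom_ext (RingHom.ext fun a => ?_)
      obtain ⟨n, b, hb, rfl⟩ := a.mk_surjective 𝒜 hf
      apply HomogeneousLocalization.val_injective
      simp [HomogeneousLocalization.Away.map_mk]
    exact key f hf (hψφ f).symm
  refine ⟨⟨fun x => ⟨j x, ?_⟩⟩, j, hj, hjp⟩
  rw [← Scheme.Hom.comp_apply, hjp]
  rfl

end Groth.Agent.S3597
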