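import Groth.Statements.S3598
import Groth.Agent.ConeX.FibreCharts
import Groth.Agent.Proj16.ConeData

set_option autoImplicit false
set_option backward.isDefEq.respectTransparency false
set_option backward.isDefEq.respectTransparency.types false
universe u
open CategoryTheory CategoryTheory.Limits AlgebraicGeometry
open EGA2
open Groth.Agent HomogeneousLocalization

namespace Groth.Agent.S3598

/-- Let S be a graded algebra over a ring (an affine base) whose irrelevant ideal is generated by its
degree-one elements, and let Ŝ = S[z] be the graded S-algebra obtained by adjoining a variable z of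
degree 1 (given as a graded S-algebra together with z of degree 1 such that S[T] → Ŝ, T ↦ z, is
bijective). Let Ê be the pointed projective cone, covered by the charts Spec Ŝ_(f) for f ∈ S
homogeneous of positive degree, and p : Ê → X = Proj S the canonical retraction, i.e. the morphism
which on each chart Spec Ŝ_(f) is induced by S_(f) → Ŝ_(f). Then p is of finite type (locally of
finite type and quasi-compact) and its fibre at every point x of X is isomorphic over k(x) to the
affine line Spec k(x)[T]. -/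
theorem result {R A : Type u} [CommRing R] [CommRing A] [Algebra R A] (𝒜 : ℕ → Submodule R A) [GradedAlgebra 𝒜]
    {B : Type u} [CommRing B] [Algebra R B] (ℬ : ℕ → Submodule R B) [GradedAlgebra ℬ]
    [Algebra A B] [IsScalarTower R A B] (φ : 𝒜 →+*ᵍ ℬ) (hφ : ∀ a : A, φ a = algebraMap A B a)
    (z : B) (hz : z ∈ ℬ 1) (hhat : Function.Bijective (Polynomial.aeval (R := A) z))
    (hgen : (HomogeneousIdeal.irrelevant 𝒜).toIdeal = Ideal.span (𝒜 1 : Set A))
    (p : (PCone.dom φ : Scheme.{u}) ⟶ Proj 𝒜) (hp : ∀ (d : ℕ) (f : A) (hd : 0 < d) (hf : f ∈ 𝒜 d),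
        PCone.chart φ hf hd ≫ p =
          Spec.map (CommRingCat.ofHom (HomogeneousLocalization.Away.map φ f)) ≫ Proj.awayι 𝒜 f hf hd) (x : Proj 𝒜) :
    LocallyOfFiniteType p ∧ QuasiCompact p ∧
      ∃ e : pullback p ((Proj 𝒜).fromSpecResidueField x) ≅
          Spec (CommRingCat.of (Polynomial ((Proj 𝒜).residueField x))),
        e.hom ≫ Spec.map (CommRingCat.ofHom (algebraMap ((Proj 𝒜).residueField x)
          (Polynomial ((Proj 𝒜).residueField x)))) = pullback.snd p ((Proj 𝒜).fromSpecResidueField x) := by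
  have hp' := (Proj16.pconeData 𝒜 ℬ φ).eq_map hp
  have hbij : Function.Bijective (Polynomial.eval₂RingHom φ.toRingHom z) := by
    rw [show φ.toRingHom = algebraMap A B from RingHom.ext hφ]
    exact hhat
  have H : ∀ y : Proj 𝒜, ∃ (f : A) (hf : f ∈ 𝒜 1) (c : Spec (CommRingCat.of (Polynomial (Away 𝒜 f))) ⟶ (PCone.dom φ : Scheme.{u})),
      y ∈ Set.range (Proj.awayι 𝒜 f hf one_pos) ∧
      IsPullback c (Spec.map (CommRingCat.ofHom (algebraMap (Away 𝒜 f) (Polynomial (Away 𝒜 f))))) p
        (Proj.awayι 𝒜 f hf one_pos) := by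
    intro y
    obtain ⟨f, hf, hfy⟩ : ∃ f ∈ 𝒜 1, y ∈ Proj.basicOpen 𝒜 f := by
      by_contra! H
      refine y.not_irrelevant_le ?_
      show (HomogeneousIdeal.irrelevant 𝒜).toIdeal ≤ y.asHomogeneousIdeal.toIdeal
      rw [hgen, Ideal.span_le]
      exact fun f hf => not_not.mp fun h' => H f hf h'
    haveI : IsOpenImmersion (PCone.chart φ hf one_pos) := (Proj16.pconeData 𝒜 ℬ φ).isOpenImmersion hf one_pos
    haveI : IsIso (CommRingCat.ofHom (ConeX.linePiece φ z hz f hf)) :=
      (ConcreteCategory.isIso_iff_bijective (CommRingCat.ofHom (ConeX.linePiece φ z hz f hf))).mpr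
        (ConeX.bijective_linePiece φ z hz hbij f hf)
    let c : Spec (CommRingCat.of (Polynomial (Away 𝒜 f))) ⟶ (PCone.dom φ : Scheme.{u}) :=
      inv (Spec.map (CommRingCat.ofHom (ConeX.linePiece φ z hz f hf))) ≫ PCone.chart φ hf one_pos
    refine ⟨f, hf, c, (Proj.opensRange_awayι 𝒜 f hf one_pos).ge hfy, ?_⟩
    refine ConeX.isPullback_of_range_eq p c _ _ ?_ ?_
    · rw [Category.assoc, hp 1 f one_pos hf, IsIso.inv_comp_eq, ← Spec.map_comp_assoc, ← CommRingCat.ofHom_comp]
      congr 3
      refine RingHom.ext fun q => ?_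
      simp [ConeX.linePiece]
    · rw [Scheme.Hom.comp_base, TopCat.coe_comp, Set.range_comp, Set.range_eq_univ.mpr (Scheme.Hom.surjective _),
        Set.image_univ, hp']
      refine Eq.trans ?_ (congrArg _ (congrArg SetLike.coe (Proj.opensRange_awayι 𝒜 f hf one_pos))).symm
      exact congrArg SetLike.coe (Proj16.pconeData_preimage 𝒜 ℬ φ hf one_pos).symm
  have hft := ConeX.finiteType_of_charts p fun y => by
    obtain ⟨f, hf, c, hy, sq⟩ := H y
    exact ⟨_, _, _, _, c, inferInstance, hy,
      (RingHom.finiteType_algebraMap).mpr (inferInstanceAs (Algebra.FiniteType (Away 𝒜 f) (Polynomial (Away 𝒜 f)))), sq⟩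
  obtain ⟨f, hf, c, hy, sq⟩ := H x
  exact ⟨hft.1, hft.2, ConeX.exists_fibre_iso p (Proj.awayι 𝒜 f hf one_pos) x hy _ c sq _
    (fun χ => CommRingCat.ofHom (Polynomial.mapRingHom χ.hom)) fun χ => ConeX.isPushout_poly χ.hom⟩

end Groth.Agent.S3598
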