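import Groth.Statements.S3600
import Groth.Agent.PerfGen7.AdjCoprod
import Groth.Agent.DerBC7.FlatPerfect
import Groth.Agent.PerfGen7.PushSupp

set_option autoImplicit false
set_option backward.isDefEq.respectTransparency false
set_option backward.isDefEq.respectTransparency.types false
set_option maxHeartbeats 1000000
universe u
open CategoryTheory CategoryTheory.Limits AlgebraicGeometry
attribute [local instance] HasDerivedCategory.standard
open Dual3

namespace Groth.Agent.S3600

/-- Let Y be a quasi-compact quasi-separated scheme and f : X → Y a morphism which is proper, flat and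
of finite presentation. Assume the derived direct image Rf_* exists and preserves quasi-coherence of
cohomology sheaves (both known results), so that it restricts to a functor D_QCoh(O_X) →
D_QCoh(O_Y), and let a : D_QCoh(O_Y) → D_QCoh(O_X) be a right adjoint of this restricted functor.
Then a commutes with direct sums: it preserves all coproducts indexed by types in the ambient
universe. -/
theorem result (X Y : Scheme.{u}) [CompactSpace Y] [QuasiSeparatedSpace Y] (f : X ⟶ Y) [IsProper f] [Flat f] [LocallyOfFinitePresentation f] [DCoh.HasRpush f] (hf : DCoh.RpushPreservesQCoh f) (a : DCoh.DQCoh Y ⥤ DCoh.DQCoh X) (adj : DCoh.RpushQ f hf ⊣ a) (J : Type u) : PreservesColimitsOfShape (Discrete J) a := by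
  haveI : CompactSpace X := QuasiCompact.compactSpace_of_compactSpace f
  haveI : QuasiSeparatedSpace X := quasiSeparatedSpace_of_quasiSeparated f
  haveI : (DCoh.Rpush f).Additive := Groth.Agent.PerfGen7.rpush_additive f
  haveI : (DCoh.RpushQ f hf).Additive := ⟨fun {_ _ _ _} => ObjectProperty.hom_ext _ ((DCoh.Rpush f).map_add ..)⟩
  exact Groth.Agent.PerfGen7.preservesCoproducts_rightAdjoint _ (fun A hA => Groth.Agent.DerBC7.isPerfect_rpush f hA) adj J

end Groth.Agent.S3600
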