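import Groth.Statements.S3601
import Groth.Agent.ShriekSupp7.Unbounded
import Groth.Agent.DerBC7.FlatPerfect

set_option autoImplicit false
universe u
open CategoryTheory CategoryTheory.Limits AlgebraicGeometry
attribute [local instance] HasDerivedCategory.standard
open Dual3

namespace Groth.Agent.S3601

/-- Let Y be a quasi-compact quasi-separated scheme and f : X → Y a morphism which is proper, flat and
of finite presentation. Assume the derived direct image Rf_* exists and preserves quasi-coherence of
cohomology sheaves (both known results), so that it restricts to a functor D_QCoh(O_X) →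
D_QCoh(O_Y), and let a : D_QCoh(O_Y) → D_QCoh(O_X) be a right adjoint of this restricted functor.
Let V ⊆ Y be any open subset, with closed complement T. If Q in D_QCoh(O_Y) has all its cohomology
sheaves restricting to zero on V (Q is supported on T), then all cohomology sheaves of a(Q) restrict
to zero on f⁻¹V (a(Q) is supported on f⁻¹T). No boundedness of Q is required. (The published
statement has further parts, which are not asserted here.) -/
theorem result (X Y : Scheme.{u}) [CompactSpace Y] [QuasiSeparatedSpace Y] (f : X ⟶ Y) [IsProper f] [Flat f] [LocallyOfFinitePresentation f] [DCoh.HasRpush f] (hf : DCoh.RpushPreservesQCoh f) (a : DCoh.DQCoh Y ⥤ DCoh.DQCoh X) (adj : DCoh.RpushQ f hf ⊣ a) (V : Y.Opens) (Q : DCoh.DQCoh Y) (hQV : ∀ i : ℤ, IsZero ((DCoh.HD Q.obj i).restrict V.ι)) (i : ℤ) : IsZero ((DCoh.HD (a.obj Q).obj i).restrict (f ⁻¹ᵁ V).ι) := by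
  refine (ShriekSupp7.isZero_restrict_iff_supp (a.obj Q).obj (f ⁻¹ᵁ V)).2
    (ShriekSupp7.supp_rightAdjoint' f hf adj (fun W hW _ P hP => ?_) V Q
      ((ShriekSupp7.isZero_restrict_iff_supp Q.obj V).1 hQV)) i
  haveI : IsProper (f ∣_ W) := IsZariskiLocalAtTarget.restrict (P := @IsProper) inferInstance W
  haveI : Flat (f ∣_ W) := IsZariskiLocalAtTarget.restrict (P := @Flat) inferInstance W
  haveI : LocallyOfFinitePresentation (f ∣_ W) :=
    IsZariskiLocalAtTarget.restrict (P := @LocallyOfFinitePresentation) inferInstance W
  haveI : IsAffine W := hW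
  exact DerBC7.isPerfect_rpush (f ∣_ W) hP

end Groth.Agent.S3601
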