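import Groth.Statements.S3621
import Groth.Agent.PerfGen7.GorLocus
import Groth.Agent.PerfGen7.DualSchCM
import Groth.Agent.LC.GorFlat

set_option autoImplicit false
universe u
open CategoryTheory CategoryTheory.Limits AlgebraicGeometry
attribute [local instance] HasDerivedCategory.standard
open Dual3

namespace Groth.Agent.S3621

/-- Let X be a locally Noetherian scheme which has a dualizing complex (exactness instances as in the
definition of dualizing complexes on schemes). Then the set of points x of X whose local ring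
O_{X,x} is Gorenstein is open. -/
theorem result (X : Scheme.{u}) [IsLocallyNoetherian X] [∀ (U V : Scheme.{u}) (j : U ⟶ V) [IsOpenImmersion j], PreservesFiniteLimits (Scheme.Modules.restrictFunctor j)] [∀ (R : CommRingCat.{u}), PreservesFiniteLimits (tilde.functor R)] (K : DCoh.D X) (hK : Dual2.IsDualizingSch X K) : IsOpen {x : X | LocCoh.IsGorensteinLocalRing (X.presheaf.stalk x)} := by
  rw [isOpen_iff_forall_mem_open]
  intro x hx
  obtain ⟨R, hR, j, hj, ⟨p₀, hp₀⟩⟩ := Groth.Agent.KFlatLib.exists_chart x
  obtain ⟨ωA, hωA, -⟩ := hK R j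
  have key : ∀ p : Spec R, LocCoh.IsGorensteinLocalRing (X.presheaf.stalk (j.base p)) ↔
      LocCoh.IsGorensteinLocalRing (Localization.AtPrime p.asIdeal) := fun p => by
    let e₁ : X.presheaf.stalk (j.base p) ≃+* (Spec R).presheaf.stalk p :=
      (asIso (j.stalkMap p)).commRingCatIsoToRingEquiv
    let e₂ : Localization.AtPrime p.asIdeal ≃+* (Spec R).presheaf.stalk p :=
      (StructureSheaf.stalkIso R p).toRingEquiv
    haveI : IsNoetherianRing (Localization.AtPrime p.asIdeal) :=
      IsLocalization.isNoetherianRing p.asIdeal.primeCompl _ inferInstance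
    haveI : IsNoetherianRing (X.presheaf.stalk (j.base p)) :=
      isNoetherianRing_of_ringEquiv _ (e₂.trans e₁.symm)
    exact ⟨fun h => Groth.Agent.LC.gorenstein_of_ringEquiv (e₁.trans e₂.symm),
      fun h => Groth.Agent.LC.gorenstein_of_ringEquiv (e₂.trans e₁.symm)⟩
  subst hp₀
  refine ⟨j.base '' {p : Spec R | LocCoh.IsGorensteinLocalRing (Localization.AtPrime p.asIdeal)}, ?_,
    j.isOpenEmbedding.isOpenMap _ (Groth.Agent.PerfGen7.GorLocus.isOpen_gorenstein hωA), ⟨p₀, (key p₀).1 hx, rfl⟩⟩
  rintro _ ⟨p, hp, rfl⟩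
  exact (key p).2 hp

end Groth.Agent.S3621
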