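import Groth.Statements.S3657
import Groth.Agent.RHomO7.Finite
import Groth.Agent.KFlatLib.Scheme.CohD
import Groth.Agent.QCoh.Support

set_option autoImplicit false
universe u
open CategoryTheory CategoryTheory.Limits AlgebraicGeometry
attribute [local instance] HasDerivedCategory.standard
open Dual3

namespace Groth.Agent.S3657

/-- Let f : Y → X be a finite morphism of Noetherian schemes, with derived direct image Rf_* on D_QCoh
(assumed to exist and to preserve quasi-coherence) and a right adjoint a of Rf_* : D_QCoh(O_Y) →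
D_QCoh(O_X). Let E be a complex of O_X-modules representing f_*O_Y placed in degree 0, with − ⊗^L E
and RHom(E, −) assumed to exist. Then Rf_* ∘ a ≅ RHom(E, −) = RHom_{O_X}(f_*O_Y, −) as functors on
D^+_QCoh(O_X) (the form f_* f^! = RHom(f_*O_Y, −) of duality for a finite morphism). -/
theorem result (Y X : Scheme.{u}) [IsNoetherian X] [IsNoetherian Y] (f : Y ⟶ X) [IsFinite f] [DCoh.HasRpush f] (hf : DCoh.RpushPreservesQCoh f) (a : DCoh.DQCoh X ⥤ DCoh.DQCoh Y) (adj : DCoh.RpushQ f hf ⊣ a) (E : CochainComplex X.Modules ℤ) (hE : Nonempty (DCoh.toD X E ≅ DCoh.inD X ((Scheme.Modules.pushforward f).obj (Coh.structureModule Y)))) [DCoh.HasLTensorCx E] [DCoh.HasRSheafHom E] : Nonempty (Dual3.bddι X ⋙ a ⋙ DCoh.RpushQ f hf ⋙ ObjectProperty.ι _ ≅ Dual3.bddι X ⋙ ObjectProperty.ι _ ⋙ DCoh.RSheafHom E) := by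
  haveI := Groth.Agent.KFlatLib.hasLpull f
  obtain ⟨eE⟩ := hE
  refine Groth.Agent.RHomO7.nonempty_push_rightAdjoint_iso f hf a adj E ⟨eE⟩ fun K ⟨n, hn⟩ => ?_
  have hcoh : DCoh.IsCohD (DCoh.toD X E) := by
    refine Groth.Agent.KFlatLib.isCohD_of_iso eE.symm fun j => ?_
    rcases lt_trichotomy j 0 with hj | rfl | hj
    · exact Groth.Agent.KFlatLib.isCoh_of_isZero (DerivedCategory.isZero_of_isGE _ 0 j hj)
    · exact Groth.Agent.KFlatLib.isCoh_of_iso
        ((DerivedCategory.singleFunctorCompHomologyFunctorIso X.Modules 0).app _).symm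
        (Groth.Agent.QCoh.isCoh_pushforward_finite f Groth.Agent.QCoh.isCoh_structureModule')
    · exact Groth.Agent.KFlatLib.isCoh_of_isZero (DerivedCategory.isZero_of_isLE _ 0 j hj)
  haveI : (DCoh.toD X E).IsLE 0 := DerivedCategory.TStructure.t.isLE_of_iso eE.symm 0
  have hpc : ∀ m : ℤ, DCoh.IsPseudoCoherentD m (DCoh.toD X E) := fun m =>
    (Groth.Agent.KFlatLib.isPseudoCoherentD_iff _ _).2
      (Groth.Agent.KFlatLib.locPC_of_coh (Groth.Agent.KFlatLib.isCohD_isQCohD hcoh) (fun j _ => hcoh j) 0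
        ((DerivedCategory.isLE_iff _ 0).1 inferInstance))
  exact Groth.Agent.KFlatLib.isQCohD_RSheafHom_of_pseudoCoherent E hpc K.obj K.property n

end Groth.Agent.S3657
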