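import Groth.Statements.S3665
import Groth.Agent.QCoh.SubCompare
import Groth.Agent.QCoh.Qcqs
import Groth.Agent.QCoh.FT
import Groth.Agent.QCoh.DevissageSum
import Mathlib.RingTheory.Filtration

set_option autoImplicit false
set_option backward.isDefEq.respectTransparency false
set_option backward.isDefEq.respectTransparency.types false
set_option maxHeartbeats 1000000
universe u
open CategoryTheory CategoryTheory.Limits AlgebraicGeometry
attribute [local instance] HasDerivedCategory.standard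
open Dual3

namespace Groth.Agent.S3665

open Groth.Agent.QCoh in
lemma mem_range_iff {X : Scheme.{u}} (J : X.IdealSheafData) {F : X.Modules} (hF : Coh.IsQCoh F) (s : Γ(F, ⊤)) :
    (∃ t, (Dual3.idealMulι J F).app ⊤ t = s) ↔ ∀ U : X.affineOpens,
      F.presheaf.map (homOfLE (le_top : U.1 ≤ ⊤)).op s ∈ J.ideal U • (⊤ : Submodule Γ(X, U.1) Γ(F, U.1)) := by
  let η := (Scheme.Modules.pullbackPushforwardAdjunction J.subschemeι).unit.app F
  have key : ∀ (U : X.affineOpens) (x : Γ(F, U.1)), η.app U.1 x = 0 ↔ x ∈ J.ideal U • (⊤ : Submodule Γ(X, U.1) Γ(F, U.1)) := by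
    intro U x
    have h := (unit_app_closed J.subschemeι hF U.2).2 x
    rwa [Scheme.IdealSheafData.ker_subschemeι] at h
  constructor
  · rintro ⟨t, rfl⟩ U
    refine (key U _).1 ?_
    have h0 : η.app ⊤ ((Dual3.idealMulι J F).app ⊤ t) = 0 :=
      congr(($(kernel.condition η)).app ⊤ t)
    exact (map_app_comm η (homOfLE (le_top : U.1 ≤ ⊤)) _).trans ((congrArg _ h0).trans (map_zero _))
  · intro h
    refine exists_kernel_lift η ⊤ s (eq_zero_of_locally ⊤ _ fun p _ => ?_)
    obtain ⟨U, hU, hpU⟩ := exists_affine_mem p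
    refine ⟨U, homOfLE le_top, hpU, ?_⟩
    exact (map_app_comm η (homOfLE (le_top : U ≤ ⊤)) s).symm.trans ((key ⟨U, hU⟩ _).2 (h ⟨U, hU⟩))

open Groth.Agent.QCoh in
theorem main (k : Type u) [Field k] (X : Scheme.{u}) (f : X ⟶ Spec (CommRingCat.of k)) [IsProper f]
    (I : X.IdealSheafData) (F : X.Modules) (hF : Coh.IsCoh F) (s : Γ(F, ⊤)) :
    (∀ n : ℕ, ∃ t, (Dual3.idealMulι (I ^ n) F).app ⊤ t = s) ↔
      ∃ V : X.Opens, I.supportSet ⊆ (V : Set X) ∧ F.presheaf.map (homOfLE le_top : V ⟶ ⊤).op s = 0 := by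
  haveI : IsLocallyNoetherian X := LocallyOfFiniteType.isLocallyNoetherian f
  simp only [mem_range_iff _ hF.1 s, Scheme.IdealSheafData.ideal_pow, Pi.pow_apply]
  constructor
  · intro h
    have hr : ∀ U : X.affineOpens, ∃ r : I.ideal U, (1 - r.1) • F.presheaf.map (homOfLE (le_top : U.1 ≤ ⊤)).op s = 0 := by
      intro U
      haveI := IsLocallyNoetherian.component_noetherian U
      haveI := finite_of_isFT hF.1 hF.2 U.2
      obtain ⟨r, hr⟩ := ((I.ideal U).mem_iInf_smul_pow_eq_bot_iff _).1 ((Submodule.mem_iInf _).2 fun n => h n U)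
      exact ⟨r, by rw [sub_smul, one_smul, hr, sub_self]⟩
    choose r hr using hr
    refine ⟨⨆ U : X.affineOpens, X.basicOpen (1 - (r U).1), fun z hz => ?_, eq_zero_of_locally _ _ fun p hp => ?_⟩
    · obtain ⟨U, hU, hzU⟩ := exists_affine_mem z
      refine TopologicalSpace.Opens.mem_iSup.2 ⟨⟨U, hU⟩, ?_⟩
      have hz' := (Scheme.mem_zeroLocus_iff _ _ _).1 ((I.mem_supportSet_iff_of_mem (U := ⟨U, hU⟩) hzU).1 hz) _ (r ⟨U, hU⟩).2
      have e : (1 : Γ(X, U)) = (1 - (r ⟨U, hU⟩).1) + (r ⟨U, hU⟩).1 := by ring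
      have h1 : z ∈ X.basicOpen (1 : Γ(X, U)) := by rw [X.basicOpen_of_isUnit isUnit_one]; exact hzU
      rw [X.mem_basicOpen _ z hzU] at h1 hz' ⊢
      rw [e, map_add] at h1
      exact (IsLocalRing.isUnit_or_isUnit_of_isUnit_add h1).resolve_right hz'
    · obtain ⟨U, hpU⟩ := TopologicalSpace.Opens.mem_iSup.1 hp
      refine ⟨X.basicOpen (1 - (r U).1), homOfLE (le_iSup (fun U : X.affineOpens => X.basicOpen (1 - (r U).1)) U), hpU, ?_⟩
      have hu : IsUnit (X.presheaf.map (homOfLE (X.basicOpen_le (1 - (r U).1))).op (1 - (r U).1)) :=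
        RingedSpace.isUnit_res_basicOpen X.toRingedSpace (1 - (r U).1)
      have h0 := congrArg (F.presheaf.map (homOfLE (X.basicOpen_le (1 - (r U).1))).op) (hr U)
      rw [map_smul', map_zero, hu.smul_eq_zero, map_map] at h0
      rw [map_map, ← h0]
      rfl
  · rintro ⟨V, hV, hs⟩ n U
    let x := F.presheaf.map (homOfLE (le_top : U.1 ≤ ⊤)).op s
    let J : Ideal Γ(X, U.1) := (Submodule.span Γ(X, U.1) {x}).annihilator
    have htop : I.ideal U ^ n ⊔ J = ⊤ := by
      by_contra hne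
      obtain ⟨m, hm, hle⟩ := Ideal.exists_le_maximal _ hne
      let z := U.2.fromSpec.base ⟨m, hm.isPrime⟩
      have hzb : ∀ g : Γ(X, U.1), z ∈ X.basicOpen g ↔ g ∉ m := fun g => by
        show (⟨m, hm.isPrime⟩ : PrimeSpectrum Γ(X, U.1)) ∈ U.2.fromSpec ⁻¹ᵁ X.basicOpen g ↔ _
        rw [U.2.fromSpec_preimage_basicOpen]
        rfl
      have hzU : z ∈ U.1 := by
        have : z ∈ Set.range U.2.fromSpec.base := ⟨_, rfl⟩
        rwa [U.2.range_fromSpec] at this
      have hzI : z ∈ I.supportSet := (I.mem_supportSet_iff_of_mem hzU).2 ((Scheme.mem_zeroLocus_iff _ _ _).2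
        fun g hg hzg => (hzb g).1 hzg (hm.isPrime.mem_of_pow_mem n (hle (Ideal.mem_sup_left (Ideal.pow_mem_pow hg n)))))
      obtain ⟨g, hg, hzg⟩ := U.2.exists_basicOpen_le (V := V ⊓ U.1) ⟨z, hV hzI, hzU⟩ hzU
      obtain ⟨k, hk⟩ := exists_pow_smul_eq_zero_of_isCompact hF.1 U.2.isCompact g x (by
        rw [map_map]
        refine Eq.trans ?_ ((congrArg (F.presheaf.map (homOfLE (hg.trans inf_le_left)).op) hs).trans (map_zero _))
        rw [map_map]
        rfl)
      refine (hzb g).1 hzg (hm.isPrime.mem_of_pow_mem k (hle (Ideal.mem_sup_right ?_)))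
      exact (Submodule.mem_annihilator_span_singleton _ _).2 hk
    obtain ⟨a, ha, b, hb, hab⟩ := Submodule.mem_sup.1 ((htop.symm ▸ Submodule.mem_top : (1 : Γ(X, U.1)) ∈ I.ideal U ^ n ⊔ J))
    have hb' : b • x = 0 := (Submodule.mem_annihilator_span_singleton _ _).1 hb
    have hx : x = a • x := by rw [← add_zero (a • x), ← hb', ← add_smul, hab, one_smul]
    show x ∈ _
    rw [hx]
    exact Submodule.smul_mem_smul ha Submodule.mem_top


/-- Let X be proper over a field k, I a quasi-coherent ideal with vanishing locus Z and F a coherent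
O_X-module, so that H^0_c(X ∖ Z, F) = lim_n H^0(X, I^n F) = ⋂_n Γ(X, I^n F) inside Γ(X, F). Then a
global section s of F lies in the image of Γ(X, I^n F) for every n if and only if s restricts to
zero on some open neighbourhood of Z. -/
theorem result (k : Type u) [Field k] (X : Scheme.{u}) (f : X ⟶ Spec (CommRingCat.of k)) [IsProper f] (I : X.IdealSheafData) (F : X.Modules) (hF : Coh.IsCoh F) (s : F.val.obj (Opposite.op ⊤)) : (∀ n : ℕ, ∃ t : ((Dual3.idealMul (I ^ n)).obj F).val.obj (Opposite.op ⊤), (Dual3.idealMulι (I ^ n) F).val.app (Opposite.op ⊤) t = s) ↔ ∃ V : X.Opens, I.supportSet ⊆ (V : Set X) ∧ F.val.map (homOfLE le_top : V ⟶ ⊤).op s = 0 := by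
  exact main k X f I F hF s

end Groth.Agent.S3665
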