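import Groth.Statements.S3668
import Groth.Agent.Deligne7.Homology

set_option autoImplicit false
set_option backward.isDefEq.respectTransparency false
set_option backward.isDefEq.respectTransparency.types false
universe u
open CategoryTheory CategoryTheory.Limits AlgebraicGeometry
attribute [local instance] HasDerivedCategory.standard
open Dual3

namespace Groth.Agent.S3668

/-- Let X be a Noetherian scheme, I a quasi-coherent ideal, F a complex of coherent O_X-modules and p an
integer; put H = H^p(F) and H_n = H^p(I^n F), with the maps H_n → H and H_m → H_n (m ≥ n) induced by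
the inclusions. Then there are c > 0 and, for n ≥ c, maps φ_n : H_n → I^{n-c} H and ψ_n : I^n H →
H_{n-c} such that: φ_n followed by the inclusion I^{n-c}H ⊆ H is the canonical map H_n → H; ψ_n
followed by H_{n-c} → H is the inclusion I^n H ⊆ H; for n ≥ 2c the composite ψ_n then φ_{n-c} is the
inclusion I^n H ⊆ I^{n-2c} H, and the composite φ_n then ψ_{n-c} is the transition map H_n →
H_{n-2c}. In particular the systems (H_n) and (I^n H) are pro-isomorphic. (The maps φ, ψ are indexed
by all n; only n ≥ c, resp. n ≥ 2c, is constrained.) -/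
theorem result (X : Scheme.{u}) [IsNoetherian X] (I : X.IdealSheafData) (F : CochainComplex X.Modules ℤ) (hFc : ∀ q : ℤ, Coh.IsCoh (F.X q)) (p : ℤ) : ∃ (c : ℕ) (φ : ∀ n : ℕ, ((Dual3.deligne I n).obj F).homology p ⟶ (Dual3.idealMul (I ^ (n - c))).obj (F.homology p)) (ψ : ∀ n : ℕ, (Dual3.idealMul (I ^ n)).obj (F.homology p) ⟶ ((Dual3.deligne I (n - c)).obj F).homology p), 0 < c ∧ (∀ n : ℕ, c ≤ n → φ n ≫ Dual3.idealMulι (I ^ (n - c)) (F.homology p) = HomologicalComplex.homologyMap (Dual3.deligneι I n F) p) ∧ (∀ n : ℕ, c ≤ n → ψ n ≫ HomologicalComplex.homologyMap (Dual3.deligneι I (n - c) F) p = Dual3.idealMulι (I ^ n) (F.homology p)) ∧ (∀ n : ℕ, 2 * c ≤ n → (ψ n ≫ φ (n - c)) ≫ Dual3.idealMulι (I ^ (n - c - c)) (F.homology p) = Dual3.idealMulι (I ^ n) (F.homology p)) ∧ ∀ (n : ℕ), 2 * c ≤ n → ∀ t : (Dual3.deligne I n).obj F ⟶ (Dual3.deligne I (n - c - c)).obj F, t ≫ Dual3.deligneι I (n - c - c) F = Dual3.deligneι I n F → φ n ≫ ψ (n - c) = HomologicalComplex.homologyMap t p := by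
  classical
  obtain ⟨c, hc, h⟩ := Deligne7.exists_pro_maps I hFc p
  choose ha u l hu hl using h
  choose a ha using ha
  let ψ : ∀ n : ℕ, (Dual3.idealMul (I ^ n)).obj (F.homology p) ⟶ ((Dual3.deligne I (n - c)).obj F).homology p :=
    fun n => if hn : c ≤ n then l n hn else 0
  have hφ : ∀ (n : ℕ) (hn : c ≤ n), ∃ φ : ((Dual3.deligne I n).obj F).homology p ⟶ (Dual3.idealMul (I ^ (n - c))).obj (F.homology p),
      φ ≫ Dual3.idealMulι (I ^ (n - c)) (F.homology p) = HomologicalComplex.homologyMap (Dual3.deligneι I n F) p ∧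
      ((Dual3.deligne I n).obj F).homologyπ p ≫ φ = a n hn ≫ (Dual3.idealMul (I ^ (n - c))).map (F.homologyπ p) := by
    intro n hn
    have h1 : ((Dual3.deligne I n).obj F).homologyπ p ≫ HomologicalComplex.homologyMap (Dual3.deligneι I n F) p =
        (a n hn ≫ (Dual3.idealMul (I ^ (n - c))).map (F.homologyπ p)) ≫ Dual3.idealMulι (I ^ (n - c)) (F.homology p) := by
      rw [HomologicalComplex.homologyπ_naturality, Category.assoc, Dual3.idealMul_map_ι, ← Category.assoc, ha n hn]
    have h2 : HomologicalComplex.homologyMap (Dual3.deligneι I n F) p ≫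
        cokernel.π (Dual3.idealMulι (I ^ (n - c)) (F.homology p)) = 0 := by
      rw [← cancel_epi (((Dual3.deligne I n).obj F).homologyπ p), ← Category.assoc, h1, Category.assoc,
        cokernel.condition, comp_zero, comp_zero]
    refine ⟨Abelian.monoLift _ _ h2, Abelian.monoLift_comp _ _ _, ?_⟩
    rw [← cancel_mono (Dual3.idealMulι (I ^ (n - c)) (F.homology p)), Category.assoc, Abelian.monoLift_comp, h1]
  choose φ hφι hφπ using hφ
  have hψι : ∀ n : ℕ, c ≤ n → ψ n ≫ HomologicalComplex.homologyMap (Dual3.deligneι I (n - c) F) p =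
      Dual3.idealMulι (I ^ n) (F.homology p) := by
    intro n hn
    haveI := Deligne7.epi_idealMul_map (Deligne7.isCoh_cycles hFc p).1 (Deligne7.isQCoh_homology hFc p)
      (F.homologyπ p) (I ^ n)
    simp only [ψ, dif_pos hn]
    rw [← cancel_epi ((Dual3.idealMul (I ^ n)).map (F.homologyπ p)), reassoc_of% hl n hn,
      HomologicalComplex.homologyπ_naturality, Deligne7.idealCycles_cyclesMap_assoc, reassoc_of% hu n hn,
      Dual3.idealMul_map_ι]
  refine ⟨c, fun n => if hn : c ≤ n then φ n hn else 0, ψ, hc, fun n hn => ?_, hψι, fun n hn => ?_, fun n hn t ht => ?_⟩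
  · simp only [dif_pos hn, hφι]
  · simp only [dif_pos (show c ≤ n - c by omega), Category.assoc, hφι]
    exact hψι n (by omega)
  · simp only [ψ, dif_pos (show c ≤ n by omega), dif_pos (show c ≤ n - c by omega)]
    rw [← cancel_epi (((Dual3.deligne I n).obj F).homologyπ p), HomologicalComplex.homologyπ_naturality,
      reassoc_of% hφπ n (by omega), hl]
    haveI := Deligne7.mono_cyclesMap_ι I p (F := F) (n - c - c)
    rw [← Category.assoc, ← Category.assoc]
    refine congrArg (fun z => z ≫ _) ?_
    rw [← cancel_mono (HomologicalComplex.cyclesMap (Dual3.deligneι I (n - c - c) F) p), Category.assoc,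
      Category.assoc, Deligne7.idealCycles_cyclesMap, hu, ha, ← HomologicalComplex.cyclesMap_comp, ht]

end Groth.Agent.S3668
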