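import Groth.Statements.S3675
import Groth.Agent.PerfGen7.DualSchCM

set_option autoImplicit false
universe u
open CategoryTheory CategoryTheory.Limits AlgebraicGeometry
attribute [local instance] HasDerivedCategory.standard
open Dual3

namespace Groth.Agent.S3675

/-- Let X be a locally Noetherian scheme (exactness instances as in the definition of dualizing
complexes) and ω a coherent O_X-module such that ω[0] is a dualizing complex on X. Then X is
Cohen–Macaulay: every local ring O_{X,x} is a Cohen–Macaulay local ring. -/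
theorem result (X : Scheme.{u}) [IsLocallyNoetherian X] [∀ (U V : Scheme.{u}) (j : U ⟶ V) [IsOpenImmersion j], PreservesFiniteLimits (Scheme.Modules.restrictFunctor j)] [∀ (R : CommRingCat.{u}), PreservesFiniteLimits (tilde.functor R)] (ω : X.Modules) (hω : Coh.IsCoh ω) (hD : Dual2.IsDualizingSch X (DCoh.inD X ω)) (x : X) : LocCoh.IsCohenMacaulayLocalRing (X.presheaf.stalk x) := by
  obtain ⟨R, _, j, _, ωA, hωA, ⟨p, rfl⟩, h⟩ := Groth.Agent.PerfGen7.DualSchCM.exists_chart_data hD x
  obtain ⟨hcm, -⟩ := Groth.Agent.PerfGen7.DualSchCM.ring_criterion hωA p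
  refine (h p).1.2 (hcm.2 fun i k hi hk => ?_)
  have key : ∀ i : ℤ, Nontrivial ((DCoh.HD (DCoh.inD X ω) i).presheaf.stalk (j.base p)) → i = 0 := by
    intro i hi
    by_contra hne
    have hz : Limits.IsZero (DCoh.HD (DCoh.inD X ω) i) := by
      rcases lt_or_gt_of_ne hne with h' | h'
      · exact DerivedCategory.isZero_of_isGE _ 0 i h'
      · exact DerivedCategory.isZero_of_isLE _ 0 i h'
    have hs := ModuleCat.subsingleton_of_isZero ((DerSch.stalkFunctor X (j.base p)).map_isZero hz)
    exact not_nontrivial_iff_subsingleton.2 hs hi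
  exact (key i (((h p).2 i).2 hi)).trans (key k (((h p).2 k).2 hk)).symm

end Groth.Agent.S3675
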