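import Groth.Statements.S3829
import Groth.Agent.CartierFP.SmoothNhdSeq

set_option autoImplicit false
universe u
open CategoryTheory CategoryTheory.Limits AlgebraicGeometry TopologicalSpace
open Unram17

namespace Groth.Agent.S3829

/-- c) implies a) (case of a closed immersion): let f : X → S and h : Y → S be locally of finite
presentation, j : Y → X a closed immersion over S and y a point of Y. If h is smooth on a
neighbourhood of y and, on some affine open neighbourhood of j(y) in X, the ideal of j is generated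
by a regular sequence (j is a regular immersion near y), then f is smooth on an open neighbourhood
of j(y). -/
theorem result {X Y S : Scheme.{u}} (f : X ⟶ S) (h : Y ⟶ S)
    [LocallyOfFinitePresentation f] [LocallyOfFinitePresentation h] (j : Y ⟶ X) [IsClosedImmersion j]
    (hj : j ≫ f = h) (y : ↥Y) (hy : ∃ V : Y.Opens, y ∈ V ∧ Smooth (V.ι ≫ h))
    (hreg : ∃ (U : X.Opens) (hU : IsAffineOpen U), j y ∈ U ∧
      ∃ rs : List Γ(X, U), RingTheory.Sequence.IsRegular Γ(X, U) rs ∧ j.ker.ideal ⟨U, hU⟩ = Ideal.ofList rs) :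
    ∃ U : X.Opens, j y ∈ U ∧ Smooth (U.ι ≫ f) := by
  obtain ⟨U, hU, hyU, rs, hrs, hker⟩ := hreg
  obtain ⟨V, hyV, hs⟩ := hy
  haveI := hs
  obtain ⟨U₀, hxU₀⟩ := Groth.Agent.FlatX.exists_chart f (j y)
  obtain ⟨g, hgU₀, hyg⟩ := hU.exists_basicOpen_le ⟨j y, hxU₀⟩ hyU
  let W : X.affineOpens := X.affineBasicOpen (U := ⟨U, hU⟩) g
  have hWU : W.1 ≤ U := X.basicOpen_le g
  let φ := X.presheaf.map (homOfLE hWU).op
  letI := φ.hom.toAlgebra
  haveI : IsLocalization.Away g Γ(X, W.1) := hU.isLocalization_basicOpen g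
  haveI : Module.Flat Γ(X, U) Γ(X, W.1) := IsLocalization.flat _ (Submonoid.powers g)
  have hreg' : RingTheory.Sequence.IsWeaklyRegular Γ(X, W.1) (rs.map φ.hom) :=
    RingTheory.Sequence.IsWeaklyRegular.of_flat (S := Γ(X, W.1)) hrs.toIsWeaklyRegular
  have hI : j.ker.ideal W = Ideal.ofList (rs.map φ.hom) := by
    rw [← Scheme.IdealSheafData.map_ideal_basicOpen j.ker ⟨U, hU⟩ g, hker, Ideal.map_ofList]
    rfl
  haveI : IsIso j.toImage := inferInstance
  have hd : j.imageι (j.toImage y) = j y := by rw [← Scheme.Hom.comp_apply, j.toImage_imageι]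
  let V' : j.ker.subscheme.Opens := (inv j.toImage) ⁻¹ᵁ V
  have hyV' : j.toImage y ∈ V' := by
    show (inv j.toImage) (j.toImage y) ∈ V
    rw [← Scheme.Hom.comp_apply, IsIso.hom_inv_id]
    exact hyV
  haveI : Smooth (V'.ι ≫ j.ker.subschemeι ≫ f) := by
    have e1 : j.ker.subschemeι ≫ f = inv j.toImage ≫ h := by
      rw [eq_comm, IsIso.inv_comp_eq, ← hj, ← Category.assoc]
      exact (congrArg (· ≫ f) j.toImage_imageι).symm
    rw [e1, ← morphismRestrict_ι_assoc]
    infer_instance
  obtain ⟨O, hO, hsm⟩ := Groth.Agent.CartierFP.exists_smooth_nhd_seq f (j.toImage y) U₀ W hgU₀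
    (by show j.imageι (j.toImage y) ∈ W.1; rw [hd]; exact hyg) _ hreg' hI V' hyV'
  exact ⟨O, hd ▸ hO, hsm⟩

end Groth.Agent.S3829
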