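import Groth.Statements.S3700
import Groth.Agent.RGLib.SmoothRegIdeal
import Groth.Agent.RegNear.Basic
import Groth.Agent.S3829

set_option autoImplicit false
universe u
open SGA1

namespace Groth.Agent.S3700
set_option backward.isDefEq.respectTransparency false
set_option backward.isDefEq.respectTransparency.types false
set_option maxHeartbeats 800000

theorem isSmoothAt_of_algEquiv {R C C' : Type u} [CommRing R] [CommRing C] [CommRing C'] [Algebra R C] [Algebra R C']
    (e : C ≃ₐ[R] C') (P : Ideal C') [P.IsPrime] [Algebra.IsSmoothAt R P] :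
    Algebra.IsSmoothAt R (P.comap (e : C →+* C')) := by
  let Q := P.comap (e : C →+* C')
  have hM : Submonoid.map (e : C →* C') Q.primeCompl = P.primeCompl := by
    ext z
    constructor
    · rintro ⟨a, ha, rfl⟩; exact ha
    · intro hz
      refine ⟨e.symm z, ?_, e.apply_symm_apply z⟩
      show ¬ e (e.symm z) ∈ P
      rw [e.apply_symm_apply]; exact hz
  haveI : Algebra.FormallySmooth R (Localization.AtPrime P) := ‹Algebra.IsSmoothAt R P›
  exact Algebra.FormallySmooth.of_equiv
    (IsLocalization.algEquivOfAlgEquiv (Localization.AtPrime Q) (Localization.AtPrime P) e hM).symm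

open CategoryTheory AlgebraicGeometry in
theorem isRegularIdeal_ker {X Y S : Scheme.{u}} (f : X ⟶ S) (i : Y ⟶ X) [IsClosedImmersion i]
    [IsLocallyNoetherian X] [LocallyOfFinitePresentation f] [LocallyOfFinitePresentation (i ≫ f)]
    (x : Y) (hX : i x ∈ f.smoothLocus) (hY : x ∈ (i ≫ f).smoothLocus) :
    CInt.IsRegularIdeal (RingHom.ker (i.stalkMap x).hom) := by
  obtain ⟨U, hU, hyU, -⟩ := exists_isAffineOpen_mem_and_subset (U := ⊤) (x := f (i x)) trivial
  obtain ⟨W, hW, hyW, e⟩ := exists_isAffineOpen_mem_and_subset (U := f ⁻¹ᵁ U) (x := i x) hyU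
  have e : W ≤ f ⁻¹ᵁ U := e
  have hW' : IsAffineOpen (i ⁻¹ᵁ W) := hW.preimage i
  have e' : i ⁻¹ᵁ W ≤ (i ≫ f) ⁻¹ᵁ U := fun z hz => e hz
  let R := Γ(S, U)
  let B := Γ(X, W)
  let C := Γ(Y, i ⁻¹ᵁ W)
  have hX' := (formallySmooth_stalkMap_iff (f := f) U hU W hW e hyW).1 hX
  have hY' := (formallySmooth_stalkMap_iff (f := i ≫ f) U hU (i ⁻¹ᵁ W) hW' e' (show x ∈ i ⁻¹ᵁ W from hyW)).1 hY
  letI : Algebra R B := (f.appLE U W e).hom.toAlgebra
  letI : Algebra R C := ((i ≫ f).appLE U (i ⁻¹ᵁ W) e').hom.toAlgebra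
  let φ : B →+* C := (i.appLE W (i ⁻¹ᵁ W) le_rfl).hom
  have hφ : ∀ r, φ (algebraMap R B r) = algebraMap R C r := fun r => by
    show (f.appLE U W e ≫ i.appLE W (i ⁻¹ᵁ W) le_rfl).hom r = ((i ≫ f).appLE U (i ⁻¹ᵁ W) e').hom r
    rw [Scheme.Hom.appLE_comp_appLE]
  let ψ : B →ₐ[R] C := { φ with commutes' := hφ }
  have happ : i.appLE W (i ⁻¹ᵁ W) le_rfl = i.app W := (Scheme.Hom.app_eq_appLE i).symm
  have hs : Function.Surjective ψ := fun c => by
    obtain ⟨b, hb⟩ := i.app_surjective W hW c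
    exact ⟨b, by show (i.appLE W (i ⁻¹ᵁ W) le_rfl).hom b = c; rw [happ]; exact hb⟩
  haveI : Algebra.FinitePresentation R B := f.finitePresentation_appLE hU hW e
  haveI : IsNoetherianRing B := IsLocallyNoetherian.component_noetherian ⟨W, hW⟩
  let q := (hW.primeIdealOf ⟨i x, hyW⟩).asIdeal
  let P := (hW'.primeIdealOf ⟨x, hyW⟩).asIdeal
  haveI : Algebra.IsSmoothAt R q := hX'
  haveI : Algebra.IsSmoothAt R P := hY'
  let J := RingHom.ker ψ
  let eJ : (B ⧸ J) ≃ₐ[R] C := Ideal.quotientKerAlgEquivOfSurjective hs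
  let Q := P.comap (eJ : B ⧸ J →+* C)
  haveI : Algebra.IsSmoothAt R Q := isSmoothAt_of_algEquiv eJ P
  have hPq : P.comap φ = q :=
    congrArg PrimeSpectrum.asIdeal (IsAffineOpen.comap_primeIdealOf_appLE (f := i) W hW (i ⁻¹ᵁ W) hW' le_rfl
      (show x ∈ i ⁻¹ᵁ W from hyW))
  have hQ : Q.comap (Ideal.Quotient.mk J) = q := by
    rw [← hPq]
    rfl
  have hJq : J ≤ q := fun b hb => by
    rw [← hPq]
    show φ b ∈ P
    rw [show φ b = 0 from hb]
    exact zero_mem _
  obtain ⟨rs, hrs, hrsJ⟩ := Groth.Agent.RGLib.SmoothRegIdeal.isRegularIdeal_of_isSmoothAt (A := R) J q hJq Q hQ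
  letI : Algebra B (X.presheaf.stalk (i x)) := (X.presheaf.germ W (i x) hyW).hom.toAlgebra
  haveI : IsLocalization.AtPrime (X.presheaf.stalk (i x)) q := hW.isLocalization_stalk ⟨i x, hyW⟩
  let ε : Localization.AtPrime q ≃ₐ[B] X.presheaf.stalk (i x) := IsLocalization.algEquiv q.primeCompl _ _
  refine ⟨rs.map ε, ?_, ?_⟩
  · exact (AddEquiv.isRegular_congr (e := ε.toRingEquiv.toAddEquiv) (as := rs) (bs := rs.map ε)
      (List.forall₂_map_right_iff.2 (List.forall₂_same.2 fun z _ w => map_mul ε z w))).1 hrs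
  · rw [Groth.Agent.RegNear.ker_stalkMap i x hW hyW, show rs.map ε = rs.map ε.toRingEquiv.toRingHom from rfl,
      ← Ideal.map_ofList, hrsJ, Ideal.map_map]
    have hJ : J = RingHom.ker (i.app W).hom := by
      show RingHom.ker φ = _
      simp only [φ, happ]
    rw [hJ]
    congr 1
    exact RingHom.ext fun b => ε.commutes b


open AlgebraicGeometry CategoryTheory CategoryTheory.Limits in
/-- Let S be locally Noetherian, f : X -> S locally of finite type, Y the closed subscheme of X defined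
by a quasi-coherent ideal, and x a point of Y at which Y is smooth over S. Then X is smooth over S
at x if and only if the closed immersion of Y in X is regular at x, that is, the kernel of O_{X,x}
-> O_{Y,x} is generated by a regular sequence. (Smoothness at a point is membership in Mathlib's
smooth locus, the set of points where the map of local rings is formally smooth.) -/
theorem result {X S : Scheme.{u}} [IsLocallyNoetherian S] (f : X ⟶ S)
    [LocallyOfFiniteType f] [LocallyOfFinitePresentation f] (I : X.IdealSheafData)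
    [LocallyOfFinitePresentation (I.subschemeι ≫ f)] (x : ↥I.subscheme) (hY : x ∈ (I.subschemeι ≫ f).smoothLocus) :
    I.subschemeι.base x ∈ f.smoothLocus ↔ CInt.IsRegularIdeal (RingHom.ker (I.subschemeι.stalkMap x).hom) := by
  haveI : IsLocallyNoetherian X := LocallyOfFiniteType.isLocallyNoetherian f
  constructor
  · intro hX
    exact Groth.Agent.S3700.isRegularIdeal_ker f I.subschemeι x hX hY
  · rintro ⟨rs, hrs, hker⟩
    obtain ⟨V, hxV, -, hreg⟩ := (Groth.Agent.RegNear.regular_near_iff I.subschemeι x).2 ⟨rs, hrs, hker.symm⟩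
    let W := I.subschemeι ⁻¹ᵁ V
    let g := I.subschemeι ≫ f
    let x' : W.toScheme := ⟨x, hxV⟩
    let O := (W.ι ≫ g).smoothLocus
    haveI : Smooth (O.ι ≫ W.ι ≫ g) := by
      rw [← Scheme.Hom.smoothLocus_eq_top_iff, ← Scheme.Hom.preimage_smoothLocus_eq]
      exact Scheme.Opens.ι_preimage_self _
    have hO : x' ∈ O := by
      show x' ∈ (W.ι ≫ g).smoothLocus
      rw [← Scheme.Hom.preimage_smoothLocus_eq]
      exact hY
    obtain ⟨U, hyU, hU⟩ := Groth.Agent.S3829.result (V.ι ≫ f) (W.ι ≫ g) (I.subschemeι ∣_ V)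
      (by rw [← Category.assoc, morphismRestrict_ι, Category.assoc]) x' ⟨O, hO, inferInstance⟩ (hreg x')
    have h1 : (I.subschemeι ∣_ V) x' ∈ (V.ι ≫ f).smoothLocus := by
      have h2 : (⟨_, hyU⟩ : U.toScheme) ∈ U.ι ⁻¹ᵁ (V.ι ≫ f).smoothLocus := by
        rw [Scheme.Hom.preimage_smoothLocus_eq, Scheme.Hom.smoothLocus_eq_top]; trivial
      exact h2
    rw [← Scheme.Hom.preimage_smoothLocus_eq] at h1
    have h3 : V.ι ((I.subschemeι ∣_ V) x') = I.subschemeι x :=
      congrArg (fun t : W.toScheme ⟶ X => t x') (morphismRestrict_ι I.subschemeι V)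
    exact h3 ▸ h1

end Groth.Agent.S3700
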