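import Groth.Statements.S3710
import Groth.Agent.RGLib.SNCChart

set_option autoImplicit false
open CategoryTheory CategoryTheory.Limits AlgebraicGeometry
universe u
open SGA1t

namespace Groth.Agent.S3710

theorem formallySmooth_localRingHom {C K : Type u} [CommRing C] [CommRing K] [Algebra C K] [Algebra.FormallySmooth C K]
    (p : Ideal C) [p.IsPrime] {q : Ideal K} {hq : q.IsPrime} (h : p = q.comap (algebraMap C K)) :
    (Localization.localRingHom p q (algebraMap C K) h).FormallySmooth := by
  letI : Algebra (Localization.AtPrime p) (Localization.AtPrime q) :=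
    (Localization.localRingHom p q (algebraMap C K) h).toAlgebra
  haveI : IsScalarTower C (Localization.AtPrime p) (Localization.AtPrime q) :=
    .of_algebraMap_eq fun c => by
      show _ = Localization.localRingHom p q (algebraMap C K) h (algebraMap C _ c)
      rw [Localization.localRingHom_to_map]
      exact IsScalarTower.algebraMap_apply C K _ c
  haveI : Algebra.FormallyEtale K (Localization.AtPrime q) := Algebra.FormallyEtale.of_isLocalization q.primeCompl
  haveI : Algebra.FormallySmooth C (Localization.AtPrime q) := Algebra.FormallySmooth.comp C K _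
  exact RingHom.formallySmooth_algebraMap.2 (Algebra.FormallySmooth.localization_base (R := C) p.primeCompl)

/-- Let f : X -> S and φ_1, ..., φ_r cut out a strict normal crossings divisor relative to S, x a point
where some φ_i vanishes, A = O_{X,x}, and n_i ≥ 1 integers for the indices i with φ_i(x) = 0 (no
condition on the residue characteristic). Then the Kummer scheme X' = Spec A[T_i]/(T_i^{n_i} - φ_i)
is smooth over S at its point x' over x: the homomorphism from the local ring of S at the image
point to the local ring of X' at x' is formally smooth. -/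
theorem result {X S : Scheme.{u}} (f : X ⟶ S) {r : ℕ} (φ : Fin r → Γ(X, ⊤))
    (hD : SGA1t.IsRelSNC f φ) (x : X) (hx : Nonempty (SGA1t.vanishingAt φ x))
    (n : SGA1t.vanishingAt φ x → ℕ) (hn1 : ∀ i, 1 ≤ n i) :
    letI A := X.presheaf.stalk x
    letI a : SGA1t.vanishingAt φ x → A := fun i => (X.presheaf.germ ⊤ x trivial).hom (φ i.1)
    letI π : Spec (CommRingCat.of (SGA1t.kummer A a n)) ⟶ Spec (CommRingCat.of A) :=
      Spec.map (CommRingCat.ofHom (algebraMap A (SGA1t.kummer A a n)))
    ∀ x' : Spec (CommRingCat.of (SGA1t.kummer A a n)), π.base x' = IsLocalRing.closedPoint A →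
      ((π ≫ X.fromSpecStalk x ≫ f).stalkMap x').hom.FormallySmooth := by
  intro x' hx'
  obtain ⟨C, γ, hγ, d, e, ψ, he, hψ, hfac, hψX⟩ := Groth.Agent.RGLib.SNCChart.exists_chart f φ hD x hx
  letI : Algebra (MvPolynomial (ULift.{u} (Fin d)) C) (X.presheaf.stalk x) := ψ.toAlgebra
  letI : Algebra C (X.presheaf.stalk x) := (ψ.comp MvPolynomial.C).toAlgebra
  haveI : IsScalarTower C (MvPolynomial (ULift.{u} (Fin d)) C) (X.presheaf.stalk x) := .of_algebraMap_eq fun _ => rfl
  haveI : Algebra.FormallyEtale (MvPolynomial (ULift.{u} (Fin d)) C) (X.presheaf.stalk x) := hψ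
  let a : SGA1t.vanishingAt φ x → X.presheaf.stalk x := fun i => (X.presheaf.germ ⊤ x trivial).hom (φ i.1)
  haveI := Groth.Agent.RGLib.SNCChart.formallySmooth_kummer (C := C) (A := X.presheaf.stalk x)
    (fun i => ULift.up (e i)) (ULift.up_injective.comp he) a hψX n
  let K := SGA1t.kummer (X.presheaf.stalk x) a n
  let χ : C ⟶ CommRingCat.of K := CommRingCat.ofHom (algebraMap C K)
  have hcomp : Spec.map (CommRingCat.ofHom (algebraMap (X.presheaf.stalk x) K)) ≫ X.fromSpecStalk x ≫ f =
      Spec.map χ ≫ γ := by
    rw [← hfac, ← Category.assoc, ← Spec.map_comp]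
    rfl
  have h0 : ∀ y : Spec (CommRingCat.of K), ((Spec.map χ ≫ γ).stalkMap y).hom.FormallySmooth := fun y => by
    rw [Scheme.Hom.stalkMap_comp]
    show ((((Spec.map χ).stalkMap y).hom).comp (γ.stalkMap _).hom).FormallySmooth
    refine RingHom.FormallySmooth.stableUnderComposition _ _ ?_ ?_
    · exact RingHom.FormallySmooth.of_bijective (ConcreteCategory.bijective_of_isIso _)
    · rw [(RingHom.FormallySmooth.respectsIso).arrow_mk_iso_iff (Scheme.arrowStalkMapSpecIso χ y)]
      exact formallySmooth_localRingHom (C := C) (K := K) (PrimeSpectrum.comap χ.hom y).asIdeal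
        (q := y.asIdeal) (hq := y.isPrime) rfl
  have key := h0 x'
  rw [← hcomp] at key
  exact key

end Groth.Agent.S3710
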