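import Groth.Statements.S3720
import Groth.Agent.RGLib.KummerLocal

set_option autoImplicit false
open CategoryTheory CategoryTheory.Limits AlgebraicGeometry
universe u
set_option maxHeartbeats 800000
open SGA1t

namespace Groth.Agent.S3720

/-- Kummer theory over a local ring: let A be a local ring, n ≥ 1 an integer invertible in A, and
suppose A contains a primitive n-th root of unity (so that the group μ_n(A) of n-th roots of unity
in A is cyclic of order n). Then every principal μ_n(A)-cover P of Spec A is isomorphic over Spec A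
to a Kummer cover Spec A[T]/(Tⁿ − a) for some unit a of A, compatibly with the actions: the given
action of a root of unity ζ on P corresponds to the automorphism of A[T]/(Tⁿ − a) induced by T ↦ ζT. -/
theorem result (A : Type u) [CommRing A] [IsLocalRing A] (n : ℕ) (hn1 : 1 ≤ n)
    (hn : IsUnit ((n : ℕ) : A)) (ζ₀ : A) (hζ₀ : IsPrimitiveRoot ζ₀ n)
    (P : FEt.Cat (Spec (CommRingCat.of A))) (ρ : ↥(rootsOfUnity n A) →* Aut P)
    (hP : SGA1t.IsPrincipal ↥(rootsOfUnity n A) P ρ) :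
    ∃ (a : Aˣ) (e : P.left ≅ Spec (CommRingCat.of (SGA1t.kummer A (fun _ : Unit => (a : A)) (fun _ => n)))),
      e.hom ≫ Spec.map (CommRingCat.ofHom (algebraMap A (SGA1t.kummer A (fun _ : Unit => (a : A)) (fun _ => n)))) = P.hom ∧
      ∀ ζ : ↥(rootsOfUnity n A), (ρ ζ).hom.left ≫ e.hom =
        e.hom ≫ Spec.map (CommRingCat.ofHom (SGA1t.kummerTwist A (fun _ : Unit => (a : A)) (fun _ => n) (fun _ => ζ))) := by
  let πP : P.left ⟶ Spec (CommRingCat.of A) := P.hom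
  haveI : IsFinite πP := P.prop.1
  haveI : Etale πP := P.prop.2
  haveI : IsAffine P.left := isAffine_of_isAffineHom πP
  let e : P.left ≅ Spec Γ(P.left, ⊤) := P.left.isoSpec
  obtain ⟨B, hBeq⟩ : ∃ B : CommRingCat.{u}, B = Γ(P.left, ⊤) := ⟨_, rfl⟩
  subst hBeq
  let f : CommRingCat.of A ⟶ Γ(P.left, ⊤) := Spec.preimage (e.inv ≫ πP)
  have hf : Spec.map f = e.inv ≫ πP := Spec.map_preimage _
  letI : Algebra A Γ(P.left, ⊤) := f.hom.toAlgebra
  haveI : Module.Finite A Γ(P.left, ⊤) := by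
    refine RingHom.finite_algebraMap.1 ?_
    rw [RingHom.algebraMap_toAlgebra, ← IsFinite.SpecMap_iff, hf]
    infer_instance
  haveI : Algebra.Etale A Γ(P.left, ⊤) := by
    refine RingHom.etale_algebraMap.1 ?_
    rw [RingHom.algebraMap_toAlgebra, ← HasRingHomProperty.Spec_iff (P := @Etale), hf]
    infer_instance
  haveI : Nontrivial Γ(P.left, ⊤) := by
    obtain ⟨x, -⟩ := hP.1 (IsLocalRing.closedPoint A)
    exact PrimeSpectrum.nontrivial (R := Γ(P.left, ⊤)) (e.hom x)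
  -- the action on the algebra
  let s : ↥(rootsOfUnity n A) → (Γ(P.left, ⊤) ⟶ Γ(P.left, ⊤)) := fun g =>
    Spec.preimage (e.inv ≫ (ρ g).hom.left ≫ e.hom)
  have hs : ∀ g, Spec.map (s g) = e.inv ≫ (ρ g).hom.left ≫ e.hom := fun g => Spec.map_preimage _
  have hw : ∀ g, (ρ g).hom.left ≫ πP = πP := fun g => CategoryTheory.Over.w (ρ g).hom.hom
  have hsf : ∀ g, f ≫ s g = f := fun g => Spec.map_injective (by
    rw [Spec.map_comp, hs, hf]
    simp only [Category.assoc, Iso.hom_inv_id_assoc, hw])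
  have hs1 : s 1 = 𝟙 _ := Spec.map_injective (by
    rw [hs, map_one, Spec.map_id]
    show e.inv ≫ 𝟙 P.left ≫ e.hom = _
    rw [Category.id_comp, Iso.inv_hom_id])
  have hsmul : ∀ g g', s (g * g') = s g ≫ s g' := fun g g' => Spec.map_injective (by
    rw [hs, map_mul, Spec.map_comp, hs, hs]
    simp only [Category.assoc, Iso.hom_inv_id_assoc]
    rfl)
  obtain ⟨u₀, hu₀⟩ := hζ₀.isUnit (by omega)
  let g₀ : ↥(rootsOfUnity n A) := ⟨u₀, (mem_rootsOfUnity n u₀).2 (Units.ext (by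
    rw [Units.val_pow_eq_pow_val, hu₀, Units.val_one]; exact hζ₀.pow_eq_one))⟩
  let σ : Γ(P.left, ⊤) →ₐ[A] Γ(P.left, ⊤) := { (s g₀).hom with
    commutes' := fun c => DFunLike.congr_fun (congrArg CommRingCat.Hom.hom (hsf g₀)) c }
  have hσi : ∀ (i : ℕ) x, σ^[i] x = (s (g₀ ^ i)).hom x := fun i => by
    induction i with
    | zero => intro x; rw [pow_zero, hs1]; rfl
    | succ i ih => intro x; rw [Function.iterate_succ', Function.comp_apply, ih, pow_succ, hsmul]; rfl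
  have hg₀n : g₀ ^ n = 1 := Subtype.ext ((mem_rootsOfUnity n u₀).1 g₀.2)
  have hgpow : ∀ g : ↥(rootsOfUnity n A), ∃ i < n, g₀ ^ i = g := fun g => by
    obtain ⟨i, hi, h⟩ := Groth.Agent.RGLib.KummerLocal.exists_eq_pow hn1 hn hζ₀
      (show ((g : Aˣ) : A) ^ n = 1 by rw [← Units.val_pow_eq_pow_val, (mem_rootsOfUnity n _).1 g.2, Units.val_one])
    refine ⟨i, hi, Subtype.ext (Units.ext ?_)⟩
    show ((u₀ ^ i : Aˣ) : A) = _
    rw [Units.val_pow_eq_pow_val, hu₀, h]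
  let Ω := AlgebraicClosure (IsLocalRing.ResidueField A)
  let ξ : Spec (CommRingCat.of Ω) ⟶ Spec (CommRingCat.of A) := Spec.map (CommRingCat.ofHom (algebraMap A Ω))
  let pt : (Γ(P.left, ⊤) →ₐ[A] Ω) → FEt.fiberObj ξ P := fun φ =>
    ⟨Spec.map (CommRingCat.ofHom φ.toRingHom) ≫ e.inv, by
      rw [Category.assoc, ← hf, ← Spec.map_comp]
      congr 1
      ext c
      exact φ.commutes c⟩
  have hact : ∀ (φ : Γ(P.left, ⊤) →ₐ[A] Ω) (i : ℕ) (t : FEt.fiberObj ξ P),
      (FEt.fiber ξ).map (ρ (g₀ ^ i)).hom (pt φ) = t ↔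
        Spec.map (s (g₀ ^ i) ≫ CommRingCat.ofHom φ.toRingHom) ≫ e.inv = t.1 := fun φ i t => by
    refine Subtype.ext_iff.trans ?_
    show (Spec.map (CommRingCat.ofHom φ.toRingHom) ≫ e.inv) ≫ (ρ (g₀ ^ i)).hom.left = _ ↔ _
    rw [Spec.map_comp, hs]
    simp only [Category.assoc, Iso.hom_inv_id, Category.comp_id]
  have hsurj : ∀ φ ψ : Γ(P.left, ⊤) →ₐ[A] Ω, ∃ i < n, ∀ x, φ (σ^[i] x) = ψ x := fun φ ψ => by
    obtain ⟨g, hg, -⟩ := hP.2 Ω ξ (pt φ) (pt ψ)
    obtain ⟨i, hi, rfl⟩ := hgpow g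
    refine ⟨i, hi, fun x => ?_⟩
    have h := Spec.map_injective ((cancel_mono e.inv).1 ((hact φ i _).1 hg))
    rw [hσi]
    exact DFunLike.congr_fun (congrArg CommRingCat.Hom.hom h) x
  have hfree : ∀ φ : Γ(P.left, ⊤) →ₐ[A] Ω, ∀ i < n, ∀ j < n,
      (∀ x, φ (σ^[i] x) = φ (σ^[j] x)) → i = j := fun φ i hi j hj h => by
    have h2 : s (g₀ ^ i) ≫ CommRingCat.ofHom φ.toRingHom = s (g₀ ^ j) ≫ CommRingCat.ofHom φ.toRingHom := by
      ext x
      show φ ((s (g₀ ^ i)).hom x) = φ ((s (g₀ ^ j)).hom x)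
      rw [← hσi, ← hσi, h]
    have h3 := (hP.2 Ω ξ (pt φ) ((FEt.fiber ξ).map (ρ (g₀ ^ i)).hom (pt φ))).unique rfl
      ((hact φ j ((FEt.fiber ξ).map (ρ (g₀ ^ i)).hom (pt φ))).2
        ((congrArg (fun q => Spec.map q ≫ e.inv) h2.symm).trans ((hact φ i _).1 rfl)))
    refine hζ₀.pow_inj hi hj ?_
    have h4 := congrArg (fun g : ↥(rootsOfUnity n A) => ((g : Aˣ) : A)) h3
    simpa [g₀, hu₀] using h4
  obtain ⟨a, Φ, hΦ⟩ := Groth.Agent.RGLib.KummerLocal.exists_kummer hn1 hn hζ₀ Γ(P.left, ⊤) σ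
    (fun x => by rw [hσi, hg₀n, hs1]; rfl) hsurj hfree
  let eΦ : Spec Γ(P.left, ⊤) ≅ Spec (CommRingCat.of (SGA1t.kummer A (fun _ : Unit => (a : A)) (fun _ => n))) :=
    Scheme.Spec.mapIso Φ.toRingEquiv.toCommRingCatIso.op
  refine ⟨a, e ≪≫ eΦ, ?_, fun ζ => ?_⟩
  · show (e.hom ≫ Spec.map (CommRingCat.ofHom Φ.toAlgHom.toRingHom)) ≫ Spec.map _ = πP
    rw [Category.assoc, ← Spec.map_comp,
      show (CommRingCat.ofHom (algebraMap A _) ≫ CommRingCat.ofHom Φ.toAlgHom.toRingHom) = f from by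
        ext c; exact Φ.commutes c,
      hf, Iso.hom_inv_id_assoc]
  · obtain ⟨i, -, rfl⟩ := hgpow ζ
    show (ρ (g₀ ^ i)).hom.left ≫ e.hom ≫ Spec.map (CommRingCat.ofHom Φ.toAlgHom.toRingHom) =
      (e.hom ≫ Spec.map (CommRingCat.ofHom Φ.toAlgHom.toRingHom)) ≫ _
    rw [← cancel_epi e.inv, ← Category.assoc (ρ (g₀ ^ i)).hom.left, ← Category.assoc e.inv, ← hs, ← Spec.map_comp,
      Category.assoc, Iso.inv_hom_id_assoc, ← Spec.map_comp]
    congr 1
    refine CommRingCat.hom_ext ?_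
    let ζf : Unit → ↥(rootsOfUnity n A) := fun _ => g₀ ^ i
    let tw := SGA1t.kummerTwist A (fun _ : Unit => (a : A)) (fun _ => n) ζf
    refine Ideal.Quotient.ringHom_ext (MvPolynomial.ringHom_ext (fun c => ?_) fun j => ?_)
    · show (s (g₀ ^ i)).hom (Φ (algebraMap A _ c)) = Φ (tw (Ideal.Quotient.mk _ (MvPolynomial.C c)))
      rw [show tw (Ideal.Quotient.mk _ (MvPolynomial.C c)) = algebraMap A _ c from by
          simp [tw, SGA1t.kummerTwist, IsScalarTower.algebraMap_apply A (MvPolynomial Unit A)],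
        AlgEquiv.commutes]
      exact DFunLike.congr_fun (congrArg CommRingCat.Hom.hom (hsf _)) c
    · show (s (g₀ ^ i)).hom (Φ (Groth.Agent.RGLib.Kummer.T _ _ j)) = Φ (tw (Ideal.Quotient.mk _ (MvPolynomial.X j)))
      rw [show tw (Ideal.Quotient.mk _ (MvPolynomial.X j)) =
          (((g₀ ^ i : ↥(rootsOfUnity n A)) : Aˣ) : A) • Groth.Agent.RGLib.Kummer.T _ _ j from by
        simp only [tw, SGA1t.kummerTwist, Ideal.Quotient.lift_mk, RingHom.comp_apply, AlgHom.toRingHom_eq_coe,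
          RingHom.coe_coe, MvPolynomial.aeval_X, ← MvPolynomial.smul_eq_C_mul]
        rfl,
        map_smul, ← hσi]
      clear * - hΦ hu₀
      induction i with
      | zero => simp
      | succ i ih =>
        rw [Function.iterate_succ', Function.comp_apply, ih, map_smul, hΦ, smul_smul]
        congr 1
        rw [pow_succ]
        simp [g₀, hu₀]

end Groth.Agent.S3720
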