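import Groth.Statements.S3721
import Groth.Agent.RGLib.ASLocal

set_option autoImplicit false
open CategoryTheory CategoryTheory.Limits AlgebraicGeometry
universe u
set_option maxHeartbeats 800000
open SGA1t

namespace Groth.Agent.S3721

/-- Let p be a prime and A a commutative ring of characteristic p. Then every principal ℤ/p-cover P of
Spec A (a finite étale cover with an action of ℤ/p making it a torsor) is isomorphic over Spec A to
an Artin–Schreier cover Spec A[T]/(T^p − T − a) for some a ∈ A, compatibly with the actions: under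
the isomorphism the given action of j ∈ ℤ/p on P corresponds to the automorphism of the
Artin–Schreier cover induced by T ↦ T + j. The published statement is for any base S of
characteristic p on which Frobenius fixes no nonzero element of H¹(S, O_S); it is stated here for S
= Spec A affine. -/
theorem result (A : Type u) [CommRing A] (p : ℕ) [Fact p.Prime] [CharP A p]
    (P : FEt.Cat (Spec (CommRingCat.of A))) (ρ : Multiplicative (ZMod p) →* Aut P)
    (hP : SGA1t.IsPrincipal (Multiplicative (ZMod p)) P ρ) :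
    ∃ (a : A) (e : P.left ≅ Spec (CommRingCat.of (SGA1t.artinSchreier A p a))),
      e.hom ≫ Spec.map (CommRingCat.ofHom (algebraMap A (SGA1t.artinSchreier A p a))) = P.hom ∧
      ∀ j : ZMod p, (ρ (Multiplicative.ofAdd j)).hom.left ≫ e.hom =
        e.hom ≫ Spec.map (CommRingCat.ofHom (SGA1t.artinSchreierShift A p a j)) := by
  let πP : P.left ⟶ Spec (CommRingCat.of A) := P.hom
  haveI : IsFinite πP := P.prop.1
  haveI : Etale πP := P.prop.2
  haveI : IsAffine P.left := isAffine_of_isAffineHom πP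
  let e : P.left ≅ Spec Γ(P.left, ⊤) := P.left.isoSpec
  let f : CommRingCat.of A ⟶ Γ(P.left, ⊤) := Spec.preimage (e.inv ≫ πP)
  have hf : Spec.map f = e.inv ≫ πP := Spec.map_preimage _
  letI : Algebra A Γ(P.left, ⊤) := f.hom.toAlgebra
  haveI : Module.Finite A Γ(P.left, ⊤) := by
    refine RingHom.finite_algebraMap.1 ?_
    rw [RingHom.algebraMap_toAlgebra, ← IsFinite.SpecMap_iff, hf]
    infer_instance
  haveI : Algebra.Etale A Γ(P.left, ⊤) := by
    refine RingHom.etale_algebraMap.1 ?_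
    rw [RingHom.algebraMap_toAlgebra, ← HasRingHomProperty.Spec_iff (P := @Etale), hf]
    infer_instance
  have hinjA : Function.Injective (algebraMap A Γ(P.left, ⊤)) := by
    haveI : Flat (Spec.map f) := by rw [hf]; infer_instance
    haveI : Surjective (Spec.map f) := by
      rw [hf]
      haveI : Surjective πP := ⟨hP.1⟩
      infer_instance
    have h := (flat_and_surjective_SpecMap_iff f).1 ⟨inferInstance, inferInstance⟩
    rw [← RingHom.algebraMap_toAlgebra f.hom, RingHom.faithfullyFlat_algebraMap_iff] at h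
    exact FaithfulSMul.algebraMap_injective A Γ(P.left, ⊤)
  -- the action on the algebra
  let s : Multiplicative (ZMod p) → (Γ(P.left, ⊤) ⟶ Γ(P.left, ⊤)) := fun g =>
    Spec.preimage (e.inv ≫ (ρ g).hom.left ≫ e.hom)
  have hs : ∀ g, Spec.map (s g) = e.inv ≫ (ρ g).hom.left ≫ e.hom := fun g => Spec.map_preimage _
  have hw : ∀ g, (ρ g).hom.left ≫ πP = πP := fun g => CategoryTheory.Over.w (ρ g).hom.hom
  have hsf : ∀ g, f ≫ s g = f := fun g => Spec.map_injective (by
    rw [Spec.map_comp, hs, hf]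
    simp only [Category.assoc, Iso.hom_inv_id_assoc, hw])
  have hs1 : s 1 = 𝟙 _ := Spec.map_injective (by
    rw [hs, map_one, Spec.map_id]
    show e.inv ≫ 𝟙 P.left ≫ e.hom = _
    rw [Category.id_comp, Iso.inv_hom_id])
  have hsmul : ∀ g g', s (g * g') = s g ≫ s g' := fun g g' => Spec.map_injective (by
    rw [hs, map_mul, Spec.map_comp, hs, hs]
    simp only [Category.assoc, Iso.hom_inv_id_assoc]
    rfl)
  let g₀ : Multiplicative (ZMod p) := Multiplicative.ofAdd 1
  have hgi : ∀ i : ℕ, g₀ ^ i = Multiplicative.ofAdd (i : ZMod p) := fun i => by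
    rw [show g₀ = Multiplicative.ofAdd (1 : ZMod p) from rfl, ← ofAdd_nsmul, nsmul_one]
  let σ : Γ(P.left, ⊤) →ₐ[A] Γ(P.left, ⊤) := { (s g₀).hom with
    commutes' := fun c => DFunLike.congr_fun (congrArg CommRingCat.Hom.hom (hsf g₀)) c }
  have hσi : ∀ (i : ℕ) x, σ^[i] x = (s (g₀ ^ i)).hom x := fun i => by
    induction i with
    | zero => intro x; rw [pow_zero, hs1]; rfl
    | succ i ih => intro x; rw [Function.iterate_succ', Function.comp_apply, ih, pow_succ, hsmul]; rfl
  have hg₀p : g₀ ^ p = 1 := by rw [hgi, ZMod.natCast_self]; rfl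
  have hgpow : ∀ g : Multiplicative (ZMod p), ∃ i < p, g₀ ^ i = g := fun g =>
    ⟨(Multiplicative.toAdd g).val, ZMod.val_lt _, by rw [hgi, ZMod.natCast_zmod_val]; rfl⟩
  have hact : ∀ (Ω : Type u) [Field Ω] [IsAlgClosed Ω] [Algebra A Ω] (φ : Γ(P.left, ⊤) →ₐ[A] Ω)
      (hφ : (Spec.map (CommRingCat.ofHom φ.toRingHom) ≫ e.inv) ≫ πP = Spec.map (CommRingCat.ofHom (algebraMap A Ω)))
      (i : ℕ) (t : FEt.fiberObj (Spec.map (CommRingCat.ofHom (algebraMap A Ω))) P),
      (FEt.fiber _).map (ρ (g₀ ^ i)).hom ⟨Spec.map (CommRingCat.ofHom φ.toRingHom) ≫ e.inv, hφ⟩ = t ↔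
        Spec.map (s (g₀ ^ i) ≫ CommRingCat.ofHom φ.toRingHom) ≫ e.inv = t.1 := fun Ω _ _ _ φ hφ i t => by
    refine Subtype.ext_iff.trans ?_
    show (Spec.map (CommRingCat.ofHom φ.toRingHom) ≫ e.inv) ≫ (ρ (g₀ ^ i)).hom.left = _ ↔ _
    rw [Spec.map_comp, hs]
    simp only [Category.assoc, Iso.hom_inv_id, Category.comp_id]
  have hpt : ∀ (Ω : Type u) [Field Ω] [IsAlgClosed Ω] [Algebra A Ω] (φ : Γ(P.left, ⊤) →ₐ[A] Ω),
      (Spec.map (CommRingCat.ofHom φ.toRingHom) ≫ e.inv) ≫ πP = Spec.map (CommRingCat.ofHom (algebraMap A Ω)) :=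
    fun Ω _ _ _ φ => by
      rw [Category.assoc, ← hf, ← Spec.map_comp]
      congr 1
      ext c
      exact φ.commutes c
  obtain ⟨a, Φ, hΦ⟩ := Groth.Agent.RGLib.ASLocal.exists_artinSchreier p Γ(P.left, ⊤) hinjA σ
    (fun x => by rw [hσi, hg₀p, hs1]; rfl)
    (fun Ω _ _ _ φ ψ => by
      obtain ⟨g, hg, -⟩ := hP.2 Ω _ ⟨_, hpt Ω φ⟩ ⟨_, hpt Ω ψ⟩
      obtain ⟨i, hi, rfl⟩ := hgpow g
      refine ⟨i, hi, fun x => ?_⟩
      have h := Spec.map_injective ((cancel_mono e.inv).1 ((hact Ω φ (hpt Ω φ) i _).1 hg))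
      rw [hσi]
      exact DFunLike.congr_fun (congrArg CommRingCat.Hom.hom h) x)
    (fun Ω _ _ _ φ i hi j hj h => by
      have h2 : s (g₀ ^ i) ≫ CommRingCat.ofHom φ.toRingHom = s (g₀ ^ j) ≫ CommRingCat.ofHom φ.toRingHom := by
        ext x
        show φ ((s (g₀ ^ i)).hom x) = φ ((s (g₀ ^ j)).hom x)
        rw [← hσi, ← hσi, h]
      let t := (FEt.fiber (Spec.map (CommRingCat.ofHom (algebraMap A Ω)))).map (ρ (g₀ ^ i)).hom ⟨_, hpt Ω φ⟩
      have h3 := (hP.2 Ω _ ⟨_, hpt Ω φ⟩ t).unique rfl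
        ((hact Ω φ (hpt Ω φ) j t).2
          ((congrArg (fun q => Spec.map q ≫ e.inv) h2.symm).trans ((hact Ω φ (hpt Ω φ) i t).1 rfl)))
      rw [hgi, hgi] at h3
      have h4 := congrArg ZMod.val (Multiplicative.ofAdd.injective h3)
      rwa [ZMod.val_natCast, ZMod.val_natCast, Nat.mod_eq_of_lt hi, Nat.mod_eq_of_lt hj] at h4)
  let eΦ : Spec Γ(P.left, ⊤) ≅ Spec (CommRingCat.of (SGA1t.artinSchreier A p a)) :=
    Scheme.Spec.mapIso Φ.toRingEquiv.toCommRingCatIso.op
  refine ⟨a, e ≪≫ eΦ, ?_, fun j => ?_⟩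
  · show (e.hom ≫ Spec.map (CommRingCat.ofHom Φ.toAlgHom.toRingHom)) ≫ Spec.map _ = πP
    rw [Category.assoc, ← Spec.map_comp,
      show (CommRingCat.ofHom (algebraMap A _) ≫ CommRingCat.ofHom Φ.toAlgHom.toRingHom) = f from by
        ext c; exact Φ.commutes c,
      hf, Iso.hom_inv_id_assoc]
  · obtain ⟨i, -, hij⟩ := hgpow (Multiplicative.ofAdd j)
    rw [← hij]
    show (ρ (g₀ ^ i)).hom.left ≫ e.hom ≫ Spec.map (CommRingCat.ofHom Φ.toAlgHom.toRingHom) =
      (e.hom ≫ Spec.map (CommRingCat.ofHom Φ.toAlgHom.toRingHom)) ≫ _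
    rw [← cancel_epi e.inv, ← Category.assoc (ρ (g₀ ^ i)).hom.left, ← Category.assoc e.inv, ← hs, ← Spec.map_comp,
      Category.assoc, Iso.inv_hom_id_assoc, ← Spec.map_comp]
    congr 1
    refine CommRingCat.hom_ext ?_
    obtain rfl : (i : ZMod p) = j := Multiplicative.ofAdd.injective ((hgi i).symm.trans hij)
    let tw := SGA1t.artinSchreierShift A p a (i : ZMod p)
    refine Ideal.Quotient.ringHom_ext (Polynomial.ringHom_ext (fun c => ?_) ?_)
    · show (s (g₀ ^ i)).hom (Φ (algebraMap A _ c)) = Φ (tw (Ideal.Quotient.mk _ (Polynomial.C c)))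
      rw [show tw (Ideal.Quotient.mk _ (Polynomial.C c)) = algebraMap A _ c from by
          simp [tw, SGA1t.artinSchreierShift, IsScalarTower.algebraMap_apply A (Polynomial A)],
        AlgEquiv.commutes]
      exact DFunLike.congr_fun (congrArg CommRingCat.Hom.hom (hsf _)) c
    · show (s (g₀ ^ i)).hom (Φ (Ideal.Quotient.mk _ Polynomial.X)) = Φ (tw (Ideal.Quotient.mk _ Polynomial.X))
      rw [show tw (Ideal.Quotient.mk _ Polynomial.X) = Ideal.Quotient.mk _ Polynomial.X + (i : SGA1t.artinSchreier A p a) from by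
        simp [tw, SGA1t.artinSchreierShift],
        map_add, map_natCast, ← hσi]
      clear * - hΦ
      induction i with
      | zero => simp
      | succ i ih =>
        rw [Function.iterate_succ', Function.comp_apply, ih, map_add, hΦ, map_natCast, Nat.cast_succ]
        ring

end Groth.Agent.S3721
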