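import Groth.Statements.S3757
import Groth.Agent.CMReg7.Gen
import Groth.Agent.CMReg7.Bundle
import Groth.Agent.NormX.RelVanishing
import Groth.Agent.ChowX.QuasiProj
import Groth.Agent.KFlatLib.Perfect.Tensor
import Groth.Agent.H23.PullPush
import Groth.Agent.QCoh.Support

set_option autoImplicit false
set_option linter.style.haveILetI false
set_option backward.isDefEq.respectTransparency false
universe v u
open CategoryTheory CategoryTheory.Limits AlgebraicGeometry
attribute [local instance] HasDerivedCategory.standard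
open KRR
open scoped Groth.Agent.H23.PicMul

namespace Groth.Agent.S3757

/-- Let Y be a Noetherian scheme, p : P = P^n_Y ⟶ Y the structure morphism of projective n-space over Y,
and F a finite locally free O_P-module. Then there is m₀ such that p_*(F(m)) is a finite locally
free O_Y-module for every m ≥ m₀. -/
theorem result (n : ℕ) (Y : Scheme.{u}) [IsNoetherian Y]
    (F : (KRR.PY n Y).Modules) (hF : FlatMod.IsFinLocFree F) :
    ∃ m₀ : ℕ, ∀ m : ℕ, m₀ ≤ m →
      FlatMod.IsFinLocFree ((Scheme.Modules.pushforward (KRR.pr n Y)).obj (KRR.twF n Y (m : ℤ) F)) := by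
  haveI : HasInjectiveResolutions (KRR.PY n Y).Modules := Groth.Agent.KFlatLib.hasInjectiveResolutions_modules
  haveI : IsProper (CohB1.ProjSpace.toSpec n (ULift.{u} ℤ)) := Groth.Agent.PnCoh.Chow.isProper_toSpec n _
  haveI : IsProper (KRR.pr n Y) := MorphismProperty.pullback_snd _ _ inferInstance
  haveI : IsLocallyNoetherian (KRR.PY n Y) := LocallyOfFiniteType.isLocallyNoetherian (KRR.pr n Y)
  have hL := Groth.Agent.RegSheaf7.isInvertible_twistOver (n := n) (T := Y) 1
  obtain ⟨N, hN⟩ := Groth.Agent.NormX.exists_vanishing_Rpush (KRR.pr n Y)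
    (L := Twist.twistOver n Y 1) (Groth.Agent.ChowX.isRelAmple_twistOver n Y).2 hL
    (Groth.Agent.QCoh.isCoh_iff_isFP.2 (Groth.Agent.QCoh.isFP_of_isFinLocFree hF))
  refine ⟨N, fun m hm => ?_⟩
  obtain ⟨e⟩ : Nonempty (KRR.twF n Y (m : ℤ) F ≅ CohB1.tensorMod F (CohB1.tensorPow (Twist.twistOver n Y 1) m)) :=
    Groth.Agent.H23.PicMul.cl_eq_iff.1 (by
      show PicF.cl (CohB1.tensorMod _ F) = _
      rw [Groth.Agent.H23.PicMul.cl_tensor]; erw [Groth.Agent.H23.PicMul.cl_tensor]; rw [Groth.Agent.H23.PicMul.cl_tensorPow,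
        Groth.Agent.CMReg7.cl_twistOver_pow]; exact CommMonoid.mul_comm _ _)
  refine Groth.Agent.CMReg7.isFinLocFree_push_pr
    (Groth.Agent.KFlatLib.isFinLocFree_tensor (Groth.Agent.H23.PullPush.isFinLocFree_of_isInvertible (Groth.Agent.RegSheaf7.isInvertible_twistOver (m : ℤ))) hF) fun i hi => ?_
  obtain ⟨k, rfl⟩ := Nat.exists_eq_add_of_le' hi
  obtain ⟨a⟩ := Groth.Agent.QCoh.nonempty_RpushAb_iso (KRR.pr n Y) (KRR.twF n Y (m : ℤ) F) k
  obtain ⟨b⟩ := Groth.Agent.QCoh.nonempty_Rpush_iso (KRR.pr n Y) (KRR.twF n Y (m : ℤ) F) k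
  exact IsZero.of_iso ((Groth.Agent.QCoh.toAbFunctor Y).map_isZero
    ((hN m hm k).of_iso ((Coh.Rpush (KRR.pr n Y) (k + 1)).mapIso e))) (a ≪≫ (Groth.Agent.QCoh.toAbFunctor Y).mapIso b.symm)

end Groth.Agent.S3757
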