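import Groth.Statements.S3783
import Groth.Agent.KRR7.PullModel
import Groth.Agent.KRR7.Compare
import Groth.Agent.ProjPt.Poly

set_option autoImplicit false
universe v u
open CategoryTheory CategoryTheory.Limits AlgebraicGeometry
attribute [local instance] HasDerivedCategory.standard
open KRR

namespace Groth.Agent.S3783

open Groth.Agent

theorem nonempty_point {Y : Scheme.{u}} (n : ℕ) : Nonempty (Y ⟶ CohB1.ProjSpace n (ULift.{u} ℤ)) := by
  let R := ULift.{u} ℤ
  let f : MvPolynomial (Fin (n + 1)) R →+* R := MvPolynomial.eval (fun k => if k = 0 then 1 else 0)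
  have hf : f (MvPolynomial.X 0) = 1 := by simp [f]
  have hu : IsUnit (f (MvPolynomial.X 0)) := hf ▸ isUnit_one
  let ρ : HomogeneousLocalization.Away (CohB1.polyGrading n R) (MvPolynomial.X 0) →+* R :=
    ProjPt.coordHom (CohB1.polyGrading n R) f hu
  exact ⟨specULiftZIsTerminal.from Y ≫ Spec.map (CommRingCat.ofHom ρ) ≫
    Proj.awayι (CohB1.polyGrading n R) _ (ProjPt.X_mem 0) one_pos⟩

/-- For P = P^n_Y: let Y be a connected Noetherian scheme, p : P^n_Y ⟶ Y, with models of K(P), K(Y)
having the splitting property and q = p^K the pull-back. Then for every k, an element y ∈ K(Y) lies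
in F^k K(Y) if and only if p^K y lies in F^k K(P) (γ-filtrations). -/
theorem result (n : ℕ) (Y : Scheme.{u}) [IsNoetherian Y] [ConnectedSpace ↥Y]
    (KP : Type v) [CommRing KP] [LambdaRing.LambdaOps KP] (PP : LambdaRing.PosStructure KP) (φP : SGA6.Kvb (KRR.PY n Y) →+ KP) (hKP : KRR.IsModel (KRR.PY n Y) KP PP φP) (hsP : LambdaRing.HasSplitting KP PP)
    (KY : Type v) [CommRing KY] [LambdaRing.LambdaOps KY] (PY : LambdaRing.PosStructure KY) (φY : SGA6.Kvb Y →+ KY) (hKY : KRR.IsModel Y KY PY φY) (hsY : LambdaRing.HasSplitting KY PY)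
    (q : KY →+ KP) (hq : KRR.IsPull (KRR.pr n Y) φY φP q) (k : ℕ) :
    (LambdaRing.gammaFiltration PP k).comap q = LambdaRing.gammaFiltration PY k := by
  obtain ⟨c⟩ := nonempty_point (Y := Y) n
  let s := Groth.Agent.KRR7.sectionOf n c
  have hs : s ≫ KRR.pr n Y = 𝟙 Y := Groth.Agent.KRR7.sectionOf_pr n c
  obtain ⟨g, hg : KRR.IsPull s φP φY g, -⟩ := Groth.Agent.KRR7.existsUnique_pullHom s φP hKP.bijective φY
  have hid : g.comp q = AddMonoidHom.id KY := Groth.Agent.KRR7.model_hom_ext hKY fun E hE => by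
    show g (q _) = _
    rw [hq E hE, hg _ (Groth.Agent.KFlatLib.isFinLocFree_pullback _ hE)]
    have e : (Scheme.Modules.pullback s).obj ((Scheme.Modules.pullback (KRR.pr n Y)).obj E) ≅ E :=
      (Scheme.Modules.pullbackComp s (KRR.pr n Y)).app E ≪≫ (Scheme.Modules.pullbackCongr hs).app E ≪≫
        (Scheme.Modules.pullbackId Y).app E
    exact congrArg φY (Groth.Agent.KRR7.cl_iso e
      (Groth.Agent.KFlatLib.isFinLocFree_pullback s (Groth.Agent.KFlatLib.isFinLocFree_pullback _ hE)))
  ext y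
  refine ⟨fun hy => ?_, fun hy => Groth.Agent.KRR7.pull_gammaFiltration hKY hKP hq hy⟩
  have := Groth.Agent.KRR7.pull_gammaFiltration hKP hKY hg hy
  rwa [show g (q y) = y from DFunLike.congr_fun hid y] at this

end Groth.Agent.S3783
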