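import Groth.Statements.S3784
import Groth.Agent.KPE7.Split

set_option autoImplicit false
set_option backward.isDefEq.respectTransparency false
set_option linter.style.haveILetI false
universe v u
open CategoryTheory CategoryTheory.Limits AlgebraicGeometry
attribute [local instance] HasDerivedCategory.standard
open KRR

namespace Groth.Agent.S3784

attribute [local instance] HasDerivedCategory.standard
open CategoryTheory CategoryTheory.Limits AlgebraicGeometry
attribute [local instance] Groth.Agent.ExtPow7.Lam.commRing Groth.Agent.ExtPow7.Lam.lambdaOps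


/-- Let X be a connected Noetherian scheme, (K, P, φ) a model of the λ-ring K(X), and E a finite locally
free O_X-module of rank m. Then there are a connected Noetherian scheme X', a morphism f : X' ⟶ X, a
model (K', P', φ') of K(X') and the pull-back g = f^K : K ⟶ K' such that g is injective, g⁻¹(F^k K')
= F^k K for all k (γ-filtrations), and g[E] = [L₁] + ⋯ + [L_m] for invertible O_{X'}-modules L_i. -/
theorem result (X : Scheme.{u}) [IsNoetherian X] [ConnectedSpace ↥X]
    (K : Type v) [CommRing K] [LambdaRing.LambdaOps K] (P : LambdaRing.PosStructure K) (φ : SGA6.Kvb X →+ K) (hK : KRR.IsModel X K P φ) (m : ℕ) (E : X.Modules) (hE : FlatMod.IsFinLocFreeOfRank m E) :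
    ∃ (X' : Scheme.{u}) (_ : IsNoetherian X') (_ : ConnectedSpace ↥X') (f : X' ⟶ X)
      (K' : Type (u + 1)) (_ : CommRing K') (_ : LambdaRing.LambdaOps K') (P' : LambdaRing.PosStructure K')
      (φ' : SGA6.Kvb X' →+ K') (_ : KRR.IsModel X' K' P' φ') (g : K →+ K') (_ : KRR.IsPull f φ φ' g),
      Function.Injective g ∧ (∀ k : ℕ, (LambdaRing.gammaFiltration P' k).comap g = LambdaRing.gammaFiltration P k) ∧
      ∃ L : Fin m → X'.Modules, (∀ j, FlatMod.IsFinLocFreeOfRank 1 (L j)) ∧ g (φ (KRR.cl X E)) = ∑ j, φ' (KRR.cl X' (L j)) := by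
  obtain ⟨X', h1, h2, f, hinj, hfil, L, hL, hsum⟩ := KPE7.exists_splitting X m E hE
  let eφ := AddEquiv.ofBijective φ hK.bijective
  let g : K →+ SGA6.Kvb X' := (KPE7.pullK f).toAddMonoidHom.comp eφ.symm.toAddMonoidHom
  have hg : KRR.IsPull f φ (AddMonoidHom.id _) g := fun F hF => by
    show KPE7.pullK f (eφ.symm (φ _)) = _
    rw [show eφ.symm (φ (KRR.cl X F)) = KRR.cl X F from eφ.symm_apply_apply _]
    exact KPE7.pullK_c f hF
  -- the model compared with the standard one
  let a : K →+ SGA6.Kvb X := eφ.symm.toAddMonoidHom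
  have ha : KRR.IsPull (𝟙 X) φ (AddMonoidHom.id _) a := fun F hF => by
    show eφ.symm (φ _) = _
    rw [show eφ.symm (φ (KRR.cl X F)) = KRR.cl X F from eφ.symm_apply_apply _]
    exact (ExtPow7.Lam.c_iso ((Scheme.Modules.pullbackId X).app F) (KFlatLib.isFinLocFree_pullback _ hF)).symm
  have hb : KRR.IsPull (𝟙 X) (AddMonoidHom.id _) φ φ := fun F hF =>
    congrArg φ (ExtPow7.Lam.c_iso ((Scheme.Modules.pullbackId X).app F) (KFlatLib.isFinLocFree_pullback _ hF)).symm
  refine ⟨X', h1, h2, f, SGA6.Kvb X', ExtPow7.Lam.commRing X', ExtPow7.Lam.lambdaOps X', KPE7.pos X', AddMonoidHom.id _,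
    KPE7.isModel_pos X', g, hg, hinj.comp eφ.symm.injective, fun k => ?_, L, hL, ?_⟩
  · ext x
    rw [AddSubgroup.mem_comap]
    refine ⟨fun hx => ?_, fun hx => KRR7.pull_gammaFiltration hK (KPE7.isModel_pos X') hg hx⟩
    have h := hfil k (a x) (KPE7.pos X') (KPE7.pos X) (KPE7.isModel_pos X') (KPE7.isModel_pos X) hx
    have h' := KRR7.pull_gammaFiltration (KPE7.isModel_pos X) hK hb h
    rwa [show φ (a x) = x from eφ.apply_symm_apply x] at h'
  · rw [hg E (KRR7.flf_of_rank hE)]
    exact (KPE7.pullK_c f (KRR7.flf_of_rank hE)).symm.trans hsum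

end Groth.Agent.S3784
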