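import Groth.Statements.S3788
import Groth.Agent.KRR7.PullModel
import Groth.Agent.KFlatLib.Perfect.Top
import Groth.Agent.KRR7.Ample

set_option autoImplicit false
universe v u
open CategoryTheory CategoryTheory.Limits AlgebraicGeometry
attribute [local instance] HasDerivedCategory.standard
open KRR

namespace Groth.Agent.S3788

/-- The relation satisfied by the tautological class: let X be a connected Noetherian scheme, E finite
locally free of rank r + 1, and (π : P ⟶ X, O(1), q) its projective bundle P(E) (universal property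
for invertible quotients of pull-backs of E), P connected Noetherian. With models of K(X), K(P), g =
π^K, e = [E] and ℓ = [O(1)]: Σ_{i=0}^{r+1} (-1)^i π^K(λ^i e) ℓ^{r+1-i} = 0 in K(P). -/
theorem result (X P : Scheme.{u}) [IsNoetherian X] [ConnectedSpace ↥X] [IsNoetherian P] [ConnectedSpace ↥P]
    (r : ℕ) (E : X.Modules) (hE : FlatMod.IsFinLocFreeOfRank (r + 1) E)
    (π : P ⟶ X) (O1 : P.Modules) (q : (Scheme.Modules.pullback π).obj E ⟶ O1) (hPB : KRR.IsProjBundle π E O1 q)
    (KX : Type v) [CommRing KX] [LambdaRing.LambdaOps KX] (PX : LambdaRing.PosStructure KX) (φX : SGA6.Kvb X →+ KX) (hKX : KRR.IsModel X KX PX φX)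
    (KP : Type v) [CommRing KP] [LambdaRing.LambdaOps KP] (PP : LambdaRing.PosStructure KP) (φP : SGA6.Kvb P →+ KP) (hKP : KRR.IsModel P KP PP φP)
    (g : KX →+ KP) (hg : KRR.IsPull π φX φP g) :
    ∑ i ∈ Finset.range (r + 2), (-1 : KP) ^ i * g (LambdaRing.LambdaOps.lam i (φX (KRR.cl X E))) * φP (KRR.cl P O1) ^ (r + 1 - i) = 0 := by
  haveI := hPB.epi
  have hEf : FlatMod.IsFinLocFree E := Groth.Agent.KRR7.flf_of_rank hE
  have h2 := Groth.Agent.KRR7.isFinLocFreeOfRank_pullback π hE
  have h1 := hPB.invertible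
  have h2f := Groth.Agent.KRR7.flf_of_rank h2
  have h1f := Groth.Agent.KRR7.flf_of_rank h1
  have hFf : FlatMod.IsFinLocFree (kernel q) := Groth.Agent.KFlatLib.isFinLocFree_kernel q h2f h1f
  have hS : (ShortComplex.mk (kernel.ι q) q (kernel.condition q)).ShortExact :=
    { exact := ShortComplex.exact_kernel q }
  obtain ⟨s, hs⟩ := Groth.Agent.KRR7.exists_rank hFf
  obtain ⟨x⟩ := (inferInstance : Nonempty ↥P)
  have hsr : s = r := by
    have := Groth.Agent.ExtPow7.Lam.rk_ses hS hFf h1f x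
    simp only [Groth.Agent.ExtPow7.Lam.rk_of_rank hs, Groth.Agent.ExtPow7.Lam.rk_of_rank h1,
      Groth.Agent.ExtPow7.Lam.rk_of_rank h2] at this
    omega
  subst hsr
  have hge : g (φX (KRR.cl X E)) = φP (KRR.cl P (kernel q)) + φP (KRR.cl P O1) := by
    rw [hg E hEf, ← map_add]
    exact congrArg φP (Groth.Agent.KZ.clSub_ses (KRR.vbP P) hS hFf h2f h1f)
  set ℓ := φP (KRR.cl P O1) with hℓ
  have hℓpos : ℓ ∈ PP.pos := (hKP.mem_pos_iff _).2 ⟨1, O1, le_rfl, h1, rfl⟩
  have hℓaug : PP.aug ℓ = 1 := by simpa using hKP.aug_cl 1 O1 h1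
  set a := φP (KRR.cl P (kernel q)) with ha
  have hazero : LambdaRing.LambdaOps.lam (s + 1) a = 0 := by
    obtain ⟨M, hM, hMf⟩ := Groth.Agent.ExtPow7.exists_isExtPow hFf (s + 1)
    rw [ha, hKP.map_lam _ _ M hFf hMf hM, show KRR.cl P M = 0 from
      Groth.Agent.KZ.clSub_isZero _ (Groth.Agent.ExtPow7.isZero_of_isExtPow_lt hs (by omega) hM), map_zero]
  have hlam : ∀ j, LambdaRing.LambdaOps.lam (j + 1) (a + ℓ) =
      LambdaRing.LambdaOps.lam (j + 1) a + LambdaRing.LambdaOps.lam j a * ℓ := fun j => by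
    rw [LambdaRing.LambdaOps.lam_add, Finset.sum_range_succ, Finset.sum_range_succ, Finset.sum_eq_zero fun i hi => ?_]
    · simp only [Nat.sub_self, LambdaRing.LambdaOps.lam_zero, mul_one, show j + 1 - j = 1 by omega,
        LambdaRing.LambdaOps.lam_one, zero_add]
      exact add_comm _ _
    · rw [PP.lam_eq_zero ℓ hℓpos _ (by rw [hℓaug]; have := Finset.mem_range.1 hi; omega), mul_zero]
  have key : ∀ m, m ≤ s + 1 → ∑ i ∈ Finset.range (m + 1),
      (-1 : KP) ^ i * LambdaRing.LambdaOps.lam i (a + ℓ) * ℓ ^ (s + 1 - i) =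
      (-1 : KP) ^ m * LambdaRing.LambdaOps.lam m a * ℓ ^ (s + 1 - m) := fun m => by
    induction m with
    | zero => intro; simp [LambdaRing.LambdaOps.lam_zero]
    | succ m ih =>
      intro hm
      rw [Finset.sum_range_succ, ih (by omega), hlam, show s + 1 - m = (s + 1 - (m + 1)) + 1 by omega, pow_succ]
      ring
  simp only [Groth.Agent.KRR7.pull_lam hKX hKP hg, hge]
  rw [key (s + 1) le_rfl, hazero, mul_zero, zero_mul]

end Groth.Agent.S3788
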