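import Groth.Statements.S3789
import Groth.Agent.KPE7.Transfer

set_option autoImplicit false
universe v u
open CategoryTheory CategoryTheory.Limits AlgebraicGeometry
attribute [local instance] HasDerivedCategory.standard
open KRR

namespace Groth.Agent.S3789

attribute [local instance] HasDerivedCategory.standard
open CategoryTheory CategoryTheory.Limits AlgebraicGeometry
open scoped Groth.Agent.H23.PicMul
attribute [local instance] Groth.Agent.ExtPow7.Lam.commRing
variable {T P : Scheme.{u}}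

theorem bijective_of_Bd {π : P ⟶ T} {n : ℕ} {E : T.Modules} {O : ℤ → P.Modules}
    {q : (Scheme.Modules.pullback π).obj E ⟶ O 1} (B : KPE7.Bd π n O E q) {O1 : P.Modules}
    (hOn : ∀ d : ℕ, O (d : ℤ) = CohB1.tensorPow O1 d) (_ : FlatMod.IsFinLocFree (O 1))
    (KX : Type v) [CommRing KX] [LambdaRing.LambdaOps KX] (PX : LambdaRing.PosStructure KX)
    (φX : SGA6.Kvb T →+ KX) (hKX : KRR.IsModel T KX PX φX)
    (KP : Type v) [CommRing KP] [LambdaRing.LambdaOps KP] (PP : LambdaRing.PosStructure KP)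
    (φP : SGA6.Kvb P →+ KP) (hKP : KRR.IsModel P KP PP φP)
    (g : KX →+ KP) (hg : KRR.IsPull π φX φP g) :
    Function.Bijective (fun a : Fin (n + 1) → KX => ∑ i : Fin (n + 1), g (a i) * φP (KRR.cl P O1) ^ (i : ℕ)) := by
  have hmul : ∀ x y, φP (x * y) = φP x * φP y := fun x y => by
    refine DFunLike.congr_fun (DFunLike.congr_fun (KZ.K0sub_hom_ext (KRR.vbP P)
      (f := (AddMonoidHom.compHom φP).comp AddMonoidHom.mul)
      (g := (AddMonoidHom.compHom.flip φP).comp ((AddMonoidHom.mul (R := KP)).comp φP)) fun A hA =>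
      KZ.K0sub_hom_ext (KRR.vbP P) fun C hC => ?_) x) y
    show φP (ExtPow7.Lam.c A * ExtPow7.Lam.c C) = φP (KRR.cl P A) * φP (KRR.cl P C)
    rw [ExtPow7.Lam.mul_eq hA hC]
    exact (hKP.map_mul A C hA hC).symm
  have h1 : φP 1 = 1 := hKP.map_one
  have hO1 : ExtPow7.Lam.c (O 1) = ExtPow7.Lam.c O1 := KPE7.c_congr (B.flfO 1) (by
    have h := hOn 1
    rw [Nat.cast_one] at h
    rw [h, H23.PicMul.cl_tensorPow, pow_one])
  have hpow : ∀ i : ℕ, φP (ExtPow7.Lam.c (O (i : ℤ))) = φP (KRR.cl P O1) ^ i := by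
    intro i
    induction i with
    | zero => rw [Nat.cast_zero, B.c_zero, pow_zero, h1]
    | succ i ih => rw [pow_succ, ← ih, Nat.cast_succ, ← B.c_add, hmul, hO1]
  have hpull : ∀ x, g (φX x) = φP (KPE7.pullK π x) := fun x => by
    refine DFunLike.congr_fun (KZ.K0sub_hom_ext (KRR.vbP T) (f := g.comp φX)
      (g := φP.comp (KPE7.pullK π).toAddMonoidHom) fun N hN => ?_) x
    refine (hg N hN).trans ?_
    show _ = φP (KPE7.pullK π (ExtPow7.Lam.c N))
    rw [KPE7.pullK_c π hN]
  let F : (Fin (n + 1) → SGA6.Kvb T) → (Fin (n + 1) → KX) := fun a i => φX (a i)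
  have hF : Function.Bijective F := Function.Bijective.piMap fun _ => hKX.bijective
  refine (Function.Bijective.of_comp_iff _ hF).1 ?_
  have e : (fun a : Fin (n + 1) → KX => ∑ i : Fin (n + 1), g (a i) * φP (KRR.cl P O1) ^ (i : ℕ)) ∘ F =
      φP ∘ KPE7.window π n O 0 := by
    funext a
    show _ = φP (∑ j : Fin (n + 1), _)
    rw [map_sum]
    refine Finset.sum_congr rfl fun i _ => ?_
    rw [hmul, zero_add, hpow, ← hpull]
  rw [e]
  exact hKP.bijective.comp (B.bijective_window 0)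


/-- Let X be a connected Noetherian scheme, E finite locally free of rank r + 1, and (π : P ⟶ X, O(1),
q) its projective bundle P(E), P connected Noetherian. With models of K(X), K(P), g = π^K and ℓ =
[O(1)]: the map (a_0, …, a_r) ↦ Σ_i π^K(a_i) ℓ^i from K(X)^{r+1} to K(P) is bijective, so that K(P)
= K(X)_e = K(X)[ℓ] with the relation of projectiveBundle_tautological_relation. -/
theorem result (X P : Scheme.{u}) [IsNoetherian X] [ConnectedSpace ↥X] [IsNoetherian P] [ConnectedSpace ↥P]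
    (r : ℕ) (E : X.Modules) (hE : FlatMod.IsFinLocFreeOfRank (r + 1) E)
    (π : P ⟶ X) (O1 : P.Modules) (q : (Scheme.Modules.pullback π).obj E ⟶ O1) (hPB : KRR.IsProjBundle π E O1 q)
    (KX : Type v) [CommRing KX] [LambdaRing.LambdaOps KX] (PX : LambdaRing.PosStructure KX) (φX : SGA6.Kvb X →+ KX) (hKX : KRR.IsModel X KX PX φX)
    (KP : Type v) [CommRing KP] [LambdaRing.LambdaOps KP] (PP : LambdaRing.PosStructure KP) (φP : SGA6.Kvb P →+ KP) (hKP : KRR.IsModel P KP PP φP)
    (g : KX →+ KP) (hg : KRR.IsPull π φX φP g) :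
    Function.Bijective (fun a : Fin (r + 1) → KX => ∑ i : Fin (r + 1), g (a i) * φP (KRR.cl P O1) ^ (i : ℕ)) := by
  obtain ⟨O, q', B, hOn⟩ := KPE7.exists_Bd hE hPB
  exact bijective_of_Bd B hOn (KPE7.flf_inv (B.inv _)) KX PX φX hKX KP PP φP hKP g hg

end Groth.Agent.S3789
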