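import Groth.Statements.S3825
import Groth.Agent.LinType.QReg
import Mathlib.RingTheory.Ideal.Cotangent
import Mathlib.RingTheory.Nakayama
import Mathlib

set_option autoImplicit false
universe u
open QReg16

namespace Groth.Agent.S3825

/-- a) iff c) (affine local form): let A be a local ring and I a proper ideal generated by some
quasi-regular sequence. For a finite family (f_i) of elements of I, the following are equivalent:
(a) (f_i) is a quasi-regular sequence generating I; (c) the classes of the f_i form a basis of the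
A/I-module I/I² (equivalently, b): (f_i) is a minimal system of generators of I). -/
theorem result {A : Type u} [CommRing A] [IsLocalRing A]
    (I : Ideal A) (hI : I ≤ IsLocalRing.maximalIdeal A)
    (hq : ∃ (r : ℕ) (g : Fin r → A), CAlgX.IsQuasiRegular g ∧ Ideal.span (Set.range g) = I)
    {m : ℕ} (f : Fin m → I) :
    (CAlgX.IsQuasiRegular (fun i => (f i : A)) ∧ Ideal.span (Set.range fun i => (f i : A)) = I) ↔
      (LinearIndependent (A ⧸ I) (fun i => I.toCotangent (f i)) ∧
        Submodule.span (A ⧸ I) (Set.range fun i => I.toCotangent (f i)) = ⊤) := by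
  classical
  obtain ⟨r, g, hg, hgI⟩ := hq
  have key : ∀ {k : ℕ} (e : Fin k → I), CAlgX.IsQuasiRegular (fun i => (e i : A)) →
      Ideal.span (Set.range fun i => (e i : A)) = I →
      LinearIndependent (A ⧸ I) (fun i => I.toCotangent (e i)) ∧
        Submodule.span (A ⧸ I) (Set.range fun i => I.toCotangent (e i)) = ⊤ := by
    intro k e he heI
    refine ⟨Fintype.linearIndependent_iff.2 fun c hc i => ?_, top_le_iff.1 fun z _ => ?_⟩
    · choose c' hc' using fun j => Ideal.Quotient.mk_surjective (c j)
      have h2 : I.toCotangent (∑ j, c' j • e j) = 0 := by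
        rw [map_sum, ← hc]
        refine Finset.sum_congr rfl fun j _ => ?_
        rw [map_smul, ← hc', ← Ideal.Quotient.algebraMap_eq, algebraMap_smul]
      rw [Ideal.toCotangent_eq_zero] at h2
      let P : MvPolynomial (Fin k) A := ∑ j, MvPolynomial.C (c' j) * MvPolynomial.X j
      have hP : P.IsHomogeneous 1 := MvPolynomial.IsHomogeneous.sum _ _ _ fun j _ =>
        MvPolynomial.IsHomogeneous.C_mul (MvPolynomial.isHomogeneous_X A j) _
      have h3 := he 1 P hP (by rw [heI]; simpa [P] using h2) (Finsupp.single i 1)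
      rw [← hc', Ideal.Quotient.eq_zero_iff_mem]
      rw [heI] at h3
      have h4 : P.coeff (Finsupp.single i 1) = c' i := by
        simp only [P, MvPolynomial.coeff_sum]
        rw [Finset.sum_eq_single i]
        · simp [MvPolynomial.coeff_C_mul]
        · intro j _ hj
          simp [MvPolynomial.coeff_C_mul, MvPolynomial.coeff_X', Finsupp.single_left_inj one_ne_zero, hj]
        · simp
      rwa [h4] at h3
    · obtain ⟨⟨x, hx⟩, rfl⟩ := I.toCotangent_surjective z
      have hx' : x ∈ Ideal.span (Set.range fun i => (e i : A)) := heI.symm ▸ hx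
      obtain ⟨c, hc⟩ := (Ideal.mem_span_range_iff_exists_fun).1 hx'
      rw [show (⟨x, hx⟩ : I) = ∑ i, c i • e i from Subtype.ext (by simp [hc]), map_sum]
      refine Submodule.sum_mem _ fun i _ => ?_
      rw [map_smul, ← algebraMap_smul (A ⧸ I) (c i)]
      exact Submodule.smul_mem _ _ (Submodule.subset_span ⟨i, rfl⟩)
  refine ⟨fun h => key f h.1 h.2, fun ⟨hli, hsp⟩ => ?_⟩
  have hfI : Ideal.span (Set.range fun i => (f i : A)) = I := by
    refine le_antisymm (Ideal.span_le.2 fun _ ⟨i, hi⟩ => hi ▸ (f i).2) ?_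
    refine Submodule.le_of_le_smul_of_le_jacobson_bot (I := I) ⟨Finset.univ.image g, by simpa using hgI⟩
      (hI.trans (IsLocalRing.jacobson_eq_maximalIdeal ⊥ bot_ne_top).ge) fun x hx => ?_
    have h1 : I.toCotangent ⟨x, hx⟩ ∈ Submodule.span (A ⧸ I) (Set.range fun i => I.toCotangent (f i)) := hsp ▸ trivial
    obtain ⟨c, hc⟩ := (Submodule.mem_span_range_iff_exists_fun _).1 h1
    choose c' hc' using fun j => Ideal.Quotient.mk_surjective (c j)
    have h2 : I.toCotangent (⟨x, hx⟩ - ∑ i, c' i • f i) = 0 := by
      rw [map_sub, map_sum, ← hc, sub_eq_zero]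
      refine Finset.sum_congr rfl fun j _ => ?_
      rw [map_smul, ← hc', ← Ideal.Quotient.algebraMap_eq, algebraMap_smul]
    rw [Ideal.toCotangent_eq_zero, pow_two, ← smul_eq_mul] at h2
    rw [show x = ∑ i, c' i * (f i : A) + (x - ∑ i, c' i * (f i : A)) by ring]
    refine Submodule.add_mem_sup (Submodule.sum_mem _ fun i _ => Ideal.mul_mem_left _ _ (Ideal.subset_span ⟨i, rfl⟩)) ?_
    simpa using h2
  refine ⟨?_, hfI⟩
  let g' : Fin r → I := fun i => ⟨g i, hgI ▸ Ideal.subset_span ⟨i, rfl⟩⟩
  obtain ⟨hli', hsp'⟩ := key g' hg hgI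
  haveI : Nontrivial (A ⧸ I) := Ideal.Quotient.nontrivial_iff.2 fun h =>
    (IsLocalRing.maximalIdeal.isMaximal A).ne_top (top_le_iff.1 (h ▸ hI))
  have hrm : r = m := by
    have := Fintype.card_congr ((Module.Basis.mk hli' hsp'.ge).indexEquiv (Module.Basis.mk hli hsp.ge))
    simpa using this
  subst hrm
  exact LinType.isQuasiRegular_of_span_eq g _ hg (hfI.trans hgI.symm)

end Groth.Agent.S3825
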