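import Groth.Statements.S3832
import Groth.Agent.CartierFP.SmoothNhd
import Groth.Agent.S2805

set_option autoImplicit false
universe u
open CategoryTheory CategoryTheory.Limits AlgebraicGeometry TopologicalSpace
open CInt19

namespace Groth.Agent.S3832

/-- Let g : X → S be locally of finite presentation, 𝓘 a quasi-coherent ideal of O_X whose closed
subscheme Y is locally of finite presentation and flat over S, with O_X normally flat along Y at
every point of Y, and let b : X' → X be a blowing-up along 𝓘 with exceptional divisor Y'. Suppose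
moreover that some morphism Y' → Y compatible with b is smooth, and let x' be a point of Y' with
image x in Y. Then Y is smooth over S on a neighbourhood of x if and only if Y' is smooth over S on
a neighbourhood of x'; and when this holds, X' is smooth over S on a neighbourhood of x'. -/
theorem result {X X' S : Scheme.{u}} (g : X ⟶ S) [LocallyOfFinitePresentation g]
    (𝓘 : X.IdealSheafData) [LocallyOfFinitePresentation (𝓘.subschemeι ≫ g)] [Flat (𝓘.subschemeι ≫ g)]
    (hnf : ∀ y : ↥𝓘.subscheme, EGA4.IsNormallyFlat (RingHom.ker (𝓘.subschemeι.stalkMap y).hom)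
      ↑(X.presheaf.stalk (𝓘.subschemeι y)))
    (b : X' ⟶ X) (hb : BlowUp.IsBlowUp b 𝓘)
    (f : (BlowUp.exceptional b 𝓘).subscheme ⟶ 𝓘.subscheme)
    (hf : f ≫ 𝓘.subschemeι = (BlowUp.exceptional b 𝓘).subschemeι ≫ b) [Smooth f]
    (x' : ↥(BlowUp.exceptional b 𝓘).subscheme) :
    ((∃ V : 𝓘.subscheme.Opens, f x' ∈ V ∧ Smooth (V.ι ≫ 𝓘.subschemeι ≫ g)) ↔
        ∃ V' : (BlowUp.exceptional b 𝓘).subscheme.Opens, x' ∈ V' ∧
          Smooth (V'.ι ≫ (BlowUp.exceptional b 𝓘).subschemeι ≫ b ≫ g)) ∧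
      ((∃ V' : (BlowUp.exceptional b 𝓘).subscheme.Opens, x' ∈ V' ∧
          Smooth (V'.ι ≫ (BlowUp.exceptional b 𝓘).subschemeι ≫ b ≫ g)) →
        ∃ W : X'.Opens, (BlowUp.exceptional b 𝓘).subschemeι x' ∈ W ∧ Smooth (W.ι ≫ b ≫ g)) := by
  haveI : LocallyOfFinitePresentation b :=
    (Groth.Agent.CartierFP.normallyFlat g 𝓘 hnf b hb).1.1
  refine ⟨⟨fun ⟨V, hV, hs⟩ => ?_, fun ⟨V', hV', hs⟩ => ?_⟩, fun ⟨V', hV', hs⟩ => ?_⟩
  · refine ⟨f ⁻¹ᵁ V, hV, ?_⟩
    haveI := hs
    haveI : Smooth (f ∣_ V) := IsZariskiLocalAtTarget.restrict (P := @Smooth) inferInstance V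
    rw [← reassoc_of% hf, ← morphismRestrict_ι_assoc]
    infer_instance
  · haveI := hs
    exact Groth.Agent.S2805.result (𝓘.subschemeι ≫ g) (f ≫ 𝓘.subschemeι ≫ g) f rfl x'
      (Flat.stalkMap f x') ⟨V', hV', by rw [reassoc_of% hf]; infer_instance⟩
  · haveI := hs
    exact Groth.Agent.CartierFP.exists_smooth_nhd (b ≫ g) hb.1 x' V' hV'

end Groth.Agent.S3832
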