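import Groth.Statements.S3839
import Groth.Agent.Div21Lib.NormalCrit

set_option autoImplicit false
universe u
open CategoryTheory CategoryTheory.Limits AlgebraicGeometry TopologicalSpace
open Div21

namespace Groth.Agent.S3839

/-- Case of effective divisors: let f : X → Y be a faithfully flat morphism between locally Noetherian
schemes, with f quasi-compact or open; assume Y is normal and that the fibre X_y is integral
whenever y is a point of Y whose local ring has dimension 1. An effective Cartier divisor D' on X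
with ideal sheaf 𝓙 is then the pullback of some effective Cartier divisor on Y if and only if, at
each maximal point η of Y, the pullback of D' to the fibre X_η is zero (its ideal is the unit
ideal). -/
theorem result {X Y : Scheme.{u}} [IsLocallyNoetherian X]
    [IsLocallyNoetherian Y] (f : X ⟶ Y) [Flat f] [Surjective f] (hf : QuasiCompact f ∨ IsOpenMap f)
    (hY : Pi1.IsNormalScheme Y)
    (hfib : ∀ y : ↥Y, ringKrullDim ↑(Y.presheaf.stalk y) = 1 → IsIntegral (f.fiber y))
    (𝓙 : X.IdealSheafData) (hJ : BlowUp.IsEffCartierIdeal 𝓙) :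
    (∃ 𝓘 : Y.IdealSheafData, BlowUp.IsEffCartierIdeal 𝓘 ∧ 𝓘.comap f = 𝓙) ↔
      ∀ η : ↥Y, (∀ z : ↥Y, z ⤳ η → z = η) → 𝓙.comap (f.fiberι η) = ⊤ := by
  constructor
  · rintro ⟨I, hI, rfl⟩ η hη
    exact Groth.Agent.Div21Lib.comap_fiberι_of_descent f hY I hI η hη
  · intro h1
    refine Groth.Agent.Div21Lib.exists_descent_normal f 𝓙 hY hf hJ h1 (fun y hy z z' hz _ h => ?_) fun y hy => ?_
    · haveI := hfib y hy
      exact Groth.Agent.Div21Lib.eq_of_isAssociated_of_isIntegral hz h
    · obtain ⟨hdom, hdvr⟩ := Groth.Agent.Div21Lib.isDVR_stalk hY hy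
      haveI := hfib y hy
      obtain ⟨ϖ, hϖ⟩ := IsDiscreteValuationRing.exists_irreducible (Y.presheaf.stalk y)
      have hm := (IsDiscreteValuationRing.irreducible_iff_uniformizer _).1 hϖ
      obtain ⟨n, hn⟩ := Groth.Agent.Div21Lib.exists_pow_of_integral_fibre f 𝓙 hJ hm
      exact ⟨n, ϖ, hm, hn⟩

end Groth.Agent.S3839
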