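import Groth.Statements.S3851
import Groth.Agent.H1CplTensor.Main

set_option autoImplicit false
universe u
open scoped TensorProduct
open EGA418

namespace Groth.Agent.S3851

/-- a) iff a') iff b), and b) implies d): let k be a field, A a complete Noetherian local k-algebra
whose residue field is finite over k, p a non-maximal prime of A, n the largest dimension of an
irreducible component of Spec A containing p, and Ω̂ the completion of the module of differentials
of A over k for the topology of the maximal ideal. For a field extension k' of k write A' = A ⊗̂_k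
k' (the completion of A ⊗_k k' for the extension of the maximal ideal). The following are
equivalent: (a) for every extension k' and every prime p' of A' over p, A'_{p'} is regular; (a') for
some perfect extension k' and some prime p' of A' over p, A'_{p'} is regular; (b) Ω̂_p is a free
A_p-module of rank n. Moreover (b) implies (d): A_p is geometrically regular over k. (The converse
of the last implication, valid when [k : k^p] is finite, is not stated.) -/
theorem result (k A : Type u) [Field k] [CommRing A]
    [IsLocalRing A] [IsNoetherianRing A] [Algebra k A] [IsAdicComplete (IsLocalRing.maximalIdeal A) A]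
    [Module.Finite k (IsLocalRing.ResidueField A)] (p : Ideal A) [p.IsPrime] (hp : p ≠ IsLocalRing.maximalIdeal A)
    (n : ℕ) (hn₁ : ∀ q ∈ minimalPrimes A, q ≤ p → ringKrullDim (A ⧸ q) ≤ n)
    (hn₂ : ∃ q ∈ minimalPrimes A, q ≤ p ∧ ringKrullDim (A ⧸ q) = n) :
    List.TFAE [
      ∀ (k' : Type u) [Field k'] [Algebra k k']
        (p' : Ideal (AdicCompletion ((IsLocalRing.maximalIdeal A).map
          (Algebra.TensorProduct.includeLeft : A →ₐ[k] A ⊗[k] k')) (A ⊗[k] k'))) [p'.IsPrime],
        (p'.comap (algebraMap (A ⊗[k] k') _)).comap
            (Algebra.TensorProduct.includeLeft : A →ₐ[k] A ⊗[k] k').toRingHom = p →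
          IsRegularLocalRing (Localization.AtPrime p'),
      ∃ (k' : Type u) (_ : Field k') (_ : Algebra k k') (_ : PerfectField k')
        (p' : Ideal (AdicCompletion ((IsLocalRing.maximalIdeal A).map
          (Algebra.TensorProduct.includeLeft : A →ₐ[k] A ⊗[k] k')) (A ⊗[k] k'))) (_ : p'.IsPrime),
        (p'.comap (algebraMap (A ⊗[k] k') _)).comap
            (Algebra.TensorProduct.includeLeft : A →ₐ[k] A ⊗[k] k').toRingHom = p ∧
          IsRegularLocalRing (Localization.AtPrime p'),
      Module.Free (Localization.AtPrime p)
          (LocalizedModule p.primeCompl (AdicCompletion (IsLocalRing.maximalIdeal A) (KaehlerDifferential k A))) ∧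
        Module.finrank (Localization.AtPrime p)
          (LocalizedModule p.primeCompl (AdicCompletion (IsLocalRing.maximalIdeal A) (KaehlerDifferential k A))) = n] ∧
    ((Module.Free (Localization.AtPrime p)
          (LocalizedModule p.primeCompl (AdicCompletion (IsLocalRing.maximalIdeal A) (KaehlerDifferential k A))) ∧
        Module.finrank (Localization.AtPrime p)
          (LocalizedModule p.primeCompl (AdicCompletion (IsLocalRing.maximalIdeal A) (KaehlerDifferential k A))) = n) →
      CAlg.IsGeometricallyRegular k (Localization.AtPrime p)) := by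
  classical
  open IsLocalRing in
  have hbc : ∀ (t : Fin n → AdicCompletion (maximalIdeal A) (KaehlerDifferential k A)),
      CplKaehler4.GenAt p t → _ := fun t ht => H1CplTensor.main_of_gen k A p hp n hn₁ hn₂ t ht
  have hgen : (Module.Free (Localization.AtPrime p)
          (LocalizedModule p.primeCompl (AdicCompletion (IsLocalRing.maximalIdeal A) (KaehlerDifferential k A))) ∧
        Module.finrank (Localization.AtPrime p)
          (LocalizedModule p.primeCompl (AdicCompletion (IsLocalRing.maximalIdeal A) (KaehlerDifferential k A))) = n) →
      ∃ t : Fin n → AdicCompletion (IsLocalRing.maximalIdeal A) (KaehlerDifferential k A), CplKaehler4.GenAt p t := by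
    rintro ⟨hfree, hrk⟩
    haveI := hfree
    haveI := CplKaehler4.finite_completion k A
    let b := Module.finBasisOfFinrankEq (Localization.AtPrime p) _ hrk
    exact CplKaehler4.exists_genAt_of_localized p ⟨b, b.span_eq⟩
  refine ⟨?_, fun h => ?_⟩
  · tfae_have 3 → 1 := by
      intro h k' _ _ p' _ hp'
      obtain ⟨t, ht⟩ := hgen h
      exact (hbc t ht).2.2 k' p' hp'
    tfae_have 1 → 2 := by
      intro h
      obtain ⟨d, alg, tower, hfin, hloc, -⟩ := H1CplTensor.exists_coordinates k A
      letI := alg
      haveI := tower
      haveI := hfin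
      haveI := hloc
      obtain ⟨e, he⟩ := H1CplTensor.exists_cpl_equiv k (AlgebraicClosure k) A d
      haveI := H1CplTensor.faithfullyFlat_model k (AlgebraicClosure k) A d
      obtain ⟨⟨Q, hQ⟩, hQp⟩ := PrimeSpectrum.comap_surjective_of_faithfullyFlat (A := A)
        (B := A ⊗[MvPowerSeries (Fin d) k] MvPowerSeries (Fin d) (AlgebraicClosure k)) ⟨p, inferInstance⟩
      haveI := hQ
      haveI := Ideal.comap_isPrime e Q
      have hover : ((Q.comap e).comap (algebraMap (A ⊗[k] AlgebraicClosure k) _)).comap
          (Algebra.TensorProduct.includeLeft : A →ₐ[k] A ⊗[k] AlgebraicClosure k).toRingHom = p := by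
        have h1 : Q.comap (algebraMap A _) = p := congrArg PrimeSpectrum.asIdeal hQp
        rw [← h1]
        ext a
        rw [Ideal.mem_comap, Ideal.mem_comap, Ideal.mem_comap, Ideal.mem_comap, he]
        show H1CplTensor.toModel k (AlgebraicClosure k) A d (a ⊗ₜ[k] (1 : AlgebraicClosure k)) ∈ Q ↔ _
        rw [H1CplTensor.toModel_tmul, map_one, ← Algebra.TensorProduct.one_def, mul_one]
        rfl
      exact ⟨AlgebraicClosure k, inferInstance, inferInstance, inferInstance, Q.comap e, inferInstance, hover,
        h (AlgebraicClosure k) (Q.comap e) hover⟩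
    tfae_have 2 → 3 := by
      rintro ⟨k', _, _, _, p', _, hp', hreg⟩
      obtain ⟨t, ht⟩ := H1CplTensor.exists_genAt_of_regular k k' A p n hn₁ p' hp' hreg
      exact (hbc t ht).1
    tfae_finish
  · obtain ⟨t, ht⟩ := hgen h
    exact (hbc t ht).2.1

end Groth.Agent.S3851
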