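import Groth.Statements.S3952
import Groth.Agent.RootChartLib.BorelFinal

set_option autoImplicit false
open CategoryTheory MonoidalCategory CartesianMonoidalCategory MonObj GrpObj AlgebraicGeometry
universe u
open RedSub

set_option backward.isDefEq.respectTransparency false
set_option backward.isDefEq.respectTransparency.types false

namespace Groth.Agent.S3952

/-- Let G be a split reductive S-group (splitting D), b a system of simple roots and e an enumeration of
the positive roots in any order. Then the morphism T x_S G_a^{R_+} ⟶ G, (t, x) ↦ i(t) u_{e 0}(x_0) ⋯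
u_{e (m-1)}(x_{m-1}), is a closed immersion, and its image is a Borel subgroup of G: there are a
Borel subgroup B ⟶ G (closed, smooth, with Borel geometric fibres) and an isomorphism of T x_S
G_a^{R_+} with B over G. -/
theorem result {S : Scheme.{u}} {G : Over S} [GrpObj G] (D : Red.SplitRed G)
    (b : D.P.Base) {m : ℕ} (epos : Fin m → D.idx) (hpos : RedSub.Enumerates (RedSub.posRoots D.P b) epos) :
    IsClosedImmersion (RedSub.borelMap D epos).left ∧
      ∃ (B : Over S) (_ : GrpObj B) (i : B ⟶ G) (e : D.T ⊗ RedSub.pow (Red.Ga S) m ≅ B),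
        Red.IsBorel i ∧ e.hom ≫ i = RedSub.borelMap D epos := by
    obtain ⟨f, hf, hfp, -⟩ := Groth.Agent.RootChartLib.exists_base_functional b
    have hrange : ∀ r, r ∈ Set.range epos ↔ 0 < f (D.P.root r) := fun r => by rw [hpos.2, hfp]
    refine ⟨Groth.Agent.RootChartLib.isClosedImmersion_borelMap D epos f hf hpos.1 hrange, ?_⟩
    obtain ⟨str, hm⟩ := Groth.Agent.RootChartLib.exists_grpObj_half D epos f hf hpos.1 hrange
    letI := str
    haveI := hm
    refine ⟨_, str, RedSub.borelMap D epos, CategoryTheory.Iso.refl _, ?_, CategoryTheory.Category.id_comp _⟩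
    exact ⟨hm, Groth.Agent.RootChartLib.isClosedImmersion_borelMap D epos f hf hpos.1 hrange,
      Groth.Agent.RootChartLib.smooth_halfSrc D,
      fun s => Groth.Agent.RootChartLib.isBorelOver_half D epos f hf hpos.1 hrange (Red.geomPt s)⟩

end Groth.Agent.S3952
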