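import Groth.Statements.S3962
import Groth.Agent.GModLib.BorelRelative

set_option autoImplicit false
open CategoryTheory MonoidalCategory CartesianMonoidalCategory MonObj GrpObj AlgebraicGeometry
universe u
open RedSub

set_option backward.isDefEq.respectTransparency false
set_option backward.isDefEq.respectTransparency.types false

namespace Groth.Agent.S3962

/-- Let G be a reductive S-group and B ⟶ G a Borel subgroup in the following sense: a sub-group-scheme
of type (R) whose geometric fibres are Borel subgroups (closedness is not assumed). Then B is closed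
in G and B is its own normaliser: a point of G normalises B (after every base change) if and only if
it lies in B. -/
theorem result {S : Scheme.{u}} {G B : Over S} [GrpObj G] [GrpObj B]
    (hG : Red.IsReductive G) (i : B ⟶ G) (hB : RedSub.IsBorelSub i) :
    IsClosedImmersion i.left ∧ Red.IsNormalizerOf i i := by
  obtain ⟨⟨⟨hm, hi⟩, hs, -, -, -⟩, hBorel⟩ := hB
  haveI := hm; haveI := hs
  haveI : IsPreimmersion i.left := hi.toIsPreimmersion
  haveI : Mono i.left := IsPreimmersion.instMonoScheme _
  haveI : Mono i := Over.mono_of_mono_left i
  obtain ⟨hGa, hGs, hGr⟩ := hG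
  haveI := hGa; haveI := hGs
  refine (GModLib.borel_relative (fun s => ?_) i hBorel).symm
  haveI : ConnectedSpace ↥(Limits.pullback G.hom (Red.geomPt s)) := (hGr s).2.2.1
  have hr : Set.range (Limits.pullback.fst G.hom (Red.geomPt s)) = G.hom.base ⁻¹' {s} := by
    rw [Scheme.Pullback.range_fst]
    congr 1
    refine Set.ext fun x => ⟨?_, fun hx => ⟨IsLocalRing.closedPoint _, ?_⟩⟩
    · rintro ⟨q, rfl⟩
      rw [Scheme.Hom.comp_apply]
      exact Scheme.fromSpecResidueField_apply _ _
    · rw [Scheme.Hom.comp_apply]
      exact (Scheme.fromSpecResidueField_apply _ _).trans hx.symm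
  rw [← hr]
  exact isConnected_range (Scheme.Hom.continuous _)

end Groth.Agent.S3962
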