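import Groth.Statements.S4064
import Groth.Agent.PervTLib.ExtReal

set_option autoImplicit false
universe w v v'
open CategoryTheory CategoryTheory.Abelian
open SGA7
open CategoryTheory.Limits

namespace Groth.Agent.S4064

/-- Let P -> F -> R and R -> E -> Q be short exact sequences in an abelian category (F an extension of R
by P, E an extension of Q by R). A blended extension of E by F is an object X with a monomorphism i
: F -> X and an epimorphism p : X -> E such that P -> X -> E (via i) and F -> X -> Q (via p) are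
short exact and F -> X -> E is the composite F -> R -> E. Such an X exists if and only if the
composite of the two extension classes, an element of Ext^2(Q, P), is zero. -/
theorem result {C : Type w} [Category.{v} C] [Abelian C]
    [HasExt.{v'} C] {P F R E Q : C} (a : P ⟶ F) (b : F ⟶ R) (wF : a ≫ b = 0)
    (hF : (ShortComplex.mk a b wF).ShortExact) (c : R ⟶ E) (d : E ⟶ Q) (wE : c ≫ d = 0)
    (hE : (ShortComplex.mk c d wE).ShortExact) :
    (∃ (X : C) (i : F ⟶ X) (p : X ⟶ E), i ≫ p = b ≫ c ∧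
        (∃ w : (a ≫ i) ≫ p = 0, (ShortComplex.mk (a ≫ i) p w).ShortExact) ∧
        (∃ w : i ≫ (p ≫ d) = 0, (ShortComplex.mk i (p ≫ d) w).ShortExact)) ↔
      hE.extClass.comp hF.extClass (rfl : 1 + 1 = 2) = 0 := by
  haveI : Mono a := hF.mono_f
  haveI : Epi b := hF.epi_g
  haveI : Mono c := hE.mono_f
  haveI : Epi d := hE.epi_g
  constructor
  · rintro ⟨X, i, p, hip, -, w₂, h₂⟩
    have hnat := ShortComplex.ShortExact.extClass_naturality h₂ hE
      { τ₁ := b, τ₂ := p, τ₃ := 𝟙 Q, comm₁₂ := hip.symm, comm₂₃ := (Category.comp_id _).symm }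
    rw [Ext.mk₀_id_comp] at hnat
    rw [← hnat, Ext.comp_assoc _ _ _ (add_zero 1) (zero_add 1) (by omega), hF.comp_extClass,
      Ext.comp_zero]
  · intro h
    obtain ⟨x, hx⟩ := Ext.covariant_sequence_exact₃ (X := Q) hF hE.extClass rfl h
    obtain ⟨X, i, q, w, hS, hSx⟩ := Groth.Agent.PervTLib.exists_shortExact_extClass x
    have hxb : hS.extClass.comp (Ext.mk₀ b) (add_zero 1) = hE.extClass := hSx ▸ hx
    haveI : Mono i := hS.mono_f
    haveI : Epi q := hS.epi_g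
    -- extend `b ≫ c` to `X`
    have h0 : hS.extClass.comp (Ext.mk₀ (b ≫ c)) (add_zero 1) = 0 := by
      rw [← Ext.mk₀_comp_mk₀, ← Ext.comp_assoc _ _ _ (add_zero 1) (zero_add 0) (by omega), hxb]
      exact hE.extClass_comp
    obtain ⟨y, hy⟩ := Ext.contravariant_sequence_exact₁ hS E (Ext.mk₀ (b ≫ c)) (add_zero 1) h0
    obtain ⟨p₀, rfl⟩ := (Ext.mk₀_bijective _ _).2 y
    rw [Ext.mk₀_comp_mk₀] at hy
    have hp₀ : i ≫ p₀ = b ≫ c := (Ext.mk₀_bijective _ _).1 hy
    obtain ⟨φ, hφ⟩ : ∃ φ : Q ⟶ Q, q ≫ φ = p₀ ≫ d :=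
      ⟨hS.gIsCokernel.desc (CokernelCofork.ofπ (p₀ ≫ d) (by rw [reassoc_of% hp₀, wE, comp_zero])),
        hS.gIsCokernel.fac _ WalkingParallelPair.one⟩
    have hnat := ShortComplex.ShortExact.extClass_naturality hS hE
      { τ₁ := b, τ₂ := p₀, τ₃ := φ, comm₁₂ := hp₀.symm, comm₂₃ := hφ.symm }
    rw [hxb] at hnat
    have h1 : (Ext.mk₀ (𝟙 Q - φ)).comp hE.extClass (zero_add 1) = 0 := by
      rw [sub_eq_add_neg, Ext.mk₀_add, Ext.mk₀_neg, Ext.add_comp, Ext.neg_comp, ← hnat, Ext.mk₀_id_comp, add_neg_cancel]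
    obtain ⟨ψ', hψ'⟩ := Ext.covariant_sequence_exact₃ (X := Q) hE (Ext.mk₀ (𝟙 Q - φ)) rfl h1
    obtain ⟨ψ, rfl⟩ := (Ext.mk₀_bijective _ _).2 ψ'
    rw [Ext.mk₀_comp_mk₀] at hψ'
    have hψ : ψ ≫ d = 𝟙 Q - φ := (Ext.mk₀_bijective _ _).1 hψ'
    let p : X ⟶ E := p₀ + q ≫ ψ
    have hip : i ≫ p = b ≫ c := by simp [p, Preadditive.comp_add, hp₀, reassoc_of% w]
    have hpd : p ≫ d = q := by
      simp [p, Preadditive.add_comp, hψ, Preadditive.comp_sub, hφ]
    have w₁ : (a ≫ i) ≫ p = 0 := by rw [Category.assoc, hip, reassoc_of% wF, zero_comp]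
    have hepi : Epi p := Preadditive.epi_of_cancel_zero _ fun {W} v hv => by
      have hcv : c ≫ v = 0 := (cancel_epi b).1 (by rw [← reassoc_of% hip, hv]; simp)
      obtain ⟨u, hu⟩ : ∃ u, d ≫ u = v :=
        ⟨hE.gIsCokernel.desc (CokernelCofork.ofπ v hcv), hE.gIsCokernel.fac _ WalkingParallelPair.one⟩
      have : q ≫ u = 0 := by rw [← hpd, Category.assoc, hu, hv]
      rw [← hu, (cancel_epi q).1 (this.trans comp_zero.symm), comp_zero]
    have hkey : ∀ {W : C} (y : W ⟶ X), y ≫ p = 0 → ∃ z, z ≫ a ≫ i = y := fun {W} y hy => by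
      obtain ⟨y₁, hy₁⟩ : ∃ y₁, y₁ ≫ i = y :=
        ⟨hS.fIsKernel.lift (KernelFork.ofι y (show y ≫ q = 0 by rw [← hpd, reassoc_of% hy, zero_comp])),
          hS.fIsKernel.fac _ WalkingParallelPair.zero⟩
      have hyb : y₁ ≫ b = 0 := (cancel_mono c).1 (by rw [Category.assoc, ← hip, reassoc_of% hy₁, hy, zero_comp])
      obtain ⟨z, hz⟩ : ∃ z, z ≫ a = y₁ :=
        ⟨hF.fIsKernel.lift (KernelFork.ofι y₁ hyb), hF.fIsKernel.fac _ WalkingParallelPair.zero⟩
      exact ⟨z, by rw [reassoc_of% hz, hy₁]⟩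
    refine ⟨X, i, p, hip, ⟨w₁, .mk' ?_ (inferInstanceAs (Mono (a ≫ i))) hepi⟩, ?_⟩
    · exact ShortComplex.exact_of_f_is_kernel _ (KernelFork.IsLimit.ofι' _ _ fun y hy =>
        ⟨(hkey y hy).choose, (hkey y hy).choose_spec⟩)
    · simp only [hpd]
      exact ⟨w, hS⟩

end Groth.Agent.S4064
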