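import Groth.Statements.S4088
import Groth.Agent.GrpQLib.ProperQuot
import Groth.Agent.PnCoh.Chow.Proper

set_option autoImplicit false
set_option backward.isDefEq.respectTransparency false
set_option backward.isDefEq.respectTransparency.types false
universe u
open CategoryTheory MonoidalCategory CartesianMonoidalCategory MonObj GrpObj AlgebraicGeometry CategoryTheory.Limits
open GrpQ

namespace Groth.Agent.S4088

theorem quasiCompact_of_immersion {X Y : Scheme.{u}} [IsLocallyNoetherian Y] (e : X ⟶ Y) [IsImmersion e] :
    QuasiCompact e := by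
  refine quasiCompact_iff_forall_isAffineOpen.2 fun V hV => ?_
  haveI : IsNoetherianRing Γ(Y, V) := IsLocallyNoetherian.component_noetherian ⟨V, hV⟩
  haveI := noetherianSpace_of_isAffineOpen V hV
  rw [e.isEmbedding.isCompact_iff]
  exact (TopologicalSpace.noetherianSpace_set_iff (V : Set Y)).1 ‹_› _ (Set.image_preimage_subset _ _)

/-- With the object scheme assumed to admit an S-immersion into some P^n_S (a special case of
quasi-projective): let S be locally noetherian and (U, R, s, t, c) a groupoid scheme over S such
that s is proper and flat, U admits an immersion e into P^n_S over S, and j = (t, s) : R → U ×_S U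
is quasi-finite (locally quasi-finite and locally of finite type). Then (t, s) has a coequalizer p :
U → Y in schemes together with q : Y → S through which U → S factors; p is surjective, open, proper
and of finite presentation, q is separated and of finite presentation; R → U ×_Y U is surjective;
and if j is a monomorphism then R ≅ U ×_Y U and p is flat. -/
theorem result (S : Scheme.{u}) [IsLocallyNoetherian S] (G : Grpd.GroupoidScheme S)
    [IsProper G.s] [Flat G.s] (n : ℕ) (e : G.U ⟶ CohB1.ProjSpaceOver n S) [IsImmersion e]
    (he : e ≫ CohB1.ProjSpaceOver.toBase n S = G.pU) [LocallyQuasiFinite G.j] [LocallyOfFiniteType G.j] :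
    ∃ (Y : Scheme.{u}) (p : G.U ⟶ Y) (w : G.t ≫ p = G.s ≫ p) (q : Y ⟶ S),
      Nonempty (IsColimit (Cofork.ofπ p w)) ∧ p ≫ q = G.pU ∧ Surjective p ∧ IsOpenMap p.base ∧ IsProper p ∧
      LocallyOfFinitePresentation p ∧ IsSeparated q ∧ LocallyOfFinitePresentation q ∧ QuasiCompact q ∧
      Function.Surjective (pullback.lift G.t G.s w).base ∧
      (Mono G.j → IsPullback G.t G.s p p ∧ Flat p) := by
  haveI : IsProper (CohB1.ProjSpace.toSpec n (ULift.{u} ℤ)) := Groth.Agent.PnCoh.Chow.isProper_toSpec n _
  haveI : IsLocallyNoetherian (CohB1.ProjSpaceOver n S) := by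
    haveI : LocallyOfFiniteType (CohB1.ProjSpaceOver.toBase n S) := inferInstanceAs (LocallyOfFiniteType (pullback.snd _ _))
    exact LocallyOfFiniteType.isLocallyNoetherian (CohB1.ProjSpaceOver.toBase n S)
  haveI : LocallyOfFiniteType e := inferInstance
  haveI : IsLocallyNoetherian G.U := LocallyOfFiniteType.isLocallyNoetherian e
  haveI : LocallyOfFiniteType G.pU := by
    rw [← he]
    exact inferInstanceAs (LocallyOfFiniteType (e ≫ pullback.snd _ _))
  obtain ⟨Y, p, w, q, hcol, hq, hsurj, hopen, huc, hlift, hmono, hlft⟩ :=
    Groth.Agent.GrpQLib.exists_quotient G e he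
  haveI := hlft inferInstance inferInstance
  haveI := hsurj
  haveI := huc
  haveI : IsLocallyNoetherian Y := LocallyOfFiniteType.isLocallyNoetherian q
  haveI : QuasiCompact e := quasiCompact_of_immersion e
  haveI : QuasiCompact G.pU := by
    rw [← he]
    exact inferInstanceAs (QuasiCompact (e ≫ pullback.snd _ _))
  haveI hsU : IsSeparated G.pU := by
    rw [← he]
    exact inferInstanceAs (IsSeparated (e ≫ pullback.snd _ _))
  haveI : IsSeparated (p ≫ q) := by rw [hq]; infer_instance
  haveI : LocallyOfFiniteType (p ≫ q) := by rw [hq]; infer_instance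
  haveI : QuasiCompact (p ≫ q) := by rw [hq]; infer_instance
  haveI : IsSeparated p := IsSeparated.of_comp p q
  haveI : LocallyOfFiniteType p := locallyOfFiniteType_of_comp p q
  haveI : QuasiCompact p := inferInstance
  have hprop : IsProper p := {}
  haveI : IsIso G.i := ⟨G.i, Groth.Agent.GrpdLib.i_i G, Groth.Agent.GrpdLib.i_i G⟩
  haveI : IsProper G.t := by rw [← G.i_s]; infer_instance
  refine ⟨Y, p, w, q, hcol, hq, hsurj, hopen, hprop, inferInstance, ?_, inferInstance,
    Groth.Agent.AlgSpLib.quasiCompact_of_comp_surjective p q, hlift, hmono⟩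
  let m : pullback G.pU G.pU ⟶ pullback q q := pullback.map _ _ _ _ p p (𝟙 S) (by simp [hq]) (by simp [hq])
  haveI : Surjective m := MorphismProperty.pullbackMap (P := @Surjective) ‹_› ‹_› (e₁ := hq.symm) (e₂ := hq.symm)
  haveI : IsProper (G.j ≫ pullback.snd G.pU G.pU) := by
    rw [Grpd.GroupoidScheme.j, pullback.lift_snd]; infer_instance
  haveI : IsProper G.j := IsProper.of_comp G.j (pullback.snd G.pU G.pU)
  have hr : m ⁻¹' Set.range (pullback.diagonal q) = Set.range G.j := by
    ext z
    constructor
    · rintro ⟨y, hy⟩
      have e1 : p (pullback.fst G.pU G.pU z) = y := by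
        have h1 : pullback.fst q q (m z) = y := by
          rw [← hy, ← Scheme.Hom.comp_apply, pullback.diagonal_fst]; rfl
        rw [← h1, ← Scheme.Hom.comp_apply, ← Scheme.Hom.comp_apply]
        simp [m]
      obtain ⟨x, hx⟩ : ∃ x, (pullback.fst G.pU G.pU ≫ p) z = x := ⟨_, rfl⟩
      -- the fibre of the diagonal is covered by the arrows
      let κ : pullback p p ⟶ pullback G.pU G.pU :=
        pullback.map _ _ _ _ (𝟙 _) (𝟙 _) q (by simp [hq]) (by simp [hq])
      have hκ : IsPullback κ (pullback.fst p p ≫ p) m (pullback.diagonal q) := by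
        refine ⟨⟨?_⟩, ⟨PullbackCone.IsLimit.mk _ (fun c => pullback.lift (c.fst ≫ pullback.fst _ _)
          (c.fst ≫ pullback.snd _ _) ?_) ?_ ?_ ?_⟩⟩
        · apply pullback.hom_ext <;> simp [κ, m, pullback.condition]
        · have h1 := congrArg (fun φ => φ ≫ pullback.fst q q) c.condition
          have h2 := congrArg (fun φ => φ ≫ pullback.snd q q) c.condition
          simp [m] at h1 h2
          simp [h1, h2]
        · intro c
          apply pullback.hom_ext <;> simp [κ]
        · intro c
          have h1 := congrArg (fun φ => φ ≫ pullback.fst q q) c.condition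
          simp [m] at h1
          simp [h1]
        · intro c f hf1 hf2
          apply pullback.hom_ext
          · have := congrArg (fun φ => φ ≫ pullback.fst G.pU G.pU) hf1
            simpa [κ] using this
          · have := congrArg (fun φ => φ ≫ pullback.snd G.pU G.pU) hf1
            simpa [κ] using this
      obtain ⟨v, hv, -⟩ := Scheme.exists_preimage_of_isPullback hκ z y hy.symm
      obtain ⟨r, hr⟩ := hlift v
      refine ⟨r, ?_⟩
      rw [← hv, ← hr, ← Scheme.Hom.comp_apply]
      refine congrArg (fun φ : G.R ⟶ _ => φ r) ?_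
      apply pullback.hom_ext <;> simp [κ, Grpd.GroupoidScheme.j]
    · rintro ⟨r, rfl⟩
      refine ⟨p (G.s r), ?_⟩
      rw [← Scheme.Hom.comp_apply, ← Scheme.Hom.comp_apply, ← Scheme.Hom.comp_apply]
      refine congrArg (fun φ : G.R ⟶ _ => φ r) ?_
      apply pullback.hom_ext <;> simp [m, Grpd.GroupoidScheme.j, w]
  haveI : UniversallyClosed m := MorphismProperty.pullbackMap (P := @UniversallyClosed) ‹_› ‹_› (e₁ := hq.symm) (e₂ := hq.symm)
  haveI : IsImmersion (pullback.diagonal q) := inferInstance
  have hcl : IsClosed (Set.range (pullback.diagonal q)) := by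
    rw [← Set.image_preimage_eq (Set.range (pullback.diagonal q)) m.surjective, hr]
    exact m.isClosedMap _ G.j.isClosedMap.isClosed_range
  exact ⟨IsClosedImmersion.of_isPreimmersion _ hcl⟩

end Groth.Agent.S4088
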