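import Groth.Statements.S4090
import Groth.Agent.GrpQLib.ProperQuot
import Groth.Agent.SrcDescent.SchemeFppf

set_option autoImplicit false
set_option backward.isDefEq.respectTransparency false
set_option backward.isDefEq.respectTransparency.types false
universe u
open CategoryTheory MonoidalCategory CartesianMonoidalCategory MonObj GrpObj AlgebraicGeometry CategoryTheory.Limits
open GrpQ

namespace Groth.Agent.S4090

/-- With the object scheme assumed to admit an S-immersion into some P^n_S, a special case of
quasi-projective: let S be any scheme and (U, R, s, t, c) a groupoid scheme over S with U → S of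
finite presentation, U admitting a quasi-compact immersion into P^n_S over S, s proper, flat and of
finite presentation, and j = (t, s) quasi-finite. Then (t, s) has a coequalizer p : U → Y in schemes
with q : Y → S factoring U → S; p is surjective, open and universally closed; R → U ×_Y U is
surjective; and if j is a monomorphism then R ≅ U ×_Y U, p is flat and of finite presentation and q
is of finite presentation. -/
theorem result (S : Scheme.{u}) (G : Grpd.GroupoidScheme S)
    [LocallyOfFinitePresentation G.pU] [QuasiCompact G.pU] [QuasiSeparated G.pU]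
    (n : ℕ) (e : G.U ⟶ CohB1.ProjSpaceOver n S) [IsImmersion e] [QuasiCompact e]
    (he : e ≫ CohB1.ProjSpaceOver.toBase n S = G.pU)
    [IsProper G.s] [Flat G.s] [LocallyOfFinitePresentation G.s] [LocallyQuasiFinite G.j] [LocallyOfFiniteType G.j] :
    ∃ (Y : Scheme.{u}) (p : G.U ⟶ Y) (w : G.t ≫ p = G.s ≫ p) (q : Y ⟶ S),
      Nonempty (IsColimit (Cofork.ofπ p w)) ∧ p ≫ q = G.pU ∧ Surjective p ∧ IsOpenMap p.base ∧ UniversallyClosed p ∧
      Function.Surjective (pullback.lift G.t G.s w).base ∧
      (Mono G.j → IsPullback G.t G.s p p ∧ Flat p ∧ LocallyOfFinitePresentation p ∧ QuasiCompact p ∧ QuasiSeparated p ∧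
        LocallyOfFinitePresentation q ∧ QuasiCompact q ∧ QuasiSeparated q) := by
  obtain ⟨Y, p, w, q, hcol, hq, hsurj, hopen, huc, hlift, hmono, -⟩ :=
    Groth.Agent.GrpQLib.exists_quotient G e he
  refine ⟨Y, p, w, q, hcol, hq, hsurj, hopen, huc, hlift, fun hm => ?_⟩
  obtain ⟨hpb, hflat⟩ := hmono hm
  haveI := hsurj
  haveI := huc
  haveI := hflat
  haveI : LocallyOfFiniteType (p ≫ q) := by rw [hq]; infer_instance
  haveI : QuasiSeparated (p ≫ q) := by rw [hq]; infer_instance
  haveI : QuasiCompact (p ≫ q) := by rw [hq]; infer_instance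
  haveI : LocallyOfFinitePresentation (p ≫ q) := by rw [hq]; infer_instance
  haveI : QuasiCompact p := inferInstance
  haveI : QuasiSeparated p := QuasiSeparated.of_comp p q
  haveI : IsIso G.i := ⟨G.i, Groth.Agent.GrpdLib.i_i G, Groth.Agent.GrpdLib.i_i G⟩
  haveI hlp : LocallyOfFinitePresentation p :=
    MorphismProperty.of_isPullback_of_descendsAlong (P := @LocallyOfFinitePresentation)
      (Q := (@Surjective ⊓ @Flat ⊓ @QuasiCompact : MorphismProperty Scheme.{u}))
      hpb.flip ⟨⟨hsurj, hflat⟩, inferInstance⟩ inferInstance
  exact ⟨hpb, hflat, hlp, inferInstance, inferInstance,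
    Groth.Agent.SrcDescent.locallyOfFinitePresentation_of_fppf_comp p q,
    Groth.Agent.AlgSpLib.quasiCompact_of_comp_surjective p q, Groth.Agent.SrcDescent.quasiSeparated_of_comp_surjective p q⟩

end Groth.Agent.S4090
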