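import Groth.Statements.S4128
import Groth.Agent.ExtUnipLib.Main
-- import your own Groth.Agent.* helpers here

set_option autoImplicit false
set_option backward.isDefEq.respectTransparency false
set_option maxHeartbeats 1000000
set_option linter.style.haveILetI false
universe u
open TensorProduct
open SGA3

namespace Groth.Agent.S4128

/-- In Hopf-algebra form: let k be an algebraically closed field, A a finitely generated commutative
Hopf algebra over k (an algebraic group E) and ψ : B → A an injective bialgebra map from a
diagonalizable Hopf algebra B (a quotient H = Spec B of E of multiplicative type). Let J be the Hopf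
ideal of A generated by the image of the augmentation ideal of B (the kernel U of E → H) and suppose
U = Spec (A/J) is unipotent (every nonzero finite-dimensional representation has a nonzero fixed
vector, the representation-theoretic form of unipotence). Then the extension 1 → U → E → H → 1 is
trivial: there is a bialgebra map r : A → B with r ∘ ψ = id (a group section H → E). -/
theorem result (k : Type u) [Field k] [IsAlgClosed k]
    (A B : Type u) [CommRing A] [HopfAlgebra k A] [Algebra.FiniteType k A] [CommRing B] [HopfAlgebra k B]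
    (hB : SGA3b.IsDiag k B) (ψ : B →ₐc[k] A) (hψ : Function.Injective ψ)
    (J : Ideal A) [J.IsHopfIdeal k] (hJ : J = Ideal.map (ψ : B →+* A) (RingHom.ker (Bialgebra.counitAlgHom k B)))
    (hU : HopfRep.IsUnipotent k (A ⧸ J)) :
    ∃ r : A →ₐc[k] B, r.comp ψ = BialgHom.id k B := by
  obtain ⟨M, _, ⟨e⟩⟩ := hB
  let ψ' : MonoidAlgebra k M →ₐc[k] A := ψ.comp (e.symm : MonoidAlgebra k M →ₐc[k] B)
  have hJ' : J = Ideal.map (ψ' : MonoidAlgebra k M →+* A)
      (RingHom.ker (Bialgebra.counitAlgHom k (MonoidAlgebra k M))) := by
    rw [hJ]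
    refine le_antisymm (Ideal.map_le_iff_le_comap.mpr fun b hb => ?_) (Ideal.map_le_iff_le_comap.mpr fun b hb => ?_)
    · have h : Bialgebra.counitAlgHom k (MonoidAlgebra k M) (e b) = 0 :=
        (CoalgHomClass.counit_comp_apply (e : B →ₐc[k] MonoidAlgebra k M) b).trans hb
      have h2 := Ideal.mem_map_of_mem (ψ' : MonoidAlgebra k M →+* A) (RingHom.mem_ker.mpr h)
      show ψ b ∈ Ideal.map (ψ' : MonoidAlgebra k M →+* A) (RingHom.ker (Bialgebra.counitAlgHom k (MonoidAlgebra k M)))
      rw [show ψ b = ψ (e.symm (e b)) from congrArg ψ (e.toEquiv.symm_apply_apply b).symm]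
      exact h2
    · exact Ideal.mem_map_of_mem (ψ : B →+* A) (RingHom.mem_ker.mpr
        ((CoalgHomClass.counit_comp_apply (e.symm : MonoidAlgebra k M →ₐc[k] B) b).trans hb))
  obtain ⟨r, hr⟩ := Groth.Agent.ExtUnipLib.exists_retraction ψ' (hψ.comp e.symm.injective) J hJ' hU
  refine ⟨(e.symm : MonoidAlgebra k M →ₐc[k] B).comp r, BialgHom.ext fun b => ?_⟩
  show e.symm (r (ψ b)) = b
  have h := hr (e b)
  rw [show ψ' (e b) = ψ b from congrArg ψ (e.toEquiv.symm_apply_apply b)] at h
  rw [h]
  exact e.toEquiv.symm_apply_apply b

end Groth.Agent.S4128
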