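import Groth.Statements.S4131
import Groth.Agent.GrpSchLib.RankOneCommThm

set_option autoImplicit false
set_option linter.style.haveILetI false
universe u
open CategoryTheory MonoidalCategory CartesianMonoidalCategory MonObj GrpObj AlgebraicGeometry CategoryTheory.Limits
open Red

namespace Groth.Agent.S4131

/-- Let G be an S-group scheme, i : T → G a subtorus, α : T → 𝔾_m a character which is non-trivial on
every geometric fibre, and p₊, p₋ : 𝔾_a → G homomorphisms which are monomorphisms normalised by T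
with multipliers α and α⁻¹ (i(t) p₊(x) i(t)⁻¹ = p₊(α(t)x), i(t) p₋(y) i(t)⁻¹ = p₋(α(t)⁻¹y)). Assume
(i) the morphism 𝔾_a ×_S T ×_S 𝔾_a → G, (y, t, x) ↦ p₋(y)·i(t)·p₊(x), is an open immersion, with
image Ω, and (ii) on every geometric fibre the images of p₊ and p₋ do not commute. Then there is
exactly one pair (a, α*) consisting of an S-point a of 𝔾_m and a homomorphism α* : 𝔾_m → T such that
for every S-scheme X and all points x, y of 𝔾_a with values in X: p₊(x)p₋(y) lies in Ω if and only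
if 1 + a·x·y is a unit (as a function on X), and in that case p₊(x)p₋(y) = p₋(y')·i(α*(z))·p₊(x')
where z = 1 + axy, y'·z = y and x'·z = x; moreover α ∘ α* is the squaring map of 𝔾_m. -/
theorem result (S : Scheme.{u}) (G T : Over S) [GrpObj G] [GrpObj T] (i : T ⟶ G)
    [IsMonHom i] [Mono i] (hT : Red.IsTorus T) (α : T ⟶ Red.Gm S) [IsMonHom α]
    (hα : ∀ s : S, (Over.pullback (Red.geomPt s)).map α ≠ 1)
    (pp pm : Red.Ga S ⟶ G) [IsMonHom pp] [Mono pp] [IsMonHom pm] [Mono pm]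
    (hpp : ∀ (X : Over S) (t : X ⟶ T) (x : X ⟶ Red.Ga S), ∃ x' : X ⟶ Red.Ga S,
      x' ≫ pp = (t ≫ i) * (x ≫ pp) * (t ≫ i)⁻¹ ∧ Red.gaFn x' = Red.gmFn (t ≫ α) * Red.gaFn x)
    (hpm : ∀ (X : Over S) (t : X ⟶ T) (y : X ⟶ Red.Ga S), ∃ y' : X ⟶ Red.Ga S,
      y' ≫ pm = (t ≫ i) * (y ≫ pm) * (t ≫ i)⁻¹ ∧ Red.gaFn y' * Red.gmFn (t ≫ α) = Red.gaFn y)
    (hΩ : IsOpenImmersion (((pm ⊗ₘ i) ⊗ₘ pp) ≫ (μ[G] ▷ G) ≫ μ[G]).left)
    (hnc : ∀ s : S, ∃ (X : Over (Spec (CommRingCat.of (AlgebraicClosure (S.residueField s)))))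
      (x y : X ⟶ Red.bc (Red.geomPt s) (Red.Ga S)),
      (x ≫ (Over.pullback (Red.geomPt s)).map pp) * (y ≫ (Over.pullback (Red.geomPt s)).map pm) ≠
        (y ≫ (Over.pullback (Red.geomPt s)).map pm) * (x ≫ (Over.pullback (Red.geomPt s)).map pp)) :
    ∃! q : (𝟙_ (Over S) ⟶ Red.Gm S) × (Red.Gm S ⟶ T), IsMonHom q.2 ∧ q.2 ≫ α = (𝟙 (Red.Gm S)) ^ 2 ∧
      ∀ (X : Over S) (x y : X ⟶ Red.Ga S),
        ((∃ w : X ⟶ (Red.Ga S ⊗ T) ⊗ Red.Ga S, w ≫ (((pm ⊗ₘ i) ⊗ₘ pp) ≫ (μ[G] ▷ G) ≫ μ[G]) = (x ≫ pp) * (y ≫ pm)) ↔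
          IsUnit (1 + Red.gmFn (toUnit X ≫ q.1) * Red.gaFn x * Red.gaFn y)) ∧
        (IsUnit (1 + Red.gmFn (toUnit X ≫ q.1) * Red.gaFn x * Red.gaFn y) →
          ∃ (x' y' : X ⟶ Red.Ga S) (z : X ⟶ Red.Gm S),
            Red.gmFn z = 1 + Red.gmFn (toUnit X ≫ q.1) * Red.gaFn x * Red.gaFn y ∧
            Red.gaFn x' * Red.gmFn z = Red.gaFn x ∧ Red.gaFn y' * Red.gmFn z = Red.gaFn y ∧
            (x ≫ pp) * (y ≫ pm) = (y' ≫ pm) * (z ≫ q.2 ≫ i) * (x' ≫ pp)) := by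
  let H : GrpSchLib.RankOneComm.Hyp i α pp pm :=
    ⟨hT, inferInstance, inferInstance, inferInstance, inferInstance, hα, hpp, hpm, hΩ⟩
  refine GrpSchLib.RankOneComm.existsUnique_coroot H fun A _ b => ?_
  refine GrpSchLib.RankOneComm.isUnit_of_geom _ fun K _ _ φ h0 => ?_
  rw [← GrpSchLib.RankOneComm.coef_res H φ (b := b) rfl] at h0
  let bK := Spec.map (CommRingCat.ofHom φ) ≫ b
  let s := bK (IsLocalRing.closedPoint K)
  obtain ⟨φ₀, hφ₀⟩ : ∃ φ₀ : S.residueField s →+* K, bK = Spec.map (CommRingCat.ofHom φ₀) ≫ S.fromSpecResidueField s :=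
    ⟨(Scheme.descResidueField (Scheme.stalkClosedPointTo bK)).hom,
      (Scheme.descResidueField_stalkClosedPointTo_fromSpecResidueField (K := K) (X := S) bK).symm⟩
  let : Algebra (S.residueField s) K := φ₀.toAlgebra
  let ψ : AlgebraicClosure (S.residueField s) →ₐ[S.residueField s] K := IsAlgClosed.lift
  let q : Spec (CommRingCat.of (AlgebraicClosure (S.residueField s))) ⟶ S := Red.geomPt s
  have hb : Spec.map (CommRingCat.ofHom ψ.toRingHom) ≫ q = bK := by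
    rw [hφ₀]
    show Spec.map _ ≫ Spec.map _ ≫ _ = _
    rw [← Category.assoc, ← Spec.map_comp, ← CommRingCat.ofHom_comp]
    congr 3
    exact RingHom.ext fun r => ψ.commutes r
  have hq : GrpSchLib.RankOneComm.coef H q = 0 := ψ.toRingHom.injective (by
    rw [map_zero, ← GrpSchLib.RankOneComm.coef_res H ψ.toRingHom hb]
    exact h0)
  obtain ⟨X, x, y, hne⟩ := hnc s
  apply hne
  apply (DSPtsLib.theta_bijective q).injective
  rw [DSPtsLib.theta_mul, DSPtsLib.theta_mul, GrpSchLib.RankOne.theta_map, GrpSchLib.RankOne.theta_map]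
  refine GrpSchLib.RankOne.ext_spec fun C bC j => ?_
  simp only [MonObj.comp_mul, ← Category.assoc]
  rw [← GrpSchLib.RankOneComm.pt_val (A := C) bC (j ≫ DSPtsLib.theta q x),
    ← GrpSchLib.RankOneComm.pt_val (A := C) bC (j ≫ DSPtsLib.theta q y)]
  refine GrpSchLib.RankOneComm.comm_of_coef_eq_zero H q hq (C := C) (Spec.preimage (j.left ≫ X.hom)).hom bC ?_ _ _
  rw [CommRingCat.ofHom_hom, Spec.map_preimage, Category.assoc]
  exact Over.w j

end Groth.Agent.S4131
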