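import Groth.Statements.S4136
import Groth.Agent.GModLib.RedRankOpen

set_option autoImplicit false
universe u
open CategoryTheory MonoidalCategory CartesianMonoidalCategory MonObj GrpObj AlgebraicGeometry CategoryTheory.Limits
open SGA3x

set_option backward.isDefEq.respectTransparency false
set_option backward.isDefEq.respectTransparency.types false

namespace Groth.Agent.S4136

/-- First assertion: let G be an S-group scheme which is affine and smooth over S. Then the reductive
rank of the geometric fibres (the dimension of their maximal tori) is a lower semicontinuous
function on S: for every n the set of points whose geometric fibre has a maximal torus of dimension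
≥ n is open. (The source also proves that the nilpotent rank is upper semicontinuous.) -/
theorem result (S : Scheme.{u}) (G : Over S) [GrpObj G] [IsAffineHom G.hom] [Smooth G.hom] (n : ℕ) :
    IsOpen {s : S | ∃ r : WithBot ℕ∞, SGA3x.HasRedRank G s r ∧ (n : WithBot ℕ∞) ≤ r} := by
    rw [isOpen_iff_forall_mem_open]
    rintro s ⟨r₀, h₀, hn⟩
    obtain ⟨U, hU, hs, hle⟩ := Groth.Agent.GModLib.exists_open_redRank_ge G s h₀
    refine ⟨U, fun t ht => ?_, hU, hs⟩
    obtain ⟨r, hr, hr'⟩ := hle t ht
    exact ⟨r, hr, hn.trans hr'⟩

end Groth.Agent.S4136
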