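import Groth.Statements.S4150
import Groth.Agent.GrpQuotLib.Group
import Groth.Agent.GrpSchLib.CommCat

set_option autoImplicit false
universe u
open CategoryTheory MonoidalCategory CartesianMonoidalCategory MonObj GrpObj AlgebraicGeometry CategoryTheory.Limits
open SGA3

namespace Groth.Agent.S4150

/-- Let k be a field. The category of commutative algebraic k-groups (commutative group objects in
k-schemes whose underlying scheme is of finite type over k, as a full subcategory of commutative
group objects over Spec k) is an abelian category. -/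
theorem result (k : Type u) [Field k] :
    Nonempty (Abelian (ObjectProperty.FullSubcategory
      (fun G : CommGrp (Over (Spec (CommRingCat.of k))) => LocallyOfFiniteType G.X.hom ∧ QuasiCompact G.X.hom))) := by
  refine Groth.Agent.GrpSchLib.CommCat.nonempty_abelian ⟨fun G h => h, fun G N _ _ i _ hG hi => ?_, ?_, fun G H hG hH => ?_,
    fun G N i hG hN hi => ?_⟩
  · haveI := hG.1; haveI := hG.2
    exact ⟨show LocallyOfFiniteType N.hom by rw [← Over.w i]; infer_instance,
      show QuasiCompact N.hom by rw [← Over.w i]; infer_instance⟩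
  · exact ⟨inferInstanceAs (LocallyOfFiniteType (𝟙 (Spec (CommRingCat.of k)))),
      inferInstanceAs (QuasiCompact (𝟙 (Spec (CommRingCat.of k))))⟩
  · haveI := hG.1; haveI := hG.2; haveI := hH.1; haveI := hH.2
    exact ⟨inferInstanceAs (LocallyOfFiniteType (pullback.fst G.X.hom H.X.hom ≫ G.X.hom)),
      inferInstanceAs (QuasiCompact (pullback.fst G.X.hom H.X.hom ≫ G.X.hom))⟩
  · haveI := hG.1; haveI := hG.2; haveI := hN.1; haveI := hN.2
    let j : N.X ⟶ G.X := i.hom.hom.hom
    haveI : IsMonHom j := i.hom.hom.isMonHom_hom
    haveI : IsClosedImmersion j.left := hi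
    haveI : Mono j := (Over.forget _).mono_of_mono_map (inferInstanceAs (Mono j.left))
    obtain ⟨Q, _, q, hq, h1, h2, -, h4, -, h6⟩ := Groth.Agent.GrpQuotLib.exists_quotientGrp j
      (fun T g n => ⟨n, by rw [_root_.mul_comm g, mul_inv_cancel_right]⟩)
    haveI := hq; haveI := h1; haveI := h2; haveI := h4
    have h5 : QuasiCompact Q.hom := by
      rw [HasAffineProperty.iff_of_isAffine (P := @QuasiCompact)]
      haveI : CompactSpace G.X.left := QuasiCompact.compactSpace_of_compactSpace G.X.hom
      exact q.left.surjective.compactSpace q.left.continuous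
    haveI : IsCommMonObj Q := Groth.Agent.GrpSchLib.CommCat.isCommMonObj_of_flat_surjective q
    exact ⟨CommGrp.mk Q, InducedCategory.homMk (Grp.homMk (A := G.toGrp) (B := (CommGrp.mk Q).toGrp) q),
      ⟨h4, h5⟩, h1, h2, h6⟩

end Groth.Agent.S4150
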