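import Groth.Statements.S4273
import Groth.Agent.ResPerf7.Ample

set_option autoImplicit false
set_option backward.isDefEq.respectTransparency false
set_option backward.isDefEq.respectTransparency.types false
set_option maxHeartbeats 1000000
universe u
open CategoryTheory CategoryTheory.Limits AlgebraicGeometry
attribute [local instance] HasDerivedCategory.standard
open KSix

namespace Groth.Agent.S4273

open Groth.Agent.ResPerf7 Groth.Agent.KFlatLib in
open scoped ZeroObject in
theorem main (X : Scheme.{u}) {ι : Type u} (L : ι → X.Modules)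
    (hL : KSix.IsAmpleFamily L) (E : DCoh.D X) (m n : ℤ) (hE : KSix.HasPerfectAmplitudeIn m n E) :
    ∃ F : CochainComplex X.Modules ℤ, DCoh.VanishesOutside F m n ∧ (∀ i : ℤ, m < i → KSix.InAddL L (F.X i)) ∧
      FlatMod.IsFinLocFree (F.X m) ∧ Nonempty (DCoh.toD X F ≅ E) := by
  haveI := hL.1
  haveI := hL.2.1
  have hX : PerfAux.HasResolutionProperty X := fun M hM hft => by
    obtain ⟨P, π, -, hP, hπ⟩ := Groth.Agent.AmpleFam7.exists_epi hL M hM hft
    exact ⟨P, π, hP, hπ⟩
  let K := DerivedCategory.Q.objPreimage E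
  let eK : DCoh.toD X K ≅ E := DerivedCategory.Q.objObjPreimageIso E
  have hrep : ∀ x : X, ∃ (U : Scheme.{u}) (j : U ⟶ X) (_ : IsOpenImmersion j), x ∈ Set.range j.base ∧
      ∃ P : CochainComplex U.Modules ℤ, DCoh.IsStrictlyPerfect P ∧ DCoh.VanishesOutside P m n ∧
        Nonempty (DerivedCategory.Q.obj P ≅ (rho j).obj E) := fun x => by
    obtain ⟨V, hx, hV⟩ := hE x
    obtain ⟨P, hP, hf, ⟨e⟩⟩ := hV K ⟨eK⟩
    exact ⟨_, V.ι, inferInstance, ⟨⟨x, hx⟩, rfl⟩, P, ⟨⟨m, n, hP⟩, hf⟩, hP,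
      ⟨e.symm ≪≫ ((rhoQ V.ι).app K).symm ≪≫ (rho V.ι).mapIso eK⟩⟩
  have hp : DCoh.IsPerfect E := (isPerfect_iff E).2 fun x => by
    obtain ⟨U, j, hj, hx, P, hP, -, he⟩ := hrep x
    exact ⟨U, j, hj, hx, P, hP, he⟩
  have hhd := isZero_hd_of_reps hrep
  by_cases hmn : m ≤ n
  · haveI : E.IsGE m := (DerivedCategory.isGE_iff _ m).2 fun i hi => hhd i (Or.inl hi)
    obtain ⟨C, hC, hCq, ⟨e⟩⟩ := exists_qcoh_rep hX (PerfGen7.isQCohD_of_isPerfect hp) m
    obtain ⟨G, φ, hG, hGP, hGm, hφ⟩ := exists_resolution_perfect (cover_inAddL hL) hCq hmn hC (fun x => by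
      obtain ⟨U, j, hj, hx, P, hP, hP', ⟨e'⟩⟩ := hrep x
      exact ⟨U, j, hj, hx, P, hP, hP', ⟨e' ≪≫ (rho j).mapIso e.symm⟩⟩)
    haveI := hφ
    exact ⟨G, hG, fun i hi => (hGP i hi).1, hGm, ⟨asIso (DerivedCategory.Q.map φ) ≪≫ e⟩⟩
  · have hz : IsZero E := by
      haveI : E.IsGE (n + 1) := (DerivedCategory.isGE_iff _ _).2 fun i hi => hhd i (by omega)
      haveI : E.IsLE n := (DerivedCategory.isLE_iff _ _).2 fun i hi => hhd i (by omega)
      exact DerivedCategory.TStructure.t.isZero E n (n + 1) (by omega)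
    have h0 : ∀ i, IsZero ((0 : CochainComplex X.Modules ℤ).X i) := fun i =>
      (HomologicalComplex.eval _ _ i).map_isZero (isZero_zero _)
    exact ⟨0, fun i _ => h0 i, fun i _ => ((cover_inAddL hL).zero (h0 i)).1, isFinLocFree_of_isZero (h0 m),
      ⟨(DerivedCategory.Q.map_isZero (isZero_zero _)).iso hz⟩⟩


/-- The converse is immediate): let X be a scheme with an ample family (L_i) of invertible modules, and
assume X separated or Noetherian. If E ∈ D(O_X) has perfect amplitude in [m, n], then E is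
isomorphic in D(O_X) to (the image of) a complex F with F^i = 0 for i outside [m, n], F^i a finite
direct sum of modules L_j^{⊗ -k} (k > 0) for i > m, and F^m finite locally free. -/
theorem result (X : Scheme.{u}) {ι : Type u} (L : ι → X.Modules)
    (hL : KSix.IsAmpleFamily L) (hX : X.IsSeparated ∨ IsNoetherian X)
    (E : DCoh.D X) (m n : ℤ) (hE : KSix.HasPerfectAmplitudeIn m n E) :
    ∃ F : CochainComplex X.Modules ℤ, DCoh.VanishesOutside F m n ∧ (∀ i : ℤ, m < i → KSix.InAddL L (F.X i)) ∧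
      FlatMod.IsFinLocFree (F.X m) ∧ Nonempty (DCoh.toD X F ≅ E) := by
  exact main X L hL E m n hE

end Groth.Agent.S4273
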