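import Groth.Statements.S4274
import Groth.Agent.ResPerf7.Ample

set_option autoImplicit false
set_option backward.isDefEq.respectTransparency false
set_option backward.isDefEq.respectTransparency.types false
set_option maxHeartbeats 1000000
universe u
open CategoryTheory CategoryTheory.Limits AlgebraicGeometry
attribute [local instance] HasDerivedCategory.standard
open KSix

namespace Groth.Agent.S4274

open Groth.Agent.ResPerf7 Groth.Agent.KFlatLib in
theorem main (X : Scheme.{u}) {ι : Type u} (L : ι → X.Modules) (hL : KSix.IsAmpleFamily L)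
    (E : DCoh.D X) (hE : ∀ k : ℤ, DCoh.IsPseudoCoherentD k E) (a b : ℤ) [E.IsGE a] [E.IsLE b] :
    ∃ (F : CochainComplex X.Modules ℤ) (c : ℤ), (∀ i : ℤ, c < i → IsZero (F.X i)) ∧ (∀ i : ℤ, KSix.InAddL L (F.X i)) ∧
      Nonempty (DCoh.toD X F ≅ E) := by
  haveI := hL.1
  haveI := hL.2.1
  have hX : PerfAux.HasResolutionProperty X := fun M hM hft => by
    obtain ⟨P, π, -, hP, hπ⟩ := Groth.Agent.AmpleFam7.exists_epi hL M hM hft
    exact ⟨P, π, hP, hπ⟩
  have hpc : ∀ k, LocPC k E := fun k => (isPseudoCoherentD_iff k E).1 (hE k)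
  obtain ⟨C, hC, hCq, ⟨e⟩⟩ := exists_qcoh_rep hX (fun i => isQCoh_HD_of_pseudoCoherent (hE (i - 1)) i (by omega)) a
  obtain ⟨G, φ, hG, hGb, hφ⟩ := exists_resolution_above (cover_inAddL hL) hCq (b := b)
    (fun k => (hpc k).of_iso e.symm) (hd_bound_of_complex e fun i hi => (DerivedCategory.isLE_iff _ b).1 inferInstance i hi)
  haveI := hφ
  exact ⟨G, b, hGb, fun i => (hG i).1, ⟨asIso (DerivedCategory.Q.map φ) ≪≫ e⟩⟩


/-- Existence of global resolutions: let X be a scheme with an ample family (L_i) of invertible modules,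
and assume X separated or Noetherian. Every pseudo-coherent object E of D(O_X) with bounded
cohomology is isomorphic in D(O_X) to (the image of) a bounded above complex F all of whose terms
are finite direct sums of modules L_j^{⊗ -k} with k > 0. -/
theorem result (X : Scheme.{u}) {ι : Type u} (L : ι → X.Modules)
    (hL : KSix.IsAmpleFamily L) (hX : X.IsSeparated ∨ IsNoetherian X)
    (E : DCoh.D X) (hE : ∀ k : ℤ, DCoh.IsPseudoCoherentD k E) (a b : ℤ) [E.IsGE a] [E.IsLE b] :
    ∃ (F : CochainComplex X.Modules ℤ) (c : ℤ), (∀ i : ℤ, c < i → IsZero (F.X i)) ∧ (∀ i : ℤ, KSix.InAddL L (F.X i)) ∧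
      Nonempty (DCoh.toD X F ≅ E) := by
  exact main X L hL E hE a b

end Groth.Agent.S4274
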