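import Groth.Statements.S4279
import Groth.Agent.InvFam.AlgEq
import Groth.Agent.IntNum.CurveAmple
import Groth.Agent.EulerConst.Tau

set_option autoImplicit false
set_option backward.isDefEq.respectTransparency false
set_option backward.isDefEq.respectTransparency.types false
set_option linter.style.haveILetI false
set_option maxHeartbeats 800000
universe u
open CategoryTheory CategoryTheory.Limits AlgebraicGeometry
open Pic13

namespace Groth.Agent.S4279

/-- Let k be an algebraically closed field, X a proper k-scheme carrying an ample invertible module H,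
and L an invertible O_X-module with inverse L' (L ⊗ L' ≅ O_X). If L^{⊗ m} ⊗ H and L'^{⊗ m} ⊗ H are
ample for every m ≥ 0 (that is, L^{⊗ m}(1) is ample for every integer m), then L is τ-equivalent to
zero. -/
theorem result (k : Type u) [Field k] [IsAlgClosed k] (X : Scheme.{u}) [X.Over (Spec (CommRingCat.of k))]
    [IsProper (X ↘ Spec (CommRingCat.of k))]
    (H : X.Modules) (hH : CohB1.IsAmple H) (L L' : X.Modules) (hL : PicF.IsInvertible L)
    (hLL' : Nonempty (CohB1.tensorMod L L' ≅ Coh.structureModule X))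
    (hamp : ∀ m : ℕ, CohB1.IsAmple (CohB1.tensorMod (CohB1.tensorPow L m) H) ∧ CohB1.IsAmple (CohB1.tensorMod (CohB1.tensorPow L' m) H)) :
    Pic13.IsTauEquivZero k X L := by
  open Groth.Agent.H23.PicMul in
  refine InvFam.isTauEquivZero_of_numTriv hH hL fun Y i _ hY hdim => ?_
  haveI := hY
  letI : Y.Over (Spec (CommRingCat.of k)) := ⟨i ≫ (X ↘ Spec (CommRingCat.of k))⟩
  haveI : IsProper (Y ↘ Spec (CommRingCat.of k)) := inferInstanceAs (IsProper (i ≫ (X ↘ Spec (CommRingCat.of k))))
  open Groth.Agent.H23.PicMul in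
  have uL : PicF.cl L * PicF.cl L' = 1 := cl_eq_iff.2 hLL'
  open Groth.Agent.H23.PicMul in
  have hL' : PicF.IsInvertible L' := by
    obtain ⟨D, hD, eD⟩ := H23.PicInv.exists_inverse hL
    exact isInvertible_of_iso (cl_eq_iff.1 ((isUnit_cl hL).mul_left_cancel ((cl_eq_iff.2 eD).trans uL.symm))).some hD
  let P := fun G : X.Modules => (Scheme.Modules.pullback i).obj G
  have hP : ∀ {G : X.Modules}, PicF.IsInvertible G → PicF.IsInvertible (P G) := fun h => PicClLib.isInvertible_pullback i h
  have key : ∀ (G : X.Modules) (m : ℕ), PicF.IsInvertible G →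
      Curv2.deg k Y (P (CohB1.tensorMod (CohB1.tensorPow G m) H)) 1 = m * Curv2.deg k Y (P G) 1 + Curv2.deg k Y (P H) 1 := by
    intro G m hG
    obtain ⟨e⟩ := IntNum.pullback_tensorPow i G m
    rw [← IntNum.deg_tensorPow k hdim (hP hG) m,
      CurveRR.deg_congr k (IntNum.pullTensor i (CohB1.tensorPow G m) H ≪≫ PicGrp.tensorModIso e (Iso.refl _)) 1]
    exact CurveRR.deg_tensor k hdim (InvX.isInvertible_tensorPow (hP hG) m) (hP hH.1)
  obtain ⟨w⟩ := hLL'
  have hinv : Curv2.deg k Y (P L) 1 + Curv2.deg k Y (P L') 1 = 0 := by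
    refine (CurveRR.deg_tensor k hdim (hP hL) (hP hL')).symm.trans ?_
    refine (CurveRR.deg_congr k ((IntNum.pullTensor i L L').symm ≪≫ (Scheme.Modules.pullback i).mapIso w ≪≫
      CurveBC.unitIso i) 1).trans ?_
    exact CurveDeg.deg_structureModule k
  let h := (Curv2.deg k Y (P H) 1).toNat
  have hH0 := IntNum.deg_pos_of_isAmple k i hdim hH
  have h1 := IntNum.deg_pos_of_isAmple k i hdim (hamp h).1
  have h2 := IntNum.deg_pos_of_isAmple k i hdim (hamp h).2
  change 0 < Curv2.deg k Y (P (CohB1.tensorMod (CohB1.tensorPow L h) H)) 1 at h1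
  change 0 < Curv2.deg k Y (P (CohB1.tensorMod (CohB1.tensorPow L' h) H)) 1 at h2
  change 0 < Curv2.deg k Y (P H) 1 at hH0
  rw [key L h hL] at h1
  rw [key L' h hL'] at h2
  have hh : (h : ℤ) = Curv2.deg k Y (P H) 1 := Int.toNat_of_nonneg hH0.le
  rw [hh] at h1 h2
  have h0 : Curv2.deg k Y (P L) 1 = 0 := by
    have e1 : 0 < Curv2.deg k Y (P L) 1 + 1 := by nlinarith
    have e2 : 0 < Curv2.deg k Y (P L') 1 + 1 := by nlinarith
    omega
  haveI : IsNoetherian Y := CurveCohLib.isNoetherian_of_proper (k := k) (X := Y)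
  have hd : topologicalKrullDim Y ≤ ((1 : ℕ) : WithBot ℕ∞) := by rw [Nat.cast_one]; exact hdim.le
  show FGA.eulerCharLE k Y (P L) 1 - FGA.eulerCharLE k Y (Coh.structureModule Y) 1 = 0
  rw [← EulerConst.euler_eq_eulerCharLE k 1 hd (CurveDeg.isCoh_of_isInvertible (hP hL)).1,
    ← EulerConst.euler_eq_eulerCharLE k 1 hd (QCoh.isCoh_structureModule' (X := Y)).1]
  refine Eq.trans ?_ h0
  simp [Curv2.deg]

end Groth.Agent.S4279
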