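import Groth.Statements.S4280
import Groth.Agent.EulerConst.Tau
import Groth.Agent.S7749
import Groth.Agent.FlatMisc.DimConstr
import Groth.Agent.H23.Seesaw
import Groth.Agent.RefX2.Tensor

set_option autoImplicit false
set_option backward.isDefEq.respectTransparency false
set_option backward.isDefEq.respectTransparency.types false
set_option maxHeartbeats 1000000
set_option linter.style.haveILetI false
universe u
open CategoryTheory CategoryTheory.Limits AlgebraicGeometry
open Pic13

namespace Groth.Agent.S4280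

open Groth.Agent Groth.Agent.H23 Groth.Agent.H23.PicMul
open scoped Groth.Agent.H23.PicMul

/-- Let k be an algebraically closed field, X a proper k-scheme carrying an ample invertible module H,
and L an invertible O_X-module, with inverse L', which is τ-equivalent to zero. Then L^{⊗ m} ⊗ H and
L'^{⊗ m} ⊗ H are ample for every m ≥ 0. -/
theorem result (k : Type u) [Field k] [IsAlgClosed k] (X : Scheme.{u}) [X.Over (Spec (CommRingCat.of k))]
    [IsProper (X ↘ Spec (CommRingCat.of k))]
    (H : X.Modules) (hH : CohB1.IsAmple H) (L L' : X.Modules) (hL : PicF.IsInvertible L)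
    (hLL' : Nonempty (CohB1.tensorMod L L' ≅ Coh.structureModule X)) (hτ : Pic13.IsTauEquivZero k X L) (m : ℕ) :
    CohB1.IsAmple (CohB1.tensorMod (CohB1.tensorPow L m) H) ∧ CohB1.IsAmple (CohB1.tensorMod (CohB1.tensorPow L' m) H) := by
  haveI : IsNoetherian X := CurveCohLib.isNoetherian_of_proper (k := k) (X := X)
  obtain ⟨d, hd⟩ : ∃ d : ℕ, topologicalKrullDim ↥X ≤ d := by
    let f := X ↘ Spec (CommRingCat.of k)
    haveI : LocallyOfFinitePresentation f := inferInstance
    obtain ⟨d, hd⟩ := FlatMisc.DimConstr.exists_dim_le f (IsLocalRing.closedPoint k)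
    refine ⟨d, ?_⟩
    have h : f ⁻¹' {IsLocalRing.closedPoint k} = Set.univ := Set.eq_univ_of_forall fun x => Subsingleton.elim _ _
    rw [← ((Homeomorph.setCongr h).trans (Homeomorph.Set.univ X)).isHomeomorph.topologicalKrullDim_eq,
      ← (f.fiberHomeo (IsLocalRing.closedPoint k)).isHomeomorph.topologicalKrullDim_eq]
    exact hd
  have uL : PicF.cl L * PicF.cl L' = 1 := cl_eq_iff.2 hLL'
  have hL' : PicF.IsInvertible L' := by
    obtain ⟨D, hD, eD⟩ := PicInv.exists_inverse hL
    exact isInvertible_of_iso (cl_eq_iff.1 ((isUnit_cl hL).mul_left_cancel ((cl_eq_iff.2 eD).trans uL.symm))).some hD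
  have twist : ∀ (G : X.Modules), PicF.IsInvertible G →
      (∀ F, Coh.IsCoh F → ∀ j : ℕ, FGA.eulerCharLE k X (CohB1.tensorMod F (CohB1.tensorPow G j)) d = FGA.eulerCharLE k X F d) →
      CohB1.IsAmple (CohB1.tensorMod (CohB1.tensorPow G m) H) := by
    intro G hG hinv
    have hGH : PicF.IsInvertible (CohB1.tensorMod (CohB1.tensorPow G m) H) :=
      InvX.isInvertible_tensorMod (InvX.isInvertible_tensorPow (n := m) hG) hH.1
    refine (S7749.result k X _ hGH).2 fun Z _ r hr0 hr P hP => (S7749.result k X H hH.1).1 hH Z r hr0 hr P fun n => ?_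
    rw [← hP n]
    have hA : ∀ (A : X.Modules), PicF.IsInvertible A →
        Coh.IsCoh (CohB1.tensorMod (ClSub.quotMod Z) (CohB1.tensorPow A (∑ i, n i))) := fun A hA =>
      RefX2.isCoh_tensor (ParShLib.isCoh_quotMod Z) (CurveDeg.isCoh_of_isInvertible (InvX.isInvertible_tensorPow (n := ∑ i, n i) hA))
    have hcl : ∀ A : X.Modules, Curv2.euler k X (Curv2.tensorPows (ClSub.quotMod Z) r (fun _ => A) n) =
        Curv2.euler k X (CohB1.tensorMod (ClSub.quotMod Z) (CohB1.tensorPow A (∑ i, n i))) := fun A =>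
      CurveCohLib.euler_congr (k := k) (cl_eq_iff.1 (show PicF.cl _ = PicF.cl _ by
        rw [AVDegPoly.cl_tensorPows, cl_tensor, cl_tensorPow, Finset.prod_pow_eq_pow_sum])).some
    rw [hcl, hcl, EulerConst.euler_eq_eulerCharLE k d hd (hA H hH.1).1, EulerConst.euler_eq_eulerCharLE k d hd (hA _ hGH).1]
    refine congrArg (fun z : ℤ => (z : ℚ)) ((hinv _ (hA H hH.1) (m * ∑ i, n i)).symm.trans ?_)
    refine EulerConst.eulerCharLE_congr k ?_ d
    rw [cl_tensor, cl_tensor, cl_tensor, cl_tensorPow, cl_tensorPow, cl_tensorPow, cl_tensor, cl_tensorPow,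
      mul_pow, ← pow_mul, mul_assoc, mul_comm (PicF.cl H ^ (∑ i, n i))]
  refine ⟨twist L hL fun F hF j => EulerConst.eulerCharLE_tensor_pow_of_tau k d hd hL hτ hF j,
    twist L' hL' fun F hF j => ?_⟩
  rw [← EulerConst.eulerCharLE_tensor_pow_of_tau k d hd hL hτ
    (RefX2.isCoh_tensor hF (CurveDeg.isCoh_of_isInvertible (InvX.isInvertible_tensorPow (n := j) hL'))) j]
  refine EulerConst.eulerCharLE_congr k ?_ d
  rw [cl_tensor, cl_tensor, cl_tensorPow, cl_tensorPow, mul_assoc, ← mul_pow, mul_comm (PicF.cl L'), uL, one_pow, mul_one]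

end Groth.Agent.S4280
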