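import Groth.Statements.S4285
import Groth.Agent.Bounded.TwistOn
-- import your own Groth.Agent.* helpers here

set_option autoImplicit false
set_option backward.isDefEq.respectTransparency false
set_option backward.isDefEq.respectTransparency.types false
set_option linter.style.haveILetI false
set_option maxHeartbeats 800000
universe u
open CategoryTheory CategoryTheory.Limits AlgebraicGeometry
open Pic13

namespace Groth.Agent.S4285

/-- (iii) implies (i), over the base S = Spec k with k algebraically closed: let X ⊆ P^n_k be a closed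
subscheme, m an integer and φ a polynomial. The family of coherent O_X-modules F which are m-regular
(H^q(X, F(m - q)) = 0 for q ≥ 1) and have Hilbert polynomial φ (χ(F(d)) = φ(d) for all integers d)
is bounded. (The source allows a finite set of Hilbert polynomials and a projective X over a
Noetherian base with O_X(1) generated by global sections on the fibres.) -/
theorem result (k : Type u) [Field k] [IsAlgClosed k] (n : ℕ) (X : Scheme.{u}) [X.Over (Spec (CommRingCat.of k))]
    (i : X ⟶ CohB1.ProjSpace n k) [IsClosedImmersion i] (hi : i ≫ CohB1.ProjSpace.toSpec n k = X ↘ Spec (CommRingCat.of k))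
    (m : ℤ) (φ : Polynomial ℚ) :
    Pic13.IsBounded k X (fun F : X.Modules => Coh.IsCoh F ∧ Pic13.IsMRegular k i F m ∧
      ∀ d : ℤ, (FGA.eulerCharLE k X (Pic13.twistOn k i F d) n : ℚ) = φ.eval (d : ℚ)) := by
  classical
  haveI : IsProper ((CohB1.ProjSpace n k) ↘ Spec (CommRingCat.of k)) := PnCoh.Chow.isProper_toSpec n k
  haveI : IsProper (X ↘ Spec (CommRingCat.of k)) := hi ▸ (inferInstance : IsProper (i ≫ ((CohB1.ProjSpace n k) ↘ Spec (CommRingCat.of k))))
  haveI : IsNoetherian (CohB1.ProjSpace n k) := Proj16.isNoetherian_proj _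
  haveI : IsLocallyNoetherian X := LocallyOfFiniteType.isLocallyNoetherian i
  by_cases hφ : ∀ t : ℕ, ∃ z : ℤ, (z : ℚ) = φ.eval (t : ℚ)
  · choose χ₀ hχ₀ using hφ
    refine (((Bounded.isPresented_regular k n m χ₀).restrict i).mono ?_).isBounded
    rintro F ⟨hF, hreg, hχ⟩
    have hP := QCoh.isCoh_pushforward_finite i hF
    refine ⟨hF.1, hP, fun q hq _ => ?_, fun t => ?_⟩
    · obtain ⟨e⟩ := Bounded.nonempty_HH_twistOn i hi hF (m - q) q
      exact @Equiv.subsingleton _ _ e.toEquiv.symm (hreg q hq)
    · have h := hχ (t : ℤ)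
      rw [← Bounded.chi_push_twistOn i hi hF, Int.cast_natCast, ← hχ₀ t] at h
      exact_mod_cast h
  · refine (Bounded.IsPresented.empty.mono ?_).isBounded
    rintro F ⟨-, -, hχ⟩
    exact hφ fun t => ⟨_, (hχ (t : ℤ)).trans (by rw [Int.cast_natCast])⟩

end Groth.Agent.S4285
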