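import Groth.Statements.S4286
import Groth.Agent.Bounded.Family
-- import your own Groth.Agent.* helpers here

set_option autoImplicit false
set_option backward.isDefEq.respectTransparency false
set_option backward.isDefEq.respectTransparency.types false
set_option linter.style.haveILetI false
set_option maxHeartbeats 800000
universe u
open CategoryTheory CategoryTheory.Limits AlgebraicGeometry
open Pic13

namespace Groth.Agent.S4286

/-- (i) implies (iii), over the base S = Spec k with k algebraically closed: let X ⊆ P^n_k be a closed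
subscheme and P a bounded family of coherent O_X-modules. Then there is an integer m such that every
member of P is m-regular, and the Hilbert polynomials d ↦ χ(F(d)) of the members of P form a finite
set. -/
theorem result (k : Type u) [Field k] [IsAlgClosed k] (n : ℕ) (X : Scheme.{u}) [X.Over (Spec (CommRingCat.of k))]
    (i : X ⟶ CohB1.ProjSpace n k) [IsClosedImmersion i] (hi : i ≫ CohB1.ProjSpace.toSpec n k = X ↘ Spec (CommRingCat.of k))
    (P : X.Modules → Prop) (hP : ∀ F, P F → Coh.IsCoh F) (hb : Pic13.IsBounded k X P) :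
    (∃ m : ℤ, ∀ F, P F → Pic13.IsMRegular k i F m) ∧
      ∃ s : Finset (Polynomial ℚ), ∀ F, P F → ∃ φ ∈ s, ∀ d : ℤ, (FGA.eulerCharLE k X (Pic13.twistOn k i F d) n : ℚ) = φ.eval (d : ℚ) := by
  classical
  obtain ⟨m, Φ, hΦ, h⟩ := Bounded.exists_bounds i hi P hP hb
  refine ⟨⟨m, fun F hF q hq => ?_⟩, ?_⟩
  · obtain ⟨e⟩ := Bounded.nonempty_HH_twistOn i hi (hP F hF) (m - q) q
    haveI : IsNoetherian (CohB1.ProjSpace n k) := Proj16.isNoetherian_proj _
    haveI := UnifReg.subsingleton_HH_of_reg (QCoh.isCoh_pushforward_finite i (hP F hF)) (h F hF).1 (i := q) hq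
      (j := m - q) le_rfl
    exact e.toEquiv.subsingleton
  let pick : (ℕ → ℤ) → Polynomial ℚ := fun f =>
    if hf : ∃ φ : Polynomial ℚ, ∀ d : ℕ, (f d : ℚ) = φ.eval (d : ℚ) then hf.choose else 0
  refine ⟨hΦ.toFinset.image pick, fun F hF => ?_⟩
  obtain ⟨φ, hφ⟩ := Bounded.exists_poly_twistOn i hi (hP F hF)
  refine ⟨φ, Finset.mem_image.2 ⟨_, hΦ.mem_toFinset.2 (h F hF).2, ?_⟩, fun d => ?_⟩
  · have hex : ∃ ψ : Polynomial ℚ, ∀ d : ℕ,
        (UnifReg.chi ((Scheme.Modules.pushforward i).obj F) d : ℚ) = ψ.eval (d : ℚ) :=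
      ⟨φ, fun d => by rw [hφ]; simp⟩
    simp only [pick]
    rw [dif_pos hex]
    exact HilbPoly.poly_ext 0 fun d _ => by rw [← hex.choose_spec d, hφ]; simp
  · rw [← Bounded.chi_push_twistOn i hi (hP F hF)]
    exact hφ d

end Groth.Agent.S4286
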