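import Groth.Statements.S4290
import Groth.Agent.HodgeIdx.Irred
import Groth.Agent.S2122

set_option autoImplicit false
set_option backward.isDefEq.respectTransparency false
set_option backward.isDefEq.respectTransparency.types false
set_option maxHeartbeats 1000000
set_option linter.style.haveILetI false
universe u
open CategoryTheory CategoryTheory.Limits AlgebraicGeometry
open Pic13

namespace Groth.Agent.S4290
open Groth.Agent

/-- Let k be an algebraically closed field, X an irreducible proper k-scheme of dimension r = s + 2 ≥ 2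
carrying an ample invertible module H, and L an invertible module with (c₁(L)·c₁(H)^{r-1}) = 0 and
(c₁(L)²·c₁(H)^{r-2}) ≥ 0. Then L is numerically equivalent to zero. Intersection numbers are those
of FGA.intNum, which takes inverses H', L' of H, L as arguments. -/
theorem result (k : Type u) [Field k] [IsAlgClosed k] (X : Scheme.{u}) [X.Over (Spec (CommRingCat.of k))]
    [IsProper (X ↘ Spec (CommRingCat.of k))] [IrreducibleSpace X] (s : ℕ) (hdim : topologicalKrullDim X = (s + 2 : ℕ))
    (H H' L L' : X.Modules) (hH : CohB1.IsAmple H) (hL : PicF.IsInvertible L)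
    (hHH' : Nonempty (CohB1.tensorMod H H' ≅ Coh.structureModule X)) (hLL' : Nonempty (CohB1.tensorMod L L' ≅ Coh.structureModule X))
    (horth : FGA.intNum k X (s + 2) (Matrix.vecCons L' (fun _ : Fin (s + 1) => H')) (Coh.structureModule X) = 0)
    (hsq : 0 ≤ FGA.intNum k X (s + 2) (Matrix.vecCons L' (Matrix.vecCons L' (fun _ : Fin s => H'))) (Coh.structureModule X)) :
    Pic13.IsNumEquivZero k X L := by
  haveI := CurveCohLib.isNoetherian_of_proper (k := k) (X := X)
  have hH' : PicF.IsInvertible H' := S2122.result H' H (CurveTensor.commIso H' H ≪≫ hHH'.some)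
  have hL' : PicF.IsInvertible L' := S2122.result L' L (CurveTensor.commIso L' L ≪≫ hLL'.some)
  have hO : Coh.IsCoh (Coh.structureModule X) := QCoh.isCoh_structureModule'
  have hd := AVDegPoly.dim_support_structure (X := X) hdim
  have hM1 : ∀ i, PicF.IsInvertible (Matrix.vecCons L' (fun _ : Fin (s + 1) => H') i) := fun i =>
    Fin.cases hL' (fun _ => hH') i
  have hM2 : ∀ i, PicF.IsInvertible (Matrix.vecCons L' (Matrix.vecCons L' (fun _ : Fin s => H')) i) := fun i =>
    Fin.cases hL' (fun i => Fin.cases hL' (fun _ => hH') i) i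
  rw [IntSym.intNum_eq k hdim.le _ hM1 hO, List.ofFn_succ] at horth
  rw [IntSym.intNum_eq k hdim.le _ hM2 hO, List.ofFn_succ, List.ofFn_succ] at hsq
  simp only [Matrix.cons_val_zero, Matrix.cons_val_succ, List.ofFn_const] at horth hsq
  have hl1 : IntSym.Inv [L] := List.forall_mem_singleton.2 hL
  have hlrep : ∀ n, IntSym.Inv (List.replicate n H') := fun n M hM => List.eq_of_mem_replicate hM ▸ hH'
  have h1 := HodgeIdx.sym_neg_head k hL hL' hLL' (hlrep (s + 1)) hO (by rw [List.length_replicate]; exact hd.le)
  have h2 := HodgeIdx.sym_neg_replicate k hH.1 hH' hHH' hO (s + 1) [L] hl1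
    (by rw [List.length_singleton]; exact hd.le.trans (le_of_eq (by ring_nf)))
  simp only [List.singleton_append] at h2
  rw [h1, h2] at horth
  have horth' : IntSym.sym k (L :: List.replicate (s + 1) H) (Coh.structureModule X) = 0 := by
    simpa using horth
  have h3 := HodgeIdx.sym_neg_head k hL hL' hLL' (List.forall_mem_cons.2 ⟨hL', hlrep s⟩) hO
    (by rw [List.length_cons, List.length_replicate]; exact hd.le)
  have h4 : IntSym.sym k (L :: L' :: List.replicate s H') (Coh.structureModule X) =
      - IntSym.sym k (L :: L :: List.replicate s H') (Coh.structureModule X) := by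
    rw [IntSym.sym_perm k (List.Perm.swap L' L _) (List.forall_mem_cons.2 ⟨hL, List.forall_mem_cons.2 ⟨hL', hlrep s⟩⟩)]
    exact HodgeIdx.sym_neg_head k hL hL' hLL' (List.forall_mem_cons.2 ⟨hL, hlrep s⟩) hO
      (by rw [List.length_cons, List.length_replicate]; exact hd.le)
  have h5 := HodgeIdx.sym_neg_replicate k hH.1 hH' hHH' hO s [L, L] (List.forall_mem_cons.2 ⟨hL, hl1⟩)
    (by simp only [List.length_cons, List.length_nil]; exact hd.le.trans (le_of_eq (by ring_nf)))
  simp only [List.cons_append, List.nil_append] at h5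
  rw [h3, h4, h5] at hsq
  refine HodgeIdx.isNumEquivZero_of_orth k hdim hH hL horth' ?_
  have hs : ((-1 : ℤ) ^ s) * (-1) ^ s = 1 := by rw [← mul_pow]; norm_num
  rw [pow_succ, pow_succ] at hsq
  calc (0 : ℤ) ≤ _ := hsq
    _ = (((-1 : ℤ) ^ s) * (-1) ^ s) * IntSym.sym k (L :: L :: List.replicate s H) (Coh.structureModule X) := by ring
    _ = _ := by rw [hs, one_mul]

end Groth.Agent.S4290
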