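import Groth.Statements.S4306
import Groth.Agent.HodgeIdx.FromEuler

set_option autoImplicit false
set_option backward.isDefEq.respectTransparency false
set_option backward.isDefEq.respectTransparency.types false
set_option maxHeartbeats 1000000
set_option linter.style.haveILetI false
universe u
open CategoryTheory CategoryTheory.Limits AlgebraicGeometry
open Pic13

namespace Groth.Agent.S4306
open Groth.Agent

/-- Let k be an algebraically closed field, X an irreducible proper k-scheme of dimension ≤ d carrying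
an ample invertible module H with inverse H', and L an invertible module with inverse L'. Condition
(v): χ(L^{⊗ m} ⊗ H^{⊗ n}) = χ(H^{⊗ n}) for all integers m, n — written with natural exponents on L,
L', H, H' to cover all signs, Euler characteristics in degrees ≤ d; condition (i): L is τ-equivalent
to zero. -/
theorem result (k : Type u) [Field k] [IsAlgClosed k] (X : Scheme.{u})
    [X.Over (Spec (CommRingCat.of k))] [IsProper (X ↘ Spec (CommRingCat.of k))] [IrreducibleSpace X]
    (d : ℕ) (hd : topologicalKrullDim X ≤ d) (H H' L L' : X.Modules) (hH : CohB1.IsAmple H) (hL : PicF.IsInvertible L)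
    (hHH' : Nonempty (CohB1.tensorMod H H' ≅ Coh.structureModule X)) (hLL' : Nonempty (CohB1.tensorMod L L' ≅ Coh.structureModule X))
    (hv : ∀ m n : ℕ,
      FGA.eulerCharLE k X (CohB1.tensorMod (CohB1.tensorPow L m) (CohB1.tensorPow H n)) d = FGA.eulerCharLE k X (CohB1.tensorPow H n) d ∧
      FGA.eulerCharLE k X (CohB1.tensorMod (CohB1.tensorPow L m) (CohB1.tensorPow H' n)) d = FGA.eulerCharLE k X (CohB1.tensorPow H' n) d ∧
      FGA.eulerCharLE k X (CohB1.tensorMod (CohB1.tensorPow L' m) (CohB1.tensorPow H n)) d = FGA.eulerCharLE k X (CohB1.tensorPow H n) d ∧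
      FGA.eulerCharLE k X (CohB1.tensorMod (CohB1.tensorPow L' m) (CohB1.tensorPow H' n)) d = FGA.eulerCharLE k X (CohB1.tensorPow H' n) d) :
    Pic13.IsTauEquivZero k X L := by
  haveI := CurveCohLib.isNoetherian_of_proper (k := k) (X := X)
  obtain ⟨e, he⟩ : ∃ e : ℕ, topologicalKrullDim X = (e : WithBot ℕ∞) := by
    have hne : topologicalKrullDim X ≠ ⊥ := by
      haveI : Nonempty (TopologicalSpace.IrreducibleCloseds X) :=
        ⟨⟨Set.univ, IrreducibleSpace.isIrreducible_univ X, isClosed_univ⟩⟩
      exact Order.krullDim_ne_bot_iff.2 ‹_›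
    obtain ⟨a, ha⟩ := WithBot.ne_bot_iff_exists.1 hne
    rw [← ha] at hd
    have ha' : a ≤ (d : ℕ∞) := WithBot.coe_le_coe.1 hd
    obtain ⟨e, rfl⟩ := ENat.ne_top_iff_exists.1 (ne_top_of_le_ne_top (ENat.natCast_ne_top d) ha')
    exact ⟨e, ha.symm⟩
  refine InvFam.isTauEquivZero_of_numTriv hH hL (HodgeIdx.isNumEquivZero_of_euler k he hH hL fun m n => ?_)
  have h := (hv m n).1
  have h1 : FGA.eulerCharLE k X (CohB1.tensorMod (CohB1.tensorPow L m) (CohB1.tensorPow H n)) d =
      Curv2.euler k X (CohB1.tensorMod (CohB1.tensorPow L m) (CohB1.tensorPow H n)) :=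
    IntSym.eulerCharLE_eq_euler k hd (KFlatLib.isQCoh_tensor
      (ProjUPX.isQCoh_of_isInvertible (InvX.isInvertible_tensorPow hL m))
      (ProjUPX.isQCoh_of_isInvertible (InvX.isInvertible_tensorPow hH.1 n)))
  have h2 := IntSym.eulerCharLE_eq_euler k hd
    (ProjUPX.isQCoh_of_isInvertible (InvX.isInvertible_tensorPow (n := n) hH.1))
  exact h1.symm.trans (h.trans h2)

end Groth.Agent.S4306
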