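import Groth.Statements.S4301
import Groth.Agent.TauLocus.Closed
import Groth.Agent.AmpleVan.Pull

set_option autoImplicit false
set_option backward.isDefEq.respectTransparency false
set_option backward.isDefEq.respectTransparency.types false
set_option maxHeartbeats 1000000
set_option linter.style.haveILetI false
universe u
open CategoryTheory CategoryTheory.Limits AlgebraicGeometry
open Pic13

namespace Groth.Agent.S4301
open Groth.Agent

/-- Let S be a Noetherian scheme, i : X ⟶ P^n_S a closed immersion with f : X ⟶ S the composite with the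
projection, f flat with integral geometric fibres, and L an invertible O_X-module. Then the set of
points s of S such that L is τ-equivalent to zero on the geometric fibre at s is closed (it is also
open, but only closedness is asserted here). (The published statement is that Pic^τ_{X/S} ⟶
Pic_{X/S} is representable by an open and closed immersion; this is the form reached in its proof.) -/
theorem result {X S : Scheme.{u}} [IsNoetherian S] (n : ℕ)
    (i : X ⟶ CohB1.ProjSpaceOver n S) [IsClosedImmersion i] [Flat (i ≫ CohB1.ProjSpaceOver.toBase n S)]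
    (hint : ∀ (Ω : Type u) [Field Ω] [IsAlgClosed Ω] (σ : Spec (CommRingCat.of Ω) ⟶ S), IsIntegral (pullback (i ≫ CohB1.ProjSpaceOver.toBase n S) σ))
    (L : X.Modules) (hL : PicF.IsInvertible L) :
    IsClosed {s : S | Pic13.IsTauTrivialAt (i ≫ CohB1.ProjSpaceOver.toBase n S) L s} := by
  let f := i ≫ CohB1.ProjSpaceOver.toBase n S
  haveI : IsProper (CohB1.ProjSpace.toSpec n (ULift.{u} ℤ)) := PnCoh.Chow.isProper_toSpec n _
  haveI : IsProper (CohB1.ProjSpaceOver.toBase n S) := MorphismProperty.pullback_snd _ _ inferInstance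
  haveI : IsProper f := inferInstanceAs (IsProper (i ≫ CohB1.ProjSpaceOver.toBase n S))
  haveI : Flat f := inferInstanceAs (Flat (i ≫ CohB1.ProjSpaceOver.toBase n S))
  let A := (Scheme.Modules.pullback i).obj (Twist.twistOver n S 1)
  have hAr : RelAmple.IsRelAmple f A :=
    AmpleX.isRelAmple_pullback_embedding _ i i.isEmbedding (ChowX.isRelAmple_twistOver n S)
  have hA : PicF.IsInvertible A := AmpleX.isInvertible_of_isRelAmple hAr
  obtain ⟨A', hA', eA⟩ := H23.PicInv.exists_inverse hA
  obtain ⟨L', hL', eL⟩ := H23.PicInv.exists_inverse hL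
  suffices heq : {s : S | Pic13.IsTauTrivialAt f L s} = {s : S | TauLocus.EulerCond f A A' L L' s} by
    rw [show {s : S | Pic13.IsTauTrivialAt (i ≫ CohB1.ProjSpaceOver.toBase n S) L s} = _ from heq]
    exact TauLocus.isClosed_eulerCond f hA hA' hL hL'
  have key : ∀ (s : S) (Ω : Type u) [Field Ω] [IsAlgClosed Ω] (σ : Spec (CommRingCat.of Ω) ⟶ S),
      Set.range σ.base = {s} →
      (@Pic13.IsTauEquivZero Ω _ (pullback f σ) ⟨pullback.snd f σ⟩
        ((Scheme.Modules.pullback (pullback.fst f σ)).obj L) ↔ TauLocus.EulerCond f A A' L L' s) := by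
    intro s Ω _ _ σ hσ
    let q := pullback.snd f σ
    let g := pullback.fst f σ
    haveI : IsProper q := MorphismProperty.pullback_snd _ _ inferInstance
    letI : (pullback f σ).Over (Spec (CommRingCat.of Ω)) := ⟨q⟩
    haveI : IsProper (pullback f σ ↘ Spec (CommRingCat.of Ω)) := ‹IsProper q›
    haveI : IsIntegral (pullback f σ) := hint Ω σ
    have hAσ : CohB1.IsAmple ((Scheme.Modules.pullback g).obj A) :=
      (AmpleX.isRelAmple_iff_isAmple q _).1 (AmpleX.isRelAmple_baseChange f σ hAr)
    have hLσ : PicF.IsInvertible ((Scheme.Modules.pullback g).obj L) := PicClLib.isInvertible_pullback g hL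
    have einv : ∀ {P P' : X.Modules}, Nonempty (CohB1.tensorMod P P' ≅ Coh.structureModule X) →
        Nonempty (CohB1.tensorMod ((Scheme.Modules.pullback g).obj P) ((Scheme.Modules.pullback g).obj P') ≅
          Coh.structureModule (pullback f σ)) := by
      intro P P' e
      obtain ⟨a⟩ := H23.PicMul.pull g P P'
      obtain ⟨b⟩ := PicClLib.nonempty_pullback_structureModule g
      exact ⟨a.symm ≪≫ (Scheme.Modules.pullback g).mapIso e.some ≪≫ b⟩
    let d := VarDim.deg q (genericPoint ↥(pullback f σ))
    have hd : topologicalKrullDim ↥(pullback f σ) ≤ (d : WithBot ℕ∞) :=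
      (VarDim.topologicalKrullDim_eq_deg_genericPoint q).le
    have conv : ∀ {P Q : X.Modules}, PicF.IsInvertible P → PicF.IsInvertible Q → ∀ m n : ℕ,
        FGA.eulerCharLE Ω (pullback f σ) (CohB1.tensorMod
          (CohB1.tensorPow ((Scheme.Modules.pullback g).obj P) m)
          (CohB1.tensorPow ((Scheme.Modules.pullback g).obj Q) n)) d = HilbFib.χ f (TauLocus.bitwist P Q m n) s ∧
        FGA.eulerCharLE Ω (pullback f σ) (CohB1.tensorPow ((Scheme.Modules.pullback g).obj Q) n) d =
          HilbFib.χ f (CohB1.tensorPow Q n) s := by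
      intro P Q hP hQ m n
      haveI := CurveCohLib.isNoetherian_of_proper (k := Ω) (X := pullback f σ)
      obtain ⟨a⟩ := TauLocus.bitwist_pullback g P Q m n
      obtain ⟨b⟩ := TauLocus.pow_pullback g Q n
      have hPQ := TauLocus.isInvertible_bitwist (PicClLib.isInvertible_pullback g hP)
        (PicClLib.isInvertible_pullback g hQ) m n
      exact ⟨((IntSym.eulerCharLE_eq_euler Ω hd (ProjUPX.isQCoh_of_isInvertible hPQ)).trans
          (CurveCohLib.euler_congr (k := Ω) a).symm).trans (TauLocus.euler_geometric_fibre f σ hσ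
            (ProjUPX.isQCoh_of_isInvertible (TauLocus.isInvertible_bitwist hP hQ m n))),
        ((IntSym.eulerCharLE_eq_euler Ω hd (ProjUPX.isQCoh_of_isInvertible
          (InvX.isInvertible_tensorPow (PicClLib.isInvertible_pullback g hQ) n))).trans
          (CurveCohLib.euler_congr (k := Ω) b).symm).trans (TauLocus.euler_geometric_fibre f σ hσ
            (ProjUPX.isQCoh_of_isInvertible (InvX.isInvertible_tensorPow hQ n)))⟩
    constructor
    · intro hτ m n
      obtain ⟨h1, h2, h3, h4⟩ := S4305.result Ω (pullback f σ) d hd _ _ _ _ hAσ hLσ (einv eA) (einv eL) hτ m n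
      obtain ⟨a1, b1⟩ := conv hL hA m n
      obtain ⟨a2, b2⟩ := conv hL hA' m n
      obtain ⟨a3, -⟩ := conv hL' hA m n
      obtain ⟨a4, -⟩ := conv hL' hA' m n
      exact ⟨a1.symm.trans (h1.trans b1), a2.symm.trans (h2.trans b2), a3.symm.trans (h3.trans b1),
        a4.symm.trans (h4.trans b2)⟩
    · intro hc
      refine S4306.result Ω (pullback f σ) d hd _ _ _ _ hAσ hLσ (einv eA) (einv eL) fun m n => ?_
      obtain ⟨h1, h2, h3, h4⟩ := hc m n
      obtain ⟨a1, b1⟩ := conv hL hA m n
      obtain ⟨a2, b2⟩ := conv hL hA' m n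
      obtain ⟨a3, -⟩ := conv hL' hA m n
      obtain ⟨a4, -⟩ := conv hL' hA' m n
      exact ⟨a1.trans (h1.trans b1.symm), a2.trans (h2.trans b2.symm), a3.trans (h3.trans b1.symm),
        a4.trans (h4.trans b2.symm)⟩
  ext s
  refine ⟨fun hs => ?_, fun hs Ω _ _ σ hσ => (key s Ω σ hσ).2 hs⟩
  let Ω := AlgebraicClosure (S.residueField s)
  let σ : Spec (CommRingCat.of Ω) ⟶ S :=
    Spec.map (CommRingCat.ofHom (algebraMap (S.residueField s) Ω)) ≫ S.fromSpecResidueField s
  have hσ : Set.range σ.base = {s} := by
    refine Set.eq_singleton_iff_unique_mem.2 ⟨⟨IsLocalRing.closedPoint Ω, ?_⟩, ?_⟩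
    · exact Scheme.fromSpecResidueField_apply s _
    · rintro _ ⟨y, rfl⟩
      exact Scheme.fromSpecResidueField_apply s _
  exact (key s Ω σ hσ).1 (hs Ω σ hσ)

end Groth.Agent.S4301
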