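import Groth.Statements.S4302
import Groth.Agent.TorRise7.Perfect
import Groth.Agent.S6201
import Groth.Agent.S6231
import Groth.Agent.ProjGen7.Amplitude
import Groth.Agent.ProjGen7.RelPn
import Groth.Agent.QCoh.Qcqs
import Groth.Agent.ShriekPn7.Main
import Groth.Agent.PnSmooth7.Main

set_option autoImplicit false
set_option backward.isDefEq.respectTransparency false
set_option backward.isDefEq.respectTransparency.types false
universe u
open CategoryTheory CategoryTheory.Limits AlgebraicGeometry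
attribute [local instance] HasDerivedCategory.standard
open KSix

namespace Groth.Agent.S4302

/-- Over an affine base Y, through the embedding criterion for perfect amplitude: let i : X ⟶ P^r_Y be a
closed immersion with Y affine, f : X ⟶ Y the composite with the projection, and E a bounded object
of D(O_X) such that Ri_*E has perfect amplitude in [a, b] on P^r_Y. Assuming the derived functors
exist, Rf_*E has perfect amplitude in [a, b + r] on Y (r bounds the cohomological dimension of f on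
quasi-coherent modules). -/
theorem result {X Y : Scheme.{u}} [IsAffine Y] (r : ℕ)
    (i : X ⟶ CohB1.ProjSpaceOver r Y) [IsClosedImmersion i]
    [DCoh.HasRpush i] [DCoh.HasRpush (i ≫ CohB1.ProjSpaceOver.toBase r Y)]
    (E : DCoh.D X) (a₀ b₀ : ℤ) [E.IsGE a₀] [E.IsLE b₀] (a b : ℤ)
    (hE : KSix.HasPerfectAmplitudeIn a b ((DCoh.Rpush i).obj E)) :
    KSix.HasPerfectAmplitudeIn a (b + r) ((DCoh.Rpush (i ≫ CohB1.ProjSpaceOver.toBase r Y)).obj E) := by
  let F : CochainComplex X.Modules ℤ := DerivedCategory.Q.objPreimage E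
  let eF : DCoh.toD X F ≅ E := DerivedCategory.Q.objObjPreimageIso E
  haveI : (DCoh.toD X F).IsGE a₀ := DerivedCategory.TStructure.t.isGE_of_iso eF.symm a₀
  haveI : (DCoh.toD X F).IsLE b₀ := DerivedCategory.TStructure.t.isLE_of_iso eF.symm b₀
  obtain ⟨η⟩ := Groth.Agent.ProjGen7.nonempty_rpush_closed i F
  let ePush : (DCoh.Rpush i).obj E ≅ DCoh.toD _ (((Scheme.Modules.pushforward i).mapHomologicalComplex (ComplexShape.up ℤ)).obj F) :=
    (DCoh.Rpush i).mapIso eF.symm ≪≫ η ≪≫ Groth.Agent.PerfGen7.pushDQ i F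
  have hP : KSix.HasPerfectAmplitudeIn a b (DCoh.toD _ (((Scheme.Modules.pushforward i).mapHomologicalComplex (ComplexShape.up ℤ)).obj F)) := fun x => by
    obtain ⟨V, hx, hV⟩ := hE x
    exact ⟨V, hx, fun G ⟨eG⟩ => hV G ⟨eG ≪≫ ePush.symm⟩⟩
  haveI : Smooth (CohB1.ProjSpaceOver.toBase r Y) := Groth.Agent.PnSmooth7.smooth_toBase r Y
  haveI : Flat (CohB1.ProjSpaceOver.toBase r Y) := inferInstance
  have hrel : DerSch.HasPerfAmplitudeRel ((i ≫ CohB1.ProjSpaceOver.toBase r Y) ≫ 𝟙 Y) a b F := by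
    rw [Category.comp_id]
    exact ⟨fun n => (Groth.Agent.S6201.result i _ n F).2
      (Groth.Agent.TorRise7.isPseudoCoherentD_of_perfectAmplitude hP n),
      Groth.Agent.TorRise7.torAmplitude_of_push i _ F (Groth.Agent.TorRise7.torAmplitude_id_of_perfectAmplitude hP)⟩
  haveI := Groth.Agent.KFlatLib.hasRpush_scheme (CohB1.ProjSpaceOver.toBase r Y)
  obtain ⟨c⟩ := Groth.Agent.KFlatLib.nonempty_rpush_comp i (CohB1.ProjSpaceOver.toBase r Y)
  have hN : ∀ M : X.Modules, Coh.IsQCoh M → ∀ j : ℤ, (r : ℤ) < j →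
      IsZero (DCoh.HD ((DCoh.Rpush (i ≫ CohB1.ProjSpaceOver.toBase r Y)).obj (DCoh.inD X M)) j) := by
    intro M hM j hj
    obtain ⟨ηM⟩ := Groth.Agent.ProjGen7.nonempty_rpush_closed' i (DCoh.inD X M)
    have hHD : ∀ k : ℤ, DCoh.HD ((DCoh.Rpush i).obj (DCoh.inD X M)) k ≅
        (Scheme.Modules.pushforward i).obj (DCoh.HD (DCoh.inD X M) k) := fun k =>
      (DerivedCategory.homologyFunctor _ k).mapIso ηM ≪≫ Groth.Agent.PerfGen7.pushDHD i _ k
    haveI : (DCoh.inD X M).IsLE 0 := inferInstanceAs (((DerivedCategory.singleFunctor X.Modules 0).obj M).IsLE 0)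
    haveI : ((DCoh.Rpush i).obj (DCoh.inD X M)).IsLE 0 := by
      rw [DerivedCategory.isLE_iff]
      exact fun k hk => IsZero.of_iso (Functor.map_isZero _ (DerivedCategory.isZero_of_isLE _ 0 k hk)) (hHD k)
    have := Groth.Agent.ProjGen7.isLE_rpush_toBase Y (n := r) (E := (DCoh.Rpush i).obj (DCoh.inD X M))
      (fun k => Groth.Agent.KFlatLib.isQCoh_of_iso (hHD k).symm
        (Groth.Agent.QCoh.isQCoh_pushforward i (Groth.Agent.ShriekPn7.isQCohD_inD hM k))) 0
    haveI : ((DCoh.Rpush i ⋙ DCoh.Rpush (CohB1.ProjSpaceOver.toBase r Y)).obj (DCoh.inD X M)).IsLE ((0 : ℤ) + r) := this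
    haveI : ((DCoh.Rpush (i ≫ CohB1.ProjSpaceOver.toBase r Y)).obj (DCoh.inD X M)).IsLE ((0 : ℤ) + r) :=
      DerivedCategory.TStructure.t.isLE_of_iso (c.app (DCoh.inD X M)) ((0 : ℤ) + r)
    exact DerivedCategory.isZero_of_isLE _ ((0 : ℤ) + r) j (by omega)
  let F' : CochainComplex Y.Modules ℤ := DerivedCategory.Q.objPreimage ((DCoh.Rpush (i ≫ CohB1.ProjSpaceOver.toBase r Y)).obj E)
  let eF' : DCoh.toD Y F' ≅ _ := DerivedCategory.Q.objObjPreimageIso _
  have hF' := Groth.Agent.S6231.result (𝟙 Y) r i r hN F a₀ b₀ a b hrel F'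
    ⟨eF' ≪≫ (DCoh.Rpush _).mapIso eF.symm⟩
  have h := Groth.Agent.TorRise7.perfectAmplitude_of_pc
    ((Groth.Agent.PerfGen7.rel_iff_abs (𝟙 Y) (Groth.Agent.PerfGen7.isNPseudoCoherent_of_flat _) _).1 (hF'.1 _) |> (Groth.Agent.KFlatLib.isPseudoCoherentD_iff _ _).2) hF'.2
  intro x
  obtain ⟨V, hx, hV⟩ := h x
  exact ⟨V, hx, fun G ⟨eG⟩ => hV G ⟨eG ≪≫ eF'.symm⟩⟩

end Groth.Agent.S4302
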