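import Groth.Statements.S4303
import Groth.Agent.InvFam.AlgEq
import Groth.Agent.IntSym.Num
import Groth.Agent.VolLib.Kodaira
import Groth.Agent.EulerConst.Fibre
-- import your own Groth.Agent.* helpers here

set_option autoImplicit false
set_option linter.style.haveILetI false
set_option backward.isDefEq.respectTransparency false
set_option backward.isDefEq.respectTransparency.types false
set_option maxHeartbeats 800000
universe u
open CategoryTheory CategoryTheory.Limits AlgebraicGeometry
open Pic13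
open Groth.Agent.H23.PicMul
open scoped Groth.Agent.H23.PicMul

namespace Groth.Agent.S4303

theorem sym_algTriv (k : Type u) [Field k] {X : Scheme.{u}} [X.Over (Spec (CommRingCat.of k))]
    [IsProper (X ↘ Spec (CommRingCat.of k))] {d : ℕ} (hd : topologicalKrullDim X ≤ (d : WithBot ℕ∞)) {D F : X.Modules}
    (halg : Pic13.IsAlgEquivZero k X D) (hD : PicF.IsInvertible D) (hF : Coh.IsCoh F) :
    IntSym.sym k [D] F = 0 := by
  haveI := CurveCohLib.isNoetherian_of_proper (k := k) (X := X)
  have h := EulerConst.eulerCharLE_tensor_eq k X d hd halg hF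
  have e1 : FGA.eulerCharLE k X (CohB1.tensorMod F D) d = Curv2.euler k X (CohB1.tensorMod F D) :=
    IntSym.eulerCharLE_eq_euler k hd (KFlatLib.isQCoh_tensor hF.1 (ProjUPX.isQCoh_of_isInvertible hD))
  have e2 : FGA.eulerCharLE k X F d = Curv2.euler k X F := IntSym.eulerCharLE_eq_euler k hd hF.1
  rw [IntSym.sym_singleton]
  exact sub_eq_zero.2 (e1.symm.trans (h.trans e2))

/-- (i) implies (iii), over S = Spec k with k algebraically closed: let X be a proper integral k-scheme
of dimension r = s + 2 ≥ 2 carrying an ample invertible module H with inverse H', and P a family of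
invertible O_X-modules. Condition (iii): as L runs through P (with inverse L'), the degree
(c₁(L)·c₁(H)^{r-1}) stays bounded and (c₁(L)²·c₁(H)^{r-2}) stays bounded below; condition (i): P is
bounded. Intersection numbers are those of FGA.intNum, taking the inverse modules as arguments. -/
theorem result (k : Type u) [Field k] [IsAlgClosed k] (X : Scheme.{u})
    [X.Over (Spec (CommRingCat.of k))] [IsProper (X ↘ Spec (CommRingCat.of k))] [IsIntegral X] (s : ℕ)
    (hdim : topologicalKrullDim X = (s + 2 : ℕ)) (H H' : X.Modules) (hH : CohB1.IsAmple H)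
    (hHH' : Nonempty (CohB1.tensorMod H H' ≅ Coh.structureModule X))
    (P : X.Modules → Prop) (hP : ∀ L, P L → PicF.IsInvertible L)
    (hb : Pic13.IsBounded k X P) :
    ∃ B : ℤ, ∀ L L' : X.Modules, P L → Nonempty (CohB1.tensorMod L L' ≅ Coh.structureModule X) →
      |FGA.intNum k X (s + 2) (Matrix.vecCons L' (fun _ : Fin (s + 1) => H')) (Coh.structureModule X)| ≤ B ∧
      -B ≤ FGA.intNum k X (s + 2) (Matrix.vecCons L' (Matrix.vecCons L' (fun _ : Fin s => H'))) (Coh.structureModule X) := by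
  haveI := CurveCohLib.isNoetherian_of_proper (k := k) (X := X)
  haveI : X.IsSeparated := AmpleVan.isSeparated_of_proper (A := k)
  classical
  obtain ⟨u0⟩ := hHH'
  have hH' : PicF.IsInvertible H' := VolLib.isInvertible_of_inverse hH.1 (CurveTensor.commIso H' H ≪≫ u0)
  obtain ⟨N, C, hC⟩ := InvFam.exists_pieces (k := k) hb
  let O := Coh.structureModule X
  let f₁ : X.Modules → ℤ := fun L' => FGA.intNum k X (s + 2) (Matrix.vecCons L' (fun _ : Fin (s + 1) => H')) O
  let f₂ : X.Modules → ℤ := fun L' => FGA.intNum k X (s + 2) (Matrix.vecCons L' (Matrix.vecCons L' (fun _ : Fin s => H'))) O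
  let Q : Fin N → X.Modules → Prop := fun c L' => ∃ L, P L ∧ (C c).Mem L ∧
    Nonempty (CohB1.tensorMod L L' ≅ Coh.structureModule X)
  let R : Fin N → X.Modules := fun c => if h : ∃ L', Q c L' then h.choose else O
  refine ⟨∑ c, (|f₁ (R c)| + |f₂ (R c)|), fun L L' hL hLL' => ?_⟩
  obtain ⟨c, hc⟩ := hC L hL (hP L hL)
  have hex : ∃ L', Q c L' := ⟨L', L, hL, hc, hLL'⟩
  have hR : Q c (R c) := by
    show Q c (dite _ _ _)
    rw [dif_pos hex]
    exact hex.choose_spec
  obtain ⟨L₀, hL₀, hc₀, ⟨u⟩⟩ := hR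
  obtain ⟨v⟩ := hLL'
  have hR' : PicF.IsInvertible (R c) := VolLib.isInvertible_of_inverse (hP L₀ hL₀) (CurveTensor.commIso _ L₀ ≪≫ u)
  have hL' : PicF.IsInvertible L' := VolLib.isInvertible_of_inverse (hP L hL) (CurveTensor.commIso _ L ≪≫ v)
  have halg := InvFam.Piece.isAlgEquivZero (C c) hc hc₀ hR' ⟨u⟩
  have hd : topologicalKrullDim X ≤ ((s + 2 : ℕ) : WithBot ℕ∞) := hdim.le
  have hD : PicF.IsInvertible (CohB1.tensorMod L (R c)) := InvX.isInvertible_tensorMod (hP L hL) hR'
  have hnum : IntSym.NumEq k L' (R c) := fun Z i _ _ hZ => by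
    have hF : Coh.IsCoh ((Coh.push i).obj (Coh.structureModule Z)) := QCoh.isCoh_push_structure i
    have hd1 := IntSym.dim_push_le i (QCoh.isQCoh_structureModule (X := Z)) (d := ((1 : ℕ) : WithBot ℕ∞))
      (by rw [Nat.cast_one]; exact hZ.le)
    have h0 := sym_algTriv k hd halg hD hF
    obtain ⟨w⟩ : Nonempty (CohB1.tensorMod (CohB1.tensorMod L (R c)) L' ≅ R c) := cl_eq_iff.1 (by
      have hv : PicF.cl L * PicF.cl L' = 1 := by rw [← cl_tensor, H23.PicMul.one_def]; exact cl_eq_iff.2 ⟨v⟩
      rw [cl_tensor, cl_tensor, mul_comm (PicF.cl L), mul_assoc, hv, mul_one])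
    rw [← IntSym.sym_congr_head k w (l := []) (List.forall_mem_nil _) _,
      IntSym.sym_tensor_head k hD hL' (l := []) (List.forall_mem_nil _) hF hd1, h0, zero_add]
  have hrefl : IntSym.NumEq k H' H' := fun _ _ _ _ _ => rfl
  have hdO : topologicalKrullDim ↥(CohB1.support (Coh.structureModule X)) ≤ ((s + 2 : ℕ) : WithBot ℕ∞) :=
    (topologicalKrullDim_subspace_le X _).trans hd
  have hO : Coh.IsCoh (Coh.structureModule X) := QCoh.isCoh_structureModule' (X := X)
  have key : ∀ M M' : Fin (s + 2) → X.Modules,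
      (∀ i, PicF.IsInvertible (M i) ∧ PicF.IsInvertible (M' i) ∧ IntSym.NumEq k (M i) (M' i)) →
      FGA.intNum k X (s + 2) M O = FGA.intNum k X (s + 2) M' O := fun M M' h => by
    rw [IntSym.intNum_eq k hd M (fun i => (h i).1) hO, IntSym.intNum_eq k hd M' (fun i => (h i).2.1) hO,
      IntSym.sym_ofFn_eq_of_numEq k (fun i => (h i).1) (fun i => (h i).2.1) (fun i => (h i).2.2) hO hdO]
  have e₁ : f₁ L' = f₁ (R c) := key _ _ fun i => by
    cases i using Fin.cases with
    | zero => exact ⟨hL', hR', hnum⟩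
    | succ i => exact ⟨hH', hH', hrefl⟩
  have e₂ : f₂ L' = f₂ (R c) := key _ _ fun i => by
    cases i using Fin.cases with
    | zero => exact ⟨hL', hR', hnum⟩
    | succ i =>
      cases i using Fin.cases with
      | zero => exact ⟨hL', hR', hnum⟩
      | succ i => exact ⟨hH', hH', hrefl⟩
  have hle : |f₁ (R c)| + |f₂ (R c)| ≤ ∑ c, (|f₁ (R c)| + |f₂ (R c)|) :=
    Finset.single_le_sum (f := fun c => |f₁ (R c)| + |f₂ (R c)|) (fun _ _ => by positivity) (Finset.mem_univ c)
  show |f₁ L'| ≤ _ ∧ _ ≤ f₂ L'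
  rw [e₁, e₂]
  have h₁ := abs_nonneg (f₁ (R c))
  have h₂ := neg_abs_le (f₂ (R c))
  have h₃ := abs_nonneg (f₂ (R c))
  constructor <;> linarith

end Groth.Agent.S4303
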