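import Groth.Statements.S4305
import Groth.Agent.EulerConst.Tau

set_option autoImplicit false
set_option backward.isDefEq.respectTransparency false
set_option backward.isDefEq.respectTransparency.types false
set_option maxHeartbeats 1000000
set_option linter.style.haveILetI false
universe u
open CategoryTheory CategoryTheory.Limits AlgebraicGeometry
open Pic13

namespace Groth.Agent.S4305

open Groth.Agent Groth.Agent.H23 Groth.Agent.H23.PicMul
open scoped Groth.Agent.H23.PicMul

/-- Let k be an algebraically closed field, X an irreducible proper k-scheme of dimension ≤ d carrying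
an ample invertible module H with inverse H', and L an invertible module with inverse L'. Condition
(v): χ(L^{⊗ m} ⊗ H^{⊗ n}) = χ(H^{⊗ n}) for all integers m, n — written with natural exponents on L,
L', H, H' to cover all signs, Euler characteristics in degrees ≤ d; condition (i): L is τ-equivalent
to zero. -/
theorem result (k : Type u) [Field k] [IsAlgClosed k] (X : Scheme.{u})
    [X.Over (Spec (CommRingCat.of k))] [IsProper (X ↘ Spec (CommRingCat.of k))] [IrreducibleSpace X]
    (d : ℕ) (hd : topologicalKrullDim X ≤ d) (H H' L L' : X.Modules) (hH : CohB1.IsAmple H) (hL : PicF.IsInvertible L)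
    (hHH' : Nonempty (CohB1.tensorMod H H' ≅ Coh.structureModule X)) (hLL' : Nonempty (CohB1.tensorMod L L' ≅ Coh.structureModule X))
    (hτ : Pic13.IsTauEquivZero k X L) :
    ∀ m n : ℕ,
      FGA.eulerCharLE k X (CohB1.tensorMod (CohB1.tensorPow L m) (CohB1.tensorPow H n)) d = FGA.eulerCharLE k X (CohB1.tensorPow H n) d ∧
      FGA.eulerCharLE k X (CohB1.tensorMod (CohB1.tensorPow L m) (CohB1.tensorPow H' n)) d = FGA.eulerCharLE k X (CohB1.tensorPow H' n) d ∧
      FGA.eulerCharLE k X (CohB1.tensorMod (CohB1.tensorPow L' m) (CohB1.tensorPow H n)) d = FGA.eulerCharLE k X (CohB1.tensorPow H n) d ∧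
      FGA.eulerCharLE k X (CohB1.tensorMod (CohB1.tensorPow L' m) (CohB1.tensorPow H' n)) d = FGA.eulerCharLE k X (CohB1.tensorPow H' n) d := by
  intro m n
  haveI : IsNoetherian X := CurveCohLib.isNoetherian_of_proper (k := k) (X := X)
  have uH : PicF.cl H * PicF.cl H' = 1 := cl_eq_iff.2 hHH'
  have uL : PicF.cl L * PicF.cl L' = 1 := cl_eq_iff.2 hLL'
  have inv : ∀ {A A' : X.Modules}, PicF.IsInvertible A → PicF.cl A * PicF.cl A' = 1 → PicF.IsInvertible A' := by
    intro A A' hA h
    obtain ⟨D, hD, eD⟩ := PicInv.exists_inverse hA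
    exact isInvertible_of_iso (cl_eq_iff.1 ((isUnit_cl hA).mul_left_cancel ((cl_eq_iff.2 eD).trans h.symm))).some hD
  have hH' := inv hH.1 uH
  have hL' := inv hL uL
  have key : ∀ {G : X.Modules}, PicF.IsInvertible G →
      FGA.eulerCharLE k X (CohB1.tensorMod (CohB1.tensorPow L m) G) d = FGA.eulerCharLE k X G d ∧
      FGA.eulerCharLE k X (CohB1.tensorMod (CohB1.tensorPow L' m) G) d = FGA.eulerCharLE k X G d := by
    intro G hG
    constructor
    · refine (EulerConst.eulerCharLE_congr k ?_ d).trans
        (EulerConst.eulerCharLE_tensor_pow_of_tau k d hd hL hτ (CurveDeg.isCoh_of_isInvertible hG) m)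
      rw [cl_tensor, cl_tensor, mul_comm]
    · have h := EulerConst.eulerCharLE_tensor_pow_of_tau k d hd hL hτ
        (CurveDeg.isCoh_of_isInvertible (isInvertible_tensor (InvX.isInvertible_tensorPow (n := m) hL') hG)) m
      rw [← h]
      refine EulerConst.eulerCharLE_congr k ?_ d
      rw [cl_tensor, cl_tensor, cl_tensorPow, cl_tensorPow, mul_right_comm, ← mul_pow, mul_comm (PicF.cl L'), uL, one_pow, one_mul]
  obtain ⟨a1, a3⟩ := key (InvX.isInvertible_tensorPow (n := n) hH.1)
  obtain ⟨a2, a4⟩ := key (InvX.isInvertible_tensorPow (n := n) hH')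
  exact ⟨a1, a2, a3, a4⟩

end Groth.Agent.S4305
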