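import Groth.Statements.S4334
import Groth.Agent.CdGm.CurveBr
import Groth.Agent.SmoothCrit.Sch

set_option autoImplicit false
universe u
open CategoryTheory CategoryTheory.Limits AlgebraicGeometry Opposite
open EtSix

namespace Groth.Agent.S4334

/-- The degree-two step in canonical form: let X be a smooth projective curve over an algebraically
closed field k (here: X integral, with a proper morphism X -> Spec k that is smooth of relative
dimension 1), and n an integer that is nonzero in k, so that the n-th power map on G_m is an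
epimorphism of sheaves on the small etale site (taken as the hypothesis h). Then the boundary map
H^1(X, G_m) -> H^2(X, μ_n) of the Kummer sequence is surjective, and its kernel is the image of
multiplication by n on H^1(X, G_m). -/
theorem result (k : Type u) [Field k] [IsAlgClosed k] {X : Scheme.{u}} [IsIntegral X]
    (f : X ⟶ Spec (CommRingCat.of k)) [IsProper f] [SmoothOfRelativeDimension 1 f]
    (n : ℕ) (hn : (n : k) ≠ 0) (h : Epi (EtCoh.powMap X n)) :
    Function.Surjective (EtSix.kummerBoundary h 1) ∧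
      (EtSix.kummerBoundary h 1).ker = (n • AddMonoidHom.id (EtCoh.H X (EtCoh.Gm X) 1)).range := by
  haveI : Nonempty X := inferInstance
  haveI : SmoothOfRelativeDimension 1 (𝟙 X ≫ f) := by rw [Category.id_comp]; infer_instance
  haveI : Smooth f := SmoothOfRelativeDimension.smooth 1 f
  have hdim : topologicalKrullDim X ≤ 1 := by exact_mod_cast (SmoothCrit.eq_dim f (𝟙 X) 1).le
  haveI := Groth.Agent.CdGm.subsingleton_H2_Gm_curve f hdim
  have hK := EtSix.kummerShortExact h
  have hpow : ∀ y : EtCoh.H X (EtCoh.Gm X) 1,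
      y.comp (Abelian.Ext.mk₀ (EtCoh.powMap X n)) (add_zero 1) = n • y := fun y => by
    let φ : (EtCoh.Gm X ⟶ EtCoh.Gm X) →+ EtCoh.H X (EtCoh.Gm X) 1 := AddMonoidHom.mk'
      (fun q => y.comp (Abelian.Ext.mk₀ q) (add_zero 1)) fun q r => by
        rw [Abelian.Ext.mk₀_add, Abelian.Ext.comp_add]
    refine (map_nsmul φ n (𝟙 _)).trans ?_
    exact congrArg (n • ·) (Abelian.Ext.comp_mk₀_id y)
  refine ⟨fun x => ?_, ?_⟩
  · obtain ⟨y, hy⟩ := Abelian.Ext.covariant_sequence_exact₁ _ hK x
      (Subsingleton.elim (α := EtCoh.H X (EtCoh.Gm X) 2) _ _) (rfl : 1 + 1 = 2)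
    exact ⟨y, hy⟩
  · ext x
    refine ⟨fun hx => ?_, ?_⟩
    · obtain ⟨y, hy⟩ := Abelian.Ext.covariant_sequence_exact₃ _ hK x (rfl : 1 + 1 = 2) hx
      exact ⟨y, (hpow y).symm.trans hy⟩
    · rintro ⟨y, rfl⟩
      show Abelian.Ext.comp (n • y) hK.extClass (rfl : 1 + 1 = 2) = 0
      rw [← hpow]
      refine (Abelian.Ext.comp_assoc_of_second_deg_zero y (Abelian.Ext.mk₀ (EtCoh.powMap X n)) hK.extClass rfl).trans ?_
      exact (congrArg (fun q => Abelian.Ext.comp y q _) hK.comp_extClass).trans (Abelian.Ext.comp_zero ..)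

end Groth.Agent.S4334
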