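import Groth.Statements.S4377
import Groth.Agent.QCoh.SerreVan

set_option autoImplicit false
universe u
open CategoryTheory CategoryTheory.Limits AlgebraicGeometry
open EGA2

namespace Groth.Agent.S4377

/-- (c') ⇒ (a): let f : X → Y be a separated quasi-compact morphism such that R¹f_*(J) = 0 (first higher
direct image of the underlying abelian sheaf) for every quasi-coherent submodule J of O_X. Then f is
an affine morphism. -/
theorem result {X Y : Scheme.{u}} (f : X ⟶ Y) [IsSeparated f] [QuasiCompact f]
    (h : ∀ (J : X.Modules) (i : J ⟶ Coh.structureModule X), Mono i → Coh.IsQCoh J →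
      Limits.IsZero ((Coh.RpushAb f 1).obj (Coh.toAb J))) :
    IsAffineHom f := by
  refine ⟨fun V hV => ?_⟩
  have hc : IsCompact ((f ⁻¹ᵁ V : X.Opens) : Set X) := f.isCompact_preimage hV.isCompact
  have : CompactSpace (f ⁻¹ᵁ V).toScheme := isCompact_iff_compactSpace.1 hc
  haveI : IsAffine V.toScheme := hV
  haveI : IsSeparated (f ∣_ V) := MorphismProperty.of_isPullback (isPullback_morphismRestrict f V).flip ‹_›
  haveI : (f ⁻¹ᵁ V).toScheme.IsSeparated := ⟨by
    rw [← terminal.comp_from (f ∣_ V)]
    infer_instance⟩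
  refine QCoh.isAffine_of_HU_one_vanIdeal (f ⁻¹ᵁ V).ι fun I ι hι hI => ?_
  rw [Scheme.Opens.opensRange_ι]
  exact QCoh.subsingleton_HU_preimage_one f hI (h I ι hι hI) hV

end Groth.Agent.S4377
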