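import Groth.Statements.S4386
import Groth.Agent.VAmple.Embed
import Groth.Agent.VAmple.SectionsTensor

set_option autoImplicit false
universe u
open CategoryTheory CategoryTheory.Limits AlgebraicGeometry
open EGA2

namespace Groth.Agent.S4386

/-- Let Y be an affine scheme, q : X → Y a separated morphism of finite type, L an ample O_X-module and
L' an invertible O_X-module. Then there is n₀ such that for every n ≥ n₀ the module L^{⊗n} ⊗ L' is
very ample relative to q: it is isomorphic to the inverse image of O(1) along some immersion of X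
into a projective space P^m_Y over Y. (The published statement means very ample through the
projective bundle P(E) of a quasi-coherent module E on Y; for a morphism of finite type to an affine
base this is equivalent to the form with an immersion into P^m_Y used in this row.) -/
theorem result {X Y : Scheme.{u}} [IsAffine Y] (q : X ⟶ Y) [IsSeparated q]
    [QuasiCompact q] [LocallyOfFiniteType q] (L L' : X.Modules) (hL : CohB1.IsAmple L) (hL' : PicF.IsInvertible L') :
    ∃ n₀ : ℕ, ∀ n : ℕ, n₀ ≤ n → RelAmple.IsRelVeryAmplePn q (CohB1.tensorMod (CohB1.tensorPow L n) L') := by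
  haveI : X.IsSeparated := ⟨by
    rw [show terminal.from X = q ≫ terminal.from Y from terminal.hom_ext _ _]
    infer_instance⟩
  haveI : CompactSpace X := QuasiCompact.compactSpace_of_compactSpace q
  obtain ⟨n₀, h⟩ := VAmple.exists_sections_tensor (q ≫ Y.isoSpec.hom) hL hL'
  refine ⟨n₀, fun n hn => ?_⟩
  obtain ⟨κ, hκ, s, hs⟩ := h n hn
  let e : ULift.{u} (Fin (Fintype.card κ + 1)) ≃ Option κ :=
    Equiv.ulift.trans ((finCongr Fintype.card_option.symm).trans (Fintype.equivFin (Option κ)).symm)
  refine VAmple.exists_immersion q (InvX.isInvertible_tensorMod (InvX.isInvertible_tensorPow hL.1 n) hL')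
    (Fintype.card κ) (fun i => (e i).elim 0 s) fun x => ?_
  obtain ⟨l, V, hxV, hVeq, hV, hcl⟩ := hs x
  refine ⟨e.symm (some l), V, hxV, ?_, hV, ?_⟩
  · simp only [Equiv.apply_symm_apply]
    exact hVeq
  · rw [eq_top_iff, ← hcl, Subring.closure_le]
    rintro v (⟨c, rfl⟩ | ⟨i, hi⟩)
    · refine Subring.subset_closure (Or.inl ⟨Y.isoSpec.hom.appTop ((Scheme.ΓSpecIso (CommRingCat.of Γ(Y, ⊤))).inv c), ?_⟩)
      rfl
    · refine Subring.subset_closure (Or.inr ⟨e.symm (some i), ?_⟩)
      simp only [Equiv.apply_symm_apply]
      exact hi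

end Groth.Agent.S4386
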